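import Groth.Statements.S1692
import Mathlib
-- import your own Groth.Agent.* helpers here

set_option autoImplicit false
universe u
open CategoryTheory CategoryTheory.Limits AlgebraicGeometry TopologicalSpace
open SDiv

namespace Groth.Agent.S1692

/-- Let X be a locally Noetherian integral scheme and f a nonzero rational function. Then the closures
of the codimension-one points at which f has nonzero order of vanishing form a locally finite family
of closed subsets of X. -/
theorem result (X : Scheme.{u}) [IsIntegral X] [IsLocallyNoetherian X] (f : ↑X.functionField) (hf : f ≠ 0) :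
    LocallyFinite (fun ξ : {ξ : ↥X // Order.coheight ξ = 1 ∧ Scheme.ord f ξ ≠ 0} => closure ({ξ.1} : Set ↥X)) := by
  classical
  obtain ⟨U₀, hU₀, f', hne₀, hf', hunit⟩ := exists_isUnit_germ_eq X f hf
  -- ord f vanishes on U₀
  have hord : ∀ ξ : X, ξ ∈ U₀ → Scheme.ord f ξ = 0 := by
    intro ξ hξ
    rw [← hf']
    exact Scheme.ord_of_isUnit hunit hξ
  have hηU₀ : genericPoint X ∈ U₀ :=
    ((genericPoint_spec X).mem_open_set_iff U₀.isOpen).mpr (by
      obtain ⟨z⟩ := hne₀
      exact ⟨z.1, trivial, z.2⟩)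
  intro x
  obtain ⟨_, ⟨U, hU, rfl⟩, hxU, -⟩ :=
    X.isBasis_affineOpens.exists_subset_of_mem_open (Set.mem_univ x) isOpen_univ
  refine ⟨U, U.2.mem_nhds hxU, ?_⟩
  haveI : IsNoetherianRing Γ(X, U) := IsLocallyNoetherian.component_noetherian ⟨U, hU⟩
  haveI : NoetherianSpace U := noetherianSpace_of_isAffineOpen U hU
  have hqs : QuasiSober U := U.2.isOpenEmbedding_subtypeVal.quasiSober
  -- the closed subset F = complement of U₀, restricted to U
  let W : Set U := Subtype.val ⁻¹' ((U₀ : Set X)ᶜ)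
  have hW : IsClosed W := U₀.2.isClosed_compl.preimage continuous_subtype_val
  obtain ⟨S, hSfin, hScl, hSirr, hSW⟩ := NoetherianSpace.exists_finite_set_isClosed_irreducible hW
  have hgen : ∀ t ∈ S, ∃ ζ : U, IsGenericPoint ζ t := fun t ht =>
    hqs.sober (hSirr t ht) (hScl t ht)
  let Z : Set X := {z | ∃ t, ∃ ht : t ∈ S, z = ((hgen t ht).choose : X)}
  have hZfin : Z.Finite := by
    have : Z ⊆ (fun t : S => (((hgen t.1 t.2).choose : U) : X)) '' Set.univ := by
      rintro z ⟨t, ht, rfl⟩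
      exact ⟨⟨t, ht⟩, trivial, rfl⟩
    haveI : Finite S := hSfin.to_subtype
    exact (Set.toFinite _).subset ‹Z ⊆ _›
  refine (hZfin.preimage (Subtype.val_injective.injOn)).subset ?_
  rintro ⟨ξ, hco, hordξ⟩ ⟨y, hy1, hy2⟩
  show ξ ∈ Z
  -- ξ ∈ U since U is open and meets the closure of ξ
  have hξU : ξ ∈ U := by
    have hsp : ξ ⤳ y := specializes_iff_mem_closure.mpr hy1
    exact hsp.mem_open U.2 hy2
  have hξF : ξ ∉ U₀ := fun h => hordξ (hord ξ h)
  have hξW : (⟨ξ, hξU⟩ : U) ∈ W := hξF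
  rw [hSW] at hξW
  obtain ⟨t, ht, hξt⟩ := hξW
  have hζ := (hgen t ht).choose_spec
  set ζ := (hgen t ht).choose with hζdef
  refine ⟨t, ht, ?_⟩
  by_contra hne
  -- ζ ⤳ ξ in U hence in X
  have hsp1 : ζ ⤳ (⟨ξ, hξU⟩ : U) := hζ.specializes hξt
  have hsp1' : (ζ : X) ⤳ ξ := hsp1.map continuous_subtype_val
  -- ζ ∉ U₀, hence ζ ≠ generic point
  have hζW : ζ ∈ W := by
    rw [hSW]
    exact ⟨t, ht, hζ.mem⟩
  have hζne : (ζ : X) ≠ genericPoint X := by
    intro h
    exact hζW (h ▸ hηU₀)
  have hsp2 : genericPoint X ⤳ (ζ : X) := (genericPoint_spec X).specializes trivial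
  have hlt1 : ξ < (ζ : X) := by
    refine lt_of_le_not_ge (Scheme.le_iff_specializes.mpr hsp1') ?_
    intro hge
    have hsp' : ξ ⤳ (ζ : X) := Scheme.le_iff_specializes.mp hge
    exact hne ((hsp'.antisymm hsp1').eq)
  have hlt2 : (ζ : X) < genericPoint X :=
    lt_of_le_not_ge (Scheme.le_iff_specializes.mpr hsp2) (fun hge =>
      hζne (((Scheme.le_iff_specializes.mp hge).antisymm hsp2).eq))
  have h1 := Order.coheight_add_one_le hlt1
  have h2 := Order.coheight_add_one_le hlt2
  rw [hco] at h1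
  have h3 : (1 : ℕ∞) ≤ Order.coheight (ζ : X) := le_trans le_add_self h2
  have h4 : (2 : ℕ∞) ≤ 1 := by
    calc (2 : ℕ∞) = 1 + 1 := by norm_num
      _ ≤ Order.coheight (ζ : X) + 1 := by gcongr
      _ ≤ 1 := h1
  exact absurd h4 (by decide)

end Groth.Agent.S1692
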