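import Groth.Statements.S16920
import Mathlib
import Groth.Agent.Lib.Helper28.UncountableNss

set_option autoImplicit false
open CategoryTheory AlgebraicGeometry
universe u
open Variety

namespace Groth.Agent.S16920

/-- Let k be an uncountable algebraically closed field, V an irreducible k-scheme of finite type and Z₀,
Z₁, … closed subsets of V, each different from V. Then the set of closed points of V lying in no Zₙ
is dense in V. (The published statement: a nonempty c-open subset of an irreducible quasi-projective
variety is Zariski dense, a variety being read through its closed points; nonemptiness of the c-open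
subset amounts to every Zₙ being a proper subset, while quasi-projectivity and the standing
characteristic-zero assumption play no role and are dropped.) -/
theorem result (k : Type u) [Field k] [IsAlgClosed k]
    [Uncountable k] (V : Scheme.{u}) (sV : V ⟶ Spec (CommRingCat.of k)) [IrreducibleSpace V]
    [LocallyOfFiniteType sV] [QuasiCompact sV] (Z : ℕ → TopologicalSpace.Closeds V)
    (hZ : ∀ n, (Z n : Set V) ≠ Set.univ) :
    Dense {x : V | IsClosed ({x} : Set V) ∧ ∀ n, x ∉ Z n} := by
  classical
  have hJac : JacobsonSpace V := LocallyOfFiniteType.jacobsonSpace sV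
  rw [dense_iff_inter_open]
  rintro W hW ⟨x₀, hx₀⟩
  obtain ⟨_, ⟨U, hU, rfl⟩, hx₀U, hUW⟩ :=
    V.isBasis_affineOpens.exists_subset_of_mem_open hx₀ hW
  have hUaff : IsAffineOpen U := hU
  let φ₀ : k →+* Γ(V, U) :=
    (sV.appLE ⊤ U (by simp)).hom.comp (Scheme.ΓSpecIso (CommRingCat.of k)).inv.hom
  let _ : Algebra k Γ(V, U) := φ₀.toAlgebra
  have hft : Algebra.FiniteType k Γ(V, U) := by
    have h1 : (sV.appLE ⊤ U (by simp)).hom.FiniteType :=
      sV.finiteType_appLE (isAffineOpen_top _) hUaff _
    have h2 : ((Scheme.ΓSpecIso (CommRingCat.of k)).inv.hom).FiniteType :=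
      RingHom.FiniteType.of_surjective _
        (ConcreteCategory.bijective_of_isIso (Scheme.ΓSpecIso (CommRingCat.of k)).inv).2
    exact h1.comp h2
  have hjemb : Topology.IsOpenEmbedding hUaff.fromSpec := hUaff.fromSpec.isOpenEmbedding
  have hjrange : Set.range hUaff.fromSpec = U := hUaff.range_fromSpec
  have hUne : (U : Set V).Nonempty := ⟨x₀, hx₀U⟩
  have hUdense : Dense (U : Set V) := U.isOpen.dense hUne
  -- the spectrum is irreducible
  have hpre : IsPreirreducible (Set.univ : Set (PrimeSpectrum Γ(V, U))) := by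
    have := (PreirreducibleSpace.isPreirreducible_univ (X := V)).preimage hjemb
    rw [Set.preimage_univ] at this
    exact this
  have hne : (Set.univ : Set (PrimeSpectrum Γ(V, U))).Nonempty := by
    have : x₀ ∈ Set.range hUaff.fromSpec := hjrange ▸ hx₀U
    obtain ⟨p, _⟩ := this
    exact ⟨p, trivial⟩
  have hprime : (nilradical Γ(V, U)).IsPrime := by
    have h := (PrimeSpectrum.isIrreducible_zeroLocus_iff (⊥ : Ideal Γ(V, U))).mp (by
      rw [Submodule.bot_coe, PrimeSpectrum.zeroLocus_singleton_zero]
      exact ⟨hne, hpre⟩)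
    exact h
  -- choose the functions
  have hex : ∀ n, ∃ f : Γ(V, U), f ∉ nilradical Γ(V, U) ∧
      ∀ p : PrimeSpectrum Γ(V, U), f ∉ p.asIdeal → hUaff.fromSpec p ∉ Z n := by
    intro n
    set T : Set (PrimeSpectrum Γ(V, U)) := hUaff.fromSpec ⁻¹' (Z n : Set V) with hT
    have hTcl : IsClosed T := (Z n).isClosed.preimage hjemb.continuous
    have hTne : T ≠ Set.univ := by
      intro hTu
      apply hZ n
      have hsub : (U : Set V) ⊆ (Z n : Set V) := by
        rw [← hjrange]
        rintro _ ⟨p, rfl⟩
        have : p ∈ T := hTu ▸ Set.mem_univ p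
        exact this
      have := hUdense.mono hsub
      exact (Z n).isClosed.closure_eq ▸ this.closure_eq
    obtain ⟨p, hp⟩ := (Set.ne_univ_iff_exists_notMem T).mp hTne
    have hTz : T = PrimeSpectrum.zeroLocus (PrimeSpectrum.vanishingIdeal T : Set Γ(V, U)) := by
      rw [PrimeSpectrum.zeroLocus_vanishingIdeal_eq_closure, hTcl.closure_eq]
    rw [hTz, PrimeSpectrum.mem_zeroLocus, Set.not_subset] at hp
    obtain ⟨f, hfT, hfp⟩ := hp
    refine ⟨f, fun hfn => hfp (nilradical_le_prime p.asIdeal hfn), fun q hq hqZ => hq ?_⟩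
    exact (PrimeSpectrum.mem_vanishingIdeal T f).mp hfT q hqZ
  choose f hf1 hf2 using hex
  obtain ⟨m, hm, hfm⟩ := Groth.Agent.Lib.Helper28.exists_maximal_not_mem (k := k) hprime f hf1
  let y : PrimeSpectrum Γ(V, U) := ⟨m, hm.isPrime⟩
  refine ⟨hUaff.fromSpec y, hUW (hjrange ▸ Set.mem_range_self y), ?_, fun n => hf2 n y (hfm n)⟩
  apply isClosed_singleton_of_isLocallyClosed_singleton
  have hycl : IsClosed ({y} : Set (PrimeSpectrum Γ(V, U))) :=
    (PrimeSpectrum.isClosed_singleton_iff_isMaximal y).mpr hm
  have := hycl.isLocallyClosed.image hjemb.isInducing hjemb.isOpen_range.isLocallyClosed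
  simpa using this

end Groth.Agent.S16920
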