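import Groth.Statements.S1693
import Mathlib
-- import your own Groth.Agent.* helpers here

set_option autoImplicit false
universe u
open CategoryTheory CategoryTheory.Limits AlgebraicGeometry TopologicalSpace
open SDiv

namespace Groth.Agent.S1693

/-- Let X be a locally Noetherian scheme and Z a closed subset. Then the irreducible components of Z
form a locally finite family of subsets of X. -/
theorem result (X : Scheme.{u}) [IsLocallyNoetherian X] (Z : Set ↥X) (hZ : IsClosed Z) :
    LocallyFinite (fun T : ↥(irreducibleComponents ↥Z) => ((↑) '' (T.1 : Set ↥Z) : Set ↥X)) := by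
  classical
  intro x
  obtain ⟨_, ⟨U, hU, rfl⟩, hxU, -⟩ :=
    X.isBasis_affineOpens.exists_subset_of_mem_open (Set.mem_univ x) isOpen_univ
  refine ⟨U, U.2.mem_nhds hxU, ?_⟩
  haveI : IsNoetherianRing Γ(X, U) := IsLocallyNoetherian.component_noetherian ⟨U, hU⟩
  haveI : NoetherianSpace U := noetherianSpace_of_isAffineOpen U hU
  have hqsU : QuasiSober U := U.2.isOpenEmbedding_subtypeVal.quasiSober
  have hqsZ : QuasiSober Z := hZ.isClosedEmbedding_subtypeVal.quasiSober
  let W : Set U := Subtype.val ⁻¹' Z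
  have hW : IsClosed W := hZ.preimage continuous_subtype_val
  obtain ⟨S, hSfin, hScl, hSirr, hSW⟩ := NoetherianSpace.exists_finite_set_isClosed_irreducible hW
  have hgen : ∀ t ∈ S, ∃ ζ : U, IsGenericPoint ζ t := fun t ht =>
    hqsU.sober (hSirr t ht) (hScl t ht)
  let G : Set (Set Z) := {C | ∃ t, ∃ ht : t ∈ S,
    C = closure (Subtype.val ⁻¹' {(((hgen t ht).choose : U) : X)})}
  have hGfin : G.Finite := by
    have hsub : G ⊆ (fun t : S => (closure (Subtype.val ⁻¹'
        {(((hgen t.1 t.2).choose : U) : X)}) : Set Z)) '' Set.univ := by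
      rintro C ⟨t, ht, rfl⟩
      exact ⟨⟨t, ht⟩, trivial, rfl⟩
    haveI : Finite S := hSfin.to_subtype
    exact (Set.toFinite _).subset hsub
  refine (hGfin.preimage (Subtype.val_injective.injOn)).subset ?_
  rintro ⟨T, hT⟩ ⟨y, ⟨z, hzT, rfl⟩, hyU⟩
  show T ∈ G
  have hTirr : IsIrreducible T := hT.1
  have hTcl : IsClosed T := isClosed_of_mem_irreducibleComponents T hT
  obtain ⟨ξ, hξ⟩ := hqsZ.sober hTirr hTcl
  have hsp : ξ ⤳ z := hξ.specializes hzT
  have hspX : (ξ : X) ⤳ (z : X) := hsp.map continuous_subtype_val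
  have hξU : (ξ : X) ∈ U := hspX.mem_open U.2 hyU
  have hξW : (⟨ξ.1, hξU⟩ : U) ∈ W := ξ.2
  rw [hSW] at hξW
  obtain ⟨t, ht, hξt⟩ := hξW
  have hζ := (hgen t ht).choose_spec
  set ζ := (hgen t ht).choose with hζdef
  refine ⟨t, ht, ?_⟩
  have hζZ : (ζ : X) ∈ Z := by
    have : ζ ∈ W := by
      rw [hSW]
      exact ⟨t, ht, hζ.mem⟩
    exact this
  have hpre : (Subtype.val ⁻¹' {(ζ : X)} : Set Z) = {⟨ζ.1, hζZ⟩} := by
    ext w
    simp [Subtype.ext_iff]
  rw [hpre]
  have hsub : T ⊆ closure {(⟨ζ.1, hζZ⟩ : Z)} := by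
    rw [← hξ.def]
    apply closure_minimal _ isClosed_closure
    rw [Set.singleton_subset_iff, ← specializes_iff_mem_closure,
      ← Topology.IsInducing.subtypeVal.specializes_iff]
    exact (hζ.specializes hξt).map continuous_subtype_val
  exact hT.eq_of_le (isIrreducible_singleton.closure) hsub

end Groth.Agent.S1693
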