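import Groth.Statements.S1695
import Groth.Agent.Lib.Helper25.AffineBlowupAlg
import Groth.Agent.Lib.Helper25.BlowUpExist

set_option autoImplicit false
universe u
open CategoryTheory CategoryTheory.Limits AlgebraicGeometry TopologicalSpace
open SDiv

namespace Groth.Agent.S1695

open Groth.Agent.Lib.Helper25.BlowUpUP Groth.Agent.Lib.Helper25.ProjRees
  Groth.Agent.Lib.Helper25.ReesAway in
/-- Let A be a ring, I an ideal, and b : X' ⟶ Spec A a blowing-up of Spec A along the ideal sheaf of I.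
Then every point of X' has an open neighbourhood which is isomorphic, over Spec A, to the spectrum
of an affine blow-up algebra A[I/a] for some a ∈ I. -/
theorem result (A : Type u) [CommRing A] (I : Ideal A) {X' : Scheme.{u}}
    (b : X' ⟶ Spec (CommRingCat.of A)) (hb : BlowUp.IsBlowUp b (Scheme.IdealSheafData.ofIdealTop (I.map (Scheme.ΓSpecIso (CommRingCat.of A)).inv.hom))) (x' : ↥X') :
    ∃ (a : A) (_ : a ∈ I) (V : X'.Opens) (e : (V : Scheme.{u}) ≅ Spec (CommRingCat.of ↥(BlowUp.affineAlgebra A I a))),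
      x' ∈ V ∧ e.hom ≫ Spec.map (CommRingCat.ofHom (algebraMap A ↥(BlowUp.affineAlgebra A I a))) = V.ι ≫ b := by
  classical
  obtain ⟨θ, hθ⟩ := exists_iso_of_isBlowUp b (proj I) _ hb (isBlowUp_proj I)
  obtain ⟨a, ha, hx⟩ := exists_mem_basicOpen I (θ.hom x')
  obtain ⟨ψ, hψbij, hψ⟩ := exists_ringEquiv_aba I a ha
  have hiso : IsIso (CommRingCat.ofHom ψ) :=
    (ConcreteCategory.isIso_iff_bijective (CommRingCat.ofHom ψ)).2 hψbij
  let j : Spec (CommRingCat.of (HomogeneousLocalization.Away (Rees.deg (reesAlgebra I))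
      (tilde I a ha))) ⟶ X' := chart I a ha ≫ θ.inv
  have hjb : j ≫ b = Spec.map (CommRingCat.ofHom (kap I a ha)) := by
    rw [← hθ, Category.assoc, Iso.inv_hom_id_assoc, chart_proj]
  refine ⟨a, ha, j.opensRange,
    j.isoOpensRange.symm ≪≫ (asIso (Spec.map (CommRingCat.ofHom ψ))).symm, ?_, ?_⟩
  · have : θ.hom x' ∈ Set.range (chart I a ha) := by rw [range_chart]; exact hx
    obtain ⟨z, hz⟩ := this
    refine ⟨z, ?_⟩
    change θ.inv (chart I a ha z) = x'
    rw [hz, ← Scheme.Hom.comp_apply, Iso.hom_inv_id]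
    rfl
  · simp only [Iso.trans_hom, Iso.symm_hom, asIso_inv, Category.assoc]
    have h1 : inv (Spec.map (CommRingCat.ofHom ψ)) ≫
        Spec.map (CommRingCat.ofHom (algebraMap A ↥(BlowUp.affineAlgebra A I a))) =
          Spec.map (CommRingCat.ofHom (kap I a ha)) := by
      rw [IsIso.inv_comp_eq, ← Spec.map_comp, ← CommRingCat.ofHom_comp, hψ]
    rw [h1, ← Scheme.Hom.isoOpensRange_inv_comp j, Category.assoc, hjb]

end Groth.Agent.S1695
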