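import Groth.Statements.S16963
-- import your own Groth.Agent.* helpers here

set_option autoImplicit false
universe u
open scoped BigOperators
open ConstAct

namespace Groth.Agent.S16963

open TensorProduct in
/-- Let R be a commutative ring and Γ a finite group acting on a commutative R-algebra B by R-algebra
automorphisms; regard B as a comodule algebra over the Hopf algebra of R-valued functions on Γ (the
constant group scheme of Γ acting on Spec B) through the coaction b ↦ Σ_γ (γ · b) ⊗ e_γ. Then the
action is tame — there is a comodule map α from the Hopf algebra, with its regular coaction, to B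
with α(1) = 1 (a total integral) — if and only if the trace b ↦ Σ_γ γ · b, which takes values in the
ring of invariants B^Γ, maps B onto B^Γ. -/
theorem result (R : Type u) [CommRing R]
    (B : Type u) [CommRing B] [Algebra R B] (Γ : Type u) [Group Γ] [Fintype Γ] [DecidableEq Γ]
    [MulSemiringAction Γ B] [SMulCommClass Γ R B] :
    letI := ConstAct.comod R B Γ
    (∃ α : ConstGrp.F R Γ →ₗ[R] B, Hoch.IsComodHom (ConstGrp.F R Γ) α ∧ α 1 = 1) ↔
      ∀ c : B, c ∈ ConstAct.inv R B Γ → ∃ b : B, ∑ γ : Γ, γ • b = c := by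
  letI := ConstAct.comod R B Γ
  classical
  constructor
  · rintro ⟨α, hα, hα1⟩ c hc
    -- coefficient extraction
    have hcoef : ∀ g h : Γ, h • α (ConstGrp.e R g) = α (ConstGrp.e R (g * h⁻¹)) := by
      intro g h
      have h1 := LinearMap.congr_fun hα (ConstGrp.e R g)
      have h2 := congrArg (fun z => (TensorProduct.rid R B)
        (LinearMap.lTensor B (ConstGrp.ev R h).toLinearMap z)) h1
      simp only [LinearMap.comp_apply] at h2
      change (TensorProduct.rid R B) (LinearMap.lTensor B (ConstGrp.ev R h).toLinearMap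
          (ConstAct.coactLin R B Γ (α (ConstGrp.e R g)))) =
        (TensorProduct.rid R B) (LinearMap.lTensor B (ConstGrp.ev R h).toLinearMap
          (LinearMap.rTensor (ConstGrp.F R Γ) α (Coalgebra.comul (R := R) (ConstGrp.e R g)))) at h2
      rw [ConstAct.coactLin_apply, ConstGrp.comul_e] at h2
      simp only [map_sum, LinearMap.rTensor_tmul, LinearMap.lTensor_tmul, TensorProduct.rid_tmul,
        AlgHom.toLinearMap_apply, ConstGrp.ev_apply, ConstGrp.e_apply] at h2
      rw [Finset.sum_eq_single h, Finset.sum_eq_single (g * h⁻¹)] at h2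
      · simpa using h2
      · intro a _ ha
        rw [if_neg, zero_smul]
        intro hh
        apply ha
        rw [hh]; group
      · intro hh; exact absurd (Finset.mem_univ _) hh
      · intro a _ ha
        rw [if_neg (Ne.symm ha), zero_smul]
      · intro hh; exact absurd (Finset.mem_univ _) hh
    refine ⟨c * α (ConstGrp.e R 1), ?_⟩
    have hsum : ∑ γ : Γ, γ • α (ConstGrp.e R 1) = 1 := by
      rw [← hα1, ← ConstGrp.sum_e (R := R) (G := Γ), map_sum]
      refine Fintype.sum_equiv (Equiv.inv Γ) _ _ fun γ => ?_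
      rw [hcoef 1 γ, one_mul]
      rfl
    calc ∑ γ : Γ, γ • (c * α (ConstGrp.e R 1))
        = ∑ γ : Γ, c * γ • α (ConstGrp.e R 1) := by
          refine Finset.sum_congr rfl fun γ _ => ?_
          rw [smul_mul', (ConstAct.mem_inv R B Γ c).mp hc γ]
      _ = c := by rw [← Finset.mul_sum, hsum, mul_one]
  · intro h
    obtain ⟨b, hb⟩ := h 1 (by
      rw [ConstAct.mem_inv]; intro g; exact smul_one g)
    let α : ConstGrp.F R Γ →ₗ[R] B :=
      (ConstGrp.basis R Γ).constr R fun g => g⁻¹ • b
    have hαe : ∀ g, α (ConstGrp.e R g) = g⁻¹ • b := by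
      intro g
      rw [← ConstGrp.basis_apply, Module.Basis.constr_basis]
    refine ⟨α, ?_, ?_⟩
    · apply ConstGrp.linearMap_ext
      intro g
      simp only [LinearMap.comp_apply]
      change ConstAct.coactLin R B Γ (α (ConstGrp.e R g)) =
        LinearMap.rTensor (ConstGrp.F R Γ) α (Coalgebra.comul (R := R) (ConstGrp.e R g))
      rw [ConstAct.coactLin_apply, ConstGrp.comul_e, map_sum, hαe]
      simp only [LinearMap.rTensor_tmul, hαe]
      refine Fintype.sum_equiv ((Equiv.mulRight g⁻¹).trans (Equiv.inv Γ)) _ _ fun h => ?_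
      change (h • g⁻¹ • b) ⊗ₜ[R] ConstGrp.e R h =
        (((h * g⁻¹)⁻¹)⁻¹ • b) ⊗ₜ[R] ConstGrp.e R (((h * g⁻¹)⁻¹)⁻¹ * g)
      rw [inv_inv, mul_smul, inv_mul_cancel_right]
    · rw [← ConstGrp.sum_e (R := R) (G := Γ), map_sum, ← hb]
      refine Fintype.sum_equiv (Equiv.inv Γ) _ _ fun γ => ?_
      rw [hαe]
      rfl

end Groth.Agent.S16963
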