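import Groth.Statements.S16979
import Mathlib

set_option autoImplicit false
universe u v
open CAlg

namespace Groth.Agent.S16979

/-- Let R be an integral domain with fraction field K and φ a square matrix over R whose characteristic
polynomial becomes separable in K[T] (equivalently, K[T] modulo the characteristic polynomial is
geometrically reduced over K). Then a polynomial f over R satisfies f(φ) = 0 exactly when the
characteristic polynomial of φ divides f in R[T]: the kernel of evaluation at φ (the minimal ideal
of φ) is the principal ideal generated by the characteristic polynomial. -/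
theorem result
    {R : Type u} [CommRing R] [IsDomain R] {n : Type v} [Fintype n] [DecidableEq n]
    (φ : Matrix n n R)
    (hsep : (φ.charpoly.map (algebraMap R (FractionRing R))).Separable) :
    RingHom.ker (Polynomial.aeval (R := R) φ) = Ideal.span {φ.charpoly} := by
  open Polynomial in
  classical
  have hχ : φ.charpoly.Monic := Matrix.charpoly_monic φ
  apply le_antisymm
  swap
  · rw [Ideal.span_le]
    rintro _ rfl
    exact Matrix.aeval_self_charpoly φ
  intro f hf
  rw [RingHom.mem_ker] at hf
  rw [Ideal.mem_span_singleton]
  rw [← Polynomial.modByMonic_eq_zero_iff_dvd hχ]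
  -- the remainder
  have hdeg : (f %ₘ φ.charpoly).degree < φ.charpoly.degree := Polynomial.degree_modByMonic_lt f hχ
  have hr : Polynomial.aeval φ (f %ₘ φ.charpoly) = 0 := by
    have h1 := Polynomial.modByMonic_add_div f φ.charpoly
    have h2 : f %ₘ φ.charpoly = f - φ.charpoly * (f /ₘ φ.charpoly) := by
      rw [eq_sub_iff_add_eq]; exact h1
    rw [h2, map_sub, map_mul, hf, Matrix.aeval_self_charpoly, zero_mul, sub_zero]
  generalize f %ₘ φ.charpoly = r at hdeg hr
  -- pass to the algebraic closure
  let K := FractionRing R
  let L := AlgebraicClosure K
  have hinj : Function.Injective (algebraMap R L) := by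
    rw [IsScalarTower.algebraMap_eq R K L]
    exact (algebraMap K L).injective.comp (IsFractionRing.injective R K)
  have hsepL : (φ.charpoly.map (algebraMap R L)).Separable := by
    have := hsep.map (f := algebraMap K L)
    rwa [Polynomial.map_map, ← IsScalarTower.algebraMap_eq] at this
  have hcharL : (φ.map (algebraMap R L)).charpoly = φ.charpoly.map (algebraMap R L) :=
    Matrix.charpoly_map φ _
  have hrL : Polynomial.aeval (φ.map (algebraMap R L)) (r.map (algebraMap R L)) = 0 := by
    rw [Polynomial.aeval_map_algebraMap]
    have : φ.map (algebraMap R L) = (Algebra.ofId R L).mapMatrix φ := rfl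
    rw [this, Polynomial.aeval_algHom_apply, hr, map_zero]
  by_contra hr0
  have hrL0 : r.map (algebraMap R L) ≠ 0 := by
    rwa [Ne, Polynomial.map_eq_zero_iff hinj]
  have hsub : (φ.charpoly.map (algebraMap R L)).roots ≤ (r.map (algebraMap R L)).roots := by
    rw [Multiset.le_iff_subset (Polynomial.nodup_roots hsepL)]
    intro μ hμ
    rw [Polynomial.mem_roots (Polynomial.map_monic_ne_zero hχ)] at hμ
    rw [Polynomial.mem_roots hrL0]
    rw [← hcharL, ← Matrix.charpoly_toLin', ← Module.End.hasEigenvalue_iff_isRoot_charpoly,
      Module.End.hasEigenvalue_iff_isRoot, Matrix.minpoly_toLin'] at hμ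
    exact hμ.dvd (minpoly.dvd L _ hrL)
  have h1 := Multiset.card_le_card hsub
  have h2 : (φ.charpoly.map (algebraMap R L)).roots.card =
      (φ.charpoly.map (algebraMap R L)).natDegree := IsAlgClosed.card_roots_eq_natDegree
  have h3 := Polynomial.card_roots' (r.map (algebraMap R L))
  have h4 : (r.map (algebraMap R L)).natDegree < (φ.charpoly.map (algebraMap R L)).natDegree := by
    rw [Polynomial.natDegree_map_eq_of_injective hinj, Polynomial.natDegree_map_eq_of_injective hinj]
    exact Polynomial.natDegree_lt_natDegree hr0 hdeg
  omega


end Groth.Agent.S16979
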