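import Groth.Statements.S16981
import Mathlib
import Groth.Agent.S3866

set_option autoImplicit false
universe u v
open CAlg

namespace Groth.Agent.S16981

lemma isUnit_of_map {A : Type u} {E : Type v} [CommRing A] [CommRing E] (f : E →+* A)
    (hf : Function.Surjective f) (hsq : RingHom.ker f ^ 2 = ⊥) (e : E) (he : IsUnit (f e)) :
    IsUnit e := by
  obtain ⟨b, hb⟩ := he.exists_right_inv
  obtain ⟨e', rfl⟩ := hf b
  have hn : e * e' - 1 ∈ RingHom.ker f := by
    rw [RingHom.mem_ker, map_sub, map_mul, hb, map_one, sub_self]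
  have h0 : (e * e' - 1) * (e * e' - 1) = 0 := by
    have h1 : (e * e' - 1) * (e * e' - 1) ∈ RingHom.ker f ^ 2 := by
      rw [pow_two]; exact Ideal.mul_mem_mul hn hn
    rw [hsq] at h1; exact h1
  refine IsUnit.of_mul_eq_one (e' * (2 - e * e')) ?_
  linear_combination (-1 : E) * h0

lemma isNoetherianRing_of_sqZero {A : Type u} {E : Type v} [CommRing A] [CommRing E]
    [IsNoetherianRing A] (f : E →+* A) (hf : Function.Surjective f)
    (hsq : RingHom.ker f ^ 2 = ⊥) (hfg : (RingHom.ker f).FG) : IsNoetherianRing E := by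
  apply IsNoetherianRing.of_prime
  intro P hP
  have hle : RingHom.ker f ≤ P := by
    intro x hx
    have h1 : x ^ 2 ∈ RingHom.ker f ^ 2 := Ideal.pow_mem_pow hx 2
    rw [hsq] at h1
    have h0 : x ^ 2 = 0 := h1
    exact hP.mem_of_pow_mem 2 (h0 ▸ P.zero_mem)
  refine Ideal.fg_of_fg_map_of_fg_inf_ker_of_surjective (f := f) ?_ ?_ hf
  · exact IsNoetherian.noetherian _
  · rw [inf_eq_right.mpr hle]; exact hfg

/-- The core: all in one universe, with the quotient `E ⧸ N` in place of `A`. -/
lemma core {E : Type v} [CommRing E] [IsNoetherianRing E] (N : Ideal E) (hsq : N ^ 2 = ⊥)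
    (𝔫 : Ideal E) (hjac : 𝔫 ≤ Ideal.jacobson ⊥)
    [hA : IsAdicComplete (𝔫.map (Ideal.Quotient.mk N)) (E ⧸ N)] :
    IsAdicComplete 𝔫 E := by
  have hH : IsHausdorff 𝔫 E := IsHausdorff.of_le_jacobson 𝔫 E hjac
  -- the quotient is precomplete as an `E`-module
  have hPA : IsPrecomplete 𝔫 (E ⧸ N) :=
    (IsPrecomplete.map_algebraMap_iff (R := E) (S := E ⧸ N) (M := E ⧸ N) (I := 𝔫)).mp
      hA.toIsPrecomplete
  -- `N` is a module over the quotient
  have htors : Module.IsTorsionBySet E N (N : Set E) := by
    intro x a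
    apply Subtype.ext
    have h1 : (a : E) * (x : E) ∈ N ^ 2 := by
      rw [pow_two]; exact Ideal.mul_mem_mul a.2 x.2
    rw [hsq] at h1
    simpa using h1
  let _ : Module (E ⧸ N) N := htors.module
  have : IsScalarTower E (E ⧸ N) N := htors.isScalarTower
  have : Module.Finite (E ⧸ N) N := Module.Finite.of_restrictScalars_finite E (E ⧸ N) N
  have hN' : IsAdicComplete (𝔫.map (Ideal.Quotient.mk N)) N :=
    Groth.Agent.S3866.result (E ⧸ N) (𝔫.map (Ideal.Quotient.mk N)) N
  have hPN : IsPrecomplete 𝔫 N :=
    (IsPrecomplete.map_algebraMap_iff (R := E) (S := E ⧸ N) (M := N) (I := 𝔫)).mp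
      hN'.toIsPrecomplete
  -- now the middle term
  have hP : IsPrecomplete 𝔫 E := by
    rw [← AdicCompletion.of_surjective_iff]
    intro y
    have hex : Function.Exact (AdicCompletion.map 𝔫 N.subtype) (AdicCompletion.map 𝔫 N.mkQ) :=
      AdicCompletion.map_exact (I := 𝔫) (Submodule.subtype_injective N)
        (LinearMap.exact_subtype_mkQ N) (Submodule.mkQ_surjective N)
    obtain ⟨a, ha⟩ := AdicCompletion.of_surjective 𝔫 (E ⧸ N) (AdicCompletion.map 𝔫 N.mkQ y)
    obtain ⟨x, rfl⟩ := Submodule.mkQ_surjective N a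
    have h0 : AdicCompletion.map 𝔫 N.mkQ (y - AdicCompletion.of 𝔫 E x) = 0 := by
      rw [map_sub, AdicCompletion.map_of, ha, sub_self]
    obtain ⟨z, hz⟩ := (hex _).mp h0
    obtain ⟨n, rfl⟩ := AdicCompletion.of_surjective 𝔫 N z
    refine ⟨x + n, ?_⟩
    rw [AdicCompletion.map_of] at hz
    rw [map_add]
    change AdicCompletion.of 𝔫 E x + AdicCompletion.of 𝔫 E (N.subtype n) = y
    rw [hz]
    abel
  exact { toIsHausdorff := hH, toIsPrecomplete := hP }

/-- Let A be a complete Noetherian local ring and f : E → A a surjective ring homomorphism whose kernel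
has square zero and is finitely generated (equivalently, is a finite A-module for the induced module
structure). Then E is separated and complete for the adic topology of the inverse image of the
maximal ideal of A. (The published statement takes A to be the completion of a local ring of a
scheme of finite type over an Artinian local ring and the kernel the completion of a finite module;
this row assumes only that A is complete Noetherian local and the kernel finitely generated.) -/
theorem result
    {A : Type u} {E : Type v} [CommRing A] [CommRing E] [IsNoetherianRing A] [IsLocalRing A]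
    [IsAdicComplete (IsLocalRing.maximalIdeal A) A]
    (f : E →+* A) (hf : Function.Surjective f)
    (hsq : RingHom.ker f ^ 2 = ⊥) (hfg : (RingHom.ker f).FG) :
    IsAdicComplete ((IsLocalRing.maximalIdeal A).comap f) E := by
  have : IsNoetherianRing E := isNoetherianRing_of_sqZero f hf hsq hfg
  have hjac : (IsLocalRing.maximalIdeal A).comap f ≤ Ideal.jacobson ⊥ := by
    intro x hx
    rw [Ideal.mem_jacobson_bot]
    intro y
    apply isUnit_of_map f hf hsq
    rw [map_add, map_mul, map_one]
    have h1 : -(f x * f y) ∈ IsLocalRing.maximalIdeal A :=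
      neg_mem (Ideal.mul_mem_right _ _ hx)
    have h2 := IsLocalRing.isUnit_one_sub_self_of_mem_nonunits _ h1
    rwa [sub_neg_eq_add, add_comm] at h2
  let e : (E ⧸ RingHom.ker f) ≃+* A := RingHom.quotientKerEquivOfSurjective hf
  have hmap : ((IsLocalRing.maximalIdeal A).comap f).map (Ideal.Quotient.mk (RingHom.ker f)) =
      (IsLocalRing.maximalIdeal A).map (e.symm : A ≃+* (E ⧸ RingHom.ker f)) := by
    have hcomap : (IsLocalRing.maximalIdeal A).comap f =
        ((IsLocalRing.maximalIdeal A).comap (e : (E ⧸ RingHom.ker f) →+* A)).comap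
          (Ideal.Quotient.mk (RingHom.ker f)) := by
      ext x; rfl
    rw [Ideal.map_symm, hcomap]
    exact Ideal.map_comap_of_surjective _ Ideal.Quotient.mk_surjective _
  have : IsAdicComplete (((IsLocalRing.maximalIdeal A).comap f).map
      (Ideal.Quotient.mk (RingHom.ker f))) (E ⧸ RingHom.ker f) := by
    rw [hmap]
    exact (IsAdicComplete.congr_ringEquiv (IsLocalRing.maximalIdeal A) e.symm).mpr inferInstance
  exact core (RingHom.ker f) hsq _ hjac

end Groth.Agent.S16981
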