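import Groth.Statements.S16982
import Mathlib
import Groth.Agent.S16981

set_option autoImplicit false
universe u v w w'
open CAlg

namespace Groth.Agent.S16982

universe u1 u2 u3

open AdicCompletion in
/-- extension of an algebra map to the completion, target complete (universe-general version of a
lemma of helper16 in S2293) -/
theorem exists_lift_adicCompletion (A : Type u1) (P : Type u2) (B : Type u3)
    [CommRing A] [CommRing P] [CommRing B]
    [Algebra A P] [Algebra A B] (J : Ideal P) (K : Ideal B) [IsAdicComplete K B]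
    (ψ : P →ₐ[A] B) (hJK : J ≤ K.comap ψ) :
    ∃ φ : AdicCompletion J P →ₐ[A] B, ∀ p : P, φ (of J P p) = ψ p := by
  have hpow : ∀ n, J ^ n ≤ (K ^ n).comap ψ := fun n => by
    rw [← Ideal.map_le_iff_le_comap, Ideal.map_pow]
    exact Ideal.pow_right_mono (Ideal.map_le_iff_le_comap.mpr hJK) n
  let f : (n : ℕ) → AdicCompletion J P →ₐ[A] B ⧸ K ^ n := fun n =>
    (Ideal.quotientMapₐ (K ^ n) ψ (hpow n)).comp ((evalₐ J n).restrictScalars A)
  have hfmk : ∀ n (a : AdicCauchySequence J P),
      f n (mk J P a) = Ideal.Quotient.mk (K ^ n) (ψ (a.val n)) := by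
    intro n a
    simp only [f, AlgHom.comp_apply, AlgHom.restrictScalars_apply, evalₐ_mk]
    rfl
  have hf : ∀ {m n : ℕ} (hle : m ≤ n),
      (Ideal.Quotient.factorₐ A (Ideal.pow_le_pow_right hle)).comp (f n) = f m := by
    intro m n hle
    ext x
    induction x using AdicCompletion.induction_on with
    | h a =>
      rw [AlgHom.comp_apply, hfmk, hfmk, Ideal.Quotient.factorₐ_apply_mk, Ideal.Quotient.eq,
        ← map_sub]
      have h1 : a.val n - a.val m ∈ J ^ m := by
        have := (a.property hle).symm
        rw [SModEq.sub_mem] at this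
        simpa using this
      exact hpow m h1
  refine ⟨IsAdicComplete.liftAlgHom K f hf, fun p => ?_⟩
  apply IsHausdorff.eq_iff_smodEq (I := K) |>.mpr
  intro n
  rw [SModEq.sub_mem, smul_eq_mul, Ideal.mul_top, ← Ideal.Quotient.eq,
    IsAdicComplete.mk_liftAlgHom]
  simp only [f, AlgHom.comp_apply, AlgHom.restrictScalars_apply, evalₐ_of]
  rfl

/-- ring maps out of an adic completion (of a ring at a finitely generated ideal) into a separated
ring that agree on the image of the ring and are adically bounded agree. -/
theorem ringHom_ext_adicCompletion {P : Type u2} {B : Type u3} [CommRing P] [CommRing B]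
    (J : Ideal P) (hJ : J.FG) (K : Ideal B) [IsHausdorff K B]
    (g₁ g₂ : AdicCompletion J P →+* B)
    (h₁ : ∀ j ∈ J, g₁ (AdicCompletion.of J P j) ∈ K)
    (h₂ : ∀ j ∈ J, g₂ (AdicCompletion.of J P j) ∈ K)
    (heq : ∀ p, g₁ (AdicCompletion.of J P p) = g₂ (AdicCompletion.of J P p)) : g₁ = g₂ := by
  have key : ∀ (g : AdicCompletion J P →+* B), (∀ j ∈ J, g (AdicCompletion.of J P j) ∈ K) →
      ∀ (n : ℕ) (y : AdicCompletion J P),
        y ∈ (J ^ n • ⊤ : Submodule P (AdicCompletion J P)) → g y ∈ K ^ n := by
    intro g hg n y hy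
    have hpow : J ^ n ≤ (K ^ n).comap (g.comp (algebraMap P (AdicCompletion J P))) := by
      rw [← Ideal.map_le_iff_le_comap, Ideal.map_pow]
      refine Ideal.pow_right_mono (Ideal.map_le_iff_le_comap.mpr ?_) n
      intro j hj
      exact hg j hj
    refine Submodule.smul_induction_on hy ?_ ?_
    · intro j hj z _
      rw [Algebra.smul_def, map_mul]
      exact Ideal.mul_mem_right _ _ (hpow hj)
    · intro a b ha hb
      rw [map_add]; exact Ideal.add_mem _ ha hb
  ext x
  rw [IsHausdorff.eq_iff_smodEq (I := K)]
  intro n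
  rw [SModEq.sub_mem, smul_eq_mul, Ideal.mul_top]
  obtain ⟨p, hp⟩ := Submodule.Quotient.mk_surjective _ (AdicCompletion.eval J P n x)
  have hx : x - AdicCompletion.of J P p ∈ (J ^ n • ⊤ : Submodule P (AdicCompletion J P)) := by
    rw [AdicCompletion.pow_smul_top_eq_ker_eval hJ, LinearMap.mem_ker, map_sub,
      AdicCompletion.eval_of, ← hp]
    exact sub_self _
  have e1 := key g₁ h₁ n _ hx
  have e2 := key g₂ h₂ n _ hx
  have : g₁ x - g₂ x = g₁ (x - AdicCompletion.of J P p) - g₂ (x - AdicCompletion.of J P p) := by
    rw [map_sub, map_sub, heq p]; ring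
  rw [this]
  exact Ideal.sub_mem _ e1 e2

/-- Let R be a commutative ring, A a complete Noetherian local R-algebra written as a quotient of a
power series ring over R in finitely many variables by a surjective R-algebra map π, and f : E → A a
surjective R-algebra map whose kernel has square zero and is finitely generated. Then π lifts along
f to an R-algebra map λ from the power series ring to E with f ∘ λ = π. (The published statement
takes R Artinian local and asks for a lift that is continuous for the adic topologies; this row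
allows any commutative R and asks for any lift.) -/
theorem result
    {R : Type u} [CommRing R] {σ : Type v} [Finite σ]
    {A : Type w} {E : Type w'} [CommRing A] [CommRing E] [Algebra R A] [Algebra R E]
    [IsNoetherianRing A] [IsLocalRing A] [IsAdicComplete (IsLocalRing.maximalIdeal A) A]
    (π : MvPowerSeries σ R →ₐ[R] A) (hπ : Function.Surjective π)
    (f : E →ₐ[R] A) (hf : Function.Surjective f)
    (hsq : RingHom.ker f.toRingHom ^ 2 = ⊥) (hfg : (RingHom.ker f.toRingHom).FG) :
    ∃ l : MvPowerSeries σ R →ₐ[R] E, f.comp l = π := by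
  classical
  -- the images of the variables lie in the maximal ideal
  have hX : ∀ i : σ, π (MvPowerSeries.X i) ∈ IsLocalRing.maximalIdeal A := by
    intro i
    by_contra hni
    have hu : IsUnit (π (MvPowerSeries.X i)) := by
      by_contra h
      exact hni ((IsLocalRing.mem_maximalIdeal _).mpr h)
    obtain ⟨b, hb⟩ := hu.exists_right_inv
    obtain ⟨q, rfl⟩ := hπ b
    have h1 : IsUnit (1 - MvPowerSeries.X i * q : MvPowerSeries σ R) := by
      rw [MvPowerSeries.isUnit_iff_constantCoeff]
      simp
    have h2 : π (1 - MvPowerSeries.X i * q) = 0 := by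
      rw [map_sub, map_mul, hb, map_one, sub_self]
    have h3 := h1.map π
    rw [h2] at h3
    exact not_isUnit_zero h3
  choose e he using fun i : σ => hf (π (MvPowerSeries.X i))
  have hcompl : IsAdicComplete ((IsLocalRing.maximalIdeal A).comap f.toRingHom) E :=
    Groth.Agent.S16981.result f.toRingHom hf hsq hfg
  let ψ : MvPolynomial σ R →ₐ[R] E := MvPolynomial.aeval e
  have hJK : MvPolynomial.idealOfVars σ R ≤
      ((IsLocalRing.maximalIdeal A).comap f.toRingHom).comap ψ := by
    rw [MvPolynomial.idealOfVars, Ideal.span_le]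
    rintro _ ⟨i, rfl⟩
    change f (ψ (MvPolynomial.X i)) ∈ IsLocalRing.maximalIdeal A
    simp only [ψ, MvPolynomial.aeval_X, he]
    exact hX i
  obtain ⟨φ, hφ⟩ := exists_lift_adicCompletion R (MvPolynomial σ R) E
    (MvPolynomial.idealOfVars σ R) ((IsLocalRing.maximalIdeal A).comap f.toRingHom) ψ hJK
  let κ : MvPowerSeries σ R ≃ₐ[R]
      AdicCompletion (MvPolynomial.idealOfVars σ R) (MvPolynomial σ R) :=
    AlgEquiv.restrictScalars R (MvPowerSeries.toAdicCompletionAlgEquiv σ R)
  have hκ : ∀ p : MvPolynomial σ R, κ.symm (AdicCompletion.of _ _ p) = (p : MvPowerSeries σ R) := by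
    intro p
    rw [AlgEquiv.symm_apply_eq]
    exact (MvPowerSeries.toAdicCompletion_coe p).symm
  refine ⟨φ.comp κ.toAlgHom, ?_⟩
  -- compare as ring maps out of the completion
  have hcoe : ∀ p : MvPolynomial σ R, π (p : MvPowerSeries σ R) = f (ψ p) := by
    intro p
    have : (π.comp (MvPolynomial.coeToMvPowerSeries.algHom (R := R) (σ := σ) R)) = f.comp ψ := by
      apply MvPolynomial.algHom_ext
      intro i
      simp [ψ, he]
    have := congr($this p)
    simpa using this
  have hmain : (f.toRingHom.comp φ.toRingHom : AdicCompletion _ _ →+* A) =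
      (π.toRingHom.comp κ.symm.toAlgHom.toRingHom) := by
    apply ringHom_ext_adicCompletion (MvPolynomial.idealOfVars σ R)
      (MvPolynomial.idealOfVars_fg σ R) (IsLocalRing.maximalIdeal A)
    · intro j hj
      change f (φ (AdicCompletion.of _ _ j)) ∈ _
      rw [hφ]
      exact hJK hj
    · intro j hj
      change π (κ.symm (AdicCompletion.of _ _ j)) ∈ _
      rw [hκ, hcoe]
      exact hJK hj
    · intro p
      change f (φ (AdicCompletion.of _ _ p)) = π (κ.symm (AdicCompletion.of _ _ p))
      rw [hφ, hκ, hcoe]
  ext x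
  have := congr($hmain (κ x))
  change f (φ (κ x)) = π (κ.symm (κ x)) at this
  rw [AlgEquiv.symm_apply_apply] at this
  exact this

end Groth.Agent.S16982
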