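import Groth.Statements.S16983
import Mathlib

set_option autoImplicit false
universe u
open DeformData

namespace Groth.Agent.S16983

/-- Let p be a prime, s ≥ 1, B a finite index set with a subset B₀ of exactly three elements, m_j ≥ 1
integers coprime to p, and σ_{i,j} (i < s, j ∈ B) rational numbers with m_j σ_{i,j} an integer, such
that Σ_j (σ_{i,j} − 1) = −2 for every i, the fractional part of σ_{i,j} equals that of p^i σ_{0,j},
no σ_{i,j} equals 1, and the minimum over i of ⌊σ_{i,j}⌋ is 0 for j ∈ B₀ and 1 for j ∉ B₀. Then for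
every i the fractional parts ⟨σ_{i,j}⟩ sum over j to 1 (purity), and ⌊σ_{i,j}⌋ is 0 on B₀ and 1 off
B₀ for every i. (The hypotheses are exactly the properties of the signature of a special deformation
datum on the projective line: each entry is an integer divided by a stabilizer order m_j in a group
of order prime to p, the degree identity coming from Riemann–Hurwitz, the Frobenius-twist relation
between fractional parts, and the speciality conditions; the statement is given here for any such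
tuple.) -/
theorem result
    {B : Type u} [Fintype B] [DecidableEq B] (B₀ : Finset B) (hB₀ : B₀.card = 3)
    (p : ℕ) (hp : p.Prime) (s : ℕ) (hs : 0 < s)
    (m : B → ℕ) (hm : ∀ j, 0 < m j) (hmp : ∀ j, Nat.Coprime (m j) p)
    (σ : Fin s → B → ℚ) (hint : ∀ i j, ∃ h : ℤ, σ i j = (h : ℚ) / (m j : ℚ))
    (hsum : ∀ i, ∑ j, (σ i j - 1) = -2)
    (hfract : ∀ i j, Int.fract (σ i j) = Int.fract ((p : ℚ) ^ (i : ℕ) * σ ⟨0, hs⟩ j))
    (hne : ∀ i j, σ i j ≠ 1)
    (hB₀min : ∀ j ∈ B₀, (∃ i, ⌊σ i j⌋ = 0) ∧ ∀ i, 0 ≤ ⌊σ i j⌋)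
    (hBmin : ∀ j ∉ B₀, (∃ i, ⌊σ i j⌋ = 1) ∧ ∀ i, 1 ≤ ⌊σ i j⌋) :
    (∀ i, ∑ j, Int.fract (σ i j) = 1) ∧ (∀ i j, ⌊σ i j⌋ = if j ∈ B₀ then 0 else 1) := by
  classical
  -- the excess of the floors over their minimal values
  have hδ : ∀ i j, 0 ≤ ⌊σ i j⌋ - (if j ∈ B₀ then (0 : ℤ) else 1) := by
    intro i j
    by_cases hj : j ∈ B₀
    · simp only [if_pos hj, sub_zero]; exact (hB₀min j hj).2 i
    · simp only [if_neg hj]; linarith [(hBmin j hj).2 i]
  have hc : ∑ j : B, ((if j ∈ B₀ then (0 : ℚ) else 1) - 1) = -3 := by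
    have : ∀ j : B, ((if j ∈ B₀ then (0 : ℚ) else 1) - 1) = if j ∈ B₀ then (-1 : ℚ) else 0 := by
      intro j; split_ifs <;> ring
    rw [Finset.sum_congr rfl (fun j _ => this j), Finset.sum_ite_mem, Finset.univ_inter,
      Finset.sum_const, hB₀]
    norm_num
  -- the basic identity
  have hid : ∀ i, ((∑ j : B, (⌊σ i j⌋ - (if j ∈ B₀ then (0 : ℤ) else 1)) : ℤ) : ℚ) +
      ∑ j : B, Int.fract (σ i j) = 1 := by
    intro i
    have h1 := hsum i
    have h2 : ∑ j : B, (σ i j - 1) =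
        ∑ j : B, (((⌊σ i j⌋ - (if j ∈ B₀ then (0 : ℤ) else 1) : ℤ) : ℚ) + Int.fract (σ i j) +
          ((if j ∈ B₀ then (0 : ℚ) else 1) - 1)) := by
      refine Finset.sum_congr rfl fun j _ => ?_
      have := Int.floor_add_fract (σ i j)
      push_cast
      split_ifs <;> linarith
    rw [h2, Finset.sum_add_distrib, Finset.sum_add_distrib, hc] at h1
    push_cast at h1 ⊢
    linarith
  have hFnonneg : ∀ i, 0 ≤ ∑ j : B, Int.fract (σ i j) :=
    fun i => Finset.sum_nonneg fun j _ => Int.fract_nonneg _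
  have hDnonneg : ∀ i, 0 ≤ ∑ j : B, (⌊σ i j⌋ - (if j ∈ B₀ then (0 : ℤ) else 1)) :=
    fun i => Finset.sum_nonneg fun j _ => hδ i j
  -- Claim: the sum of fractional parts never vanishes
  have hclaim : ∀ i, ∑ j : B, Int.fract (σ i j) ≠ 0 := by
    intro i0 hF0
    have hfr0 : ∀ j, Int.fract (σ i0 j) = 0 := by
      intro j
      exact (Finset.sum_eq_zero_iff_of_nonneg (fun j _ => Int.fract_nonneg _)).mp hF0 j
        (Finset.mem_univ j)
    -- σ 0 j is an integer
    have hint0 : ∀ j, ∃ w : ℤ, σ ⟨0, hs⟩ j = w := by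
      intro j
      obtain ⟨h, hh⟩ := hint ⟨0, hs⟩ j
      have h1 : Int.fract ((p : ℚ) ^ (i0 : ℕ) * σ ⟨0, hs⟩ j) = 0 := by
        rw [← hfract]; exact hfr0 j
      have hmpos : (0 : ℚ) < m j := by exact_mod_cast hm j
      have h2 : (p : ℚ) ^ (i0 : ℕ) * σ ⟨0, hs⟩ j = ⌊(p : ℚ) ^ (i0 : ℕ) * σ ⟨0, hs⟩ j⌋ := by
        have := Int.floor_add_fract ((p : ℚ) ^ (i0 : ℕ) * σ ⟨0, hs⟩ j)
        rw [h1, add_zero] at this
        exact this.symm
      set z := ⌊(p : ℚ) ^ (i0 : ℕ) * σ ⟨0, hs⟩ j⌋ with hz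
      rw [hh] at h2
      have h3 : ((p : ℤ) ^ (i0 : ℕ) * h : ℤ) = z * (m j : ℤ) := by
        have : ((p : ℚ) ^ (i0 : ℕ) * h) = z * (m j : ℚ) := by
          field_simp at h2
          linarith
        exact_mod_cast this
      have hdvd : ((m j : ℕ) : ℤ) ∣ (p : ℤ) ^ (i0 : ℕ) * h := ⟨z, by rw [h3]; ring⟩
      have hcop : IsCoprime ((m j : ℕ) : ℤ) ((p : ℤ) ^ (i0 : ℕ)) := by
        apply IsCoprime.pow_right
        exact Nat.isCoprime_iff_coprime.mpr (hmp j)
      obtain ⟨w, hw⟩ := hcop.dvd_of_dvd_mul_left hdvd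
      refine ⟨w, ?_⟩
      rw [hh, hw]
      push_cast
      field_simp
    have hallint : ∀ i j, σ i j = ⌊σ i j⌋ := by
      intro i j
      obtain ⟨w, hw⟩ := hint0 j
      have h1 : Int.fract (σ i j) = 0 := by
        rw [hfract, hw]
        have : (p : ℚ) ^ (i : ℕ) * (w : ℚ) = (((p : ℤ) ^ (i : ℕ) * w : ℤ) : ℚ) := by push_cast; ring
        rw [this, Int.fract_intCast]
      have := Int.floor_add_fract (σ i j)
      rw [h1, add_zero] at this
      exact this.symm
    by_cases hex : ∃ j, j ∉ B₀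
    · obtain ⟨j, hj⟩ := hex
      obtain ⟨i', hi'⟩ := (hBmin j hj).1
      apply hne i' j
      rw [hallint i' j, hi']
      norm_num
    · push Not at hex
      have hD : (∑ j : B, (⌊σ i0 j⌋ - (if j ∈ B₀ then (0 : ℤ) else 1))) = 1 := by
        have := hid i0
        rw [hF0, add_zero] at this
        exact_mod_cast this
      have hD' : ∑ j : B, ⌊σ i0 j⌋ = 1 := by
        rw [← hD]
        refine Finset.sum_congr rfl fun j _ => ?_
        rw [if_pos (hex j), sub_zero]
      have hne1 : ∀ j, ⌊σ i0 j⌋ ≠ 1 := by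
        intro j h1
        apply hne i0 j
        rw [hallint i0 j, h1]; norm_num
      have hnn : ∀ j, 0 ≤ ⌊σ i0 j⌋ := fun j => (hB₀min j (hex j)).2 i0
      by_cases hall0 : ∀ j, ⌊σ i0 j⌋ = 0
      · rw [Finset.sum_congr rfl (fun j _ => hall0 j), Finset.sum_const_zero] at hD'
        exact zero_ne_one hD'
      · push Not at hall0
        obtain ⟨j, hj⟩ := hall0
        have h2 : 2 ≤ ⌊σ i0 j⌋ := by
          have := hnn j
          have := hne1 j
          omega
        have h3 : ⌊σ i0 j⌋ ≤ ∑ j : B, ⌊σ i0 j⌋ :=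
          Finset.single_le_sum (fun j _ => hnn j) (Finset.mem_univ j)
        omega
  -- conclude
  have hD0 : ∀ i, (∑ j : B, (⌊σ i j⌋ - (if j ∈ B₀ then (0 : ℤ) else 1))) = 0 := by
    intro i
    have h1 := hid i
    have h2 := hFnonneg i
    have h3 := hDnonneg i
    have h4 := hclaim i
    by_contra hne0
    have h5 : 1 ≤ ∑ j : B, (⌊σ i j⌋ - (if j ∈ B₀ then (0 : ℤ) else 1)) := by omega
    have h6 : (1 : ℚ) ≤ ((∑ j : B, (⌊σ i j⌋ - (if j ∈ B₀ then (0 : ℤ) else 1)) : ℤ) : ℚ) := by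
      exact_mod_cast h5
    apply h4
    linarith
  refine ⟨fun i => ?_, fun i j => ?_⟩
  · have h1 := hid i
    rw [hD0 i] at h1
    simpa using h1
  · have := (Finset.sum_eq_zero_iff_of_nonneg (fun j _ => hδ i j)).mp (hD0 i) j (Finset.mem_univ j)
    linarith


end Groth.Agent.S16983
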