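import Groth.Statements.S16984
import Mathlib

set_option autoImplicit false
universe u v w
open Hoch

namespace Groth.Agent.S16984

section helpers
open Hoch

open TensorProduct

variable (k : Type u) [CommRing k] (A : Type v) [CommRing A] [Bialgebra k A]
  (P : Type w) [AddCommGroup P] [Module k P]

/-- `(p ⊗ a) ⊗ b ↦ ε(a) p ⊗ b`. -/
noncomputable def sig : (P ⊗[k] A) ⊗[k] A →ₗ[k] P ⊗[k] A :=
  ((TensorProduct.rid k P).toLinearMap ∘ₗ (Coalgebra.counit (R := k) (A := A)).lTensor P).rTensor A

@[simp] theorem sig_tmul (p : P) (a b : A) :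
    sig k A P ((p ⊗ₜ[k] a) ⊗ₜ[k] b) = (Coalgebra.counit (R := k) a • p) ⊗ₜ[k] b := by
  simp [sig]

theorem sig_assoc_symm (p : P) (t : A ⊗[k] A) :
    sig k A P ((TensorProduct.assoc k P A A).symm (p ⊗ₜ[k] t)) =
      p ⊗ₜ[k] (TensorProduct.lid k A ((Coalgebra.counit (R := k) (A := A)).rTensor A t)) := by
  induction t using TensorProduct.induction_on with
  | zero => simp
  | tmul a b => simp [TensorProduct.smul_tmul]
  | add x y hx hy => simp only [TensorProduct.tmul_add, map_add, hx, hy]

theorem sig_coactAux (x : P ⊗[k] A) : sig k A P (Ind.coactAux k A P x) = x := by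
  induction x using TensorProduct.induction_on with
  | zero => simp
  | tmul p a =>
    rw [Ind.coactAux_tmul, sig_assoc_symm, Coalgebra.rTensor_counit_comul]
    simp
  | add x y hx hy => simp only [map_add, hx, hy]

theorem sig_tmul_one (x : P ⊗[k] A) :
    sig k A P (x ⊗ₜ[k] (1 : A)) =
      ((TensorProduct.rid k P).toLinearMap ∘ₗ (Coalgebra.counit (R := k) (A := A)).lTensor P) x ⊗ₜ[k] (1 : A) := by
  simp [sig]

theorem main :
    Function.Injective ((Hoch.Ind.equiv k A P).toLinearMap ∘ₗ (TensorProduct.mk k P A).flip (1 : A)) ∧
    LinearMap.range ((Hoch.Ind.equiv k A P).toLinearMap ∘ₗ (TensorProduct.mk k P A).flip (1 : A)) =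
      HopfRep.fixedPts k A (Hoch.Ind k A P) := by
  constructor
  · intro p q h
    have := congrArg (Ind.counit k A P) h
    simpa using this
  · apply le_antisymm
    · rintro _ ⟨p, rfl⟩
      change HopfRep.Comod.coact (k := k) (A := A) (V := Ind k A P) (Ind.equiv k A P (p ⊗ₜ 1)) =
        (Ind.equiv k A P (p ⊗ₜ[k] (1:A))) ⊗ₜ[k] (1 : A)
      rw [Ind.coact_equiv_tmul, Bialgebra.comul_one, Algebra.TensorProduct.one_def]
      rfl
    · intro x hx
      obtain ⟨y, rfl⟩ := (Ind.equiv k A P).surjective x
      have hx' : Ind.coactAux k A P y = y ⊗ₜ[k] (1 : A) := hx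
      have h1 := sig_coactAux k A P y
      rw [hx', sig_tmul_one] at h1
      refine ⟨((TensorProduct.rid k P).toLinearMap ∘ₗ (Coalgebra.counit (R := k) (A := A)).lTensor P) y, ?_⟩
      rw [LinearMap.comp_apply]
      exact congrArg (Ind.equiv k A P) h1

end helpers

open TensorProduct in
/-- Let k be a commutative ring, A a commutative k-bialgebra that is flat over k (the coordinate ring of
a flat affine group scheme over Spec k; flatness and commutativity are the standing hypotheses of
the appendix and are not needed for the assertion) and P a k-module. Then p ↦ p ⊗ 1 is an injection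
of P into the induced comodule P ⊗ A (coaction id ⊗ Δ) whose image is exactly the submodule of
invariants, i.e. the elements with coaction x ↦ x ⊗ 1. (The published statement writes the
coordinate-ring factor on the left and calls this module coinduced; this row is its degree-zero
part, the identification of P with the invariants of the coinduced module.) -/
theorem result (k : Type u) [CommRing k] (A : Type v) [CommRing A] [Bialgebra k A]
    [Module.Flat k A] (P : Type w) [AddCommGroup P] [Module k P] :
    Function.Injective ((Hoch.Ind.equiv k A P).toLinearMap ∘ₗ (TensorProduct.mk k P A).flip (1 : A)) ∧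
    LinearMap.range ((Hoch.Ind.equiv k A P).toLinearMap ∘ₗ (TensorProduct.mk k P A).flip (1 : A)) =
      HopfRep.fixedPts k A (Hoch.Ind k A P) := by
  exact main k A P

end Groth.Agent.S16984
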