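import Groth.Statements.S1699
import Groth.Agent.S2510
import Mathlib.RingTheory.Ideal.AssociatedPrime.Localization
import Mathlib.RingTheory.Ideal.MinimalPrime.Colon

set_option autoImplicit false
universe u
open CategoryTheory CategoryTheory.Limits AlgebraicGeometry TopologicalSpace
open SDiv

namespace Groth.Agent.S1699

section aux
open Groth.Agent.Lib.Helper29.QCoh

/-- On a Noetherian affine open, a point is an associated point of the structure sheaf iff its
prime is an associated prime of the ring of sections. -/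
theorem isAssociatedPrime_stalk_iff {X : Scheme.{u}} {V : X.Opens} (hV : IsAffineOpen V)
    [IsNoetherianRing Γ(X, V)] (x : X) (hx : x ∈ V) :
    IsAssociatedPrime (IsLocalRing.maximalIdeal (X.presheaf.stalk x)) (X.presheaf.stalk x) ↔
      IsAssociatedPrime (hV.primeIdealOf ⟨x, hx⟩).asIdeal Γ(X, V) := by
  let _ : Algebra Γ(X, V) (X.presheaf.stalk x) :=
    TopCat.Presheaf.algebra_section_stalk X.presheaf ⟨x, hx⟩
  have hloc : IsLocalization.AtPrime (X.presheaf.stalk x) (hV.primeIdealOf ⟨x, hx⟩).asIdeal :=
    hV.isLocalization_stalk ⟨x, hx⟩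
  have hlm : IsLocalizedModule (hV.primeIdealOf ⟨x, hx⟩).asIdeal.primeCompl
      (Algebra.linearMap Γ(X, V) (X.presheaf.stalk x)) :=
    (isLocalizedModule_iff_isLocalization' _ _).mpr hloc
  have hcomap : (IsLocalRing.maximalIdeal (X.presheaf.stalk x)).comap
      (algebraMap Γ(X, V) (X.presheaf.stalk x)) = (hV.primeIdealOf ⟨x, hx⟩).asIdeal :=
    IsLocalization.AtPrime.under_maximalIdeal (X.presheaf.stalk x) _
  have h := Module.associatedPrimes.preimage_comap_associatedPrimes_eq_associatedPrimes_of_isLocalizedModule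
    (hV.primeIdealOf ⟨x, hx⟩).asIdeal.primeCompl
    (Algebra.linearMap Γ(X, V) (X.presheaf.stalk x)) (R' := X.presheaf.stalk x)
  have h2 : IsLocalRing.maximalIdeal (X.presheaf.stalk x) ∈
      associatedPrimes (X.presheaf.stalk x) (X.presheaf.stalk x) ↔
      (IsLocalRing.maximalIdeal (X.presheaf.stalk x)).comap
        (algebraMap Γ(X, V) (X.presheaf.stalk x)) ∈ associatedPrimes Γ(X, V) Γ(X, V) := by
    rw [← h]; rfl
  rw [hcomap] at h2
  exact h2

end aux

/-- (1) if and only if (3): let X be a locally Noetherian scheme and U an open subscheme. Then U is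
scheme-theoretically dense in X if and only if U contains every associated point of X (every point
whose local ring has its maximal ideal as an associated prime). -/
theorem result (X : Scheme.{u}) [IsLocallyNoetherian X] (U : X.Opens) :
    CInt.IsSchematicallyDense U ↔ ∀ x : ↥X, IsAssociatedPrime (IsLocalRing.maximalIdeal ↑(X.presheaf.stalk x)) ↑(X.presheaf.stalk x) → x ∈ U := by
  open Groth.Agent.Lib.Helper29.QCoh in
  constructor
  · intro H x hass
    by_contra hxU
    obtain ⟨V, hV, hxV, -⟩ := exists_isAffineOpen_mem_and_subset (x := x) (U := (⊤ : X.Opens)) trivial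
    have hN : IsNoetherianRing Γ(X, V) :=
      IsLocallyNoetherian.component_noetherian (X := X) ⟨V, hV⟩
    rw [isAssociatedPrime_stalk_iff hV x hxV, isAssociatedPrime_iff] at hass
    obtain ⟨hp, s, hs⟩ := hass
    have hs0 : s ≠ 0 := by
      rintro rfl
      apply hp.ne_top
      rw [hs, eq_top_iff]
      intro a _
      rw [Submodule.mem_colon_singleton, smul_zero]
      exact Submodule.zero_mem _
    apply hs0
    apply H V
    rw [map_zero]
    apply TopCat.Presheaf.section_ext X.sheaf (V ⊓ U)
    intro u hu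
    change X.presheaf.germ (V ⊓ U) u hu _ = X.presheaf.germ (V ⊓ U) u hu 0
    rw [map_zero, TopCat.Presheaf.germ_res_apply]
    have huV : u ∈ V := hu.1
    have huU : u ∈ U := hu.2
    -- some element of the prime of `x` is a unit at `u`
    have hex : ∃ a : Γ(X, V), a ∈ (hV.primeIdealOf ⟨x, hxV⟩).asIdeal ∧
        a ∉ (hV.primeIdealOf ⟨u, huV⟩).asIdeal := by
      by_contra hcon
      push Not at hcon
      have hsp : x ⤳ u := Groth.Agent.S2510.specializes_of_primeIdealOf_le hV x u hxV huV hcon
      exact hxU (hsp.mem_open U.isOpen huU)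
    obtain ⟨a, hap, hau⟩ := hex
    have has : a * s = 0 := by
      rw [hs, Submodule.mem_colon_singleton, Submodule.mem_bot] at hap
      exact hap
    have hunit : IsUnit (X.presheaf.germ V u huV a) :=
      isUnit_germ_of_mem_basicOpen a u huV
        ((mem_basicOpen_iff_notMem_primeIdealOf hV u huV a).mpr hau)
    have h0 : X.presheaf.germ V u huV a * X.presheaf.germ V u huV s = 0 := by
      rw [← map_mul, has, map_zero]
    exact (hunit.mul_right_eq_zero).mp h0
  · intro H V s t hst
    rw [← sub_eq_zero]
    have hst' : X.presheaf.map (homOfLE (inf_le_left : V ⊓ U ≤ V)).op (s - t) = 0 := by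
      rw [map_sub, hst, sub_self]
    generalize s - t = r at hst'
    apply TopCat.Presheaf.section_ext X.sheaf V
    intro y hy
    change X.presheaf.germ V y hy r = X.presheaf.germ V y hy 0
    rw [map_zero]
    by_contra hne
    obtain ⟨W, hW, hyW, hWV0⟩ := exists_isAffineOpen_mem_and_subset (x := y) (U := V) hy
    have hWV : W ≤ V := hWV0
    have hN : IsNoetherianRing Γ(X, W) :=
      IsLocallyNoetherian.component_noetherian (X := X) ⟨W, hW⟩
    obtain ⟨r', hr'def⟩ : ∃ r' : Γ(X, W), r' = X.presheaf.map (homOfLE hWV).op r := ⟨_, rfl⟩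
    have hr' : X.presheaf.germ W y hyW r' ≠ 0 := by
      rw [hr'def, TopCat.Presheaf.germ_res_apply]; exact hne
    -- the annihilator of `r'` lies in the prime of `y`
    have hle : (⊥ : Submodule Γ(X, W) Γ(X, W)).colon {r'} ≤ (hW.primeIdealOf ⟨y, hyW⟩).asIdeal := by
      intro a ha
      by_contra hay
      rw [Submodule.mem_colon_singleton, Submodule.mem_bot] at ha
      have hunit : IsUnit (X.presheaf.germ W y hyW a) :=
        isUnit_germ_of_mem_basicOpen a y hyW
          ((mem_basicOpen_iff_notMem_primeIdealOf hW y hyW a).mpr hay)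
      have h0 : X.presheaf.germ W y hyW a * X.presheaf.germ W y hyW r' = 0 := by
        rw [← map_mul]
        have : a * r' = 0 := ha
        rw [this, map_zero]
      exact hr' ((hunit.mul_right_eq_zero).mp h0)
    obtain ⟨q, hq, hqp⟩ := Ideal.exists_minimalPrimes_le hle
    have hqq : q.IsPrime := hq.1.1
    obtain ⟨z, hz, hzq⟩ := exists_point_of_prime' hW ⟨q, hqq⟩
    obtain ⟨x', hx'⟩ := Submodule.exists_eq_colon_of_mem_minimalPrimes hq
    have hzass : IsAssociatedPrime (hW.primeIdealOf ⟨z, hz⟩).asIdeal Γ(X, W) := by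
      rw [hzq, isAssociatedPrime_iff]
      exact ⟨hqq, x', hx'⟩
    have hzU : z ∈ U := H z ((isAssociatedPrime_stalk_iff hW z hz).mpr hzass)
    have hzV : z ∈ V := hWV hz
    -- the germ of `r` at `z` vanishes
    have hgz : X.presheaf.germ W z hz r' = 0 := by
      rw [hr'def, TopCat.Presheaf.germ_res_apply]
      have := congrArg (X.presheaf.germ (V ⊓ U) z ⟨hzV, hzU⟩) hst'
      rw [TopCat.Presheaf.germ_res_apply, map_zero] at this
      exact this
    -- but the annihilator of `r'` lies in the prime of `z`
    let _ : Algebra Γ(X, W) (X.presheaf.stalk z) :=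
      TopCat.Presheaf.algebra_section_stalk X.presheaf ⟨z, hz⟩
    have hloc := hW.isLocalization_stalk ⟨z, hz⟩
    have hz0 : algebraMap Γ(X, W) (X.presheaf.stalk z) r' = 0 := hgz
    rw [IsLocalization.map_eq_zero_iff (hW.primeIdealOf ⟨z, hz⟩).asIdeal.primeCompl] at hz0
    obtain ⟨c, hc⟩ := hz0
    have hcq : (c : Γ(X, W)) ∈ q := by
      apply hq.1.2
      rw [Submodule.mem_colon_singleton, Submodule.mem_bot]
      exact hc
    have hpe : (hW.primeIdealOf ⟨z, hz⟩).asIdeal = q := by rw [hzq]
    exact c.2 (hpe ▸ hcq : (c : Γ(X, W)) ∈ (hW.primeIdealOf ⟨z, hz⟩).asIdeal)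

end Groth.Agent.S1699
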