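import Groth.Statements.S16991
import Mathlib
import Groth.Agent.Lib.Helper2.Pfaff

set_option autoImplicit false
universe u v
open QuadGrp

namespace Groth.Agent.S16991

open QuadGrp Groth.Agent.Lib.Helper2.Pfaff Matrix

/-- Over a commutative ring in which 2 = 0, for a quadratic form Q on a finite free module of even rank
2m ≥ 2 whose polar form is a perfect pairing, every isometry of Q has determinant one. (The
published statement is the equality of the naive special orthogonal group with the orthogonal group
on fibres in characteristic 2; its proof gives this equality over every base of characteristic 2,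
which is the form stated.) -/
theorem result {R : Type u} [CommRing R] [CharP R 2]
    {M : Type v} [AddCommGroup M] [Module R M] [Module.Free R M] [Module.Finite R M]
    (m : ℕ) (hm : 1 ≤ m) (hM : Module.finrank R M = 2 * m) (Q : QuadraticForm R M) (hQ : QuadGrp.IsRegular Q) :
    QuadGrp.O Q = QuadGrp.SO' Q := by
  classical
  refine le_antisymm ?_ inf_le_left
  intro g hg
  refine ⟨hg, ?_⟩
  show LinearEquiv.det g = 1
  rcases subsingleton_or_nontrivial R with hR | hR
  · exact Units.ext (Subsingleton.elim _ _)
  let b : Module.Basis (Fin (2 * m)) R M := Module.finBasisOfFinrankEq R M hM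
  set A₀ := LinearMap.toMatrix₂ b b Q.polarBilin with hA₀
  set G := LinearMap.toMatrix b b (g : M →ₗ[R] M) with hG
  have hsym : ∀ i j, A₀ j i = A₀ i j := by
    intro i j
    rw [hA₀, LinearMap.toMatrix₂_apply, LinearMap.toMatrix₂_apply, QuadraticMap.polarBilin_apply_apply,
      QuadraticMap.polarBilin_apply_apply, QuadraticMap.polar_comm]
  have halt : AltMat A₀ := by
    constructor
    · refine Matrix.ext fun i j => ?_
      rw [Matrix.transpose_apply, Matrix.neg_apply, CharTwo.neg_eq, hsym]
    · intro i
      rw [hA₀, LinearMap.toMatrix₂_apply, QuadraticMap.polarBilin_apply_apply, QuadraticMap.polar_self,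
        two_smul, CharTwo.add_self_eq_zero]
  have hgQ : ∀ v, Q (g v) = Q v := (mem_O Q g).mp hg
  have hconj : Gᵀ * A₀ * G = A₀ := by
    rw [hG, hA₀, ← LinearMap.toMatrix₂_compl₁₂ b b]
    congr 1
    refine LinearMap.ext₂ fun x y => ?_
    simp only [LinearMap.compl₁₂_apply, QuadraticMap.polarBilin_apply_apply, QuadraticMap.polar,
      LinearEquiv.coe_coe, ← map_add, hgQ]
  have hunit : IsUnit A₀.det := by
    let f : M ≃ₗ[R] Module.Dual R M := LinearEquiv.ofBijective Q.polarBilin hQ
    have h1 := LinearEquiv.isUnit_det f b b.dualBasis
    have h2 : LinearMap.toMatrix b b.dualBasis (f : M →ₗ[R] Module.Dual R M) = A₀ᵀ := by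
      refine Matrix.ext fun i j => ?_
      rw [LinearMap.toMatrix_apply, Module.Basis.dualBasis_repr, Matrix.transpose_apply, hA₀,
        LinearMap.toMatrix₂_apply]
      rfl
    rw [h2, Matrix.det_transpose] at h1
    exact h1
  have hpf : IsUnit (pf A₀) := by
    have := pf_mul_self halt
    rw [← this] at hunit
    exact isUnit_of_mul_isUnit_left hunit
  have h1 : G.det = 1 := by
    have := pf_conj halt G
    rw [hconj] at this
    have h3 : (G.det - 1) * pf A₀ = 0 := by linear_combination -this
    have := hpf.mul_left_eq_zero.mp h3
    exact sub_eq_zero.mp this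
  apply Units.ext
  rw [LinearEquiv.coe_det, ← LinearMap.det_toMatrix b]
  exact h1

end Groth.Agent.S16991
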