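import Groth.Statements.S1701
import Groth.Agent.Lib.Helper10.RelCartierStalk

set_option autoImplicit false
universe u
open CategoryTheory CategoryTheory.Limits AlgebraicGeometry TopologicalSpace
open SDiv

namespace Groth.Agent.S1701

/-- Let f : X ⟶ S be a morphism, 𝓘 the ideal sheaf of an effective Cartier divisor D ⊂ X such that D ⟶ S
is flat (a relative effective Cartier divisor), and x a point of D at which the local ring of X is
Noetherian. Then f is flat at x. -/
theorem result {X S : Scheme.{u}} (f : X ⟶ S) (𝓘 : X.IdealSheafData)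
    (hD : (BlowUp.IsEffCartierIdeal 𝓘 ∧ Flat (𝓘.subschemeι ≫ f))) (d : ↥𝓘.subscheme) [IsNoetherianRing (X.presheaf.stalk (𝓘.subschemeι d))] :
    (f.stalkMap (𝓘.subschemeι d)).hom.Flat := by
  obtain ⟨U, h₀, hxU, -, hnzd, hI⟩ :=
    Groth.Agent.Lib.Helper25.BlowUpUP.exists_affine_principal_le 𝓘 hD.1 (𝓘.subschemeι d) ⊤ trivial
  haveI := hD.2
  have hfl : ((𝓘.subschemeι ≫ f).stalkMap d).hom.Flat :=
    AlgebraicGeometry.Flat.stalkMap (𝓘.subschemeι ≫ f) d
  have hfl' : ((𝓘.subschemeι.stalkMap d).hom.comp (f.stalkMap (𝓘.subschemeι d)).hom).Flat := by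
    have h := hfl
    rw [AlgebraicGeometry.Scheme.Hom.stalkMap_comp] at h
    exact h
  have hψs : Function.Surjective (𝓘.subschemeι.stalkMap d).hom :=
    𝓘.subschemeι.stalkMap_surjective d
  have hker := Groth.Agent.Lib.Helper10.RelCartier.ker_stalkMap_subschemeι 𝓘 U h₀ hI d hxU
  have hh_nzd : X.presheaf.germ U.1 (𝓘.subschemeι d) hxU h₀ ∈
      nonZeroDivisors (X.presheaf.stalk (𝓘.subschemeι d)) :=
    Groth.Agent.Lib.Helper25.BlowUpUP.germ_mem_nonZeroDivisors_of_isAffineOpen U.2 h₀ hnzd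
      (𝓘.subschemeι d) hxU
  have hh0 : (𝓘.subschemeι.stalkMap d).hom (X.presheaf.germ U.1 (𝓘.subschemeι d) hxU h₀) = 0 := by
    rw [← RingHom.mem_ker, hker]
    exact Ideal.mem_span_singleton_self _
  have hh_max : X.presheaf.germ U.1 (𝓘.subschemeι d) hxU h₀ ∈
      IsLocalRing.maximalIdeal (X.presheaf.stalk (𝓘.subschemeι d)) := by
    rw [IsLocalRing.mem_maximalIdeal, mem_nonunits_iff]
    intro hu
    have h1 : IsUnit ((𝓘.subschemeι.stalkMap d).hom
        (X.presheaf.germ U.1 (𝓘.subschemeι d) hxU h₀)) := hu.map _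
    rw [hh0] at h1
    exact not_isUnit_zero h1
  have hq : ((Ideal.Quotient.mk (Ideal.span {X.presheaf.germ U.1 (𝓘.subschemeι d) hxU h₀})).comp
      (f.stalkMap (𝓘.subschemeι d)).hom).Flat := by
    rw [← hker]
    have h2 : (Ideal.Quotient.mk (RingHom.ker (𝓘.subschemeι.stalkMap d).hom)).comp
        (f.stalkMap (𝓘.subschemeι d)).hom =
        (RingHom.quotientKerEquivOfSurjective hψs).symm.toRingHom.comp
          ((𝓘.subschemeι.stalkMap d).hom.comp (f.stalkMap (𝓘.subschemeι d)).hom) := by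
      ext a
      simp only [RingHom.coe_comp, Function.comp_apply, RingEquiv.toRingHom_eq_coe,
        RingHom.coe_coe]
      rw [RingEquiv.eq_symm_apply]
      rfl
    rw [h2]
    exact RingHom.Flat.comp hfl' (RingHom.Flat.of_bijective (RingEquiv.bijective _))
  exact Groth.Agent.Lib.Helper10.RelCartier.flat_of_flat_quot_nzd _ _ hh_max hh_nzd hq

end Groth.Agent.S1701
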