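import Groth.Statements.S17013
import Mathlib
import Groth.Agent.Lib.Helper2.HalfDisc

set_option autoImplicit false
universe u v
open QuadGrp

namespace Groth.Agent.S17013

/-- The determinant on the orthogonal group is valued in μ₂ for odd rank: for a quadratic form Q on a
finite free module with a basis indexed by Fin (2m+1) over a commutative ring, whose
half-discriminant in that basis is a unit (no hypothesis on 2), the determinant of every isometry of
Q squares to one. -/
theorem result {R : Type u} [CommRing R] {M : Type v} [AddCommGroup M] [Module R M] [Module.Free R M] [Module.Finite R M]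
    (m : ℕ) (b : Module.Basis (Fin (2 * m + 1)) R M) (Q : QuadraticForm R M)
    (hQ : QuadGrp.IsSemiregular b (LinearEquiv.refl R R) Q)
    (g : M ≃ₗ[R] M) (hg : g ∈ QuadGrp.O Q) :
    LinearEquiv.det g * LinearEquiv.det g = 1 := by
  classical
  have hQg : Q.comp (g : M →ₗ[R] M) = Q := by
    ext x
    rw [QuadraticMap.comp_apply]
    exact (QuadGrp.mem_O Q g).mp hg x
  have h := Groth.Agent.Lib.Helper2.HalfDisc.halfDisc_comp ⟨m, rfl⟩ b Q (g : M →ₗ[R] M)
  rw [hQg] at h
  obtain ⟨u, hu⟩ := hQ
  rw [← hu] at h
  have h2 : LinearMap.det (g : M →ₗ[R] M) ^ 2 = 1 := by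
    have : (1 : R) * (u : R) = LinearMap.det (g : M →ₗ[R] M) ^ 2 * (u : R) := by rw [one_mul]; exact h
    exact (Units.mul_left_inj u).mp this.symm
  have h3 : ((LinearEquiv.det g : Rˣ) : R) = LinearMap.det (g : M →ₗ[R] M) := LinearEquiv.coe_det g
  apply Units.ext
  rw [Units.val_mul, h3, Units.val_one, ← sq]
  exact h2

end Groth.Agent.S17013
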