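import Groth.Statements.S17015
import Mathlib
import Groth.Agent.Lib.Helper2.HalfDiscField

set_option autoImplicit false
universe u v
open QuadGrp

namespace Groth.Agent.S17015

open QuadGrp TensorProduct

section Aux
variable {R : Type u} [CommRing R] {M : Type v} [AddCommGroup M] [Module R M] [Module.Free R M]

lemma bcf_one_tmul (A : Type u) [CommRing A] [Algebra R A] (Q : QuadraticForm R M) (x : M) :
    baseChangeForm A Q ((1 : A) ⊗ₜ[R] x) = algebraMap R A (Q x) := by
  unfold baseChangeForm
  rw [LinearMap.compQuadraticMap_apply, baseChange_tmul]
  simp [Algebra.algebraMap_eq_smul_one]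

lemma halfDisc_baseChange (A : Type u) [CommRing A] [Algebra R A] {n : ℕ}
    (b : Module.Basis (Fin n) R M) (Q : QuadraticForm R M) :
    halfDisc (b.baseChange A) (LinearEquiv.refl A A) (baseChangeForm A Q)
      = algebraMap R A (halfDisc b (LinearEquiv.refl R R) Q) := by
  unfold halfDisc
  rw [MvPolynomial.eval₂_comp_left (algebraMap R A)]
  congr 1
  · exact RingHom.ext_int _ _
  · funext s
    induction s using Sym2.ind with
    | _ i j =>
      simp only [Function.comp_apply, coeffs_mk, LinearEquiv.refl_apply,
        Module.Basis.baseChange_apply]
      split_ifs with h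
      · exact bcf_one_tmul A Q (b i)
      · rw [QuadraticMap.polar, QuadraticMap.polar, ← TensorProduct.tmul_add, bcf_one_tmul,
          bcf_one_tmul, bcf_one_tmul, map_sub, map_sub]

lemma isUnit_iff_residue (x : R) :
    IsUnit x ↔ ∀ (p : Ideal R) [p.IsPrime], algebraMap R p.ResidueField x ≠ 0 := by
  constructor
  · intro hx p hp h0
    rw [Ideal.algebraMap_residueField_eq_zero] at h0
    exact hp.ne_top (Ideal.eq_top_of_isUnit_mem _ h0 hx)
  · intro h
    by_contra hx
    obtain ⟨I, hI, hxI⟩ := exists_max_ideal_of_mem_nonunits hx
    haveI := hI.isPrime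
    exact h I (Ideal.algebraMap_residueField_eq_zero.mpr hxI)

end Aux

/-- For a quadratic form Q on a free module with a basis b indexed by Fin (2m+1) over a commutative ring
R, the half-discriminant of Q relative to b is a unit if and only if for every prime ideal p of R
the base change of Q to the residue field of p is nondegenerate (zero quadratic radical and polar
kernel of dimension at most one — over a field this is the fibrewise non-degeneracy of the source:
smooth projective quadric, defect one with non-zero restriction in characteristic two). -/
theorem result {R : Type u} [CommRing R]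
    {M : Type v} [AddCommGroup M] [Module R M] [Module.Free R M]
    (m : ℕ) (b : Module.Basis (Fin (2 * m + 1)) R M) (Q : QuadraticForm R M) :
    IsUnit (QuadGrp.halfDisc b (LinearEquiv.refl R R) Q) ↔
      ∀ (p : Ideal R) [p.IsPrime], QuadraticMap.Nondegenerate (Q := QuadGrp.baseChangeForm p.ResidueField Q) := by
  classical
  rw [isUnit_iff_residue]
  constructor
  · intro h p hp
    have h1 := h p
    rw [← halfDisc_baseChange] at h1
    exact (Groth.Agent.Lib.Helper2.HalfDisc.halfDisc_ne_zero_iff_nondegenerate m _ _).mp h1
  · intro h p hp
    rw [← halfDisc_baseChange]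
    exact (Groth.Agent.Lib.Helper2.HalfDisc.halfDisc_ne_zero_iff_nondegenerate m _ _).mpr (h p)

end Groth.Agent.S17015
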