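import Groth.Statements.S17016
import Mathlib

set_option autoImplicit false
universe u
open QuadGrp

namespace Groth.Agent.S17016

theorem splitForm_even_apply (R : Type u) [CommRing R] (m : ℕ) (x : Fin (m * 2) → R) :
    QuadGrp.splitForm R (m * 2) x = ∑ i : Fin m, x (finProdFinEquiv (i, 0)) * x (finProdFinEquiv (i, 1)) := by
  unfold QuadGrp.splitForm
  have h0 : m * 2 % 2 = 0 := by omega
  have hm : m * 2 / 2 = m := by omega
  rw [dif_neg (by omega), add_zero, sum_apply]
  simp only [QuadraticMap.linMulLin_apply, LinearMap.proj_apply]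
  refine Fintype.sum_equiv (finCongr hm) _ _ ?_
  intro i
  congr 2 <;> (apply Fin.ext; simp [finProdFinEquiv, h0]; try ring)

theorem Q_single (R : Type u) [CommRing R] (m : ℕ) (j : Fin (m * 2)) :
    QuadGrp.splitForm R (m * 2) (Pi.single j 1) = 0 := by
  rw [splitForm_even_apply]
  refine Finset.sum_eq_zero (fun i _ => ?_)
  simp only [Pi.single_apply]
  by_cases h : finProdFinEquiv (i, (0 : Fin 2)) = j
  · have : finProdFinEquiv (i, (1 : Fin 2)) ≠ j := by
      rw [← h]; intro h'; simpa using finProdFinEquiv.injective h'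
    simp [this]
  · simp [h]

theorem polar_single (R : Type u) [CommRing R] (m : ℕ) (i i' : Fin m) (s s' : Fin 2) :
    QuadraticMap.polar (QuadGrp.splitForm R (m * 2)) (Pi.single (finProdFinEquiv (i, s)) 1)
      (Pi.single (finProdFinEquiv (i', s')) 1) = if i = i' ∧ s ≠ s' then 1 else 0 := by
  unfold QuadraticMap.polar
  rw [Q_single, Q_single, splitForm_even_apply, sub_zero, sub_zero]
  simp only [Pi.add_apply, Pi.single_apply, EmbeddingLike.apply_eq_iff_eq, Prod.mk.injEq]
  fin_cases s <;> fin_cases s' <;> simp [mul_add, Finset.sum_ite_eq, eq_comm]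

theorem ring1 {A : Type*} [Ring A] (p q : A) (hp : p * p = 0) (hq : q * q = 0) (hpq : p * q + q * p = 1) :
    (1 - 2 * (p * q)) * (1 - 2 * (p * q)) = 1 ∧ p * (1 - 2 * (p * q)) = -((1 - 2 * (p * q)) * p) ∧
      q * (1 - 2 * (p * q)) = -((1 - 2 * (p * q)) * q) := by
  have hqp : q * p = 1 - p * q := by rw [← hpq]; abel
  have h1 : p * q * (p * q) = p * q := by
    calc p * q * (p * q) = p * (q * p) * q := by noncomm_ring
      _ = p * (1 - p * q) * q := by rw [hqp]
      _ = p * q - (p * p) * (q * q) := by noncomm_ring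
      _ = p * q := by rw [hp, hq]; simp
  have h2 : p * q * p = p := by
    calc p * q * p = p * (q * p) := by noncomm_ring
      _ = p * (1 - p * q) := by rw [hqp]
      _ = p - (p * p) * q := by noncomm_ring
      _ = p := by rw [hp]; simp
  have h3 : q * p * q = q := by
    calc q * p * q = (1 - p * q) * q := by rw [hqp]
      _ = q - p * (q * q) := by noncomm_ring
      _ = q := by rw [hq]; simp
  refine ⟨?_, ?_, ?_⟩
  · calc (1 - 2 * (p * q)) * (1 - 2 * (p * q)) = 1 - 4 * (p * q) + 4 * (p * q * (p * q)) := by noncomm_ring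
      _ = 1 := by rw [h1]; noncomm_ring
  · calc p * (1 - 2 * (p * q)) = p - 2 * (p * p * q) := by noncomm_ring
      _ = - (p - 2 * (p * q * p)) := by rw [hp, h2]; noncomm_ring
      _ = _ := by noncomm_ring
  · calc q * (1 - 2 * (p * q)) = q - 2 * (q * p * q) := by noncomm_ring
      _ = - (q - 2 * (p * (q * q))) := by rw [hq, h3]; noncomm_ring
      _ = _ := by noncomm_ring

theorem ring2 {A : Type*} [Ring A] (p q x : A) (hp : x * p = -(p * x)) (hq : x * q = -(q * x)) :
    Commute x (1 - 2 * (p * q)) := by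
  have h : x * (p * q) = p * q * x := by
    calc x * (p * q) = (x * p) * q := by noncomm_ring
      _ = -(p * (x * q)) := by rw [hp]; noncomm_ring
      _ = p * q * x := by rw [hq]; noncomm_ring
  show x * (1 - 2 * (p * q)) = (1 - 2 * (p * q)) * x
  calc x * (1 - 2 * (p * q)) = x - 2 * (x * (p * q)) := by noncomm_ring
    _ = _ := by rw [h]; noncomm_ring

theorem ring3 {A : Type*} [Ring A] (p q y : A) (hp : Commute p y) (hq : Commute q y) :
    Commute (1 - 2 * (p * q)) y := by
  have h : (p * q) * y = y * (p * q) := (hp.mul_left hq).eq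
  show (1 - 2 * (p * q)) * y = y * (1 - 2 * (p * q))
  calc (1 - 2 * (p * q)) * y = y - 2 * (p * q * y) := by noncomm_ring
    _ = _ := by rw [h]; noncomm_ring

theorem list_sq {A : Type*} [Monoid A] (l : List A) (hc : ∀ x ∈ l, ∀ y ∈ l, Commute x y)
    (hs : ∀ x ∈ l, x * x = 1) : l.prod * l.prod = 1 := by
  induction l with
  | nil => simp
  | cons a l ih =>
    have h1 : Commute l.prod a := Commute.list_prod_left _ _ (fun x hx => hc x (List.mem_cons_of_mem _ hx) a (List.mem_cons_self))
    rw [List.prod_cons]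
    calc a * l.prod * (a * l.prod) = a * (l.prod * a) * l.prod := by simp only [mul_assoc]
      _ = a * (a * l.prod) * l.prod := by rw [h1.eq]
      _ = (a * a) * (l.prod * l.prod) := by simp only [mul_assoc]
      _ = 1 := by
        rw [hs a List.mem_cons_self, ih (fun x hx y hy => hc x (List.mem_cons_of_mem _ hx) y (List.mem_cons_of_mem _ hy))
          (fun x hx => hs x (List.mem_cons_of_mem _ hx)), one_mul]

theorem list_anti {A : Type*} [Ring A] {ι : Type*} (u : ι → A) (x : A) (i0 : ι)
    (h0 : x * u i0 = -(u i0 * x)) (h1 : ∀ i, i ≠ i0 → x * u i = u i * x) (l : List ι) (hl : l.Nodup) :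
    (i0 ∈ l → x * (l.map u).prod = -((l.map u).prod * x)) ∧ (i0 ∉ l → x * (l.map u).prod = (l.map u).prod * x) := by
  induction l with
  | nil => simp
  | cons a l ih =>
    rw [List.nodup_cons] at hl
    obtain ⟨ih1, ih2⟩ := ih hl.2
    simp only [List.map_cons, List.prod_cons, List.mem_cons, not_or]
    by_cases ha : a = i0
    · subst ha
      refine ⟨fun _ => ?_, fun h => absurd rfl h.1⟩
      rw [← mul_assoc, h0, neg_mul, mul_assoc, ih2 hl.1, mul_assoc]
    · refine ⟨fun h => ?_, fun h => ?_⟩
      · have : i0 ∈ l := h.resolve_left (fun h => ha h.symm)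
        rw [← mul_assoc, h1 a ha, mul_assoc, ih1 this, mul_neg, mul_assoc]
      · rw [← mul_assoc, h1 a ha, mul_assoc, ih2 h.2, mul_assoc]

/-- For the standard split quadratic form Σ x_{2i} x_{2i+1} on R^{2m} over any commutative ring R, with
standard basis vectors e_j in the Clifford algebra, the product w of the elements 1 − 2 e_{2i}
e_{2i+1} (i < m, which pairwise commute) satisfies w² = 1 and anticommutes with every e_j. (Hence w
is central in the even Clifford algebra; over rings in which 2 is invertible (1 − w)/2 is the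
non-trivial central idempotent of the even part.) -/
theorem result (R : Type u) [CommRing R] (m : ℕ) :
    let Q := QuadGrp.splitForm R (m * 2)
    let e : Fin (m * 2) → CliffordAlgebra Q := fun j => CliffordAlgebra.ι Q (Pi.single j 1)
    let w : CliffordAlgebra Q :=
      ((List.finRange m).map fun i => 1 - 2 * (e (finProdFinEquiv (i, 0)) * e (finProdFinEquiv (i, 1)))).prod
    w * w = 1 ∧ ∀ j : Fin (m * 2), e j * w = -(w * e j) := by
  intro Q e w
  have esq : ∀ j, e j * e j = 0 := by
    intro j
    show CliffordAlgebra.ι Q _ * CliffordAlgebra.ι Q _ = 0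
    rw [CliffordAlgebra.ι_sq_scalar, Q_single, map_zero]
  have eanti : ∀ (i i' : Fin m) (s s' : Fin 2), e (finProdFinEquiv (i, s)) * e (finProdFinEquiv (i', s')) +
      e (finProdFinEquiv (i', s')) * e (finProdFinEquiv (i, s)) = if i = i' ∧ s ≠ s' then 1 else 0 := by
    intro i i' s s'
    show CliffordAlgebra.ι Q _ * CliffordAlgebra.ι Q _ + CliffordAlgebra.ι Q _ * CliffordAlgebra.ι Q _ = _
    rw [CliffordAlgebra.ι_mul_ι_add_swap, polar_single]
    split_ifs <;> simp
  set u : Fin m → CliffordAlgebra Q :=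
    fun i => 1 - 2 * (e (finProdFinEquiv (i, 0)) * e (finProdFinEquiv (i, 1))) with hu_def
  have hu : ∀ i, u i * u i = 1 ∧ e (finProdFinEquiv (i, 0)) * u i = -(u i * e (finProdFinEquiv (i, 0))) ∧
      e (finProdFinEquiv (i, 1)) * u i = -(u i * e (finProdFinEquiv (i, 1))) := fun i =>
    ring1 _ _ (esq _) (esq _) (by simpa using eanti i i 0 1)
  have hcomm : ∀ (i i' : Fin m) (s : Fin 2), i' ≠ i → Commute (e (finProdFinEquiv (i', s))) (u i) := by
    intro i i' s h
    refine ring2 _ _ _ (eq_neg_of_add_eq_zero_left ?_) (eq_neg_of_add_eq_zero_left ?_)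
    · simpa [h] using eanti i' i s 0
    · simpa [h] using eanti i' i s 1
  have hw : w = ((List.finRange m).map u).prod := rfl
  refine ⟨?_, ?_⟩
  · rw [hw]
    refine list_sq _ ?_ ?_
    · intro x hx y hy
      obtain ⟨i, -, rfl⟩ := List.mem_map.mp hx
      obtain ⟨i', -, rfl⟩ := List.mem_map.mp hy
      by_cases h : i = i'
      · rw [h]; exact Commute.refl _
      · exact ring3 _ _ _ (hcomm i' i 0 h) (hcomm i' i 1 h)
    · intro x hx
      obtain ⟨i, -, rfl⟩ := List.mem_map.mp hx
      exact (hu i).1
  · intro j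
    obtain ⟨⟨i0, s⟩, rfl⟩ := finProdFinEquiv.surjective j
    rw [hw]
    refine (list_anti u _ i0 ?_ (fun i hi => (hcomm i i0 s hi.symm).eq) _ (List.nodup_finRange m)).1
      (List.mem_finRange i0)
    fin_cases s
    · exact (hu i0).2.1
    · exact (hu i0).2.2

end Groth.Agent.S17016
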