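import Groth.Statements.S17017
import Mathlib
import Groth.Agent.Lib.Helper8.QG4

set_option autoImplicit false
universe u
open QuadGrp



namespace Groth.Agent.S17017

/-- Over a field k, for the standard split quadratic form x₀² + x₁x₂ on k³, every even unit of the
Clifford algebra normalises the subspace k³, i.e. lies in the naive Clifford group; so the even
Clifford group is the whole unit group of the even Clifford algebra. (The published claim is made
over fields of characteristic different from 2; here it is stated for every field.) -/
theorem result (k : Type u) [Field k] :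
    QuadGrp.evenUnits (QuadGrp.splitForm k 3) ≤ QuadGrp.GPin' (QuadGrp.splitForm k 3) := by
  open Groth.Agent.Lib.Helper8.QG CliffordAlgebra Pointwise in
  suffices h : ∀ x ∈ QuadGrp.evenUnits (QuadGrp.splitForm k 3),
      ConjAct.toConjAct x • LinearMap.range (ι (QuadGrp.splitForm k 3)) ≤
        LinearMap.range (ι (QuadGrp.splitForm k 3)) by
    intro x hx
    rw [QuadGrp.mem_GPin']
    apply le_antisymm
    · exact h _ hx
    · have := smul_mono_right (ConjAct.toConjAct x) <| h _ (inv_mem hx)
      refine Eq.trans_le ?_ this
      simp only [map_inv, smul_inv_smul]
  intro x hx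
  rw [Submodule.pointwise_smul_def, Submodule.map_le_iff_le_comap]
  rintro _ ⟨m, rfl⟩
  change ConjAct.toConjAct x • ι (QuadGrp.splitForm k 3) m ∈ LinearMap.range (ι (QuadGrp.splitForm k 3))
  rw [ConjAct.units_smul_def, ConjAct.ofConjAct_toConjAct]
  exact conj_mem_range k x hx (inv_mem hx) m

end Groth.Agent.S17017
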