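import Groth.Statements.S1702
import Groth.Agent.Lib.Helper10.RelCartier

set_option autoImplicit false
universe u
open CategoryTheory CategoryTheory.Limits AlgebraicGeometry TopologicalSpace
open SDiv

namespace Groth.Agent.S1702

/-- Let f : X ⟶ S be a morphism and 𝓘₁, 𝓘₂ ideal sheaves of effective Cartier divisors on X whose closed
subschemes are flat over S. Then the product ideal 𝓘₁𝓘₂ (the sum of the divisors) is again the ideal
of an effective Cartier divisor flat over S. -/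
theorem result {X S : Scheme.{u}} (f : X ⟶ S) (𝓘₁ 𝓘₂ : X.IdealSheafData)
    (h₁ : (BlowUp.IsEffCartierIdeal 𝓘₁ ∧ Flat (𝓘₁.subschemeι ≫ f))) (h₂ : (BlowUp.IsEffCartierIdeal 𝓘₂ ∧ Flat (𝓘₂.subschemeι ≫ f))) : (BlowUp.IsEffCartierIdeal (𝓘₁ * 𝓘₂) ∧ Flat ((𝓘₁ * 𝓘₂).subschemeι ≫ f)) := by
  refine ⟨Groth.Agent.Lib.Helper25.BlowUpUP.isEffCartierIdeal_mul 𝓘₁ 𝓘₂ h₁.1 h₂.1, ?_⟩
  apply Groth.Agent.Lib.Helper10.RelCartier.flat_of_forall f (𝓘₁ * 𝓘₂)
  intro x _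
  obtain ⟨V, U, hxU, e, a, b, ha, hb, hIa, hIb⟩ :=
    Groth.Agent.Lib.Helper10.RelCartier.exists_common_affine f 𝓘₁ 𝓘₂ h₁.1 h₂.1 x
  have h2 : (𝓘₁ * 𝓘₂).ideal U = Ideal.span {a * b} := by
    rw [AlgebraicGeometry.Scheme.IdealSheafData.ideal_mul, Pi.mul_apply, hIa, hIb,
      Ideal.span_singleton_mul_span_singleton]
  refine ⟨V, U, hxU, e, _, h2, ?_⟩
  haveI := h₁.2
  haveI := h₂.2
  have F1 := Groth.Agent.Lib.Helper10.RelCartier.flat_quotient_of_flat f 𝓘₁ V U e _ hIa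
  have F2 := Groth.Agent.Lib.Helper10.RelCartier.flat_quotient_of_flat f 𝓘₂ V U e _ hIb
  exact Groth.Agent.Lib.Helper10.RelCartier.ringHom_flat_quot_mul _ a b ha F1 F2

end Groth.Agent.S1702
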