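import Groth.Statements.S17023
import Mathlib
import Groth.Agent.Lib.Helper4.HznDVR
import Groth.Agent.Lib.Helper21.AdicNoetherian

set_option autoImplicit false
universe u
open FlatMor

namespace Groth.Agent.S17023

open IsLocalRing

section
variable (B : Type u) [CommRing B] [IsDomain B] [IsDiscreteValuationRing B]

abbrev Bh := AdicCompletion (maximalIdeal B) B

instance : IsNoetherianRing (Bh B) :=
  haveI : IsNoetherianRing (B ⧸ maximalIdeal B) := inferInstance
  Groth.Agent.Lib.Helper21.isNoetherianRing_adicCompletion_of_fg _ (IsNoetherian.noetherian _)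

instance : Module.FaithfullyFlat B (Bh B) := Module.FaithfullyFlat.of_flat_of_isLocalHom

theorem dvr_Bh : ∃ _ : IsDomain (Bh B), IsDiscreteValuationRing (Bh B) :=
  (Groth.Agent.Lib.Helper4.Hzn.dvr_iff_of_faithfullyFlat_local B (Bh B)
    AdicCompletion.maximalIdeal_eq_map.symm).1 ⟨inferInstance, inferInstance⟩

end

theorem main
    (B : Type u) [CommRing B] [IsDomain B] [IsDiscreteValuationRing B]
    (A : Type u) [CommRing A] [Algebra B A]
    (p : Ideal A) [p.IsPrime] (hp : p.comap (algebraMap B A) = IsLocalRing.maximalIdeal B)
    [Algebra.IsSmoothAt B p]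
    (hres : Function.Surjective ((algebraMap A p.ResidueField).comp (algebraMap B A))) :
    ∃ (B' : Type u) (_ : CommRing B') (_ : IsDomain B') (_ : IsDiscreteValuationRing B') (ψ : A →+* B'),
      Ideal.comap ψ (IsLocalRing.maximalIdeal B') = p ∧
      Function.Injective (ψ.comp (algebraMap B A)) ∧
      Ideal.map (ψ.comp (algebraMap B A)) (IsLocalRing.maximalIdeal B) = IsLocalRing.maximalIdeal B' ∧
      Function.Surjective ((IsLocalRing.residue B').comp (ψ.comp (algebraMap B A))) := by
  obtain ⟨hdom, hdvr⟩ := dvr_Bh B
  -- the residue map as a B-algebra map onto κ(p), with kernel 𝔪_B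
  let ρ : B →ₐ[B] p.ResidueField := Algebra.ofId B p.ResidueField
  have hρ : ∀ b, ρ b = algebraMap A p.ResidueField (algebraMap B A b) := by
    intro b
    simp only [ρ, Algebra.ofId_apply]
    exact IsScalarTower.algebraMap_apply B A p.ResidueField b
  have hρsurj : Function.Surjective ρ := by
    intro x
    obtain ⟨b, hb⟩ := hres x
    exact ⟨b, by rw [hρ]; exact hb⟩
  have hker : RingHom.ker ρ = maximalIdeal B := by
    rw [← hp]
    ext b
    rw [RingHom.mem_ker, hρ, Ideal.mem_comap, Ideal.algebraMap_residueField_eq_zero]
  let e : (B ⧸ RingHom.ker ρ) ≃ₐ[B] p.ResidueField := Ideal.quotientKerAlgEquivOfSurjective hρsurj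
  let e' : (B ⧸ maximalIdeal B) ≃ₐ[B] p.ResidueField :=
    (Ideal.quotientEquivAlgOfEq B hker.symm).trans e
  let f : Localization.AtPrime p →ₐ[B] B ⧸ maximalIdeal B :=
    (e'.symm : p.ResidueField →ₐ[B] B ⧸ maximalIdeal B).comp
      (IsScalarTower.toAlgHom B (Localization.AtPrime p) p.ResidueField)
  haveI : Algebra.FormallySmooth B (Localization.AtPrime p) := ‹Algebra.IsSmoothAt B p›
  obtain ⟨g, hg⟩ := Algebra.FormallySmooth.exists_adicCompletionEvalOneₐ_comp_eq
    (R := B) (A := Localization.AtPrime p) (S := B) (I := maximalIdeal B) f
  let ψ : A →+* Bh B := (g : Localization.AtPrime p →+* Bh B).comp (algebraMap A (Localization.AtPrime p))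
  have hψB : ψ.comp (algebraMap B A) = algebraMap B (Bh B) := by
    refine RingHom.ext fun b => ?_
    simp only [ψ, RingHom.comp_apply]
    rw [← IsScalarTower.algebraMap_apply B A (Localization.AtPrime p)]
    exact g.commutes b
  have hmem : ∀ x : Bh B, x ∈ maximalIdeal (Bh B) ↔ AdicCompletion.evalOneₐ (maximalIdeal B) x = 0 := by
    intro x
    rw [AdicCompletion.maximalIdeal_eq_map,
      ← AdicCompletion.ker_evalOneₐ_eq_map (maximalIdeal B) (IsNoetherian.noetherian _)]
    exact RingHom.mem_ker
  have hgf : ∀ x, AdicCompletion.evalOneₐ (maximalIdeal B) (g x) = f x := fun x => congr($hg x)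
  refine ⟨Bh B, inferInstance, hdom, hdvr, ψ, ?_, ?_, ?_, ?_⟩
  · ext a
    rw [Ideal.mem_comap, hmem]
    simp only [ψ, RingHom.comp_apply]
    change AdicCompletion.evalOneₐ (maximalIdeal B) (g (algebraMap A (Localization.AtPrime p) a)) = 0 ↔ _
    rw [hgf]
    simp only [f, AlgHom.comp_apply]
    change e'.symm _ = 0 ↔ _
    rw [map_eq_zero_iff _ e'.symm.injective]
    change algebraMap (Localization.AtPrime p) p.ResidueField (algebraMap A (Localization.AtPrime p) a) = 0 ↔ _
    rw [← IsScalarTower.algebraMap_apply A (Localization.AtPrime p) p.ResidueField,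
      Ideal.algebraMap_residueField_eq_zero]
  · rw [hψB]
    exact AdicCompletion.of_injective (maximalIdeal B) B
  · rw [hψB]
    exact AdicCompletion.maximalIdeal_eq_map.symm
  · rw [hψB]
    intro y
    obtain ⟨x, rfl⟩ := IsLocalRing.residue_surjective y
    obtain ⟨b, hb⟩ := Ideal.Quotient.mk_surjective (AdicCompletion.evalOneₐ (maximalIdeal B) x)
    refine ⟨b, ?_⟩
    rw [RingHom.comp_apply, eq_comm, ← sub_eq_zero, ← map_sub, IsLocalRing.residue_eq_zero_iff, hmem,
      map_sub, sub_eq_zero, ← hb]
    exact (congr($(AdicCompletion.evalOneₐ_comp_algebraMap_eq_mk (maximalIdeal B)) b)).symm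


/-- Let B be a discrete valuation ring, A a B-algebra of finite type and p a prime ideal of A which lies
over the maximal ideal of B (a point of the special fibre), at which A is smooth over B (the
localization A_p is formally smooth over B), and such that B maps onto the residue field κ(p). Then
there are a discrete valuation ring B' and a ring map ψ : A → B' pulling the maximal ideal of B'
back to p, such that the composite B → A → B' is injective, the maximal ideal of B generates the
maximal ideal of B', and B maps onto the residue field of B'; in other words Spec B' → Spec A → Spec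
B is surjective and unramified with trivial residue field extension. (The published statement does
not say that the closed point of Spec B' goes to p; it is required here. The published setting takes
A essentially of finite type over a field of characteristic zero; here A is taken of finite type
over B, with no ground field.) -/
theorem result
    (B : Type u) [CommRing B] [IsDomain B] [IsDiscreteValuationRing B]
    (A : Type u) [CommRing A] [Algebra B A] [Algebra.FiniteType B A]
    (p : Ideal A) [p.IsPrime] (hp : p.comap (algebraMap B A) = IsLocalRing.maximalIdeal B)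
    [Algebra.IsSmoothAt B p]
    (hres : Function.Surjective ((algebraMap A p.ResidueField).comp (algebraMap B A))) :
    ∃ (B' : Type u) (_ : CommRing B') (_ : IsDomain B') (_ : IsDiscreteValuationRing B') (ψ : A →+* B'),
      Ideal.comap ψ (IsLocalRing.maximalIdeal B') = p ∧
      Function.Injective (ψ.comp (algebraMap B A)) ∧
      Ideal.map (ψ.comp (algebraMap B A)) (IsLocalRing.maximalIdeal B) = IsLocalRing.maximalIdeal B' ∧
      Function.Surjective ((IsLocalRing.residue B').comp (ψ.comp (algebraMap B A))) := by
  exact main B A p hp hres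

end Groth.Agent.S17023
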