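import Groth.Statements.S17065
import Mathlib

set_option autoImplicit false
universe u
open CAlg

namespace Groth.Agent.S17065

/-- The local algebraic statement its proof establishes: let A be a Noetherian ring, I ≤ J radical
ideals and Â the J-adic completion of A. If J^n Â ⊆ I Â for some n, then the closed set V(J) is open
inside V(I) ⊆ Spec A. (Globally: if X₂ ⊆ X₁ are the completions of a locally Noetherian scheme along
nested closed subsets Z₂ ⊆ Z₁ and the ideal of Z₁ generates an ideal of definition of X₂, then X₂ is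
a union of connected components of X₁.) -/
theorem result (A : Type u) [CommRing A] [IsNoetherianRing A]
    (I J : Ideal A) (hIJ : I ≤ J) (hI : I.IsRadical) (hJ : J.IsRadical) (n : ℕ)
    (h : (J ^ n).map (algebraMap A (AdicCompletion J A)) ≤ I.map (algebraMap A (AdicCompletion J A))) :
    IsOpen ((fun x : PrimeSpectrum.zeroLocus (I : Set A) => (x : PrimeSpectrum A)) ⁻¹'
      PrimeSpectrum.zeroLocus (J : Set A)) := by
  open PrimeSpectrum in
  -- Step 1: J^n ≤ I ⊔ J^(n+1)
  have h1 : J ^ n ≤ I ⊔ J ^ (n + 1) := by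
    intro x hx
    have hx' : algebraMap A (AdicCompletion J A) x ∈
        I.map (algebraMap A (AdicCompletion J A)) := h (Ideal.mem_map_of_mem _ hx)
    have h2 : (AdicCompletion.evalₐ J (n + 1) : AdicCompletion J A →+* A ⧸ J ^ (n + 1))
        (algebraMap A _ x) ∈ (I.map (algebraMap A (AdicCompletion J A))).map
          (AdicCompletion.evalₐ J (n + 1) : AdicCompletion J A →+* A ⧸ J ^ (n + 1)) :=
      Ideal.mem_map_of_mem _ hx'
    rw [Ideal.map_map] at h2
    have h3 : ((AdicCompletion.evalₐ J (n + 1) : AdicCompletion J A →+* A ⧸ J ^ (n + 1)).comp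
        (algebraMap A (AdicCompletion J A))) = Ideal.Quotient.mk (J ^ (n + 1)) := by
      ext a
      simp
    rw [h3] at h2
    have h4 : (AdicCompletion.evalₐ J (n + 1) : AdicCompletion J A →+* A ⧸ J ^ (n + 1))
        (algebraMap A _ x) = Ideal.Quotient.mk (J ^ (n + 1)) x := by
      simp
    rw [h4] at h2
    have h5 := Ideal.mem_comap.mpr h2
    rw [Ideal.comap_map_of_surjective _ Ideal.Quotient.mk_surjective,
      ← RingHom.ker_eq_comap_bot, Ideal.mk_ker] at h5
    exact h5
  -- Step 2: Nakayama in A ⧸ I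
  have hfg : (Submodule.map I.mkQ (J ^ n)).FG :=
    (IsNoetherian.noetherian (J ^ n)).map _
  have hle : Submodule.map I.mkQ (J ^ n) ≤ J • Submodule.map I.mkQ (J ^ n) := by
    rw [← Submodule.map_smul'']
    have e1 : J • (J ^ n : Submodule A A) = (J ^ (n + 1) : Ideal A) := by
      rw [smul_eq_mul, ← pow_succ']
    rw [e1]
    calc Submodule.map I.mkQ (J ^ n) ≤ Submodule.map I.mkQ (I ⊔ J ^ (n + 1)) :=
          Submodule.map_mono h1
      _ = Submodule.map I.mkQ (J ^ (n + 1)) := by
          rw [Submodule.map_sup, Submodule.mkQ_map_self, bot_sup_eq]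
  obtain ⟨r, hr1, hr2⟩ :=
    Submodule.exists_sub_one_mem_and_smul_eq_zero_of_fg_of_le_smul J _ hfg hle
  have hr3 : ∀ x ∈ J ^ n, r * x ∈ I := by
    intro x hx
    have := hr2 (I.mkQ x) ⟨x, hx, rfl⟩
    rw [← map_smul, smul_eq_mul] at this
    exact (Submodule.Quotient.mk_eq_zero I).mp this
  -- Step 3
  have hset : (fun x : zeroLocus (I : Set A) => (x : PrimeSpectrum A)) ⁻¹'
      zeroLocus (J : Set A) = (fun x : zeroLocus (I : Set A) => (x : PrimeSpectrum A)) ⁻¹'
      (basicOpen r : Set (PrimeSpectrum A)) := by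
    ext ⟨p, hp⟩
    simp only [Set.mem_preimage, mem_zeroLocus, SetLike.coe_subset_coe, SetLike.mem_coe,
      mem_basicOpen]
    rw [mem_zeroLocus, SetLike.coe_subset_coe] at hp
    constructor
    · intro hJp hrp
      have : (1 : A) ∈ p.asIdeal := by
        have := p.asIdeal.sub_mem hrp (hJp hr1)
        simpa using this
      exact (Ideal.ne_top_iff_one _).mp p.isPrime.ne_top this
    · intro hrp x hx
      have h6 : r * x ^ n ∈ I := hr3 (x ^ n) (Ideal.pow_mem_pow hx n)
      rcases p.isPrime.mem_or_mem (hp h6) with h | h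
      · exact absurd h hrp
      · exact p.isPrime.mem_of_pow_mem n h
  rw [hset]
  exact (basicOpen r).isOpen.preimage continuous_subtype_val


end Groth.Agent.S17065
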