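import Groth.Statements.S17075
import Mathlib

set_option autoImplicit false
universe u
open CategoryTheory CategoryTheory.Limits AlgebraicGeometry
open MorSch

namespace Groth.Agent.S17075

/-- Let g : X → S be a proper morphism, i : V → X a closed immersion and j : U → X an open immersion.
Then there is an open subset S₀ of S such that, for every scheme S' and every morphism f : S' → S,
the image of f lies in S₀ if and only if the base change V ×_S S' → X ×_S S' of i factors through
the open subscheme U ×_S S', equivalently the composite V ×_S S' → V → X has image contained in the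
image of j. -/
theorem result
    {V X U S : Scheme.{u}} (g : X ⟶ S) [IsProper g] (i : V ⟶ X) [IsClosedImmersion i]
    (j : U ⟶ X) [IsOpenImmersion j] :
    ∃ S₀ : S.Opens, ∀ (S' : Scheme.{u}) (f : S' ⟶ S),
      Set.range f ⊆ (S₀ : Set S) ↔
        Set.range (pullback.fst (i ≫ g) f ≫ i) ⊆ Set.range j := by
  have hcl : IsClosed ((g : X → S) '' (Set.range i \ Set.range j)) := by
    apply g.isClosedMap
    exact i.isClosedEmbedding.isClosed_range.sdiff j.isOpenEmbedding.isOpen_range
  refine ⟨⟨((g : X → S) '' (Set.range i \ Set.range j))ᶜ, hcl.isOpen_compl⟩, ?_⟩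
  intro S' f
  constructor
  · rintro hf _ ⟨w, rfl⟩
    by_contra hx
    have hmem : g ((pullback.fst (i ≫ g) f ≫ i) w) ∈
        (g : X → S) '' (Set.range i \ Set.range j) :=
      ⟨_, ⟨⟨pullback.fst (i ≫ g) f w, by simp⟩, hx⟩, rfl⟩
    have hcond : g ((pullback.fst (i ≫ g) f ≫ i) w) = f (pullback.snd (i ≫ g) f w) := by
      have := congrArg (fun φ : pullback (i ≫ g) f ⟶ S => φ w) (pullback.condition (f := i ≫ g) (g := f))
      simpa using this
    rw [hcond] at hmem
    exact hf ⟨_, rfl⟩ hmem
  · rintro h _ ⟨s', rfl⟩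
    show f s' ∈ ((g : X → S) '' (Set.range i \ Set.range j))ᶜ
    rintro ⟨x, ⟨⟨v, rfl⟩, hxj⟩, hgx⟩
    obtain ⟨w, hw1, hw2⟩ := Scheme.Pullback.exists_preimage_pullback (f := i ≫ g) (g := f) v s'
      (by simpa using hgx)
    apply hxj
    have := h ⟨w, rfl⟩
    simpa [hw1] using this


end Groth.Agent.S17075
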