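import Groth.Statements.S17078
import Groth.Agent.Lib.Helper28.BinaryForms

set_option autoImplicit false
universe u
open RatCurve

namespace Groth.Agent.S17078

/-- Let k be an algebraically closed field and F_0, …, F_{n-1} homogeneous polynomials of degree d in
k[u, v]. Then the F_i have no common factor other than units if and only if there is an integer m ≥
d such that every homogeneous polynomial of degree m can be written Σ_i F_i G_i with each G_i
homogeneous of degree m − d, i.e. the k-linear map (G_i)_i ↦ Σ_i F_i G_i from n copies of k[u,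
v]_{m−d} to k[u, v]_m is surjective. -/
theorem result
    {k : Type u} [Field k] [IsAlgClosed k] {n : ℕ} (F : Fin n → MvPolynomial (Fin 2) k)
    (d : ℕ) (hF : ∀ i, (F i).IsHomogeneous d) :
    (¬ ∃ H : MvPolynomial (Fin 2) k, ¬ IsUnit H ∧ ∀ i, H ∣ F i) ↔
      ∃ m : ℕ, d ≤ m ∧ ∀ P : MvPolynomial (Fin 2) k, P.IsHomogeneous m →
        ∃ G : Fin n → MvPolynomial (Fin 2) k, (∀ i, (G i).IsHomogeneous (m - d)) ∧
          P = ∑ i, F i * G i := by
  constructor
  · intro hno
    apply Groth.Agent.Lib.Helper28.surjective_of_no_common_zero F d hF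
    intro a ha
    by_contra hne
    exact hno ⟨Groth.Agent.Lib.Helper28.linForm a, Groth.Agent.Lib.Helper28.not_isUnit_linForm a,
      fun i => Groth.Agent.Lib.Helper28.linForm_dvd_of_eval_eq_zero (hF i) a hne (ha i)⟩
  · rintro ⟨m, -, hm⟩ ⟨H, hH, hdvd⟩
    obtain ⟨a, ha, ha0⟩ := Groth.Agent.Lib.Helper28.exists_ne_zero_eval_eq_zero hH
    obtain ⟨j, hj⟩ : ∃ j, a j ≠ 0 := by
      by_contra hcon
      push Not at hcon
      exact ha (funext hcon)
    obtain ⟨G, -, hG⟩ := hm (MvPolynomial.X j ^ m) (MvPolynomial.isHomogeneous_X_pow j m)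
    have h1 := congrArg (MvPolynomial.eval a) hG
    rw [map_pow, MvPolynomial.eval_X, map_sum] at h1
    have h2 : ∀ i, MvPolynomial.eval a (F i * G i) = 0 := by
      intro i
      obtain ⟨G', hG'⟩ := hdvd i
      rw [map_mul, hG', map_mul, ha0, zero_mul, zero_mul]
    rw [Finset.sum_congr rfl (fun i _ => h2 i), Finset.sum_const_zero] at h1
    exact hj (eq_zero_of_pow_eq_zero h1)


end Groth.Agent.S17078
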