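import Groth.Statements.S17079
import Mathlib

set_option autoImplicit false
universe u
open CategoryTheory CategoryTheory.Limits AlgebraicGeometry
open MorSch

namespace Groth.Agent.S17079

universe v' u'
variable {C : Type u'} [Category.{v'} C] [HasPullbacks C]

/-- adjunction transfer of representability -/
def reprOfAdj {C D : Type*} [Category C] [Category D] {L : C ⥤ D} {R : D ⥤ C} (adj : L ⊣ R)
    (F : Dᵒᵖ ⥤ Type v') (M : D) (e : F.RepresentableBy M) : (L.op ⋙ F).RepresentableBy (R.obj M) where
  homEquiv {T} := ((adj.homEquiv T M).symm).trans e.homEquiv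
  homEquiv_comp {T T'} f g := by
    simp only [Equiv.trans_apply, Functor.comp_map, Functor.op_map]
    rw [Adjunction.homEquiv_naturality_left_symm, e.homEquiv_comp]
    rfl

noncomputable def phiIso0 {X S S' T : C} (gX : X ⟶ S) (h : S' ⟶ S) (t : T ⟶ S') :
    pullback t (pullback.snd gX h) ≅ pullback (t ≫ h) gX where
  hom := pullback.lift (pullback.fst _ _) (pullback.snd _ _ ≫ pullback.fst _ _)
        (by simp [pullback.condition, pullback.condition_assoc])
  inv := pullback.lift (pullback.fst _ _)
        (pullback.lift (pullback.snd _ _) (pullback.fst _ _ ≫ t)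
          (by simpa using (pullback.condition (f := t ≫ h) (g := gX)).symm))
          (by simp [pullback.lift_snd])
  hom_inv_id := by
        apply pullback.hom_ext
        · simp [pullback.lift_fst]
        · apply pullback.hom_ext
          · simp [pullback.lift_fst, pullback.lift_snd]
          · simp [pullback.lift_snd, pullback.lift_fst_assoc, pullback.condition]
  inv_hom_id := by
        apply pullback.hom_ext <;> simp [pullback.lift_fst, pullback.lift_snd, pullback.lift_snd_assoc]

noncomputable def phiIso {X S S' : C} (gX : X ⟶ S) (h : S' ⟶ S) (T : Over S') :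
    (Over.map h).obj ((Over.map (pullback.snd gX h)).obj ((Over.pullback (pullback.snd gX h)).obj T)) ≅
      (Over.map gX).obj ((Over.pullback gX).obj ((Over.map h).obj T)) :=
  Over.isoMk (phiIso0 gX h T.hom) (by
    dsimp [phiIso0]
    simp [pullback.lift_snd_assoc, pullback.condition])

theorem phiIso_hom_left {X S S' : C} (gX : X ⟶ S) (h : S' ⟶ S) (T : Over S') :
    (phiIso gX h T).hom.left = (phiIso0 gX h T.hom).hom := rfl

theorem phiIso_naturality {X S S' : C} (gX : X ⟶ S) (h : S' ⟶ S) {T T' : Over S'} (f : T ⟶ T') :
    (Over.map h).map ((Over.map (pullback.snd gX h)).map ((Over.pullback (pullback.snd gX h)).map f)) ≫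
      (phiIso gX h T').hom =
    (phiIso gX h T).hom ≫ (Over.map gX).map ((Over.pullback gX).map ((Over.map h).map f)) := by
  apply Over.OverMorphism.ext
  dsimp
  rw [phiIso_hom_left, phiIso_hom_left]
  dsimp [phiIso0]
  apply pullback.hom_ext <;>
    simp [pullback.lift_fst, pullback.lift_snd, pullback.lift_snd_assoc, pullback.lift_fst_assoc]

noncomputable def morEquiv {X Y S S' : C} (gX : X ⟶ S) (gY : Y ⟶ S) (h : S' ⟶ S) (T : Over S') :
    ((Over.map gX).obj ((Over.pullback gX).obj ((Over.map h).obj T)) ⟶ Over.mk gY) ≃
      ((Over.map (pullback.snd gX h)).obj ((Over.pullback (pullback.snd gX h)).obj T) ⟶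
        (Over.pullback h).obj (Over.mk gY)) where
  toFun x := (Over.mapPullbackAdj h).homEquiv _ _ ((phiIso gX h T).hom ≫ x)
  invFun y := (phiIso gX h T).inv ≫ ((Over.mapPullbackAdj h).homEquiv _ _).symm y
  left_inv x := by simp
  right_inv y := by simp

theorem aux {X Y S S' : C} (gX : X ⟶ S) (gY : Y ⟶ S) (h : S' ⟶ S) (M : Over S)
    (e : ((Over.pullback gX ⋙ Over.map gX).op ⋙ yoneda.obj (Over.mk gY)).RepresentableBy M) :
    Nonempty (((Over.pullback (pullback.snd gX h) ⋙ Over.map (pullback.snd gX h)).op ⋙
      yoneda.obj (Over.mk (pullback.snd gY h))).RepresentableBy (Over.mk (pullback.snd M.hom h))) := by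
  refine ⟨(reprOfAdj (Over.mapPullbackAdj h) _ M e).ofIso ?_⟩
  refine NatIso.ofComponents (fun T => (morEquiv gX gY h T.unop).toIso) ?_
  intro T T' f
  ext x
  show (Over.mapPullbackAdj h).homEquiv _ _ ((phiIso gX h T'.unop).hom ≫
      (Over.map gX).map ((Over.pullback gX).map ((Over.map h).map f.unop)) ≫ x) =
    (Over.map (pullback.snd gX h)).map ((Over.pullback (pullback.snd gX h)).map f.unop) ≫
      (Over.mapPullbackAdj h).homEquiv _ _ ((phiIso gX h T.unop).hom ≫ x)
  rw [← Adjunction.homEquiv_naturality_left, ← Category.assoc, ← Category.assoc, phiIso_naturality]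

/-- Let gX : X → S and gY : Y → S be morphisms and suppose the functor Mor_S(X, Y) — sending an S-scheme
T to the set of S-morphisms T ×_S X → Y, with base change as transition maps — is represented by an
S-scheme M. Then for every morphism h : S' → S the functor Mor_{S'}(X ×_S S', Y ×_S S') on
S'-schemes is represented by M ×_S S'. (The published statement assumes X and Y projective over S
with X flat and S, S' locally Noetherian; this row assumes only that the functor is represented by
M. Only the existence of a representing structure on M ×_S S' is asserted, not its compatibility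
with the one on M.) -/
theorem result
    {X Y S S' : Scheme.{u}} (gX : X ⟶ S) (gY : Y ⟶ S) (h : S' ⟶ S)
    (M : Over S) (e : (Flatn.morS gX gY).RepresentableBy M) :
    Nonempty ((Flatn.morS (pullback.snd gX h) (pullback.snd gY h)).RepresentableBy
      (Over.mk (pullback.snd M.hom h))) := by
  exact aux gX gY h M e

end Groth.Agent.S17079
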