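import Groth.Statements.S17084
import Mathlib.AlgebraicGeometry.Limits
import Mathlib.CategoryTheory.Extensive

set_option autoImplicit false
universe u
open CategoryTheory CategoryTheory.Limits AlgebraicGeometry
open MorSch

namespace Groth.Agent.S17084

/-- Let (X_i)_{i ∈ ι} be a finite family of schemes over S with structure morphisms g_i : X_i → S, let Y
→ S be a scheme over S and T an S-scheme. Then for every family of S-morphisms a_i : T ×_S X_i → Y
there is a unique S-morphism b : T ×_S (∐_i X_i) → Y whose restriction along each T ×_S X_i → T ×_S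
(∐_i X_i) is a_i. In other words the canonical map Mor_S(∐_i X_i, Y) → ∏_i Mor_S(X_i, Y) of functors
on S-schemes is an isomorphism. -/
theorem result
    {S Y : Scheme.{u}} {ι : Type u} [Finite ι] (X : ι → Scheme.{u}) (g : ∀ i, X i ⟶ S)
    (gY : Y ⟶ S) (T : Over S) (a : ∀ i, (Flatn.morS (g i) gY).obj (Opposite.op T)) :
    ∃! b : (Flatn.morS (Sigma.desc g) gY).obj (Opposite.op T),
      ∀ i, pullback.map T.hom (g i) T.hom (Sigma.desc g) (𝟙 T.left) (Sigma.ι X i) (𝟙 S)
          ((Category.comp_id _).trans (Category.id_comp _).symm)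
          ((Category.comp_id _).trans (Sigma.ι_desc g i).symm) ≫ b.left = (a i).left := by
  classical
  let m : ∀ i, pullback T.hom (g i) ⟶ pullback T.hom (Sigma.desc g) := fun i =>
    pullback.map T.hom (g i) T.hom (Sigma.desc g) (𝟙 T.left) (Sigma.ι X i) (𝟙 S)
      ((Category.comp_id _).trans (Category.id_comp _).symm)
      ((Category.comp_id _).trans (Sigma.ι_desc g i).symm)
  have hm1 : ∀ i, m i ≫ pullback.fst T.hom (Sigma.desc g) = pullback.fst T.hom (g i) :=
    fun i => (pullback.lift_fst _ _ _).trans (Category.comp_id _)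
  have hm2 : ∀ i, m i ≫ pullback.snd T.hom (Sigma.desc g) =
      pullback.snd T.hom (g i) ≫ Sigma.ι X i :=
    fun i => pullback.lift_snd _ _ _
  have hc : IsColimit (Cofan.mk (∐ X) (Sigma.ι X)) := coproductIsCoproduct X
  have hVK := FinitaryExtensive.isVanKampen_finiteCoproducts hc
  have hpb : ∀ i, IsPullback (m i) (pullback.snd T.hom (g i))
      (pullback.snd T.hom (Sigma.desc g)) (Sigma.ι X i) := by
    intro i
    refine IsPullback.of_right (h₁₂ := pullback.fst T.hom (Sigma.desc g)) (v₁₃ := T.hom)
      (h₂₂ := Sigma.desc g) ?_ ?_ (IsPullback.of_hasPullback T.hom (Sigma.desc g))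
    · have h1 : m i ≫ pullback.fst T.hom (Sigma.desc g) = pullback.fst T.hom (g i) := hm1 i
      have h2 : Sigma.ι X i ≫ Sigma.desc g = g i := Sigma.ι_desc g i
      rw [h1, h2]
      exact IsPullback.of_hasPullback T.hom (g i)
    · exact hm2 i
  let c' : Cofan (fun i => pullback T.hom (g i)) := Cofan.mk (pullback T.hom (Sigma.desc g)) m
  let α : Discrete.functor (fun i => pullback T.hom (g i)) ⟶ Discrete.functor X :=
    Discrete.natTrans (fun i => pullback.snd T.hom (g i.as))
  have hcol : Nonempty (IsColimit c') := by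
    refine (hVK c' α (pullback.snd T.hom (Sigma.desc g)) ?_
      (NatTrans.Equifibered.of_discrete α)).mpr ?_
    · ext ⟨i⟩
      simp only [c', α, NatTrans.comp_app, Discrete.natTrans_app, Cofan.mk_ι_app,
        Functor.const_map_app]
      exact (hm2 i).symm
    · rintro ⟨i⟩
      exact hpb i
  obtain ⟨hcol⟩ := hcol
  have hw : ∀ i, (a i).left ≫ gY = pullback.snd T.hom (g i) ≫ g i := fun i => Over.w (a i)
  let bl : pullback T.hom (Sigma.desc g) ⟶ Y :=
    Cofan.IsColimit.desc hcol (fun i => (a i).left)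
  have hbl : ∀ i, m i ≫ bl = (a i).left := fun i => Cofan.IsColimit.fac hcol _ i
  have hblw : bl ≫ gY = pullback.snd T.hom (Sigma.desc g) ≫ Sigma.desc g := by
    apply Cofan.IsColimit.hom_ext hcol
    intro i
    change m i ≫ bl ≫ gY = m i ≫ pullback.snd T.hom (Sigma.desc g) ≫ Sigma.desc g
    rw [reassoc_of% (hbl i), hw i, reassoc_of% (hm2 i), Sigma.ι_desc]
  refine ⟨(Over.homMk bl hblw :
    (Over.map (Sigma.desc g)).obj ((Over.pullback (Sigma.desc g)).obj T) ⟶ Over.mk gY), ?_, ?_⟩
  · intro i
    exact hbl i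
  · intro b' hb'
    apply Over.OverMorphism.ext
    apply Cofan.IsColimit.hom_ext hcol
    intro i
    change m i ≫ b'.left = m i ≫ bl
    rw [hbl i]
    exact hb' i

end Groth.Agent.S17084
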