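import Groth.Statements.S17086
import Groth.Agent.Lib.Helper21.P1b

set_option autoImplicit false
universe u
open CategoryTheory CategoryTheory.Limits AlgebraicGeometry
open RatCurve

namespace Groth.Agent.S17086

/-- Let k be an algebraically closed field, X a closed subscheme of P^n_k, Z ⊆ X a closed subscheme and
σ : B → X a blow-up of X along Z (the inverse image ideal of Z is effective Cartier and σ is final
with this property). Then every k-morphism f : P^1_k → X whose image is not contained in Z lifts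
uniquely along σ: there is exactly one morphism g : P^1_k → B with g ≫ σ = f. Equivalently, over the
open locus of morphisms meeting X ∖ Z, the morphism Mor(P^1_k, B) → Mor(P^1_k, X) induced by σ is a
bijection on k-points. -/
theorem result
    {k : Type u} [Field k] [IsAlgClosed k] {n : ℕ} (X : Scheme.{u})
    (c : X ⟶ CohB1.ProjSpace n k) [IsClosedImmersion c]
    (Z : Scheme.{u}) (iZ : Z ⟶ X) [IsClosedImmersion iZ]
    (B : Scheme.{u}) (σ : B ⟶ X) (hσ : BlowUp.IsBlowUp σ iZ.ker)
    (f : CohB1.ProjSpace 1 k ⟶ X)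
    (hf : f ≫ c ≫ CohB1.ProjSpace.toSpec n k = CohB1.ProjSpace.toSpec 1 k)
    (hfZ : ¬ Set.range f ⊆ Set.range iZ) :
    ∃! g : CohB1.ProjSpace 1 k ⟶ B, g ≫ σ = f := by
  classical
  have hcart : BlowUp.IsEffCartierIdeal (iZ.ker.comap f) := by
    intro x
    obtain ⟨i, hi⟩ := Groth.Agent.Lib.Helper21.P1.exists_mem_stdOpen k x
    let U : (CohB1.ProjSpace 1 k).affineOpens :=
      ⟨Groth.Agent.Lib.Helper21.P1.stdOpen k i, Groth.Agent.Lib.Helper21.P1.isAffineOpen_stdOpen k i⟩
    refine ⟨U, hi, ?_⟩
    let e : Γ(CohB1.ProjSpace 1 k, Groth.Agent.Lib.Helper21.P1.stdOpen k i) ≃+* Polynomial k :=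
      Groth.Agent.Lib.Helper21.P1.sectionPoly k i
    have hdom : IsDomain Γ(CohB1.ProjSpace 1 k, Groth.Agent.Lib.Helper21.P1.stdOpen k i) :=
      e.toMulEquiv.isDomain (Polynomial k)
    have hPID : IsPrincipalIdealRing Γ(CohB1.ProjSpace 1 k, Groth.Agent.Lib.Helper21.P1.stdOpen k i) :=
      IsPrincipalIdealRing.of_surjective e.symm.toRingHom e.symm.surjective
    obtain ⟨g, hg⟩ := (hPID.principal ((iZ.ker.comap f).ideal U)).principal
    have hg' : (iZ.ker.comap f).ideal U = Ideal.span {g} := hg
    refine ⟨g, ?_, hg'⟩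
    rw [mem_nonZeroDivisors_iff_ne_zero]
    rintro rfl
    apply hfZ
    -- the open `U` lies in the closed set `f ⁻¹ (range iZ)`
    have hsupp : ((iZ.ker.comap f).support : Set (CohB1.ProjSpace 1 k)) = f ⁻¹' (Set.range iZ) := by
      rw [Scheme.IdealSheafData.support_comap]
      show f ⁻¹' (iZ.ker.support : Set X) = _
      rw [Scheme.Hom.support_ker, (Scheme.Hom.isClosedEmbedding iZ).isClosed_range.closure_eq]
    have hUsub : ((U : (CohB1.ProjSpace 1 k).Opens) : Set (CohB1.ProjSpace 1 k)) ⊆
        f ⁻¹' (Set.range iZ) := by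
      intro y hy
      rw [← hsupp]
      show y ∈ (iZ.ker.comap f).support
      rw [Scheme.IdealSheafData.mem_support_iff_of_mem (U := U) hy, hg',
        Scheme.mem_zeroLocus_iff]
      intro a ha
      have ha0 : a = 0 := by
        have : a ∈ Ideal.span ({0} : Set _) := ha
        rwa [Ideal.span_singleton_eq_bot.mpr rfl, Ideal.mem_bot] at this
      rw [ha0, Scheme.basicOpen_zero]
      exact fun h => h
    have hcl : IsClosed (f ⁻¹' (Set.range iZ)) :=
      (Scheme.Hom.isClosedEmbedding iZ).isClosed_range.preimage f.continuous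
    have hne : ((U : (CohB1.ProjSpace 1 k).Opens) : Set (CohB1.ProjSpace 1 k)).Nonempty := by
      obtain ⟨⟨y, hy⟩⟩ := Groth.Agent.Lib.Helper21.P1.stdOpen_nonempty k i
      exact ⟨y, hy⟩
    have hdense : Dense ((U : (CohB1.ProjSpace 1 k).Opens) : Set (CohB1.ProjSpace 1 k)) :=
      (U : (CohB1.ProjSpace 1 k).Opens).2.dense hne
    have huniv : f ⁻¹' (Set.range iZ) = Set.univ := by
      rw [← Set.univ_subset_iff, ← hdense.closure_eq]
      exact hcl.closure_subset_iff.mpr hUsub
    rintro _ ⟨y, rfl⟩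
    have : y ∈ f ⁻¹' (Set.range iZ) := by rw [huniv]; trivial
    exact this
  exact hσ.2 _ f hcart

end Groth.Agent.S17086
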