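import Groth.Statements.S17087
import Groth.Agent.Lib.Helper14.MorHilb3

set_option autoImplicit false
universe u
open CategoryTheory CategoryTheory.Limits AlgebraicGeometry
open MorSch

namespace Groth.Agent.S17087

/-- Let S be a locally Noetherian scheme, gX : X → S proper and flat, gY : Y → S separated, and (H, Z) a
pair representing the Hilbert functor of X ×_S Y over S on locally Noetherian S-schemes (H locally
Noetherian; Z ⊆ (X ×_S Y) ×_S H closed, proper and flat over H; universal). For an S-morphism a : T
×_S X → Y write Γ_a : T ×_S X → (X ×_S Y) ×_S T for its graph, a closed immersion. Then there is an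
open subset H₀ of H such that, for every locally Noetherian S-scheme T: every S-morphism a : T ×_S X
→ Y has exactly one S-morphism g : T → H with image in H₀ along which Z pulls back to the closed
subscheme defined by Γ_a; and every S-morphism g : T → H with image in H₀ pulls Z back to the graph
of exactly one such a. Thus the functor Mor_S(X, Y) on locally Noetherian S-schemes is represented
by the open subscheme H₀ of the Hilbert scheme of X ×_S Y, the universal family being a graph.
(Published for X and Y projective over S, with X flat; the Hilbert scheme is taken as given here.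
The published statement also asserts that each irreducible component of the representing scheme is
of finite type over S; that clause is not part of this row.) -/
theorem result
    {X Y S : Scheme.{u}} [IsLocallyNoetherian S] (gX : X ⟶ S) [IsProper gX] [Flat gX]
    (gY : Y ⟶ S) [IsSeparated gY]
    (H : Over S) (Z : FGA.HilbSet (pullback.fst gX gY ≫ gX) H)
    (hH : FGA.HilbRepresentedBy (pullback.fst gX gY ≫ gX) H Z) :
    ∃ H₀ : H.left.Opens, ∀ (T : Over S) [IsLocallyNoetherian T.left],
      (∀ a : (Flatn.morS gX gY).obj (Opposite.op T),
        ∃! g : T ⟶ H, Set.range g.left ⊆ (H₀ : Set H.left) ∧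
          FGA.hilbPull (pullback.fst gX gY ≫ gX) g Z.1 =
            (pullback.lift
              (pullback.lift (pullback.snd T.hom gX) a.left (Over.w a).symm)
              (pullback.fst T.hom gX)
              ((pullback.lift_fst_assoc _ _ _ _).trans pullback.condition.symm)
              : pullback T.hom gX ⟶ PicF.XT (pullback.fst gX gY ≫ gX) T).ker) ∧
      (∀ g : T ⟶ H, Set.range g.left ⊆ (H₀ : Set H.left) →
        ∃! a : (Flatn.morS gX gY).obj (Opposite.op T),
          FGA.hilbPull (pullback.fst gX gY ≫ gX) g Z.1 =
            (pullback.lift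
              (pullback.lift (pullback.snd T.hom gX) a.left (Over.w a).symm)
              (pullback.fst T.hom gX)
              ((pullback.lift_fst_assoc _ _ _ _).trans pullback.condition.symm)
              : pullback T.hom gX ⟶ PicF.XT (pullback.fst gX gY ≫ gX) T).ker) := by
  open Groth.Agent.Lib.Helper14.MorHilb in
  obtain ⟨H₀, hH₀⟩ := exists_isoLocus gX gY H Z hH
  refine ⟨H₀, fun T _ => ⟨fun a => ?_, fun g hg => ?_⟩⟩
  · -- existence and uniqueness of the classifying map of a graph
    obtain ⟨g, hg, huniq⟩ := hH.2 T ⟨(graph gX gY T a).ker, graph_mem gX gY T a⟩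
    replace hg : FGA.hilbPull (pullback.fst gX gY ≫ gX) g Z.1 = (graph gX gY T a).ker := hg
    refine ⟨g, ⟨?_, hg⟩, fun g' hg' => huniq g' hg'.2⟩
    rw [hH₀ T g, hg]
    have e : (graph gX gY T a).ker.subschemeι ≫ prT gX gY T = inv (graph gX gY T a).toImage := by
      rw [← cancel_epi (graph gX gY T a).toImage, IsIso.hom_inv_id,
        Scheme.Hom.toImage_imageι_assoc, graph_prT]
    rw [e]
    infer_instance
  · -- a map into the iso locus classifies a unique graph
    haveI hφ : IsIso ((FGA.hilbPull (pullback.fst gX gY ≫ gX) g Z.1).subschemeι ≫ prT gX gY T) :=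
      (hH₀ T g).mp hg
    obtain ⟨I, hI⟩ : ∃ I, I = FGA.hilbPull (pullback.fst gX gY ≫ gX) g Z.1 := ⟨_, rfl⟩
    rw [← hI] at hφ ⊢
    obtain ⟨φ, hφe⟩ : ∃ φ, φ = I.subschemeι ≫ prT gX gY T := ⟨_, rfl⟩
    rw [← hφe] at hφ
    have hw : (inv φ ≫ I.subschemeι ≫ qY gX gY T) ≫ gY = pullback.snd T.hom gX ≫ gX := by
      have h1 : qY gX gY T ≫ gY = prT gX gY T ≫ pullback.snd T.hom gX ≫ gX :=
        (isPullback_prT gX gY T).w
      rw [Category.assoc, Category.assoc, h1, ← Category.assoc I.subschemeι, ← hφe,
        IsIso.inv_hom_id_assoc]
    let a : (Flatn.morS gX gY).obj (Opposite.op T) :=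
      Over.homMk (inv φ ≫ I.subschemeι ≫ qY gX gY T) hw
    have ha : a.left = inv φ ≫ I.subschemeι ≫ qY gX gY T := rfl
    have hφ1 : inv φ ≫ I.subschemeι ≫ prT gX gY T = 𝟙 _ := by rw [← hφe, IsIso.inv_hom_id]
    have hgr : graph gX gY T a = inv φ ≫ I.subschemeι := by
      apply pullback.hom_ext
      · apply pullback.hom_ext
        · have := congrArg (· ≫ pullback.snd T.hom gX) hφ1
          simp only [Category.assoc, Category.id_comp, prT_snd] at this
          simp only [graph, pullback.lift_fst, Category.assoc]
          exact this.symm
        · simp only [graph, pullback.lift_fst, pullback.lift_snd, ha, qY, Category.assoc]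
      · have := congrArg (· ≫ pullback.fst T.hom gX) hφ1
        simp only [Category.assoc, Category.id_comp, prT_fst] at this
        simp only [graph, pullback.lift_snd, Category.assoc]
        exact this.symm
    have hker : (graph gX gY T a).ker = I := by
      rw [hgr, Scheme.Hom.ker_comp_of_isIso, Scheme.IdealSheafData.ker_subschemeι]
    refine ⟨a, hker.symm, fun a' ha' => ?_⟩
    exact eq_of_ker_graph_eq gX gY T a' a (ha'.symm.trans hker.symm)

end Groth.Agent.S17087
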