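import Groth.Statements.S17088
import Mathlib
import Groth.Agent.Lib.Helper10.HilbLib2

set_option autoImplicit false
universe u
open CategoryTheory CategoryTheory.Limits AlgebraicGeometry
open MorSch

namespace Groth.Agent.S17088

set_option maxHeartbeats 4000000
set_option synthInstance.maxHeartbeats 400000

open PicF Groth.Agent.Lib.Helper10.HilbLib

theorem isClosedImmersion_comp_iT {W X S : Scheme.{u}} (f : X ⟶ S) [IsSeparated f] (ι : W ⟶ X)
    [IsImmersion ι] (T : Over S) (V : FGA.HilbSet (ι ≫ f) T) :
    IsClosedImmersion (V.1.subschemeι ≫ iT ι f T) := by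
  haveI : IsImmersion (iT ι f T) :=
    MorphismProperty.of_isPullback (P := @IsImmersion) (isPullback_iT ι f T).flip inferInstance
  haveI : IsProper ((V.1.subschemeι ≫ iT ι f T) ≫ XTproj f T) := by
    rw [Category.assoc, iT_snd]
    exact V.2.1
  haveI : IsSeparated (XTproj f T) := inferInstanceAs (IsSeparated (pullback.snd f T.hom))
  haveI : IsProper (V.1.subschemeι ≫ iT ι f T) :=
    IsProper.of_comp (V.1.subschemeι ≫ iT ι f T) (XTproj f T)
  exact IsClosedImmersion.of_isPreimmersion _
    (V.1.subschemeι ≫ iT ι f T).isClosedMap.isClosed_range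

/-- Let f : X → S be a separated morphism, ι : W → X an immersion and T an S-scheme. For every closed
subscheme V of W ×_S T which is proper and flat over T — a T-point of the Hilbert functor of W over
S — the composite V → W ×_S T → X ×_S T is a closed immersion, and the map sending V to the ideal
sheaf of this composite, from T-points of the Hilbert functor of W to ideal sheaves on X ×_S T, is
injective: an immersion induces a monomorphism of Hilbert functors. -/
theorem result
    {W X S : Scheme.{u}} (f : X ⟶ S) [IsSeparated f] (ι : W ⟶ X) [IsImmersion ι]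
    (T : Over S) :
    (∀ V : FGA.HilbSet (ι ≫ f) T,
      IsClosedImmersion (V.1.subschemeι ≫ pullback.map (ι ≫ f) T.hom f T.hom ι (𝟙 T.left) (𝟙 S)
          (Category.comp_id _) ((Category.comp_id _).trans (Category.id_comp _).symm))) ∧
    Function.Injective (fun V : FGA.HilbSet (ι ≫ f) T =>
      (V.1.subschemeι ≫ pullback.map (ι ≫ f) T.hom f T.hom ι (𝟙 T.left) (𝟙 S)
          (Category.comp_id _) ((Category.comp_id _).trans (Category.id_comp _).symm)).ker) := by
  refine ⟨fun V => isClosedImmersion_comp_iT f ι T V, ?_⟩
  intro V₁ V₂ h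
  change (V₁.1.subschemeι ≫ iT ι f T).ker = (V₂.1.subschemeι ≫ iT ι f T).ker at h
  haveI := isClosedImmersion_comp_iT f ι T V₁
  haveI := isClosedImmersion_comp_iT f ι T V₂
  haveI : IsImmersion (iT ι f T) :=
    MorphismProperty.of_isPullback (P := @IsImmersion) (isPullback_iT ι f T).flip inferInstance
  obtain ⟨e, he⟩ := exists_iso_of_ker_eq _ _ h
  have he' : e.hom ≫ V₂.1.subschemeι = V₁.1.subschemeι := by
    rw [← cancel_mono (iT ι f T), Category.assoc]
    exact he
  apply Subtype.ext
  rw [← Scheme.IdealSheafData.ker_subschemeι V₁.1, ← Scheme.IdealSheafData.ker_subschemeι V₂.1,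
    ← he', Scheme.Hom.ker_comp_of_isIso]

end Groth.Agent.S17088
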