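import Groth.Statements.S1710
import Groth.Agent.Lib.Helper10.RelCartier

set_option autoImplicit false
universe u
open CategoryTheory CategoryTheory.Limits AlgebraicGeometry TopologicalSpace
open SDiv

namespace Groth.Agent.S1710

/-- Let f : X ⟶ S be a morphism and 𝓘₁, 𝓘₂ ideal sheaves of effective Cartier divisors D₁ ⊆ D₂ on X,
both flat over S, and let 𝓘 be the ideal sheaf of an effective Cartier divisor D with D₂ = D₁ + D
(that is, 𝓘₁𝓘 = 𝓘₂). Then D is flat over S as well. -/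
theorem result {X S : Scheme.{u}} (f : X ⟶ S) (𝓘₁ 𝓘₂ 𝓘 : X.IdealSheafData)
    (h₁ : (BlowUp.IsEffCartierIdeal 𝓘₁ ∧ Flat (𝓘₁.subschemeι ≫ f))) (h₂ : (BlowUp.IsEffCartierIdeal 𝓘₂ ∧ Flat (𝓘₂.subschemeι ≫ f))) (h : BlowUp.IsEffCartierIdeal 𝓘) (hsum : 𝓘₁ * 𝓘 = 𝓘₂) :
    Flat (𝓘.subschemeι ≫ f) := by
  apply Groth.Agent.Lib.Helper10.RelCartier.flat_of_forall f 𝓘
  intro x _
  obtain ⟨V, U, hxU, e, a, b, ha, hb, hIa, hIb⟩ :=
    Groth.Agent.Lib.Helper10.RelCartier.exists_common_affine f 𝓘₁ 𝓘 h₁.1 h x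
  refine ⟨V, U, hxU, e, _, hIb, ?_⟩
  have h2 : 𝓘₂.ideal U = Ideal.span {a * b} := by
    rw [← hsum, AlgebraicGeometry.Scheme.IdealSheafData.ideal_mul, Pi.mul_apply, hIa, hIb,
      Ideal.span_singleton_mul_span_singleton]
  haveI := h₁.2
  haveI := h₂.2
  have F1 := Groth.Agent.Lib.Helper10.RelCartier.flat_quotient_of_flat f 𝓘₁ V U e _ hIa
  have F2 := Groth.Agent.Lib.Helper10.RelCartier.flat_quotient_of_flat f 𝓘₂ V U e _ h2
  exact Groth.Agent.Lib.Helper10.RelCartier.ringHom_flat_quot_of_mul _ a b ha F2 F1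

end Groth.Agent.S1710
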