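import Groth.Statements.S17153
import Mathlib

set_option autoImplicit false
universe u
open Isoc

namespace Groth.Agent.S17153

open scoped Isocrystal
open WithZero IsDedekindDomain

section Aux

variable (p : ℕ) [Fact p.Prime] (k : Type u) [Field k] [CharP k p] [PerfectRing k p]

/-- the `p`-adic valuation on `L = Frac W(k)`. -/
noncomputable def vL : Valuation K(p, k) ℤᵐ⁰ :=
  (IsDiscreteValuationRing.maximalIdeal (WittVector p k)).valuation K(p, k)

theorem vL_algebraMap (w : WittVector p k) :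
    vL p k (algebraMap _ K(p, k) w) =
      (IsDiscreteValuationRing.maximalIdeal (WittVector p k)).intValuation w :=
  HeightOneSpectrum.valuation_of_algebraMap _ w

theorem vL_p : vL p k (p : K(p, k)) = exp (-1 : ℤ) := by
  have h1 : (p : K(p, k)) = algebraMap (WittVector p k) K(p, k) (p : WittVector p k) := by simp
  rw [h1, vL_algebraMap]
  apply HeightOneSpectrum.intValuation_singleton _ (WittVector.p_nonzero p k)
  exact (WittVector.irreducible p).maximalIdeal_eq

theorem vL_unit (u : (WittVector p k)ˣ) :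
    vL p k (algebraMap _ K(p, k) (u : WittVector p k)) = 1 := by
  rw [vL_algebraMap, HeightOneSpectrum.intValuation_eq_one_iff]
  intro h
  exact (IsLocalRing.mem_maximalIdeal _).mp h u.isUnit

theorem vL_ringEquiv (e : WittVector p k ≃+* WittVector p k) (w : WittVector p k) :
    vL p k (algebraMap _ K(p, k) (e w)) = vL p k (algebraMap _ K(p, k) w) := by
  by_cases hw : w = 0
  · simp [hw]
  obtain ⟨m, b, rfl⟩ := WittVector.exists_eq_pow_p_mul' w hw
  have h1 : e ((p : WittVector p k) ^ m * b) = (p : WittVector p k) ^ m * (Units.map e.toMonoidHom b : (WittVector p k)ˣ) := by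
    simp
  rw [h1, map_mul, map_mul, map_mul, map_mul, vL_unit, vL_unit]

theorem vL_frob (a : ℤ) (c : K(p, k)) : vL p k (Isoc.frob p k a c) = vL p k c := by
  obtain ⟨x, y, hy, rfl⟩ := IsFractionRing.div_surjective (A := WittVector p k) c
  rw [map_div₀, map_div₀, map_div₀, Isoc.frob_algebraMap, Isoc.frob_algebraMap, vL_ringEquiv,
    vL_ringEquiv]

variable {p k}
variable {h : ℕ} (d : ℤ)

/-- weight of the `i`-th coordinate -/
noncomputable def uw (x : Fin h → K(p, k)) (i : Fin h) : ℤᵐ⁰ :=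
  vL p k (x i) ^ h * (exp (-1 : ℤ)) ^ ((i : ℤ) * d)

/-- weight of a vector -/
noncomputable def ww (hh : 0 < h) (x : Fin h → K(p, k)) : ℤᵐ⁰ :=
  Finset.univ.sup' ⟨⟨0, hh⟩, Finset.mem_univ _⟩ (uw d x)

theorem uw_le_ww (hh : 0 < h) (x : Fin h → K(p, k)) (i : Fin h) : uw d x i ≤ ww d hh x :=
  Finset.le_sup' (uw d x) (Finset.mem_univ i)

theorem exists_uw_eq_ww (hh : 0 < h) (x : Fin h → K(p, k)) : ∃ i, uw d x i = ww d hh x := by
  obtain ⟨i, -, hi⟩ := Finset.exists_mem_eq_sup' ⟨⟨0, hh⟩, Finset.mem_univ _⟩ (uw d x)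
  exact ⟨i, hi.symm⟩

theorem exp_zpow_ne_zero (n : ℤ) : ((exp (-1 : ℤ)) ^ n : ℤᵐ⁰) ≠ 0 :=
  zpow_ne_zero _ exp_ne_zero

theorem uw_eq_zero_iff (x : Fin h → K(p, k)) (i : Fin h) (hh : 0 < h) : uw d x i = 0 ↔ x i = 0 := by
  unfold uw
  rw [mul_eq_zero, or_iff_left (exp_zpow_ne_zero _), pow_eq_zero_iff hh.ne', map_eq_zero]

theorem ww_ne_zero (hh : 0 < h) {x : Fin h → K(p, k)} (hx : x ≠ 0) : ww d hh x ≠ 0 := by
  obtain ⟨i, hi⟩ : ∃ i, x i ≠ 0 := by
    by_contra hcon
    push Not at hcon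
    exact hx (funext hcon)
  have h1 := uw_le_ww d hh x i
  have h2 : uw d x i ≠ 0 := fun h0 => hi ((uw_eq_zero_iff d x i hh).mp h0)
  intro h0
  rw [h0] at h1
  exact h2 (le_antisymm h1 zero_le)

theorem uw_smul (a : K(p, k)) (x : Fin h → K(p, k)) (i : Fin h) :
    uw d (a • x) i = vL p k a ^ h * uw d x i := by
  unfold uw
  rw [Pi.smul_apply, smul_eq_mul, map_mul, mul_pow, mul_assoc]

theorem ww_smul (hh : 0 < h) (a : K(p, k)) (x : Fin h → K(p, k)) :
    ww d hh (a • x) = vL p k a ^ h * ww d hh x := by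
  apply le_antisymm
  · apply Finset.sup'_le
    intro i _
    rw [uw_smul]
    exact mul_le_mul' le_rfl (uw_le_ww d hh x i)
  · obtain ⟨i, hi⟩ := exists_uw_eq_ww d hh x
    rw [← hi, ← uw_smul]
    exact uw_le_ww d hh _ i

theorem uw_stdIsoc (a : ℤ) (x : Fin h → K(p, k)) (j : Fin h) :
    uw d (Isoc.stdIsoc (Isoc.frob p k a) d h x) (finRotate h j) =
      uw d x j * (exp (-1 : ℤ)) ^ d := by
  obtain ⟨n, rfl⟩ : ∃ n, h = n + 1 := ⟨h - 1, by have := j.pos; omega⟩
  unfold uw
  rw [Isoc.stdIsoc_apply, Equiv.symm_apply_apply, map_mul, vL_frob, coe_finRotate]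
  by_cases hj : j = Fin.last n
  · simp only [hj, if_true, map_zpow₀, vL_p]
    rw [mul_pow, ← zpow_natCast ((exp (-1 : ℤ) : ℤᵐ⁰) ^ d), ← zpow_mul]
    simp only [Nat.cast_zero, zero_mul, zpow_zero, mul_one, Fin.val_last]
    rw [mul_comm, mul_assoc, ← zpow_add₀ exp_ne_zero]
    congr 2
    push_cast
    ring
  · simp only [hj, if_false, Nat.add_eq_zero_iff, one_ne_zero, and_false, map_one, one_mul]
    rw [mul_assoc, ← zpow_add₀ exp_ne_zero]
    congr 2
    push_cast
    ring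

theorem ww_stdIsoc (hh : 0 < h) (a : ℤ) (x : Fin h → K(p, k)) :
    ww d hh (Isoc.stdIsoc (Isoc.frob p k a) d h x) = ww d hh x * (exp (-1 : ℤ)) ^ d := by
  apply le_antisymm
  · apply Finset.sup'_le
    intro i _
    obtain ⟨j, rfl⟩ := (finRotate h).surjective i
    rw [uw_stdIsoc]
    exact mul_le_mul' (uw_le_ww d hh x j) le_rfl
  · obtain ⟨j, hj⟩ := exists_uw_eq_ww d hh x
    rw [← hj, ← uw_stdIsoc d a]
    exact uw_le_ww d hh _ _

theorem linearIndependent_of_ww (hh : 0 < h) {m : ℕ} (y : Fin m → (Fin h → K(p, k)))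
    (hy : ∀ j, y j ≠ 0)
    (hne : ∀ j j', j ≠ j' → ∀ a a' : K(p, k), a ≠ 0 → a' ≠ 0 →
      ww d hh (a • y j) ≠ ww d hh (a' • y j')) :
    LinearIndependent K(p, k) y := by
  classical
  rw [Fintype.linearIndependent_iff]
  intro g hg
  by_contra hcon
  push Not at hcon
  obtain ⟨j₁, hj₁⟩ := hcon
  let J := Finset.univ.filter (fun j => g j ≠ 0)
  have hJ : J.Nonempty := ⟨j₁, Finset.mem_filter.mpr ⟨Finset.mem_univ _, hj₁⟩⟩
  obtain ⟨j₀, hj₀J, hmax⟩ := Finset.exists_max_image J (fun j => ww d hh (g j • y j)) hJ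
  have hgj₀ : g j₀ ≠ 0 := (Finset.mem_filter.mp hj₀J).2
  obtain ⟨i₀, hi₀⟩ := exists_uw_eq_ww d hh (g j₀ • y j₀)
  have hW0 : ww d hh (g j₀ • y j₀) ≠ 0 := ww_ne_zero d hh (smul_ne_zero hgj₀ (hy j₀))
  have hterm0 : (g j₀ • y j₀) i₀ ≠ 0 := by
    intro h0
    apply hW0
    rw [← hi₀]
    exact (uw_eq_zero_iff d _ i₀ hh).mpr h0
  have hcoord : ∑ j, (g j • y j) i₀ = 0 := by
    have := congrFun hg i₀
    simpa [Finset.sum_apply] using this
  have hlt : ∀ j ∈ Finset.univ.erase j₀,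
      vL p k ((g j • y j) i₀) < vL p k ((g j₀ • y j₀) i₀) := by
    intro j hj
    have hjne : j ≠ j₀ := Finset.ne_of_mem_erase hj
    have hpos : 0 < vL p k ((g j₀ • y j₀) i₀) := by
      rw [zero_lt_iff]
      exact (map_ne_zero _).mpr hterm0
    by_cases hgj : g j = 0
    · rw [hgj, zero_smul, Pi.zero_apply, map_zero]
      exact hpos
    · have hjJ : j ∈ J := Finset.mem_filter.mpr ⟨Finset.mem_univ _, hgj⟩
      have h1 : ww d hh (g j • y j) ≤ ww d hh (g j₀ • y j₀) := hmax j hjJ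
      have h2 : ww d hh (g j • y j) ≠ ww d hh (g j₀ • y j₀) := hne j j₀ hjne _ _ hgj hgj₀
      have h3 : uw d (g j • y j) i₀ < uw d (g j₀ • y j₀) i₀ :=
        lt_of_le_of_lt (uw_le_ww d hh _ i₀) (hi₀ ▸ lt_of_le_of_ne h1 h2)
      unfold uw at h3
      have hγ : (0 : ℤᵐ⁰) < (exp (-1 : ℤ)) ^ ((i₀ : ℤ) * d) :=
        zero_lt_iff.mpr (exp_zpow_ne_zero _)
      have h4 := (mul_lt_mul_iff_left₀ hγ).mp h3
      exact lt_of_pow_lt_pow_left₀ h zero_le h4
  have hsum := Valuation.map_sum_lt (vL p k) ((map_ne_zero _).mpr hterm0) hlt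
  have heq : (g j₀ • y j₀) i₀ = - ∑ j ∈ Finset.univ.erase j₀, (g j • y j) i₀ := by
    rw [← Finset.add_sum_erase _ _ (Finset.mem_univ j₀)] at hcoord
    linear_combination hcoord
  rw [heq, Valuation.map_neg] at hsum
  exact lt_irrefl _ hsum

theorem ww_zero (hh : 0 < h) : ww d hh (0 : Fin h → K(p, k)) = 0 := by
  apply le_antisymm _ zero_le
  apply Finset.sup'_le
  intro i _
  rw [(uw_eq_zero_iff d _ i hh).mpr rfl]

theorem ww_iterate (hh : 0 < h) (a : ℤ) (x : Fin h → K(p, k)) (n : ℕ) :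
    ww d hh ((Isoc.stdIsoc (Isoc.frob p k a) d h)^[n] x) =
      ww d hh x * (exp (-1 : ℤ)) ^ ((n : ℤ) * d) := by
  induction n with
  | zero => simp
  | succ n ih =>
    rw [Function.iterate_succ_apply', ww_stdIsoc, ih, mul_assoc, ← zpow_add₀ exp_ne_zero]
    congr 2
    push_cast
    ring

theorem main (p : ℕ) [Fact p.Prime] (k : Type u) [Field k] [CharP k p] [PerfectRing k p]
    (a : ℤ) (d : ℤ) (h : ℕ) (hh : 0 < h) (hdh : Int.gcd d h = 1)
    (P : Submodule (FractionRing (WittVector p k)) (Fin h → (FractionRing (WittVector p k))))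
    (hP : ∀ x ∈ P, Isoc.stdIsoc (Isoc.frob p k a) d h x ∈ P) : P = ⊥ ∨ P = ⊤ := by
  by_cases hbot : P = ⊥
  · exact Or.inl hbot
  right
  obtain ⟨x, hxP, hx0⟩ := Submodule.exists_mem_ne_zero_of_ne_bot hbot
  have hiterP : ∀ n : ℕ, (Isoc.stdIsoc (Isoc.frob p k a) d h)^[n] x ∈ P := by
    intro n
    induction n with
    | zero => exact hxP
    | succ n ih => rw [Function.iterate_succ_apply']; exact hP _ ih
  have hW0 : ww d hh x ≠ 0 := ww_ne_zero d hh hx0
  let y : Fin h → (Fin h → K(p, k)) := fun j => (Isoc.stdIsoc (Isoc.frob p k a) d h)^[(j : ℕ)] x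
  have hy0 : ∀ j, y j ≠ 0 := by
    intro j h0
    have h1 := ww_iterate d hh a x (j : ℕ)
    have h0' : (Isoc.stdIsoc (Isoc.frob p k a) d h)^[(j : ℕ)] x = 0 := h0
    rw [h0', ww_zero] at h1
    exact mul_ne_zero hW0 (exp_zpow_ne_zero _) h1.symm
  have hli : LinearIndependent K(p, k) y := by
    apply linearIndependent_of_ww d hh y hy0
    intro j j' hjj b b' hb hb' heq
    apply hjj
    rw [ww_smul, ww_smul] at heq
    have e1 : ww d hh (y j) = ww d hh x * (exp (-1 : ℤ)) ^ (((j : ℕ) : ℤ) * d) :=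
      ww_iterate d hh a x j
    have e2 : ww d hh (y j') = ww d hh x * (exp (-1 : ℤ)) ^ (((j' : ℕ) : ℤ) * d) :=
      ww_iterate d hh a x j'
    rw [e1, e2] at heq
    have hvb : vL p k b ≠ 0 := (map_ne_zero _).mpr hb
    have hvb' : vL p k b' ≠ 0 := (map_ne_zero _).mpr hb'
    have hlog := congrArg WithZero.log heq
    rw [log_mul (pow_ne_zero _ hvb) (mul_ne_zero hW0 (exp_zpow_ne_zero _)),
      log_mul (pow_ne_zero _ hvb') (mul_ne_zero hW0 (exp_zpow_ne_zero _)),
      log_mul hW0 (exp_zpow_ne_zero _), log_mul hW0 (exp_zpow_ne_zero _),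
      log_pow, log_pow, log_zpow, log_zpow, log_exp] at hlog
    simp only [smul_eq_mul, nsmul_eq_mul] at hlog
    have hdvd : (h : ℤ) ∣ (((j : ℕ) : ℤ) - ((j' : ℕ) : ℤ)) * d := by
      refine ⟨WithZero.log (vL p k b) - WithZero.log (vL p k b'), ?_⟩
      linear_combination (-1 : ℤ) * hlog
    have hcop : IsCoprime (h : ℤ) d := by
      rw [Int.isCoprime_iff_gcd_eq_one, Int.gcd_comm]
      exact hdh
    have hdvd' : (h : ℤ) ∣ ((j : ℕ) : ℤ) - ((j' : ℕ) : ℤ) := hcop.dvd_of_dvd_mul_right hdvd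
    have habs : |((j : ℕ) : ℤ) - ((j' : ℕ) : ℤ)| < (h : ℤ) := by
      rw [abs_lt]
      constructor <;> [have := j'.isLt; have := j.isLt] <;> omega
    have := Int.eq_zero_of_abs_lt_dvd hdvd' habs
    apply Fin.ext
    omega
  -- dimension count
  let y' : Fin h → P := fun j => ⟨y j, hiterP j⟩
  have hli' : LinearIndependent K(p, k) y' := by
    apply LinearIndependent.of_comp P.subtype
    exact hli
  have hcard := hli'.fintype_card_le_finrank
  rw [Fintype.card_fin] at hcard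
  apply Submodule.eq_top_of_finrank_eq
  have hle := Submodule.finrank_le P
  rw [Module.finrank_fin_fun] at hle ⊢
  omega


end Aux

/-- Let k be a perfect field of characteristic p, W = W(k), L its fraction field, a ∈ ℤ, and λ = d/h
with h > 0 and gcd(d, h) = 1. The standard σ^a-F-isocrystal N_λ of slope λ — the space L^h with the
σ^a-semilinear F determined by F e_i = e_{i+1} (i + 1 < h) and F e_{h−1} = p^d · e_0 — is a simple
isocrystal: an L-subspace of L^h carried into itself by F is either 0 or everything. (The source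
introduces N_λ for a ≠ 0 only; the simplicity argument, via sub-isocrystals of an isoclinic
isocrystal having the same slope, does not use that restriction, and the statement is made for all
a.) -/
theorem result (p : ℕ) [Fact p.Prime] (k : Type u) [Field k] [CharP k p] [PerfectRing k p]
    (a : ℤ) (d : ℤ) (h : ℕ) (hh : 0 < h) (hdh : Int.gcd d h = 1)
    (P : Submodule (FractionRing (WittVector p k)) (Fin h → (FractionRing (WittVector p k))))
    (hP : ∀ x ∈ P, Isoc.stdIsoc (Isoc.frob p k a) d h x ∈ P) : P = ⊥ ∨ P = ⊤ := by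
  exact main p k a d h hh hdh P hP

end Groth.Agent.S17153
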