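import Groth.Statements.S17157
import Mathlib

set_option autoImplicit false
universe u
open Isoc

namespace Groth.Agent.S17157

open scoped Isocrystal

/-- Over a finite field with `p ^ n` elements the `n`-th iterate of the Witt vector Frobenius is
the identity. -/
theorem frobenius_iterate_eq (p : ℕ) [Fact p.Prime] (k : Type u) [Field k] [CharP k p]
    [Finite k] (n : ℕ) (hn : Nat.card k = p ^ n) (w : WittVector p k) :
    (WittVector.frobenius : WittVector p k →+* WittVector p k)^[n] w = w := by
  have key : ∀ (m : ℕ) (w : WittVector p k) (i : ℕ),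
      ((WittVector.frobenius : WittVector p k →+* WittVector p k)^[m] w).coeff i =
        w.coeff i ^ p ^ m := by
    intro m
    induction m with
    | zero => intro w i; simp
    | succ m ih =>
      intro w i
      rw [Function.iterate_succ_apply', WittVector.coeff_frobenius_charP, ih, ← pow_mul, pow_succ]
  ext i
  rw [key, ← hn]
  have := Fintype.ofFinite k
  rw [Nat.card_eq_fintype_card]
  exact FiniteField.pow_card _

/-- The fraction field of `W(k)` has characteristic zero. -/
theorem charZero_fractionRing_witt (p : ℕ) [hp : Fact p.Prime] (k : Type u) [Field k] [CharP k p] :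
    CharZero K(p, k) := by
  rcases CharP.exists' K(p, k) with h | ⟨q, hq, hqc⟩
  · exact h
  · exfalso
    have hq0 : (q : K(p, k)) = 0 := CharP.cast_eq_zero _ q
    have hqW : (q : WittVector p k) = 0 := by
      apply IsFractionRing.injective (WittVector p k) K(p, k)
      simp [hq0]
    have hqk : (q : k) = 0 := by
      have := congrArg (WittVector.constantCoeff (p := p) (R := k)) hqW
      simpa using this
    have hpq : p ∣ q := (CharP.cast_eq_zero_iff k p q).mp hqk
    have hqp : p = q := (Nat.prime_dvd_prime_iff_eq hp.out hq.out).mp hpq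
    rw [← hqp] at hqW
    exact WittVector.p_nonzero p k hqW

/-- Over a finite field with `p ^ n` elements, `σ ^ n = id` on the fraction field of `W(k)`. -/
theorem frob_iterate_eq (p : ℕ) [Fact p.Prime] (k : Type u) [Field k] [CharP k p]
    [PerfectRing k p] [Finite k] (n : ℕ) (hn : Nat.card k = p ^ n) (z : K(p, k)) :
    (Isoc.frob p k 1)^[n] z = z := by
  have hW : ∀ (m : ℕ) (w : WittVector p k), (Isoc.frob p k 1)^[m] (algebraMap _ K(p, k) w) =
      algebraMap _ K(p, k) ((WittVector.frobenius : WittVector p k →+* WittVector p k)^[m] w) := by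
    intro m
    induction m with
    | zero => intro w; rfl
    | succ m ih =>
      intro w
      rw [Function.iterate_succ_apply', ih, Isoc.frob_algebraMap, zpow_one,
        Function.iterate_succ_apply']
      rfl
  obtain ⟨a, b, hb, rfl⟩ := IsFractionRing.div_surjective (A := WittVector p k) z
  have hdiv : ∀ (m : ℕ) (x y : K(p, k)), (Isoc.frob p k 1)^[m] (x / y) =
      (Isoc.frob p k 1)^[m] x / (Isoc.frob p k 1)^[m] y := by
    intro m
    induction m with
    | zero => intro x y; rfl
    | succ m ih =>
      intro x y
      rw [Function.iterate_succ_apply', Function.iterate_succ_apply', Function.iterate_succ_apply',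
        ih, map_div₀]
  rw [hdiv, hW, hW, frobenius_iterate_eq p k n hn, frobenius_iterate_eq p k n hn]

/-- Let k be a finite field of characteristic p, W = W(k), L its fraction field with Frobenius σ, and
let U be the σ-semilinear endomorphism of L² = (Fin 2 → L) determined by U(e₀) = e₀ and U(e₁) = e₀ +
e₁ on the standard basis. Then (L², U) is an F-isocrystal in which the sub-isocrystal L · e₀ admits
no U-stable complementary L-subspace; in particular the category of F-isocrystals over a finite
field is not semisimple. (Over an algebraically closed field a complement exists.) -/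
theorem result
    (p : ℕ) [Fact p.Prime] (k : Type u) [Field k] [CharP k p] [PerfectRing k p] [Finite k]
    (U : (Fin 2 → (FractionRing (WittVector p k))) →ₛₗ[Isoc.frob p k 1] (Fin 2 → (FractionRing (WittVector p k))))
    (hU0 : U (Pi.single 0 1) = Pi.single 0 1)
    (hU1 : U (Pi.single 1 1) = Pi.single 0 1 + Pi.single 1 1)
    (Q : Submodule (FractionRing (WittVector p k)) (Fin 2 → (FractionRing (WittVector p k)))) (hQ : ∀ x ∈ Q, U x ∈ Q) :
    ¬ IsCompl (Submodule.span (FractionRing (WittVector p k)) {(Pi.single 0 1 : Fin 2 → (FractionRing (WittVector p k)))}) Q := by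
  intro hcompl
  set L := FractionRing (WittVector p k) with hL
  set e₀ : Fin 2 → L := Pi.single 0 1 with he₀
  set e₁ : Fin 2 → L := Pi.single 1 1 with he₁
  -- decompose `e₁`
  have htop : e₁ ∈ Submodule.span L {e₀} ⊔ Q := by
    rw [hcompl.sup_eq_top]; trivial
  obtain ⟨y, hy, q, hq, hyq⟩ := Submodule.mem_sup.mp htop
  obtain ⟨c, rfl⟩ := Submodule.mem_span_singleton.mp hy
  have hq' : q = e₁ - c • e₀ := by rw [← hyq]; abel
  have hUq : U q = e₀ + e₁ - (Isoc.frob p k 1) c • e₀ := by
    rw [hq', map_sub, LinearMap.map_smulₛₗ, hU0, hU1]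
  have hdiff : U q - q = (1 - (Isoc.frob p k 1) c + c) • e₀ := by
    rw [hUq, hq']
    simp only [sub_smul, add_smul, one_smul]
    abel
  have hmemQ : (1 - (Isoc.frob p k 1) c + c) • e₀ ∈ Q := hdiff ▸ Q.sub_mem (hQ q hq) hq
  have hmemS : (1 - (Isoc.frob p k 1) c + c) • e₀ ∈ Submodule.span L {e₀} :=
    Submodule.smul_mem _ _ (Submodule.mem_span_singleton_self e₀)
  have hzero : (1 - (Isoc.frob p k 1) c + c) • e₀ = 0 := by
    have := hcompl.disjoint.le_bot ⟨hmemS, hmemQ⟩
    simpa using this
  have he₀ne : e₀ ≠ 0 := by
    intro h
    have := congrFun h 0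
    simp [e₀] at this
  have hc : (Isoc.frob p k 1) c = c + 1 := by
    rcases smul_eq_zero.mp hzero with h | h
    · linear_combination -h
    · exact absurd h he₀ne
  -- iterate
  have hiter : ∀ m : ℕ, (Isoc.frob p k 1)^[m] c = c + m := by
    intro m
    induction m with
    | zero => simp
    | succ m ih =>
      rw [Function.iterate_succ_apply', ih, map_add, hc, map_natCast]
      push_cast
      ring
  -- cardinality
  have := Fintype.ofFinite k
  obtain ⟨n, -, hn⟩ := FiniteField.card k p
  have hn' : Nat.card k = p ^ (n : ℕ) := by rw [Nat.card_eq_fintype_card]; exact hn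
  have h1 := frob_iterate_eq p k n hn' c
  rw [hiter] at h1
  have h2 : ((n : ℕ) : L) = 0 := by linear_combination h1
  have := charZero_fractionRing_witt p k
  have h3 : ((n : ℕ) : ℕ) = 0 := by exact_mod_cast h2
  exact n.ne_zero h3

end Groth.Agent.S17157
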