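import Groth.Statements.S1717
import Mathlib
import Groth.Agent.Lib.Helper18.Hartshorne3
import Groth.Agent.Lib.Helper18.SerreNormal

set_option autoImplicit false
universe u
open LocCoh

namespace Groth.Agent.S1717

/-- Let A be a catenary Noetherian local ring satisfying Serre's condition (S_2). Then Spec A is
equidimensional: for every minimal prime p of A the dimension of A/p equals the dimension of A. -/
theorem result (A : Type u) [CommRing A] [IsLocalRing A] [IsNoetherianRing A] (hc : CAlg.IsCatenary A) (hS : LocCoh.HasSk 2 A A) (p : Ideal A) (hp : p ∈ minimalPrimes A) : ringKrullDim (A ⧸ p) = ringKrullDim A := by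
  refine Groth.Agent.Lib.Helper18.Hartshorne.ringKrullDim_quotient_eq_of_catenary_depth hc
    (fun q hq hht => ?_) p hp
  have h1 := (Groth.Agent.Lib.Helper18.Serre.hasSk_self_iff (R := A) 2).1 hS q
  have h0 : (((2 : ℕ∞) : WithBot ℕ∞)) = ((2 : ℕ) : WithBot ℕ∞) := rfl
  have h2 : ((2 : ℕ) : WithBot ℕ∞) ≤ min ((2 : ℕ) : WithBot ℕ∞) (q.height : WithBot ℕ∞) := by
    apply le_min le_rfl
    rw [← h0]
    exact WithBot.coe_le_coe.2 hht
  have h3 := h2.trans h1
  rw [← h0] at h3
  exact WithBot.coe_le_coe.1 h3

end Groth.Agent.S1717
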