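import Groth.Statements.S17175
import Mathlib

set_option autoImplicit false
universe u
open CAlg

namespace Groth.Agent.S17175

open PowerSeries in
/-- Let k be a field, O₀ = k[[x, y]]/(xy) the complete local ring of a node and Õ₀ = k[[x]] × k[[y]] its
normalization, O₀ being embedded in Õ₀ by h ↦ (h(x, 0), h(0, y)) as the subring of pairs with equal
constant coefficients. Regard Õ₀ as an O₀-module: it is the rank-one torsion-free O₀-module that is
not free. Then every O₀-linear endomorphism of this module is Õ₀-linear, i.e. it is multiplication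
by a unique element of Õ₀; consequently its O₀-endomorphism ring is Õ₀ and its O₀-automorphism group
is the unit group of Õ₀. Here an O₀-linear endomorphism is an additive map of k[[X]] × k[[X]]
commuting with multiplication by every pair whose two constant coefficients agree. (The source works
over an algebraically closed field; only the field structure is used.) -/
theorem result (k : Type u) [Field k]
    (φ : (k⟦X⟧ × k⟦X⟧) →+ (k⟦X⟧ × k⟦X⟧))
    (hφ : ∀ a s : k⟦X⟧ × k⟦X⟧, constantCoeff a.1 = constantCoeff a.2 → φ (a * s) = a * φ s) :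
    ∃! b : k⟦X⟧ × k⟦X⟧, ∀ s : k⟦X⟧ × k⟦X⟧, φ s = b * s := by
  open PowerSeries in
  -- φ (1,0) has zero second component, φ (0,1) has zero first component
  have h10 : (φ (1, 0)).2 = 0 := by
    have h := hφ ((0 : k⟦X⟧), (X : k⟦X⟧)) (1, 0) (by simp)
    have h0 : ((0 : k⟦X⟧), (X : k⟦X⟧)) * ((1 : k⟦X⟧), (0 : k⟦X⟧)) = 0 := by
      ext <;> simp
    rw [h0, map_zero] at h
    have h2 := congrArg Prod.snd h
    simp only [Prod.snd_zero, Prod.snd_mul] at h2
    exact (mul_eq_zero.mp h2.symm).resolve_left PowerSeries.X_ne_zero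
  have h01 : (φ (0, 1)).1 = 0 := by
    have h := hφ ((X : k⟦X⟧), (0 : k⟦X⟧)) (0, 1) (by simp)
    have h0 : ((X : k⟦X⟧), (0 : k⟦X⟧)) * ((0 : k⟦X⟧), (1 : k⟦X⟧)) = 0 := by
      ext <;> simp
    rw [h0, map_zero] at h
    have h2 := congrArg Prod.fst h
    simp only [Prod.fst_zero, Prod.fst_mul] at h2
    exact (mul_eq_zero.mp h2.symm).resolve_left PowerSeries.X_ne_zero
  have key : ∀ s : k⟦X⟧ × k⟦X⟧, φ s = ((φ (1, 0)).1, (φ (0, 1)).2) * s := by
    intro s
    have hs : s = (s.1, PowerSeries.C (constantCoeff s.1)) * ((1 : k⟦X⟧), (0 : k⟦X⟧)) +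
        (PowerSeries.C (constantCoeff s.2), s.2) * ((0 : k⟦X⟧), (1 : k⟦X⟧)) := by
      ext <;> simp
    have e1 := hφ (s.1, PowerSeries.C (constantCoeff s.1)) (1, 0) (by simp)
    have e2 := hφ (PowerSeries.C (constantCoeff s.2), s.2) (0, 1) (by simp)
    conv_lhs => rw [hs]
    rw [map_add, e1, e2]
    ext
    · simp [h01, mul_comm]
    · simp [h10, mul_comm]
  refine ⟨((φ (1, 0)).1, (φ (0, 1)).2), key, ?_⟩
  intro b hb
  have h1 := hb 1
  have h2 := key 1
  rw [mul_one] at h1 h2
  rw [← h1, h2]


end Groth.Agent.S17175
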