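import Groth.Statements.S17176
import Mathlib

set_option autoImplicit false
open Curves

namespace Groth.Agent.S17176

/-- Fix integers g ≥ 3 and d. For a complete subcurve Y of arithmetic genus g_Y of a nodal curve of
genus g, meeting the rest of the curve in k points, the lower extreme of the Basic Inequality for
line bundles of degree d is m = d(2g_Y - 2 + k)/(2g - 2) - k/2, which is an integer exactly when 2(g
- 1) divides d(2g_Y - 2 + k) - k(g - 1). Then gcd(d - g + 1, 2g - 2) = 1 if and only if m is not an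
integer for all integers g_Y, k with 0 < g_Y < g - 1, k ≥ 1 and k + 2g_Y - 2 < 2g - 2. (The row
makes explicit the bound 2g_Y - 2 + k < 2g - 2, which is automatic for subcurves of stable curves
and is satisfied by every subcurve to which the source applies the lemma; the source leaves the
ambient curve's class implicit.) -/
theorem result (g d : ℤ) (hg : 3 ≤ g) :
    Int.gcd (d - g + 1) (2 * g - 2) = 1 ↔
      ∀ gY k : ℤ, 0 < gY → gY < g - 1 → 1 ≤ k → k + 2 * gY - 2 < 2 * g - 2 →
        ¬ (2 * (g - 1) ∣ d * (2 * gY - 2 + k) - k * (g - 1)) := by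
  have hN : 2 * g - 2 = 2 * (g - 1) := by ring
  have key : ∀ gY k : ℤ, (2 * (g - 1) ∣ d * (2 * gY - 2 + k) - k * (g - 1)) ↔
      (2 * (g - 1) ∣ (2 * gY - 2 + k) * (d - g + 1)) := by
    intro gY k
    have e : d * (2 * gY - 2 + k) - k * (g - 1) =
        (2 * gY - 2 + k) * (d - g + 1) + 2 * (g - 1) * (gY - 1) := by ring
    rw [e]
    exact dvd_add_left (Dvd.intro _ rfl)
  constructor
  · intro hgcd gY k h1 h2 h3 h4 hdvd
    rw [key] at hdvd
    rw [hN] at hgcd h4
    have hcop : IsCoprime (2 * (g - 1)) (d - g + 1) :=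
      (Int.isCoprime_iff_gcd_eq_one.mpr hgcd).symm
    have h5 : 2 * (g - 1) ∣ 2 * gY - 2 + k := hcop.dvd_of_dvd_mul_right hdvd
    have h6 : 2 * gY - 2 + k = 0 :=
      Int.eq_zero_of_dvd_of_nonneg_of_lt (by linarith) (by linarith) h5
    linarith
  · intro h
    by_contra hgcd
    rw [hN] at hgcd
    have hNpos : 0 < 2 * (g - 1) := by linarith
    set c := d - g + 1 with hc
    set N := 2 * (g - 1) with hNdef
    have hh_dvd_N : ((Int.gcd c N : ℕ) : ℤ) ∣ N := Int.gcd_dvd_right c N
    have hh_dvd_c : ((Int.gcd c N : ℕ) : ℤ) ∣ c := Int.gcd_dvd_left c N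
    have hh_pos : 0 < ((Int.gcd c N : ℕ) : ℤ) := by
      have : 0 < Int.gcd c N := Int.gcd_pos_of_ne_zero_right c hNpos.ne'
      exact_mod_cast this
    have hh_ge2 : (2 : ℤ) ≤ ((Int.gcd c N : ℕ) : ℤ) := by
      have h1 : Int.gcd c N ≠ 1 := hgcd
      have h2 : 0 < Int.gcd c N := Int.gcd_pos_of_ne_zero_right c hNpos.ne'
      have : 2 ≤ Int.gcd c N := by omega
      exact_mod_cast this
    obtain ⟨a, ha⟩ := hh_dvd_N
    obtain ⟨c', hc'⟩ := hh_dvd_c
    have ha_pos : 0 < a := by
      by_contra hneg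
      push Not at hneg
      have : ((Int.gcd c N : ℕ) : ℤ) * a ≤ 0 := mul_nonpos_of_nonneg_of_nonpos hh_pos.le hneg
      linarith
    have ha_lt : a < N := by
      nlinarith
    have := h 1 a one_pos (by linarith) (by linarith) (by linarith)
    rw [key] at this
    apply this
    refine ⟨c', ?_⟩
    have e1 : (2 * 1 - 2 + a) = a := by ring
    rw [e1]
    calc a * c = a * (((Int.gcd c N : ℕ) : ℤ) * c') := by rw [← hc']
    _ = (((Int.gcd c N : ℕ) : ℤ) * a) * c' := by ring
    _ = N * c' := by rw [← ha]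


end Groth.Agent.S17176
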