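import Groth.Statements.S17181
import Groth.Agent.S2543
import Groth.Agent.Lib.Helper21.GIS2
-- import your own Groth.Agent.* helpers here

set_option autoImplicit false
universe u
open CategoryTheory CategoryTheory.Limits AlgebraicGeometry
open FBase

namespace Groth.Agent.S17181

/-- Let k be a field, C an irreducible k-scheme which is geometrically irreducible over k, and f : X → C
a flat k-morphism locally of finite type with X irreducible. If the generic fibre of f is
geometrically irreducible over the residue field of the generic point of C, then X is geometrically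
irreducible over k. (The published setting is a regular proper surface mapping onto a smooth
projective geometrically irreducible curve with smooth projective geometrically irreducible generic
fibre; the printed argument uses only the hypotheses kept here.) -/
theorem result (k : Type u) [Field k]
    (X C : Scheme.{u}) [X.Over (Spec (CommRingCat.of k))] [C.Over (Spec (CommRingCat.of k))]
    (f : X ⟶ C) [f.IsOver (Spec (CommRingCat.of k))] [IrreducibleSpace X] [IrreducibleSpace C]
    [GeometricallyIrreducible (C ↘ Spec (CommRingCat.of k))] [Flat f] [LocallyOfFiniteType f]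
    [GeometricallyIrreducible (f.fiberToSpecResidueField (genericPoint C))] :
    GeometricallyIrreducible (X ↘ Spec (CommRingCat.of k)) := by
  rw [geometricallyIrreducible_iff, geometrically_iff_of_commRing_of_isClosedUnderIsomorphisms]
  intro K _ _
  let S := Spec (CommRingCat.of k)
  let q : Spec (CommRingCat.of K) ⟶ S := Spec.map (CommRingCat.ofHom (algebraMap k K))
  let pX := pullback.fst (X ↘ S) q
  let pC := pullback.fst (C ↘ S) q
  have hfover : f ≫ (C ↘ S) = X ↘ S := CategoryTheory.comp_over f S
  let fK : pullback (X ↘ S) q ⟶ pullback (C ↘ S) q :=
    pullback.lift (pX ≫ f) (pullback.snd (X ↘ S) q) (by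
      rw [Category.assoc, hfover, pullback.condition])
  have hfK1 : fK ≫ pC = pX ≫ f := pullback.lift_fst _ _ _
  have hfK2 : fK ≫ pullback.snd (C ↘ S) q = pullback.snd (X ↘ S) q := pullback.lift_snd _ _ _
  have hbot : IsPullback pC (pullback.snd (C ↘ S) q) (C ↘ S) q := IsPullback.of_hasPullback _ _
  have hsq : IsPullback pX fK f pC := by
    refine IsPullback.of_bot ?_ hfK1.symm hbot
    rw [hfK2, hfover]
    exact IsPullback.of_hasPullback _ _
  haveI : Flat fK := MorphismProperty.of_isPullback (P := @Flat) hsq inferInstance
  haveI hCK : IrreducibleSpace ↥(pullback (C ↘ S) q) :=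
    GeometricallyIrreducible.geometrically_irreducibleSpace (f := C ↘ S) q _ _ hbot
  set ηK := genericPoint ↥(pullback (C ↘ S) q) with hηK
  -- the generic point maps to the generic point
  have hpCsurj : Function.Surjective pC := by
    rw [← Set.range_eq_univ]
    change Set.range (pullback.fst (C ↘ S) q) = _
    rw [Scheme.Pullback.range_fst]
    have : Set.range q = Set.univ := by
      rw [Set.eq_univ_iff_forall]
      intro y
      obtain ⟨z⟩ : Nonempty (Spec (CommRingCat.of K)) := inferInstance
      exact ⟨z, Subsingleton.elim (α := PrimeSpectrum k) _ _⟩
    rw [this, Set.preimage_univ]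
  have hgen : pC ηK = genericPoint C := by
    have h1 : closure {pC ηK} = Set.univ := by
      rw [Set.eq_univ_iff_forall]
      intro c
      obtain ⟨c', rfl⟩ := hpCsurj c
      have h2 : c' ∈ closure {ηK} := by
        rw [(genericPoint_spec ↥(pullback (C ↘ S) q)).def]
        trivial
      have h3 := image_closure_subset_closure_image pC.continuous (s := {ηK}) ⟨c', h2, rfl⟩
      rwa [Set.image_singleton] at h3
    have h2 : IsGenericPoint (pC ηK) (⊤ : Set C) := h1
    exact ((genericPoint_spec C).eq h2).symm
  -- the fibre over the generic point is irreducible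
  haveI hfib : IrreducibleSpace (fK.fiber ηK) := by
    refine Groth.Agent.Lib.Helper21.GIS.irreducibleSpace_of_isPullback f (genericPoint C)
      ((pullback (C ↘ S) q).fromSpecResidueField ηK ≫ pC) ?_
      (fK.fiberι ηK ≫ pX) (fK.fiberToSpecResidueField ηK) ?_
    · rw [Scheme.Hom.comp_apply]
      erw [Scheme.fromSpecResidueField_apply]
      exact hgen
    · exact (IsPullback.of_hasPullback fK
        ((pullback (C ↘ S) q).fromSpecResidueField ηK)).paste_horiz hsq
  have hirr : IsIrreducible (fK ⁻¹' {ηK}) := by
    rw [← Scheme.Hom.range_fiberι, ← Set.image_univ]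
    exact (IrreducibleSpace.isIrreducible_univ _).image _ (fK.fiberι ηK).continuous.continuousOn
  exact Groth.Agent.S2543.result fK (Flat.generalizingMap fK) hirr

end Groth.Agent.S17181
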