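import Groth.Statements.S1722
import Groth.Agent.Lib.Helper13.DualBC21

set_option autoImplicit false
universe u
open CategoryTheory
attribute [local instance] HasDerivedCategory.standard
open Dual

namespace Groth.Agent.S1722

/-- Let ω be a dualizing complex over a Noetherian ring A. There is a function δ from Spec A to the
integers such that, for every prime p and every integer i, the localization at p of the A-module of
maps A/p → ω[i] in D(A) is nonzero exactly when i = −δ(p); and δ is a dimension function: δ(p) =
δ(q) + 1 whenever q covers p in Spec A (p ⊂ q with no prime strictly in between). -/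
theorem result (A : Type u) [CommRing A] [IsNoetherianRing A] (ω : Dual.D A) (hω : Dual.IsDualizing A ω) : ∃ δ : PrimeSpectrum A → ℤ, (∀ (p : PrimeSpectrum A) (i : ℤ), Nontrivial (LocalizedModule p.asIdeal.primeCompl (Dual.inD A (A ⧸ p.asIdeal) ⟶ ω⟦i⟧)) ↔ i = -δ p) ∧ ∀ p q : PrimeSpectrum A, p ⋖ q → δ p = δ q + 1 := by
  open Groth.Agent.Lib.Helper13.DualBC Groth.Agent.Lib.Helper13.DR Groth.Agent.Lib.Helper13.HomBC in
  obtain ⟨T, hmono, hT⟩ := exists_strictMono_top A ω hω
  have hcov := top_covBy A ω hω T hmono hT
  obtain ⟨hA, ⟨a, b, h2⟩, h3, h4, h5⟩ := id hω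
  have hvan : ∀ i : ℤ, i < a → Subsingleton (Dual.HD A ω i) := fun i hi =>
    ModuleCat.subsingleton_of_isZero (isZero_HD_of_subsingleton_ext ω i (h2 A i (Or.inl hi)))
  have hGE : ω.IsGE a := isGE_of_subsingleton_HD ω a hvan
  have key : ∀ (p : PrimeSpectrum A) (i : ℤ), Nontrivial (LocalizedModule p.asIdeal.primeCompl
      (Dual.inD A (A ⧸ p.asIdeal) ⟶ ω⟦i⟧)) ↔ i = T p := by
    intro p i
    have hd := isDualizing_flatBC_localization A p.asIdeal.primeCompl ω hω
    obtain ⟨n, hn, -⟩ := ext_residue (Localization.AtPrime p.asIdeal) _ hd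
      (IsLocalRing.maximalIdeal (Localization.AtPrime p.asIdeal))
    have hmax : p.asIdeal.map (algebraMap A (Localization.AtPrime p.asIdeal)) =
        IsLocalRing.maximalIdeal (Localization.AtPrime p.asIdeal) :=
      Localization.AtPrime.map_eq_maximalIdeal
    have huniq : ∀ j : ℤ, Nontrivial (LocalizedModule p.asIdeal.primeCompl
        (Dual.inD A (A ⧸ p.asIdeal) ⟶ ω⟦j⟧)) → j = n := by
      intro j hj
      by_contra hne
      have h0 := hn j hne
      rw [← hmax] at h0
      have h0' := (locHomEquiv A p.asIdeal p.asIdeal ω a j).subsingleton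
      exact not_subsingleton _ h0'
    have hTn : T p = n := huniq (T p) (Module.mem_support_iff.1 (hT p).1)
    constructor
    · intro h
      rw [hTn]
      exact huniq i h
    · rintro rfl
      exact Module.mem_support_iff.1 (hT p).1
  refine ⟨fun p => -T p, fun p i => ?_, fun p q hpq => ?_⟩
  · rw [key, neg_neg]
  · have := hcov p q hpq
    change -T p = -T q + 1
    omega

end Groth.Agent.S1722
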