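import Groth.Statements.S1723
import Groth.Agent.Lib.Helper13.DualBC36

set_option autoImplicit false
universe u
open CategoryTheory
attribute [local instance] HasDerivedCategory.standard
open Dual

namespace Groth.Agent.S1723

/-- If a Noetherian local ring A has a dualizing complex, then each of its formal fibres is a Gorenstein
ring: for every prime p the ring A^ ⊗_A κ(p) (completion at the maximal ideal, tensored with the
residue field of p) is a Gorenstein ring. -/
theorem result (A : Type u) [CommRing A] [IsLocalRing A] [IsNoetherianRing A] (ω : Dual.D A) (hω : Dual.IsDualizing A ω) (p : PrimeSpectrum A) : LocCoh.IsGorensteinRing (EGA4.formalFibre A p.asIdeal) := by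
  have hfg : (IsLocalRing.maximalIdeal A).FG := IsNoetherian.noetherian _
  have hBN : IsNoetherianRing (AdicCompletion (IsLocalRing.maximalIdeal A) A) :=
    Groth.Agent.Lib.Helper21.isNoetherianRing_adicCompletion_of_fg _ hfg
  have hm : (IsLocalRing.maximalIdeal A).map
      (algebraMap A (AdicCompletion (IsLocalRing.maximalIdeal A) A)) =
      IsLocalRing.maximalIdeal (AdicCompletion (IsLocalRing.maximalIdeal A) A) :=
    (AdicCompletion.maximalIdeal_eq_map (R := A)).symm
  have hB := Groth.Agent.Lib.Helper13.DualBC.isDualizing_flatBC_of_maximal_extended A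
    (AdicCompletion (IsLocalRing.maximalIdeal A) A)
    (fun n hn => ⟨IsLocalRing.maximalIdeal A, by rw [hm, IsLocalRing.eq_maximalIdeal hn]⟩) ω hω
  exact Groth.Agent.Lib.Helper13.DualBC.isGorensteinRing_fiber_of_isDualizing_flatBC A
    (AdicCompletion (IsLocalRing.maximalIdeal A) A) ω hω hB p.asIdeal

end Groth.Agent.S1723
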