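import Groth.Statements.S17247
import Mathlib
import Groth.Agent.Lib.Helper26.FunFldLinEq

set_option autoImplicit false
open FunFld

namespace Groth.Agent.S17247

open Groth.Agent.Lib.Helper26.FunFldAlgClosed Groth.Agent.Lib.Helper26.FunFldSeries Groth.Agent.Lib.Helper2.FF Groth.Agent.Lib.Helper26.FunFldLinEq Groth.Agent.Lib.Helper26.FunFldCoord

/-- Let `K/k` be a function field of one variable of genus one over an algebraically closed field `k` of
characteristic zero (an elliptic curve `E`), `A` a place, and `g ≥ 3` an odd integer. Inside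
`H⁰(O_E((2g-2)A)) = L((2g-2)A)` consider `V = L(gA)` (dimension `g`) and any hyperplane `V₁` of it
containing `L((g-2)A)`: `L((g-2)A) ⊆ V₁ ⊆ L(gA)`, `dim V₁ = g - 1`. Vanishing orders are those of
sections of `O_E((2g-2)A)`: a member `f` vanishes to order at least `n` at a place `Q` when `f ∈
L((2g-2)A - nQ)`, and the weight of `V₁` at `Q` is `∑_{n=1}^{2g-2} dim (V₁ ∩ L((2g-2)A - nQ)) - (g-1
choose 2)` (the sum of the `g - 1` vanishing orders minus `0 + 1 + ⋯ + (g-2)`). Then the weight of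
`V₁` at every place `Q ≠ A` is at most `2`. (The published statement is for a smooth elliptic curve
over the complex numbers and allows every odd positive `g`; for `g = 1` the inclusion `O(gA) ⊆
O((2g-2)A)` it uses fails, so `g ≥ 3` here.) -/
theorem result
    (k K : Type*) [Field k] [IsAlgClosed k] [CharZero k] [Field K] [Algebra k K]
    (hK : FunFld.IsFunctionField k K) (hg1 : FunFld.genus k K = 1)
    (g : ℕ) (hodd : Odd g) (h3 : 3 ≤ g) (A : FunFld.Place k K)
    (V₁ : Submodule k K) (hlo : FunFld.L (Finsupp.single A ((g : ℤ) - 2)) ≤ V₁)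
    (hhi : V₁ ≤ FunFld.L (Finsupp.single A (g : ℤ))) (hdim : Module.finrank k ↥V₁ + 1 = g)
    (Q : FunFld.Place k K) (hQ : Q ≠ A) :
    (∑ n ∈ Finset.range (2 * g - 2), Module.finrank k
        ↥(V₁ ⊓ FunFld.L (Finsupp.single A (2 * (g : ℤ) - 2) - Finsupp.single Q ((n : ℤ) + 1)))) ≤
      (g - 1).choose 2 + 2 := by
  classical
  have hVfin : Module.Finite k V₁ := Module.finite_of_finrank_pos (by omega)
  have hA1 := deg_eq_one hK A
  have hQ1 := deg_eq_one hK Q
  have hg0 : 0 < genus k K := by omega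
  set E : ℤ → ℤ → Divisor k K := fun m n => Finsupp.single A m - Finsupp.single Q n with hE
  have hEdeg : ∀ m n : ℤ, (E m n).deg = m - n := by
    intro m n
    simp only [hE, deg_sub, deg_single, hA1, hQ1]; push_cast; ring
  have hEinf : ∀ m₁ n₁ m₂ n₂ : ℤ, L (E m₁ n₁) ⊓ L (E m₂ n₂) = L (E (min m₁ m₂) (max n₁ n₂)) := by
    intro m₁ n₁ m₂ n₂
    apply L_inf_L
    intro R
    simp only [hE, Finsupp.coe_sub, Pi.sub_apply, Finsupp.single_apply]
    by_cases h1 : A = R
    · have h2 : Q ≠ R := fun h => hQ (h.trans h1.symm)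
      rw [if_pos h1, if_pos h1, if_pos h1, if_neg h2, if_neg h2, if_neg h2]
      simp
    · by_cases h2 : Q = R
      · rw [if_neg h1, if_neg h1, if_neg h1, if_pos h2, if_pos h2, if_pos h2]
        rcases le_total n₁ n₂ with h | h
        · rw [max_eq_right h, min_eq_right (by omega)]
        · rw [max_eq_left h, min_eq_left (by omega)]
      · rw [if_neg h1, if_neg h1, if_neg h1, if_neg h2, if_neg h2, if_neg h2]
        simp
  have hEell : ∀ m n : ℤ, 1 ≤ m - n → (ell (E m n) : ℤ) = m - n := by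
    intro m n h
    have := ell_eq_of_deg_ge hK (E m n) (by rw [hEdeg, hg1]; push_cast; linarith)
    rw [hEdeg, hg1] at this; push_cast at this; linarith
  have hEell0 : ∀ m n : ℤ, m - n < 0 → ell (E m n) = 0 := fun m n h =>
    ell_eq_zero_of_deg_neg hK (by rw [hEdeg]; exact h)
  have hEell1 : ∀ m n : ℤ, m - n = 0 → ell (E m n) ≤ 1 := fun m n h =>
    ell_le_one_of_deg_zero hK (by rw [hEdeg]; exact h)
  have hEmono : ∀ m n n' : ℤ, n ≤ n' → L (E m n') ≤ L (E m n) := by
    intro m n n' h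
    apply L_mono
    intro R
    simp only [hE, Finsupp.coe_sub, Pi.sub_apply, Finsupp.single_apply]
    split_ifs <;> omega
  have hEs : ∀ (c : ℤ) (R : FunFld.Place k K), (E c c) R = c * (E 1 1) R := by
    intro c R
    simp only [hE, Finsupp.coe_sub, Pi.sub_apply, Finsupp.single_apply]
    split_ifs <;> ring
  have hfinL : ∀ D : Divisor k K, Module.Finite k ↥(L D) := fun D => finiteDimensional_L hK D
  have hloE : L (E ((g : ℤ) - 2) 0) ≤ V₁ := by
    have : E ((g : ℤ) - 2) 0 = Finsupp.single A ((g : ℤ) - 2) := by simp [hE]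
    rw [this]; exact hlo
  have hhiE : V₁ ≤ L (E (g : ℤ) 0) := by
    have : E (g : ℤ) 0 = Finsupp.single A (g : ℤ) := by simp [hE]
    rw [this]; exact hhi
  set c : ℕ → ℕ := fun n => Module.finrank k ↥(V₁ ⊓ L (E (g : ℤ) (n : ℤ))) with hc
  have hsummand : ∀ n : ℕ, Module.finrank k
        ↥(V₁ ⊓ FunFld.L (Finsupp.single A (2 * (g : ℤ) - 2) - Finsupp.single Q ((n : ℤ) + 1))) =
      c (n + 1) := by
    intro n
    simp only [hc]
    have e1 : V₁ ⊓ L (E (2 * (g : ℤ) - 2) ((n : ℤ) + 1)) = V₁ ⊓ L (E (g : ℤ) ((n + 1 : ℕ) : ℤ)) := by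
      conv_lhs => rw [← inf_eq_left.2 hhiE]
      rw [inf_assoc, hEinf, min_eq_left (by omega), max_eq_right (by omega)]
      push_cast; rfl
    exact congrArg (fun W : Submodule k K => Module.finrank k ↥W) e1
  rw [Finset.sum_congr rfl (fun n _ => hsummand n)]
  -- bounds on c
  have hcle : ∀ n : ℕ, c n ≤ ell (E (g : ℤ) (n : ℤ)) := by
    intro n
    exact Submodule.finrank_mono inf_le_right
  have hclt : ∀ n : ℕ, ¬ (L (E (g : ℤ) (n : ℤ)) ≤ V₁) → c n + 1 ≤ ell (E (g : ℤ) (n : ℤ)) := by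
    intro n hn
    have : V₁ ⊓ L (E (g : ℤ) (n : ℤ)) < L (E (g : ℤ) (n : ℤ)) :=
      lt_of_le_of_ne inf_le_right (fun h => hn (inf_eq_right.1 h))
    exact Submodule.finrank_lt_finrank_of_lt this
  -- Step A
  have hStepA : ¬ (L (E (g : ℤ) ((g : ℤ) - 3)) ≤ V₁) := by
    intro hW
    have h1 : L (E ((g : ℤ) - 2) 0) ⊔ L (E (g : ℤ) ((g : ℤ) - 3)) ≤ V₁ := sup_le hloE hW
    have h2 := Submodule.finrank_mono h1
    have h3 := Submodule.finrank_sup_add_finrank_inf_eq (L (E ((g : ℤ) - 2) 0)) (L (E (g : ℤ) ((g : ℤ) - 3)))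
    rw [hEinf, min_eq_left (by omega), max_eq_right (by omega)] at h3
    have l1 := hEell ((g : ℤ) - 2) 0 (by omega)
    have l2 := hEell (g : ℤ) ((g : ℤ) - 3) (by omega)
    have l3 := hEell ((g : ℤ) - 2) ((g : ℤ) - 3) (by omega)
    simp only [ell_def] at l1 l2 l3
    omega
  -- Step B
  have hStepB : 0 < ell (E (g : ℤ) (g : ℤ)) → ¬ (L (E (g : ℤ) ((g : ℤ) - 2)) ≤ V₁) := by
    intro hpos hW
    have h1 : L (E ((g : ℤ) - 2) 0) ⊔ L (E (g : ℤ) ((g : ℤ) - 2)) ≤ V₁ := sup_le hloE hW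
    have h2 := Submodule.finrank_mono h1
    have h3 := Submodule.finrank_sup_add_finrank_inf_eq (L (E ((g : ℤ) - 2) 0)) (L (E (g : ℤ) ((g : ℤ) - 2)))
    rw [hEinf, min_eq_left (by omega), max_eq_right (by omega)] at h3
    have l1 := hEell ((g : ℤ) - 2) 0 (by omega)
    have l2 := hEell (g : ℤ) ((g : ℤ) - 2) (by omega)
    have l3 : ell (E ((g : ℤ) - 2) ((g : ℤ) - 2)) = 0 := by
      by_contra hne
      obtain ⟨x, hx0, hx⟩ := exists_div_eq_zero hK (D := E (g : ℤ) (g : ℤ)) (by rw [hEdeg]; ring) hpos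
      obtain ⟨y, hy0, hy⟩ := exists_div_eq_zero hK (D := E ((g : ℤ) - 2) ((g : ℤ) - 2))
        (by rw [hEdeg]; ring) (by omega)
      obtain ⟨m, hm⟩ := hodd
      obtain ⟨m', rfl⟩ : ∃ m', m = m' + 1 := ⟨m - 1, by omega⟩
      have hgm : (g : ℤ) = 2 * (m' : ℤ) + 3 := by rw [hm]; push_cast; ring
      apply hQ
      symm
      apply eq_of_single_sub_single_eq_div hK hg0 A Q hA1 hQ1 (x ^ m' * (y ^ (m' + 1))⁻¹)
        (mul_ne_zero (pow_ne_zero _ hx0) (inv_ne_zero (pow_ne_zero _ hy0)))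
      rw [div_mul hK (pow_ne_zero _ hx0) (inv_ne_zero (pow_ne_zero _ hy0)), div_inv hK,
        div_pow hK hx0, div_pow hK hy0]
      ext R
      have hxR := congrArg (fun D : Divisor k K => D R) hx
      have hyR := congrArg (fun D : Divisor k K => D R) hy
      simp only [Finsupp.coe_add, Pi.add_apply, Finsupp.coe_zero, Pi.zero_apply] at hxR hyR
      rw [hEs] at hxR hyR
      have e11 : (Finsupp.single A 1 - Finsupp.single Q 1 : Divisor k K) R = (E 1 1) R := rfl
      rw [e11]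
      simp only [Finsupp.coe_add, Pi.add_apply, Finsupp.coe_neg, Pi.neg_apply, Finsupp.smul_apply,
        nsmul_eq_mul]
      push_cast
      linear_combination (-(m' : ℤ)) * hxR + ((m' : ℤ) + 1) * hyR - (E 1 1) R * hgm
    simp only [ell_def] at l1 l2 l3
    omega
  -- summation
  obtain ⟨g', rfl⟩ : ∃ g', g = g' + 3 := ⟨g - 3, by omega⟩
  have hsplit : 2 * (g' + 3) - 2 = g' + 3 + (g' + 1) := by omega
  rw [hsplit, Finset.sum_range_add, Finset.sum_range_succ, Finset.sum_range_succ,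
    Finset.sum_range_succ]
  have hlow : ∀ n ∈ Finset.range g', c (n + 1) ≤ g' + 1 - n := by
    intro n hn
    rw [Finset.mem_range] at hn
    have h1 : ¬ (L (E ((g' + 3 : ℕ) : ℤ) ((n + 1 : ℕ) : ℤ)) ≤ V₁) := by
      intro h
      apply hStepA
      exact (hEmono _ _ _ (by push_cast; omega)).trans h
    have h2 := hclt (n + 1) h1
    have h3 := hEell ((g' + 3 : ℕ) : ℤ) ((n + 1 : ℕ) : ℤ) (by push_cast; omega)
    omega
  have htail : ∀ j ∈ Finset.range (g' + 1), c (g' + 3 + j + 1) = 0 := by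
    intro j _
    have h2 := hcle (g' + 3 + j + 1)
    have h3 := hEell0 ((g' + 3 : ℕ) : ℤ) ((g' + 3 + j + 1 : ℕ) : ℤ) (by push_cast; omega)
    omega
  have hmid : c (g' + 1) + c (g' + 1 + 1) + c (g' + 2 + 1) ≤ 3 := by
    have b1 := hcle (g' + 1)
    have b2 := hcle (g' + 1 + 1)
    have b3 := hcle (g' + 2 + 1)
    have l1 := hEell ((g' + 3 : ℕ) : ℤ) ((g' + 1 : ℕ) : ℤ) (by push_cast; omega)
    have l2 := hEell ((g' + 3 : ℕ) : ℤ) ((g' + 1 + 1 : ℕ) : ℤ) (by push_cast; omega)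
    have l3 := hEell1 ((g' + 3 : ℕ) : ℤ) ((g' + 2 + 1 : ℕ) : ℤ) (by push_cast; omega)
    by_cases hε : ell (E ((g' + 3 : ℕ) : ℤ) ((g' + 3 : ℕ) : ℤ)) = 0
    · have e : ((g' + 2 + 1 : ℕ) : ℤ) = ((g' + 3 : ℕ) : ℤ) := by push_cast; ring
      rw [e] at b3
      omega
    · have hB := hStepB (by omega)
      have e : ((g' + 3 : ℕ) : ℤ) - 2 = ((g' + 1 : ℕ) : ℤ) := by push_cast; ring
      rw [e] at hB
      have := hclt (g' + 1) hB
      omega
  have hsum : ∑ n ∈ Finset.range g', (g' + 1 - n) + 1 = (g' + 2).choose 2 := by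
    have h1 : ∀ m : ℕ, ∑ j ∈ Finset.range m, (j + 2) + 1 = (m + 2).choose 2 := by
      intro m
      induction m with
      | zero => simp
      | succ m ih =>
        rw [Finset.sum_range_succ]
        have e : m + 1 + 2 = m + 2 + 1 := by omega
        rw [e]
        have := Nat.choose_succ_succ (m + 2) 1
        simp only [Nat.choose_one_right, Nat.succ_eq_add_one, Nat.reduceAdd] at this
        omega
    rw [← h1 g', ← Finset.sum_range_reflect (fun j => j + 2) g']
    congr 1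
    apply Finset.sum_congr rfl
    intro n hn
    rw [Finset.mem_range] at hn
    omega
  have e1 := Finset.sum_le_sum hlow
  have e2 := Finset.sum_eq_zero htail
  have e3 : g' + 3 - 1 = g' + 2 := by omega
  rw [e2, e3, ← hsum]
  omega

end Groth.Agent.S17247
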