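import Groth.Statements.S17248
import Mathlib
import Groth.Agent.Lib.Helper26.FunFldSeries
import Groth.Agent.Lib.Helper2.FunFld.Rational

set_option autoImplicit false
open FunFld

namespace Groth.Agent.S17248

open Groth.Agent.Lib.Helper26.FunFldAlgClosed Groth.Agent.Lib.Helper26.FunFldSeries Groth.Agent.Lib.Helper2.FF

/-- Let `K/k` be a function field of one variable of genus one over an algebraically closed field `k` of
characteristic zero (an elliptic curve `E`), `A` a place, and `g ≥ 3` an integer. Inside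
`H⁰(O_E((2g-2)A)) = L((2g-2)A)` consider `V = L(gA)` (dimension `g`) and any hyperplane `V₁` of it
containing `L((g-2)A)`: `L((g-2)A) ⊆ V₁ ⊆ L(gA)`, `dim V₁ = g - 1`. Vanishing orders are those of
sections of `O_E((2g-2)A)`: a member `f` vanishes to order at least `n` at a place `Q` when `f ∈
L((2g-2)A - nQ)`, and the weight of `V₁` at `Q` is `∑_{n=1}^{2g-2} dim (V₁ ∩ L((2g-2)A - nQ)) - (g-1
choose 2)` (the sum of the `g - 1` vanishing orders minus `0 + 1 + ⋯ + (g-2)`). Then the weight of
`V₁` at `A` is `(g-1)² + ε` with `ε ∈ {0, 1}`. (The published statement is for a smooth elliptic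
curve over the complex numbers and `g` odd positive; `g ≥ 3` here since the ambient inclusion needs
it; this row does not assume `g` odd.) -/
theorem result
    (k K : Type*) [Field k] [IsAlgClosed k] [CharZero k] [Field K] [Algebra k K]
    (hK : FunFld.IsFunctionField k K) (hg1 : FunFld.genus k K = 1)
    (g : ℕ) (h3 : 3 ≤ g) (A : FunFld.Place k K)
    (V₁ : Submodule k K) (hlo : FunFld.L (Finsupp.single A ((g : ℤ) - 2)) ≤ V₁)
    (hhi : V₁ ≤ FunFld.L (Finsupp.single A (g : ℤ))) (hdim : Module.finrank k ↥V₁ + 1 = g) :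
    ∃ ε : ℕ, ε ≤ 1 ∧
      (∑ n ∈ Finset.range (2 * g - 2), Module.finrank k
        ↥(V₁ ⊓ FunFld.L (Finsupp.single A (2 * (g : ℤ) - 2) - Finsupp.single A ((n : ℤ) + 1)))) =
      (g - 1).choose 2 + (g - 1) ^ 2 + ε := by
  classical
  have hVfin : Module.Finite k V₁ := Module.finite_of_finrank_pos (by omega)
  -- ℓ(jA) for genus one
  have hell : ∀ j : ℕ, 1 ≤ j → Module.finrank k ↥(L (Finsupp.single A (j : ℤ) : Divisor k K)) = j := by
    intro j hj
    have h := ell_eq_of_deg_ge hK (Finsupp.single A (j : ℤ) : Divisor k K)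
      (by rw [hg1, deg_single, deg_eq_one hK A]; push_cast; omega)
    rw [hg1, deg_single, deg_eq_one hK A, ell_def] at h
    push_cast at h
    have : (Module.finrank k ↥(L (Finsupp.single A (j : ℤ) : Divisor k K)) : ℤ) = j := by linarith
    exact_mod_cast this
  have hell0 : Module.finrank k ↥(L (Finsupp.single A ((0 : ℕ) : ℤ) : Divisor k K)) = 1 := by
    have e : (Finsupp.single A ((0 : ℕ) : ℤ) : Divisor k K) = 0 := by simp
    rw [e]
    exact finrank_L_zero hK
  -- the term with index j
  set T : ℕ → ℕ := fun j => Module.finrank k ↥(V₁ ⊓ L (Finsupp.single A (j : ℤ) : Divisor k K)) with hT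
  have hmonoL : ∀ {i j : ℤ}, i ≤ j → L (Finsupp.single A i : Divisor k K) ≤ L (Finsupp.single A j) := by
    intro i j hij
    apply L_mono
    intro R
    simp only [Finsupp.single_apply]
    split_ifs <;> omega
  have hTlow : ∀ j : ℕ, j + 2 ≤ g → T j = Module.finrank k ↥(L (Finsupp.single A (j : ℤ) : Divisor k K)) := by
    intro j hj
    simp only [hT]
    rw [inf_eq_right.2 ((hmonoL (by omega)).trans hlo)]
  have hThigh : ∀ j : ℕ, g ≤ j → T j = g - 1 := by
    intro j hj
    simp only [hT]
    rw [inf_eq_left.2 (hhi.trans (hmonoL (by exact_mod_cast hj)))]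
    omega
  -- the middle term
  have hmid1 : g - 2 ≤ T (g - 1) := by
    have h1 : L (Finsupp.single A ((g : ℤ) - 2) : Divisor k K) ≤
        V₁ ⊓ L (Finsupp.single A ((g - 1 : ℕ) : ℤ) : Divisor k K) :=
      le_inf hlo (hmonoL (by omega))
    haveI : Module.Finite k ↥(V₁ ⊓ L (Finsupp.single A ((g - 1 : ℕ) : ℤ) : Divisor k K)) := finite_inf V₁ _
    have h2 := Submodule.finrank_mono h1
    have e : ((g : ℤ) - 2) = ((g - 2 : ℕ) : ℤ) := by omega
    rw [e, hell (g - 2) (by omega)] at h2
    exact h2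
  have hmid2 : T (g - 1) ≤ g - 1 := by
    haveI : Module.Finite k ↥(L (Finsupp.single A ((g - 1 : ℕ) : ℤ) : Divisor k K)) :=
      finiteDimensional_L hK _
    have h2 := Submodule.finrank_mono (inf_le_right :
      V₁ ⊓ L (Finsupp.single A ((g - 1 : ℕ) : ℤ) : Divisor k K) ≤ _)
    rw [hell (g - 1) (by omega)] at h2
    exact h2
  refine ⟨T (g - 1) - (g - 2), by omega, ?_⟩
  -- reindex
  have hre : ∀ n ∈ Finset.range (2 * g - 2), Module.finrank k
        ↥(V₁ ⊓ FunFld.L (Finsupp.single A (2 * (g : ℤ) - 2) - Finsupp.single A ((n : ℤ) + 1))) =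
      T (2 * g - 2 - 1 - n) := by
    intro n hn
    rw [Finset.mem_range] at hn
    simp only [hT]
    rw [← Finsupp.single_sub]
    have : (2 * (g : ℤ) - 2 - ((n : ℤ) + 1)) = ((2 * g - 2 - 1 - n : ℕ) : ℤ) := by omega
    rw [this]
  rw [Finset.sum_congr rfl hre, Finset.sum_range_reflect T (2 * g - 2)]
  -- split the range
  have hsplit : 2 * g - 2 = (g - 1) + 1 + (g - 2) := by omega
  rw [hsplit, Finset.sum_range_add, Finset.sum_range_succ]
  have h1 : ∑ j ∈ Finset.range (g - 1), T j = 1 + (g - 1).choose 2 := by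
    obtain ⟨g', rfl⟩ : ∃ g', g = g' + 2 := ⟨g - 2, by omega⟩
    have e : g' + 2 - 1 = g' + 1 := by omega
    rw [e, Finset.sum_range_succ']
    have h2 : ∀ j ∈ Finset.range g', T (j + 1) = j + 1 := by
      intro j hj
      rw [Finset.mem_range] at hj
      rw [hTlow (j + 1) (by omega), hell (j + 1) (by omega)]
    rw [Finset.sum_congr rfl h2, hTlow 0 (by omega), hell0]
    have h3 : ∀ m : ℕ, ∑ j ∈ Finset.range m, (j + 1) = (m + 1).choose 2 := by
      intro m
      induction m with
      | zero => simp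
      | succ m ih =>
        rw [Finset.sum_range_succ, ih]
        have := Nat.choose_succ_succ (m + 1) 1
        simp only [Nat.choose_one_right, Nat.succ_eq_add_one, Nat.reduceAdd] at this
        omega
    rw [h3 g']
    omega
  have h2 : ∑ j ∈ Finset.range (g - 2), T (g - 1 + 1 + j) = (g - 2) * (g - 1) := by
    have : ∀ j ∈ Finset.range (g - 2), T (g - 1 + 1 + j) = g - 1 := by
      intro j _
      exact hThigh _ (by omega)
    rw [Finset.sum_congr rfl this, Finset.sum_const, Finset.card_range, smul_eq_mul]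
  rw [h1, h2]
  obtain ⟨g', rfl⟩ : ∃ g', g = g' + 2 := ⟨g - 2, by omega⟩
  have e1 : g' + 2 - 1 = g' + 1 := by omega
  have e2 : g' + 2 - 2 = g' := by omega
  simp only [e1, e2] at hmid1 hmid2 ⊢
  have : (g' + 1) ^ 2 = g' * (g' + 1) + g' + 1 := by ring
  omega

end Groth.Agent.S17248
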