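import Groth.Statements.S17249
import Mathlib
import Groth.Agent.Lib.Helper26.FunFldLinEq

set_option autoImplicit false
open FunFld

namespace Groth.Agent.S17249

open Groth.Agent.Lib.Helper26.FunFldAlgClosed Groth.Agent.Lib.Helper26.FunFldSeries Groth.Agent.Lib.Helper2.FF Groth.Agent.Lib.Helper26.FunFldLinEq Groth.Agent.Lib.Helper26.FunFldCoord

/-- Let `K/k` be a function field of one variable of genus two over an algebraically closed field `k` of
characteristic zero (a smooth curve `X` of genus `2`), `C` a canonical divisor, `A` a place with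
`ℓ(2A) = 1` (not a Weierstrass point), and `P`, `Q` places with `Q ≠ A`. Then `ℓ(C + 2A - P - 3Q) =
1` and `ℓ(C + 2A - P - Q) = 2` do not both hold: the two-dimensional complete system `H⁰(ω_X(2A -
P))` (of degree `3`) has no point `Q ≠ A` of weight three. (The published statement concerns a
general pointed curve `(X, A)` of genus two over the complex numbers and a point `P` of `X`; this
row assumes only `ℓ(2A) = 1`.) -/
theorem result
    (k K : Type*) [Field k] [IsAlgClosed k] [CharZero k] [Field K] [Algebra k K]
    (hK : FunFld.IsFunctionField k K) (hg : FunFld.genus k K = 2)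
    (C : FunFld.Divisor k K) (hC : FunFld.IsCanonical k K C)
    (A P Q : FunFld.Place k K) (hA : Module.finrank k ↥(FunFld.L (Finsupp.single A (2 : ℤ))) = 1) (hQ : Q ≠ A) :
    ¬ (Module.finrank k ↥(FunFld.L (C + Finsupp.single A (2 : ℤ) - Finsupp.single P (1 : ℤ) - Finsupp.single Q (3 : ℤ))) = 1 ∧
       Module.finrank k ↥(FunFld.L (C + Finsupp.single A (2 : ℤ) - Finsupp.single P (1 : ℤ) - Finsupp.single Q (1 : ℤ))) = 2) := by
  classical
  rintro ⟨-, h2⟩
  have hQ1 := deg_eq_one hK Q
  have hA1 := deg_eq_one hK A
  have hP1 := deg_eq_one hK P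
  have hdC := deg_canonical hK hC
  set q : Divisor k K := Finsupp.single Q (1 : ℤ) with hq
  set a : Divisor k K := Finsupp.single A (1 : ℤ) with ha
  set p : Divisor k K := Finsupp.single P (1 : ℤ) with hp
  have ea2 : (Finsupp.single A (2 : ℤ) : Divisor k K) = a + a := by
    rw [ha, ← Finsupp.single_add]; norm_num
  have dq : q.deg = 1 := by rw [hq, deg_single, hQ1]; norm_num
  have da : a.deg = 1 := by rw [ha, deg_single, hA1]; norm_num
  have dp : p.deg = 1 := by rw [hp, deg_single, hP1]; norm_num
  rw [ea2] at h2 hA
  have hqn : 0 ≤ q := by rw [hq]; exact single_nonneg _ (by norm_num)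
  have han : 0 ≤ a := by rw [ha]; exact single_nonneg _ (by norm_num)
  have hpn : 0 ≤ p := by rw [hp]; exact single_nonneg _ (by norm_num)
  obtain ⟨u, hu0, hu⟩ := genus_two_unique hK hg hC (D := C + (a + a) - p - q)
    (by simp only [deg_sub, deg_add, hdC, hg, dq, da, dp]; norm_num) (le_of_eq h2.symm)
  have key : a + a + FunFld.div k u⁻¹ = p + q := by
    rw [div_inv hK]
    linear_combination (norm := abel) - hu
  have hcase : p + q = a + a := by
    by_contra hne
    have t := two_le_ell hK (add_nonneg han han) (add_nonneg hpn hqn) (inv_ne_zero hu0) key hne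
    have : ell (a + a) = 1 := hA
    omega
  have := congrArg (fun D : Divisor k K => D Q) hcase
  have aQ : a Q = 0 := by rw [ha, Finsupp.single_apply, if_neg (Ne.symm hQ)]
  have qQ : q Q = 1 := by rw [hq, Finsupp.single_apply, if_pos rfl]
  simp only [Finsupp.coe_add, Pi.add_apply, aQ, qQ] at this
  have := hpn Q
  simp only [Finsupp.coe_zero, Pi.zero_apply] at this
  omega

end Groth.Agent.S17249
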