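import Groth.Statements.S17250
import Mathlib
import Groth.Agent.Lib.Helper26.FunFldLinEq

set_option autoImplicit false
open FunFld

namespace Groth.Agent.S17250

open Groth.Agent.Lib.Helper26.FunFldAlgClosed Groth.Agent.Lib.Helper26.FunFldSeries Groth.Agent.Lib.Helper2.FF Groth.Agent.Lib.Helper26.FunFldLinEq Groth.Agent.Lib.Helper26.FunFldCoord

/-- Let `K/k` be a function field of one variable of genus two over an algebraically closed field `k` of
characteristic zero (a smooth curve `X` of genus `2`), `C` a canonical divisor, `A` a place with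
`ℓ(2A) = 1`, and `P`, `Q` places different from `A`. Then `ℓ(C + 3A - P - 4Q) = 1` and `ℓ(C + 3A - P
- 2Q) = 2` do not both hold (the three-dimensional complete system `H⁰(ω_X(3A - P))`, of degree `4`,
has no point `Q ≠ A` with two independent sections vanishing to order at least `2` there and one
vanishing to order at least `4`). (The published statement concerns a general pointed curve `(X, A)`
of genus two over the complex numbers and a point `P ≠ A`; this row assumes `ℓ(2A) = 1` in place of
generality.) -/
theorem result
    (k K : Type*) [Field k] [IsAlgClosed k] [CharZero k] [Field K] [Algebra k K]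
    (hK : FunFld.IsFunctionField k K) (hg : FunFld.genus k K = 2)
    (C : FunFld.Divisor k K) (hC : FunFld.IsCanonical k K C)
    (A P Q : FunFld.Place k K) (hA : Module.finrank k ↥(FunFld.L (Finsupp.single A (2 : ℤ))) = 1) (hP : P ≠ A) (hQ : Q ≠ A) :
    ¬ (Module.finrank k ↥(FunFld.L (C + Finsupp.single A (3 : ℤ) - Finsupp.single P (1 : ℤ) - Finsupp.single Q (4 : ℤ))) = 1 ∧
       Module.finrank k ↥(FunFld.L (C + Finsupp.single A (3 : ℤ) - Finsupp.single P (1 : ℤ) - Finsupp.single Q (2 : ℤ))) = 2) := by
  classical
  rintro ⟨h1, h2⟩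
  have hQ1 := deg_eq_one hK Q
  have hA1 := deg_eq_one hK A
  have hP1 := deg_eq_one hK P
  have hdC := deg_canonical hK hC
  set q : Divisor k K := Finsupp.single Q (1 : ℤ) with hq
  set p : Divisor k K := Finsupp.single P (1 : ℤ) with hp
  set a3 : Divisor k K := Finsupp.single A (3 : ℤ) with ha3
  have eq2 : (Finsupp.single Q (2 : ℤ) : Divisor k K) = q + q := by
    rw [hq, ← Finsupp.single_add]; norm_num
  have eq4 : (Finsupp.single Q (4 : ℤ) : Divisor k K) = q + q + q + q := by
    rw [hq, ← Finsupp.single_add, ← Finsupp.single_add, ← Finsupp.single_add]; norm_num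
  have dq : q.deg = 1 := by rw [hq, deg_single, hQ1]; norm_num
  have da : a3.deg = 3 := by rw [ha3, deg_single, hA1]; norm_num
  have dp : p.deg = 1 := by rw [hp, deg_single, hP1]; norm_num
  rw [eq4] at h1
  rw [eq2] at h2
  obtain ⟨u, hu0, hu⟩ := genus_two_unique hK hg hC (D := C + a3 - p - (q + q))
    (by simp only [deg_sub, deg_add, hdC, hg, dq, da, dp]; norm_num) (le_of_eq h2.symm)
  obtain ⟨w, hw0, hw⟩ := exists_div_eq_zero hK (D := C + a3 - p - (q + q + q + q))
    (by simp only [deg_sub, deg_add, hdC, hg, dq, da, dp]; norm_num) (by rw [ell_def, h1]; norm_num)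
  -- ℓ(3A - P) = ℓ(C) = 2
  have key : C + FunFld.div k (w * u * u) = a3 - p := by
    rw [div_mul hK (mul_ne_zero hw0 hu0) hu0, div_mul hK hw0 hu0]
    linear_combination (norm := abel) hw + hu + hu
  have l1 : ell (a3 - p) = 2 := by
    rw [← key, ell_add_div hK C (mul_ne_zero (mul_ne_zero hw0 hu0) hu0),
      ell_canonical hK hC, hg]
  -- ℓ(3A) = 2
  have l2 : ell a3 = 2 := by
    have := ell_eq_of_deg_ge hK a3 (by rw [da, hg]; norm_num)
    rw [da, hg] at this
    have : (ell a3 : ℤ) = 2 := by rw [this]; norm_num
    exact_mod_cast this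
  -- strictness
  have hlt : L (a3 - p) < L a3 := by
    refine lt_of_le_of_ne (L_mono ?_) ?_
    · have hpn : 0 ≤ p := by rw [hp]; exact single_nonneg _ (by norm_num)
      exact sub_le_self _ hpn
    · intro h
      have h1 : (1 : K) ∈ L a3 := by
        have := algebraMap_mem_L hK (D := a3) (by rw [ha3]; exact single_nonneg _ (by norm_num)) 1
        simpa using this
      rw [← h, mem_L_iff_div hK one_ne_zero] at h1
      have h2 := h1 P
      have hd1 : FunFld.div k (1 : K) = 0 := by
        have := div_mul hK (one_ne_zero (α := K)) (one_ne_zero (α := K))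
        rw [mul_one] at this
        exact left_eq_add.mp this
      rw [hd1] at h2
      have a3P : a3 P = 0 := by rw [ha3, Finsupp.single_apply, if_neg (Ne.symm hP)]
      have pP : p P = 1 := by rw [hp, Finsupp.single_apply, if_pos rfl]
      simp only [Finsupp.coe_zero, Pi.zero_apply, zero_add, Finsupp.coe_sub, Pi.sub_apply, a3P, pP] at h2
      omega
  haveI := finiteDimensional_L hK a3
  have := Submodule.finrank_lt_finrank_of_lt hlt
  rw [← ell_def, ← ell_def, l1, l2] at this
  omega

end Groth.Agent.S17250
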