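import Groth.Statements.S17251
import Mathlib
import Groth.Agent.Lib.Helper26.FunFldLinEq

set_option autoImplicit false
open FunFld

namespace Groth.Agent.S17251

open Groth.Agent.Lib.Helper26.FunFldAlgClosed Groth.Agent.Lib.Helper26.FunFldSeries Groth.Agent.Lib.Helper2.FF Groth.Agent.Lib.Helper26.FunFldLinEq Groth.Agent.Lib.Helper26.FunFldCoord

/-- Let `K/k` be a function field of one variable of genus two over an algebraically closed field `k` of
characteristic zero (a smooth curve `Y` of genus `2`), `C` a canonical divisor, `B` a place with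
`ℓ(2B) = 1` (not a Weierstrass point) and `Q ≠ B` a place. Then `ℓ(C + B - 2Q) = 1` and `ℓ(C + 3B -
4Q) = 1` do not both hold: the complete systems `H⁰(ω_Y(B))` (dimension `2`, degree `3`) and
`H⁰(ω_Y(3B))` (dimension `4`, degree `5`) have no ramification point in common on `Y` minus `B`.
(The published statement concerns a general pointed curve `(Y, B)` of genus two over the complex
numbers; this row assumes only `ℓ(2B) = 1`.) -/
theorem result
    (k K : Type*) [Field k] [IsAlgClosed k] [CharZero k] [Field K] [Algebra k K]
    (hK : FunFld.IsFunctionField k K) (hg : FunFld.genus k K = 2)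
    (C : FunFld.Divisor k K) (hC : FunFld.IsCanonical k K C)
    (B Q : FunFld.Place k K) (hB : Module.finrank k ↥(FunFld.L (Finsupp.single B (2 : ℤ))) = 1) (hQ : Q ≠ B) :
    ¬ (Module.finrank k ↥(FunFld.L (C + Finsupp.single B (1 : ℤ) - Finsupp.single Q (2 : ℤ))) = 1 ∧
       Module.finrank k ↥(FunFld.L (C + Finsupp.single B (3 : ℤ) - Finsupp.single Q (4 : ℤ))) = 1) := by
  classical
  rintro ⟨h1, h2⟩
  have hQ1 := deg_eq_one hK Q
  have hB1 := deg_eq_one hK B
  have hdC := deg_canonical hK hC
  have hg0 : 0 < genus k K := by omega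
  -- abbreviations
  set q : Divisor k K := Finsupp.single Q (1 : ℤ) with hq
  set b : Divisor k K := Finsupp.single B (1 : ℤ) with hb
  have eq2 : (Finsupp.single Q (2 : ℤ) : Divisor k K) = q + q := by
    rw [hq, ← Finsupp.single_add]; norm_num
  have eq4 : (Finsupp.single Q (4 : ℤ) : Divisor k K) = q + q + q + q := by
    rw [hq, ← Finsupp.single_add, ← Finsupp.single_add, ← Finsupp.single_add]; norm_num
  have eb2 : (Finsupp.single B (2 : ℤ) : Divisor k K) = b + b := by
    rw [hb, ← Finsupp.single_add]; norm_num
  have eb3 : (Finsupp.single B (3 : ℤ) : Divisor k K) = b + b + b := by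
    rw [hb, ← Finsupp.single_add, ← Finsupp.single_add]; norm_num
  have dq : q.deg = 1 := by rw [hq, deg_single, hQ1]; norm_num
  have db : b.deg = 1 := by rw [hb, deg_single, hB1]; norm_num
  rw [eq2] at h1
  rw [eb3, eq4] at h2
  rw [eb2] at hB
  -- RR
  have hd1 : (C + b - (q + q)).deg = 1 := by
    rw [deg_sub, deg_add, deg_add, hdC, hg, dq, db]; norm_num
  have hd2 : (C + (b + b + b) - (q + q + q + q)).deg = 1 := by
    simp only [deg_sub, deg_add, hdC, hg, dq, db]; norm_num
  have r1 := riemann_roch hK C hC (C + b - (q + q))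
  have r2 := riemann_roch hK C hC (C + (b + b + b) - (q + q + q + q))
  have e1 : C - (C + b - (q + q)) = q + q - b := by abel
  have e2 : C - (C + (b + b + b) - (q + q + q + q)) = q + q + q + q - (b + b + b) := by abel
  have h1' : ell (C + b - (q + q)) = 1 := h1
  have h2' : ell (C + (b + b + b) - (q + q + q + q)) = 1 := h2
  rw [e1, hd1, hg, h1'] at r1
  rw [e2, hd2, hg, h2'] at r2
  have l1 : 0 < ell (q + q - b) := by
    have : (0 : ℤ) < ell (q + q - b) := by push_cast at r1; linarith
    exact_mod_cast this
  have l2 : 0 < ell (q + q + q + q - (b + b + b)) := by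
    have : (0 : ℤ) < ell (q + q + q + q - (b + b + b)) := by push_cast at r2; linarith
    exact_mod_cast this
  obtain ⟨R, x, hx0, hR1, hR⟩ := exists_div_eq_single hK
    (by simp only [deg_sub, deg_add, dq, db]; norm_num) l1
  obtain ⟨R', y, hy0, hR'1, hR'⟩ := exists_div_eq_single hK
    (by simp only [deg_sub, deg_add, dq, db]; norm_num) l2
  set r : Divisor k K := Finsupp.single R (1 : ℤ) with hr
  set r' : Divisor k K := Finsupp.single R' (1 : ℤ) with hr'
  have qB : q B = 0 := by rw [hq, Finsupp.single_apply, if_neg hQ]
  have bB : b B = 1 := by rw [hb, Finsupp.single_apply, if_pos rfl]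
  have hqn : 0 ≤ q := by rw [hq]; exact single_nonneg _ (by norm_num)
  have hbn : 0 ≤ b := by rw [hb]; exact single_nonneg _ (by norm_num)
  have hrn : 0 ≤ r := by rw [hr]; exact single_nonneg _ (by norm_num)
  have hrn' : 0 ≤ r' := by rw [hr']; exact single_nonneg _ (by norm_num)
  have dr : r.deg = 1 := by rw [hr, deg_single, hR1]; norm_num
  -- key claim : R = B
  have hRB : R = B := by
    have key : r + r + FunFld.div k (y * x⁻¹ * x⁻¹) = b + r' := by
      rw [div_mul hK (mul_ne_zero hy0 (inv_ne_zero hx0)) (inv_ne_zero hx0),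
        div_mul hK hy0 (inv_ne_zero hx0), div_inv hK]
      linear_combination (norm := abel) hR' - hR - hR
    by_cases hcase : b + r' = r + r
    · have := congrArg (fun D : Divisor k K => D B) hcase
      simp only [Finsupp.coe_add, Pi.add_apply, bB] at this
      by_contra hne
      have rB : r B = 0 := by rw [hr, Finsupp.single_apply, if_neg hne]
      have := hrn' B
      simp only [Finsupp.coe_zero, Pi.zero_apply] at this
      omega
    · have t1 : 2 ≤ ell (r + r) := two_le_ell hK (add_nonneg hrn hrn) (add_nonneg hbn hrn') 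
        (mul_ne_zero (mul_ne_zero hy0 (inv_ne_zero hx0)) (inv_ne_zero hx0)) key hcase
      have key2 : b + r + FunFld.div k x⁻¹ = q + q := by
        rw [div_inv hK]
        linear_combination (norm := abel) - hR
      have hne2 : q + q ≠ b + r := by
        intro h
        have := congrArg (fun D : Divisor k K => D B) h
        simp only [Finsupp.coe_add, Pi.add_apply, bB, qB] at this
        have := hrn B
        simp only [Finsupp.coe_zero, Pi.zero_apply] at this
        omega
      have t2 : 2 ≤ ell (b + r) := two_le_ell hK (add_nonneg hbn hrn) (add_nonneg hqn hqn)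
        (inv_ne_zero hx0) key2 hne2
      obtain ⟨u, hu0, hu⟩ := genus_two_unique hK hg hC (D := r + r) (by rw [deg_add, dr]; norm_num) t1
      obtain ⟨w, hw0, hw⟩ := genus_two_unique hK hg hC (D := b + r) (by rw [deg_add, dr, db]; norm_num) t2
      apply eq_of_single_sub_single_eq_div hK hg0 R B hR1 hB1 (u * w⁻¹) (mul_ne_zero hu0 (inv_ne_zero hw0))
      show r - b = _
      rw [div_mul hK hu0 (inv_ne_zero hw0), div_inv hK]
      linear_combination (norm := abel) hw - hu
  subst hRB
  have key3 : b + b + FunFld.div k x⁻¹ = q + q := by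
    rw [div_inv hK]
    linear_combination (norm := abel) - hR
  have hne3 : q + q ≠ b + b := by
    intro h
    have := congrArg (fun D : Divisor k K => D R) h
    simp only [Finsupp.coe_add, Pi.add_apply, bB, qB] at this
    omega
  have t3 : 2 ≤ ell (b + b) := two_le_ell hK (add_nonneg hbn hbn) (add_nonneg hqn hqn)
        (inv_ne_zero hx0) key3 hne3
  have : ell (b + b) = 1 := hB
  omega

end Groth.Agent.S17251
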