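import Groth.Statements.S17264
import Groth.Agent.Lib.Helper24.FibCatFpMap
import Groth.Agent.Lib.Helper24.FibCatEquiv3
import Groth.Agent.Lib.Helper24.FibCatDiag
import Groth.Agent.Lib.Helper24.FibCatRepDiag

set_option autoImplicit false
open CategoryTheory
universe v u
open FibCat

namespace Groth.Agent.S17264

open CategoryTheory
open FibCat
open Groth.Agent.Lib.Helper24

set_option backward.isDefEq.respectTransparency false
set_option backward.isDefEq.respectTransparency.types false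

noncomputable section

variable {C : Type u} [Category.{v} C] {𝒳 𝒴 𝒵 : BasedCategory.{v, max u v} C}
  (f : 𝒳 ⥤ᵇ 𝒴) (g : 𝒴 ⥤ᵇ 𝒵) {U : C} (G : FibCat.overCat U ⥤ᵇ 𝒴)

abbrev A := FibCat.fp (BasedFunctor.comp G g) (BasedFunctor.comp f g)

def H : A f g G ⥤ᵇ FibCat.fp g g :=
  FibCat.fpLift (BasedFunctor.comp (FibCat.fpFst _ _) G) (BasedFunctor.comp (FibCat.fpSnd _ _) f)
    (FibCat.fpIso (BasedFunctor.comp G g) (BasedFunctor.comp f g))

lemma H_obj_fst (a : (A f g G).obj) : ((H f g G).toFunctor.obj a).obj.fst = G.toFunctor.obj a.obj.fst := rfl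
lemma H_obj_snd (a : (A f g G).obj) : ((H f g G).toFunctor.obj a).obj.snd = f.toFunctor.obj a.obj.snd := rfl
lemma H_obj_iso (a : (A f g G).obj) : ((H f g G).toFunctor.obj a).obj.iso = a.obj.iso := rfl
lemma H_map_fst {a a' : (A f g G).obj} (m : a ⟶ a') :
    ((H f g G).toFunctor.map m).hom.fst = G.toFunctor.map m.hom.fst := rfl
lemma H_map_snd {a a' : (A f g G).obj} (m : a ⟶ a') :
    ((H f g G).toFunctor.map m).hom.snd = f.toFunctor.map m.hom.snd := rfl

abbrev L := FibCat.fp G f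
abbrev R := FibCat.fp (H f g G) (FibCat.diag g)


section obj
variable (t : (L f G).obj)

lemma t_lift : 𝒴.p.IsHomLift (𝟙 t.obj.fst.left) t.obj.iso.hom := FibCatFpGen.iso_isHomLift G f t

def aOf : (A f g G).obj :=
  FibCatFpGen.mkObj (F := BasedFunctor.comp G g) (G := BasedFunctor.comp f g) t.obj.fst t.obj.snd
    (g.toFunctor.mapIso t.obj.iso) (by
      have := t_lift f G t
      exact FibCatRepDiag.map_lift g _ _ this)

def αOf : (H f g G).toFunctor.obj (aOf f g G t) ≅ (FibCat.diag g).toFunctor.obj (f.toFunctor.obj t.obj.snd) :=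
  FibCatDiag.mkIso (F := g) (G := g) (x := (H f g G).toFunctor.obj (aOf f g G t))
    (y := (FibCat.diag g).toFunctor.obj (f.toFunctor.obj t.obj.snd)) t.obj.iso (Iso.refl _) (by
      change g.toFunctor.map t.obj.iso.hom ≫ 𝟙 _ = g.toFunctor.map t.obj.iso.hom ≫ g.toFunctor.map (𝟙 _)
      simp)

lemma αOf_hom_fst : (αOf f g G t).hom.hom.fst = t.obj.iso.hom := rfl
lemma αOf_hom_snd : (αOf f g G t).hom.hom.snd = 𝟙 _ := rfl

def ΦObj : (R f g G).obj :=
  FibCatFpGen.mkObj (F := H f g G) (G := FibCat.diag g) (aOf f g G t) (f.toFunctor.obj t.obj.snd)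
    (αOf f g G t) (by
      rw [FibCatFpGen.isHomLift_iff_fst]
      exact t_lift f G t)

end obj

section mor
variable {t t' : (L f G).obj} (m : t ⟶ t')

def aMap : aOf f g G t ⟶ aOf f g G t' :=
  FibCatFpGen.mkHom (F := BasedFunctor.comp G g) (G := BasedFunctor.comp f g) m.hom.fst m.hom.snd (by
    have := FibCatFpGen.hom_w m
    change g.toFunctor.map (G.toFunctor.map m.hom.fst) ≫ g.toFunctor.map t'.obj.iso.hom =
      g.toFunctor.map t.obj.iso.hom ≫ g.toFunctor.map (f.toFunctor.map m.hom.snd)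
    rw [← Functor.map_comp, ← Functor.map_comp, this])

def ΦMap : ΦObj f g G t ⟶ ΦObj f g G t' :=
  FibCatFpGen.mkHom (F := H f g G) (G := FibCat.diag g) (aMap f g G m) (f.toFunctor.map m.hom.snd) (by
    apply FibCatFpGen.hom_ext'
    · exact FibCatFpGen.hom_w m
    · change f.toFunctor.map m.hom.snd ≫ 𝟙 _ = 𝟙 _ ≫ f.toFunctor.map m.hom.snd
      simp)

end mor

def Φ : L f G ⥤ᵇ R f g G where
  toFunctor :=
    { obj := ΦObj f g G
      map := fun m => ΦMap f g G m
      map_id := fun t => by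
        apply FibCatFpGen.hom_ext'
        · apply FibCatFpGen.hom_ext' <;> rfl
        · exact f.toFunctor.map_id _
      map_comp := fun m n => by
        apply FibCatFpGen.hom_ext'
        · apply FibCatFpGen.hom_ext' <;> rfl
        · exact f.toFunctor.map_comp _ _ }
  w := rfl

instance : (Φ f g G).toFunctor.Faithful := by
  constructor
  intro t t' m m' h
  apply FibCatFpGen.hom_ext'
  · exact congrArg (fun x => x.hom.fst.hom.fst) h
  · exact congrArg (fun x => x.hom.fst.hom.snd) h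


section full
variable {t t' : (L f G).obj} (n : (Φ f g G).toFunctor.obj t ⟶ (Φ f g G).toFunctor.obj t')

lemma n_w₁ : G.toFunctor.map n.hom.fst.hom.fst ≫ t'.obj.iso.hom = t.obj.iso.hom ≫ n.hom.snd :=
  congrArg (fun x : (H f g G).toFunctor.obj (aOf f g G t) ⟶
    (FibCat.diag g).toFunctor.obj (f.toFunctor.obj t'.obj.snd) => x.hom.fst) (FibCatFpGen.hom_w n)

lemma n_w₂ : f.toFunctor.map n.hom.fst.hom.snd = n.hom.snd := by
  have := congrArg (fun x : (H f g G).toFunctor.obj (aOf f g G t) ⟶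
    (FibCat.diag g).toFunctor.obj (f.toFunctor.obj t'.obj.snd) => x.hom.snd) (FibCatFpGen.hom_w n)
  change f.toFunctor.map n.hom.fst.hom.snd ≫ 𝟙 _ = 𝟙 _ ≫ n.hom.snd at this
  simpa using this

def preim : t ⟶ t' :=
  FibCatFpGen.mkHom (F := G) (G := f) n.hom.fst.hom.fst n.hom.fst.hom.snd (by
    rw [n_w₂ f g G n]; exact n_w₁ f g G n)

end full

instance : (Φ f g G).toFunctor.Full := by
  constructor
  intro t t' n
  refine ⟨preim f g G n, ?_⟩
  apply FibCatFpGen.hom_ext'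
  · apply FibCatFpGen.hom_ext' <;> rfl
  · exact n_w₂ f g G n

section lift
variable (r : (R f g G).obj)

def rc : Over U := r.obj.fst.obj.fst
def rx : 𝒳.obj := r.obj.fst.obj.snd
def ry : 𝒴.obj := r.obj.snd
def rι : g.toFunctor.obj (G.toFunctor.obj (rc f g G r)) ≅ g.toFunctor.obj (f.toFunctor.obj (rx f g G r)) :=
  r.obj.fst.obj.iso
def κ₁ : G.toFunctor.obj (rc f g G r) ≅ ry f g G r :=
  (FibCat.fpFst g g).toFunctor.mapIso r.obj.iso
def κ₂ : f.toFunctor.obj (rx f g G r) ≅ ry f g G r :=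
  (FibCat.fpSnd g g).toFunctor.mapIso r.obj.iso

lemma κ₁_hom : (κ₁ f g G r).hom = r.obj.iso.hom.hom.fst := rfl
lemma κ₂_hom : (κ₂ f g G r).hom = r.obj.iso.hom.hom.snd := rfl

lemma r_lift : (FibCat.fp g g).p.IsHomLift (𝟙 (rc f g G r).left) r.obj.iso.hom :=
  FibCatFpGen.iso_isHomLift (H f g G) (FibCat.diag g) r

lemma κ₁_lift : 𝒴.p.IsHomLift (𝟙 (rc f g G r).left) (κ₁ f g G r).hom := by
  have := r_lift f g G r
  exact FibCatFpGen.isHomLift_fst _ r.obj.iso.hom

lemma κ₂_lift : 𝒴.p.IsHomLift (𝟙 (rc f g G r).left) (κ₂ f g G r).hom := by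
  have := r_lift f g G r
  exact FibCatFpGen.isHomLift_snd _ r.obj.iso.hom

lemma κ_w : g.toFunctor.map (κ₁ f g G r).hom = (rι f g G r).hom ≫ g.toFunctor.map (κ₂ f g G r).hom := by
  have := r.obj.iso.hom.hom.w
  change g.toFunctor.map (κ₁ f g G r).hom ≫ 𝟙 _ = (rι f g G r).hom ≫ g.toFunctor.map (κ₂ f g G r).hom at this
  simpa using this

def θOf : G.toFunctor.obj (rc f g G r) ≅ f.toFunctor.obj (rx f g G r) :=
  κ₁ f g G r ≪≫ (κ₂ f g G r).symm

lemma θOf_lift : 𝒴.p.IsHomLift (𝟙 (rc f g G r).left) (θOf f g G r).hom := by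
  have h1 := κ₁_lift f g G r
  have h2 := κ₂_lift f g G r
  have h3 : 𝒴.p.IsHomLift (𝟙 (rc f g G r).left) (κ₂ f g G r).inv :=
    IsHomLift.lift_id_inv (p := 𝒴.p) _ (κ₂ f g G r)
  change 𝒴.p.IsHomLift (𝟙 (rc f g G r).left) ((κ₁ f g G r).hom ≫ (κ₂ f g G r).inv)
  exact FibCatRepDiag.comp_id_right 𝒴.p (𝟙 _) _ _ h1 h3

def ξOf : (L f G).obj :=
  FibCatFpGen.mkObj (F := G) (G := f) (rc f g G r) (rx f g G r) (θOf f g G r) (θOf_lift f g G r)

lemma map_θOf : g.toFunctor.map (θOf f g G r).hom = (rι f g G r).hom := by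
  change g.toFunctor.map ((κ₁ f g G r).hom ≫ (κ₂ f g G r).inv) = _
  rw [g.toFunctor.map_comp, κ_w, Category.assoc, ← g.toFunctor.map_comp, Iso.hom_inv_id,
    g.toFunctor.map_id, Category.comp_id]

def eA : ((Φ f g G).toFunctor.obj (ξOf f g G r)).obj.fst ≅ r.obj.fst :=
  FibCatDiag.mkIso (Iso.refl _) (Iso.refl _) (by
    change g.toFunctor.map (G.toFunctor.map (𝟙 _)) ≫ (rι f g G r).hom =
      g.toFunctor.map (θOf f g G r).hom ≫ g.toFunctor.map (f.toFunctor.map (𝟙 _))
    rw [map_θOf]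
    simp)

lemma eA_hom_fst : (eA f g G r).hom.hom.fst = 𝟙 _ := rfl
lemma eA_hom_snd : (eA f g G r).hom.hom.snd = 𝟙 _ := rfl

def eOf : (Φ f g G).toFunctor.obj (ξOf f g G r) ≅ r :=
  FibCatDiag.mkIso (eA f g G r) (κ₂ f g G r) (by
    apply FibCatFpGen.hom_ext'
    · change G.toFunctor.map (𝟙 _) ≫ (κ₁ f g G r).hom = (θOf f g G r).hom ≫ (κ₂ f g G r).hom
      simp [θOf]
    · change f.toFunctor.map (𝟙 _) ≫ (κ₂ f g G r).hom = 𝟙 _ ≫ (κ₂ f g G r).hom
      simp)

lemma eOf_lift : (R f g G).p.IsHomLift (𝟙 ((R f g G).p.obj r)) (eOf f g G r).hom := by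
  rw [FibCatFpGen.isHomLift_iff_fst, FibCatFpGen.isHomLift_iff_fst]
  exact IsHomLift.id (p := (FibCat.overCat U).p) rfl

end lift

def liftDataΦ : FibCatEquiv.LiftData (Φ f g G) where
  ξ := ξOf f g G
  e := eOf f g G
  he := eOf_lift f g G

theorem isEquivOver_Φ : FibCat.IsEquivOver (Φ f g G) :=
  FibCatEquiv.isEquivOver_of_liftData (liftDataΦ f g G)

end

open Groth.Agent.Lib.Helper24.FibCatFpMap Groth.Agent.Lib.Helper24.FibCatEquiv


/-- Let C be a category with fibre products and let f : 𝒳 → 𝒴 and g : 𝒴 → 𝒵 be functors over C between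
categories fibred in groupoids over C. If the composite g ∘ f is a representable 1-morphism (its
2-fibre product with every slice category C/U is equivalent over C to a slice category) and the
diagonal 𝒴 → 𝒴 ×_𝒵 𝒴 of g is a representable 1-morphism, then f is a representable 1-morphism. This
is the case of the source's lemma in which the class of test objects is the class of representable
categories over C. -/
theorem result {C : Type u} [Category.{v} C]
    [Limits.HasPullbacks C] {𝒳 𝒴 𝒵 : BasedCategory.{v, max u v} C}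
    (h𝒳 : FibCat.IsFibGrpd 𝒳.p) (h𝒴 : FibCat.IsFibGrpd 𝒴.p) (h𝒵 : FibCat.IsFibGrpd 𝒵.p)
    (f : 𝒳 ⥤ᵇ 𝒴) (g : 𝒴 ⥤ᵇ 𝒵)
    (hgf : FibCat.IsRepresentable1 (BasedFunctor.comp f g))
    (hΔ : FibCat.IsRepresentable1 (FibCat.diag g)) :
    FibCat.IsRepresentable1 f := by
  intro U G
  obtain ⟨V, E, hE⟩ := hgf U (BasedFunctor.comp G g)
  obtain ⟨E', hE'⟩ := exists_inverse_isEquivOver E hE
  have h1 := hΔ V (BasedFunctor.comp E' (H f g G))
  have i1 : (BasedFunctor.id (FibCat.fp g g)).toFunctor.Full :=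
    inferInstanceAs (𝟭 (FibCat.fp g g).obj).Full
  have i2 : (BasedFunctor.id (FibCat.fp g g)).toFunctor.Faithful :=
    inferInstanceAs (𝟭 (FibCat.fp g g).obj).Faithful
  have hid : FibCat.IsEquivOver (BasedFunctor.id 𝒴) := ⟨BasedFunctor.id _, ⟨Iso.refl _⟩, ⟨Iso.refl _⟩⟩
  let eF : BasedFunctor.comp (BasedFunctor.comp E' (H f g G)) (BasedFunctor.id (FibCat.fp g g)) ≅
      BasedFunctor.comp E' (H f g G) := Iso.refl _
  let eG : BasedFunctor.comp (FibCat.diag g) (BasedFunctor.id (FibCat.fp g g)) ≅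
      BasedFunctor.comp (BasedFunctor.id 𝒴) (FibCat.diag g) := Iso.refl _
  have hM := isEquivOver_fpMap E' (BasedFunctor.id 𝒴) (BasedFunctor.id (FibCat.fp g g)) eF eG hE' hid
  have h2 := (isRepresentable_iff_of_isEquivOver _ hM).1 h1
  exact (isRepresentable_iff_of_isEquivOver (Φ f g G) (isEquivOver_Φ f g G)).2 h2

end Groth.Agent.S17264
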