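import Groth.Statements.S1728
import Groth.Agent.Lib.Helper25.InjHull
-- import your own Groth.Agent.* helpers here

set_option autoImplicit false
universe u
open InjHull

namespace Groth.Agent.S1728

/-- Let I be an injective R-module and E a submodule of I. Then E is an injective module if and only if
every submodule E' of I containing E, such that every nonzero submodule of E' meets E nontrivially,
is equal to E. -/
theorem result (R : Type u) [CommRing R] (I : Type u) [AddCommGroup I] [Module R I] [Module.Injective R I] (E : Submodule R I) : Module.Injective R E ↔ ∀ E' : Submodule R I, E ≤ E' → (∀ N : Submodule R I, N ≤ E' → N ≠ ⊥ → N ⊓ E ≠ ⊥) → E' = E := by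
  open Groth.Agent.Lib.Helper25 in
  constructor
  · intro hinj E' hEE' hess
    have := hinj
    obtain ⟨C, hC⟩ := exists_isCompl_range_of_injective E.subtype E.subtype_injective
    rw [Submodule.range_subtype] at hC
    refine le_antisymm (fun x hx => ?_) hEE'
    -- decompose x = e + c
    have hx' : x ∈ E ⊔ C := by rw [hC.sup_eq_top]; trivial
    obtain ⟨e, he, c, hc, rfl⟩ := Submodule.mem_sup.1 hx'
    have hcE' : c ∈ E' := by
      have := E'.sub_mem hx (hEE' he)
      simpa using this
    have hc0 : c = 0 := by
      by_contra hne
      have hspan : Submodule.span R {c} ≠ ⊥ := by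
        rw [Ne, Submodule.span_singleton_eq_bot]; exact hne
      have hle : Submodule.span R {c} ≤ E' := by
        rw [Submodule.span_singleton_le_iff_mem]; exact hcE'
      apply hess _ hle hspan
      rw [eq_bot_iff]
      rintro y ⟨hy1, hy2⟩
      have hyC : y ∈ C := by
        obtain ⟨r, rfl⟩ := Submodule.mem_span_singleton.1 hy1
        exact C.smul_mem r hc
      exact (Submodule.disjoint_def.1 hC.disjoint) y hy2 hyC
    rw [hc0, add_zero]
    exact he
  · intro h
    have hE : ∀ B, EssIn E B → B = E := by
      intro B hB
      refine h B hB.1 (fun N hN hN0 => ?_)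
      obtain ⟨x, hx, hx0⟩ := (Submodule.ne_bot_iff _).1 hN0
      obtain ⟨r, hr0, hr⟩ := hB.2 x (hN hx) hx0
      exact (Submodule.ne_bot_iff _).2 ⟨r • x, ⟨N.smul_mem r hx, hr⟩, hr0⟩
    obtain ⟨N, hN⟩ := exists_isCompl_of_forall_essIn E hE
    exact injective_of_isCompl hN

end Groth.Agent.S1728
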