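import Groth.Statements.S17280
import Groth.Agent.Lib.Helper2.DegAdd.GenIso
import Groth.Agent.Lib.Helper2.DegAdd.KerIm
import Groth.Agent.Lib.Helper2.DegAdd.SubLF
import Groth.Agent.Lib.Helper29.QCohLocFree

set_option autoImplicit false
universe u
open CategoryTheory CategoryTheory.Limits AlgebraicGeometry TopologicalSpace
open Variety

namespace Groth.Agent.S17280

/-- Scheme case, curve-test form of nefness: let X be a proper scheme over a field k and 0 → E' → E →
E'' → 0 a short exact sequence whose three terms are finite locally free O_X-modules. Assume that E'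
and E'' are nef in the curve-test sense: for every regular projective curve C over k (integral,
proper over k, of dimension one, all local rings regular), every k-morphism f : C → X and every
invertible quotient M of the pulled-back module, deg M = χ(M) - χ(O_C) ≥ 0. Then E is nef in the
same sense. (The source states this for proper algebraic spaces and nefness of O(1) on P(E); on
proper schemes the two senses agree by the Barton–Kleiman criterion.) -/
theorem result (k : Type u) [Field k] (X : Scheme.{u})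
    [X.Over (Spec (CommRingCat.of k))] [IsProper (X ↘ (Spec (CommRingCat.of k)))] (S : ShortComplex X.Modules) (hS : S.ShortExact)
    (h₁ : FlatMod.IsFinLocFree S.X₁) (h₂ : FlatMod.IsFinLocFree S.X₂) (h₃ : FlatMod.IsFinLocFree S.X₃)
    (hnef₁ : ∀ (C : Scheme.{u}) [C.Over (Spec (CommRingCat.of k))] [IsProper (C ↘ (Spec (CommRingCat.of k)))] [IsIntegral C],
      topologicalKrullDim C = 1 → (∀ x : C, IsRegularLocalRing (C.presheaf.stalk x)) →
      ∀ (f : C ⟶ X), f ≫ (X ↘ (Spec (CommRingCat.of k))) = C ↘ (Spec (CommRingCat.of k)) →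
      ∀ (M : C.Modules), PicF.IsInvertible M →
      ∀ (q : (Scheme.Modules.pullback f).obj S.X₁ ⟶ M), Epi q → 0 ≤ Curv2.deg k C M 1)
    (hnef₃ : ∀ (C : Scheme.{u}) [C.Over (Spec (CommRingCat.of k))] [IsProper (C ↘ (Spec (CommRingCat.of k)))] [IsIntegral C],
      topologicalKrullDim C = 1 → (∀ x : C, IsRegularLocalRing (C.presheaf.stalk x)) →
      ∀ (f : C ⟶ X), f ≫ (X ↘ (Spec (CommRingCat.of k))) = C ↘ (Spec (CommRingCat.of k)) →
      ∀ (M : C.Modules), PicF.IsInvertible M →
      ∀ (q : (Scheme.Modules.pullback f).obj S.X₃ ⟶ M), Epi q → 0 ≤ Curv2.deg k C M 1) :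
    ∀ (C : Scheme.{u}) [C.Over (Spec (CommRingCat.of k))] [IsProper (C ↘ (Spec (CommRingCat.of k)))] [IsIntegral C],
    topologicalKrullDim C = 1 → (∀ x : C, IsRegularLocalRing (C.presheaf.stalk x)) →
    ∀ (f : C ⟶ X), f ≫ (X ↘ (Spec (CommRingCat.of k))) = C ↘ (Spec (CommRingCat.of k)) →
    ∀ (M : C.Modules), PicF.IsInvertible M →
    ∀ (q : (Scheme.Modules.pullback f).obj S.X₂ ⟶ M), Epi q → 0 ≤ Curv2.deg k C M 1 := by
  intro C _ _ _ hdimC hreg f hf M hM q hq
  have hLN : IsLocallyNoetherian C :=
    LocallyOfFiniteType.isLocallyNoetherian (C ↘ Spec (CommRingCat.of k))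
  have hla : (Scheme.Modules.pullback f).IsLeftAdjoint :=
    (Scheme.Modules.pullbackPushforwardAdjunction f).isLeftAdjoint
  have hab : (Scheme.Modules.pullback f).map S.f ≫ (Scheme.Modules.pullback f).map S.g = 0 := by
    rw [← Functor.map_comp, S.zero, Functor.map_zero]
  have hcok : IsColimit (CokernelCofork.ofπ ((Scheme.Modules.pullback f).map S.g) hab) :=
    CokernelCofork.mapIsColimit _ hS.gIsCokernel (Scheme.Modules.pullback f)
  have hM1 : FlatMod.IsFinLocFreeOfRank 1 M :=
    (Groth.Agent.Lib.Helper29.QCoh.isInvertible_iff_isFinLocFreeOfRank_one M).mp hM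
  by_cases h0 : (Scheme.Modules.pullback f).map S.f ≫ q = 0
  · have hfac : (Scheme.Modules.pullback f).map S.g ≫
        hcok.desc (CokernelCofork.ofπ q h0) = q :=
      hcok.fac (CokernelCofork.ofπ q h0) WalkingParallelPair.one
    have hepi : Epi (hcok.desc (CokernelCofork.ofπ q h0)) := by
      have : Epi ((Scheme.Modules.pullback f).map S.g ≫
          hcok.desc (CokernelCofork.ofπ q h0)) := by rw [hfac]; exact hq
      exact epi_of_epi ((Scheme.Modules.pullback f).map S.g) _
    exact hnef₃ C hdimC hreg f hf M hM _ hepi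
  · have hE1 : FlatMod.IsFinLocFree ((Scheme.Modules.pullback f).obj S.X₁) :=
      Groth.Agent.Lib.Helper29.QCoh.isFinLocFree_pullback f h₁
    obtain ⟨n₁, hn₁⟩ := Groth.Agent.Lib.Helper2.DegAdd.exists_rank_of_isFinLocFree hE1
    have hIc : Coh.IsCoh (Abelian.image ((Scheme.Modules.pullback f).map S.f ≫ q)) :=
      Groth.Agent.Lib.Helper12.H12Dev.isCoh_image _
        (Groth.Agent.Lib.Helper2.DegAdd.isCoh_of_isFinLocFreeOfRank hn₁)
        (Groth.Agent.Lib.Helper2.DegAdd.isCoh_of_isFinLocFreeOfRank hM1)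
    have hIlf := Groth.Agent.Lib.Helper2.DegAdd.isFinLocFree_of_mono hreg (le_of_eq hdimC)
      (Abelian.image.ι ((Scheme.Modules.pullback f).map S.f ≫ q)) hIc
      (Groth.Agent.Lib.Helper29.QCoh.isFinLocFree_of_isFinLocFreeOfRank hM1)
    obtain ⟨n, hn⟩ := Groth.Agent.Lib.Helper2.DegAdd.exists_rank_of_isFinLocFree hIlf
    have x : C := Classical.arbitrary C
    have hle := Groth.Agent.Lib.Helper2.DegAdd.rank_le_of_mono
      (Abelian.image.ι ((Scheme.Modules.pullback f).map S.f ≫ q)) n 1 hn hM1 x
    have hn0 : n ≠ 0 := by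
      intro hn0
      subst hn0
      have hz := Groth.Agent.Lib.Helper2.DegAdd.isZero_of_rank_zero hn
      apply h0
      rw [← Abelian.image.fac ((Scheme.Modules.pullback f).map S.f ≫ q),
        hz.eq_of_src (Abelian.image.ι _) 0, comp_zero]
    have hn1 : n = 1 := by omega
    subst hn1
    have hI : PicF.IsInvertible (Abelian.image ((Scheme.Modules.pullback f).map S.f ≫ q)) :=
      (Groth.Agent.Lib.Helper29.QCoh.isInvertible_iff_isFinLocFreeOfRank_one _).mpr hn
    have hd1 := hnef₁ C hdimC hreg f hf _ hI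
      (Abelian.factorThruImage ((Scheme.Modules.pullback f).map S.f ≫ q)) inferInstance
    have hd2 := Groth.Agent.Lib.Helper2.DegAdd.deg_le_of_mono_same_rank k (le_of_eq hdimC)
      (Abelian.image.ι ((Scheme.Modules.pullback f).map S.f ≫ q)) 1 hn hM1
    omega

end Groth.Agent.S17280
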