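import Groth.Statements.S1729
import Mathlib

set_option autoImplicit false
universe u
open Dual2

namespace Groth.Agent.S1729

/-- Over a local ring, every finite module M admits a projective cover: a surjection from a projective
module P onto M such that no proper submodule of P maps onto M. -/
theorem result (R : Type u) [CommRing R] [IsLocalRing R] (M : Type u) [AddCommGroup M] [Module R M] [Module.Finite R M] : ∃ (P : Type u) (_ : AddCommGroup P) (_ : Module R P) (f : P →ₗ[R] M), Dual2.IsProjectiveCover f := by
  classical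
  -- minimal number of generators
  have hex : ∃ n : ℕ, ∃ f : (Fin n → R) →ₗ[R] M, Function.Surjective f :=
    Module.Finite.exists_fin' R M
  let n := Nat.find hex
  obtain ⟨f, hf⟩ : ∃ f : (Fin n → R) →ₗ[R] M, Function.Surjective f := Nat.find_spec hex
  have hmin : ∀ m : ℕ, m < n → ¬ ∃ f : (Fin m → R) →ₗ[R] M, Function.Surjective f :=
    fun m hm => Nat.find_min hex hm
  -- the kernel of f is contained in 𝔪 • ⊤
  have hker : ∀ c : Fin n → R, f c = 0 → ∀ j, c j ∈ IsLocalRing.maximalIdeal R := by
    intro c hc j
    by_contra hj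
    have hu : IsUnit (c j) := by
      by_contra h
      exact hj ((IsLocalRing.mem_maximalIdeal _).mpr h)
    obtain ⟨uj, huj⟩ := hu
    -- n = n' + 1
    obtain ⟨n', hn'⟩ : ∃ n', n = n' + 1 := ⟨n - 1, by have := j.2; omega⟩
    apply hmin n' (by omega)
    -- reindex
    revert f c j
    rw [hn']
    intro f hf c hc j hj huj
    refine ⟨f.comp (Function.ExtendByZero.linearMap R (Fin.succAbove j)), ?_⟩
    intro y
    obtain ⟨x, rfl⟩ := hf y
    set x' : Fin (n' + 1) → R := x - (x j * ↑uj⁻¹) • c with hx'
    have hx'j : x' j = 0 := by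
      rw [hx', Pi.sub_apply, Pi.smul_apply, smul_eq_mul, ← huj, mul_assoc, Units.inv_mul, mul_one,
        sub_self]
    have hfx' : f x' = f x := by
      rw [hx', map_sub, map_smul, hc, smul_zero, sub_zero]
    refine ⟨fun i => x' (Fin.succAbove j i), ?_⟩
    rw [LinearMap.comp_apply, ← hfx']
    congr 1
    funext i
    rw [Function.ExtendByZero.linearMap_apply]
    rcases Fin.eq_self_or_eq_succAbove j i with h | ⟨i', h⟩
    · rw [h, hx'j, Function.extend_apply']
      · rfl
      · rintro ⟨i', hi'⟩
        exact Fin.succAbove_ne j i' hi'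
    · rw [h, (Fin.succAbove_right_injective).extend_apply]
  refine ⟨Fin n → R, inferInstance, inferInstance, f, ⟨inferInstance, hf, ?_⟩⟩
  intro N hN
  have hfg : (⊤ : Submodule R (Fin n → R)).FG := Module.Finite.fg_top
  have hle : (⊤ : Submodule R (Fin n → R)) ≤ N ⊔ IsLocalRing.maximalIdeal R • ⊤ := by
    intro y _
    have hy : f y ∈ Submodule.map f N := by rw [hN]; trivial
    obtain ⟨z, hz, hzy⟩ := hy
    have h1 : f (y - z) = 0 := by rw [map_sub, hzy, sub_self]
    have h2 := hker _ h1
    have h3 : y - z ∈ IsLocalRing.maximalIdeal R • (⊤ : Submodule R (Fin n → R)) := by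
      have : y - z = ∑ i, (y - z) i • (Pi.single i (1 : R) : Fin n → R) := by
        funext i
        simp [Finset.sum_apply, Pi.single_apply]
      rw [this]
      exact Submodule.sum_mem _ fun i _ =>
        Submodule.smul_mem_smul (h2 i) Submodule.mem_top
    have : y = z + (y - z) := by abel
    rw [this]
    exact Submodule.add_mem_sup hz h3
  have := Submodule.le_of_le_smul_of_le_jacobson_bot hfg
    (IsLocalRing.jacobson_eq_maximalIdeal ⊥ bot_ne_top).ge hle
  exact top_le_iff.mp this

end Groth.Agent.S1729
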