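import Groth.Statements.S1732
import Mathlib
import Groth.Agent.Lib.Helper20.DModTors

set_option autoImplicit false
universe u
open LocCoh

namespace Groth.Agent.S1732


/-- Let k be a field of characteristic zero, d ≥ 1, A = k[[x_1, …, x_d]] with maximal ideal m, and E an
injective hull of the residue field of A. Let M be an m-power torsion A-module equipped with
additive maps D_1, …, D_d such that D_i(f z) = θ_i(f) z + f D_i(z), where θ_i is the k-derivation of
A with θ_i(x_j) = δ_ij (the partial derivative in x_i). Then M is, up to isomorphism, a direct sum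
of copies of E. -/
theorem result (k : Type u) [Field k] [CharZero k] (d : ℕ) (hd : 1 ≤ d) (E : Type u) [AddCommGroup E] [Module (MvPowerSeries (Fin d) k) E] (e : IsLocalRing.ResidueField (MvPowerSeries (Fin d) k) →ₗ[MvPowerSeries (Fin d) k] E) (he : InjHull.IsInjectiveHull e) (θ : Fin d → Derivation k (MvPowerSeries (Fin d) k) (MvPowerSeries (Fin d) k)) (hθ : ∀ i j : Fin d, θ i (MvPowerSeries.X j) = if i = j then 1 else 0) (M : Type u) [AddCommGroup M] [Module (MvPowerSeries (Fin d) k) M] (hM : LocCoh.IsPowerTorsion (IsLocalRing.maximalIdeal (MvPowerSeries (Fin d) k)) M) (D : Fin d → M →+ M) (hD : ∀ (i : Fin d) (f : MvPowerSeries (Fin d) k) (z : M), D i (f • z) = θ i f • z + f • D i z) : ∃ J : Type u, Nonempty (M ≃ₗ[MvPowerSeries (Fin d) k] (J →₀ E)) := by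

  classical
  obtain ⟨x, hxdef⟩ : ∃ x : Fin d → MvPowerSeries (Fin d) k,
      x = fun i => (MvPowerSeries.X i : MvPowerSeries (Fin d) k) := ⟨_, rfl⟩
  have hxX : ∀ i, x i = MvPowerSeries.X i := fun i => by rw [hxdef]
  have hspan : IsLocalRing.maximalIdeal (MvPowerSeries (Fin d) k) = Ideal.span (Set.range x) := by
    rw [hxdef]
    exact Groth.Agent.Lib.Helper20.DModTors.maximalIdeal_eq_span_X
  have hxm : ∀ i, x i ∈ IsLocalRing.maximalIdeal (MvPowerSeries (Fin d) k) := fun i => by
    rw [hspan]; exact Ideal.subset_span ⟨i, rfl⟩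
  have hDx : ∀ i j z, D i (x j • z) = (if i = j then z else 0) + x j • D i z := by
    intro i j z
    rw [hD, hxX, hθ]
    split_ifs
    · rw [one_smul]
    · rw [zero_smul]
  have hinv : ∀ N : ℕ, ∃ u : MvPowerSeries (Fin d) k,
      u * ((N + 1 : ℕ) : MvPowerSeries (Fin d) k) = 1 := by
    intro N
    refine ⟨algebraMap k _ (((N + 1 : ℕ) : k)⁻¹), ?_⟩
    rw [← map_natCast (algebraMap k (MvPowerSeries (Fin d) k)) (N + 1), ← map_mul,
      inv_mul_cancel₀ (Nat.cast_ne_zero.2 (Nat.succ_ne_zero N)), map_one]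
  have hKos : ∀ n : Fin d → M, (∀ i j, x j • n i = x i • n j) → ∃ z, ∀ i, x i • z = n i := by
    intro n hc
    choose Ni hNi using fun i => hM (n i)
    refine Groth.Agent.Lib.Helper20.DModTors.exists_of_compat x D hDx hinv
      (Finset.univ.sup Ni) n (fun i => ?_) hc
    refine Groth.Agent.Lib.Helper20.DModTors.K_of_pow_smul x _ hxm _ _ (fun a ha => ?_)
    exact hNi i a (Ideal.pow_le_pow_right (Finset.le_sup (f := Ni) (Finset.mem_univ i)) ha)
  -- an injective hull of `M` inside a power torsion injective module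
  obtain ⟨I, _, _, hIinj, ι₀, hι₀⟩ :=
    Groth.Agent.Lib.Helper25.exists_injective_embedding (R := MvPowerSeries (Fin d) k) M
  have hPinj : Module.Injective (MvPowerSeries (Fin d) k)
      ↥(Groth.Agent.Lib.Helper25.powTorsion
        (IsLocalRing.maximalIdeal (MvPowerSeries (Fin d) k)) I) :=
    Groth.Agent.Lib.Helper25.injective_powTorsion hIinj _
  have hmem : ∀ z : M, ι₀ z ∈ Groth.Agent.Lib.Helper25.powTorsion
      (IsLocalRing.maximalIdeal (MvPowerSeries (Fin d) k)) I := by
    intro z
    rw [Groth.Agent.Lib.Helper25.mem_powTorsion_iff]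
    obtain ⟨n, hn⟩ := hM z
    exact ⟨n, fun a ha => by rw [← map_smul, hn a ha, map_zero]⟩
  obtain ⟨Q, f, hf, -, -⟩ := Groth.Agent.Lib.Helper25.exists_isInjectiveHull_in
    (ι₀.codRestrict _ hmem) (fun a b hab => hι₀ (congrArg Subtype.val hab))
  have hQ : LocCoh.IsPowerTorsion (IsLocalRing.maximalIdeal (MvPowerSeries (Fin d) k)) ↥Q := by
    intro y
    obtain ⟨n, hn⟩ := (Groth.Agent.Lib.Helper25.mem_powTorsion_iff _ _).1 (y : ↥(Groth.Agent.Lib.Helper25.powTorsion
        (IsLocalRing.maximalIdeal (MvPowerSeries (Fin d) k)) I)).2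
    exact ⟨n, fun a ha => Subtype.ext (Subtype.ext (hn a ha))⟩
  have hsurj : Function.Surjective f :=
    Groth.Agent.Lib.Helper20.DModTors.surjective_of_koszul x hspan f hf.toIsEssentialInj hQ hKos
  have hMinj : Module.Injective (MvPowerSeries (Fin d) k) M :=
    Groth.Agent.Lib.Helper25.injective_of_linearEquiv
      (LinearEquiv.ofBijective f ⟨hf.injective, hsurj⟩).symm hf.isInjective
  exact Groth.Agent.Lib.Helper20.DModTors.nonempty_equiv_finsupp_of_injective E e he M hM hMinj

end Groth.Agent.S1732
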