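import Groth.Statements.S17321
import Mathlib.RingTheory.Artinian.Ring
import Mathlib.RingTheory.Artinian.Module
import Mathlib.RingTheory.Ideal.AssociatedPrime.Localization
import Mathlib.LinearAlgebra.Dual.Lemmas
import Mathlib.FieldTheory.Perfect
import Mathlib.FieldTheory.Minpoly.Field
import Mathlib.Tactic.Ring
import Mathlib.RingTheory.Derivation.Basic
-- import your own Groth.Agent.* helpers here

set_option autoImplicit false
universe u v
open CAlg

namespace Groth.Agent.S17321

/-- Let k be an algebraically closed field and A a commutative k-algebra which is finite-dimensional as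
a k-vector space (the coordinate ring of a finite k-scheme). Then the space Der(A) of k-derivations
A → A is zero if and only if A is reduced. -/
theorem result (k : Type u) [Field k] [IsAlgClosed k]
    (A : Type v) [CommRing A] [Algebra k A] [Module.Finite k A] :
    Subsingleton (Derivation k A A) ↔ IsReduced A := by
  have hart : IsArtinianRing A := IsArtinianRing.of_finite k A
  have hnoeth : IsNoetherianRing A :=
    isNoetherian_of_tower k (isNoetherian_of_isNoetherianRing_of_finite k A)
  constructor
  · intro hsub
    by_contra hnr
    -- a maximal ideal with `m² ≠ m`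
    have h1 : ∃ I : MaximalSpectrum A, I.asIdeal ^ 2 ≠ I.asIdeal := by
      by_contra hcon
      push Not at hcon
      apply hnr
      have hN2 : nilradical A ^ 2 = nilradical A := by
        rw [IsArtinianRing.nilradical_pow_eq_iInf, IsArtinianRing.nilradical_eq_iInf]
        exact iInf_congr hcon
      obtain ⟨n, hn⟩ := IsArtinianRing.isNilpotent_nilradical (R := A)
      have hpow : ∀ j : ℕ, nilradical A ^ (j + 1) = nilradical A := by
        intro j
        induction j with
        | zero => simp
        | succ j ih => rw [pow_succ, ih, ← pow_two, hN2]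
      have hzero : nilradical A = ⊥ := by
        cases n with
        | zero =>
          rw [pow_zero, Ideal.one_eq_top, Ideal.zero_eq_bot] at hn
          exact le_bot_iff.mp (hn ▸ le_top)
        | succ j => rw [← hpow j]; exact hn
      exact nilradical_eq_bot_iff.mp hzero
    obtain ⟨I, hI⟩ := h1
    set m := I.asIdeal with hm
    have hmax : m.IsMaximal := I.isMaximal
    -- residue field is `k`
    have hres : ∀ x : A, ∃ c : k, x - algebraMap k A c ∈ m := by
      intro x
      let _ : Field (A ⧸ m) := Ideal.Quotient.field m
      have hsurj : Function.Surjective (algebraMap k (A ⧸ m)) :=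
        (IsAlgClosed.algebraMap_bijective_of_isIntegral).2
      obtain ⟨c, hc⟩ := hsurj (Ideal.Quotient.mk m x)
      refine ⟨c, ?_⟩
      rw [← Ideal.Quotient.eq_zero_iff_mem, map_sub, ← hc]
      rw [IsScalarTower.algebraMap_apply k A (A ⧸ m)]
      exact sub_self _
    choose c hc using hres
    have hunit : ∀ r : k, algebraMap k A r ∈ m → r = 0 := by
      intro r hr
      by_contra hne
      have : IsUnit (algebraMap k A r) := (IsUnit.mk0 r hne).map (algebraMap k A)
      exact hmax.ne_top (Ideal.eq_top_of_isUnit_mem _ hr this)
    -- an element killed by `m`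
    have hz : ∃ z : A, z ≠ 0 ∧ ∀ a ∈ m, a * z = 0 := by
      have hmin : m ∈ (Module.annihilator A A).minimalPrimes := by
        have : m.IsPrime := hmax.isPrime
        exact IsArtinianRing.mem_minimalPrimes (by rw [Module.annihilator_eq_bot.mpr inferInstance]; exact bot_le)
      have hass := Module.associatedPrimes.minimalPrimes_annihilator_subset_associatedPrimes
        A A hmin
      obtain ⟨-, z, hz⟩ := (isAssociatedPrime_iff).mp hass
      refine ⟨z, ?_, fun a ha => ?_⟩
      · rintro rfl
        apply hmax.ne_top
        rw [hz]
        ext r
        simp [Submodule.mem_colon_singleton]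
      · rw [hz, Submodule.mem_colon_singleton] at ha
        simpa using ha
    obtain ⟨z, hz0, hzm⟩ := hz
    -- a functional killing `1` and `m²`, not `m`
    have hx : ∃ x ∈ m, x ∉ m ^ 2 := by
      by_contra hcon
      push Not at hcon
      exact hI (le_antisymm (Ideal.pow_le_self two_ne_zero) hcon)
    obtain ⟨x, hxm, hxm2⟩ := hx
    let W : Submodule k A := Submodule.span k {1} ⊔ (m ^ 2).restrictScalars k
    have hxW : x ∉ W := by
      intro hxW
      obtain ⟨u, hu, v, hv, huv⟩ := Submodule.mem_sup.mp hxW
      obtain ⟨r, rfl⟩ := Submodule.mem_span_singleton.mp hu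
      have hv' : v ∈ m ^ 2 := hv
      have : algebraMap k A r ∈ m := by
        have : algebraMap k A r = x - v := by
          rw [← huv, Algebra.algebraMap_eq_smul_one]; ring
        rw [this]
        exact Ideal.sub_mem _ hxm (Ideal.pow_le_self two_ne_zero hv')
      rw [hunit r this, zero_smul, zero_add] at huv
      exact hxm2 (huv ▸ hv')
    obtain ⟨μ, hμx, hμW⟩ := Submodule.exists_dual_map_eq_bot_of_notMem hxW inferInstance
    have hμ0 : ∀ w ∈ W, μ w = 0 := by
      intro w hw
      have : μ w ∈ W.map μ := Submodule.mem_map_of_mem hw
      rw [hμW] at this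
      simpa using this
    have hμ1 : μ 1 = 0 := hμ0 1 (Submodule.mem_sup_left (Submodule.mem_span_singleton_self 1))
    have hμ2 : ∀ w ∈ m ^ 2, μ w = 0 := fun w hw => hμ0 w (Submodule.mem_sup_right hw)
    have hμmul : ∀ a b : A, μ (a * b) = c a * μ b + c b * μ a := by
      intro a b
      have hab : a * b = (a - algebraMap k A (c a)) * (b - algebraMap k A (c b)) + c a • b
          + c b • a - (c a * c b) • (1 : A) := by
        simp only [Algebra.smul_def, map_mul]; ring
      rw [hab, map_sub, map_add, map_add, map_smul, map_smul, map_smul, hμ1,
        hμ2 _ (by rw [pow_two]; exact Ideal.mul_mem_mul (hc a) (hc b))]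
      simp
    have hcz : ∀ a : A, a * z = c a • z := by
      intro a
      have := hzm _ (hc a)
      rw [sub_mul, sub_eq_zero] at this
      rw [this, Algebra.smul_def]
    let D : Derivation k A A := Derivation.mk' (μ.smulRight z) (fun a b => by
      simp only [LinearMap.smulRight_apply, smul_eq_mul]
      rw [hμmul, mul_smul_comm, mul_smul_comm, hcz a, hcz b, smul_smul, smul_smul, ← add_smul]
      congr 1
      ring)
    have hD : D x ≠ 0 := by
      change μ x • z ≠ 0
      exact smul_ne_zero hμx hz0
    exact hD (by rw [Subsingleton.elim D 0]; rfl)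
  · intro hred
    refine ⟨fun D₁ D₂ => ?_⟩
    have key : ∀ D : Derivation k A A, D = 0 := by
      intro D
      ext a
      have hint : IsIntegral k a := Algebra.IsIntegral.isIntegral a
      have hsq : Squarefree (minpoly k a) :=
        (minpoly.isRadical k a).squarefree (minpoly.ne_zero hint)
      have hsep : (minpoly k a).Separable := PerfectField.separable_iff_squarefree.mpr hsq
      obtain ⟨u, v, huv⟩ := hsep
      have h1 := congrArg (Polynomial.aeval a) huv
      simp only [map_add, map_mul, minpoly.aeval, mul_zero, zero_add, map_one] at h1
      have h2 := D.map_aeval (minpoly k a) a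
      rw [minpoly.aeval, map_zero] at h2
      have h3 := congrArg (fun t => Polynomial.aeval a v • t) h2
      simp only [smul_zero, smul_smul, h1, one_smul] at h3
      simpa using h3.symm
    rw [key D₁, key D₂]

end Groth.Agent.S17321
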