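import Groth.Statements.S17323
import Mathlib.LinearAlgebra.Semisimple
import Mathlib.LinearAlgebra.JordanChevalley
import Mathlib.FieldTheory.Perfect
import Mathlib.FieldTheory.Minpoly.Field
import Mathlib.Tactic.Ring
import Mathlib.RingTheory.Nilpotent.Lemmas
-- import your own Groth.Agent.* helpers here

set_option autoImplicit false
universe u v
open CAlg

namespace Groth.Agent.S17323

/-- Let k be an algebraically closed field and A a commutative k-algebra which is finite-dimensional as
a k-vector space. Then A has a largest reduced subalgebra: a k-subalgebra B which is reduced and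
contains every reduced k-subalgebra of A; moreover the composite of the inclusion B → A with the
projection A → A/nilradical(A) is bijective. -/
theorem result (k : Type u) [Field k] [IsAlgClosed k]
    (A : Type v) [CommRing A] [Algebra k A] [Module.Finite k A] :
    ∃ B : Subalgebra k A, IsReduced ↥B ∧ (∀ C : Subalgebra k A, IsReduced ↥C → C ≤ B) ∧
      Function.Bijective ((Ideal.Quotient.mkₐ k (nilradical A)).comp B.val) := by
  classical
  let L : A →ₐ[k] Module.End k A := Algebra.lmul k A
  have hL1 : ∀ a : A, L a 1 = a := fun a => by simp [L]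
  have hLinj : Function.Injective L := fun a b h => by
    rw [← hL1 a, ← hL1 b, h]
  have hcomm : ∀ a b : A, Commute (L a) (L b) := fun a b => by
    change L a * L b = L b * L a
    rw [← map_mul, ← map_mul, mul_comm]
  let B : Subalgebra k A :=
    { carrier := {a | (L a).IsSemisimple}
      mul_mem' := fun {a b} ha hb => by
        change (L (a * b)).IsSemisimple
        rw [map_mul]
        exact Module.End.IsSemisimple.mul_of_commute (hcomm a b) ha hb
      add_mem' := fun {a b} ha hb => by
        change (L (a + b)).IsSemisimple
        rw [map_add]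
        exact Module.End.IsSemisimple.add_of_commute (hcomm a b) ha hb
      algebraMap_mem' := fun r => by
        change (L (algebraMap k A r)).IsSemisimple
        rw [AlgHom.commutes, Algebra.algebraMap_eq_smul_one]
        exact Module.End.IsSemisimple_smul r Module.End.isSemisimple_id }
  have hBmem : ∀ a : A, a ∈ B ↔ (L a).IsSemisimple := fun a => Iff.rfl
  have hnil : ∀ a : A, a ∈ B → IsNilpotent a → a = 0 := by
    intro a ha hn
    have h1 : IsNilpotent (L a) := hn.map L
    have h2 := Module.End.eq_zero_of_isNilpotent_isSemisimple h1 ha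
    rw [← hL1 a, h2]; rfl
  refine ⟨B, ⟨fun x hx => ?_⟩, fun C hC => ?_, ⟨?_, ?_⟩⟩
  · have : IsNilpotent (x : A) := hx.map B.val
    exact Subtype.ext (hnil x x.2 this)
  · intro c hc
    rw [hBmem]
    have hfin : Module.Finite k C := Module.Finite.of_injective C.val.toLinearMap
      Subtype.val_injective
    have hint : IsIntegral k (⟨c, hc⟩ : C) := Algebra.IsIntegral.isIntegral _
    have hsq : Squarefree (minpoly k (⟨c, hc⟩ : C)) :=
      (minpoly.isRadical k _).squarefree (minpoly.ne_zero hint)
    refine Module.End.isSemisimple_of_squarefree_aeval_eq_zero hsq ?_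
    have h1 : Polynomial.aeval c (minpoly k (⟨c, hc⟩ : C)) = 0 := by
      have := Polynomial.aeval_algHom_apply C.val (⟨c, hc⟩ : C) (minpoly k (⟨c, hc⟩ : C))
      rw [minpoly.aeval, map_zero] at this
      exact this
    rw [Polynomial.aeval_algHom_apply, h1, map_zero]
  · rw [injective_iff_map_eq_zero]
    intro x hx
    have h1 : (x : A) ∈ nilradical A := by
      have : Ideal.Quotient.mk (nilradical A) (x : A) = 0 := hx
      exact Ideal.Quotient.eq_zero_iff_mem.mp this
    exact Subtype.ext (hnil x x.2 (mem_nilradical.mp h1))
  · intro y
    obtain ⟨a, rfl⟩ := Ideal.Quotient.mk_surjective y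
    obtain ⟨n, hn, s, hs, hnn, hss, hsum⟩ := (L a).exists_isNilpotent_isSemisimple
    have hmap : Algebra.adjoin k {L a} = (Algebra.adjoin k {a}).map L := by
      rw [AlgHom.map_adjoin, Set.image_singleton]
    rw [hmap] at hn hs
    obtain ⟨an, -, rfl⟩ := hn
    obtain ⟨as, -, rfl⟩ := hs
    refine ⟨⟨as, hss⟩, ?_⟩
    change Ideal.Quotient.mk (nilradical A) as = Ideal.Quotient.mk (nilradical A) a
    rw [Ideal.Quotient.eq]
    have ha : a = an + as := by
      apply hLinj
      rw [map_add]; exact hsum
    have : as - a = -an := by rw [ha]; ring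
    rw [this]
    apply neg_mem
    rw [mem_nilradical]
    obtain ⟨j, hj⟩ := hnn
    refine ⟨j, ?_⟩
    apply hLinj
    rw [map_pow, map_zero]
    exact hj

end Groth.Agent.S17323
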