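import Groth.Statements.S17324
import Mathlib.RingTheory.Artinian.Ring
import Mathlib.RingTheory.LocalRing.ResidueField.Basic
import Mathlib.RingTheory.Ideal.Span
import Mathlib.Tactic.Ring
-- import your own Groth.Agent.* helpers here

set_option autoImplicit false
universe u v
open CAlg

namespace Groth.Agent.S17324

/-- (i) ⟺ (ii): let k be an algebraically closed field, A a commutative k-algebra which is
finite-dimensional as a k-vector space and is a local ring with maximal ideal m, and a_1, …, a_m ∈
m. Then A is generated as a k-algebra by a_1, …, a_m if and only if m is generated as an ideal by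
a_1, …, a_m. (The printed lemma has a third equivalent condition, that the images of the a_i span
m/m²; its equivalence with (ii) is Nakayama's lemma.) -/
theorem result (k : Type u) [Field k] [IsAlgClosed k]
    (A : Type v) [CommRing A] [Algebra k A] [Module.Finite k A] [IsLocalRing A]
    (m : ℕ) (a : Fin m → A) (ha : ∀ i, a i ∈ IsLocalRing.maximalIdeal A) :
    Algebra.adjoin k (Set.range a) = ⊤ ↔ Ideal.span (Set.range a) = IsLocalRing.maximalIdeal A := by
  -- residue field is `k`
  have hres : ∀ x : A, ∃ c : k, x - algebraMap k A c ∈ IsLocalRing.maximalIdeal A := by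
    intro x
    have hsurj : Function.Surjective (algebraMap k (IsLocalRing.ResidueField A)) :=
      (IsAlgClosed.algebraMap_bijective_of_isIntegral).2
    obtain ⟨c, hc⟩ := hsurj (IsLocalRing.residue A x)
    refine ⟨c, ?_⟩
    rw [← IsLocalRing.residue_eq_zero_iff, map_sub, ← hc]
    rw [IsScalarTower.algebraMap_apply k A (IsLocalRing.ResidueField A)]
    exact sub_self _
  have hunit : ∀ c : k, algebraMap k A c ∈ IsLocalRing.maximalIdeal A → c = 0 := by
    intro c hc
    by_contra hne
    have : IsUnit (algebraMap k A c) := (IsUnit.mk0 c hne).map (algebraMap k A)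
    exact (IsLocalRing.mem_maximalIdeal _).mp hc this
  have hsub : Ideal.span (Set.range a) ≤ IsLocalRing.maximalIdeal A := by
    rw [Ideal.span_le]
    rintro _ ⟨i, rfl⟩
    exact ha i
  constructor
  · intro hadj
    refine le_antisymm hsub ?_
    -- every element is a constant plus an element of the span
    have key : ∀ x : A, ∃ c : k, x - algebraMap k A c ∈ Ideal.span (Set.range a) := by
      intro x
      have hx : x ∈ Algebra.adjoin k (Set.range a) := by rw [hadj]; trivial
      induction hx using Algebra.adjoin_induction with
      | mem x hx => exact ⟨0, by simpa using Ideal.subset_span hx⟩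
      | algebraMap r => exact ⟨r, by simp⟩
      | add x y _ _ hx hy =>
        obtain ⟨c, hc⟩ := hx
        obtain ⟨d, hd⟩ := hy
        refine ⟨c + d, ?_⟩
        have : x + y - algebraMap k A (c + d) = (x - algebraMap k A c) + (y - algebraMap k A d) := by
          rw [map_add]; ring
        rw [this]
        exact Ideal.add_mem _ hc hd
      | mul x y _ _ hx hy =>
        obtain ⟨c, hc⟩ := hx
        obtain ⟨d, hd⟩ := hy
        refine ⟨c * d, ?_⟩
        have : x * y - algebraMap k A (c * d) =
            (x - algebraMap k A c) * y + algebraMap k A c * (y - algebraMap k A d) := by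
          rw [map_mul]; ring
        rw [this]
        exact Ideal.add_mem _ (Ideal.mul_mem_right _ _ hc) (Ideal.mul_mem_left _ _ hd)
    intro x hx
    obtain ⟨c, hc⟩ := key x
    have hc' : algebraMap k A c ∈ IsLocalRing.maximalIdeal A := by
      have := Ideal.sub_mem _ hx (hsub hc)
      simpa using this
    rw [hunit c hc', map_zero, sub_zero] at hc
    exact hc
  · intro hspan
    -- nilpotency of the maximal ideal
    have hart : IsArtinianRing A := IsArtinianRing.of_finite k A
    obtain ⟨N, hN⟩ := IsArtinianRing.isNilpotent_jacobson_bot (R := A)
    rw [IsLocalRing.jacobson_eq_maximalIdeal ⊥ bot_ne_top] at hN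
    have key : ∀ j : ℕ, ∀ x : A, ∃ b ∈ Algebra.adjoin k (Set.range a),
        x - b ∈ IsLocalRing.maximalIdeal A ^ j := by
      intro j
      induction j with
      | zero => intro x; exact ⟨0, Subalgebra.zero_mem _, by simp⟩
      | succ j ih =>
        intro x
        obtain ⟨c, hc⟩ := hres x
        rw [← hspan, Ideal.mem_span_range_iff_exists_fun] at hc
        obtain ⟨t, ht⟩ := hc
        choose b hb hbt using fun i => ih (t i)
        refine ⟨algebraMap k A c + ∑ i, b i * a i, ?_, ?_⟩
        · refine Subalgebra.add_mem _ (Subalgebra.algebraMap_mem _ c) (Subalgebra.sum_mem _ ?_)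
          intro i _
          exact Subalgebra.mul_mem _ (hb i) (Algebra.subset_adjoin ⟨i, rfl⟩)
        · have : x - (algebraMap k A c + ∑ i, b i * a i) = ∑ i, (t i - b i) * a i := by
            have : x = algebraMap k A c + ∑ i, t i * a i := by rw [ht]; ring
            rw [this]
            simp only [sub_mul, Finset.sum_sub_distrib]
            ring
          rw [this, pow_succ]
          exact Ideal.sum_mem _ fun i _ => Ideal.mul_mem_mul (hbt i) (ha i)
    rw [eq_top_iff]
    intro x _
    obtain ⟨b, hb, hxb⟩ := key N x
    rw [hN] at hxb
    have : x = b := sub_eq_zero.mp (by simpa using hxb)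
    rw [this]; exact hb

end Groth.Agent.S17324
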