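import Groth.Statements.S17326
import Mathlib.RingTheory.Artinian.Module
import Mathlib.RingTheory.Artinian.Ring
import Mathlib.Algebra.CharP.Lemmas
import Mathlib.Algebra.CharP.Algebra
import Mathlib.RingTheory.Ideal.Quotient.Operations
-- import your own Groth.Agent.* helpers here

set_option autoImplicit false
universe u v
open CAlg

namespace Groth.Agent.S17326

/-- Let k be an algebraically closed field of characteristic p > 0, A a commutative k-algebra which is
finite-dimensional as a k-vector space (a finite k-scheme X), and n ≥ 1. The n-th iterated relative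
Frobenius morphism X → X^(p^n) is an isomorphism if and only if X is reduced; on rings: the map a ↦
a^(p^n) of A to itself (which is the ring homomorphism underlying the relative Frobenius, the twist
A^(p^n) having the same underlying ring as A) is bijective if and only if A is reduced. -/
theorem result (k : Type u) [Field k] [IsAlgClosed k]
    (p : ℕ) [Fact p.Prime] [CharP k p] (A : Type v) [CommRing A] [Algebra k A] [Module.Finite k A]
    (n : ℕ) (hn : 1 ≤ n) :
    Function.Bijective (fun a : A => a ^ p ^ n) ↔ IsReduced A := by
  have hq : 0 < p ^ n := pow_pos (Fact.out : p.Prime).pos n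
  have hq2 : 2 ≤ p ^ n := by
    calc 2 ≤ p := (Fact.out : p.Prime).two_le
      _ = p ^ 1 := (pow_one p).symm
      _ ≤ p ^ n := Nat.pow_le_pow_right (Fact.out : p.Prime).pos hn
  constructor
  · rintro ⟨hinj, -⟩
    refine ⟨fun x hx => ?_⟩
    obtain ⟨m, hm⟩ := hx
    have hit := hinj.iterate m
    rw [pow_iterate] at hit
    apply hit
    simp only
    rw [zero_pow (pow_pos hq m).ne']
    have hle : m ≤ (p ^ n) ^ m := (Nat.lt_pow_self hq2).le
    exact pow_eq_zero_of_le hle hm
  · intro hred
    rcases subsingleton_or_nontrivial A with hs | hnt
    · exact ⟨fun a b _ => Subsingleton.elim a b, fun b => ⟨b, Subsingleton.elim _ _⟩⟩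
    have hchar : CharP A p := charP_of_injective_algebraMap (algebraMap k A).injective p
    constructor
    · intro a b hab
      simp only at hab
      have h1 : (a - b) ^ p ^ n = 0 := by rw [sub_pow_char_pow, hab, sub_self]
      exact sub_eq_zero.mp (pow_eq_zero_iff (pow_pos (Fact.out : p.Prime).pos n).ne' |>.mp h1)
    · intro x
      have hart : IsArtinianRing A := IsArtinianRing.of_finite k A
      let e := IsArtinianRing.equivPi A
      have key : ∀ I : MaximalSpectrum A, ∃ b : A ⧸ I.asIdeal, b ^ p ^ n = e x I := by
        intro I
        let _ : Field (A ⧸ I.asIdeal) := Ideal.Quotient.field I.asIdeal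
        have hsurj : Function.Surjective (algebraMap k (A ⧸ I.asIdeal)) :=
          (IsAlgClosed.algebraMap_bijective_of_isIntegral).2
        obtain ⟨c, hc⟩ := hsurj (e x I)
        obtain ⟨d, hd⟩ := IsAlgClosed.exists_pow_nat_eq c hq
        exact ⟨algebraMap k _ d, by rw [← map_pow, hd, hc]⟩
      choose b hb using key
      refine ⟨e.symm b, ?_⟩
      apply e.injective
      simp only [map_pow, AlgEquiv.apply_symm_apply]
      funext I
      exact hb I

end Groth.Agent.S17326
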