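import Groth.Statements.S17327
import Groth.Agent.Lib.Helper7.HopfEtale
import Groth.Agent.Lib.Helper7.Versch1


set_option autoImplicit false
universe u v
open Hopf

namespace Groth.Agent.S17327

open Groth.Agent.Lib.Helper7 in
/-- over a perfect field, every element of a finite-dimensional reduced algebra is a `p^n`-th power. -/
theorem exists_pow_eq (k : Type u) [Field k] [IsAlgClosed k]
    (p : ℕ) [Fact p.Prime] [CharP k p] (A : Type v) [CommRing A] [Algebra k A] [Module.Finite k A]
    [IsReduced A] (n : ℕ) (f : A) : ∃ g : A, g ^ p ^ n = f := by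
  classical
  have hp0 : ((p : ℕ) : A) = 0 := by
    have h : ((p : ℕ) : A) = algebraMap k A ((p : ℕ) : k) := (map_natCast (algebraMap k A) p).symm
    rw [h, CharP.cast_eq_zero, map_zero]
  have hsumpow : ∀ (ι : Type v) (s : Finset ι) (y : ι → A),
      (∑ i ∈ s, y i) ^ (p ^ n) = ∑ i ∈ s, y i ^ (p ^ n) := by
    intro ι s y
    induction n with
    | zero => simp
    | succ m ih =>
      rw [pow_succ, pow_mul, ih, Versch.sum_pow_prime p hp0]
      refine Finset.sum_congr rfl fun γ _ => ?_
      rw [← pow_mul]
  -- roots in k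
  have hroot : ∀ c : k, ∃ d : k, d ^ p ^ n = c := by
    intro c
    have hpn : 0 < p ^ n := pow_pos (Fact.out : p.Prime).pos n
    exact IsAlgClosed.exists_pow_nat_eq c hpn
  choose rt hrt using hroot
  let b := Module.Free.chooseBasis k A
  have hli : LinearIndependent k (fun i => (b i) ^ p ^ n) := by
    rw [Fintype.linearIndependent_iff]
    intro c hc i
    have h1 : (∑ j, rt (c j) • b j) ^ p ^ n = 0 := by
      rw [hsumpow]
      rw [← hc]
      refine Finset.sum_congr rfl fun j _ => ?_
      rw [smul_pow, hrt]
    have h2 : ∑ j, rt (c j) • b j = 0 := IsReduced.eq_zero _ ⟨_, h1⟩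
    have h3 := Fintype.linearIndependent_iff.mp b.linearIndependent _ h2 i
    rw [← hrt (c i), h3, zero_pow (pow_ne_zero _ (Fact.out : p.Prime).ne_zero)]
  have hspan := hli.span_eq_top_of_card_eq_finrank'
    (Module.finrank_eq_card_chooseBasisIndex k A).symm
  have hf : f ∈ Submodule.span k (Set.range (fun i => (b i) ^ p ^ n)) := by
    rw [hspan]; trivial
  obtain ⟨c, hc⟩ := (Submodule.mem_span_range_iff_exists_fun k).mp hf
  refine ⟨∑ j, rt (c j) • b j, ?_⟩
  rw [hsumpow, ← hc]
  refine Finset.sum_congr rfl fun j _ => ?_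
  rw [smul_pow, hrt]


/-- Let k be an algebraically closed field of characteristic p > 0, A a commutative Hopf algebra over k
which is finite-dimensional as a k-vector space (a finite group scheme G = Spec A), I the
augmentation ideal (kernel of the counit) and n ≥ 1. The n-th Frobenius kernel G_n is the closed
subgroup scheme cut out by the ideal generated by the p^n-th powers f^(p^n), f ∈ I; it is trivial,
i.e. that ideal equals I, if and only if G is reduced. -/
theorem result (k : Type u) [Field k] [IsAlgClosed k]
    (p : ℕ) [Fact p.Prime] [CharP k p] (A : Type v) [CommRing A] [HopfAlgebra k A] [Module.Finite k A]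
    (n : ℕ) (hn : 1 ≤ n) :
    Ideal.span ((fun f : A => f ^ p ^ n) '' (RingHom.ker (Bialgebra.counitAlgHom k A) : Set A)) =
      RingHom.ker (Bialgebra.counitAlgHom k A) ↔ IsReduced A := by
  have hp2 : 2 ≤ p ^ n := by
    calc 2 ≤ p := (Fact.out : p.Prime).two_le
      _ = p ^ 1 := (pow_one p).symm
      _ ≤ p ^ n := Nat.pow_le_pow_right (Fact.out : p.Prime).pos hn
  constructor
  · intro h
    -- the span is contained in I²
    have hle : Ideal.span ((fun f : A => f ^ p ^ n) '' (RingHom.ker (Bialgebra.counitAlgHom k A) : Set A)) ≤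
        RingHom.ker (Bialgebra.counitAlgHom k A) * RingHom.ker (Bialgebra.counitAlgHom k A) := by
      rw [Ideal.span_le]
      rintro _ ⟨f, hf, rfl⟩
      rw [← pow_two]
      exact Ideal.pow_le_pow_right hp2 (Ideal.pow_mem_pow hf _)
    rw [h] at hle
    have hidem : IsIdempotentElem (Groth.Agent.Lib.Helper7.HopfCot.augI k A) :=
      le_antisymm Ideal.mul_le_right hle
    have := Groth.Agent.Lib.Helper7.FinOrder.formallyUnramified_of_isIdempotentElem hidem
    exact Algebra.FormallyUnramified.isReduced_of_field k A
  · intro hred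
    apply le_antisymm
    · rw [Ideal.span_le]
      rintro _ ⟨f, hf, rfl⟩
      exact Ideal.pow_mem_of_mem _ hf _ (pow_pos (Fact.out : p.Prime).pos n)
    · intro f hf
      obtain ⟨g, rfl⟩ := exists_pow_eq k p A n f
      apply Ideal.subset_span
      refine ⟨g, ?_, rfl⟩
      rw [RingHom.mem_ker] at hf
      rw [SetLike.mem_coe, RingHom.mem_ker]
      rw [map_pow] at hf
      exact pow_eq_zero_iff (pow_ne_zero _ (Fact.out : p.Prime).ne_zero) |>.mp hf

end Groth.Agent.S17327
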