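import Groth.Statements.S17329
import Mathlib
import Groth.Agent.Lib.Helper20.HF3

set_option autoImplicit false
universe u v
open scoped TensorProduct
open Hopf

namespace Groth.Agent.S17329


/-- Let k be an algebraically closed field, A a commutative Hopf algebra over k which is
finite-dimensional as a k-vector space (a finite group scheme G = Spec A), and I a Hopf ideal of A
(a subgroup scheme H = Spec (A/I) of G, of order dim_k (A/I)). Let B ⊆ A be the k-subalgebra of
functions invariant under right multiplication by H: the equaliser of the two algebra maps A → A ⊗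
(A/I), a ↦ (id ⊗ π)(Δ a) and a ↦ a ⊗ 1, so that Spec B is the quotient G/H. Then the quotient
morphism G → G/H is finite locally free of rank |H|: A is a free B-module of rank dim_k (A/I) (B
being a finite product of local rings, locally free of constant rank is the same as free of that
rank). -/
theorem result (k : Type u) [Field k] [IsAlgClosed k]
    (A : Type v) [CommRing A] [HopfAlgebra k A] [Module.Finite k A] (I : Ideal A) [I.IsHopfIdeal k] :
    Module.Free
        ↥(AlgHom.equalizer
          ((Algebra.TensorProduct.map (AlgHom.id k A) (Ideal.Quotient.mkₐ k I)).comp (Bialgebra.comulAlgHom k A))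
          (Algebra.TensorProduct.includeLeft : A →ₐ[k] A ⊗[k] (A ⧸ I))) A ∧
      Module.finrank
        ↥(AlgHom.equalizer
          ((Algebra.TensorProduct.map (AlgHom.id k A) (Ideal.Quotient.mkₐ k I)).comp (Bialgebra.comulAlgHom k A))
          (Algebra.TensorProduct.includeLeft : A →ₐ[k] A ⊗[k] (A ⧸ I))) A =
        Module.finrank k (A ⧸ I) := by

  classical
  have : Module.Finite k (A ⧸ I) :=
    Module.Finite.of_surjective (Ideal.Quotient.mkₐ k I).toLinearMap Ideal.Quotient.mk_surjective
  have := Groth.Agent.Lib.Helper20.HF.flat_invAlg k A I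
  have := Groth.Agent.Lib.Helper20.HF.finite_invAlg k A I
  have : Module.Finite k (Groth.Agent.Lib.Helper20.HF.invAlg k A I) :=
    Module.Finite.of_injective (Groth.Agent.Lib.Helper20.HF.invAlg k A I).val.toLinearMap
      Subtype.val_injective
  have : IsArtinianRing (Groth.Agent.Lib.Helper20.HF.invAlg k A I) :=
    IsArtinianRing.of_finite k _
  have : Nontrivial (Groth.Agent.Lib.Helper20.HF.invAlg k A I) :=
    ((Bialgebra.counitAlgHom k A).toRingHom.comp
      (Groth.Agent.Lib.Helper20.HF.invAlg k A I).val.toRingHom).domain_nontrivial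
  have rk : ∀ P : MaximalSpectrum (Groth.Agent.Lib.Helper20.HF.invAlg k A I),
      Module.finrank ((Groth.Agent.Lib.Helper20.HF.invAlg k A I) ⧸ P.1)
        (((Groth.Agent.Lib.Helper20.HF.invAlg k A I) ⧸ P.1) ⊗[Groth.Agent.Lib.Helper20.HF.invAlg k A I] A) =
        Module.finrank k (A ⧸ I) := by
    intro P
    have := P.2
    rw [Groth.Agent.Lib.Helper20.HF.finrank_quotient_tensor,
      Groth.Agent.Lib.Helper20.HF.rankAtStalk_invAlg', Module.rankAtStalk_eq_finrank_of_free]
    rfl
  obtain ⟨b⟩ := Module.nonempty_basis_of_flat_of_finrank_eq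
    (Groth.Agent.Lib.Helper20.HF.invAlg k A I) A (Module.finrank k (A ⧸ I)) rk
  refine ⟨Module.Free.of_basis b, ?_⟩
  have h := Module.finrank_eq_card_basis b
  rw [Fintype.card_fin] at h
  exact h

end Groth.Agent.S17329
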