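import Groth.Statements.S1733
import Groth.Agent.Lib.Helper3.LechIndep

set_option autoImplicit false
universe u
open LocCoh

namespace Groth.Agent.S1733

open Groth.Agent.Lib.Helper3.LechIndep in
theorem aux (A : Type u) [CommRing A] (r : ℕ) (f : Fin (r + 1) → A) (g : A)
    (h : Dual2.Independent (Function.update f (Fin.last r) (f (Fin.last r) * g))) :
    Dual2.Independent f := by
  have := independent_update_of_mul _ (Fin.last r) (f (Fin.last r)) g (Function.update_self ..) h
  rwa [Function.update_idem, Function.update_eq_self] at this

/-- Let f_1, …, f_r and g be elements of a ring (r ≥ 1). If the family f_1, …, f_{r-1}, f_r g is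
independent (every linear relation has coefficients in the ideal the family generates), then f_1, …,
f_r is independent. -/
theorem result (A : Type u) [CommRing A] (r : ℕ) (f : Fin (r + 1) → A) (g : A) (h : Dual2.Independent (Function.update f (Fin.last r) (f (Fin.last r) * g))) : Dual2.Independent f := by
  exact aux A r f g h

end Groth.Agent.S1733
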