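import Groth.Statements.S17333
import Mathlib.LinearAlgebra.Prod
-- import your own Groth.Agent.* helpers here

set_option autoImplicit false
universe u v w
open CAlg

namespace Groth.Agent.S17333

/-- Let k be a field and A = B × C a decomposable commutative k-algebra. Then the natural map Der(B) ×
Der(C) → Der(A) is bijective: every k-derivation D : A → A is (b, c) ↦ (D₁ b, D₂ c) for a unique
pair of k-derivations D₁ : B → B, D₂ : C → C. Compatibility with brackets is not stated. (The
published statement takes k algebraically closed; this row takes any field.) -/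
theorem result (k : Type u) [Field k] (B : Type v) [CommRing B] [Algebra k B]
    (C : Type w) [CommRing C] [Algebra k C] (D : Derivation k (B × C) (B × C)) :
    ∃! P : Derivation k B B × Derivation k C C, ∀ (b : B) (c : C), D (b, c) = (P.1 b, P.2 c) := by
  have he : D ((1 : B), (0 : C)) = 0 := by
    have h1 : ((1 : B), (0 : C)) * ((1 : B), (0 : C)) = ((1 : B), (0 : C)) := by
      ext <;> simp
    have h2 := D.leibniz ((1 : B), (0 : C)) ((1 : B), (0 : C))
    rw [h1] at h2
    -- h2 : D e = e • D e + e • D e
    have h3 : ((1 : B), (0 : C)) • D ((1 : B), (0 : C)) = 0 := by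
      have := congrArg (fun x => ((1 : B), (0 : C)) • x) h2
      simp only [smul_add, smul_smul, h1] at this
      exact (add_eq_left.mp this.symm)
    rw [h3, add_zero] at h2
    exact h2
  have hinl : ∀ b : B, (D (b, 0)).2 = 0 := by
    intro b
    have h1 : ((b, 0) : B × C) = ((1 : B), (0 : C)) * ((b, 0) : B × C) := by ext <;> simp
    have h2 := D.leibniz ((1 : B), (0 : C)) ((b, 0) : B × C)
    rw [← h1, he, smul_zero, add_zero] at h2
    have := congrArg Prod.snd h2
    simpa using this
  have hinr : ∀ c : C, (D (0, c)).1 = 0 := by
    intro c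
    have h1 : ((0, c) : B × C) = ((0 : B), (1 : C)) * ((0, c) : B × C) := by ext <;> simp
    have he' : D ((0 : B), (1 : C)) = 0 := by
      have : ((0 : B), (1 : C)) = 1 - ((1 : B), (0 : C)) := by ext <;> simp
      rw [this, map_sub, he, D.map_one_eq_zero, sub_zero]
    have h2 := D.leibniz ((0 : B), (1 : C)) ((0, c) : B × C)
    rw [← h1, he', smul_zero, add_zero] at h2
    have := congrArg Prod.fst h2
    simpa using this
  let D₁ : Derivation k B B := Derivation.mk'
    ((LinearMap.fst k B C).comp (D.toLinearMap.comp (LinearMap.inl k B C)))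
    (fun b b' => by
      have h1 : ((b * b', 0) : B × C) = ((b, 0) : B × C) * ((b', 0) : B × C) := by ext <;> simp
      simp only [LinearMap.coe_comp, Function.comp_apply, LinearMap.inl_apply,
        Derivation.coeFn_coe, LinearMap.fst_apply]
      rw [h1, D.leibniz]
      simp)
  let D₂ : Derivation k C C := Derivation.mk'
    ((LinearMap.snd k B C).comp (D.toLinearMap.comp (LinearMap.inr k B C)))
    (fun c c' => by
      have h1 : ((0, c * c') : B × C) = ((0, c) : B × C) * ((0, c') : B × C) := by ext <;> simp
      simp only [LinearMap.coe_comp, Function.comp_apply, LinearMap.inr_apply,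
        Derivation.coeFn_coe, LinearMap.snd_apply]
      rw [h1, D.leibniz]
      simp)
  have hD₁ : ∀ b, D₁ b = (D (b, 0)).1 := fun b => rfl
  have hD₂ : ∀ c, D₂ c = (D (0, c)).2 := fun c => rfl
  refine ⟨(D₁, D₂), ?_, ?_⟩
  · intro b c
    have : ((b, c) : B × C) = (b, 0) + (0, c) := by ext <;> simp
    rw [this, map_add]
    ext
    · simp [hD₁, hinr]
    · simp [hD₂, hinl]
  · rintro ⟨P₁, P₂⟩ hP
    ext b
    · have := congrArg Prod.fst (hP b 0)
      simp only at this
      rw [hD₁, this]
    · have := congrArg Prod.snd (hP 0 b)
      simp only at this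
      rw [hD₂, this]

end Groth.Agent.S17333
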