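import Groth.Statements.S17334
import Mathlib

set_option autoImplicit false
universe u v
open CAlg

namespace Groth.Agent.S17334

/-- Let k be a field and A a nonzero commutative k-algebra which is finite-dimensional as a k-vector
space. Then A is indecomposable (no decomposition as a product of two nonzero rings, i.e. no
idempotent other than 0 and 1) if and only if A is a local ring. (In the source k is algebraically
closed and the lemma adds that the maximal ideal is then the nilradical, is nilpotent, and has
residue field k; the equivalence itself uses only that k is a field, and the zero algebra is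
excluded here explicitly.) -/
theorem result (k : Type u) [Field k]
    (A : Type v) [CommRing A] [Algebra k A] [Module.Finite k A] [Nontrivial A] :
    (∀ e : A, IsIdempotentElem e → e = 0 ∨ e = 1) ↔ IsLocalRing A := by
  haveI : IsArtinianRing A := IsArtinianRing.of_finite k A
  constructor
  · intro hidem
    obtain ⟨m, hm⟩ := Ideal.exists_maximal A
    apply IsLocalRing.of_unique_max_ideal
    refine ⟨m, hm, ?_⟩
    intro m' hm'
    by_contra hne
    let x : PrimeSpectrum A := ⟨m, hm.isPrime⟩
    let x' : PrimeSpectrum A := ⟨m', hm'.isPrime⟩
    have hcl : IsClopen ({x} : Set (PrimeSpectrum A)) := isClopen_discrete _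
    obtain ⟨e, he, heq⟩ := PrimeSpectrum.exists_idempotent_basicOpen_eq_of_isClopen hcl
    rcases hidem e he with rfl | rfl
    · have : x ∈ ({x} : Set (PrimeSpectrum A)) := rfl
      rw [heq] at this
      simp at this
    · have : x' ∈ ({x} : Set (PrimeSpectrum A)) := by
        rw [heq]
        simp
      have h2 : x' = x := this
      exact hne (congrArg PrimeSpectrum.asIdeal h2)
  · intro hloc e he
    have h0 : e * (1 - e) = 0 := by
      rw [mul_sub, mul_one, he.eq, sub_self]
    rcases IsLocalRing.isUnit_or_isUnit_one_sub_self e with h | h
    · right
      have := h.mul_right_eq_zero.1 h0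
      exact (sub_eq_zero.1 this).symm
    · left
      exact h.mul_left_eq_zero.1 h0

end Groth.Agent.S17334
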