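import Groth.Statements.S17335
import Mathlib

set_option autoImplicit false
universe u v
open CAlg

namespace Groth.Agent.S17335

/-- Let k be an algebraically closed field and A a commutative k-algebra which is finite-dimensional as
a k-vector space, and let E be the set of k-algebra homomorphisms A → k. Then E is finite, and the
evaluation homomorphism A → O(E) = (E → k), a ↦ (f ↦ f(a)), is surjective with kernel the nilradical
of A; it therefore induces an isomorphism of A_red = A/nilradical(A) onto O(E). -/
theorem result (k : Type u) [Field k]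
    [IsAlgClosed k] (A : Type v) [CommRing A] [Algebra k A] [Module.Finite k A] :
    Finite (A →ₐ[k] k) ∧
      Function.Surjective (AlgHom.pi (R := k) (fun f : A →ₐ[k] k => f)) ∧
      RingHom.ker (AlgHom.pi (R := k) (fun f : A →ₐ[k] k => f)) = nilradical A := by
  classical
  have hArt : IsArtinianRing A := IsArtinianRing.of_finite k A
  have hsurj : ∀ f : A →ₐ[k] k, Function.Surjective f := fun f c =>
    ⟨algebraMap k A c, by rw [f.commutes]; rfl⟩
  have hker_max : ∀ f : A →ₐ[k] k, (RingHom.ker f).IsMaximal := fun f =>
    RingHom.ker_isMaximal_of_surjective f (hsurj f)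
  have hval : ∀ (f : A →ₐ[k] k) (a : A), a - algebraMap k A (f a) ∈ RingHom.ker f := by
    intro f a
    rw [RingHom.mem_ker, map_sub, f.commutes]
    exact sub_self _
  have hinj : ∀ f g : A →ₐ[k] k, RingHom.ker f = RingHom.ker g → f = g := by
    intro f g hfg
    ext a
    have := hval f a
    rw [hfg, RingHom.mem_ker, map_sub, g.commutes, sub_eq_zero] at this
    exact this.symm
  have hfin : Finite (A →ₐ[k] k) := by
    apply Finite.of_injective (fun f : A →ₐ[k] k => (⟨RingHom.ker f, hker_max f⟩ : MaximalSpectrum A))
    intro f g hfg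
    exact hinj f g (congrArg MaximalSpectrum.asIdeal hfg)
  refine ⟨hfin, ?_, ?_⟩
  · -- surjectivity by CRT
    intro φ
    have hcop : Pairwise (Function.onFun IsCoprime fun f : A →ₐ[k] k => RingHom.ker f) := by
      intro f g hfg
      exact Ideal.isCoprime_iff_sup_eq.2
        ((hker_max f).coprime_of_ne (hker_max g) (fun h => hfg (hinj f g h)))
    obtain ⟨r, hr⟩ := Ideal.exists_forall_sub_mem_ideal hcop (fun f => algebraMap k A (φ f))
    refine ⟨r, ?_⟩
    ext f
    have := hr f
    rw [RingHom.mem_ker, map_sub, f.commutes, sub_eq_zero] at this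
    exact this
  · -- kernel
    ext a
    rw [RingHom.mem_ker]
    constructor
    · intro ha
      rw [IsArtinianRing.nilradical_eq_iInf, Ideal.mem_iInf]
      intro m
      haveI := m.isMaximal
      letI : Field (A ⧸ m.asIdeal) := Ideal.Quotient.field m.asIdeal
      have hbij : Function.Bijective (algebraMap k (A ⧸ m.asIdeal)) :=
        IsAlgClosed.algebraMap_bijective_of_isIntegral
      let e : k ≃ₐ[k] (A ⧸ m.asIdeal) := AlgEquiv.ofBijective (Algebra.ofId k _) hbij
      let f : A →ₐ[k] k := (e.symm : (A ⧸ m.asIdeal) →ₐ[k] k).comp (Ideal.Quotient.mkₐ k m.asIdeal)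
      have hfa : f a = 0 := congrFun ha f
      have : e.symm (Ideal.Quotient.mk m.asIdeal a) = 0 := hfa
      rw [map_eq_zero_iff _ e.symm.injective] at this
      exact Ideal.Quotient.eq_zero_iff_mem.1 this
    · intro ha
      ext f
      have : IsNilpotent (f a) := (mem_nilradical.1 ha).map f
      exact this.eq_zero

end Groth.Agent.S17335
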