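import Groth.Statements.S17336
import Mathlib
import Groth.Agent.S17335

set_option autoImplicit false
universe u v
open CAlg

namespace Groth.Agent.S17336

/-- Let k be an algebraically closed field and A a commutative k-algebra which is finite-dimensional as
a k-vector space (a finite scheme X = Spec A with largest reduced subscheme X_red = Spec
(A/nilradical A) and immersion i : X_red → X). Then there is a unique morphism r : X → X_red with r
∘ i = id; on rings: the projection A → A/nilradical(A) admits exactly one section that is a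
k-algebra homomorphism. -/
theorem result (k : Type u) [Field k]
    [IsAlgClosed k] (A : Type v) [CommRing A] [Algebra k A] [Module.Finite k A] :
    ∃! s : (A ⧸ nilradical A) →ₐ[k] A,
      (Ideal.Quotient.mkₐ k (nilradical A)).comp s = AlgHom.id k (A ⧸ nilradical A) := by
  classical
  obtain ⟨hfin, hsurj, hker⟩ := Groth.Agent.S17335.result k A
  haveI := hfin
  haveI : Fintype (A →ₐ[k] k) := Fintype.ofFinite _
  set ev : A →ₐ[k] ((A →ₐ[k] k) → k) := AlgHom.pi (R := k) (fun f : A →ₐ[k] k => f) with hev
  let evbar : (A ⧸ nilradical A) ≃ₐ[k] ((A →ₐ[k] k) → k) :=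
    (Ideal.quotientEquivAlgOfEq k hker.symm).trans (Ideal.quotientKerAlgEquivOfSurjective hsurj)
  have hevbar : ∀ a : A, evbar (Ideal.Quotient.mk _ a) = ev a := fun a => rfl
  set π : A →ₐ[k] (A ⧸ nilradical A) := Ideal.Quotient.mkₐ k (nilradical A) with hπ
  have hπker : ∀ x ∈ RingHom.ker (π : A →+* (A ⧸ nilradical A)), IsNilpotent x := by
    intro x hx
    rw [RingHom.mem_ker] at hx
    exact mem_nilradical.1 (Ideal.Quotient.eq_zero_iff_mem.1 hx)
  let ebar : (A →ₐ[k] k) → (A ⧸ nilradical A) := fun f => evbar.symm (Pi.single f 1)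
  have hebar : CompleteOrthogonalIdempotents ebar :=
    (CompleteOrthogonalIdempotents.single (fun _ : (A →ₐ[k] k) => k)).map
      (evbar.symm : ((A →ₐ[k] k) → k) →+* (A ⧸ nilradical A))
  -- every element is a combination of the ebar
  have hdecomp : ∀ x : A ⧸ nilradical A, x = ∑ f, (evbar x f) • ebar f := by
    intro x
    apply evbar.injective
    rw [map_sum]
    simp only [map_smul, ebar, AlgEquiv.apply_symm_apply]
    ext g
    simp [Finset.sum_apply, Pi.single_apply]
  -- lift the idempotents
  obtain ⟨e, he, hee⟩ := CompleteOrthogonalIdempotents.lift_of_isNilpotent_ker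
    (π : A →+* (A ⧸ nilradical A)) hπker hebar
    (fun f => Ideal.Quotient.mk_surjective (ebar f))
  have hπe : ∀ f, π (e f) = ebar f := fun f => congrFun hee f
  -- the section
  let sl : (A ⧸ nilradical A) →ₗ[k] A :=
    ∑ f, ((LinearMap.proj f : ((A →ₐ[k] k) → k) →ₗ[k] k).comp evbar.toLinearMap).smulRight (e f)
  have hsl : ∀ x, sl x = ∑ f, (evbar x f) • e f := by
    intro x
    simp [sl, LinearMap.sum_apply]
  let s : (A ⧸ nilradical A) →ₐ[k] A := AlgHom.ofLinearMap sl
    (by rw [hsl]; simp [he.complete])
    (by
      intro x y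
      rw [hsl, hsl, hsl, Finset.sum_mul_sum]
      simp_rw [smul_mul_smul_comm, he.toOrthogonalIdempotents.mul_eq]
      simp [mul_comm])
  have hs : ∀ x, s x = ∑ f, (evbar x f) • e f := hsl
  refine ⟨s, ?_, ?_⟩
  · ext x
    simp only [AlgHom.comp_apply, AlgHom.id_apply]
    rw [hs, map_sum]
    simp_rw [map_smul]
    conv_rhs => rw [hdecomp x]
    exact Finset.sum_congr rfl (fun f _ => by rw [← hπe f])
  · intro s' hs'
    have hs'π : ∀ x, π (s' x) = x := fun x => by
      have := congrArg (fun φ : (A ⧸ nilradical A) →ₐ[k] (A ⧸ nilradical A) => φ x) hs'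
      simpa using this
    have hse : ∀ f, s' (ebar f) = e f := by
      intro f
      apply eq_of_isNilpotent_sub_of_isIdempotentElem ((hebar.idem f).map s') (he.idem f)
      apply hπker
      rw [RingHom.mem_ker, map_sub]
      change π (s' (ebar f)) - π (e f) = 0
      rw [hs'π, hπe, sub_self]
    ext x
    rw [hs]
    conv_lhs => rw [hdecomp x]
    rw [map_sum]
    exact Finset.sum_congr rfl (fun f _ => by rw [map_smul, hse f])

end Groth.Agent.S17336
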