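import Groth.Statements.S17337
import Groth.Agent.Lib.Helper7.RPBW6


set_option autoImplicit false
universe u v
open PLie

namespace Groth.Agent.S17337

/-- Let k be a field of characteristic p > 0 and (L, x ↦ x^[p]) a finite-dimensional restricted Lie
algebra over k. Then L is isomorphic to a restricted Lie subalgebra of gl_n(k) for some n: there is
an injective k-linear map e : L → M_n(k) with e[x, y] = e(x)e(y) − e(y)e(x) and e(x^[p]) = e(x)^p
for all x, y. (The published statement takes k algebraically closed; this row takes any field of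
characteristic p.) -/
theorem result (k : Type u) [Field k] (p : ℕ) [Fact p.Prime] [CharP k p]
    (L : Type v) [LieRing L] [LieAlgebra k L] [Module.Finite k L] (φ : PLie.PMap k p L) :
    ∃ (n : ℕ) (e : L →ₗ[k] Matrix (Fin n) (Fin n) k), PLie.IsPSubOfAssoc φ e := by
  classical
  let b := Module.finBasis k L
  let U := Groth.Agent.Lib.Helper7.RPBW.RU b p φ
  let B := Module.finBasis k U
  let E : U →ₐ[k] Matrix (Fin (Module.finrank k U)) (Fin (Module.finrank k U)) k :=
    (LinearMap.toMatrixAlgEquiv B).toAlgHom.comp (Algebra.lmul k U)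
  have hE : Function.Injective E := by
    intro v w hvw
    have h1 : Algebra.lmul k U v = Algebra.lmul k U w :=
      (LinearMap.toMatrixAlgEquiv B).injective hvw
    exact Algebra.lmul_injective h1
  refine ⟨Module.finrank k U, E.toLinearMap ∘ₗ Groth.Agent.Lib.Helper7.RPBW.ιR b p φ, ?_, ?_, ?_⟩
  · exact hE.comp (Groth.Agent.Lib.Helper7.RPBW.ιR_injective b p φ)
  · intro x z
    simp only [LinearMap.comp_apply, AlgHom.toLinearMap_apply]
    rw [Groth.Agent.Lib.Helper7.RPBW.ιR_lie, map_sub, map_mul, map_mul]
  · intro x
    simp only [LinearMap.comp_apply, AlgHom.toLinearMap_apply]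
    rw [Groth.Agent.Lib.Helper7.RPBW.ιR_pmap, map_pow]

end Groth.Agent.S17337
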