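import Groth.Statements.S17338
import Groth.Agent.Lib.Helper7.RPBW8
import Groth.Agent.Lib.Helper7.DualDer2

open Groth.Agent.Lib.Helper7.RPBW Groth.Agent.Lib.Helper7.DualDer TensorProduct


set_option autoImplicit false
universe u v
open Hopf

namespace Groth.Agent.S17338

/-- Let k be an algebraically closed field of characteristic p > 0 and (L, x ↦ x^[p]) a
finite-dimensional restricted Lie algebra over k. Then L is the Lie algebra of an infinitesimal
group scheme of height at most one: there are a commutative Hopf algebra A over k,
finite-dimensional as a k-vector space, with f^p = 0 for every f in the augmentation ideal, and an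
injective k-linear map e from L to the k-derivations of A whose image is exactly the set of
left-invariant derivations (those D with Δ ∘ D = (id ⊗ D) ∘ Δ), such that e takes brackets to
commutators of derivations and x^[p] to the p-th power of e(x) as an endomorphism of A. (The
assignment G ↦ Lie(G) is moreover fully faithful on height ≤ 1 groups; that half is not stated
here.) -/
theorem result (k : Type u) [Field k]
    [IsAlgClosed k] (p : ℕ) [Fact p.Prime] [CharP k p]
    (L : Type u) [LieRing L] [LieAlgebra k L] [Module.Finite k L] (φ : PLie.PMap k p L) :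
    ∃ (A : Type u) (_ : CommRing A) (_ : HopfAlgebra k A), Module.Finite k A ∧
      (∀ f : A, Bialgebra.counitAlgHom k A f = 0 → f ^ p = 0) ∧
      ∃ e : L →ₗ[k] Derivation k A A, Function.Injective e ∧
        Set.range e = {D : Derivation k A A | CoalgebraStruct.comul (R := k) (A := A) ∘ₗ D.toLinearMap =
          LinearMap.lTensor A D.toLinearMap ∘ₗ CoalgebraStruct.comul (R := k) (A := A)} ∧
        (∀ x y : L, e ⁅x, y⁆ = ⁅e x, e y⁆) ∧
        (∀ x : L, (e (φ x)).toLinearMap = (e x).toLinearMap ^ p) := by
  classical
  let b := Module.finBasis k L
  let H := RU b p φ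
  refine ⟨CartDual.D k H, inferInstance, inferInstance, inferInstance, ?_, ?_⟩
  · intro f hf
    have hf' : f (1 : H) = 0 := hf
    refine pow_eq_zero_of_apply_one p (Set.range (ιR b p φ)) (adjoin_range_ιR b p φ) ?_ f hf'
    rintro _ ⟨z, rfl⟩
    exact comul_ιR b p φ z
  · let e : L →ₗ[k] Derivation k (CartDual.D k H) (CartDual.D k H) :=
      { toFun := fun x => derOf (ιR b p φ x) (comul_ιR b p φ x)
        map_add' := fun x z => by
          apply Derivation.ext
          intro f
          rw [Derivation.add_apply, derOf_apply, derOf_apply, derOf_apply, map_add, Rt_add]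
          rfl
        map_smul' := fun c x => by
          apply Derivation.ext
          intro f
          rw [RingHom.id_apply, Derivation.smul_apply, derOf_apply, derOf_apply, map_smul,
            Rt_smul]
          rfl }
    have he : ∀ x, (e x).toLinearMap = Rt (ιR b p φ x) := fun x => rfl
    have heA : ∀ x, (e x).toLinearMap = RtAlg (k := k) (ιR b p φ x) := fun x => rfl
    refine ⟨e, ?_, ?_, ?_, ?_⟩
    · rw [injective_iff_map_eq_zero]
      intro x hx
      apply ιR_injective b p φ
      rw [map_zero, ← Module.forall_dual_apply_eq_zero_iff k]
      intro ψ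
      have h1 : (e x).toLinearMap ((CartDual.toDual k H).symm ψ) = 0 := by
        rw [hx]; rfl
      rw [he] at h1
      have h2 := congrArg (fun F : CartDual.D k H => F (1 : H)) h1
      simp only [Rt_apply, one_mul] at h2
      exact h2
    · ext Dv
      constructor
      · rintro ⟨x, rfl⟩
        show _ = _
        rw [he]
        exact comul_Rt (ιR b p φ x)
      · intro hD
        have hD' : CoalgebraStruct.comul (R := k) (A := CartDual.D k H) ∘ₗ Dv.toLinearMap =
            LinearMap.lTensor (CartDual.D k H) Dv.toLinearMap ∘ₗ
              CoalgebraStruct.comul (R := k) (A := CartDual.D k H) := hD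
        obtain ⟨v, hv⟩ := exists_eq_Rt Dv.toLinearMap hD'
        have hDv : ∀ f, Dv f = Rt v f := fun f => LinearMap.congr_fun hv f
        have hprim : Coalgebra.comul (R := k) v = v ⊗ₜ[k] 1 + 1 ⊗ₜ[k] v := by
          apply prim_of_leibniz v
          intro f g
          rw [← hDv, ← hDv, ← hDv, Dv.leibniz, smul_eq_mul, smul_eq_mul, mul_comm g, add_comm]
        obtain ⟨x, hx⟩ := prim_mem_range b p φ hprim
        refine ⟨x, ?_⟩
        apply Derivation.ext
        intro f
        rw [hDv, ← hx]
        rfl
    · intro x z
      apply Derivation.ext
      intro f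
      rw [Derivation.commutator_apply]
      have h1 : RtAlg (k := k) (ιR b p φ ⁅x, z⁆) = RtAlg (k := k) (ιR b p φ x) *
          RtAlg (k := k) (ιR b p φ z) - RtAlg (k := k) (ιR b p φ z) * RtAlg (k := k) (ιR b p φ x) := by
        rw [ιR_lie, map_sub, map_mul, map_mul]
      have h2 := LinearMap.congr_fun h1 f
      exact h2
    · intro x
      rw [heA, heA, ιR_pmap, map_pow]

end Groth.Agent.S17338
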