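import Groth.Statements.S1734
import Groth.Agent.Lib.Helper3.LechIndep

set_option autoImplicit false
universe u
open LocCoh

namespace Groth.Agent.S1734

open Groth.Agent.Lib.Helper3.LechIndep in
theorem aux (A : Type u) [CommRing A] (r : ℕ) (f : Fin (r + 1) → A) (g : A)
    (h : Dual2.Independent (Function.update f (Fin.last r) (f (Fin.last r) * g))) :
    Module.length A (A ⧸ Ideal.span (Set.range (Function.update f (Fin.last r) (f (Fin.last r) * g)))) =
      Module.length A (A ⧸ Ideal.span (Set.range f)) +
      Module.length A (A ⧸ Ideal.span (Set.range (Function.update f (Fin.last r) g))) := by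
  have := length_eq_add_of_mul _ (Fin.last r) (f (Fin.last r)) g (Function.update_self ..) h
  rw [Function.update_idem, Function.update_idem, Function.update_eq_self] at this
  rw [this, add_comm]

/-- Let f_1, …, f_r, g be elements of a ring A (r ≥ 1) such that f_1, …, f_{r-1}, f_r g is independent
and A/(f_1, …, f_{r-1}, f_r g) has finite length. Then length A/(f_1, …, f_{r-1}, f_r g) = length
A/(f_1, …, f_r) + length A/(f_1, …, f_{r-1}, g). -/
theorem result (A : Type u) [CommRing A] (r : ℕ) (f : Fin (r + 1) → A) (g : A) (h : Dual2.Independent (Function.update f (Fin.last r) (f (Fin.last r) * g))) (hfin : IsFiniteLength A (A ⧸ Ideal.span (Set.range (Function.update f (Fin.last r) (f (Fin.last r) * g))))) : Module.length A (A ⧸ Ideal.span (Set.range (Function.update f (Fin.last r) (f (Fin.last r) * g)))) = Module.length A (A ⧸ Ideal.span (Set.range f)) + Module.length A (A ⧸ Ideal.span (Set.range (Function.update f (Fin.last r) g))) := by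
  exact aux A r f g h

end Groth.Agent.S1734
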