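import Groth.Statements.S1735
import Groth.Agent.Lib.Helper28.Chevalley

set_option autoImplicit false
universe u
open LocCoh

namespace Groth.Agent.S1735

open IsLocalRing

/-- Let A be a complete Noetherian local domain and p a prime ideal with dim(A/p) = 1. For every n ≥ 1
there is m ≥ n such that the m-th symbolic power of p (the contraction of p^m A_p to A) is contained
in p^n. -/
theorem result (A : Type u) [CommRing A] [IsDomain A] [IsLocalRing A] [IsNoetherianRing A] [IsAdicComplete (IsLocalRing.maximalIdeal A) A] (p : Ideal A) [p.IsPrime] (hp : ringKrullDim (A ⧸ p) = 1) (n : ℕ) (hn : 1 ≤ n) : ∃ m : ℕ, n ≤ m ∧ ((Ideal.map (algebraMap A (Localization.AtPrime p)) p) ^ m).comap (algebraMap A (Localization.AtPrime p)) ≤ p ^ n := by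
  classical
  set Ap := Localization.AtPrime p
  set 𝔪 := maximalIdeal A with h𝔪
  let Q : ℕ → Ideal A := fun m => ((Ideal.map (algebraMap A Ap) p) ^ m).comap (algebraMap A Ap)
  have hQanti : Antitone Q := fun a b hab =>
    Ideal.comap_mono (Ideal.pow_le_pow_right hab)
  have hpQ : ∀ m, p ^ m ≤ Q m := by
    intro m
    change p ^ m ≤ Ideal.comap _ _
    rw [← Ideal.map_le_iff_le_comap, Ideal.map_pow]
  -- intersection is zero
  have hinj : Function.Injective (algebraMap A Ap) :=
    IsLocalization.injective Ap (Ideal.primeCompl_le_nonZeroDivisors p)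
  have hQinf : ⨅ s, Q s = ⊥ := by
    rw [eq_bot_iff]
    intro x hx
    rw [Ideal.mem_bot]
    apply hinj
    rw [map_zero]
    have hne : Ideal.map (algebraMap A Ap) p ≠ ⊤ := by
      rw [IsLocalization.AtPrime.map_eq_maximalIdeal p Ap]
      exact Ideal.IsPrime.ne_top inferInstance
    have h0 := Ideal.iInf_pow_eq_bot_of_isLocalRing (Ideal.map (algebraMap A Ap) p) hne
    have : algebraMap A Ap x ∈ ⨅ i : ℕ, Ideal.map (algebraMap A Ap) p ^ i := by
      rw [Ideal.mem_iInf]
      intro i
      have := (Ideal.mem_iInf.mp hx) i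
      exact this
    rw [h0] at this
    exact this
  -- colon ideal
  let J : Ideal A := (p ^ n).colon (Q n)
  have hJmem : ∀ a, a ∈ J ↔ ∀ x ∈ Q n, a * x ∈ p ^ n := by
    intro a
    change a ∈ Submodule.colon _ _ ↔ _
    rw [Submodule.mem_colon]
    simp only [smul_eq_mul, SetLike.mem_coe]
  have hpnJ : p ^ n ≤ J := by
    intro a ha
    rw [hJmem]
    intro x _
    exact Ideal.mul_mem_right _ _ ha
  -- J is not contained in p
  have hJp : ¬ J ≤ p := by
    obtain ⟨T, hT⟩ := (IsNoetherian.noetherian (Q n) : (Q n).FG)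
    have hs : ∀ x ∈ Q n, ∃ s : A, s ∉ p ∧ s * x ∈ p ^ n := by
      intro x hx
      have hx' : algebraMap A Ap x ∈ Ideal.map (algebraMap A Ap) (p ^ n) := by
        rw [Ideal.map_pow]; exact hx
      rw [IsLocalization.mem_map_algebraMap_iff p.primeCompl] at hx'
      obtain ⟨⟨a, s⟩, hs⟩ := hx'
      rw [← map_mul] at hs
      have := hinj hs
      refine ⟨s, s.2, ?_⟩
      rw [mul_comm, this]
      exact a.2
    choose! s hsp hsx using hs
    intro hle
    have hprod : (∏ t ∈ T, s t) ∈ J := by
      rw [hJmem]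
      intro x hx
      rw [← hT] at hx
      refine Submodule.span_induction ?_ ?_ ?_ ?_ hx
      · intro t ht
        have htQ : t ∈ Q n := by rw [← hT]; exact Ideal.subset_span ht
        have := hsx t htQ
        rw [← Finset.mul_prod_erase T s ht, mul_assoc, mul_comm, mul_assoc]
        apply Ideal.mul_mem_left
        rw [mul_comm]; exact this
      · rw [mul_zero]; exact Ideal.zero_mem _
      · intro x y _ _ hx hy
        rw [mul_add]; exact Ideal.add_mem _ hx hy
      · intro a x _ hx
        rw [smul_eq_mul, mul_left_comm]; exact Ideal.mul_mem_left _ _ hx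
    have := hle hprod
    obtain ⟨t, ht, hst⟩ := (Ideal.IsPrime.prod_mem_iff (hp := (inferInstance : p.IsPrime))).mp this
    have htQ : t ∈ Q n := by rw [← hT]; exact Ideal.subset_span ht
    exact hsp t htQ hst
  -- primes strictly containing p equal the maximal ideal
  have hprime : ∀ q : Ideal A, q.IsPrime → p < q → q = 𝔪 := by
    intro q hq hpq
    by_contra hqm
    have hqm' : q < 𝔪 := lt_of_le_of_ne (IsLocalRing.le_maximalIdeal hq.ne_top) hqm
    have hdimq := ringKrullDim_quotient p
    rw [hp] at hdimq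
    let sr : LTSeries (PrimeSpectrum.zeroLocus (R := A) p) :=
      { length := 2
        toFun := ![⟨⟨p, inferInstance⟩, (PrimeSpectrum.mem_zeroLocus _ _).mpr (le_refl _)⟩,
          ⟨⟨q, hq⟩, (PrimeSpectrum.mem_zeroLocus _ _).mpr hpq.le⟩,
          ⟨⟨𝔪, (maximalIdeal.isMaximal A).isPrime⟩,
            (PrimeSpectrum.mem_zeroLocus _ _).mpr (hpq.trans hqm').le⟩]
        step := by
          intro i
          fin_cases i
          · exact hpq
          · exact hqm' }
    have h2 : ((2 : ℕ) : WithBot ℕ∞) ≤ Order.krullDim (PrimeSpectrum.zeroLocus (R := A) p) :=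
      Order.LTSeries.length_le_krullDim sr
    rw [← hdimq] at h2
    norm_cast at h2
  have hn0 : n ≠ 0 := by omega
  have hrad : 𝔪 ≤ J.radical := by
    rw [Ideal.radical_eq_sInf]
    refine le_sInf fun q hq => ?_
    have hpq : p ≤ q := by
      have : p ^ n ≤ q := hpnJ.trans hq.1
      exact hq.2.le_of_pow_le this
    have hne : p ≠ q := fun h => hJp (h ▸ hq.1)
    rw [hprime q hq.2 (lt_of_le_of_ne hpq hne)]
  obtain ⟨c, hc⟩ := Ideal.exists_pow_le_of_le_radical_of_fg hrad (IsNoetherian.noetherian 𝔪)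
  -- Artin–Rees
  obtain ⟨k, hk⟩ := Ideal.exists_pow_inf_eq_pow_smul 𝔪 (Q n)
  have hAR : 𝔪 ^ (k + c) ⊓ Q n ≤ p ^ n := by
    have h1 := hk (k + c) (Nat.le_add_right k c)
    rw [Nat.add_sub_cancel_left] at h1
    have h2 : 𝔪 ^ (k + c) ⊓ Q n = 𝔪 ^ (k + c) • (⊤ : Submodule A A) ⊓ Q n := by
      rw [smul_eq_mul, Ideal.mul_top]
    rw [h2, h1]
    rw [Submodule.smul_le]
    intro a ha x hx
    have haJ : a ∈ J := hc ha
    exact (hJmem a).mp haJ x hx.2
  obtain ⟨s, hs⟩ := Groth.Agent.Lib.Helper28.Chevalley.chevalley Q hQanti hQinf (k + c)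
  refine ⟨max s n, le_max_right _ _, ?_⟩
  have h1 : Q (max s n) ≤ 𝔪 ^ (k + c) ⊓ Q n :=
    le_inf ((hQanti (le_max_left s n)).trans hs) (hQanti (le_max_right s n))
  exact h1.trans hAR

end Groth.Agent.S1735
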