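import Groth.Statements.S17355
import Groth.Agent.Lib.Helper15.AzInvUnitary
-- import your own Groth.Agent.* helpers here

set_option autoImplicit false
universe u v w
open scoped TensorProduct
open AzInv

namespace Groth.Agent.S17355

/-- Let `R` be a commutative ring with an involution `lam` whose fixed ring is exactly `S`, assume that
units have square roots locally for the etale topology of `S` (every unit of an etale `S`-algebra
becomes a square in some etale faithfully flat extension), and let `A` be an Azumaya `R`-algebra of
degree `n ≥ 1` with a `lam`-involution `t`. Then every `R`-algebra automorphism `ψ` of `A` that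
commutes with `t` is, locally for the etale topology of `S`, conjugation by a unitary element: there
are an etale faithfully flat `S`-algebra `S'` and a unit `u` of `S' ⊗_S A` with `(id ⊗ t)(u) * u =
1` such that `id ⊗ ψ` is `x ↦ u x u⁻¹` (the map from the unitary group to the automorphism sheaf of
`(A, t)` is an epimorphism). This row states the surjectivity part only; the published statement
also identifies the kernel of the map from the unitary group as the group of norm-one elements of
`R` (the units `r` of `R` with `lam r * r = 1`), so that the projective unitary group of `(A, t)` is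
its automorphism sheaf. (The source states this for an exact quotient of a locally ringed topos with
involution; the row is the affine case `Spec R → Spec S`, with etale coverings of `Spec S` replaced
by a single etale faithfully flat `S`-algebra.) -/
theorem result (S : Type u) (R : Type v) [CommRing S] [CommRing R] [Algebra S R]
    (lam : R ≃ₐ[S] R) (hlam : ∀ r, lam (lam r) = r) (hfix : RInv.IsFixedRing S R lam.toRingEquiv)
    (hsq : ∀ (S₁ : Type u) [CommRing S₁] [Algebra S S₁] [Algebra.Etale S S₁] (x : S₁ˣ),
      ∃ (S₂ : Type u) (_ : CommRing S₂) (_ : Algebra S₁ S₂) (_ : Algebra.Etale S₁ S₂)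
        (_ : Module.FaithfullyFlat S₁ S₂) (y : S₂), y * y = algebraMap S₁ S₂ ↑x)
    (A : Type w) [Ring A] [Algebra S A] [Algebra R A] [IsScalarTower S R A]
    (n : ℕ) (hn : 0 < n) (hA : AzInv.IsAzumayaDeg R A n) (t : AzInv.LamInv R A lam)
    (ψ : A ≃ₐ[R] A) (hψ : AzInv.IsInvHom t t ψ) :
    ∃ (S' : Type u) (_ : CommRing S') (_ : Algebra S S') (_ : Algebra.Etale S S')
      (_ : Module.FaithfullyFlat S S') (u : (S' ⊗[S] A)ˣ),
      t.bc S lam S' (↑u : S' ⊗[S] A) * ↑u = 1 ∧
        ∀ x : S' ⊗[S] A,
          Algebra.TensorProduct.congr (AlgEquiv.refl : S' ≃ₐ[S'] S') (ψ.restrictScalars S) x =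
            ↑u * x * ↑u⁻¹ := by
  classical
  haveI : IsAzumaya R A := hA.1
  apply Groth.Agent.Lib.Helper15.AzInvInner.exists_cover S
    (fun T _ _ => ∃ u : (T ⊗[S] A)ˣ, t.bc S lam T (↑u : T ⊗[S] A) * ↑u = 1 ∧
      ∀ x : T ⊗[S] A,
      Algebra.TensorProduct.congr (AlgEquiv.refl : T ≃ₐ[T] T) (ψ.restrictScalars S) x =
        ↑u * x * ↑u⁻¹)
  · intro p
    obtain ⟨g, s, s', hg, hc, hc', hs, hs'⟩ :=
      Groth.Agent.Lib.Helper15.AzInvUnitary.exists_local_unitary lam hlam hfix t ψ hψ p.asIdeal
    have hf : s * s' ∉ p.asIdeal := fun h => (p.isPrime.mem_or_mem h).elim hs hs'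
    haveI : Algebra.Etale S (Localization.Away (s * s')) :=
      Algebra.Etale.of_isLocalizationAway (s * s')
    have hfu : IsUnit (algebraMap S (Localization.Away (s * s')) (s * s')) :=
      IsLocalization.Away.algebraMap_isUnit (s * s')
    rw [map_mul] at hfu
    have hsu : IsUnit (algebraMap S (Localization.Away (s * s')) s) :=
      isUnit_of_mul_isUnit_left hfu
    have hsu' : IsUnit (algebraMap S (Localization.Away (s * s')) s') :=
      isUnit_of_mul_isUnit_right hfu
    obtain ⟨S₂, iR, iA, iE, iF, y, hy⟩ := hsq (Localization.Away (s * s')) hsu.unit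
    letI : Algebra S S₂ :=
      ((algebraMap (Localization.Away (s * s')) S₂).comp
        (algebraMap S (Localization.Away (s * s')))).toAlgebra
    haveI : IsScalarTower S (Localization.Away (s * s')) S₂ :=
      IsScalarTower.of_algebraMap_eq (fun x => rfl)
    haveI : Algebra.Etale S S₂ := Algebra.Etale.comp S (Localization.Away (s * s')) S₂
    haveI : Module.Flat S S₂ := Module.Flat.trans S (Localization.Away (s * s')) S₂
    refine ⟨s * s', hf, S₂, inferInstance, inferInstance, inferInstance, inferInstance, ?_, ?_⟩
    · intro m hm hfm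
      rw [Ideal.smul_top_eq_map]
      intro htop
      have h1 : Ideal.map (algebraMap S (Localization.Away (s * s'))) m ≠ ⊤ := by
        rw [IsLocalization.map_algebraMap_ne_top_iff_disjoint (Submonoid.powers (s * s')),
          Ideal.disjoint_powers_iff_notMem_of_isPrime]
        exact hfm
      obtain ⟨𝔫, h𝔫, hle⟩ := Ideal.exists_le_maximal _ h1
      have h2 : Ideal.map (algebraMap S S₂) m = ⊤ := by
        have h3 := congrArg (fun N : Submodule S S₂ => (1 : S₂) ∈ N) htop
        simp only [Submodule.mem_top, eq_iff_iff, iff_true] at h3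
        exact (Ideal.eq_top_iff_one _).mpr h3
      have h4 : Ideal.map (algebraMap (Localization.Away (s * s')) S₂) 𝔫 = ⊤ := by
        rw [eq_top_iff, ← h2, IsScalarTower.algebraMap_eq S (Localization.Away (s * s')) S₂,
          ← Ideal.map_map]
        exact Ideal.map_mono hle
      apply iF.submodule_ne_top h𝔫
      rw [Ideal.smul_top_eq_map, h4]
      rfl
    · refine Groth.Agent.Lib.Helper15.AzInvUnitary.exists_unitary_of_data lam S₂ t ψ g s s'
        hg hc hc' y ?_ (hsu.map (algebraMap (Localization.Away (s * s')) S₂))
        (hsu'.map (algebraMap (Localization.Away (s * s')) S₂))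
      rw [hy]
      rfl
  · intro ι _ T _ _ h
    haveI := Fintype.ofFinite ι
    exact Groth.Agent.Lib.Helper15.AzInvInner.prod_unitary T (ψ.restrictScalars S)
      (t.linS S lam) h


end Groth.Agent.S17355
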