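import Groth.Statements.S1736
import Groth.Agent.Lib.Helper16.LocCohCompareLocal
import Groth.Agent.Lib.Helper16.LocCohGrothVanish

set_option autoImplicit false
universe u
open LocCoh

namespace Groth.Agent.S1736

section helpers
open LocCoh

theorem result_aux (A : Type u) [CommRing A] [IsNoetherianRing A] (d : ℕ) (hd : ringKrullDim A = d) (I I' : Ideal A) (hII' : I ≤ I') (hJ : I' ≤ (⊥ : Ideal A).jacobson) (h : ∀ (M : Type u) [AddCommGroup M] [Module A M] (i : ℕ), d ≤ i → Subsingleton (LocCoh.H I' i M)) (M : Type u) [AddCommGroup M] [Module A M] (i : ℕ) (hi : d ≤ i) : Subsingleton (LocCoh.H I i M) := by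
  open Groth.Agent.Lib.Helper16.LC in
  have hI'sub := h M i hi
  have hsurj : Function.Surjective (cmp hII' i (ModuleCat.of A M)) := by
    apply cmp_surjective_of_forall i M I I' hII'
    intro c b hIc hcI' hb
    apply subsingleton_H_of_forall_prime i _ c
    intro p _ hcp
    apply subsingleton_H_maximalIdeal_localizedModule_localizedModule M b p i
    intro hbp
    have hnoe : IsNoetherianRing (Localization.AtPrime p) :=
      IsLocalization.isNoetherianRing p.primeCompl _ inferInstance
    refine subsingleton_H_of_supportDim_lt _ _ d ?_ i hi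
    obtain ⟨m, hm, hpm⟩ := Ideal.exists_le_maximal p (Ideal.IsPrime.ne_top inferInstance)
    have hbm : b ∈ m := by
      have h1 : (⊥ : Ideal A).jacobson ≤ m := sInf_le ⟨bot_le, hm⟩
      exact h1 (hJ hb)
    have hlt : p < m := lt_of_le_of_ne hpm (fun heq => hbp (heq ▸ hbm))
    have hmprime : m.IsPrime := hm.isPrime
    have hfin : m.FiniteHeight := by
      rw [Ideal.finiteHeight_iff_lt]
      right
      have h2 : (m.height : WithBot ℕ∞) ≤ ringKrullDim A := Ideal.height_le_ringKrullDim_of_isPrime
      rw [hd] at h2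
      have h3 : m.height ≤ (d : ℕ∞) := by exact_mod_cast h2
      exact lt_of_le_of_lt h3 (ENat.natCast_lt_top d)
    have h1 : p.height < m.height := Ideal.height_strict_mono_of_isPrime_of_isPrime hlt
    have h2 : (m.height : WithBot ℕ∞) ≤ ringKrullDim A := Ideal.height_le_ringKrullDim_of_isPrime
    rw [hd] at h2
    have h3 : m.height ≤ (d : ℕ∞) := by exact_mod_cast h2
    calc Module.supportDim (Localization.AtPrime p) (LocalizedModule p.primeCompl M)
        ≤ ringKrullDim (Localization.AtPrime p) := Module.supportDim_le_ringKrullDim _ _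
      _ = ((p.height : ℕ∞) : WithBot ℕ∞) :=
          IsLocalization.AtPrime.ringKrullDim_eq_height p (Localization.AtPrime p)
      _ < ((d : ℕ∞) : WithBot ℕ∞) := by exact_mod_cast lt_of_lt_of_le h1 h3
  refine ⟨fun x y => ?_⟩
  obtain ⟨x2, rfl⟩ := hsurj x
  obtain ⟨y2, rfl⟩ := hsurj y
  rw [hI'sub.elim x2 y2]

end helpers

/-- Let A be a Noetherian ring of finite dimension d and I ⊆ I' ideals with I' contained in the Jacobson
radical of A. If cd(A, I') < d, i.e. H^i_{I'}(M) = 0 for all A-modules M and all i ≥ d, then also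
cd(A, I) < d: H^i_I(M) = 0 for all A-modules M and all i ≥ d. -/
theorem result (A : Type u) [CommRing A] [IsNoetherianRing A] (d : ℕ) (hd : ringKrullDim A = d) (I I' : Ideal A) (hII' : I ≤ I') (hJ : I' ≤ (⊥ : Ideal A).jacobson) (h : ∀ (M : Type u) [AddCommGroup M] [Module A M] (i : ℕ), d ≤ i → Subsingleton (LocCoh.H I' i M)) (M : Type u) [AddCommGroup M] [Module A M] (i : ℕ) (hi : d ≤ i) : Subsingleton (LocCoh.H I i M) := by
  exact result_aux A d hd I I' hII' hJ h M i hi

end Groth.Agent.S1736
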