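import Groth.Statements.S17362
import Groth.Agent.Lib.Helper15.SymRank

-- import your own Groth.Agent.* helpers here

set_option autoImplicit false
universe u v w
open scoped TensorProduct
open AzInv

namespace Groth.Agent.S17362

/-- Let `R` be a commutative ring with an involution `lam` whose fixed ring is exactly `S`, with `2` a
unit in `S`, and let `(A, t)` be an Azumaya `R`-algebra of degree `n ≥ 1` with a `lam`-involution.
For a prime `q` of `R` in the ramification locus (`lam` is the identity modulo `q`) call `t`
orthogonal at `q` when the images of the `t`-symmetric elements of `A` span a subspace of `k(q) ⊗_R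
A` of dimension `n (n + 1) / 2` over `k(q)` (the induced involution of the central simple algebra
`k(q) ⊗_R A` is then orthogonal, and symplectic otherwise). Then this orthogonal/symplectic sign is
locally constant on the ramification locus: every such `q` has a basic open neighbourhood `D(f)`
such that at every prime of the ramification locus inside `D(f)` the sign is the same as at `q`.
(The source states this for a good quotient of schemes by an involution with `2` invertible, as
local constancy of a sign function on the ramification locus; the row is the affine case with the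
sign spelled out by dimensions of symmetric elements.) -/
theorem result (S : Type u) (R : Type v) [CommRing S] [CommRing R] [Algebra S R]
    (lam : R ≃ₐ[S] R) (hlam : ∀ r, lam (lam r) = r) (hfix : RInv.IsFixedRing S R lam.toRingEquiv)
    (h2 : IsUnit (2 : S))
    (A : Type w) [Ring A] [Algebra S A] [Algebra R A] [IsScalarTower S R A]
    (n : ℕ) (hn : 0 < n) (hA : AzInv.IsAzumayaDeg R A n) (t : AzInv.LamInv R A lam)
    (q : PrimeSpectrum R) (hq : ∀ r : R, lam r - r ∈ q.asIdeal) :
    ∃ f : R, f ∉ q.asIdeal ∧ ∀ q' : PrimeSpectrum R, (∀ r : R, lam r - r ∈ q'.asIdeal) → f ∉ q'.asIdeal →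
      (Module.finrank q'.asIdeal.ResidueField
          (Submodule.span q'.asIdeal.ResidueField
            (Set.range fun a : {a : A // t a = a} => (1 : q'.asIdeal.ResidueField) ⊗ₜ[R] (a : A))) = Nat.choose (n + 1) 2 ↔
        Module.finrank q.asIdeal.ResidueField
            (Submodule.span q.asIdeal.ResidueField
              (Set.range fun a : {a : A // t a = a} => (1 : q.asIdeal.ResidueField) ⊗ₜ[R] (a : A))) = Nat.choose (n + 1) 2) := by
  classical
  obtain ⟨h₀, hh₀⟩ := h2.exists_right_inv
  have hh : (2 : R) * algebraMap S R h₀ = 1 := by
    rw [← map_ofNat (algebraMap S R) 2, ← map_mul, hh₀, map_one]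
  haveI : IsAzumaya R A := hA.1
  have hrank : ∀ p : PrimeSpectrum R,
      Module.finrank p.asIdeal.ResidueField (p.asIdeal.ResidueField ⊗[R] A) = n ^ 2 := by
    intro p
    rw [← hA.2 p, Module.rankAtStalk_eq]
  have hV : ∀ p : PrimeSpectrum R,
      Groth.Agent.Lib.Helper15.SymRank.Vspan (R := R) t.toAddMonoidHom 1 p =
      Submodule.span p.asIdeal.ResidueField
        (Set.range fun a : {a : A // t a = a} => (1 : p.asIdeal.ResidueField) ⊗ₜ[R] (a : A)) := by
    intro p
    unfold Groth.Agent.Lib.Helper15.SymRank.Vspan
    congr 1
    ext x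
    constructor
    · rintro ⟨⟨a, ha⟩, rfl⟩
      exact ⟨⟨a, by simpa using ha⟩, rfl⟩
    · rintro ⟨⟨a, ha⟩, rfl⟩
      exact ⟨⟨a, by simpa using ha⟩, rfl⟩
  obtain ⟨f, hf, hmain⟩ := Groth.Agent.Lib.Helper15.SymRank.main (R := R) (A := A) (⇑lam)
    t.toAddMonoidHom (fun r a => by simpa using t.map_smul r a)
    (fun a => by simpa using t.invol a) (algebraMap S R h₀) hh
    (lam.commutes h₀) (n ^ 2) hrank q hq
  refine ⟨f, hf, fun q' hq' hfq' => ?_⟩
  have := hmain q' hq' hfq'
  rw [hV, hV] at this
  rw [this]


end Groth.Agent.S17362
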