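import Groth.Statements.S17367
import Groth.Agent.Lib.Helper1.FlatLift2

set_option autoImplicit false
universe u
open scoped TensorProduct
open Deform

namespace Groth.Agent.S17367

/-- The affine computation, for a square-zero extension of Noetherian rings. Let A' be a Noetherian
ring, J an ideal with J·J = 0 and A = A'/J; let B' be a flat A'-algebra, B = B'/JB', I an ideal of B
with B/I flat over A, and I', I'' two ideals of B' with A'-flat quotients whose images in B are both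
I (two deformations over A' of the closed subscheme V(I) of Spec B inside Spec B'). Then there is
exactly one B'-linear map φ from I to (B/I) ⊗_{A'} J (that is, Hom_B(I, (B/I) ⊗_A J)) such that for
every x in I, all lifts x' in I' and x'' in I'' of x, and every z in B' ⊗_{A'} J whose image under
multiplication is x'' - x', the image of z in (B/I) ⊗_{A'} J equals φ(x). (The published statement
is global (X' a separated scheme over A') and does not assume X' flat over A'; this row is the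
affine case X' = Spec B' and assumes B' flat over A'.) -/
theorem result (A' : Type u) [CommRing A'] [IsNoetherianRing A']
    (J : Ideal A') (hJ : J * J = ⊥) (B' : Type u) [CommRing B'] [Algebra A' B'] [Module.Flat A' B']
    (I : Ideal (B' ⧸ J.map (algebraMap A' B')))
    [Module.Flat (A' ⧸ J) ((B' ⧸ J.map (algebraMap A' B')) ⧸ I)]
    (I' I'' : Ideal B') [Module.Flat A' (B' ⧸ I')] [Module.Flat A' (B' ⧸ I'')]
    (hI' : I'.map (Ideal.Quotient.mk (J.map (algebraMap A' B'))) = I)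
    (hI'' : I''.map (Ideal.Quotient.mk (J.map (algebraMap A' B'))) = I) :
    ∃! φ : ↥I →ₗ[B'] (((B' ⧸ J.map (algebraMap A' B')) ⧸ I) ⊗[A'] ↥J),
      (∀ (x : (B' ⧸ J.map (algebraMap A' B'))) (hx : x ∈ I) (x' x'' : B'), x' ∈ I' → x'' ∈ I'' →
          Ideal.Quotient.mk (J.map (algebraMap A' B')) x' = x → Ideal.Quotient.mk (J.map (algebraMap A' B')) x'' = x →
          ∀ z : B' ⊗[A'] ↥J, TensorProduct.rid A' B' (LinearMap.lTensor B' (Submodule.subtype J) z) = x'' - x' →
            LinearMap.rTensor ↥J (IsScalarTower.toAlgHom A' B' ((B' ⧸ J.map (algebraMap A' B')) ⧸ I)).toLinearMap z = φ ⟨x, hx⟩) := by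
  classical
  have hπ' : ∀ a ∈ I', (IsScalarTower.toAlgHom A' B' ((B' ⧸ J.map (algebraMap A' B')) ⧸ I)) a = 0 := by
    intro a ha
    change Ideal.Quotient.mk I (Ideal.Quotient.mk (J.map (algebraMap A' B')) a) = 0
    rw [Ideal.Quotient.eq_zero_iff_mem, ← hI']
    exact Ideal.mem_map_of_mem _ ha
  have hπ'' : ∀ a ∈ I'', (IsScalarTower.toAlgHom A' B' ((B' ⧸ J.map (algebraMap A' B')) ⧸ I)) a = 0 := by
    intro a ha
    change Ideal.Quotient.mk I (Ideal.Quotient.mk (J.map (algebraMap A' B')) a) = 0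
    rw [Ideal.Quotient.eq_zero_iff_mem, ← hI'']
    exact Ideal.mem_map_of_mem _ ha
  -- uniqueness of the class
  have U : ∀ (x' x'' y' y'' : B') (z w : B' ⊗[A'] ↥J), x' ∈ I' → y' ∈ I' → x'' ∈ I'' → y'' ∈ I'' →
      Ideal.Quotient.mk (J.map (algebraMap A' B')) x' = Ideal.Quotient.mk (J.map (algebraMap A' B')) y' →
      Ideal.Quotient.mk (J.map (algebraMap A' B')) x'' = Ideal.Quotient.mk (J.map (algebraMap A' B')) y'' →
      Groth.Agent.Lib.Helper1.FlatLift.mu J B' z = x'' - x' →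
      Groth.Agent.Lib.Helper1.FlatLift.mu J B' w = y'' - y' →
      LinearMap.rTensor ↥J (IsScalarTower.toAlgHom A' B' ((B' ⧸ J.map (algebraMap A' B')) ⧸ I)).toLinearMap z =
      LinearMap.rTensor ↥J (IsScalarTower.toAlgHom A' B' ((B' ⧸ J.map (algebraMap A' B')) ⧸ I)).toLinearMap w := by
    intro x' x'' y' y'' z w hx' hy' hx'' hy'' h1 h2 hz hw
    have d1 : x' - y' ∈ J.map (algebraMap A' B') := Ideal.Quotient.eq.mp h1
    have d2 : x'' - y'' ∈ J.map (algebraMap A' B') := Ideal.Quotient.eq.mp h2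
    obtain ⟨w', hw'⟩ := Groth.Agent.Lib.Helper1.FlatLift.exists_mu_eq J B' _ d1
    obtain ⟨w'', hw''⟩ := Groth.Agent.Lib.Helper1.FlatLift.exists_mu_eq J B' _ d2
    have e1 := Groth.Agent.Lib.Helper1.FlatLift.rTensor_eq_zero_of_mu_mem J
      (IsScalarTower.toAlgHom A' B' ((B' ⧸ J.map (algebraMap A' B')) ⧸ I)) I' hπ' w'
      (by rw [hw']; exact I'.sub_mem hx' hy')
    have e2 := Groth.Agent.Lib.Helper1.FlatLift.rTensor_eq_zero_of_mu_mem J
      (IsScalarTower.toAlgHom A' B' ((B' ⧸ J.map (algebraMap A' B')) ⧸ I)) I'' hπ'' w''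
      (by rw [hw'']; exact I''.sub_mem hx'' hy'')
    have e3 : z - w = w'' - w' := by
      apply Groth.Agent.Lib.Helper1.FlatLift.mu_injective J B'
      rw [map_sub, map_sub, hz, hw, hw', hw'']
      ring
    have e4 : z = w + (w'' - w') := by rw [← e3]; abel
    rw [e4, map_add, map_sub, e1, e2, sub_zero, add_zero]
  -- existence of data
  have D : ∀ x : ↥I, ∃ (x' x'' : B') (z : B' ⊗[A'] ↥J), x' ∈ I' ∧ x'' ∈ I'' ∧
      Ideal.Quotient.mk (J.map (algebraMap A' B')) x' = x.1 ∧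
      Ideal.Quotient.mk (J.map (algebraMap A' B')) x'' = x.1 ∧
      Groth.Agent.Lib.Helper1.FlatLift.mu J B' z = x'' - x' := by
    rintro ⟨x, hx⟩
    have h1 : x ∈ I'.map (Ideal.Quotient.mk (J.map (algebraMap A' B'))) := by rw [hI']; exact hx
    have h2 : x ∈ I''.map (Ideal.Quotient.mk (J.map (algebraMap A' B'))) := by rw [hI'']; exact hx
    obtain ⟨x', hx', e'⟩ := (Ideal.mem_map_iff_of_surjective _ Ideal.Quotient.mk_surjective).1 h1
    obtain ⟨x'', hx'', e''⟩ := (Ideal.mem_map_iff_of_surjective _ Ideal.Quotient.mk_surjective).1 h2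
    have d : x'' - x' ∈ J.map (algebraMap A' B') := Ideal.Quotient.eq.mp (e''.trans e'.symm)
    obtain ⟨z, hz⟩ := Groth.Agent.Lib.Helper1.FlatLift.exists_mu_eq J B' _ d
    exact ⟨x', x'', z, hx', hx'', e', e'', hz⟩
  choose X' X'' Z hX' hX'' hm' hm'' hZ using D
  let φ : ↥I →ₗ[B'] (((B' ⧸ J.map (algebraMap A' B')) ⧸ I) ⊗[A'] ↥J) :=
    { toFun := fun x => LinearMap.rTensor ↥J
        (IsScalarTower.toAlgHom A' B' ((B' ⧸ J.map (algebraMap A' B')) ⧸ I)).toLinearMap (Z x)
      map_add' := fun x y => by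
        rw [← map_add]
        refine U (X' (x + y)) (X'' (x + y)) (X' x + X' y) (X'' x + X'' y) (Z (x + y)) (Z x + Z y)
          (hX' _) (I'.add_mem (hX' _) (hX' _)) (hX'' _) (I''.add_mem (hX'' _) (hX'' _)) ?_ ?_ (hZ _) ?_
        · rw [hm', map_add, hm', hm']; rfl
        · rw [hm'', map_add, hm'', hm'']; rfl
        · rw [map_add, hZ, hZ]; ring
      map_smul' := fun a x => by
        rw [RingHom.id_apply, ← Groth.Agent.Lib.Helper1.FlatLift.rTensor_smul]
        refine U (X' (a • x)) (X'' (a • x)) (a * X' x) (a * X'' x) (Z (a • x)) (a • Z x)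
          (hX' _) (I'.mul_mem_left _ (hX' _)) (hX'' _) (I''.mul_mem_left _ (hX'' _)) ?_ ?_ (hZ _) ?_
        · rw [hm', map_mul, hm']; rfl
        · rw [hm'', map_mul, hm'']; rfl
        · rw [Groth.Agent.Lib.Helper1.FlatLift.mu_smul, hZ]; ring }
  refine ⟨φ, ?_, ?_⟩
  · intro x hx x' x'' hx' hx'' e' e'' z hz
    change _ = LinearMap.rTensor ↥J
        (IsScalarTower.toAlgHom A' B' ((B' ⧸ J.map (algebraMap A' B')) ⧸ I)).toLinearMap (Z ⟨x, hx⟩)
    exact U x' x'' (X' ⟨x, hx⟩) (X'' ⟨x, hx⟩) z (Z ⟨x, hx⟩) hx' (hX' _) hx'' (hX'' _)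
      (by rw [e', hm']) (by rw [e'', hm'']) hz (hZ _)
  · intro ψ hψ
    ext x
    have := hψ x.1 x.2 (X' x) (X'' x) (hX' x) (hX'' x) (hm' x) (hm'' x) (Z x) (hZ x)
    exact this.symm

end Groth.Agent.S17367
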