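import Groth.Statements.S17368
import Groth.Agent.Lib.Helper1.FlatLift2

set_option autoImplicit false
universe u
open scoped TensorProduct
open Deform

namespace Groth.Agent.S17368

/-- The affine computation, for a square-zero extension of Noetherian rings. Let A' be a Noetherian
ring, J an ideal with J·J = 0 and A = A'/J; let B' be a flat A'-algebra, B = B'/JB', I an ideal of B
with B/I flat over A, I' an ideal of B' with A'-flat quotient whose image in B is I, and φ a
B'-linear map from I to (B/I) ⊗_{A'} J. Then there is exactly one ideal I'' of B' with A'-flat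
quotient and image I in B whose difference from I' is φ: for every x in I, all lifts x' in I' and
x'' in I'' of x, and every z in B' ⊗_{A'} J whose image under multiplication is x'' - x', the image
of z in (B/I) ⊗_{A'} J equals φ(x). Together with the uniqueness of the difference this makes the
set of such ideals, when non-empty, a torsor under Hom_B(I, (B/I) ⊗_A J). (The published statement
is global (X' a separated scheme over A') and does not assume X' flat over A'; this row is the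
affine case X' = Spec B' and assumes B' flat over A'.) -/
theorem result (A' : Type u) [CommRing A'] [IsNoetherianRing A']
    (J : Ideal A') (hJ : J * J = ⊥) (B' : Type u) [CommRing B'] [Algebra A' B'] [Module.Flat A' B']
    (I : Ideal (B' ⧸ J.map (algebraMap A' B')))
    [Module.Flat (A' ⧸ J) ((B' ⧸ J.map (algebraMap A' B')) ⧸ I)]
    (I' : Ideal B') [Module.Flat A' (B' ⧸ I')]
    (hI' : I'.map (Ideal.Quotient.mk (J.map (algebraMap A' B'))) = I)
    (φ : ↥I →ₗ[B'] (((B' ⧸ J.map (algebraMap A' B')) ⧸ I) ⊗[A'] ↥J)) :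
    ∃! I'' : Ideal B', Module.Flat A' (B' ⧸ I'') ∧
      I''.map (Ideal.Quotient.mk (J.map (algebraMap A' B'))) = I ∧
      (∀ (x : (B' ⧸ J.map (algebraMap A' B'))) (hx : x ∈ I) (x' x'' : B'), x' ∈ I' → x'' ∈ I'' →
          Ideal.Quotient.mk (J.map (algebraMap A' B')) x' = x → Ideal.Quotient.mk (J.map (algebraMap A' B')) x'' = x →
          ∀ z : B' ⊗[A'] ↥J, TensorProduct.rid A' B' (LinearMap.lTensor B' (Submodule.subtype J) z) = x'' - x' →
            LinearMap.rTensor ↥J (IsScalarTower.toAlgHom A' B' ((B' ⧸ J.map (algebraMap A' B')) ⧸ I)).toLinearMap z = φ ⟨x, hx⟩) := by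
  classical
  have hJ2 : J * J = ⊥ := hJ
  have hπ : ∀ a, (IsScalarTower.toAlgHom A' B' ((B' ⧸ J.map (algebraMap A' B')) ⧸ I)) a =
      Ideal.Quotient.mk I (Ideal.Quotient.mk (J.map (algebraMap A' B')) a) := fun a => rfl
  have memI : ∀ x' ∈ I', Ideal.Quotient.mk (J.map (algebraMap A' B')) x' ∈ I := by
    intro x' hx'
    rw [← hI']
    exact Ideal.mem_map_of_mem _ hx'
  have hπ' : ∀ a ∈ I', (IsScalarTower.toAlgHom A' B' ((B' ⧸ J.map (algebraMap A' B')) ⧸ I)) a = 0 := by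
    intro a ha
    rw [hπ, Ideal.Quotient.eq_zero_iff_mem]
    exact memI a ha
  have hπsurj : Function.Surjective (IsScalarTower.toAlgHom A' B' ((B' ⧸ J.map (algebraMap A' B')) ⧸ I)) := by
    intro b
    obtain ⟨b', rfl⟩ := Ideal.Quotient.mk_surjective b
    obtain ⟨a, rfl⟩ := Ideal.Quotient.mk_surjective b'
    exact ⟨a, rfl⟩
  have hmk_mu : ∀ z : B' ⊗[A'] ↥J, Ideal.Quotient.mk (J.map (algebraMap A' B'))
      (Groth.Agent.Lib.Helper1.FlatLift.mu J B' z) = 0 := fun z =>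
    Ideal.Quotient.eq_zero_iff_mem.2 (Groth.Agent.Lib.Helper1.FlatLift.mu_mem J B' z)
  -- decomposition of the kernel of π relative to an ideal reducing to I
  have decomp : ∀ K : Ideal B', K.map (Ideal.Quotient.mk (J.map (algebraMap A' B'))) = I →
      ∀ a, (IsScalarTower.toAlgHom A' B' ((B' ⧸ J.map (algebraMap A' B')) ⧸ I)) a = 0 →
      ∃ y ∈ K, ∃ v : B' ⊗[A'] ↥J, a = y + Groth.Agent.Lib.Helper1.FlatLift.mu J B' v := by
    intro K hK a ha
    rw [hπ, Ideal.Quotient.eq_zero_iff_mem, ← hK] at ha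
    obtain ⟨y, hy, hya⟩ := (Ideal.mem_map_iff_of_surjective _ Ideal.Quotient.mk_surjective).1 ha
    have hd : a - y ∈ J.map (algebraMap A' B') := Ideal.Quotient.eq.mp hya.symm
    obtain ⟨v, hv⟩ := Groth.Agent.Lib.Helper1.FlatLift.exists_mu_eq J B' _ hd
    exact ⟨y, hy, v, by rw [hv]; ring⟩
  -- the difference property
  let Diff : Ideal B' → Prop := fun K =>
    ∀ (x : (B' ⧸ J.map (algebraMap A' B'))) (hx : x ∈ I) (x' x'' : B'), x' ∈ I' → x'' ∈ K →
      Ideal.Quotient.mk (J.map (algebraMap A' B')) x' = x → Ideal.Quotient.mk (J.map (algebraMap A' B')) x'' = x →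
      ∀ z : B' ⊗[A'] ↥J, TensorProduct.rid A' B' (LinearMap.lTensor B' (Submodule.subtype J) z) = x'' - x' →
        LinearMap.rTensor ↥J (IsScalarTower.toAlgHom A' B' ((B' ⧸ J.map (algebraMap A' B')) ⧸ I)).toLinearMap z = φ ⟨x, hx⟩
  -- comparison of two solutions
  have key : ∀ K₁ K₂ : Ideal B', K₁.map (Ideal.Quotient.mk (J.map (algebraMap A' B'))) = I →
      K₂.map (Ideal.Quotient.mk (J.map (algebraMap A' B'))) = I → Diff K₁ → Diff K₂ → K₁ ≤ K₂ := by
    intro K₁ K₂ h1 h2 d1 d2 y hy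
    have hyI : Ideal.Quotient.mk (J.map (algebraMap A' B')) y ∈ I := by
      rw [← h1]; exact Ideal.mem_map_of_mem _ hy
    have hyI' : Ideal.Quotient.mk (J.map (algebraMap A' B')) y ∈
        I'.map (Ideal.Quotient.mk (J.map (algebraMap A' B'))) := by rw [hI']; exact hyI
    have hyI2 : Ideal.Quotient.mk (J.map (algebraMap A' B')) y ∈
        K₂.map (Ideal.Quotient.mk (J.map (algebraMap A' B'))) := by rw [h2]; exact hyI
    obtain ⟨x', hx', ex'⟩ := (Ideal.mem_map_iff_of_surjective _ Ideal.Quotient.mk_surjective).1 hyI'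
    obtain ⟨y₂, hy₂, ey₂⟩ := (Ideal.mem_map_iff_of_surjective _ Ideal.Quotient.mk_surjective).1 hyI2
    obtain ⟨z₁, hz₁⟩ := Groth.Agent.Lib.Helper1.FlatLift.exists_mu_eq J B' (y - x')
      (Ideal.Quotient.eq.mp ex'.symm)
    obtain ⟨z₂, hz₂⟩ := Groth.Agent.Lib.Helper1.FlatLift.exists_mu_eq J B' (y₂ - x')
      (Ideal.Quotient.eq.mp (ey₂.trans ex'.symm))
    have e1 := d1 _ hyI x' y hx' hy ex' rfl z₁ hz₁
    have e2 := d2 _ hyI x' y₂ hx' hy₂ ex' ey₂ z₂ hz₂
    have e3 : LinearMap.rTensor ↥J (IsScalarTower.toAlgHom A' B' ((B' ⧸ J.map (algebraMap A' B')) ⧸ I)).toLinearMap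
        (z₁ - z₂) = 0 := by rw [map_sub, e1, e2, sub_self]
    have e4 := Groth.Agent.Lib.Helper1.FlatLift.eq_zero_of_rTensor_eq_zero J
      (IsScalarTower.toAlgHom A' B' ((B' ⧸ J.map (algebraMap A' B')) ⧸ I)) hπsurj
      ((Ideal.Quotient.mkₐ A' K₂).toLinearMap ∘ₗ Groth.Agent.Lib.Helper1.FlatLift.mu J B')
      (by
        intro a ha j
        obtain ⟨y', hy', v, rfl⟩ := decomp K₂ h2 a ha
        change Ideal.Quotient.mk K₂ (Groth.Agent.Lib.Helper1.FlatLift.mu J B'
          ((y' + Groth.Agent.Lib.Helper1.FlatLift.mu J B' v) ⊗ₜ j)) = 0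
        rw [Groth.Agent.Lib.Helper1.FlatLift.mu_tmul, smul_add, ← map_smul,
          Groth.Agent.Lib.Helper1.FlatLift.smul_tensor_eq_zero J hJ2, map_zero, add_zero,
          Ideal.Quotient.eq_zero_iff_mem, Algebra.smul_def]
        exact K₂.mul_mem_left _ hy')
      (z₁ - z₂) e3
    have e5 : Groth.Agent.Lib.Helper1.FlatLift.mu J B' (z₁ - z₂) ∈ K₂ := Ideal.Quotient.eq_zero_iff_mem.1 e4
    rw [map_sub, hz₁, hz₂] at e5
    have : y = (y - x' - (y₂ - x')) + y₂ := by ring
    rw [this]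
    exact K₂.add_mem e5 hy₂
  -- the ideal
  let K : Ideal B' :=
    { carrier := {y | ∃ (x' : B') (hx' : x' ∈ I') (z : B' ⊗[A'] ↥J),
        Groth.Agent.Lib.Helper1.FlatLift.mu J B' z = y - x' ∧
        LinearMap.rTensor ↥J (IsScalarTower.toAlgHom A' B' ((B' ⧸ J.map (algebraMap A' B')) ⧸ I)).toLinearMap z =
          φ ⟨Ideal.Quotient.mk (J.map (algebraMap A' B')) x', memI x' hx'⟩}
      add_mem' := by
        rintro y₁ y₂ ⟨x₁, hx₁, z₁, hz₁, hφ₁⟩ ⟨x₂, hx₂, z₂, hz₂, hφ₂⟩
        refine ⟨x₁ + x₂, I'.add_mem hx₁ hx₂, z₁ + z₂, ?_, ?_⟩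
        · rw [map_add, hz₁, hz₂]; ring
        · rw [map_add, hφ₁, hφ₂, ← map_add]
          congr 1
      zero_mem' := by
        refine ⟨0, I'.zero_mem, 0, ?_, ?_⟩
        · rw [map_zero, sub_zero]
        · rw [map_zero]
          have : (⟨Ideal.Quotient.mk (J.map (algebraMap A' B')) 0, memI 0 I'.zero_mem⟩ : ↥I) = 0 :=
            Subtype.ext (map_zero _)
          rw [this, map_zero]
      smul_mem' := by
        rintro a y ⟨x₁, hx₁, z₁, hz₁, hφ₁⟩
        refine ⟨a * x₁, I'.mul_mem_left _ hx₁, a • z₁, ?_, ?_⟩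
        · rw [Groth.Agent.Lib.Helper1.FlatLift.mu_smul, hz₁, smul_eq_mul]; ring
        · rw [Groth.Agent.Lib.Helper1.FlatLift.rTensor_smul, hφ₁, ← map_smul]
          congr 1 }
  have hKmem : ∀ y, y ∈ K ↔ ∃ (x' : B') (hx' : x' ∈ I') (z : B' ⊗[A'] ↥J),
        Groth.Agent.Lib.Helper1.FlatLift.mu J B' z = y - x' ∧
        LinearMap.rTensor ↥J (IsScalarTower.toAlgHom A' B' ((B' ⧸ J.map (algebraMap A' B')) ⧸ I)).toLinearMap z =
          φ ⟨Ideal.Quotient.mk (J.map (algebraMap A' B')) x', memI x' hx'⟩ := fun y => Iff.rfl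
  have hKmap : K.map (Ideal.Quotient.mk (J.map (algebraMap A' B'))) = I := by
    apply le_antisymm
    · rw [Ideal.map_le_iff_le_comap]
      intro y hy
      obtain ⟨x', hx', z, hz, -⟩ := (hKmem y).1 hy
      rw [Ideal.mem_comap]
      have : y = x' + Groth.Agent.Lib.Helper1.FlatLift.mu J B' z := by rw [hz]; ring
      rw [this, map_add, hmk_mu, add_zero]
      exact memI x' hx'
    · intro x hx
      have hx1 : x ∈ I'.map (Ideal.Quotient.mk (J.map (algebraMap A' B'))) := by rw [hI']; exact hx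
      obtain ⟨x', hx', rfl⟩ := (Ideal.mem_map_iff_of_surjective _ Ideal.Quotient.mk_surjective).1 hx1
      obtain ⟨z, hz⟩ := LinearMap.rTensor_surjective ↥J
        (g := (IsScalarTower.toAlgHom A' B' ((B' ⧸ J.map (algebraMap A' B')) ⧸ I)).toLinearMap) hπsurj
        (φ ⟨Ideal.Quotient.mk (J.map (algebraMap A' B')) x', hx⟩)
      have hy : x' + Groth.Agent.Lib.Helper1.FlatLift.mu J B' z ∈ K :=
        (hKmem _).2 ⟨x', hx', z, by ring, hz⟩
      have := Ideal.mem_map_of_mem (Ideal.Quotient.mk (J.map (algebraMap A' B'))) hy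
      rwa [map_add, hmk_mu, add_zero] at this
  have hKdiff : Diff K := by
    intro x hx x' x'' hx' hx'' ex' ex'' z hz
    obtain ⟨x₀, hx₀, z₀, hz₀, hφ₀⟩ := (hKmem x'').1 hx''
    have hx₀x : Ideal.Quotient.mk (J.map (algebraMap A' B')) x₀ = x := by
      have : x'' = x₀ + Groth.Agent.Lib.Helper1.FlatLift.mu J B' z₀ := by rw [hz₀]; ring
      rw [← ex'', this, map_add, hmk_mu, add_zero]
    have e1 := Groth.Agent.Lib.Helper1.FlatLift.rTensor_eq_zero_of_mu_mem J
      (IsScalarTower.toAlgHom A' B' ((B' ⧸ J.map (algebraMap A' B')) ⧸ I)) I' hπ' (z - z₀)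
      (by
        rw [map_sub, hz₀]
        change TensorProduct.rid A' B' (LinearMap.lTensor B' (Submodule.subtype J) z) - _ ∈ I'
        rw [hz]
        have : x'' - x' - (x'' - x₀) = x₀ - x' := by ring
        rw [this]
        exact I'.sub_mem hx₀ hx')
    rw [map_sub, sub_eq_zero] at e1
    rw [e1, hφ₀]
    congr 1
    exact Subtype.ext hx₀x
  have hKb : ∀ z : B' ⊗[A'] ↥J, Groth.Agent.Lib.Helper1.FlatLift.mu J B' z ∈ K →
      (Ideal.Quotient.mkₐ A' K).toLinearMap.rTensor ↥J z = 0 := by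
    intro z hz
    obtain ⟨x₀, hx₀, z₀, hz₀, hφ₀⟩ := (hKmem _).1 hz
    have hx₀0 : Ideal.Quotient.mk (J.map (algebraMap A' B')) x₀ = 0 := by
      have : x₀ = Groth.Agent.Lib.Helper1.FlatLift.mu J B' z - Groth.Agent.Lib.Helper1.FlatLift.mu J B' z₀ := by
        rw [hz₀]; ring
      rw [this, map_sub, hmk_mu, hmk_mu, sub_zero]
    have hφ0 : LinearMap.rTensor ↥J (IsScalarTower.toAlgHom A' B' ((B' ⧸ J.map (algebraMap A' B')) ⧸ I)).toLinearMap
        z₀ = 0 := by
      rw [hφ₀]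
      have : (⟨Ideal.Quotient.mk (J.map (algebraMap A' B')) x₀, memI x₀ hx₀⟩ : ↥I) = 0 := Subtype.ext hx₀0
      rw [this, map_zero]
    have e1 := Groth.Agent.Lib.Helper1.FlatLift.rTensor_eq_zero_of_mu_mem J
      (IsScalarTower.toAlgHom A' B' ((B' ⧸ J.map (algebraMap A' B')) ⧸ I)) I' hπ' (z - z₀)
      (by
        rw [map_sub, hz₀]
        have : Groth.Agent.Lib.Helper1.FlatLift.mu J B' z - (Groth.Agent.Lib.Helper1.FlatLift.mu J B' z - x₀) = x₀ := by
          ring
        rw [this]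
        exact hx₀)
    rw [map_sub, hφ0, sub_zero] at e1
    refine Groth.Agent.Lib.Helper1.FlatLift.eq_zero_of_rTensor_eq_zero J
      (IsScalarTower.toAlgHom A' B' ((B' ⧸ J.map (algebraMap A' B')) ⧸ I)) hπsurj
      ((Ideal.Quotient.mkₐ A' K).toLinearMap.rTensor ↥J) ?_ z e1
    intro a ha j
    obtain ⟨y', hy', v, rfl⟩ := decomp K hKmap a ha
    rw [LinearMap.rTensor_tmul]
    change Ideal.Quotient.mk K (y' + Groth.Agent.Lib.Helper1.FlatLift.mu J B' v) ⊗ₜ[A'] j = 0
    rw [map_add, Ideal.Quotient.eq_zero_iff_mem.2 hy', zero_add]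
    have : Ideal.Quotient.mk K (Groth.Agent.Lib.Helper1.FlatLift.mu J B' v) =
        Groth.Agent.Lib.Helper1.FlatLift.mu J (B' ⧸ K) ((Ideal.Quotient.mkₐ A' K).toLinearMap.rTensor ↥J v) := by
      rw [Groth.Agent.Lib.Helper1.FlatLift.mu_natural]
      rfl
    rw [this, Groth.Agent.Lib.Helper1.FlatLift.mu_tmul_eq_zero J hJ2]
  have hKflat : Module.Flat A' (B' ⧸ K) := by
    have := Groth.Agent.Lib.Helper1.FlatLift.flat_baseChange_quotient J I K hKmap
    exact Groth.Agent.Lib.Helper1.FlatLift.flat_quotient_of_sq_zero J hJ2 K hKb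
  refine ⟨K, ⟨hKflat, hKmap, hKdiff⟩, ?_⟩
  rintro K₂ ⟨-, h2, d2⟩
  exact le_antisymm (key K₂ K h2 hKmap d2 hKdiff) (key K K₂ hKmap h2 hKdiff d2)

end Groth.Agent.S17368
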