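import Groth.Statements.S1737
import Mathlib

set_option autoImplicit false
universe u
open LocCoh

namespace Groth.Agent.S1737

/-- Let A be a Noetherian ring, T ⊆ Spec A stable under specialization and M a finite A-module. There
are a finite A-module M' and a surjection M → M' which is bijective after localizing at every prime
outside T and such that M'_p has depth ≥ 1 over A_p for every p in T. (The source states this for
coherent modules on a Noetherian scheme, with uniqueness.) -/
theorem result (A : Type u) [CommRing A] [IsNoetherianRing A] (T : Set (PrimeSpectrum A)) (hT : StableUnderSpecialization T) (M : Type u) [AddCommGroup M] [Module A M] [Module.Finite A M] : ∃ (M' : Type u) (_ : AddCommGroup M') (_ : Module A M') (_ : Module.Finite A M') (f : M →ₗ[A] M'), Function.Surjective f ∧ (∀ p : PrimeSpectrum A, p ∉ T → Function.Bijective (LocalizedModule.map p.asIdeal.primeCompl f)) ∧ ∀ p : PrimeSpectrum A, p ∈ T → 1 ≤ LocCoh.depth (Localization.AtPrime p.asIdeal) (LocalizedModule p.asIdeal.primeCompl M') := by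
  classical
  -- the submodule of sections supported in T
  let Γ : Submodule A M :=
    { carrier := {x | ∀ q : PrimeSpectrum A, q ∉ T → ∃ t : A, t ∉ q.asIdeal ∧ t • x = 0}
      add_mem' := by
        intro a b ha hb q hq
        obtain ⟨t₁, ht₁, h₁⟩ := ha q hq
        obtain ⟨t₂, ht₂, h₂⟩ := hb q hq
        refine ⟨t₁ * t₂, fun h => ?_, ?_⟩
        · rcases q.2.mem_or_mem h with h | h
          · exact ht₁ h
          · exact ht₂ h
        · rw [smul_add, mul_smul, smul_comm, h₁, mul_smul, h₂, smul_zero, smul_zero, add_zero]
      zero_mem' := fun q _ => ⟨1, fun h => q.2.ne_top ((Ideal.eq_top_iff_one _).mpr h), by simp⟩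
      smul_mem' := by
        intro c x hx q hq
        obtain ⟨t, ht, h⟩ := hx q hq
        exact ⟨t, ht, by rw [smul_comm, h, smul_zero]⟩ }
  have hΓ : ∀ x, x ∈ Γ ↔ ∀ q : PrimeSpectrum A, q ∉ T → ∃ t : A, t ∉ q.asIdeal ∧ t • x = 0 :=
    fun x => Iff.rfl
  -- Γ of the quotient is zero
  have hΓ' : ∀ x : M, (∀ q : PrimeSpectrum A, q ∉ T → ∃ t : A, t ∉ q.asIdeal ∧
      t • (Γ.mkQ x) = 0) → x ∈ Γ := by
    intro x hx q hq
    obtain ⟨t, ht, h⟩ := hx q hq
    rw [← map_smul, Submodule.mkQ_apply, Submodule.Quotient.mk_eq_zero] at h
    obtain ⟨t', ht', h'⟩ := h q hq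
    refine ⟨t' * t, fun h => ?_, by rw [mul_smul, h']⟩
    rcases q.2.mem_or_mem h with h | h
    · exact ht' h
    · exact ht h
  refine ⟨M ⧸ Γ, inferInstance, inferInstance, inferInstance, Γ.mkQ, Γ.mkQ_surjective, ?_, ?_⟩
  · -- bijective outside T
    intro p hp
    refine ⟨?_, LocalizedModule.map_surjective _ _ Γ.mkQ_surjective⟩
    rw [← LinearMap.ker_eq_bot, LinearMap.ker_eq_bot']
    intro y hy
    induction y using LocalizedModule.induction_on with
    | h x s =>
      rw [LocalizedModule.map_mk, ← LocalizedModule.zero_mk (1 : p.asIdeal.primeCompl),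
        LocalizedModule.mk_eq] at hy
      obtain ⟨u, hu⟩ := hy
      simp only [one_smul, smul_zero] at hu
      have hu' : (u : A) • (Γ.mkQ x) = 0 := hu
      rw [← map_smul, Submodule.mkQ_apply, Submodule.Quotient.mk_eq_zero] at hu'
      obtain ⟨t, ht, h⟩ := hu' p hp
      rw [← LocalizedModule.zero_mk (1 : p.asIdeal.primeCompl), LocalizedModule.mk_eq]
      refine ⟨⟨t * u, p.asIdeal.primeCompl.mul_mem ht u.2⟩, ?_⟩
      simp only [one_smul, smul_zero]
      change (t * (u : A)) • x = 0
      rw [mul_smul, h]
  · -- depth at points of T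
    intro p hp
    rw [LocCoh.depth, LocCoh.idealDepth]
    split_ifs with htop
    · exact le_top
    · set R' := Localization.AtPrime p.asIdeal
      set N' := LocalizedModule p.asIdeal.primeCompl (M ⧸ Γ)
      -- the maximal ideal is not an associated prime
      have hnot : IsLocalRing.maximalIdeal R' ∉ associatedPrimes R' N' := by
        intro hmem
        rw [← Module.associatedPrimes.preimage_comap_associatedPrimes_eq_associatedPrimes_of_isLocalizedModule
          p.asIdeal.primeCompl R' (LocalizedModule.mkLinearMap p.asIdeal.primeCompl (M ⧸ Γ))] at hmem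
        have hmem' : p.asIdeal ∈ associatedPrimes A (M ⧸ Γ) := by
          have h0 : Ideal.comap (algebraMap A R') (IsLocalRing.maximalIdeal R') = p.asIdeal :=
            Localization.AtPrime.under_maximalIdeal
          rw [← h0]
          exact hmem
        rw [AssociatedPrimes.mem_iff, isAssociatedPrime_iff] at hmem'
        obtain ⟨_, xb, hxb⟩ := hmem'
        obtain ⟨x, rfl⟩ := Γ.mkQ_surjective xb
        have hxΓ : x ∈ Γ := by
          apply hΓ'
          intro q hq
          have hpq : ¬ p.asIdeal ≤ q.asIdeal := by
            intro hle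
            apply hq
            exact hT ((PrimeSpectrum.le_iff_specializes p q).mp hle) hp
          obtain ⟨t, htp, htq⟩ := Set.not_subset.mp hpq
          refine ⟨t, htq, ?_⟩
          rw [hxb] at htp
          have htp' : t ∈ (⊥ : Submodule A (M ⧸ Γ)).colon {Γ.mkQ x} := htp
          rw [Submodule.mem_colon_singleton] at htp'
          exact (Submodule.mem_bot _).mp htp'
        have : Γ.mkQ x = 0 := by
          rw [Submodule.mkQ_apply, Submodule.Quotient.mk_eq_zero]; exact hxΓ
        apply p.2.ne_top
        rw [hxb, this, Ideal.eq_top_iff_one, Submodule.mem_colon_singleton]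
        simp
      -- prime avoidance
      have hfin := associatedPrimes.finite R' N'
      have hnsub : ¬ ((IsLocalRing.maximalIdeal R' : Set R') ⊆
          ⋃ q ∈ associatedPrimes R' N', (q : Set R')) := by
        intro hsub
        have h1 : ((IsLocalRing.maximalIdeal R' : Set R') ⊆
            ⋃ q ∈ (↑hfin.toFinset : Set (Ideal R')), ((id q : Ideal R') : Set R')) := by
          simpa using hsub
        rw [Ideal.subset_union_prime (⊥ : Ideal R') ⊥ (fun q hq _ _ => by
          have : q ∈ associatedPrimes R' N' := hfin.mem_toFinset.mp hq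
          exact this.isPrime)] at h1
        obtain ⟨q, hq, hle⟩ := h1
        have hq' : q ∈ associatedPrimes R' N' := hfin.mem_toFinset.mp hq
        have hqp : q.IsPrime := hq'.isPrime
        have : q = IsLocalRing.maximalIdeal R' :=
          ((IsLocalRing.maximalIdeal.isMaximal R').eq_of_le hqp.ne_top hle).symm
        exact hnot (this ▸ hq')
      obtain ⟨r, hr𝔪, hrnot⟩ := Set.not_subset.mp hnsub
      rw [biUnion_associatedPrimes_eq_zero_divisors] at hrnot
      have hreg : IsSMulRegular N' r := by
        intro a b hab
        by_contra hne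
        apply hrnot
        refine ⟨a - b, sub_ne_zero.mpr hne, ?_⟩
        rw [smul_sub]
        exact sub_eq_zero.mpr hab
      refine le_iSup₂_of_le [r] ⟨?_, ?_⟩ ?_
      · exact (RingTheory.Sequence.isWeaklyRegular_singleton_iff N' r).mpr hreg
      · intro r' hr'
        rw [List.mem_singleton] at hr'
        rw [hr']
        exact hr𝔪
      · simp

end Groth.Agent.S1737
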