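import Groth.Statements.S17386
import Groth.Agent.Lib.Helper25.BlowUpStrict

set_option autoImplicit false
universe u
open BlowUp

namespace Groth.Agent.S17386

open AlgebraicGeometry CategoryTheory Limits in
/-- Let X be any scheme, J_1, …, J_n quasi-coherent ideals on X with closed subschemes Y_i, and b : X' →
X a blowing up of X in the ideal J_1 + ⋯ + J_n of the intersection of the Y_i. For each i let b_i' :
Y_i' → Y_i be a blowing up of Y_i in the inverse image of J_1 + ⋯ + J_n and k_i : Y_i' → X' the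
morphism with k_i ≫ b = b_i' ≫ (Y_i → X), so that the image of k_i is the strict transform of Y_i.
Then the strict transforms have empty common intersection: no point of X' lies in the image of every
k_i. -/
theorem result
    {X X' : Scheme.{u}} {n : ℕ} (𝓙 : Fin n → X.IdealSheafData) (b : X' ⟶ X)
    (hb : BlowUp.IsBlowUp b (⨆ i, 𝓙 i))
    (Y' : Fin n → Scheme.{u}) (b' : ∀ i, Y' i ⟶ (𝓙 i).subscheme)
    (hb' : ∀ i, BlowUp.IsBlowUp (b' i) ((⨆ j, 𝓙 j).comap (𝓙 i).subschemeι))
    (k : ∀ i, Y' i ⟶ X') (hk : ∀ i, k i ≫ b = b' i ≫ (𝓙 i).subschemeι) :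
    (⋂ i, Set.range (fun y => k i y)) = (∅ : Set X') := by
  rw [Set.eq_empty_iff_forall_notMem]
  intro x' hx'
  rw [Set.mem_iInter] at hx'
  obtain ⟨_, ⟨V, hV, rfl⟩, hxV, -⟩ :=
    X.isBasis_affineOpens.exists_subset_of_mem_open (Set.mem_univ (b x')) isOpen_univ
  obtain ⟨i, s, V', hV', hs, hx'V', -, heq⟩ :=
    Groth.Agent.Lib.Helper25.BlowUpUP.exists_generator_of_iSup 𝓙 b hb.1 x' ⟨V, hV⟩ hxV
  obtain ⟨y, hy⟩ := hx' i
  have hy' : k i y = x' := hy
  have hE : BlowUp.IsEffCartierIdeal (((⨆ j, 𝓙 j).comap b).comap (k i)) := by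
    rw [← Scheme.IdealSheafData.comap_comp, hk i, Scheme.IdealSheafData.comap_comp]
    exact (hb' i).1
  exact Groth.Agent.Lib.Helper25.BlowUpUP.ideal_ne_span_of_mem_range_strictTransform (𝓙 i)
    (⨆ j, 𝓙 j) b (b' i) (k i) (hk i) hE ⟨V, hV⟩ s hs V' hV' y (by rw [hy']; exact hx'V') heq

end Groth.Agent.S17386
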