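import Groth.Statements.S17391
import Groth.Agent.Lib.Helper25.BlowUpClosure

set_option autoImplicit false
universe u
open BlowUp

namespace Groth.Agent.S17391

open Groth.Agent.Lib.Helper25.BlowUpUP in
open AlgebraicGeometry CategoryTheory Limits in
/-- Let X and Z be schemes, p : Z → X a morphism, U ⊆ V ⊆ X open subschemes, and f : Y → Z a
quasi-compact immersion whose composite with p lands in U. Let I₁ be a quasi-coherent ideal on X
whose support contains V ∖ U and is disjoint from U, and I₂ a quasi-coherent ideal whose support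
lies in supp(I₁) ∖ V. Assume that the closed subscheme p⁻¹(V(I₁²)) ∩ Ȳ of Z, where Ȳ is the
scheme-theoretic image of f, is contained in p⁻¹(V(I₂)) as a closed subscheme: the inverse image
ideal of I₂ on Z lies in the sum of the inverse image ideal of I₁² and the kernel ideal of f. Then
for every blowing up q : X' → X of X in I₁ + I₂, writing Z' = Z ×_X X' → X' and Y' = Y ×_Z Z' → Z'
for the base changes, the closure in Z' of the image of Y' is disjoint from the preimage in Z' of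
the closure in X' of q⁻¹(V ∖ U). (The blowing up is an isomorphism over V, since the support of I₁ +
I₂ is that of I₂ and lies in X ∖ V; the point is that the closure of q⁻¹(V ∖ U) in X', which may
reach over X ∖ V, still misses the closure of Y'.) -/
theorem result
    {X Y Z X' : Scheme.{u}} (p : Z ⟶ X) (U V : X.Opens) (hUV : U ≤ V)
    (f : Y ⟶ Z) [IsImmersion f] [QuasiCompact f] (hY : Set.range (fun y => p (f y)) ⊆ (U : Set X))
    (𝓘₁ 𝓘₂ : X.IdealSheafData)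
    (h₁ : (V : Set X) \ (U : Set X) ⊆ (𝓘₁.support : Set X)) (h₁' : Disjoint (𝓘₁.support : Set X) (U : Set X))
    (h₂ : (𝓘₂.support : Set X) ⊆ (𝓘₁.support : Set X) \ (V : Set X))
    (hincl : 𝓘₂.comap p ≤ (𝓘₁ * 𝓘₁).comap p ⊔ f.ker)
    (q : X' ⟶ X) (hq : BlowUp.IsBlowUp q (𝓘₁ ⊔ 𝓘₂)) :
    Disjoint (closure (Set.range (fun y => (pullback.snd f (pullback.fst p q)) y)))
      ((fun z => (pullback.snd p q) z) ⁻¹'
        closure ((fun x' => q x') ⁻¹' ((V : Set X) \ (U : Set X)))) := by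
  rw [Set.disjoint_left]
  intro z' hz2 hz1
  set p' := pullback.snd p q with hp'
  set π' := pullback.fst p q with hπ'
  have hcond : π' ≫ p = p' ≫ q := pullback.condition
  set 𝓛 := (𝓘₁ ⊔ 𝓘₂).comap q with h𝓛
  set 𝓕₁ := 𝓘₁.comap q with h𝓕₁
  set 𝓕₂ := 𝓘₂.comap q with h𝓕₂
  set 𝓚 := f.ker.comap π' with h𝓚
  have h𝓛sup : 𝓛 = 𝓕₁ ⊔ 𝓕₂ := Scheme.IdealSheafData.comap_sup _ _ _
  have hle : 𝓕₁ ≤ 𝓛 := h𝓛sup ▸ le_sup_left
  have hkey : 𝓕₂.comap p' ≤ (𝓕₁.comap p') * (𝓕₁.comap p') ⊔ 𝓚 := by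
    have e1 : 𝓕₂.comap p' = (𝓘₂.comap p).comap π' := by
      rw [h𝓕₂, ← Scheme.IdealSheafData.comap_comp, ← hcond, Scheme.IdealSheafData.comap_comp]
    have e2 : (𝓕₁.comap p') * (𝓕₁.comap p') = ((𝓘₁ * 𝓘₁).comap p).comap π' := by
      rw [h𝓕₁, ← Groth.Agent.Lib.Helper1.comap_mul, ← Groth.Agent.Lib.Helper1.comap_mul,
        ← Scheme.IdealSheafData.comap_comp, ← hcond, Scheme.IdealSheafData.comap_comp]
    rw [e1, e2, h𝓚, ← Scheme.IdealSheafData.comap_sup]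
    exact Scheme.IdealSheafData.comap_mono π' hincl
  -- supports
  have hsupp𝓛 : ∀ y : X', y ∈ 𝓛.support → q y ∈ 𝓘₁.support ∧ q y ∈ 𝓘₂.support := by
    intro y hy
    rw [h𝓛, Scheme.IdealSheafData.support_comap, Scheme.IdealSheafData.support_sup] at hy
    exact hy
  have hsupp𝓕₁ : ∀ y : X', y ∈ 𝓕₁.support ↔ q y ∈ 𝓘₁.support := by
    intro y
    rw [h𝓕₁, Scheme.IdealSheafData.support_comap]; rfl
  have hsupp𝓚 : ∀ w, w ∈ 𝓚.support ↔ π' w ∈ f.ker.support := by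
    intro w
    rw [h𝓚, Scheme.IdealSheafData.support_comap]; rfl
  -- local generator at x' = p' z'
  obtain ⟨W', hx'W', t, -, hI⟩ := hq.1 (p' z')
  obtain ⟨W, hzW, hWW', -⟩ := exists_affineOpens_le_preimage p' z' W'.1 hx'W' ⊤ trivial
  -- (Q)
  have hQ : ∀ j : Γ(X', W'.1), t * j ∈ 𝓕₁.ideal W' →
      j ∈ primeAt W' (p' z') (show p' z' ∈ W'.1 from hWW' hzW) := by
    intro j hj
    refine mem_primeAt_of_mem_closure W' (p' z') _ 𝓛 𝓕₁ t hI
      ((fun x' => q x') ⁻¹' ((V : Set X) \ (U : Set X))) ?_ ?_ hz1 j hj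
    · intro y hy
      exact (hsupp𝓕₁ y).2 (h₁ hy)
    · rw [Set.disjoint_left]
      intro y hy hy2
      exact (h₂ (hsupp𝓛 y hy2).2).2 hy.1
  -- (B) t (1 - j₁) ∈ 𝓕₂(W')
  have ht𝓛 : t ∈ 𝓛.ideal W' := hI ▸ Ideal.mem_span_singleton_self t
  rw [h𝓛sup, Scheme.IdealSheafData.ideal_sup, Pi.sup_apply] at ht𝓛
  obtain ⟨s₁, hs₁, s₂, hs₂, hsum⟩ := Submodule.mem_sup.1 ht𝓛
  have hs₁' : s₁ ∈ Ideal.span {t} := by
    rw [← hI]; exact (Scheme.IdealSheafData.le_def.1 hle W') hs₁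
  obtain ⟨j₁, rfl⟩ := Ideal.mem_span_singleton'.1 hs₁'
  have hj₁ : j₁ ∈ primeAt W' (p' z') (show p' z' ∈ W'.1 from hWW' hzW) :=
    hQ j₁ (by rw [mul_comm]; exact hs₁)
  have hu : (1 - j₁) ∉ primeAt W' (p' z') (show p' z' ∈ W'.1 from hWW' hzW) := by
    intro hcon
    have := Ideal.add_mem _ hcon hj₁
    rw [sub_add_cancel] at this
    exact (inferInstance : (primeAt W' (p' z') (show p' z' ∈ W'.1 from hWW' hzW)).IsPrime).ne_top
      ((Ideal.eq_top_iff_one _).2 this)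
  have htu : t * (1 - j₁) = s₂ := by
    linear_combination (-1 : ↑Γ(X', W'.1)) * hsum
  obtain ⟨M, hM, hMle⟩ := exists_ideal_comap_le_span_mul p' W' W hWW' z' hzW 𝓛 𝓕₁ hle t hI hQ
  set θ := (p'.appLE W'.1 W.1 hWW').hom with hθ
  have ht1 : θ t * θ (1 - j₁) ∈ Ideal.span {θ t} * M ⊔ 𝓚.ideal W := by
    have h1 : θ t * θ (1 - j₁) ∈ (𝓕₂.comap p').ideal W := by
      rw [Groth.Agent.Lib.Helper1.ideal_comap 𝓕₂ p' W W' hWW', ← map_mul, htu]
      exact Ideal.mem_map_of_mem _ hs₂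
    have h2 := (Scheme.IdealSheafData.le_def.1 hkey W) h1
    rw [Scheme.IdealSheafData.ideal_sup, Pi.sup_apply, Scheme.IdealSheafData.ideal_mul,
      Pi.mul_apply] at h2
    have h3 : (𝓕₁.comap p').ideal W * (𝓕₁.comap p').ideal W ≤ Ideal.span {θ t} * M :=
      (Ideal.mul_mono hMle hMle).trans Ideal.mul_le_right
    exact (sup_le_sup_right h3 _) h2
  have hθu : θ (1 - j₁) ∉ primeAt W z' hzW := by
    rw [hθ, appLE_mem_primeAt_iff p' W' W hWW' z' hzW]
    exact hu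
  obtain ⟨N, hzN, -, hN⟩ := exists_nhd_forall_mem_support_mem_primeAt W z' hzW (θ t) _ hθu M hM 𝓚 ht1
  obtain ⟨w, ⟨hwN, hwW⟩, ⟨y', rfl⟩⟩ := mem_closure_iff.1 hz2 _ (N ⊓ W.1).2 ⟨hzN, hzW⟩
  set w := (pullback.snd f π') y' with hw
  have hπw : π' w = f ((pullback.fst f π') y') := by
    have : (pullback.snd f π' ≫ π') y' = (pullback.fst f π' ≫ f) y' := by
      rw [pullback.condition]
    rw [Scheme.Hom.comp_apply, Scheme.Hom.comp_apply] at this
    exact this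
  have hwK : w ∈ 𝓚.support := by
    rw [hsupp𝓚, hπw]
    exact f.range_subset_ker_support ⟨_, rfl⟩
  have hw1 : θ t ∈ primeAt W w hwW := hN w hwW hwN hwK
  rw [hθ, appLE_mem_primeAt_iff p' W' W hWW' w hwW t,
    ← span_singleton_le_primeAt_iff W' (p' w) _ 𝓛 t hI] at hw1
  have hw2 : q (p' w) ∈ U := by
    have : (p' ≫ q) w = (π' ≫ p) w := by rw [hcond]
    rw [Scheme.Hom.comp_apply, Scheme.Hom.comp_apply] at this
    rw [this, hπw]
    exact hY ⟨_, rfl⟩
  exact Set.disjoint_left.1 h₁' (hsupp𝓛 _ hw1).1 hw2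


end Groth.Agent.S17391
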