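import Groth.Statements.S17409
import Mathlib

set_option autoImplicit false
universe u
open Prym5

namespace Groth.Agent.S17409

/-- Over a perfect field K of characteristic different from 2 and 3, let G₂, G₃, G₄ be polynomials in
two variables x, y and consider G₂ z² + 2 G₃ z + G₄ as a polynomial in the three variables x, y, z.
If it lies in the square of the ideal (x, y, z) — the surface it defines has a double point at the
origin — then the discriminant G₃² − G₂ G₄ lies in the square of the ideal (x, y) of K[x, y], so the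
plane curve G₃² − G₂ G₄ = 0 is singular at the origin. (This is the affine-local form used in the
published proof: the surface is a quartic with a node at the centre of projection placed at infinity
on the z-axis, and the curve is the branch sextic of that projection.) -/
theorem result (K : Type u) [Field K] [PerfectField K]
    (h2 : (2 : K) ≠ 0) (h3 : (3 : K) ≠ 0) (G₂ G₃ G₄ : MvPolynomial (Fin 2) K)
    (h : MvPolynomial.rename (Fin.castSucc : Fin 2 → Fin 3) G₂ * MvPolynomial.X (2 : Fin 3) ^ 2
        + 2 * MvPolynomial.rename (Fin.castSucc : Fin 2 → Fin 3) G₃ * MvPolynomial.X (2 : Fin 3)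
        + MvPolynomial.rename (Fin.castSucc : Fin 2 → Fin 3) G₄
        ∈ (Ideal.span (Set.range (MvPolynomial.X : Fin 3 → MvPolynomial (Fin 3) K))) ^ 2) :
    G₃ ^ 2 - G₂ * G₄ ∈ (Ideal.span (Set.range (MvPolynomial.X : Fin 2 → MvPolynomial (Fin 2) K))) ^ 2 := by
  classical
  set I3 := Ideal.span (Set.range (MvPolynomial.X : Fin 3 → MvPolynomial (Fin 3) K)) with hI3
  set I2 := Ideal.span (Set.range (MvPolynomial.X : Fin 2 → MvPolynomial (Fin 2) K)) with hI2
  set F := MvPolynomial.rename (Fin.castSucc : Fin 2 → Fin 3) G₂ * MvPolynomial.X (2 : Fin 3) ^ 2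
        + 2 * MvPolynomial.rename (Fin.castSucc : Fin 2 → Fin 3) G₃ * MvPolynomial.X (2 : Fin 3)
        + MvPolynomial.rename (Fin.castSucc : Fin 2 → Fin 3) G₄ with hF
  have h2last : (2 : Fin 3) = Fin.last 2 := rfl
  -- the substitution z ↦ 0
  let g : Fin 3 → MvPolynomial (Fin 2) K :=
    Fin.lastCases (motive := fun _ => MvPolynomial (Fin 2) K) 0 (fun i => MvPolynomial.X i)
  let ψ : MvPolynomial (Fin 3) K →ₐ[K] MvPolynomial (Fin 2) K := MvPolynomial.aeval g
  have hgc : g ∘ (Fin.castSucc : Fin 2 → Fin 3) = MvPolynomial.X := by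
    funext i
    simp [g]
  have hψren : ∀ G : MvPolynomial (Fin 2) K, ψ (MvPolynomial.rename Fin.castSucc G) = G := by
    intro G
    simp only [ψ, MvPolynomial.aeval_rename, hgc, MvPolynomial.aeval_X_left_apply]
  have hψz : ψ (MvPolynomial.X (2 : Fin 3)) = 0 := by
    simp only [ψ, MvPolynomial.aeval_X, h2last, g, Fin.lastCases_last]
  have hψF : ψ F = G₄ := by
    simp only [hF, map_add, map_mul, map_pow, hψren, hψz]
    simp
  have hψI : I3.map (ψ : MvPolynomial (Fin 3) K →+* MvPolynomial (Fin 2) K) ≤ I2 := by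
    rw [hI3, Ideal.map_span, Ideal.span_le]
    rintro _ ⟨_, ⟨i, rfl⟩, rfl⟩
    induction i using Fin.lastCases with
    | last =>
      simp only [ψ, g, RingHom.coe_coe, MvPolynomial.aeval_X]
      change Fin.lastCases (motive := fun _ => MvPolynomial (Fin 2) K) 0 _ (Fin.last 2) ∈ I2
      rw [Fin.lastCases_last]
      exact zero_mem _
    | cast i =>
      simp only [ψ, g, RingHom.coe_coe, MvPolynomial.aeval_X, Fin.lastCases_castSucc]
      exact Ideal.subset_span ⟨i, rfl⟩
  have hG4 : G₄ ∈ I2 ^ 2 := by
    rw [← hψF]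
    have := Ideal.mem_map_of_mem (ψ : MvPolynomial (Fin 3) K →+* MvPolynomial (Fin 2) K) h
    rw [Ideal.map_pow] at this
    exact Ideal.pow_right_mono hψI 2 this
  -- the substitution x, y ↦ 0, z ↦ X
  let g' : Fin 3 → Polynomial K :=
    Fin.lastCases (motive := fun _ => Polynomial K) Polynomial.X (fun _ => 0)
  let θ : MvPolynomial (Fin 3) K →ₐ[K] Polynomial K := MvPolynomial.aeval g'
  have hg'c : g' ∘ (Fin.castSucc : Fin 2 → Fin 3) = 0 := by
    funext i
    simp [g']
  have hθren : ∀ G : MvPolynomial (Fin 2) K, θ (MvPolynomial.rename Fin.castSucc G) =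
      Polynomial.C (MvPolynomial.constantCoeff G) := by
    intro G
    simp only [θ, MvPolynomial.aeval_rename, hg'c, MvPolynomial.aeval_zero]
    rfl
  have hθz : θ (MvPolynomial.X (2 : Fin 3)) = Polynomial.X := by
    simp only [θ, MvPolynomial.aeval_X, h2last, g', Fin.lastCases_last]
  have hθI : I3.map (θ : MvPolynomial (Fin 3) K →+* Polynomial K) ≤ Ideal.span {Polynomial.X} := by
    rw [hI3, Ideal.map_span, Ideal.span_le]
    rintro _ ⟨_, ⟨i, rfl⟩, rfl⟩
    induction i using Fin.lastCases with
    | last =>
      simp only [θ, g', RingHom.coe_coe, MvPolynomial.aeval_X]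
      change Fin.lastCases (motive := fun _ => Polynomial K) Polynomial.X _ (Fin.last 2) ∈ _
      rw [Fin.lastCases_last]
      exact Ideal.subset_span rfl
    | cast i => simp [θ, g']
  have hθF : Polynomial.X ^ 2 ∣ θ F := by
    have := Ideal.mem_map_of_mem (θ : MvPolynomial (Fin 3) K →+* Polynomial K) h
    rw [Ideal.map_pow] at this
    have := Ideal.pow_right_mono hθI 2 this
    rw [Ideal.span_singleton_pow, Ideal.mem_span_singleton] at this
    exact this
  have hb : MvPolynomial.constantCoeff G₃ = 0 := by
    have h1 := (Polynomial.X_pow_dvd_iff.1 hθF) 1 (by norm_num)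
    simp only [hF, map_add, map_mul, map_pow, hθren, hθz] at h1
    rw [map_ofNat] at h1
    simp [Polynomial.coeff_X, Polynomial.coeff_C, mul_assoc] at h1
    rcases h1 with h1 | h1
    · exact absurd h1 h2
    · exact h1
  have hG3 : G₃ ∈ I2 := by
    have := (MvPolynomial.mem_pow_idealOfVars_iff' 1 G₃).2 (by
      intro x hx
      have hx0 : x = 0 := by
        have : x.degree = 0 := by omega
        exact (Finsupp.degree_eq_zero_iff x).1 this
      subst hx0
      exact hb)
    rwa [pow_one] at this
  exact Ideal.sub_mem _ (Ideal.pow_mem_pow hG3 2) (Ideal.mul_mem_left _ _ hG4)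

end Groth.Agent.S17409
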