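import Groth.Statements.S1741
import Groth.Agent.Lib.Helper3.ExtTorMain

set_option autoImplicit false
universe u
open CategoryTheory
attribute [local instance] HasDerivedCategory.standard
open LocCoh

namespace Groth.Agent.S1741

open Groth.Agent.Lib.Helper3.ExtTorShift Groth.Agent.Lib.Helper3.ExtTorMain Abelian in
theorem extKills_iff (R : Type u) [CommRing R] (M M' : Type u) [AddCommGroup M] [Module R M]
    [AddCommGroup M'] [Module R M'] (α : M →ₗ[R] M') (n : ℕ) :
    ExtKills (ModuleCat.ofHom α) n ↔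
      ∀ (N : ModuleCat.{u} R)
        (φ : ShiftedHom ((DerivedCategory.singleFunctor (ModuleCat.{u} R) 0).obj (ModuleCat.of R M'))
          ((DerivedCategory.singleFunctor (ModuleCat.{u} R) 0).obj N) (n : ℤ)),
        (DerivedCategory.singleFunctor (ModuleCat.{u} R) 0).map (ModuleCat.ofHom α) ≫ φ = 0 := by
  have key : ∀ (N : ModuleCat.{u} R) (ψ : Ext.{u} (ModuleCat.of R M') N n),
      ((Ext.mk₀ (ModuleCat.ofHom α)).comp ψ (zero_add n)).hom =
        (DerivedCategory.singleFunctor (ModuleCat.{u} R) 0).map (ModuleCat.ofHom α) ≫ ψ.hom := by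
    intro N ψ
    rw [Ext.comp_hom, Ext.mk₀_hom, ShiftedHom.mk₀_comp]
  constructor
  · intro h N φ
    obtain ⟨ψ, rfl⟩ := Ext.homEquiv.surjective φ
    have h1 := h N ψ
    have h2 := key N ψ
    rw [h1, Ext.zero_hom] at h2
    exact h2.symm
  · intro h N ψ
    apply Ext.ext
    rw [key, Ext.zero_hom]
    exact h N ψ.hom

open Groth.Agent.Lib.Helper3.ExtTorShift Groth.Agent.Lib.Helper3.ExtTorMain Abelian in
theorem aux (R : Type u) [CommRing R] [IsNoetherianRing R] (M M' : Type u) [AddCommGroup M]
    [Module R M] [Module.Finite R M] [AddCommGroup M'] [Module R M'] (α : M →ₗ[R] M') (e : ℕ) :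
    (∀ (N : Type u) [AddCommGroup N] [Module R N]
      (φ : Dual.inD R M' ⟶ (Dual.inD R N)⟦((e : ℤ) + 1)⟧),
      (DerivedCategory.singleFunctor (ModuleCat.{u} R) 0).map (ModuleCat.ofHom α) ≫ φ = 0) ↔
    (∀ (N : Type u) [AddCommGroup N] [Module R N],
      ((CategoryTheory.Tor (ModuleCat.{u} R) (e + 1)).map (ModuleCat.ofHom α)).app
        (ModuleCat.of R N) = 0) := by
  have h1 := extKills_iff R M M' α (e + 1)
  have h2 := extKills_iff_torKills (R := R) e M M' α
  constructor
  · intro h N _ _
    refine (h2.1 (h1.2 ?_)) (ModuleCat.of R N)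
    intro N' φ
    exact h N' φ
  · intro h N _ _ φ
    have h3 : TorKills (ModuleCat.ofHom α) (e + 1) := fun N' => h N'
    exact (h1.1 (h2.2 h3)) (ModuleCat.of R N) φ

/-- Equivalence of (4) and (7) in the Noetherian case. Let R be a Noetherian ring, α : M → M' a map of
R-modules with M finite, and e ≥ 0. Then precomposition with α kills all classes in Ext^{e+1}(M', N)
(maps M' → N[e+1] in D(R)) for every module N if and only if the map Tor_{e+1}(M, N) → Tor_{e+1}(M',
N) induced by α is zero for every module N. -/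
theorem result (R : Type u) [CommRing R] [IsNoetherianRing R] (M M' : Type u) [AddCommGroup M] [Module R M] [Module.Finite R M] [AddCommGroup M'] [Module R M'] (α : M →ₗ[R] M') (e : ℕ) : (∀ (N : Type u) [AddCommGroup N] [Module R N] (φ : Dual.inD R M' ⟶ (Dual.inD R N)⟦((e : ℤ) + 1)⟧), (DerivedCategory.singleFunctor (ModuleCat.{u} R) 0).map (ModuleCat.ofHom α) ≫ φ = 0) ↔ (∀ (N : Type u) [AddCommGroup N] [Module R N], ((CategoryTheory.Tor (ModuleCat.{u} R) (e + 1)).map (ModuleCat.ofHom α)).app (ModuleCat.of R N) = 0) := by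
  exact aux R M M' α e

end Groth.Agent.S1741
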