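import Groth.Statements.S17411
import Groth.Agent.Lib.Helper21.Img1
-- import your own Groth.Agent.* helpers here

set_option autoImplicit false
universe u
open CategoryTheory AlgebraicGeometry
open Prym5

namespace Groth.Agent.S17411

/-- Let k be an algebraically closed field of characteristic zero and X, Y, Z schemes of finite type
over k, with Y and Z irreducible of the same dimension, η : Y → Z a dominant k-morphism and ρ : X →
Y a k-morphism. Then the composite ρ ≫ η is dominant exactly when ρ is dominant. (The published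
statement concerns the forgetful map from the moduli space of étale double covers of genus-five
curves to the moduli space of genus-five curves, both irreducible of dimension 12, and a morphism
into the former; its argument uses only the hypotheses kept here.) -/
theorem result (k : Type u) [Field k] [IsAlgClosed k]
    [CharZero k] (X Y Z : Scheme.{u}) [X.Over (Spec (CommRingCat.of k))] [Y.Over (Spec (CommRingCat.of k))]
    [Z.Over (Spec (CommRingCat.of k))]
    [LocallyOfFiniteType (X ↘ Spec (CommRingCat.of k))] [QuasiCompact (X ↘ Spec (CommRingCat.of k))]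
    [LocallyOfFiniteType (Y ↘ Spec (CommRingCat.of k))] [QuasiCompact (Y ↘ Spec (CommRingCat.of k))]
    [LocallyOfFiniteType (Z ↘ Spec (CommRingCat.of k))] [QuasiCompact (Z ↘ Spec (CommRingCat.of k))]
    [IrreducibleSpace Y] [IrreducibleSpace Z] (hdim : topologicalKrullDim Y = topologicalKrullDim Z)
    (ρ : X ⟶ Y) [ρ.IsOver (Spec (CommRingCat.of k))] (η : Y ⟶ Z) [η.IsOver (Spec (CommRingCat.of k))]
    [IsDominant η] :
    IsDominant (ρ ≫ η) ↔ IsDominant ρ := by
  constructor
  swap
  · intro h
    exact inferInstance
  intro hdom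
  have hη : η ≫ (Z ↘ Spec (CommRingCat.of k)) = Y ↘ Spec (CommRingCat.of k) :=
    CategoryTheory.comp_over η (Spec (CommRingCat.of k))
  have : LocallyOfFiniteType (η ≫ (Z ↘ Spec (CommRingCat.of k))) := by
    rw [hη]; infer_instance
  have : LocallyOfFiniteType η := locallyOfFiniteType_of_comp η (Z ↘ Spec (CommRingCat.of k))
  have : CompactSpace X :=
    QuasiCompact.compactSpace_of_compactSpace (X ↘ Spec (CommRingCat.of k))
  have : IsLocallyNoetherian X :=
    LocallyOfFiniteType.isLocallyNoetherian (X ↘ Spec (CommRingCat.of k))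
  have : IsNoetherian X := {}
  -- generic points
  set ξ : Y := genericPoint Y with hξ
  set ζ : Z := genericPoint Z with hζ
  have hξg : IsGenericPoint ξ (Set.univ : Set Y) := genericPoint_spec Y
  have hζg : IsGenericPoint ζ (Set.univ : Set Z) := genericPoint_spec Z
  -- a point of X over ζ
  have hz : ζ ∈ closure ((ρ ≫ η) '' (Set.univ : Set X)) := by
    rw [Set.image_univ, (ρ ≫ η).denseRange.closure_range]
    exact Set.mem_univ _
  obtain ⟨c, -, hc⟩ := Groth.Agent.Lib.Helper21.Img.exists_specializes_of_mem_closure_image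
    (ρ ≫ η) (ρ ≫ η).continuous Set.univ isClosed_univ ζ hz
  have hcζ : η (ρ c) = ζ := by
    have h1 : ζ ⤳ (ρ ≫ η) c := genericPoint_specializes _
    exact (hc.antisymm h1).eq
  -- dimensions
  obtain ⟨a, ha⟩ := Groth.Agent.Lib.Helper21.FibDim.exists_nat_trdeg k Y ξ
  obtain ⟨b, hb⟩ := Groth.Agent.Lib.Helper21.FibDim.exists_nat_trdeg k Z (η (ρ c))
  obtain ⟨m, hm⟩ := Groth.Agent.Lib.Helper21.FibDim.exists_nat_trdeg_residueFieldMap η (ρ c)
  have hbm := Groth.Agent.Lib.Helper21.FibDim.trdeg_add_of_comp k Y Z η hη (ρ c) b m hb hm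
  have hdY : topologicalKrullDim Y = a := by
    rw [← (Homeomorph.Set.univ Y).isHomeomorph.topologicalKrullDim_eq, ← hξg.def]
    exact Groth.Agent.Lib.Helper21.FibDim.topologicalKrullDim_closure_singleton k Y ξ a ha
  have hdZ : topologicalKrullDim Z = b := by
    rw [← (Homeomorph.Set.univ Z).isHomeomorph.topologicalKrullDim_eq, ← hζg.def, ← hcζ]
    exact Groth.Agent.Lib.Helper21.FibDim.topologicalKrullDim_closure_singleton k Z _ b hb
  have hab : a = b := by
    have := hdY.symm.trans (hdim.trans hdZ)
    exact_mod_cast this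
  have hρc : ρ c = ξ := by
    by_contra hne
    have hsp : ξ ⤳ ρ c := genericPoint_specializes _
    have := Groth.Agent.Lib.Helper21.FibDim.trdeg_lt_of_specializes k Y ξ (ρ c) hsp
      (Ne.symm hne) a (b + m) ha hbm
    omega
  rw [isDominant_iff, denseRange_iff_closure_range, ← Set.univ_subset_iff, ← hξg.def]
  refine closure_minimal ?_ isClosed_closure
  rw [Set.singleton_subset_iff]
  exact subset_closure ⟨c, hρc⟩

end Groth.Agent.S17411
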