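import Groth.Statements.S17414
import Mathlib
import Groth.Agent.Lib.Helper18.QuadricNode

set_option autoImplicit false
universe u
open Prym5

namespace Groth.Agent.S17414

/-- Over a perfect field K of characteristic different from 2 and 3, let G₂, G₃, G₄ be polynomials in x,
y, let h = G₂ z² + 2 G₃ z + G₄ in K[x, y, z] and D = G₃² − G₂ G₄ in K[x, y]. Suppose h ∈ (x, y, z) —
the origin Q lies on the surface h = 0 — and D ∈ (x, y) — the image of Q under (x, y, z) ↦ (x, y)
lies on the discriminant curve D = 0. Then D ∈ (x, y)², i.e. the image point is singular on the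
discriminant curve, if and only if either h ∈ (x, y, z)², i.e. Q is a singular point of the surface,
or G₂, G₃, G₄ ∈ (x, y), i.e. Q lies on all three cones G₂ = G₃ = G₄ = 0. (Affine-local form, in a
chart where the node projected from sits at infinity on the z-axis and Q at the origin, of the
published claim: for a point Q ≠ P of the nodal quartic whose projection lies on the branch sextic,
the projection is singular on the sextic exactly when Q is singular on the quartic or lies on the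
cones u₂ = u₃ = u₄ = 0.) -/
theorem result (K : Type u) [Field K] [PerfectField K]
    (h2 : (2 : K) ≠ 0) (h3 : (3 : K) ≠ 0) (G₂ G₃ G₄ : MvPolynomial (Fin 2) K)
    (hQ : MvPolynomial.rename (Fin.castSucc : Fin 2 → Fin 3) G₂ * MvPolynomial.X (2 : Fin 3) ^ 2
        + 2 * MvPolynomial.rename (Fin.castSucc : Fin 2 → Fin 3) G₃ * MvPolynomial.X (2 : Fin 3)
        + MvPolynomial.rename (Fin.castSucc : Fin 2 → Fin 3) G₄
        ∈ Ideal.span (Set.range (MvPolynomial.X : Fin 3 → MvPolynomial (Fin 3) K)))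
    (hD : G₃ ^ 2 - G₂ * G₄ ∈ Ideal.span (Set.range (MvPolynomial.X : Fin 2 → MvPolynomial (Fin 2) K))) :
    G₃ ^ 2 - G₂ * G₄ ∈ (Ideal.span (Set.range (MvPolynomial.X : Fin 2 → MvPolynomial (Fin 2) K))) ^ 2 ↔
      (MvPolynomial.rename (Fin.castSucc : Fin 2 → Fin 3) G₂ * MvPolynomial.X (2 : Fin 3) ^ 2
          + 2 * MvPolynomial.rename (Fin.castSucc : Fin 2 → Fin 3) G₃ * MvPolynomial.X (2 : Fin 3)
          + MvPolynomial.rename (Fin.castSucc : Fin 2 → Fin 3) G₄
          ∈ (Ideal.span (Set.range (MvPolynomial.X : Fin 3 → MvPolynomial (Fin 3) K))) ^ 2 ∨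
        (G₂ ∈ Ideal.span (Set.range (MvPolynomial.X : Fin 2 → MvPolynomial (Fin 2) K)) ∧
          G₃ ∈ Ideal.span (Set.range (MvPolynomial.X : Fin 2 → MvPolynomial (Fin 2) K)) ∧
          G₄ ∈ Ideal.span (Set.range (MvPolynomial.X : Fin 2 → MvPolynomial (Fin 2) K)))) := by
  classical
  set I2 := Ideal.span (Set.range (MvPolynomial.X : Fin 2 → MvPolynomial (Fin 2) K)) with hI2
  have hc : MvPolynomial.constantCoeff G₄ = 0 := by
    have := (Groth.Agent.Lib.Helper18.QuadricNode.mem_span_X_iff _).1 hQ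
    simpa [MvPolynomial.constantCoeff_rename] using this
  have hb : MvPolynomial.constantCoeff G₃ = 0 := by
    have := (Groth.Agent.Lib.Helper18.QuadricNode.mem_span_X_iff _).1 hD
    simpa [hc] using this
  have hG3 : G₃ ∈ I2 := (Groth.Agent.Lib.Helper18.QuadricNode.mem_span_X_iff G₃).2 hb
  have hG4 : G₄ ∈ I2 := (Groth.Agent.Lib.Helper18.QuadricNode.mem_span_X_iff G₄).2 hc
  rw [Groth.Agent.Lib.Helper18.QuadricNode.quadric_mem_sq_iff h2]
  have hG3sq : G₃ ^ 2 ∈ I2 ^ 2 := Ideal.pow_mem_pow hG3 2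
  have hL : G₃ ^ 2 - G₂ * G₄ ∈ I2 ^ 2 ↔
      MvPolynomial.C (MvPolynomial.constantCoeff G₂) * G₄ ∈ I2 ^ 2 := by
    have hrem : (G₂ - MvPolynomial.C (MvPolynomial.constantCoeff G₂)) * G₄ ∈ I2 ^ 2 := by
      rw [pow_two]
      exact Ideal.mul_mem_mul (Groth.Agent.Lib.Helper18.QuadricNode.sub_C_mem G₂) hG4
    constructor
    · intro h
      have : MvPolynomial.C (MvPolynomial.constantCoeff G₂) * G₄ =
          G₃ ^ 2 - (G₃ ^ 2 - G₂ * G₄) - (G₂ - MvPolynomial.C (MvPolynomial.constantCoeff G₂)) * G₄ := by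
        ring
      rw [this]
      exact Ideal.sub_mem _ (Ideal.sub_mem _ hG3sq h) hrem
    · intro h
      have : G₃ ^ 2 - G₂ * G₄ = G₃ ^ 2 - (MvPolynomial.C (MvPolynomial.constantCoeff G₂) * G₄ +
          (G₂ - MvPolynomial.C (MvPolynomial.constantCoeff G₂)) * G₄) := by
        ring
      rw [this]
      exact Ideal.sub_mem _ hG3sq (Ideal.add_mem _ h hrem)
  rw [hL]
  constructor
  · intro h
    by_cases ha : MvPolynomial.constantCoeff G₂ = 0
    · right
      exact ⟨(Groth.Agent.Lib.Helper18.QuadricNode.mem_span_X_iff G₂).2 ha, hG3, hG4⟩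
    · left
      refine ⟨?_, hG3⟩
      have := Ideal.mul_mem_left _ (MvPolynomial.C (MvPolynomial.constantCoeff G₂)⁻¹) h
      rwa [← mul_assoc, ← MvPolynomial.C_mul, inv_mul_cancel₀ ha, MvPolynomial.C_1, one_mul] at this
  · rintro (⟨h4, -⟩ | ⟨hG2, -, -⟩)
    · exact Ideal.mul_mem_left _ _ h4
    · rw [(Groth.Agent.Lib.Helper18.QuadricNode.mem_span_X_iff G₂).1 hG2]
      simp

end Groth.Agent.S17414
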