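import Groth.Statements.S17417
import Groth.Agent.Lib.Helper10.ModStFib

set_option autoImplicit false
open CategoryTheory CategoryTheory.Limits AlgebraicGeometry
universe u
open ModSt

namespace Groth.Agent.S17417

/-- Let `f : X ⟶ S` be a morphism of schemes. The category over `(Sch/S)` of finitely presented modules
flat over the base (objects over `T`: a cartesian square `X_T` over `T` and a finitely presented
`T`-flat module on `X_T`; morphisms: cartesian comparison maps over morphisms of bases) is fibred in
groupoids. (The source states this for a morphism of finite presentation of algebraic spaces `X → B`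
over a base scheme and for modules whose support is moreover proper over the base; this row is the
case of schemes with base `S = B`, for the category without the support condition, and for any
morphism `f`.) -/
theorem result {X S : Scheme.{u}} (f : X ⟶ S) :
    FibCat.IsFibGrpd (ModSt.Coh f).p := by
  open Groth.Agent.Lib.Helper10.ModStFib in
  refine ⟨?_, ?_⟩
  · intro x V g
    let y : (ModSt.Coh f).obj := ⟨pbObj x.obj g, isCohObj_pbObj x.obj x.property g⟩
    let φ : y ⟶ x := ObjectProperty.homMk (pbHom x.obj g)
    exact ⟨y, φ, Functor.IsHomLift.map (p := (ModSt.Coh f).p) φ⟩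
  · intro y x φ
    refine { toIsHomLift := inferInstance, universal_property' := ?_ }
    intro z g ψ hψ
    have hb : ψ.hom.base = g ≫ φ.hom.base :=
      (IsHomLift.eq_of_isHomLift (p := (ModSt.Coh f).p)
        (g ≫ (ModSt.Coh f).p.map φ) ψ).symm
    obtain ⟨χ, ⟨h1, h2⟩, huniq⟩ := exists_unique_fill φ.hom g ψ.hom hb
    refine ⟨ObjectProperty.homMk χ, ⟨?_, ?_⟩, ?_⟩
    · subst h1
      exact Functor.IsHomLift.map (p := (ModSt.Coh f).p) (ObjectProperty.homMk χ)
    · ext
      exact h2
    · rintro χ' ⟨hl, he⟩
      ext
      apply huniq
      refine ⟨?_, ?_⟩
      · exact (IsHomLift.eq_of_isHomLift (p := (ModSt.Coh f).p) g χ').symm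
      · exact congrArg (fun k => k.hom) he

end Groth.Agent.S17417
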