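import Groth.Statements.S17446
import Mathlib

set_option autoImplicit false
universe u v
open SSRed

namespace Groth.Agent.S17446
section Aux
variable {K : Type u} {V : Type v} [Field K] [AddCommGroup V] [Module K V]

/-- `g - 1` as an endomorphism -/
def c (g : V ≃ₗ[K] V) : Module.End K V := (g : V →ₗ[K] V) - 1

theorem c_apply (g : V ≃ₗ[K] V) (v : V) : c g v = g v - v := rfl

/-- product of `g - 1` over a list -/
def pr (l : List (V ≃ₗ[K] V)) : Module.End K V := (l.map c).prod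

theorem pr_nil : pr ([] : List (V ≃ₗ[K] V)) = 1 := rfl
theorem pr_cons (g : V ≃ₗ[K] V) (l) : pr (g :: l) = c g * pr l := by simp [pr]
theorem pr_append (l₁ l₂ : List (V ≃ₗ[K] V)) : pr (l₁ ++ l₂) = pr l₁ * pr l₂ := by simp [pr]

/-- the derived submodule -/
def D (H : Subgroup (V ≃ₗ[K] V)) (W : Submodule K V) : Submodule K V :=
  Submodule.span K {x | ∃ h ∈ H, ∃ w ∈ W, x = h w - w}

theorem sub_mem_D {H : Subgroup (V ≃ₗ[K] V)} {W : Submodule K V} {h} (hh : h ∈ H) {w} (hw : w ∈ W) :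
    h w - w ∈ D H W := Submodule.subset_span ⟨h, hh, w, hw, rfl⟩

/-- the filtration -/
def U (H : Subgroup (V ≃ₗ[K] V)) (k : ℕ) : Submodule K V := (D H)^[k] ⊤

theorem U_succ (H : Subgroup (V ≃ₗ[K] V)) (k : ℕ) : U H (k+1) = D H (U H k) :=
  Function.iterate_succ_apply' _ _ _

/-- list-form unipotency -/
def Unip (H : Subgroup (V ≃ₗ[K] V)) (n : ℕ) : Prop :=
  ∀ l : List (V ≃ₗ[K] V), (∀ g ∈ l, g ∈ H) → l.length = n → pr l = 0

theorem U_eq_bot {H : Subgroup (V ≃ₗ[K] V)} {N : ℕ} (hN : Unip H N) : U H N = ⊥ := by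
  have key : ∀ k, ∀ l : List (V ≃ₗ[K] V), (∀ g ∈ l, g ∈ H) → l.length + k = N →
      ∀ x ∈ U H k, pr l x = 0 := by
    intro k
    induction k with
    | zero =>
      intro l hl hlen x _
      rw [hN l hl (by omega)]; rfl
    | succ k ih =>
      intro l hl hlen x hx
      rw [U_succ] at hx
      induction hx using Submodule.span_induction with
      | mem x hx =>
        obtain ⟨h, hh, w, hw, rfl⟩ := hx
        have := ih (l ++ [h]) (by
          intro g hg
          rcases List.mem_append.mp hg with hg | hg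
          · exact hl g hg
          · rw [List.mem_singleton.mp hg]; exact hh) (by simp; omega) w hw
        rw [pr_append, pr_cons, pr_nil, mul_one] at this
        exact this
      | zero => simp
      | add x y _ _ hx hy => rw [map_add, hx, hy, add_zero]
      | smul a x _ hx => rw [map_smul, hx, smul_zero]
  rw [eq_bot_iff]
  intro x hx
  have := key N [] (by simp) (by simp) x hx
  simpa [pr_nil] using this

variable {H₁ H₂ : Subgroup (V ≃ₗ[K] V)}

theorem conj_mem (hnorm : ∀ g ∈ H₂, ∀ h ∈ H₁, g * h * g⁻¹ ∈ H₁) {g} (hg : g ∈ H₁ ⊔ H₂) {h}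
    (hh : h ∈ H₁) : g * h * g⁻¹ ∈ H₁ := by
  have hle : H₁ ⊔ H₂ ≤ Subgroup.normalizer (H₁ : Set (V ≃ₗ[K] V)) :=
    sup_le (Subgroup.le_normalizer_iff.mpr
      (fun h hh k hk => H₁.mul_mem (H₁.mul_mem hh hk) (H₁.inv_mem hh)))
      (Subgroup.le_normalizer_iff.mpr hnorm)
  exact (Subgroup.le_normalizer_iff.mp hle) g hg h hh

theorem U_stable (hnorm : ∀ g ∈ H₂, ∀ h ∈ H₁, g * h * g⁻¹ ∈ H₁) {g} (hg : g ∈ H₁ ⊔ H₂) :
    ∀ k, ∀ w ∈ U H₁ k, g w ∈ U H₁ k := by
  intro k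
  induction k with
  | zero => intro w _; exact Submodule.mem_top
  | succ k ih =>
    intro w hw
    rw [U_succ] at hw ⊢
    induction hw using Submodule.span_induction with
    | mem x hx =>
      obtain ⟨a, ha, w, hw, rfl⟩ := hx
      have : g (a w - w) = (g * a * g⁻¹) (g w) - g w := by
        simp [LinearEquiv.mul_apply]
      rw [this]
      exact sub_mem_D (conj_mem hnorm hg ha) (ih w hw)
    | zero => simp
    | add x y _ _ hx hy => rw [map_add]; exact Submodule.add_mem _ hx hy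
    | smul a x _ hx => rw [map_smul]; exact Submodule.smul_mem _ _ hx

theorem U_anti (H : Subgroup (V ≃ₗ[K] V)) (hst : ∀ g ∈ H, ∀ k, ∀ w ∈ U H k, g w ∈ U H k) (k : ℕ) :
    U H (k+1) ≤ U H k := by
  rw [U_succ]
  unfold D
  rw [Submodule.span_le]
  rintro _ ⟨h, hh, w, hw, rfl⟩
  exact Submodule.sub_mem _ (hst h hh k w hw) hw

theorem exists_approx (hnorm : ∀ g ∈ H₂, ∀ h ∈ H₁, g * h * g⁻¹ ∈ H₁) {g} (hg : g ∈ H₁ ⊔ H₂) :
    ∃ b ∈ H₂, ∀ k, ∀ w ∈ U H₁ k, g w - b w ∈ U H₁ (k+1) := by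
  rw [Subgroup.sup_eq_closure] at hg
  have hcl : ∀ g ∈ Subgroup.closure ((H₁ : Set (V ≃ₗ[K] V)) ∪ H₂), g ∈ H₁ ⊔ H₂ := by
    intro g hg; rwa [Subgroup.sup_eq_closure]
  induction hg using Subgroup.closure_induction with
  | mem g hg =>
    rcases hg with hg | hg
    · refine ⟨1, H₂.one_mem, fun k w hw => ?_⟩
      rw [U_succ]
      exact sub_mem_D hg hw
    · exact ⟨g, hg, fun k w _ => by simp⟩
  | one => exact ⟨1, H₂.one_mem, fun k w _ => by simp⟩
  | mul g g' hg hg' ihg ihg' =>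
    obtain ⟨b, hb, hgb⟩ := ihg
    obtain ⟨b', hb', hgb'⟩ := ihg'
    refine ⟨b * b', H₂.mul_mem hb hb', fun k w hw => ?_⟩
    have e : (g * g') w - (b * b') w = g (g' w - b' w) + (g (b' w) - b (b' w)) := by
      simp [LinearEquiv.mul_apply]
    rw [e]
    refine Submodule.add_mem _ (U_stable hnorm (hcl g hg) _ _ (hgb' k w hw)) ?_
    exact hgb k _ (U_stable hnorm (Subgroup.mem_sup_right hb') k w hw)
  | inv g hg ihg =>
    obtain ⟨b, hb, hgb⟩ := ihg
    refine ⟨b⁻¹, H₂.inv_mem hb, fun k w hw => ?_⟩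
    have hbw : b⁻¹ w ∈ U H₁ k := U_stable hnorm (Subgroup.mem_sup_right (H₂.inv_mem hb)) k w hw
    have e : g⁻¹ w - b⁻¹ w = - g⁻¹ (g (b⁻¹ w) - b (b⁻¹ w)) := by
      simp [LinearEquiv.mul_apply]
    rw [e]
    refine Submodule.neg_mem _ (U_stable hnorm ((H₁ ⊔ H₂).inv_mem (hcl g hg)) _ _ (hgb k _ hbw))

theorem c_mem_U (hnorm : ∀ g ∈ H₂, ∀ h ∈ H₁, g * h * g⁻¹ ∈ H₁) {g} (hg : g ∈ H₁ ⊔ H₂) {k w}
    (hw : w ∈ U H₁ k) : c g w ∈ U H₁ k :=
  Submodule.sub_mem _ (U_stable hnorm hg k w hw) hw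

theorem pr_mem_U (hnorm : ∀ g ∈ H₂, ∀ h ∈ H₁, g * h * g⁻¹ ∈ H₁) (l : List (V ≃ₗ[K] V))
    (hl : ∀ g ∈ l, g ∈ H₁ ⊔ H₂) {k w} (hw : w ∈ U H₁ k) : pr l w ∈ U H₁ k := by
  induction l with
  | nil => simpa [pr_nil] using hw
  | cons g l ih =>
    rw [pr_cons, Module.End.mul_apply]
    exact c_mem_U hnorm (hl g (by simp)) (ih (fun g' hg' => hl g' (by simp [hg'])))

theorem exists_list (hnorm : ∀ g ∈ H₂, ∀ h ∈ H₁, g * h * g⁻¹ ∈ H₁) (l : List (V ≃ₗ[K] V))
    (hl : ∀ g ∈ l, g ∈ H₁ ⊔ H₂) :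
    ∃ l' : List (V ≃ₗ[K] V), (∀ g ∈ l', g ∈ H₂) ∧ l'.length = l.length ∧
      ∀ k, ∀ w ∈ U H₁ k, pr l w - pr l' w ∈ U H₁ (k+1) := by
  induction l with
  | nil => exact ⟨[], by simp, rfl, fun k w _ => by simp⟩
  | cons g l ih =>
    obtain ⟨l', hl', hlen, hdiff⟩ := ih (fun g' hg' => hl g' (by simp [hg']))
    obtain ⟨b, hb, hgb⟩ := exists_approx hnorm (hl g (by simp))
    refine ⟨b :: l', ?_, by simp [hlen], fun k w hw => ?_⟩
    · intro g' hg'
      rcases List.mem_cons.mp hg' with rfl | hg'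
      · exact hb
      · exact hl' g' hg'
    · have e : pr (g :: l) w - pr (b :: l') w =
          c g (pr l w - pr l' w) + (g (pr l' w) - b (pr l' w)) := by
        simp only [pr_cons, Module.End.mul_apply, c_apply, map_sub]
        abel
      rw [e]
      refine Submodule.add_mem _ (c_mem_U hnorm (hl g (by simp)) (hdiff k w hw)) ?_
      refine hgb k _ (pr_mem_U hnorm l' (fun g' hg' => Subgroup.mem_sup_right (hl' g' hg')) hw)

theorem block (hnorm : ∀ g ∈ H₂, ∀ h ∈ H₁, g * h * g⁻¹ ∈ H₁) {N₂ : ℕ} (h₂ : Unip H₂ N₂)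
    (l : List (V ≃ₗ[K] V)) (hl : ∀ g ∈ l, g ∈ H₁ ⊔ H₂) (hlen : l.length = N₂) {k w}
    (hw : w ∈ U H₁ k) : pr l w ∈ U H₁ (k+1) := by
  obtain ⟨l', hl', hlen', hdiff⟩ := exists_list hnorm l hl
  have := hdiff k w hw
  rw [h₂ l' hl' (hlen'.trans hlen)] at this
  simpa using this

theorem blocks (hnorm : ∀ g ∈ H₂, ∀ h ∈ H₁, g * h * g⁻¹ ∈ H₁) {N₂ : ℕ} (h₂ : Unip H₂ N₂) :
    ∀ j, ∀ l : List (V ≃ₗ[K] V), (∀ g ∈ l, g ∈ H₁ ⊔ H₂) → l.length = j * N₂ → ∀ k, ∀ w ∈ U H₁ k,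
      pr l w ∈ U H₁ (k + j) := by
  intro j
  induction j with
  | zero =>
    intro l hl hlen k w hw
    have : l = [] := List.eq_nil_of_length_eq_zero (by simpa using hlen)
    subst this
    simpa [pr_nil] using hw
  | succ j ih =>
    intro l hl hlen k w hw
    have hsplit : l = l.take N₂ ++ l.drop N₂ := (List.take_append_drop N₂ l).symm
    have h1 : (l.take N₂).length = N₂ := by
      rw [List.length_take, hlen]
      rw [Nat.succ_mul]; omega
    have h2 : (l.drop N₂).length = j * N₂ := by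
      rw [List.length_drop, hlen, Nat.succ_mul]; omega
    rw [hsplit, pr_append, Module.End.mul_apply]
    have := ih (l.drop N₂) (fun g hg => hl g (List.mem_of_mem_drop hg)) h2 k w hw
    have := block hnorm h₂ (l.take N₂) (fun g hg => hl g (List.mem_of_mem_take hg)) h1 this
    rwa [add_assoc] at this

theorem main (hnorm : ∀ g ∈ H₂, ∀ h ∈ H₁, g * h * g⁻¹ ∈ H₁) {N₁ N₂ : ℕ} (h₁ : Unip H₁ N₁)
    (h₂ : Unip H₂ N₂) : Unip (H₁ ⊔ H₂) (N₁ * N₂) := by
  intro l hl hlen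
  ext v
  have := blocks hnorm h₂ N₁ l hl hlen 0 v (by simp [U])
  rw [zero_add, U_eq_bot h₁] at this
  simpa using this

theorem unip_of_ofFn {H : Subgroup (V ≃ₗ[K] V)} {n : ℕ} (h : ∀ f : Fin n → ↥H,
      (List.ofFn fun i => (((f i : ↥H) : V ≃ₗ[K] V) : Module.End K V) - 1).prod = 0) :
    Unip H n := by
  intro l hl hlen
  subst hlen
  have := h (fun i => ⟨l.get i, hl _ (List.get_mem _ _)⟩)
  rw [← this, pr]
  congr 1
  calc List.map c l = List.map c (List.ofFn l.get) := by rw [List.ofFn_get]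
    _ = List.ofFn (c ∘ l.get) := List.map_ofFn
    _ = _ := rfl

theorem ofFn_of_unip {H : Subgroup (V ≃ₗ[K] V)} {n : ℕ} (h : Unip H n) (f : Fin n → ↥H) :
    (List.ofFn fun i => (((f i : ↥H) : V ≃ₗ[K] V) : Module.End K V) - 1).prod = 0 := by
  have := h (List.ofFn fun i => ((f i : ↥H) : V ≃ₗ[K] V)) (by
    intro g hg
    obtain ⟨i, rfl⟩ := (List.mem_ofFn' _ _).mp hg
    exact (f i).2) (by simp)
  rw [pr, List.map_ofFn] at this
  exact this

end Aux


/-- Let K be a field, V a finite-dimensional K-vector space and H₁, H₂ subgroups of the group of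
K-linear automorphisms of V such that H₂ normalizes H₁. Call the action of a subgroup H unipotent
when, for some n, every product (h₁ - 1)(h₂ - 1)⋯(hₙ - 1) with all hᵢ in H is the zero endomorphism
(equivalently, V has an H-stable flag on whose successive quotients H acts trivially). If H₁ and H₂
act unipotently, then the subgroup generated by H₁ and H₂ acts unipotently. (In the published result
H₁ and H₂ are the absolute Galois groups of two finite Galois extensions of a strictly henselian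
discretely valued field over which an abelian variety becomes semistable, acting on its rational
ℓ-adic Tate module, and the conclusion is semistability over the intersection of the two fields; the
printed argument uses only that H₂ normalizes H₁.) -/
theorem result (K : Type u) (V : Type v) [Field K]
    [AddCommGroup V] [Module K V] [FiniteDimensional K V]
    (H₁ H₂ : Subgroup (V ≃ₗ[K] V)) (hnorm : ∀ g ∈ H₂, ∀ h ∈ H₁, g * h * g⁻¹ ∈ H₁)
    (h₁ : ∃ n : ℕ, ∀ f : Fin n → ↥H₁,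
      (List.ofFn fun i => (((f i : ↥H₁) : V ≃ₗ[K] V) : Module.End K V) - 1).prod = 0)
    (h₂ : ∃ n : ℕ, ∀ f : Fin n → ↥H₂,
      (List.ofFn fun i => (((f i : ↥H₂) : V ≃ₗ[K] V) : Module.End K V) - 1).prod = 0) :
    ∃ n : ℕ, ∀ f : Fin n → ↥(H₁ ⊔ H₂),
      (List.ofFn fun i => (((f i : ↥(H₁ ⊔ H₂)) : V ≃ₗ[K] V) : Module.End K V) - 1).prod = 0 := by
  obtain ⟨N₁, h₁⟩ := h₁
  obtain ⟨N₂, h₂⟩ := h₂
  exact ⟨N₁ * N₂, ofFn_of_unip (main hnorm (unip_of_ofFn h₁) (unip_of_ofFn h₂))⟩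

end Groth.Agent.S17446
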