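import Groth.Statements.S1746
import Groth.Agent.Lib.Helper13.FinCoh1
import Groth.Agent.Lib.Helper17.InjAmp
import Groth.Agent.Lib.Helper13.DRingInj

set_option autoImplicit false
universe u
open CategoryTheory
attribute [local instance] HasDerivedCategory.standard
open Dual

namespace Groth.Agent.S1746
section Aux
open CategoryTheory.Limits CategoryTheory.Pretriangulated DerivedCategory

variable {A : Type u} [CommRing A]

/-- Maps from an object which is `≥ b + 1` to a complex of injectives vanishing outside `[a, b]`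
are zero. -/
lemma hom_eq_zero_of_isGE (E : DRing.Cx A) (a b : ℤ) (hE : DRing.VanishesOutside E a b)
    (hinj : DRing.TermwiseInjective E) (Y : Dual.D A) [Y.IsGE (b + 1)]
    (f : Y ⟶ DerivedCategory.Q.obj E) : f = 0 := by
  obtain ⟨C, hC, ⟨eC⟩⟩ := Y.exists_iso_Q_obj_of_isGE (b + 1)
  haveI : E.IsStrictlyGE a := by
    rw [CochainComplex.isStrictlyGE_iff]
    intro n hn
    exact hE n (Or.inl hn)
  haveI : ∀ n, Injective (E.X n) := fun n =>
    (Groth.Agent.Lib.Helper13.DR.injective_iff _).2 (hinj n)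
  haveI : E.IsKInjective := CochainComplex.isKInjective_of_injective E a
  obtain ⟨c, hc⟩ := Groth.Agent.Lib.Helper17.InjAmp.exists_Q_map_eq C E (eC.inv ≫ f)
  have hc0 : c = 0 := by
    ext n : 1
    by_cases hn : n ≤ b
    · exact (CochainComplex.isZero_of_isStrictlyGE C (b + 1) n (by omega)).eq_of_src _ _
    · exact (hE n (Or.inr (by omega))).eq_of_tgt _ _
  rw [hc0, Functor.map_zero] at hc
  have h2 : f = eC.hom ≫ (eC.inv ≫ f) := by simp
  rw [h2, ← hc, comp_zero]

/-- Shifted version. -/
lemma hom_shift_eq_zero_of_isGE (L : Dual.D A) (a b : ℤ) (hL : DRing.HasInjAmplitudeIn A a b L)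
    (i : ℤ) (Y : Dual.D A) [Y.IsGE (b - i + 1)] (f : Y ⟶ L⟦i⟧) : f = 0 := by
  obtain ⟨E, hE, hinj, ⟨e⟩⟩ := hL
  haveI : (Y⟦-i⟧).IsGE (b + 1) := TStructure.t.isGE_shift Y (b - i + 1) (-i) (b + 1) (by omega)
  have h0 := hom_eq_zero_of_isGE E a b hE hinj (Y⟦-i⟧) (f⟦-i⟧' ≫ (shiftShiftNeg L i).hom ≫ e.inv)
  have h1 : f⟦-i⟧' = 0 := by
    have := congrArg (fun t => t ≫ e.hom ≫ (shiftShiftNeg L i).inv) h0
    simp only [Category.assoc, Iso.inv_hom_id_assoc, Iso.hom_inv_id, Category.comp_id,
      zero_comp] at this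
    exact this
  apply (shiftFunctor (Dual.D A) (-i)).map_injective
  rw [h1, Functor.map_zero]

end Aux

/-- Let A be a Noetherian ring and K, L objects of D(A) all of whose cohomology modules are finite
A-modules, with L of finite injective dimension. Then for every integer i the A-module of maps K →
L[i] in D(A) (the i-th cohomology of RHom(K, L)) is a finite A-module. -/
theorem result (A : Type u) [CommRing A] [IsNoetherianRing A] (K L : Dual.D A) (hK : ∀ i : ℤ, Module.Finite A (Dual.HD A K i)) (hL : ∀ i : ℤ, Module.Finite A (Dual.HD A L i)) (hLi : DRing.HasFiniteInjDim A L) (i : ℤ) : Module.Finite A (K ⟶ L⟦i⟧) := by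
  classical
  obtain ⟨a, b, hab⟩ := hLi
  have hab' := hab
  obtain ⟨E, hE, hinj, ⟨e⟩⟩ := hab'
  set m : ℤ := b - i with hm
  -- the truncation triangle
  have hT := DerivedCategory.TStructure.t.triangleLTGE_distinguished (m + 1) K
  set T := (DerivedCategory.TStructure.t.triangleLTGE (m + 1)).obj K with hTdef
  let X : Dual.D A := (DerivedCategory.TStructure.t.truncLT (m + 1)).obj K
  -- injectivity
  have hinjective : Function.Injective (Linear.leftComp A (L⟦i⟧) T.mor₁) := by
    rw [← LinearMap.ker_eq_bot, LinearMap.ker_eq_bot']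
    intro f hf
    obtain ⟨g, hg⟩ := Pretriangulated.Triangle.yoneda_exact₂ T hT f hf
    have h3 : ((DerivedCategory.TStructure.t.truncGE (m + 1)).obj K).IsGE (b - i + 1) := by
      have : ((DerivedCategory.TStructure.t.truncGE (m + 1)).obj K).IsGE (m + 1) := inferInstance
      exact this
    have hg0 : g = 0 := hom_shift_eq_zero_of_isGE L a b hab i _ g
    rw [hg, hg0, Limits.comp_zero]
  -- X is pseudo-coherent
  let P : ObjectProperty (ModuleCat.{u} A) := fun M => Module.Finite A M
  have hP : P.IsClosedUnderIsomorphisms := ⟨fun {M N} e (hM : Module.Finite A M) =>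
    Module.Finite.equiv e.toLinearEquiv⟩
  have hXfin : ∀ j : ℤ, Module.Finite A (Dual.HD A X j) :=
    Groth.Agent.Lib.Helper9.prop_homology_truncLT P
      (fun Z hZ => by
        have : Subsingleton Z := ModuleCat.subsingleton_of_isZero hZ
        change Module.Finite A Z
        infer_instance) K (m + 1) hK
  haveI hXle : X.IsLE m := by
    have : X.IsLE (m + 1 - 1) := inferInstance
    simpa using this
  have hXpc : DRing.IsPseudoCoherent' A X := by
    rw [Groth.Agent.Lib.Helper13.DR.isPseudoCoherent'_iff_forall]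
    intro m'
    rw [Groth.Agent.Lib.Helper13.DR.isPseudoCoherent_iff_of_isNoetherianRing]
    refine ⟨⟨m, fun j hj => ?_⟩, fun j _ => hXfin j⟩
    exact ModuleCat.subsingleton_of_isZero (X.isZero_of_isLE m j hj)
  -- L⟦i⟧ is bounded below with finite cohomology
  haveI : E.IsStrictlyGE a := by
    rw [CochainComplex.isStrictlyGE_iff]
    intro n hn
    exact hE n (Or.inl hn)
  haveI : L.IsGE a := DerivedCategory.TStructure.t.isGE_of_iso e a
  haveI : (L⟦i⟧).IsGE (a - i) := DerivedCategory.TStructure.t.isGE_shift L a i (a - i) (by omega)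
  have hLfin : ∀ j : ℤ, Module.Finite A
      ((DerivedCategory.homologyFunctor (ModuleCat.{u} A) j).obj (L⟦i⟧)) := by
    intro j
    have e1 : (DerivedCategory.homologyFunctor (ModuleCat.{u} A) j).obj (L⟦i⟧) ≅
        (DerivedCategory.homologyFunctor (ModuleCat.{u} A) (i + j)).obj L :=
      ((DerivedCategory.homologyFunctor (ModuleCat.{u} A) 0).shiftIso i j (i + j) rfl).app L
    have := hL (i + j)
    exact Module.Finite.equiv e1.symm.toLinearEquiv
  have hfin : Module.Finite A (X ⟶ L⟦i⟧) :=
    Groth.Agent.Lib.Helper13.FC.finite_hom_of_isGE hXpc m (L⟦i⟧) (a - i) hLfin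
  have hN : IsNoetherian A (X ⟶ L⟦i⟧) := inferInstance
  have : IsNoetherian A (T.obj₁ ⟶ L⟦i⟧) := hN
  have : IsNoetherian A (K ⟶ L⟦i⟧) :=
    isNoetherian_of_injective (Linear.leftComp A (L⟦i⟧) T.mor₁) hinjective
  infer_instance

end Groth.Agent.S1746
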