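import Groth.Statements.S17462
import Groth.Agent.Lib.Helper5.FinitePart

set_option autoImplicit false
universe u
open CategoryTheory CategoryTheory.Limits AlgebraicGeometry
open Hensel

namespace Groth.Agent.S17462

/-- Let R be a henselian local ring and let X and Y be quasi-finite separated schemes over Spec R
(locally of finite type, quasi-compact, with discrete fibres, separated), with finite parts W_X ⊆ X
and W_Y ⊆ Y (open and closed subsets, finite over Spec R as open subschemes, containing every point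
over the closed point). If W ⊆ X ×_R Y is the finite part of the fibre product (same three
conditions, for the structure morphism of X ×_R Y), then W = W_X ×_R W_Y: a point of X ×_R Y lies in
W if and only if its first projection lies in W_X and its second projection lies in W_Y. -/
theorem result (R : Type u) [CommRing R] [HenselianLocalRing R]
    {X Y : Scheme.{u}} (f : X ⟶ Spec (CommRingCat.of R)) (f' : Y ⟶ Spec (CommRingCat.of R))
    [LocallyQuasiFinite f] [LocallyOfFiniteType f] [QuasiCompact f] [IsSeparated f]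
    [LocallyQuasiFinite f'] [LocallyOfFiniteType f'] [QuasiCompact f'] [IsSeparated f']
    (WX : X.Opens) (hWX : (IsClosed (WX : Set ↥X) ∧ IsFinite (WX.ι ≫ f) ∧ ∀ x : ↥X, f.base x = IsLocalRing.closedPoint R → x ∈ WX))
    (WY : Y.Opens) (hWY : (IsClosed (WY : Set ↥Y) ∧ IsFinite (WY.ι ≫ f') ∧ ∀ x : ↥Y, f'.base x = IsLocalRing.closedPoint R → x ∈ WY))
    (W : (pullback f f').Opens)
    (hW : (IsClosed (W : Set ↥(pullback f f')) ∧ IsFinite (W.ι ≫ (pullback.fst f f' ≫ f)) ∧ ∀ x : ↥(pullback f f'), (pullback.fst f f' ≫ f).base x = IsLocalRing.closedPoint R → x ∈ W))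
    (z : ↥(pullback f f')) :
    z ∈ W ↔ ((pullback.fst f f').base z ∈ WX ∧ (pullback.snd f f').base z ∈ WY) := by
  have hfinW : IsFinite (W.ι ≫ (pullback.fst f f' ≫ f)) := hW.2.1
  have hfinX : IsFinite (WX.ι ≫ f) := hWX.2.1
  have hfinY : IsFinite (WY.ι ≫ f') := hWY.2.1
  constructor
  · intro hz
    constructor
    · exact Groth.Agent.Lib.Helper5.map_mem_of_closedFibre_subset (pullback.fst f f' ≫ f) f W
        (W.ι ≫ (pullback.fst f f' ≫ f)).isClosedMap WX hWX.2.2 (pullback.fst f f') rfl z hz
    · exact Groth.Agent.Lib.Helper5.map_mem_of_closedFibre_subset (pullback.fst f f' ≫ f) f' W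
        (W.ι ≫ (pullback.fst f f' ≫ f)).isClosedMap WY hWY.2.2 (pullback.snd f f')
        pullback.condition.symm z hz
  · rintro ⟨hz1, hz2⟩
    -- the base change `T = X ×_R W_Y`
    let j : pullback f (WY.ι ≫ f') ⟶ pullback f f' :=
      pullback.map f (WY.ι ≫ f') f f' (𝟙 X) WY.ι (𝟙 _) (by simp) (by simp)
    have hj1 : j ≫ pullback.fst f f' = pullback.fst f (WY.ι ≫ f') := by
      simp only [j, pullback.lift_fst, pullback.map, Category.comp_id]
    have hzr : z ∈ Set.range j := by
      rw [Scheme.Pullback.range_map]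
      refine ⟨⟨pullback.fst f f' z, rfl⟩, ?_⟩
      rw [Set.mem_preimage, Scheme.Opens.range_ι]
      exact hz2
    obtain ⟨t, rfl⟩ := hzr
    have hfin1 : IsFinite (pullback.fst f (WY.ι ≫ f')) :=
      MorphismProperty.pullback_fst _ _ hfinY
    -- `x = pr1 z` specializes to a point of the closed fibre
    obtain ⟨x₀', hs, hx₀'⟩ := Groth.Agent.Lib.Helper5.specializes_closedFibre_of_isClosedMap
      (WX.ι ≫ f) (WX.ι ≫ f).isClosedMap ⟨pullback.fst f f' (j t), hz1⟩
    have h1 : pullback.fst f f' (j t) ⤳ WX.ι x₀' := hs.map WX.ι.continuous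
    have h1' : pullback.fst f (WY.ι ≫ f') t ⤳ WX.ι x₀' := by
      rw [← hj1]
      exact h1
    -- lift the specialization along the closed map `p1`
    obtain ⟨t₀, ht₀, ht₀'⟩ :=
      (pullback.fst f (WY.ι ≫ f')).isClosedMap.specializingMap h1'
    have h2 : j t ⤳ j t₀ := ht₀.map j.continuous
    refine h2.mem_open W.isOpen (hW.2.2 _ ?_)
    have h3 : pullback.fst f f' (j t₀) = WX.ι x₀' := by
      rw [← ht₀', ← hj1]
      rfl
    rw [Scheme.Hom.comp_apply, h3]
    exact hx₀'

end Groth.Agent.S17462
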