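import Groth.Statements.S17463
import Mathlib

set_option autoImplicit false
universe u v w
open SSRed

namespace Groth.Agent.S17463

open Polynomial in
/-- If `N` is a nilpotent endomorphism over a char-0 field and `(1+N)^m v = v` with `m > 0`,
then `N v = 0`. -/
theorem nil_apply_eq_zero {K : Type*} {V : Type*} [Field K] [CharZero K] [AddCommGroup V]
    [Module K V] (N : Module.End K V) (hN : IsNilpotent N) (m : ℕ) (hm : 0 < m) (v : V)
    (hv : ((1 + N) ^ m) v = v) : N v = 0 := by
  -- polynomial identity
  have hdvd : (X : K[X]) ^ 2 ∣ (1 + X) ^ m - 1 - C (m : K) * X := by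
    rw [X_pow_dvd_iff]
    intro d hd
    interval_cases d
    · simp [coeff_one_add_X_pow]
    · simp [coeff_one_add_X_pow, coeff_one]
  obtain ⟨q, hq⟩ := hdvd
  have hq' : (1 + X : K[X]) ^ m = 1 + C (m : K) * X + X ^ 2 * q := by
    rw [← hq]; ring
  have h1 := congrArg (aeval N) hq'
  simp only [map_pow, map_add, map_one, aeval_X, map_mul, aeval_C] at h1
  set Q := aeval N q with hQ
  have hcomm : Commute N Q := by
    have : Commute (aeval N (X : K[X])) (aeval N q) := by
      rw [Commute, SemiconjBy, ← map_mul, ← map_mul, mul_comm]
    simpa using this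
  -- unit
  have hu : IsUnit (algebraMap K (Module.End K V) (m : K) + N * Q) := by
    refine IsNilpotent.isUnit_add_left_of_commute ?_ ?_ ?_
    · exact Commute.isNilpotent_mul_right hcomm hN
    · exact (IsUnit.mk0 (m : K) (by exact_mod_cast hm.ne')).map _
    · exact (Algebra.commutes _ _).symm
  have h2 : (algebraMap K (Module.End K V) (m : K) + N * Q) (N v) = 0 := by
    have h3 : ((1 + N) ^ m) v - v = 0 := by rw [hv, sub_self]
    rw [h1] at h3
    have h4 : (algebraMap K (Module.End K V) (m : K) + N * Q) * N =
        (1 + algebraMap K (Module.End K V) (m : K) * N + N ^ 2 * Q) - 1 := by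
      rw [add_mul, mul_assoc, hcomm.symm.eq, pow_two, mul_assoc]
      abel
    have h5 : ((algebraMap K (Module.End K V) (m : K) + N * Q) * N) v = 0 := by
      rw [h4]
      simpa using h3
    simpa using h5
  have hinj : Function.Injective (algebraMap K (Module.End K V) (m : K) + N * Q) := by
    obtain ⟨w, hw⟩ := hu
    intro a b hab
    have := congrArg (↑(w⁻¹) : Module.End K V) hab
    rw [← hw] at this
    simpa [← Module.End.mul_apply] using this
  exact hinj (by rw [h2, map_zero])

/-- Let K be a field of characteristic zero, V a K-vector space, G a group with a K-linear action ρ : G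
→ GL(V) such that every ρ(g) is unipotent (ρ(g) - 1 is nilpotent), and H a subgroup of G of finite
index. Then the H-invariants equal the G-invariants: a vector fixed by every element of H is fixed
by every element of G. (In the source G and H are the absolute Galois groups of K and of a finite
extension K', acting unipotently on the rational ℓ-adic Tate module of an abelian variety.) -/
theorem result (K : Type u) (V : Type v) (G : Type w) [Field K] [CharZero K]
    [AddCommGroup V] [Module K V] [Group G] (ρ : G →* (V ≃ₗ[K] V))
    (hunip : ∀ g : G, IsNilpotent (((ρ g : V ≃ₗ[K] V) : Module.End K V) - 1))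
    (H : Subgroup G) [H.FiniteIndex] (v : V) (hv : ∀ h ∈ H, ρ h v = v) (g : G) :
    ρ g v = v := by
  obtain ⟨m, hm, -, hgm⟩ := Subgroup.exists_pow_mem_of_index_ne_zero
    (Subgroup.FiniteIndex.index_ne_zero (H := H)) g
  set u : Module.End K V := ((ρ g : V ≃ₗ[K] V) : Module.End K V) with hu
  have h1 : ((1 + (u - 1)) ^ m) v = v := by
    have : (1 + (u - 1)) = u := by abel
    rw [this]
    have h2 := hv _ hgm
    rw [map_pow] at h2
    have h3 : ∀ k : ℕ, ∀ w : V, (u ^ k) w = ((ρ g) ^ k) w := by
      intro k
      induction k with
      | zero => intro w; simp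
      | succ k ih =>
        intro w
        rw [pow_succ, pow_succ, Module.End.mul_apply, ih]
        rfl
    rw [h3]
    exact h2
  have h2 := nil_apply_eq_zero (u - 1) (hunip g) m hm v h1
  have h3 : u v - v = 0 := by simpa using h2
  exact sub_eq_zero.mp h3

end Groth.Agent.S17463
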