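import Groth.Statements.S17466
import Mathlib

set_option autoImplicit false
universe u v
open BigOperators
open NRGIT

namespace Groth.Agent.S17466



section
variable {R : Type u} {A : Type v} [CommRing R] [CommRing A] [Algebra R A]
  (𝒜 : ℕ → Submodule R A) [GradedAlgebra 𝒜]

/-- F1: powers of the degree-`s` piece sit in degree `d * s`. -/
theorem pow_le_graded (s : ℕ) : ∀ d : ℕ, (𝒜 s) ^ d ≤ 𝒜 (d * s) := by
  intro d
  induction d with
  | zero =>
    rw [pow_zero, zero_mul, Submodule.one_le]
    exact SetLike.GradedOne.one_mem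
  | succ d ih =>
    rw [pow_succ, Submodule.mul_le]
    intro a ha b hb
    have h1 := SetLike.mul_mem_graded (ih ha) hb
    have h2 : d * s + s = (d + 1) * s := by ring
    rw [h2] at h1
    exact h1

theorem pow_s_mem {x : A} (hx : x ∈ 𝒜 1) (s : ℕ) : x ^ s ∈ 𝒜 s := by
  have h := SetLike.pow_mem_graded s hx
  rw [smul_eq_mul, mul_one] at h
  exact h

open HomogeneousLocalization in
/-- F3 -/
theorem key_i (x : A) (hx : x ∈ 𝒜 1) {s : ℕ} (hs : 0 < s)
    (z : HomogeneousLocalization.Away 𝒜 x)
    (hz : z ∈ Algebra.adjoin (𝒜 0)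
      {z : HomogeneousLocalization.Away 𝒜 x |
        ∃ f ∈ 𝒜 s, z.val = Localization.mk f
          ⟨x ^ s, Submonoid.pow_mem _ (Submonoid.mem_powers x) s⟩}) :
    ∃ d : ℕ, ∃ h ∈ (𝒜 s) ^ d,
      z.val = Localization.mk h (⟨x ^ (s * d), ⟨s * d, rfl⟩⟩ : Submonoid.powers x) := by
  induction hz using Algebra.adjoin_induction with
  | mem z hz =>
    obtain ⟨f, hf, hzf⟩ := hz
    refine ⟨1, f, by rw [pow_one]; exact hf, ?_⟩
    rw [hzf]
    congr 1
    exact Subtype.ext (by rw [mul_one])
  | algebraMap a =>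
    refine ⟨1, (a : A) * x ^ s, ?_, ?_⟩
    · rw [pow_one]
      have h1 := SetLike.mul_mem_graded a.2 (pow_s_mem 𝒜 hx s)
      rw [zero_add] at h1
      exact h1
    · change Localization.mk (a : A) 1 = _
      rw [Localization.mk_eq_mk_iff, Localization.r_iff_exists]
      refine ⟨1, ?_⟩
      simp only [OneMemClass.coe_one, one_mul, mul_one]
      ring
  | add z1 z2 _ _ h1 h2 =>
    obtain ⟨d1, h1, hh1, e1⟩ := h1
    obtain ⟨d2, h2, hh2, e2⟩ := h2
    refine ⟨d1 + d2, x ^ (s * d1) * h2 + x ^ (s * d2) * h1, ?_, ?_⟩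
    · apply Submodule.add_mem
      · rw [pow_add, pow_mul]
        exact Submodule.mul_mem_mul (Submodule.pow_mem_pow _ (pow_s_mem 𝒜 hx s) d1) hh2
      · rw [add_comm d1 d2, pow_add, pow_mul]
        exact Submodule.mul_mem_mul (Submodule.pow_mem_pow _ (pow_s_mem 𝒜 hx s) d2) hh1
    · rw [HomogeneousLocalization.val_add, e1, e2, Localization.add_mk]
      congr 1
      exact Subtype.ext (by simp [mul_add, pow_add])
  | mul z1 z2 _ _ h1 h2 =>
    obtain ⟨d1, h1, hh1, e1⟩ := h1
    obtain ⟨d2, h2, hh2, e2⟩ := h2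
    refine ⟨d1 + d2, h1 * h2, ?_, ?_⟩
    · rw [pow_add]
      exact Submodule.mul_mem_mul hh1 hh2
    · rw [HomogeneousLocalization.val_mul, e1, e2, Localization.mk_mul]
      congr 1
      exact Subtype.ext (by simp [mul_add, pow_add])
open HomogeneousLocalization in
/-- F4 -/
theorem key2 (x : A) (hx : x ∈ 𝒜 1) {s : ℕ} (hs : 0 < s)
    (hgen : Algebra.adjoin (𝒜 0)
      {z : HomogeneousLocalization.Away 𝒜 x |
        ∃ f ∈ 𝒜 s, z.val = Localization.mk f
          ⟨x ^ s, Submonoid.pow_mem _ (Submonoid.mem_powers x) s⟩} = ⊤)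
    (m : ℕ) (g : A) (hg : g ∈ 𝒜 (m * s)) :
    ∃ N : ℕ, x ^ (s * N) * g ∈ (𝒜 s) ^ (m + N) := by
  have hg' : g ∈ 𝒜 ((m * s) • 1) := by
    rw [smul_eq_mul, mul_one]
    exact hg
  have hz : HomogeneousLocalization.Away.mk 𝒜 hx (m * s) g hg' ∈ Algebra.adjoin (𝒜 0)
      {z : HomogeneousLocalization.Away 𝒜 x |
        ∃ f ∈ 𝒜 s, z.val = Localization.mk f
          ⟨x ^ s, Submonoid.pow_mem _ (Submonoid.mem_powers x) s⟩} := by
    rw [hgen]
    trivial
  obtain ⟨d, h, hh, e⟩ := key_i 𝒜 x hx hs _ hz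
  rw [HomogeneousLocalization.Away.val_mk, Localization.mk_eq_mk_iff,
    Localization.r_iff_exists] at e
  obtain ⟨⟨c, ⟨k, rfl⟩⟩, hc⟩ := e
  simp only at hc
  obtain ⟨s', rfl⟩ : ∃ s', s = s' + 1 := ⟨s - 1, by omega⟩
  refine ⟨k + d, ?_⟩
  have h1 : x ^ ((s' + 1) * (k + d)) * g = (x ^ (s' + 1)) ^ (k + m) * h := by
    have h2 : x ^ (s' * k) * (x ^ k * (x ^ ((s' + 1) * d) * g)) =
        x ^ (s' * k) * (x ^ k * (x ^ (m * (s' + 1)) * h)) := by
      rw [hc]
    calc x ^ ((s' + 1) * (k + d)) * g
        = x ^ (s' * k) * (x ^ k * (x ^ ((s' + 1) * d) * g)) := by ring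
      _ = x ^ (s' * k) * (x ^ k * (x ^ (m * (s' + 1)) * h)) := h2
      _ = _ := by ring
  rw [h1]
  have h3 : m + (k + d) = (k + m) + d := by ring
  rw [h3, pow_add]
  exact Submodule.mul_mem_mul (Submodule.pow_mem_pow _ (pow_s_mem 𝒜 hx _) _) hh
open HomogeneousLocalization in
/-- elements `h / τ^d` with `h ∈ (A_s)^d` are in the adjoin. -/
theorem mk_mem_adjoin (τ : A) (s : ℕ) (hτ : τ ∈ 𝒜 s) :
    ∀ (d : ℕ) (h : A) (hh : h ∈ (𝒜 s) ^ d),
      HomogeneousLocalization.Away.mk 𝒜 hτ d h
          (by rw [smul_eq_mul]; exact pow_le_graded 𝒜 s d hh) ∈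
        Algebra.adjoin (𝒜 0) {z : HomogeneousLocalization.Away 𝒜 τ |
          ∃ f ∈ 𝒜 s, z.val = Localization.mk f ⟨τ, Submonoid.mem_powers _⟩} := by
  intro d h hh
  induction hh using Submodule.pow_induction_on_left' with
  | algebraMap r =>
    have h1 : HomogeneousLocalization.Away.mk 𝒜 hτ 0 (algebraMap R A r)
        (by rw [smul_eq_mul]; exact pow_le_graded 𝒜 s 0 (Submodule.algebraMap_mem r)) =
        algebraMap (𝒜 0) (HomogeneousLocalization.Away 𝒜 τ)
          ⟨algebraMap R A r, SetLike.algebraMap_mem_graded 𝒜 r⟩ := by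
      apply HomogeneousLocalization.val_injective
      rw [HomogeneousLocalization.Away.val_mk]
      change _ = Localization.mk (algebraMap R A r) 1
      congr 1
      exact Subtype.ext (pow_zero τ)
    rw [h1]
    exact Subalgebra.algebraMap_mem _ _
  | add x y i hx hy ihx ihy =>
    have h1 : HomogeneousLocalization.Away.mk 𝒜 hτ i (x + y)
        (by rw [smul_eq_mul]; exact pow_le_graded 𝒜 s i (add_mem hx hy)) =
        HomogeneousLocalization.Away.mk 𝒜 hτ i x
          (by rw [smul_eq_mul]; exact pow_le_graded 𝒜 s i hx) +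
        HomogeneousLocalization.Away.mk 𝒜 hτ i y
          (by rw [smul_eq_mul]; exact pow_le_graded 𝒜 s i hy) := by
      apply HomogeneousLocalization.val_injective
      rw [HomogeneousLocalization.val_add, HomogeneousLocalization.Away.val_mk,
        HomogeneousLocalization.Away.val_mk, HomogeneousLocalization.Away.val_mk,
        Localization.add_mk_self]
    rw [h1]
    exact Subalgebra.add_mem _ ihx ihy
  | mem_mul m hm i x hx ih =>
    have hm1 : m ∈ 𝒜 (1 • s) := by
      rw [one_smul]
      exact hm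
    have h1 : HomogeneousLocalization.Away.mk 𝒜 hτ (i + 1) (m * x)
        (by rw [smul_eq_mul]
            exact pow_le_graded 𝒜 s (i + 1)
              ((pow_succ' (𝒜 s) i).symm ▸ (Submodule.mul_mem_mul hm hx))) =
        HomogeneousLocalization.Away.mk 𝒜 hτ 1 m hm1 *
        HomogeneousLocalization.Away.mk 𝒜 hτ i x
          (by rw [smul_eq_mul]; exact pow_le_graded 𝒜 s i hx) := by
      apply HomogeneousLocalization.val_injective
      rw [HomogeneousLocalization.val_mul, HomogeneousLocalization.Away.val_mk,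
        HomogeneousLocalization.Away.val_mk, HomogeneousLocalization.Away.val_mk,
        Localization.mk_mul]
      congr 1
      exact Subtype.ext (by simp [pow_succ'])
    rw [h1]
    refine Subalgebra.mul_mem _ (Algebra.subset_adjoin ⟨m, hm, ?_⟩) ih
    rw [HomogeneousLocalization.Away.val_mk]
    congr 1
    exact Subtype.ext (pow_one τ)

theorem prod_mem_pow {n : ℕ} (σ : Fin n → A) (hσ : ∀ i, σ i ∈ 𝒜 1) (s : ℕ) (e : Fin n → ℕ)
    (F : Finset (Fin n)) : ∏ j ∈ F, (σ j ^ s) ^ e j ∈ (𝒜 s) ^ (∑ j ∈ F, e j) := by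
  classical
  induction F using Finset.induction_on with
  | empty =>
    rw [Finset.prod_empty, Finset.sum_empty, pow_zero]
    exact Submodule.one_le.mp le_rfl
  | insert a F ha ih =>
    rw [Finset.prod_insert ha, Finset.sum_insert ha, pow_add]
    exact Submodule.mul_mem_mul (Submodule.pow_mem_pow _ (pow_s_mem 𝒜 (hσ a) s) _) ih
end

/-- Let A be a commutative algebra graded by the natural numbers, let σ_1, …, σ_n be homogeneous
elements of degree 1 and let s ≥ 1 be an integer such that, for every i, the degree-zero homogeneous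
localisation of A away from σ_i is generated over A_0 by the fractions f / σ_i ^ s with f
homogeneous of degree s. Then for every exponent vector K = (k_1, …, k_n) with k_1 + ⋯ + k_n = s,
the degree-zero homogeneous localisation of A away from the monomial σ^K = ∏ σ_i ^ (k_i) is
generated over A_0 by the fractions f / σ^K with f homogeneous of degree s. (Equivalently: the
natural map from the degree-zero localisation of the symmetric algebra on A_s, taken away from σ^K
viewed as an element of degree one, to the degree-zero localisation of A away from σ^K is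
surjective. The published lemma concerns the algebra of invariant sections of the powers of a
linearised line bundle on an irreducible projective scheme over a field, with the σ_i a basis of a
weight space of sections, and concludes a closed immersion of a quotient into an open piece of a
projective space; this row keeps only the graded-algebra step, for any commutative graded algebra,
with the base field replaced by A_0, which generates nothing new since a / 1 = a σ^s / σ^s for a of
degree zero.) -/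
theorem result
    {R : Type u} {A : Type v} [CommRing R] [CommRing A] [Algebra R A]
    (𝒜 : ℕ → Submodule R A) [GradedAlgebra 𝒜]
    {n : ℕ} (σ : Fin n → A) (hσ : ∀ i, σ i ∈ 𝒜 1) {s : ℕ} (hs : 0 < s)
    (hgen : ∀ i, Algebra.adjoin (𝒜 0)
      {z : HomogeneousLocalization.Away 𝒜 (σ i) |
        ∃ f ∈ 𝒜 s, z.val = Localization.mk f ⟨σ i ^ s, Submonoid.pow_mem _ (Submonoid.mem_powers (σ i)) s⟩} = ⊤)
    (K : Fin n → ℕ) (hK : ∑ i, K i = s) :
    Algebra.adjoin (𝒜 0)
      {z : HomogeneousLocalization.Away 𝒜 (∏ i, σ i ^ K i) |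
        ∃ f ∈ 𝒜 s, z.val = Localization.mk f ⟨∏ i, σ i ^ K i, Submonoid.mem_powers _⟩} = ⊤ := by

  classical
  set τ := ∏ i, σ i ^ K i with hτdef
  have hτ : τ ∈ 𝒜 s := by
    have h := SetLike.prod_pow_mem_graded (A := 𝒜) (F := Finset.univ) (g := σ)
      (i := fun _ => 1) K (fun k _ => hσ k)
    simp only [smul_eq_mul, mul_one] at h
    rw [hK] at h
    exact h
  obtain ⟨i, hi⟩ : ∃ i, 0 < K i := by
    by_contra hcon
    push Not at hcon
    have h0 : ∑ i, K i = 0 := Finset.sum_eq_zero (fun i _ => Nat.le_zero.mp (hcon i))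
    omega
  rw [eq_top_iff]
  rintro z -
  obtain ⟨m, g, hg, rfl⟩ := HomogeneousLocalization.Away.mk_surjective 𝒜 hτ z
  have hg2 : g ∈ 𝒜 (m * s) := by
    rw [← smul_eq_mul]
    exact hg
  obtain ⟨N, hN⟩ := key2 𝒜 (σ i) (hσ i) hs (hgen i) m g hg2
  have hbr : ∃ t : ℕ, ∃ br ∈ (𝒜 s) ^ t, τ ^ (s * N) = σ i ^ (s * N) * br ∧ s * N = N + t := by
    obtain ⟨k', hk'⟩ : ∃ k', K i = k' + 1 := ⟨K i - 1, by omega⟩
    refine ⟨k' * N + ∑ j ∈ Finset.univ.erase i, K j * N,
      (σ i ^ s) ^ (k' * N) * ∏ j ∈ Finset.univ.erase i, (σ j ^ s) ^ (K j * N), ?_, ?_, ?_⟩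
    · rw [pow_add]
      exact Submodule.mul_mem_mul (Submodule.pow_mem_pow _ (pow_s_mem 𝒜 (hσ i) s) _)
        (prod_mem_pow 𝒜 σ hσ s (fun j => K j * N) _)
    · have h1 : τ ^ (s * N) = ∏ j, (σ j ^ s) ^ (K j * N) := by
        rw [hτdef, ← Finset.prod_pow]
        apply Finset.prod_congr rfl
        intro j _
        rw [← pow_mul, ← pow_mul]
        congr 1
        ring
      rw [h1, ← Finset.mul_prod_erase Finset.univ _ (Finset.mem_univ i), hk']
      rw [← mul_assoc]
      congr 1
      rw [← pow_mul, ← pow_mul, ← pow_add]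
      congr 1
      ring
    · have h2 : s = K i + ∑ j ∈ Finset.univ.erase i, K j := by
        rw [← hK, Finset.add_sum_erase Finset.univ K (Finset.mem_univ i)]
      rw [← Finset.sum_mul]
      generalize (∑ j ∈ Finset.univ.erase i, K j) = T at h2
      rw [h2, hk']
      ring
  obtain ⟨t, br, hbrmem, hbreq, hst⟩ := hbr
  have hnum : g * τ ^ (s * N) ∈ (𝒜 s) ^ (m + s * N) := by
    have h1 : g * τ ^ (s * N) = (σ i ^ (s * N) * g) * br := by
      rw [hbreq]
      ring
    rw [h1]
    have e : m + s * N = (m + N) + t := by omega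
    rw [e, pow_add]
    exact Submodule.mul_mem_mul hN hbrmem
  have hz := mk_mem_adjoin 𝒜 τ s hτ (m + s * N) (g * τ ^ (s * N)) hnum
  convert hz using 1
  apply HomogeneousLocalization.val_injective
  rw [HomogeneousLocalization.Away.val_mk, HomogeneousLocalization.Away.val_mk,
    Localization.mk_eq_mk_iff, Localization.r_iff_exists]
  refine ⟨1, ?_⟩
  simp only [OneMemClass.coe_one, one_mul]
  ring

end Groth.Agent.S17466
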