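import Groth.Statements.S17468
import Mathlib

set_option autoImplicit false
universe u v w
open LieRep

namespace Groth.Agent.S17468

set_option linter.style.haveILetI false
section Helpers

open LieModule Module

lemma sum_sq_aux (N : ℤ) (m : ℕ) :
    3 * ∑ j ∈ Finset.range m, (N - 2 * j) ^ 2 =
      3 * m * N ^ 2 - 6 * N * m * (m - 1) + 2 * m * (m - 1) * (2 * m - 1) := by
  induction m with
  | zero => simp
  | succ m ih =>
    rw [Finset.sum_range_succ, mul_add, ih]
    push_cast
    ring

lemma choose_two_aux (n : ℕ) : 2 * (n + 1).choose 2 = n * (n + 1) := by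
  induction n with
  | zero => simp
  | succ n ih =>
    rw [Nat.choose_succ_succ' (n + 1) 1, Nat.choose_one_right, mul_add, ih]
    ring

lemma choose_three_aux (n : ℕ) : 6 * (n + 2).choose 3 = n * (n + 1) * (n + 2) := by
  induction n with
  | zero => simp
  | succ n ih =>
    have h2 := choose_two_aux (n + 1)
    rw [Nat.choose_succ_succ' (n + 2) 2, mul_add, ih]
    have : 6 * (n + 2).choose 2 = 3 * (2 * (n + 1 + 1).choose 2) := by ring
    rw [this, h2]
    ring

lemma sum_sq_eq {k : Type*} [Field k] [CharZero k] (n : ℕ) :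
    ∑ j ∈ Finset.range (n + 1), ((n : k) - 2 * j) ^ 2 = 2 * (((n + 2).choose 3 : ℕ) : k) := by
  have h1 := sum_sq_aux (n : ℤ) (n + 1)
  have h2 := choose_three_aux n
  have h3 : (3 : ℤ) * ∑ j ∈ Finset.range (n + 1), ((n : ℤ) - 2 * j) ^ 2 =
      6 * ((n + 2).choose 3 : ℕ) := by
    rw [h1]
    have : ((6 * (n + 2).choose 3 : ℕ) : ℤ) = ((n * (n + 1) * (n + 2) : ℕ) : ℤ) := by rw [h2]
    push_cast at this ⊢
    rw [this]
    ring
  have h4 := congrArg (Int.cast : ℤ → k) h3
  push_cast at h4
  have h5 : (3 : k) ≠ 0 := by norm_num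
  apply mul_left_cancel₀ h5
  rw [h4]
  ring


section Irr

variable {k : Type u} [Field k] [IsAlgClosed k] [CharZero k]
  {L : Type v} [LieRing L] [LieAlgebra k L]
  {h e f : L} (t : IsSl2Triple h e f) (hspan : t.toLieSubalgebra k = ⊤)
  (M : Type w) [AddCommGroup M] [Module k M] [LieRingModule L M] [LieModule k L M]
  [FiniteDimensional k M] [LieModule.IsIrreducible k L M]

include hspan in
lemma trace_irreducible :
    LinearMap.trace k M ((LieModule.toEnd k L M h) ^ 2) =
      2 * (((Module.finrank k M + 1).choose 3 : ℕ) : k) := by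
  haveI : Nontrivial M := LieModule.nontrivial_of_isIrreducible k L M
  obtain ⟨μ, m, hm, P⟩ := t.exists_hasPrimitiveVectorWith (R := k) (M := M)
  obtain ⟨n, hn⟩ := P.exists_nat
  set v : Fin (n + 1) → M := fun j => ((toEnd k L M f) ^ (j : ℕ)) m with hv
  have hvh : ∀ j : ℕ, ⁅h, ((toEnd k L M f) ^ j) m⁆ = ((n : k) - 2 * j) • ((toEnd k L M f) ^ j) m := by
    intro j
    rw [P.lie_h_pow_toEnd_f j, hn]
  have hvf : ∀ j : ℕ, ⁅f, ((toEnd k L M f) ^ j) m⁆ = ((toEnd k L M f) ^ (j + 1)) m :=
    fun j => P.lie_f_pow_toEnd_f j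
  have hve : ∀ j : ℕ, ⁅e, ((toEnd k L M f) ^ (j + 1)) m⁆ =
      (((j : k) + 1) * (μ - j)) • ((toEnd k L M f) ^ j) m := fun j => P.lie_e_pow_succ_toEnd_f j
  have hvtop : ((toEnd k L M f) ^ (n + 1)) m = 0 := P.pow_toEnd_f_eq_zero_of_eq_nat hn
  -- the span is a Lie submodule
  let N : Submodule k M := Submodule.span k (Set.range v)
  have hvN : ∀ j : ℕ, j ≤ n → ((toEnd k L M f) ^ j) m ∈ N := fun j hj =>
    Submodule.subset_span ⟨⟨j, by omega⟩, rfl⟩
  have hNh : ∀ x ∈ N, ⁅h, x⁆ ∈ N := by
    intro x hx
    induction hx using Submodule.span_induction with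
    | mem x hx =>
      obtain ⟨j, rfl⟩ := hx
      rw [hv]
      simp only
      rw [hvh]
      exact N.smul_mem _ (hvN j (by omega))
    | zero => simp
    | add x y _ _ hx hy => rw [lie_add]; exact N.add_mem hx hy
    | smul c x _ hx => rw [lie_smul]; exact N.smul_mem _ hx
  have hNf : ∀ x ∈ N, ⁅f, x⁆ ∈ N := by
    intro x hx
    induction hx using Submodule.span_induction with
    | mem x hx =>
      obtain ⟨j, rfl⟩ := hx
      rw [hv]
      simp only
      rw [hvf]
      rcases Nat.lt_or_ge (j : ℕ) n with hj | hj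
      · exact hvN _ (by omega)
      · have : (j : ℕ) + 1 = n + 1 := by omega
        rw [this, hvtop]; exact N.zero_mem
    | zero => simp
    | add x y _ _ hx hy => rw [lie_add]; exact N.add_mem hx hy
    | smul c x _ hx => rw [lie_smul]; exact N.smul_mem _ hx
  have hNe : ∀ x ∈ N, ⁅e, x⁆ ∈ N := by
    intro x hx
    induction hx using Submodule.span_induction with
    | mem x hx =>
      obtain ⟨⟨j, hj⟩, rfl⟩ := hx
      rw [hv]
      simp only
      cases j with
      | zero => simp [P.lie_e]
      | succ j =>
        rw [hve]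
        exact N.smul_mem _ (hvN j (by omega))
    | zero => simp
    | add x y _ _ hx hy => rw [lie_add]; exact N.add_mem hx hy
    | smul c x _ hx => rw [lie_smul]; exact N.smul_mem _ hx
  let N' : LieSubmodule k L M :=
    { N with
      lie_mem := by
        intro x y hy
        have hx : x ∈ t.toLieSubalgebra k := by rw [hspan]; trivial
        obtain ⟨c₁, c₂, c₃, rfl⟩ := IsSl2Triple.mem_toLieSubalgebra_iff.mp hx
        rw [t.lie_e_f, add_lie, add_lie, smul_lie, smul_lie, smul_lie]
        exact N.add_mem (N.add_mem (N.smul_mem _ (hNe y hy)) (N.smul_mem _ (hNf y hy)))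
          (N.smul_mem _ (hNh y hy)) }
  have hN'top : N' = ⊤ := by
    rcases IsSimpleOrder.eq_bot_or_eq_top N' with h0 | h1
    · exfalso
      have hmem : m ∈ N' := by
        have := hvN 0 (Nat.zero_le _)
        change m ∈ N
        simpa using this
      rw [h0] at hmem
      exact hm ((LieSubmodule.mem_bot _).mp hmem)
    · exact h1
  have hNtop : N = ⊤ := by
    have h1 : N'.toSubmodule = ⊤ := by rw [hN'top]; rfl
    exact h1
  -- linear independence
  have hli : LinearIndependent k v := by
    apply Module.End.eigenvectors_linearIndependent' (toEnd k L M h)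
      (fun j : Fin (n + 1) => (n : k) - 2 * (j : ℕ))
    · intro i j hij
      simp only at hij
      have : ((i : ℕ) : k) = ((j : ℕ) : k) := by
        have h2 : (2 : k) ≠ 0 := two_ne_zero
        have := sub_right_injective hij
        exact mul_left_cancel₀ h2 this
      exact Fin.ext (Nat.cast_injective this)
    · intro j
      refine ⟨?_, P.pow_toEnd_f_ne_zero_of_eq_nat hn (by omega)⟩
      rw [Module.End.mem_eigenspace_iff, toEnd_apply_apply]
      exact hvh j
  let b : Basis (Fin (n + 1)) k M := Basis.mk hli (by rw [← hNtop])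
  have hb : ∀ j, b j = v j := fun j => by simp [b]
  rw [LinearMap.trace_eq_matrix_trace k b, Matrix.trace]
  have hdiag : ∀ j : Fin (n + 1), (LinearMap.toMatrix b b ((toEnd k L M h) ^ 2)).diag j =
      ((n : k) - 2 * (j : ℕ)) ^ 2 := by
    intro j
    rw [Matrix.diag_apply, LinearMap.toMatrix_apply, hb]
    have : ((toEnd k L M h) ^ 2) (v j) = (((n : k) - 2 * (j : ℕ)) ^ 2) • v j := by
      rw [pow_two, Module.End.mul_apply, toEnd_apply_apply, toEnd_apply_apply, hv]
      simp only
      rw [hvh, lie_smul, hvh, smul_smul, pow_two]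
    rw [this, map_smul, ← hb, b.repr_self]
    simp
  rw [Finset.sum_congr rfl fun j _ => hdiag j, Fin.sum_univ_eq_sum_range
    (fun j => ((n : k) - 2 * (j : ℕ)) ^ 2) (n + 1), sum_sq_eq,
    Module.finrank_eq_card_basis b, Fintype.card_fin]

end Irr


theorem main
    (k : Type u) [Field k] [IsAlgClosed k] [CharZero k]
    (L : Type v) [LieRing L] [LieAlgebra k L]
    (h e f : L) (t : IsSl2Triple h e f) (hspan : t.toLieSubalgebra k = ⊤)
    (V : Type w) [AddCommGroup V] [Module k V] [LieRingModule L V] [LieModule k L V]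
    [FiniteDimensional k V]
    (ι : Type) [Fintype ι] [DecidableEq ι] (W : ι → LieSubmodule k L V)
    (hW : DirectSum.IsInternal fun i => (W i).toSubmodule)
    (hirr : ∀ i, LieModule.IsIrreducible k L (W i)) :
    LinearMap.trace k V ((LieModule.toEnd k L V h) ^ 2) =
      2 * ∑ i, (((Module.finrank k (W i) + 1).choose 3 : ℕ) : k) := by
  have hmaps : ∀ i, Set.MapsTo (⇑((toEnd k L V h) ^ 2 : Module.End k V))
      ((W i).toSubmodule : Set V) ((W i).toSubmodule : Set V) := by
    intro i x hx
    rw [pow_two, Module.End.mul_apply, toEnd_apply_apply, toEnd_apply_apply]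
    exact (W i).lie_mem ((W i).lie_mem hx)
  rw [LinearMap.trace_eq_sum_trace_restrict hW hmaps, Finset.mul_sum]
  refine Finset.sum_congr rfl fun i _ => ?_
  haveI := hirr i
  have h1 := trace_irreducible t hspan (W i)
  rw [← h1]
  congr 1


end Helpers

/-- Let k be an algebraically closed field of characteristic zero, L a Lie algebra over k spanned by an
sl_2-triple (h, e, f), and V a finite-dimensional L-module written as an internal direct sum of
finitely many irreducible Lie submodules V_i. Then the trace on V of the square of the action of h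
is 2 Σ_i C(dim V_i + 1, 3). (The published statement concerns a finite-dimensional representation V
of a simple Lie algebra restricted to the copy of sl_2 attached to the highest root θ, with h the
coroot θ^∨; there Σ_i C(dim V_i + 1, 3) is the index of V, and the trace is the sum over the weights
λ of V, with multiplicity, of ⟨λ, θ^∨⟩².) -/
theorem result
    (k : Type u) [Field k] [IsAlgClosed k] [CharZero k]
    (L : Type v) [LieRing L] [LieAlgebra k L]
    (h e f : L) (t : IsSl2Triple h e f) (hspan : t.toLieSubalgebra k = ⊤)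
    (V : Type w) [AddCommGroup V] [Module k V] [LieRingModule L V] [LieModule k L V]
    [FiniteDimensional k V]
    (ι : Type) [Fintype ι] [DecidableEq ι] (W : ι → LieSubmodule k L V)
    (hW : DirectSum.IsInternal fun i => (W i).toSubmodule)
    (hirr : ∀ i, LieModule.IsIrreducible k L (W i)) :
    LinearMap.trace k V ((LieModule.toEnd k L V h) ^ 2) =
      2 * ∑ i, (((Module.finrank k (W i) + 1).choose 3 : ℕ) : k) := by
  exact main k L h e f t hspan V ι W hW hirr

end Groth.Agent.S17468
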