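import Groth.Statements.S17471
import Mathlib

set_option autoImplicit false
universe u v w x
open RootCh

namespace Groth.Agent.S17471

open Set in
theorem pairingIn_zero_or_one
    {ι : Type*} {R : Type*} {M : Type*} {N : Type*}
    [Field R] [LinearOrder R] [IsStrictOrderedRing R]
    [AddCommGroup M] [Module R M] [AddCommGroup N] [Module R N] [Fintype ι]
    (P : RootPairing ι R M N) [P.IsRootSystem] [P.IsCrystallographic] [P.IsReduced]
    (b : P.Base) (θ : ι) (hθ : b.IsPos θ)
    (hmax : ∀ i : ι, b.IsPos i → P.root θ + P.root i ∉ Set.range P.root)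
    (i : ι) (hi : b.IsPos i) (hne : i ≠ θ) :
    P.pairingIn ℤ i θ = 0 ∨ P.pairingIn ℤ i θ = 1 := by
  have hnegidx : ∀ j : ι, b.height (P.reflectionPerm j j) = - b.height j := fun j =>
    b.height_reflectionPerm_self j
  have hrootneg : ∀ j : ι, P.root (P.reflectionPerm j j) = - P.root j := fun j => by
    rw [P.root_reflectionPerm, P.reflection_apply_self]
  -- `root i ≠ - root θ`
  have h1 : P.root i ≠ - P.root θ := by
    intro h
    rw [← hrootneg θ] at h
    have := P.root.injective h
    rw [RootPairing.Base.isPos_iff] at hi hθ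
    rw [this, hnegidx] at hi
    omega
  have h1' : P.root θ ≠ - P.root i := by
    intro h
    apply h1
    rw [h, neg_neg]
  -- m ≥ 0
  have h2 : 0 ≤ P.pairingIn ℤ i θ := by
    by_contra hcon
    push Not at hcon
    have := P.root_add_root_mem_of_pairingIn_neg hcon h1
    rw [add_comm] at this
    exact hmax i hi this
  have hli : LinearIndependent R ![P.root θ, P.root i] :=
    RootPairing.IsReduced.linearIndependent P hne.symm h1'
  have htop : P.chainTopCoeff θ i = 0 := by
    by_contra hcon
    have h3 : 1 ≤ P.chainTopCoeff θ i := Nat.one_le_iff_ne_zero.mpr hcon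
    have := (P.root_add_nsmul_mem_range_iff_le_chainTopCoeff hli).mpr h3
    rw [one_smul, add_comm] at this
    exact hmax i hi this
  have hbot := P.chainBotCoeff_sub_chainTopCoeff hli
  rw [htop] at hbot
  by_contra hcon
  push Not at hcon
  have h4 : 2 ≤ P.chainBotCoeff θ i := by
    have : (2 : ℤ) ≤ P.chainBotCoeff θ i := by
      simp only [Nat.cast_zero, sub_zero] at hbot
      rw [hbot]
      omega
    exact_mod_cast this
  obtain ⟨δ, hδ⟩ := (P.root_sub_nsmul_mem_range_iff_le_chainBotCoeff hli (n := 1)).mpr (by omega)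
  obtain ⟨ε, hε⟩ := (P.root_sub_nsmul_mem_range_iff_le_chainBotCoeff hli (n := 2)).mpr h4
  rw [one_smul] at hδ
  rcases lt_or_gt_of_ne (b.height_ne_zero δ) with hneg | hpos
  · -- δ negative
    have hpos' : b.IsPos (P.reflectionPerm δ δ) := by
      rw [RootPairing.Base.isPos_iff, hnegidx]; omega
    apply hmax _ hpos'
    refine ⟨P.reflectionPerm ε ε, ?_⟩
    rw [hrootneg, hrootneg, hε, hδ, two_smul]
    abel
  · apply hmax δ hpos
    exact ⟨i, by rw [hδ]; abel⟩

/-- Let Φ be a finite, reduced, crystallographic, irreducible root system with a base, and θ a positive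
root such that θ + β is a root for no positive root β (so θ is the highest root). Then Σ_{β>0} ⟨β,
θ^∨⟩² = 2 + Σ_{β>0} ⟨β, θ^∨⟩ = 2(1 + ⟨ρ, θ^∨⟩), ρ being half the sum of the positive roots; in the
source the left side is the index of the adjoint representation obtained from its formal character,
and 1 + ⟨ρ, θ^∨⟩ is the dual Coxeter number. -/
theorem result
    {ι : Type u} {R : Type v} {M : Type w} {N : Type x}
    [Field R] [LinearOrder R] [IsStrictOrderedRing R]
    [AddCommGroup M] [Module R M] [AddCommGroup N] [Module R N] [Fintype ι]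
    (P : RootPairing ι R M N) [P.IsRootSystem] [P.IsCrystallographic] [P.IsReduced]
    [P.IsIrreducible] (b : P.Base) (θ : ι) (hθ : b.IsPos θ)
    (hmax : ∀ i : ι, b.IsPos i → P.root θ + P.root i ∉ Set.range P.root) :
    ∑ i ∈ Finset.univ.filter (fun i => 0 < b.height i), P.pairing i θ ^ 2 =
      2 + ∑ i ∈ Finset.univ.filter (fun i => 0 < b.height i), P.pairing i θ := by
  classical
  have hkey : ∀ i ∈ (Finset.univ.filter (fun i => 0 < b.height i)).erase θ,
      P.pairing i θ ^ 2 = P.pairing i θ := by
    intro i hi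
    rw [Finset.mem_erase, Finset.mem_filter] at hi
    obtain ⟨hne, -, hpos⟩ := hi
    have := pairingIn_zero_or_one P b θ hθ hmax i hpos hne
    rw [← P.algebraMap_pairingIn ℤ]
    rcases this with h | h <;> rw [h] <;> simp
  have hmem : θ ∈ Finset.univ.filter (fun i => 0 < b.height i) := by
    rw [Finset.mem_filter]
    exact ⟨Finset.mem_univ _, hθ⟩
  rw [← Finset.add_sum_erase _ _ hmem, ← Finset.add_sum_erase _ (fun i => P.pairing i θ) hmem,
    Finset.sum_congr rfl hkey, P.pairing_same]
  ring

end Groth.Agent.S17471
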