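import Groth.Statements.S17476
import Groth.Agent.Lib.Helper2.TildeRestrict

set_option autoImplicit false
universe u
open CategoryTheory AlgebraicGeometry Opposite
open Coh

namespace Groth.Agent.S17476

/-- Let R be a Noetherian ring, Z = Spec R, M a finitely generated R-module with associated
quasi-coherent sheaf M~ (so that Hom_R(M, R) = Hom_Z(M~, O_Z)), and Z₀ ⊆ Z an open subscheme. (1) If
the restriction of functions Γ(Z, O_Z) → Γ(Z₀, O_Z) is injective, then the restriction map Hom_Z(M~,
O_Z) → Hom_{Z₀}(M~|Z₀, O_{Z₀}) is injective. (2) If R is an integrally closed domain and the closed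
complement of Z₀ has codimension at least 2 (every prime ideal outside Z₀ has height at least 2),
then that restriction map is bijective. (The published first assertion assumes only that Z₀ is
dense; for R = k[x,y]/(x², xy), M = R and Z₀ the locus y ≠ 0, which is dense, multiplication by x is
a nonzero element of Hom_R(M, R) restricting to zero, so schematic density is what is needed and
what the printed argument uses. The published second assertion is for a normal irreducible affine
variety; any Noetherian integrally closed domain is allowed here.) -/
theorem result (R : Type u) [CommRing R] [IsNoetherianRing R]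
    (M : ModuleCat.{u} (CommRingCat.of R)) [Module.Finite R M] (U : (Spec (CommRingCat.of R)).Opens) :
    (Function.Injective ((Spec (CommRingCat.of R)).presheaf.map (homOfLE (le_top : U ≤ ⊤)).op) →
      Function.Injective (fun φ : AlgebraicGeometry.tilde M ⟶ Coh.structureModule (Spec (CommRingCat.of R)) =>
        (Scheme.Modules.restrictFunctor U.ι).map φ)) ∧
    (IsDomain R → IsIntegrallyClosed R → (∀ p : PrimeSpectrum R, p ∉ U → (2 : ℕ∞) ≤ p.asIdeal.height) →
      Function.Bijective (fun φ : AlgebraicGeometry.tilde M ⟶ Coh.structureModule (Spec (CommRingCat.of R)) =>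
        (Scheme.Modules.restrictFunctor U.ι).map φ)) := by
  refine ⟨fun hinj => Groth.Agent.Lib.Helper2.TildeHom.restrict_injective R M U hinj, ?_⟩
  intro hD hIC hU
  haveI := hD
  haveI := hIC
  refine ⟨?_, Groth.Agent.Lib.Helper2.TildeHom.restrict_surjective R M U hU⟩
  apply Groth.Agent.Lib.Helper2.TildeHom.restrict_injective R M U
  -- restriction of functions to a nonempty open of an integral scheme is injective
  have hX := Groth.Agent.Lib.Helper2.TildeHom.isNormalScheme_spec R
  have hH := Groth.Agent.Lib.Helper9.WeilVal.hartogs_unit hX (le_top : U ≤ ⊤) (by
    intro x _ hx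
    exact Groth.Agent.Lib.Helper2.TildeHom.two_le_dim_stalk R x (hU x hx))
  exact hH.1

end Groth.Agent.S17476
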