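import Groth.Statements.S1748
import Groth.Agent.Lib.Helper2.Coind.Poly
import Groth.Agent.Lib.Helper22.DimShift
import Groth.Agent.Lib.Helper25.InjNoeth
import Groth.Agent.Lib.Helper13.DRingInj

set_option autoImplicit false
universe u
open CategoryTheory
open scoped TensorProduct Polynomial
attribute [local instance] HasDerivedCategory.standard
open InjHull

namespace Groth.Agent.S1748
section Aux
open CategoryTheory.Limits Groth.Agent.Lib.Helper2.Coind

/-- A module with a two-term injective coresolution has injective amplitude in `[0,1]`. -/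
theorem hasInjAmplitudeIn_of_shortExact (R : Type u) [CommRing R] (S : ShortComplex (ModuleCat.{u} R))
    (hS : S.ShortExact) [Injective S.X₂] [Injective S.X₃] :
    DRing.HasInjAmplitudeIn R 0 1 ((DerivedCategory.singleFunctor (ModuleCat.{u} R) 0).obj S.X₁) := by
  let J : InjectiveResolution S.X₃ := InjectiveResolution.self S.X₃
  let Rz : InjectiveResolution S.X₁ := Groth.Agent.Lib.Helper22.DimShift.splice S hS J
  refine ⟨Rz.cochainComplex, ?_, ?_, ⟨?_⟩⟩
  · rintro i (hi | hi)
    · exact CochainComplex.isZero_of_isStrictlyGE Rz.cochainComplex 0 i hi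
    · obtain ⟨k, rfl⟩ := Int.eq_ofNat_of_zero_le (show (0 : ℤ) ≤ i by lia)
      refine IsZero.of_iso ?_ (Rz.cochainComplexXIso (k : ℤ) k rfl)
      obtain ⟨m, rfl⟩ : ∃ m, k = m + 2 := ⟨k - 2, by lia⟩
      change IsZero (J.cocomplex.X (m + 1))
      exact HomologicalComplex.isZero_single_obj_X _ _ _ _ (by simp)
  · intro i
    rw [← Groth.Agent.Lib.Helper13.DR.injective_iff]
    infer_instance
  · haveI : IsIso (DerivedCategory.Q.map Rz.ι') := by
      rw [DerivedCategory.isIso_Q_map_iff_quasiIso]; infer_instance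
    exact (asIso (DerivedCategory.Q.map Rz.ι')).symm ≪≫
      ((DerivedCategory.singleFunctorIsoCompQ (ModuleCat.{u} R) 0).app S.X₁).symm

open Polynomial in
theorem injective_polyTensor (A : Type u) [CommRing A] [IsNoetherianRing A] (E : Type u)
    [AddCommGroup E] [Module A E] [Module.Injective A E] :
    Module.Injective A (A[X] ⊗[A] E) := by
  have h1 : Module.Injective A (DirectSum (ULift.{u} ℕ) fun _ => E) :=
    Groth.Agent.Lib.Helper25.injective_directSum (fun _ : ULift.{u} ℕ => E)
      (fun _ => inferInstance)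
  let e : (DirectSum (ULift.{u} ℕ) fun _ => E) ≃ₗ[A] (A[X] ⊗[A] E) :=
    ((TensorProduct.congr (Polynomial.basisMonomials A).repr (LinearEquiv.refl A E)) ≪≫ₗ
      (TensorProduct.finsuppScalarLeft A E ℕ) ≪≫ₗ
      (Finsupp.domLCongr (Equiv.ulift.{u, 0}.symm : ℕ ≃ ULift.{u} ℕ)) ≪≫ₗ
      (finsuppLEquivDirectSum A E (ULift.{u} ℕ))).symm
  exact Module.Baer.injective (Module.Baer.of_equiv e (Module.Baer.of_injective h1))

end Aux

open Polynomial Groth.Agent.Lib.Helper2.Coind in

/-- Let A be a Noetherian ring and E an injective A-module. Then A[x] ⊗_A E, as an object of D(A[x]) in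
degree 0, has injective amplitude in [0, 1]: it is quasi-isomorphic to a complex of injective
A[x]-modules concentrated in degrees 0 and 1. In particular it has finite injective dimension. -/
theorem result (A : Type u) [CommRing A] [IsNoetherianRing A] (E : Type u) [AddCommGroup E] [Module A E] [Module.Injective A E] : DRing.HasInjAmplitudeIn A[X] 0 1 (Dual.inD A[X] (A[X] ⊗[A] E)) := by
  classical
  haveI hN : Module.Injective A (A[X] ⊗[A] E) := injective_polyTensor A E
  haveI hJ : Module.Injective A[X] (Coind A A[X] (A[X] ⊗[A] E)) := coind_injective A A[X] _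
  let S : ShortComplex (ModuleCat.{u} A[X]) :=
    ShortComplex.mk (ModuleCat.ofHom (ιC A (A[X] ⊗[A] E))) (ModuleCat.ofHom (dC A (A[X] ⊗[A] E)))
      (by
        ext m
        exact dC_comp_ιC m)
  have hS : S.ShortExact := by
    exact ModuleCat.shortComplex_shortExact S exact_ιC_dC ιC_injective dC_surjective
  haveI : Injective S.X₂ :=
    (Groth.Agent.Lib.Helper13.DR.injective_iff (ModuleCat.of A[X] (Coind A A[X] (A[X] ⊗[A] E)))).mpr hJ
  haveI : Injective S.X₃ :=
    (Groth.Agent.Lib.Helper13.DR.injective_iff (ModuleCat.of A[X] (Coind A A[X] (A[X] ⊗[A] E)))).mpr hJ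
  exact hasInjAmplitudeIn_of_shortExact A[X] S hS

end Groth.Agent.S1748
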