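import Groth.Statements.S17483
import Groth.Agent.Lib.Helper25.IdealConn

set_option autoImplicit false
universe u
open CategoryTheory CategoryTheory.Limits AlgebraicGeometry
open Surf

namespace Groth.Agent.S17483

/-- Let k be an algebraically closed field of characteristic zero and X a smooth projective surface over
k (an integral scheme of dimension two with all local rings regular, admitting a closed immersion
into some P^n_k over k) such that H^1(X, O_X) = 0. Let D be a closed subscheme of X, given by a
quasi-coherent ideal sheaf whose associated O_X-module I_D is invertible (an effective divisor). If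
D is connected and reduced, then H^1(X, I_D) = 0. (The published statement asserts H^1(X, I_D) = 0
as soon as the linear system of D contains a connected curve, without reducedness; that fails: on
the blow-up of the projective plane at a point, with exceptional curve E, the divisor D = 2E is
connected and is the only member of its linear system, yet H^0(O_{2E}) is three-dimensional, so
H^1(X, I_{2E}) is two-dimensional. The published statement is for rational surfaces; this row
assumes H^1(X, O_X) = 0 instead.) -/
theorem result
    (k : Type u) [Field k] [IsAlgClosed k] [CharZero k]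
    (X : Scheme.{u}) [X.Over (Spec (CommRingCat.of k))] [AlgebraicGeometry.IsIntegral X]
    (hdim : topologicalKrullDim X = 2) (hreg : ∀ x : X, IsRegularLocalRing (X.presheaf.stalk x))
    (hproj : ∃ (n : ℕ) (ι : X ⟶ CohB1.ProjSpace n k), IsClosedImmersion ι ∧
      ι ≫ CohB1.ProjSpace.toSpec n k = (X ↘ (Spec (CommRingCat.of k))))
    (hH1 : Subsingleton (Coh.HH X (Coh.structureModule X) 1))
    (D : X.IdealSheafData) (hD : PicF.IsInvertible (ClSub.idealMod D))
    [ConnectedSpace ↥D.subscheme] [IsReduced D.subscheme] :
    Subsingleton (Coh.HH X (ClSub.idealMod D) 1) := by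
  obtain ⟨n, ι, hι, hcomp⟩ := hproj
  haveI := hι
  haveI : UniversallyClosed (X ↘ Spec (CommRingCat.of k)) := by
    rw [← hcomp]
    infer_instance
  haveI : UniversallyClosed (Over.mk (D.subschemeι ≫ (X ↘ Spec (CommRingCat.of k)))).hom :=
    inferInstanceAs (UniversallyClosed (D.subschemeι ≫ (X ↘ Spec (CommRingCat.of k))))
  haveI : IsReduced (Over.mk (D.subschemeι ≫ (X ↘ Spec (CommRingCat.of k)))).left :=
    inferInstanceAs (IsReduced D.subscheme)
  haveI : ConnectedSpace (Over.mk (D.subschemeι ≫ (X ↘ Spec (CommRingCat.of k)))).left :=
    inferInstanceAs (ConnectedSpace D.subscheme)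
  have hD := Groth.Agent.Lib.Helper10.RigidAA.bijective_of_universallyClosed
    (Over.mk (D.subschemeι ≫ (X ↘ Spec (CommRingCat.of k))))
  have h2 : ((Scheme.ΓSpecIso (CommRingCat.of k)).inv ≫
      (D.subschemeι ≫ (X ↘ Spec (CommRingCat.of k))).appTop).hom =
      D.subschemeι.appTop.hom.comp
        ((Scheme.ΓSpecIso (CommRingCat.of k)).inv ≫ (X ↘ Spec (CommRingCat.of k)).appTop).hom := by
    rw [Scheme.Hom.comp_appTop]
    rfl
  have hsurj : Function.Surjective D.subschemeι.appTop.hom := by
    have h3 : Function.Surjective ((Scheme.ΓSpecIso (CommRingCat.of k)).inv ≫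
      (D.subschemeι ≫ (X ↘ Spec (CommRingCat.of k))).appTop).hom := hD.2
    rw [h2, RingHom.coe_comp] at h3
    exact Function.Surjective.of_comp h3
  exact Groth.Agent.Lib.Helper25.HypTwist.subsingleton_HH_one_idealMod D hsurj hH1

end Groth.Agent.S17483
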