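import Groth.Statements.S17487
-- import your own Groth.Agent.* helpers here

set_option autoImplicit false
universe u
open CategoryTheory CategoryTheory.Limits AlgebraicGeometry
open Coherent

namespace Groth.Agent.S17487

section helpers
variable {C : Type*} [Category C] [Abelian C] [HasExt.{u} C]

lemma subsingleton_ext_coprod_left {m : ℕ} (f : Fin m → C) [HasColimit (Discrete.functor f)]
    (B : C) (p : ℕ)
    (h : ∀ t, Subsingleton (Abelian.Ext (f t) B p)) : Subsingleton (Abelian.Ext (∐ f) B p) :=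
  (Abelian.Ext.biproductAddEquiv
    (biconeIsBilimitOfColimitCoconeOfIsColimit (colimit.isColimit (Discrete.functor f))) B
      p).toEquiv.subsingleton

lemma subsingleton_ext_coprod_right {m : ℕ} (f : Fin m → C) [HasColimit (Discrete.functor f)]
    (A : C) (p : ℕ)
    (h : ∀ t, Subsingleton (Abelian.Ext A (f t) p)) : Subsingleton (Abelian.Ext A (∐ f) p) :=
  (Abelian.Ext.addEquivBiproduct A
    (biconeIsBilimitOfColimitCoconeOfIsColimit (colimit.isColimit (Discrete.functor f)))
      p).toEquiv.subsingleton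

lemma subsingleton_ext_of_iso_left {A A' : C} (e : A ≅ A') (B : C) (p : ℕ)
    (h : Subsingleton (Abelian.Ext A' B p)) : Subsingleton (Abelian.Ext A B p) := by
  refine ⟨fun x y => ?_⟩
  have key : ∀ z : Abelian.Ext A B p, z = 0 := by
    intro z
    have h1 : (Abelian.Ext.mk₀ e.hom).comp ((Abelian.Ext.mk₀ e.inv).comp z (zero_add p))
        (zero_add p) = z := by
      rw [Abelian.Ext.mk₀_comp_mk₀_assoc, e.hom_inv_id, Abelian.Ext.mk₀_id_comp]
    rw [← h1, h.elim ((Abelian.Ext.mk₀ e.inv).comp z (zero_add p)) 0, Abelian.Ext.comp_zero]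
  rw [key x, key y]

lemma subsingleton_ext_of_iso_right (A : C) {B B' : C} (e : B ≅ B') (p : ℕ)
    (h : Subsingleton (Abelian.Ext A B' p)) : Subsingleton (Abelian.Ext A B p) := by
  refine ⟨fun x y => ?_⟩
  have key : ∀ z : Abelian.Ext A B p, z = 0 := by
    intro z
    have h1 : (z.comp (Abelian.Ext.mk₀ e.hom) (add_zero p)).comp (Abelian.Ext.mk₀ e.inv)
        (add_zero p) = z := by
      rw [Abelian.Ext.comp_assoc_of_second_deg_zero, Abelian.Ext.mk₀_comp_mk₀, e.hom_inv_id,
        Abelian.Ext.comp_mk₀_id]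
    rw [← h1, h.elim (z.comp (Abelian.Ext.mk₀ e.hom) (add_zero p)) 0, Abelian.Ext.zero_comp]
  rw [key x, key y]

end helpers

/-- Let k be an algebraically closed field of characteristic zero and Y a smooth projective variety over
k (an integral scheme, smooth over k, with a closed immersion into some P^n_k over k). Let E_1, …,
E_n be coherent O_Y-modules forming a strong exceptional sequence, expressed through Ext groups in
the category of O_Y-modules (the Ext instance is the stated hypothesis; it holds): End(E_i) is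
one-dimensional over k, Ext^p(E_i, E_j) = 0 for all p when i > j, and Ext^p(E_i, E_j) = 0 for all i,
j when p ≥ 1 (indices here run over 0, …, n-1). Let d ≤ n and let 0 → K → M → F → 0 be a short exact
sequence of O_Y-modules in which K is isomorphic to a finite direct sum of copies of members E_i
with i < d and M to a finite direct sum of copies of members E_i with i ≥ d (a two-term resolution
of F by the sequence, split at d). Then Ext^p(E_i, F) = 0 for every i and every p ≥ 1, and Ext^p(F,
E_i) = 0 for every i < d and every p ≠ 1. (The published criterion also asks that the sequence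
generate the derived category, states the first vanishing only for i ≥ d, and adds conditions on
terms of the associated filtration and cofiltration of F, which are not restated here; the
vanishings above follow from the resolution alone.) -/
theorem result
    (k : Type u) [Field k] [IsAlgClosed k] [CharZero k]
    (Y : Scheme.{u}) [Y.Over (Spec (CommRingCat.of k))] [AlgebraicGeometry.IsIntegral Y]
    [Smooth (Y ↘ Spec (CommRingCat.of k))]
    (hproj : ∃ (N : ℕ) (ι : Y ⟶ CohB1.ProjSpace N k), IsClosedImmersion ι ∧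
      ι ≫ CohB1.ProjSpace.toSpec N k = (Y ↘ (Spec (CommRingCat.of k))))
    [HasExt.{u} Y.Modules]
    (n d : ℕ) (hdn : d ≤ n) (E : Fin n → Y.Modules) (hEcoh : ∀ i, Coh.IsCoh (E i))
    (hend : ∀ i, Module.finrank k (E i ⟶ E i) = 1)
    (hexc : ∀ i j : Fin n, j < i → ∀ p : ℕ, Subsingleton (Abelian.Ext (E i) (E j) p))
    (hstr : ∀ (i j : Fin n) (p : ℕ), 1 ≤ p → Subsingleton (Abelian.Ext (E i) (E j) p))
    (S : ShortComplex Y.Modules) (hS : S.ShortExact)
    (m₁ : ℕ) (c₁ : Fin m₁ → Fin n) (hc₁ : ∀ t, (c₁ t : ℕ) < d) (e₁ : S.X₁ ≅ ∐ fun t => E (c₁ t))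
    (m₂ : ℕ) (c₂ : Fin m₂ → Fin n) (hc₂ : ∀ t, d ≤ (c₂ t : ℕ)) (e₂ : S.X₂ ≅ ∐ fun t => E (c₂ t)) :
    (∀ (i : Fin n) (p : ℕ), 1 ≤ p → Subsingleton (Abelian.Ext (E i) S.X₃ p)) ∧
      (∀ i : Fin n, (i : ℕ) < d → ∀ p : ℕ, p ≠ 1 → Subsingleton (Abelian.Ext S.X₃ (E i) p)) := by
  haveI : HasFiniteCoproducts Y.Modules := inferInstance
  -- vanishing of Ext from/to K and M
  have hK_right : ∀ (i : Fin n) (p : ℕ), 1 ≤ p → Subsingleton (Abelian.Ext (E i) S.X₁ p) := by
    intro i p hp
    exact subsingleton_ext_of_iso_right (E i) e₁ p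
      (subsingleton_ext_coprod_right _ (E i) p (fun t => hstr i (c₁ t) p hp))
  have hM_right : ∀ (i : Fin n) (p : ℕ), 1 ≤ p → Subsingleton (Abelian.Ext (E i) S.X₂ p) := by
    intro i p hp
    exact subsingleton_ext_of_iso_right (E i) e₂ p
      (subsingleton_ext_coprod_right _ (E i) p (fun t => hstr i (c₂ t) p hp))
  have hK_left : ∀ (i : Fin n) (p : ℕ), 1 ≤ p → Subsingleton (Abelian.Ext S.X₁ (E i) p) := by
    intro i p hp
    exact subsingleton_ext_of_iso_left e₁ (E i) p
      (subsingleton_ext_coprod_left _ (E i) p (fun t => hstr (c₁ t) i p hp))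
  have hM_left : ∀ (i : Fin n), (i : ℕ) < d → ∀ p : ℕ, Subsingleton (Abelian.Ext S.X₂ (E i) p) := by
    intro i hi p
    refine subsingleton_ext_of_iso_left e₂ (E i) p
      (subsingleton_ext_coprod_left _ (E i) p (fun t => hexc (c₂ t) i ?_ p))
    exact Fin.lt_def.2 (lt_of_lt_of_le hi (hc₂ t))
  refine ⟨fun i p hp => ⟨fun x y => ?_⟩, fun i hi p hp => ⟨fun x y => ?_⟩⟩
  · have key : ∀ z : Abelian.Ext (E i) S.X₃ p, z = 0 := by
      intro z
      have h0 : z.comp hS.extClass (rfl : p + 1 = p + 1) = 0 :=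
        (hK_right i (p + 1) (by omega)).elim _ _
      obtain ⟨x₂, hx₂⟩ := Abelian.Ext.covariant_sequence_exact₃ (E i) hS z rfl h0
      rw [← hx₂, (hM_right i p hp).elim x₂ 0, Abelian.Ext.zero_comp]
    rw [key x, key y]
  · have key : ∀ z : Abelian.Ext S.X₃ (E i) p, z = 0 := by
      intro z
      have h0 : (Abelian.Ext.mk₀ S.g).comp z (zero_add p) = 0 := (hM_left i hi p).elim _ _
      rcases Nat.eq_zero_or_pos p with hp0 | hp0
      · subst hp0
        obtain ⟨φ, rfl⟩ := (Abelian.Ext.mk₀_bijective S.X₃ (E i)).2 z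
        rw [Abelian.Ext.mk₀_comp_mk₀, Abelian.Ext.mk₀_eq_zero_iff] at h0
        haveI := hS.epi_g
        have hφ : φ = 0 := by
          rw [← cancel_epi S.g, h0, comp_zero]
        rw [hφ, Abelian.Ext.mk₀_zero]
      · obtain ⟨q, rfl⟩ : ∃ q, p = 1 + q := ⟨p - 1, by omega⟩
        obtain ⟨x₁, hx₁⟩ := Abelian.Ext.contravariant_sequence_exact₃ hS (E i) z h0
          (rfl : 1 + q = 1 + q)
        rw [← hx₁, (hK_left i q (by omega)).elim x₁ 0, Abelian.Ext.comp_zero]
    rw [key x, key y]

end Groth.Agent.S17487
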