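import Groth.Statements.S1749
import Groth.Agent.Lib.Helper13.FinLenDual2
import Groth.Agent.Lib.Helper25.MatlisEnd
import Groth.Agent.Lib.Helper7.QuasiFiniteLocal

set_option autoImplicit false
universe u
open CategoryTheory
attribute [local instance] HasDerivedCategory.standard
open Dual

namespace Groth.Agent.S1749

/-- Let A be a Noetherian local ring with a normalized dualizing complex ω and κ → E an injective hull
of the residue field. For every A-module N of finite length, the maps N → ω[i] in D(A) vanish for i
≠ 0, and the A-module of maps N → ω is isomorphic to Hom_A(N, E). (The source gives this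
functorially in N; here only the existence of the isomorphism for each N is asserted.) -/
theorem result (A : Type u) [CommRing A] [IsLocalRing A] [IsNoetherianRing A] (ω : Dual.D A) (hω : Dual.IsDualizing A ω) (hn : Dual.IsNormalized A ω) (E : Type u) [AddCommGroup E] [Module A E] (f : IsLocalRing.ResidueField A →ₗ[A] E) (hf : InjHull.IsInjectiveHull f) (N : Type u) [AddCommGroup N] [Module A N] (hN : IsFiniteLength A N) : (∀ i : ℤ, i ≠ 0 → Subsingleton (Dual.inD A N ⟶ ω⟦i⟧)) ∧ Nonempty ((Dual.inD A N ⟶ ω) ≃ₗ[A] (N →ₗ[A] E)) := by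
  classical
  refine ⟨fun i hi => ?_, ?_⟩
  · exact Groth.Agent.Lib.Helper13.DualBC.subsingleton_hom_of_isFiniteLength (ω⟦i⟧) (fun m hm => by
      rw [IsLocalRing.eq_maximalIdeal hm]
      exact hn i hi) N hN
  · obtain ⟨hN1, hN2⟩ := isFiniteLength_iff_isNoetherian_isArtinian.1 hN
    have : IsNoetherian A N := hN1
    have : IsArtinian A N := hN2
    obtain ⟨k, hk⟩ := Groth.Agent.Lib.Helper7.exists_pow_maximalIdeal_smul_top_eq_bot A N
    let I : Ideal A := IsLocalRing.maximalIdeal A ^ (k + 1)
    have hIle : I ≤ IsLocalRing.maximalIdeal A := Ideal.pow_le_self (Nat.succ_ne_zero k)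
    have hkill : ∀ a ∈ I, ∀ x : N, a • x = 0 := by
      intro a ha x
      have h1 : a ∈ IsLocalRing.maximalIdeal A ^ k := Ideal.pow_le_pow_right (Nat.le_succ k) ha
      have h2 : a • x ∈ (IsLocalRing.maximalIdeal A ^ k • ⊤ : Submodule A N) :=
        Submodule.smul_mem_smul h1 Submodule.mem_top
      rw [hk] at h2
      exact (Submodule.mem_bot A).1 h2
    let B := A ⧸ I
    have : Nontrivial B := Ideal.Quotient.nontrivial_iff.2 (fun h => by
      rw [h] at hIle
      exact (IsLocalRing.maximalIdeal.isMaximal A).ne_top (top_le_iff.1 hIle))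
    have : IsLocalRing B :=
      IsLocalRing.of_surjective' (Ideal.Quotient.mk I) Ideal.Quotient.mk_surjective
    have hB : IsFiniteLength A B := Groth.Agent.Lib.Helper25.isFiniteLength_quotient_pow (k + 1)
    have : IsArtinianRing B := by
      obtain ⟨-, h2⟩ := isFiniteLength_iff_isNoetherian_isArtinian.1 hB
      exact isArtinian_of_tower A h2
    let _ : Module B N := Module.IsTorsionBySet.module (fun x a => hkill a.1 a.2 x)
    have : IsScalarTower A B N := Module.IsTorsionBySet.isScalarTower _
    exact Groth.Agent.Lib.Helper13.FLD.nonempty_hom_linearEquiv A B hB ω hω hn E f hf N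

end Groth.Agent.S1749
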