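import Groth.Statements.S17500
import Mathlib

set_option autoImplicit false
universe u
open TorsMod

namespace Groth.Agent.S17500

open TensorProduct

theorem ann_pow (p n : ℕ) [Fact p.Prime] (i : ℕ) (hi : i ≤ n) (a : ZMod (p ^ n))
    (h : (p ^ i : ZMod (p ^ n)) * a = 0) : ∃ b : ZMod (p ^ n), a = (p ^ (n - i) : ZMod (p ^ n)) * b := by
  have hp : p.Prime := Fact.out
  have : NeZero (p ^ n) := ⟨pow_ne_zero _ hp.ne_zero⟩
  obtain ⟨a', rfl⟩ := ZMod.natCast_zmod_surjective a
  have h1 : ((p ^ i * a' : ℕ) : ZMod (p ^ n)) = 0 := by push_cast; exact h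
  rw [ZMod.natCast_eq_zero_iff] at h1
  have h2 : p ^ n = p ^ i * p ^ (n - i) := by rw [← pow_add]; congr 1; omega
  rw [h2] at h1
  have h3 : p ^ (n - i) ∣ a' := (Nat.mul_dvd_mul_iff_left (pow_pos hp.pos i)).mp h1
  obtain ⟨b', rfl⟩ := h3
  exact ⟨(b' : ZMod (p ^ n)), by push_cast; rfl⟩

theorem pow_self_eq_zero (p n : ℕ) : ((p : ZMod (p ^ n)) ^ n) = 0 := by
  have := ZMod.natCast_self (p ^ n)
  push_cast at this
  exact this

theorem flat_of_cond (p n : ℕ) [Fact p.Prime]
    (H : Type*) [AddCommGroup H] [Module (ZMod (p ^ n)) H]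
    (hcond : ∀ i : ℕ, i ≤ n → ∀ h : H, (p ^ i : ZMod (p ^ n)) • h = 0 →
      ∃ h' : H, h = (p ^ (n - i) : ZMod (p ^ n)) • h') :
    Module.Flat (ZMod (p ^ n)) H := by
  have hp : p.Prime := Fact.out
  have hne : NeZero (p ^ n) := ⟨pow_ne_zero _ hp.ne_zero⟩
  have hpir : IsPrincipalIdealRing (ZMod (p ^ n)) :=
    IsPrincipalIdealRing.of_surjective (Int.castRingHom (ZMod (p ^ n))) ZMod.intCast_surjective
  rw [Module.Flat.iff_rTensor_injective']
  intro I
  obtain ⟨a, ha⟩ := (hpir.principal I).principal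
  have haI : a ∈ I := by rw [ha]; exact Submodule.mem_span_singleton_self a
  rw [injective_iff_map_eq_zero]
  intro z hz
  -- every tensor is of the form `⟨a⟩ ⊗ h`
  have hform : ∀ z : I ⊗[ZMod (p ^ n)] H, ∃ h : H, z = (⟨a, haI⟩ : I) ⊗ₜ[ZMod (p ^ n)] h := by
    intro z
    induction z using TensorProduct.induction_on with
    | zero => exact ⟨0, by simp⟩
    | tmul x h =>
      obtain ⟨x, hx⟩ := x
      have hx' := hx
      rw [ha] at hx'
      obtain ⟨r, hr⟩ := Submodule.mem_span_singleton.mp hx'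
      refine ⟨r • h, ?_⟩
      rw [TensorProduct.tmul_smul, TensorProduct.smul_tmul']
      congr 1
      exact Subtype.ext hr.symm
    | add x y hx hy =>
      obtain ⟨h1, rfl⟩ := hx
      obtain ⟨h2, rfl⟩ := hy
      exact ⟨h1 + h2, by rw [TensorProduct.tmul_add]⟩
  obtain ⟨h, rfl⟩ := hform z
  -- `a • h = 0`
  have hah : a • h = 0 := by
    have := congrArg (TensorProduct.lid (ZMod (p ^ n)) H) hz
    simpa using this
  by_cases ha0 : a = 0
  · have : (⟨a, haI⟩ : I) = 0 := Subtype.ext ha0
    rw [this, TensorProduct.zero_tmul]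
  -- write `a = p^i * c` with `c` a unit
  obtain ⟨a', ha'⟩ := ZMod.natCast_zmod_surjective a
  have ha'0 : a' ≠ 0 := by
    rintro rfl
    exact ha0 (by rw [← ha']; simp)
  obtain ⟨i, c, hpc, hic⟩ := Nat.exists_eq_pow_mul_and_not_dvd ha'0 p hp.ne_one
  have hcu : IsUnit (c : ZMod (p ^ n)) := by
    rw [ZMod.isUnit_iff_coprime]
    exact Nat.Coprime.pow_right n ((Nat.Prime.coprime_iff_not_dvd hp).mpr hpc).symm
  have hacast : a = (p ^ i : ZMod (p ^ n)) * (c : ZMod (p ^ n)) := by
    rw [← ha', hic]; push_cast; rfl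
  have hin : i ≤ n := by
    by_contra hcon
    push Not at hcon
    apply ha0
    rw [hacast]
    have : (p : ZMod (p ^ n)) ^ i = 0 := by
      have h1 : i = n + (i - n) := by omega
      rw [h1, pow_add, pow_self_eq_zero, zero_mul]
    rw [this, zero_mul]
  -- `p^i • h = 0`
  have hpih : (p ^ i : ZMod (p ^ n)) • h = 0 := by
    obtain ⟨u, hu⟩ := hcu
    have h1 : (↑(u⁻¹) : ZMod (p ^ n)) • (a • h) = 0 := by rw [hah, smul_zero]
    rw [hacast, ← hu, smul_smul] at h1
    have h2 : (↑u⁻¹ : ZMod (p ^ n)) * ((p : ZMod (p ^ n)) ^ i * ↑u) = (p : ZMod (p ^ n)) ^ i := by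
      rw [mul_comm ((p : ZMod (p ^ n)) ^ i), ← mul_assoc, Units.inv_mul, one_mul]
    rw [h2] at h1
    exact h1
  obtain ⟨h', rfl⟩ := hcond i hin h hpih
  rw [TensorProduct.tmul_smul, TensorProduct.smul_tmul']
  have : ((p : ZMod (p ^ n)) ^ (n - i)) • (⟨a, haI⟩ : I) = 0 := by
    apply Subtype.ext
    simp only [Submodule.coe_smul, smul_eq_mul, Submodule.coe_zero]
    rw [hacast, ← mul_assoc, ← pow_add]
    have : n - i + i = n := by omega
    rw [this, pow_self_eq_zero, zero_mul]
  rw [this, TensorProduct.zero_tmul]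

/-- Let p be a prime number, n a natural number and H a module over ℤ/p^nℤ. Then H is flat over ℤ/p^nℤ
if and only if, for every i with 0 ≤ i ≤ n, the kernel of multiplication by p^i on H coincides with
the image of multiplication by p^(n-i) on H. (The published item is phrased for an fppf sheaf of
ℤ/p^nℤ-modules on a scheme; this is the case of a single module, which is the case the argument
treats.) -/
theorem result (p n : ℕ) [Fact p.Prime]
    (H : Type u) [AddCommGroup H] [Module (ZMod (p ^ n)) H] :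
    Module.Flat (ZMod (p ^ n)) H ↔
      ∀ i : ℕ, i ≤ n →
        LinearMap.ker ((p ^ i : ZMod (p ^ n)) • (LinearMap.id : H →ₗ[ZMod (p ^ n)] H)) =
          LinearMap.range ((p ^ (n - i) : ZMod (p ^ n)) • (LinearMap.id : H →ₗ[ZMod (p ^ n)] H)) := by
  constructor
  · intro hflat i hi
    apply le_antisymm
    · intro h hh
      rw [LinearMap.mem_ker] at hh
      have hh' : (p ^ i : ZMod (p ^ n)) • h = 0 := by simpa using hh
      have hrel : ∑ _j : Fin 1, (fun _ : Fin 1 => (p ^ i : ZMod (p ^ n))) _j •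
          (fun _ : Fin 1 => h) _j = 0 := by simpa using hh'
      obtain ⟨k, a, y, hxy, hfa⟩ := Module.Flat.isTrivialRelation_of_sum_smul_eq_zero hrel
      have hb : ∀ j : Fin k, ∃ b : ZMod (p ^ n), a 0 j = (p ^ (n - i) : ZMod (p ^ n)) * b := by
        intro j
        have := hfa j
        simp only [Finset.univ_unique, Fin.default_eq_zero, Fin.isValue,
          Finset.sum_singleton] at this
        exact ann_pow p n i hi _ this
      choose b hb using hb
      rw [LinearMap.mem_range]
      refine ⟨∑ j, b j • y j, ?_⟩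
      have h0 := hxy 0
      simp only at h0
      rw [h0]
      simp only [LinearMap.smul_apply, LinearMap.id_coe, id_eq, Finset.smul_sum, smul_smul]
      refine Finset.sum_congr rfl (fun j _ => ?_)
      rw [hb j]
    · rintro _ ⟨h', rfl⟩
      rw [LinearMap.mem_ker]
      simp only [LinearMap.smul_apply, LinearMap.id_coe, id_eq, smul_smul]
      rw [← pow_add]
      have : i + (n - i) = n := by omega
      rw [this, pow_self_eq_zero, zero_smul]
  · intro hcond
    apply flat_of_cond
    intro i hi h hh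
    have : h ∈ LinearMap.ker ((p ^ i : ZMod (p ^ n)) • (LinearMap.id : H →ₗ[ZMod (p ^ n)] H)) := by
      rw [LinearMap.mem_ker]; simpa using hh
    rw [hcond i hi] at this
    obtain ⟨h', hh'⟩ := this
    exact ⟨h', by simpa using hh'.symm⟩

end Groth.Agent.S17500
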