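import Groth.Statements.S17511
import Groth.Agent.Lib.Helper22.EGA7.Glob7
import Groth.Agent.Lib.Helper29.GenLocus
import Groth.Agent.Lib.Helper29.SerreA
import Groth.Agent.Lib.Lead.TwistExact

set_option autoImplicit false
universe u
open CategoryTheory CategoryTheory.Limits MonoidalCategory CartesianMonoidalCategory MonObj GrpObj AlgebraicGeometry
open AbVar

namespace Groth.Agent.S17511


/-- In an algebraic family of line bundles the index cannot jump locally. Let X be an abelian variety
over a field k (a proper, geometrically integral k-group scheme), let T be a locally Noetherian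
k-scheme, M an invertible module on X ×_k T, and for each point t of T let M_t be the pull-back of M
to the fibre X ×_k Spec k(t). Suppose every M_t is non-degenerate, with index idx(t): H^j(X ×_k Spec
k(t), M_t) = 0 for j ≠ idx(t) and H^{idx(t)} ≠ 0. Then t ↦ idx(t) is a locally constant function on
T. (Non-degeneracy with index i is expressed by the equivalent condition that the cohomology is
concentrated in degree i and non-zero there.) -/
theorem result
    (k : Type u) [Field k] (X : Over (Spec (CommRingCat.of k))) [GrpObj X] [IsProper X.hom] [GeometricallyIntegral X.hom]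
    (T : Over (Spec (CommRingCat.of k))) [IsLocallyNoetherian T.left]
    (M : (X ⊗ T).left.Modules) (hM : PicF.IsInvertible M)
    (idx : ↥T.left → ℕ)
    (hidx : ∀ t : ↥T.left,
      (∀ j : ℕ, j ≠ idx t →
        Subsingleton (Coh.HH (pullback (snd X T).left (T.left.fromSpecResidueField t))
          ((Scheme.Modules.pullback (pullback.fst (snd X T).left (T.left.fromSpecResidueField t))).obj M) j)) ∧
      Nontrivial (Coh.HH (pullback (snd X T).left (T.left.fromSpecResidueField t))
          ((Scheme.Modules.pullback (pullback.fst (snd X T).left (T.left.fromSpecResidueField t))).obj M) (idx t))) :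
    IsLocallyConstant idx := by
  open Groth.Agent.Lib.Helper22.EGA7 in
  haveI : IsProper (snd X T).left := by
    change IsProper (pullback.snd X.hom T.hom)
    infer_instance
  haveI : Flat (snd X T).left := by
    haveI : Subsingleton ↥(Spec (CommRingCat.of k)) := by
      change Subsingleton (PrimeSpectrum k)
      infer_instance
    haveI : Flat X.hom := inferInstance
    change Flat (pullback.snd X.hom T.hom)
    infer_instance
  have hcoh : Coh.IsCoh M :=
    ⟨Groth.Agent.Lib.Helper29.QCoh.isQuasicoherent_of_isInvertible hM,
      Groth.Agent.Lib.Helper29.QCoh.isFiniteType_of_isInvertible hM⟩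
  have hfl : FlatMod.IsFlatOver (snd X T).left M :=
    isFlatOver_of_isFlat (snd X T).left M
      (Groth.Agent.Lib.Lead.TwistExact.isFlat_of_isInvertible hM)
  rw [IsLocallyConstant.iff_exists_open]
  intro t₀
  have h0 : ∀ j ∈ {j : ℕ | j ≠ idx t₀}, CohIII.fiberRank (snd X T).left M j t₀ = 0 := by
    intro j hj
    haveI : Subsingleton (CohIII.fiberH (snd X T).left M t₀ j) := (hidx t₀).1 j hj
    exact Module.finrank_zero_of_subsingleton
  obtain ⟨U, hU, ht₀, hvan⟩ := exists_open_fiberRank_eq_zero (snd X T).left M hcoh hfl t₀
    {j : ℕ | j ≠ idx t₀} h0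
  refine ⟨U, hU, ht₀, fun t ht => ?_⟩
  by_contra hne
  have h1 : CohIII.fiberRank (snd X T).left M (idx t) t = 0 := hvan t ht (idx t) hne
  obtain ⟨V, hV, htV, -⟩ :=
    exists_isAffineOpen_mem_and_subset (x := t) (U := (⊤ : T.left.Opens)) trivial
  obtain ⟨Q, d, hQ, hd, hpos, hp⟩ := glue0 (snd X T).left (V := V) hV M hcoh hfl
  haveI : Module.Finite (T.left.residueField t) (CohIII.fiberH (snd X T).left M t (idx t)) :=
    (hp (idx t)).2 t htV
  haveI : Nontrivial (CohIII.fiberH (snd X T).left M t (idx t)) := (hidx t).2
  have h2 : 0 < Module.finrank (T.left.residueField t)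
      (CohIII.fiberH (snd X T).left M t (idx t)) := Module.finrank_pos
  have h3 : CohIII.fiberRank (snd X T).left M (idx t) t =
      Module.finrank (T.left.residueField t)
        (CohIII.fiberH (snd X T).left M t (idx t)) := rfl
  omega

end Groth.Agent.S17511
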