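import Groth.Statements.S17525
import Groth.Agent.Lib.Helper7.EX5
import Groth.Agent.Lib.Helper7.GLnReductive


set_option autoImplicit false
universe u
open HopfRep

namespace Groth.Agent.S17525

/-- Let `k` be a field and `1 → K → G → Q → 1` an exact sequence of affine group schemes of finite type
over `k`, written on coordinate rings: `AQ`, `AG`, `AK` are commutative Hopf algebras of finite type
over `k`, `φ : AQ → AG` is an injective bialgebra map (so `G → Q` is faithfully flat) and `ψ : AG →
AK` is a surjective bialgebra map (so `K` is a closed subgroup of `G`) whose kernel is the ideal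
generated by the image under `φ` of the augmentation ideal of `AQ` (so `K` is the kernel of `G →
Q`). Then `G` is linearly reductive — every finite-dimensional comodule is semisimple — if and only
if both `K` and `Q` are. -/
theorem result
    (k : Type u) [Field k]
    (AQ AG AK : Type u) [CommRing AQ] [HopfAlgebra k AQ] [Algebra.FiniteType k AQ]
    [CommRing AG] [HopfAlgebra k AG] [Algebra.FiniteType k AG]
    [CommRing AK] [HopfAlgebra k AK] [Algebra.FiniteType k AK]
    (φ : AQ →ₐc[k] AG) (hφ : Function.Injective φ)
    (ψ : AG →ₐc[k] AK) (hψ : Function.Surjective ψ)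
    (hker : RingHom.ker (ψ : AG →ₐ[k] AK) =
      Ideal.map (φ : AQ →ₐ[k] AG) (RingHom.ker (Bialgebra.counitAlgHom k AQ))) :
    HopfRep.IsLinearlyReductive k AG ↔
      HopfRep.IsLinearlyReductive k AK ∧ HopfRep.IsLinearlyReductive k AQ := by
  constructor
  · intro hG
    refine ⟨?_, Groth.Agent.Lib.Helper7.GLnRed.isLinearlyReductive_of_injective φ hφ hG⟩
    obtain ⟨α, hα⟩ :=
      Groth.Agent.Lib.Helper7.Comod.isLinearlyReductive_iff_exists_isTrivIntegral.1 hG
    letI : Algebra AQ AG := (φ : AQ →+* AG).toAlgebra
    haveI : IsScalarTower k AQ AG := IsScalarTower.of_algebraMap_eq (fun x => by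
      change algebraMap k AG x = φ (algebraMap k AQ x)
      rw [AlgHomClass.commutes])
    have halg : ∀ q, algebraMap AQ AG q = φ q := fun q => rfl
    intro V _ _ cV hfin
    haveI := hfin
    apply Groth.Agent.Lib.Helper7.Comod.isSemisimpleComod_of_exact cV
    intro X Y _ _ _ _ cX cY hX hY f hf hs y hy
    haveI := hX
    refine Groth.Agent.Lib.Helper7.Comod.exists_fixed_lift_of_forall_trivial_quotient ?_
      cX cY f hf hs y hy
    intro X' _ _ cX' hX' π hπs hπ
    haveI := hX'
    exact Groth.Agent.Lib.Helper7.HopfExact.exists_fixed_of_integral hker halg hφ hψ hα X' cX' π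
      hπs hπ
  · rintro ⟨hK, hQ⟩
    exact Groth.Agent.Lib.Helper7.HopfExact.isLinearlyReductive_of_exact hφ hψ hker hK hQ

end Groth.Agent.S17525
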