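import Groth.Statements.S17530
import Groth.Agent.Lib.Helper7.HopfModLR

set_option autoImplicit false
universe u
open GLin

namespace Groth.Agent.S17530

/-- Let `k` be a field, `H` a commutative Hopf algebra of finite type over `k` which is linearly
reductive (every finite-dimensional comodule semisimple; `G = Spec H`), `A` a commutative
`k`-algebra of finite type with a coaction of `H` that is an algebra map (an action of `G` on `Spec
A`), and `M` a finitely generated `A`-module with an `H`-coaction compatible with the module
structure and with the coaction on `A` (a `G`-equivariant coherent module on `Spec A`). Then the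
invariants `M^G` form a finitely generated module over the ring of invariants `A^G`. (The published
corollary is stated over an algebraically closed field; it is the affine case of a statement about
good moduli spaces valid over any Noetherian base, and is stated here over any field.) -/
theorem result
    (k : Type u) [Field k] (H : Type u) [CommRing H] [HopfAlgebra k H] [Algebra.FiniteType k H]
    (hG : HopfRep.IsLinearlyReductive k H)
    (A : Type u) [CommRing A] [Algebra k A] [Algebra.FiniteType k A]
    [HopfRep.Comod k H A] [GLin.IsCoactAlg k H A]
    (M : Type u) [AddCommGroup M] [Module k M] [Module A M] [IsScalarTower k A M] [Module.Finite A M]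
    [HopfRep.Comod k H M] [TameAct.IsHopfMod k H A M] :
    ∃ s : Finset M, (↑s : Set M) ⊆ ↑(HopfRep.fixedPts k H M) ∧
      (↑(HopfRep.fixedPts k H M) : Set M) ⊆
        ↑(Submodule.span ↥(GLin.invariants k H A) (↑s : Set M)) := by
  have hR := Groth.Agent.Lib.Helper7.Comod.isSemisimpleComod_of_isLinearlyReductive' hG A
  have hM := Groth.Agent.Lib.Helper7.Comod.isSemisimpleComod_of_isLinearlyReductive' hG M
  haveI : IsNoetherianRing A := Algebra.FiniteType.isNoetherianRing k A
  haveI : IsNoetherian A M := isNoetherian_of_isNoetherianRing_of_finite A M
  obtain ⟨s, hs, h⟩ := Groth.Agent.Lib.Helper7.Comod.exists_finset_fixedPts_generating hR hM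
  refine ⟨s, hs, fun m hm => ?_⟩
  obtain ⟨c, hc, hm'⟩ := h m hm
  rw [hm']
  refine Submodule.sum_mem _ fun y hy => ?_
  have : c y • y = (⟨c y, hc y⟩ : GLin.invariants k H A) • y := rfl
  rw [this]
  exact Submodule.smul_mem _ _ (Submodule.subset_span hy)

end Groth.Agent.S17530
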