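import Groth.Statements.S17534
import Groth.Agent.Lib.Helper7.EX7


set_option autoImplicit false
universe u
open CategoryTheory MonoidalCategory CartesianMonoidalCategory AlgebraicGeometry
open HopfRep

namespace Groth.Agent.S17534

/-- Let `k` be an algebraically closed field, `AG` a commutative Hopf algebra of finite type over `k`
which is linearly reductive (every finite-dimensional comodule semisimple; `G = Spec AG`), `AH` a
commutative Hopf algebra of finite type and `ψ : AG → AH` a surjective bialgebra map, so that `H =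
Spec AH → G` is a closed subgroup (assumed a homomorphism of group schemes), and let `q : G ⟶ Q`
present the `k`-scheme `Q` as the fppf quotient `G/H` (`q` surjective, flat and locally of finite
presentation, and the square with the projection and the multiplication `G × H → G` cartesian). If
`Q` is affine, then `H` is linearly reductive. (The direct direction — `Q` affine whenever `H` is
linearly reductive — holds without hypothesis on `G`; together they form the published equivalence.) -/
theorem result
    (k : Type u) [Field k] [IsAlgClosed k]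
    (AG AH : Type u) [CommRing AG] [HopfAlgebra k AG] [Algebra.FiniteType k AG]
    [CommRing AH] [HopfAlgebra k AH] [Algebra.FiniteType k AH]
    (hG : HopfRep.IsLinearlyReductive k AG)
    (ψ : AG →ₐc[k] AH) (hψ : Function.Surjective ψ)
    [IsMonHom (CoactBr.pt (ψ : AG →ₐ[k] AH))]
    (Q : Over (Spec (CommRingCat.of k))) (q : CoactBr.sp k AG ⟶ Q)
    (hq : RedSub.IsQuotient (CoactBr.pt (ψ : AG →ₐ[k] AH)) q) :
    IsAffine Q.left → HopfRep.IsLinearlyReductive k AH := by
  intro hQ
  haveI := hQ
  obtain ⟨α, hα⟩ :=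
    Groth.Agent.Lib.Helper7.Comod.isLinearlyReductive_iff_exists_isTrivIntegral.1 hG
  letI : Algebra k (Groth.Agent.Lib.Helper7.HopfTorsor.BQ Q) :=
    Groth.Agent.Lib.Helper7.HopfTorsor.algKB Q
  letI : Algebra (Groth.Agent.Lib.Helper7.HopfTorsor.BQ Q) AG :=
    (Groth.Agent.Lib.Helper7.HopfTorsor.betaR q).toAlgebra
  haveI : IsScalarTower k (Groth.Agent.Lib.Helper7.HopfTorsor.BQ Q) AG :=
    IsScalarTower.of_algebraMap_eq (fun c =>
      (Groth.Agent.Lib.Helper7.HopfTorsor.betaR_algebraMap q c).symm)
  haveI : Module.FaithfullyFlat (Groth.Agent.Lib.Helper7.HopfTorsor.BQ Q) AG :=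
    Groth.Agent.Lib.Helper7.HopfTorsor.faithfullyFlat_betaR q hq.1 hq.2.1
  obtain ⟨Ξ, hΞ⟩ := Groth.Agent.Lib.Helper7.HopfTorsor.exists_point q hq
  have h1 : ∀ r : Groth.Agent.Lib.Helper7.HopfTorsor.BQ Q,
      Groth.Agent.Lib.Helper7.HopfExact.lamk ψ
        (algebraMap (Groth.Agent.Lib.Helper7.HopfTorsor.BQ Q) AG r) =
      algebraMap (Groth.Agent.Lib.Helper7.HopfTorsor.BQ Q) AG r ⊗ₜ[k] 1 :=
    fun r => Groth.Agent.Lib.Helper7.HopfTorsor.lamk_betaR q hq r
  intro V _ _ cV hfin
  haveI := hfin
  apply Groth.Agent.Lib.Helper7.Comod.isSemisimpleComod_of_exact cV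
  intro X Y _ _ _ _ cX cY hX hY f hf hs y hy
  haveI := hX
  refine Groth.Agent.Lib.Helper7.Comod.exists_fixed_lift_of_forall_trivial_quotient ?_
    cX cY f hf hs y hy
  intro X' _ _ cX' hX' π hπs hπ
  haveI := hX'
  exact Groth.Agent.Lib.Helper7.HopfTorsor.exists_fixed_of_integral h1 hψ Ξ hΞ hα X' cX' π
    hπs hπ

end Groth.Agent.S17534
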