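import Groth.Statements.S17537
import Mathlib

set_option autoImplicit false
universe u v
open CAlg

namespace Groth.Agent.S17537

open Submodule

/-- `of` maps `I^n M` into `I^n M^`. -/
theorem of_mem_smul_top {A : Type*} [CommRing A] (I : Ideal A)
    (M : Type*) [AddCommGroup M] [Module A M] (n : ℕ) (y : M)
    (hy : y ∈ (I ^ n • ⊤ : Submodule A M)) :
    AdicCompletion.of I M y ∈ (I ^ n • ⊤ : Submodule A (AdicCompletion I M)) := by
  refine Submodule.smul_induction_on hy (fun r hr m _ => ?_) (fun a b ha hb => ?_)
  · rw [map_smul]
    exact Submodule.smul_mem_smul hr mem_top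
  · rw [map_add]
    exact Submodule.add_mem _ ha hb

/-- elements of `I^n M^` evaluate to zero at level `n`. -/
theorem val_eq_zero_of_mem {A : Type*} [CommRing A] (I : Ideal A)
    (M : Type*) [AddCommGroup M] [Module A M] (n : ℕ) (z : AdicCompletion I M)
    (hz : z ∈ (I ^ n • ⊤ : Submodule A (AdicCompletion I M))) : z.val n = 0 := by
  have := AdicCompletion.pow_smul_top_le_ker_eval (I := I) (M := M) n hz
  simpa using this

/-- For a commutative ring A, an ideal I and an A-module M, the I-adic completion M^ of M is itself
I-adically complete if and only if, for every n, every element of M^ is congruent modulo I^n M^ to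
the image of an element of M (the maps M/I^n M → M^/I^n M^ are surjective). -/
theorem result {A : Type u} [CommRing A] (I : Ideal A)
    (M : Type v) [AddCommGroup M] [Module A M] :
    IsAdicComplete I (AdicCompletion I M) ↔
      ∀ (n : ℕ) (x : AdicCompletion I M), ∃ y : M,
        x - AdicCompletion.of I M y ∈ (I ^ n • ⊤ : Submodule A (AdicCompletion I M)) := by
  constructor
  · intro hc n x
    -- lifts of the components of `x`
    choose w hw using fun k => Submodule.Quotient.mk_surjective (I ^ k • ⊤ : Submodule A M) (x.val k)
    have hcauchy : ∀ {m k : ℕ}, m ≤ k → AdicCompletion.of I M (w m) ≡ AdicCompletion.of I M (w k)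
        [SMOD (I ^ m • ⊤ : Submodule A (AdicCompletion I M))] := by
      intro m k hmk
      rw [SModEq.sub_mem, ← map_sub]
      apply of_mem_smul_top
      rw [← Submodule.Quotient.mk_eq_zero, Submodule.Quotient.mk_sub, hw m, sub_eq_zero]
      have h1 := AdicCompletion.transitionMap_comp_eval_apply I M hmk x
      rw [← h1, ← hw k]
      rfl
    obtain ⟨L, hL⟩ := hc.toIsPrecomplete.prec hcauchy
    have hLx : L = x := by
      apply AdicCompletion.ext
      intro k
      have h1 := hL k
      rw [SModEq.sub_mem] at h1
      have h2 := val_eq_zero_of_mem I M k _ h1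
      rw [AdicCompletion.val_sub_apply, AdicCompletion.of_apply, sub_eq_zero] at h2
      rw [← h2]
      exact hw k
    refine ⟨w n, ?_⟩
    have h1 := hL n
    rw [SModEq.sub_mem, hLx] at h1
    have : x - AdicCompletion.of I M (w n) = -(AdicCompletion.of I M (w n) - x) := by abel
    rw [this]
    exact Submodule.neg_mem _ h1
  · intro h
    -- kernel of eval = I^n M^
    have hker : ∀ (n : ℕ) (z : AdicCompletion I M), z.val n = 0 →
        z ∈ (I ^ n • ⊤ : Submodule A (AdicCompletion I M)) := by
      intro n z hz
      obtain ⟨y, hy⟩ := h n z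
      have h1 := val_eq_zero_of_mem I M n _ hy
      rw [AdicCompletion.val_sub_apply, hz, zero_sub, neg_eq_zero, AdicCompletion.of_apply] at h1
      have h2 : y ∈ (I ^ n • ⊤ : Submodule A M) := (Submodule.Quotient.mk_eq_zero _).mp h1
      have h3 := of_mem_smul_top I M n y h2
      have : z = (z - AdicCompletion.of I M y) + AdicCompletion.of I M y := by abel
      rw [this]
      exact Submodule.add_mem _ hy h3
    refine { toIsHausdorff := inferInstance, toIsPrecomplete := ⟨fun f hf => ?_⟩ }
    -- the diagonal limit
    have hcompat : ∀ {m k : ℕ} (hmk : m ≤ k),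
        AdicCompletion.transitionMap I M hmk ((f k).val k) = (f m).val m := by
      intro m k hmk
      rw [AdicCompletion.transitionMap_comp_eval_apply I M hmk (f k)]
      have h1 := hf hmk
      rw [SModEq.sub_mem] at h1
      have h2 := val_eq_zero_of_mem I M m _ h1
      rw [AdicCompletion.val_sub_apply, sub_eq_zero] at h2
      exact h2.symm
    let L : AdicCompletion I M := ⟨fun k => (f k).val k, fun hmk => hcompat hmk⟩
    refine ⟨L, fun n => ?_⟩
    rw [SModEq.sub_mem]
    apply hker
    rw [AdicCompletion.val_sub_apply, sub_eq_zero]

end Groth.Agent.S17537
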