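import Groth.Statements.S17538
import Mathlib

set_option autoImplicit false
universe u v
open CAlg

namespace Groth.Agent.S17538

open Submodule in
/-- The map `M^/I^n M^ → M/I^n M` induced by evaluation. -/
noncomputable def gmap {A : Type*} [CommRing A] (I : Ideal A)
    (M : Type*) [AddCommGroup M] [Module A M] (n : ℕ) :
    (AdicCompletion I M ⧸ (I ^ n • ⊤ : Submodule A (AdicCompletion I M))) →ₗ[A]
      M ⧸ (I ^ n • ⊤ : Submodule A M) :=
  (I ^ n • ⊤ : Submodule A (AdicCompletion I M)).liftQ (AdicCompletion.eval I M n)
    (AdicCompletion.pow_smul_top_le_ker_eval (I := I) (M := M) n)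

theorem gmap_mk {A : Type*} [CommRing A] (I : Ideal A)
    (M : Type*) [AddCommGroup M] [Module A M] (n : ℕ) (x : AdicCompletion I M) :
    gmap I M n (Submodule.Quotient.mk x) = x.val n := rfl

/-- the retraction -/
noncomputable def retr {A : Type*} [CommRing A] (I : Ideal A)
    (M : Type*) [AddCommGroup M] [Module A M] :
    AdicCompletion I (AdicCompletion I M) →ₗ[A] AdicCompletion I M :=
  AdicCompletion.lift I (fun n => gmap I M n ∘ₗ AdicCompletion.eval I (AdicCompletion I M) n)
    (by
      intro m n hle
      refine LinearMap.ext fun y => ?_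
      simp only [LinearMap.coe_comp, Function.comp_apply, AdicCompletion.coe_eval]
      obtain ⟨x, hx⟩ := Submodule.Quotient.mk_surjective (I ^ n • ⊤ : Submodule A (AdicCompletion I M)) (y.val n)
      have hm : y.val m = Submodule.Quotient.mk x := by
        rw [← AdicCompletion.transitionMap_comp_eval_apply I _ hle y, ← hx]
        rfl
      rw [hm, ← hx, gmap_mk, gmap_mk]
      exact AdicCompletion.transitionMap_comp_eval_apply I _ hle x)

/-- For a commutative ring A, an ideal I and an A-module M, the canonical map from the I-adic completion
M^ to the I-adic completion of M^ admits an A-linear retraction (it is a split injection). (That M^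
is I-adically separated is standard.) -/
theorem result {A : Type u} [CommRing A] (I : Ideal A)
    (M : Type v) [AddCommGroup M] [Module A M] :
    ∃ ψ : AdicCompletion I (AdicCompletion I M) →ₗ[A] AdicCompletion I M,
      ψ ∘ₗ AdicCompletion.of I (AdicCompletion I M) = LinearMap.id := by
  refine ⟨retr I M, ?_⟩
  refine LinearMap.ext fun x => ?_
  apply AdicCompletion.ext
  intro n
  simp only [LinearMap.coe_comp, Function.comp_apply, LinearMap.id_coe, id_eq, retr,
    AdicCompletion.eval_lift_apply, AdicCompletion.coe_eval, AdicCompletion.of_apply]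
  rfl

end Groth.Agent.S17538
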