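import Groth.Statements.S17540
import Mathlib
-- import your own Groth.Agent.* helpers here

set_option autoImplicit false
universe u v w
open W4c5adicflatcompl
open CAlg

namespace Groth.Agent.S17540

/-- Let A be I-adically complete, M an I-adically complete A-module and m : Z → M a family. The images
of the m z generate M/IM (the span of the family together with IM is all of M) if and only if the
family I-adically generates M: every x in M is the I-adically convergent sum of g z • m z for some
I-adically decaying function g : Z → A. -/
theorem result {A : Type u} [CommRing A] (I : Ideal A) [IsAdicComplete I A]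
    (M : Type v) [AddCommGroup M] [Module A M] [IsAdicComplete I M] (Z : Type w) (m : Z → M) :
    Submodule.span A (Set.range m) ⊔ I • ⊤ = ⊤ ↔
      ∀ x : M, ∃ g : Z → A, g ∈ decaying I Z A ∧
        ∀ n : ℕ, ∃ S : Finset Z,
          (∀ z, z ∉ S → g z • m z ∈ (I ^ n • ⊤ : Submodule A M)) ∧
          x - (∑ z ∈ S, g z • m z) ∈ (I ^ n • ⊤ : Submodule A M) := by
  classical
  constructor
  · intro hN x
    -- the one-step approximation
    have hpow : ∀ k : ℕ, (I ^ k • ⊤ : Submodule A M) =
        I ^ k • Submodule.span A (Set.range m) ⊔ I ^ (k + 1) • ⊤ := by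
      intro k
      rw [pow_succ, Submodule.mul_smul, ← Submodule.smul_sup, hN]
    have step : ∀ (k : ℕ) (y : M), ∃ c : Z →₀ A, y ∈ (I ^ k • ⊤ : Submodule A M) →
        ((∀ z, c z ∈ I ^ k) ∧
          y - (c.sum fun z a => a • m z) ∈ (I ^ (k + 1) • ⊤ : Submodule A M)) := by
      intro k y
      by_cases hy : y ∈ (I ^ k • ⊤ : Submodule A M)
      · rw [hpow k, Submodule.mem_sup] at hy
        obtain ⟨y₁, hy₁, w, hw, rfl⟩ := hy
        rw [Submodule.mem_ideal_smul_span_iff_exists_sum] at hy₁
        obtain ⟨c, hc, rfl⟩ := hy₁
        refine ⟨c, fun _ => ⟨hc, ?_⟩⟩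
        simpa using hw
      · exact ⟨0, fun h => absurd h hy⟩
    choose c hc using step
    let xs : ℕ → M := fun k => Nat.rec x (fun k y => y - ((c k y).sum fun z a => a • m z)) k
    have hxs_succ : ∀ k, xs (k + 1) = xs k - ((c k (xs k)).sum fun z a => a • m z) := fun k => rfl
    have hxs : ∀ k, xs k ∈ (I ^ k • ⊤ : Submodule A M) := by
      intro k
      induction k with
      | zero => simp
      | succ k ih => rw [hxs_succ]; exact (hc k (xs k) ih).2
    let ck : ℕ → (Z →₀ A) := fun k => c k (xs k)
    have hck : ∀ k z, ck k z ∈ I ^ k := fun k z => (hc k (xs k) (hxs k)).1 z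
    have hxsum : ∀ K, x - xs K = ∑ k ∈ Finset.range K, ((ck k).sum fun z a => a • m z) := by
      intro K
      induction K with
      | zero => simp [xs]
      | succ K ih =>
        rw [Finset.sum_range_succ, ← ih, hxs_succ]
        abel
    let s : ℕ → Z → A := fun K z => ∑ k ∈ Finset.range K, ck k z
    have hs_succ : ∀ K z, s (K + 1) z = s K z + ck K z := fun K z => Finset.sum_range_succ _ _
    have hcauchy : ∀ z {a b : ℕ}, a ≤ b → s a z ≡ s b z [SMOD (I ^ a • ⊤ : Submodule A A)] := by
      intro z a b hab
      induction b, hab using Nat.le_induction with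
      | base => rfl
      | succ b hab ih =>
        rw [SModEq.sub_mem] at ih ⊢
        have h1 : s a z - s (b + 1) z = (s a z - s b z) - ck b z := by rw [hs_succ]; ring
        rw [h1]
        refine Submodule.sub_mem _ ih ?_
        have : ck b z ∈ I ^ a := Ideal.pow_le_pow_right hab (hck b z)
        simpa using this
    have hlim : ∀ z, ∃ L : A, ∀ K, s K z ≡ L [SMOD (I ^ K • ⊤ : Submodule A A)] := fun z =>
      IsPrecomplete.prec (IsAdicComplete.toIsPrecomplete (I := I) (M := A)) (fun h => hcauchy z h)
    choose g hg using hlim
    have hgmem : ∀ (n : ℕ) (z : Z),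
        z ∉ (Finset.range n).biUnion (fun k => (ck k).support) → g z ∈ I ^ n := by
      intro n z hz
      have h0 : s n z = 0 := by
        refine Finset.sum_eq_zero fun k hk => ?_
        by_contra h
        apply hz
        rw [Finset.mem_biUnion]
        exact ⟨k, hk, Finsupp.mem_support_iff.2 h⟩
      have := hg z n
      rw [h0, SModEq.sub_mem, zero_sub, Submodule.neg_mem_iff] at this
      simpa using this
    refine ⟨g, fun n => ?_, fun n => ?_⟩
    · refine ((Finset.range n).biUnion (fun k => (ck k).support)).finite_toSet.subset ?_
      intro z hz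
      by_contra h
      apply hz
      have := hgmem n z (by simpa using h)
      simpa using this
    · refine ⟨(Finset.range n).biUnion (fun k => (ck k).support), fun z hz => ?_, ?_⟩
      · exact Submodule.smul_mem_smul (hgmem n z hz) Submodule.mem_top
      · set S := (Finset.range n).biUnion (fun k => (ck k).support) with hS
        have h1 : ∀ k ∈ Finset.range n, ((ck k).sum fun z a => a • m z) =
            ∑ z ∈ S, ck k z • m z := by
          intro k hk
          refine Finsupp.sum_of_support_subset _ ?_ _ (fun z _ => zero_smul _ _)
          exact Finset.subset_biUnion_of_mem (fun k => (ck k).support) hk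
        have h2 : x - ∑ z ∈ S, g z • m z = xs n + ∑ z ∈ S, (s n z - g z) • m z := by
          have h3 := hxsum n
          rw [Finset.sum_congr rfl h1, Finset.sum_comm] at h3
          have h4 : ∑ z ∈ S, (s n z - g z) • m z =
              ∑ z ∈ S, ∑ k ∈ Finset.range n, ck k z • m z - ∑ z ∈ S, g z • m z := by
            rw [← Finset.sum_sub_distrib]
            refine Finset.sum_congr rfl fun z _ => ?_
            rw [sub_smul, Finset.sum_smul]
          rw [h4, ← h3]
          abel
        rw [h2]
        refine Submodule.add_mem _ (hxs n) (Submodule.sum_mem _ fun z _ => ?_)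
        refine Submodule.smul_mem_smul ?_ Submodule.mem_top
        have := hg z n
        rw [SModEq.sub_mem] at this
        simpa using this
  · intro h
    rw [eq_top_iff]
    intro x _
    obtain ⟨g, -, hg⟩ := h x
    obtain ⟨S, -, hS⟩ := hg 1
    rw [pow_one] at hS
    have : x = ∑ z ∈ S, g z • m z + (x - ∑ z ∈ S, g z • m z) := by abel
    rw [this]
    refine Submodule.add_mem_sup (Submodule.sum_mem _ fun z _ => ?_) hS
    exact Submodule.smul_mem _ _ (Submodule.subset_span ⟨z, rfl⟩)

end Groth.Agent.S17540
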