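import Groth.Statements.S17544
import Groth.Agent.Lib.Helper21.Decaying
-- import your own Groth.Agent.* helpers here

set_option autoImplicit false
universe u v w
open W4c5adicflatcompl
open CAlg

namespace Groth.Agent.S17544

/-- For a Noetherian ring A which is I-adically complete, a set Z and n ≥ 0, reduction modulo I^n maps
the decaying functions Z → A onto the finitely supported functions Z → A/I^n, and its kernel, the
decaying functions with all values in I^n, equals I^n times the module of decaying functions; so
(A/I^n) ⊗ F_dec(Z, A) → F_fin(Z, A/I^n) is bijective. -/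
theorem result {A : Type u} [CommRing A] [IsNoetherianRing A]
    (I : Ideal A) [IsAdicComplete I A] (Z : Type v) (n : ℕ) :
    (∀ g : Z →₀ A ⧸ I ^ n, ∃ f : decaying I Z A,
        ∀ z, Ideal.Quotient.mk (I ^ n) ((f : Z → A) z) = g z) ∧
      ∀ f : decaying I Z A,
        f ∈ (I ^ n • ⊤ : Submodule A (decaying I Z A)) ↔ ∀ z, (f : Z → A) z ∈ I ^ n := by
  classical
  haveI : IsHausdorff I A := IsAdicComplete.toIsHausdorff
  constructor
  · intro g
    have hsurj : ∀ q : A ⧸ I ^ n, ∃ a : A, Ideal.Quotient.mk (I ^ n) a = q :=
      Ideal.Quotient.mk_surjective
    choose s hs using hsurj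
    refine ⟨⟨fun z => if z ∈ g.support then s (g z) else 0, fun k => ?_⟩, fun z => ?_⟩
    · refine g.support.finite_toSet.subset ?_
      intro z hz
      by_contra h
      apply hz
      simp only [Finset.mem_coe] at h
      simp [h]
    · by_cases h : z ∈ g.support
      · simp only [h, if_true, hs]
      · simp only [h, if_false, map_zero]
        exact (Finsupp.notMem_support_iff.1 h).symm
  · intro f
    constructor
    · intro hf z
      have := Groth.Agent.Lib.Helper21.Dec.apply_mem_of_mem_smul_top hf z
      simpa using this
    · intro hf
      refine Groth.Agent.Lib.Helper21.Dec.mem_smul_top_of_forall_mem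
        (IsNoetherian.noetherian I) n f (fun z => ?_)
      simpa using hf z

end Groth.Agent.S17544
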