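import Groth.Statements.S17553
import Groth.Agent.Lib.Helper21.Decaying
-- import your own Groth.Agent.* helpers here

set_option autoImplicit false
universe u v w
open W4c5adicflatcompl
open CAlg

namespace Groth.Agent.S17553

/-- Let A be I-adically complete, M an I-adically complete A-module, Z a set and f : Z → M a function.
There is an A-linear map from the I-adically decaying functions Z → A to M whose value on g is the
I-adically convergent sum of the g z • f z. -/
theorem result {A : Type u} [CommRing A] (I : Ideal A) [IsAdicComplete I A]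
    (Z : Type v) (M : Type w) [AddCommGroup M] [Module A M] [IsAdicComplete I M] (f : Z → M) :
    ∃ φ : decaying I Z A →ₗ[A] M, ∀ (g : decaying I Z A) (n : ℕ), ∃ S : Finset Z,
      (∀ z, z ∉ S → (g : Z → A) z • f z ∈ (I ^ n • ⊤ : Submodule A M)) ∧
      φ g - (∑ z ∈ S, (g : Z → A) z • f z) ∈ (I ^ n • ⊤ : Submodule A M) := by
  classical
  refine ⟨Groth.Agent.Lib.Helper21.Dec.sumMap (I := I)
    (fun z => LinearMap.toSpanSingleton A M (f z)), fun g n => ?_⟩
  refine ⟨(g.2 n).toFinset, fun z hz => ?_, ?_⟩
  · have hz' : (g : Z → A) z ∈ (I ^ n • ⊤ : Submodule A A) := by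
      by_contra h
      exact hz (by simpa using h)
    exact Submodule.smul_mem_smul (by simpa using hz') Submodule.mem_top
  · have := Groth.Agent.Lib.Helper21.Dec.sumMap_sub_sum_mem (I := I)
      (fun z => LinearMap.toSpanSingleton A M (f z)) g n (g.2 n).toFinset
      (fun z hz => by simpa using hz)
    simpa [LinearMap.toSpanSingleton_apply] using this

end Groth.Agent.S17553
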