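import Groth.Statements.S1757
import Groth.Agent.Lib.Helper3.LechIndep

set_option autoImplicit false
universe u
open LocCoh

namespace Groth.Agent.S1757

open Groth.Agent.Lib.Helper3.LechIndep in
theorem aux (A : Type u) [CommRing A] [IsLocalRing A] (r : ℕ) (x : Fin r → A)
    (hx : Ideal.span (Set.range x) = IsLocalRing.maximalIdeal A) :
    ∀ (n : ℕ) (e : Fin r → ℕ), ∑ i, e i = n → (∀ i, 0 < e i) →
      Dual2.Independent (fun i => x i ^ e i) →
      Module.length A (A ⧸ Ideal.span (Set.range (fun i => x i ^ e i))) = ∏ i, (e i : ℕ∞) := by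
  intro n
  induction n using Nat.strong_induction_on with
  | _ n ih =>
    intro e hn he hind
    by_cases hall : ∀ i, e i = 1
    · have h1 : (fun i => x i ^ e i) = x := by funext i; rw [hall i, pow_one]
      rw [h1, hx]
      have h2 : ∏ i, (e i : ℕ∞) = 1 := by
        refine Finset.prod_eq_one fun i _ => ?_
        rw [hall i]; rfl
      rw [h2, Module.length_eq_one_iff, isSimpleModule_iff_isCoatom, ← Ideal.isMaximal_def]
      infer_instance
    · push_neg at hall
      obtain ⟨i₀, hi₀⟩ := hall
      have h2 : 2 ≤ e i₀ := by have := he i₀; omega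
      set f : Fin r → A := fun i => x i ^ e i with hfdef
      have hgh : f i₀ = x i₀ ^ (e i₀ - 1) * x i₀ := by
        show x i₀ ^ e i₀ = _
        rw [← pow_succ]; congr 1; omega
      have hupd1 : Function.update f i₀ (x i₀ ^ (e i₀ - 1)) =
          fun i => x i ^ (Function.update e i₀ (e i₀ - 1)) i := by
        funext i
        by_cases hi : i = i₀
        · subst hi; simp
        · simp [Function.update_of_ne hi, f]
      have hupd2 : Function.update f i₀ (x i₀) = fun i => x i ^ (Function.update e i₀ 1) i := by
        funext i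
        by_cases hi : i = i₀
        · subst hi; simp
        · simp [Function.update_of_ne hi, f]
      have hind1 := independent_update_of_mul f i₀ (x i₀ ^ (e i₀ - 1)) (x i₀) hgh hind
      have hind2 := independent_update_of_mul f i₀ (x i₀) (x i₀ ^ (e i₀ - 1)) (by rw [hgh, mul_comm]) hind
      have hlen := length_eq_add_of_mul f i₀ (x i₀ ^ (e i₀ - 1)) (x i₀) hgh hind
      rw [hupd1] at hind1
      rw [hupd2] at hind2
      rw [hupd1, hupd2] at hlen
      have hsum : ∀ b : ℕ, ∑ i, Function.update e i₀ b i = b + ∑ i ∈ Finset.univ.erase i₀, e i := by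
        intro b
        rw [← Finset.add_sum_erase _ _ (Finset.mem_univ i₀), Function.update_self]
        congr 1
        refine Finset.sum_congr rfl fun i hi => ?_
        rw [Function.update_of_ne (Finset.ne_of_mem_erase hi)]
      have hsum0 : ∑ i, e i = e i₀ + ∑ i ∈ Finset.univ.erase i₀, e i :=
        (Finset.add_sum_erase _ e (Finset.mem_univ i₀)).symm
      have hs1 : ∑ i, Function.update e i₀ (e i₀ - 1) i < n := by
        rw [hsum, ← hn, hsum0]; omega
      have hs2 : ∑ i, Function.update e i₀ 1 i < n := by
        rw [hsum, ← hn, hsum0]; omega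
      have hpos : ∀ b : ℕ, 0 < b → ∀ i, 0 < Function.update e i₀ b i := by
        intro b hb i
        by_cases hi : i = i₀
        · subst hi; simpa using hb
        · rw [Function.update_of_ne hi]; exact he i
      have hprod : ∀ b : ℕ, ∏ i, ((Function.update e i₀ b i : ℕ) : ℕ∞)
          = (b : ℕ∞) * ∏ i ∈ Finset.univ.erase i₀, (e i : ℕ∞) := by
        intro b
        rw [← Finset.mul_prod_erase _ _ (Finset.mem_univ i₀), Function.update_self]
        congr 1
        refine Finset.prod_congr rfl fun i hi => ?_
        rw [Function.update_of_ne (Finset.ne_of_mem_erase hi)]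
      have hprod0 : ∏ i, (e i : ℕ∞) = (e i₀ : ℕ∞) * ∏ i ∈ Finset.univ.erase i₀, (e i : ℕ∞) :=
        (Finset.mul_prod_erase _ (fun i => (e i : ℕ∞)) (Finset.mem_univ i₀)).symm
      rw [hlen, ih _ hs2 (Function.update e i₀ 1) rfl (hpos 1 one_pos) hind2,
        ih _ hs1 _ rfl (hpos _ (by omega)) hind1, hprod, hprod, hprod0, ← add_mul]
      congr 1
      have : e i₀ = 1 + (e i₀ - 1) := by omega
      conv_rhs => rw [this]
      push_cast
      rfl

/-- Let A be a local ring whose maximal ideal is generated by x_1, …, x_r, and let e_1, …, e_r be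
positive integers such that x_1^{e_1}, …, x_r^{e_r} are independent. Then the length of
A/(x_1^{e_1}, …, x_r^{e_r}) equals the product e_1 ⋯ e_r. -/
theorem result (A : Type u) [CommRing A] [IsLocalRing A] (r : ℕ) (x : Fin r → A) (hx : Ideal.span (Set.range x) = IsLocalRing.maximalIdeal A) (e : Fin r → ℕ) (he : ∀ i, 0 < e i) (hind : Dual2.Independent (fun i => x i ^ e i)) : Module.length A (A ⧸ Ideal.span (Set.range (fun i => x i ^ e i))) = ∏ i, (e i : ℕ∞) := by
  exact aux A r x hx _ e rfl he hind

end Groth.Agent.S1757
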