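import Groth.Statements.S17573
import Mathlib
import Groth.Agent.Lib.Helper18.BV1

set_option autoImplicit false
universe u
open CategoryTheory AlgebraicGeometry
open Bivar

namespace Groth.Agent.S17573

/-- Let L be an invertible O_X-module and c_1(L) ∈ A^1(X) its first Chern class. Then c_1(L) is in the
centre of the ring A^*(X) of operational classes: for every operational class d ∈ A^q(X), every test
scheme g : Y → X locally of finite type (with induced dimension function) and every x ∈ CH_k(Y) one
has c_1(L) ∩ (d ∩ x) = d ∩ (c_1(L) ∩ x) in CH_{k−q−1}(Y). Here c_1(L) is given through the binder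
Bivar.IsC1Class (on every test scheme it caps a cycle class to the class of c_1(g^*L) ∩ α computed
with any nowhere-zero rational sections), and the two sides, of weights k − q − 1 and k − 1 − q, are
compared through the transport Bivar.chCast. Here a pair (X, δ) with Cyc.IsSetup plays the role of a
scheme locally of finite type over the base (S, δ) (X locally Noetherian with universally catenary
local rings, δ a dimension function), Cyc.DeltaCompat records that a dimension function is the
induced one, and bivariant classes are taken in the operational sense of the prelude: additive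
operations on the Chow groups CH_k (k-cycles modulo rational equivalence) of all test schemes,
compatible with proper pushforward, flat pullback and the Gysin maps of zero schemes of sections of
invertible modules in representative form (Bivar.Cl for A^p(X → Y), Bivar.OpCl for A^p(X)). -/
theorem result (X : Scheme.{u}) (δX : X → ℤ) (hX : Cyc.IsSetup X δX) (L : X.Modules) (c : Bivar.OpCl 1 X δX) (hc : Bivar.IsC1Class L c) (q : ℤ) (d : Bivar.OpCl q X δX) (s : Bivar.OSq X δX) (k : ℤ) (x : ChowOps.CH s.Y s.δ k) : c.op s (k - q) (d.op s k x) = Bivar.chCast s.Y s.δ (sub_right_comm k 1 q) (d.op s (k - 1) (c.op s k x)) := by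
  classical
  haveI := s.lft
  have hY : Cyc.IsSetup s.Y s.δ :=
    Groth.Agent.Lib.Helper18.SetupLft.isSetup_of_locallyOfFiniteType s.g δX hX s.δ s.compat
  have hLY : PicF.IsInvertible ((Scheme.Modules.pullback s.g).obj L) :=
    Groth.Agent.Lib.Helper29.QCoh.isInvertible_pullback s.g hc.1
  have hσ := Groth.Agent.Lib.Helper18.BV1.isZeroSchemeOf_id_zero hLY
  have hG := d.gysin s s (𝟙 s.Y) (Category.id_comp _) ((Scheme.Modules.pullback s.g).obj L) hLY 0 hσ k
  obtain ⟨α, hα, rfl⟩ := Bivar.exists_rep x
  obtain ⟨β, hβ, e1, e2⟩ := hG α hα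
  obtain ⟨w, hw⟩ := Groth.Agent.Lib.Helper18.BV1.exists_nonzero_sections hLY
  have hgc := Groth.Agent.Lib.Helper18.BV1.gysinChoice_zero (L := (Scheme.Modules.pullback s.g).obj L) w
  -- the cycle `c₁ ∩ α`
  let γ : AlgebraicCycle s.Y ℤ := Groth.Agent.Lib.Helper18.KF21.c1CapCycle s.δ hY hLY α w hw
  have hγf : ⇑γ = Cyc.c1CapFun s.δ ((Scheme.Modules.pullback s.g).obj L) ⇑α w := rfl
  have hγ : γ ∈ Cyc.Zk s.Y s.δ (k - 1) := by
    intro ξ hξ
    by_contra hne
    apply hξ
    have hne' : Cyc.c1CapFun s.δ ((Scheme.Modules.pullback s.g).obj L) ⇑α w ξ ≠ 0 := hne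
    exact Groth.Agent.Lib.Helper18.KF21.c1Cap_mem_Zk s.δ (k - 1) ⇑α (fun η hη => by
      have : s.δ η = k := by
        by_contra hk
        exact hη (hα η hk)
      omega) w ξ hne'
  have h1 := hc.2 s k α hα w hw γ hγf hγ
  obtain ⟨ζ, hζ, hζf, e3⟩ := e2 w hw γ (fun d' => by rw [hgc]; rfl) hγ
  have hζf' : ⇑ζ = Cyc.c1CapFun s.δ ((Scheme.Modules.pullback s.g).obj L) ⇑β w := by
    funext d'
    rw [hζf d', hgc]
    rfl
  have hζ' : ζ ∈ Cyc.Zk s.Y s.δ (k - q - 1) := (sub_right_comm k 1 q) ▸ hζ
  have h2 := hc.2 s (k - q) β hβ w hw ζ hζf' hζ'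
  rw [e1, h2, h1, e3, Bivar.chCast_cl]

end Groth.Agent.S17573
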