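import Groth.Statements.S17574
import Mathlib
import Groth.Agent.Lib.Helper18.BV2

set_option autoImplicit false
universe u
open CategoryTheory AlgebraicGeometry
open Bivar

namespace Groth.Agent.S17574

/-- Let f : X' → X be locally of finite type, L an invertible O_X-module, and c ∈ A^p(X' → X) a
bivariant class. Then c ∘ c_1(L) = c_1(f^*L) ∘ c in A^{p+1}(X' → X): for every cartesian square (g :
Y → X, Y' = Y ×_X X', g' : Y' → X') with g locally of finite type and every x ∈ CH_k(Y), c ∩
(c_1(g^*L) ∩ x) = c_1((g')^*f^*L) ∩ (c ∩ x) in CH_{k−1−p}(Y'). Here the first Chern classes of L on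
X and of f^*L on X' are given as operational classes cX ∈ A^1(X), cX' ∈ A^1(X') through the binder
Bivar.IsC1Class, evaluated on the test schemes Y → X and Y' → X' of the square (Y' → X' is locally
of finite type as a base change of g), and the two sides, of weights k − p − 1 and k − 1 − p, are
compared through the transport Bivar.chCast. Here a pair (X, δ) with Cyc.IsSetup plays the role of a
scheme locally of finite type over the base (S, δ) (X locally Noetherian with universally catenary
local rings, δ a dimension function), Cyc.DeltaCompat records that a dimension function is the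
induced one, and bivariant classes are taken in the operational sense of the prelude: additive
operations on the Chow groups CH_k (k-cycles modulo rational equivalence) of all test schemes,
compatible with proper pushforward, flat pullback and the Gysin maps of zero schemes of sections of
invertible modules in representative form (Bivar.Cl for A^p(X → Y), Bivar.OpCl for A^p(X)). -/
theorem result (X X' : Scheme.{u}) (δX : X → ℤ) (δX' : X' → ℤ) (hX : Cyc.IsSetup X δX) (hX' : Cyc.IsSetup X' δX') (f : X' ⟶ X) [LocallyOfFiniteType f] (hδ : Cyc.DeltaCompat f δX' δX) (L : X.Modules) (cX : Bivar.OpCl 1 X δX) (hcX : Bivar.IsC1Class L cX) (cX' : Bivar.OpCl 1 X' δX') (hcX' : Bivar.IsC1Class ((Scheme.Modules.pullback f).obj L) cX') (p : ℤ) (c : Bivar.Cl p f δX' δX) (s : Bivar.Sq f δX' δX) (k : ℤ) (x : ChowOps.CH s.Y' s.δY' k) : c.op s (k - 1) (cX.op ⟨s.Y', s.g, s.lft, s.δY', s.compatY⟩ k x) = Bivar.chCast s.X' s.δX' (sub_right_comm k p 1) (cX'.op ⟨s.X', s.g', MorphismProperty.of_isPullback s.isPullback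 s.lft, s.δX', s.compatX⟩ (k - p) (c.op s k x)) := by
  classical
  haveI := s.lft
  haveI hlft' : LocallyOfFiniteType s.g' := MorphismProperty.of_isPullback s.isPullback s.lft
  have hY : Cyc.IsSetup s.Y' s.δY' :=
    Groth.Agent.Lib.Helper18.SetupLft.isSetup_of_locallyOfFiniteType s.g δX hX s.δY' s.compatY
  have hXs : Cyc.IsSetup s.X' s.δX' :=
    Groth.Agent.Lib.Helper18.SetupLft.isSetup_of_locallyOfFiniteType s.g' δX' hX' s.δX' s.compatX
  have hLY : PicF.IsInvertible ((Scheme.Modules.pullback s.g).obj L) :=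
    Groth.Agent.Lib.Helper29.QCoh.isInvertible_pullback s.g hcX.1
  have hLX : PicF.IsInvertible ((Scheme.Modules.pullback s.f').obj
      ((Scheme.Modules.pullback s.g).obj L)) :=
    Groth.Agent.Lib.Helper29.QCoh.isInvertible_pullback s.f' hLY
  have hLX' : PicF.IsInvertible ((Scheme.Modules.pullback s.g').obj
      ((Scheme.Modules.pullback f).obj L)) :=
    Groth.Agent.Lib.Helper29.QCoh.isInvertible_pullback s.g' hcX'.1
  let e : (Scheme.Modules.pullback s.f').obj ((Scheme.Modules.pullback s.g).obj L) ≅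
      (Scheme.Modules.pullback s.g').obj ((Scheme.Modules.pullback f).obj L) :=
    (Scheme.Modules.pullbackComp s.f' s.g).app L ≪≫
      (Scheme.Modules.pullbackCongr s.isPullback.w).app L ≪≫
      ((Scheme.Modules.pullbackComp s.g' f).app L).symm
  have hσ := Groth.Agent.Lib.Helper18.BV1.isZeroSchemeOf_id_zero hLY
  have hτ := Groth.Agent.Lib.Helper18.BV1.isZeroSchemeOf_id_zero hLX
  have hG := c.gysin s s (𝟙 s.Y') (𝟙 s.X') (Category.id_comp _)
    ((Category.id_comp _).trans (Category.comp_id _).symm) (Category.id_comp _)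
    ((Scheme.Modules.pullback s.g).obj L) hLY 0 hσ 0 hτ k
  obtain ⟨α, hα, rfl⟩ := Bivar.exists_rep x
  obtain ⟨β, hβ, e1, e2⟩ := hG α hα
  obtain ⟨w, hw⟩ := Groth.Agent.Lib.Helper18.BV1.exists_nonzero_sections hLY
  obtain ⟨w', hw'⟩ := Groth.Agent.Lib.Helper18.BV1.exists_nonzero_sections hLX
  have hgc := Groth.Agent.Lib.Helper18.BV1.gysinChoice_zero
    (L := (Scheme.Modules.pullback s.g).obj L) w
  have hgc' := Groth.Agent.Lib.Helper18.BV1.gysinChoice_zero
    (L := (Scheme.Modules.pullback s.f').obj ((Scheme.Modules.pullback s.g).obj L)) w'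
  -- the cycle `c₁ ∩ α`
  let γ : AlgebraicCycle s.Y' ℤ := Groth.Agent.Lib.Helper18.KF21.c1CapCycle s.δY' hY hLY α w hw
  have hγf : ⇑γ = Cyc.c1CapFun s.δY' ((Scheme.Modules.pullback s.g).obj L) ⇑α w := rfl
  have hγ : γ ∈ Cyc.Zk s.Y' s.δY' (k - 1) := by
    intro ξ hξ
    by_contra hne
    apply hξ
    have hne' : Cyc.c1CapFun s.δY' ((Scheme.Modules.pullback s.g).obj L) ⇑α w ξ ≠ 0 := hne
    exact Groth.Agent.Lib.Helper18.KF21.c1Cap_mem_Zk s.δY' (k - 1) ⇑α (fun η hη => by
      have : s.δY' η = k := by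
        by_contra hk
        exact hη (hα η hk)
      omega) w ξ hne'
  have h1 := hcX.2 ⟨s.Y', s.g, s.lft, s.δY', s.compatY⟩ k α hα w hw γ hγf hγ
  obtain ⟨ζ, hζ, hζf, e3⟩ := e2 w hw γ (fun d' => by rw [hgc]; rfl) hγ w' hw'
  let v : (ξ : s.X') → Cyc.secFibre ((Scheme.Modules.pullback s.g').obj
      ((Scheme.Modules.pullback f).obj L)) ξ := fun ξ =>
    Groth.Agent.Lib.Helper18.BV2.fibreMap e ξ (w' ξ)
  have hv : ∀ ξ, v ξ ≠ 0 := fun ξ =>
    Groth.Agent.Lib.Helper18.BV2.fibreMap_ne_zero e hLX hLX' ξ (w' ξ) (hw' ξ)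
  have hζf' : ⇑ζ = Cyc.c1CapFun s.δX' ((Scheme.Modules.pullback s.g').obj
      ((Scheme.Modules.pullback f).obj L)) ⇑β v := by
    rw [Groth.Agent.Lib.Helper18.BV2.c1CapFun_iso e s.δX' hXs hLX hLX' ⇑β w' hw']
    funext d'
    rw [hζf d', hgc']
    rfl
  have hζ' : ζ ∈ Cyc.Zk s.X' s.δX' (k - p - 1) := (sub_right_comm k 1 p) ▸ hζ
  have h2 := hcX'.2 ⟨s.X', s.g', MorphismProperty.of_isPullback s.isPullback s.lft, s.δX',
    s.compatX⟩ (k - p) β hβ v hv ζ hζf' hζ'
  rw [h1, e3, e1, h2, Bivar.chCast_cl]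

end Groth.Agent.S17574
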