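import Groth.Statements.S19511
import Mathlib

set_option autoImplicit false
universe u
open CategoryTheory CategoryTheory.Limits AlgebraicGeometry
open Variety

namespace Groth.Agent.S19511

/-- Let k be a field and f : X → Y a k-morphism between proper k-schemes which is a fibration, i.e. O_Y
→ f_*O_X is an isomorphism (Γ(V, O_Y) → Γ(f⁻¹V, O_X) bijective for every open V ⊆ Y). Then f is
surjective. (The connectedness of the fibres asserted in (i) is quoted from the literature and not
stated.) -/
theorem result (k : Type u) [Field k] (X Y : Scheme.{u})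
    [X.Over (Spec (CommRingCat.of k))] [Y.Over (Spec (CommRingCat.of k))] [IsProper (X ↘ Spec (CommRingCat.of k))] [IsProper (Y ↘ Spec (CommRingCat.of k))]
    (f : X ⟶ Y) (hf : f ≫ (Y ↘ Spec (CommRingCat.of k)) = X ↘ Spec (CommRingCat.of k)) (hfib : ∀ V : Y.Opens, IsIso (f.app V)) :
    Surjective f := by
  -- f is proper since X → Spec k proper and Y → Spec k separated
  haveI : IsProper (f ≫ (Y ↘ Spec (CommRingCat.of k))) := by rw [hf]; infer_instance
  haveI : IsProper f := IsProper.of_comp f (Y ↘ Spec (CommRingCat.of k))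
  have hclosed : IsClosed (Set.range f.base) := f.isClosedMap.isClosed_range
  constructor
  by_contra hns
  have hne : (Set.range f.base)ᶜ.Nonempty := by
    rw [Set.nonempty_compl]
    intro h
    exact hns (Set.range_eq_univ.mp h)
  let V : Y.Opens := ⟨(Set.range f.base)ᶜ, hclosed.isOpen_compl⟩
  have hpre : f ⁻¹ᵁ V = ⊥ := by
    ext x
    constructor
    · intro h; exact ((h : f.base x ∈ (Set.range f.base)ᶜ) ⟨x, rfl⟩).elim
    · intro h; exact (h : x ∈ (⊥ : X.Opens)).elim
  haveI := hfib V
  have hsub : Subsingleton Γ(X, f ⁻¹ᵁ V) := by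
    rw [hpre]
    infer_instance
  have hsubY : Subsingleton Γ(Y, V) := by
    have e := (asIso (f.app V)).commRingCatIsoToRingEquiv
    exact e.toEquiv.subsingleton
  obtain ⟨y, hy⟩ := hne
  haveI hVne : Nonempty V := ⟨⟨y, hy⟩⟩
  have hnt : Nontrivial Γ(Y, V) := inferInstance
  exact not_subsingleton _ hsubY

end Groth.Agent.S19511
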