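import Groth.Statements.S19513
import Mathlib
import Groth.Agent.S19511
import Groth.Agent.Lib.Lead.FibNormal

set_option autoImplicit false
universe u
open CategoryTheory CategoryTheory.Limits AlgebraicGeometry
open Variety

namespace Groth.Agent.S19513

/-- Let k be a field and f : X → Y a k-morphism between proper k-schemes which is a fibration, i.e. O_Y
→ f_*O_X is an isomorphism (Γ(V, O_Y) → Γ(f⁻¹V, O_X) bijective for every open V ⊆ Y). If X is normal
(every local ring an integrally closed domain), then so is Y. -/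
theorem result (k : Type u) [Field k] (X Y : Scheme.{u})
    [X.Over (Spec (CommRingCat.of k))] [Y.Over (Spec (CommRingCat.of k))] [IsProper (X ↘ Spec (CommRingCat.of k))] [IsProper (Y ↘ Spec (CommRingCat.of k))]
    (f : X ⟶ Y) (hf : f ≫ (Y ↘ Spec (CommRingCat.of k)) = X ↘ Spec (CommRingCat.of k)) (hfib : ∀ V : Y.Opens, IsIso (f.app V))
    (hX : Pi1.IsNormalScheme X) : Pi1.IsNormalScheme Y := by
  classical
  have hsurj : Surjective f := Groth.Agent.S19511.result k X Y f hf hfib
  -- X is Noetherian
  have : IsLocallyNoetherian X :=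
    LocallyOfFiniteType.isLocallyNoetherian (X ↘ Spec (CommRingCat.of k))
  have : CompactSpace X := by
    have := (quasiCompact_iff_compactSpace (X ↘ Spec (CommRingCat.of k))).1 inferInstance
    exact this
  have : IsNoetherian X := { }
  have : TopologicalSpace.NoetherianSpace X := inferInstance
  have hfin : ∀ U : X.Opens, IsCompact (U : Set X) → (irreducibleComponents ↥U).Finite := by
    intro U _
    have : TopologicalSpace.NoetherianSpace ((U : Set X)) := inferInstance
    exact @TopologicalSpace.NoetherianSpace.finite_irreducibleComponents _ _ this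
  obtain ⟨hopen, hdisj⟩ := Groth.Agent.S9799.result X hfin hX
  have : IsReduced X := by
    have : ∀ x : X, _root_.IsReduced (X.presheaf.stalk x) := fun x => by
      have := (hX x).1
      infer_instance
    exact isReduced_of_isReduced_stalk X
  intro y
  obtain ⟨x₀, rfl⟩ := hsurj.surj y
  -- the irreducible component through x₀
  set Z : Set X := irreducibleComponent x₀ with hZdef
  have hZmem : Z ∈ irreducibleComponents X := irreducibleComponent_mem_irreducibleComponents x₀
  have hZo : IsOpen Z := hopen Z hZmem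
  have hZc : IsClosed Z := isClosed_irreducibleComponent
  have hx₀ : x₀ ∈ Z := mem_irreducibleComponent
  let Zo : X.Opens := ⟨Z, hZo⟩
  let W : X.Opens := ⟨Zᶜ, hZc.isOpen_compl⟩
  have hsup : Zo ⊔ W = ⊤ := by
    ext x
    simp only [TopologicalSpace.Opens.coe_sup, TopologicalSpace.Opens.coe_top, Set.mem_univ, iff_true]
    exact Classical.em (x ∈ Z)
  have hinf : Zo ⊓ W = ⊥ := by
    ext x
    simp only [TopologicalSpace.Opens.coe_inf, TopologicalSpace.Opens.coe_bot, Set.mem_empty_iff_false, iff_false]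
    rintro ⟨h1, h2⟩
    exact h2 h1
  obtain ⟨e, he, -⟩ := Groth.Agent.Lib.Lead.FibNormal.exists_section_of_isClopen X Zo W hsup hinf
  have := hfib ⊤
  let e' : Γ(Y, ⊤) := (inv (f.app ⊤)).hom e
  have he' : (f.app ⊤).hom e' = e := by
    change ((inv (f.app ⊤)) ≫ f.app ⊤).hom e = e
    rw [IsIso.inv_hom_id]
    rfl
  let V₀ : Y.Opens := Y.basicOpen e'
  have hpre : f ⁻¹ᵁ V₀ = Zo := by
    rw [Scheme.preimage_basicOpen]
    exact (congrArg X.basicOpen he').trans he
  have hyV : f.base x₀ ∈ V₀ := by
    have : x₀ ∈ f ⁻¹ᵁ V₀ := by rw [hpre]; exact hx₀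
    exact this
  -- restrict
  have hirr : IrreducibleSpace ↥(f ⁻¹ᵁ V₀) := by
    rw [hpre]
    have : IsIrreducible Z := isIrreducible_irreducibleComponent
    exact Subtype.irreducibleSpace this
  have : IsIntegral (f ⁻¹ᵁ V₀).toScheme := by
    have : IrreducibleSpace (f ⁻¹ᵁ V₀).toScheme := hirr
    exact isIntegral_of_irreducibleSpace_of_isReduced _
  have hX' : Pi1.IsNormalScheme (f ⁻¹ᵁ V₀).toScheme :=
    Groth.Agent.Lib.Lead.FibNormal.isNormalScheme_opens hX _
  have hsurj' : Function.Surjective (f ∣_ V₀).base := by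
    rintro ⟨y, hy⟩
    obtain ⟨x, rfl⟩ := hsurj.surj y
    refine ⟨⟨x, hy⟩, ?_⟩
    apply Subtype.ext
    exact morphismRestrict_base_coe f V₀ ⟨x, hy⟩
  have hfib' : ∀ V : V₀.toScheme.Opens, IsIso ((f ∣_ V₀).app V) := by
    intro V
    rw [morphismRestrict_app]
    have h1 : IsIso (f.app (V₀.ι ''ᵁ V)) := hfib _
    have h2 : IsIso (X.presheaf.map (eqToHom (image_morphismRestrict_preimage f V₀ V)).op) :=
      Functor.map_isIso _ _
    exact @IsIso.comp_isIso _ _ _ _ _ _ _ h1 h2
  have hV₀ : Pi1.IsNormalScheme V₀.toScheme :=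
    Groth.Agent.Lib.Lead.FibNormal.isNormalScheme_of_fibration_integral hX' (f ∣_ V₀) hsurj' hfib'
  exact Groth.Agent.Lib.Lead.FibNormal.stalk_of_isNormalScheme_opens V₀ hV₀ _ hyV

end Groth.Agent.S19513
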