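import Groth.Statements.S17584
import Mathlib
import Groth.Agent.S19513
import Groth.Agent.Lib.Helper29.GenLocus

set_option autoImplicit false
open CategoryTheory CategoryTheory.Limits AlgebraicGeometry
open PosLin

namespace Groth.Agent.S17584

/-- Let X and Y each be a projective variety over the complex numbers (an integral scheme, proper over
ℂ, with an ample invertible module), and f : X → Y an algebraic fibre space (a surjective morphism
over ℂ with O_Y → f_*O_X an isomorphism). If X is normal, then Y is normal. -/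
theorem result (X : Scheme.{0}) [X.Over (Spec (CommRingCat.of ℂ))] [IsIntegral X] [IsProper (X ↘ Spec (CommRingCat.of ℂ))]
    (HX : X.Modules) (hHX : CohB1.IsAmple HX)
    (Y : Scheme.{0}) [Y.Over (Spec (CommRingCat.of ℂ))] [IsIntegral Y] [IsProper (Y ↘ Spec (CommRingCat.of ℂ))]
    (HY : Y.Modules) (hHY : CohB1.IsAmple HY)
    (f : X ⟶ Y) (hf : f ≫ (Y ↘ Spec (CommRingCat.of ℂ)) = X ↘ Spec (CommRingCat.of ℂ)) [Surjective f]
    (hfs : IsIso (ClSub.unitToPush f))
    (hX : Pi1.IsNormalScheme X) : Pi1.IsNormalScheme Y := by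
  have hfib : ∀ V : Y.Opens, IsIso (f.app V) := by
    intro V
    have hb := Groth.Agent.Lib.Helper29.QCoh.app_bijective_of_isIso (ClSub.unitToPush f) V
    have hb' : Function.Bijective ((f.app V).hom : Γ(Y, V) → Γ(X, f ⁻¹ᵁ V)) := hb
    exact (ConcreteCategory.isIso_iff_bijective (f.app V)).2 hb'
  exact Groth.Agent.S19513.result ℂ X Y f hf hfib hX

end Groth.Agent.S17584
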