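import Groth.Statements.S17592
import Mathlib
import Groth.Agent.Lib.Helper4.HenselPairU

set_option autoImplicit false
universe u
open Hensel

namespace Groth.Agent.S17592

open scoped TensorProduct in
open Groth.Agent.Lib.Helper4.HenselPair in
/-- Let R → S be an étale ring map and I an ideal of R such that the induced map R/I → S/IS is
bijective. Then a Henselization of the pair (S, IS), regarded as an R-algebra, is a Henselization of
the pair (R, I). -/
theorem result (R : Type u) [CommRing R] (I : Ideal R)
    (S : Type u) [CommRing S] [Algebra R S] [Algebra.Etale R S]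
    (hq : Function.Bijective
      (Ideal.quotientMap (I.map (algebraMap R S)) (algebraMap R S) Ideal.le_comap_map))
    (H : Type u) [CommRing H] [Algebra S H] [Algebra R H] [IsScalarTower R S H]
    (hH : Hens2.IsPairHenselization S (I.map (algebraMap R S)) H) :
    Hens2.IsPairHenselization R I H := by
  classical
  set IS : Ideal S := I.map (algebraMap R S) with hIS
  have hIH : IS.map (algebraMap S H) = I.map (algebraMap R H) := by
    rw [hIS, Ideal.map_map, ← IsScalarTower.algebraMap_eq]
  refine ⟨hIH ▸ hH.1, ?_⟩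
  intro C _ J f hCJ hfJ
  let _ : Algebra R C := f.toAlgebra
  have hfalg : ∀ r, algebraMap R C r = f r := fun r => rfl
  have hIJ : I ≤ J.comap f := Ideal.map_le_iff_le_comap.mp hfJ
  let e : R ⧸ I ≃+* S ⧸ IS :=
    RingEquiv.ofBijective (Ideal.quotientMap IS (algebraMap R S) Ideal.le_comap_map) hq
  let χ : R ⧸ I →+* C ⧸ J := Ideal.quotientMap J f hIJ
  let σ₀ : S →ₐ[R] C ⧸ J :=
    { toRingHom := χ.comp ((e.symm : S ⧸ IS →+* R ⧸ I).comp (Ideal.Quotient.mk IS))
      commutes' := fun r => by
        change χ (e.symm (Ideal.Quotient.mk IS (algebraMap R S r))) = algebraMap R (C ⧸ J) r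
        have : Ideal.Quotient.mk IS (algebraMap R S r) = e (Ideal.Quotient.mk I r) := by
          change _ = Ideal.quotientMap IS (algebraMap R S) Ideal.le_comap_map (Ideal.Quotient.mk I r)
          rw [Ideal.quotientMap_mk]
        rw [this, RingEquiv.symm_apply_apply]
        change Ideal.quotientMap J f hIJ (Ideal.Quotient.mk I r) = _
        rw [Ideal.quotientMap_mk]
        rfl }
  -- every element of `S` is congruent to an element of `R` modulo `IS`
  have hdecomp : ∀ s : S, ∃ r : R, s - algebraMap R S r ∈ IS := by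
    intro s
    obtain ⟨x, hx⟩ := hq.2 (Ideal.Quotient.mk IS s)
    obtain ⟨r, rfl⟩ := Ideal.Quotient.mk_surjective x
    rw [Ideal.quotientMap_mk] at hx
    exact ⟨r, by rw [← Ideal.Quotient.eq_zero_iff_mem, map_sub, hx, sub_self]⟩
  -- any `R`-algebra map `S → C` is determined modulo `J`
  have hmodJ : ∀ θ₁ θ₂ : S →ₐ[R] C, ∀ s, θ₁ s - θ₂ s ∈ J := by
    intro θ₁ θ₂ s
    obtain ⟨r, hr⟩ := hdecomp s
    have hmem : ∀ θ : S →ₐ[R] C, θ (s - algebraMap R S r) ∈ J := by
      intro θ
      have hle : IS ≤ J.comap (θ : S →+* C) := by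
        rw [hIS, Ideal.map_le_iff_le_comap]
        intro a ha
        rw [Ideal.mem_comap, Ideal.mem_comap]
        change θ (algebraMap R S a) ∈ J
        rw [θ.commutes]
        exact hIJ ha
      exact hle hr
    have h1 := hmem θ₁
    have h2 := hmem θ₂
    rw [map_sub, AlgHom.commutes] at h1 h2
    have : θ₁ s - θ₂ s = (θ₁ s - algebraMap R C r) - (θ₂ s - algebraMap R C r) := by ring
    rw [this]
    exact J.sub_mem h1 h2
  let σ : C ⊗[R] S →ₐ[C] C ⧸ J :=
    Algebra.TensorProduct.lift (Algebra.ofId C (C ⧸ J)) σ₀ (fun _ _ => Commute.all _ _)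
  obtain ⟨τ, hτ⟩ := exists_lift_of_etale J σ
  let θ : S →ₐ[R] C := (τ.restrictScalars R).comp Algebra.TensorProduct.includeRight
  have hθJ : IS.map (θ : S →+* C) ≤ J := by
    rw [hIS, Ideal.map_map, Ideal.map_le_iff_le_comap]
    intro a ha
    rw [Ideal.mem_comap]
    change θ (algebraMap R S a) ∈ J
    rw [θ.commutes]
    exact hIJ ha
  obtain ⟨g, hg, hguniq⟩ := hH.2 C J (θ : S →+* C) hCJ hθJ
  refine ⟨g, ?_, ?_⟩
  · ext r
    have := congrArg (fun ψ : S →+* C => ψ (algebraMap R S r)) hg
    simp only [RingHom.comp_apply] at this ⊢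
    rw [IsScalarTower.algebraMap_apply R S H, this]
    exact θ.commutes r
  · intro g' hg'
    apply hguniq
    let θ' : S →ₐ[R] C :=
      { toRingHom := g'.comp (algebraMap S H)
        commutes' := fun r => by
          have := congrArg (fun ψ : R →+* C => ψ r) hg'
          simp only [RingHom.comp_apply] at this
          change g' (algebraMap S H (algebraMap R S r)) = algebraMap R C r
          rw [← IsScalarTower.algebraMap_apply R S H, this]
          rfl }
    have : θ' = θ := algHom_ext_of_unramified J HenselianRing.jac θ' θ (hmodJ θ' θ)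
    have h3 := congrArg (fun ψ : S →ₐ[R] C => (ψ : S →+* C)) this
    exact h3

end Groth.Agent.S17592
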