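import Groth.Statements.S17593
import Mathlib
import Groth.Agent.Lib.Helper4.NbhdShrink
import Groth.Agent.Lib.Helper18.FlI
-- import your own Groth.Agent.* helpers here

set_option autoImplicit false
universe u
open Hensel

namespace Groth.Agent.S17593


/-- Suppose (A, I) is a Henselian pair, and R is an A-algebra of finite presentation for which A → R is
flat at each prime of R that contains IR. Then there is an étale R-algebra R' such that R/IR →
R'/IR' is bijective and A → R' is flat. -/
theorem result (A : Type u) [CommRing A] (I : Ideal A) [HenselianRing A I]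
    (R : Type u) [CommRing R] [Algebra A R] [Algebra.FinitePresentation A R]
    (h : ∀ (p : Ideal R) [p.IsPrime], I.map (algebraMap A R) ≤ p → Module.Flat A (Localization.AtPrime p))
    : ∃ (R' : Type u) (_ : CommRing R') (_ : Algebra R R') (_ : Algebra A R') (_ : IsScalarTower A R R'),
      Algebra.Etale R R' ∧
      Function.Bijective (Ideal.quotientMap ((I.map (algebraMap A R)).map (algebraMap R R'))
        (algebraMap R R') Ideal.le_comap_map) ∧ Module.Flat A R' := by
  classical
  set J := I.map (algebraMap A R) with hJ
  have hopen := Groth.Agent.Lib.Helper18.Fl.isOpen_flatLocus (R := A) (S := R) (M := R)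
  set U := {q : PrimeSpectrum R | Module.Flat A (LocalizedModule q.asIdeal.primeCompl R)} with hU
  set K := PrimeSpectrum.vanishingIdeal Uᶜ with hK
  -- the two incarnations of the local ring
  have hequiv : ∀ (p : Ideal R) [p.IsPrime], Module.Flat A (Localization.AtPrime p) →
      Module.Flat A (LocalizedModule p.primeCompl R) := by
    intro p _ hp
    have e := IsLocalizedModule.iso p.primeCompl (Algebra.linearMap R (Localization.AtPrime p))
    exact Module.Flat.of_linearEquiv (e.restrictScalars A)
  have hKU : ∀ q : PrimeSpectrum R, K ≤ q.asIdeal → q ∉ U := by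
    intro q hq hqU
    have h1 : q ∈ PrimeSpectrum.zeroLocus (K : Set R) := hq
    rw [hK, PrimeSpectrum.zeroLocus_vanishingIdeal_eq_closure,
      hopen.isClosed_compl.closure_eq] at h1
    exact h1 hqU
  have htop : K ⊔ J = ⊤ := by
    by_contra hne
    obtain ⟨m, hm, hle⟩ := Ideal.exists_le_maximal _ hne
    haveI := hm.isPrime
    have h1 : K ≤ m := le_sup_left.trans hle
    have h2 : J ≤ m := le_sup_right.trans hle
    exact hKU ⟨m, hm.isPrime⟩ h1 (hequiv m (h m h2))
  have h1 : (1 : R) ∈ K ⊔ J := by rw [htop]; trivial
  obtain ⟨f, hf, j, hj, hfj⟩ := Submodule.mem_sup.mp h1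
  have hf1 : f - 1 ∈ J := by
    have : f - 1 = -j := by rw [← hfj]; ring
    rw [this]; exact J.neg_mem hj
  refine ⟨Localization.Away f, inferInstance, inferInstance, inferInstance, inferInstance,
    inferInstance, ?_, ?_⟩
  · exact Groth.Agent.Lib.Helper4.NbhdShrink.bijective_quotientMap_away J f hf1
  · have hloc : Module.Flat A (LocalizedModule (Submonoid.powers f) R) := by
      rw [Groth.Agent.Lib.Helper18.Fl.flat_localizedModule_iff_forall_prime]
      intro Q _ hQ
      by_contra hflat
      have hQU : (⟨Q, inferInstance⟩ : PrimeSpectrum R) ∈ Uᶜ := hflat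
      have hfQ : f ∈ Q := (PrimeSpectrum.mem_vanishingIdeal _ _).mp hf _ hQU
      exact Set.disjoint_left.mp hQ hfQ (Submonoid.mem_powers f)
    have e := IsLocalizedModule.iso (Submonoid.powers f)
      (Algebra.linearMap R (Localization.Away f))
    exact Module.Flat.of_linearEquiv (e.restrictScalars A).symm

end Groth.Agent.S17593
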