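import Groth.Statements.S17595
import Mathlib
import Groth.Agent.Lib.Helper4.HenselPairZ2
import Groth.Agent.Lib.Helper4.NbhdShrink

set_option autoImplicit false
universe u
open Hensel

namespace Groth.Agent.S17595

open Groth.Agent.Lib.Helper4 in
/-- Suppose (A, I) is a Henselian pair, and R is an A-algebra of finite presentation for which A → R is
quasi-finite at each prime of R that contains IR. Then there is an étale R-algebra R' such that R/IR
→ R'/IR' is bijective and A → R' is quasi-finite. -/
theorem result (A : Type u) [CommRing A] (I : Ideal A) [HenselianRing A I]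
    (R : Type u) [CommRing R] [Algebra A R] [Algebra.FinitePresentation A R]
    (h : ∀ (p : Ideal R) [p.IsPrime], I.map (algebraMap A R) ≤ p → Algebra.QuasiFiniteAt A p)
    : ∃ (R' : Type u) (_ : CommRing R') (_ : Algebra R R') (_ : Algebra A R') (_ : IsScalarTower A R R'),
      Algebra.Etale R R' ∧
      Function.Bijective (Ideal.quotientMap ((I.map (algebraMap A R)).map (algebraMap R R'))
        (algebraMap R R') Ideal.le_comap_map) ∧ Algebra.QuasiFinite A R' := by
  classical
  set J := I.map (algebraMap A R) with hJ
  obtain ⟨S', hS', t, htS, hspan, htx⟩ :=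
    HenselPair.exists_finite_subalgebra_cover_of_quasiFiniteAt (R := A) J
      (fun q _ hq => h q hq)
  have h1 : (1 : R) ∈ Ideal.span (t : Set R) ⊔ J := by rw [hspan]; trivial
  obtain ⟨f, hf, j, hj, hfj⟩ := Submodule.mem_sup.mp h1
  have hf1 : f - 1 ∈ J := by
    have : f - 1 = -j := by rw [← hfj]; ring
    rw [this]; exact J.neg_mem hj
  refine ⟨Localization.Away f, inferInstance, inferInstance, inferInstance, inferInstance,
    inferInstance, ?_, ?_⟩
  · exact NbhdShrink.bijective_quotientMap_away J f hf1
  · -- quasi-finite
    have hfin : Module.Finite A S' := Module.Finite.iff_fg.mpr hS'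
    rw [← RingHom.quasiFinite_algebraMap]
    refine RingHom.QuasiFinite.ofLocalizationSpanTarget _
      ((algebraMap R (Localization.Away f)) '' (t : Set R)) ?_ ?_
    · -- span = ⊤
      rw [← Ideal.map_span, Ideal.eq_top_iff_one]
      have hu : IsUnit (algebraMap R (Localization.Away f) f) :=
        IsLocalization.Away.algebraMap_isUnit f
      have hmem : algebraMap R (Localization.Away f) f ∈
          (Ideal.span (t : Set R)).map (algebraMap R (Localization.Away f)) :=
        Ideal.mem_map_of_mem _ hf
      exact (Ideal.eq_top_of_isUnit_mem _ hmem hu) ▸ Submodule.mem_top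
    · rintro ⟨_, r, hr, rfl⟩
      set T := Localization.Away (algebraMap R (Localization.Away f) r) with hT
      have hcomp : (algebraMap (Localization.Away f) T).comp (algebraMap A (Localization.Away f))
          = algebraMap A T := (IsScalarTower.algebraMap_eq A (Localization.Away f) T).symm
      show ((algebraMap (Localization.Away f) T).comp
        (algebraMap A (Localization.Away f))).QuasiFinite
      rw [hcomp, RingHom.quasiFinite_algebraMap]
      -- the map S' → T
      let φ : S' →ₐ[A] T :=
        ((IsScalarTower.toAlgHom A (Localization.Away f) T).comp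
          (IsScalarTower.toAlgHom A R (Localization.Away f))).comp S'.val
      have hφ : ∀ s : S', φ s = algebraMap (Localization.Away f) T
          (algebraMap R (Localization.Away f) (s : R)) := fun s => rfl
      refine Algebra.QuasiFinite.of_forall_exists_mul_mem_range φ fun x => ?_
      -- write x with denominators
      obtain ⟨b, z, hz⟩ := IsLocalization.Away.surj (algebraMap R (Localization.Away f) r) x
      obtain ⟨a, y, hy⟩ := IsLocalization.Away.surj f z
      obtain ⟨N, hN⟩ := htx r hr f
      obtain ⟨M, hM⟩ := htx r hr (r ^ (N * a) * y)
      have hrS : r ∈ S' := htS r hr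
      let s : S' := ⟨r ^ N * f, hN⟩ ^ a * ⟨r, hrS⟩ ^ b * ⟨r, hrS⟩ ^ M
      have hs : (s : R) = (r ^ N * f) ^ a * r ^ b * r ^ M := by
        simp [s]
      have hru : IsUnit (algebraMap (Localization.Away f) T
          (algebraMap R (Localization.Away f) r)) :=
        IsLocalization.Away.algebraMap_isUnit _
      have hfu : IsUnit (algebraMap (Localization.Away f) T
          (algebraMap R (Localization.Away f) f)) :=
        (IsLocalization.Away.algebraMap_isUnit f).map _
      refine ⟨s, ?_, ⟨⟨r ^ M * (r ^ (N * a) * y), hM⟩, ?_⟩⟩
      · rw [hφ, hs]
        simp only [map_mul, map_pow]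
        exact (((hru.pow N).mul hfu).pow a |>.mul (hru.pow b)).mul (hru.pow M)
      · show φ ⟨r ^ M * (r ^ (N * a) * y), hM⟩ = x * φ s
        rw [hφ, hφ, hs]
        simp only [map_mul, map_pow]
        have e1 : x * (algebraMap (Localization.Away f) T
            (algebraMap R (Localization.Away f) r)) ^ b = algebraMap (Localization.Away f) T z := hz
        have e2 : z * (algebraMap R (Localization.Away f) f) ^ a =
            algebraMap R (Localization.Away f) y := hy
        have e3 : algebraMap (Localization.Away f) T z *
            (algebraMap (Localization.Away f) T (algebraMap R (Localization.Away f) f)) ^ a =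
            algebraMap (Localization.Away f) T (algebraMap R (Localization.Away f) y) := by
          rw [← e2]; simp
        rw [← e3, ← e1]
        ring

end Groth.Agent.S17595
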