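import Groth.Statements.S17599
import Mathlib
import Groth.Agent.Lib.Helper4.HEtApprox
import Groth.Agent.Lib.Helper4.HenselPairLE
import Groth.Agent.Lib.Helper4.HenselPairS
import Groth.Agent.Lib.Helper12.HzPairUniv
import Groth.Agent.S6827
import Groth.Agent.S0536

set_option autoImplicit false
universe u
open Hensel

namespace Groth.Agent.S17599


open Groth.Agent.Lib.Helper4 in
/-- Let (A, I) be a Henselian pair and let B be a Henselization of the pair (R₀, IR₀) for a finitely
presented A-algebra R₀ (so A → B is a Henselian finitely presented map of Henselian pairs). Assume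
that A/I^r → B/I^rB is smooth for every r ≥ 1 (for Henselian finitely presented maps this is
equivalent to the h-formally smooth lifting property). Then there exist a smooth A-algebra R, a
Henselization H of the pair (R, IR) and a surjective A-algebra map H → B whose kernel is a finitely
generated ideal contained in I^n H for every n. -/
theorem result (A : Type u) [CommRing A] (I : Ideal A)
    [HenselianRing A I] (R₀ : Type u) [CommRing R₀] [Algebra A R₀] [Algebra.FinitePresentation A R₀]
    (B : Type u) [CommRing B] [Algebra R₀ B] [Algebra A B] [IsScalarTower A R₀ B]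
    (hB : Hens2.IsPairHenselization R₀ (I.map (algebraMap A R₀)) B)
    (het : ∀ r : ℕ, 1 ≤ r → Algebra.Smooth (A ⧸ I ^ r) (B ⧸ (I ^ r).map (algebraMap A B))) :
    ∃ (R : Type u) (_ : CommRing R) (_ : Algebra A R) (H : Type u) (_ : CommRing H) (_ : Algebra R H)
      (_ : Algebra A H) (_ : IsScalarTower A R H),
      Algebra.Smooth A R ∧ Hens2.IsPairHenselization R (I.map (algebraMap A R)) H ∧
      ∃ φ : H →ₐ[A] B, Function.Surjective φ ∧ (RingHom.ker φ).FG ∧
        ∀ n : ℕ, RingHom.ker φ ≤ (I ^ n).map (algebraMap A H) := by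
  classical
  -- Step 1: a smooth lift of `B / I B`
  haveI hsm1 := het 1 le_rfl
  obtain ⟨R, _, _, hRet, ⟨e⟩⟩ := Groth.Agent.S6827.result (R := A) (I ^ 1)
    (A₀ := B ⧸ (I ^ 1).map (algebraMap A B))
  let ψ : R →ₐ[A] (B ⧸ (I ^ 1).map (algebraMap A B)) :=
    ((e.restrictScalars A : _ ≃ₐ[A] _) : _ →ₐ[A] _).comp
      (Ideal.Quotient.mkₐ A ((I ^ 1).map (algebraMap A R)))
  have hψs : Function.Surjective ψ := by
    intro y
    obtain ⟨x, rfl⟩ := e.surjective y
    obtain ⟨r, rfl⟩ := Ideal.Quotient.mk_surjective x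
    exact ⟨r, rfl⟩
  have hψk : RingHom.ker ψ = (I ^ 1).map (algebraMap A R) := by
    ext r
    rw [RingHom.mem_ker]
    show e (Ideal.Quotient.mk _ r) = 0 ↔ _
    rw [map_eq_zero_iff e e.injective, Ideal.Quotient.eq_zero_iff_mem]
  have hψk' : RingHom.ker ψ = I.map (algebraMap A R) := by rw [hψk, pow_one]
  -- Step 2: lift `R → B`
  have hBh0 : HenselianRing B (I.map (algebraMap A B)) := by
    have := hB.1
    rwa [Ideal.map_map, ← IsScalarTower.algebraMap_eq] at this
  have hBh : HenselianRing B ((I ^ 1).map (algebraMap A B)) := by rwa [pow_one]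
  haveI := hBh
  haveI := hRet
  obtain ⟨τ, hτ⟩ := Groth.Agent.S0536.result A R B ((I ^ 1).map (algebraMap A B)) ψ
  have hτ' : ∀ r, Ideal.Quotient.mk ((I ^ 1).map (algebraMap A B)) (τ r) = ψ r :=
    fun r => DFunLike.congr_fun hτ r
  let _ : Algebra R B := τ.toRingHom.toAlgebra
  have _ : IsScalarTower A R B := IsScalarTower.of_algebraMap_eq (fun a => (τ.commutes a).symm)
  have halgRB : ∀ r, algebraMap R B r = τ r := fun r => rfl
  -- Step 3: the henselization of `R`
  have hH : Hens2.IsPairHenselization R (I.map (algebraMap A R))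
      (Groth.Agent.Lib.Helper12.HzPair.Hz (I.map (algebraMap A R))) :=
    Groth.Agent.Lib.Helper12.HzPair.Hz.isPairHenselization _
  let _ : Algebra A (Groth.Agent.Lib.Helper12.HzPair.Hz (I.map (algebraMap A R))) :=
    ((algebraMap R (Groth.Agent.Lib.Helper12.HzPair.Hz (I.map (algebraMap A R)))).comp
      (algebraMap A R)).toAlgebra
  have htowerH : IsScalarTower A R (Groth.Agent.Lib.Helper12.HzPair.Hz (I.map (algebraMap A R))) :=
    IsScalarTower.of_algebraMap_eq (fun _ => rfl)
  have hIB : (I.map (algebraMap A R)).map (algebraMap R B) ≤ I.map (algebraMap A B) := by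
    rw [Ideal.map_map, ← IsScalarTower.algebraMap_eq]
  obtain ⟨φ₀, hφ₀, -⟩ := hH.2 B (I.map (algebraMap A B)) (algebraMap R B) hBh0 hIB
  have hφ₀' : ∀ r, φ₀ (algebraMap R _ r) = algebraMap R B r := fun r =>
    congrArg (fun f => f r) hφ₀
  let φ : Groth.Agent.Lib.Helper12.HzPair.Hz (I.map (algebraMap A R)) →ₐ[A] B :=
    { φ₀ with
      commutes' := fun a => by
        show φ₀ (algebraMap R _ (algebraMap A R a)) = algebraMap A B a
        rw [hφ₀', ← IsScalarTower.algebraMap_apply] }
  let _ : Algebra (Groth.Agent.Lib.Helper12.HzPair.Hz (I.map (algebraMap A R))) B :=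
    φ.toRingHom.toAlgebra
  have _ : IsScalarTower A (Groth.Agent.Lib.Helper12.HzPair.Hz (I.map (algebraMap A R))) B :=
    IsScalarTower.of_algebraMap_eq (fun a => (φ.commutes a).symm)
  have _ : IsScalarTower R (Groth.Agent.Lib.Helper12.HzPair.Hz (I.map (algebraMap A R))) B :=
    IsScalarTower.of_algebraMap_eq (fun r => (hφ₀' r).symm)
  refine ⟨R, inferInstance, inferInstance, Groth.Agent.Lib.Helper12.HzPair.Hz (I.map (algebraMap A R)),
    inferInstance, inferInstance, inferInstance, htowerH, hRet, hH, φ, ?_⟩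
  have hidH : (I.map (algebraMap A R)).map (algebraMap R
      (Groth.Agent.Lib.Helper12.HzPair.Hz (I.map (algebraMap A R)))) =
      I.map (algebraMap A (Groth.Agent.Lib.Helper12.HzPair.Hz (I.map (algebraMap A R)))) := by
    rw [Ideal.map_map]
    rfl
  have halgHB : ∀ h, algebraMap (Groth.Agent.Lib.Helper12.HzPair.Hz (I.map (algebraMap A R))) B h =
      φ₀ h := fun h => rfl
  have hmain := HEtApprox.main I hH hB
    (by
      intro b
      obtain ⟨r, hr⟩ := hψs (Ideal.Quotient.mk _ b)
      refine ⟨algebraMap R _ r, ?_⟩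
      rw [halgHB, hφ₀', halgRB]
      have h3 := (hτ' r).trans hr
      have h4 := Ideal.Quotient.eq.mp h3.symm
      rwa [pow_one] at h4)
    (by
      intro h hh
      obtain ⟨x, hx⟩ := (HzPairEt.redMap_bijective hH).2 (Ideal.Quotient.mk _ h)
      obtain ⟨r, rfl⟩ := Ideal.Quotient.mk_surjective x
      rw [HzPairEt.redMap_mk] at hx
      have hi : h - algebraMap R _ r ∈
          I.map (algebraMap A (Groth.Agent.Lib.Helper12.HzPair.Hz (I.map (algebraMap A R)))) :=
        Ideal.Quotient.eq.mp hx.symm
      have hφi : φ₀ (h - algebraMap R _ r) ∈ I.map (algebraMap A B) := by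
        have h5 := Ideal.mem_map_of_mem (algebraMap
          (Groth.Agent.Lib.Helper12.HzPair.Hz (I.map (algebraMap A R))) B) hi
        rwa [Ideal.map_map, ← IsScalarTower.algebraMap_eq] at h5
      rw [halgHB] at hh
      have hτr : τ r ∈ I.map (algebraMap A B) := by
        have h6 : τ r = φ₀ h - φ₀ (h - algebraMap R _ r) := by
          rw [map_sub, hφ₀', halgRB]; ring
        rw [h6]
        exact Ideal.sub_mem _ hh hφi
      have hψr : ψ r = 0 := by
        rw [← hτ' r, Ideal.Quotient.eq_zero_iff_mem, pow_one]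
        exact hτr
      have hrI : r ∈ I.map (algebraMap A R) := by
        rw [← hψk']
        exact hψr
      have h7 : algebraMap R (Groth.Agent.Lib.Helper12.HzPair.Hz (I.map (algebraMap A R))) r ∈
          I.map (algebraMap A (Groth.Agent.Lib.Helper12.HzPair.Hz (I.map (algebraMap A R)))) := by
        rw [← hidH]
        exact Ideal.mem_map_of_mem _ hrI
      have h8 : h = (h - algebraMap R _ r) + algebraMap R _ r := by ring
      rw [h8]
      exact Ideal.add_mem _ hi h7)
    (by
      intro n hn
      have := het n hn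
      infer_instance)
  exact hmain

end Groth.Agent.S17599
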