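import Groth.Statements.S17600
import Mathlib
import Groth.Agent.S17598
import Groth.Agent.Lib.Helper4.HzPairBase

set_option autoImplicit false
universe u
open Hensel

namespace Groth.Agent.S17600

open Groth.Agent.Lib.Helper4 in
/-- Let (A, I) be a Henselian pair and let B be a Henselization of the pair (R₀, IR₀) for a finitely
presented A-algebra R₀ (so A → B is Henselian finitely presented). If B is flat over A and A/I^r →
B/I^rB is étale for every r ≥ 1 (the h-formally étale property, in its equivalent form for Henselian
finitely presented maps), then A → B is h-étale: there is an étale A-algebra R, with an R-algebra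
structure on B compatible with that of A, such that B is a Henselization of the pair (R, IR). -/
theorem result (A : Type u) [CommRing A] (I : Ideal A)
    [HenselianRing A I] (R₀ : Type u) [CommRing R₀] [Algebra A R₀] [Algebra.FinitePresentation A R₀]
    (B : Type u) [CommRing B] [Algebra R₀ B] [Algebra A B] [IsScalarTower A R₀ B]
    (hB : Hens2.IsPairHenselization R₀ (I.map (algebraMap A R₀)) B) [Module.Flat A B]
    (het : ∀ r : ℕ, 1 ≤ r → Algebra.Etale (A ⧸ I ^ r) (B ⧸ (I ^ r).map (algebraMap A B))) :
    ∃ (R : Type u) (_ : CommRing R) (_ : Algebra A R) (_ : Algebra R B) (_ : IsScalarTower A R B),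
      Algebra.Etale A R ∧ Hens2.IsPairHenselization R (I.map (algebraMap A R)) B := by
  classical
  obtain ⟨R, _, _, H, _, _, _, _, hRet, hH, φ, hφs, hφfg, hφk⟩ :=
    Groth.Agent.S17598.result A I R₀ B hB het
  have hHjac : I.map (algebraMap A H) ≤ Ideal.jacobson ⊥ := by
    have := hH.1.jac
    rwa [Ideal.map_map, ← IsScalarTower.algebraMap_eq] at this
  -- the kernel is `I`-divisible
  have hker := LinearMap.ker_inf_smul_top_eq_smul_of_flat I φ.toLinearMap hφs
  have hkerle : LinearMap.ker φ.toLinearMap ≤ I • (⊤ : Submodule A H) := by
    intro x hx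
    rw [Ideal.smul_top_eq_map]
    have h1 := hφk 1 (show x ∈ RingHom.ker φ from hx)
    rwa [pow_one] at h1
  have hK : LinearMap.ker φ.toLinearMap = I • LinearMap.ker φ.toLinearMap := by
    rw [← hker]
    exact (inf_eq_left.mpr hkerle).symm
  have hN : RingHom.ker φ ≤ (I.map (algebraMap A H)) • RingHom.ker φ := by
    intro x hx
    have hx' : x ∈ I • LinearMap.ker φ.toLinearMap := by
      rw [← hK]
      exact hx
    refine Submodule.smul_induction_on hx' ?_ ?_
    · intro a ha n hn
      have h2 : a • n = (algebraMap A H a) • n := by rw [Algebra.smul_def, smul_eq_mul]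
      rw [h2]
      exact Submodule.smul_mem_smul (Ideal.mem_map_of_mem (algebraMap A H) ha)
        (show n ∈ RingHom.ker φ from hn)
    · intro y z hy hz
      exact add_mem hy hz
  have hbot : RingHom.ker φ = ⊥ :=
    Submodule.eq_bot_of_le_smul_of_le_jacobson_bot (I.map (algebraMap A H)) (RingHom.ker φ)
      hφfg hN hHjac
  have hinj : Function.Injective φ := (RingHom.injective_iff_ker_eq_bot φ.toRingHom).mpr hbot
  let e : H ≃+* B := RingEquiv.ofBijective φ.toRingHom ⟨hinj, hφs⟩
  let _ : Algebra R B := (φ.toRingHom.comp (algebraMap R H)).toAlgebra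
  have htower : IsScalarTower A R B := IsScalarTower.of_algebraMap_eq (fun a => by
    show algebraMap A B a = φ (algebraMap R H (algebraMap A R a))
    rw [← IsScalarTower.algebraMap_apply, φ.commutes])
  refine ⟨R, inferInstance, inferInstance, inferInstance, htower, hRet, ?_⟩
  exact HzPairBase.transport_right _ hH e rfl

end Groth.Agent.S17600
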