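import Groth.Statements.S17604
import Mathlib
import Groth.Agent.Lib.Helper4.HenselPairS
import Groth.Agent.Lib.Helper4.HenselPairU

set_option autoImplicit false
universe u
open Hensel

namespace Groth.Agent.S17604

open Groth.Agent.Lib.Helper4 in
/-- Let (A, I) be a Henselian pair, R and R' étale A-algebras, and B, B' Henselizations of the pairs (R,
IR), (R', IR') with their induced A-algebra structures (so B and B' are h-étale over A). Then
reduction modulo I is a bijection from A-algebra maps B → B' to A-algebra maps B/IB → B'/IB': two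
A-algebra maps B → B' that agree modulo IB' are equal, and every A-algebra map B/IB → B'/IB' is
induced by an A-algebra map B → B'. -/
theorem result (A : Type u) [CommRing A]
    (I : Ideal A) [HenselianRing A I]
    (R : Type u) [CommRing R] [Algebra A R] [Algebra.Etale A R]
    (B : Type u) [CommRing B] [Algebra R B] [Algebra A B] [IsScalarTower A R B]
    (hB : Hens2.IsPairHenselization R (I.map (algebraMap A R)) B)
    (R' : Type u) [CommRing R'] [Algebra A R'] [Algebra.Etale A R']
    (B' : Type u) [CommRing B'] [Algebra R' B'] [Algebra A B'] [IsScalarTower A R' B']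
    (hB' : Hens2.IsPairHenselization R' (I.map (algebraMap A R')) B') :
    (∀ φ ψ : B →ₐ[A] B', (∀ b : B, φ b - ψ b ∈ I.map (algebraMap A B')) → φ = ψ) ∧
    ∀ χ : (B ⧸ I.map (algebraMap A B)) →ₐ[A] (B' ⧸ I.map (algebraMap A B')),
      ∃ φ : B →ₐ[A] B', ∀ b : B,
        Ideal.Quotient.mk (I.map (algebraMap A B')) (φ b) = χ (Ideal.Quotient.mk (I.map (algebraMap A B)) b) := by
  have hJ' : (I.map (algebraMap A R')).map (algebraMap R' B') = I.map (algebraMap A B') := by
    rw [Ideal.map_map, ← IsScalarTower.algebraMap_eq]
  have hHens' : HenselianRing B' (I.map (algebraMap A B')) := hJ' ▸ hB'.1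
  have hbot : HenselianRing (B' ⧸ I.map (algebraMap A B')) ⊥ :=
    { jac := bot_le
      is_henselian := fun f _ a₀ h₁ _ => ⟨a₀, by simpa using h₁, by simp⟩ }
  constructor
  · intro φ ψ h
    have h1 : (φ.comp (IsScalarTower.toAlgHom A R B)) = (ψ.comp (IsScalarTower.toAlgHom A R B)) := by
      refine HenselPair.algHom_ext_of_unramified (I.map (algebraMap A B')) hHens'.jac _ _ fun a => ?_
      exact h (algebraMap R B a)
    have hφA : φ.toRingHom.comp (algebraMap A B) = algebraMap A B' := φ.comp_algebraMap
    have hle : (I.map (algebraMap A R)).map (φ.toRingHom.comp (algebraMap R B)) ≤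
        I.map (algebraMap A B') := by
      rw [Ideal.map_map, RingHom.comp_assoc, ← IsScalarTower.algebraMap_eq, hφA]
    obtain ⟨g, -, hg⟩ := hB.2 B' (I.map (algebraMap A B')) (φ.toRingHom.comp (algebraMap R B))
      hHens' hle
    have e1 := hg φ.toRingHom rfl
    have e2 := hg ψ.toRingHom (by
      refine RingHom.ext fun r => ?_
      exact (congrArg (fun F => F r) h1).symm)
    refine AlgHom.ext fun b => ?_
    have := e1.trans e2.symm
    exact congrArg (fun F => F b) this
  · intro χ
    let σ : R →ₐ[A] B' ⧸ I.map (algebraMap A B') :=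
      (χ.comp (Ideal.Quotient.mkₐ A (I.map (algebraMap A B)))).comp (IsScalarTower.toAlgHom A R B)
    obtain ⟨τ, hτ⟩ := HenselPair.exists_lift_of_etale_algebra (I.map (algebraMap A B')) σ
    have hτA : τ.toRingHom.comp (algebraMap A R) = algebraMap A B' := τ.comp_algebraMap
    have hle : (I.map (algebraMap A R)).map τ.toRingHom ≤ I.map (algebraMap A B') := by
      rw [Ideal.map_map, hτA]
    obtain ⟨g, hg, -⟩ := hB.2 B' (I.map (algebraMap A B')) τ.toRingHom hHens' hle
    let φ : B →ₐ[A] B' :=
      { toRingHom := g
        commutes' := by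
          intro a
          show g (algebraMap A B a) = algebraMap A B' a
          rw [IsScalarTower.algebraMap_apply A R B]
          have := congrArg (fun F => F (algebraMap A R a)) hg
          simp only [RingHom.comp_apply] at this
          rw [this]
          exact τ.commutes a }
    refine ⟨φ, ?_⟩
    -- two ring homs `B → B'/IB'` agreeing on `R`
    let F₁ : B →+* B' ⧸ I.map (algebraMap A B') :=
      (Ideal.Quotient.mk (I.map (algebraMap A B'))).comp g
    let F₂ : B →+* B' ⧸ I.map (algebraMap A B') :=
      χ.toRingHom.comp (Ideal.Quotient.mk (I.map (algebraMap A B)))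
    have hσle : (I.map (algebraMap A R)).map σ.toRingHom ≤ ⊥ := by
      have hσA : σ.toRingHom.comp (algebraMap A R) =
          algebraMap A (B' ⧸ I.map (algebraMap A B')) := σ.comp_algebraMap
      rw [Ideal.map_map, hσA, Ideal.map_le_iff_le_comap]
      intro x hx
      show algebraMap A (B' ⧸ I.map (algebraMap A B')) x ∈ (⊥ : Ideal _)
      rw [Ideal.mem_bot]
      show Ideal.Quotient.mk _ (algebraMap A B' x) = 0
      exact Ideal.Quotient.eq_zero_iff_mem.mpr (Ideal.mem_map_of_mem _ hx)
    obtain ⟨G, -, hG⟩ := hB.2 (B' ⧸ I.map (algebraMap A B')) ⊥ σ.toRingHom hbot hσle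
    have e1 : F₁ = G := hG F₁ (by
      refine RingHom.ext fun r => ?_
      show Ideal.Quotient.mk _ (g (algebraMap R B r)) = σ r
      have h1 := congrArg (fun F => F r) hg
      simp only [RingHom.comp_apply] at h1
      rw [h1]
      exact congrArg (fun F => F r) hτ)
    have e2 : F₂ = G := hG F₂ (by
      refine RingHom.ext fun r => ?_
      rfl)
    intro b
    exact congrArg (fun F => F b) (e1.trans e2.symm)

end Groth.Agent.S17604
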