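import Groth.Statements.S17605
import Mathlib
import Groth.Agent.Lib.Helper4.HenselPairU

set_option autoImplicit false
universe u
open Hensel

namespace Groth.Agent.S17605

open Groth.Agent.Lib.Helper4.HenselPair in
/-- Let A be a ring with an ideal I and let f₁, f₂ be elements of A such that D(f₂) ∩ V(I) ⊆ D(f₁) ∩
V(I) in Spec A. If H₁ is a Henselization of the pair (A_{f₁}, IA_{f₁}) and H₂ a Henselization of the
pair (A_{f₂}, IA_{f₂}), with their induced A-algebra structures, then there is exactly one A-algebra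
map H₁ → H₂. -/
theorem result (A : Type u) [CommRing A]
    (I : Ideal A) (f₁ f₂ : A)
    (h : (PrimeSpectrum.basicOpen f₂ : Set (PrimeSpectrum A)) ∩ PrimeSpectrum.zeroLocus (I : Set A) ⊆
      (PrimeSpectrum.basicOpen f₁ : Set (PrimeSpectrum A)) ∩ PrimeSpectrum.zeroLocus (I : Set A))
    (H₁ : Type u) [CommRing H₁] [Algebra (Localization.Away f₁) H₁] [Algebra A H₁]
    [IsScalarTower A (Localization.Away f₁) H₁]
    (hH₁ : Hens2.IsPairHenselization (Localization.Away f₁)
      (I.map (algebraMap A (Localization.Away f₁))) H₁)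
    (H₂ : Type u) [CommRing H₂] [Algebra (Localization.Away f₂) H₂] [Algebra A H₂]
    [IsScalarTower A (Localization.Away f₂) H₂]
    (hH₂ : Hens2.IsPairHenselization (Localization.Away f₂)
      (I.map (algebraMap A (Localization.Away f₂))) H₂) :
    Nonempty (H₁ →ₐ[A] H₂) ∧ Subsingleton (H₁ →ₐ[A] H₂) := by
  classical
  set L₁ := Localization.Away f₁ with hL₁
  set L₂ := Localization.Away f₂ with hL₂
  set J₁ : Ideal L₁ := I.map (algebraMap A L₁) with hJ₁
  set J₂ : Ideal L₂ := I.map (algebraMap A L₂) with hJ₂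
  set K₂ : Ideal H₂ := J₂.map (algebraMap L₂ H₂) with hK₂
  have hHens : HenselianRing H₂ K₂ := hH₂.1
  -- `f₁` is a unit in `L₂ ⧸ J₂`
  have hunitQ : IsUnit (Ideal.Quotient.mk J₂ (algebraMap A L₂ f₁)) := by
    by_contra hnu
    obtain ⟨M, hM, hfM⟩ := exists_max_ideal_of_mem_nonunits (mem_nonunits_iff.mpr hnu)
    let φ : A →+* L₂ ⧸ J₂ := (Ideal.Quotient.mk J₂).comp (algebraMap A L₂)
    have hMp : M.IsPrime := hM.isPrime
    let 𝔭 : PrimeSpectrum A := ⟨M.comap φ, Ideal.IsPrime.comap φ⟩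
    have h2 : 𝔭 ∈ (PrimeSpectrum.basicOpen f₂ : Set (PrimeSpectrum A)) ∩
        PrimeSpectrum.zeroLocus (I : Set A) := by
      refine ⟨?_, ?_⟩
      · change f₂ ∉ M.comap φ
        rw [Ideal.mem_comap]
        intro hmem
        have hu : IsUnit (φ f₂) :=
          (IsLocalization.Away.algebraMap_isUnit (S := L₂) f₂).map (Ideal.Quotient.mk J₂)
        exact hM.ne_top (Ideal.eq_top_of_isUnit_mem _ hmem hu)
      · intro a ha
        change a ∈ M.comap φ
        rw [Ideal.mem_comap]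
        have : φ a = 0 := by
          change Ideal.Quotient.mk J₂ (algebraMap A L₂ a) = 0
          exact Ideal.Quotient.eq_zero_iff_mem.mpr (Ideal.mem_map_of_mem _ ha)
        rw [this]
        exact M.zero_mem
    have h1 := (h h2).1
    exact h1 hfM
  -- hence `f₁` is a unit in `H₂`
  have hunit : IsUnit (algebraMap A H₂ f₁) := by
    have hmk : IsUnit (Ideal.Quotient.mk K₂ (algebraMap A H₂ f₁)) := by
      have hmap := hunitQ.map (Ideal.quotientMap K₂ (algebraMap L₂ H₂) Ideal.le_comap_map)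
      rw [Ideal.quotientMap_mk, ← IsScalarTower.algebraMap_apply] at hmap
      exact hmap
    obtain ⟨v, hv⟩ := hmk
    obtain ⟨y, hy⟩ := Ideal.Quotient.mk_surjective (↑v⁻¹ : H₂ ⧸ K₂)
    have h3 : algebraMap A H₂ f₁ * y - 1 ∈ K₂ := by
      rw [← Ideal.Quotient.eq_zero_iff_mem, map_sub, map_mul, map_one, hy, ← hv, Units.mul_inv,
        sub_self]
    have h4 := (Ideal.mem_jacobson_bot.mp (HenselianRing.jac h3)) 1
    have h5 : IsUnit (algebraMap A H₂ f₁ * y) := by
      have : (algebraMap A H₂ f₁ * y - 1) * 1 + 1 = algebraMap A H₂ f₁ * y := by ring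
      rwa [this] at h4
    exact isUnit_of_mul_isUnit_left h5
  let φ₀ : L₁ →ₐ[A] H₂ :=
    IsLocalization.Away.liftAlgHom (S := L₁) f₁ (f := Algebra.ofId A H₂) hunit
  have hle : J₁.map (φ₀ : L₁ →+* H₂) ≤ K₂ := by
    rw [hJ₁, Ideal.map_map, Ideal.map_le_iff_le_comap]
    intro a ha
    rw [Ideal.mem_comap]
    change φ₀ (algebraMap A L₁ a) ∈ K₂
    rw [φ₀.commutes, IsScalarTower.algebraMap_apply A L₂ H₂]
    exact Ideal.mem_map_of_mem _ (Ideal.mem_map_of_mem _ ha)
  obtain ⟨g, hg, hguniq⟩ := hH₁.2 H₂ K₂ (φ₀ : L₁ →+* H₂) hHens hle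
  have hcomp : ∀ g' : H₁ →ₐ[A] H₂, (g' : H₁ →+* H₂).comp (algebraMap L₁ H₁) = (φ₀ : L₁ →+* H₂) := by
    intro g'
    refine IsLocalization.ringHom_ext (Submonoid.powers f₁) ?_
    ext a
    simp only [RingHom.comp_apply]
    rw [← IsScalarTower.algebraMap_apply A L₁ H₁]
    change g' (algebraMap A H₁ a) = φ₀ (algebraMap A L₁ a)
    rw [g'.commutes, φ₀.commutes]
  refine ⟨⟨{ g with commutes' := fun a => ?_ }⟩, ⟨fun g₁ g₂ => ?_⟩⟩
  · have := congrArg (fun ψ : L₁ →+* H₂ => ψ (algebraMap A L₁ a)) hg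
    simp only [RingHom.comp_apply] at this
    rw [← IsScalarTower.algebraMap_apply A L₁ H₁] at this
    change g (algebraMap A H₁ a) = algebraMap A H₂ a
    rw [this]
    exact φ₀.commutes a
  · have e₁ := hguniq _ (hcomp g₁)
    have e₂ := hguniq _ (hcomp g₂)
    ext x
    have := congrArg (fun ψ : H₁ →+* H₂ => ψ x) (e₁.trans e₂.symm)
    exact this

end Groth.Agent.S17605
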