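import Groth.Statements.S17608
import Mathlib
import Groth.Agent.Lib.Helper4.HzPairDescent

set_option autoImplicit false
universe u
open Hensel

namespace Groth.Agent.S17608

open Groth.Agent.Lib.Helper4 in
/-- Let (A, I) be a Henselian pair, let B be a Henselization of the pair (R, IR) for a finitely
presented A-algebra R, and let C be a Henselization of the pair (S, IS) for a finitely presented
B-algebra S, all algebra structures being compatible (so A → B and B → C are Henselian finitely
presented maps of Henselian pairs). Then the composite A → C is Henselian finitely presented: there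
are a finitely presented A-algebra T and a T-algebra structure on C compatible with that of A for
which C is a Henselization of the pair (T, IT). -/
theorem result (A : Type u) [CommRing A] (I : Ideal A) [HenselianRing A I]
    (R : Type u) [CommRing R] [Algebra A R] [Algebra.FinitePresentation A R]
    (B : Type u) [CommRing B] [Algebra R B] [Algebra A B] [IsScalarTower A R B]
    (hB : Hens2.IsPairHenselization R (I.map (algebraMap A R)) B)
    (S : Type u) [CommRing S] [Algebra B S] [Algebra A S] [IsScalarTower A B S] [Algebra.FinitePresentation B S]
    (C : Type u) [CommRing C] [Algebra S C] [Algebra B C] [Algebra A C] [IsScalarTower B S C]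
    [IsScalarTower A B C]
    (hC : Hens2.IsPairHenselization S (I.map (algebraMap A S)) C) :
    ∃ (T : Type u) (_ : CommRing T) (_ : Algebra A T) (_ : Algebra T C) (_ : IsScalarTower A T C),
      Algebra.FinitePresentation A T ∧ Hens2.IsPairHenselization T (I.map (algebraMap A T)) C := by
  classical
  have hidS : I.map (algebraMap A S) =
      ((I.map (algebraMap A R)).map (algebraMap R B)).map (algebraMap B S) := by
    rw [Ideal.map_map, Ideal.map_map, RingHom.comp_assoc, ← IsScalarTower.algebraMap_eq A R B,
      ← IsScalarTower.algebraMap_eq A B S]
  rw [hidS] at hC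
  obtain ⟨E, _, _, S₀, _, _, _, hE, hfp, hcompat, hS₀⟩ :=
    HzPairBase.exists_descent (I.map (algebraMap A R)) hB hC
  let _ : Algebra A E := ((algebraMap R E).comp (algebraMap A R)).toAlgebra
  have _ : IsScalarTower A R E := IsScalarTower.of_algebraMap_eq (fun _ => rfl)
  let _ : Algebra A S₀ := ((algebraMap E S₀).comp (algebraMap A E)).toAlgebra
  have _ : IsScalarTower A E S₀ := IsScalarTower.of_algebraMap_eq (fun _ => rfl)
  have _ : Algebra.Etale R E := hE.etale
  have hfpE : Algebra.FinitePresentation A E := Algebra.FinitePresentation.trans A R E
  have hfpS₀ : Algebra.FinitePresentation A S₀ := Algebra.FinitePresentation.trans A E S₀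
  have htower : IsScalarTower A S₀ C := IsScalarTower.of_algebraMap_eq (fun a => by
    show algebraMap A C a = algebraMap S₀ C (algebraMap E S₀ (algebraMap R E (algebraMap A R a)))
    rw [hcompat, ← IsScalarTower.algebraMap_apply A R B, ← IsScalarTower.algebraMap_apply B S C,
      ← IsScalarTower.algebraMap_apply A B C])
  refine ⟨S₀, inferInstance, inferInstance, inferInstance, htower, hfpS₀, ?_⟩
  have hid : I.map (algebraMap A S₀) =
      ((I.map (algebraMap A R)).map (algebraMap R E)).map (algebraMap E S₀) := by
    rw [Ideal.map_map, Ideal.map_map]
    rfl
  rw [hid]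
  exact hS₀

end Groth.Agent.S17608
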