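import Groth.Statements.S17620
import Mathlib
import Groth.Agent.Lib.Helper12.HzPairQuot

set_option autoImplicit false
universe u
open Hensel

namespace Groth.Agent.S17620

open Groth.Agent.Lib.Helper4 Groth.Agent.Lib.Helper12.HzPair in
/-- Let R be a local ring and J an ideal of R contained in the maximal ideal, let H be a Henselization
of the pair (R, J) which is a local ring with local structure map R → H, and let S be a strict
Henselization of the local ring H. Then S, with its composite R-algebra structure, is a strict
Henselization of the local ring R. (This is the identification of the strict Henselization of the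
local ring of a scheme at a point with that of the local ring of its Henselization along a closed
subscheme through the point.) -/
theorem result
    (R : Type u) [CommRing R] [IsLocalRing R] (J : Ideal R) (hJ : J ≤ IsLocalRing.maximalIdeal R)
    (H : Type u) [CommRing H] [IsLocalRing H] [Algebra R H] [IsLocalHom (algebraMap R H)]
    (hH : Hens2.IsPairHenselization R J H)
    (S : Type u) [CommRing S] [IsLocalRing S] [Algebra H S] [IsLocalHom (algebraMap H S)]
    [Hensel.IsStrictHenselization H S]
    [Algebra R S] [IsScalarTower R H S] [IsLocalHom (algebraMap R S)] :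
    Hensel.IsStrictHenselization R S := by
  classical
  have hstrict : Hensel.IsStrictHenselization H S := inferInstance
  obtain ⟨-, hbij⟩ := flat_and_bijective_of_isPairHenselization hH
  have hbij1 := hbij 1
  -- (F1) every element of `H` is congruent to an element of `R` modulo `J H`
  have hF1 : ∀ h : H, ∃ r : R, h - algebraMap R H r ∈ J.map (algebraMap R H) := by
    intro h
    obtain ⟨q, hq⟩ := hbij1.2 (Ideal.Quotient.mk _ h)
    obtain ⟨r, rfl⟩ := Ideal.Quotient.mk_surjective q
    refine ⟨r, ?_⟩
    rw [Ideal.quotientMap_mk, Ideal.Quotient.eq, pow_one] at hq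
    have := Ideal.neg_mem_iff _ |>.mpr hq
    rwa [neg_sub] at this
  have hJH : J.map (algebraMap R H) ≤ IsLocalRing.maximalIdeal H := by
    rw [Ideal.map_le_iff_le_comap]
    intro x hx
    have hx' := hJ hx
    rw [Ideal.mem_comap, IsLocalRing.mem_maximalIdeal, mem_nonunits_iff] at *
    exact fun h => hx' (isUnit_of_map_unit _ _ h)
  -- residue field map is surjective
  have hsurj : Function.Surjective (algebraMap (IsLocalRing.ResidueField R)
      (IsLocalRing.ResidueField H)) := by
    intro y
    obtain ⟨h, rfl⟩ := IsLocalRing.residue_surjective y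
    obtain ⟨r, hr⟩ := hF1 h
    refine ⟨IsLocalRing.residue R r, ?_⟩
    rw [IsLocalRing.ResidueField.algebraMap_residue]
    symm
    rw [← sub_eq_zero, ← map_sub]
    exact (IsLocalRing.residue_eq_zero_iff _).mpr (hJH hr)
  refine ⟨hstrict.henselian, ⟨hstrict.isSepClosure.sep_closed, ?_⟩, ?_⟩
  · have h1 : Algebra.IsSeparable (IsLocalRing.ResidueField R) (IsLocalRing.ResidueField H) := by
      refine ⟨fun x => ?_⟩
      obtain ⟨y, rfl⟩ := hsurj x
      exact isSeparable_algebraMap y
    have h2 : Algebra.IsSeparable (IsLocalRing.ResidueField H) (IsLocalRing.ResidueField S) :=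
      hstrict.isSepClosure.separable
    exact Algebra.IsSeparable.trans (IsLocalRing.ResidueField R) (IsLocalRing.ResidueField H)
      (IsLocalRing.ResidueField S)
  · intro T _ _ f _ τ hτ
    have hTpair : HenselianRing T (IsLocalRing.maximalIdeal T) := inferInstance
    have hfJ : J.map f ≤ IsLocalRing.maximalIdeal T := by
      rw [Ideal.map_le_iff_le_comap]
      intro x hx
      have hx' := hJ hx
      rw [Ideal.mem_comap, IsLocalRing.mem_maximalIdeal, mem_nonunits_iff] at *
      exact fun h => hx' (isUnit_of_map_unit f _ h)
    obtain ⟨h, hh, hhuniq⟩ := hH.2 T (IsLocalRing.maximalIdeal T) f hTpair hfJ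
    have hhJ : ∀ x ∈ J.map (algebraMap R H), h x ∈ IsLocalRing.maximalIdeal T := by
      intro x hx
      have h1 : (J.map (algebraMap R H)).map h ≤ IsLocalRing.maximalIdeal T := by
        rw [Ideal.map_map, hh]
        exact hfJ
      exact h1 (Ideal.mem_map_of_mem _ hx)
    have hhloc : IsLocalHom h := by
      refine ⟨fun x hx => ?_⟩
      obtain ⟨r, hr⟩ := hF1 x
      have h1 : h x = f r + h (x - algebraMap R H r) := by
        rw [map_sub, ← hh]
        simp
      have h2 : IsUnit (f r) := by
        have h3 : f r = h x - h (x - algebraMap R H r) := by rw [h1]; ring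
        rw [h3]
        by_contra hnu
        have h4 : h x - h (x - algebraMap R H r) ∈ IsLocalRing.maximalIdeal T := hnu
        have h5 := Ideal.add_mem _ h4 (hhJ _ hr)
        rw [sub_add_cancel] at h5
        exact h5 hx
      have h6 : IsUnit r := isUnit_of_map_unit f r h2
      have h7 : IsUnit (algebraMap R H r) := h6.map _
      have h8 : x = algebraMap R H r + (x - algebraMap R H r) := by ring
      rw [h8]
      by_contra hnu
      have h9 : algebraMap R H r + (x - algebraMap R H r) ∈ IsLocalRing.maximalIdeal H := hnu
      have h10 := Ideal.sub_mem _ h9 (hJH hr)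
      rw [add_sub_cancel_right] at h10
      exact h10 h7
    have hτ' : τ.comp (IsLocalRing.ResidueField.map (algebraMap H S)) =
        IsLocalRing.ResidueField.map h := by
      ext y
      obtain ⟨y', rfl⟩ := hsurj y
      obtain ⟨r, rfl⟩ := IsLocalRing.residue_surjective y'
      have h1 := congrArg (fun φ => φ (IsLocalRing.residue R r)) hτ
      simp only [RingHom.comp_apply, IsLocalRing.ResidueField.map_residue] at h1
      simp only [RingHom.comp_apply, IsLocalRing.ResidueField.algebraMap_residue,
        IsLocalRing.ResidueField.map_residue]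
      rw [← IsScalarTower.algebraMap_apply, h1, ← hh]
      rfl
    obtain ⟨g, ⟨hg1, hg2⟩, hguniq⟩ := hstrict.universal T h τ hτ'
    refine ⟨g, ⟨?_, hg2⟩, ?_⟩
    · rw [IsScalarTower.algebraMap_eq R H S, ← RingHom.comp_assoc, hg1, hh]
    · intro g' ⟨hg'1, hg'2⟩
      apply hguniq
      refine ⟨?_, hg'2⟩
      apply hhuniq
      rw [RingHom.comp_assoc, ← IsScalarTower.algebraMap_eq R H S, hg'1]

end Groth.Agent.S17620
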