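import Groth.Statements.S17635
import Mathlib

set_option autoImplicit false
open Finset
open Variety

namespace Groth.Agent.S17635

section Aux

variable {r : ℕ}

/-- the max norm of a rational vector -/
noncomputable def nr (x : Fin r → ℚ) : ℝ := ‖(fun j => ((x j : ℚ) : ℝ))‖

lemma nr_nonneg (x : Fin r → ℚ) : 0 ≤ nr x := norm_nonneg _

lemma abs_le_nr (x : Fin r → ℚ) (j : Fin r) : |((x j : ℚ) : ℝ)| ≤ nr x := by
  have := norm_le_pi_norm (fun j => ((x j : ℚ) : ℝ)) j
  rwa [Real.norm_eq_abs] at this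

lemma nr_le (x : Fin r → ℚ) (c : ℝ) (hc : 0 ≤ c) (h : ∀ j, |((x j : ℚ) : ℝ)| ≤ c) : nr x ≤ c := by
  rw [nr, pi_norm_le_iff_of_nonneg hc]
  intro j
  rw [Real.norm_eq_abs]
  exact h j

lemma nr_smul (N : ℕ) (x : Fin r → ℚ) : nr ((N : ℚ) • x) = (N : ℝ) * nr x := by
  have : (fun j => ((((N : ℚ) • x) j : ℚ) : ℝ)) = (N : ℝ) • (fun j => ((x j : ℚ) : ℝ)) := by
    funext j
    simp [Pi.smul_apply, smul_eq_mul]
  rw [nr, this, norm_smul, Real.norm_eq_abs, abs_of_nonneg (Nat.cast_nonneg N)]
  rfl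

/-- the bound -/
noncomputable def B (n : ℕ) (m d : ℝ) : ℝ := (Finset.Icc 1 n).sum (fun q => m ^ (n - q) * d ^ q)

lemma B_nonneg (n : ℕ) {m d : ℝ} (hm : 0 ≤ m) (hd : 0 ≤ d) : 0 ≤ B n m d :=
  Finset.sum_nonneg fun q _ => mul_nonneg (pow_nonneg hm _) (pow_nonneg hd _)

lemma B_mono (n : ℕ) {m m' d d' : ℝ} (hm : 0 ≤ m) (hd : 0 ≤ d) (hmm : m ≤ m') (hdd : d ≤ d') :
    B n m d ≤ B n m' d' :=
  Finset.sum_le_sum fun q _ => mul_le_mul (pow_le_pow_left₀ hm hmm _) (pow_le_pow_left₀ hd hdd _)
    (pow_nonneg hd _) (pow_nonneg (hm.trans hmm) _)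

lemma B_scale (n : ℕ) (N m d : ℝ) : B n (N * m) (N * d) = N ^ n * B n m d := by
  rw [B, B, Finset.mul_sum]
  apply Finset.sum_congr rfl
  intro q hq
  have hq' : q ≤ n := (Finset.mem_Icc.mp hq).2
  rw [mul_pow, mul_pow]
  have : N ^ n = N ^ (n - q) * N ^ q := by rw [← pow_add, Nat.sub_add_cancel hq']
  rw [this]
  ring

end Aux

theorem integral_case (r n : ℕ) (f : (Fin r → ℚ) → ℝ)
    (Ci : Fin r → ℝ)
    (hdir : ∀ i : Fin r, ∀ (v : Fin r → ℚ) (b : ℕ), 1 ≤ b →
      |f (v - (b : ℚ) • Pi.single i 1) - f v| ≤ Ci i * B n (nr v) (b : ℝ))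
    (v w : Fin r → ℚ) (hint : ∀ j, ∃ z : ℤ, v j - w j = (z : ℚ)) :
    |f v - f w| ≤ (∑ i, |Ci i|) * B n (max (nr v) (nr w)) (nr (v - w)) := by
  classical
  set m := max (nr v) (nr w) with hm
  set d := nr (v - w) with hd
  have hm0 : 0 ≤ m := (nr_nonneg v).trans (le_max_left _ _)
  have hd0 : 0 ≤ d := nr_nonneg _
  have hB0 : 0 ≤ B n m d := B_nonneg n hm0 hd0
  let vs : Finset (Fin r) → (Fin r → ℚ) := fun s j => if j ∈ s then w j else v j
  have hvs_nr : ∀ s, nr (vs s) ≤ m := by
    intro s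
    apply nr_le _ _ hm0
    intro j
    by_cases hj : j ∈ s
    · simp only [vs, if_pos hj]
      exact (abs_le_nr w j).trans (le_max_right _ _)
    · simp only [vs, if_neg hj]
      exact (abs_le_nr v j).trans (le_max_left _ _)
  have key : ∀ s : Finset (Fin r), |f v - f (vs s)| ≤ (∑ i ∈ s, |Ci i|) * B n m d := by
    intro s
    induction s using Finset.induction_on with
    | empty =>
      have : vs ∅ = v := by funext j; simp [vs]
      rw [this, sub_self, abs_zero, Finset.sum_empty, zero_mul]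
    | insert a s ha ih =>
      obtain ⟨z, hz⟩ := hint a
      have hstep : |f (vs s) - f (vs (insert a s))| ≤ |Ci a| * B n m d := by
        have hrel : ∀ c : ℚ, c = v a - w a → vs (insert a s) = vs s - c • Pi.single a 1 := by
          intro c hc
          funext j
          by_cases hja : j = a
          · subst hja
            simp only [vs, Finset.mem_insert_self, if_true, if_neg ha, Pi.sub_apply, Pi.smul_apply,
              Pi.single_eq_same, smul_eq_mul, mul_one, hc]
            ring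
          · have : (j ∈ insert a s) ↔ j ∈ s := by simp [Finset.mem_insert, hja]
            simp only [vs, this, Pi.sub_apply, Pi.smul_apply, Pi.single_eq_of_ne hja, smul_eq_mul,
              mul_zero, sub_zero]
        have hza : |(z : ℝ)| ≤ d := by
          have := abs_le_nr (v - w) a
          rw [Pi.sub_apply, hz] at this
          simpa using this
        rcases lt_trichotomy z 0 with hneg | hzero | hpos
        · -- z < 0
          obtain ⟨b, hb⟩ : ∃ b : ℕ, (b : ℤ) = -z := ⟨(-z).toNat, Int.toNat_of_nonneg (by omega)⟩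
          have hb1 : 1 ≤ b := by omega
          have hbq : (b : ℚ) = -(z : ℚ) := by exact_mod_cast hb
          have hxy : vs s = vs (insert a s) - (b : ℚ) • Pi.single a 1 := by
            rw [hrel (z : ℚ) hz.symm, hbq]
            funext j
            simp only [Pi.sub_apply, Pi.smul_apply, smul_eq_mul]
            ring
          have h1 := hdir a (vs (insert a s)) b hb1
          rw [← hxy] at h1
          have hbr : (b : ℝ) ≤ d := by
            have : (b : ℝ) = |(z : ℝ)| := by
              rw [abs_of_neg (by exact_mod_cast hneg)]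
              exact_mod_cast hb
            rw [this]; exact hza
          calc |f (vs s) - f (vs (insert a s))|
              ≤ Ci a * B n (nr (vs (insert a s))) (b : ℝ) := h1
            _ ≤ |Ci a| * B n (nr (vs (insert a s))) (b : ℝ) :=
                mul_le_mul_of_nonneg_right (le_abs_self _)
                  (B_nonneg n (nr_nonneg _) (Nat.cast_nonneg b))
            _ ≤ |Ci a| * B n m d :=
                mul_le_mul_of_nonneg_left
                  (B_mono n (nr_nonneg _) (Nat.cast_nonneg b) (hvs_nr _) hbr) (abs_nonneg _)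
        · -- z = 0
          have : vs (insert a s) = vs s := by
            rw [hrel 0 (by rw [← hz.symm, hzero]; simp), zero_smul, sub_zero]
          rw [this, sub_self, abs_zero]
          exact mul_nonneg (abs_nonneg _) hB0
        · -- z > 0
          obtain ⟨b, hb⟩ : ∃ b : ℕ, (b : ℤ) = z := ⟨z.toNat, Int.toNat_of_nonneg (by omega)⟩
          have hb1 : 1 ≤ b := by omega
          have hbq : (b : ℚ) = (z : ℚ) := by exact_mod_cast hb
          have hxy : vs (insert a s) = vs s - (b : ℚ) • Pi.single a 1 := by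
            rw [hrel (z : ℚ) hz.symm, hbq]
          have h1 := hdir a (vs s) b hb1
          rw [← hxy] at h1
          have hbr : (b : ℝ) ≤ d := by
            have : (b : ℝ) = |(z : ℝ)| := by
              rw [abs_of_pos (by exact_mod_cast hpos)]
              exact_mod_cast hb
            rw [this]; exact hza
          rw [abs_sub_comm]
          calc |f (vs (insert a s)) - f (vs s)|
              ≤ Ci a * B n (nr (vs s)) (b : ℝ) := h1
            _ ≤ |Ci a| * B n (nr (vs s)) (b : ℝ) :=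
                mul_le_mul_of_nonneg_right (le_abs_self _)
                  (B_nonneg n (nr_nonneg _) (Nat.cast_nonneg b))
            _ ≤ |Ci a| * B n m d :=
                mul_le_mul_of_nonneg_left
                  (B_mono n (nr_nonneg _) (Nat.cast_nonneg b) (hvs_nr _) hbr) (abs_nonneg _)
      rw [Finset.sum_insert ha]
      calc |f v - f (vs (insert a s))|
          = |(f v - f (vs s)) + (f (vs s) - f (vs (insert a s)))| := by ring_nf
        _ ≤ |f v - f (vs s)| + |f (vs s) - f (vs (insert a s))| := abs_add_le _ _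
        _ ≤ (∑ i ∈ s, |Ci i|) * B n m d + |Ci a| * B n m d := add_le_add ih hstep
        _ = (|Ci a| + ∑ i ∈ s, |Ci i|) * B n m d := by ring
  have huniv : vs Finset.univ = w := by funext j; simp [vs]
  have := key Finset.univ
  rwa [huniv] at this


/-- Let r and n be natural numbers and f : ℚ^r → ℝ a nonnegative function which is homogeneous of degree
n for positive rational scalars, f(q · v) = q^n · f(v) for q > 0; give ℚ^r the maximum norm ‖v‖ =
max_j |v_j| of its standard basis. Suppose that for every standard basis vector e_i there is a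
constant C_i with |f(v − b · e_i) − f(v)| ≤ C_i · Σ_{q=1}^{n} ‖v‖^{n−q} · b^q for all v ∈ ℚ^r and
all integers b ≥ 1. Then there is a constant C > 0 such that |f(v) − f(w)| ≤ C · Σ_{q=1}^{n}
max(‖v‖, ‖w‖)^{n−q} · ‖v − w‖^q for all v, w ∈ ℚ^r. (The source allows any norm on an r-dimensional
rational vector space with a chosen basis and argues with the maximum norm of that basis, which is
the case stated here.) -/
theorem result (r n : ℕ) (f : (Fin r → ℚ) → ℝ)
    (hf0 : ∀ v, 0 ≤ f v)
    (hhom : ∀ (q : ℚ) (v : Fin r → ℚ), 0 < q → f (q • v) = (q : ℝ) ^ n * f v)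
    (hdir : ∀ i : Fin r, ∃ Ci : ℝ, ∀ (v : Fin r → ℚ) (b : ℕ), 1 ≤ b →
      |f (v - (b : ℚ) • Pi.single i 1) - f v| ≤
        Ci * (Finset.Icc 1 n).sum (fun q => ‖(fun j => ((v j : ℚ) : ℝ))‖ ^ (n - q) * (b : ℝ) ^ q)) :
    ∃ C : ℝ, 0 < C ∧ ∀ v w : Fin r → ℚ,
      |f v - f w| ≤ C * (Finset.Icc 1 n).sum (fun q =>
        (max ‖(fun j => ((v j : ℚ) : ℝ))‖ ‖(fun j => ((w j : ℚ) : ℝ))‖) ^ (n - q) *
          ‖(fun j => ((v j - w j : ℚ) : ℝ))‖ ^ q) := by
  choose Ci hCi using hdir
  have hC0 : 0 ≤ ∑ i, |Ci i| := Finset.sum_nonneg fun i _ => abs_nonneg _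
  refine ⟨(∑ i, |Ci i|) + 1, by linarith, ?_⟩
  intro v w
  change |f v - f w| ≤ ((∑ i, |Ci i|) + 1) * B n (max (nr v) (nr w)) (nr (v - w))
  let N : ℕ := ∏ j, (v j - w j).den
  have hN : 0 < N := Finset.prod_pos (fun j _ => (v j - w j).den_pos)
  have hNq : (0 : ℚ) < (N : ℚ) := by exact_mod_cast hN
  have hNr : (0 : ℝ) < (N : ℝ) := by exact_mod_cast hN
  have hint : ∀ j, ∃ z : ℤ, ((N : ℚ) • v) j - ((N : ℚ) • w) j = (z : ℚ) := by
    intro j
    obtain ⟨k, hk⟩ : (v j - w j).den ∣ N := Finset.dvd_prod_of_mem _ (Finset.mem_univ j)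
    refine ⟨(k : ℤ) * (v j - w j).num, ?_⟩
    simp only [Pi.smul_apply, smul_eq_mul]
    rw [← mul_sub, hk]
    push_cast
    have h := Rat.mul_den_eq_num (v j - w j)
    rw [← h]
    ring
  have h1 := integral_case r n f Ci (fun i v b hb => hCi i v b hb) ((N : ℚ) • v) ((N : ℚ) • w) hint
  rw [hhom _ v hNq, hhom _ w hNq, nr_smul, nr_smul, ← smul_sub, nr_smul,
    ← mul_max_of_nonneg _ _ hNr.le, B_scale, ← mul_sub, abs_mul] at h1
  have hcast : (((N : ℚ) : ℝ)) = (N : ℝ) := by norm_cast
  rw [hcast, abs_of_pos (pow_pos hNr n)] at h1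
  have hB0 : 0 ≤ B n (max (nr v) (nr w)) (nr (v - w)) :=
    B_nonneg n ((nr_nonneg v).trans (le_max_left _ _)) (nr_nonneg _)
  have h2 : (N : ℝ) ^ n * |f v - f w| ≤
      (N : ℝ) ^ n * ((∑ i, |Ci i|) * B n (max (nr v) (nr w)) (nr (v - w))) := by
    calc (N : ℝ) ^ n * |f v - f w| ≤ (∑ i, |Ci i|) * ((N : ℝ) ^ n * B n (max (nr v) (nr w)) (nr (v - w))) := h1
      _ = _ := by ring
  have h3 := le_of_mul_le_mul_left h2 (pow_pos hNr n)
  calc |f v - f w| ≤ (∑ i, |Ci i|) * B n (max (nr v) (nr w)) (nr (v - w)) := h3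
    _ ≤ ((∑ i, |Ci i|) + 1) * B n (max (nr v) (nr w)) (nr (v - w)) := by
      apply mul_le_mul_of_nonneg_right _ hB0
      linarith

end Groth.Agent.S17635
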