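import Groth.Statements.S17646
import Groth.Agent.Lib.Helper15.UI2
-- import your own Groth.Agent.* helpers here

set_option autoImplicit false
universe w v u
open CategoryTheory CategoryTheory.Limits
open GabLoc

namespace Groth.Agent.S17646

/-- Let C be a Grothendieck abelian category, E an indecomposable injective object of C (E is nonzero
and whenever E ≅ A ⊞ B one of A, B is zero) and S₁, S₂ localizing classes of objects (Serre classes
closed under coproducts). If there are an object of S₁ with a nonzero morphism to E and an object of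
S₂ with a nonzero morphism to E, then there is an object belonging to both S₁ and S₂ with a nonzero
morphism to E. Thus, on the set of isomorphism classes of indecomposable injectives, the subsets of
those having S-torsion, S localizing, are closed under finite intersections (they are also closed
under unions, and form a topology). The published definition of the injective spectrum says
injective objects without the word indecomposable; the published proof of this step uses that each
point of the spectrum is uniform, which is the indecomposable reading taken here. -/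
theorem result {C : Type u} [Category.{v} C] [Abelian C]
    [IsGrothendieckAbelian.{w} C] (E : C) [Injective E] (hE : ¬ IsZero E)
    (hind : ∀ (A B : C), Nonempty (E ≅ A ⊞ B) → IsZero A ∨ IsZero B)
    (S₁ S₂ : ObjectProperty C) (h₁ : GabLoc.IsLocalizing.{w} S₁) (h₂ : GabLoc.IsLocalizing.{w} S₂)
    (ht₁ : GabLoc.HasTorsion S₁ E) (ht₂ : GabLoc.HasTorsion S₂ E) :
    GabLoc.HasTorsion (S₁ ⊓ S₂) E := by
  obtain ⟨Y₁, hY₁, f₁, hf₁⟩ := ht₁
  obtain ⟨Y₂, hY₂, f₂, hf₂⟩ := ht₂
  haveI := h₁.isSerreClass
  haveI := h₂.isSerreClass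
  let U₁ : Subobject E := Subobject.mk (image.ι f₁)
  let U₂ : Subobject E := Subobject.mk (image.ι f₂)
  have hU₁ : U₁ ≠ ⊥ := by
    intro h
    rw [Subobject.mk_eq_bot_iff_zero] at h
    apply hf₁
    rw [← image.fac f₁, h, comp_zero]
  have hU₂ : U₂ ≠ ⊥ := by
    intro h
    rw [Subobject.mk_eq_bot_iff_zero] at h
    apply hf₂
    rw [← image.fac f₂, h, comp_zero]
  have hS₁ : S₁ (U₁ : C) := by
    have h0 : S₁ (image f₁) := S₁.prop_of_epi (factorThruImage f₁) hY₁
    exact S₁.prop_of_iso (Subobject.underlyingIso (image.ι f₁)).symm h0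
  have hS₂ : S₂ (U₂ : C) := by
    have h0 : S₂ (image f₂) := S₂.prop_of_epi (factorThruImage f₂) hY₂
    exact S₂.prop_of_iso (Subobject.underlyingIso (image.ι f₂)).symm h0
  by_cases hinf : U₁ ⊓ U₂ = ⊥
  · exfalso
    obtain ⟨W, hU₂W, hWU₁, hWmax⟩ :=
      Groth.Agent.Lib.Helper15.UI1.exists_maximal_disjoint.{w} U₁ U₂ (by rw [inf_comm]; exact hinf)
    obtain ⟨V, hU₁V, hVW, hVmax⟩ :=
      Groth.Agent.Lib.Helper15.UI1.exists_maximal_disjoint.{w} W U₁ (by rw [inf_comm]; exact hWU₁)
    have hWmax' : ∀ W' : Subobject E, W ≤ W' → W' ⊓ V = ⊥ → W' = W := by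
      intro W' hle h
      apply hWmax W' hle
      exact le_bot_iff.1 (h ▸ inf_le_inf_left W' hU₁V)
    obtain ⟨e⟩ := Groth.Agent.Lib.Helper15.UI2.nonempty_iso_biprod V W hVW hWmax' hVmax
    rcases hind _ _ ⟨e⟩ with hz | hz
    · apply hU₁
      have hV0 : V = ⊥ := (Groth.Agent.Lib.Helper15.UI1.eq_bot_iff_arrow V).2 (hz.eq_of_src _ _)
      exact le_bot_iff.1 (hV0 ▸ hU₁V)
    · apply hU₂
      have hW0 : W = ⊥ := (Groth.Agent.Lib.Helper15.UI1.eq_bot_iff_arrow W).2 (hz.eq_of_src _ _)
      exact le_bot_iff.1 (hW0 ▸ hU₂W)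
  · refine ⟨((U₁ ⊓ U₂ : Subobject E) : C), ⟨?_, ?_⟩, (U₁ ⊓ U₂).arrow, ?_⟩
    · exact S₁.prop_of_mono (Subobject.ofLE _ _ inf_le_left) hS₁
    · exact S₂.prop_of_mono (Subobject.ofLE _ _ inf_le_right) hS₂
    · intro h0
      exact hinf ((Groth.Agent.Lib.Helper15.UI1.eq_bot_iff_arrow _).2 h0)


end Groth.Agent.S17646
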