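import Groth.Statements.S17652
import Groth.Agent.Lib.Helper21.USC6
-- import your own Groth.Agent.* helpers here

set_option autoImplicit false
universe u
open CategoryTheory CategoryTheory.Limits AlgebraicGeometry TopologicalSpace
open FlatMor

namespace Groth.Agent.S17652

/-- Let k be a field, X and Y schemes of finite type over k and f : X → Y a k-morphism which is flat and
proper and whose fibres over the closed points of Y are geometrically reduced. For y in Y let N(y)
be the number of irreducible components of the geometric fibre of f at y (the base change of the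
fibre to an algebraic closure of the residue field κ(y)). Then N is upper semicontinuous on Y: every
point y has a neighbourhood on which N ≤ N(y). -/
theorem result (k : Type u) [Field k]
    (X Y : Scheme.{u}) [X.Over (Spec (CommRingCat.of k))] [Y.Over (Spec (CommRingCat.of k))]
    [LocallyOfFiniteType (X ↘ Spec (CommRingCat.of k))] [CompactSpace ↥X]
    [LocallyOfFiniteType (Y ↘ Spec (CommRingCat.of k))] [CompactSpace ↥Y]
    (f : X ⟶ Y) (hf : f ≫ (Y ↘ Spec (CommRingCat.of k)) = X ↘ Spec (CommRingCat.of k))
    [Flat f] [IsProper f]
    (hred : ∀ y : ↥Y, IsClosed ({y} : Set ↥Y) → GeometricallyReduced (f.fiberToSpecResidueField y)) :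
    UpperSemicontinuous (fun y : ↥Y =>
      Nat.card ↥(irreducibleComponents (↥(pullback f
        (Spec.map (CommRingCat.ofHom (algebraMap (Y.residueField y) (AlgebraicClosure (Y.residueField y)))) ≫
          Y.fromSpecResidueField y)) : Type u))) := by
  classical
  haveI : IsLocallyNoetherian Y :=
    LocallyOfFiniteType.isLocallyNoetherian (Y ↘ Spec (CommRingCat.of k))
  -- the count in terms of `nGeomIrredComp`
  have hcount : ∀ y : ↥Y, (irreducibleComponents (↥(pullback f
      (Spec.map (CommRingCat.ofHom (algebraMap (Y.residueField y)
        (AlgebraicClosure (Y.residueField y)))) ≫ Y.fromSpecResidueField y)) : Type u)).encard =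
      MoreMor.nGeomIrredComp f y := by
    intro y
    rw [Groth.Agent.Lib.Helper6.GC.nGeomIrredComp_eq_irr]
    refine (Groth.Agent.Lib.Helper6.GC.irr_conn_eq_sepPt f
      (Spec.map (CommRingCat.ofHom (algebraMap (Y.residueField y)
        (AlgebraicClosure (Y.residueField y)))) ≫ Y.fromSpecResidueField y) y ?_).1
    rw [Scheme.Hom.comp_apply, Scheme.fromSpecResidueField_apply]
  have hfin : ∀ y : ↥Y, MoreMor.nGeomIrredComp f y ≠ ⊤ := by
    intro y
    rw [← hcount y]
    have := Groth.Agent.Lib.Helper21.USC.finite_irreducibleComponents_of_field
      (pullback.snd f (Spec.map (CommRingCat.ofHom (algebraMap (Y.residueField y)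
        (AlgebraicClosure (Y.residueField y)))) ≫ Y.fromSpecResidueField y))
    exact this.encard_lt_top.ne
  have hF : ∀ y : ↥Y, Nat.card ↥(irreducibleComponents (↥(pullback f
      (Spec.map (CommRingCat.ofHom (algebraMap (Y.residueField y)
        (AlgebraicClosure (Y.residueField y)))) ≫ Y.fromSpecResidueField y)) : Type u)) =
      (MoreMor.nGeomIrredComp f y).toNat := by
    intro y
    rw [_root_.Nat.card_coe_set_eq, Set.ncard_def, hcount y]
  intro y b hb
  have hU := Groth.Agent.Lib.Helper21.USC.setOf_nGeomIrredComp_le_mem_nhds f hred y
  refine Filter.mem_of_superset hU ?_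
  intro y' hy'
  have hb' : Nat.card ↥(irreducibleComponents (↥(pullback f
      (Spec.map (CommRingCat.ofHom (algebraMap (Y.residueField y)
        (AlgebraicClosure (Y.residueField y)))) ≫ Y.fromSpecResidueField y)) : Type u)) < b := hb
  rw [hF y] at hb'
  have key : Nat.card ↥(irreducibleComponents (↥(pullback f
      (Spec.map (CommRingCat.ofHom (algebraMap (Y.residueField y')
        (AlgebraicClosure (Y.residueField y')))) ≫ Y.fromSpecResidueField y')) : Type u)) < b := by
    rw [hF y']
    exact lt_of_le_of_lt (ENat.toNat_le_toNat hy' (hfin y)) hb'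
  exact key

end Groth.Agent.S17652
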