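import Groth.Statements.S17653
import Groth.Agent.Lib.Helper21.IrrFib5
import Groth.Agent.Lib.Helper18.TopDim
import Groth.Agent.Lib.Helper21.DimFun2
-- import your own Groth.Agent.* helpers here

set_option autoImplicit false
universe u
open CategoryTheory CategoryTheory.Limits AlgebraicGeometry TopologicalSpace
open Variety

namespace Groth.Agent.S17653

/-- Suppose X and Y are locally Noetherian schemes of the same pure dimension d (every irreducible
component of X and every irreducible component of Y has topological Krull dimension d), and π : X →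
Y is a proper morphism between them. If there is a point x of X which is isolated in its fibre
π⁻¹(π(x)), i.e. some open neighbourhood of x meets that fibre only in x, then the image of π, with
the subspace topology, has the same dimension as Y. -/
theorem result
    (X Y : Scheme.{u}) [IsLocallyNoetherian X] [IsLocallyNoetherian Y] (π : X ⟶ Y) [IsProper π]
    (d : WithBot ℕ∞) (hX : ∀ Z ∈ irreducibleComponents ↥X, topologicalKrullDim ↥Z = d)
    (hY : ∀ Z ∈ irreducibleComponents ↥Y, topologicalKrullDim ↥Z = d)
    (x : ↥X) (hx : ∃ U : X.Opens, x ∈ U ∧ ∀ x' ∈ U, π x' = π x → x' = x) :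
    topologicalKrullDim ↥(Set.range (fun z : ↥X => π z)) = topologicalKrullDim ↥Y := by
  obtain ⟨U, hxU, hU⟩ := hx
  have : LocallyOfFiniteType π := inferInstance
  have : QuasiCompact π := inferInstance
  -- dimension of `Y` is at most `d`
  have hYle : topologicalKrullDim ↥Y ≤ d := by
    unfold topologicalKrullDim Order.krullDim
    refine iSup_le fun p => ?_
    obtain ⟨C, hC, hpC⟩ := exists_mem_irreducibleComponents_subset_of_isIrreducible
      (p.last : Set Y) p.last.isIrreducible
    have := Groth.Agent.Lib.Helper18.TopDim.length_le_topologicalKrullDim_of_subset p C hpC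
    rw [hY C hC] at this
    exact this
  -- the fibre through `x` is zero-dimensional at `x`
  have hfd : FlatMor.fibreDimAt π x = 0 := by
    let _ := Groth.Agent.Lib.Helper21.FibDim.fiberOver π (π x)
    have : LocallyOfFiniteType (π.fiber (π x) ↘ Spec (CommRingCat.of (Y.residueField (π x)))) :=
      MorphismProperty.pullback_snd (P := @LocallyOfFiniteType) _ _ inferInstance
    have : QuasiCompact (π.fiber (π x) ↘ Spec (CommRingCat.of (Y.residueField (π x)))) :=
      MorphismProperty.pullback_snd (P := @QuasiCompact) _ _ inferInstance
    have : IsLocallyNoetherian (π.fiber (π x)) :=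
      LocallyOfFiniteType.isLocallyNoetherian
        (π.fiber (π x) ↘ Spec (CommRingCat.of (Y.residueField (π x))))
    have : CompactSpace (π.fiber (π x)) :=
      QuasiCompact.compactSpace_of_compactSpace
        (π.fiber (π x) ↘ Spec (CommRingCat.of (Y.residueField (π x))))
    have : IsNoetherian (π.fiber (π x)) := {}
    unfold FlatMor.fibreDimAt
    rw [← Groth.Agent.Lib.Helper18.TopDim.isOpen_singleton_iff_localDim_eq_zero]
    have : ({π.asFiber x} : Set (π.fiber (π x))) = (π.fiberι (π x)) ⁻¹' (U : Set X) := by
      ext z
      simp only [Set.mem_singleton_iff, Set.mem_preimage, SetLike.mem_coe]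
      constructor
      · rintro rfl
        rw [Scheme.Hom.fiberι_asFiber]
        exact hxU
      · intro hz
        have h1 := hU _ hz (π.fiberHomeo (π x) z).2
        apply (π.fiberι (π x)).isEmbedding.injective
        rw [Scheme.Hom.fiberι_asFiber]
        exact h1
    rw [this]
    exact U.2.preimage (π.fiberι (π x)).continuous
  -- a component through `x`
  obtain ⟨ξ, hmax, hξx⟩ := Groth.Agent.Lib.Helper21.DimFun.exists_maximal_specializes x
  have hZ : closure ({ξ} : Set X) ∈ irreducibleComponents ↥X :=
    Groth.Agent.Lib.Helper21.FibDim.closure_mem_irreducibleComponents_of_maximal ξ hmax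
  obtain ⟨e, he1, he2⟩ := Groth.Agent.Lib.Helper21.FibDim.fibreDimAt_eq_trdeg_of_maximal' π ξ hmax
  have he0 : e = 0 := by
    have h1 := Groth.Agent.Lib.Helper21.FibDim.fibreDimAt_le_of_specializes π hξx
    rw [he1, hfd] at h1
    have : e ≤ 0 := by exact_mod_cast h1
    omega
  rw [he0] at he2
  have hle := Groth.Agent.Lib.Helper21.IrrFib.topologicalKrullDim_closure_le_of_trdeg_eq_zero π ξ he2
  rw [hX _ hZ] at hle
  -- the image of the component is closed and contained in the range
  have hcl : closure (π.base '' closure ({ξ} : Set X)) = π.base '' closure ({ξ} : Set X) :=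
    (π.isClosedMap _ isClosed_closure).closure_eq
  rw [hcl] at hle
  have hsub : π.base '' closure ({ξ} : Set X) ⊆ Set.range (fun z : ↥X => π z) := by
    rintro _ ⟨z, -, rfl⟩
    exact ⟨z, rfl⟩
  have h1 := Groth.Agent.Lib.Helper21.Img.topologicalKrullDim_mono hsub
  have h2 : topologicalKrullDim ↥(Set.range (fun z : ↥X => π z)) ≤ topologicalKrullDim ↥Y :=
    (Topology.IsEmbedding.subtypeVal).isInducing.topologicalKrullDim_le
  exact le_antisymm h2 (hYle.trans (hle.trans h1))

end Groth.Agent.S17653
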