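import Groth.Statements.S17658
import Mathlib

set_option autoImplicit false
universe u
open Surf

namespace Groth.Agent.S17658
section Aux
open MvPolynomial
variable {k : Type u} [Field k]

def Ex (a b : ℕ) : Set (Fin 4 →₀ ℕ) := {e | e 2 + e 3 = a ∧ e 0 + e 1 = b + e 2}

theorem span_eq (a b : ℕ) : Submodule.span k {f : MvPolynomial (Fin 4) k | ∃ e : Fin 4 →₀ ℕ,
    e 2 + e 3 = a ∧ e 0 + e 1 = b + e 2 ∧ f = MvPolynomial.monomial e 1} =
    restrictSupport k (Ex a b) := by
  rw [restrictSupport_eq_span]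
  congr 1
  ext f
  constructor
  · rintro ⟨e, h1, h2, rfl⟩; exact ⟨e, ⟨h1, h2⟩, rfl⟩
  · rintro ⟨e, ⟨h1, h2⟩, rfl⟩; exact ⟨e, h1, h2, rfl⟩

theorem gen {σ : Type*} (mo : MonomialOrder σ) (E F G : Set (σ →₀ ℕ))
    (W : Submodule k (MvPolynomial σ k))
    (hW : W ≤ restrictSupport k E) (hEF : ∀ e ∈ E, ∀ f ∈ F, e + f ∈ G)
    (hcov : ∀ g ∈ G, ∃ w ∈ W, w ≠ 0 ∧ ∃ f ∈ F, mo.degree w + f = g) :
    W * restrictSupport k F = restrictSupport k G := by
  classical
  have hPT : W * restrictSupport k F ≤ restrictSupport k G := by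
    rw [Submodule.mul_le]
    intro m hm n hn
    rw [mem_restrictSupport_iff]
    intro x hx
    have hx' := MvPolynomial.support_mul m n (Finset.mem_coe.1 hx)
    obtain ⟨e, he, f, hf, rfl⟩ := Finset.mem_add.1 hx'
    exact hEF e ((mem_restrictSupport_iff k).1 (hW hm) (Finset.mem_coe.2 he)) f
      ((mem_restrictSupport_iff k).1 hn (Finset.mem_coe.2 hf))
  apply le_antisymm hPT
  have key : ∀ δ : mo.syn, ∀ f ∈ restrictSupport k G, mo.toSyn (mo.degree f) = δ →
      f ∈ W * restrictSupport k F := by
    intro δ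
    induction δ using WellFoundedLT.induction with
    | ind δ ih =>
      intro f hf hδ
      by_cases hf0 : f = 0
      · rw [hf0]; exact Submodule.zero_mem _
      have hdeg : mo.degree f ∈ G :=
        ((mem_restrictSupport_iff k).1 hf) (Finset.mem_coe.2 (mo.degree_mem_support hf0))
      obtain ⟨w, hwW, hw0, e2, he2, hsum⟩ := hcov _ hdeg
      have hm0 : monomial e2 (1 : k) ≠ 0 := by simp
      obtain ⟨g, hg⟩ : ∃ g, g = w * monomial e2 (1 : k) := ⟨_, rfl⟩
      have hgP : g ∈ W * restrictSupport k F := by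
        rw [hg]
        exact Submodule.mul_mem_mul hwW ((monomial_mem_restrictSupport k).2 (Or.inl he2))
      have hgdeg : mo.degree g = mo.degree f := by
        rw [hg, mo.degree_mul hw0 hm0, mo.degree_monomial, if_neg one_ne_zero, hsum]
      have hglc : mo.leadingCoeff g ≠ 0 := by
        rw [hg]; exact mo.leadingCoeff_ne_zero_iff.2 (mul_ne_zero hw0 hm0)
      obtain ⟨f', hf'⟩ : ∃ f', f' = f - (mo.leadingCoeff f / mo.leadingCoeff g) • g := ⟨_, rfl⟩
      have hf'T : f' ∈ restrictSupport k G := by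
        rw [hf']
        exact Submodule.sub_mem _ hf (Submodule.smul_mem _ _ (hPT hgP))
      have hfeq : f = f' + (mo.leadingCoeff f / mo.leadingCoeff g) • g := by rw [hf']; abel
      rw [hfeq]
      refine Submodule.add_mem _ ?_ (Submodule.smul_mem _ _ hgP)
      by_cases hf'0 : f' = 0
      · rw [hf'0]; exact Submodule.zero_mem _
      refine ih (mo.toSyn (mo.degree f')) ?_ f' hf'T rfl
      rw [← hδ]
      have hle : mo.toSyn (mo.degree f') ≤ mo.toSyn (mo.degree f) := by
        have := mo.degree_sub_le (f := f) (g := (mo.leadingCoeff f / mo.leadingCoeff g) • g)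
        rw [hf']
        refine this.trans (sup_le le_rfl ?_)
        exact (mo.degree_smul_le).trans (le_of_eq (by rw [hgdeg]))
      refine lt_of_le_of_ne hle ?_
      intro heq
      have heq' : mo.degree f' = mo.degree f := mo.toSyn.injective heq
      have hc : f'.coeff (mo.degree f') ≠ 0 := mo.coeff_degree_ne_zero_iff.2 hf'0
      apply hc
      have h1 : g.coeff (mo.degree f) = mo.leadingCoeff g := by rw [← hgdeg]; rfl
      have h2 : f.coeff (mo.degree f) = mo.leadingCoeff f := rfl
      rw [heq', hf', coeff_sub, coeff_smul, smul_eq_mul, h1, h2]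
      field_simp
      ring
  intro f hf
  exact key _ f hf rfl

end Aux



/-- In the polynomial ring k[T₀,T₁,U,V] over a field k, bigraded by deg T₀ = deg T₁ = (0,1), deg U =
(1,−1), deg V = (1,0) (the Cox ring of the Hirzebruch surface F₁; its piece of bidegree (a,b) is the
space of sections of O(a(E+F)+bF)), let S_(a,b) denote the k-span of the monomials of bidegree
(a,b), so that S_(0,c) is the space of forms of degree c in T₀, T₁. A subspace W ⊆ S_(a,b) is called
c-generating when W·S_(0,c) = S_(a,b+c). Fix a monomial order and natural numbers a, b, c, and let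
W₀(a,b,c) be the set of monomials U^i V^(a−i) T₀^(b+i−j(c+1)) T₁^(j(c+1)) with 0 ≤ i ≤ a, j ≥ 0 and
j(c+1) < b+i, together with the monomials U^i V^(a−i) T₁^(b+i) with 0 ≤ i ≤ a. If every monomial of
W₀(a,b,c) is the leading monomial of some nonzero element of W, then W is c-generating. (The source
fixes the graded lexicographic order with U > V > T₀ > T₁ and works over the complex numbers; its
argument uses only that leading monomials are multiplicative and that W₀(a,b,c)·S_(0,c) contains
every monomial of S_(a,b+c), so any monomial order and any field are allowed here. The printed index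
j runs from 1; with that range the statement fails already for a = 0, b = c = 1 and W spanned by T₁,
and the range from 0 used here is the one matching the accompanying dimension count.) Variables are
indexed T₀ = 0, T₁ = 1, U = 2, V = 3. -/
theorem result (k : Type u) [Field k]
    (mo : MonomialOrder (Fin 4)) (a b c : ℕ) (W : Submodule k (MvPolynomial (Fin 4) k))
    (hW : W ≤ Submodule.span k {f : MvPolynomial (Fin 4) k | ∃ e : Fin 4 →₀ ℕ, e 2 + e 3 = a ∧ e 0 + e 1 = b + e 2 ∧ f = MvPolynomial.monomial e 1})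
    (h₁ : ∀ i j : ℕ, i ≤ a → j * (c + 1) < b + i → ∃ w ∈ W, w ≠ 0 ∧
      mo.degree w = Finsupp.single 0 (b + i - j * (c + 1)) + Finsupp.single 1 (j * (c + 1)) +
        Finsupp.single 2 i + Finsupp.single 3 (a - i))
    (h₂ : ∀ i : ℕ, i ≤ a → ∃ w ∈ W, w ≠ 0 ∧
      mo.degree w = Finsupp.single 1 (b + i) + Finsupp.single 2 i + Finsupp.single 3 (a - i)) :
    W * Submodule.span k {f : MvPolynomial (Fin 4) k | ∃ e : Fin 4 →₀ ℕ, e 2 + e 3 = 0 ∧ e 0 + e 1 = c + e 2 ∧ f = MvPolynomial.monomial e 1} =
      Submodule.span k {f : MvPolynomial (Fin 4) k | ∃ e : Fin 4 →₀ ℕ, e 2 + e 3 = a ∧ e 0 + e 1 = (b + c) + e 2 ∧ f = MvPolynomial.monomial e 1} := by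
  classical
  rw [span_eq] at hW ⊢
  rw [span_eq]
  refine gen mo (Ex a b) (Ex 0 c) (Ex a (b + c)) W hW ?_ ?_
  · rintro e ⟨he1, he2⟩ f ⟨hf1, hf2⟩
    refine ⟨?_, ?_⟩
    · simp only [Finsupp.add_apply]; omega
    · simp only [Finsupp.add_apply]; omega
  · rintro g ⟨hg1, hg2⟩
    by_cases hq : g 1 < b + g 2
    · obtain ⟨w, hwW, hw0, hwd⟩ := h₁ (g 2) (g 1 / (c + 1)) (by omega)
        (lt_of_le_of_lt (Nat.div_mul_le_self _ _) hq)
      refine ⟨w, hwW, hw0, Finsupp.single 0 (c - g 1 % (c + 1)) + Finsupp.single 1 (g 1 % (c + 1)),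
        ⟨?_, ?_⟩, ?_⟩
      · simp
      · have := Nat.mod_lt (g 1) (by omega : 0 < c + 1)
        simp only [Finsupp.add_apply, Finsupp.single_apply]
        simp
        omega
      · rw [hwd]
        have h1 := Nat.div_add_mod' (g 1) (c + 1)
        have h2 := Nat.mod_lt (g 1) (by omega : 0 < c + 1)
        ext x
        fin_cases x <;> simp [Finsupp.single_apply] <;> omega
    · obtain ⟨w, hwW, hw0, hwd⟩ := h₂ (g 2) (by omega)
      refine ⟨w, hwW, hw0, Finsupp.single 0 (g 0) + Finsupp.single 1 (g 1 - (b + g 2)),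
        ⟨?_, ?_⟩, ?_⟩
      · simp
      · simp
        omega
      · rw [hwd]
        ext x
        fin_cases x <;> simp [Finsupp.single_apply] <;> omega

end Groth.Agent.S17658
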