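import Groth.Statements.S17662
import Mathlib
import Groth.Agent.Lib.Helper2.CauchyBinet

set_option autoImplicit false
universe u
open CIDisc

namespace Groth.Agent.S17662

/-- Let R be a commutative ring, M an r × n matrix over R and e ≥ 0; for each e-element set L of row
indices let A_L be an e × r matrix over R, and form the square matrix, indexed by the e-element sets
of row indices, whose (L, L') entry is the e × e minor of A_L on the columns L'. If the determinant
of that square matrix is a unit, then the sum over L of the ideals generated by the e × e minors of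
the products A_L · M is the ideal generated by all e × e minors of M. (In the source R is the
coordinate ring of an affine scheme X of codimension e cut out by f_1, …, f_r in affine n-space, M
is the image of the Jacobian matrix of the f_j, the A_L have entries in the ground field and cut out
complete intersections Z_L = V(A_L · f), so that the two sides are Σ_L Jac(Z_L) and Jac(X); the
source states the equality for general A_L and establishes it under the present invertibility
condition, which it shows to be generic.) -/
theorem result {R : Type u} [CommRing R] (e r n : ℕ)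
    (M : Matrix (Fin r) (Fin n) R)
    (A : {s : Finset (Fin r) // s.card = e} → Matrix (Fin e) (Fin r) R)
    (hA : IsUnit (Matrix.det (Matrix.of fun i j : {s : Finset (Fin r) // s.card = e} =>
      ((A i).submatrix id (j.1.orderEmbOfFin j.2)).det))) :
    (⨆ i, Ideal.span (Set.range fun t : {s : Finset (Fin n) // s.card = e} =>
        ((A i * M).submatrix id (t.1.orderEmbOfFin t.2)).det)) =
      Ideal.span (Set.range fun p : {s : Finset (Fin r) // s.card = e} × {s : Finset (Fin n) // s.card = e} =>
        (M.submatrix (p.1.1.orderEmbOfFin p.1.2) (p.2.1.orderEmbOfFin p.2.2)).det) := by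
  classical
  set C : Matrix {s : Finset (Fin r) // s.card = e} {s : Finset (Fin r) // s.card = e} R :=
    Matrix.of fun i j : {s : Finset (Fin r) // s.card = e} =>
      ((A i).submatrix id (j.1.orderEmbOfFin j.2)).det with hC
  -- Cauchy–Binet
  have cb : ∀ (L : {s : Finset (Fin r) // s.card = e}) (t : {s : Finset (Fin n) // s.card = e}),
      ((A L * M).submatrix id (t.1.orderEmbOfFin t.2)).det =
        ∑ L' : {s : Finset (Fin r) // s.card = e}, C L L' *
          (M.submatrix (L'.1.orderEmbOfFin L'.2) (t.1.orderEmbOfFin t.2)).det := by
    intro L t
    have h1 : (A L * M).submatrix id (t.1.orderEmbOfFin t.2) =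
        A L * M.submatrix id (t.1.orderEmbOfFin t.2) := by
      ext i j
      simp [Matrix.mul_apply]
    rw [h1, Groth.Agent.Lib.Helper2.CauchyBinet.cauchyBinet]
    rfl
  apply le_antisymm
  · apply iSup_le
    intro L
    rw [Ideal.span_le]
    rintro x ⟨t, rfl⟩
    simp only [SetLike.mem_coe]
    rw [cb]
    apply Ideal.sum_mem
    intro L' _
    exact Ideal.mul_mem_left _ _ (Ideal.subset_span ⟨(L', t), rfl⟩)
  · rw [Ideal.span_le]
    rintro x ⟨⟨L', t⟩, rfl⟩
    simp only [SetLike.mem_coe]
    -- invert C
    have hinv : C⁻¹ * C = 1 := Matrix.nonsing_inv_mul C hA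
    have hvec : (fun L => ((A L * M).submatrix id (t.1.orderEmbOfFin t.2)).det) =
        C.mulVec (fun L' => (M.submatrix (L'.1.orderEmbOfFin L'.2) (t.1.orderEmbOfFin t.2)).det) := by
      funext L
      rw [cb]
      rfl
    have hsol : (fun L' => (M.submatrix (L'.1.orderEmbOfFin L'.2) (t.1.orderEmbOfFin t.2)).det) =
        C⁻¹.mulVec (fun L => ((A L * M).submatrix id (t.1.orderEmbOfFin t.2)).det) := by
      rw [hvec, Matrix.mulVec_mulVec, hinv, Matrix.one_mulVec]
    have := congrFun hsol L'
    rw [this]
    simp only [Matrix.mulVec, dotProduct]
    apply Ideal.sum_mem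
    intro L _
    apply Ideal.mul_mem_left
    exact (le_iSup (fun i => Ideal.span (Set.range fun t : {s : Finset (Fin n) // s.card = e} =>
        ((A i * M).submatrix id (t.1.orderEmbOfFin t.2)).det)) L) (Ideal.subset_span ⟨t, rfl⟩)

end Groth.Agent.S17662
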