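import Groth.Statements.S17677
import Mathlib

set_option autoImplicit false
universe u
open Hoch

namespace Groth.Agent.S17677

section helpers
open Hoch

open TensorProduct

section general

variable (k : Type u) [CommRing k] (A : Type u) [CommRing A] [Bialgebra k A]
  (V : Type u) [AddCommGroup V] [Module k V] [HopfRep.Comod k A V]

/-- `H¹` vanishes when there is a right integral `c` with `c 1 = 1`. -/
theorem key (c : A →ₗ[k] k) (hc1 : c 1 = 1)
    (hc : ∀ a : A, (TensorProduct.rid k A) (c.lTensor A (Coalgebra.comul (R := k) a)) = c a • (1 : A))
    (z : V ⊗[k] A) :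
    (TensorProduct.rid k (V ⊗[k] A)) (c.lTensor (V ⊗[k] A) (d k A V 1 z)) =
      d k A V 0 ((TensorProduct.rid k V) (c.lTensor V z)) + z := by
  induction z using TensorProduct.induction_on with
  | zero => simp
  | tmul v a =>
    have e : ((-1 : k) ^ (0 + 1)) • tail k A V = - tail k A V := by
      rw [zero_add, pow_one]; exact neg_one_smul k (tail k A V)
    have hassoc : ∀ t : A ⊗[k] A,
        (TensorProduct.rid k (V ⊗[k] A)) (c.lTensor (V ⊗[k] A)
          ((TensorProduct.assoc k V A A).symm (v ⊗ₜ[k] t))) =
        v ⊗ₜ[k] ((TensorProduct.rid k A) (c.lTensor A t)) := by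
      intro t
      induction t using TensorProduct.induction_on with
      | zero => simp
      | tmul x y => simp [TensorProduct.smul_tmul']
      | add x y hx hy => simp only [TensorProduct.tmul_add, map_add, hx, hy]
    rw [d_succ, e]
    simp only [LinearMap.add_apply, LinearMap.neg_apply, LinearMap.rTensor_tmul, tail_tmul,
      d_zero_apply, map_sub, map_add, map_neg, TensorProduct.tmul_sub, TensorProduct.sub_tmul,
      hassoc, hc, LinearMap.lTensor_tmul, TensorProduct.rid_tmul, hc1, map_smul,
      TensorProduct.tmul_smul, one_smul, map_one]
    abel
  | add x y hx hy => simp only [map_add, hx, hy]; abel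

theorem cocycles_one_le (c : A →ₗ[k] k) (hc1 : c 1 = 1)
    (hc : ∀ a : A, (TensorProduct.rid k A) (c.lTensor A (Coalgebra.comul (R := k) a)) = c a • (1 : A)) :
    cocycles k A V 1 ≤ coboundaries k A V 1 := by
  intro z hz
  have hz' : d k A V 1 z = 0 := hz
  have h := key k A V c hc1 hc z
  rw [hz', map_zero, map_zero] at h
  refine ⟨-((TensorProduct.rid k V) (c.lTensor V z)), ?_⟩
  rw [map_neg]
  exact (eq_neg_of_add_eq_zero_right h.symm).symm

end general

section amalg

variable (k : Type u) [CommRing k] (M : Type u) [AddCommMonoid M]

/-- coefficient at `0`. -/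
noncomputable def c0 : AddMonoidAlgebra k M →ₗ[k] k :=
  Finsupp.lapply 0 ∘ₗ (AddMonoidAlgebra.coeffLinearEquiv k).toLinearMap

theorem c0_single (m : M) (r : k) [Decidable (m = 0)] :
    c0 k M (AddMonoidAlgebra.single m r) = if m = 0 then r else 0 := by
  classical
  simp [c0, Finsupp.single_apply]

theorem c0_one : c0 k M 1 = 1 := by
  classical
  rw [AddMonoidAlgebra.one_def, c0_single]; simp

theorem c0_comul (a : AddMonoidAlgebra k M) :
    (TensorProduct.rid k (AddMonoidAlgebra k M))
      ((c0 k M).lTensor (AddMonoidAlgebra k M) (Coalgebra.comul (R := k) a)) =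
      c0 k M a • (1 : AddMonoidAlgebra k M) := by
  classical
  induction a using AddMonoidAlgebra.induction_linear with
  | zero => simp
  | add x y hx hy => simp only [map_add, hx, hy, add_smul]
  | single m r =>
    rw [AddMonoidAlgebra.comul_single]
    simp only [CommSemiring.comul_apply, TensorProduct.map_tmul, LinearMap.lTensor_tmul,
      TensorProduct.rid_tmul]
    simp only [AddMonoidAlgebra.lsingle_apply, c0_single]
    by_cases hm : m = 0
    · subst hm
      simp [AddMonoidAlgebra.one_def]
    · simp [hm]

end amalg

end helpers

/-- Let k be a commutative ring, M a commutative monoid and V a right comodule over the monoid bialgebra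
k[M] (a quasi-coherent module with an action of the diagonalizable monoid scheme Spec k[M]). Then
every 1-cocycle of the Hochschild complex of V is a 1-coboundary, i.e. the first Hochschild
cohomology module of the diagonalizable monoid with coefficients in V is zero. (The source works
over an algebraic space with M finitely generated and cancellative, hypotheses it uses only to
identify modules under the monoid with comodules; the cocycle computation, which is the affine
statement given here, uses neither.) -/
theorem result (k : Type u) [CommRing k] (M : Type u)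
    [AddCommMonoid M] (V : Type u) [AddCommGroup V] [Module k V]
    [HopfRep.Comod k (AddMonoidAlgebra k M) V] :
    Hoch.cocycles k (AddMonoidAlgebra k M) V 1 ≤ Hoch.coboundaries k (AddMonoidAlgebra k M) V 1 := by
  exact cocycles_one_le k (AddMonoidAlgebra k M) V (c0 k M) (c0_one k M) (c0_comul k M)

end Groth.Agent.S17677
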