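import Groth.Statements.S17678
import Mathlib.Algebra.MonoidAlgebra.Module
import Mathlib.Algebra.MonoidAlgebra.Basic
import Mathlib.RingTheory.Flat.Basic

set_option autoImplicit false
universe u v
open DiagMon

namespace Groth.Agent.S17678

/-- Let R be a commutative ring and N an abelian group. Then the ring map R[N] → R[N × N] of monoid
algebras induced by the diagonal n ↦ (n, n), which is the comorphism of the multiplication morphism
of the diagonalizable group scheme Spec R[N] over Spec R, is flat. (The published statement asserts
flatness for every cancellative commutative monoid N, on the ground that N acts freely on N × N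
through the diagonal; but for the submonoid N of the natural numbers generated by 2 and 3, the pairs
(x, x − 1) with x ≥ 3 form one orbit class that is not a free orbit, and the corresponding direct
summand of k[N × N] is the ideal t³k[t] viewed as a module over k[t², t³], which is not flat. The
statement is therefore given for groups, where N × N is a free N-set with basis the pairs (0, b).) -/
theorem result (R : Type u) [CommRing R] (N : Type v)
    [AddCommGroup N] :
    (AddMonoidAlgebra.mapDomainRingHom R ((AddMonoidHom.id N).prod (AddMonoidHom.id N))).Flat := by
  -- the shear automorphism of `N × N`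
  let σ : N × N ≃+ N × N :=
    { toFun := fun x => (x.1 + x.2, x.2)
      invFun := fun x => (x.1 - x.2, x.2)
      left_inv := fun x => by simp
      right_inv := fun x => by simp
      map_add' := fun x y => by
        ext
        · simp only [Prod.fst_add, Prod.snd_add]; abel
        · simp }
  have hfree : (algebraMap (AddMonoidAlgebra R N) (AddMonoidAlgebra (AddMonoidAlgebra R N) N)).Flat := by
    rw [RingHom.flat_algebraMap_iff]
    have : Module.Free (AddMonoidAlgebra R N) (AddMonoidAlgebra (AddMonoidAlgebra R N) N) :=
      Module.Free.of_basis (AddMonoidAlgebra.basis N (AddMonoidAlgebra R N))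
    infer_instance
  have h2 : ((AddMonoidAlgebra.curryRingEquiv (R := R) (M := N) (N := N)).symm :
      AddMonoidAlgebra (AddMonoidAlgebra R N) N →+* AddMonoidAlgebra R (N × N)).Flat :=
    RingHom.Flat.of_bijective (AddMonoidAlgebra.curryRingEquiv (R := R) (M := N) (N := N)).symm.bijective
  have h3 : (AddMonoidAlgebra.mapDomainRingHom R σ.toAddMonoidHom).Flat :=
    RingHom.Flat.of_bijective (AddMonoidAlgebra.mapDomainRingEquiv R σ).bijective
  have key : AddMonoidAlgebra.mapDomainRingHom R ((AddMonoidHom.id N).prod (AddMonoidHom.id N)) =
      (AddMonoidAlgebra.mapDomainRingHom R σ.toAddMonoidHom).comp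
        (((AddMonoidAlgebra.curryRingEquiv (R := R) (M := N) (N := N)).symm :
          AddMonoidAlgebra (AddMonoidAlgebra R N) N →+* AddMonoidAlgebra R (N × N)).comp
          (algebraMap (AddMonoidAlgebra R N) (AddMonoidAlgebra (AddMonoidAlgebra R N) N))) := by
    refine AddMonoidAlgebra.ringHom_ext ?_ ?_
    · intro r
      simp [σ]
    · intro n
      simp [σ]
  rw [key]
  exact (hfree.comp h2).comp h3

end Groth.Agent.S17678
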