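import Groth.Statements.S17679
import Mathlib.LinearAlgebra.Dimension.Constructions
import Mathlib.LinearAlgebra.StdBasis
import Mathlib.LinearAlgebra.Dimension.Finrank
import Mathlib.Tactic.Linarith
import Mathlib.Tactic.Abel

set_option autoImplicit false
open DiagMon

namespace Groth.Agent.S17679

/-- For n ≥ 1 the minimal number of generators of ℤ^n as an additive monoid is n + 1: some n + 1
elements generate ℤ^n as a monoid, and every finite set generating ℤ^n as a monoid has at least n +
1 elements. (For n = 0 the empty set generates the zero monoid, so the count n + 1 is stated for n ≥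
1 only.) -/
theorem result (n : ℕ) (hn : 1 ≤ n) :
    (∃ s : Finset (Fin n → ℤ), s.card = n + 1 ∧ AddSubmonoid.closure (s : Set (Fin n → ℤ)) = ⊤) ∧
    ∀ s : Finset (Fin n → ℤ), AddSubmonoid.closure (s : Set (Fin n → ℤ)) = ⊤ → n + 1 ≤ s.card := by
  classical
  constructor
  · -- the standard basis together with minus its sum
    let E : Fin n → (Fin n → ℤ) := fun i => Pi.single i 1
    have hEinj : Function.Injective E := by
      intro i j h
      by_contra hij
      have := congrFun h i
      simp [E, hij] at this
    let w : Fin n → ℤ := fun _ => -1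
    have hw : w ∉ Finset.univ.image E := by
      intro h
      obtain ⟨i, -, hi⟩ := Finset.mem_image.mp h
      have := congrFun hi i
      simp [E, w] at this
    refine ⟨insert w (Finset.univ.image E), ?_, ?_⟩
    · rw [Finset.card_insert_of_notMem hw, Finset.card_image_of_injective _ hEinj]
      simp
    · set C := AddSubmonoid.closure ((insert w (Finset.univ.image E) : Finset (Fin n → ℤ)) :
        Set (Fin n → ℤ)) with hC
      have hEC : ∀ i, E i ∈ C := fun i =>
        AddSubmonoid.subset_closure (by simp)
      have hwC : w ∈ C := AddSubmonoid.subset_closure (by simp)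
      have hsum : ∀ t : Finset (Fin n), (∑ j ∈ t, E j) ∈ C := fun t => C.sum_mem fun j _ => hEC j
      have hnegE : ∀ i, -E i ∈ C := by
        intro i
        have h1 : -E i = w + ∑ j ∈ Finset.univ.erase i, E j := by
          have h2 : ∑ j, E j = fun _ => (1 : ℤ) := by
            funext k
            simp [E, Finset.sum_apply, Pi.single_apply]
          have h3 : E i + ∑ j ∈ Finset.univ.erase i, E j = ∑ j, E j :=
            Finset.add_sum_erase _ _ (Finset.mem_univ i)
          have h4 : w + ∑ j, E j = 0 := by
            rw [h2]; funext k; simp [w]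
          rw [← h3] at h4
          have : w + ∑ j ∈ Finset.univ.erase i, E j = -E i := by
            rw [eq_neg_iff_add_eq_zero, ← h4]; abel
          exact this.symm
        rw [h1]
        exact C.add_mem hwC (hsum _)
      rw [eq_top_iff]
      intro v _
      have hv : v = ∑ i, v i • E i := by
        funext k
        simp [E, Finset.sum_apply, Pi.single_apply]
      rw [hv]
      refine C.sum_mem fun i _ => ?_
      rcases le_total 0 (v i) with h | h
      · obtain ⟨m, hm⟩ := Int.eq_ofNat_of_zero_le h
        rw [hm, natCast_zsmul]
        exact C.nsmul_mem (hEC i) m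
      · obtain ⟨m, hm⟩ := Int.eq_ofNat_of_zero_le (neg_nonneg.mpr h)
        have : v i • E i = m • (-E i) := by
          rw [← natCast_zsmul, ← hm]; simp
        rw [this]
        exact C.nsmul_mem (hnegE i) m
  · intro s hs
    by_contra hlt
    push Not at hlt
    have hcard : s.card ≤ n := by omega
    -- `s` is nonempty
    have hne : s.Nonempty := by
      by_contra h
      rw [Finset.not_nonempty_iff_eq_empty] at h
      rw [h] at hs
      simp at hs
      have : Nontrivial (Fin n → ℤ) := by
        have : Nonempty (Fin n) := ⟨⟨0, by omega⟩⟩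
        infer_instance
      exact absurd hs.symm top_ne_bot
    obtain ⟨v, hv⟩ := hne
    let ι : (Fin n → ℤ) →+ (Fin n → ℚ) :=
      { toFun := fun x i => (x i : ℚ)
        map_zero' := by funext i; simp
        map_add' := fun x y => by funext i; simp }
    set T : Submodule ℚ (Fin n → ℚ) := Submodule.span ℚ (((s.erase v).image ι : Finset (Fin n → ℚ)) :
      Set (Fin n → ℚ)) with hT
    have hTs : ∀ w ∈ s, w ≠ v → ι w ∈ T := by
      intro w hw hwv
      refine Submodule.subset_span ?_
      rw [Finset.mem_coe, Finset.mem_image]
      exact ⟨w, Finset.mem_erase.mpr ⟨hwv, hw⟩, rfl⟩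
    have hind : ∀ x ∈ AddSubmonoid.closure (s : Set (Fin n → ℤ)),
        ∃ c : ℕ, ι x - (c : ℚ) • ι v ∈ T := by
      intro x hx
      induction hx using AddSubmonoid.closure_induction with
      | mem w hw =>
        by_cases hwv : w = v
        · refine ⟨1, ?_⟩
          rw [hwv]; simp
        · refine ⟨0, ?_⟩
          simpa using hTs w hw hwv
      | zero => exact ⟨0, by simp⟩
      | add x y _ _ hx hy =>
        obtain ⟨c, hc⟩ := hx
        obtain ⟨c', hc'⟩ := hy
        refine ⟨c + c', ?_⟩
        have : ι (x + y) - ((c + c' : ℕ) : ℚ) • ι v =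
            (ι x - (c : ℚ) • ι v) + (ι y - (c' : ℚ) • ι v) := by
          rw [map_add]; push_cast; rw [add_smul]; abel
        rw [this]
        exact T.add_mem hc hc'
    have hvT : ι v ∈ T := by
      obtain ⟨c, hc⟩ := hind (-v) (by rw [hs]; trivial)
      have h1 : ι (-v) - (c : ℚ) • ι v = (-(1 + (c : ℚ))) • ι v := by
        rw [map_neg, neg_smul, add_smul, one_smul]; abel
      rw [h1] at hc
      have hne : (-(1 + (c : ℚ))) ≠ 0 := by
        have : (0 : ℚ) ≤ c := by positivity
        intro h; linarith
      have := T.smul_mem (-(1 + (c : ℚ)))⁻¹ hc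
      rwa [smul_smul, inv_mul_cancel₀ hne, one_smul] at this
    have hall : ∀ x : Fin n → ℤ, ι x ∈ T := by
      intro x
      obtain ⟨c, hc⟩ := hind x (by rw [hs]; trivial)
      have := T.add_mem hc (T.smul_mem (c : ℚ) hvT)
      simpa using this
    have hTtop : T = ⊤ := by
      rw [eq_top_iff, ← (Pi.basisFun ℚ (Fin n)).span_eq, Submodule.span_le]
      rintro _ ⟨i, rfl⟩
      have : (Pi.basisFun ℚ (Fin n)) i = ι (Pi.single i 1) := by
        rw [Pi.basisFun_apply]
        funext k
        simp [ι, Pi.single_apply]
      rw [this]
      exact hall _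
    have h1 : Module.finrank ℚ T ≤ ((s.erase v).image ι).card := by
      rw [hT]
      exact finrank_span_finset_le_card _
    have h2 : ((s.erase v).image ι).card ≤ (s.erase v).card := Finset.card_image_le
    have h3 : (s.erase v).card = s.card - 1 := Finset.card_erase_of_mem hv
    have h4 : Module.finrank ℚ T = n := by
      rw [hTtop, finrank_top]
      simp
    have h5 : 0 < s.card := Finset.card_pos.mpr ⟨v, hv⟩
    omega

end Groth.Agent.S17679
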