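import Groth.Statements.S17682
import Mathlib.Algebra.MonoidAlgebra.Module
import Mathlib.Algebra.DirectSum.Algebra

set_option autoImplicit false
universe u v w u'
open DiagMon

namespace Groth.Agent.S17682

/-- Let R be a commutative ring, A a commutative R-algebra graded by a commutative monoid M, N a
submonoid of M and R' a commutative R-algebra. For every R-algebra homomorphism F : A → R' vanishing
on the homogeneous elements of degree outside N there is a unique R-algebra homomorphism f : A →
R'[M] which is graded (a homogeneous element of degree m goes to a multiple of X^m), vanishes on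
homogeneous elements of degree outside N, and composes with the augmentation X^m ↦ 1 to F. In the
dictionary where an M-grading of A is an action of the diagonalizable monoid scheme Spec R[M] on
Spec A and graded maps A → R'[M] supported on N are equivariant maps from the monoid scheme of N
over R', this says that the attractor of Spec A for the magnet N is represented by the closed
subscheme of Spec A defined by the homogeneous elements of degree outside N. -/
theorem result (R : Type u) [CommRing R]
    (A : Type v) [CommRing A] [Algebra R A] (M : Type w) [AddCommMonoid M] [DecidableEq M]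
    (𝒜 : M → Submodule R A) [GradedAlgebra 𝒜] (N : AddSubmonoid M) (R' : Type u') [CommRing R']
    [Algebra R R'] (F : A →ₐ[R] R') (hF : ∀ m, m ∉ N → ∀ a ∈ 𝒜 m, F a = 0) :
    ∃! f : A →ₐ[R] AddMonoidAlgebra R' M,
      (∀ m, ∀ a ∈ 𝒜 m, f a =
          AddMonoidAlgebra.single m (Bialgebra.counitAlgHom R' (AddMonoidAlgebra R' M) (f a))) ∧
      (∀ m, m ∉ N → ∀ a ∈ 𝒜 m, f a = 0) ∧
      ∀ a, Bialgebra.counitAlgHom R' (AddMonoidAlgebra R' M) (f a) = F a := by
  classical
  let fm : ∀ m, 𝒜 m →ₗ[R] AddMonoidAlgebra R' M := fun m =>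
    (AddMonoidAlgebra.lsingle (R := R) (S := R') m).comp (F.toLinearMap.comp (𝒜 m).subtype)
  have hfm : ∀ m (x : 𝒜 m), fm m x = AddMonoidAlgebra.single m (F (x : A)) := fun m x => rfl
  have hone : fm 0 (GradedMonoid.GOne.one (A := fun i => 𝒜 i)) = 1 := by
    rw [hfm]
    change AddMonoidAlgebra.single 0 (F (1 : A)) = 1
    rw [map_one]
    rfl
  have hmul : ∀ {i j} (ai : 𝒜 i) (aj : 𝒜 j),
      fm _ (GradedMonoid.GMul.mul (A := fun i => 𝒜 i) ai aj) = fm _ ai * fm _ aj := by
    intro i j ai aj
    rw [hfm, hfm, hfm, AddMonoidAlgebra.single_mul_single]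
    change AddMonoidAlgebra.single (i + j) (F ((ai : A) * (aj : A))) = _
    rw [map_mul]
  let g : (DirectSum M fun i => 𝒜 i) →ₐ[R] AddMonoidAlgebra R' M :=
    DirectSum.toAlgebra R (fun i => 𝒜 i) fm hone hmul
  let f : A →ₐ[R] AddMonoidAlgebra R' M := g.comp (DirectSum.decomposeAlgEquiv 𝒜).toAlgHom
  have hf : ∀ m, ∀ a ∈ 𝒜 m, f a = AddMonoidAlgebra.single m (F a) := by
    intro m a ha
    change g (DirectSum.decompose 𝒜 a) = _
    rw [DirectSum.decompose_of_mem 𝒜 ha]
    change DirectSum.toSemiring (fun i => (fm i).toAddMonoidHom) hone @hmul (DirectSum.of (fun i => 𝒜 i) m ⟨a, ha⟩) = _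
    rw [DirectSum.toSemiring_of]
    rfl
  have hcounit : ∀ (m : M) (r : R'),
      Bialgebra.counitAlgHom R' (AddMonoidAlgebra R' M) (AddMonoidAlgebra.single m r) = r := by
    intro m r
    change Coalgebra.counit (AddMonoidAlgebra.single m r) = r
    rw [AddMonoidAlgebra.counit_single]
    rfl
  have hcF : ∀ a, Bialgebra.counitAlgHom R' (AddMonoidAlgebra R' M) (f a) = F a := by
    intro a
    induction a using DirectSum.Decomposition.inductionOn 𝒜 with
    | zero => simp
    | homogeneous x => rw [hf _ _ x.2, hcounit]
    | add a b ha hb => rw [map_add, map_add, map_add, ha, hb]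
  refine ⟨f, ⟨?_, ?_, hcF⟩, ?_⟩
  · intro m a ha
    rw [hcF, hf m a ha]
  · intro m hm a ha
    rw [hf m a ha, hF m hm a ha]
    simp
  · rintro f' ⟨h1, -, h3⟩
    refine AlgHom.ext fun a => ?_
    induction a using DirectSum.Decomposition.inductionOn 𝒜 with
    | zero => simp
    | homogeneous x => rw [h1 _ _ x.2, h3, hf _ _ x.2]
    | add a b ha hb => rw [map_add, map_add, ha, hb]

end Groth.Agent.S17682
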