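import Groth.Statements.S17683
import Mathlib.Tactic.NormNum

set_option autoImplicit false
universe u
open DiagMon

namespace Groth.Agent.S17683

/-- Let N be a commutative monoid and F a submonoid of N. The additive projection ℤ[N] → ℤ[F] of monoid
algebras keeping the monomials with exponent in F and killing the others is multiplicative, i.e. F
is a face of N, if and only if for all x, y in N the sum x + y lies in F exactly when both x and y
do. -/
theorem result {N : Type u} [AddCommMonoid N] (F : AddSubmonoid N) :
    (∀ a b : AddMonoidAlgebra ℤ N,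
        AddMonoidAlgebra.comapDomain ((↑) : F → N) Subtype.val_injective (a * b) =
          AddMonoidAlgebra.comapDomain ((↑) : F → N) Subtype.val_injective a *
            AddMonoidAlgebra.comapDomain ((↑) : F → N) Subtype.val_injective b) ↔
      ∀ x y : N, x + y ∈ F ↔ (x ∈ F ∧ y ∈ F) := by
  classical
  -- `comapDomain` on monomials
  have hcs : ∀ (x : N) (r : ℤ), AddMonoidAlgebra.comapDomain ((↑) : F → N) Subtype.val_injective
      (AddMonoidAlgebra.single x r) =
        if h : x ∈ F then AddMonoidAlgebra.single (⟨x, h⟩ : F) r else 0 := by
    intro x r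
    split_ifs with h
    · exact AddMonoidAlgebra.comapDomain_single_map ((↑) : F → N) Subtype.val_injective ⟨x, h⟩ r
    · ext ⟨z, hz⟩
      have hne : x ≠ z := fun hxz => h (hxz ▸ hz)
      simp [hne]
  constructor
  · intro hmul x y
    constructor
    · intro hxy
      have h := hmul (AddMonoidAlgebra.single x 1) (AddMonoidAlgebra.single y 1)
      rw [AddMonoidAlgebra.single_mul_single, hcs, hcs, hcs, dif_pos hxy] at h
      by_contra hcon
      have hzero : (if h : x ∈ F then AddMonoidAlgebra.single (⟨x, h⟩ : F) (1 : ℤ) else 0) *
          (if h : y ∈ F then AddMonoidAlgebra.single (⟨y, h⟩ : F) (1 : ℤ) else 0) = 0 := by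
        by_cases hx : x ∈ F
        · have hy : y ∉ F := fun hy => hcon ⟨hx, hy⟩
          rw [dif_neg hy, mul_zero]
        · rw [dif_neg hx, zero_mul]
      rw [hzero] at h
      exact (AddMonoidAlgebra.single_ne_zero.mpr (by norm_num : (1 * 1 : ℤ) ≠ 0)) h
    · rintro ⟨hx, hy⟩
      exact F.add_mem hx hy
  · intro hface a b
    induction a using AddMonoidAlgebra.induction_linear with
    | zero => simp
    | add a₁ a₂ h₁ h₂ =>
      rw [add_mul, AddMonoidAlgebra.comapDomain_add, AddMonoidAlgebra.comapDomain_add, h₁, h₂,
        add_mul]
    | single x r =>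
      induction b using AddMonoidAlgebra.induction_linear with
      | zero => simp
      | add b₁ b₂ h₁ h₂ =>
        rw [mul_add, AddMonoidAlgebra.comapDomain_add, AddMonoidAlgebra.comapDomain_add, h₁, h₂,
          mul_add]
      | single y t =>
        rw [AddMonoidAlgebra.single_mul_single, hcs, hcs, hcs]
        by_cases hx : x ∈ F
        · by_cases hy : y ∈ F
          · have hxy : x + y ∈ F := F.add_mem hx hy
            rw [dif_pos hx, dif_pos hy, dif_pos hxy, AddMonoidAlgebra.single_mul_single]
            rfl
          · have hxy : x + y ∉ F := fun h => hy ((hface x y).mp h).2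
            rw [dif_neg hy, dif_neg hxy, mul_zero]
        · have hxy : x + y ∉ F := fun h => hx ((hface x y).mp h).1
          rw [dif_neg hx, dif_neg hxy, zero_mul]

end Groth.Agent.S17683
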