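import Groth.Statements.S17685
import Groth.Agent.Lib.Helper10.FixLocus

set_option autoImplicit false
universe u
open CategoryTheory MonoidalCategory CartesianMonoidalCategory MonObj GrpObj AlgebraicGeometry
open AlgGrp

namespace Groth.Agent.S17685

open CategoryTheory.Limits in
theorem isPullback_whiskerRight_fst {C : Type*} [Category C] [CartesianMonoidalCategory C]
    {A B : C} (e : A ⟶ B) (X : C) : IsPullback (e ▷ X) (fst A X) (fst B X) e := by
  refine ⟨⟨by simp⟩, ⟨PullbackCone.IsLimit.mk _ (fun s => lift s.snd (s.fst ≫ snd B X)) ?_ ?_ ?_⟩⟩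
  · intro s
    apply CartesianMonoidalCategory.hom_ext
    · simp [s.condition]
    · simp
  · intro s
    simp
  · intro s m h1 h2
    apply CartesianMonoidalCategory.hom_ext
    · simpa using h2
    · have := congrArg (fun r => r ≫ snd B X) h1
      simpa using this

/-- Let S be a scheme, F an S-scheme that is finite locally free over S (finite, flat and locally of
finite presentation) with a section e of F over S which is a surjective closed immersion (an
infinitesimal pointed S-scheme), and X an S-scheme with an action of the pointed scheme F, i.e. an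
S-morphism F ×_S X → X through which e acts as the identity. Then the subfunctor of F-fixed points
of X, whose T-points are the T-points x of X with g · x_{T'} = x_{T'} for every S-scheme T' over T
and every T'-point g of F, is represented by a closed subscheme of X. (The source allows F and X to
be algebraic spaces over S; this row is the case of schemes.) -/
theorem result (S : Scheme.{u})
    (F X : Over S) (e : 𝟙_ (Over S) ⟶ F) (act : F ⊗ X ⟶ X) (he : (e ▷ X) ≫ act = (λ_ X).hom)
    [IsFinite F.hom] [Flat F.hom] [LocallyOfFinitePresentation F.hom]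
    [IsClosedImmersion e.left] [Surjective e.left] :
    ∃ (Z : Scheme.{u}) (i : Z ⟶ X.left), IsClosedImmersion i ∧
      ∀ (T : Over S) (x : T ⟶ X), (∃ y : T.left ⟶ Z, y ≫ i = x.left) ↔
        ∀ (T' : Over S) (t : T' ⟶ T) (g : T' ⟶ F), lift g (t ≫ x) ≫ act = t ≫ x := by
  have hF := Groth.Agent.Lib.Helper10.WeilClosed.affLocProj_of_finite_flat_lfp F.hom
  have hsurj : Surjective (e ▷ X).left := by
    have hpb := (isPullback_whiskerRight_fst e X).map (Over.forget S)
    exact MorphismProperty.of_isPullback (P := @Surjective) hpb.flip ‹Surjective e.left›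
  have hstab : ∀ U : X.left.Opens, (snd F X).left ⁻¹ᵁ U ≤ act.left ⁻¹ᵁ U := by
    intro U z hz
    obtain ⟨z', rfl⟩ := hsurj.surj z
    have h1 : (snd F X).left ((e ▷ X).left z') = (λ_ X).hom.left z' := by
      rw [← Scheme.Hom.comp_apply, ← Over.comp_left, whiskerRight_snd, leftUnitor_hom]
    have h2 : act.left ((e ▷ X).left z') = (λ_ X).hom.left z' := by
      rw [← Scheme.Hom.comp_apply, ← Over.comp_left, he]
    change act.left _ ∈ U
    rw [h2, ← h1]
    exact hz
  obtain ⟨T₀, t, ht, hrep⟩ :=
    Groth.Agent.Lib.Helper10.FixLocus.exists_repBy_fixSub_of_stable_of_affLocProj hF act hstab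
  refine ⟨T₀, t, ht, fun T x => ?_⟩
  rw [← hrep x.left, Groth.Agent.Lib.Helper10.FixLocus.fixSub_iff,
    Groth.Agent.Lib.Helper10.FixLocus.fix_iff_points]

end Groth.Agent.S17685
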