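import Groth.Statements.S17687
import Mathlib.RingTheory.GradedAlgebra.Basic
import Mathlib.RingTheory.FiniteType
import Mathlib.RingTheory.Ideal.Span

set_option autoImplicit false
universe u v w
open DiagMon

namespace Groth.Agent.S17687

/-- Let R be a commutative ring and A a commutative R-algebra of finite type graded by a commutative
monoid M. Then the set of ideals J_N, N running over all submonoids of M, where J_N is generated by
the homogeneous elements of degree not in N (the ideal of the attractor of Spec A for the magnet N),
is finite: Spec A has finitely many attractors and hence finitely many pure magnets. (The source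
assumes Spec A of finite presentation over the base; its proof uses only a finite set of homogeneous
algebra generators, so finite type is assumed here.) -/
theorem result (R : Type u) [CommRing R] (A : Type v) [CommRing A]
    [Algebra R A] [Algebra.FiniteType R A] (M : Type w) [AddCommMonoid M] [DecidableEq M]
    (𝒜 : M → Submodule R A) [GradedAlgebra 𝒜] :
    (Set.range fun N : AddSubmonoid M => Ideal.span {a : A | ∃ m : M, m ∉ N ∧ a ∈ 𝒜 m}).Finite := by
  classical
  obtain ⟨s, hs⟩ := (Algebra.FiniteType.out : (⊤ : Subalgebra R A).FG)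
  -- homogeneous generators
  let T : Finset A := s.biUnion fun a =>
    (DirectSum.decompose 𝒜 a).support.image fun m => (DirectSum.decompose 𝒜 a m : A)
  have hThom : ∀ t ∈ T, ∃ m, t ∈ 𝒜 m := by
    intro t ht
    obtain ⟨a, _, ht⟩ := Finset.mem_biUnion.mp ht
    obtain ⟨m, _, rfl⟩ := Finset.mem_image.mp ht
    exact ⟨m, (DirectSum.decompose 𝒜 a m).2⟩
  have hTtop : Algebra.adjoin R (T : Set A) = ⊤ := by
    rw [eq_top_iff, ← hs]
    refine Algebra.adjoin_le ?_
    intro a ha
    rw [← DirectSum.sum_support_decompose 𝒜 a]
    refine Subalgebra.sum_mem _ ?_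
    intro m hm
    refine Algebra.subset_adjoin ?_
    exact Finset.mem_biUnion.mpr ⟨a, ha, Finset.mem_image.mpr ⟨m, hm, rfl⟩⟩
  -- the ideals are spanned by subsets of `T`
  have key : ∀ N : AddSubmonoid M, Ideal.span {a : A | ∃ m : M, m ∉ N ∧ a ∈ 𝒜 m} =
      Ideal.span {t : A | t ∈ T ∧ ∃ m : M, m ∉ N ∧ t ∈ 𝒜 m} := by
    intro N
    set I : Ideal A := Ideal.span {t : A | t ∈ T ∧ ∃ m : M, m ∉ N ∧ t ∈ 𝒜 m} with hI
    apply le_antisymm
    · -- the subalgebra of elements whose components outside `N` lie in `I`
      let B : Subalgebra R A :=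
        { carrier := {x | ∀ m, m ∉ N → (DirectSum.decompose 𝒜 x m : A) ∈ I}
          mul_mem' := by
            intro x y hx hy m hm
            rw [DirectSum.decompose_mul, DirectSum.coe_mul_apply]
            refine Submodule.sum_mem _ ?_
            intro ij hij
            have hsum : ij.1 + ij.2 = m := (Finset.mem_filter.mp hij).2
            by_cases h1 : ij.1 ∈ N
            · have h2 : ij.2 ∉ N := by
                intro h2
                exact hm (hsum ▸ N.add_mem h1 h2)
              exact Ideal.mul_mem_left _ _ (hy _ h2)
            · exact Ideal.mul_mem_right _ _ (hx _ h1)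
          add_mem' := by
            intro x y hx hy m hm
            rw [DirectSum.decompose_add, DirectSum.add_apply, Submodule.coe_add]
            exact Ideal.add_mem _ (hx m hm) (hy m hm)
          algebraMap_mem' := by
            intro r m hm
            have hm0 : (0 : M) ≠ m := fun h => hm (h ▸ N.zero_mem)
            rw [DirectSum.decompose_of_mem_ne 𝒜 (SetLike.algebraMap_mem_graded 𝒜 r) hm0]
            exact Submodule.zero_mem _ }
      have hTB : (T : Set A) ⊆ B := by
        intro t ht m hm
        obtain ⟨m₀, hm₀⟩ := hThom t ht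
        by_cases hmm : m₀ = m
        · subst hmm
          rw [DirectSum.decompose_of_mem_same 𝒜 hm₀]
          exact Ideal.subset_span ⟨ht, m₀, hm, hm₀⟩
        · rw [DirectSum.decompose_of_mem_ne 𝒜 hm₀ hmm]
          exact Submodule.zero_mem _
      have hBtop : B = ⊤ := by
        rw [eq_top_iff, ← hTtop]
        exact Algebra.adjoin_le hTB
      refine Ideal.span_le.mpr ?_
      rintro a ⟨m, hm, ha⟩
      have haB : a ∈ B := by rw [hBtop]; trivial
      have := haB m hm
      rwa [DirectSum.decompose_of_mem_same 𝒜 ha] at this
    · refine Ideal.span_mono ?_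
      rintro t ⟨_, m, hm, ht⟩
      exact ⟨m, hm, ht⟩
  have hsub : (Set.range fun N : AddSubmonoid M => Ideal.span {a : A | ∃ m : M, m ∉ N ∧ a ∈ 𝒜 m}) ⊆
      (fun U : Set A => Ideal.span U) '' (𝒫 (T : Set A)) := by
    rintro _ ⟨N, rfl⟩
    refine ⟨{t : A | t ∈ T ∧ ∃ m : M, m ∉ N ∧ t ∈ 𝒜 m}, ?_, (key N).symm⟩
    intro t ht
    exact ht.1
  exact ((Finset.finite_toSet T).finite_subsets.image _).subset hsub

end Groth.Agent.S17687
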