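import Groth.Statements.S17689
import Groth.Agent.Lib.Helper6.UHPow
-- import your own Groth.Agent.* helpers here

set_option autoImplicit false
universe u
open CategoryTheory AlgebraicGeometry
open Neron

namespace Groth.Agent.S17689

/-- Let R ⊆ S be a finite extension of discrete valuation rings (the structure map R → S is injective
and S is a finite R-module) such that the induced extension K ⊆ L of fraction fields is purely
inseparable. Then the morphism Spec S → Spec R is a universal homeomorphism: every base change of it
is a homeomorphism on underlying spaces. (No excellence hypothesis is needed here.) -/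
theorem result
    (R S K L : Type u) [CommRing R] [IsDomain R] [IsDiscreteValuationRing R]
    [CommRing S] [IsDomain S] [IsDiscreteValuationRing S] [Algebra R S] [Module.Finite R S] [FaithfulSMul R S]
    [Field K] [Field L] [Algebra R K] [IsFractionRing R K] [Algebra S L] [IsFractionRing S L]
    [Algebra K L] [Algebra R L] [IsScalarTower R S L] [IsScalarTower R K L] [IsPurelyInseparable K L] :
    FlatMor.IsUnivHomeo (Spec.map (CommRingCat.ofHom (algebraMap R S))) := by
  rw [Groth.Agent.Lib.Helper6.SqCube.uh_iff]
  have hinjRS : Function.Injective (algebraMap R S) := FaithfulSMul.algebraMap_injective R S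
  have hinjRK : Function.Injective (algebraMap R K) := IsFractionRing.injective R K
  have hinjSL : Function.Injective (algebraMap S L) := IsFractionRing.injective S L
  obtain ⟨q, hqK⟩ := ExpChar.exists K
  haveI := hqK
  apply Groth.Agent.Lib.Helper6.UHPow.uh_of_pow_mem_range _ q
  · cases hqK with
    | zero => left; rfl
    | prime hp =>
      right
      refine ⟨hp, ?_⟩
      apply hinjRK
      rw [map_natCast, map_zero]
      exact CharP.cast_eq_zero K q
  · rw [(RingHom.injective_iff_ker_eq_bot _).mp hinjRS]
    exact bot_le
  · intro s
    obtain ⟨n, k, hk⟩ := IsPurelyInseparable.pow_mem K q (algebraMap S L s)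
    have hs : IsIntegral R s := Algebra.IsIntegral.isIntegral s
    have h1 : IsIntegral R (algebraMap S L s ^ q ^ n) :=
      (hs.map (IsScalarTower.toAlgHom R S L)).pow _
    rw [← hk] at h1
    have h2 : IsIntegral R k :=
      (isIntegral_algHom_iff (IsScalarTower.toAlgHom R K L) (algebraMap K L).injective).mp h1
    obtain ⟨r, hr⟩ := IsIntegrallyClosed.algebraMap_eq_of_integral h2
    refine ⟨n, r, ?_⟩
    apply hinjSL
    rw [map_pow, ← hk, ← hr, ← IsScalarTower.algebraMap_apply, ← IsScalarTower.algebraMap_apply]

end Groth.Agent.S17689
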