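import Groth.Statements.S17690
import Mathlib
import Groth.Agent.Lib.Helper18.Nag9
import Groth.Agent.Lib.Helper18.Nag10
import Groth.Agent.Lib.Helper11.Japanese

set_option autoImplicit false
set_option linter.style.haveILetI false
universe u
open Neron

namespace Groth.Agent.S17690

/-- Let R be an excellent discrete valuation ring (Noetherian, universally catenary, G-ring, J-2) with
fraction field K, and let L be a finite purely inseparable field extension of K. Then the integral
closure S of R in L is a discrete valuation ring, and S is a finite R-module. -/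
theorem result
    (R K L : Type u) [CommRing R] [IsDomain R] [IsDiscreteValuationRing R] (hR : EGA4.IsExcellent R)
    [Field K] [Algebra R K] [IsFractionRing R K] [Field L] [Algebra K L] [FiniteDimensional K L]
    [IsPurelyInseparable K L] [Algebra R L] [IsScalarTower R K L] :
    IsDiscreteValuationRing ↥(integralClosure R L) ∧ Module.Finite R ↥(integralClosure R L) := by
  have hqe : EGA4.IsQuasiExcellent R := ⟨hR.1, hR.2.2.1, hR.2.2.2⟩
  have hNag := Groth.Agent.Lib.Helper18.Nag.isNagata_of_isQuasiExcellent R hqe
  have hN2 := Groth.Agent.Lib.Helper18.Nag.isN2_of_isNagata_of_isDomain R hNag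
  haveI hfin : Module.Finite R (integralClosure R L) := Groth.Agent.Lib.Helper11.Japanese.IsN2.finite hN2 K L
  refine ⟨?_, hfin⟩
  haveI : IsNoetherianRing (integralClosure R L) := IsNoetherianRing.of_finite R _
  haveI : Algebra.IsAlgebraic K L := Algebra.IsAlgebraic.of_finite K L
  haveI hfr : IsFractionRing (integralClosure R L) L :=
    integralClosure.isFractionRing_of_finite_extension K L
  haveI : IsIntegrallyClosed (integralClosure R L) :=
    integralClosure.isIntegrallyClosedOfFiniteExtension K
  haveI : Algebra.IsIntegral R (integralClosure R L) := inferInstance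
  obtain ⟨q, hq⟩ := ExpChar.exists K
  haveI := hq
  -- contraction of a maximal ideal
  have hcomap : ∀ P : Ideal (integralClosure R L), P.IsMaximal →
      P.comap (algebraMap R (integralClosure R L)) = IsLocalRing.maximalIdeal R := by
    intro P hP
    haveI := hP
    exact IsLocalRing.eq_maximalIdeal (Ideal.isMaximal_comap_of_isIntegral_of_isMaximal P)
  have hpow : ∀ x : integralClosure R L, ∃ (n : ℕ) (r : R),
      x ^ q ^ n = algebraMap R (integralClosure R L) r := by
    intro x
    obtain ⟨n, y, hy⟩ := IsPurelyInseparable.pow_mem K q (x : L)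
    have hint : IsIntegral R y := by
      have h1 : IsIntegral R ((x : L) ^ q ^ n) := (x.2 : IsIntegral R (x : L)).pow _
      rw [← hy] at h1
      exact (isIntegral_algebraMap_iff (algebraMap K L).injective).mp h1
    obtain ⟨r, hr⟩ := IsIntegrallyClosed.isIntegral_iff.mp hint
    refine ⟨n, r, ?_⟩
    apply Subtype.ext
    rw [SubmonoidClass.coe_pow, ← hy, ← hr, ← IsScalarTower.algebraMap_apply]
    rfl
  have hle : ∀ P₁ P₂ : Ideal (integralClosure R L), P₁.IsMaximal → P₂.IsMaximal → P₁ ≤ P₂ := by
    intro P₁ P₂ h1 h2 x hx
    obtain ⟨n, r, hr⟩ := hpow x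
    have h3 : r ∈ P₁.comap (algebraMap R (integralClosure R L)) := by
      rw [Ideal.mem_comap, ← hr]
      exact P₁.pow_mem_of_mem hx _ (pow_pos (expChar_pos K q) n)
    rw [hcomap P₁ h1, ← hcomap P₂ h2, Ideal.mem_comap, ← hr] at h3
    exact h2.isPrime.mem_of_pow_mem _ h3
  haveI : IsLocalRing (integralClosure R L) := by
    apply IsLocalRing.of_unique_max_ideal
    obtain ⟨P, hP⟩ := Ideal.exists_maximal (integralClosure R L)
    exact ⟨P, hP, fun P' hP' => hP'.eq_of_le hP.ne_top (hle P' P hP' hP)⟩
  have hnf : ¬ IsField (integralClosure R L) := by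
    intro hf
    have hinj : Function.Injective (algebraMap R (integralClosure R L)) := by
      intro a b hab
      have h1 : algebraMap R L a = algebraMap R L b := congrArg Subtype.val hab
      rw [IsScalarTower.algebraMap_apply R K L, IsScalarTower.algebraMap_apply R K L] at h1
      exact IsFractionRing.injective R K ((algebraMap K L).injective h1)
    exact IsDiscreteValuationRing.not_isField R
      (isField_of_isIntegral_of_isField hinj hf)
  haveI : Ring.DimensionLEOne (integralClosure R L) := inferInstance
  have hded : IsDedekindDomain (integralClosure R L) := { }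
  exact ((IsDiscreteValuationRing.TFAE (integralClosure R L) hnf).out 2 0).mp hded

end Groth.Agent.S17690
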