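import Groth.Statements.S17703
import Mathlib
import Groth.Prelude.Def_CAlg
import Groth.Prelude.Def_EGA4b
import Groth.Agent.Lib.Helper18.Exc2
import Groth.Agent.Lib.Helper18.Exc3
import Groth.Agent.Lib.Helper18.J2f
import Groth.Agent.Lib.Helper18.UCat
import Groth.Agent.Lib.Helper18.PMor4
import Groth.Agent.Lib.Helper18.FormEq

set_option autoImplicit false
universe u
open Neron

namespace Groth.Agent.S17703

open IsLocalRing TensorProduct

/-- an Artinian reduced ring is regular. -/
theorem isRegularRing_of_artinian_reduced (S : Type u) [CommRing S] [IsArtinianRing S]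
    [IsReduced S] : IsRegularRing S := by
  haveI : IsNoetherianRing S := inferInstance
  refine { isRegularLocalRing_localization := fun p _ => ?_ }
  haveI : IsReduced (Localization.AtPrime p) := inferInstance
  have hF := IsArtinianRing.isField_of_isReduced_of_isLocalRing (Localization.AtPrime p)
  letI := hF.toField
  infer_instance

section dvr

variable (R : Type u) [CommRing R] [IsDomain R] [IsDiscreteValuationRing R]

/-- the only prime of the completion lying over `0` is `0`. -/
theorem eq_bot_of_liesOver (Q : Ideal (EGA4.Cpl R)) [Q.IsPrime] [hQ : Q.LiesOver (⊥ : Ideal R)] :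
    Q = ⊥ := by
  haveI : IsNoetherianRing (EGA4.Cpl R) := inferInstance
  obtain ⟨π, hπ⟩ := IsDiscreteValuationRing.exists_irreducible R
  have hmax : maximalIdeal R = Ideal.span {π} := hπ.maximalIdeal_eq
  have hm : maximalIdeal (EGA4.Cpl R) = Ideal.span {algebraMap R (EGA4.Cpl R) π} := by
    rw [← Groth.Agent.Lib.Helper18.FormEq.map_maximalIdeal_cpl R]
    have : Ideal.map (algebraMap R (EGA4.Cpl R)) (maximalIdeal R) =
        Ideal.map (algebraMap R (EGA4.Cpl R)) (Ideal.span {π}) := congrArg _ hmax
    rw [this, Ideal.map_span, Set.image_singleton]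
  have hπQ : algebraMap R (EGA4.Cpl R) π ∉ Q := by
    intro h
    have : π ∈ Q.under R := h
    rw [← hQ.over, Ideal.mem_bot] at this
    exact hπ.ne_zero this
  apply Submodule.eq_bot_of_le_smul_of_le_jacobson_bot (maximalIdeal (EGA4.Cpl R)) Q
    (IsNoetherian.noetherian Q)
  · intro x hx
    have hxm : x ∈ maximalIdeal (EGA4.Cpl R) := le_maximalIdeal (Ideal.IsPrime.ne_top inferInstance) hx
    rw [hm, Ideal.mem_span_singleton] at hxm
    obtain ⟨y, rfl⟩ := hxm
    have hy : y ∈ Q := (Ideal.IsPrime.mem_or_mem inferInstance hx).resolve_left hπQ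
    rw [← smul_eq_mul]
    refine Submodule.smul_mem_smul ?_ hy
    rw [hm]
    exact Ideal.subset_span rfl
  · rw [IsLocalRing.jacobson_eq_maximalIdeal ⊥ bot_ne_top]

theorem subsingleton_primeSpectrum_fiber :
    Subsingleton (PrimeSpectrum ((⊥ : Ideal R).Fiber (EGA4.Cpl R))) := by
  haveI : Subsingleton ((⊥ : Ideal R).primesOver (EGA4.Cpl R)) := by
    refine ⟨fun a b => ?_⟩
    apply Subtype.ext
    haveI := a.2.1
    haveI := a.2.2
    haveI := b.2.1
    haveI := b.2.2
    rw [eq_bot_of_liesOver R a.1, eq_bot_of_liesOver R b.1]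
  exact (PrimeSpectrum.primesOverOrderIsoFiber R (EGA4.Cpl R) ⊥).symm.toEquiv.subsingleton

theorem isArtinianRing_fiber : IsArtinianRing ((⊥ : Ideal R).Fiber (EGA4.Cpl R)) := by
  haveI : IsNoetherianRing (EGA4.Cpl R) := inferInstance
  haveI : IsNoetherianRing ((⊥ : Ideal R).Fiber (EGA4.Cpl R)) := inferInstance
  haveI := subsingleton_primeSpectrum_fiber R
  rw [isArtinianRing_iff_isNoetherianRing_krullDimLE_zero]
  refine ⟨inferInstance, Ring.KrullDimLE.mk₀ fun I hI => ?_⟩
  obtain ⟨M, hM, hIM⟩ := Ideal.exists_le_maximal I hI.ne_top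
  have : (⟨I, hI⟩ : PrimeSpectrum _) = ⟨M, hM.isPrime⟩ := Subsingleton.elim _ _
  have h2 : I = M := congrArg PrimeSpectrum.asIdeal this
  rw [h2]
  exact hM

theorem geomRegular_of_geomReduced
    (hred : Algebra.IsGeometricallyReduced (⊥ : Ideal R).ResidueField
      (EGA4.formalFibre R (⊥ : Ideal R))) :
    CAlg.IsGeometricallyRegular (⊥ : Ideal R).ResidueField (EGA4.formalFibre R (⊥ : Ideal R)) := by
  intro k' _ _ hfin
  haveI := isArtinianRing_fiber R
  haveI : Algebra.IsAlgebraic (⊥ : Ideal R).ResidueField k' := Algebra.IsAlgebraic.of_finite _ _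
  haveI : IsReduced (k' ⊗[(⊥ : Ideal R).ResidueField] (EGA4.formalFibre R (⊥ : Ideal R))) :=
    inferInstance
  haveI : IsArtinianRing ((EGA4.formalFibre R (⊥ : Ideal R)) ⊗[(⊥ : Ideal R).ResidueField] k') :=
    IsArtinianRing.of_finite (EGA4.formalFibre R (⊥ : Ideal R))
      ((EGA4.formalFibre R (⊥ : Ideal R)) ⊗[(⊥ : Ideal R).ResidueField] k')
  haveI : IsArtinianRing (k' ⊗[(⊥ : Ideal R).ResidueField] (EGA4.formalFibre R (⊥ : Ideal R))) :=
    (Algebra.TensorProduct.comm (⊥ : Ideal R).ResidueField
      (EGA4.formalFibre R (⊥ : Ideal R)) k').toRingEquiv.isArtinianRing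
  exact isRegularRing_of_artinian_reduced _

/-- the completion map of the DVR is regular iff the generic formal fibre is geometrically
reduced. -/
theorem isRegularHom_cpl
    (hred : Algebra.IsGeometricallyReduced (⊥ : Ideal R).ResidueField
      (EGA4.formalFibre R (⊥ : Ideal R))) : CAlg.IsRegularHom R (EGA4.Cpl R) := by
  haveI : IsNoetherianRing (EGA4.Cpl R) := inferInstance
  refine ⟨inferInstance, fun q hqp => ⟨inferInstance, ?_⟩⟩
  by_cases hq : q = ⊥
  · subst hq
    exact geomRegular_of_geomReduced R hred
  · have hmax : q.IsMaximal := Ring.DimensionLEOne.maximalOfPrime hq hqp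
    have := IsLocalRing.eq_maximalIdeal hmax
    subst this
    exact Groth.Agent.Lib.Helper18.Exc.geomRegular_formalFibre_maximalIdeal R

/-- `R ≃ R_m` -/
noncomputable def eLocMax : R ≃+* Localization.AtPrime (maximalIdeal R) :=
  (IsLocalization.atUnits R (maximalIdeal R).primeCompl (fun x hx => by
    by_contra h
    exact hx ((IsLocalRing.mem_maximalIdeal x).mpr h))).toRingEquiv

theorem main :
    EGA4.IsExcellent R ↔
      Algebra.IsGeometricallyReduced (⊥ : Ideal R).ResidueField
        (EGA4.formalFibre R (⊥ : Ideal R)) := by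
  haveI : IsNoetherianRing (Localization.AtPrime (maximalIdeal R)) :=
    IsLocalization.isNoetherianRing (maximalIdeal R).primeCompl _ inferInstance
  constructor
  · rintro ⟨_, _, hG, _⟩
    have h1 := hG.2 (maximalIdeal R)
    have h2 : CAlg.IsRegularHom R (EGA4.Cpl R) :=
      Groth.Agent.Lib.Helper18.Exc.isRegularHom_cpl_of_ringEquiv (eLocMax R).symm h1
    exact Groth.Agent.Lib.Helper18.PMor.isGeometricallyReduced_of_isGeometricallyRegular
      (h2.2 ⊥).2
  · intro hred
    have hreg := isRegularHom_cpl R hred
    haveI : LocCoh.IsCohenMacaulayRing R :=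
      Groth.Agent.Lib.Helper18.PMor.isCohenMacaulayRing_of_isRegularRing inferInstance
    refine ⟨inferInstance,
      Groth.Agent.Lib.Helper18.UCat.isUniversallyCatenary_of_isCohenMacaulayRing R,
      ⟨inferInstance, fun p hp => ?_⟩, ?_⟩
    · by_cases hpb : p = ⊥
      · subst hpb
        haveI : IsNoetherianRing (Localization.AtPrime (⊥ : Ideal R)) :=
          IsLocalization.isNoetherianRing (⊥ : Ideal R).primeCompl _ inferInstance
        have hF : IsField (Localization.AtPrime (⊥ : Ideal R)) := by
          have : (⊥ : Ideal R).primeCompl = nonZeroDivisors R := by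
            ext x
            simp [Ideal.primeCompl, mem_nonZeroDivisors_iff_ne_zero]
          haveI : IsFractionRing R (Localization.AtPrime (⊥ : Ideal R)) := by
            change IsLocalization (nonZeroDivisors R) _
            rw [← this]
            infer_instance
          exact (IsFractionRing.toField R (K := Localization.AtPrime (⊥ : Ideal R))).toIsField
        haveI := Groth.Agent.Lib.Helper18.Exc.isAdicComplete_of_isField _ hF
        exact Groth.Agent.Lib.Helper18.Exc.isRegularHom_cpl_of_isAdicComplete _
      · have hmax : p.IsMaximal := Ring.DimensionLEOne.maximalOfPrime hpb hp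
        have := IsLocalRing.eq_maximalIdeal hmax
        subst this
        exact Groth.Agent.Lib.Helper18.Exc.isRegularHom_cpl_of_ringEquiv (eLocMax R) hreg
    · apply Groth.Agent.Lib.Helper18.J2.isJ2_semilocal R
      · have : {I : Ideal R | I.IsMaximal} = {maximalIdeal R} := by
          ext I
          simp only [Set.mem_ofPred_eq, Set.mem_singleton_iff]
          exact ⟨fun h => IsLocalRing.eq_maximalIdeal h, fun h => h ▸ inferInstance⟩
        rw [this]
        exact Set.finite_singleton _
      · rw [IsDiscreteValuationRing.ringKrullDim_eq_one R]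

end dvr


/-- Let R be a discrete valuation ring with fraction field K, R̂ its completion and K̂ = Frac R̂. Then R
is excellent (Noetherian, universally catenary, G-ring and J-2) if and only if K̂ is geometrically
reduced over K, i.e. K ⊆ K̂ is separable; here K̂ is written as the generic formal fibre κ(0) ⊗_R R̂
of R, which is R̂ with the uniformizer inverted. -/
theorem result
    (R : Type u) [CommRing R] [IsDomain R] [IsDiscreteValuationRing R] :
    EGA4.IsExcellent R ↔
      Algebra.IsGeometricallyReduced (⊥ : Ideal R).ResidueField (EGA4.formalFibre R (⊥ : Ideal R)) := by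
  exact main R

end Groth.Agent.S17703
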