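import Groth.Statements.S1771
import Groth.Agent.Lib.Helper16.H1Fin2
import Groth.Agent.Lib.Helper16.S2ify3
import Groth.Agent.Lib.Helper16.RelCodim

set_option autoImplicit false
universe u
open LocCoh

namespace Groth.Agent.S1771

section helpers
open LocCoh

theorem result_aux (A : Type u) [CommRing A] [IsNoetherianRing A] (hN : CAlg.IsNagata A) (hU : CAlg.IsUniversallyCatenary A) (I : Ideal A) (M : Type u) [AddCommGroup M] [Module A M] [Module.Finite A M] (h : ∀ (p q : PrimeSpectrum A) (hpq : p ≤ q), p.asIdeal ∈ associatedPrimes A M → ¬ I ≤ p.asIdeal → I ≤ q.asIdeal → (2 : ℕ∞) ≤ Order.height (⟨q, hpq⟩ : Set.Ici p)) : Module.Finite A (LocCoh.H I 1 M) := by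
  apply Groth.Agent.Lib.Helper16.H1Fin.finite_H1_of_T
  refine Groth.Agent.Lib.Helper16.H1Fin.T_of_forall_ass I _ M le_rfl ?_
  intro p hp
  haveI hpp : p.IsPrime := IsAssociatedPrime.isPrime hp
  by_cases hIp : I ≤ p
  · refine Groth.Agent.Lib.Helper16.H1Fin.T_of_torsion I (A ⧸ p) (fun m => ⟨1, fun a ha => ?_⟩)
    obtain ⟨x, rfl⟩ := Ideal.Quotient.mk_surjective m
    rw [pow_one] at ha
    change Ideal.Quotient.mk p a * Ideal.Quotient.mk p x = 0
    rw [← map_mul, Ideal.Quotient.eq_zero_iff_mem]
    exact p.mul_mem_right _ (hIp ha)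
  · apply Groth.Agent.Lib.Helper16.H1Fin.T_quotient_of_finite_secAlg I p hIp
    haveI : IsDomain (A ⧸ p) := Ideal.Quotient.isDomain p
    have hUCB : CAlg.IsUniversallyCatenary (A ⧸ p) := by
      refine ⟨inferInstance, fun S _ _ hS => ?_⟩
      letI : Algebra A S := ((algebraMap (A ⧸ p) S).comp (algebraMap A (A ⧸ p))).toAlgebra
      haveI : IsScalarTower A (A ⧸ p) S := IsScalarTower.of_algebraMap_eq (fun _ => rfl)
      have hft : Algebra.FiniteType A (A ⧸ p) := inferInstance
      exact hU.2 S (Algebra.FiniteType.trans hft hS)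
    have hN2 : CAlg.IsN2 (A ⧸ p) := hN.2 p
    have hfin : Module.Finite (A ⧸ p) (integralClosure (A ⧸ p) (FractionRing (A ⧸ p))) :=
      hN2 (FractionRing (A ⧸ p)) inferInstance
    have hJ2 : (2 : ℕ∞) ≤ (I.map (Ideal.Quotient.mk p)).height := by
      rw [Ideal.height_eq_inf_minimalPrimes]
      refine le_iInf₂ fun Q hQ => ?_
      haveI hQp : Q.IsPrime := hQ.1.1
      have hIq : I ≤ Q.comap (Ideal.Quotient.mk p) := Ideal.map_le_iff_le_comap.mp hQ.1.2
      have hpq : p ≤ Q.comap (Ideal.Quotient.mk p) := by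
        intro x hx
        rw [Ideal.mem_comap, Ideal.Quotient.eq_zero_iff_mem.mpr hx]
        exact Q.zero_mem
      have h2 := h ⟨p, hpp⟩ ⟨Q.comap (Ideal.Quotient.mk p), Ideal.comap_isPrime _ Q⟩ hpq hp hIp hIq
      have h3 := Groth.Agent.Lib.Helper16.RC.height_Ici_eq (⟨p, hpp⟩ : PrimeSpectrum A)
        ⟨Q.comap (Ideal.Quotient.mk p), Ideal.comap_isPrime _ Q⟩ hpq
      rw [h3] at h2
      change (2 : ℕ∞) ≤ ((Q.comap (Ideal.Quotient.mk p)).map (Ideal.Quotient.mk p)).height at h2
      rwa [Ideal.map_comap_of_surjective _ Ideal.Quotient.mk_surjective] at h2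
    exact Groth.Agent.Lib.Helper16.S2ify.finite_secAlg_of_univCat (A ⧸ p) (FractionRing (A ⧸ p)) _
      hUCB hfin hJ2

end helpers

/-- Let A be a Noetherian ring which is Nagata and universally catenary, I an ideal of A and M a finite
A-module. Suppose that for every associated prime p of M not containing I and every prime q
containing both p and I, the longest chain of primes from p to q has length at least 2. Then the
local cohomology module H^1_I(M) is a finite A-module. The published statement asserts that the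
pushforward of a coherent sheaf from the open complement of V(I) is coherent; this is its affine
form, stated as finiteness of H^1_I(M). -/
theorem result (A : Type u) [CommRing A] [IsNoetherianRing A] (hN : CAlg.IsNagata A) (hU : CAlg.IsUniversallyCatenary A) (I : Ideal A) (M : Type u) [AddCommGroup M] [Module A M] [Module.Finite A M] (h : ∀ (p q : PrimeSpectrum A) (hpq : p ≤ q), p.asIdeal ∈ associatedPrimes A M → ¬ I ≤ p.asIdeal → I ≤ q.asIdeal → (2 : ℕ∞) ≤ Order.height (⟨q, hpq⟩ : Set.Ici p)) : Module.Finite A (LocCoh.H I 1 M) := by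
  exact result_aux A hN hU I M h

end Groth.Agent.S1771
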