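import Groth.Statements.S17713
import Groth.Agent.Lib.Helper22.Todd
import Mathlib.Algebra.Polynomial.Degree.Lemmas
import Mathlib.Algebra.Polynomial.Eval.Degree

set_option autoImplicit false
open MoretBailly

namespace Groth.Agent.S17713

/-- Let n ≥ 2 and d ≥ 1 be natural numbers and s an integer, and write B(x) = x/(1 - e^(-x)) for the
exponential generating series of the Bernoulli numbers B'_i (convention B'_1 = 1/2). For a natural
number p consider the product B(-dx)^(-1) B(-dpx) B(x)^(n+1) e^((dp-d-n-1+s)x) in ℚ[[x]] (the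
Todd-class integrand of a Hirzebruch–Riemann–Roch computation) and let λ_n(p) be its coefficient of
x^n. Then λ_n(p) is a polynomial in p whose two top terms are B'_n (dp)^n/n! and ((2s-d-n-1)/2)
B'_(n-1) (dp)^(n-1)/(n-1)!: there is a polynomial P over ℚ of degree at most n - 2 with λ_n(p) equal
to the sum of these two terms and P(p), for every p. -/
theorem result (n d : ℕ) (s : ℤ) (hn : 2 ≤ n) (hd : 1 ≤ d) :
    ∃ P : Polynomial ℚ, P.natDegree ≤ n - 2 ∧ ∀ p : ℕ,
      PowerSeries.coeff n ((PowerSeries.rescale (-(d : ℚ)) (bernoulli'PowerSeries ℚ))⁻¹ * PowerSeries.rescale (-((d : ℚ) * p)) (bernoulli'PowerSeries ℚ) * bernoulli'PowerSeries ℚ ^ (n + 1) * PowerSeries.rescale ((d : ℚ) * p - d - n - 1 + s) (PowerSeries.exp ℚ)) =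
        bernoulli' n * ((d : ℚ) * p) ^ n / (Nat.factorial n : ℚ) +
          (2 * (s : ℚ) - d - n - 1) / 2 * bernoulli' (n - 1) * ((d : ℚ) * p) ^ (n - 1) / (Nat.factorial (n - 1) : ℚ) +
          P.eval (p : ℚ) := by
  classical
  obtain ⟨m, rfl⟩ := Nat.exists_eq_add_of_le hn
  have hm : 2 + m - 2 = m := by omega
  set G := Groth.Agent.Lib.Helper22.toddG (2 + m) d s with hG
  refine ⟨∑ k ∈ Finset.range (m + 1), Polynomial.C (PowerSeries.coeff (k + 2) G * (d : ℚ) ^ (m - k) *
      (bernoulli' (m - k) / (Nat.factorial (m - k) : ℚ))) * Polynomial.X ^ (m - k), ?_, ?_⟩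
  · rw [hm]
    refine Polynomial.natDegree_sum_le_of_forall_le _ _ ?_
    intro k _
    exact le_trans (Polynomial.natDegree_C_mul_X_pow_le _ _) (Nat.sub_le m k)
  · intro p
    rw [Groth.Agent.Lib.Helper22.todd_coeff (2 + m) d s p]
    have e1 : 2 + m + 1 = (m + 1) + 1 + 1 := by omega
    rw [e1, Finset.sum_range_succ', Finset.sum_range_succ']
    have h0 : PowerSeries.coeff 0 G = 1 := Groth.Agent.Lib.Helper22.toddG_coeff_zero _ _ _
    have h1 : PowerSeries.coeff 1 G = (2 * (s : ℚ) - d - ((2 + m : ℕ) : ℚ) - 1) / 2 :=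
      Groth.Agent.Lib.Helper22.toddG_coeff_one _ _ _
    have e2 : 2 + m - 0 = 2 + m := by omega
    have e3 : 2 + m - (0 + 1) = 2 + m - 1 := by omega
    rw [e2, e3, h0, h1, Polynomial.eval_finsetSum]
    have hsum : ∑ k ∈ Finset.range (m + 1), PowerSeries.coeff (k + 1 + 1) G *
        (((d : ℚ) * p) ^ (2 + m - (k + 1 + 1)) *
          (bernoulli' (2 + m - (k + 1 + 1)) / (Nat.factorial (2 + m - (k + 1 + 1)) : ℚ))) =
        ∑ k ∈ Finset.range (m + 1), Polynomial.eval (p : ℚ) (Polynomial.C (PowerSeries.coeff (k + 2) G *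
          (d : ℚ) ^ (m - k) * (bernoulli' (m - k) / (Nat.factorial (m - k) : ℚ))) *
            Polynomial.X ^ (m - k)) := by
      refine Finset.sum_congr rfl ?_
      intro k hk
      have hk' : k ≤ m := Nat.lt_succ_iff.mp (Finset.mem_range.mp hk)
      have e4 : 2 + m - (k + 1 + 1) = m - k := by omega
      rw [e4, Polynomial.eval_mul, Polynomial.eval_C, Polynomial.eval_pow, Polynomial.eval_X, mul_pow]
      ring
    rw [hsum]
    ring

end Groth.Agent.S17713
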