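import Groth.Statements.S17714
import Groth.Agent.S17713
import Groth.Agent.Lib.Helper22.ToddSign

set_option autoImplicit false
open MoretBailly

namespace Groth.Agent.S17714

/-- Let n ≥ 2 and d ≥ 1 be natural numbers with n congruent to 0 or 1 modulo 4, and s an integer with 2s
> n + d + 1. Write B(x) = x/(1 - e^(-x)) for the exponential generating series of the Bernoulli
numbers (B'_1 = 1/2). Then for all sufficiently large natural numbers p the coefficient of x^n in
B(-dx)^(-1) B(-dpx) B(x)^(n+1) e^((dp-d-n-1+s)x) is strictly negative. (The published statement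
asserts this for every n ≥ 2 not congruent to 2 modulo 4. For n congruent to 3 modulo 4 the
coefficient is a polynomial in p of degree n - 1 with leading coefficient (2s-d-n-1) B'_(n-1)
d^(n-1)/(2 (n-1)!) > 0, so it is eventually positive: for n = 3, d = 1, s = 3 it equals (p^2 -
1)/24. The residues 0 and 1 are exactly the ones the leading-term argument gives.) -/
theorem result (n d : ℕ) (s : ℤ) (hn : 2 ≤ n)
    (hmod : n % 4 = 0 ∨ n % 4 = 1) (hd : 1 ≤ d) (hs : (n : ℤ) + d + 1 < 2 * s) :
    ∃ P : ℕ, ∀ p : ℕ, P ≤ p →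
      PowerSeries.coeff n ((PowerSeries.rescale (-(d : ℚ)) (bernoulli'PowerSeries ℚ))⁻¹ * PowerSeries.rescale (-((d : ℚ) * p)) (bernoulli'PowerSeries ℚ) * bernoulli'PowerSeries ℚ ^ (n + 1) * PowerSeries.rescale ((d : ℚ) * p - d - n - 1 + s) (PowerSeries.exp ℚ)) < 0 := by
  obtain ⟨P, hP, hF⟩ := Groth.Agent.S17713.result n d s hn hd
  refine Groth.Agent.Lib.Helper22.eventually_neg_of_leading n d hn hd (bernoulli' n)
    ((2 * (s : ℚ) - d - n - 1) / 2 * bernoulli' (n - 1)) _ P hP hF ?_
  have hc1 : (0 : ℚ) < (2 * (s : ℚ) - d - n - 1) / 2 := by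
    have : ((n : ℤ) : ℚ) + ((d : ℤ) : ℚ) + 1 < 2 * (s : ℚ) := by exact_mod_cast hs
    push_cast at this
    linarith
  rcases hmod with h0 | h1
  · left
    obtain ⟨j, rfl⟩ : ∃ j, n = 4 * j := ⟨n / 4, by omega⟩
    exact Groth.Agent.Lib.Helper22.bernoulli'_four_mul_neg (by omega)
  · right
    obtain ⟨j, rfl⟩ : ∃ j, n = 4 * j + 1 := ⟨n / 4, by omega⟩
    refine ⟨bernoulli'_eq_zero_of_odd ⟨2 * j, by ring⟩ (by omega), ?_⟩
    have e : 4 * j + 1 - 1 = 4 * j := by omega
    rw [e]
    have := Groth.Agent.Lib.Helper22.bernoulli'_four_mul_neg (j := j) (by omega)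
    exact mul_neg_of_pos_of_neg hc1 this

end Groth.Agent.S17714
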