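import Groth.Statements.S17715
import Groth.Agent.Lib.Helper22.SeriesLow

set_option autoImplicit false
open MoretBailly

namespace Groth.Agent.S17715

/-- Write B(x) = x/(1 - e^(-x)) for the exponential generating series of the Bernoulli numbers (B'_1 =
1/2). For all natural numbers d and p the coefficient of x^3 in B(-dx)^(-1) B(-dpx) B(x)^4
e^((dp-d-3)x), i.e. the case n = 3, s = 1 of the Todd-class integrand, equals
-d(d+2)(p-1)(dp-d-2)/24 = -(d^3+2d^2) p^2/24 + (d^3+3d^2+2d) p/12 - (d^3+4d^2+4d)/24. (The published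
closed form has the same p^2 and p coefficients but constant term -(d^3+2d^2+2d)/24; direct
expansion gives the value stated here, which vanishes at p = 1.) -/
theorem result (d p : ℕ) :
    PowerSeries.coeff 3 ((PowerSeries.rescale (-(d : ℚ)) (bernoulli'PowerSeries ℚ))⁻¹ * PowerSeries.rescale (-((d : ℚ) * p)) (bernoulli'PowerSeries ℚ) * bernoulli'PowerSeries ℚ ^ (4) * PowerSeries.rescale ((d : ℚ) * p - d - 3) (PowerSeries.exp ℚ)) =
      -((d : ℚ) * (d + 2) * (p - 1) * (d * p - d - 2)) / 24 := by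
  obtain ⟨b0, b1, b2, b3⟩ := Groth.Agent.Lib.Helper22.bernoulli'PowerSeries_coeffs
  have φ0 : PowerSeries.coeff 0 (PowerSeries.rescale (-(d : ℚ)) (bernoulli'PowerSeries ℚ)) = 1 := by
    rw [PowerSeries.coeff_rescale, b0]; simp
  have φ1 : PowerSeries.coeff 1 (PowerSeries.rescale (-(d : ℚ)) (bernoulli'PowerSeries ℚ)) =
      -(d : ℚ) / 2 := by
    rw [PowerSeries.coeff_rescale, b1]; ring
  have φ2 : PowerSeries.coeff 2 (PowerSeries.rescale (-(d : ℚ)) (bernoulli'PowerSeries ℚ)) =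
      (d : ℚ) ^ 2 / 12 := by
    rw [PowerSeries.coeff_rescale, b2]; ring
  have φ3 : PowerSeries.coeff 3 (PowerSeries.rescale (-(d : ℚ)) (bernoulli'PowerSeries ℚ)) = 0 := by
    rw [PowerSeries.coeff_rescale, b3]; ring
  obtain ⟨i0, i1, i2, i3⟩ := Groth.Agent.Lib.Helper22.inv_coeffs _ φ0
  rw [φ1] at i1
  rw [φ1, φ2] at i2
  rw [φ1, φ2, φ3] at i3
  have ψ0 : PowerSeries.coeff 0 (PowerSeries.rescale (-((d : ℚ) * p)) (bernoulli'PowerSeries ℚ)) = 1 := by
    rw [PowerSeries.coeff_rescale, b0]; simp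
  have ψ1 : PowerSeries.coeff 1 (PowerSeries.rescale (-((d : ℚ) * p)) (bernoulli'PowerSeries ℚ)) =
      -((d : ℚ) * p) / 2 := by
    rw [PowerSeries.coeff_rescale, b1]; ring
  have ψ2 : PowerSeries.coeff 2 (PowerSeries.rescale (-((d : ℚ) * p)) (bernoulli'PowerSeries ℚ)) =
      ((d : ℚ) * p) ^ 2 / 12 := by
    rw [PowerSeries.coeff_rescale, b2]; ring
  have ψ3 : PowerSeries.coeff 3 (PowerSeries.rescale (-((d : ℚ) * p)) (bernoulli'PowerSeries ℚ)) = 0 := by
    rw [PowerSeries.coeff_rescale, b3]; ring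
  have e0 : PowerSeries.coeff 0 (PowerSeries.rescale ((d : ℚ) * p - d - 3) (PowerSeries.exp ℚ)) = 1 := by
    rw [PowerSeries.coeff_rescale, PowerSeries.coeff_exp]; simp
  have e1 : PowerSeries.coeff 1 (PowerSeries.rescale ((d : ℚ) * p - d - 3) (PowerSeries.exp ℚ)) =
      (d : ℚ) * p - d - 3 := by
    rw [PowerSeries.coeff_rescale, PowerSeries.coeff_exp]; simp
  have e2 : PowerSeries.coeff 2 (PowerSeries.rescale ((d : ℚ) * p - d - 3) (PowerSeries.exp ℚ)) =
      ((d : ℚ) * p - d - 3) ^ 2 / 2 := by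
    rw [PowerSeries.coeff_rescale, PowerSeries.coeff_exp]; simp [Nat.factorial]; ring
  have e3 : PowerSeries.coeff 3 (PowerSeries.rescale ((d : ℚ) * p - d - 3) (PowerSeries.exp ℚ)) =
      ((d : ℚ) * p - d - 3) ^ 3 / 6 := by
    rw [PowerSeries.coeff_rescale, PowerSeries.coeff_exp]; simp [Nat.factorial]; ring
  have hpow : bernoulli'PowerSeries ℚ ^ 4 =
      (bernoulli'PowerSeries ℚ * bernoulli'PowerSeries ℚ) *
        (bernoulli'PowerSeries ℚ * bernoulli'PowerSeries ℚ) := by ring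
  rw [hpow]
  simp only [Groth.Agent.Lib.Helper22.coeff_three_mul', Groth.Agent.Lib.Helper22.coeff_two_mul',
    Groth.Agent.Lib.Helper22.coeff_one_mul', Groth.Agent.Lib.Helper22.coeff_zero_mul',
    i0, i1, i2, i3, ψ0, ψ1, ψ2, ψ3, e0, e1, e2, e3, b0, b1, b2, b3]
  ring

end Groth.Agent.S17715
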