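import Groth.Statements.S17717
import Groth.Agent.Lib.Helper22.SeriesLow

set_option autoImplicit false
open MoretBailly

namespace Groth.Agent.S17717

/-- Write B(x) = x/(1 - e^(-x)) for the exponential generating series of the Bernoulli numbers (B'_1 =
1/2). For all natural numbers d, p and every integer s the coefficient of x in B(-dx)^(-1) B(-dpx)
B(x)^2 e^((dp-d-2+s)x), i.e. the case n = 1 of the Todd-class integrand, equals d(p-1)/2 + s - 1. -/
theorem result (d p : ℕ) (s : ℤ) :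
    PowerSeries.coeff 1 ((PowerSeries.rescale (-(d : ℚ)) (bernoulli'PowerSeries ℚ))⁻¹ * PowerSeries.rescale (-((d : ℚ) * p)) (bernoulli'PowerSeries ℚ) * bernoulli'PowerSeries ℚ ^ (2) * PowerSeries.rescale ((d : ℚ) * p - d - 2 + s) (PowerSeries.exp ℚ)) =
      (d : ℚ) * (p - 1) / 2 + s - 1 := by
  obtain ⟨b0, b1, b2, b3⟩ := Groth.Agent.Lib.Helper22.bernoulli'PowerSeries_coeffs
  have φ0 : PowerSeries.coeff 0 (PowerSeries.rescale (-(d : ℚ)) (bernoulli'PowerSeries ℚ)) = 1 := by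
    rw [PowerSeries.coeff_rescale, b0]; simp
  have φ1 : PowerSeries.coeff 1 (PowerSeries.rescale (-(d : ℚ)) (bernoulli'PowerSeries ℚ)) =
      -(d : ℚ) / 2 := by
    rw [PowerSeries.coeff_rescale, b1]; ring
  obtain ⟨i0, i1, -, -⟩ := Groth.Agent.Lib.Helper22.inv_coeffs _ φ0
  rw [φ1] at i1
  have ψ0 : PowerSeries.coeff 0 (PowerSeries.rescale (-((d : ℚ) * p)) (bernoulli'PowerSeries ℚ)) = 1 := by
    rw [PowerSeries.coeff_rescale, b0]; simp
  have ψ1 : PowerSeries.coeff 1 (PowerSeries.rescale (-((d : ℚ) * p)) (bernoulli'PowerSeries ℚ)) =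
      -((d : ℚ) * p) / 2 := by
    rw [PowerSeries.coeff_rescale, b1]; ring
  have e0 : PowerSeries.coeff 0 (PowerSeries.rescale ((d : ℚ) * p - d - 2 + s) (PowerSeries.exp ℚ)) = 1 := by
    rw [PowerSeries.coeff_rescale, PowerSeries.coeff_exp]; simp
  have e1 : PowerSeries.coeff 1 (PowerSeries.rescale ((d : ℚ) * p - d - 2 + s) (PowerSeries.exp ℚ)) =
      (d : ℚ) * p - d - 2 + s := by
    rw [PowerSeries.coeff_rescale, PowerSeries.coeff_exp]; simp
  have hpow : bernoulli'PowerSeries ℚ ^ 2 = bernoulli'PowerSeries ℚ * bernoulli'PowerSeries ℚ := by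
    ring
  rw [hpow]
  simp only [Groth.Agent.Lib.Helper22.coeff_one_mul', Groth.Agent.Lib.Helper22.coeff_zero_mul',
    i0, i1, ψ0, ψ1, e0, e1, b0, b1]
  ring

end Groth.Agent.S17717
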