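import Groth.Statements.S17721
import Mathlib.RingTheory.DiscreteValuationRing.Basic
import Mathlib.RingTheory.PowerSeries.Basic
import Mathlib.RingTheory.PowerSeries.Inverse
import Mathlib.RingTheory.LocalRing.ResidueField.Basic

set_option autoImplicit false
universe u
open CAlg

namespace Groth.Agent.S17721

/-- Extraction of the content of a nonzero power series over a DVR. -/
theorem exists_content {R : Type u} [CommRing R] [IsDomain R] [IsDiscreteValuationRing R]
    {ϖ : R} (hϖ : Irreducible ϖ) (h : PowerSeries R) (n₀ : ℕ) (hn₀ : PowerSeries.coeff n₀ h ≠ 0) :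
    ∃ (e : ℕ) (h₁ : PowerSeries R), h = PowerSeries.C (ϖ ^ e) * h₁ ∧
      ∃ n, ¬ ϖ ∣ PowerSeries.coeff n h₁ := by
  classical
  obtain ⟨m, u, hu⟩ := IsDiscreteValuationRing.eq_unit_mul_pow_irreducible hn₀ hϖ
  have hbound : ∀ e : ℕ, (∀ n, ϖ ^ e ∣ PowerSeries.coeff n h) → e ≤ m := by
    intro e he
    by_contra hcon
    have hlt : m + 1 ≤ e := by omega
    have h1 : ϖ ^ (m + 1) ∣ (u : R) * ϖ ^ m := hu ▸ (pow_dvd_pow ϖ hlt).trans (he n₀)
    rw [pow_succ, mul_comm (u : R)] at h1
    have h2 : ϖ ∣ (u : R) := (mul_dvd_mul_iff_left (pow_ne_zero m hϖ.ne_zero)).mp h1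
    exact hϖ.not_isUnit (isUnit_of_dvd_unit h2 u.isUnit)
  let P : ℕ → Prop := fun e => ∀ n, ϖ ^ e ∣ PowerSeries.coeff n h
  have hP0 : P 0 := fun n => by simp
  set e := Nat.findGreatest P m with he
  have hPe : P e := Nat.findGreatest_spec (P := P) (Nat.zero_le m) hP0
  have hPe1 : ¬ P (e + 1) := by
    intro hP
    have h1 : e + 1 ≤ m := hbound _ hP
    have h2 : e + 1 ≤ e := Nat.le_findGreatest h1 hP
    omega
  choose q hq using hPe
  refine ⟨e, PowerSeries.mk q, ?_, ?_⟩
  · ext n
    rw [PowerSeries.coeff_C_mul, PowerSeries.coeff_mk, ← hq n]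
  · change ¬ ∀ n, ϖ ^ (e + 1) ∣ PowerSeries.coeff n h at hPe1
    push Not at hPe1
    obtain ⟨n, hn⟩ := hPe1
    refine ⟨n, ?_⟩
    rw [PowerSeries.coeff_mk]
    rintro ⟨r, hr⟩
    apply hn
    rw [hq n, hr, pow_succ]
    exact ⟨r, by ring⟩

open Polynomial IsLocalRing in
/-- Let R be a complete discrete valuation ring with fraction field K, and f a polynomial over R with
non-zero constant term a₀ such that a₀ does not divide some coefficient of f of positive degree
(equivalently, the Newton polygon of f has a side of negative slope). Let b be the power series over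
K with b · f = a₀, the expansion of the geometric series in 1 − f/a₀. Then the valuations of the
coefficients b_j are not bounded below: for every non-zero c in R there is an index j with c · b_j
outside R. -/
theorem result
    (R : Type u) [CommRing R] [IsDomain R] [IsDiscreteValuationRing R]
    [IsAdicComplete (maximalIdeal R) R]
    (K : Type u) [Field K] [Algebra R K] [IsFractionRing R K]
    (f : R[X]) (h0 : f.coeff 0 ≠ 0) (hslope : ∃ i : ℕ, 0 < i ∧ ¬ (f.coeff 0 ∣ f.coeff i))
    (b : PowerSeries K)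
    (hb : b * ((f.map (algebraMap R K) : K[X]) : PowerSeries K) = PowerSeries.C (algebraMap R K (f.coeff 0))) :
    ∀ c : R, c ≠ 0 → ∃ j : ℕ, algebraMap R K c * PowerSeries.coeff j b ∉ (algebraMap R K).range := by
  classical
  intro c hc
  by_contra hcon
  push Not at hcon
  have hinj : Function.Injective (algebraMap R K) := IsFractionRing.injective R K
  choose gc hgc using hcon
  let g : PowerSeries R := PowerSeries.mk gc
  let fP : PowerSeries R := (f : PowerSeries R)
  -- `g * f = c * a₀`
  have hgf : g * fP = PowerSeries.C (c * f.coeff 0) := by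
    ext n
    apply hinj
    have h1 : algebraMap R K (PowerSeries.coeff n (g * fP)) =
        algebraMap R K c * PowerSeries.coeff n
          (b * ((f.map (algebraMap R K) : K[X]) : PowerSeries K)) := by
      rw [PowerSeries.coeff_mul, PowerSeries.coeff_mul, map_sum, Finset.mul_sum]
      refine Finset.sum_congr rfl ?_
      intro ij _
      rw [map_mul, PowerSeries.coeff_mk, hgc, Polynomial.coeff_coe, Polynomial.coeff_coe,
        Polynomial.coeff_map]
      ring
    rw [h1, hb, PowerSeries.coeff_C, PowerSeries.coeff_C]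
    split_ifs
    · rw [map_mul]
    · rw [mul_zero, map_zero]
  obtain ⟨ϖ, hϖ⟩ := IsDiscreteValuationRing.exists_irreducible R
  have hf0 : PowerSeries.coeff 0 fP = f.coeff 0 := Polynomial.coeff_coe f 0
  have hg0 : PowerSeries.coeff 0 g ≠ 0 := by
    intro h
    have := congrArg (PowerSeries.coeff 0) hgf
    rw [PowerSeries.coeff_mul] at this
    simp only [Finset.Nat.antidiagonal_zero, Finset.sum_singleton, PowerSeries.coeff_C,
      if_true] at this
    rw [h, zero_mul] at this
    exact mul_ne_zero hc h0 this.symm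
  obtain ⟨e, f₁, hf₁, nf, hnf⟩ := exists_content hϖ fP 0 (by rw [hf0]; exact h0)
  obtain ⟨t, g₁, hg₁, ng, hng⟩ := exists_content hϖ g 0 hg0
  have hprod : PowerSeries.C (ϖ ^ (t + e)) * (g₁ * f₁) = PowerSeries.C (c * f.coeff 0) := by
    rw [← hgf, hg₁, hf₁, pow_add, map_mul]; ring
  -- reduce modulo the maximal ideal
  have hres : ∀ x : R, ¬ ϖ ∣ x → IsLocalRing.residue R x ≠ 0 := by
    intro x hx h
    rw [IsLocalRing.residue_eq_zero_iff, hϖ.maximalIdeal_eq, Ideal.mem_span_singleton] at h
    exact hx h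
  have hg₁ne : PowerSeries.map (IsLocalRing.residue R) g₁ ≠ 0 := by
    intro h
    have := congrArg (PowerSeries.coeff ng) h
    rw [PowerSeries.coeff_map, map_zero] at this
    exact hres _ hng this
  have hf₁ne : PowerSeries.map (IsLocalRing.residue R) f₁ ≠ 0 := by
    intro h
    have := congrArg (PowerSeries.coeff nf) h
    rw [PowerSeries.coeff_map, map_zero] at this
    exact hres _ hnf this
  have hprodne : PowerSeries.map (IsLocalRing.residue R) (g₁ * f₁) ≠ 0 := by
    rw [map_mul]; exact mul_ne_zero hg₁ne hf₁ne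
  obtain ⟨n₀, hn₀⟩ : ∃ n₀, PowerSeries.coeff n₀ (PowerSeries.map (IsLocalRing.residue R) (g₁ * f₁)) ≠ 0 := by
    by_contra hall
    push Not at hall
    exact hprodne (PowerSeries.ext hall)
  rw [PowerSeries.coeff_map] at hn₀
  have hunit : IsUnit (PowerSeries.coeff n₀ (g₁ * f₁)) := by
    by_contra hnu
    exact hn₀ ((IsLocalRing.residue_eq_zero_iff _).mpr ((IsLocalRing.mem_maximalIdeal _).mpr hnu))
  have hn₀0 : n₀ = 0 := by
    by_contra hne
    have := congrArg (PowerSeries.coeff n₀) hprod
    rw [PowerSeries.coeff_C_mul, PowerSeries.coeff_C, if_neg hne] at this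
    rcases mul_eq_zero.mp this with h | h
    · exact pow_ne_zero _ hϖ.ne_zero h
    · exact hunit.ne_zero h
  subst hn₀0
  have hunit' : IsUnit (PowerSeries.coeff 0 f₁) := by
    rw [PowerSeries.coeff_mul] at hunit
    simp only [Finset.Nat.antidiagonal_zero, Finset.sum_singleton] at hunit
    exact isUnit_of_mul_isUnit_right hunit
  obtain ⟨v, hv⟩ := hunit'
  have ha0 : f.coeff 0 = ϖ ^ e * v := by
    rw [← hf0, hf₁, PowerSeries.coeff_C_mul, hv]
  obtain ⟨i, _, hi⟩ := hslope
  apply hi
  have hai : f.coeff i = ϖ ^ e * PowerSeries.coeff i f₁ := by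
    have : PowerSeries.coeff i fP = f.coeff i := Polynomial.coeff_coe f i
    rw [← this, hf₁, PowerSeries.coeff_C_mul]
  refine ⟨(↑v⁻¹ : R) * PowerSeries.coeff i f₁, ?_⟩
  rw [hai, ha0]
  have : (v : R) * (↑v⁻¹ : R) = 1 := by simp
  calc ϖ ^ e * PowerSeries.coeff i f₁ = ϖ ^ e * ((v : R) * (↑v⁻¹ : R)) * PowerSeries.coeff i f₁ := by
        rw [this, mul_one]
    _ = ϖ ^ e * ↑v * (↑v⁻¹ * PowerSeries.coeff i f₁) := by ring

end Groth.Agent.S17721
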