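import Groth.Statements.S17722
import Mathlib.RingTheory.Flat.FaithfullyFlat.Algebra
import Mathlib.RingTheory.LocalRing.MaximalIdeal.Basic

set_option autoImplicit false
universe u
open CAlg

namespace Groth.Agent.S17722

/-- Let R → R' be a faithfully flat ring map between Noetherian integrally closed local domains, and p
an ideal of R. If the ideal pR' generated by the image of p is principal, then p is principal. (The
second assertion of the published lemma, descent of unique factorization, is not part of this row.) -/
theorem result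
    (R R' : Type u) [CommRing R] [CommRing R'] [IsDomain R] [IsDomain R']
    [IsNoetherianRing R] [IsNoetherianRing R'] [IsLocalRing R] [IsLocalRing R']
    [IsIntegrallyClosed R] [IsIntegrallyClosed R']
    [Algebra R R'] [Module.FaithfullyFlat R R']
    (p : Ideal R) (hp : (p.map (algebraMap R R')).IsPrincipal) :
    p.IsPrincipal := by
  classical
  obtain ⟨x, hx⟩ := hp
  have hx' : p.map (algebraMap R R') = Ideal.span {x} := hx
  have hcm : ∀ I : Ideal R, (I.map (algebraMap R R')).comap (algebraMap R R') = I :=
    fun I => Ideal.comap_map_eq_self_of_faithfullyFlat I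
  by_cases hx0 : x = 0
  · -- then `p = ⊥`
    have : p = ⊥ := by
      rw [← hcm p, hx', hx0, Ideal.span_singleton_eq_bot.mpr rfl, ← hcm ⊥, Ideal.map_bot]
    rw [this]; exact bot_isPrincipal
  -- the ideal of cofactors
  set S : Set R' := {c | ∃ a ∈ p, algebraMap R R' a = x * c} with hS
  have hxS : p.map (algebraMap R R') ≤ Ideal.span {x} * Ideal.span S := by
    rw [Ideal.map, Ideal.span_le]
    rintro _ ⟨a, ha, rfl⟩
    have h1 : algebraMap R R' a ∈ Ideal.span {x} := by
      rw [← hx']; exact Ideal.mem_map_of_mem _ ha
    obtain ⟨c, hc⟩ := Ideal.mem_span_singleton'.mp h1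
    have hc' : algebraMap R R' a = x * c := by rw [← hc, mul_comm]
    rw [hc']
    exact Ideal.mul_mem_mul (Ideal.mem_span_singleton_self x) (Ideal.subset_span ⟨a, ha, hc'⟩)
  have hxmem : x ∈ Ideal.span {x} * Ideal.span S := hxS (hx' ▸ Ideal.mem_span_singleton_self x)
  obtain ⟨c, hcS, hc⟩ := Ideal.mem_span_singleton_mul.mp hxmem
  have hc1 : c = 1 := by
    have : x * c = x * 1 := by rw [hc, mul_one]
    exact mul_left_cancel₀ hx0 this
  have htop : Ideal.span S = ⊤ := (Ideal.eq_top_iff_one _).mpr (hc1 ▸ hcS)
  -- some cofactor is a unit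
  have hunit : ∃ c ∈ S, IsUnit c := by
    by_contra hcon
    push Not at hcon
    have hle : Ideal.span S ≤ IsLocalRing.maximalIdeal R' := by
      rw [Ideal.span_le]
      intro c hc
      exact (IsLocalRing.mem_maximalIdeal c).mpr (hcon c hc)
    rw [htop] at hle
    exact (IsLocalRing.maximalIdeal.isMaximal R').ne_top (top_le_iff.mp hle)
  obtain ⟨c, ⟨a, ha, hac⟩, hcu⟩ := hunit
  have hspan : Ideal.span {algebraMap R R' a} = Ideal.span {x} := by
    rw [hac]
    exact Ideal.span_singleton_mul_right_unit hcu x
  refine ⟨⟨a, ?_⟩⟩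
  change p = Ideal.span {a}
  rw [← hcm p, hx', ← hspan, ← hcm (Ideal.span {a}), Ideal.map_span, Set.image_singleton]

end Groth.Agent.S17722
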