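import Groth.Statements.S17725
import Mathlib.AlgebraicGeometry.Noetherian
import Mathlib.Topology.Sober
import Mathlib.Topology.NoetherianSpace

set_option autoImplicit false
universe u
open SpecSp

namespace Groth.Agent.S17725

open AlgebraicGeometry in
/-- In a connected Noetherian scheme any two points p, q are linked by a finite chain of points p = x₁,
…, xₙ = q such that for each i one of x_i, x_{i+1} is a specialization of the other; equivalently, p
and q are related by the equivalence relation generated by the specialization relation. -/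
theorem result
    (X : Scheme.{u}) [IsNoetherian X] [ConnectedSpace X] (p q : X) :
    Relation.EqvGen (fun x y : X => x ⤳ y) p q := by
  classical
  set r : X → X → Prop := Relation.EqvGen (fun x y : X => x ⤳ y) with hr
  have hrefl : ∀ x, r x x := fun x => Relation.EqvGen.refl x
  have hsymm : ∀ {x y}, r x y → r y x := fun h => Relation.EqvGen.symm _ _ h
  have htrans : ∀ {x y z}, r x y → r y z → r x z := fun h h' => Relation.EqvGen.trans _ _ _ h h'
  -- points of an irreducible component are all equivalent
  have L1 : ∀ Z ∈ irreducibleComponents X, ∀ x ∈ Z, ∀ y ∈ Z, r x y := by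
    intro Z hZ x hx y hy
    have hZirr : IsIrreducible Z := hZ.1
    have hZcl : IsClosed Z := isClosed_of_mem_irreducibleComponents Z hZ
    obtain ⟨η, hη⟩ := QuasiSober.sober hZirr hZcl
    have h1 : η ⤳ x := (isGenericPoint_iff_specializes.mp hη x).mpr hx
    have h2 : η ⤳ y := (isGenericPoint_iff_specializes.mp hη y).mpr hy
    exact htrans (hsymm (Relation.EqvGen.rel _ _ h1)) (Relation.EqvGen.rel _ _ h2)
  set C : Set X := {x | r p x} with hC
  have hfin : (irreducibleComponents X).Finite :=
    TopologicalSpace.NoetherianSpace.finite_irreducibleComponents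
  have hC1 : C = ⋃₀ {Z ∈ irreducibleComponents X | Z ⊆ C} := by
    ext x
    constructor
    · intro hx
      refine ⟨irreducibleComponent x, ⟨irreducibleComponent_mem_irreducibleComponents x, ?_⟩,
        mem_irreducibleComponent⟩
      intro y hy
      exact htrans hx (L1 _ (irreducibleComponent_mem_irreducibleComponents x) x
        mem_irreducibleComponent y hy)
    · rintro ⟨Z, ⟨_, hZC⟩, hxZ⟩
      exact hZC hxZ
  have hC2 : Cᶜ = ⋃₀ {Z ∈ irreducibleComponents X | ¬ Z ⊆ C} := by
    ext x
    constructor
    · intro hx
      refine ⟨irreducibleComponent x, ⟨irreducibleComponent_mem_irreducibleComponents x, ?_⟩,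
        mem_irreducibleComponent⟩
      intro hsub
      exact hx (hsub mem_irreducibleComponent)
    · rintro ⟨Z, ⟨hZ, hZC⟩, hxZ⟩ hxC
      apply hZC
      intro y hy
      exact htrans hxC (L1 Z hZ x hxZ y hy)
  have hclosed1 : IsClosed C := by
    rw [hC1, Set.sUnion_eq_biUnion]
    refine Set.Finite.isClosed_biUnion (hfin.subset (fun Z hZ => hZ.1)) ?_
    intro Z hZ
    exact isClosed_of_mem_irreducibleComponents Z hZ.1
  have hclosed2 : IsClosed Cᶜ := by
    rw [hC2, Set.sUnion_eq_biUnion]
    refine Set.Finite.isClosed_biUnion (hfin.subset (fun Z hZ => hZ.1)) ?_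
    intro Z hZ
    exact isClosed_of_mem_irreducibleComponents Z hZ.1
  have hclopen : IsClopen C := ⟨hclosed1, isClosed_compl_iff.mp hclosed2⟩
  rcases isClopen_iff.mp hclopen with h | h
  · exfalso
    have : p ∈ C := hrefl p
    rw [h] at this
    exact this
  · have : q ∈ C := by rw [h]; trivial
    exact this

end Groth.Agent.S17725
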