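import Groth.Statements.S17726
import Mathlib.RingTheory.Ideal.Operations
import Mathlib.Tactic.Ring
import Mathlib.Tactic.Linarith

set_option autoImplicit false
universe u
open CAlg

namespace Groth.Agent.S17726

theorem isUnit_of_span_pow_eq {A : Type u} [CommRing A] (x : A) (hx : x ∈ nonZeroDivisors A)
    (a b : ℕ) (hab : a < b) (h : Ideal.span {x ^ a} = Ideal.span {x ^ b}) : IsUnit x := by
  have h1 : x ^ a ∈ Ideal.span {x ^ b} := by rw [← h]; exact Ideal.mem_span_singleton_self _
  obtain ⟨c, hc⟩ := Ideal.mem_span_singleton'.mp h1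
  obtain ⟨d, rfl⟩ := Nat.exists_eq_add_of_lt hab
  have hxa : x ^ a ∈ nonZeroDivisors A := pow_mem hx a
  have h2 : (c * x ^ d * x - 1) * x ^ a = 0 := by
    have : c * x ^ (a + d + 1) = x ^ a := hc
    calc (c * x ^ d * x - 1) * x ^ a = c * x ^ (a + d + 1) - x ^ a := by ring
      _ = 0 := by rw [this, sub_self]
  have h3 : c * x ^ d * x - 1 = 0 := (mem_nonZeroDivisors_iff_right.mp hxa) _ h2
  have h4 : c * x ^ d * x = 1 := sub_eq_zero.mp h3
  exact IsUnit.of_mul_eq_one_right (c * x ^ d) h4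

theorem isUnit_of_span_pow_eq_of_ne {A : Type u} [CommRing A] (x : A) (hx : x ∈ nonZeroDivisors A)
    (a b : ℕ) (hab : a ≠ b) (h : Ideal.span {x ^ a} = Ideal.span {x ^ b}) : IsUnit x := by
  rcases lt_or_gt_of_ne hab with h' | h'
  · exact isUnit_of_span_pow_eq x hx a b h' h
  · exact isUnit_of_span_pow_eq x hx b a h' h.symm

/-- Let f and g be non-zero-divisors of a commutative ring A, not both units; think of them as local
equations, at a point of the union of the supports, of two effective Cartier divisors E and D. If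
the ideals generated by g^{m₁} and f^{n₁} coincide, and likewise for g^{m₂} and f^{n₂}, then m₁ n₂ =
m₂ n₁. So all pairs (m, n) with m D = n E locally at the point are proportional, and the saturation
of the monoid they form is generated by a single element. -/
theorem result
    (A : Type u) [CommRing A] (f g : A)
    (hf : f ∈ nonZeroDivisors A) (hg : g ∈ nonZeroDivisors A) (hfg : ¬ (IsUnit f ∧ IsUnit g))
    (m₁ n₁ m₂ n₂ : ℕ)
    (h₁ : Ideal.span {g ^ m₁} = Ideal.span {f ^ n₁})
    (h₂ : Ideal.span {g ^ m₂} = Ideal.span {f ^ n₂}) :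
    m₁ * n₂ = m₂ * n₁ := by
  by_contra hne
  have hpow : ∀ (x y : A) (a b k : ℕ), Ideal.span {x ^ a} = Ideal.span {y ^ b} →
      Ideal.span {x ^ (a * k)} = Ideal.span {y ^ (b * k)} := by
    intro x y a b k h
    rw [pow_mul, pow_mul, ← Ideal.span_singleton_pow (x ^ a), ← Ideal.span_singleton_pow (y ^ b), h]
  have hg1 := hpow g f m₁ n₁ n₂ h₁
  have hg2 := hpow g f m₂ n₂ n₁ h₂
  rw [mul_comm n₂ n₁] at hg2
  have hgu : IsUnit g := isUnit_of_span_pow_eq_of_ne g hg _ _ hne (hg1.trans hg2.symm)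
  have hf1 := hpow g f m₁ n₁ m₂ h₁
  have hf2 := hpow g f m₂ n₂ m₁ h₂
  rw [mul_comm m₂ m₁] at hf2
  have hne' : n₁ * m₂ ≠ n₂ * m₁ := by
    intro h
    apply hne
    rw [mul_comm m₁ n₂, mul_comm m₂ n₁]
    exact h.symm
  have hfu : IsUnit f := isUnit_of_span_pow_eq_of_ne f hf _ _ hne' (hf1.symm.trans hf2)
  exact hfg ⟨hfu, hgu⟩

end Groth.Agent.S17726
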