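import Groth.Statements.S17731
import Groth.Agent.Lib.Helper1.NeronInj

set_option autoImplicit false
universe u
open Neron

namespace Groth.Agent.S17731

open Groth.Agent.Lib.Helper1.NeronInj CategoryTheory CategoryTheory.Limits AlgebraicGeometry

open CategoryTheory AlgebraicGeometry in
/-- Let S be a scheme, U ⊆ S a schematically dense open subscheme and N → S a smooth S-scheme having
uniqueness in the Néron mapping property with respect to U: for every smooth S-scheme Y, restriction
to U is injective on S-morphisms Y → N. Then for every smooth morphism g : S' → S the base change N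
×_S S' → S' has uniqueness in the Néron mapping property with respect to g⁻¹(U): for every smooth
S'-scheme Y', restriction to g⁻¹(U) is injective on S'-morphisms Y' → N ×_S S'. (The published
statement is for models which are algebraic spaces, tested against smooth algebraic spaces; this row
states the case of a scheme model tested against smooth schemes. The companion assertion that Néron
models are preserved by smooth base change is not restated here.) -/
theorem result
    {S S' : Scheme.{u}} (g : S' ⟶ S) [Smooth g]
    (U : S.Opens) (hU : CInt.IsSchematicallyDense U) (N : Over S) [Smooth N.hom]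
    (hN : ∀ Y : Over S, Smooth Y.hom →
      Function.Injective (fun f : Y ⟶ N => (Over.pullback U.ι).map f))
    (Y' : Over S') [Smooth Y'.hom] :
    Function.Injective (fun f : Y' ⟶ (Over.pullback g).obj N => (Over.pullback (g ⁻¹ᵁ U).ι).map f) := by
  rw [injective_iff]
  have hsm : Smooth (Over.mk (Y'.hom ≫ g)).hom := inferInstanceAs (Smooth (Y'.hom ≫ g))
  have hsq : IsPullback (pullback.fst Y'.hom (g ⁻¹ᵁ U).ι)
      (pullback.snd Y'.hom (g ⁻¹ᵁ U).ι ≫ (g ∣_ U)) (Over.mk (Y'.hom ≫ g)).hom U.ι :=
    (IsPullback.of_hasPullback Y'.hom (g ⁻¹ᵁ U).ι).paste_vert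
      (isPullback_morphismRestrict g U).flip
  have hN' := (injective_iff_of_isPullback U.ι N (Over.mk (Y'.hom ≫ g)) hsq).mp (hN _ hsm)
  intro g₁ g₂ h₁ h₂ h
  have h₁' : g₁ ≫ pullback.snd N.hom g = Y'.hom := h₁
  have h₂' : g₂ ≫ pullback.snd N.hom g = Y'.hom := h₂
  apply pullback.hom_ext
  · refine hN' _ _ ?_ ?_ ?_
    · show (g₁ ≫ pullback.fst N.hom g) ≫ N.hom = Y'.hom ≫ g
      rw [Category.assoc, pullback.condition, ← Category.assoc, h₁']
    · show (g₂ ≫ pullback.fst N.hom g) ≫ N.hom = Y'.hom ≫ g
      rw [Category.assoc, pullback.condition, ← Category.assoc, h₂']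
    · rw [← Category.assoc, ← Category.assoc, h]
  · rw [h₁', h₂']

end Groth.Agent.S17731
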