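import Groth.Statements.S17743
import Groth.Agent.Lib.Helper10.ChowPt4

set_option autoImplicit false
universe u
open CategoryTheory AlgebraicGeometry
open QsChow

namespace Groth.Agent.S17743

/-- Let K be a separable algebraic field extension of k and suppose that some intermediate field L of K
over k is finite Galois over k with degree [L:k] not of the form p^n for a prime p and n ≥ 0 (so
[L:k] has at least two prime factors). Then the subgroup of the Chow group of zero-cycles of Spec k
generated by the classes of push-forwards from Spec F, over the intermediate fields F of K over k
that are finite over k and different from k, is the whole group; that is, the conormed Chow group of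
the point relative to K over k is zero. (Degree 1 = p^0 must be excluded: for L = K = k the quotient
is ℤ.) -/
theorem result
    (k : Type u) [Field k] (K : Type u) [Field K] [Algebra k K] [Algebra.IsSeparable k K]
    (L : IntermediateField k K) [FiniteDimensional k L] [IsGalois k L]
    (hL : ∀ p n : ℕ, p.Prime → Module.finrank k L ≠ p ^ n) :
    QsChow.ptNormSubgroup k K = ⊤ := by
  rw [Groth.Agent.Lib.Helper10.ChowPt.ptNormSubgroup_eq,
    Groth.Agent.Lib.Helper10.ChowPt.closure_eq_top_of_not_prime_pow k K L hL]
  rw [← AddMonoidHom.range_eq_map]
  exact AddMonoidHom.range_eq_top.mpr (Groth.Agent.Lib.Helper10.ChowPt.phi_bijective k).2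

end Groth.Agent.S17743
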