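import Groth.Statements.S17750
import Groth.Agent.Lib.Helper16.CanonicalQuotGor
import Groth.Agent.Lib.Helper16.CanonicalUFD
import Groth.Agent.Lib.Helper16.RegularGorenstein

set_option autoImplicit false
universe u
open Goren

namespace Groth.Agent.S17750

section helpers
open Goren

theorem result_aux (B : Type u) [CommRing B] [IsRegularLocalRing B] (p : Ideal B) [p.IsPrime] [UniqueFactorizationMonoid (B ⧸ p)] [LocCoh.IsCohenMacaulayLocalRing (B ⧸ p)] : LocCoh.IsGorensteinLocalRing (B ⧸ p) := by
  classical
  have : LocCoh.IsGorensteinLocalRing B :=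
    Groth.Agent.Lib.Helper16.RegGor.isGorensteinLocalRing_of_isRegularLocalRing B
  have hg : Function.Surjective (algebraMap B (B ⧸ p)) := Ideal.Quotient.mk_surjective
  have hnat : ∀ (C : Type u) [CommRing C] [IsLocalRing C] [IsNoetherianRing C],
      ∃ d : ℕ, ringKrullDim C = d := by
    intro C _ _ _
    have h1 : ringKrullDim C < ⊤ := ringKrullDim_lt_top
    have h2 : ringKrullDim C ≠ ⊥ := ringKrullDim_ne_bot
    induction hr : ringKrullDim C with
    | bot => exact absurd hr h2
    | coe a =>
      induction a with
      | top => rw [hr] at h1; exact absurd h1 (lt_irrefl _)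
      | coe n => exact ⟨n, rfl⟩
  obtain ⟨n, hn⟩ := hnat (B ⧸ p)
  obtain ⟨n', hn'⟩ := hnat B
  obtain ⟨E, _, _, f, hf⟩ := Groth.Agent.Lib.Helper25.exists_isInjectiveHull (R := B ⧸ p)
    (IsLocalRing.ResidueField (B ⧸ p))
  obtain ⟨eK⟩ := Groth.Agent.Lib.Helper16.CQG.exists_dual_equiv hg hn hn' E f hf
  have h := Groth.Agent.Lib.Helper16.CanIdeal.nonempty_equiv_self_of_ufd hn f hf eK
  exact (Groth.Agent.Lib.Helper16.Canon.isGorenstein_iff hn f hf eK).mpr h

end helpers

/-- Let B be a regular local ring and p a prime ideal of B such that the integral domain B ⧸ p is a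
unique factorization domain. If the local ring B ⧸ p is Cohen–Macaulay then it is Gorenstein, i.e.
has finite injective dimension as a module over itself. (For a unique factorization domain that is a
quotient of a regular local ring, Cohen–Macaulay and Gorenstein are equivalent; the converse
implication holds for every Noetherian local ring.) -/
theorem result (B : Type u) [CommRing B] [IsRegularLocalRing B] (p : Ideal B) [p.IsPrime] [UniqueFactorizationMonoid (B ⧸ p)] [LocCoh.IsCohenMacaulayLocalRing (B ⧸ p)] : LocCoh.IsGorensteinLocalRing (B ⧸ p) := by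
  exact result_aux B p

end Groth.Agent.S17750
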