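import Groth.Statements.S17752
import Groth.Agent.Lib.Helper28.Ara

set_option autoImplicit false
universe u
open LocCoh

namespace Groth.Agent.S17752

/-- Let R be a Noetherian ring of Krull dimension d and I an ideal of R. Then there are d + 1 elements
f_0, …, f_d of I such that I and the ideal they generate have the same radical; in other words the
arithmetic rank of I is at most d + 1. -/
theorem result (R : Type u) [CommRing R] [IsNoetherianRing R] (d : ℕ) (hd : ringKrullDim R = d) (I : Ideal R) : ∃ f : Fin (d + 1) → R, (∀ i, f i ∈ I) ∧ I.radical = (Ideal.span (Set.range f)).radical := by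
  obtain ⟨f, hfI, hf⟩ := Groth.Agent.Lib.Helper28.Ara.exists_fin_height_le R I (d + 1)
  refine ⟨f, hfI, Groth.Agent.Lib.Helper28.Ara.radical_eq_of_primes I f hfI fun p _ hp => ?_⟩
  by_contra hIp
  have h1 : ((d + 1 : ℕ) : ℕ∞) ≤ p.height := hf p hp hIp
  have h2 : (p.height : WithBot ℕ∞) ≤ ringKrullDim R := Ideal.height_le_ringKrullDim_of_isPrime
  rw [hd] at h2
  have h3 : (((d + 1 : ℕ) : ℕ∞) : WithBot ℕ∞) ≤ ((d : ℕ) : WithBot ℕ∞) :=
    (WithBot.coe_le_coe.2 h1).trans h2
  have h4 : ((d : ℕ) : WithBot ℕ∞) = (((d : ℕ) : ℕ∞) : WithBot ℕ∞) := rfl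
  rw [h4, WithBot.coe_le_coe, Nat.cast_le] at h3
  omega

end Groth.Agent.S17752
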