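import Groth.Statements.S17753
import Groth.Agent.Lib.Helper28.Ara

set_option autoImplicit false
universe u
open LocCoh

namespace Groth.Agent.S17753

/-- Let R be a Noetherian local ring of Krull dimension d and I a proper ideal of R. Then there are d
elements f_1, …, f_d of I such that I and the ideal they generate have the same radical, so the
arithmetic rank of I is at most d. (The published statement has no properness hypothesis; for the
unit ideal of a field, d = 0 and no empty family generates the unit ideal up to radical, and the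
published proof uses that the maximal ideal contains I.) -/
theorem result (R : Type u) [CommRing R] [IsNoetherianRing R] [IsLocalRing R] (d : ℕ) (hd : ringKrullDim R = d) (I : Ideal R) (hI : I ≠ ⊤) : ∃ f : Fin d → R, (∀ i, f i ∈ I) ∧ I.radical = (Ideal.span (Set.range f)).radical := by
  obtain ⟨f, hfI, hf⟩ := Groth.Agent.Lib.Helper28.Ara.exists_fin_height_le R I d
  refine ⟨f, hfI, Groth.Agent.Lib.Helper28.Ara.radical_eq_of_primes I f hfI fun p _ hp => ?_⟩
  by_contra hIp
  have h1 : ((d : ℕ) : ℕ∞) ≤ p.height := hf p hp hIp
  have h2 : (p.height : WithBot ℕ∞) ≤ ringKrullDim R := Ideal.height_le_ringKrullDim_of_isPrime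
  haveI : FiniteRingKrullDim R := by
    rw [finiteRingKrullDim_iff_ne_bot_and_top, hd]
    exact ⟨WithBot.coe_ne_bot, by
      intro h
      have h4 : ((d : ℕ) : WithBot ℕ∞) = (((d : ℕ) : ℕ∞) : WithBot ℕ∞) := rfl
      rw [h4] at h
      exact ENat.coe_ne_top d (WithBot.coe_injective h)⟩
  have h3 : (p.height : WithBot ℕ∞) = ringKrullDim R := by
    refine le_antisymm h2 ?_
    rw [hd]
    have h4 : ((d : ℕ) : WithBot ℕ∞) = (((d : ℕ) : ℕ∞) : WithBot ℕ∞) := rfl
    rw [h4]
    exact WithBot.coe_le_coe.2 h1
  have h5 : p = IsLocalRing.maximalIdeal R := Ideal.height_eq_ringKrullDim_iff.1 h3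
  exact hIp (h5 ▸ IsLocalRing.le_maximalIdeal hI)

end Groth.Agent.S17753
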