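import Groth.Statements.S17757
import Groth.Agent.Lib.Helper16.TopLCTensorGen

set_option autoImplicit false
universe u
open LocCoh

namespace Groth.Agent.S17757

section helpers
open LocCoh

theorem result_aux (R : Type u) [CommRing R] [IsNoetherianRing R] [IsLocalRing R] (d : ℕ) (hd : ringKrullDim R = d) (I : Ideal R) (M : Type u) [AddCommGroup M] [Module R M] : Nonempty (LocCoh.H I d M ≃ₗ[R] TensorProduct R (LocCoh.H I d R) M) := by
  exact Groth.Agent.Lib.Helper16.LT.nonempty_top_equiv_tensor R d hd I M

end helpers

/-- Let R be a Noetherian local ring of Krull dimension d, I an ideal of R and M an arbitrary R-module.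
Then the top local cohomology H^d_I(M) is isomorphic, as an R-module, to H^d_I(R) ⊗_R M (existence
of an R-linear isomorphism; the functor H^d_I is right exact). -/
theorem result (R : Type u) [CommRing R] [IsNoetherianRing R] [IsLocalRing R] (d : ℕ) (hd : ringKrullDim R = d) (I : Ideal R) (M : Type u) [AddCommGroup M] [Module R M] : Nonempty (LocCoh.H I d M ≃ₗ[R] TensorProduct R (LocCoh.H I d R) M) := by
  exact result_aux R d hd I M

end Groth.Agent.S17757
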