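import Groth.Statements.S17766
import Groth.Agent.Lib.Helper16.CanonicalQuotGor
import Groth.Agent.Lib.Helper16.CanonicalIdeal
import Groth.Agent.Lib.Helper16.RegularGorenstein
import Groth.Agent.Lib.Helper16.RegularDim
import Groth.Agent.Lib.Helper16.ExtBridge

set_option autoImplicit false
universe u
open CategoryTheory Opposite
open LocCoh

namespace Groth.Agent.S17766

section helpers
open CategoryTheory Opposite
open LocCoh

theorem result_aux (B : Type u) [CommRing B] [IsRegularLocalRing B] (p : Ideal B) [p.IsPrime] [LocCoh.IsCohenMacaulayLocalRing (B ⧸ p)] (r : ℕ) (hr : p.height = r) : Nonempty (((Ext B (ModuleCat.{u} B) r).obj (op (ModuleCat.of B (B ⧸ p)))).obj (ModuleCat.of B B) ≃ₗ[B] (B ⧸ p)) ∨ ∃ I : Ideal (B ⧸ p), I ≠ ⊤ ∧ (∀ q ∈ associatedPrimes (B ⧸ p) ((B ⧸ p) ⧸ I), q.height = 1) ∧ Nonempty (((Ext B (ModuleCat.{u} B) r).obj (op (ModuleCat.of B (B ⧸ p)))).obj (ModuleCat.of B B) ≃ₗ[B] I) := by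
  classical
  have : LocCoh.IsGorensteinLocalRing B :=
    Groth.Agent.Lib.Helper16.RegGor.isGorensteinLocalRing_of_isRegularLocalRing B
  have hg : Function.Surjective (algebraMap B (B ⧸ p)) := Ideal.Quotient.mk_surjective
  obtain ⟨n, hn⟩ : ∃ d : ℕ, ringKrullDim (B ⧸ p) = d := by
    have h1 : ringKrullDim (B ⧸ p) < ⊤ := ringKrullDim_lt_top
    have h2 : ringKrullDim (B ⧸ p) ≠ ⊥ := ringKrullDim_ne_bot
    induction hr : ringKrullDim (B ⧸ p) with
    | bot => exact absurd hr h2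
    | coe a =>
      induction a with
      | top => rw [hr] at h1; exact absurd h1 (lt_irrefl _)
      | coe n => exact ⟨n, rfl⟩
  have hn' : ringKrullDim B = ((n + r : ℕ) : WithBot ℕ∞) := by
    rw [Groth.Agent.Lib.Helper16.PDR.ringKrullDim_eq_quotient_add_height B p, hn, hr]
    push_cast
    rfl
  obtain ⟨E, _, _, f, hf⟩ := Groth.Agent.Lib.Helper25.exists_isInjectiveHull (R := B ⧸ p)
    (IsLocalRing.ResidueField (B ⧸ p))
  obtain ⟨eK⟩ := Groth.Agent.Lib.Helper16.CQG.exists_dual_equiv hg hn hn' E f hf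
  have hsub : n + r - n = r := by omega
  rw [hsub] at eK
  have hntK := Groth.Agent.Lib.Helper16.Canon.nontrivial_K hn eK
  -- torsion-freeness
  have htf : ∀ (a : B ⧸ p) (x : TensorProduct B (B ⧸ p)
      (CategoryTheory.Abelian.Ext.{u} (ModuleCat.of B (B ⧸ p)) (ModuleCat.of B B) r)),
      a ≠ 0 → a • x = 0 → x = 0 := by
    intro a x ha hax
    by_cases hu : IsUnit a
    · exact (hu.smul_eq_zero).mp hax
    · have ham : a ∈ IsLocalRing.maximalIdeal (B ⧸ p) := hu
      have hreg : IsSMulRegular (B ⧸ p) a := (IsRegular.of_ne_zero ha).left.isSMulRegular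
      have := Groth.Agent.Lib.Helper16.Canon.isSMulRegular_K hn f hf eK a ham hreg
      exact this (by show a • x = a • 0; rw [hax, smul_zero])
  have hend : ∀ g : TensorProduct B (B ⧸ p)
      (CategoryTheory.Abelian.Ext.{u} (ModuleCat.of B (B ⧸ p)) (ModuleCat.of B B) r) →ₗ[B ⧸ p] _,
      ∃ a : B ⧸ p, ∀ x, g x = a • x := by
    intro g
    obtain ⟨a, ha⟩ := (Groth.Agent.Lib.Helper16.Canon.bijective_homothety hn f hf eK).2 g
    exact ⟨a, fun x => by rw [← ha]; rfl⟩
  obtain ⟨x₀, hx₀⟩ := exists_ne (0 : TensorProduct B (B ⧸ p)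
      (CategoryTheory.Abelian.Ext.{u} (ModuleCat.of B (B ⧸ p)) (ModuleCat.of B B) r))
  obtain ⟨φ, hφ⟩ := Groth.Agent.Lib.Helper16.CanIdeal.exists_functional_ne_zero htf hx₀
  have hφinj := Groth.Agent.Lib.Helper16.CanIdeal.injective_of_end_eq_smul htf hend φ hφ
  have hK'ann : ∀ b ∈ p, ∀ x : CategoryTheory.Abelian.Ext.{u} (ModuleCat.of B (B ⧸ p))
      (ModuleCat.of B B) r, b • x = 0 := by
    intro b hb x
    refine Groth.Agent.Lib.Helper16.CQG.smul_ext_eq_zero b (fun y => ?_) r x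
    show b • (y : B ⧸ p) = 0
    rw [Algebra.smul_def]
    show Ideal.Quotient.mk p b * y = 0
    rw [Ideal.Quotient.eq_zero_iff_mem.mpr hb, zero_mul]
  have hptop : p • (⊤ : Submodule B (CategoryTheory.Abelian.Ext.{u} (ModuleCat.of B (B ⧸ p))
      (ModuleCat.of B B) r)) = ⊥ := by
    rw [eq_bot_iff, Submodule.smul_le]
    intro b hb x _
    rw [hK'ann b hb x]
    exact Submodule.zero_mem _
  have eB : CategoryTheory.Abelian.Ext.{u} (ModuleCat.of B (B ⧸ p)) (ModuleCat.of B B) r ≃ₗ[B]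
      TensorProduct B (B ⧸ p) (CategoryTheory.Abelian.Ext.{u} (ModuleCat.of B (B ⧸ p))
        (ModuleCat.of B B) r) :=
    ((TensorProduct.quotTensorEquivQuotSMul _ p).trans
      (Submodule.quotEquivOfEqBot _ hptop)).symm
  have e0 := Groth.Agent.Lib.Helper16.ExtBridge.oldToNew (ModuleCat.of B (B ⧸ p))
    (ModuleCat.of B B) r
  have e : TensorProduct B (B ⧸ p) (CategoryTheory.Abelian.Ext.{u} (ModuleCat.of B (B ⧸ p))
        (ModuleCat.of B B) r) ≃ₗ[B ⧸ p] (LinearMap.range φ : Ideal (B ⧸ p)) :=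
    LinearEquiv.ofInjective φ hφinj
  by_cases hI : (LinearMap.range φ : Ideal (B ⧸ p)) = ⊤
  · left
    exact ⟨e0.trans (eB.trans ((e.trans (LinearEquiv.ofTop _ hI)).restrictScalars B))⟩
  · right
    refine ⟨LinearMap.range φ, hI, fun q hq => ?_, ⟨e0.trans (eB.trans (e.restrictScalars B))⟩⟩
    exact Groth.Agent.Lib.Helper16.CanIdeal.height_eq_one_of_mem_associatedPrimes hn f hf eK _ e q hq

end helpers

/-- Let B be a regular local ring, p a prime ideal of B of height r, and suppose that A = B ⧸ p is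
Cohen–Macaulay. Then the B-module Ext^r_B(A, B) is isomorphic either to A itself or to a proper
ideal I of A which is unmixed of height one, i.e. every associated prime of A ⧸ I has height one in
A (existence of a B-linear isomorphism in each case). -/
theorem result (B : Type u) [CommRing B] [IsRegularLocalRing B] (p : Ideal B) [p.IsPrime] [LocCoh.IsCohenMacaulayLocalRing (B ⧸ p)] (r : ℕ) (hr : p.height = r) : Nonempty (((Ext B (ModuleCat.{u} B) r).obj (op (ModuleCat.of B (B ⧸ p)))).obj (ModuleCat.of B B) ≃ₗ[B] (B ⧸ p)) ∨ ∃ I : Ideal (B ⧸ p), I ≠ ⊤ ∧ (∀ q ∈ associatedPrimes (B ⧸ p) ((B ⧸ p) ⧸ I), q.height = 1) ∧ Nonempty (((Ext B (ModuleCat.{u} B) r).obj (op (ModuleCat.of B (B ⧸ p)))).obj (ModuleCat.of B B) ≃ₗ[B] I) := by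
  exact result_aux B p r hr

end Groth.Agent.S17766
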