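import Groth.Statements.S17767
-- import your own Groth.Agent.* helpers here
import Groth.Agent.Lib27.GrArt

set_option autoImplicit false
universe u
open GrLC

namespace Groth.Agent.S17767

/-- Let R = ⊕_{n ≥ 0} R_n be a Noetherian positively ℤ-graded ring which is *local, i.e. has a unique
homogeneous maximal ideal m (equivalently R_0 is local), and let M be a finitely generated graded
R-module. Then for every i the homogeneous pieces H^i_m(M)_n of the graded local cohomology with
support in m, computed from any *injective resolution of M in the graded category, are zero for all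
sufficiently large n. -/
theorem result (R : Type u) [CommRing R] [IsNoetherianRing R] (𝒜 : ℤ → AddSubgroup R) [GradedRing 𝒜] (hpos : ∀ n : ℤ, n < 0 → 𝒜 n = ⊥) (m : HomogeneousIdeal 𝒜) (hm : GrLC.IsStarLocal 𝒜 m) (M : Type u) [AddCommGroup M] [Module R M] [Module.Finite R M] (ℳ : ℤ → AddSubgroup M) [DirectSum.Decomposition ℳ] [SetLike.GradedSMul 𝒜 ℳ] (E : GrLC.StarInjRes 𝒜 ℳ) (i : ℕ) : ∃ N : ℤ, ∀ n : ℤ, N ≤ n → E.Hcomp m i n = ⊥ := by
  classical
  haveI hmax := Groth.Agent.Lib.Helper11.GrLes.isMaximal_of_isCoatom 𝒜 hpos hm.1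
  obtain ⟨e⟩ := Groth.Agent.Lib.Helper11.GrLCOrd.nonempty_H_equiv E m i
  haveI : IsArtinian R (LocCoh.H m.toIdeal i M) :=
    Groth.Agent.Lib.Helper16.LC.isArtinian_H_maximal m.toIdeal i M
  haveI : IsArtinian R (E.H m i) := isArtinian_of_injective e.toLinearMap e.injective
  letI : DirectSum.Decomposition (E.Hgr m i) :=
    (Groth.Agent.Lib.Helper11.GrLCLib.Hgr_isInternal 𝒜 ℳ E m i).chooseDecomposition
  haveI : SetLike.GradedSMul 𝒜 (E.Hgr m i) :=
    Groth.Agent.Lib.Helper11.GrField.Hgr_gradedSMul E m i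
  obtain ⟨K, hK⟩ := Groth.Agent.Lib27.GrArt.exists_eq_bot_of_isArtinian (E.Hgr m i) hpos
  refine ⟨K, fun n hn => ?_⟩
  rw [eq_bot_iff]
  intro z hz
  rw [Submodule.mem_bot]
  have hz' : z ∈ E.Hgr m i n := hz
  rw [hK n hn] at hz'
  exact (AddSubgroup.mem_bot).1 hz'

end Groth.Agent.S17767
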