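import Groth.Statements.S1777
import Groth.Agent.Lib.Helper13.DualBC10

set_option autoImplicit false
universe u
open CategoryTheory
attribute [local instance] HasDerivedCategory.standard
open Dual

namespace Groth.Agent.S1777

/-- Let A → B be a flat local homomorphism of Noetherian local rings with m_A B = m_B and ω a normalized
dualizing complex for A. Assuming the derived base change functor D(A) → D(B) exists, the base
change of ω is a normalized dualizing complex for B. -/
theorem result (A B : Type u) [CommRing A] [CommRing B] [IsLocalRing A] [IsLocalRing B] [Algebra A B] [IsLocalHom (algebraMap A B)] [IsNoetherianRing A] [IsNoetherianRing B] [Module.Flat A B] (hm : (IsLocalRing.maximalIdeal A).map (algebraMap A B) = IsLocalRing.maximalIdeal B) [DRing.HasLBaseChange (algebraMap A B)] (ω : Dual.D A) (hω : Dual.IsDualizing A ω) (hn : Dual.IsNormalized A ω) : Dual.IsDualizing B ((DRing.LBaseChange (algebraMap A B)).obj ω) ∧ Dual.IsNormalized B ((DRing.LBaseChange (algebraMap A B)).obj ω) := by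
  obtain ⟨c, hc⟩ := Groth.Agent.Lib.Helper13.DualBC.exists_isGE_of_isDualizing ω hω
  exact ⟨Groth.Agent.Lib.Helper13.DualBC.isDualizing_LBaseChange_of_map_maximalIdeal A B hm ω hω,
    Groth.Agent.Lib.Helper13.DualBC.isNormalized_LBaseChange_of_map_maximalIdeal A B hm ω c hn⟩

end Groth.Agent.S1777
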