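import Groth.Statements.S17774
import Groth.Agent.Lib.Helper16.LocalDualityGor
import Groth.Agent.Lib.Helper16.CMHeightFormula
import Groth.Agent.Lib.Helper16.ExtBridge

set_option autoImplicit false
universe u
open CategoryTheory Opposite
open LocCoh

namespace Groth.Agent.S17774

section helpers
open CategoryTheory Opposite
open LocCoh

theorem result_aux (S : Type u) [CommRing S] [LocCoh.IsGorensteinLocalRing S] (I : Ideal S) (g : ℕ) (hg : I.height = g) [LocCoh.IsCohenMacaulayLocalRing (S ⧸ I)] (d : ℕ) (hd : ringKrullDim (S ⧸ I) = d) (E : Type u) [AddCommGroup E] [Module S E] (f : IsLocalRing.ResidueField S →ₗ[S] E) (hf : InjHull.IsInjectiveHull f) : Nonempty ((((Ext S (ModuleCat.{u} S) g).obj (op (ModuleCat.of S (S ⧸ I)))).obj (ModuleCat.of S S) →ₗ[S] E) ≃ₗ[S] LocCoh.H (IsLocalRing.maximalIdeal S) d (S ⧸ I)) := by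
  have hCM : LocCoh.IsCohenMacaulayModule S S :=
    (Groth.Agent.Lib.Helper11.GorCM.isCohenMacaulayLocalRing_of_gorenstein S).supportDim_eq_depth
  have hloc : IsLocalRing (S ⧸ I) := inferInstance
  have hI : I ≠ ⊤ := by
    intro h
    have : Subsingleton (S ⧸ I) := Ideal.Quotient.subsingleton_iff.2 h
    exact not_subsingleton (S ⧸ I) this
  have hform := Groth.Agent.Lib.Helper16.CMHt.height_add_ringKrullDim_quotient S hCM I hI
  rw [hg, hd] at hform
  have hn : ringKrullDim S = ((d + g : ℕ) : WithBot ℕ∞) := by
    rw [← hform]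
    push_cast
    rw [add_comm]
  obtain ⟨e⟩ := Groth.Agent.Lib.Helper16.LD.local_duality hn E f hf (S ⧸ I) d g rfl
  have e2 := Groth.Agent.Lib.Helper16.ExtBridge.oldToNew (ModuleCat.of S (S ⧸ I)) (ModuleCat.of S S) g
  exact ⟨(e.trans (LinearEquiv.congrLeft E S e2.symm)).symm⟩

end helpers

/-- Let (S, n) be a Gorenstein local ring, I an ideal of S of height g such that R = S ⧸ I is a
Cohen–Macaulay local ring, of Krull dimension d, and E an injective hull of the residue field of S.
Then the canonical module of R is Ext^g_S(R, S), in the following sense: the Matlis dual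
Hom_S(Ext^g_S(R, S), E) is isomorphic as an S-module to the top local cohomology H^d_n(R) of R
regarded as an S-module (existence of an S-linear isomorphism; Hom into E over S and local
cohomology with support in n agree with the corresponding notions over R for R-modules). -/
theorem result (S : Type u) [CommRing S] [LocCoh.IsGorensteinLocalRing S] (I : Ideal S) (g : ℕ) (hg : I.height = g) [LocCoh.IsCohenMacaulayLocalRing (S ⧸ I)] (d : ℕ) (hd : ringKrullDim (S ⧸ I) = d) (E : Type u) [AddCommGroup E] [Module S E] (f : IsLocalRing.ResidueField S →ₗ[S] E) (hf : InjHull.IsInjectiveHull f) : Nonempty ((((Ext S (ModuleCat.{u} S) g).obj (op (ModuleCat.of S (S ⧸ I)))).obj (ModuleCat.of S S) →ₗ[S] E) ≃ₗ[S] LocCoh.H (IsLocalRing.maximalIdeal S) d (S ⧸ I)) := by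
  exact result_aux S I g hg d hd E f hf

end Groth.Agent.S17774
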