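import Groth.Statements.S17779
-- import your own Groth.Agent.* helpers here
import Mathlib.Tactic.Ring
import Mathlib.Tactic.IntervalCases
import Mathlib.Tactic.Linarith

set_option autoImplicit false
open DRR

namespace Groth.Agent.S17779


/-- The alternating sum. -/
def a (n k : ℕ) : ℤ :=
  ∑ j ∈ Finset.range (n + 1), (-1 : ℤ) ^ (n - j) * (n.choose j : ℤ) * (j : ℤ) ^ k

theorem choose_mul_aux (n j : ℕ) :
    ((n + 1).choose j : ℤ) * (j : ℤ) = ((n : ℤ) + 1) * (((n + 1).choose j : ℤ) - (n.choose j : ℤ)) := by
  cases j with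
  | zero => simp
  | succ i =>
    have h1 := Nat.add_one_mul_choose_eq n i
    have h2 := Nat.choose_succ_succ n i
    have h1' : ((n : ℤ) + 1) * (n.choose i : ℤ) = ((n + 1).choose (i + 1) : ℤ) * ((i : ℤ) + 1) := by
      exact_mod_cast h1
    have h2' : ((n + 1).choose (i + 1) : ℤ) = (n.choose i : ℤ) + (n.choose (i + 1) : ℤ) := by
      exact_mod_cast h2
    push_cast
    rw [← h1', h2']
    ring

theorem a_rec (n k : ℕ) : a (n + 1) (k + 1) = ((n : ℤ) + 1) * (a (n + 1) k + a n k) := by
  unfold a
  have h1 : ∑ j ∈ Finset.range (n + 1 + 1), (-1 : ℤ) ^ (n + 1 - j) * ((n + 1).choose j : ℤ) *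
      (j : ℤ) ^ (k + 1) =
      ∑ j ∈ Finset.range (n + 1 + 1), ((n : ℤ) + 1) * ((-1 : ℤ) ^ (n + 1 - j) *
        ((n + 1).choose j : ℤ) * (j : ℤ) ^ k - (-1 : ℤ) ^ (n + 1 - j) * (n.choose j : ℤ) * (j : ℤ) ^ k) := by
    apply Finset.sum_congr rfl
    intro j _
    have := choose_mul_aux n j
    calc (-1 : ℤ) ^ (n + 1 - j) * ((n + 1).choose j : ℤ) * (j : ℤ) ^ (k + 1)
        = (-1 : ℤ) ^ (n + 1 - j) * (((n + 1).choose j : ℤ) * (j : ℤ)) * (j : ℤ) ^ k := by ring
      _ = _ := by rw [this]; ring
  rw [h1, ← Finset.mul_sum, Finset.sum_sub_distrib]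
  congr 1
  rw [sub_eq_add_neg]
  congr 1
  rw [Finset.sum_range_succ, Nat.choose_succ_self]
  simp only [Nat.cast_zero, mul_zero, zero_mul, add_zero]
  rw [← Finset.sum_neg_distrib]
  apply Finset.sum_congr rfl
  intro j hj
  have hj' : j ≤ n := Nat.lt_succ_iff.mp (Finset.mem_range.mp hj)
  have : n + 1 - j = (n - j) + 1 := by omega
  rw [this, pow_succ]
  ring

theorem a_zero_right (n : ℕ) : a n 0 = if n = 0 then 1 else 0 := by
  unfold a
  have h := add_pow (1 : ℤ) (-1 : ℤ) n
  simp only [one_pow, one_mul] at h
  simp only [pow_zero, mul_one]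
  rw [← h]
  by_cases hn : n = 0
  · subst hn; simp
  · rw [if_neg hn]
    simp [hn]

theorem a_eq (n : ℕ) : ∀ k, k ≤ n + 1 → a n k =
    (if k = n + 1 then (((n + 1).choose 2 * n.factorial : ℕ) : ℤ)
        else if k = n then (n.factorial : ℤ) else 0) := by
  induction n with
  | zero =>
    intro k hk
    interval_cases k
    · simp [a]
    · simp [a]
  | succ n ih =>
    intro k
    induction k with
    | zero =>
      intro _
      rw [a_zero_right]
      simp
    | succ k ihk =>
      intro hk
      have hk' : k ≤ n + 1 := by omega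
      rw [a_rec, ihk (by omega), ih k hk']
      rcases Nat.lt_or_ge k n with h | h
      · have e1 : ¬ k = n + 1 + 1 := by omega
        have e2 : ¬ k = n + 1 := by omega
        have e3 : ¬ k = n := by omega
        have e4 : ¬ k + 1 = n + 1 + 1 := by omega
        have e5 : ¬ k + 1 = n + 1 := by omega
        simp [e1, e2, e3, e4, e5]
      · rcases Nat.eq_or_lt_of_le h with h | h
        · subst h
          have e1 : ¬ n = n + 1 + 1 := by omega
          have e2 : ¬ n = n + 1 := by omega
          have e4 : ¬ n + 1 = n + 1 + 1 := by omega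
          simp only [e1, e2, e4, if_false, if_true]
          push_cast [Nat.factorial_succ]
          ring
        · have hkn : k = n + 1 := by omega
          subst hkn
          have e1 : ¬ n + 1 = n + 1 + 1 := by omega
          simp only [e1, if_false, if_true]
          have hc : ((n + 1 + 1).choose 2 : ℤ) = ((n : ℤ) + 1) + ((n + 1).choose 2 : ℤ) := by
            have := Nat.choose_succ_succ (n + 1) 1
            simp only [Nat.choose_one_right] at this
            exact_mod_cast this
          push_cast [Nat.factorial_succ]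
          rw [hc]
          ring

/-- For natural numbers n and k with k ≤ n + 1, the alternating sum over j = 0, …, n of (−1)^(n−j) C(n,
j) j^k (with the convention 0^0 = 1) equals n! · n(n+1)/2 when k = n + 1, equals n! when k = n, and
vanishes when k < n. (The published statement takes n ≥ 1 and divides through by n!; the case n = 0
holds as well and is included.) -/
theorem result (n k : ℕ) (hk : k ≤ n + 1) :
    (∑ j ∈ Finset.range (n + 1), (-1 : ℤ) ^ (n - j) * (n.choose j : ℤ) * (j : ℤ) ^ k) =
      (if k = n + 1 then (((n + 1).choose 2 * n.factorial : ℕ) : ℤ)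
        else if k = n then (n.factorial : ℤ) else 0) := by
  exact a_eq n k hk

end Groth.Agent.S17779
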