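import Groth.Statements.S17780
-- import your own Groth.Agent.* helpers here
import Groth.Agent.S17779
import Mathlib.Tactic.Ring
import Mathlib.Tactic.NormNum

set_option autoImplicit false
universe u
open DRR

namespace Groth.Agent.S17780


open Groth.Agent.S17779 in
theorem sum_cast_aux (A : Type u) [CommRing A] (n k : ℕ) :
    (∑ j ∈ Finset.range (n + 1), (-1 : A) ^ (n - j) * (n.choose j : A) * (j : A) ^ k) =
      ((Groth.Agent.S17779.a n k : ℤ) : A) := by
  unfold Groth.Agent.S17779.a
  push_cast
  rfl

theorem half_aux (n : ℕ) : n * (n + 1).factorial / 2 = (n + 1).choose 2 * n.factorial := by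
  have h := Nat.add_one_mul_choose_eq n 1
  rw [Nat.choose_one_right] at h
  have : n * (n + 1).factorial = 2 * ((n + 1).choose 2 * n.factorial) := by
    rw [Nat.factorial_succ]
    calc n * ((n + 1) * n.factorial) = ((n + 1) * n) * n.factorial := by ring
      _ = ((n + 1).choose (1 + 1) * (1 + 1)) * n.factorial := by rw [h]
      _ = 2 * ((n + 1).choose 2 * n.factorial) := by ring
  rw [this, Nat.mul_div_cancel_left _ (by norm_num : 0 < 2)]

/-- For x, y in a commutative ring and a natural number n, (n+1)! · x · y^n equals the sum over j = 0,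
…, n of (−1)^(n−j) C(n, j) (x + j y)^(n+1), minus (n · (n+1)!/2) · y^(n+1). (The published identity
is stated in ℚ[x, y] with an overall factor 1/(n+1) and the coefficients C(n, j)(−1)^(n−j)/n!; it is
given here multiplied through by (n+1)!, which makes it an identity with integer coefficients valid
in every commutative ring; n · (n+1)!/2 is an integer.) -/
theorem result (A : Type u) [CommRing A] (x y : A) (n : ℕ) :
    ((n + 1).factorial : A) * x * y ^ n =
      (∑ j ∈ Finset.range (n + 1), (-1 : A) ^ (n - j) * (n.choose j : A) * (x + (j : A) * y) ^ (n + 1))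
        - ((n * (n + 1).factorial / 2 : ℕ) : A) * y ^ (n + 1) := by
  have hexp : ∀ j : ℕ, (x + (j : A) * y) ^ (n + 1) =
      ∑ m ∈ Finset.range (n + 1 + 1), x ^ m * ((j : A) * y) ^ (n + 1 - m) * ((n + 1).choose m : A) :=
    fun j => add_pow _ _ _
  have hsum : (∑ j ∈ Finset.range (n + 1), (-1 : A) ^ (n - j) * (n.choose j : A) *
      (x + (j : A) * y) ^ (n + 1)) =
      ∑ m ∈ Finset.range (n + 1 + 1), x ^ m * y ^ (n + 1 - m) * ((n + 1).choose m : A) *
        ((Groth.Agent.S17779.a n (n + 1 - m) : ℤ) : A) := by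
    simp_rw [hexp, Finset.mul_sum]
    rw [Finset.sum_comm]
    apply Finset.sum_congr rfl
    intro m _
    rw [← sum_cast_aux, Finset.mul_sum]
    apply Finset.sum_congr rfl
    intro j _
    rw [mul_pow]
    ring
  rw [hsum, Finset.sum_range_succ', Finset.sum_range_succ']
  have hzero : ∑ m ∈ Finset.range n, x ^ (m + 1 + 1) * y ^ (n + 1 - (m + 1 + 1)) *
      ((n + 1).choose (m + 1 + 1) : A) *
        ((Groth.Agent.S17779.a n (n + 1 - (m + 1 + 1)) : ℤ) : A) = 0 := by
    apply Finset.sum_eq_zero
    intro m hm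
    have hm' := Finset.mem_range.mp hm
    have e1 : ¬ n + 1 - (m + 1 + 1) = n + 1 := by omega
    have e2 : ¬ n + 1 - (m + 1 + 1) = n := by omega
    rw [Groth.Agent.S17779.a_eq n _ (by omega), if_neg e1, if_neg e2, Int.cast_zero, mul_zero]
  rw [hzero, zero_add]
  have e1 : ¬ n + 1 - (0 + 1) = n + 1 := by omega
  have e2 : n + 1 - (0 + 1) = n := by omega
  have ha1 : Groth.Agent.S17779.a n (n + 1 - (0 + 1)) = (n.factorial : ℤ) := by
    rw [Groth.Agent.S17779.a_eq n _ (by omega), if_neg e1, if_pos e2]
  have ha0 : Groth.Agent.S17779.a n (n + 1 - 0) = (((n + 1).choose 2 * n.factorial : ℕ) : ℤ) := by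
    rw [Groth.Agent.S17779.a_eq n _ (by omega), if_pos (by omega)]
  rw [ha1, ha0, half_aux, e2]
  simp only [Nat.sub_zero, zero_add, pow_zero, pow_one, one_mul,
    Nat.choose_zero_right, Nat.choose_one_right, Nat.cast_one, mul_one]
  push_cast [Nat.factorial_succ]
  ring

end Groth.Agent.S17780
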