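import Groth.Statements.S17781
import Mathlib

set_option autoImplicit false
open Variety

namespace Groth.Agent.S17781
section Aux

theorem lucas_one (p : ℕ) [Fact p.Prime] (t e : ℕ) (he : 1 ≤ e) :
    Nat.choose (p ^ t * e - 1) (p ^ t - 1) ≡ 1 [MOD p] := by
  have hp : p.Prime := Fact.out
  induction t with
  | zero => simp [Nat.ModEq]
  | succ t ih =>
    have hpos' : 1 ≤ p ^ t := pow_pos hp.pos t
    have hpos : 1 ≤ p ^ t * e := Nat.mul_pos hpos' he
    have h1 : (p ^ (t + 1) * e - 1) / p = p ^ t * e - 1 ∧ (p ^ (t + 1) * e - 1) % p = p - 1 := by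
      rw [Nat.div_mod_unique hp.pos]
      refine ⟨?_, by have := hp.two_le; omega⟩
      have : p ^ (t + 1) * e = p * (p ^ t * e) := by ring
      rw [this]
      obtain ⟨f, hf⟩ : ∃ f, p ^ t * e = f + 1 := ⟨p ^ t * e - 1, by omega⟩
      rw [hf]
      have := hp.two_le
      rw [Nat.add_sub_cancel, Nat.mul_succ]
      omega
    have h2 : (p ^ (t + 1) - 1) / p = p ^ t - 1 ∧ (p ^ (t + 1) - 1) % p = p - 1 := by
      rw [Nat.div_mod_unique hp.pos]
      refine ⟨?_, by have := hp.two_le; omega⟩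
      have : p ^ (t + 1) = p * p ^ t := by ring
      rw [this]
      obtain ⟨f, hf⟩ : ∃ f, p ^ t = f + 1 := ⟨p ^ t - 1, by omega⟩
      rw [hf]
      have := hp.two_le
      rw [Nat.add_sub_cancel, Nat.mul_succ]
      omega
    have h3 := Choose.choose_modEq_choose_mod_mul_choose_div_nat (p := p)
      (n := p ^ (t + 1) * e - 1) (k := p ^ (t + 1) - 1)
    rw [h1.1, h1.2, h2.1, h2.2, Nat.choose_self, one_mul] at h3
    exact h3.trans ih

theorem primepow_case (G d p t : ℕ) (hp : p.Prime) (hpd : p ^ t ∣ d) (hd : 1 ≤ d)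
    (hG1 : G ∣ d) (hG2 : G ∣ d.choose (p ^ t)) : G ∣ d / p ^ t := by
  haveI : Fact p.Prime := ⟨hp⟩
  obtain ⟨e, he⟩ := hpd
  have hpt : 0 < p ^ t := pow_pos hp.pos t
  have he1 : 1 ≤ e := by
    rcases Nat.eq_zero_or_pos e with h | h
    · rw [h, mul_zero] at he; omega
    · exact h
  have hde : d / p ^ t = e := by rw [he, Nat.mul_div_cancel_left _ hpt]
  rw [hde]
  obtain ⟨D, hD⟩ : ∃ D, d = D + 1 := ⟨d - 1, by omega⟩
  obtain ⟨K, hK⟩ : ∃ K, p ^ t = K + 1 := ⟨p ^ t - 1, by omega⟩
  have hc := lucas_one p t e he1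
  have hcop : Nat.Coprime (p ^ t) (Nat.choose (p ^ t * e - 1) (p ^ t - 1)) := by
    apply Nat.Coprime.pow_left
    rw [Nat.Prime.coprime_iff_not_dvd hp]
    intro hdvd
    have h0 : Nat.choose (p ^ t * e - 1) (p ^ t - 1) ≡ 0 [MOD p] :=
      (Nat.modEq_zero_iff_dvd).2 hdvd
    have := h0.symm.trans hc
    rw [Nat.ModEq, Nat.zero_mod, Nat.mod_eq_of_lt hp.one_lt] at this
    omega
  have hid := Nat.add_one_mul_choose_eq D K
  rw [← hD, ← hK] at hid
  have hDK : Nat.choose (p ^ t * e - 1) (p ^ t - 1) = D.choose K := by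
    rw [← he, hD, hK]; simp
  rw [hDK] at hcop
  have hch : d.choose (p ^ t) = e * D.choose K := by
    have : p ^ t * (e * D.choose K) = p ^ t * d.choose (p ^ t) := by
      rw [← mul_assoc, ← he, hid, mul_comm]
    exact (Nat.eq_of_mul_eq_mul_left hpt this).symm
  rw [hch] at hG2
  rw [he] at hG1
  have := Nat.dvd_gcd hG1 hG2
  rw [mul_comm (p ^ t) e, Nat.gcd_mul_left, hcop.gcd_eq_one, mul_one] at this
  exact this

theorem combine (G d a b : ℕ) (hab : Nat.Coprime a b) (ha : a ∣ d) (hb : b ∣ d) (hd : 1 ≤ d)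
    (h1 : G ∣ d / a) (h2 : G ∣ d / b) : G ∣ d / (a * b) := by
  obtain ⟨f, hf⟩ := hab.mul_dvd_of_dvd_of_dvd ha hb
  have ha0 : 0 < a := Nat.pos_of_dvd_of_pos ha hd
  have hb0 : 0 < b := Nat.pos_of_dvd_of_pos hb hd
  have e1 : d / a = b * f := by rw [hf, mul_assoc, Nat.mul_div_cancel_left _ ha0]
  have e2 : d / b = a * f := by
    rw [hf, mul_comm a b, mul_assoc, Nat.mul_div_cancel_left _ hb0]
  have e3 : d / (a * b) = f := by rw [hf, Nat.mul_div_cancel_left _ (Nat.mul_pos ha0 hb0)]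
  rw [e1] at h1
  rw [e2] at h2
  rw [e3]
  have := Nat.dvd_gcd h1 h2
  rw [Nat.gcd_mul_right, Nat.Coprime.gcd_eq_one hab.symm, one_mul] at this
  exact this

theorem lemB (G d N : ℕ) (hd : 1 ≤ d) (hN : 1 ≤ N) :
    (∀ j, 1 ≤ j → j ≤ N → G ∣ d.choose j) ↔ (∀ δ, 1 ≤ δ → δ ≤ N → δ ∣ d → G ∣ d / δ) := by
  constructor
  · intro h δ
    induction δ using Nat.strong_induction_on with
    | _ δ ih =>
      intro h1 hδN hδd
      have hGd : G ∣ d := by simpa using h 1 le_rfl hN
      rcases Nat.lt_or_ge 1 δ with hlt | hge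
      · obtain ⟨t, δ', hndvd, hδeq⟩ :=
          Nat.exists_eq_pow_mul_and_not_dvd (n := δ) (by omega) δ.minFac
            (Nat.minFac_prime (by omega)).ne_one
        have hp : δ.minFac.Prime := Nat.minFac_prime (by omega)
        have hqd : δ.minFac ∣ δ := Nat.minFac_dvd δ
        obtain ⟨q, hq⟩ : ∃ q, q = δ.minFac := ⟨_, rfl⟩
        rw [← hq] at hndvd hδeq hp hqd
        have ht : 1 ≤ t := by
          rcases Nat.eq_zero_or_pos t with h0 | h0
          · rw [h0, pow_zero, one_mul] at hδeq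
            exact absurd (hδeq ▸ hqd) hndvd
          · exact h0
        have hδ'pos : 0 < δ' := by
          rcases Nat.eq_zero_or_pos δ' with h0 | h0
          · rw [h0, mul_zero] at hδeq; omega
          · exact h0
        have hptpos : 0 < q ^ t := pow_pos hp.pos t
        have hpt_dvd : q ^ t ∣ δ := ⟨δ', hδeq⟩
        have hδ'_dvd : δ' ∣ δ := ⟨q ^ t, by rw [hδeq, mul_comm]⟩
        have hpt_le : q ^ t ≤ δ := Nat.le_of_dvd (by omega) hpt_dvd
        by_cases hδ'1 : δ' = 1
        · rw [hδ'1, mul_one] at hδeq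
          rw [hδeq]
          exact primepow_case G d q t hp (hδeq ▸ hδd) hd hGd
            (h _ hptpos (by omega))
        · have hδ'lt : δ' < δ := by
            rw [hδeq]
            have : 2 ≤ q ^ t := by
              calc 2 ≤ q := hp.two_le
                _ = q ^ 1 := (pow_one _).symm
                _ ≤ q ^ t := Nat.pow_le_pow_right hp.pos ht
            nlinarith
          have hptlt : q ^ t < δ := by
            rw [hδeq]
            have : 2 ≤ δ' := by omega
            nlinarith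
          have r1 := ih _ hptlt hptpos (by omega) (hpt_dvd.trans hδd)
          have r2 := ih _ hδ'lt hδ'pos (by omega) (hδ'_dvd.trans hδd)
          have hcop : Nat.Coprime (q ^ t) δ' := by
            apply Nat.Coprime.pow_left
            rw [Nat.Prime.coprime_iff_not_dvd hp]
            exact hndvd
          have := combine G d _ _ hcop (hpt_dvd.trans hδd) (hδ'_dvd.trans hδd) hd r1 r2
          rwa [← hδeq] at this
      · have : δ = 1 := by omega
        rw [this, Nat.div_one]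
        exact hGd
  · intro h j hj1 hjN
    have hδ0 : 0 < Nat.gcd d j := Nat.gcd_pos_of_pos_left j hd
    have hG := h (Nat.gcd d j) hδ0 ((Nat.le_of_dvd hj1 (Nat.gcd_dvd_right d j)).trans hjN) (Nat.gcd_dvd_left d j)
    refine hG.trans ?_
    obtain ⟨D, hD⟩ : ∃ D, d = D + 1 := ⟨d - 1, by omega⟩
    obtain ⟨K, hK⟩ : ∃ K, j = K + 1 := ⟨j - 1, by omega⟩
    have hid := Nat.add_one_mul_choose_eq D K
    rw [← hD, ← hK] at hid
    have hcop := Nat.coprime_div_gcd_div_gcd hδ0
    have e1 : d = Nat.gcd d j * (d / Nat.gcd d j) := (Nat.mul_div_cancel' (Nat.gcd_dvd_left d j)).symm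
    have e2 : j = Nat.gcd d j * (j / Nat.gcd d j) := (Nat.mul_div_cancel' (Nat.gcd_dvd_right d j)).symm
    have hid' : (d / Nat.gcd d j) * D.choose K = d.choose j * (j / Nat.gcd d j) := by
      apply Nat.eq_of_mul_eq_mul_left hδ0
      calc Nat.gcd d j * ((d / Nat.gcd d j) * D.choose K)
          = (Nat.gcd d j * (d / Nat.gcd d j)) * D.choose K := by ring
        _ = d * D.choose K := by rw [← e1]
        _ = d.choose j * j := hid
        _ = d.choose j * (Nat.gcd d j * (j / Nat.gcd d j)) := by rw [← e2]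
        _ = Nat.gcd d j * (d.choose j * (j / Nat.gcd d j)) := by ring
    have hdvd : d / Nat.gcd d j ∣ d.choose j * (j / Nat.gcd d j) := ⟨_, hid'.symm⟩
    exact hcop.dvd_of_dvd_mul_right hdvd

theorem lemA (G : ℤ) (D N : ℕ) :
    (∀ n, 1 ≤ n → n ≤ N → G ∣ 1 - (-1 : ℤ) ^ n * (D.choose n : ℤ)) ↔
      (∀ j, 1 ≤ j → j ≤ N → G ∣ ((D + 1).choose j : ℤ)) := by
  have hstep : ∀ n : ℕ, (1 - (-1 : ℤ) ^ (n + 1) * (D.choose (n + 1) : ℤ)) =
      (1 - (-1 : ℤ) ^ n * (D.choose n : ℤ)) + (-1) ^ n * ((D + 1).choose (n + 1) : ℤ) := by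
    intro n
    rw [Nat.choose_succ_succ' D n]
    push_cast
    ring
  constructor
  · intro h j hj1 hjN
    obtain ⟨n, rfl⟩ : ∃ n, j = n + 1 := ⟨j - 1, by omega⟩
    have h1 := h (n + 1) hj1 hjN
    have h0 : G ∣ 1 - (-1 : ℤ) ^ n * (D.choose n : ℤ) := by
      rcases Nat.eq_zero_or_pos n with hn | hn
      · rw [hn]; simp
      · exact h n hn (by omega)
    rw [hstep n] at h1
    have h2 := (Int.dvd_add_right h0).1 h1
    rcases neg_one_pow_eq_or ℤ n with hs | hs
    · rw [hs, one_mul] at h2; exact h2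
    · rw [hs, neg_one_mul, dvd_neg] at h2; exact h2
  · intro h n
    induction n with
    | zero => intro h1; omega
    | succ n ih =>
      intro _ hnN
      have h0 : G ∣ 1 - (-1 : ℤ) ^ n * (D.choose n : ℤ) := by
        rcases Nat.eq_zero_or_pos n with hn | hn
        · rw [hn]; simp
        · exact ih hn (by omega)
      rw [hstep n]
      exact dvd_add h0 (Dvd.dvd.mul_left (h (n + 1) (by omega) hnN) _)

end Aux



/-- Let d ≥ 1 and N ≥ 1 be integers and let I(d, N) be the greatest common divisor of the quotients d/δ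
over the divisors δ of d with 1 ≤ δ ≤ N. Then I(d, N) equals the greatest common divisor of the
integers χ(d, n) = 1 − (−1)^n C(d − 1, n) for 1 ≤ n ≤ N (χ(d, n) is the Euler characteristic of O_H
for a degree-d hypersurface H in projective n-space). Both greatest common divisors are taken in ℤ,
normalised to be non-negative. -/
theorem result (d N : ℕ) (hd : 1 ≤ d) (hN : 1 ≤ N) :
    (Finset.Icc 1 N).gcd (fun n => 1 - (-1 : ℤ) ^ n * ((d - 1).choose n : ℤ)) =
      ((Finset.Icc 1 N).filter (fun δ => δ ∣ d)).gcd (fun δ => ((d / δ : ℕ) : ℤ)) := by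
  classical
  obtain ⟨D, rfl⟩ : ∃ D, d = D + 1 := ⟨d - 1, by omega⟩
  rw [Nat.add_sub_cancel]
  have key : ∀ G : ℤ, (∀ n ∈ Finset.Icc 1 N, G ∣ 1 - (-1 : ℤ) ^ n * (D.choose n : ℤ)) ↔
      (∀ δ ∈ (Finset.Icc 1 N).filter (fun δ => δ ∣ D + 1), G ∣ (((D + 1) / δ : ℕ) : ℤ)) := by
    intro G
    have hA := lemA G D N
    have hB := lemB G.natAbs (D + 1) N hd hN
    simp only [Finset.mem_Icc, Finset.mem_filter, and_imp]
    constructor
    · intro h δ h1 h2 h3
      have := hB.1 (fun j hj1 hjN => by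
        have := hA.1 (fun n a b => h n a b) j hj1 hjN
        exact Int.natAbs_dvd_natAbs.2 this |>.trans (by simp)) δ h1 h2 h3
      exact Int.natAbs_dvd.1 (Int.natCast_dvd_natCast.2 this)
    · intro h n h1 h2
      refine hA.2 (fun j hj1 hjN => ?_) n h1 h2
      have := hB.2 (fun δ a b c => by
        have := h δ a b c
        exact Int.natCast_dvd_natCast.1 (Int.natAbs_dvd.2 this)) j hj1 hjN
      exact Int.natAbs_dvd.1 (Int.natCast_dvd_natCast.2 this)
  apply dvd_antisymm_of_normalize_eq (Finset.normalize_gcd) (Finset.normalize_gcd)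
  · apply Finset.dvd_gcd
    exact (key _).1 (fun n hn => Finset.gcd_dvd hn)
  · apply Finset.dvd_gcd
    exact (key _).2 (fun n hn => Finset.gcd_dvd hn)

end Groth.Agent.S17781
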