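import Groth.Statements.S17794
import Mathlib
import Groth.Agent.Lib.Helper10.QuotShBr2
import Groth.Agent.Lib.Helper10.FppfQuot1
import Groth.Agent.Lib.Helper14.LfpOfComp

set_option autoImplicit false
universe u
open CategoryTheory CategoryTheory.Limits MonoidalCategory CartesianMonoidalCategory MonObj GrpObj AlgebraicGeometry
open GrpSch

namespace Groth.Agent.S17794

/-- Let S be a scheme and f : G → H a homomorphism of S-group schemes, both of finite presentation over
S (locally of finite presentation, quasi-compact and quasi-separated), and let i : N → G be the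
kernel of f (the square formed by i, f, the unit section of H and N → S is cartesian). Then f is
faithfully flat (flat and surjective) if and only if the map of representable sheaves h_G → h_H
induced by f on the big fppf site of S is an epimorphism of sheaves of sets and N is flat over S. -/
theorem result {S : Scheme.{u}} {G H N : Over S} [GrpObj G] [GrpObj H] (f : G ⟶ H) [IsMonHom f] [LocallyOfFinitePresentation G.hom] [QuasiCompact G.hom] [QuasiSeparated G.hom] [LocallyOfFinitePresentation H.hom] [QuasiCompact H.hom] [QuasiSeparated H.hom] (i : N ⟶ G) (hi : AlgGrp.IsKernel i f) : (Flat f.left ∧ Surjective f.left) ↔ (Epi (QuotSh.repMap Scheme.fppfPrecoverage f) ∧ Flat N.hom) := by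
  have hN : IsPullback i.left (toUnit N).left f.left η[H].left := by
    have := (show IsPullback i (toUnit N) f η[H] from hi).map (Over.forget S)
    exact this
  have hNhom : (toUnit N).left = N.hom := by
    have := Over.w (toUnit N)
    simpa using this
  constructor
  · rintro ⟨hfl, hsu⟩
    haveI hlfp : LocallyOfFinitePresentation f.left := by
      refine Groth.Agent.Lib.Helper14.AS.locallyOfFinitePresentation_of_comp f.left H.hom ?_
        inferInstance
      rw [Over.w f]
      infer_instance
    refine ⟨Groth.Agent.Lib.Helper10.QuotShBr.epi_repMap_of_fppf f, ?_⟩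
    rw [← hNhom]
    exact MorphismProperty.of_isPullback (P := @Flat) hN hfl
  · rintro ⟨hepi, hNfl⟩
    have hepi' : Epi ((AlgSp.yon S).map f) :=
      (Groth.Agent.Lib.Helper10.QuotShBr.epi_repMap_iff f).mp hepi
    have hkp : IsKernelPair f (fst G N) ((G ◁ i) ≫ μ) :=
      Groth.Agent.Lib.Helper10.FppfQuot.isPullback_of_kernel i f hi
    -- the unit section of the kernel
    have hsec : ∃ e : 𝟙_ (Over S) ⟶ N, True := by
      refine ⟨hi.lift η[G] (𝟙 _) ?_, trivial⟩
      rw [IsMonHom.one_hom, Category.id_comp]
    obtain ⟨e, -⟩ := hsec
    haveI hNsurj : Surjective N.hom := by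
      have h1 : e.left ≫ N.hom = 𝟙 S := by
        have := Over.w e
        simpa using this
      constructor
      intro x
      refine ⟨e.left x, ?_⟩
      rw [← Scheme.Hom.comp_apply, h1]
      rfl
    have hfst : (fst G N).left = Limits.pullback.fst G.hom N.hom := rfl
    constructor
    · refine Groth.Agent.Lib.Helper10.QuotShBr.P_of_epi_of_isKernelPair @Flat f hkp hepi' ?_
      rw [hfst]
      infer_instance
    · refine Groth.Agent.Lib.Helper10.QuotShBr.P_of_epi_of_isKernelPair @Surjective f hkp hepi' ?_
      rw [hfst]
      infer_instance

end Groth.Agent.S17794
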