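import Groth.Statements.S17797
import Mathlib

set_option autoImplicit false
universe u
open CAlg

namespace Groth.Agent.S17797




theorem isLocalization_of_submonoid_eq {R : Type*} [CommRing R] {M N : Submonoid R} (h : M = N)
    (S : Type*) [CommRing S] [Algebra R S] [IsLocalization M S] : IsLocalization N S := by
  subst h
  infer_instance

/-- Suppose k is a field of characteristic zero and S is a local domain that is an essentially
finite-type k-algebra. Then there are an extension field K of k, a K-algebra A of finite type and a
maximal ideal m of A such that S is isomorphic over k to the localization A_m. -/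
theorem result (k : Type u) [Field k] [CharZero k] (S : Type u) [CommRing S] [IsDomain S] [IsLocalRing S] [Algebra k S] [Algebra.EssFiniteType k S] : ∃ (K : Type u) (_ : Field K) (_ : Algebra k K) (A : Type u) (_ : CommRing A) (_ : Algebra K A) (_ : Algebra k A) (_ : IsScalarTower k K A) (_ : Algebra.FiniteType K A) (m : Ideal A) (_ : m.IsMaximal), Nonempty (S ≃ₐ[k] Localization.AtPrime m) := by

  classical
  obtain ⟨s, hs⟩ := exists_isTranscendenceBasis k (IsLocalRing.ResidueField S)
  choose t ht using fun i : s => IsLocalRing.residue_surjective (i : IsLocalRing.ResidueField S)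
  let φ : MvPolynomial s k →ₐ[k] S := MvPolynomial.aeval t
  have hφres : ∀ p, IsLocalRing.residue S (φ p) =
      MvPolynomial.aeval (Subtype.val : s → IsLocalRing.ResidueField S) p := by
    intro p
    have h1 : (IsScalarTower.toAlgHom k S (IsLocalRing.ResidueField S)).comp φ =
        MvPolynomial.aeval (Subtype.val : s → IsLocalRing.ResidueField S) := by
      apply MvPolynomial.algHom_ext
      intro i
      change IsLocalRing.residue S (MvPolynomial.aeval t (MvPolynomial.X i)) = _
      rw [MvPolynomial.aeval_X, MvPolynomial.aeval_X, ht]
    exact congrArg (fun m : MvPolynomial s k →ₐ[k] IsLocalRing.ResidueField S => m p) h1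
  have hinj : Function.Injective
      (MvPolynomial.aeval (Subtype.val : s → IsLocalRing.ResidueField S) :
        MvPolynomial s k →ₐ[k] IsLocalRing.ResidueField S) := hs.1
  have hunit : ∀ p : nonZeroDivisors (MvPolynomial s k), IsUnit ((φ : MvPolynomial s k →+* S) p) := by
    intro p
    have hp : (p : MvPolynomial s k) ≠ 0 := nonZeroDivisors.ne_zero p.2
    by_contra hnu
    have h1 : φ p ∈ IsLocalRing.maximalIdeal S := hnu
    rw [← IsLocalRing.residue_eq_zero_iff, hφres] at h1
    exact hp (hinj (h1.trans (map_zero _).symm))
  let K := FractionRing (MvPolynomial s k)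
  let ψ : K →+* S := IsLocalization.lift (M := nonZeroDivisors (MvPolynomial s k)) hunit
  have hψ : ∀ p, ψ (algebraMap (MvPolynomial s k) K p) = φ p :=
    fun p => IsLocalization.lift_eq hunit p
  letI : Algebra K S := ψ.toAlgebra
  haveI : IsScalarTower k K S := IsScalarTower.of_algebraMap_eq (fun c => by
    change algebraMap k S c = ψ (algebraMap k K c)
    rw [IsScalarTower.algebraMap_apply k (MvPolynomial s k) K, hψ, AlgHom.commutes])
  haveI : Algebra.EssFiniteType K S := Algebra.EssFiniteType.of_comp k K S
  letI : Algebra (MvPolynomial s k) S := φ.toRingHom.toAlgebra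
  haveI : IsScalarTower (MvPolynomial s k) K S := IsScalarTower.of_algebraMap_eq (fun p => by
    change φ p = ψ (algebraMap (MvPolynomial s k) K p)
    rw [hψ])
  have halg : Algebra.IsAlgebraic K (IsLocalRing.ResidueField S) := by
    have h0 := hs.isAlgebraic
    rw [Algebra.adjoin_range_eq_range_aeval] at h0
    refine ⟨fun y => ?_⟩
    have h1 : IsAlgebraic (MvPolynomial s k) y := by
      let f : MvPolynomial s k →+*
          (MvPolynomial.aeval (Subtype.val : s → IsLocalRing.ResidueField S)).range :=
        (MvPolynomial.aeval (Subtype.val : s → IsLocalRing.ResidueField S)).rangeRestrict.toRingHom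
      have hf : Function.Surjective f := by
        intro x
        obtain ⟨p, hp⟩ := AlgHom.rangeRestrict_surjective
          (MvPolynomial.aeval (Subtype.val : s → IsLocalRing.ResidueField S)) x
        exact ⟨p, hp⟩
      refine IsAlgebraic.of_ringHom_of_comp_eq f (RingHom.id (IsLocalRing.ResidueField S))
        (h0.isAlgebraic y) hf Function.injective_id ?_
      apply RingHom.ext
      intro p
      change MvPolynomial.aeval (Subtype.val : s → IsLocalRing.ResidueField S) p =
        IsLocalRing.residue S (φ p)
      rw [hφres]
    exact h1.extendScalars (IsFractionRing.injective (MvPolynomial s k) K)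
  let A := Algebra.EssFiniteType.subalgebra K S
  let m : Ideal A := (IsLocalRing.maximalIdeal S).comap (algebraMap A S)
  haveI hmprime : m.IsPrime := Ideal.comap_isPrime _ _
  have hsub : Algebra.EssFiniteType.submonoid K S = m.primeCompl := by
    ext a
    change IsUnit (algebraMap A S a) ↔ a ∉ m
    rw [Ideal.mem_comap, IsLocalRing.mem_maximalIdeal, mem_nonunits_iff, not_not]
  haveI : IsLocalization m.primeCompl S := isLocalization_of_submonoid_eq hsub S
  let g : A →ₐ[K] IsLocalRing.ResidueField S :=
    (IsScalarTower.toAlgHom K S (IsLocalRing.ResidueField S)).comp A.val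
  have hker : RingHom.ker g = m := by
    ext a
    rw [RingHom.mem_ker, Ideal.mem_comap]
    change IsLocalRing.residue S (a : S) = 0 ↔ _
    rw [IsLocalRing.residue_eq_zero_iff]
    rfl
  have hfield : IsField g.range := Subalgebra.isField_of_algebraic g.range
  letI := hfield.toField
  have hmax : m.IsMaximal := by
    rw [← hker]
    have h1 : RingHom.ker g = RingHom.ker g.rangeRestrict := by
      ext a
      rw [RingHom.mem_ker, RingHom.mem_ker, Subtype.ext_iff]
      rfl
    rw [h1]
    exact RingHom.ker_isMaximal_of_surjective _ g.rangeRestrict_surjective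
  refine ⟨K, inferInstance, inferInstance, A, inferInstance, inferInstance, inferInstance,
    inferInstance, inferInstance, m, hmax, ⟨?_⟩⟩
  exact (IsLocalization.algEquiv m.primeCompl S (Localization.AtPrime m)).restrictScalars k

end Groth.Agent.S17797
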