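import Groth.Statements.S17803
import Mathlib
import Groth.Agent.Lib.Helper23.ComplSurj
-- import your own Groth.Agent.* helpers here

set_option autoImplicit false
universe u
open EGA4

namespace Groth.Agent.S17803
open IsLocalRing Groth.Agent.Lib.Helper23.ComplSurj


/-- Let A be an excellent normal domain which is a quotient of a regular ring, I an ideal of A and f ∈
A. Then the I-adic completion of the localization A_f is a normal ring (its localization at every
prime ideal is an integrally closed domain), and it is a quotient of a regular ring. -/
theorem result (A : Type u) [CommRing A] [IsDomain A] [IsIntegrallyClosed A] (hexc : EGA4.IsExcellent A) (hreg : ∃ (R : Type u) (_ : CommRing R) (_ : IsRegularRing R) (φ : R →+* A), Function.Surjective φ) (I : Ideal A) (f : A) : EGA4.IsNormalRing (AdicCompletion (I.map (algebraMap A (Localization.Away f))) (Localization.Away f)) ∧ ∃ (R' : Type u) (_ : CommRing R') (_ : IsRegularRing R') (ψ : R' →+* AdicCompletion (I.map (algebraMap A (Localization.Away f))) (Localization.Away f)), Function.Surjective ψ := by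
  obtain ⟨hN, -, hG, -⟩ := hexc
  haveI := hN
  haveI : IsNoetherianRing (Localization.Away f) :=
    IsLocalization.isNoetherianRing (Submonoid.powers f) _ inferInstance
  have hG' : CAlg.IsGRing (Localization.Away f) :=
    Groth.Agent.Lib.Helper18.Exc.isGRing_of_isLocalization A (Submonoid.powers f) _ hG
  have hR := Groth.Agent.S0600.result (Localization.Away f) hG'
    (I.map (algebraMap A (Localization.Away f)))
  constructor
  · intro Q hQ
    refine Groth.Agent.Lib.Helper18.J2.normal_atPrime_of_isRegularHom (Localization.Away f) _ hR Q ?_
    set P := Q.comap (algebraMap (Localization.Away f) (AdicCompletion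
      (I.map (algebraMap A (Localization.Away f))) (Localization.Away f))) with hP
    haveI : P.IsPrime := Ideal.comap_isPrime _ Q
    haveI hloc : IsLocalization.AtPrime (Localization.AtPrime P)
        (P.comap (algebraMap A (Localization.Away f))) :=
      IsLocalization.isLocalization_isLocalization_atPrime_isLocalization (Submonoid.powers f) _ P
    have hdom : IsDomain (Localization.AtPrime P) :=
      IsLocalization.isDomain_of_atPrime (Localization.AtPrime P)
        (P.comap (algebraMap A (Localization.Away f)))
    refine ⟨hdom, ?_⟩
    exact isIntegrallyClosed_of_isLocalization (R := A) (S := Localization.AtPrime P)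
      (P.comap (algebraMap A (Localization.Away f))).primeCompl
      (Ideal.primeCompl_le_nonZeroDivisors _)
  · obtain ⟨R, _, hRreg, φ, hφ⟩ := hreg
    obtain ⟨g, rfl⟩ := hφ f
    haveI : IsRegularRing (Localization.Away g) :=
      Groth.Agent.Lib.Helper16.PDR.isRegularRing_localization R _
    let φg : Localization.Away g →+* Localization.Away (φ g) :=
      IsLocalization.Away.map (Localization.Away g) (Localization.Away (φ g)) φ g
    have hφg : Function.Surjective φg := by
      intro y
      obtain ⟨a, ⟨_, n, rfl⟩, rfl⟩ := IsLocalization.exists_mk'_eq (Submonoid.powers (φ g)) y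
      obtain ⟨r, rfl⟩ := hφ a
      refine ⟨IsLocalization.mk' (Localization.Away g) r
        (⟨g ^ n, ⟨n, rfl⟩⟩ : Submonoid.powers g), ?_⟩
      change IsLocalization.map _ φ _ _ = _
      rw [IsLocalization.map_mk']
      congr 1
      exact Subtype.ext (map_pow φ g n)
    let K := I.map (algebraMap A (Localization.Away (φ g)))
    let J := K.comap φg
    have hJK : J.map φg = K := Ideal.map_comap_of_surjective φg hφg K
    haveI := Groth.Agent.Lib.Helper23.RegularCompletion.t5785main (Localization.Away g) J
    exact ⟨AdicCompletion J (Localization.Away g), inferInstance, inferInstance,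
      FSch.complMap J K φg hJK.le, complMap_surjective J K φg hφg hJK⟩

end Groth.Agent.S17803
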