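import Groth.Statements.S1781
import Groth.Agent.Lib.Helper13.Shriek5

set_option autoImplicit false
universe u
open CategoryTheory
attribute [local instance] HasDerivedCategory.standard
open Dual2

namespace Groth.Agent.S1781

/-- Let R → A be a ring map of finite type between Noetherian rings. Here φ^!(K) is formed from a
presentation ψ : R[x_1, …, x_n] → A as RHom_P(A, K ⊗^L_R P)[n], assuming the derived base change to
P exists and taking for RHom_P(A, −) a right adjoint of restriction of scalars along ψ. For two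
presentations (with n and m variables) the resulting objects of D(A) are isomorphic, for every K in
D(R). -/
theorem result (R A : Type u) [CommRing R] [CommRing A] [IsNoetherianRing R] [IsNoetherianRing A] [Algebra R A] (n : ℕ) (ψ : MvPolynomial (Fin n) R →ₐ[R] A) (hψ : Function.Surjective ψ) [DRing.HasLBaseChange (algebraMap R (MvPolynomial (Fin n) R))] (Rψ : Dual.D (MvPolynomial (Fin n) R) ⥤ Dual.D A) (adj : DRing.restrictD ψ.toRingHom ⊣ Rψ) (m : ℕ) (ψ' : MvPolynomial (Fin m) R →ₐ[R] A) (hψ' : Function.Surjective ψ') [DRing.HasLBaseChange (algebraMap R (MvPolynomial (Fin m) R))] (Rψ' : Dual.D (MvPolynomial (Fin m) R) ⥤ Dual.D A) (adj' : DRing.restrictD ψ'.toRingHom ⊣ Rψ') (K : Dual.D R) : Nonempty (Dual2.shriekVia n Rψ K ≅ Dual2.shriekVia m Rψ' K) := by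
  open Groth.Agent.Lib.Helper13.Shriek Groth.Agent.Lib.Helper13.Coind in
  obtain ⟨i⟩ := Sh_independent ψ hψ ψ' hψ' K
  open Groth.Agent.Lib.Helper13.Shriek Groth.Agent.Lib.Helper13.Coind in
  let e1 : Rψ ≅ Rco ψ.toRingHom := uniq ψ.toRingHom Rψ adj
  open Groth.Agent.Lib.Helper13.Shriek Groth.Agent.Lib.Helper13.Coind in
  let e2 : Rψ' ≅ Rco ψ'.toRingHom := uniq ψ'.toRingHom Rψ' adj'
  exact ⟨(CategoryTheory.shiftFunctor (Dual.D A) (n : ℤ)).mapIso (e1.app _) ≪≫ i ≪≫
    (CategoryTheory.shiftFunctor (Dual.D A) (m : ℤ)).mapIso (e2.app _).symm⟩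

end Groth.Agent.S1781
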