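import Groth.Statements.S17825
-- import your own Groth.Agent.* helpers here

set_option autoImplicit false
universe u
open CategoryTheory CategoryTheory.Limits AlgebraicGeometry
open JacVar

namespace Groth.Agent.S17825

/-- Let S be a scheme, Y an S-scheme separated over S, F a presheaf of sets on the category of
S-schemes, f : h_Y ⟶ F a morphism from the functor of points of Y, and s : F ⟶ h_Y a section of f (s
followed by f is the identity). Then F is represented by a closed subscheme of Y: there are an
S-scheme Z, a morphism i : Z ⟶ Y over S which is a closed immersion, and an isomorphism F ≅ h_Z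
whose composite with h_i : h_Z ⟶ h_Y is s. (The published lemma treats the case where Y is the r-th
symmetric power of a curve, F the functor of degree-r invertible families modulo twisting and f the
divisor-class map.) -/
theorem result {S : Scheme.{u}} (Y : Over S) [IsSeparated Y.hom]
    (F : (Over S)ᵒᵖ ⥤ Type u) (f : yoneda.obj Y ⟶ F) (s : F ⟶ yoneda.obj Y) (hsf : s ≫ f = 𝟙 F) :
    ∃ (Z : Over S) (i : Z ⟶ Y), IsClosedImmersion i.left ∧
      ∃ e : F ≅ yoneda.obj Z, e.hom ≫ yoneda.map i = s := by
  let ε : Y ⟶ Y := Yoneda.fullyFaithful.preimage (f ≫ s)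
  have hε : yoneda.map ε = f ≫ s := Yoneda.fullyFaithful.map_preimage (f ≫ s)
  have hε' : ∀ (T : (Over S)ᵒᵖ) (g : T.unop ⟶ Y), g ≫ ε = s.app T (f.app T g) := by
    intro T g
    have := congrFun (congrArg (fun η => η.app T) hε) g
    simpa using this
  have hsf' : ∀ (T : (Over S)ᵒᵖ) (x : F.obj T), f.app T (s.app T x) = x := by
    intro T x
    have := congrFun (congrArg (fun η => η.app T) hsf) x
    simpa using this
  let i : equalizer (𝟙 Y) ε ⟶ Y := equalizer.ι (𝟙 Y) ε
  have hi : i ≫ ε = i := by
    have := equalizer.condition (𝟙 Y) ε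
    simpa using this.symm
  have hlift : ∀ (T : (Over S)ᵒᵖ) (x : F.obj T), s.app T x ≫ 𝟙 Y = s.app T x ≫ ε := by
    intro T x
    rw [Category.comp_id, hε', hsf']
  have hcl : IsClosedImmersion i.left := inferInstance
  refine ⟨equalizer (𝟙 Y) ε, i, hcl, ?_⟩
  let e : F ≅ yoneda.obj (equalizer (𝟙 Y) ε) := NatIso.ofComponents (fun T => Equiv.toIso
    { toFun := fun x => equalizer.lift (s.app T x) (hlift T x)
      invFun := fun z => f.app T (z ≫ i)
      left_inv := by
        intro x
        change f.app T (equalizer.lift (s.app T x) (hlift T x) ≫ i) = x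
        rw [equalizer.lift_ι, hsf']
      right_inv := by
        intro z
        change equalizer.lift (s.app T (f.app T (z ≫ i))) _ = z
        apply equalizer.hom_ext
        rw [equalizer.lift_ι, ← hε', Category.assoc, hi] }) (by
      intro T T' φ
      ext x
      apply equalizer.hom_ext
      change equalizer.lift (s.app T' (F.map φ x)) _ ≫ equalizer.ι (𝟙 Y) ε =
        (φ.unop ≫ equalizer.lift (s.app T x) _) ≫ equalizer.ι (𝟙 Y) ε
      rw [equalizer.lift_ι, Category.assoc, equalizer.lift_ι]
      have := NatTrans.naturality_apply s φ x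
      rw [this]
      rfl)
  refine ⟨e, ?_⟩
  ext T x
  change equalizer.lift (s.app T x) _ ≫ i = s.app T x
  exact equalizer.lift_ι _ _

end Groth.Agent.S17825
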