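import Groth.Statements.S1783
import Groth.Agent.Lib.Helper13.ShriekCoh

set_option autoImplicit false
universe u
open CategoryTheory
attribute [local instance] HasDerivedCategory.standard
open Dual2

namespace Groth.Agent.S1783

/-- Let R → A be a ring map of finite type between Noetherian rings, where φ^!(K) is formed from a
presentation ψ : R[x_1, …, x_n] → A as RHom_P(A, K ⊗^L_R P)[n], assuming the derived base change to
P exists and taking for RHom_P(A, −) a right adjoint of restriction of scalars along ψ. If K in D(R)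
has vanishing cohomology below some degree, then so does φ^!(K); if moreover all cohomology modules
of K are finite R-modules, then all cohomology modules of φ^!(K) are finite A-modules. -/
theorem result (R A : Type u) [CommRing R] [CommRing A] [IsNoetherianRing R] [IsNoetherianRing A] [Algebra R A] (n : ℕ) (ψ : MvPolynomial (Fin n) R →ₐ[R] A) (hψ : Function.Surjective ψ) [DRing.HasLBaseChange (algebraMap R (MvPolynomial (Fin n) R))] (Rψ : Dual.D (MvPolynomial (Fin n) R) ⥤ Dual.D A) (adj : DRing.restrictD ψ.toRingHom ⊣ Rψ) (K : Dual.D R) (a : ℤ) (hKa : ∀ i : ℤ, i < a → Subsingleton (Dual.HD R K i)) : (∃ b : ℤ, ∀ i : ℤ, i < b → Subsingleton (Dual.HD A (Dual2.shriekVia n Rψ K) i)) ∧ ((∀ i : ℤ, Module.Finite R (Dual.HD R K i)) → ∀ i : ℤ, Module.Finite A (Dual.HD A (Dual2.shriekVia n Rψ K) i)) := by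
  open Groth.Agent.Lib.Helper13.Shriek Groth.Agent.Lib.Helper13.Coind Groth.Agent.Lib.Helper13.PC in
  have hGE : K.IsGE a := by
    rw [DerivedCategory.isGE_iff]
    intro j hj
    have := hKa j hj
    exact ModuleCat.isZero_of_subsingleton _
  let _ : Algebra (MvPolynomial (Fin n) R) A := ψ.toRingHom.toAlgebra
  have hfinA : Module.Finite (MvPolynomial (Fin n) R) A :=
    Module.Finite.of_surjective (Algebra.linearMap (MvPolynomial (Fin n) R) A) hψ
  let X := (DRing.LBaseChange (algebraMap R (MvPolynomial (Fin n) R))).obj K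
  have hX : X.IsGE a := Groth.Agent.Lib.Helper13.Shriek.isGE_LBaseChange R (MvPolynomial (Fin n) R) K a
  have hY : ((Groth.Agent.Lib.Helper13.Coind.Rco (algebraMap (MvPolynomial (Fin n) R) A)).obj X).IsGE a :=
    Groth.Agent.Lib.Helper13.Shriek.isGE_Rco X a
  let e : Rψ.obj X ≅ (Groth.Agent.Lib.Helper13.Coind.Rco (algebraMap (MvPolynomial (Fin n) R) A)).obj X :=
    (Groth.Agent.Lib.Helper13.Coind.uniq (algebraMap (MvPolynomial (Fin n) R) A) Rψ adj).app X
  let ι : ∀ i : ℤ, (DerivedCategory.homologyFunctor (ModuleCat.{u} A) i).obj (Dual2.shriekVia n Rψ K) ≅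
      (DerivedCategory.homologyFunctor (ModuleCat.{u} A) ((n : ℤ) + i)).obj
        ((Groth.Agent.Lib.Helper13.Coind.Rco (algebraMap (MvPolynomial (Fin n) R) A)).obj X) :=
    fun i => ((DerivedCategory.homologyFunctor (ModuleCat.{u} A) 0).shiftIso (n : ℤ) i ((n : ℤ) + i) rfl).app (Rψ.obj X) ≪≫
      (DerivedCategory.homologyFunctor (ModuleCat.{u} A) ((n : ℤ) + i)).mapIso e
  refine ⟨⟨a - n, fun i hi => ?_⟩, fun hfin i => ?_⟩
  · have hz : CategoryTheory.Limits.IsZero ((DerivedCategory.homologyFunctor (ModuleCat.{u} A) ((n : ℤ) + i)).obj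
        ((Groth.Agent.Lib.Helper13.Coind.Rco (algebraMap (MvPolynomial (Fin n) R) A)).obj X)) :=
      (DerivedCategory.isGE_iff _ a).1 hY _ (by omega)
    exact ModuleCat.subsingleton_of_isZero (hz.of_iso (ι i))
  · have hfX : ∀ j : ℤ, Module.Finite (MvPolynomial (Fin n) R)
        ((DerivedCategory.homologyFunctor (ModuleCat.{u} (MvPolynomial (Fin n) R)) j).obj X) :=
      fun j => Groth.Agent.Lib.Helper13.Shriek.finite_HD_LBaseChange R (MvPolynomial (Fin n) R) K j (hfin j)
    have h := Groth.Agent.Lib.Helper13.FC.finite_homology_Rco (B := A) X a hfX ((n : ℤ) + i)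
    exact Module.Finite.equiv (ι i).symm.toLinearEquiv

end Groth.Agent.S1783
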