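import Groth.Statements.S17833
import Mathlib
import Groth.Agent.Lib.Helper10.ProperConst1
import Groth.Agent.Lib.Helper10.ExactQuot1
import Groth.Agent.Lib.Helper10.FppfQuot1
import Groth.Agent.Lib.Helper14.ReducedEtale

set_option autoImplicit false
universe u
open CategoryTheory MonoidalCategory CartesianMonoidalCategory MonObj GrpObj AlgebraicGeometry
open AlgGrp

namespace Groth.Agent.S17833

/-- Over an algebraically closed field k, let G be a connected smooth k-group scheme of finite type (in
the terminology of the notes, a smooth connected algebraic group), and H an affine normal subgroup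
scheme of G such that the quotient G/H is an abelian variety: here j : H → G is the kernel of a flat
surjective homomorphism q : G → Q of k-group schemes with Q proper over k, and H is affine. Then an
automorphism u of the algebraic group G which fixes H pointwise (j ∘ u = j) and induces the identity
of Q (q ∘ u = q) is the identity. Equivalently, the map from the group of automorphisms of G fixing
H pointwise to the automorphism group of G/H is injective. -/
theorem result (k : Type u) [Field k] [IsAlgClosed k]
    (G H Q : Over (Spec (CommRingCat.of k))) [GrpObj G] [GrpObj H] [GrpObj Q]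
    [Smooth G.hom] [QuasiCompact G.hom] [ConnectedSpace ↥G.left]
    [IsAffine H.left] [IsProper Q.hom]
    (j : H ⟶ G) [IsMonHom j] (q : G ⟶ Q) [IsMonHom q] [Flat q.left] [Surjective q.left]
    (hker : AlgGrp.IsKernel j q)
    (u : G ≅ G) [IsMonHom u.hom] (hH : j ≫ u.hom = j) (hQ : u.hom ≫ q = q) :
    u.hom = 𝟙 G := by
  classical
  -- basic properties of `q` and `Q`
  haveI : QuasiCompact q.left := by
    haveI : QuasiCompact (q.left ≫ Q.hom) := by rw [Over.w]; infer_instance
    exact QuasiCompact.of_comp q.left Q.hom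
  haveI : IsReduced (Spec (CommRingCat.of k)) := inferInstance
  haveI : IsReduced G.left := Groth.Agent.Lib.Helper14.isReduced_of_smooth_scheme G.hom
  haveI : IsReduced Q.left := Groth.Agent.Lib.Helper14.isReduced_of_flat_surjective q.left
  haveI : ConnectedSpace ↥Q.left := by
    have hsurj : Function.Surjective q.left.base := q.left.surjective
    haveI : Nonempty ↥Q.left := (inferInstance : Nonempty ↥G.left).map q.left.base
    haveI : PreconnectedSpace ↥Q.left := ⟨by
      rw [← Set.image_univ_of_surjective hsurj]
      exact (isPreconnected_univ (α := ↥G.left)).image _ q.left.continuous.continuousOn⟩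
    exact ConnectedSpace.mk ‹_›
  haveI : UniversallyClosed Q.hom := inferInstance
  -- the kernel pair
  have sq : IsPullback (fst G H) ((G ◁ j) ≫ μ[G]) q q :=
    Groth.Agent.Lib.Helper10.FppfQuot.isPullback_of_kernel j q hker
  haveI : Mono j := ⟨fun a b hab => hker.hom_ext hab (toUnit_unique _ _)⟩
  have hloc : NonAbH1.IsLocallyTrivialFor Scheme.fpqcPrecoverage (Over.mk q.left : Over Q.left) := by
    refine ⟨Presieve.singleton q.left, Scheme.Hom.singleton_mem_fpqcPrecoverage _, ?_⟩
    rintro S' f ⟨⟩
    exact ⟨𝟙 _, Category.id_comp _⟩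
  -- the difference morphism
  let φ : G ⟶ G := u.hom * (𝟙 G)⁻¹
  have hφq : φ ≫ q = toUnit G ≫ η[Q] := by
    rw [MonObj.mul_comp, GrpObj.inv_comp, hQ, Category.id_comp, mul_inv_cancel, Hom.one_def]
  let φ' : G ⟶ H := hker.lift φ (toUnit G) hφq
  have hφ' : φ' ≫ j = φ := hker.lift_fst _ _ _
  have hinv : ∀ (T : Over (Spec (CommRingCat.of k))) (x : T ⟶ G) (g : T ⟶ H),
      (x * (g ≫ j)) ≫ φ' = x ≫ φ' := by
    intro T x g
    rw [← cancel_mono j, Category.assoc, Category.assoc, hφ']
    simp only [φ, MonObj.comp_mul, GrpObj.comp_inv, Category.comp_id]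
    rw [MonObj.mul_comp, Category.assoc, hH, _root_.mul_inv_rev, _root_.mul_assoc,
      ← _root_.mul_assoc (g ≫ j), mul_inv_cancel, _root_.one_mul]
  obtain ⟨ψ, hψ, -⟩ :=
    Groth.Agent.Lib.Helper10.ExactQuot.exists_unique_desc_of_exact sq hloc φ' hinv
  obtain ⟨h, hh⟩ := Groth.Agent.Lib.Helper10.ProperConst.exists_eq_toUnit_comp Q H ψ
  have hφ'2 : φ' = toUnit G ≫ h := by
    rw [← hψ, hh, ← Category.assoc, toUnit_unique (q ≫ toUnit Q) (toUnit G)]
  have hh1 : h ≫ j = η[G] := by
    have h1 : η[G] ≫ φ' ≫ j = η[G] := by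
      rw [hφ']
      simp only [φ, MonObj.comp_mul, GrpObj.comp_inv, Category.comp_id]
      rw [IsMonHom.one_hom (f := u.hom), mul_inv_cancel, Hom.one_def,
        toUnit_unique (toUnit (𝟙_ _)) (𝟙 _), Category.id_comp]
    rw [hφ'2, ← Category.assoc, ← Category.assoc, toUnit_unique (η[G] ≫ toUnit G) (𝟙 _),
      Category.id_comp] at h1
    exact h1
  have hφ1 : φ = 1 := by
    rw [← hφ', hφ'2, Category.assoc, hh1, Hom.one_def]
  have : u.hom * (𝟙 G)⁻¹ = 1 := hφ1
  exact mul_inv_eq_one.mp this

end Groth.Agent.S17833
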