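import Groth.Statements.S17840
import Groth.Agent.Lib.Helper21.FibDim10
-- import your own Groth.Agent.* helpers here

set_option autoImplicit false
universe u
open CategoryTheory AlgebraicGeometry
open Cyc

namespace Groth.Agent.S17840

/-- Let (Y, δY) be a locally Noetherian scheme with universally catenary local rings and a dimension
function, f : X ⟶ Y a flat morphism locally of finite type between irreducible schemes with generic
points ξ and η, and δX the induced function on X, δX(x) = δY(f x) + trdeg_{κ(f x)} κ(x). Put d =
δX(ξ) − δY(η). Then d ≥ 0, every irreducible component of every fibre of f has dimension d, and for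
every point x of X the fibre of f over f(x) has dimension d. (The published statement is for schemes
separated of finite type over a Noetherian excellent regular separated base S with δ the S-dimension
— transcendence degree of the residue field minus the dimension of the local ring of S at the image
point — and for the fibre over every point of Y; the fibre over a point outside f(X) is empty, so
the dimension statement is made here at points of the image; this row allows any dimension function
δY on a locally Noetherian Y with universally catenary local rings, with δX induced from it.) -/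
theorem result {X Y : Scheme.{u}} (f : X ⟶ Y) [Flat f] [LocallyOfFiniteType f]
    [IrreducibleSpace X] [IrreducibleSpace Y] (δX : X → ℤ) (δY : Y → ℤ) (hY : Cyc.IsSetup Y δY)
    (hδ : Cyc.DeltaCompat f δX δY) :
    0 ≤ δX (genericPoint X) - δY (genericPoint Y) ∧
      Cyc.HasRelDim f (δX (genericPoint X) - δY (genericPoint Y)).toNat ∧
      ∀ x : X, topologicalKrullDim ↥(f.fiber (f x)) =
        ((δX (genericPoint X) - δY (genericPoint Y)).toNat : WithBot ℕ∞) := by
  have : IsLocallyNoetherian Y := hY.1
  have hη : f (genericPoint X) = genericPoint Y :=
    Groth.Agent.Lib.Helper21.FibDim.map_genericPoint_of_flat f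
  obtain ⟨n, hn1, hn2⟩ := hδ (genericPoint X)
  have hd : δX (genericPoint X) - δY (genericPoint Y) = (n : ℤ) := by
    rw [hn2, hη]
    ring
  rw [hd]
  have hrel : Cyc.HasRelDim f n := by
    intro y Z hZ
    obtain ⟨z, hz, hdimZ, hmax⟩ :=
      Groth.Agent.Lib.Helper21.FibDim.exists_isGenericPoint_fiber f y Z hZ
    obtain ⟨ξ, m, hcomp, hsp, hm1, -, -, hm4⟩ :=
      Groth.Agent.Lib.Helper21.FibDim.exists_generic_trdeg_eq_of_flat f (f.fiberι y z) hmax
    have hξ : ξ = genericPoint X :=
      (Groth.Agent.Lib.Helper21.FibDim.eq_of_specializes_of_closure_mem ξ hcomp _
        (genericPoint_specializes ξ)).symm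
    subst hξ
    have hmn : m = n := by
      have h4 : (m : Cardinal.{u}) = n := by rw [← hm4, ← hn1]
      exact_mod_cast h4
    rw [hdimZ, hm1, hmn]
  refine ⟨by positivity, ?_, fun x => ?_⟩
  · simpa using hrel
  · have := Groth.Agent.Lib.Helper21.FibDim.topologicalKrullDim_fiber_eq_of_hasRelDim f n hrel x
    simpa using this

end Groth.Agent.S17840
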