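import Groth.Statements.S17843
import Mathlib

set_option autoImplicit false
universe u v
open CAlg

namespace Groth.Agent.S17843



section Helpers
open Polynomial
variable {R : Type u} [CommRing R] (r : R)

/-- clear denominators of finitely many polynomials over `R[1/r]` by a common power of `r` -/
theorem clear {k : ℕ} (q : Fin k → Polynomial (Localization.Away r)) :
    ∃ n₀ : ℕ, ∃ Q : Fin k → Polynomial R, ∀ i,
      (Q i).map (algebraMap R (Localization.Away r)) =
        C (algebraMap R (Localization.Away r) (r ^ n₀)) * q i := by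
  classical
  have h : ∀ i, ∃ n : ℕ, (IsLocalization.integerNormalization (Submonoid.powers r) (q i)).map
      (algebraMap R (Localization.Away r)) = C (algebraMap R (Localization.Away r) (r ^ n)) * q i := by
    intro i
    obtain ⟨⟨b, n, rfl⟩, hb⟩ :=
      IsLocalization.integerNormalization_map_to_map (Submonoid.powers r) (q i)
    refine ⟨n, ?_⟩
    rw [hb, Algebra.smul_def, IsScalarTower.algebraMap_apply R (Localization.Away r)
      (Polynomial (Localization.Away r)), Polynomial.algebraMap_apply,
      Algebra.algebraMap_self_apply]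
  choose n hn using h
  refine ⟨∑ i, n i, fun i => C (r ^ ((∑ j, n j) - n i)) *
    IsLocalization.integerNormalization (Submonoid.powers r) (q i), fun i => ?_⟩
  have hle : n i ≤ ∑ j, n j := Finset.single_le_sum (fun _ _ => Nat.zero_le _) (Finset.mem_univ i)
  rw [Polynomial.map_mul, Polynomial.map_C, hn i, ← mul_assoc, ← C_mul, ← map_mul, ← pow_add,
    Nat.sub_add_cancel hle]

/-- kill finitely many elements of `R` vanishing in `R[1/r]` by a common power of `r` -/
theorem kill (S : Finset R) (h : ∀ z ∈ S, algebraMap R (Localization.Away r) z = 0) :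
    ∃ M : ℕ, ∀ z ∈ S, r ^ M * z = 0 := by
  classical
  induction S using Finset.induction_on with
  | empty => exact ⟨0, fun z hz => absurd hz (Finset.notMem_empty z)⟩
  | insert a S _ ih =>
    obtain ⟨M₁, hM₁⟩ := ih (fun z hz => h z (Finset.mem_insert_of_mem hz))
    obtain ⟨⟨b, m, rfl⟩, hb⟩ := (IsLocalization.map_eq_zero_iff (Submonoid.powers r)
      (Localization.Away r) a).mp (h a (Finset.mem_insert_self a S))
    refine ⟨M₁ + m, fun z hz => ?_⟩
    rcases Finset.mem_insert.mp hz with rfl | hz
    · rw [pow_add, mul_assoc]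
      change r ^ M₁ * (r ^ m * z) = 0
      have : r ^ m * z = 0 := hb
      rw [this, mul_zero]
    · rw [pow_add, mul_comm (r ^ M₁), mul_assoc, hM₁ z hz, mul_zero]

/-- a polynomial with zero constant coefficient killed by `r ^ M` vanishes after `T ↦ r ^ m T`,
`m ≥ M` -/
theorem comp_eq_zero (G : Polynomial R) (h0 : G.coeff 0 = 0) (M : ℕ)
    (hM : ∀ j, r ^ M * G.coeff j = 0) (m : ℕ) (hm : M ≤ m) :
    G.comp (C (r ^ m) * X) = 0 := by
  ext j
  rw [comp_C_mul_X_coeff, coeff_zero]
  rcases Nat.eq_zero_or_pos j with rfl | hj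
  · rw [h0, zero_mul]
  · obtain ⟨e, he⟩ : ∃ e, m * j = M + e := ⟨m * j - M, by
      have : M ≤ m * j := le_trans hm (Nat.le_mul_of_pos_right m hj)
      omega⟩
    rw [← pow_mul, he, pow_add, mul_comm (G.coeff j), mul_comm (r ^ M), mul_assoc, hM,
      mul_zero]


end Helpers

/-- In the case of an affine scheme of finite presentation, let B be a finitely presented R-algebra, r ∈
R, and x : B → R[1/r][T] an R-algebra homomorphism whose value at T = 0, a homomorphism B → R[1/r],
is induced by a homomorphism x̃₀ : B → R. Then for every large enough n, the homomorphism x(rⁿT) : B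
→ R[1/r][T] is induced by a homomorphism x̃ : B → R[T] whose value at T = 0 is x̃₀. The published
statement is for algebraic spaces locally of finite presentation over R; this row takes an affine
scheme of finite presentation. -/
theorem result
    (R : Type u) (B : Type v) [CommRing R] [CommRing B] [Algebra R B]
    [Algebra.FinitePresentation R B] (r : R)
    (x : B →ₐ[R] Polynomial (Localization.Away r))
    (x₀ : B →ₐ[R] R)
    (hx₀ : (algebraMap R (Localization.Away r)).comp x₀.toRingHom =
      (Polynomial.evalRingHom 0).comp x.toRingHom) :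
    ∃ N : ℕ, ∀ n : ℕ, N ≤ n →
      ∃ y : B →ₐ[R] Polynomial R,
        (Polynomial.evalRingHom 0).comp y.toRingHom = x₀.toRingHom ∧
        (Polynomial.mapRingHom (algebraMap R (Localization.Away r))).comp y.toRingHom =
          (Polynomial.aeval (Polynomial.C (algebraMap R (Localization.Away r) (r ^ n)) * Polynomial.X) :
              Polynomial (Localization.Away r) →ₐ[Localization.Away r] Polynomial (Localization.Away r)).toRingHom.comp
            x.toRingHom := by

  classical
  obtain ⟨k, f, hf, ⟨s, hs⟩⟩ := Algebra.FinitePresentation.out (R := R) (A := B)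
  let a : Fin k → R := fun i => x₀ (f (MvPolynomial.X i))
  let p : Fin k → Polynomial (Localization.Away r) := fun i => x (f (MvPolynomial.X i))
  have hp0 : ∀ i, (p i).coeff 0 = algebraMap R (Localization.Away r) (a i) := by
    intro i
    have := RingHom.congr_fun hx₀ (f (MvPolynomial.X i))
    rw [Polynomial.coeff_zero_eq_eval_zero]
    exact this.symm
  obtain ⟨n₀, Q, hQ⟩ := clear r (fun i => (p i).divX)
  let P₀ : Fin k → Polynomial R := fun i =>
    Polynomial.C (a i) + Polynomial.X * (Q i).comp (Polynomial.C (r ^ n₀) * Polynomial.X)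
  have hP₀map : ∀ i, (P₀ i).map (algebraMap R (Localization.Away r)) =
      (p i).comp (Polynomial.C (algebraMap R (Localization.Away r) (r ^ n₀)) * Polynomial.X) := by
    intro i
    simp only [P₀, Polynomial.map_add, Polynomial.map_C, Polynomial.map_mul, Polynomial.map_X,
      Polynomial.map_comp, hQ]
    conv_rhs => rw [← Polynomial.divX_mul_X_add (p i), hp0]
    simp only [Polynomial.add_comp, Polynomial.mul_comp, Polynomial.X_comp, Polynomial.C_comp]
    ring
  have haeval_a : ∀ F, MvPolynomial.aeval a F = x₀ (f F) := by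
    have e : (MvPolynomial.aeval a : MvPolynomial (Fin k) R →ₐ[R] R) = x₀.comp f := by
      apply MvPolynomial.algHom_ext
      intro i
      rw [MvPolynomial.aeval_X, AlgHom.comp_apply]
    exact fun F => AlgHom.congr_fun e F
  have haeval_p : ∀ F, MvPolynomial.aeval p F = x (f F) := by
    have e : (MvPolynomial.aeval p : MvPolynomial (Fin k) R →ₐ[R]
        Polynomial (Localization.Away r)) = x.comp f := by
      apply MvPolynomial.algHom_ext
      intro i
      rw [MvPolynomial.aeval_X, AlgHom.comp_apply]
    exact fun F => AlgHom.congr_fun e F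
  let ev₀ : MvPolynomial (Fin k) R →ₐ[R] Polynomial R := MvPolynomial.aeval P₀
  have hev₀X : ∀ i, ev₀ (MvPolynomial.X i) = P₀ i := fun i => MvPolynomial.aeval_X _ _
  have hG0 : ∀ F, (ev₀ F).eval 0 = MvPolynomial.aeval a F := by
    have e : ((Polynomial.aeval (0 : R) : Polynomial R →ₐ[R] R).comp
        ev₀) = MvPolynomial.aeval a := by
      apply MvPolynomial.algHom_ext
      intro i
      rw [AlgHom.comp_apply, hev₀X, MvPolynomial.aeval_X, Polynomial.coe_aeval_eq_eval]
      simp [P₀]
    intro F
    have := AlgHom.congr_fun e F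
    rw [AlgHom.comp_apply, Polynomial.coe_aeval_eq_eval] at this
    exact this
  have hGmap : ∀ F, (ev₀ F).map
      (algebraMap R (Localization.Away r)) = (MvPolynomial.aeval p F).comp
        (Polynomial.C (algebraMap R (Localization.Away r) (r ^ n₀)) * Polynomial.X) := by
    have e : ((Polynomial.mapAlgHom (Algebra.ofId R (Localization.Away r))).comp
        ev₀ : MvPolynomial (Fin k) R →ₐ[R] Polynomial (Localization.Away r)) =
        (((Polynomial.aeval (Polynomial.C (algebraMap R (Localization.Away r) (r ^ n₀)) *
          Polynomial.X) : Polynomial (Localization.Away r) →ₐ[Localization.Away r]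
            Polynomial (Localization.Away r)).restrictScalars R).comp (MvPolynomial.aeval p)) := by
      apply MvPolynomial.algHom_ext
      intro i
      rw [AlgHom.comp_apply, AlgHom.comp_apply, hev₀X, MvPolynomial.aeval_X,
        AlgHom.restrictScalars_apply, Polynomial.coe_mapAlgHom, ← Polynomial.comp_eq_aeval]
      exact hP₀map i
    intro F
    have := AlgHom.congr_fun e F
    rw [AlgHom.comp_apply, AlgHom.comp_apply, AlgHom.restrictScalars_apply,
      Polynomial.coe_mapAlgHom, ← Polynomial.comp_eq_aeval] at this
    exact this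
  have hsF : ∀ F ∈ s, f F = 0 := by
    intro F hF
    have : F ∈ RingHom.ker f.toRingHom := by rw [← hs]; exact Ideal.subset_span hF
    exact this
  obtain ⟨M₀, hM₀⟩ := kill r (s.biUnion (fun F => (ev₀ F).coeffs))
    (by
      intro z hz
      obtain ⟨F, hF, hzF⟩ := Finset.mem_biUnion.mp hz
      obtain ⟨j, -, rfl⟩ := Polynomial.mem_coeffs_iff.mp hzF
      have h1 := hGmap F
      rw [haeval_p, hsF F hF, map_zero, Polynomial.zero_comp] at h1
      have h2 := congrArg (fun q => Polynomial.coeff q j) h1
      simp only [Polynomial.coeff_map, Polynomial.coeff_zero] at h2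
      exact h2)
  have hkillF : ∀ F ∈ s, ∀ j, r ^ M₀ * (ev₀ F).coeff j = 0 := by
    intro F hF j
    by_cases h0 : (ev₀ F).coeff j = 0
    · rw [h0, mul_zero]
    · exact hM₀ _ (Finset.mem_biUnion.mpr ⟨F, hF, Polynomial.coeff_mem_coeffs h0⟩)
  refine ⟨n₀ + M₀, fun n hn => ?_⟩
  obtain ⟨m, rfl⟩ : ∃ m, n = n₀ + m := ⟨n - n₀, by omega⟩
  have hm : M₀ ≤ m := by omega
  let P : Fin k → Polynomial R := fun i => (P₀ i).comp (Polynomial.C (r ^ m) * Polynomial.X)
  have haevalP : ∀ F, MvPolynomial.aeval P F =
      (ev₀ F).comp (Polynomial.C (r ^ m) * Polynomial.X) := by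
    have e : (MvPolynomial.aeval P : MvPolynomial (Fin k) R →ₐ[R] Polynomial R) =
        (Polynomial.aeval (Polynomial.C (r ^ m) * Polynomial.X) :
          Polynomial R →ₐ[R] Polynomial R).comp ev₀ := by
      apply MvPolynomial.algHom_ext
      intro i
      rw [AlgHom.comp_apply, MvPolynomial.aeval_X, hev₀X, ← Polynomial.comp_eq_aeval]
    intro F
    have := AlgHom.congr_fun e F
    rw [AlgHom.comp_apply, ← Polynomial.comp_eq_aeval] at this
    exact this
  have hker : RingHom.ker f.toRingHom ≤ RingHom.ker
      (MvPolynomial.aeval P : MvPolynomial (Fin k) R →ₐ[R] Polynomial R).toRingHom := by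
    rw [← hs, Ideal.span_le]
    intro F hF
    rw [SetLike.mem_coe, RingHom.mem_ker]
    change MvPolynomial.aeval P F = 0
    rw [haevalP]
    refine comp_eq_zero r _ ?_ M₀ (hkillF F hF) m hm
    rw [Polynomial.coeff_zero_eq_eval_zero, hG0, haeval_a, hsF F hF, map_zero]
  let y := AlgHom.liftOfSurjective f hf (MvPolynomial.aeval P) hker
  have hy : ∀ F, y (f F) = MvPolynomial.aeval P F :=
    fun F => AlgHom.liftOfSurjective_apply f hf _ hker F
  refine ⟨y, ?_, ?_⟩
  · apply RingHom.ext
    intro b
    obtain ⟨F, rfl⟩ := hf b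
    change Polynomial.eval 0 (y (f F)) = x₀ (f F)
    rw [hy, haevalP, ← haeval_a, Polynomial.eval_comp, ← hG0]
    simp
  · apply RingHom.ext
    intro b
    obtain ⟨F, rfl⟩ := hf b
    change (y (f F)).map (algebraMap R (Localization.Away r)) =
      Polynomial.aeval (Polynomial.C (algebraMap R (Localization.Away r) (r ^ (n₀ + m))) *
        Polynomial.X) (x (f F))
    rw [hy, haevalP, Polynomial.map_comp, hGmap, haeval_p, ← Polynomial.comp_eq_aeval,
      Polynomial.comp_assoc]
    congr 1
    simp only [Polynomial.map_mul, Polynomial.map_C, Polynomial.map_X, Polynomial.mul_comp,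
      Polynomial.C_comp, Polynomial.X_comp, pow_add, map_mul, Polynomial.C_mul]
    ring

end Groth.Agent.S17843
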