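import Groth.Statements.S1785
import Groth.Agent.Lib.Helper13.FibReg5
import Groth.Agent.Lib.Helper13.RelDual7

set_option autoImplicit false
universe u
open CategoryTheory
attribute [local instance] HasDerivedCategory.standard
open Dual2

namespace Groth.Agent.S1785

/-- Let R → A be a ring map of finite type between Noetherian rings, where φ^!(K) is formed from a
presentation ψ : R[x_1, …, x_n] → A as RHom_P(A, K ⊗^L_R P)[n], assuming the derived base change to
P exists and taking for RHom_P(A, −) a right adjoint of restriction of scalars along ψ, and let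
ω_{A/R} = φ^!(R). Let q be a prime of A and d the local dimension at q of the fibre of Spec A → Spec
R through q. If H^i(ω_{A/R}) localized at q is nonzero then −d ≤ i. -/
theorem result (R A : Type u) [CommRing R] [CommRing A] [IsNoetherianRing R] [IsNoetherianRing A] [Algebra R A] (n : ℕ) (ψ : MvPolynomial (Fin n) R →ₐ[R] A) (hψ : Function.Surjective ψ) [DRing.HasLBaseChange (algebraMap R (MvPolynomial (Fin n) R))] (Rψ : Dual.D (MvPolynomial (Fin n) R) ⥤ Dual.D A) (adj : DRing.restrictD ψ.toRingHom ⊣ Rψ) (q : PrimeSpectrum A) (d : ℕ) (hd : FlatMor.fibreDimAt (AlgebraicGeometry.Spec.map (CommRingCat.ofHom (algebraMap R A))) q = d) (i : ℤ) (h : Nontrivial (LocalizedModule q.asIdeal.primeCompl (Dual.HD A (Dual2.shriekVia n Rψ (Dual.inD R R)) i))) : -(d : ℤ) ≤ i := by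
  classical
  let P := MvPolynomial (Fin n) R
  -- replace `Rψ` by the standard coinduction functor
  let e0 : Dual2.shriekVia n Rψ (Dual.inD R R) ≅
      ((Groth.Agent.Lib.Helper13.Coind.Rco ψ.toRingHom).obj (Dual.inD P P))⟦(n : ℤ)⟧ :=
    (shiftFunctor (Dual.D A) (n : ℤ)).mapIso
      ((Groth.Agent.Lib.Helper13.Coind.uniq ψ.toRingHom Rψ adj).app _ ≪≫
        (Groth.Agent.Lib.Helper13.Coind.Rco ψ.toRingHom).mapIso
          (Groth.Agent.Lib.Helper13.RelDual.LBaseChangeSelfIso R P))
  let E : Dual.HD A (Dual2.shriekVia n Rψ (Dual.inD R R)) i ≃ₗ[A]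
      Dual.HD A ((Groth.Agent.Lib.Helper13.Coind.Rco ψ.toRingHom).obj (Dual.inD P P))
        ((n : ℤ) + i) :=
    ((DerivedCategory.homologyFunctor (ModuleCat.{u} A) i).mapIso e0).toLinearEquiv ≪≫ₗ
      Groth.Agent.Lib.Helper13.DualBC.HDShiftLinearEquiv _ (n : ℤ) i
  have h' : Nontrivial (LocalizedModule q.asIdeal.primeCompl
      (Dual.HD A ((Groth.Agent.Lib.Helper13.Coind.Rco ψ.toRingHom).obj (Dual.inD P P))
        ((n : ℤ) + i))) :=
    Groth.Agent.Lib.Helper13.FibReg.nontrivial_localized_of_semilinear (RingHom.id A) E.toEquiv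
      (by intro c m; exact E.map_smul c m) q.asIdeal.primeCompl q.asIdeal.primeCompl (fun s hs => hs) h
  have hmain := Groth.Agent.Lib.Helper13.FibReg.main R A n ψ hψ q d hd.le ((n : ℤ) + i) h'
  lia

end Groth.Agent.S1785
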