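import Groth.Statements.S17853
import Mathlib
import Groth.Agent.Lib.Helper11.HkM

set_option autoImplicit false
open Polynomial LaurentPolynomial TensorProduct
universe u
open CAlg

namespace Groth.Agent.S17853

/-- For an arbitrary commutative ring A, a finitely generated projective A[t]-module M is extended from
A (isomorphic to A[t] ⊗_A P for an A-module P) if and only if it extends to a vector bundle on the
projective line over A. The latter is stated by gluing: there are a finitely generated projective
module N over the polynomial ring of the chart at infinity and an isomorphism over the Laurent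
polynomial ring between the localisation of M and the base change of N along s ↦ t⁻¹, written as a
bijective additive map A[t,t⁻¹] ⊗ M → A[t,t⁻¹] ⊗ N that is semilinear with respect to the A-algebra
involution t ↦ t⁻¹ of A[t,t⁻¹]. (The published statement adds: for A semilocal, M is then free on
each connected component of the affine line.) -/
theorem result
    (A : Type u) [CommRing A] (M : Type u) [AddCommGroup M] [Module A[X] M]
    [Module.Finite A[X] M] [Module.Projective A[X] M] :
    (∃ (P : Type u) (_ : AddCommGroup P) (_ : Module A P), Nonempty (M ≃ₗ[A[X]] (A[X] ⊗[A] P))) ↔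
      ∃ (N : Type u) (_ : AddCommGroup N) (_ : Module A[X] N),
        Module.Finite A[X] N ∧ Module.Projective A[X] N ∧
        ∃ e : (A[T;T⁻¹] ⊗[A[X]] M) →ₛₗ[(LaurentPolynomial.invert (R := A)).toRingEquiv.toRingHom]
            (A[T;T⁻¹] ⊗[A[X]] N), Function.Bijective e := by
  open Groth.Agent.Lib.Helper11.Hk in
  constructor
  · rintro ⟨P, _, _, ⟨f⟩⟩
    obtain ⟨e, he⟩ := exists_semilinear_of_extended M P f
    exact ⟨M, inferInstance, inferInstance, inferInstance, inferInstance, e, he⟩
  · rintro ⟨N, _, _, hfin, hproj, e, he⟩
    haveI := hfin
    haveI := hproj
    obtain ⟨P, iP, mP, -, -, hP⟩ := exists_extended_of_equiv M N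
      (AddEquiv.ofBijective e.toAddMonoidHom he) (fun a v => e.map_smulₛₗ a v)
    exact ⟨P, iP, mP, hP⟩

end Groth.Agent.S17853
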