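import Groth.Statements.S17858
import Groth.Agent.Lib.Helper14.ProdPt5

set_option autoImplicit false
open CategoryTheory AlgebraicGeometry
universe u
open Algz

namespace Groth.Agent.S17858

/-- Let `j : W ⟶ Y` be a quasi-affine morphism of quasi-compact quasi-separated schemes. There is a
natural number `m` such that for every commutative ring `B` and every morphism `Spec B ⟶ Y`, the
fibre product `W ×_Y Spec B` is the union of `m` affine open subschemes. -/
theorem result {W Y : Scheme.{u}} (j : W ⟶ Y)
    [CompactSpace W] [QuasiSeparatedSpace W] [CompactSpace Y] [QuasiSeparatedSpace Y]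
    (hj : Mor2.IsQuasiAffine j) :
    ∃ m : ℕ, ∀ (B : CommRingCat.{u}) (g : Spec B ⟶ Y),
      ∃ U : Fin m → (Limits.pullback j g).Opens, (∀ k, IsAffineOpen (U k)) ∧ ⨆ k, U k = ⊤ := by
  classical
  by_contra hcon
  have hcon' : ∀ m : ℕ, ∃ (B : CommRingCat.{u}) (g : Spec B ⟶ Y),
      ¬ ∃ U : Fin m → (Limits.pullback j g).Opens, (∀ k, IsAffineOpen (U k)) ∧ ⨆ k, U k = ⊤ := by
    intro m
    by_contra h
    apply hcon
    refine ⟨m, fun B g => ?_⟩
    by_contra h2
    exact h ⟨B, g, h2⟩
  choose B g hg using hcon'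
  -- the product ring
  obtain ⟨G, hG⟩ := Groth.Agent.Lib.Helper14.ProdPt.exists_hom_prod
    (X := Y) (fun i : ULift.{u} ℕ => (B i.down : Type u)) (fun i => g i.down)
  have hqc : QuasiCompact j := inferInstance
  have hcpt : CompactSpace ↥(Limits.pullback j G) :=
    QuasiCompact.compactSpace_of_compactSpace (Limits.pullback.snd j G)
  -- a finite affine cover of the fibre product over the product ring
  obtain ⟨M, V, hV, hVcov⟩ : ∃ (M : ℕ) (V : Fin M → (Limits.pullback j G).Opens),
      (∀ k, IsAffineOpen (V k)) ∧ ⨆ k, V k = ⊤ := by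
    set 𝒰 := (Limits.pullback j G).affineCover.finiteSubcover with h𝒰
    have haff : ∀ k, IsAffine (𝒰.X k) := fun k => inferInstance
    let e : 𝒰.I₀ ≃ Fin (Fintype.card 𝒰.I₀) := Fintype.equivFin _
    refine ⟨Fintype.card 𝒰.I₀, fun k => (𝒰.f (e.symm k)).opensRange, ?_, ?_⟩
    · intro k
      exact isAffineOpen_opensRange _
    · rw [e.symm.iSup_comp (g := fun i => (𝒰.f i).opensRange)]
      exact 𝒰.iSup_opensRange
  apply hg M
  -- the comparison morphism
  set p : Spec (B M) ⟶ _ := Groth.Agent.Lib.Helper14.ProdPt.prj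
    (fun i : ULift.{u} ℕ => (B i.down : Type u)) (ULift.up M) with hp
  have hGM : p ≫ G = g M := hG (ULift.up M)
  have hbig : IsPullback (Limits.pullback.fst j (g M)) (Limits.pullback.snd j (g M)) j (p ≫ G) := by
    rw [hGM]
    exact IsPullback.of_hasPullback j (g M)
  have hright : IsPullback (Limits.pullback.fst j G) (Limits.pullback.snd j G) j G :=
    IsPullback.of_hasPullback j G
  set q : Limits.pullback j (g M) ⟶ Limits.pullback j G :=
    Limits.pullback.lift (Limits.pullback.fst j (g M)) (Limits.pullback.snd j (g M) ≫ p)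
      (by rw [Category.assoc, hGM]; exact Limits.pullback.condition) with hq
  have hs : IsPullback (q ≫ Limits.pullback.fst j G) (Limits.pullback.snd j (g M)) j (p ≫ G) := by
    rw [hq, Limits.pullback.lift_fst]
    exact hbig
  have hleft : IsPullback q (Limits.pullback.snd j (g M)) (Limits.pullback.snd j G) p :=
    IsPullback.of_right hs (by rw [hq, Limits.pullback.lift_snd]) hright
  have hpaff : IsAffineHom p := inferInstance
  have hqaff : IsAffineHom q :=
    MorphismProperty.of_isPullback (P := @IsAffineHom) hleft.flip hpaff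
  refine ⟨fun k => q ⁻¹ᵁ (V k), fun k => (hV k).preimage q, ?_⟩
  rw [← Scheme.Hom.preimage_iSup, hVcov]
  rfl

end Groth.Agent.S17858
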