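import Groth.Statements.S17859
-- import your own Groth.Agent.* helpers here
import Mathlib.LinearAlgebra.Contraction
import Mathlib.RingTheory.Finiteness.Projective

set_option autoImplicit false
open CategoryTheory MonoidalCategory
universe u
open Algz

namespace Groth.Agent.S17859


open TensorProduct in
theorem dual_basis_aux (R : Type u) [CommRing R] (M : Type u) [AddCommGroup M] [Module R M]
    [Module.Finite R M] [Module.Projective R M] :
    ∃ (n : ℕ) (e : Fin n → M) (ε : Fin n → Module.Dual R M),
      (∀ m : M, ∑ i, ε i m • e i = m) ∧ (∀ φ : Module.Dual R M, ∑ i, φ (e i) • ε i = φ) := by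
  obtain ⟨n, f, g, -, -, hfg⟩ := Module.Finite.exists_comp_eq_id_of_projective R M
  refine ⟨n, fun i => f (Pi.single i 1), fun i => (LinearMap.proj i).comp g, ?_, ?_⟩
  · intro m
    have h1 : f (g m) = m := by
      have := LinearMap.congr_fun hfg m
      simpa using this
    have h2 : ∑ i, (g m) i • (Pi.single i (1 : R) : Fin n → R) = g m := by
      funext j
      simp [Finset.sum_apply, Pi.single_apply]
    conv_rhs => rw [← h1, ← h2]
    simp only [map_sum, map_smul, LinearMap.comp_apply, LinearMap.proj_apply]
  · intro φ
    have hm : ∀ m : M, ∑ i, ((LinearMap.proj i).comp g) m • f (Pi.single i 1) = m := by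
      intro m
      have h1 : f (g m) = m := by
        have := LinearMap.congr_fun hfg m
        simpa using this
      have h2 : ∑ i, (g m) i • (Pi.single i (1 : R) : Fin n → R) = g m := by
        funext j
        simp [Finset.sum_apply, Pi.single_apply]
      conv_rhs => rw [← h1, ← h2]
      simp only [map_sum, map_smul, LinearMap.comp_apply, LinearMap.proj_apply]
    ext m
    simp only [LinearMap.sum_apply, LinearMap.smul_apply, smul_eq_mul]
    conv_rhs => rw [← hm m]
    simp only [map_sum, map_smul, smul_eq_mul]
    apply Finset.sum_congr rfl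
    intro i _
    ring

open TensorProduct in
theorem la1 (R : Type u) [CommRing R] (M : Type u) [AddCommGroup M] [Module R M]
    (n : ℕ) (e : Fin n → M) (ε : Fin n → Module.Dual R M)
    (h2 : ∀ φ : Module.Dual R M, ∑ i, φ (e i) • ε i = φ) (φ : Module.Dual R M) (r : R) :
    (LinearMap.rTensor (Module.Dual R M) (contractLeft R M))
      ((TensorProduct.assoc R (Module.Dual R M) M (Module.Dual R M)).symm
        ((LinearMap.lTensor (Module.Dual R M)
            (LinearMap.toSpanSingleton R (M ⊗[R] Module.Dual R M) (∑ i, e i ⊗ₜ[R] ε i)))
          (φ ⊗ₜ[R] r))) =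
    (1 : R) ⊗ₜ[R] (TensorProduct.rid R (Module.Dual R M)) (φ ⊗ₜ[R] r) := by
  simp only [LinearMap.lTensor_tmul, LinearMap.toSpanSingleton_apply,
    TensorProduct.rid_tmul, Finset.smul_sum, TensorProduct.tmul_sum, map_sum,
    TensorProduct.smul_tmul', TensorProduct.assoc_symm_tmul, LinearMap.rTensor_tmul,
    contractLeft_apply, map_smul, smul_eq_mul]
  have key : ∀ i, (r * φ (e i)) ⊗ₜ[R] ε i =
      (1 : R) ⊗ₜ[R] ((r * φ (e i)) • ε i) := by
    intro i
    rw [← TensorProduct.smul_tmul, smul_eq_mul, mul_one]
  simp_rw [key]
  rw [← TensorProduct.tmul_sum]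
  congr 1
  simp_rw [mul_smul]
  rw [← Finset.smul_sum, h2]

open TensorProduct in
theorem la2 (R : Type u) [CommRing R] (M : Type u) [AddCommGroup M] [Module R M]
    (n : ℕ) (e : Fin n → M) (ε : Fin n → Module.Dual R M)
    (h1 : ∀ m : M, ∑ i, ε i m • e i = m) (r : R) (m : M) :
    (LinearMap.lTensor M (contractLeft R M))
      ((TensorProduct.assoc R M (Module.Dual R M) M)
        ((LinearMap.rTensor M
            (LinearMap.toSpanSingleton R (M ⊗[R] Module.Dual R M) (∑ i, e i ⊗ₜ[R] ε i)))
          (r ⊗ₜ[R] m))) =
    (TensorProduct.lid R M) (r ⊗ₜ[R] m) ⊗ₜ[R] (1 : R) := by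
  simp only [LinearMap.rTensor_tmul, LinearMap.toSpanSingleton_apply,
    TensorProduct.lid_tmul, Finset.smul_sum, TensorProduct.sum_tmul, map_sum,
    TensorProduct.smul_tmul', TensorProduct.assoc_tmul, LinearMap.lTensor_tmul,
    contractLeft_apply]
  have key : ∀ i, (r • e i) ⊗ₜ[R] (ε i m) = ((ε i m) • (r • e i)) ⊗ₜ[R] (1 : R) := by
    intro i
    rw [TensorProduct.smul_tmul (ε i m) (r • e i) (1 : R), smul_eq_mul, mul_one]
  simp_rw [key]
  rw [← TensorProduct.sum_tmul]
  congr 1
  simp_rw [smul_comm _ r]
  rw [← Finset.smul_sum, h1]

/-- Over an affine scheme, that is for modules over a commutative ring `R`, a finitely generated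
projective `R`-module `M`, viewed as an object of the monoidal category of `R`-modules (tensor
product over `R`), has a right dual. (The published statement is the equivalence, for quasi-coherent
sheaves on a quasi-compact quasi-separated scheme, between being dualizable and being a vector
bundle; stated here is the affine case of the implication from vector bundle to dualizable. The
converse implication, that a module admitting a dual is finitely generated projective, is stated
separately and is not repeated here.) -/
theorem result (R : Type u) [CommRing R] (M : ModuleCat.{u} R)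
    [Module.Finite R M] [Module.Projective R M] : Nonempty (HasRightDual M) := by
  obtain ⟨n, e, ε, h1, h2⟩ := dual_basis_aux R M
  let Y : ModuleCat.{u} R := ModuleCat.of R (Module.Dual R M)
  let t : TensorProduct R M (Module.Dual R M) := ∑ i, (e i) ⊗ₜ[R] (ε i)
  refine ⟨{ rightDual := Y, exact := ?_ }⟩
  exact
    { coevaluation' := ModuleCat.ofHom (LinearMap.toSpanSingleton R (TensorProduct R M (Module.Dual R M)) t)
      evaluation' := ModuleCat.ofHom (contractLeft R M)
      coevaluation_evaluation' := by
        apply ModuleCat.MonoidalCategory.tensor_ext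
        intro φ r
        simp only [ModuleCat.hom_comp, LinearMap.comp_apply]
        rw [ModuleCat.hom_whiskerLeft, ModuleCat.hom_whiskerRight, ModuleCat.hom_inv_associator,
          ModuleCat.hom_hom_rightUnitor, ModuleCat.hom_inv_leftUnitor]
        exact la1 R M n e ε h2 φ r
      evaluation_coevaluation' := by
        apply ModuleCat.MonoidalCategory.tensor_ext
        intro r m
        simp only [ModuleCat.hom_comp, LinearMap.comp_apply]
        rw [ModuleCat.hom_whiskerLeft, ModuleCat.hom_whiskerRight, ModuleCat.hom_hom_associator,
          ModuleCat.hom_hom_leftUnitor, ModuleCat.hom_inv_rightUnitor]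
        exact la2 R M n e ε h1 r m }

end Groth.Agent.S17859
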