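import Groth.Statements.S17860
import Groth.Agent.Lib.Helper2.LocGen.Tilde
import Groth.Agent.Lib.Helper29.Sky
import Groth.Agent.Lib.Helper29.QCohLocFree

set_option autoImplicit false
open CategoryTheory AlgebraicGeometry
universe u
open Algz

namespace Groth.Agent.S17860
section Aux
open CategoryTheory.Limits TopologicalSpace Opposite
open Groth.Agent.Lib.Helper29.QCoh Groth.Agent.Lib.Helper2.LocGen

theorem exists_sections {X : Scheme.{u}} (F : X.Modules) (n : ℕ) (U : X.Opens)
    (φ : FlatMod.freeMod (↑U) n ⟶ F.restrict U.ι) [Epi φ] :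
    ∃ s : ULift.{u} (Fin n) → Γ(F, U), ∀ (x : X) (hx : x ∈ U),
      Submodule.span (X.presheaf.stalk x)
        (Set.range fun j => F.presheaf.germ U x hx (s j)) = ⊤ := by
  let p : freeM (↑U) (ULift.{u} (Fin n)) ⟶ F.restrict U.ι := (freeModIso (↑U) n).inv ≫ φ
  haveI : Epi p := epi_comp _ _
  let m' : ULift.{u} (Fin n) → Γ(F, U.ι ''ᵁ ⊤) := fun j => sval (ιFreeM (↑U) j ≫ p) ⊤
  refine ⟨fun j => res F (Scheme.Opens.ι_image_top U).ge (m' j), fun x hx => ?_⟩
  have h1 := span_germ_eq_top_of_epi p ⟨x, hx⟩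
  have h2 : Submodule.span (X.presheaf.stalk x) (Set.range fun j =>
      F.presheaf.germ (U.ι ''ᵁ ⊤) x ⟨⟨x, hx⟩, trivial, rfl⟩ (m' j)) = ⊤ :=
    (span_germ_restrict_eq_top_iff U.ι F ⟨x, hx⟩ ⊤ trivial m').mp h1
  convert h2 using 3
  funext j
  exact germ_res F (Scheme.Opens.ι_image_top U).ge x hx (m' j)

end Aux


/-- Let `R` be a commutative ring and `M` a finite `R`-module. Suppose `Spec R` is covered by opens `U
0, …, U (m-1)` (not necessarily affine) such that over each `U i` the restriction of the associated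
sheaf of modules `M~` is a quotient of the free module of rank `n` (it is generated by `n` sections
over `U i`). Then `M` is generated by `n * m` elements. -/
theorem result (R : CommRingCat.{u}) (M : ModuleCat.{u} R)
    [Module.Finite R M] (n m : ℕ) (U : Fin m → (Spec R).Opens) (hU : ⨆ i, U i = ⊤)
    (hgen : ∀ i, ∃ φ : FlatMod.freeMod (↑(U i)) n ⟶ (AlgebraicGeometry.tilde M).restrict (U i).ι, Epi φ) :
    ∃ s : Fin (n * m) → M, Submodule.span R (Set.range s) = ⊤ := by
  classical
  have h1 : ∀ i, ∃ s : ULift.{u} (Fin n) → Γ(tilde M, U i), ∀ (x : Spec R) (hx : x ∈ U i),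
      Submodule.span ((Spec R).presheaf.stalk x)
        (Set.range fun j => (tilde M).presheaf.germ (U i) x hx (s j)) = ⊤ := by
    intro i
    obtain ⟨φ, hφ⟩ := hgen i
    exact exists_sections (tilde M) n (U i) φ
  choose s hs using h1
  obtain ⟨t, ht⟩ := Groth.Agent.Lib.Helper2.LocGen.exists_generators_of_sections M U hU s hs
  let e : Fin (n * m) ≃ Fin m × ULift.{u} (Fin n) :=
    (finCongr (Nat.mul_comm n m)).trans
      (finProdFinEquiv.symm.trans (Equiv.prodCongr (Equiv.refl _) Equiv.ulift.symm))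
  refine ⟨t ∘ e, ?_⟩
  rw [e.surjective.range_comp]
  exact ht

end Groth.Agent.S17860
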