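import Groth.Statements.S17863
import Mathlib

set_option autoImplicit false
open CategoryTheory AlgebraicGeometry
universe u
open Algz

namespace Groth.Agent.S17863



theorem ringHom_ext_of_mk {A : Type u} [CommRing A] (I : Ideal A) [IsAdicComplete I A]
    {R : CommRingCat.{u}} (φ γ : R ⟶ CommRingCat.of A)
    (h : ∀ n : ℕ, φ ≫ CommRingCat.ofHom (Ideal.Quotient.mk (I ^ n)) =
      γ ≫ CommRingCat.ofHom (Ideal.Quotient.mk (I ^ n))) : φ = γ := by
  ext x
  have := IsHausdorff.funext' I (f := fun r => φ.hom r) (g := fun r => γ.hom r) (by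
    intro n r
    have := congrArg (fun t => t.hom r) (h n)
    simpa using this)
  exact congrFun this x

theorem part1 (A : Type u) [CommRing A] (I : Ideal A) [IsAdicComplete I A]
    (X : Scheme.{u}) [X.IsQuasiAffine]
    (f g : Spec (CommRingCat.of A) ⟶ X)
    (h : ∀ n : ℕ, Spec.map (CommRingCat.ofHom (Ideal.Quotient.mk (I ^ n))) ≫ f =
        Spec.map (CommRingCat.ofHom (Ideal.Quotient.mk (I ^ n))) ≫ g) : f = g := by
  rw [← cancel_mono X.toSpecΓ]
  have h1 : ∀ n, Spec.map (CommRingCat.ofHom (Ideal.Quotient.mk (I ^ n))) ≫ (f ≫ X.toSpecΓ) =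
      Spec.map (CommRingCat.ofHom (Ideal.Quotient.mk (I ^ n))) ≫ (g ≫ X.toSpecΓ) := by
    intro n; rw [← Category.assoc, h n, Category.assoc]
  rw [← Spec.map_preimage (f ≫ X.toSpecΓ), ← Spec.map_preimage (g ≫ X.toSpecΓ)] at h1 ⊢
  congr 1
  apply ringHom_ext_of_mk I
  intro n
  apply Spec.map_injective
  rw [Spec.map_comp, Spec.map_comp]
  exact h1 n

theorem part2 (A : Type u) [CommRing A] (I : Ideal A) [IsAdicComplete I A]
    (X : Scheme.{u}) [X.IsQuasiAffine]
    (e : ∀ n : ℕ, Spec (CommRingCat.of (A ⧸ I ^ n)) ⟶ X)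
    (he : ∀ n : ℕ,
      Spec.map (CommRingCat.ofHom (Ideal.Quotient.factorPowSucc I n)) ≫ e (n + 1) = e n) :
    ∃ f : Spec (CommRingCat.of A) ⟶ X,
        ∀ n : ℕ, Spec.map (CommRingCat.ofHom (Ideal.Quotient.mk (I ^ n))) ≫ f = e n := by
  let ψ : ∀ n : ℕ, Γ(X, ⊤) →+* A ⧸ I ^ (id n) := fun n => (Spec.preimage (e n ≫ X.toSpecΓ)).hom
  have hψ : ∀ {m : ℕ}, (Ideal.Quotient.factorPow I (strictMono_id.monotone m.le_succ)).comp
      (ψ (m + 1)) = ψ m := by
    intro m
    have : Spec.preimage (e (m + 1) ≫ X.toSpecΓ) ≫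
        CommRingCat.ofHom (Ideal.Quotient.factorPowSucc I m) = Spec.preimage (e m ≫ X.toSpecΓ) := by
      apply Spec.map_injective
      rw [Spec.map_comp, Spec.map_preimage, Spec.map_preimage, ← Category.assoc, he m]
    exact congrArg (fun t => t.hom) this
  let Ψ : Γ(X, ⊤) →+* A := IsAdicComplete.StrictMono.liftRingHom I strictMono_id ψ hψ
  have hΨ : ∀ n : ℕ, (Ideal.Quotient.mk (I ^ n)).comp Ψ = ψ n := fun n =>
    IsAdicComplete.StrictMono.mk_comp_liftRingHom I strictMono_id ψ hψ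
  let F : Spec (CommRingCat.of A) ⟶ Spec Γ(X, ⊤) := Spec.map (CommRingCat.ofHom Ψ)
  have hF : ∀ n : ℕ, Spec.map (CommRingCat.ofHom (Ideal.Quotient.mk (I ^ n))) ≫ F =
      e n ≫ X.toSpecΓ := by
    intro n
    rw [← Spec.map_preimage (e n ≫ X.toSpecΓ)]
    change Spec.map _ ≫ Spec.map _ = _
    rw [← Spec.map_comp]
    congr 1
    ext x
    exact congrArg (fun t => t x) (hΨ n)
  have hrange : Set.range F ⊆ Set.range X.toSpecΓ := by
    rintro _ ⟨y, rfl⟩
    obtain ⟨m, hm, hym⟩ := Ideal.exists_le_maximal (y : PrimeSpectrum A).asIdeal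
      (y : PrimeSpectrum A).isPrime.ne_top
    have hIm : I ≤ m := (IsAdicComplete.le_jacobson_bot I).trans (sInf_le ⟨bot_le, hm⟩)
    let m' : PrimeSpectrum A := ⟨m, hm.isPrime⟩
    have hspec : (y : PrimeSpectrum A) ⤳ m' := (PrimeSpectrum.le_iff_specializes _ _).mp hym
    have hz : m' ∈ Set.range (PrimeSpectrum.comap (Ideal.Quotient.mk (I ^ 1))) := by
      rw [range_comap_of_surjective _ _ Ideal.Quotient.mk_surjective, Ideal.mk_ker]
      simpa [PrimeSpectrum.mem_zeroLocus] using hIm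
    obtain ⟨z, hz⟩ := hz
    have h1 : F y ⤳ F m' := hspec.map F.continuous
    have h2 : F m' ∈ Set.range X.toSpecΓ := by
      refine ⟨e 1 z, ?_⟩
      have h3 := congrArg (fun t : Spec (CommRingCat.of (A ⧸ I ^ 1)) ⟶ Spec Γ(X, ⊤) => t z) (hF 1)
      simp only [Scheme.Hom.comp_apply] at h3
      rw [← h3, ← hz]
      rfl
    exact h1.mem_open X.toSpecΓ.isOpenEmbedding.isOpen_range h2
  refine ⟨IsOpenImmersion.lift X.toSpecΓ F hrange, fun n => ?_⟩
  rw [← cancel_mono X.toSpecΓ, Category.assoc, IsOpenImmersion.lift_fac, hF n]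

/-- Let `A` be a commutative ring which is `I`-adically complete for an ideal `I` and let `X` be a
quasi-affine scheme. Then the natural map from `X(A)` to compatible systems in the `X(A/I^n)` is
bijective: two morphisms `Spec A ⟶ X` with the same restriction to every `Spec (A/I^n)` are equal,
and every family of morphisms `Spec (A/I^n) ⟶ X` compatible with the transition maps `Spec (A/I^n) ⟶
Spec (A/I^(n+1))` is the family of restrictions of a morphism `Spec A ⟶ X`. -/
theorem result (A : Type u) [CommRing A] (I : Ideal A) [IsAdicComplete I A]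
    (X : Scheme.{u}) [X.IsQuasiAffine] :
    (∀ f g : Spec (CommRingCat.of A) ⟶ X,
      (∀ n : ℕ, Spec.map (CommRingCat.ofHom (Ideal.Quotient.mk (I ^ n))) ≫ f =
        Spec.map (CommRingCat.ofHom (Ideal.Quotient.mk (I ^ n))) ≫ g) → f = g) ∧
    (∀ e : ∀ n : ℕ, Spec (CommRingCat.of (A ⧸ I ^ n)) ⟶ X,
      (∀ n : ℕ, Spec.map (CommRingCat.ofHom (Ideal.Quotient.factorPowSucc I n)) ≫ e (n + 1) = e n) →
      ∃ f : Spec (CommRingCat.of A) ⟶ X,
        ∀ n : ℕ, Spec.map (CommRingCat.ofHom (Ideal.Quotient.mk (I ^ n))) ≫ f = e n) := by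

  exact ⟨part1 A I X, part2 A I X⟩

end Groth.Agent.S17863
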