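import Groth.Statements.S17864
import Mathlib

set_option autoImplicit false
universe u
open Algz

namespace Groth.Agent.S17864

section Aux
variable {A : Type*} [CommRing A]

lemma mem_smul_top_pi (J : Ideal A) (m : ℕ) (x : Fin m → A) :
    x ∈ (J • ⊤ : Submodule A (Fin m → A)) ↔ ∀ i, x i ∈ J := by
  classical
  constructor
  · intro hx i
    refine Submodule.smul_induction_on (p := fun y => y i ∈ J) hx (fun r hr y _ => ?_)
      (fun y z hy hz => ?_)
    · simpa using J.mul_mem_right (y i) hr
    · simpa using J.add_mem hy hz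
  · intro hx
    have h := pi_eq_sum_univ x
    rw [h]
    exact Submodule.sum_mem _ fun i _ => Submodule.smul_mem_smul (hx i) Submodule.mem_top

lemma map_mem_smul_top {M₁ M₂ : Type*} [AddCommGroup M₁] [Module A M₁] [AddCommGroup M₂]
    [Module A M₂] (h : M₁ →ₗ[A] M₂) (J : Ideal A) {x : M₁} (hx : x ∈ (J • ⊤ : Submodule A M₁)) :
    h x ∈ (J • ⊤ : Submodule A M₂) := by
  have : (J • ⊤ : Submodule A M₁).map h ≤ J • ⊤ := by
    rw [Submodule.map_smul'']; exact Submodule.smul_mono le_rfl le_top
  exact this (Submodule.mem_map_of_mem hx)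

lemma isAdicComplete_pi (I : Ideal A) [IsAdicComplete I A] (m : ℕ) :
    IsAdicComplete I (Fin m → A) := by
  have hA : ∀ n, (I ^ n • ⊤ : Submodule A A) = I ^ n := fun n => by simp
  refine { haus' := ?_, prec' := ?_ }
  · intro x hx
    funext i
    apply IsHausdorff.haus (inferInstance : IsHausdorff I A)
    intro n
    have := hx n
    rw [SModEq.zero, mem_smul_top_pi] at this
    rw [SModEq.zero, hA]
    exact this i
  · intro f hf
    have hc : ∀ i, ∃ L : A, ∀ n, f n i ≡ L [SMOD (I ^ n • ⊤ : Submodule A A)] := by
      intro i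
      apply IsPrecomplete.prec (inferInstance : IsPrecomplete I A)
      intro a b hab
      have := hf hab
      rw [SModEq.sub_mem, mem_smul_top_pi] at this
      rw [SModEq.sub_mem, hA]
      exact this i
    choose L hL using hc
    refine ⟨L, fun n => ?_⟩
    rw [SModEq.sub_mem, mem_smul_top_pi]
    intro i
    have := hL i n
    rw [SModEq.sub_mem, hA] at this
    exact this

lemma isAdicComplete_of_retract (I : Ideal A) {N Q : Type*} [AddCommGroup N] [Module A N]
    [AddCommGroup Q] [Module A Q] [IsAdicComplete I N] (i : Q →ₗ[A] N) (π : N →ₗ[A] Q)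
    (h : π ∘ₗ i = LinearMap.id) : IsAdicComplete I Q := by
  have hπ : ∀ y, π (i y) = y := fun y => LinearMap.congr_fun h y
  refine { haus' := ?_, prec' := ?_ }
  · intro x hx
    have hix : i x = 0 := by
      apply IsHausdorff.haus (inferInstance : IsHausdorff I N)
      intro n
      rw [SModEq.zero]; exact map_mem_smul_top i _ ((SModEq.zero).mp (hx n))
    rw [← hπ x, hix, map_zero]
  · intro f hf
    obtain ⟨L, hL⟩ := IsPrecomplete.prec (inferInstance : IsPrecomplete I N)
      (f := fun n => i (f n)) (by
        intro a b hab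
        rw [SModEq.sub_mem, ← map_sub]; exact map_mem_smul_top i _ (SModEq.sub_mem.mp (hf hab)))
    refine ⟨π L, fun n => ?_⟩
    rw [SModEq.sub_mem, ← hπ (f n), ← map_sub]
    exact map_mem_smul_top π _ (SModEq.sub_mem.mp (hL n))

lemma isAdicComplete_of_finite_projective (I : Ideal A) [IsAdicComplete I A] (Q : Type*)
    [AddCommGroup Q] [Module A Q] [Module.Finite A Q] [Module.Projective A Q] :
    IsAdicComplete I Q := by
  obtain ⟨m, f, hf⟩ := Module.Finite.exists_fin' A Q
  obtain ⟨i, hi⟩ := Module.projective_lifting_property f LinearMap.id hf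
  haveI := isAdicComplete_pi I m
  exact isAdicComplete_of_retract I i f hi

end Aux


/-- The full-faithfulness assertion. Let `A` be a commutative ring which is `I`-adically complete for an
ideal `I`, and `P`, `Q` finitely generated projective `A`-modules. An `A`-linear map `P → Q` is
determined by its reductions modulo the powers `I^n`, and every family of `A`-linear maps `P/I^n P →
Q/I^n Q` compatible with the transition maps is the family of reductions of an `A`-linear map `P →
Q`. (The companion assertion, that compatible systems of finite projective modules over the rings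
`A/I^n` lift to `A`, is not restated here.) -/
theorem result (A : Type u) [CommRing A] (I : Ideal A)
    [IsAdicComplete I A] (P Q : Type u) [AddCommGroup P] [Module A P] [Module.Finite A P]
    [Module.Projective A P] [AddCommGroup Q] [Module A Q] [Module.Finite A Q] [Module.Projective A Q] :
    (∀ f f' : P →ₗ[A] Q, (∀ n : ℕ, f.reduceModIdeal (I ^ n) = f'.reduceModIdeal (I ^ n)) → f = f') ∧
    (∀ g : ∀ n : ℕ, P ⧸ (I ^ n • ⊤ : Submodule A P) →ₗ[A] Q ⧸ (I ^ n • ⊤ : Submodule A Q),
      (∀ n : ℕ, AdicCompletion.transitionMap I Q (Nat.le_succ n) ∘ₗ g (n + 1) =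
        g n ∘ₗ AdicCompletion.transitionMap I P (Nat.le_succ n)) →
      ∃ f : P →ₗ[A] Q, ∀ n : ℕ, f.reduceModIdeal (I ^ n) = g n) := by
  classical
  haveI : IsAdicComplete I Q := isAdicComplete_of_finite_projective I Q
  refine ⟨fun f f' h => ?_, fun g hg => ?_⟩
  · apply DFunLike.coe_injective
    apply IsHausdorff.funext I
    intro n x
    have := LinearMap.congr_fun (h n) (Submodule.Quotient.mk x)
    simpa using this
  · have hcompat : ∀ {m n : ℕ} (hle : m ≤ n),
        Submodule.factorPow I Q hle ∘ₗ (g n ∘ₗ Submodule.mkQ (I ^ n • ⊤ : Submodule A P))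
          = g m ∘ₗ Submodule.mkQ (I ^ m • ⊤ : Submodule A P) := by
      intro m n hle
      ext x
      symm
      refine Submodule.eq_factor_of_eq_factor_succ (p := fun n => (I ^ n • ⊤ : Submodule A Q))
        (fun _ _ le => Submodule.smul_mono_left (Ideal.pow_le_pow_right le))
        (fun n ↦ g n (Submodule.Quotient.mk x)) ?_ hle
      intro s
      have := LinearMap.congr_fun (hg s) (Submodule.Quotient.mk x)
      simpa using this.symm
    refine ⟨IsAdicComplete.lift I (fun n => g n ∘ₗ Submodule.mkQ _) hcompat, fun n => ?_⟩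
    ext x
    simp

end Groth.Agent.S17864
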