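import Groth.Statements.S17866
import Mathlib

set_option autoImplicit false
open CategoryTheory AlgebraicGeometry
universe u
open Algz

namespace Groth.Agent.S17866



open Topology in
theorem isCompact_of_isConstructible {X : Type*} [TopologicalSpace X] [CompactSpace X]
    [QuasiSeparatedSpace X] {s : Set X} (hs : IsConstructible s) : IsCompact s := by
  induction s, hs using BooleanSubalgebra.closure_sdiff_sup_induction with
  | isSublattice =>
    exact ⟨fun s hs t ht ↦ ⟨hs.1.union ht.1, hs.2.union ht.2⟩,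
      fun s hs t ht ↦ ⟨hs.1.inter ht.1, hs.2.inter_isOpen ht.2 ht.1⟩⟩
  | bot_mem => exact ⟨isOpen_empty, .empty⟩
  | top_mem => exact ⟨isOpen_univ, .univ⟩
  | sdiff U hU V hV => exact (hU.2.isCompact).diff hV.1
  | sup s _ t _ hs' ht' => exact hs'.union ht'

open Topology in
theorem isConstructible_image_of_embedding {T X : Type*} [TopologicalSpace T] [TopologicalSpace X]
    [CompactSpace X] [QuasiSeparatedSpace X] {f : T → X} (hf : IsEmbedding f) {A B : Set X}
    (hA : IsClosed A) (hAc : IsConstructible A) (hB : IsClosed B) (hBc : IsConstructible B)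
    (hrange : Set.range f = B \ A) {C : Set T} (hC : IsConstructible C) :
    IsConstructible (f '' C) := by
  have hOr : IsRetrocompact Aᶜ :=
    (isCompact_of_isConstructible hAc.compl).isRetrocompact hA.isOpen_compl
  have hBr : IsRetrocompact Bᶜ :=
    (isCompact_of_isConstructible hBc.compl).isRetrocompact hB.isOpen_compl
  have hmem : ∀ x, f x ∈ Aᶜ := fun x => by
    have : f x ∈ B \ A := hrange ▸ Set.mem_range_self x
    exact this.2
  let j : T → ↥(Aᶜ : Set X) := Set.codRestrict f Aᶜ hmem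
  have hj : IsEmbedding j := hf.codRestrict _ hmem
  have hjrange : Set.range j = Subtype.val ⁻¹' B := by
    ext ⟨x, hx⟩
    simp only [Set.mem_range, Set.mem_preimage]
    constructor
    · rintro ⟨τ, hτ⟩
      have h1 : f τ = x := congrArg Subtype.val hτ
      have : f τ ∈ B \ A := hrange ▸ Set.mem_range_self τ
      rw [← h1]; exact this.1
    · intro hxB
      have : x ∈ Set.range f := by rw [hrange]; exact ⟨hxB, hx⟩
      obtain ⟨τ, rfl⟩ := this
      exact ⟨τ, rfl⟩
  have hjc : IsClosedEmbedding j :=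
    ⟨hj, by rw [hjrange]; exact hB.preimage continuous_subtype_val⟩
  have hjcomp : IsRetrocompact (Set.range j)ᶜ := by
    rw [hjrange, ← Set.preimage_compl]
    exact hBr.preimage_of_isOpenEmbedding hA.isOpen_compl.isOpenEmbedding_subtypeVal
  have h1 : IsConstructible (j '' C) := hC.image_of_isClosedEmbedding hjc hjcomp
  have h2 : IsConstructible (Subtype.val '' (j '' C)) :=
    h1.image_of_isOpenEmbedding hA.isOpen_compl.isOpenEmbedding_subtypeVal
      (by rw [Subtype.range_coe]; exact hOr)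
  have h3 : Subtype.val '' (j '' C) = f '' C := by
    rw [Set.image_image]; rfl
  rwa [h3] at h2

/-- In the case of schemes. Let `g₁ : Y₁ ⟶ Y₂` and `g₂ : Y₂ ⟶ Y₃` be Nisnevich covers of quasi-compact
quasi-separated schemes of lengths at most `m₁` and `m₂` respectively. Then `g₁ ≫ g₂` is a Nisnevich
cover of length at most `m₁ * m₂`. (The original form is for quasi-compact quasi-separated algebraic
spaces; stated here for schemes.) -/
theorem result {Y₁ Y₂ Y₃ : Scheme.{u}} (g₁ : Y₁ ⟶ Y₂) (g₂ : Y₂ ⟶ Y₃)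
    [CompactSpace Y₁] [QuasiSeparatedSpace Y₁] [CompactSpace Y₂] [QuasiSeparatedSpace Y₂]
    [CompactSpace Y₃] [QuasiSeparatedSpace Y₃] (m₁ m₂ : ℕ)
    (h₁ : W4c5algebraiztannaka.IsNisCoverLen g₁ m₁) (h₂ : W4c5algebraiztannaka.IsNisCoverLen g₂ m₂) :
    W4c5algebraiztannaka.IsNisCoverLen (g₁ ≫ g₂) (m₁ * m₂) := by

  obtain ⟨het1, Z1, hZ1_0, hZ1_m, hmono1, hcc1, hsec1⟩ := h₁
  obtain ⟨het2, Z2, hZ2_0, hZ2_m, hmono2, hcc2, hsec2⟩ := h₂
  haveI := het1
  haveI := het2
  refine ⟨inferInstance, ?_⟩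
  choose T t s ht_imm ht_range hs using hsec2
  choose R ρ r hρ_imm hρ_range hr using hsec1
  let Z1n : ℕ → Set Y₂ := fun j => if h : j ≤ m₁ then Z1 ⟨j, Nat.lt_succ_of_le h⟩ else Set.univ
  have hZ1n_of : ∀ (j : ℕ) (h : j ≤ m₁), Z1n j = Z1 ⟨j, Nat.lt_succ_of_le h⟩ := by
    intro j h; simp only [Z1n, dif_pos h]
  have hZ1n_0 : Z1n 0 = ∅ := by
    rw [hZ1n_of 0 (Nat.zero_le _)]; exact hZ1_0
  have hZ1n_m : Z1n m₁ = Set.univ := by
    rw [hZ1n_of m₁ le_rfl]; exact hZ1_m
  have hZ1n_cc : ∀ j, IsClosed (Z1n j) ∧ Topology.IsConstructible (Z1n j) := by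
    intro j
    by_cases h : j ≤ m₁
    · rw [hZ1n_of j h]; exact hcc1 _
    · simp only [Z1n, dif_neg h]; exact ⟨isClosed_univ, Topology.IsConstructible.univ⟩
  have hZ1n_mono : Monotone Z1n := by
    intro a b hab
    by_cases hb : b ≤ m₁
    · rw [hZ1n_of a (hab.trans hb), hZ1n_of b hb]
      exact hmono1 (Fin.mk_le_mk.mpr hab)
    · simp only [Z1n, dif_neg hb]; exact Set.subset_univ _
  let G : ∀ k : Fin m₂, ℕ → Set Y₃ := fun k j => Z2 k.castSucc ∪ ⇑(t k) '' (⇑(s k) ⁻¹' Z1n j)
  have htr : ∀ k, Set.range ⇑(t k) = Z2 k.succ \ Z2 k.castSucc := fun k => ht_range k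
  have hsub2 : ∀ k : Fin m₂, Z2 k.castSucc ⊆ Z2 k.succ := fun k =>
    hmono2 (Fin.castSucc_lt_succ).le
  have hG0 : ∀ k, G k 0 = Z2 k.castSucc := by
    intro k; simp only [G, hZ1n_0, Set.preimage_empty, Set.image_empty, Set.union_empty]
  have hGm : ∀ k, G k m₁ = Z2 k.succ := by
    intro k
    simp only [G, hZ1n_m, Set.preimage_univ, Set.image_univ]
    rw [htr k, Set.union_diff_cancel (hsub2 k)]
  have hGmono : ∀ k, Monotone (G k) := by
    intro k a b hab
    exact Set.union_subset_union_right _ (Set.image_mono (Set.preimage_mono (hZ1n_mono hab)))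
  have hGcc : ∀ k j, IsClosed (G k j) ∧ Topology.IsConstructible (G k j) := by
    intro k j
    haveI := ht_imm k
    have hemb : Topology.IsEmbedding ⇑(t k) := (t k).isEmbedding
    constructor
    · obtain ⟨F, hF, hFeq⟩ := hemb.isInducing.isClosed_iff.mp
        (((hZ1n_cc j).1).preimage (s k).continuous)
      have : G k j = Z2 k.castSucc ∪ (F ∩ Z2 k.succ) := by
        simp only [G]
        rw [← hFeq, Set.image_preimage_eq_inter_range, htr k]
        ext x
        have := @hsub2 k x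
        simp only [Set.mem_union, Set.mem_inter_iff, Set.mem_sdiff]
        tauto
      rw [this]
      exact (hcc2 _).1.union (hF.inter (hcc2 _).1)
    · exact (hcc2 _).2.union (isConstructible_image_of_embedding hemb (hcc2 k.castSucc).1
        (hcc2 k.castSucc).2 (hcc2 k.succ).1 (hcc2 k.succ).2 (htr k)
        ((s k).isConstructible_preimage (hZ1n_cc j).2))
  have hGsec : ∀ (k : Fin m₂) (j : Fin m₁),
      W4c5algebraiztannaka.HasSectOver (g₁ ≫ g₂) (G k (j.val + 1) \ G k j.val) := by
    intro k j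
    haveI := ht_imm k
    haveI := hρ_imm j
    have hinj : Function.Injective ⇑(t k) := (t k).isEmbedding.injective
    have hj1 : Z1n (j.val + 1) = Z1 j.succ := by
      rw [hZ1n_of _ j.2]; rfl
    have hj0 : Z1n j.val = Z1 j.castSucc := by
      rw [hZ1n_of _ j.2.le]; rfl
    have hdiff : G k (j.val + 1) \ G k j.val =
        ⇑(t k) '' (⇑(s k) ⁻¹' (Z1 j.succ \ Z1 j.castSucc)) := by
      simp only [G, hj1, hj0]
      ext x
      simp only [Set.mem_sdiff, Set.mem_union, Set.mem_image, Set.mem_preimage]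
      constructor
      · rintro ⟨h1, h2⟩
        push Not at h2
        rcases h1 with h1 | ⟨τ, hτ, rfl⟩
        · exact absurd h1 h2.1
        · exact ⟨τ, ⟨hτ, fun h => h2.2 τ h rfl⟩, rfl⟩
      · rintro ⟨τ, ⟨hτ1, hτ2⟩, rfl⟩
        refine ⟨Or.inr ⟨τ, hτ1, rfl⟩, ?_⟩
        rintro (h | ⟨τ', hτ', he⟩)
        · have : (t k) τ ∈ Z2 k.succ \ Z2 k.castSucc := by
            rw [← htr k]; exact Set.mem_range_self τ
          exact this.2 h
        · rw [hinj he] at hτ'
          exact hτ2 hτ'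
    rw [hdiff]
    refine ⟨Limits.pullback (s k) (ρ j), Limits.pullback.fst (s k) (ρ j) ≫ t k,
      Limits.pullback.snd (s k) (ρ j) ≫ r j, inferInstance, ?_, ?_⟩
    · show Set.range ⇑(Limits.pullback.fst (s k) (ρ j) ≫ t k) = _
      rw [Scheme.Hom.comp_base, TopCat.coe_comp, Set.range_comp, Scheme.Pullback.range_fst]
      have : Set.range ⇑(ρ j) = Z1 j.succ \ Z1 j.castSucc := hρ_range j
      rw [this]
    · rw [Category.assoc, ← Category.assoc (r j), hr j, ← Category.assoc,
        ← Limits.pullback.condition, Category.assoc, hs k]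
  by_cases hm : m₁ * m₂ = 0
  · -- degenerate case: Y₃ is empty
    have hempty : IsEmpty Y₃ := by
      rcases Nat.mul_eq_zero.mp hm with h0 | h0
      · subst h0
        have hY2 : IsEmpty Y₂ := by
          rw [← Set.univ_eq_empty_iff, ← hZ1_m]; exact hZ1_0
        have hall : ∀ k : Fin (m₂ + 1), Z2 k = ∅ := by
          intro k
          induction k using Fin.induction with
          | zero => exact hZ2_0
          | succ k ih =>
            have h1 : Set.range ⇑(t k) = ∅ := by
              rw [Set.range_eq_empty_iff]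
              exact ⟨fun x => hY2.false (s k x)⟩
            have h2 := htr k
            rw [h1, ih] at h2
            simpa using h2.symm
        rw [← Set.univ_eq_empty_iff, ← hZ2_m]; exact hall _
      · subst h0
        rw [← Set.univ_eq_empty_iff, ← hZ2_m]; exact hZ2_0
    refine ⟨fun _ => ∅, rfl, (Set.univ_eq_empty_iff.mpr hempty).symm, fun _ _ _ => le_rfl,
      fun _ => ⟨isClosed_empty, Topology.IsConstructible.empty⟩, fun k => ?_⟩
    exact absurd k.2 (by omega)
  · have hm₁ : 0 < m₁ := Nat.pos_of_ne_zero fun h => hm (by rw [h, Nat.zero_mul])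
    have hm₂ : 0 < m₂ := Nat.pos_of_ne_zero fun h => hm (by rw [h, Nat.mul_zero])
    let Zn : ℕ → Set Y₃ := fun n =>
      if h : n / m₁ < m₂ then G ⟨n / m₁, h⟩ (n % m₁) else Set.univ
    have hZn_of : ∀ (n k : ℕ) (hk : k < m₂) (j : ℕ), n / m₁ = k → n % m₁ = j →
        Zn n = G ⟨k, hk⟩ j := by
      rintro n _ hk _ rfl rfl
      simp only [Zn, dif_pos hk]
    have hZn_top : ∀ n, n / m₁ = m₂ → Zn n = Set.univ := by
      intro n h
      simp only [Zn, h, lt_irrefl, dif_neg, not_false_eq_true]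
    have hstep : ∀ n, n < m₁ * m₂ → ∃ (k : Fin m₂) (j : Fin m₁),
        Zn n = G k j.val ∧ Zn (n + 1) = G k (j.val + 1) := by
      intro n hn
      have hq : n / m₁ < m₂ := Nat.div_lt_of_lt_mul hn
      have hr : n % m₁ < m₁ := Nat.mod_lt _ hm₁
      refine ⟨⟨n / m₁, hq⟩, ⟨n % m₁, hr⟩, hZn_of n _ hq _ rfl rfl, ?_⟩
      have hqr : n % m₁ + m₁ * (n / m₁) = n := Nat.mod_add_div n m₁
      by_cases hj : n % m₁ + 1 < m₁
      · have := (Nat.div_mod_unique hm₁ (a := n + 1) (d := n / m₁) (c := n % m₁ + 1)).mpr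
          ⟨by omega, hj⟩
        exact hZn_of (n + 1) _ hq _ this.1 this.2
      · have hj' : n % m₁ + 1 = m₁ := by omega
        have hmul : m₁ * (n / m₁ + 1) = m₁ * (n / m₁) + m₁ := Nat.mul_succ _ _
        have := (Nat.div_mod_unique hm₁ (a := n + 1) (d := n / m₁ + 1) (c := 0)).mpr
          ⟨by omega, hm₁⟩
        show Zn (n + 1) = G ⟨n / m₁, hq⟩ (n % m₁ + 1)
        rw [hj', hGm]
        by_cases hq1 : n / m₁ + 1 < m₂
        · rw [hZn_of (n + 1) _ hq1 _ this.1 this.2, hG0]
          exact congrArg Z2 (Fin.ext rfl)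
        · have hq2 : n / m₁ + 1 = m₂ := by omega
          rw [hZn_top (n + 1) (this.1.trans hq2), ← hZ2_m]
          exact congrArg Z2 (Fin.ext hq2.symm)
    refine ⟨fun n => Zn n.val, ?_, ?_, ?_, ?_, ?_⟩
    · show Zn 0 = ∅
      rw [hZn_of 0 0 hm₂ 0 (Nat.zero_div _) (Nat.zero_mod _), hG0, ← hZ2_0]
      exact congrArg Z2 (Fin.ext rfl)
    · show Zn (m₁ * m₂) = Set.univ
      exact hZn_top _ (Nat.mul_div_cancel_left m₂ hm₁)
    · rw [Fin.monotone_iff_le_succ]
      intro n
      obtain ⟨k, j, h1, h2⟩ := hstep n.val n.2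
      show Zn n.val ≤ Zn (n.val + 1)
      rw [h1, h2]
      exact hGmono k (Nat.le_succ _)
    · intro n
      by_cases hn : n.val < m₁ * m₂
      · obtain ⟨k, j, h1, -⟩ := hstep n.val hn
        show IsClosed (Zn n.val) ∧ Topology.IsConstructible (Zn n.val)
        rw [h1]; exact hGcc k _
      · have : n.val = m₁ * m₂ := by have := n.2; omega
        show IsClosed (Zn n.val) ∧ Topology.IsConstructible (Zn n.val)
        rw [this, hZn_top _ (Nat.mul_div_cancel_left m₂ hm₁)]
        exact ⟨isClosed_univ, Topology.IsConstructible.univ⟩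
    · intro n
      obtain ⟨k, j, h1, h2⟩ := hstep n.val n.2
      show W4c5algebraiztannaka.HasSectOver (g₁ ≫ g₂) (Zn (n.val + 1) \ Zn n.val)
      rw [h1, h2]
      exact hGsec k j

end Groth.Agent.S17866
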