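import Groth.Statements.S17867
import Groth.Agent.Lib.Helper14.NisGen4

set_option autoImplicit false
open CategoryTheory AlgebraicGeometry
universe u
open Algz

namespace Groth.Agent.S17867

/-- In the case of schemes. Let `R` be a commutative ring and `f : U ⟶ Spec R` a Nisnevich cover of
length at most `m`, with `U` a quasi-compact quasi-separated scheme, and let `M` be a finite
`R`-module. If the pullback `f^* M~` of the associated sheaf of modules is a quotient of the free
module of rank `N` on `U` (it is generated by `N` global sections), then `M` is generated by `N * m`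
elements. (Finite generation of `M` follows from the other hypotheses by faithfully flat descent and
is assumed here; the original form is for a Nisnevich cover by a quasi-compact quasi-separated
algebraic space, stated here for a scheme `U`.) -/
theorem result (R : CommRingCat.{u}) (M : ModuleCat.{u} R)
    [Module.Finite R M] {U : Scheme.{u}} [CompactSpace U] [QuasiSeparatedSpace U]
    (f : U ⟶ Spec R) (m N : ℕ) (hf : W4c5algebraiztannaka.IsNisCoverLen f m)
    (hgen : ∃ φ : FlatMod.freeMod U N ⟶ (Scheme.Modules.pullback f).obj (AlgebraicGeometry.tilde M), Epi φ) :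
    ∃ s : Fin (N * m) → M, Submodule.span R (Set.range s) = ⊤ := by
  classical
  obtain ⟨φ, hφ⟩ := hgen
  obtain ⟨Z, hZ0, hZm, hZmono, hZc, hsec⟩ := hf.flag
  obtain ⟨s, hs⟩ := Groth.Agent.Lib.Helper14.NisGen.exists_generators_aux M f N m φ Z hZ0
    (fun k => (hZc k).1) hsec m (Nat.lt_succ_self m)
  refine ⟨s, ?_⟩
  have hlast : (⟨m, Nat.lt_succ_self m⟩ : Fin (m + 1)) = Fin.last m := rfl
  rw [hlast, hZm] at hs
  obtain ⟨P, hP⟩ : ∃ P : Submodule R M, P = Submodule.span R (Set.range s) := ⟨_, rfl⟩
  rw [← hP] at hs ⊢
  by_contra hne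
  have hcol : (P.colon ⊤ : Ideal R) ≠ ⊤ := by
    intro h
    apply hne
    rw [eq_top_iff]
    intro x _
    have h1 : (1 : R) ∈ (P.colon ⊤ : Ideal R) := by rw [h]; trivial
    have h2 := (Submodule.mem_colon.mp h1) x (Submodule.mem_top (R := R))
    rwa [one_smul] at h2
  obtain ⟨𝔪, hmax, hle⟩ := Ideal.exists_le_maximal _ hcol
  obtain ⟨r, hr1, hr2⟩ := hs ⟨𝔪, hmax.isPrime⟩ (Set.mem_univ _)
  exact hr1 (hle (Submodule.mem_colon.mpr fun x _ => hr2 x))

end Groth.Agent.S17867
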