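import Groth.Statements.S17869
import Mathlib

set_option autoImplicit false
open CategoryTheory AlgebraicGeometry
universe u
open Algz

namespace Groth.Agent.S17869


/-- In the case of schemes. Let `U` be a quasi-compact quasi-separated scheme and `V 0, …, V (k-1)`
quasi-compact open subschemes which cover `U`. Then the canonical morphism from the disjoint union
`∐ V i` to `U` is a Nisnevich cover of length at most `k`. (The published example states more
generally that, for a Nisnevich cover of `Y` of length at most `m` with source `U`, the composite
from the disjoint union `∐ V i` to `Y` has length at most `m * k`; stated here is the case of the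
identity of `U`, to which the published argument reduces, and the general bound follows by composing
Nisnevich covers. The original form is for quasi-compact quasi-separated algebraic spaces, with the
members of the cover quasi-compact; stated here for schemes.) -/
theorem result {U : Scheme.{u}} [CompactSpace U] [QuasiSeparatedSpace U]
    (k : ℕ) (V : Fin k → U.Opens) (hV : ∀ i, IsCompact (V i : Set U)) (hcov : ⨆ i, V i = ⊤) :
    W4c5algebraiztannaka.IsNisCoverLen
      (Limits.Sigma.desc (fun i => (V i).ι) : (∐ fun i => ((V i : U.Opens) : Scheme.{u})) ⟶ U) k := by

  refine ⟨IsZariskiLocalAtSource.sigmaDesc (fun i => inferInstance), ?_⟩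
  let Z : Fin (k + 1) → Set U := fun j =>
    ⋂ i : Fin k, if j.val ≤ i.val then ((V i : Set U))ᶜ else Set.univ
  have hZmem : ∀ (j : Fin (k + 1)) (x : U), x ∈ Z j ↔ ∀ i : Fin k, j.val ≤ i.val → x ∉ V i := by
    intro j x
    simp only [Z, Set.mem_iInter]
    refine forall_congr' fun i => ?_
    split_ifs with h
    · simp [h]
    · simp [h]
  refine ⟨Z, ?_, ?_, ?_, ?_, ?_⟩
  · ext x
    simp only [Set.mem_empty_iff_false, iff_false]
    rw [hZmem]
    intro hx
    have : x ∈ (⨆ i, V i : U.Opens) := by rw [hcov]; trivial
    rw [TopologicalSpace.Opens.mem_iSup] at this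
    obtain ⟨i, hi⟩ := this
    exact hx i (Nat.zero_le _) hi
  · ext x
    simp only [Set.mem_univ, iff_true]
    rw [hZmem]
    intro i hi
    exact absurd hi (by simp)
  · intro a b hab x hx
    rw [hZmem] at hx ⊢
    intro i hi
    exact hx i (le_trans hab hi)
  · intro j
    constructor
    · apply isClosed_iInter
      intro i
      split_ifs
      · exact (V i).isOpen.isClosed_compl
      · exact isClosed_univ
    · apply Topology.IsConstructible.iInter
      intro i
      split_ifs
      · exact (((hV i).isRetrocompact (V i).isOpen).isConstructible (V i).isOpen).compl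
      · exact Topology.IsConstructible.univ
  · intro j
    let C : TopologicalSpace.Closeds ((V j : U.Opens) : Scheme.{u}) :=
      ⟨(V j).ι ⁻¹' (⋂ i : Fin k, if j.val < i.val then ((V i : Set U))ᶜ else Set.univ), by
        apply IsClosed.preimage (V j).ι.continuous
        apply isClosed_iInter
        intro i
        split_ifs
        · exact (V i).isOpen.isClosed_compl
        · exact isClosed_univ⟩
    have hCmem : ∀ y : ((V j : U.Opens) : Scheme.{u}), y ∈ (C : Set _) ↔
        ∀ i : Fin k, j.val < i.val → (V j).ι y ∉ V i := by
      intro y
      show (V j).ι y ∈ (⋂ i : Fin k, if j.val < i.val then ((V i : Set U))ᶜ else Set.univ) ↔ _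
      simp only [Set.mem_iInter]
      refine forall_congr' fun i => ?_
      split_ifs with h
      · simp [h]
      · simp [h]
    let I := Scheme.IdealSheafData.vanishingIdeal C
    refine ⟨I.subscheme, I.subschemeι ≫ (V j).ι,
      I.subschemeι ≫ Limits.Sigma.ι (fun i => ((V i : U.Opens) : Scheme.{u})) j,
      inferInstance, ?_, ?_⟩
    · show Set.range (I.subschemeι ≫ (V j).ι) = _
      rw [Scheme.Hom.comp_base, TopCat.coe_comp, Set.range_comp, I.range_subschemeι,
        Scheme.IdealSheafData.coe_support_vanishingIdeal]
      ext x
      simp only [Set.mem_image, Set.mem_sdiff]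
      rw [hZmem, hZmem]
      constructor
      · rintro ⟨y, hyC, rfl⟩
        replace hyC := (hCmem y).mp hyC
        refine ⟨fun i hi => hyC i ?_, fun hall => hall j ?_ ?_⟩
        · simp only [Fin.val_succ] at hi; omega
        · simp
        · exact y.2
      · rintro ⟨h1, h2⟩
        push Not at h2
        obtain ⟨i, hi, hxi⟩ := h2
        have hij : i = j := by
          by_contra hne
          apply h1 i _ hxi
          simp only [Fin.val_succ]
          simp only [Fin.val_castSucc] at hi
          have : i.val ≠ j.val := fun h => hne (Fin.ext h)
          omega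
        subst hij
        refine ⟨⟨x, hxi⟩, (hCmem _).mpr ?_, rfl⟩
        intro i' hi'
        apply h1 i'
        simp only [Fin.val_succ]; omega
    · rw [Category.assoc, Limits.Sigma.ι_desc]

end Groth.Agent.S17869
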