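import Groth.Statements.S1787
import Groth.Agent.Lib.Helper13.DualBC4

set_option autoImplicit false
universe u
open CategoryTheory
attribute [local instance] HasDerivedCategory.standard
open Dual

namespace Groth.Agent.S1787

/-- Let A be a Noetherian ring and f_1, …, f_n elements generating the unit ideal. Let ω be an object of
D(A) such that for each i, assuming the derived base change functor D(A) → D(A_{f_i}) exists, the
base change of ω is a dualizing complex for A_{f_i}. Then ω is a dualizing complex for A. -/
theorem result (A : Type u) [CommRing A] [IsNoetherianRing A] (n : ℕ) (f : Fin n → A) (hf : Ideal.span (Set.range f) = ⊤) (ω : Dual.D A) (h : ∀ i : Fin n, ∃ _ : DRing.HasLBaseChange (algebraMap A (Localization.Away (f i))), Dual.IsDualizing (Localization.Away (f i)) ((DRing.LBaseChange (algebraMap A (Localization.Away (f i)))).obj ω)) : Dual.IsDualizing A ω := by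
  classical
  let B : Fin n → Type u := fun i => Localization.Away (f i)
  have hJF0 : Groth.Agent.Lib.Helper13.DualBC.JF.{u, u} A B :=
    Groth.Agent.Lib.Helper13.DualBC.jf_away A f hf
  have hJF1 : Groth.Agent.Lib.Helper13.DualBC.JF.{u, u + 1} A B :=
    Groth.Agent.Lib.Helper13.DualBC.jf_away A f hf
  have hd : ∀ i : Fin n,
      Dual.IsDualizing (B i) ((Groth.Agent.Lib.Helper13.DR.flatBC A (B i)).obj ω) := by
    intro i
    obtain ⟨inst, hi⟩ := h i
    exact Groth.Agent.Lib.Helper13.DualBC.isDualizing_of_iso
      ((Groth.Agent.Lib.Helper13.Shriek.LBaseChangeFlatIso A (Localization.Away (f i))).app ω) hi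
  -- uniform bounds
  have hb := fun i => (hd i).finite_injective_dimension
  choose a b hab using hb
  have ha' : ∀ i, -(∑ k, |a k|) ≤ a i := by
    intro i
    have h1 : |a i| ≤ ∑ k, |a k| :=
      Finset.single_le_sum (f := fun k => |a k|) (fun k _ => abs_nonneg _) (Finset.mem_univ i)
    have h2 := neg_abs_le (a i)
    linarith
  have hb' : ∀ i, b i ≤ ∑ k, |b k| := by
    intro i
    have h1 : |b i| ≤ ∑ k, |b k| :=
      Finset.single_le_sum (f := fun k => |b k|) (fun k _ => abs_nonneg _) (Finset.mem_univ i)
    have h2 := le_abs_self (b i)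
    linarith
  -- finiteness of cohomology
  have hfin : ∀ j : ℤ, Module.Finite A (Dual.HD A ω j) := by
    intro j
    refine Module.Finite.of_localizationSpan' (Set.range f) hf
      (Mₚ := fun g => TensorProduct (R := A) (Localization.Away (g : A)) (Dual.HD A ω j))
      (Rₚ := fun g => Localization.Away (g : A))
      (fun g => TensorProduct.mk A (Localization.Away (g : A)) (Dual.HD A ω j) 1) (fun g => ?_)
    obtain ⟨g, ⟨i, rfl⟩⟩ := g
    have h1 := (hd i).finite_cohomology j
    have e1 := (Groth.Agent.Lib.Helper13.Shriek.flatBCHomologyIso A (B i) ω j).toLinearEquiv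
    have e2 := Groth.Agent.Lib.Helper13.DR.extendScalarsEquiv (B i)
      ((DerivedCategory.homologyFunctor (ModuleCat.{u} A) j).obj ω)
    exact Module.Finite.equiv (e1.trans e2)
  refine Groth.Agent.Lib.Helper13.DualBC.isDualizing_of_family B hJF0 hJF1 ω
    (-(∑ k, |a k|)) (∑ k, |b k|) hfin hd (fun i M _ _ j hj => ?_)
  refine hab i M j ?_
  rcases hj with hj | hj
  · exact Or.inl (lt_of_lt_of_le hj (ha' i))
  · exact Or.inr (lt_of_le_of_lt (hb' i) hj)

end Groth.Agent.S1787
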