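import Groth.Statements.S17873
import Mathlib
import Groth.Agent.Lib.Helper18.CMRing

set_option autoImplicit false
universe u
open GRRSing

namespace Groth.Agent.S17873





open IsLocalRing RingTheory.Sequence

section A

attribute [local instance] Ideal.Quotient.field

variable {T : Type u} [CommRing T] [IsLocalRing T] [IsNoetherianRing T] (J : Ideal T)

/-- the quotient map `J → J/mJ` -/
noncomputable abbrev qJ : J →ₗ[T] (J ⧸ (maximalIdeal T • ⊤ : Submodule T J)) :=
  Submodule.mkQ _

theorem map_subtype_sup {i : ℕ} (w : Fin i → J) :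
    (Submodule.span T (Set.range w) ⊔ (maximalIdeal T • ⊤ : Submodule T J)).map J.subtype =
      Ideal.span (Set.range (fun a => (w a : T))) ⊔ maximalIdeal T * J := by
  rw [Submodule.map_sup, Submodule.map_span, Submodule.map_smul'', Submodule.map_top,
    Submodule.range_subtype, ← Set.range_comp]
  rfl

theorem mem_span_iff {i : ℕ} (w : Fin i → J) (x : J) :
    qJ J x ∈ Submodule.span (T ⧸ maximalIdeal T) (Set.range (qJ J ∘ w)) ↔
      (x : T) ∈ Ideal.span (Set.range (fun a => (w a : T))) ⊔ maximalIdeal T * J := by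
  have h1 : qJ J x ∈ Submodule.span (T ⧸ maximalIdeal T) (Set.range (qJ J ∘ w)) ↔
      qJ J x ∈ Submodule.span T (Set.range (qJ J ∘ w)) := by
    rw [← Submodule.restrictScalars_span T (T ⧸ maximalIdeal T) Ideal.Quotient.mk_surjective]
    rfl
  rw [h1, Set.range_comp, ← Submodule.map_span, ← Submodule.mem_comap, Submodule.comap_map_eq,
    Submodule.ker_mkQ, ← map_subtype_sup]
  constructor
  · intro h
    exact ⟨x, h, rfl⟩
  · rintro ⟨y, hy, hyx⟩
    have : y = x := Subtype.ext hyx
    rw [← this]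
    exact hy

theorem exists_snoc {i : ℕ} (w : Fin i → J)
    (hli : LinearIndependent (T ⧸ maximalIdeal T) (qJ J ∘ w))
    (Ps : Finset (Ideal T)) (hPs : ∀ p ∈ Ps, p.IsPrime ∧ ¬ J ≤ p)
    (hK : ¬ J ≤ Ideal.span (Set.range (fun a => (w a : T))) ⊔ maximalIdeal T * J) :
    ∃ x : J, LinearIndependent (T ⧸ maximalIdeal T) (qJ J ∘ (Fin.snoc w x : Fin (i + 1) → J)) ∧
      ∀ p ∈ Ps, (x : T) ∉ p := by
  classical
  obtain ⟨K, hKdef⟩ : ∃ K : Ideal T,
      K = Ideal.span (Set.range (fun a => (w a : T))) ⊔ maximalIdeal T * J := ⟨_, rfl⟩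
  rw [← hKdef] at hK
  have hex : ∃ x ∈ J, x ∉ K ∧ ∀ p ∈ Ps, x ∉ p := by
    by_contra hcon
    push Not at hcon
    have hsub : (J : Set T) ⊆ ⋃ p ∈ ((insert K Ps : Finset (Ideal T)) : Set (Ideal T)),
        ((fun p : Ideal T => p) p : Set T) := by
      intro x hx
      by_cases hxK : x ∈ K
      · exact Set.mem_biUnion (Finset.mem_coe.mpr (Finset.mem_insert_self K Ps)) hxK
      · obtain ⟨p, hp, hxp⟩ := hcon x hx hxK
        exact Set.mem_biUnion (Finset.mem_coe.mpr (Finset.mem_insert_of_mem hp)) hxp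
    rw [Ideal.subset_union_prime K K (fun p hp h1 _ => by
      rcases Finset.mem_insert.mp hp with rfl | hp'
      · exact absurd rfl h1
      · exact (hPs p hp').1)] at hsub
    obtain ⟨p, hp, hJp⟩ := hsub
    rcases Finset.mem_insert.mp hp with rfl | hp'
    · exact hK hJp
    · exact (hPs p hp').2 hJp
  obtain ⟨x, hxJ, hxK, hxP⟩ := hex
  refine ⟨⟨x, hxJ⟩, ?_, hxP⟩
  rw [Fin.comp_snoc]
  have hiff := linearIndependent_fin_snoc (K := T ⧸ maximalIdeal T)
    (V := J ⧸ (maximalIdeal T • ⊤ : Submodule T J)) (x := qJ J ⟨x, hxJ⟩) (v := qJ J ∘ w)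
  refine hiff.mpr ⟨hli, fun h => hxK ?_⟩
  rw [hKdef]
  exact (mem_span_iff J w ⟨x, hxJ⟩).mp h

instance finite_quot : Module.Finite (T ⧸ maximalIdeal T)
    (J ⧸ (maximalIdeal T • ⊤ : Submodule T J)) :=
  Module.Finite.of_restrictScalars_finite T _ _

theorem finrank_quot : Module.finrank (T ⧸ maximalIdeal T)
    (J ⧸ (maximalIdeal T • ⊤ : Submodule T J)) = Submodule.spanFinrank J :=
  (IsLocalRing.spanFinrank_eq_finrank_quotient J
    ((isNoetherianRing_iff_ideal_fg T).1 inferInstance J)).symm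

theorem card_le {i : ℕ} (w : Fin i → J)
    (hli : LinearIndependent (T ⧸ maximalIdeal T) (qJ J ∘ w)) : i ≤ Submodule.spanFinrank J := by
  have := hli.fintype_card_le_finrank
  rwa [Fintype.card_fin, finrank_quot] at this

theorem span_eq_top_of_le {i : ℕ} (w : Fin i → J)
    (hK : J ≤ Ideal.span (Set.range (fun a => (w a : T))) ⊔ maximalIdeal T * J) :
    Submodule.span (T ⧸ maximalIdeal T) (Set.range (qJ J ∘ w)) = ⊤ := by
  rw [eq_top_iff]
  intro y _
  obtain ⟨x, rfl⟩ := Submodule.mkQ_surjective _ y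
  exact (mem_span_iff J w x).mpr (hK x.2)

theorem not_le_of_lt {i : ℕ} (w : Fin i → J)
    (hli : LinearIndependent (T ⧸ maximalIdeal T) (qJ J ∘ w)) (hi : i < Submodule.spanFinrank J) :
    ¬ J ≤ Ideal.span (Set.range (fun a => (w a : T))) ⊔ maximalIdeal T * J := by
  intro hK
  have hsp := span_eq_top_of_le J w hK
  have hb := Module.finrank_eq_card_basis (Module.Basis.mk hli hsp.ge)
  rw [finrank_quot, Fintype.card_fin] at hb
  omega

theorem le_span_of_eq {i : ℕ} (w : Fin i → J)
    (hli : LinearIndependent (T ⧸ maximalIdeal T) (qJ J ∘ w)) (hi : i = Submodule.spanFinrank J) :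
    J = Ideal.span (Set.range (fun a => (w a : T))) := by
  have hsp : Submodule.span (T ⧸ maximalIdeal T) (Set.range (qJ J ∘ w)) = ⊤ := by
    apply hli.span_eq_top_of_card_eq_finrank'
    rw [Fintype.card_fin, finrank_quot, hi]
  have hK : J ≤ Ideal.span (Set.range (fun a => (w a : T))) ⊔ maximalIdeal T * J := by
    intro x hx
    have : qJ J ⟨x, hx⟩ ∈ Submodule.span (T ⧸ maximalIdeal T) (Set.range (qJ J ∘ w)) := by
      rw [hsp]; trivial
    exact (mem_span_iff J w ⟨x, hx⟩).mp this
  apply le_antisymm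
  · exact Submodule.le_of_le_smul_of_le_jacobson_bot
      ((isNoetherianRing_iff_ideal_fg T).1 inferInstance J)
      (IsLocalRing.maximalIdeal_le_jacobson ⊥) hK
  · rw [Ideal.span_le]
    rintro _ ⟨a, rfl⟩
    exact (w a).2

theorem ofFn_snoc {i : ℕ} (w : Fin i → J) (x : J) :
    List.ofFn (fun a => (((Fin.snoc w x : Fin (i + 1) → J) a : J) : T)) =
      List.ofFn (fun a => (w a : T)) ++ [(x : T)] := by
  rw [List.ofFn_succ', List.concat_eq_append]
  simp only [Fin.snoc_castSucc, Fin.snoc_last]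

theorem ofList_ofFn {i : ℕ} (g : Fin i → T) :
    Ideal.ofList (List.ofFn g) = Ideal.span (Set.range g) := by
  unfold Ideal.ofList
  congr 1
  ext r
  simp [List.mem_ofFn]

theorem ofList_smul_top (rs : List T) : (Ideal.ofList rs • ⊤ : Submodule T T) = Ideal.ofList rs := by
  rw [smul_eq_mul, Ideal.mul_top]

open Groth.Agent.Lib.Helper16.Depth in
theorem phase1 (hJ : J ≠ ⊤) (j : ℕ) (hj : LocCoh.idealDepth J T = j) :
    ∀ i, i ≤ j → ∃ w : Fin i → J, LinearIndependent (T ⧸ maximalIdeal T) (qJ J ∘ w) ∧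
      IsWeaklyRegular T (List.ofFn (fun a => (w a : T))) := by
  classical
  intro i
  induction i with
  | zero =>
    intro _
    refine ⟨Fin.elim0, linearIndependent_empty_type, ?_⟩
    rw [List.ofFn_zero]
    exact IsWeaklyRegular.nil T T
  | succ i ih =>
    intro hi
    obtain ⟨w, hli, hreg⟩ := ih (by omega)
    obtain ⟨ts, htsdef⟩ : ∃ ts, ts = List.ofFn (fun a => (w a : T)) := ⟨_, rfl⟩
    rw [← htsdef] at hreg
    have hlen : ts.length = i := by rw [htsdef, List.length_ofFn]
    have hmem : ∀ t ∈ ts, t ∈ J := by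
      intro t ht
      rw [htsdef, List.mem_ofFn] at ht
      obtain ⟨a, rfl⟩ := ht
      exact (w a).2
    have hofList : Ideal.ofList ts = Ideal.span (Set.range (fun a => (w a : T))) := by
      rw [htsdef, ofList_ofFn]
    have hJT : J • (⊤ : Submodule T T) ≠ ⊤ := by
      rw [smul_eq_mul, Ideal.mul_top]
      exact hJ
    have hdepth := Groth.Agent.Lib.Helper18.CM.idealDepth_quot_ofList J ts hmem T hJT hreg
    rw [hj, hlen] at hdepth
    have h1 : ((1 : ℕ) : ℕ∞) ≤ LocCoh.idealDepth J (T ⧸ (Ideal.ofList ts • ⊤ : Submodule T T)) := by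
      rw [Nat.cast_one, ENat.one_le_iff_ne_zero]
      intro h0
      rw [h0, zero_add] at hdepth
      have : i = j := by exact_mod_cast hdepth
      omega
    -- a regular element or triviality
    have hor : Subsingleton (T ⧸ (Ideal.ofList ts • ⊤ : Submodule T T)) ∨
        ∃ r ∈ J, IsSMulRegular (T ⧸ (Ideal.ofList ts • ⊤ : Submodule T T)) r := by
      rcases (le_idealDepth_iff J _ 1).mp h1 with h | ⟨rs, hrl, hrr, hrm⟩
      · left
        have hbot := Submodule.eq_bot_of_le_smul_of_le_jacobson_bot J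
          (⊤ : Submodule T (T ⧸ (Ideal.ofList ts • ⊤ : Submodule T T))) Module.Finite.fg_top h.ge
          ((IsLocalRing.le_maximalIdeal hJ).trans (IsLocalRing.maximalIdeal_le_jacobson ⊥))
        refine ⟨fun a b => ?_⟩
        have ha : a ∈ (⊤ : Submodule T _) := trivial
        have hb : b ∈ (⊤ : Submodule T _) := trivial
        rw [hbot, Submodule.mem_bot] at ha hb
        rw [ha, hb]
      · right
        match rs, hrl with
        | [r], _ =>
          exact ⟨r, hrm r (List.mem_singleton_self r), ((isWeaklyRegular_cons_iff _ r []).mp hrr).1⟩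
    -- zero divisors
    have hzd := biUnion_associatedPrimes_eq_zero_divisors T
      (T ⧸ (Ideal.ofList ts • ⊤ : Submodule T T))
    have hone : ∀ r ∈ Ideal.ofList ts,
        r • (Submodule.Quotient.mk (1 : T) : T ⧸ (Ideal.ofList ts • ⊤ : Submodule T T)) = 0 := by
      intro r hr
      rw [← Submodule.Quotient.mk_smul, Submodule.Quotient.mk_eq_zero, ofList_smul_top,
        smul_eq_mul, mul_one]
      exact hr
    have hone_ne : (Submodule.Quotient.mk (1 : T) : T ⧸ (Ideal.ofList ts • ⊤ : Submodule T T)) ≠ 0 := by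
      intro h0
      rw [Submodule.Quotient.mk_eq_zero, ofList_smul_top] at h0
      apply hJ
      rw [Ideal.eq_top_iff_one]
      exact (Ideal.span_le.mpr (fun t ht => hmem t ht)) h0
    have hPs : ∀ p ∈ (associatedPrimes.finite T
        (T ⧸ (Ideal.ofList ts • ⊤ : Submodule T T))).toFinset, p.IsPrime ∧ ¬ J ≤ p := by
      intro p hp
      rw [Set.Finite.mem_toFinset] at hp
      refine ⟨hp.isPrime, fun hJp => ?_⟩
      have hsub : ∀ r ∈ J, ∃ y : T ⧸ (Ideal.ofList ts • ⊤ : Submodule T T), y ≠ 0 ∧ r • y = 0 := by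
        intro r hr
        have : r ∈ ⋃ p ∈ associatedPrimes T (T ⧸ (Ideal.ofList ts • ⊤ : Submodule T T)), (p : Set T) :=
          Set.mem_biUnion hp (hJp hr)
        rw [hzd] at this
        exact this
      rcases hor with hs | ⟨r, hrJ, hr⟩
      · obtain ⟨y, hy, -⟩ := hsub 0 (zero_mem _)
        exact hy (Subsingleton.elim _ _)
      · obtain ⟨y, hy, hry⟩ := hsub r hrJ
        exact hy (hr (hry.trans (smul_zero r).symm))
    have hK : ¬ J ≤ Ideal.span (Set.range (fun a => (w a : T))) ⊔ maximalIdeal T * J := by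
      intro hle
      have hJle : J ≤ Ideal.ofList ts := by
        rw [hofList]
        exact Submodule.le_of_le_smul_of_le_jacobson_bot
          ((isNoetherianRing_iff_ideal_fg T).1 inferInstance J)
          (IsLocalRing.maximalIdeal_le_jacobson ⊥) hle
      rcases hor with hs | ⟨r, hrJ, hr⟩
      · exact hone_ne (Subsingleton.elim _ _)
      · exact hone_ne (hr ((hone r (hJle hrJ)).trans (smul_zero r).symm))
    obtain ⟨x, hxli, hxP⟩ := exists_snoc J w hli _ hPs hK
    refine ⟨Fin.snoc w x, hxli, ?_⟩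
    rw [ofFn_snoc, ← htsdef, isWeaklyRegular_append_iff]
    refine ⟨hreg, ?_⟩
    rw [isWeaklyRegular_cons_iff]
    refine ⟨?_, IsWeaklyRegular.nil T _⟩
    intro a b hab
    by_contra hne
    have hmem' : (x : T) ∈ {r : T | ∃ y : T ⧸ (Ideal.ofList ts • ⊤ : Submodule T T), y ≠ 0 ∧ r • y = 0} :=
      ⟨a - b, sub_ne_zero.mpr hne, by rw [smul_sub]; exact sub_eq_zero.mpr hab⟩
    rw [← hzd] at hmem'
    obtain ⟨p, hp, hxp⟩ := Set.mem_iUnion₂.mp hmem'
    exact hxP p ((Set.Finite.mem_toFinset _).mpr hp) hxp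

theorem phase2 (j : ℕ) (w₀ : Fin j → J)
    (hli₀ : LinearIndependent (T ⧸ maximalIdeal T) (qJ J ∘ w₀))
    (hreg₀ : IsWeaklyRegular T (List.ofFn (fun a => (w₀ a : T)))) :
    ∀ i, j ≤ i → i ≤ Submodule.spanFinrank J →
      ∃ w : Fin i → J, LinearIndependent (T ⧸ maximalIdeal T) (qJ J ∘ w) ∧
        IsWeaklyRegular T ((List.ofFn (fun a => (w a : T))).take j) := by
  intro i hji
  induction i, hji using Nat.le_induction with
  | base =>
    intro _
    refine ⟨w₀, hli₀, ?_⟩
    rw [List.take_of_length_le (by rw [List.length_ofFn])]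
    exact hreg₀
  | succ i hji ih =>
    intro hic
    obtain ⟨w, hli, hreg⟩ := ih (by omega)
    have hK := not_le_of_lt J w hli (by omega)
    obtain ⟨x, hxli, -⟩ := exists_snoc J w hli ∅ (by simp) hK
    refine ⟨Fin.snoc w x, hxli, ?_⟩
    rw [ofFn_snoc, List.take_append_of_le_length (by rw [List.length_ofFn]; exact hji)]
    exact hreg

theorem main17873 (hJ : J ≠ ⊤) (j : ℕ) (hj : LocCoh.idealDepth J T = j) :
    j ≤ Submodule.spanFinrank J ∧
      ∃ ts : List T, ts.length = Submodule.spanFinrank J ∧ Ideal.ofList ts = J ∧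
        RingTheory.Sequence.IsRegular T (ts.take j) := by
  obtain ⟨w₀, hli₀, hreg₀⟩ := phase1 J hJ j hj j le_rfl
  have hjc := card_le J w₀ hli₀
  obtain ⟨w, hli, hreg⟩ := phase2 J j w₀ hli₀ hreg₀ (Submodule.spanFinrank J) hjc le_rfl
  have hspan : Ideal.ofList (List.ofFn (fun a => (w a : T))) = J := by
    rw [ofList_ofFn]
    exact (le_span_of_eq J w hli rfl).symm
  refine ⟨hjc, List.ofFn (fun a => (w a : T)), List.length_ofFn, hspan, ⟨hreg, ?_⟩⟩
  intro h
  rw [ofList_smul_top] at h
  apply hJ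
  rw [eq_top_iff, ← hspan]
  calc (⊤ : Ideal T) = Ideal.ofList ((List.ofFn (fun a => (w a : T))).take j) := h
    _ ≤ Ideal.ofList (List.ofFn (fun a => (w a : T))) :=
      Ideal.span_mono (fun r hr => List.mem_of_mem_take hr)

end A

/-- Let T be a Cohen–Macaulay Noetherian local ring, J a proper ideal of T, j the grade of J (the
J-depth of T, i.e. the supremum of the lengths of T-regular sequences inside J; a natural number
here) and c the minimal number of generators of J (equal to the dimension of J/𝔪J over the residue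
field). Then j ≤ c and there is a generating sequence t_1, …, t_c of J such that t_1, …, t_j is a
T-regular sequence. (The published statement does not exclude J = T; there c = 1 while the grade,
read as the depth of T, can exceed 1, so this row assumes J proper.) -/
theorem result {T : Type u} [CommRing T] [LocCoh.IsCohenMacaulayLocalRing T]
    (J : Ideal T) (hJ : J ≠ ⊤) (j : ℕ) (hj : LocCoh.idealDepth J T = j) :
    j ≤ Submodule.spanFinrank J ∧
      ∃ ts : List T, ts.length = Submodule.spanFinrank J ∧ Ideal.ofList ts = J ∧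
        RingTheory.Sequence.IsRegular T (ts.take j) := by

  haveI : IsLocalRing T := inferInstance
  haveI : IsNoetherianRing T := inferInstance
  exact main17873 J hJ j hj

end Groth.Agent.S17873
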