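import Groth.Statements.S17875
-- import your own Groth.Agent.* helpers here
import Mathlib.Tactic.FieldSimp
import Mathlib.Tactic.Ring
import Mathlib.Data.Nat.Choose.Cast
import Mathlib.Data.Nat.Choose.Sum

set_option autoImplicit false
universe u
open Polynomial
open GRRSing

namespace Groth.Agent.S17875


theorem term_aux {R : Type u} [CommRing R] [Algebra ℚ R] (r : R) (k u : ℕ) (hu : u ≤ k) (s : ℤ) :
    ((k.factorial : ℚ)⁻¹) • ((s : R) * (r ^ u * (-1 : R) ^ (k - u) * (k.choose u : R))) =
      ((((-1 : ℚ) ^ (k - u) * ((s : ℤ) : ℚ)) / ((u.factorial * (k - u).factorial : ℕ) : ℚ))) • r ^ u := by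
  have hq : ((k.factorial : ℚ)⁻¹) * ((s : ℚ) * ((-1 : ℚ) ^ (k - u) * (k.choose u : ℚ))) =
      (((-1 : ℚ) ^ (k - u) * ((s : ℤ) : ℚ)) / ((u.factorial * (k - u).factorial : ℕ) : ℚ)) := by
    rw [Nat.cast_choose ℚ hu]
    have h1 : (k.factorial : ℚ) ≠ 0 := Nat.cast_ne_zero.mpr k.factorial_ne_zero
    have h2 : (u.factorial : ℚ) ≠ 0 := Nat.cast_ne_zero.mpr u.factorial_ne_zero
    have h3 : ((k - u).factorial : ℚ) ≠ 0 := Nat.cast_ne_zero.mpr (k - u).factorial_ne_zero
    push_cast
    field_simp
  rw [← hq, Algebra.smul_def, Algebra.smul_def]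
  simp only [map_mul, map_inv₀, map_natCast, map_intCast, map_pow, map_neg, map_one]
  ring

/-- Let R be a commutative ℚ-algebra, r an element of R and δ a natural number with (r - 1) ^ (δ + 1) =
0. Write s(k, j) for the signed Stirling numbers of the first kind, the coefficients of x (x - 1) ⋯
(x - k + 1) = Σ_j s(k, j) x ^ j. Then (i) for every natural number n, r ^ n = Σ_{k ≤ δ} [n (n - 1) ⋯
(n - k + 1) / k!] (r - 1) ^ k; and (ii) in the polynomial ring R[x], Σ_{k ≤ δ} [x (x - 1) ⋯ (x - k +
1) / k!] (r - 1) ^ k = Σ_{j ≤ δ} [Σ_{k ≤ δ} Σ_{u ≤ k} (-1) ^ (k - u) s(k, j) / (u! (k - u)!) · r ^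
u] x ^ j. -/
theorem result {R : Type u} [CommRing R] [Algebra ℚ R]
    (r : R) (δ : ℕ) (hr : (r - 1) ^ (δ + 1) = 0) :
    (∀ n : ℕ, r ^ n = ∑ k ∈ Finset.range (δ + 1), ((descPochhammer ℚ k).eval (n : ℚ) / (k.factorial : ℚ)) • (r - 1) ^ k) ∧
    (∑ k ∈ Finset.range (δ + 1), ((k.factorial : ℚ)⁻¹ • (descPochhammer R k * Polynomial.C ((r - 1) ^ k))) =
      ∑ j ∈ Finset.range (δ + 1), Polynomial.C (∑ k ∈ Finset.range (δ + 1), ∑ u ∈ Finset.range (k + 1),
        (((-1 : ℚ) ^ (k - u) * (((descPochhammer ℤ k).coeff j : ℤ) : ℚ)) / ((u.factorial * (k - u).factorial : ℕ) : ℚ)) • r ^ u) * Polynomial.X ^ j) := by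
  have hr' : ∀ k, δ < k → (r - 1) ^ k = 0 := by
    intro k hk
    obtain ⟨m, rfl⟩ := Nat.exists_eq_add_of_le (Nat.succ_le_of_lt hk)
    rw [pow_add, hr, zero_mul]
  constructor
  · intro n
    have hterm : ∀ k, ((descPochhammer ℚ k).eval (n : ℚ) / (k.factorial : ℚ)) • (r - 1) ^ k =
        (n.choose k : R) * (r - 1) ^ k := by
      intro k
      rw [← Nat.cast_choose_eq_descPochhammer_div, Nat.cast_smul_eq_nsmul, nsmul_eq_mul]
    simp_rw [hterm]
    have hpow : r ^ n = ∑ k ∈ Finset.range (n + 1), (n.choose k : R) * (r - 1) ^ k := by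
      have := add_pow (r - 1) 1 n
      simp only [one_pow, mul_one, sub_add_cancel] at this
      rw [this]
      apply Finset.sum_congr rfl
      intros
      ring
    rw [hpow]
    have h1 : ∑ k ∈ Finset.range (n + 1), (n.choose k : R) * (r - 1) ^ k =
        ∑ k ∈ Finset.range (max n δ + 1), (n.choose k : R) * (r - 1) ^ k := by
      apply Finset.sum_subset (Finset.range_mono (by omega))
      intro k _ hk'
      have : n < k := by
        simp only [Finset.mem_range, not_lt] at hk'
        omega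
      rw [Nat.choose_eq_zero_of_lt this, Nat.cast_zero, zero_mul]
    have h2 : ∑ k ∈ Finset.range (δ + 1), (n.choose k : R) * (r - 1) ^ k =
        ∑ k ∈ Finset.range (max n δ + 1), (n.choose k : R) * (r - 1) ^ k := by
      apply Finset.sum_subset (Finset.range_mono (by omega))
      intro k _ hk'
      have : δ < k := by
        simp only [Finset.mem_range, not_lt] at hk'
        omega
      rw [hr' k this, mul_zero]
    rw [h1, h2]
  · ext j
    simp only [Polynomial.finsetSum_coeff, Polynomial.coeff_smul, Polynomial.coeff_mul_C,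
      Polynomial.coeff_C_mul_X_pow]
    have hcoeff : ∀ k, (descPochhammer R k).coeff j = (((descPochhammer ℤ k).coeff j : ℤ) : R) := by
      intro k
      rw [← descPochhammer_map (Int.castRingHom R), Polynomial.coeff_map]
      rfl
    simp_rw [hcoeff]
    rw [Finset.sum_ite_eq]
    by_cases hj : j ≤ δ
    · rw [if_pos (Finset.mem_range.mpr (Nat.lt_succ_of_le hj))]
      apply Finset.sum_congr rfl
      intro k _
      have hexp : (r - 1) ^ k =
          ∑ u ∈ Finset.range (k + 1), r ^ u * (-1 : R) ^ (k - u) * (k.choose u : R) := by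
        rw [sub_eq_add_neg, add_pow]
      rw [hexp, Finset.mul_sum, Finset.smul_sum]
      apply Finset.sum_congr rfl
      intro u hu
      exact term_aux r k u (Nat.lt_succ_iff.mp (Finset.mem_range.mp hu)) _
    · have hzero : ∀ k ∈ Finset.range (δ + 1), (descPochhammer ℤ k).coeff j = 0 := by
        intro k hk
        apply Polynomial.coeff_eq_zero_of_natDegree_lt
        rw [descPochhammer_natDegree]
        have := Finset.mem_range.mp hk
        omega
      rw [if_neg (fun h => hj (Nat.lt_succ_iff.mp (Finset.mem_range.mp h)))]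
      apply Finset.sum_eq_zero
      intro k hk
      rw [hzero k hk, Int.cast_zero, zero_mul, smul_zero]

end Groth.Agent.S17875
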