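import Groth.Statements.S17877
import Mathlib
import Groth.Agent.Lib.Helper9.FibreGen

set_option autoImplicit false
universe u
open GRRSing

namespace Groth.Agent.S17877

open TensorProduct IsLocalRing Groth.Agent.Lib.Helper9.SmoothPt Groth.Agent.Lib.Helper9.FibreGen

attribute [local instance] Algebra.TensorProduct.rightAlgebra

theorem isIntegral_right {K : Type u} [Field K] (L : Type u) [Field L] [Algebra K L]
    [Algebra.IsAlgebraic K L] (A : Type u) [CommRing A] [Algebra K A] :
    Algebra.IsIntegral A (L ⊗[K] A) := by
  constructor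
  intro x
  induction x using TensorProduct.induction_on with
  | zero => exact isIntegral_zero
  | tmul c a =>
    have h1 : (c ⊗ₜ[K] a : L ⊗[K] A) = (c ⊗ₜ[K] (1 : A)) * ((1 : L) ⊗ₜ[K] a) := by
      rw [Algebra.TensorProduct.tmul_mul_tmul, mul_one, one_mul]
    rw [h1]
    refine IsIntegral.mul ?_ ?_
    · have hc : IsIntegral K c := Algebra.IsIntegral.isIntegral c
      have := hc.map (Algebra.TensorProduct.includeLeft : L →ₐ[K] L ⊗[K] A)
      exact this.tower_top
    · exact isIntegral_algebraMap (R := A) (x := a)
  | add x y hx hy => exact hx.add hy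


/-- Let K be a field with algebraic closure K̄ and Z = Spec A an affine scheme of finite type over K of
dimension d whose geometric fibre Spec (K̄ ⊗_K A) is integral with at most hypersurface
singularities (at every prime the embedding dimension of the local ring, the dimension of 𝔪/𝔪² over
the residue field, is at most the height of the prime plus one). Then for every prime p of A the
(Ω_{A/K})_p is generated over A_p by at most d + 1 elements. (The published statement is for any Z
of finite type over K; the assertion is local on Z and the hypotheses pass to affine opens.) -/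
theorem result
    {K : Type u} [Field K] {A : Type u} [CommRing A] [Algebra K A] [Algebra.FiniteType K A]
    [IsDomain (TensorProduct K (AlgebraicClosure K) A)]
    (hhyp : ∀ (q : Ideal (TensorProduct K (AlgebraicClosure K) A)) [q.IsPrime],
      (Module.finrank (IsLocalRing.ResidueField (Localization.AtPrime q))
          (IsLocalRing.CotangentSpace (Localization.AtPrime q)) : ℕ∞) ≤ q.height + 1)
    (d : ℕ) (hd : ringKrullDim A = d) (p : Ideal A) [p.IsPrime] :
    ∃ s : Finset (LocalizedModule p.primeCompl (KaehlerDifferential K A)),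
      s.card ≤ d + 1 ∧ Submodule.span (Localization.AtPrime p) (s : Set (LocalizedModule p.primeCompl (KaehlerDifferential K A))) = ⊤ := by
  set L := AlgebraicClosure K
  set B := L ⊗[K] A
  have hint : Algebra.IsIntegral A B := isIntegral_right L A
  have hinj : Function.Injective (algebraMap A B) :=
    Algebra.TensorProduct.includeRight_injective (algebraMap K L).injective
  have hnoethB : IsNoetherianRing B := Algebra.FiniteType.isNoetherianRing L B
  -- a prime over `p`
  have hker : (⊥ : Ideal B).comap (algebraMap A B) ≤ p := by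
    rw [← RingHom.ker_eq_comap_bot, (RingHom.injective_iff_ker_eq_bot _).mp hinj]
    exact bot_le
  obtain ⟨q, -, hq, hqp⟩ := Ideal.exists_ideal_over_prime_of_isIntegral p (⊥ : Ideal B) hker
  obtain ⟨m, hm, hqm⟩ := Ideal.exists_le_maximal q hq.ne_top
  have hmp : m.IsPrime := hm.isPrime
  -- fibre dimension at `m`
  have h1 := fibreDim_le_of_le (Ω[B⁄L]) q m hqm
  have h2 := finrank_fibre_eq_finrank_cotangentSpace L B m (bijective_algebraMap_residueField L B m)
  have h3 := hhyp m
  have h4 : (m.height : WithBot ℕ∞) ≤ d := by
    rw [← hd]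
    exact (Ideal.height_le_ringKrullDim_of_ne_top hmp.ne_top).trans
      (Groth.Agent.Lib.Helper12.ringKrullDim_le_of_isIntegral A B)
  have h4' : m.height ≤ d := by exact_mod_cast h4
  have h5 : Module.finrank q.ResidueField (q.ResidueField ⊗[B] Ω[B⁄L]) ≤ d + 1 := by
    have : (Module.finrank (ResidueField (Localization.AtPrime m))
        (CotangentSpace (Localization.AtPrime m)) : ℕ∞) ≤ d + 1 :=
      h3.trans (add_le_add_left h4' 1)
    have h6 : Module.finrank (ResidueField (Localization.AtPrime m))
        (CotangentSpace (Localization.AtPrime m)) ≤ d + 1 := by exact_mod_cast this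
    omega
  -- transfer to `A`
  let e1 : B ⊗[A] Ω[A⁄K] ≃ₗ[B] Ω[B⁄L] := KaehlerDifferential.tensorKaehlerEquiv K L A B
  let e2 : q.ResidueField ⊗[B] (B ⊗[A] Ω[A⁄K]) ≃ₗ[q.ResidueField] q.ResidueField ⊗[B] Ω[B⁄L] :=
    AlgebraTensorModule.congr (LinearEquiv.refl q.ResidueField q.ResidueField) e1
  let e3 : q.ResidueField ⊗[B] (B ⊗[A] Ω[A⁄K]) ≃ₗ[q.ResidueField] q.ResidueField ⊗[A] Ω[A⁄K] :=
    AlgebraTensorModule.cancelBaseChange A B q.ResidueField q.ResidueField (Ω[A⁄K])
  have h7 : Module.finrank q.ResidueField (q.ResidueField ⊗[A] Ω[A⁄K]) ≤ d + 1 := by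
    rw [← (e3.symm.trans e2).finrank_eq] at h5
    exact h5
  rw [finrank_fibre_comap q p hqp.symm] at h7
  exact exists_finset_span_localizedModule p (Ω[A⁄K]) (d + 1) h7

end Groth.Agent.S17877
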