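import Groth.Statements.S17878
import Mathlib

set_option autoImplicit false
universe u
open Filter Topology
open GRRSing

namespace Groth.Agent.S17878

section Helpers


/-- the basic series -/
noncomputable def S (j : ℕ) (y : ℂ) : ℂ := ∑' k : ℕ, (k : ℂ) ^ j * y ^ k

lemma summable_S (j : ℕ) {y : ℂ} (hy : ‖y‖ < 1) : Summable (fun k : ℕ => (k : ℂ) ^ j * y ^ k) :=
  summable_pow_mul_geometric_of_norm_lt_one j hy

lemma S_rec (j : ℕ) {y : ℂ} (hy : ‖y‖ < 1) :
    (1 - y) * S j y = (if j = 0 then 1 else 0) +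
      y * ∑ i ∈ Finset.range j, (j.choose i : ℂ) * S i y := by
  have h1 : S j y = (if j = 0 then 1 else 0) + y * ∑ i ∈ Finset.range (j + 1), (j.choose i : ℂ) * S i y := by
    unfold S
    rw [(summable_S j hy).tsum_eq_zero_add]
    congr 1
    · rcases Nat.eq_zero_or_pos j with h | h
      · simp [h]
      · simp [h.ne']
    · have h2 : ∀ k : ℕ, ((k + 1 : ℕ) : ℂ) ^ j * y ^ (k + 1) =
          y * ∑ i ∈ Finset.range (j + 1), (j.choose i : ℂ) * ((k : ℂ) ^ i * y ^ k) := by
        intro k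
        push_cast
        rw [add_pow]
        simp only [one_pow, mul_one]
        rw [Finset.sum_mul, Finset.mul_sum]
        refine Finset.sum_congr rfl fun i _ => ?_
        ring
      simp only [h2]
      rw [tsum_mul_left]
      congr 1
      rw [Summable.tsum_finsetSum]
      · refine Finset.sum_congr rfl fun i _ => ?_
        rw [tsum_mul_left]
      · intro i _
        exact (summable_S i hy).mul_left _
  rw [Finset.sum_range_succ, Nat.choose_self, Nat.cast_one, one_mul] at h1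
  have : S j y - y * S j y = (if j = 0 then 1 else 0) +
      y * ∑ i ∈ Finset.range j, (j.choose i : ℂ) * S i y := by
    nth_rewrite 1 [h1]
    ring
  rw [← this]
  ring


lemma E_rec (E : ℕ → ℚ)
    (hE : PowerSeries.mk (fun j => E j / (j.factorial : ℚ)) * (PowerSeries.exp ℚ + 1) = 2) (j : ℕ) :
    2 * E j + ∑ i ∈ Finset.range j, (j.choose i : ℚ) * E i = if j = 0 then 2 else 0 := by
  have h1 := congrArg (PowerSeries.coeff j) hE
  rw [PowerSeries.coeff_mul, Finset.Nat.sum_antidiagonal_eq_sum_range_succ_mk] at h1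
  have h2 : PowerSeries.coeff j (2 : PowerSeries ℚ) = if j = 0 then 2 else 0 := by
    have : (2 : PowerSeries ℚ) = PowerSeries.C (2 : ℚ) := (map_ofNat PowerSeries.C 2).symm
    rw [this, PowerSeries.coeff_C]
  rw [h2] at h1
  have h3 : ∀ i ∈ Finset.range (j + 1),
      PowerSeries.coeff i (PowerSeries.mk fun j => E j / (j.factorial : ℚ)) *
        PowerSeries.coeff (j - i) (PowerSeries.exp ℚ + 1) =
      ((j.choose i : ℚ) * E i + if i = j then (j.factorial : ℚ) * (E j / j.factorial) else 0) /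
        (j.factorial : ℚ) := by
    intro i hi
    rw [Finset.mem_range] at hi
    have hij : i ≤ j := by omega
    rw [PowerSeries.coeff_mk, map_add, PowerSeries.coeff_exp, PowerSeries.coeff_one]
    have hc : (j.choose i : ℚ) = (j.factorial : ℚ) / ((i.factorial : ℚ) * ((j - i).factorial : ℚ)) := by
      rw [Nat.cast_choose ℚ hij]
    have hi0 : (i.factorial : ℚ) ≠ 0 := by positivity
    have hj0 : (j.factorial : ℚ) ≠ 0 := by positivity
    have hji0 : ((j - i).factorial : ℚ) ≠ 0 := by positivity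
    by_cases h : i = j
    · subst h
      simp
      field_simp
    · have : j - i ≠ 0 := by omega
      rw [if_neg this, if_neg h, hc]
      simp
      field_simp
  rw [Finset.sum_congr rfl h3, ← Finset.sum_div] at h1
  have hj0 : (j.factorial : ℚ) ≠ 0 := by positivity
  rw [div_eq_iff hj0, Finset.sum_add_distrib, Finset.sum_ite_eq' (Finset.range (j + 1)) j,
    if_pos (Finset.self_mem_range_succ j), Finset.sum_range_succ, Nat.choose_self, Nat.cast_one,
    one_mul, mul_div_cancel₀ _ hj0] at h1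
  rcases Nat.eq_zero_or_pos j with h | h
  · subst h
    simp at h1 ⊢
    linarith
  · rw [if_neg h.ne'] at h1 ⊢
    rw [zero_mul] at h1
    linarith


lemma norm_lt_one_of_mem {y : ℝ} (hy : y ∈ Set.Ioo (-1 : ℝ) 1) : ‖(y : ℂ)‖ < 1 := by
  rw [Complex.norm_real, Real.norm_eq_abs, abs_lt]
  exact hy

lemma tendsto_S (E : ℕ → ℚ)
    (hE : PowerSeries.mk (fun j => E j / (j.factorial : ℚ)) * (PowerSeries.exp ℚ + 1) = 2) (j : ℕ) :
    Tendsto (fun y : ℝ => S j (y : ℂ)) (𝓝[Set.Ioo (-1 : ℝ) 1] (-1 : ℝ))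
      (𝓝 (((E j : ℚ) : ℂ) / 2)) := by
  induction j using Nat.strong_induction_on with
  | _ j ih =>
  have hcoe : Tendsto (fun y : ℝ => (y : ℂ)) (𝓝[Set.Ioo (-1 : ℝ) 1] (-1 : ℝ)) (𝓝 ((-1 : ℝ) : ℂ)) :=
    (Complex.continuous_ofReal.tendsto _).mono_left nhdsWithin_le_nhds
  have hnum : Tendsto (fun y : ℝ => ((if j = 0 then 1 else 0 : ℂ)) +
      (y : ℂ) * ∑ i ∈ Finset.range j, (j.choose i : ℂ) * S i (y : ℂ))
      (𝓝[Set.Ioo (-1 : ℝ) 1] (-1 : ℝ))
      (𝓝 ((if j = 0 then 1 else 0 : ℂ) +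
        ((-1 : ℝ) : ℂ) * ∑ i ∈ Finset.range j, (j.choose i : ℂ) * (((E i : ℚ) : ℂ) / 2))) := by
    refine tendsto_const_nhds.add (hcoe.mul ?_)
    refine tendsto_finsetSum _ fun i hi => ?_
    exact tendsto_const_nhds.mul (ih i (Finset.mem_range.mp hi))
  have hden : Tendsto (fun y : ℝ => (1 : ℂ) - (y : ℂ)) (𝓝[Set.Ioo (-1 : ℝ) 1] (-1 : ℝ))
      (𝓝 ((1 : ℂ) - ((-1 : ℝ) : ℂ))) := tendsto_const_nhds.sub hcoe
  have h2 : (1 : ℂ) - ((-1 : ℝ) : ℂ) = 2 := by push_cast; ring
  rw [h2] at hden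
  have hdiv := hnum.div hden (two_ne_zero)
  have hval : ((if j = 0 then 1 else 0 : ℂ) +
        ((-1 : ℝ) : ℂ) * ∑ i ∈ Finset.range j, (j.choose i : ℂ) * (((E i : ℚ) : ℂ) / 2)) / 2 =
      ((E j : ℚ) : ℂ) / 2 := by
    have h3 := congrArg (fun q : ℚ => (q : ℂ)) (E_rec E hE j)
    push_cast at h3
    have h4 : ∑ i ∈ Finset.range j, (j.choose i : ℂ) * (((E i : ℚ) : ℂ) / 2) =
        (∑ i ∈ Finset.range j, (j.choose i : ℂ) * ((E i : ℚ) : ℂ)) / 2 := by
      rw [Finset.sum_div]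
      refine Finset.sum_congr rfl fun i _ => by ring
    rw [h4]
    push_cast
    have h3' : 2 * ((E j : ℚ) : ℂ) + ∑ x ∈ Finset.range j, (j.choose x : ℂ) * ((E x : ℚ) : ℂ) =
        if j = 0 then (2 : ℂ) else 0 := by
      rw [h3]; split_ifs <;> simp
    have h5 : ∑ i ∈ Finset.range j, (j.choose i : ℂ) * ((E i : ℚ) : ℂ) =
        (if j = 0 then (2 : ℂ) else 0) - 2 * ((E j : ℚ) : ℂ) := by
      rw [← h3']; ring
    rw [h5]
    split_ifs <;> ring
  rw [hval] at hdiv
  refine hdiv.congr' ?_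
  filter_upwards [self_mem_nhdsWithin] with y hy
  have hy1 := norm_lt_one_of_mem hy
  have hrec := S_rec j hy1
  have hne : (1 : ℂ) - (y : ℂ) ≠ 0 := by
    intro h
    have : (y : ℂ) = 1 := by linear_combination -h
    have : y = 1 := by exact_mod_cast this
    exact absurd hy.2 (by rw [this]; exact lt_irrefl _)
  simp only [Pi.div_apply]
  rw [← hrec, mul_div_cancel_left₀ _ hne]


section Main
variable {T : Type u} [NormedCommRing T] [NormedAlgebra ℂ T]

lemma term_eq (P : Polynomial T) (y : ℂ) (k : ℕ) :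
    y ^ k • P.eval (k : T) =
      ∑ j ∈ Finset.range (P.natDegree + 1), ((k : ℂ) ^ j * y ^ k) • P.coeff j := by
  rw [Polynomial.eval_eq_sum_range, Finset.smul_sum]
  refine Finset.sum_congr rfl fun j _ => ?_
  have h1 : (k : T) = algebraMap ℂ T (k : ℂ) := (map_natCast _ k).symm
  rw [h1, ← map_pow, Algebra.algebraMap_eq_smul_one, mul_smul_comm, mul_one, smul_smul, mul_comm]

lemma hasSum_main (P : Polynomial T) {y : ℂ} (hy : ‖y‖ < 1) :
    HasSum (fun k : ℕ => y ^ k • P.eval (k : T))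
      (∑ j ∈ Finset.range (P.natDegree + 1), S j y • P.coeff j) := by
  simp only [term_eq]
  apply hasSum_sum
  intro j _
  exact ((summable_S j hy).hasSum).smul_const (P.coeff j)

theorem main (E : ℕ → ℚ)
    (hE : PowerSeries.mk (fun j => E j / (j.factorial : ℚ)) * (PowerSeries.exp ℚ + 1) = 2)
    (P : Polynomial T) :
    (∀ y : ℂ, ‖y‖ < 1 → Summable (fun k : ℕ => y ^ k • P.eval (k : T))) ∧
    Tendsto (fun y : ℝ => ∑' k : ℕ, ((y : ℂ) ^ k) • P.eval (k : T))
      (𝓝[Set.Ioo (-1 : ℝ) 1] (-1 : ℝ))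
      (𝓝 ((2 : ℂ)⁻¹ • ∑ j ∈ Finset.range (P.natDegree + 1), ((E j : ℚ) : ℂ) • P.coeff j)) := by
  refine ⟨fun y hy => (hasSum_main P hy).summable, ?_⟩
  have h1 : Tendsto (fun y : ℝ => ∑ j ∈ Finset.range (P.natDegree + 1), S j (y : ℂ) • P.coeff j)
      (𝓝[Set.Ioo (-1 : ℝ) 1] (-1 : ℝ))
      (𝓝 (∑ j ∈ Finset.range (P.natDegree + 1), (((E j : ℚ) : ℂ) / 2) • P.coeff j)) :=
    tendsto_finsetSum _ fun j _ => (tendsto_S E hE j).smul_const (P.coeff j)
  have h2 : (2 : ℂ)⁻¹ • ∑ j ∈ Finset.range (P.natDegree + 1), ((E j : ℚ) : ℂ) • P.coeff j =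
      ∑ j ∈ Finset.range (P.natDegree + 1), (((E j : ℚ) : ℂ) / 2) • P.coeff j := by
    rw [Finset.smul_sum]
    refine Finset.sum_congr rfl fun j _ => ?_
    rw [smul_smul, div_eq_inv_mul]
  rw [h2]
  refine h1.congr' ?_
  filter_upwards [self_mem_nhdsWithin] with y hy
  exact (hasSum_main P (norm_lt_one_of_mem hy)).tsum_eq.symm

end Main


end Helpers

/-- Let T be a nonzero commutative normed ℂ-algebra such that the map ℂ → T/nilradical(T) is surjective,
let P = Σ_j d_j x ^ j be a polynomial over T and put h_k = P(k). Let E_0, E_1, … be the rational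
numbers with 2/(e^t + 1) = Σ_j E_j t ^ j / j! (so E_0 = 1, E_1 = -1/2). Then for every complex y
with |y| < 1 the series Σ_k h_k y ^ k converges in T, and as y → -1 along real y in (-1, 1) its sum
tends to (1/2) Σ_j E_j d_j. (The published statement allows any norm topology on T as a complex
vector space; this row takes T a normed ℂ-algebra.) -/
theorem result {T : Type u} [NormedCommRing T] [NormedAlgebra ℂ T] [Nontrivial T]
    (hT : Function.Surjective (algebraMap ℂ (T ⧸ nilradical T)))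
    (E : ℕ → ℚ) (hE : PowerSeries.mk (fun j => E j / (j.factorial : ℚ)) * (PowerSeries.exp ℚ + 1) = 2)
    (P : Polynomial T) :
    (∀ y : ℂ, ‖y‖ < 1 → Summable (fun k : ℕ => y ^ k • P.eval (k : T))) ∧
    Tendsto (fun y : ℝ => ∑' k : ℕ, ((y : ℂ) ^ k) • P.eval (k : T)) (𝓝[Set.Ioo (-1 : ℝ) 1] (-1 : ℝ))
      (𝓝 ((2 : ℂ)⁻¹ • ∑ j ∈ Finset.range (P.natDegree + 1), ((E j : ℚ) : ℂ) • P.coeff j)) := by
  exact main E hE P

end Groth.Agent.S17878
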