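import Groth.Statements.S17880
import Groth.Agent.Lib.Helper1.NAFp2
import Groth.Agent.Lib.Helper13.LimSeparated

set_option autoImplicit false
universe u
open CategoryTheory AlgebraicGeometry
open Lim
open Groth.Agent.Lib.Helper1.NA Opposite

namespace Groth.Agent.S17880

/-- Let f : Y → X be a morphism of schemes with X and Y quasi-compact and quasi-separated. Then f is the
composite of an affine morphism Y → Z and a morphism Z → X of finite presentation (locally of finite
presentation, quasi-compact and quasi-separated); if f is separated, Z → X can in addition be chosen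
separated. Both assertions are packaged in one existential. -/
theorem result {X Y : Scheme.{u}} (f : Y ⟶ X)
    [CompactSpace X] [QuasiSeparatedSpace X] [CompactSpace Y] [QuasiSeparatedSpace Y] :
    ∃ (Z : Scheme.{u}) (g : Y ⟶ Z) (h : Z ⟶ X), IsAffineHom g ∧ LocallyOfFinitePresentation h ∧
      QuasiCompact h ∧ QuasiSeparated h ∧ (IsSeparated f → IsSeparated h) ∧ g ≫ h = f := by
  classical
  obtain ⟨I, hP, hD, hN, D, s, c, hc, e, h1, h2, h3, h4⟩ := exists_fp_limit f
  have hA : ∀ {i j : Iᵒᵖ} (a : i ⟶ j), IsAffineHom (D.map a) := fun a => h3 _ _ a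
  let sa : ∀ i : Iᵒᵖ, D.obj i ⟶ X := fun i => s.app i
  have hC : ∀ i, CompactSpace (D.obj i) := fun i =>
    have : QuasiCompact (sa i) := (h2 i).2.1
    QuasiCompact.compactSpace_of_compactSpace (sa i)
  have hQ : ∀ i, QuasiSeparatedSpace (D.obj i) := fun i =>
    have : QuasiSeparated (sa i) := (h2 i).2.2
    quasiSeparatedSpace_of_quasiSeparated (sa i)
  have key : ∀ i : Iᵒᵖ, (IsSeparated f → IsSeparated (s.app i)) →
      ∃ (Z : Scheme.{u}) (g : Y ⟶ Z) (h : Z ⟶ X), IsAffineHom g ∧ LocallyOfFinitePresentation h ∧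
      QuasiCompact h ∧ QuasiSeparated h ∧ (IsSeparated f → IsSeparated h) ∧ g ≫ h = f := by
    intro i hi
    have := h4 i
    refine ⟨D.obj i, e.inv ≫ c.π.app i, s.app i, inferInstance, (h2 i).1, (h2 i).2.1, (h2 i).2.2,
      hi, ?_⟩
    rw [Category.assoc, h1, Iso.inv_hom_id_assoc]
  by_cases hsep : IsSeparated f
  · let i₀ : Iᵒᵖ := op (Classical.arbitrary I)
    have : IsSeparated (c.π.app i₀ ≫ s.app i₀) := by rw [h1]; infer_instance
    obtain ⟨i₁, hi₁⟩ := Groth.Agent.Lib.Helper13.exists_isSeparated_app D s c hc i₀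
    exact key i₁ (fun _ => hi₁ i₁ (𝟙 _))
  · exact key (op (Classical.arbitrary I)) (fun h => absurd h hsep)

end Groth.Agent.S17880
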