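import Groth.Statements.S17882
import Mathlib.LinearAlgebra.Matrix.Nondegenerate
-- import your own Groth.Agent.* helpers here

set_option autoImplicit false
universe u
open CAlg

namespace Groth.Agent.S17882

/-- Let B be a commutative ring, r ≥ 1, N a finitely generated submodule of B^r, and n_1, …, n_r ∈ N.
Suppose the determinant of the matrix with rows n_1, …, n_r is a nonzerodivisor of B and that the
determinant of every matrix whose rows lie in N is a multiple of it (the image of the top exterior
power of N in that of B^r ≅ B is the principal ideal generated by n_1 ∧ ⋯ ∧ n_r, a nonzerodivisor).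
Then n_1, …, n_r are linearly independent over B and span N: N is free of rank r with this basis. -/
theorem result (B : Type u) [CommRing B] (r : ℕ) (hr : 0 < r)
    (N : Submodule B (Fin r → B)) (hN : N.FG) (n : Fin r → (Fin r → B)) (hn : ∀ i, n i ∈ N)
    (hgen : ∀ m : Fin r → (Fin r → B), (∀ i, m i ∈ N) →
      Matrix.det (Matrix.of m) ∈ Ideal.span {Matrix.det (Matrix.of n)})
    (hnzd : Matrix.det (Matrix.of n) ∈ nonZeroDivisors B) :
    LinearIndependent B n ∧ Submodule.span B (Set.range n) = N := by
  classical
  set M : Matrix (Fin r) (Fin r) B := Matrix.of n with hM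
  have hvm : ∀ c : Fin r → B, Matrix.vecMul c M = ∑ i, c i • n i := by
    intro c
    ext j
    simp [Matrix.vecMul, dotProduct, hM, Finset.sum_apply]
  refine ⟨?_, ?_⟩
  · rw [Fintype.linearIndependent_iff]
    intro c hc
    have h0 : Matrix.vecMul c M = 0 := by rw [hvm]; exact hc
    have := Matrix.eq_zero_of_det_mem_nonZeroDivisors_of_vecMul_eq_zero hnzd h0
    intro i
    rw [this]; rfl
  · apply le_antisymm
    · rw [Submodule.span_le]
      rintro _ ⟨i, rfl⟩
      exact hn i
    · intro x hx
      -- Cramer
      have hq : ∀ i, ∃ q : B, (M.updateRow i x).det = M.det * q := by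
        intro i
        have h1 : (M.updateRow i x) = Matrix.of (Function.update n i x) := by
          ext a b
          by_cases hai : a = i
          · subst hai; simp [hM]
          · simp [hM, Matrix.updateRow_ne hai, Function.update_of_ne hai]
        have h2 := hgen (Function.update n i x) (by
          intro a
          by_cases hai : a = i
          · subst hai; simpa using hx
          · rw [Function.update_of_ne hai]; exact hn a)
        rw [Ideal.mem_span_singleton] at h2
        obtain ⟨q, hq⟩ := h2
        exact ⟨q, by rw [h1, hq]⟩
      choose q hq using hq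
      have hcr : Matrix.mulVec M.transpose (Matrix.cramer M.transpose x) = M.det • x := by
        rw [Matrix.mulVec_cramer, Matrix.det_transpose]
      rw [Matrix.mulVec_transpose, hvm] at hcr
      have hcr2 : M.det • (∑ i, q i • n i) = M.det • x := by
        rw [← hcr, Finset.smul_sum]
        apply Finset.sum_congr rfl
        intro i _
        rw [Matrix.cramer_transpose_apply, hq i, mul_smul]
      have hx' : x = ∑ i, q i • n i := by
        ext j
        have := congrFun hcr2 j
        simp only [Pi.smul_apply, smul_eq_mul] at this
        have h3 : M.det * ((∑ i, q i • n i) j - x j) = 0 := by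
          rw [mul_sub, this, sub_self]
        have h4 := (mem_nonZeroDivisors_iff.mp hnzd).1 _ h3
        exact (sub_eq_zero.mp h4).symm
      rw [hx']
      exact Submodule.sum_mem _ fun i _ => Submodule.smul_mem _ _ (Submodule.subset_span ⟨i, rfl⟩)

end Groth.Agent.S17882
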