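import Groth.Statements.S17889
import Groth.Agent.Lib.Helper25.BlowUpClosure

set_option autoImplicit false
universe u
open CategoryTheory AlgebraicGeometry TopologicalSpace
open BlowUp

namespace Groth.Agent.S17889

open Groth.Agent.Lib.Helper25.BlowUpUP in
/-- Let X be a Noetherian scheme, X₀ ⊆ X an open subscheme, p : Z → X a morphism of finite type with Z
Noetherian, and F ⊆ X, G ⊆ Z closed subsets with p⁻¹(F ∩ X₀) ∩ G = ∅. Let a be a quasi-coherent
ideal sheaf on X whose support does not meet X₀, which contains the vanishing ideal I_F of F, and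
which is contained in the kernel ideal of V(I_F·O_Z + I_G) → Z → X (the ideal of the
scheme-theoretic image under p of p⁻¹(F) ∩ G). Let π : X' → X be a blowing-up along a, Z' = Z ×_X X'
with projections π' : Z' → Z and p' : Z' → X'. Then p'⁻¹ of the closure in X' of π⁻¹(F ∩ X₀) is
disjoint from the closure in Z' of π'⁻¹(G ∩ p⁻¹(X₀)). Taking a to be that kernel ideal shows such an
a exists. -/
theorem result
    {X Z : Scheme.{u}} [IsNoetherian X] [IsNoetherian Z] (p : Z ⟶ X) [LocallyOfFiniteType p]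
    (X₀ : X.Opens) (F : Closeds X) (G : Closeds Z)
    (hFG : p.base ⁻¹' ((F : Set X) ∩ (X₀ : Set X)) ∩ (G : Set Z) = ∅)
    (𝔞 : X.IdealSheafData) (h₁ : Disjoint (𝔞.support : Set X) (X₀ : Set X))
    (h₂ : Scheme.IdealSheafData.vanishingIdeal F ≤ 𝔞)
    (h₃ : 𝔞 ≤ (((Scheme.IdealSheafData.vanishingIdeal F).comap p ⊔
      Scheme.IdealSheafData.vanishingIdeal G).subschemeι ≫ p).ker)
    {X' : Scheme.{u}} (π : X' ⟶ X) (hπ : BlowUp.IsBlowUp π 𝔞) :
    (Limits.pullback.snd p π).base ⁻¹' closure (π.base ⁻¹' ((F : Set X) ∩ (X₀ : Set X))) ∩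
      closure ((Limits.pullback.fst p π).base ⁻¹' ((G : Set Z) ∩ (p ⁻¹ᵁ X₀ : Set Z))) = ∅ := by
  rw [Set.eq_empty_iff_forall_notMem]
  rintro z' ⟨hz1, hz2⟩
  set p' := Limits.pullback.snd p π with hp'
  set π' := Limits.pullback.fst p π with hπ'
  have hcond : π' ≫ p = p' ≫ π := Limits.pullback.condition
  set 𝓛 := 𝔞.comap π with h𝓛
  set 𝓕 := (Scheme.IdealSheafData.vanishingIdeal F).comap π with h𝓕
  set 𝓚 := (Scheme.IdealSheafData.vanishingIdeal G).comap π' with h𝓚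
  have hle : 𝓕 ≤ 𝓛 := Scheme.IdealSheafData.comap_mono π h₂
  have h₃' : 𝔞.comap p ≤ (Scheme.IdealSheafData.vanishingIdeal F).comap p ⊔
      Scheme.IdealSheafData.vanishingIdeal G :=
    Scheme.IdealSheafData.le_map_iff_comap_le.1 h₃
  have hkey : 𝓛.comap p' ≤ 𝓕.comap p' ⊔ 𝓚 := by
    rw [h𝓛, h𝓕, h𝓚, ← Scheme.IdealSheafData.comap_comp, ← Scheme.IdealSheafData.comap_comp,
      ← hcond, Scheme.IdealSheafData.comap_comp, Scheme.IdealSheafData.comap_comp,
      ← Scheme.IdealSheafData.comap_sup]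
    exact Scheme.IdealSheafData.comap_mono π' h₃'
  -- supports
  have hsupp𝓛 : ∀ y : X', y ∈ 𝓛.support ↔ π y ∈ 𝔞.support := by
    intro y
    rw [h𝓛, Scheme.IdealSheafData.support_comap]; rfl
  have hsupp𝓕 : ∀ y : X', y ∈ 𝓕.support ↔ π y ∈ F := by
    intro y
    rw [h𝓕, Scheme.IdealSheafData.support_comap]
    change π y ∈ ((Scheme.IdealSheafData.vanishingIdeal F).support : Set X) ↔ _
    rw [Scheme.IdealSheafData.coe_support_vanishingIdeal]; rfl
  have hsupp𝓚 : ∀ w, w ∈ 𝓚.support ↔ π' w ∈ G := by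
    intro w
    rw [h𝓚, Scheme.IdealSheafData.support_comap]
    change π' w ∈ ((Scheme.IdealSheafData.vanishingIdeal G).support : Set Z) ↔ _
    rw [Scheme.IdealSheafData.coe_support_vanishingIdeal]; rfl
  -- local generator at x' = p' z'
  obtain ⟨W', hx'W', t, -, hI⟩ := hπ.1 (p' z')
  obtain ⟨W, hzW, hWW', -⟩ := exists_affineOpens_le_preimage p' z' W'.1 hx'W' ⊤ trivial
  -- (Q)
  have hQ : ∀ j : Γ(X', W'.1), t * j ∈ 𝓕.ideal W' →
      j ∈ primeAt W' (p' z') (show p' z' ∈ W'.1 from hWW' hzW) := by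
    intro j hj
    refine mem_primeAt_of_mem_closure W' (p' z') _ 𝓛 𝓕 t hI
      (π.base ⁻¹' ((F : Set X) ∩ (X₀ : Set X))) ?_ ?_ hz1 j hj
    · intro y hy
      exact (hsupp𝓕 y).2 hy.1
    · rw [Set.disjoint_left]
      intro y hy hy2
      exact Set.disjoint_left.1 h₁ ((hsupp𝓛 y).1 hy2) hy.2
  obtain ⟨M, hM, hMle⟩ := exists_ideal_comap_le_span_mul p' W' W hWW' z' hzW 𝓛 𝓕 hle t hI hQ
  set θ := (p'.appLE W'.1 W.1 hWW').hom with hθ
  have ht1 : θ t * 1 ∈ Ideal.span {θ t} * M ⊔ 𝓚.ideal W := by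
    rw [mul_one]
    have h1 : θ t ∈ (𝓛.comap p').ideal W := by
      rw [Groth.Agent.Lib.Helper1.ideal_comap 𝓛 p' W W' hWW', hI]
      exact Ideal.mem_map_of_mem _ (Ideal.mem_span_singleton_self t)
    have h2 := (Scheme.IdealSheafData.le_def.1 hkey W) h1
    rw [Scheme.IdealSheafData.ideal_sup, Pi.sup_apply] at h2
    exact (sup_le_sup_right hMle _) h2
  obtain ⟨N, hzN, -, hN⟩ := exists_nhd_forall_mem_support_mem_primeAt W z' hzW (θ t) 1
    (fun h => (inferInstance : (primeAt W z' hzW).IsPrime).ne_top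
      ((Ideal.eq_top_iff_one _).2 h)) M hM 𝓚 ht1
  obtain ⟨w, ⟨hwN, hwW⟩, hwS⟩ := mem_closure_iff.1 hz2 _ (N ⊓ W.1).2 ⟨hzN, hzW⟩
  have hw1 : θ t ∈ primeAt W w hwW := hN w hwW hwN ((hsupp𝓚 w).2 hwS.1)
  rw [hθ, appLE_mem_primeAt_iff p' W' W hWW' w hwW t,
    ← span_singleton_le_primeAt_iff W' (p' w) _ 𝓛 t hI, hsupp𝓛] at hw1
  have hw2 : π (p' w) ∈ X₀ := by
    have : (p' ≫ π) w = (π' ≫ p) w := by rw [hcond]
    rw [Scheme.Hom.comp_apply, Scheme.Hom.comp_apply] at this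
    rw [this]
    exact hwS.2
  exact Set.disjoint_left.1 h₁ hw1 hw2


end Groth.Agent.S17889
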