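import Groth.Statements.S1789
import Groth.Agent.Lib.Helper13.DualBC8

set_option autoImplicit false
universe u
open CategoryTheory
attribute [local instance] HasDerivedCategory.standard
open Dual2

namespace Groth.Agent.S1789

/-- Let R → A be a ring map of finite type between Noetherian rings with R local, where φ^!(K) is formed
from a presentation ψ : R[x_1, …, x_n] → A as RHom_P(A, K ⊗^L_R P)[n], assuming the derived base
change to P exists and taking for RHom_P(A, −) a right adjoint of restriction of scalars along ψ.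
Let m be a maximal ideal of A lying over the maximal ideal of R and ω a normalized dualizing complex
for R. Assuming the derived base change D(A) → D(A_m) exists, the base change of φ^!(ω) to A_m is a
normalized dualizing complex for A_m. -/
theorem result (R A : Type u) [CommRing R] [CommRing A] [IsNoetherianRing R] [IsNoetherianRing A] [Algebra R A] (n : ℕ) (ψ : MvPolynomial (Fin n) R →ₐ[R] A) (hψ : Function.Surjective ψ) [DRing.HasLBaseChange (algebraMap R (MvPolynomial (Fin n) R))] (Rψ : Dual.D (MvPolynomial (Fin n) R) ⥤ Dual.D A) (adj : DRing.restrictD ψ.toRingHom ⊣ Rψ) [IsLocalRing R] (m : Ideal A) [m.IsMaximal] (hm : m.comap (algebraMap R A) = IsLocalRing.maximalIdeal R) (ω : Dual.D R) (hω : Dual.IsDualizing R ω) (hn : Dual.IsNormalized R ω) [DRing.HasLBaseChange (algebraMap A (Localization.AtPrime m))] : Dual.IsDualizing (Localization.AtPrime m) ((DRing.LBaseChange (algebraMap A (Localization.AtPrime m))).obj (Dual2.shriekVia n Rψ ω)) ∧ Dual.IsNormalized (Localization.AtPrime m) ((DRing.LBaseChange (algebraMap A (Localization.AtPrime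 m))).obj (Dual2.shriekVia n Rψ ω)) := by
  classical
  -- replace `Rψ` by the standard coinduction functor
  let X := Groth.Agent.Lib.Helper13.Shriek.Sh (algebraMap R (MvPolynomial (Fin n) R))
    (ψ : MvPolynomial (Fin n) R →+* A) n ω
  let e0 : Dual2.shriekVia n Rψ ω ≅ X :=
    (shiftFunctor (Dual.D A) (n : ℤ)).mapIso
      ((Groth.Agent.Lib.Helper13.Coind.uniq ψ.toRingHom Rψ adj).app _)
  have hX : Dual.IsDualizing A X :=
    Groth.Agent.Lib.Helper13.DualBC.isDualizing_Sh R A n ψ.toRingHom hψ ω hω (n : ℤ)
  obtain ⟨a, b, h2⟩ := hX.finite_injective_dimension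
  have hvan : ∀ j : ℤ, j < a → Subsingleton (Dual.HD A X j) := fun j hj =>
    ModuleCat.subsingleton_of_isZero
      (Groth.Agent.Lib.Helper13.DualBC.isZero_HD_of_subsingleton_ext X j (h2 A j (Or.inl hj)))
  haveI hGE : X.IsGE a := Groth.Agent.Lib.Helper13.DualBC.isGE_of_subsingleton_HD X a hvan
  let Am := Localization.AtPrime m
  let e1 : (DRing.LBaseChange (algebraMap A Am)).obj (Dual2.shriekVia n Rψ ω) ≅
      (Groth.Agent.Lib.Helper13.DR.flatBC A Am).obj X :=
    (DRing.LBaseChange (algebraMap A Am)).mapIso e0 ≪≫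
      (Groth.Agent.Lib.Helper13.Shriek.LBaseChangeFlatIso A Am).app X
  have hd : Dual.IsDualizing Am ((Groth.Agent.Lib.Helper13.DR.flatBC A Am).obj X) :=
    Groth.Agent.Lib.Helper13.DualBC.isDualizing_flatBC_localization A m.primeCompl X hX
  have hnorm : Dual.IsNormalized Am ((Groth.Agent.Lib.Helper13.DR.flatBC A Am).obj X) :=
    Groth.Agent.Lib.Helper13.DualBC.isNormalized_flatBC_atPrime A m X a
      (fun i hi => Groth.Agent.Lib.Helper13.DualBC.subsingleton_hom_quot_Sh R A n ψ hψ m hm ω hω
        hn i hi)
  refine ⟨Groth.Agent.Lib.Helper13.DualBC.isDualizing_of_iso e1.symm hd, fun i hi => ?_⟩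
  have := hnorm i hi
  exact (Iso.homCongr (Iso.refl _) ((shiftFunctor (Dual.D Am) i).mapIso e1)).subsingleton

end Groth.Agent.S1789
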