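import Groth.Statements.S17897
import Groth.Agent.Lib.Helper10.ValCritSch

set_option autoImplicit false
universe u
open CategoryTheory AlgebraicGeometry
open ValCrit

namespace Groth.Agent.S17897

/-- Let f : Y → X be a morphism of schemes (not assumed separated), R a valuation ring with fraction
field K, and i : Spec K → Y, φ : Spec R → X with i ≫ f = (Spec K → Spec R) ≫ φ. Let y be the point
of Y hit by i and g : κ(y) → K the induced embedding, R' = g⁻¹(R) the induced valuation ring of κ(y)
and ρ : R' → R the restriction of g. Then φ factors uniquely through Spec R → Spec R': there is a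
unique φ' : Spec R' → X with (Spec ρ) ≫ φ' = φ whose restriction to the generic point Spec κ(y) is
the canonical morphism Spec κ(y) → Y followed by f. (Here y and g are given as data with Spec g
followed by Spec κ(y) → Y equal to i, and ρ as data by its defining equation.) -/
theorem result {X Y : Scheme.{u}} (f : Y ⟶ X)
    (K : Type u) [Field K] (R : ValuationSubring K)
    (i : Spec (CommRingCat.of K) ⟶ Y) (φ : Spec (CommRingCat.of ↥R) ⟶ X)
    (w : Spec.map (CommRingCat.ofHom R.subtype) ≫ φ = i ≫ f)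
    (y : Y) (g : Y.residueField y ⟶ CommRingCat.of K) (hg : Spec.map g ≫ Y.fromSpecResidueField y = i)
    (ρ : ↥(R.comap g.hom) →+* ↥R)
    (hρ : ∀ x : ↥(R.comap g.hom), ((ρ x : ↥R) : K) = g.hom (x : ↑(Y.residueField y))) :
    ∃! φ' : Spec (CommRingCat.of ↥(R.comap g.hom)) ⟶ X,
      Spec.map (CommRingCat.ofHom ρ) ≫ φ' = φ ∧
      Spec.map (CommRingCat.ofHom (R.comap g.hom).subtype) ≫ φ' = Y.fromSpecResidueField y ≫ f := by
  classical
  have hginj : Function.Injective g.hom := g.hom.injective
  have hρinj : Function.Injective ρ := by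
    intro a b hab
    have h1 : g.hom (a : ↑(Y.residueField y)) = g.hom (b : ↑(Y.residueField y)) := by
      rw [← hρ a, ← hρ b, hab]
    exact Subtype.ext (hginj h1)
  haveI hρloc : IsLocalHom ρ := ⟨fun a ha => by
    obtain ⟨c, hc⟩ := isUnit_iff_exists_inv.mp ha
    have h1 : g.hom (a : ↑(Y.residueField y)) * (c : K) = 1 := by
      rw [← hρ a]
      exact congrArg (fun r : ↥R => (r : K)) hc
    have ha0 : (a : ↑(Y.residueField y)) ≠ 0 := by
      intro h0
      rw [h0, map_zero, zero_mul] at h1
      exact zero_ne_one h1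
    have h2 : g.hom ((a : ↑(Y.residueField y))⁻¹) = (c : K) := by
      rw [map_inv₀]
      exact (eq_inv_of_mul_eq_one_right h1).symm
    have hmem : (a : ↑(Y.residueField y))⁻¹ ∈ R.comap g.hom := by
      rw [ValuationSubring.mem_comap, h2]
      exact c.2
    refine isUnit_iff_exists_inv.mpr ⟨⟨_, hmem⟩, ?_⟩
    exact Subtype.ext (mul_inv_cancel₀ ha0)⟩
  haveI hres : IsLocalHom (Y.residue y).hom :=
    inferInstanceAs (IsLocalHom (IsLocalRing.residue (Y.presheaf.stalk y)))
  haveI hgloc : IsLocalHom g.hom := ⟨fun a ha => by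
    rcases eq_or_ne a 0 with rfl | h0
    · rw [map_zero] at ha
      exact absurd ha not_isUnit_zero
    · exact h0.isUnit⟩
  haveI : IsLocalHom (f.stalkMap y ≫ Y.residue y ≫ g).hom := by
    rw [CommRingCat.hom_comp, CommRingCat.hom_comp]
    infer_instance
  obtain ⟨hs, E1⟩ := Groth.Agent.Lib.Helper10.ValCrit.exists_specializes_and_eq φ
    (CommRingCat.ofHom R.subtype) (f y) (f.stalkMap y ≫ Y.residue y ≫ g) (by
      rw [w, ← hg, Category.assoc, Scheme.fromSpecResidueField, Category.assoc,
        ← Scheme.SpecMap_stalkMap_fromSpecStalk]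
      simp only [Spec.map_comp, Category.assoc])
  -- the homomorphism `O_{X,x} → κ(y)`
  let sr : X.presheaf.stalk (φ (IsLocalRing.closedPoint (CommRingCat.of ↥R))) ⟶ Y.residueField y :=
    X.presheaf.stalkSpecializes hs ≫ f.stalkMap y ≫ Y.residue y
  have E1' : ∀ t, g.hom (sr.hom t) = (((Scheme.stalkClosedPointTo φ).hom t : ↥R) : K) := fun t =>
    (congrArg (fun ψ => ψ.hom t) E1).symm
  have hmem : ∀ t, sr.hom t ∈ (R.comap g.hom).toSubring := fun t => by
    change sr.hom t ∈ R.comap g.hom
    rw [ValuationSubring.mem_comap, E1' t]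
    exact ((Scheme.stalkClosedPointTo φ).hom t).2
  let ε : X.presheaf.stalk (φ (IsLocalRing.closedPoint (CommRingCat.of ↥R))) →+* ↥(R.comap g.hom) :=
    sr.hom.codRestrict (R.comap g.hom).toSubring hmem
  have E2 : CommRingCat.ofHom ε ≫ CommRingCat.ofHom ρ = Scheme.stalkClosedPointTo φ := by
    ext t
    change ((ρ (ε t) : ↥R) : K) = _
    rw [hρ]
    exact E1' t
  have E3 : CommRingCat.ofHom ε ≫ CommRingCat.ofHom (R.comap g.hom).subtype = sr := by
    ext t; rfl
  refine ⟨Spec.map (CommRingCat.ofHom ε) ≫ X.fromSpecStalk _, ⟨?_, ?_⟩, ?_⟩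
  · rw [← Category.assoc, ← Spec.map_comp, E2, Scheme.Spec_stalkClosedPointTo_fromSpecStalk]
  · rw [← Category.assoc, ← Spec.map_comp, E3,
      Groth.Agent.Lib.Helper10.ValCrit.fromSpecResidueField_comp f y _ hs]
  · rintro φ₂ ⟨h1, -⟩
    haveI : IsLocalHom (CommRingCat.ofHom ρ).hom := hρloc
    apply Groth.Agent.Lib.Helper10.ValCrit.hom_ext_of_injective_local (CommRingCat.ofHom ρ) hρinj
    rw [h1, ← Category.assoc, ← Spec.map_comp, E2, Scheme.Spec_stalkClosedPointTo_fromSpecStalk]

end Groth.Agent.S17897
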