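import Groth.Statements.S17898
import Groth.Agent.Lib.Helper10.ValCritSch2

set_option autoImplicit false
universe u
open CategoryTheory AlgebraicGeometry
open ValCrit

namespace Groth.Agent.S17898

/-- Let f : Y → X be a morphism of schemes (not assumed separated), K a field with valuation rings R ⊆
R' (inclusion ι), i : Spec K → Y and φ : Spec R → X a commutative square over f, and g : Spec R' → Y
a lift of Spec R' → Spec R → X restricting to i on Spec K. Let K̃ be the residue field of R', R̃ ⊆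
K̃ the image of R (a valuation ring of K̃) with the surjection σ : R → R̃. Then every h̃ : Spec R̃ →
Y whose restriction to Spec K̃ is Spec K̃ → Spec R' → Y (via g) and which lies over Spec R̃ → Spec R
→ X is induced by a unique h : Spec R → Y compatible with the whole diagram: h restricts to i on
Spec K, lies over φ, restricts to g along Spec R' → Spec R and to h̃ along Spec R̃ → Spec R. (ι, R̃,
σ are given as data pinned by their defining equations.) -/
theorem result {X Y : Scheme.{u}} (f : Y ⟶ X)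
    (K : Type u) [Field K] (R R' : ValuationSubring K) (hRR' : R ≤ R')
    (ι : ↥R →+* ↥R') (hι : ∀ x : ↥R, ((ι x : ↥R') : K) = (x : K))
    (i : Spec (CommRingCat.of K) ⟶ Y) (φ : Spec (CommRingCat.of ↥R) ⟶ X)
    (w : Spec.map (CommRingCat.ofHom R.subtype) ≫ φ = i ≫ f)
    (g : Spec (CommRingCat.of ↥R') ⟶ Y) (hg₁ : Spec.map (CommRingCat.ofHom R'.subtype) ≫ g = i)
    (hg₂ : g ≫ f = Spec.map (CommRingCat.ofHom ι) ≫ φ)
    (Rt : ValuationSubring (IsLocalRing.ResidueField ↥R')) (σ : ↥R →+* ↥Rt) (hσs : Function.Surjective σ)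
    (hσ : ∀ x : ↥R, ((σ x : ↥Rt) : IsLocalRing.ResidueField ↥R') = IsLocalRing.residue ↥R' (ι x))
    (ht : Spec (CommRingCat.of ↥Rt) ⟶ Y)
    (hht₁ : Spec.map (CommRingCat.ofHom Rt.subtype) ≫ ht =
      Spec.map (CommRingCat.ofHom (IsLocalRing.residue ↥R')) ≫ g)
    (hht₂ : ht ≫ f = Spec.map (CommRingCat.ofHom σ) ≫ φ) :
    ∃! h : Spec (CommRingCat.of ↥R) ⟶ Y, Spec.map (CommRingCat.ofHom R.subtype) ≫ h = i ∧ h ≫ f = φ ∧
      Spec.map (CommRingCat.ofHom ι) ≫ h = g ∧ Spec.map (CommRingCat.ofHom σ) ≫ h = ht := by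
  classical
  have hιinj : Function.Injective ι := by
    intro a b hab
    have h1 : ((ι a : ↥R') : K) = ((ι b : ↥R') : K) := by rw [hab]
    rw [hι, hι] at h1
    exact Subtype.ext h1
  have hcp : (Spec.map (CommRingCat.ofHom σ)) (IsLocalRing.closedPoint (CommRingCat.of ↥Rt)) =
      IsLocalRing.closedPoint (CommRingCat.of ↥R) :=
    Groth.Agent.Lib.Helper10.ValCrit.comap_closedPoint_of_surjective σ hσs
  have hsub : CommRingCat.ofHom ι ≫ CommRingCat.ofHom R'.subtype = CommRingCat.ofHom R.subtype := by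
    ext t
    exact hι t
  -- local homomorphisms
  haveI hresloc : IsLocalHom (CommRingCat.ofHom (IsLocalRing.residue ↥R')).hom :=
    inferInstanceAs (IsLocalHom (IsLocalRing.residue ↥R'))
  haveI : IsLocalHom (Scheme.stalkClosedPointTo g ≫
      CommRingCat.ofHom (IsLocalRing.residue ↥R')).hom := by
    rw [CommRingCat.hom_comp]
    infer_instance
  obtain ⟨hs, E⟩ := Groth.Agent.Lib.Helper10.ValCrit.exists_specializes_and_eq ht
    (CommRingCat.ofHom Rt.subtype) (g (IsLocalRing.closedPoint (CommRingCat.of ↥R')))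
    (Scheme.stalkClosedPointTo g ≫ CommRingCat.ofHom (IsLocalRing.residue ↥R')) (by
      rw [hht₁, Spec.map_comp, Category.assoc, Scheme.Spec_stalkClosedPointTo_fromSpecStalk])
  let pre : Y.presheaf.stalk (ht (IsLocalRing.closedPoint (CommRingCat.of ↥Rt))) ⟶
      CommRingCat.of ↥R' := Y.presheaf.stalkSpecializes hs ≫ Scheme.stalkClosedPointTo g
  have E' : ∀ t, IsLocalRing.residue ↥R' (pre.hom t) =
      (((Scheme.stalkClosedPointTo ht).hom t : ↥Rt) : IsLocalRing.ResidueField ↥R') := fun t =>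
    (congrArg (fun ψ => ψ.hom t) E).symm
  have hmem : ∀ t, (R'.subtype.comp pre.hom) t ∈ R.toSubring := fun t => by
    refine Groth.Agent.Lib.Helper10.ValCrit.mem_of_residue_mem R R' hRR' Rt ?_ (pre.hom t) ?_
    · intro c hc
      obtain ⟨r, hr⟩ := hσs ⟨c, hc⟩
      refine ⟨(r : K), r.2, ?_⟩
      have h1 : IsLocalRing.residue ↥R' (ι r) = c := by
        rw [← hσ r, hr]
      rw [← h1]
      congr 1
      exact Subtype.ext (hι r).symm
    · rw [E' t]
      exact ((Scheme.stalkClosedPointTo ht).hom t).2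
  let ε : Y.presheaf.stalk (ht (IsLocalRing.closedPoint (CommRingCat.of ↥Rt))) →+* ↥R :=
    (R'.subtype.comp pre.hom).codRestrict R.toSubring hmem
  have E1 : CommRingCat.ofHom ε ≫ CommRingCat.ofHom ι = pre := by
    ext t
    exact hι (ε t)
  have E2 : CommRingCat.ofHom ε ≫ CommRingCat.ofHom σ = Scheme.stalkClosedPointTo ht := by
    ext t
    change ((σ (ε t) : ↥Rt) : IsLocalRing.ResidueField ↥R') = _
    rw [hσ, ← E' t]
    congr 1
    exact congrArg (fun ψ => ψ.hom t) E1
  let hh : Spec (CommRingCat.of ↥R) ⟶ Y := Spec.map (CommRingCat.ofHom ε) ≫ Y.fromSpecStalk _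
  have c3 : Spec.map (CommRingCat.ofHom ι) ≫ hh = g := by
    change Spec.map (CommRingCat.ofHom ι) ≫ Spec.map (CommRingCat.ofHom ε) ≫ _ = _
    rw [← Category.assoc, ← Spec.map_comp, E1, Spec.map_comp, Category.assoc,
      Scheme.SpecMap_stalkSpecializes_fromSpecStalk, Scheme.Spec_stalkClosedPointTo_fromSpecStalk]
  have c4 : Spec.map (CommRingCat.ofHom σ) ≫ hh = ht := by
    change Spec.map (CommRingCat.ofHom σ) ≫ Spec.map (CommRingCat.ofHom ε) ≫ _ = _
    rw [← Category.assoc, ← Spec.map_comp, E2, Scheme.Spec_stalkClosedPointTo_fromSpecStalk]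
  have c1 : Spec.map (CommRingCat.ofHom R.subtype) ≫ hh = i := by
    rw [← hsub, Spec.map_comp, Category.assoc, c3, hg₁]
  have c2 : hh ≫ f = φ := by
    apply Groth.Agent.Lib.Helper10.ValCrit.hom_ext_of_injective_of_closedPoint
      (CommRingCat.ofHom ι) hιinj
    · rw [← hcp, ← Scheme.Hom.comp_apply, ← Scheme.Hom.comp_apply, ← Category.assoc, c4, hht₂]
    · rw [← Category.assoc, c3, hg₂]
  refine ⟨hh, ⟨c1, c2, c3, c4⟩, ?_⟩
  rintro h₂ ⟨-, -, d3, d4⟩
  apply Groth.Agent.Lib.Helper10.ValCrit.hom_ext_of_injective_of_closedPoint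
    (CommRingCat.ofHom ι) hιinj
  · rw [← hcp, ← Scheme.Hom.comp_apply, ← Scheme.Hom.comp_apply, c4, d4]
  · rw [c3, d3]

end Groth.Agent.S17898
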