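import Groth.Statements.S17902
import Mathlib

set_option autoImplicit false
universe u
open CAlg

namespace Groth.Agent.S17902



open Polynomial in
theorem nak {A : Type u} [CommRing A] {M : Type u} [AddCommGroup M] [Module A M]
    [Module.Finite A M] (N : Submodule A M) (p : Ideal A) [p.IsPrime] (t : A) (ht : t ∉ p)
    (h : ∀ x : M, t • x ∈ N ⊔ p • (⊤ : Submodule A M)) :
    ∃ r, r ∉ p ∧ ∀ x : M, r • x ∈ N := by
  let f : Module.End A (M ⧸ N) := algebraMap A (Module.End A (M ⧸ N)) t
  have hf : LinearMap.range f ≤ p • (⊤ : Submodule A (M ⧸ N)) := by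
    rintro _ ⟨y, rfl⟩
    obtain ⟨x, rfl⟩ := N.mkQ_surjective y
    obtain ⟨n, hn, z, hz, hnz⟩ := Submodule.mem_sup.mp (h x)
    have h1 : f (N.mkQ x) = N.mkQ z := by
      simp only [f, Module.algebraMap_end_apply, ← map_smul, ← hnz, map_add]
      have h0 : N.mkQ n = 0 := (Submodule.Quotient.mk_eq_zero N).mpr hn
      rw [h0, zero_add]
    rw [h1]
    have h2 : Submodule.map N.mkQ (p • ⊤) ≤ p • (⊤ : Submodule A (M ⧸ N)) := by
      rw [Submodule.map_smul'']
      exact Submodule.smul_mono le_rfl le_top
    exact h2 ⟨z, hz, rfl⟩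
  obtain ⟨q, hq, -, hcoeff, hzero⟩ :=
    LinearMap.exists_monic_and_natDegree_eq_and_coeff_mem_pow_and_aeval_eq_zero A f p hf
  refine ⟨q.eval t, ?_, ?_⟩
  · intro hmem
    rw [Polynomial.eval_eq_sum_range, Finset.sum_range_succ, hq.coeff_natDegree, one_mul] at hmem
    have h3 : ∑ k ∈ Finset.range q.natDegree, q.coeff k * t ^ k ∈ p := by
      refine p.sum_mem fun k hk => p.mul_mem_right _ ?_
      have hk' : q.natDegree - k ≠ 0 := by
        have := Finset.mem_range.mp hk
        omega
      exact Ideal.pow_le_self hk' (hcoeff k)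
    have h4 : t ^ q.natDegree ∈ p := (Submodule.add_mem_iff_right p h3).mp hmem
    exact ht (Ideal.IsPrime.mem_of_pow_mem inferInstance _ h4)
  · intro x
    have h5 : Polynomial.aeval f q = algebraMap A (Module.End A (M ⧸ N)) (q.eval t) := by
      simp only [f]
      rw [Polynomial.aeval_algebraMap_apply, Polynomial.coe_aeval_eq_eval]
    have h6 := congrArg (fun g => g (N.mkQ x)) hzero
    simp only [h5, Module.algebraMap_end_apply, LinearMap.zero_apply] at h6
    rw [← map_smul] at h6
    exact (Submodule.Quotient.mk_eq_zero N).mp h6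

theorem local_gens {A : Type u} [CommRing A] {M : Type u} [AddCommGroup M] [Module A M]
    [Module.Finite A M] (n : ℕ) (g : A)
    (b : Module.Basis (Fin n) (Localization.Away g) (LocalizedModule (Submonoid.powers g) M)) :
    ∃ m : Fin n → M, ∃ N : ℕ, ∀ x : M, g ^ N • x ∈ Submodule.span A (Set.range m) := by
  let f := LocalizedModule.mkLinearMap (Submonoid.powers g) M
  have hsurj : ∀ k, ∃ (mk : M × Submonoid.powers g), mk.2 • b k = f mk.1 :=
    fun k => IsLocalizedModule.surj (Submonoid.powers g) f (b k)
  choose ms hms using hsurj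
  let m : Fin n → M := fun k => (ms k).1
  refine ⟨m, ?_⟩
  have hW : (Submodule.span A (Set.range m)).localized' (Localization.Away g)
      (Submonoid.powers g) f = ⊤ := by
    rw [eq_top_iff, ← b.span_eq, Submodule.span_le]
    rintro _ ⟨k, rfl⟩
    have hu : IsUnit (algebraMap A (Localization.Away g) ((ms k).2 : A)) :=
      IsLocalization.map_units _ (ms k).2
    have h1 : algebraMap A (Localization.Away g) ((ms k).2 : A) • b k ∈
        (Submodule.span A (Set.range m)).localized' (Localization.Away g)
          (Submonoid.powers g) f := by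
      rw [algebraMap_smul, ← Submonoid.smul_def, hms k]
      exact ⟨m k, Submodule.subset_span ⟨k, rfl⟩, 1, by rw [IsLocalizedModule.mk'_one]⟩
    exact (Submodule.smul_mem_iff_of_isUnit _ hu).mp h1
  have hx : ∀ x : M, ∃ N : ℕ, g ^ N • x ∈ Submodule.span A (Set.range m) := by
    intro x
    have h2 : f x ∈ (Submodule.span A (Set.range m)).localized' (Localization.Away g)
        (Submonoid.powers g) f := by rw [hW]; trivial
    obtain ⟨w, hw, s, hws⟩ := h2
    rw [IsLocalizedModule.mk'_eq_iff] at hws
    have h3 : f w = f ((s : A) • x) := by rw [hws, map_smul]; rfl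
    obtain ⟨c, hc⟩ := (IsLocalizedModule.eq_iff_exists (Submonoid.powers g) f).mp h3
    obtain ⟨i, hi⟩ := c.2
    obtain ⟨j, hj⟩ := s.2
    refine ⟨i + j, ?_⟩
    have h4 : g ^ (i + j) • x = c • w := by
      rw [hc, pow_add, mul_smul, Submonoid.smul_def, ← hi, ← hj]
    rw [h4]
    exact Submodule.smul_mem _ _ hw
  obtain ⟨l, t, ht⟩ := Module.Finite.exists_fin (R := A) (M := M)
  choose Ns hNs using hx
  refine ⟨∑ i, Ns (t i), fun x => ?_⟩
  have hxt : x ∈ Submodule.span A (Set.range t) := by rw [ht]; trivial
  induction hxt using Submodule.span_induction with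
  | mem y hy =>
    obtain ⟨i, rfl⟩ := hy
    have h5 : Ns (t i) ≤ ∑ i, Ns (t i) :=
      Finset.single_le_sum (f := fun i => Ns (t i)) (fun _ _ => Nat.zero_le _) (Finset.mem_univ i)
    obtain ⟨d, hd⟩ := Nat.exists_eq_add_of_le h5
    rw [hd, pow_add, mul_comm, mul_smul]
    exact Submodule.smul_mem _ _ (hNs _)
  | zero => simp
  | add y z _ _ hy hz => rw [smul_add]; exact Submodule.add_mem _ hy hz
  | smul a y _ hy => rw [smul_comm]; exact Submodule.smul_mem _ _ hy

theorem rank_eq {A : Type u} [CommRing A] {M : Type u} [AddCommGroup M] [Module A M]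
    [Module.Finite A M] [Module.Flat A M] (n : ℕ) (g : A) (p : PrimeSpectrum A) (hg : g ∉ p.asIdeal)
    (b : Module.Basis (Fin n) (Localization.Away g) (LocalizedModule (Submonoid.powers g) M)) :
    Module.rankAtStalk M p = n := by
  have hbc : IsBaseChange (Localization.Away g)
      (LocalizedModule.mkLinearMap (Submonoid.powers g) M) :=
    IsLocalizedModule.isBaseChange (Submonoid.powers g) _ _
  have hp : p ∈ Set.range (PrimeSpectrum.comap (algebraMap A (Localization.Away g))) := by
    rw [PrimeSpectrum.localization_away_comap_range (Localization.Away g) g]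
    exact hg
  obtain ⟨p', rfl⟩ := hp
  rw [← Module.rankAtStalk_isBaseChange hbc p']
  haveI : Nontrivial (Localization.Away g) := p'.nontrivial
  haveI : Module.Free (Localization.Away g) (LocalizedModule (Submonoid.powers g) M) :=
    Module.Free.of_basis b
  rw [Module.rankAtStalk_eq_finrank_of_free]
  simp [Module.finrank_eq_card_basis b]

theorem combine {A : Type u} [CommRing A] {M : Type u} [AddCommGroup M] [Module A M]
    [Module.Finite A M] (n : ℕ) (P' : Finset (PrimeSpectrum A))
    (hanti : ∀ p ∈ P', ∀ q ∈ P', q ≤ p → q = p) (m : PrimeSpectrum A → Fin n → M)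
    (hm : ∀ p ∈ P', ∃ r, r ∉ p.asIdeal ∧
      ∀ x : M, r • x ∈ Submodule.span A (Set.range (m p))) :
    ∃ s : Fin n → M, ∀ p ∈ P', ∃ r, r ∉ p.asIdeal ∧
      ∀ x : M, r • x ∈ Submodule.span A (Set.range s) := by
  classical
  have hx : ∀ p ∈ P', ∀ q ∈ P', q ≠ p → ∃ y, y ∈ q.asIdeal ∧ y ∉ p.asIdeal := by
    intro p hp q hq hne
    by_contra hcon
    push Not at hcon
    exact hne (hanti p hp q hq (fun y hy => hcon y hy))
  let y : PrimeSpectrum A → PrimeSpectrum A → A := fun p q =>
    if h : p ∈ P' ∧ q ∈ P' ∧ q ≠ p then (hx p h.1 q h.2.1 h.2.2).choose else 1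
  have hy1 : ∀ p ∈ P', ∀ q ∈ P', q ≠ p → y p q ∈ q.asIdeal ∧ y p q ∉ p.asIdeal := by
    intro p hp q hq hne
    have h : p ∈ P' ∧ q ∈ P' ∧ q ≠ p := ⟨hp, hq, hne⟩
    simp only [y, dif_pos h]
    exact (hx p h.1 q h.2.1 h.2.2).choose_spec
  let a : PrimeSpectrum A → A := fun p => ∏ q ∈ P'.erase p, y p q
  have ha1 : ∀ p ∈ P', a p ∉ p.asIdeal := by
    intro p hp h
    obtain ⟨q, hq, hq'⟩ := (Ideal.IsPrime.prod_mem_iff).mp h
    have h2 := Finset.mem_erase.mp hq
    exact (hy1 p hp q h2.2 h2.1).2 hq'
  have ha2 : ∀ p ∈ P', ∀ q ∈ P', q ≠ p → a p ∈ q.asIdeal := by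
    intro p hp q hq hne
    exact Ideal.mem_of_dvd _ (Finset.dvd_prod_of_mem _ (Finset.mem_erase.mpr ⟨hne, hq⟩))
      (hy1 p hp q hq hne).1
  let s : Fin n → M := fun k => ∑ p ∈ P', a p • m p k
  refine ⟨s, fun p hp => ?_⟩
  obtain ⟨r, hr, hrx⟩ := hm p hp
  have hnot : a p * r ∉ p.asIdeal := fun h =>
    (Ideal.IsPrime.mem_or_mem inferInstance h).elim (ha1 p hp) hr
  apply nak (Submodule.span A (Set.range s)) p.asIdeal (a p * r) hnot
  intro x
  rw [mul_smul]
  have key : ∀ z ∈ Submodule.span A (Set.range (m p)),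
      a p • z ∈ Submodule.span A (Set.range s) ⊔ p.asIdeal • (⊤ : Submodule A M) := by
    intro z hz
    induction hz using Submodule.span_induction with
    | mem z hz =>
      obtain ⟨k, rfl⟩ := hz
      have h3 : a p • m p k = s k - ∑ q ∈ P'.erase p, a q • m q k := by
        simp only [s]
        rw [← Finset.add_sum_erase P' _ hp]
        abel
      rw [h3]
      refine Submodule.sub_mem _ (Submodule.mem_sup_left (Submodule.subset_span ⟨k, rfl⟩))
        (Submodule.mem_sup_right ?_)
      refine Submodule.sum_mem _ fun q hq => ?_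
      have hq' := Finset.mem_erase.mp hq
      exact Submodule.smul_mem_smul (ha2 q hq'.2 p hp (Ne.symm hq'.1)) trivial
    | zero => simp
    | add z w _ _ hz hw => rw [smul_add]; exact Submodule.add_mem _ hz hw
    | smul c z _ hz => rw [smul_comm]; exact Submodule.smul_mem _ _ hz
  exact key _ (hrx x)

theorem basis_at {A : Type u} [CommRing A] {M : Type u} [AddCommGroup M] [Module A M]
    [Module.Finite A M] [Module.Projective A M] (n : ℕ) (s : Fin n → M) (q : PrimeSpectrum A)
    (hrank : Module.rankAtStalk M q = n) (r : A) (hr : r ∉ q.asIdeal)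
    (hrx : ∀ x : M, r • x ∈ Submodule.span A (Set.range s)) :
    LinearIndependent (Localization.AtPrime q.asIdeal)
        (fun j => LocalizedModule.mkLinearMap q.asIdeal.primeCompl M (s j)) ∧
      Submodule.span (Localization.AtPrime q.asIdeal)
        (Set.range fun j => LocalizedModule.mkLinearMap q.asIdeal.primeCompl M (s j)) = ⊤ := by
  have hspan : Submodule.span (Localization.AtPrime q.asIdeal)
        (Set.range fun j => LocalizedModule.mkLinearMap q.asIdeal.primeCompl M (s j)) = ⊤ := by
    rw [eq_top_iff]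
    rintro x -
    obtain ⟨⟨m, t⟩, rfl⟩ := IsLocalizedModule.mk'_surjective q.asIdeal.primeCompl
      (LocalizedModule.mkLinearMap q.asIdeal.primeCompl M) x
    have htr : (t : A) * r ∈ q.asIdeal.primeCompl := fun h =>
      (Ideal.IsPrime.mem_or_mem inferInstance h).elim t.2 hr
    have hu : IsUnit (algebraMap A (Localization.AtPrime q.asIdeal) ((t : A) * r)) :=
      IsLocalization.map_units (Localization.AtPrime q.asIdeal)
        (⟨(t : A) * r, htr⟩ : q.asIdeal.primeCompl)
    rw [← Submodule.smul_mem_iff_of_isUnit _ hu]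
    have h1 : algebraMap A (Localization.AtPrime q.asIdeal) ((t : A) * r) •
        IsLocalizedModule.mk' (LocalizedModule.mkLinearMap q.asIdeal.primeCompl M) m t =
        LocalizedModule.mkLinearMap q.asIdeal.primeCompl M (r • m) := by
      rw [algebraMap_smul, mul_comm, mul_smul, ← Submonoid.smul_def,
        IsLocalizedModule.mk'_cancel', map_smul]
    simp only [Function.uncurry_apply_pair] at h1 ⊢
    rw [h1]
    have h2 : Submodule.span A (Set.range s) ≤ Submodule.comap
        (LocalizedModule.mkLinearMap q.asIdeal.primeCompl M)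
        ((Submodule.span (Localization.AtPrime q.asIdeal) (Set.range fun j =>
          LocalizedModule.mkLinearMap q.asIdeal.primeCompl M (s j))).restrictScalars A) := by
      rw [Submodule.span_le]
      rintro _ ⟨j, rfl⟩
      exact Submodule.subset_span ⟨j, rfl⟩
    exact h2 (hrx m)
  refine ⟨?_, hspan⟩
  haveI : Module.Free (Localization.AtPrime q.asIdeal)
      (LocalizedModule q.asIdeal.primeCompl M) := Module.free_of_flat_of_isLocalRing
  have hfr : Module.finrank (Localization.AtPrime q.asIdeal)
      (LocalizedModule q.asIdeal.primeCompl M) = n := hrank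
  let b := Module.finBasisOfFinrankEq (Localization.AtPrime q.asIdeal)
      (LocalizedModule q.asIdeal.primeCompl M) hfr
  rw [linearIndependent_iff_injective_fintypeLinearCombination]
  have hφs : Function.Surjective (Fintype.linearCombination (Localization.AtPrime q.asIdeal)
      (fun j => LocalizedModule.mkLinearMap q.asIdeal.primeCompl M (s j))) := by
    rw [← LinearMap.range_eq_top, Fintype.range_linearCombination]
    exact hspan
  exact OrzechProperty.injective_of_surjective_of_injective b.equivFun.symm.toLinearMap _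
    b.equivFun.symm.injective hφs

/-- Let A be a commutative ring, M a finitely generated projective A-module, n a natural number and P a
finite set of prime ideals of A such that for every p in P there is g outside p with M_g free of
rank n over A_g. Then there exist n elements of M and an open subset U of Spec A containing P such
that for every prime q in U the images of these elements in M_q form a basis of M_q over A_q. (The
published conclusion is that the associated sheaf is free of rank n on some open neighbourhood of P;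
the form given here, with n global elements of M, is what its proof produces.) -/
theorem result (A : Type u) [CommRing A] (M : Type u) [AddCommGroup M] [Module A M]
    [Module.Finite A M] [Module.Projective A M] (n : ℕ) (P : Finset (PrimeSpectrum A))
    (hP : ∀ p ∈ P, ∃ g : A, g ∉ p.asIdeal ∧
      Nonempty (Module.Basis (Fin n) (Localization.Away g) (LocalizedModule (Submonoid.powers g) M))) :
    ∃ (s : Fin n → M) (U : Set (PrimeSpectrum A)), IsOpen U ∧ (∀ p ∈ P, p ∈ U) ∧
      ∀ q ∈ U,
        LinearIndependent (Localization.AtPrime q.asIdeal)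
            (fun j => LocalizedModule.mkLinearMap q.asIdeal.primeCompl M (s j)) ∧
          Submodule.span (Localization.AtPrime q.asIdeal)
            (Set.range fun j => LocalizedModule.mkLinearMap q.asIdeal.primeCompl M (s j)) = ⊤ := by

  classical
  haveI : Module.FinitePresentation A M := Module.finitePresentation_of_projective A M
  have hdata : ∀ p ∈ P, Module.rankAtStalk M p = n ∧ ∃ m : Fin n → M, ∃ r, r ∉ p.asIdeal ∧
      ∀ x : M, r • x ∈ Submodule.span A (Set.range m) := by
    intro p hp
    obtain ⟨g, hg, ⟨b⟩⟩ := hP p hp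
    refine ⟨rank_eq n g p hg b, ?_⟩
    obtain ⟨m, N, hN⟩ := local_gens n g b
    exact ⟨m, g ^ N, fun h => hg (Ideal.IsPrime.mem_of_pow_mem inferInstance N h), hN⟩
  let m : PrimeSpectrum A → Fin n → M := fun p =>
    if h : p ∈ P then (hdata p h).2.choose else fun _ => 0
  have hm : ∀ p ∈ P, ∃ r, r ∉ p.asIdeal ∧
      ∀ x : M, r • x ∈ Submodule.span A (Set.range (m p)) := by
    intro p hp
    simp only [m, dif_pos hp]
    exact (hdata p hp).2.choose_spec
  let P' := P.filter (fun p => Maximal (· ∈ P) p)
  have hanti : ∀ p ∈ P', ∀ q ∈ P', q ≤ p → q = p := by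
    intro p hp q hq hqp
    have hq' := (Finset.mem_filter.mp hq).2
    have hp' := (Finset.mem_filter.mp hp).1
    exact le_antisymm hqp (hq'.2 hp' hqp)
  obtain ⟨s, hs⟩ := combine n P' hanti m (fun p hp => hm p (Finset.mem_filter.mp hp).1)
  refine ⟨s, {q | ∃ r, r ∉ q.asIdeal ∧ ∀ x : M, r • x ∈ Submodule.span A (Set.range s)} ∩
    {q | Module.rankAtStalk M q = n}, ?_, ?_, ?_⟩
  · refine IsOpen.inter ?_ ((Module.isLocallyConstant_rankAtStalk).isOpen_fiber n)
    rw [isOpen_iff_forall_mem_open]
    rintro q ⟨r, hr, hrx⟩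
    exact ⟨PrimeSpectrum.basicOpen r, fun q' hq' => ⟨r, hq', hrx⟩,
      (PrimeSpectrum.basicOpen r).2, hr⟩
  · intro p hp
    obtain ⟨p', hpp', hmax⟩ := P.exists_le_maximal hp
    have hp' : p' ∈ P' := Finset.mem_filter.mpr ⟨hmax.1, hmax⟩
    obtain ⟨r, hr, hrx⟩ := hs p' hp'
    exact ⟨⟨r, fun h => hr (hpp' h), hrx⟩, (hdata p hp).1⟩
  · rintro q ⟨⟨r, hr, hrx⟩, hq2⟩
    exact basis_at n s q hq2 r hr hrx

end Groth.Agent.S17902
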