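import Groth.Statements.S17904
import Groth.Agent.Lib.Helper1.FPS11

set_option autoImplicit false
universe u
open CategoryTheory AlgebraicGeometry
open Pinch

namespace Groth.Agent.S17904

/-- Let S be a scheme and Z → X, Z → Z', X → X', Z' → X' a commutative square of S-schemes in which Z →
X and Z' → X' are closed immersions and Z → Z' and X → X' are affine, which is a pushout square in
the category of ringed spaces, with X, Z and Z' flat over S. Then for every morphism T → S the
square of base changes Z_T → X_T, Z_T → Z'_T, X_T → X'_T, Z'_T → X'_T is a pushout square in the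
category of ringed spaces. -/
theorem result {S X Z Z' X' : Scheme.{u}}
    (fX : X ⟶ S) (fZ' : Z' ⟶ S) (fX' : X' ⟶ S) (ι : Z ⟶ X) (q : Z ⟶ Z') (π : X ⟶ X') (ι' : Z' ⟶ X')
    [IsClosedImmersion ι] [IsClosedImmersion ι'] [IsAffineHom q] [IsAffineHom π]
    (hq : q ≫ fZ' = ι ≫ fX) (hπ : π ≫ fX' = fX) (hι' : ι' ≫ fX' = fZ')
    (hpo : IsPushout ((Scheme.forgetToLocallyRingedSpace ⋙ LocallyRingedSpace.forgetToSheafedSpace).map ι) ((Scheme.forgetToLocallyRingedSpace ⋙ LocallyRingedSpace.forgetToSheafedSpace).map q)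
      ((Scheme.forgetToLocallyRingedSpace ⋙ LocallyRingedSpace.forgetToSheafedSpace).map π) ((Scheme.forgetToLocallyRingedSpace ⋙ LocallyRingedSpace.forgetToSheafedSpace).map ι'))
    [Flat fX] [Flat (ι ≫ fX)] [Flat fZ']
    {T : Scheme.{u}} (g : T ⟶ S) :
    IsPushout
      ((Scheme.forgetToLocallyRingedSpace ⋙ LocallyRingedSpace.forgetToSheafedSpace).map
        ((Over.pullback g).map (Over.homMk ι rfl : Over.mk (ι ≫ fX) ⟶ Over.mk fX)).left)
      ((Scheme.forgetToLocallyRingedSpace ⋙ LocallyRingedSpace.forgetToSheafedSpace).map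
        ((Over.pullback g).map (Over.homMk q hq : Over.mk (ι ≫ fX) ⟶ Over.mk fZ')).left)
      ((Scheme.forgetToLocallyRingedSpace ⋙ LocallyRingedSpace.forgetToSheafedSpace).map
        ((Over.pullback g).map (Over.homMk π hπ : Over.mk fX ⟶ Over.mk fX')).left)
      ((Scheme.forgetToLocallyRingedSpace ⋙ LocallyRingedSpace.forgetToSheafedSpace).map
        ((Over.pullback g).map (Over.homMk ι' hι' : Over.mk fZ' ⟶ Over.mk fX')).left) := by
  have hP := Groth.Agent.Lib.Helper1.FP.isPushout_of_sheafedSpace ι q π ι' hpo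
  haveI : IsAffineHom ι' := inferInstance
  have hc : Groth.Agent.Lib.Helper1.FP.Covering ι q :=
    Groth.Agent.Lib.Helper1.FP.covering_of_affine_square ι q π ι' hP.w
  haveI : Flat (ι ≫ π ≫ fX') := by rw [hπ]; infer_instance
  let θ₁ : Over.mk (ι ≫ fX) ⟶ Over.mk fX := Over.homMk ι rfl
  let θ₂ : Over.mk (ι ≫ fX) ⟶ Over.mk fZ' := Over.homMk q hq
  let φ₁ : Over.mk fX ⟶ Over.mk fX' := Over.homMk π hπ
  let φ₂ : Over.mk fZ' ⟶ Over.mk fX' := Over.homMk ι' hι'
  have hw : θ₁ ≫ φ₁ = θ₂ ≫ φ₂ := by
    apply Over.OverMorphism.ext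
    exact hP.w
  have HX := Groth.Agent.Lib.Helper1.FP.BC.isPullback_overPullback g φ₁
  have HY := Groth.Agent.Lib.Helper1.FP.BC.isPullback_overPullback g φ₂
  have HZ := Groth.Agent.Lib.Helper1.FP.BC.isPullback_overPullback g (θ₁ ≫ φ₁)
  have Hι := Groth.Agent.Lib.Helper1.FP.BC.isPullback_overPullback g θ₁
  have hPT : IsPushout ((Over.pullback g).map θ₁).left ((Over.pullback g).map θ₂).left
      ((Over.pullback g).map φ₁).left ((Over.pullback g).map φ₂).left := by
    refine Groth.Agent.Lib.Helper1.FP.BC.isPushout_of_flat_base hc hP fX' g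
      (Limits.pullback.fst fX' g) (Limits.pullback.snd fX' g)
      (IsPullback.of_hasPullback fX' g) HX HY
      (pZ := Limits.pullback.fst (ι ≫ fX) g) (cF := ((Over.pullback g).map (θ₁ ≫ φ₁)).left)
      ?_ ?_ ?_ ?_ ?_
    · rwa [Over.comp_left] at HZ
    · exact Limits.pullback.lift_fst _ _ _
    · rw [← Over.comp_left, ← Functor.map_comp]
    · exact Limits.pullback.lift_fst _ _ _
    · rw [← Over.comp_left, ← Functor.map_comp, hw]
  haveI : IsClosedImmersion ((Over.pullback g).map θ₁).left :=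
    MorphismProperty.of_isPullback Hι (inferInstanceAs (IsClosedImmersion ι))
  haveI : IsAffineHom ((Over.pullback g).map φ₁).left :=
    MorphismProperty.of_isPullback HX (inferInstanceAs (IsAffineHom π))
  haveI : IsAffineHom ((Over.pullback g).map φ₂).left :=
    MorphismProperty.of_isPullback HY (inferInstanceAs (IsAffineHom ι'))
  have hcT : Groth.Agent.Lib.Helper1.FP.Covering ((Over.pullback g).map θ₁).left
      ((Over.pullback g).map θ₂).left :=
    Groth.Agent.Lib.Helper1.FP.covering_of_affine_square _ _ _ _ hPT.w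
  exact Groth.Agent.Lib.Helper1.FP.isPushout_sheafedSpace hcT hPT

end Groth.Agent.S17904
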