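import Groth.Statements.S17905
import Groth.Agent.Lib.Helper1.FPS8

set_option autoImplicit false
universe u
open CategoryTheory AlgebraicGeometry
open Pinch

namespace Groth.Agent.S17905

/-- Let S be a scheme and Z → X, Z → Z', X → X', Z' → X' a commutative square of S-schemes which is a
pushout square in the category of ringed spaces, with Z → X and Z' → X' closed immersions, X → X'
affine, Z → Z' finite, flat and surjective, and X, Z, Z' flat over S. Suppose that for every T → S
the map O_T → (f_T)_* O_{X_T} induced by the base change f_T : X_T → T of X → S is an isomorphism.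
Then for every T → S the map O_T → (f'_T)_* O_{X'_T} induced by the base change of X' → S is an
isomorphism. (The published lemma is stated for the pinching of a finite surjective Z → Z' whose
fibres lie in affine opens of X, with X → S admitting a section; this row assumes X → X' only affine
and drops the affine-fibre and section conditions, which the printed proof does not use.) -/
theorem result {S X Z Z' X' : Scheme.{u}}
    (fX : X ⟶ S) (fZ' : Z' ⟶ S) (fX' : X' ⟶ S) (ι : Z ⟶ X) (q : Z ⟶ Z') (π : X ⟶ X') (ι' : Z' ⟶ X')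
    [IsClosedImmersion ι] [IsClosedImmersion ι'] [IsFinite q] [Flat q] [Surjective q] [IsAffineHom π]
    (hq : q ≫ fZ' = ι ≫ fX) (hπ : π ≫ fX' = fX) (hι' : ι' ≫ fX' = fZ')
    (hpo : IsPushout ((Scheme.forgetToLocallyRingedSpace ⋙ LocallyRingedSpace.forgetToSheafedSpace).map ι) ((Scheme.forgetToLocallyRingedSpace ⋙ LocallyRingedSpace.forgetToSheafedSpace).map q)
      ((Scheme.forgetToLocallyRingedSpace ⋙ LocallyRingedSpace.forgetToSheafedSpace).map π) ((Scheme.forgetToLocallyRingedSpace ⋙ LocallyRingedSpace.forgetToSheafedSpace).map ι'))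
    [Flat fX] [Flat (ι ≫ fX)] [Flat fZ']
    (hX : ∀ (T : Scheme.{u}) (g : T ⟶ S) (U : T.Opens), IsIso ((Limits.pullback.snd fX g).app U))
    (T : Scheme.{u}) (g : T ⟶ S) (U : T.Opens) :
    IsIso ((Limits.pullback.snd fX' g).app U) := by
  have hP := Groth.Agent.Lib.Helper1.FP.isPushout_of_sheafedSpace ι q π ι' hpo
  haveI : IsAffineHom ι' := inferInstance
  haveI : IsAffineHom q := inferInstance
  have hc : Groth.Agent.Lib.Helper1.FP.Covering ι q :=
    Groth.Agent.Lib.Helper1.FP.covering_of_affine_square ι q π ι' hP.w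
  haveI : Flat (ι ≫ π ≫ fX') := by rw [hπ]; infer_instance
  have hid : g ≫ 𝟙 S = 𝟙 T ≫ g := (Category.comp_id g).trans (Category.id_comp g).symm
  -- the base-changed maps
  have h1π : fX ≫ 𝟙 S = π ≫ fX' := (Category.comp_id _).trans hπ.symm
  have h1ι' : fZ' ≫ 𝟙 S = ι' ≫ fX' := (Category.comp_id _).trans hι'.symm
  have h1ι : (ι ≫ fX) ≫ 𝟙 S = ι ≫ fX := Category.comp_id _
  have h1q : (ι ≫ fX) ≫ 𝟙 S = q ≫ fZ' := (Category.comp_id _).trans hq.symm
  have h1c : (ι ≫ fX) ≫ 𝟙 S = (ι ≫ π) ≫ fX' := by
    rw [Category.comp_id, Category.assoc, hπ]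
  let πT := Limits.pullback.map fX g fX' g π (𝟙 T) (𝟙 S) h1π hid
  let ι'T := Limits.pullback.map fZ' g fX' g ι' (𝟙 T) (𝟙 S) h1ι' hid
  let ιT := Limits.pullback.map (ι ≫ fX) g fX g ι (𝟙 T) (𝟙 S) h1ι hid
  let qT := Limits.pullback.map (ι ≫ fX) g fZ' g q (𝟙 T) (𝟙 S) h1q hid
  have HX := Groth.Agent.Lib.Helper1.FP.BC.isPullback_map_id π fX' fX g h1π hid
  have HY := Groth.Agent.Lib.Helper1.FP.BC.isPullback_map_id ι' fX' fZ' g h1ι' hid
  have HZ := Groth.Agent.Lib.Helper1.FP.BC.isPullback_map_id (ι ≫ π) fX' (ι ≫ fX) g h1c hid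
  have Hι := Groth.Agent.Lib.Helper1.FP.BC.isPullback_map_id ι fX (ι ≫ fX) g h1ι hid
  have Hq := Groth.Agent.Lib.Helper1.FP.BC.isPullback_map_id q fZ' (ι ≫ fX) g h1q hid
  have hPT : IsPushout ιT qT πT ι'T := by
    refine Groth.Agent.Lib.Helper1.FP.BC.isPushout_of_flat_base hc hP fX' g
      (Limits.pullback.fst fX' g) (Limits.pullback.snd fX' g)
      (IsPullback.of_hasPullback fX' g) HX HY HZ ?_ ?_ ?_ ?_
    · simp only [ιT, Limits.pullback.map, Limits.pullback.lift_fst]
    · apply Limits.pullback.hom_ext
      · simp only [ιT, πT, Limits.pullback.map, Category.assoc, Limits.pullback.lift_fst,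
          Limits.pullback.lift_fst_assoc]
      · simp only [ιT, πT, Limits.pullback.map, Category.assoc, Limits.pullback.lift_snd,
          Limits.pullback.lift_snd_assoc, Category.comp_id]
    · simp only [qT, Limits.pullback.map, Limits.pullback.lift_fst]
    · apply Limits.pullback.hom_ext
      · simp only [qT, ι'T, Limits.pullback.map, Category.assoc, Limits.pullback.lift_fst,
          Limits.pullback.lift_fst_assoc, hP.w]
      · simp only [qT, ι'T, Limits.pullback.map, Category.assoc, Limits.pullback.lift_snd,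
          Limits.pullback.lift_snd_assoc, Category.comp_id]
  haveI : IsClosedImmersion ιT := MorphismProperty.of_isPullback Hι inferInstance
  haveI : IsAffineHom πT := MorphismProperty.of_isPullback HX inferInstance
  haveI : IsAffineHom ι'T := MorphismProperty.of_isPullback HY inferInstance
  haveI : Flat qT := MorphismProperty.of_isPullback Hq inferInstance
  haveI : Surjective qT := MorphismProperty.of_isPullback Hq inferInstance
  have hcT : Groth.Agent.Lib.Helper1.FP.Covering ιT qT :=
    Groth.Agent.Lib.Helper1.FP.covering_of_affine_square ιT qT πT ι'T hPT.w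
  have hπs : πT ≫ Limits.pullback.snd fX' g = Limits.pullback.snd fX g := by
    simp only [πT, Limits.pullback.map, Limits.pullback.lift_snd, Category.comp_id]
  refine Groth.Agent.Lib.Helper1.FP.isIso_app_of_isIso_comp_app hcT hPT
    (Limits.pullback.snd fX' g) U ?_
  rw [Scheme.Hom.congr_app hπs]
  haveI := hX T g U
  infer_instance

end Groth.Agent.S17905
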