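import Groth.Statements.S17911
import Groth.Agent.Lib.Helper24.GerbEquiv

set_option autoImplicit false
universe u
open CategoryTheory AlgebraicGeometry
open Gerb

namespace Groth.Agent.S17911

open CategoryTheory AlgebraicGeometry
open Groth.Agent.Lib.Helper24.GerbEquiv


/-- Let S be a scheme and let 𝒳, 𝒴 be gerbes over the big fppf site of schemes over S (stacks in
groupoids in which objects exist locally and any two objects over the same scheme are locally
isomorphic), and let φ : 𝒳 → 𝒴 be a functor over Sch_S. Suppose 𝒳 has an object s over S itself such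
that, for every object x of 𝒳 admitting a morphism to s (that is, for every pullback of s), φ
induces a bijection from the automorphisms of x over the identity to those of φ(x) — the induced
homomorphism of automorphism sheaves Aut(s) → Aut(φ s) is an isomorphism. Then φ is an equivalence
over Sch_S: some functor over Sch_S in the other direction is inverse to φ up to isomorphisms over
Sch_S. -/
theorem result (S : Scheme.{u}) (𝒳 𝒴 : AlgSt.Cat S)
    (h𝒳 : Gerb.IsGerbe (QuotSh.J Scheme.fppfPrecoverage S) 𝒳)
    (h𝒴 : Gerb.IsGerbe (QuotSh.J Scheme.fppfPrecoverage S) 𝒴)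
    (φ : 𝒳 ⥤ᵇ 𝒴) (s : 𝒳.obj) (hs : 𝒳.p.obj s = Over.mk (𝟙 S))
    (hφ : ∀ (x : 𝒳.obj) (c : x ⟶ s), Function.Bijective (Gerb.autMap φ x)) :
    FibCat.IsEquivOver φ := by
  refine isEquivOver_of_aut_bijective (QuotSh.J Scheme.fppfPrecoverage S) φ h𝒳.1 h𝒴.1 h𝒳.2 h𝒴.2
    ?_ ?_ hφ
  · intro V
    rw [hs]
    exact ⟨Over.homMk V.hom (Category.comp_id _)⟩
  · intro V f f'
    have key : ∀ (T : Over S), T = Over.mk (𝟙 S) → ∀ (f f' : V ⟶ T), f = f' := by
      rintro T rfl f f'
      apply Over.OverMorphism.ext
      have h1 := Over.w f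
      have h2 := Over.w f'
      exact ((Category.comp_id f.left).symm.trans h1).trans
        ((Category.comp_id f'.left).symm.trans h2).symm
    exact key _ hs f f'

end Groth.Agent.S17911
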