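import Groth.Statements.S17913
import Groth.Agent.Lib.Helper24.GerbGlue

set_option autoImplicit false
universe u
open CategoryTheory AlgebraicGeometry
open Gerb

namespace Groth.Agent.S17913

open CategoryTheory AlgebraicGeometry
open Groth.Agent.Lib.Helper24.GerbGlue Groth.Agent.Lib.Helper24.FibGrpd
open Groth.Agent.Lib.Helper24.FibCatRepDiag

set_option backward.isDefEq.respectTransparency false
set_option backward.isDefEq.respectTransparency.types false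

theorem core {C : Type*} [Category C] {𝒳 𝒴 : BasedCategory C}
    (h𝒳 : FibCat.IsFibGrpd 𝒳.p) (h𝒴 : FibCat.IsFibGrpd 𝒴.p)
    (φ : 𝒳 ⥤ᵇ 𝒴) (ψ : 𝒴 ⥤ᵇ 𝒳) (x : 𝒳.obj)
    (hφ : ∀ (x' : 𝒳.obj) (c : x' ⟶ x), Function.Surjective (Gerb.autMap φ x'))
    (g : ψ.obj (φ.obj x) ⟶ x) (hg : 𝒳.p.IsHomLift (𝟙 (𝒳.p.obj x)) g)
    (hconj : ∀ (x' : 𝒳.obj) (c : x' ⟶ x) (g' : ψ.obj (φ.obj x') ⟶ x'),
      𝒳.p.IsHomLift (𝟙 (𝒳.p.obj x')) g' →
      ψ.map (φ.map c) ≫ g = g' ≫ c → ∀ α : Gerb.AutO x', ψ.map (φ.map α.hom.1) ≫ g' = g' ≫ α.hom.1)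
    (z' : 𝒴.obj) (c : z' ⟶ φ.obj x) (g' : φ.obj (ψ.obj z') ⟶ z')
    (hg' : 𝒴.p.IsHomLift (𝟙 (𝒴.p.obj z')) g')
    (hc : φ.map (ψ.map c) ≫ φ.map g = g' ≫ c) (β : Gerb.AutO z') :
    φ.map (ψ.map β.hom.1) ≫ g' = g' ≫ β.hom.1 := by
  -- a pullback of `x` over the base of `z'`
  obtain ⟨x', c₀, hc₀⟩ := h𝒳.exists_lift (x := x) (𝒴.p.map c ≫ eqToHom (φ.w_obj x))
  have hcl : 𝒴.p.IsHomLift (𝒴.p.map c ≫ eqToHom (φ.w_obj x)) c := inferInstance
  have hφc₀ : 𝒴.p.IsHomLift (𝒴.p.map c ≫ eqToHom (φ.w_obj x)) (φ.map c₀) := map_lift φ _ _ hc₀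
  obtain ⟨ι, ⟨hι1, hι2⟩, -⟩ := exists_unique_factor h𝒴 (φ.map c₀) c
    (𝒴.p.map c ≫ eqToHom (φ.w_obj x)) (𝟙 _) (𝒴.p.map c ≫ eqToHom (φ.w_obj x))
    (Category.id_comp _).symm hφc₀ hcl
  haveI : IsIso ι := isIso_of_isFibGrpd 𝒴.p h𝒴 (𝟙 (𝒴.p.obj z')) ι
  -- the transported isomorphism on `x'`
  let Φ : 𝒳 ⥤ᵇ 𝒳 := BasedFunctor.comp φ ψ
  have hr1 := r_lift h𝒳 Φ g hg c₀
  have hr2 : r h𝒳 Φ g hg c₀ ≫ c₀ = ψ.map (φ.map c₀) ≫ g := r_fac h𝒳 Φ g hg c₀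
  obtain ⟨g'', hg''⟩ : ∃ g'' : ψ.obj (φ.obj x') ⟶ x', g'' = r h𝒳 Φ g hg c₀ := ⟨_, rfl⟩
  rw [← hg''] at hr1 hr2
  have hx'z' : 𝒳.p.obj x' = 𝒴.p.obj z' :=
    IsHomLift.domain_eq 𝒳.p (𝒴.p.map c ≫ eqToHom (φ.w_obj x)) c₀
  -- comparison of `g'` and `φ g''`
  have key : φ.map (ψ.map ι) ≫ φ.map g'' = g' ≫ ι := by
    have hg''l : 𝒴.p.IsHomLift (𝟙 (𝒴.p.obj z')) (φ.map g'') :=
      map_lift φ _ _ (lift_id_of_eq _ hx'z' hr1)
    have hιl : 𝒴.p.IsHomLift (𝟙 (𝒴.p.obj z')) (φ.map (ψ.map ι)) :=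
      map_lift φ _ _ (map_lift ψ _ _ hι1)
    have k1 : 𝒴.p.IsHomLift (𝟙 (𝒴.p.obj z')) (φ.map (ψ.map ι) ≫ φ.map g'') := inferInstance
    have k2 : 𝒴.p.IsHomLift (𝟙 (𝒴.p.obj z')) (g' ≫ ι) := inferInstance
    apply cancel_right h𝒴 (φ.map c₀) _ (𝟙 _) hφc₀ _ _ k1 k2
    rw [Category.assoc, ← φ.map_comp, hr2, φ.map_comp, ← Category.assoc, ← φ.map_comp,
      ← ψ.map_comp, hι2, hc, Category.assoc, hι2]
  -- the conjugated automorphism comes from `x'`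
  have hβl : 𝒴.p.IsHomLift (𝟙 (𝒴.p.obj z')) β.hom.1 := β.hom.2
  have hβ' : 𝒴.p.IsHomLift (𝟙 (𝒴.p.obj (φ.obj x'))) (inv ι ≫ β.hom.1 ≫ ι) := by
    have e : 𝒴.p.obj z' = 𝒴.p.obj (φ.obj x') := IsHomLift.codomain_eq 𝒴.p (𝟙 _) ι |>.symm
    have : 𝒴.p.IsHomLift (𝟙 (𝒴.p.obj z')) (inv ι ≫ β.hom.1 ≫ ι) := inferInstance
    exact lift_id_of_eq _ e this
  obtain ⟨α, hα⟩ := hφ x' c₀ (autOfHom h𝒴 (inv ι ≫ β.hom.1 ≫ ι) hβ')
  have hα' : φ.map α.hom.1 = inv ι ≫ β.hom.1 ≫ ι := by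
    have := congrArg (fun t : Gerb.AutO (φ.obj x') => t.hom.1) hα
    exact this
  have hcj := hconj x' c₀ g'' hr1 hr2.symm α
  have hβeq : β.hom.1 = ι ≫ φ.map α.hom.1 ≫ inv ι := by
    rw [hα']; simp
  have key' : φ.map (ψ.map (inv ι)) ≫ g' = φ.map g'' ≫ inv ι := by
    have : φ.map (ψ.map (inv ι)) ≫ φ.map (ψ.map ι) = 𝟙 _ := by
      rw [← φ.map_comp, ← ψ.map_comp, IsIso.inv_hom_id, ψ.map_id, φ.map_id]
    rw [← cancel_mono ι, Category.assoc, ← key, ← Category.assoc, this, Category.id_comp,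
      Category.assoc, IsIso.inv_hom_id, Category.comp_id]
  rw [hβeq, ψ.map_comp, ψ.map_comp, φ.map_comp, φ.map_comp, Category.assoc, Category.assoc, key',
    ← Category.assoc (φ.map (ψ.map (φ.map α.hom.1))), ← φ.map_comp, hcj, φ.map_comp, Category.assoc,
    ← Category.assoc (φ.map (ψ.map ι)), key, Category.assoc]


/-- Let S be a scheme, 𝒳 and 𝒴 gerbes over the big fppf site of schemes over S, φ : 𝒳 → 𝒴 and ψ : 𝒴 → 𝒳
functors over Sch_S, and x an object of 𝒳 over S itself such that φ is surjective on automorphism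
groups along x: for every object x' of 𝒳 admitting a morphism to x (every pullback of x), every
automorphism of φ(x') over the identity is φ(α) for some automorphism α of x' over the identity. Let
g : ψ(φ(x)) → x be an isomorphism lying over the identity such that conjugation by g after ψ ∘ φ is
the identity of the automorphism sheaf of x: whenever c : x' → x is a morphism of 𝒳 and g' :
ψ(φ(x')) → x' is the morphism over the identity with ψ(φ(c)) ≫ g = g' ≫ c, every automorphism α of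
x' over the identity satisfies ψ(φ(α)) ≫ g' = g' ≫ α. Then φ ∘ ψ is isomorphic to the identity on
every fibre of 𝒴: there are isomorphisms σ_z : φ(ψ(z)) → z for all objects z of 𝒴, lying over
identities and natural in morphisms lying over identities, so that φ and ψ are mutually
quasi-inverse on every fibre. (The published corollary does not assume that φ is surjective on
automorphism groups; its proof uses that φ is full, and without that hypothesis the conclusion fails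
— take for 𝒳 the base category over itself, for 𝒴 the gerbe of torsors under the group of order two,
for φ the trivial torsor and for ψ the structure functor. The published corollary also concludes
that ψ ∘ φ is isomorphic to the identity on every fibre of 𝒳; that part follows from the hypotheses
on g alone and is stated separately.) -/
theorem result (S : Scheme.{u}) (𝒳 𝒴 : AlgSt.Cat S)
    (h𝒳 : Gerb.IsGerbe (QuotSh.J Scheme.fppfPrecoverage S) 𝒳)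
    (h𝒴 : Gerb.IsGerbe (QuotSh.J Scheme.fppfPrecoverage S) 𝒴)
    (φ : 𝒳 ⥤ᵇ 𝒴) (ψ : 𝒴 ⥤ᵇ 𝒳) (x : 𝒳.obj) (hx : 𝒳.p.obj x = Over.mk (𝟙 S))
    (hφ : ∀ (x' : 𝒳.obj) (c : x' ⟶ x), Function.Surjective (Gerb.autMap φ x'))
    (g : ψ.obj (φ.obj x) ⟶ x) [IsIso g] (hg : 𝒳.p.IsHomLift (𝟙 (𝒳.p.obj x)) g)
    (hconj : ∀ (x' : 𝒳.obj) (c : x' ⟶ x) (g' : ψ.obj (φ.obj x') ⟶ x'), 𝒳.p.IsHomLift (𝟙 (𝒳.p.obj x')) g' →
      ψ.map (φ.map c) ≫ g = g' ≫ c → ∀ α : Gerb.AutO x', ψ.map (φ.map α.hom.1) ≫ g' = g' ≫ α.hom.1) :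
    ∃ σ : ∀ z : 𝒴.obj, φ.obj (ψ.obj z) ⟶ z,
      (∀ z, IsIso (σ z) ∧ 𝒴.p.IsHomLift (𝟙 (𝒴.p.obj z)) (σ z)) ∧
      (∀ (z z' : 𝒴.obj) (f : z ⟶ z'), 𝒴.p.IsHomLift (𝟙 (𝒴.p.obj z)) f →
        φ.map (ψ.map f) ≫ σ z' = σ z ≫ f) := by
  have h𝒳g := h𝒳.1.1
  have h𝒴g := h𝒴.1.1
  have hpx : 𝒴.p.obj (φ.obj x) = Over.mk (𝟙 S) := (φ.w_obj x).trans hx
  have hg₀ : 𝒴.p.IsHomLift (𝟙 (𝒴.p.obj (φ.obj x))) (φ.map g) :=
    map_lift φ _ _ (lift_id_of_eq _ (φ.w_obj x).symm hg)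
  refine exists_rho (QuotSh.J Scheme.fppfPrecoverage S) h𝒴.1 h𝒴.2 (BasedFunctor.comp ψ φ)
    (x := φ.obj x) (φ.map g) hg₀ ?_ ?_ ?_
  · intro z' c g' hg' hc β
    exact core h𝒳g h𝒴g φ ψ x hφ g hg hconj z' c g' hg' hc β
  · intro V f f'
    have key : ∀ (T : Over S), T = Over.mk (𝟙 S) → ∀ (f f' : V ⟶ T), f = f' := by
      rintro T rfl f f'
      apply Over.OverMorphism.ext
      have h1 := Over.w f
      have h2 := Over.w f'
      exact ((Category.comp_id f.left).symm.trans h1).trans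
        ((Category.comp_id f'.left).symm.trans h2).symm
    exact key _ hpx f f'
  · intro V
    rw [hpx]
    exact ⟨Over.homMk V.hom (Category.comp_id _)⟩

end Groth.Agent.S17913
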