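import Groth.Statements.S17933
import Mathlib

set_option autoImplicit false
universe u
open MultCrv

namespace Groth.Agent.S17933

theorem z_pow_n (R : Type*) [CommRing R] (n : ℕ) : MultCrv.z R n ^ n = 0 := by
  change (Ideal.Quotient.mk (Ideal.span {(Polynomial.X : Polynomial R) ^ n}) Polynomial.X) ^ n = 0
  rw [← map_pow, Ideal.Quotient.eq_zero_iff_mem]
  exact Ideal.subset_span rfl

theorem finite_Rn (R : Type u) [CommRing R] (n : ℕ) : Module.Finite R (MultCrv.Rn R n) :=
  (Polynomial.monic_X_pow n).finite_adjoinRoot

theorem finite_sub (R : Type u) [CommRing R] [IsNoetherianRing R] (n : ℕ)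
    (M : Type u) [AddCommGroup M] [Module (MultCrv.Rn R n) M] [Module R M]
    [IsScalarTower R (MultCrv.Rn R n) M] [Module.Finite (MultCrv.Rn R n) M]
    (P : Submodule (MultCrv.Rn R n) M) : Module.Finite R P := by
  haveI := finite_Rn R n
  haveI : Module.Finite R M := Module.Finite.trans (MultCrv.Rn R n) M
  haveI : IsNoetherian R M := inferInstance
  have : Module.Finite R (P.restrictScalars R) := inferInstance
  let e : ↥(P.restrictScalars R) ≃ₗ[R] ↥P :=
    { toFun := fun x => ⟨x.1, x.2⟩
      invFun := fun x => ⟨x.1, x.2⟩
      map_add' := fun _ _ => rfl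
      map_smul' := fun _ _ => rfl
      left_inv := fun _ => rfl
      right_inv := fun _ => rfl }
  exact Module.Finite.equiv e

/-- the last nonzero `z`-multiple of a nonzero element. -/
theorem exists_last (R : Type u) [CommRing R] (n : ℕ)
    (M : Type u) [AddCommGroup M] [Module (MultCrv.Rn R n) M] (u : M) (hu : u ≠ 0) :
    ∃ j : ℕ, MultCrv.z R n ^ j • u ≠ 0 ∧ MultCrv.z R n • (MultCrv.z R n ^ j • u) = 0 := by
  classical
  have hex : ∃ i : ℕ, MultCrv.z R n ^ i • u = 0 :=
    ⟨n, by rw [z_pow_n]; exact zero_smul (MultCrv.Rn R n) u⟩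
  have hmin : ∀ {m : ℕ}, m < Nat.find hex → ¬ (MultCrv.z R n ^ m • u = 0) :=
    fun {m} hm => Nat.find_min hex hm
  have hspec := Nat.find_spec hex
  set i := Nat.find hex with hi
  have hi0 : i ≠ 0 := by
    intro h0
    rw [h0, pow_zero, one_smul] at hspec
    exact hu hspec
  obtain ⟨j, hj⟩ := Nat.exists_eq_succ_of_ne_zero hi0
  refine ⟨j, hmin (by omega), ?_⟩
  rw [smul_smul, ← pow_succ', ← Nat.succ_eq_add_one, ← hj]
  exact hspec


/-- Let R be a discrete valuation ring, n ≥ 1, A = R[X]/(X^n) with z the class of X, and M a finitely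
generated A-module. Then M is torsion-free as an R-module if and only if the submodule M^(1) of
elements killed by z is a free R-module. (This is the statement at a closed point of the sheaf
statement: for a primitive multiple curve of multiplicity n the local ring at a closed point is of
the form R[X]/(X^n) with R the local ring of the reduced smooth curve, torsion-freeness is the
absence of sections with finite support, and local freeness on the reduced curve is freeness of the
stalk; the row is stated for every discrete valuation ring R.) -/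
theorem result (R : Type u) [CommRing R] [IsDomain R] [IsDiscreteValuationRing R] (n : ℕ) (hn : 1 ≤ n) (M : Type u) [AddCommGroup M] [Module (MultCrv.Rn R n) M] [Module R M] [IsScalarTower R (MultCrv.Rn R n) M] [Module.Finite (MultCrv.Rn R n) M] : Module.IsTorsionFree R M ↔ Module.Free R ↥(MultCrv.filt2 R n M 1) := by
  haveI hfin : Module.Finite R ↥(MultCrv.filt2 R n M 1) := finite_sub R n M _
  rw [Module.free_iff_isTorsionFree]
  constructor
  · intro h
    exact Function.Injective.moduleIsTorsionFree (R := R)
      (fun x : ↥(MultCrv.filt2 R n M 1) => (x : M)) Subtype.val_injective (fun r m => rfl)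
  · intro h
    refine ⟨fun r hr => ?_⟩
    have hr0 : r ≠ 0 := hr.ne_zero
    intro x y hxy
    have hxy' : r • (x - y) = 0 := by
      rw [smul_sub]; exact sub_eq_zero.mpr hxy
    by_contra hne
    have hu : x - y ≠ 0 := sub_ne_zero.mpr hne
    obtain ⟨j, hj1, hj2⟩ := exists_last R n M (x - y) hu
    let w : ↥(MultCrv.filt2 R n M 1) := ⟨MultCrv.z R n ^ j • (x - y), by
      change MultCrv.z R n ^ 1 • (MultCrv.z R n ^ j • (x - y)) = 0
      rw [pow_one]; exact hj2⟩
    have hw : r • w = 0 := by
      apply Subtype.ext
      change r • (MultCrv.z R n ^ j • (x - y)) = 0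
      rw [smul_comm, hxy', smul_zero]
    have := (smul_eq_zero_iff_right hr0).mp hw
    exact hj1 (congrArg Subtype.val this)

end Groth.Agent.S17933
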