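import Groth.Statements.S17934
import Mathlib

set_option autoImplicit false
universe u
open MultCrv

namespace Groth.Agent.S17934

theorem z_pow_n (R : Type*) [CommRing R] (n : ℕ) : MultCrv.z R n ^ n = 0 := by
  change (Ideal.Quotient.mk (Ideal.span {(Polynomial.X : Polynomial R) ^ n}) Polynomial.X) ^ n = 0
  rw [← map_pow, Ideal.Quotient.eq_zero_iff_mem]
  exact Ideal.subset_span rfl

theorem finite_Rn (R : Type u) [CommRing R] (n : ℕ) : Module.Finite R (MultCrv.Rn R n) :=
  (Polynomial.monic_X_pow n).finite_adjoinRoot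

theorem finite_sub (R : Type u) [CommRing R] [IsNoetherianRing R] (n : ℕ)
    (M : Type u) [AddCommGroup M] [Module (MultCrv.Rn R n) M] [Module R M]
    [IsScalarTower R (MultCrv.Rn R n) M] [Module.Finite (MultCrv.Rn R n) M]
    (P : Submodule (MultCrv.Rn R n) M) : Module.Finite R P := by
  haveI := finite_Rn R n
  haveI : Module.Finite R M := Module.Finite.trans (MultCrv.Rn R n) M
  haveI : IsNoetherian R M := inferInstance
  have : Module.Finite R (P.restrictScalars R) := inferInstance
  let e : ↥(P.restrictScalars R) ≃ₗ[R] ↥P :=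
    { toFun := fun x => ⟨x.1, x.2⟩
      invFun := fun x => ⟨x.1, x.2⟩
      map_add' := fun _ _ => rfl
      map_smul' := fun _ _ => rfl
      left_inv := fun _ => rfl
      right_inv := fun _ => rfl }
  exact Module.Finite.equiv e

/-- the last nonzero `z`-multiple of a nonzero element. -/
theorem exists_last (R : Type u) [CommRing R] (n : ℕ)
    (M : Type u) [AddCommGroup M] [Module (MultCrv.Rn R n) M] (u : M) (hu : u ≠ 0) :
    ∃ j : ℕ, MultCrv.z R n ^ j • u ≠ 0 ∧ MultCrv.z R n • (MultCrv.z R n ^ j • u) = 0 := by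
  classical
  have hex : ∃ i : ℕ, MultCrv.z R n ^ i • u = 0 :=
    ⟨n, by rw [z_pow_n]; exact zero_smul (MultCrv.Rn R n) u⟩
  have hmin : ∀ {m : ℕ}, m < Nat.find hex → ¬ (MultCrv.z R n ^ m • u = 0) :=
    fun {m} hm => Nat.find_min hex hm
  have hspec := Nat.find_spec hex
  set i := Nat.find hex with hi
  have hi0 : i ≠ 0 := by
    intro h0
    rw [h0, pow_zero, one_smul] at hspec
    exact hu hspec
  obtain ⟨j, hj⟩ := Nat.exists_eq_succ_of_ne_zero hi0
  refine ⟨j, hmin (by omega), ?_⟩
  rw [smul_smul, ← pow_succ', ← Nat.succ_eq_add_one, ← hj]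
  exact hspec


/-- Let R be a discrete valuation ring, n ≥ 1, A = R[X]/(X^n) with z the class of X, and M a finitely
generated A-module that is torsion-free as an R-module. Then for 1 ≤ i ≤ n the graded piece
M^(i)/M^(i-1) of the second canonical filtration (M^(i) the elements killed by z^i) is a free
R-module. (Statement at a closed point of the sheaf statement on a primitive multiple curve of
multiplicity n, whose local rings are of the form R[X]/(X^n) with R the local ring of the reduced
smooth curve; stated for every discrete valuation ring R.) -/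
theorem result (R : Type u) [CommRing R] [IsDomain R] [IsDiscreteValuationRing R] (n : ℕ) (hn : 1 ≤ n) (M : Type u) [AddCommGroup M] [Module (MultCrv.Rn R n) M] [Module R M] [IsScalarTower R (MultCrv.Rn R n) M] [Module.Finite (MultCrv.Rn R n) M] [Module.IsTorsionFree R M] (i : ℕ) (hi : 1 ≤ i) (hin : i ≤ n) : Module.Free R (MultCrv.G2 R n M i) := by
  haveI hfin : Module.Finite R ↥(MultCrv.filt2 R n M i) := finite_sub R n M _
  haveI hfinQ : Module.Finite R (MultCrv.G2 R n M i) :=
    Module.Finite.of_surjective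
      ((Submodule.mkQ (Submodule.comap (MultCrv.filt2 R n M i).subtype
        (MultCrv.filt2 R n M (i - 1)))).restrictScalars R)
      (Submodule.mkQ_surjective _)
  rw [Module.free_iff_isTorsionFree]
  refine ⟨fun r hr => ?_⟩
  have hr0 : r ≠ 0 := hr.ne_zero
  intro a b hab
  obtain ⟨u, rfl⟩ := Submodule.Quotient.mk_surjective _ a
  obtain ⟨v, rfl⟩ := Submodule.Quotient.mk_surjective _ b
  have hab' : (Submodule.Quotient.mk (r • u) : MultCrv.G2 R n M i) = Submodule.Quotient.mk (r • v) := hab
  rw [Submodule.Quotient.eq] at hab' ⊢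
  rw [Submodule.mem_comap] at hab' ⊢
  change MultCrv.z R n ^ (i - 1) • ((r • u - r • v : ↥(MultCrv.filt2 R n M i)) : M) = 0 at hab'
  change MultCrv.z R n ^ (i - 1) • ((u - v : ↥(MultCrv.filt2 R n M i)) : M) = 0
  have h1 : ((r • u - r • v : ↥(MultCrv.filt2 R n M i)) : M) = r • ((u - v : ↥(MultCrv.filt2 R n M i)) : M) := by
    rw [← smul_sub]; rfl
  rw [h1, smul_comm] at hab'
  exact (smul_eq_zero_iff_right hr0).mp hab'

end Groth.Agent.S17934
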