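import Groth.Statements.S17935
import Mathlib
import Groth.Agent.Lib.Helper9.MultCrvFrob2

set_option autoImplicit false
universe u
open MultCrv

namespace Groth.Agent.S17935

open Groth.Agent.Lib.Helper9.MultCrvFrob


/-- Let R be a discrete valuation ring, n ≥ 1, A = R[X]/(X^n), and M a finitely generated A-module. Then
M is reflexive over A (the evaluation map into the double A-dual is bijective) if and only if M is
torsion-free as an R-module. (Statement at a closed point of the sheaf statement on a primitive
multiple curve of multiplicity n, whose local rings are of the form R[X]/(X^n) with R the local ring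
of the reduced smooth curve, torsion-freeness of a coherent sheaf there meaning no nonzero subsheaf
with finite support; stated for every discrete valuation ring R.) -/
theorem result (R : Type u) [CommRing R] [IsDomain R] [IsDiscreteValuationRing R] (n : ℕ) (hn : 1 ≤ n) (M : Type u) [AddCommGroup M] [Module (MultCrv.Rn R n) M] [Module R M] [IsScalarTower R (MultCrv.Rn R n) M] [Module.Finite (MultCrv.Rn R n) M] : Module.IsReflexive (MultCrv.Rn R n) M ↔ Module.IsTorsionFree R M := by
  have hne : NeZero n := ⟨by omega⟩
  have hfinA : Module.Finite R (MultCrv.Rn R n) := finite_Rn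
  have hfin : Module.Finite R M := Module.Finite.trans (MultCrv.Rn R n) M
  constructor
  · intro hrefl
    have hinj := hrefl.bijective_dual_eval'.1
    refine ⟨fun r hr m₁ m₂ h12 => ?_⟩
    have h12' : r • m₁ = r • m₂ := h12
    apply hinj
    ext φ
    rw [Module.Dual.eval_apply, Module.Dual.eval_apply]
    have h1 : r • φ m₁ = r • φ m₂ := by
      have e1 : r • φ m₁ = φ (r • m₁) := by
        rw [← algebraMap_smul (Rn R n) r m₁, map_smul, algebraMap_smul]
      have e2 : r • φ m₂ = φ (r • m₂) := by
        rw [← algebraMap_smul (Rn R n) r m₂, map_smul, algebraMap_smul]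
      rw [e1, e2, h12']
    exact (torsionFree_Rn (R := R) (n := n)).isSMulRegular hr h1
  · intro htf
    have hreflR : Module.IsReflexive R M := inferInstance
    refine ⟨⟨?_, ?_⟩⟩
    · rw [injective_iff_map_eq_zero]
      intro m hm
      apply (Module.bijective_dual_eval R M).1
      rw [map_zero]
      ext ψ
      rw [Module.Dual.eval_apply, LinearMap.zero_apply]
      have h1 := LinearMap.congr_fun hm (ofR n ψ)
      rw [Module.Dual.eval_apply, LinearMap.zero_apply] at h1
      have h2 : ψ m = toR (ofR n ψ) m := by rw [toR_ofR]
      rw [h2, toR_apply, h1, map_zero]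
    · intro Φ
      let Ψ : Module.Dual R (Module.Dual R M) :=
        lam R n ∘ₗ (Φ.restrictScalars R) ∘ₗ ofRlin n M
      obtain ⟨m, hm⟩ := (Module.bijective_dual_eval R M).2 Ψ
      refine ⟨m, ?_⟩
      ext φ
      rw [Module.Dual.eval_apply, ← sub_eq_zero]
      apply eq_zero_of_lam
      intro a
      rw [mul_sub, map_sub, sub_eq_zero]
      have h1 := LinearMap.congr_fun hm (toR (a • φ))
      rw [Module.Dual.eval_apply] at h1
      have h2 : Ψ (toR (a • φ)) = lam R n (Φ (a • φ)) := by
        change lam R n (Φ (ofR n (toR (a • φ)))) = _
        rw [ofR_toR]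
      have h3 : Φ (a • φ) = a * Φ φ := by rw [map_smul, smul_eq_mul]
      rw [h2, toR_apply, LinearMap.smul_apply, h3, smul_eq_mul] at h1
      exact h1

end Groth.Agent.S17935
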