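import Groth.Statements.S17937
import Mathlib
import Groth.Agent.Lib.Helper9.MultCrvExt

set_option autoImplicit false
universe u
open MultCrv

namespace Groth.Agent.S17937

open Groth.Agent.Lib.Helper9.MultCrvFrob Groth.Agent.Lib.Helper9.MultCrvExt CategoryTheory CategoryTheory.Abelian

/-- if `Ext¹(M, Y) = 0` then homs from the kernel of a presentation extend -/
theorem exists_extension_of_ext_one {A : Type u} [CommRing A] {M : Type u} [AddCommGroup M]
    [Module A M] {r : ℕ} (p : (Fin r → A) →ₗ[A] M) (hp : Function.Surjective p)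
    (Y : Type u) [AddCommGroup Y] [Module A Y]
    (h : Subsingleton (Ext (ModuleCat.of A M) (ModuleCat.of A Y) 1))
    (φ : LinearMap.ker p →ₗ[A] Y) : ∃ Φ : (Fin r → A) →ₗ[A] Y, Φ ∘ₗ (LinearMap.ker p).subtype = φ := by
  have hS := LinearMap.shortExact_shortComplexKer hp
  obtain ⟨x₂, hx₂⟩ := Ext.contravariant_sequence_exact₁ hS (ModuleCat.of A Y)
    (Ext.mk₀ (ModuleCat.ofHom φ)) (n₁ := 1) rfl (Subsingleton.elim _ _)
  obtain ⟨ψ, rfl⟩ : ∃ ψ, Ext.mk₀ ψ = x₂ := ⟨Ext.homEquiv₀ x₂, Ext.mk₀_homEquiv₀_apply x₂⟩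
  rw [Ext.mk₀_comp_mk₀] at hx₂
  have h1 := Ext.homEquiv₀.symm.injective hx₂
  refine ⟨ψ.hom, ?_⟩
  ext m
  have h2 := congrArg (fun f => f.hom m) h1
  exact h2


open CategoryTheory in
/-- Let R be a discrete valuation ring, n ≥ 1, A = R[X]/(X^n), and M a finitely generated A-module with
Ext^1_A(M, A) = 0. Then M is torsion-free as an R-module. (Statement at a closed point of the sheaf
statement on a primitive multiple curve of multiplicity n, whose local rings are of the form
R[X]/(X^n) with R the local ring of the reduced smooth curve; stated for every discrete valuation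
ring R.) -/
theorem result (R : Type u) [CommRing R] [IsDomain R] [IsDiscreteValuationRing R] (n : ℕ) (hn : 1 ≤ n) (M : Type u) [AddCommGroup M] [Module (MultCrv.Rn R n) M] [Module R M] [IsScalarTower R (MultCrv.Rn R n) M] [Module.Finite (MultCrv.Rn R n) M] (h : Subsingleton (Abelian.Ext (ModuleCat.of (MultCrv.Rn R n) M) (ModuleCat.of (MultCrv.Rn R n) (MultCrv.Rn R n)) 1)) : Module.IsTorsionFree R M := by
  have hne : NeZero n := ⟨by omega⟩
  obtain ⟨r, p, hp⟩ := Module.Finite.exists_fin' (Rn R n) M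
  have hK1 := finite_ker (R := R) p
  have hK2 := torsionFree_ker (R := R) p
  have hP := torsionFree_pi (R := R) (n := n) r
  have hfinA : Module.Finite R (Rn R n) := finite_Rn
  have hKfin : Module.Finite R (LinearMap.ker p) := Module.Finite.trans (Rn R n) _
  have hKfree : Module.Free R (LinearMap.ker p) := inferInstance
  -- every R-form on K extends
  have hext : ∀ ψ' : LinearMap.ker p →ₗ[R] R, ∃ ψ : (Fin r → Rn R n) →ₗ[R] R,
      ∀ k : LinearMap.ker p, ψ k.1 = ψ' k := by
    intro ψ'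
    obtain ⟨Φ, hΦ⟩ := exists_extension_of_ext_one p hp (Rn R n) h (ofR n ψ')
    refine ⟨toR Φ, fun k => ?_⟩
    have h1 : toR (Φ ∘ₗ (LinearMap.ker p).subtype) = ψ' := by rw [hΦ, toR_ofR]
    exact LinearMap.congr_fun h1 k
  let b := Module.Free.chooseBasis R (LinearMap.ker p)
  choose c hc using fun i => hext (b.coord i)
  refine ⟨fun r₀ hr₀ m₁ m₂ h12 => ?_⟩
  have h12' : r₀ • m₁ = r₀ • m₂ := h12
  rw [← sub_eq_zero]
  obtain ⟨y, hy⟩ := hp (m₁ - m₂)
  have hyK : r₀ • y ∈ LinearMap.ker p := by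
    rw [LinearMap.mem_ker, ← algebraMap_smul (Rn R n) r₀ y, map_smul, hy, algebraMap_smul,
      smul_sub, h12', sub_self]
  have hrec : r₀ • y = r₀ • ((∑ i, c i y • b i : LinearMap.ker p) : Fin r → Rn R n) := by
    have h1 := b.sum_repr ⟨r₀ • y, hyK⟩
    have h2 := congrArg Subtype.val h1
    change _ = r₀ • y at h2
    rw [← h2]
    rw [← Submodule.coe_smul_of_tower, Finset.smul_sum]
    congr 1
    refine Finset.sum_congr rfl fun i _ => ?_
    have h3 : b.repr ⟨r₀ • y, hyK⟩ i = r₀ * c i y := by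
      have := hc i ⟨r₀ • y, hyK⟩
      rw [Module.Basis.coord_apply] at this
      rw [← this, map_smul, smul_eq_mul]
    rw [h3, mul_smul]
  have hy2 : y = ((∑ i, c i y • b i : LinearMap.ker p) : Fin r → Rn R n) :=
    hP.isSMulRegular hr₀ hrec
  have hyK' : y ∈ LinearMap.ker p := by
    rw [hy2]
    exact Submodule.coe_mem _
  rw [← hy]
  exact hyK'

end Groth.Agent.S17937
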