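import Groth.Statements.S17940
import Mathlib
import Groth.Agent.Lib.Helper9.MultCrvExt

set_option autoImplicit false
universe u
open MultCrv

namespace Groth.Agent.S17940

open Groth.Agent.Lib.Helper9.MultCrvFrob Groth.Agent.Lib.Helper9.MultCrvExt

section nil

variable {R : Type u} [CommRing R] {n : ℕ}

theorem mem_filt {N : Type u} [AddCommGroup N] [Module (Rn R n) N] (i : ℕ) (x : N) :
    x ∈ filt R n N i ↔ ∃ y : N, z R n ^ i • y = x := by
  unfold filt
  rw [LinearMap.mem_range]
  rfl

/-- an endomorphism with image in `zN` is nilpotent, so `1 + w` is bijective -/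
theorem bijective_of_sub_mem {N : Type u} [AddCommGroup N] [Module (Rn R n) N]
    (u : N →ₗ[Rn R n] N) (h : ∀ x, u x - x ∈ filt R n N 1) : Function.Bijective u := by
  let w : Module.End (Rn R n) N := u - 1
  have hw : ∀ k : ℕ, ∀ x, (w ^ k) x ∈ filt R n N k := by
    intro k
    induction k with
    | zero =>
      intro x
      rw [mem_filt]
      exact ⟨x, by rw [pow_zero, one_smul]; rfl⟩
    | succ k ih =>
      intro x
      obtain ⟨y, hy⟩ := (mem_filt k _).mp (ih x)
      obtain ⟨y', hy'⟩ := (mem_filt 1 _).mp (h y)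
      rw [mem_filt]
      refine ⟨y', ?_⟩
      have e1 : (w ^ (k + 1)) x = w ((w ^ k) x) := by
        rw [pow_succ', Module.End.mul_apply]
      rw [e1, ← hy, map_smul, pow_succ, mul_smul]
      congr 1
      rw [pow_one] at hy'
      rw [hy']
      rfl
  have hnil : IsNilpotent w := by
    refine ⟨n, ?_⟩
    ext x
    obtain ⟨y, hy⟩ := (mem_filt n _).mp (hw n x)
    rw [← hy, z_pow_n]
    exact zero_smul (Rn R n) y
  have h1 : IsUnit (1 + w) := hnil.isUnit_one_add
  have h2 : 1 + w = u := by
    change 1 + (u - 1) = u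
    abel
  rw [h2] at h1
  exact (Module.End.isUnit_iff _).mp h1

/-- two projective covers with kernels in `z·` are isomorphic -/
theorem exists_equiv_of_covers {F F' M' : Type u} [AddCommGroup F] [Module (Rn R n) F]
    [AddCommGroup F'] [Module (Rn R n) F'] [AddCommGroup M'] [Module (Rn R n) M']
    [Module.Projective (Rn R n) F] [Module.Projective (Rn R n) F']
    (ψ : F →ₗ[Rn R n] M') (std : F' →ₗ[Rn R n] M') (hψ : Function.Surjective ψ)
    (hstd : Function.Surjective std) (hkψ : ∀ f, ψ f = 0 → f ∈ filt R n F 1)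
    (hkstd : ∀ f, std f = 0 → f ∈ filt R n F' 1) :
    ∃ θ : F ≃ₗ[Rn R n] F', ∀ f, std (θ f) = ψ f := by
  obtain ⟨θ, hθ⟩ := Module.projective_lifting_property std ψ hstd
  obtain ⟨θ', hθ'⟩ := Module.projective_lifting_property ψ std hψ
  have h1 : Function.Bijective (θ' ∘ₗ θ) := by
    apply bijective_of_sub_mem
    intro x
    apply hkψ
    rw [map_sub, LinearMap.comp_apply, ← LinearMap.comp_apply ψ θ', hθ', ← LinearMap.comp_apply,
      hθ, sub_self]
  have h2 : Function.Bijective (θ ∘ₗ θ') := by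
    apply bijective_of_sub_mem
    intro x
    apply hkstd
    rw [map_sub, LinearMap.comp_apply, ← LinearMap.comp_apply std θ, hθ, ← LinearMap.comp_apply,
      hθ', sub_self]
  have hinj : Function.Injective θ := by
    have := h1.1
    rw [LinearMap.coe_comp] at this
    exact Function.Injective.of_comp this
  have hsurj : Function.Surjective θ := by
    have := h2.2
    rw [LinearMap.coe_comp] at this
    exact Function.Surjective.of_comp this
  refine ⟨LinearEquiv.ofBijective θ ⟨hinj, hsurj⟩, fun f => ?_⟩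
  exact LinearMap.congr_fun hθ f

end nil


section ideal

variable {R : Type u} [CommRing R] {n : ℕ} [NeZero n]

theorem ker_toSpanSingleton (j j' : ℕ) (hjj : j + j' = n) :
    LinearMap.ker (LinearMap.toSpanSingleton (Rn R n) (Rn R n) (z R n ^ j)) =
      Ideal.span {z R n ^ j'} := by
  apply le_antisymm
  · intro a ha
    rw [LinearMap.mem_ker, LinearMap.toSpanSingleton_apply, smul_eq_mul] at ha
    rw [reconstruct R n a]
    refine Submodule.sum_mem _ fun i hi => ?_
    have hi' := Finset.mem_range.mp hi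
    by_cases hij : j ≤ i
    · obtain ⟨k, rfl⟩ := Nat.exists_eq_add_of_le hij
      rw [pow_add, mul_comm (z R n ^ j), mul_assoc, mul_comm (z R n ^ j), ha, mul_zero, map_zero,
        zero_smul]
      exact Submodule.zero_mem _
    · apply Submodule.smul_of_tower_mem
      rw [Ideal.mem_span_singleton]
      exact pow_dvd_pow _ (by omega)
  · intro a ha
    obtain ⟨b, rfl⟩ := Ideal.mem_span_singleton'.mp ha
    rw [LinearMap.mem_ker, LinearMap.toSpanSingleton_apply, smul_eq_mul, mul_assoc, ← pow_add,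
      add_comm, hjj, z_pow_n, mul_zero]

theorem idealEquiv (j j' : ℕ) (hjj : j + j' = n) :
    Nonempty (↥(Ideal.span {z R n ^ j}) ≃ₗ[Rn R n] Oi R n j') := by
  let f := LinearMap.toSpanSingleton (Rn R n) (Rn R n) (z R n ^ j)
  have e1 : (Ideal.span {z R n ^ j} : Submodule (Rn R n) (Rn R n)) = LinearMap.range f :=
    LinearMap.span_singleton_eq_range (Rn R n) (Rn R n) (z R n ^ j)
  exact ⟨(LinearEquiv.ofEq _ _ e1).trans (f.quotKerEquivRange.symm.trans
    (Submodule.quotEquivOfEq _ _ (ker_toSpanSingleton j j' hjj)))⟩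

theorem subsingleton_span_top (j : ℕ) (hj : n ≤ j) : Subsingleton ↥(Ideal.span {z R n ^ j}) := by
  rw [z_pow_eq_zero R n hj]
  have : (Ideal.span {(0 : Rn R n)}) = ⊥ := by
    rw [Ideal.span_singleton_eq_bot]
  rw [this]
  infer_instance

theorem compEquiv (i i' : Fin n) (t t' : ℕ)
    (h : (i.1 + 1 + (i'.1 + 1) = n ∧ t = t') ∨ (n ≤ i.1 + 1 ∧ t' = 0)) :
    Nonempty ((Fin t → ↥(Ideal.span {z R n ^ (i.1 + 1)})) ≃ₗ[Rn R n]
      (Fin t' → Oi R n (i'.1 + 1))) := by
  rcases h with ⟨h1, rfl⟩ | ⟨h1, rfl⟩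
  · obtain ⟨e⟩ := idealEquiv (R := R) (i.1 + 1) (i'.1 + 1) h1
    exact ⟨LinearEquiv.piCongrRight fun _ => e⟩
  · have := subsingleton_span_top (R := R) (i.1 + 1) h1
    exact ⟨LinearEquiv.ofSubsingleton _ _⟩

/-- the index involution -/
def σ (n : ℕ) (i : Fin n) : Fin n :=
  if h : i.1 + 1 < n then ⟨n - 2 - i.1, by omega⟩ else i

theorem σ_invol (n : ℕ) : Function.Involutive (σ n) := by
  intro i
  unfold σ
  by_cases h : i.1 + 1 < n
  · rw [dif_pos h]
    have h' : n - 2 - i.1 + 1 < n := by omega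
    rw [dif_pos h']
    apply Fin.ext
    change n - 2 - (n - 2 - i.1) = i.1
    omega
  · rw [dif_neg h, dif_neg h]

theorem compEquiv' (m : Fin n → ℕ) (i' : Fin n) :
    Nonempty ((Fin (m (σ n i')) → ↥(Ideal.span {z R n ^ ((σ n i').1 + 1)})) ≃ₗ[Rn R n]
      (Fin (revType n m i') → Oi R n (i'.1 + 1))) := by
  apply compEquiv
  by_cases h : i'.1 + 1 < n
  · left
    have h1 : σ n i' = ⟨n - 2 - i'.1, by omega⟩ := dif_pos h
    have h2 : revType n m i' = m ⟨n - 2 - i'.1, by omega⟩ := dif_pos h
    rw [h1, h2]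
    refine ⟨?_, rfl⟩
    change n - 2 - i'.1 + 1 + (i'.1 + 1) = n
    omega
  · right
    have h1 : σ n i' = i' := dif_neg h
    have h2 : revType n m i' = 0 := dif_neg h
    rw [h1, h2]
    exact ⟨by omega, rfl⟩

/-- the product of the ideals is the reversed model -/
theorem prodEquiv (m : Fin n → ℕ) :
    Nonempty (((i : Fin n) → (Fin (m i) → ↥(Ideal.span {z R n ^ (i.1 + 1)}))) ≃ₗ[Rn R n]
      QFModel R n (revType n m)) := by
  let B : Fin n → Type u := fun i => (Fin (m i) → ↥(Ideal.span {z R n ^ (i.1 + 1)}))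
  let τ : Fin n ≃ Fin n := (σ_invol n).toPerm
  have e1 : ((i : Fin n) → B i) ≃ₗ[Rn R n] ((i' : Fin n) → B (τ i')) :=
    LinearEquiv.piCongrLeft' (Rn R n) B τ.symm
  have e2 : ((i' : Fin n) → B (τ i')) ≃ₗ[Rn R n]
      ((i' : Fin n) → (Fin (revType n m i') → Oi R n (i'.1 + 1))) :=
    LinearEquiv.piCongrRight fun i' => (compEquiv' m i').some
  exact ⟨e1.trans (e2.trans (QFModel.equivPi R n (revType n m)).symm)⟩

end ideal


section std

variable {R : Type u} [CommRing R] {n : ℕ}

/-- the standard presentation of the model -/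
noncomputable def std (m : Fin n → ℕ) : ((i : Fin n) → (Fin (m i) → Rn R n)) →ₗ[Rn R n]
    ((i : Fin n) → (Fin (m i) → Oi R n (i.1 + 1))) :=
  LinearMap.piMap fun i => LinearMap.piMap fun _ => Submodule.mkQ (Ideal.span {z R n ^ (i.1 + 1)})

theorem std_apply (m : Fin n → ℕ) (f : (i : Fin n) → (Fin (m i) → Rn R n)) (i : Fin n)
    (k : Fin (m i)) : std m f i k = Submodule.Quotient.mk (f i k) := rfl

theorem std_surjective (m : Fin n → ℕ) : Function.Surjective (std (R := R) m) := by
  intro g
  refine ⟨fun i k => (Submodule.Quotient.mk_surjective _ (g i k)).choose, ?_⟩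
  funext i k
  rw [std_apply]
  exact (Submodule.Quotient.mk_surjective _ (g i k)).choose_spec

theorem std_ker (m : Fin n → ℕ) (f : (i : Fin n) → (Fin (m i) → Rn R n)) :
    std m f = 0 ↔ ∀ i k, f i k ∈ Ideal.span {z R n ^ (i.1 + 1)} := by
  constructor
  · intro h i k
    have := congrFun (congrFun h i) k
    rw [std_apply] at this
    exact (Submodule.Quotient.mk_eq_zero _).mp this
  · intro h
    funext i k
    rw [std_apply]
    exact (Submodule.Quotient.mk_eq_zero _).mpr (h i k)

theorem std_ker_filt (m : Fin n → ℕ) (f : (i : Fin n) → (Fin (m i) → Rn R n))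
    (hf : std m f = 0) : f ∈ filt R n ((i : Fin n) → (Fin (m i) → Rn R n)) 1 := by
  rw [std_ker] at hf
  have h1 : ∀ i k, ∃ c, z R n * c = f i k := by
    intro i k
    obtain ⟨b, hb⟩ := Ideal.mem_span_singleton'.mp (hf i k)
    exact ⟨b * z R n ^ i.1, by rw [← hb, pow_succ]; ring⟩
  choose c hc using h1
  rw [mem_filt]
  refine ⟨c, ?_⟩
  funext i k
  rw [pow_one]
  exact hc i k

theorem kerEquiv (m : Fin n → ℕ) :
    Nonempty (↥(LinearMap.ker (std (R := R) m)) ≃ₗ[Rn R n]
      ((i : Fin n) → (Fin (m i) → ↥(Ideal.span {z R n ^ (i.1 + 1)})))) := by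
  refine ⟨{
    toFun := fun g i k => ⟨g.1 i k, (std_ker m g.1).mp g.2 i k⟩
    map_add' := fun g g' => rfl
    map_smul' := fun a g => rfl
    invFun := fun h => ⟨fun i k => (h i k).1, (std_ker m _).mpr fun i k => (h i k).2⟩
    left_inv := fun g => rfl
    right_inv := fun h => rfl }⟩

end std


/-- Let R be a discrete valuation ring, n ≥ 1, A = R[X]/(X^n) with z the class of X, and M an A-module
that is quasi-free of type (m_1, …, m_n), i.e. isomorphic to the direct sum of m_i copies of
A/(z^i). Let φ be a surjective A-linear map from a finitely generated free module A^r onto M that is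
bijective modulo z (the preimage of zM is zA^r). Then the kernel of φ is quasi-free of type
(m_{n-1}, m_{n-2}, …, m_1, 0). (Statement at a closed point of the sheaf statement on a primitive
multiple curve of multiplicity n with local rings R[X]/(X^n), for the kernel of a surjection from a
vector bundle onto a quasi locally free sheaf that is an isomorphism on the reduced curve; stated
for every discrete valuation ring R.) -/
theorem result (R : Type u) [CommRing R] [IsDomain R] [IsDiscreteValuationRing R] (n : ℕ) (hn : 1 ≤ n) (m : Fin n → ℕ) (M : Type u) [AddCommGroup M] [Module (MultCrv.Rn R n) M] (hM : MultCrv.IsQuasiFreeOfType R n M m) (r : ℕ) (φ : (Fin r → MultCrv.Rn R n) →ₗ[MultCrv.Rn R n] M) (hφ : Function.Surjective φ) (hφz : ∀ f : Fin r → MultCrv.Rn R n, φ f ∈ MultCrv.filt R n M 1 → f ∈ MultCrv.filt R n (Fin r → MultCrv.Rn R n) 1) : MultCrv.IsQuasiFreeOfType R n ↥(LinearMap.ker φ) (MultCrv.revType n m) := by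
  have hne : NeZero n := ⟨by omega⟩
  obtain ⟨e₀⟩ := hM
  let ψ : (Fin r → Rn R n) →ₗ[Rn R n] QFModel R n m := e₀.toLinearMap ∘ₗ φ
  let std' : ((i : Fin n) → (Fin (m i) → Rn R n)) →ₗ[Rn R n] QFModel R n m :=
    (QFModel.equivPi R n m).symm.toLinearMap ∘ₗ std (R := R) m
  have hstd'0 : ∀ f, std' f = 0 ↔ std (R := R) m f = 0 := fun f =>
    (QFModel.equivPi R n m).symm.map_eq_zero_iff
  have hψ : Function.Surjective ψ := e₀.surjective.comp hφ
  have hstd' : Function.Surjective std' :=
    (QFModel.equivPi R n m).symm.surjective.comp (std_surjective (R := R) m)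
  have hkψ : ∀ f, ψ f = 0 → f ∈ filt R n (Fin r → Rn R n) 1 := by
    intro f hf
    apply hφz
    have : φ f = 0 := by
      apply e₀.injective
      rw [map_zero]
      exact hf
    rw [this]
    exact Submodule.zero_mem _
  obtain ⟨θ, hθ⟩ := exists_equiv_of_covers (R := R) (n := n) ψ std' hψ hstd' hkψ
    (fun f hf => std_ker_filt (R := R) m f ((hstd'0 f).mp hf))
  have hmap : (LinearMap.ker φ).map (θ : (Fin r → Rn R n) →ₗ[Rn R n] _) =
      LinearMap.ker (std (R := R) m) := by
    ext f'
    rw [Submodule.mem_map, LinearMap.mem_ker]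
    constructor
    · rintro ⟨f, hf, rfl⟩
      rw [LinearMap.mem_ker] at hf
      change std m (θ f) = 0
      rw [← hstd'0, hθ]
      change e₀ (φ f) = 0
      rw [hf, map_zero]
    · intro hf'
      refine ⟨θ.symm f', ?_, by simp⟩
      rw [LinearMap.mem_ker]
      apply e₀.injective
      rw [map_zero]
      change ψ (θ.symm f') = 0
      rw [← hθ, LinearEquiv.apply_symm_apply, hstd'0, hf']
  have e1 : ↥(LinearMap.ker φ) ≃ₗ[Rn R n] ↥(LinearMap.ker (std (R := R) m)) :=
    θ.ofSubmodules _ _ hmap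
  obtain ⟨e2⟩ := kerEquiv (R := R) m
  obtain ⟨e3⟩ := prodEquiv (R := R) m
  exact ⟨e1.trans (e2.trans e3)⟩

end Groth.Agent.S17940
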