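import Groth.Statements.S17941
import Mathlib
import Groth.Agent.Lib.Helper9.MultCrvFrob

set_option autoImplicit false
universe u
open MultCrv

namespace Groth.Agent.S17941

/-- Let R be a discrete valuation ring, n ≥ 1, A = R[X]/(X^n), and 0 → M' → M → M'' → 0 a short exact
sequence of finitely generated A-modules with M and M'' torsion-free as R-modules (so M' is as
well). Then the A-dual sequence 0 → Hom_A(M'', A) → Hom_A(M, A) → Hom_A(M', A) → 0 is exact; the
content is that every A-linear form on M' extends to M, i.e. restriction of forms along M' → M is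
surjective. (Statement at a closed point of the sheaf statement on a primitive multiple curve of
multiplicity n, whose local rings are of the form R[X]/(X^n) with R the local ring of the reduced
smooth curve; stated for every discrete valuation ring R.) -/
theorem result (R : Type u) [CommRing R] [IsDomain R] [IsDiscreteValuationRing R] (n : ℕ) (hn : 1 ≤ n) (M' M M'' : Type u) [AddCommGroup M'] [Module (MultCrv.Rn R n) M'] [AddCommGroup M] [Module (MultCrv.Rn R n) M] [Module R M] [IsScalarTower R (MultCrv.Rn R n) M] [Module.Finite (MultCrv.Rn R n) M] [Module.IsTorsionFree R M] [AddCommGroup M''] [Module (MultCrv.Rn R n) M''] [Module R M''] [IsScalarTower R (MultCrv.Rn R n) M''] [Module.Finite (MultCrv.Rn R n) M''] [Module.IsTorsionFree R M''] (f : M' →ₗ[MultCrv.Rn R n] M) (g : M →ₗ[MultCrv.Rn R n] M'') (hf : Function.Injective f) (hg : Function.Surjective g) (hfg : LinearMap.range f = LinearMap.ker g) : Function.Surjective (f.dualMap : Module.Dual (MultCrv.Rn R n) M →ₗ[MultCrv.Rn R n] Module.Dual (MultCrv.Rn R n) M') := by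
  have hne : NeZero n := ⟨by omega⟩
  let inst1 : Module R M' := Module.compHom M' (algebraMap R (MultCrv.Rn R n))
  have hst : IsScalarTower R (MultCrv.Rn R n) M' :=
    ⟨fun r a x => by
      change (r • a) • x = (algebraMap R (MultCrv.Rn R n) r) • (a • x)
      have h1 : r • a = algebraMap R (MultCrv.Rn R n) r * a := Algebra.smul_def r a
      rw [h1, mul_smul]⟩
  have hfinA : Module.Finite R (MultCrv.Rn R n) := Groth.Agent.Lib.Helper9.MultCrvFrob.finite_Rn
  have hfin : Module.Finite R M'' := Module.Finite.trans (MultCrv.Rn R n) M''
  have hproj : Module.Projective R M'' := inferInstance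
  intro φ'
  obtain ⟨φ, hφ⟩ := Groth.Agent.Lib.Helper9.MultCrvFrob.dualMap_surjective f g hf hg hfg φ'
  exact ⟨φ, hφ⟩

end Groth.Agent.S17941
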