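import Groth.Statements.S17943
import Mathlib

set_option autoImplicit false
universe u
open MultCrv

namespace Groth.Agent.S17943

theorem z_pow_n (R : Type*) [CommRing R] (n : ℕ) : MultCrv.z R n ^ n = 0 := by
  change (Ideal.Quotient.mk (Ideal.span {(Polynomial.X : Polynomial R) ^ n}) Polynomial.X) ^ n = 0
  rw [← map_pow, Ideal.Quotient.eq_zero_iff_mem]
  exact Ideal.subset_span rfl

theorem finite_Rn (R : Type u) [CommRing R] (n : ℕ) : Module.Finite R (MultCrv.Rn R n) :=
  (Polynomial.monic_X_pow n).finite_adjoinRoot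

theorem finite_sub (R : Type u) [CommRing R] [IsNoetherianRing R] (n : ℕ)
    (M : Type u) [AddCommGroup M] [Module (MultCrv.Rn R n) M] [Module R M]
    [IsScalarTower R (MultCrv.Rn R n) M] [Module.Finite (MultCrv.Rn R n) M]
    (P : Submodule (MultCrv.Rn R n) M) : Module.Finite R P := by
  haveI := finite_Rn R n
  haveI : Module.Finite R M := Module.Finite.trans (MultCrv.Rn R n) M
  haveI : IsNoetherian R M := inferInstance
  have : Module.Finite R (P.restrictScalars R) := inferInstance
  let e : ↥(P.restrictScalars R) ≃ₗ[R] ↥P :=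
    { toFun := fun x => ⟨x.1, x.2⟩
      invFun := fun x => ⟨x.1, x.2⟩
      map_add' := fun _ _ => rfl
      map_smul' := fun _ _ => rfl
      left_inv := fun _ => rfl
      right_inv := fun _ => rfl }
  exact Module.Finite.equiv e

/-- the last nonzero `z`-multiple of a nonzero element. -/
theorem exists_last (R : Type u) [CommRing R] (n : ℕ)
    (M : Type u) [AddCommGroup M] [Module (MultCrv.Rn R n) M] (u : M) (hu : u ≠ 0) :
    ∃ j : ℕ, MultCrv.z R n ^ j • u ≠ 0 ∧ MultCrv.z R n • (MultCrv.z R n ^ j • u) = 0 := by
  classical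
  have hex : ∃ i : ℕ, MultCrv.z R n ^ i • u = 0 :=
    ⟨n, by rw [z_pow_n]; exact zero_smul (MultCrv.Rn R n) u⟩
  have hmin : ∀ {m : ℕ}, m < Nat.find hex → ¬ (MultCrv.z R n ^ m • u = 0) :=
    fun {m} hm => Nat.find_min hex hm
  have hspec := Nat.find_spec hex
  set i := Nat.find hex with hi
  have hi0 : i ≠ 0 := by
    intro h0
    rw [h0, pow_zero, one_smul] at hspec
    exact hu hspec
  obtain ⟨j, hj⟩ := Nat.exists_eq_succ_of_ne_zero hi0
  refine ⟨j, hmin (by omega), ?_⟩
  rw [smul_smul, ← pow_succ', ← Nat.succ_eq_add_one, ← hj]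
  exact hspec

theorem finrank_quot_add (R : Type u) [CommRing R] [IsDomain R] [IsNoetherianRing R] (n : ℕ)
    (M : Type u) [AddCommGroup M] [Module (MultCrv.Rn R n) M] [Module R M]
    [IsScalarTower R (MultCrv.Rn R n) M] [Module.Finite (MultCrv.Rn R n) M]
    (P Q : Submodule (MultCrv.Rn R n) M) (hQP : Q ≤ P) :
    Module.finrank R (↥P ⧸ Submodule.comap P.subtype Q) + Module.finrank R ↥Q =
      Module.finrank R ↥P := by
  haveI : Module.Finite R ↥P := finite_sub R n M P
  have h1 := Submodule.finrank_quotient (R := R) (Submodule.comap P.subtype Q)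
  have e : ↥(Submodule.comap P.subtype Q) ≃ₗ[R] ↥Q :=
    (Submodule.comapSubtypeEquivOfLe hQP).restrictScalars R
  have h2 : Module.finrank R ↥(Submodule.comap P.subtype Q) ≤ Module.finrank R ↥P := by
    have := Submodule.finrank_le ((Submodule.comap P.subtype Q).restrictScalars R)
    exact this
  rw [h1, ← e.finrank_eq]
  omega

theorem finrank_filt_add (R : Type u) [CommRing R] [IsDomain R] [IsNoetherianRing R] (n : ℕ)
    (M : Type u) [AddCommGroup M] [Module (MultCrv.Rn R n) M] [Module R M]
    [IsScalarTower R (MultCrv.Rn R n) M] [Module.Finite (MultCrv.Rn R n) M] (j : ℕ) :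
    Module.finrank R ↥(MultCrv.filt R n M j) + Module.finrank R ↥(MultCrv.filt2 R n M j) =
      Module.finrank R M := by
  haveI := finite_Rn R n
  haveI : Module.Finite R M := Module.Finite.trans (MultCrv.Rn R n) M
  let f : M →ₗ[MultCrv.Rn R n] M := (MultCrv.z R n ^ j) • (LinearMap.id : M →ₗ[MultCrv.Rn R n] M)
  have hker : LinearMap.ker f = MultCrv.filt2 R n M j := by
    ext x
    simp [f, MultCrv.filt2, Submodule.mem_torsionBy_iff]
  have h1 := Submodule.finrank_quotient (R := R) (LinearMap.ker f)
  have e : (M ⧸ LinearMap.ker f) ≃ₗ[R] ↥(LinearMap.range f) :=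
    f.quotKerEquivRange.restrictScalars R
  have h2 : Module.finrank R ↥(LinearMap.ker f) ≤ Module.finrank R M := by
    have := Submodule.finrank_le ((LinearMap.ker f).restrictScalars R)
    exact this
  rw [e.finrank_eq] at h1
  change Module.finrank R ↥(LinearMap.range f) + _ = _
  rw [h1, ← hker]
  omega


/-- Let R be a discrete valuation ring, n ≥ 1, A = R[X]/(X^n) with z the class of X, and M a finitely
generated A-module. For 0 ≤ i < n the R-modules G^(i+1)(M) = M^(i+1)/M^(i) (M^(j) the elements
killed by z^j) and G_i(M) = z^i M/z^(i+1) M have the same rank over R. (Statement at a closed point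
of the sheaf statement on a primitive multiple curve of multiplicity n with local rings R[X]/(X^n),
where the rank of a coherent sheaf on the reduced smooth curve is its generic rank, here the rank
over R of the stalk; the equality of degrees that the published statement gives together with this
rank equality is a statement on the global curve and is not part of this row; stated for every
discrete valuation ring R.) -/
theorem result (R : Type u) [CommRing R] [IsDomain R] [IsDiscreteValuationRing R] (n : ℕ) (hn : 1 ≤ n) (M : Type u) [AddCommGroup M] [Module (MultCrv.Rn R n) M] [Module R M] [IsScalarTower R (MultCrv.Rn R n) M] [Module.Finite (MultCrv.Rn R n) M] (i : ℕ) (hi : i < n) : Module.finrank R (MultCrv.G2 R n M (i + 1)) = Module.finrank R (MultCrv.G1 R n M i) := by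
  have hmono : MultCrv.filt2 R n M i ≤ MultCrv.filt2 R n M (i + 1) := by
    intro x hx
    change MultCrv.z R n ^ i • x = 0 at hx
    change MultCrv.z R n ^ (i + 1) • x = 0
    rw [pow_succ', mul_smul, hx, smul_zero]
  have hmono' : MultCrv.filt R n M (i + 1) ≤ MultCrv.filt R n M i := by
    rintro x ⟨y, rfl⟩
    refine ⟨MultCrv.z R n • y, ?_⟩
    change MultCrv.z R n ^ i • (MultCrv.z R n • y) = MultCrv.z R n ^ (i + 1) • y
    rw [pow_succ, mul_smul]
  have h1 : Module.finrank R (MultCrv.G2 R n M (i + 1)) + Module.finrank R ↥(MultCrv.filt2 R n M i) =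
      Module.finrank R ↥(MultCrv.filt2 R n M (i + 1)) :=
    finrank_quot_add R n M (MultCrv.filt2 R n M (i + 1)) (MultCrv.filt2 R n M i) hmono
  have h2 : Module.finrank R (MultCrv.G1 R n M i) + Module.finrank R ↥(MultCrv.filt R n M (i + 1)) =
      Module.finrank R ↥(MultCrv.filt R n M i) :=
    finrank_quot_add R n M (MultCrv.filt R n M i) (MultCrv.filt R n M (i + 1)) hmono'
  have h3 := finrank_filt_add R n M i
  have h4 := finrank_filt_add R n M (i + 1)
  omega

end Groth.Agent.S17943
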