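import Groth.Statements.S17944
import Mathlib
import Groth.Agent.Lib.Helper9.MultCrvExt

set_option autoImplicit false
universe u
open MultCrv

namespace Groth.Agent.S17944

open Groth.Agent.Lib.Helper9.MultCrvFrob Groth.Agent.Lib.Helper9.MultCrvExt

section quot

variable {R : Type u} [CommRing R] {A : Type u} [CommRing A] [Algebra R A]
  {P : Type u} [AddCommGroup P] [Module A P] [Module R P] [IsScalarTower R A P]

/-- torsion-freeness of a quotient, elementwise -/
theorem quot_torsionFree_iff (Q : Submodule A P) :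
    Module.IsTorsionFree R (P ⧸ Q) ↔ ∀ r : R, IsRegular r → ∀ x : P, r • x ∈ Q → x ∈ Q := by
  constructor
  · intro h r hr x hx
    have h1 : r • (Submodule.Quotient.mk x : P ⧸ Q) = r • (0 : P ⧸ Q) := by
      rw [smul_zero, ← Submodule.Quotient.mk_smul, Submodule.Quotient.mk_eq_zero]
      exact hx
    have h2 := h.isSMulRegular hr h1
    exact (Submodule.Quotient.mk_eq_zero Q).mp h2
  · intro h
    refine ⟨fun r hr a b hab => ?_⟩
    obtain ⟨x, rfl⟩ := Submodule.Quotient.mk_surjective Q a
    obtain ⟨y, rfl⟩ := Submodule.Quotient.mk_surjective Q b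
    have hab' : r • (Submodule.Quotient.mk x : P ⧸ Q) = r • Submodule.Quotient.mk y := hab
    rw [← Submodule.Quotient.mk_smul, ← Submodule.Quotient.mk_smul, Submodule.Quotient.eq,
      ← smul_sub] at hab'
    rw [Submodule.Quotient.eq]
    exact h r hr _ hab'

end quot


section core

variable {R : Type u} [CommRing R] {n : ℕ}
  {M : Type u} [AddCommGroup M] [Module (Rn R n) M] [Module R M] [IsScalarTower R (Rn R n) M]

theorem mem_filt (i : ℕ) (x : M) : x ∈ filt R n M i ↔ ∃ y : M, z R n ^ i • y = x := by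
  unfold filt
  rw [LinearMap.mem_range]
  rfl

theorem mem_filt2 (i : ℕ) (x : M) : x ∈ filt2 R n M i ↔ z R n ^ i • x = 0 := by
  unfold filt2
  rw [Submodule.mem_torsionBy_iff]

/-- the condition on the first filtration -/
def CondG (R : Type u) [CommRing R] (n : ℕ) (M : Type u) [AddCommGroup M] [Module (Rn R n) M]
    [Module R M] : Prop :=
  ∀ i : ℕ, i < n → ∀ r : R, IsRegular r → ∀ x : M, x ∈ filt R n M i → r • x ∈ filt R n M (i + 1) →
    x ∈ filt R n M (i + 1)

/-- the condition on the second filtration -/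
def CondΓ (R : Type u) [CommRing R] (n : ℕ) (M : Type u) [AddCommGroup M] [Module (Rn R n) M]
    [Module R M] : Prop :=
  ∀ i : ℕ, i < n → ∀ r : R, IsRegular r → ∀ x : M, x ∈ filt2 R n M (i + 1) →
    (∃ v : M, v ∈ filt2 R n M (i + 2) ∧ r • x - z R n • v ∈ filt2 R n M i) →
    (∃ v : M, v ∈ filt2 R n M (i + 2) ∧ x - z R n • v ∈ filt2 R n M i)

theorem filt_top (j : ℕ) (hj : n ≤ j) (x : M) (hx : x ∈ filt R n M j) : x = 0 := by
  obtain ⟨y, rfl⟩ := (mem_filt (R := R) j x).mp hx
  rw [z_pow_eq_zero R n hj]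
  exact zero_smul (Rn R n) y

theorem filt2_top (j : ℕ) (hj : n ≤ j) (x : M) : x ∈ filt2 R n M j := by
  rw [mem_filt2 (R := R), z_pow_eq_zero R n hj]
  exact zero_smul (Rn R n) x

theorem smul_comm' (r : R) (a : Rn R n) (x : M) : r • a • x = a • r • x := smul_comm r a x

/-- `CondG` implies saturation of all `z^j M` -/
theorem condG_sat (h : CondG R n M) : ∀ j : ℕ, ∀ r : R, IsRegular r → ∀ x : M,
    r • x ∈ filt R n M j → x ∈ filt R n M j := by
  intro j
  induction j with
  | zero =>
    intro r _ x _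
    rw [mem_filt]
    exact ⟨x, by rw [pow_zero, one_smul]⟩
  | succ j ih =>
    intro r hr x hx
    have h1 : r • x ∈ filt R n M j := by
      obtain ⟨y, hy⟩ := (mem_filt (j + 1) _).mp hx
      rw [mem_filt]
      exact ⟨z R n • y, by rw [smul_smul, ← pow_succ, hy]⟩
    have h2 := ih r hr x h1
    by_cases hjn : j < n
    · exact h j hjn r hr x h2 hx
    · have : x = 0 := filt_top j (by omega) x h2
      rw [this]
      exact Submodule.zero_mem _

theorem condG_to_condΓ (h : CondG R n M) : CondΓ R n M := by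
  intro i _ r hr x hx ⟨v, hv, hxv⟩
  rw [mem_filt2] at hx hv hxv
  -- r • z^i x = z^(i+1) v
  have h1 : r • (z R n ^ i • x) = z R n ^ (i + 1) • v := by
    rw [smul_sub, smul_smul, ← pow_succ, sub_eq_zero] at hxv
    rw [← hxv, smul_comm']
  have h2 : z R n ^ i • x ∈ filt R n M (i + 1) := by
    apply condG_sat h (i + 1) r hr
    rw [h1, mem_filt]
    exact ⟨v, rfl⟩
  obtain ⟨w, hw⟩ := (mem_filt (i + 1) _).mp h2
  refine ⟨w, ?_, ?_⟩
  · rw [mem_filt2, pow_succ', mul_smul, hw, smul_smul, ← pow_succ', hx]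
  · rw [mem_filt2, smul_sub, smul_smul, ← pow_succ, hw, sub_self]

theorem filt2_mono {i j : ℕ} (hij : i ≤ j) (x : M) (hx : x ∈ filt2 R n M i) :
    x ∈ filt2 R n M j := by
  rw [mem_filt2] at hx ⊢
  obtain ⟨k, rfl⟩ := Nat.exists_eq_add_of_le hij
  rw [pow_add, mul_comm, mul_smul, hx, smul_zero]

/-- `CondΓ` implies saturation of all `M^(j)` -/
theorem condΓ_sat2 (h : CondΓ R n M) : ∀ k j : ℕ, n ≤ j + k → ∀ r : R, IsRegular r → ∀ x : M,
    r • x ∈ filt2 R n M j → x ∈ filt2 R n M j := by
  intro k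
  induction k with
  | zero =>
    intro j hj r _ x _
    exact filt2_top j (by omega) x
  | succ k ih =>
    intro j hj r hr x hx
    by_cases hjn : n ≤ j
    · exact filt2_top j hjn x
    have hQ := ih (j + 1) (by omega)
    have hx1 : x ∈ filt2 R n M (j + 1) := hQ r hr x (filt2_mono (Nat.le_succ j) _ hx)
    obtain ⟨v, hv, hxv⟩ := h j (by omega) r hr x hx1 ⟨0, Submodule.zero_mem _, by
      rw [smul_zero, sub_zero]; exact hx⟩
    rw [mem_filt2] at hx hv hxv ⊢
    rw [smul_sub, smul_smul, ← pow_succ, sub_eq_zero] at hxv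
    have h1 : r • v ∈ filt2 R n M (j + 1) := by
      rw [mem_filt2, ← smul_comm', ← hxv, smul_comm', hx]
    have h2 := hQ r hr v h1
    rw [mem_filt2] at h2
    rw [hxv, h2]

/-- `CondΓ` implies saturation of `zM + M^(t)` -/
theorem condΓ_satC (h : CondΓ R n M) (t : ℕ) : ∀ s : ℕ, ∀ r : R, IsRegular r → ∀ a : M,
    a ∈ filt2 R n M s → (∃ y : M, r • a - z R n • y ∈ filt2 R n M t) →
    ∃ y' : M, a - z R n • y' ∈ filt2 R n M t := by
  intro s
  induction s with
  | zero =>
    intro r _ a ha _
    rw [mem_filt2, pow_zero, one_smul] at ha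
    exact ⟨0, by rw [ha, smul_zero, sub_zero]; exact Submodule.zero_mem _⟩
  | succ s ih =>
    intro r hr a ha ⟨y, hy⟩
    by_cases hst : s + 1 ≤ t
    · exact ⟨0, by rw [smul_zero, sub_zero]; exact filt2_mono hst a ha⟩
    have hts : t ≤ s := by omega
    by_cases hsn : n ≤ s
    · exact ih r hr a (filt2_top s hsn a) ⟨y, hy⟩
    have hy2 : y ∈ filt2 R n M (s + 2) := by
      have h1 := filt2_mono (show t ≤ s + 1 by omega) _ hy
      rw [mem_filt2] at h1 ha ⊢
      rw [smul_sub, ← smul_comm', ha, smul_zero, zero_sub, neg_eq_zero, smul_smul, ← pow_succ] at h1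
      exact h1
    obtain ⟨b, hb, hab⟩ := h s (by omega) r hr a ha ⟨y, hy2, filt2_mono hts _ hy⟩
    obtain ⟨y'', hy''⟩ := ih r hr (a - z R n • b) hab ⟨y - r • b, by
      have : r • (a - z R n • b) - z R n • (y - r • b) = r • a - z R n • y := by
        rw [smul_sub, smul_sub, smul_comm' r (z R n) b]
        abel
      rw [this]
      exact hy⟩
    refine ⟨b + y'', ?_⟩
    have : a - z R n • (b + y'') = a - z R n • b - z R n • y'' := by
      rw [smul_add]; abel
    rw [this]
    exact hy''

theorem condΓ_sat (h : CondΓ R n M) : ∀ j : ℕ, ∀ r : R, IsRegular r → ∀ x : M,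
    r • x ∈ filt R n M j → x ∈ filt R n M j := by
  intro j
  induction j with
  | zero =>
    intro r _ x _
    rw [mem_filt]
    exact ⟨x, by rw [pow_zero, one_smul]⟩
  | succ j ih =>
    intro r hr x hx
    obtain ⟨y, hy⟩ := (mem_filt (j + 1) _).mp hx
    have h1 : r • x ∈ filt R n M j := by
      rw [mem_filt]
      exact ⟨z R n • y, by rw [smul_smul, ← pow_succ, hy]⟩
    obtain ⟨w, rfl⟩ := (mem_filt j _).mp (ih r hr x h1)
    have h2 : r • w - z R n • y ∈ filt2 R n M j := by
      rw [mem_filt2, smul_sub, smul_smul, ← pow_succ, hy, smul_comm', sub_self]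
    obtain ⟨y', hy'⟩ := condΓ_satC h j n r hr w (filt2_top n le_rfl w) ⟨y, h2⟩
    rw [mem_filt2, smul_sub, smul_smul, ← pow_succ, sub_eq_zero] at hy'
    rw [mem_filt]
    exact ⟨y', hy'.symm⟩

theorem condΓ_to_condG (h : CondΓ R n M) : CondG R n M := by
  intro i _ r hr x _ hx
  exact condΓ_sat h (i + 1) r hr x hx

end core


section translate

variable {R : Type u} [CommRing R] [IsDomain R] [IsPrincipalIdealRing R] {n : ℕ} [NeZero n]

theorem free_quot_iff {P : Type u} [AddCommGroup P] [Module (Rn R n) P] [Module R P]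
    [IsScalarTower R (Rn R n) P] [Module.Finite (Rn R n) P] (Q : Submodule (Rn R n) P) :
    Module.Free R (P ⧸ Q) ↔ ∀ r : R, IsRegular r → ∀ x : P, r • x ∈ Q → x ∈ Q := by
  rw [← quot_torsionFree_iff]
  have hfinA : Module.Finite R (Rn R n) := finite_Rn
  have hfin : Module.Finite R (P ⧸ Q) := Module.Finite.trans (Rn R n) _
  constructor
  · intro h
    infer_instance
  · intro h
    infer_instance

variable {M : Type u} [AddCommGroup M] [Module (Rn R n) M] [Module R M]
  [IsScalarTower R (Rn R n) M] [Module.Finite (Rn R n) M]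

theorem free_G1_iff (i : ℕ) : Module.Free R (G1 R n M i) ↔
    ∀ r : R, IsRegular r → ∀ x : M, x ∈ filt R n M i → r • x ∈ filt R n M (i + 1) →
      x ∈ filt R n M (i + 1) := by
  have := isNoetherianRing_Rn (R := R) (n := n)
  rw [free_quot_iff]
  constructor
  · intro h r hr x hx hrx
    exact h r hr ⟨x, hx⟩ hrx
  · intro h r hr x hrx
    exact h r hr x.1 x.2 hrx

theorem mem_range_lamG2 (i : ℕ) (x : ↥(filt2 R n M (i + 1))) :
    (Submodule.Quotient.mk x : G2 R n M (i + 1)) ∈ LinearMap.range (lamG2 R n M i) ↔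
      ∃ v : M, v ∈ filt2 R n M (i + 2) ∧ x.1 - z R n • v ∈ filt2 R n M i := by
  constructor
  · rintro ⟨ξ, hξ⟩
    obtain ⟨v, rfl⟩ := Submodule.Quotient.mk_surjective _ ξ
    have h1 : lamG2 R n M i (Submodule.Quotient.mk v) =
        Submodule.Quotient.mk (zDown R n M (i + 1) v) := rfl
    rw [h1, Submodule.Quotient.eq, Submodule.mem_comap] at hξ
    refine ⟨v.1, v.2, ?_⟩
    have h2 : ((zDown R n M (i + 1) v - x : ↥(filt2 R n M (i + 1))) : M) = z R n • v.1 - x.1 := rfl
    change ((zDown R n M (i + 1) v - x : ↥(filt2 R n M (i + 1))) : M) ∈ filt2 R n M i at hξ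
    rw [h2] at hξ
    rw [← neg_sub]
    exact Submodule.neg_mem _ hξ
  · rintro ⟨v, hv, hxv⟩
    refine ⟨Submodule.Quotient.mk ⟨v, hv⟩, ?_⟩
    have h1 : lamG2 R n M i (Submodule.Quotient.mk ⟨v, hv⟩) =
        Submodule.Quotient.mk (zDown R n M (i + 1) ⟨v, hv⟩) := rfl
    rw [h1, Submodule.Quotient.eq, Submodule.mem_comap]
    change ((zDown R n M (i + 1) ⟨v, hv⟩ - x : ↥(filt2 R n M (i + 1))) : M) ∈ filt2 R n M i
    have h2 : ((zDown R n M (i + 1) ⟨v, hv⟩ - x : ↥(filt2 R n M (i + 1))) : M) =
        z R n • v - x.1 := rfl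
    rw [h2, ← neg_sub]
    exact Submodule.neg_mem _ hxv

theorem free_Gam2_iff (i : ℕ) : Module.Free R (Gam2 R n M i) ↔
    ∀ r : R, IsRegular r → ∀ x : M, x ∈ filt2 R n M (i + 1) →
    (∃ v : M, v ∈ filt2 R n M (i + 2) ∧ r • x - z R n • v ∈ filt2 R n M i) →
    (∃ v : M, v ∈ filt2 R n M (i + 2) ∧ x - z R n • v ∈ filt2 R n M i) := by
  have := isNoetherianRing_Rn (R := R) (n := n)
  rw [free_quot_iff]
  constructor
  · intro h r hr x hx hrx
    have h1 := h r hr (Submodule.Quotient.mk ⟨x, hx⟩) (by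
      have : r • (Submodule.Quotient.mk (⟨x, hx⟩ : ↥(filt2 R n M (i + 1))) : G2 R n M (i + 1)) =
        Submodule.Quotient.mk (r • (⟨x, hx⟩ : ↥(filt2 R n M (i + 1)))) := rfl
      rw [this, mem_range_lamG2]
      exact hrx)
    rw [mem_range_lamG2] at h1
    exact h1
  · intro h r hr ξ hξ
    obtain ⟨x, rfl⟩ := Submodule.Quotient.mk_surjective _ ξ
    have : r • (Submodule.Quotient.mk x : G2 R n M (i + 1)) =
        Submodule.Quotient.mk (r • x) := rfl
    rw [this, mem_range_lamG2] at hξ
    rw [mem_range_lamG2]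
    exact h r hr x.1 x.2 hξ

end translate


/-- Let R be a discrete valuation ring, n ≥ 1, A = R[X]/(X^n) with z the class of X, and M a finitely
generated A-module. Then the graded pieces G_i(M) = z^i M/z^(i+1) M are free R-modules for all 0 ≤ i
< n if and only if the modules Γ^(i)(M) are free R-modules for all 0 ≤ i < n, where Γ^(i)(M) is the
cokernel of the map M^(i+2)/M^(i+1) → M^(i+1)/M^(i) induced by multiplication by z (M^(j) the
elements killed by z^j). (Statement at a closed point P of the sheaf statement on a primitive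
multiple curve of multiplicity n, whose local rings are R[X]/(X^n) with R the local ring of the
reduced smooth curve: the published conditions are local freeness on the reduced curve of the
corresponding sheaves, read here at P; the published statement also asserts that these conditions
are equivalent to the stalk being quasi-free, i.e. isomorphic to a direct sum of modules A/(z^j),
which is not part of this row; stated for every discrete valuation ring R.) -/
theorem result (R : Type u) [CommRing R] [IsDomain R] [IsDiscreteValuationRing R] (n : ℕ) (hn : 1 ≤ n) (M : Type u) [AddCommGroup M] [Module (MultCrv.Rn R n) M] [Module R M] [IsScalarTower R (MultCrv.Rn R n) M] [Module.Finite (MultCrv.Rn R n) M] : (∀ i : ℕ, i < n → Module.Free R (MultCrv.G1 R n M i)) ↔ (∀ i : ℕ, i < n → Module.Free R (MultCrv.Gam2 R n M i)) := by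
  have hne : NeZero n := ⟨by omega⟩
  have hG : (∀ i : ℕ, i < n → Module.Free R (MultCrv.G1 R n M i)) ↔ CondG R n M := by
    constructor
    · intro h i hi
      exact (free_G1_iff i).mp (h i hi)
    · intro h i hi
      exact (free_G1_iff i).mpr (h i hi)
  have hΓ : (∀ i : ℕ, i < n → Module.Free R (MultCrv.Gam2 R n M i)) ↔ CondΓ R n M := by
    constructor
    · intro h i hi
      exact (free_Gam2_iff i).mp (h i hi)
    · intro h i hi
      exact (free_Gam2_iff i).mpr (h i hi)
  rw [hG, hΓ]
  exact ⟨condG_to_condΓ, condΓ_to_condG⟩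

end Groth.Agent.S17944
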