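import Groth.Statements.S17946
import Mathlib

set_option autoImplicit false
universe u
open MultCrv

namespace Groth.Agent.S17946

theorem z_pow_n (R : Type*) [CommRing R] (n : ℕ) : MultCrv.z R n ^ n = 0 := by
  change (Ideal.Quotient.mk (Ideal.span {(Polynomial.X : Polynomial R) ^ n}) Polynomial.X) ^ n = 0
  rw [← map_pow, Ideal.Quotient.eq_zero_iff_mem]
  exact Ideal.subset_span rfl


/-- Let R be a discrete valuation ring, n ≥ 1, A = R[X]/(X^n) with z the class of X, and φ : M → N an
A-linear map of finitely generated A-modules. Then φ is injective if and only if its restriction to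
the submodule M^(1) of elements killed by z is injective. The induced maps M^(i)/M^(i-1) →
N^(i)/N^(i-1), 1 ≤ i < n, with M^(j) the elements killed by z^j, are then injective as well; that
immediate consequence, which the published statement includes, is not part of this row. (Statement
at a closed point of the sheaf statement on a primitive multiple curve of multiplicity n with local
rings R[X]/(X^n); stated for every discrete valuation ring R.) -/
theorem result (R : Type u) [CommRing R] [IsDomain R] [IsDiscreteValuationRing R] (n : ℕ) (hn : 1 ≤ n) (M N : Type u) [AddCommGroup M] [Module (MultCrv.Rn R n) M] [Module.Finite (MultCrv.Rn R n) M] [AddCommGroup N] [Module (MultCrv.Rn R n) N] [Module.Finite (MultCrv.Rn R n) N] (φ : M →ₗ[MultCrv.Rn R n] N) : Function.Injective φ ↔ ∀ u : M, u ∈ MultCrv.filt2 R n M 1 → φ u = 0 → u = 0 := by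
  classical
  constructor
  · intro h u _ hu
    exact h (by rw [hu, map_zero])
  · intro h
    rw [injective_iff_map_eq_zero]
    intro u hu
    by_contra hne
    have hex : ∃ i : ℕ, MultCrv.z R n ^ i • u = 0 := ⟨n, by rw [z_pow_n]; exact zero_smul (MultCrv.Rn R n) u⟩
    have hmin : ∀ {m : ℕ}, m < Nat.find hex → ¬ (MultCrv.z R n ^ m • u = 0) := fun {m} hm => Nat.find_min hex hm
    have hspec := Nat.find_spec hex
    set i := Nat.find hex with hi
    have hi0 : i ≠ 0 := by
      intro h0
      rw [h0, pow_zero, one_smul] at hspec
      exact hne hspec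
    obtain ⟨j, hj⟩ := Nat.exists_eq_succ_of_ne_zero hi0
    have hlt : j < i := by omega
    have hnz : MultCrv.z R n ^ j • u ≠ 0 := hmin hlt
    apply hnz
    apply h
    · change MultCrv.z R n ^ 1 • (MultCrv.z R n ^ j • u) = 0
      rw [smul_smul, ← pow_add, add_comm, ← Nat.succ_eq_add_one, ← hj]
      exact hspec
    · rw [map_smul, hu, smul_zero]

end Groth.Agent.S17946
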