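import Groth.Statements.S1795
import Groth.Agent.Lib.Helper13.RelDual2

set_option autoImplicit false
universe u
open CategoryTheory
open scoped TensorProduct
attribute [local instance] HasDerivedCategory.standard
open Dual2

namespace Groth.Agent.S1795

/-- Let R → A be a ring map between Noetherian rings which is flat and of finite type, with φ^! formed
from a presentation ψ : R[x_1, …, x_n] → A as RHom_P(A, (−) ⊗^L_R P)[n] (derived base change under
its existence hypothesis, RHom_P(A, −) a right adjoint of restriction). Then ω_{A/R} = φ^!(R) is a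
relative dualizing complex: it is R-perfect and RHom_{A ⊗_R A}(A, ω_{A/R} ⊗^L_A (A ⊗_R A)) ≅ A (with
the same conventions for these functors). -/
theorem result (R A : Type u) [CommRing R] [CommRing A] [IsNoetherianRing R] [IsNoetherianRing A] [Algebra R A] [Module.Flat R A] [Algebra.FinitePresentation R A] (n : ℕ) (ψ : MvPolynomial (Fin n) R →ₐ[R] A) (hψ : Function.Surjective ψ) [DRing.HasLBaseChange (algebraMap R (MvPolynomial (Fin n) R))] (Rψ : Dual.D (MvPolynomial (Fin n) R) ⥤ Dual.D A) (adj : DRing.restrictD ψ.toRingHom ⊣ Rψ) [DRing.HasLBaseChange (Algebra.TensorProduct.includeLeftRingHom : A →+* TensorProduct R A A)] (Rμ : Dual.D (TensorProduct R A A) ⥤ Dual.D A) (adjμ : DRing.restrictD (Algebra.TensorProduct.lmul' R (S := A)).toRingHom ⊣ Rμ) : Dual2.IsRelDualizing R A Rμ (Dual2.shriekVia n Rψ (Dual.inD R R)) := by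
  open Groth.Agent.Lib.Helper13.Shriek Groth.Agent.Lib.Helper13.Coind Groth.Agent.Lib.Helper13.RelDual in
  obtain ⟨i⟩ := nonempty_Rmu_Sh_iso R A n ψ hψ
  open Groth.Agent.Lib.Helper13.Shriek Groth.Agent.Lib.Helper13.Coind in
  let e1 : Rψ ≅ Rco ψ.toRingHom := uniq ψ.toRingHom Rψ adj
  open Groth.Agent.Lib.Helper13.Shriek Groth.Agent.Lib.Helper13.Coind in
  let eμ : Rμ ≅ Rco (Algebra.TensorProduct.lmul' R (S := A)).toRingHom :=
    uniq (Algebra.TensorProduct.lmul' R (S := A)).toRingHom Rμ adjμ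
  let j1 : Dual2.shriekVia n Rψ (Dual.inD R R) ≅
      Groth.Agent.Lib.Helper13.Shriek.Sh (algebraMap R (MvPolynomial (Fin n) R)) ψ.toRingHom n
        (Dual.inD R R) :=
    (CategoryTheory.shiftFunctor (Dual.D A) (n : ℤ)).mapIso (e1.app _)
  refine ⟨Groth.Agent.Lib.Helper13.DV.isRelPerfect_of_iso R A j1.symm
    (Groth.Agent.Lib.Helper13.RelDual.isRelPerfect_Sh R A n ψ hψ), ⟨eμ.app _ ≪≫
    (Groth.Agent.Lib.Helper13.Coind.Rco (Algebra.TensorProduct.lmul' R (S := A)).toRingHom).mapIso
      ((DRing.LBaseChange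
        (Algebra.TensorProduct.includeLeftRingHom : A →+* TensorProduct R A A)).mapIso j1) ≪≫ i⟩⟩

end Groth.Agent.S1795
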