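import Groth.Statements.S17962
-- import your own Groth.Agent.* helpers here

set_option autoImplicit false
open CategoryTheory CategoryTheory.Limits AlgebraicGeometry
universe u
open Hensel

namespace Groth.Agent.S17962

/-- Let i : X₀ ⟶ X be a closed immersion such that (X, X₀) is a henselian couple, i.e. for every finite
morphism g : Y ⟶ X every open-closed subset of Y ×_X X₀ is the inverse image under the first
projection of exactly one open-closed subset of Y. Then for every finite morphism h : Y ⟶ X the
couple (Y, Y ×_X X₀), with the first projection as closed immersion, is again henselian. -/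
theorem result {X X₀ : Scheme.{u}}
    (i : X₀ ⟶ X) [IsClosedImmersion i]
    (hX : ∀ (Y : Scheme.{u}) (g : Y ⟶ X), IsFinite g →
      ∀ V : Set ↥(pullback g (i)), IsClopen V →
        ∃! U : Set ↥Y, IsClopen U ∧ (pullback.fst g (i)).base ⁻¹' U = V)
    {Y : Scheme.{u}} (h : Y ⟶ X) [IsFinite h] :
    ∀ (Z : Scheme.{u}) (g : Z ⟶ Y), IsFinite g →
      ∀ V : Set ↥(pullback g (pullback.fst h i)), IsClopen V →
        ∃! U : Set ↥Z, IsClopen U ∧ (pullback.fst g (pullback.fst h i)).base ⁻¹' U = V := by
  intro Z g hg V hV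
  haveI : IsFinite g := hg
  let e := pullbackRightPullbackFstIso h i g
  have he1 : e.hom ≫ pullback.fst (g ≫ h) i = pullback.fst g (pullback.fst h i) :=
    pullbackRightPullbackFstIso_hom_fst h i g
  have hhi : ∀ x, e.inv.base (e.hom.base x) = x := by
    intro x
    have : (e.hom ≫ e.inv).base x = x := by rw [e.hom_inv_id]; rfl
    simpa using this
  have hih : ∀ x, e.hom.base (e.inv.base x) = x := by
    intro x
    have : (e.inv ≫ e.hom).base x = x := by rw [e.inv_hom_id]; rfl
    simpa using this
  have key : ∀ U : Set ↥Z, (pullback.fst (g ≫ h) i).base ⁻¹' U = e.inv.base ⁻¹' V ↔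
      (pullback.fst g (pullback.fst h i)).base ⁻¹' U = V := by
    intro U
    have hfst : ∀ x, (pullback.fst g (pullback.fst h i)).base x
        = (pullback.fst (g ≫ h) i).base (e.hom.base x) := by
      intro x
      rw [← he1]; rfl
    constructor
    · intro hU
      ext x
      rw [Set.mem_preimage, hfst]
      have : e.hom.base x ∈ (pullback.fst (g ≫ h) i).base ⁻¹' U ↔ e.hom.base x ∈ e.inv.base ⁻¹' V := by
        rw [hU]
      rw [Set.mem_preimage, Set.mem_preimage, hhi] at this
      exact this
    · intro hU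
      ext x
      rw [Set.mem_preimage, Set.mem_preimage, ← hU, Set.mem_preimage, hfst, hih]
  have hV' : IsClopen (e.inv.base ⁻¹' V) := hV.preimage e.inv.continuous
  obtain ⟨U, ⟨hU1, hU2⟩, hU3⟩ := hX Z (g ≫ h) inferInstance _ hV'
  refine ⟨U, ⟨hU1, (key U).mp hU2⟩, ?_⟩
  rintro U' ⟨hU'1, hU'2⟩
  exact hU3 U' ⟨hU'1, (key U').mpr hU'2⟩

end Groth.Agent.S17962
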