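import Groth.Statements.S17969
import Mathlib.RingTheory.Localization.BaseChange
import Mathlib.RingTheory.Polynomial.GaussLemma
import Mathlib.RingTheory.Adjoin.Field
import Mathlib.LinearAlgebra.Charpoly.Basic
import Mathlib.RingTheory.AdjoinRoot
import Mathlib.RingTheory.PowerBasis
-- import your own Groth.Agent.* helpers here

set_option autoImplicit false
universe u
open scoped TensorProduct
open CAlg

namespace Groth.Agent.S17969

open Polynomial

section helpers

variable (A : Type u) [CommRing A] [IsDomain A]
  (B : Type u) [CommRing B] [Algebra A B] [NoZeroSMulDivisors A B]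

/-- `B → K ⊗ B` is injective for torsion-free `B` -/
theorem incl_injective :
    Function.Injective (fun b : B => ((1 : FractionRing A) ⊗ₜ[A] b : FractionRing A ⊗[A] B)) := by
  have hloc : IsLocalizedModule (nonZeroDivisors A) (TensorProduct.mk A (FractionRing A) B 1) :=
    IsLocalization.tensorProduct_isLocalizedModule _ _
  intro b b' hbb'
  have h0 : TensorProduct.mk A (FractionRing A) B 1 (b - b') = 0 := by
    rw [map_sub]
    exact sub_eq_zero.mpr hbb'
  rw [IsLocalizedModule.eq_zero_iff (nonZeroDivisors A)] at h0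
  obtain ⟨c, hc⟩ := h0
  have hc' : (c : A) • (b - b') = 0 := hc
  rcases smul_eq_zero.mp hc' with h | h
  · exact absurd h (nonZeroDivisors.ne_zero c.2)
  · exact sub_eq_zero.mp h

/-- evaluating the base change of a polynomial at `1 ⊗ x` -/
theorem aeval_tmul (x : B) (f : A[X]) :
    aeval ((1 : FractionRing A) ⊗ₜ[A] x : FractionRing A ⊗[A] B)
      (f.map (algebraMap A (FractionRing A))) = (1 : FractionRing A) ⊗ₜ[A] (aeval x f) := by
  rw [aeval_map_algebraMap]
  have : ((1 : FractionRing A) ⊗ₜ[A] x : FractionRing A ⊗[A] B) =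
      (Algebra.TensorProduct.includeRight : B →ₐ[A] FractionRing A ⊗[A] B) x := rfl
  rw [this, aeval_algHom_apply]
  rfl

variable {A B} in
theorem adjoin_tmul_eq_top (x : B) (hx : Algebra.adjoin A {x} = ⊤) :
    Algebra.adjoin (FractionRing A)
      {((1 : FractionRing A) ⊗ₜ[A] x : FractionRing A ⊗[A] B)} = ⊤ := by
  rw [eq_top_iff]
  intro z _
  induction z using TensorProduct.induction_on with
  | zero => exact zero_mem _
  | tmul k b =>
    have hb : b ∈ Algebra.adjoin A {x} := by rw [hx]; trivial
    rw [Algebra.adjoin_singleton_eq_range_aeval] at hb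
    obtain ⟨f, rfl⟩ := hb
    have h1 : k ⊗ₜ[A] ((aeval x) f) = k • ((1 : FractionRing A) ⊗ₜ[A] (aeval x f)) := by
      rw [TensorProduct.smul_tmul', smul_eq_mul, mul_one]
    change k ⊗ₜ[A] ((aeval x) f) ∈ _
    rw [h1, ← aeval_tmul]
    exact Subalgebra.smul_mem _ (aeval_mem_adjoin_singleton _ _) k
  | add z₁ z₂ h₁ h₂ => exact add_mem (h₁ Algebra.mem_top) (h₂ Algebra.mem_top)

variable {A B} in
theorem finrank_eq_natDegree_minpoly [Module.Finite A B] (x : B) (hx : Algebra.adjoin A {x} = ⊤) :
    Module.finrank (FractionRing A) (FractionRing A ⊗[A] B) =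
      (minpoly (FractionRing A) ((1 : FractionRing A) ⊗ₜ[A] x : FractionRing A ⊗[A] B)).natDegree := by
  obtain ⟨y, hy⟩ : ∃ y : FractionRing A ⊗[A] B, y = (1 : FractionRing A) ⊗ₜ[A] x := ⟨_, rfl⟩
  rw [← hy]
  have htop : Algebra.adjoin (FractionRing A) {y} = ⊤ := by rw [hy]; exact adjoin_tmul_eq_top x hx
  have hint : IsIntegral (FractionRing A) y := Algebra.IsIntegral.isIntegral y
  have hne : minpoly (FractionRing A) y ≠ 0 := minpoly.ne_zero hint
  have e1 : Module.finrank (FractionRing A) (FractionRing A ⊗[A] B) =
      Module.finrank (FractionRing A) (Algebra.adjoin (FractionRing A) {y}) := by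
    rw [htop]
    exact (Subalgebra.topEquiv.toLinearEquiv.finrank_eq).symm
  rw [e1, (AlgEquiv.adjoinSingletonEquivAdjoinRootMinpoly (FractionRing A) y).toLinearEquiv.finrank_eq,
    (AdjoinRoot.powerBasis hne).finrank, AdjoinRoot.powerBasis_dim]

variable {A B} in
theorem charpoly_eq_minpoly [Module.Finite A B] (x : B) (hx : Algebra.adjoin A {x} = ⊤) :
    (LinearMap.mulLeft (FractionRing A) ((1 : FractionRing A) ⊗ₜ[A] x : FractionRing A ⊗[A] B)).charpoly =
      minpoly (FractionRing A) ((1 : FractionRing A) ⊗ₜ[A] x : FractionRing A ⊗[A] B) := by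
  obtain ⟨y, hy⟩ : ∃ y : FractionRing A ⊗[A] B, y = (1 : FractionRing A) ⊗ₜ[A] x := ⟨_, rfl⟩
  rw [← hy]
  have hint : IsIntegral (FractionRing A) y := Algebra.IsIntegral.isIntegral y
  have hmin : minpoly (FractionRing A) (LinearMap.mulLeft (FractionRing A) y) =
      minpoly (FractionRing A) y := by
    have := minpoly.algHom_eq (A := FractionRing A) (B := FractionRing A ⊗[A] B)
      (B' := Module.End (FractionRing A) (FractionRing A ⊗[A] B))
      (Algebra.lmul (FractionRing A) (FractionRing A ⊗[A] B))
      (Algebra.lmul_injective (R := FractionRing A) (A := FractionRing A ⊗[A] B)) y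
    exact this
  have hdvd : minpoly (FractionRing A) y ∣ (LinearMap.mulLeft (FractionRing A) y).charpoly := by
    rw [← hmin]
    exact LinearMap.minpoly_dvd_charpoly _
  refine eq_of_monic_of_dvd_of_natDegree_le (minpoly.monic hint) (LinearMap.charpoly_monic _) hdvd ?_
  rw [LinearMap.charpoly_natDegree, hy, finrank_eq_natDegree_minpoly x hx]

end helpers

/-- Let A be an integrally closed domain with fraction field K and B a commutative A-algebra which is
finite and torsion-free as an A-module and generated as an A-algebra by a single element x. Let P be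
the characteristic polynomial of multiplication by 1 ⊗ x on the finite free K-module K ⊗_A B. Then P
has coefficients in A, namely P is the image of a monic polynomial over A, and the kernel of the
A-algebra map A[T] → B sending T to x is generated by that polynomial, so that B is A[T]/(P). -/
theorem result
    (A : Type u) [CommRing A] [IsDomain A] [IsIntegrallyClosed A]
    (B : Type u) [CommRing B] [Algebra A B] [Module.Finite A B] [NoZeroSMulDivisors A B]
    (x : B) (hx : Algebra.adjoin A {x} = ⊤) :
    ∃ P : Polynomial A, P.Monic ∧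
      Polynomial.map (algebraMap A (FractionRing A)) P =
        (LinearMap.mulLeft (FractionRing A) ((1 : FractionRing A) ⊗ₜ[A] x)).charpoly ∧
      RingHom.ker (Polynomial.aeval x).toRingHom = Ideal.span {P} := by
  rw [charpoly_eq_minpoly x hx]
  obtain ⟨y, hy⟩ : ∃ y : FractionRing A ⊗[A] B, y = (1 : FractionRing A) ⊗ₜ[A] x := ⟨_, rfl⟩
  rw [← hy]
  have hinj : Function.Injective (algebraMap A (FractionRing A)) := IsFractionRing.injective _ _
  have hxint : IsIntegral A x := Algebra.IsIntegral.isIntegral x
  have hyint : IsIntegral (FractionRing A) y := Algebra.IsIntegral.isIntegral y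
  have hdvd : minpoly (FractionRing A) y ∣ (minpoly A x).map (algebraMap A (FractionRing A)) := by
    apply minpoly.dvd
    rw [hy, aeval_tmul, minpoly.aeval, TensorProduct.tmul_zero]
  obtain ⟨P, hP⟩ := IsIntegrallyClosed.eq_map_mul_C_of_dvd (FractionRing A) (minpoly.monic hxint) hdvd
  rw [(minpoly.monic hyint).leadingCoeff, C_1, mul_one] at hP
  have hPmonic : P.Monic := monic_of_injective hinj (by rw [hP]; exact minpoly.monic hyint)
  have hPx : aeval x P = 0 := by
    apply incl_injective A B
    change (1 : FractionRing A) ⊗ₜ[A] (aeval x P) = (1 : FractionRing A) ⊗ₜ[A] (0 : B)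
    rw [← aeval_tmul, hP, ← hy, minpoly.aeval, TensorProduct.tmul_zero]
  refine ⟨P, hPmonic, hP, ?_⟩
  ext q
  rw [RingHom.mem_ker, Ideal.mem_span_singleton]
  change aeval x q = 0 ↔ _
  constructor
  · intro hq
    have h1 : minpoly (FractionRing A) y ∣ q.map (algebraMap A (FractionRing A)) := by
      apply minpoly.dvd
      rw [hy, aeval_tmul, hq, TensorProduct.tmul_zero]
    rw [← hP] at h1
    exact (map_dvd_map _ hinj hPmonic).mp h1
  · rintro ⟨r, rfl⟩
    rw [map_mul, hPx, zero_mul]

end Groth.Agent.S17969
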