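import Groth.Statements.S17971
import Mathlib
import Groth.Agent.Lib.Helper4.HC2

set_option autoImplicit false
open CategoryTheory CategoryTheory.Limits AlgebraicGeometry
universe u
open Hensel

namespace Groth.Agent.S17971


open Groth.Agent.Lib.Helper4 in
/-- For a commutative ring A and an ideal I, the pair (A, I) is henselian if and only if the couple
(Spec A, Spec (A/I)) is henselian, i.e. if and only if for every finite morphism g : Y ⟶ Spec A
every open-closed subset of Y ×_{Spec A} Spec (A/I) is the inverse image under the first projection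
of exactly one open-closed subset of Y. -/
theorem result (A : Type u) [CommRing A] (I : Ideal A) :
    HenselianRing A I ↔
    ∀ (Y : Scheme.{u}) (g : Y ⟶ Spec (CommRingCat.of A)), IsFinite g →
      ∀ V : Set ↥(pullback g (Spec.map (CommRingCat.ofHom (Ideal.Quotient.mk I)))), IsClopen V →
        ∃! U : Set ↥Y, IsClopen U ∧ (pullback.fst g (Spec.map (CommRingCat.ofHom (Ideal.Quotient.mk I)))).base ⁻¹' U = V := by
  constructor
  · intro hH Y g hg
    haveI := hH
    haveI : IsAffine Y := isAffine_of_isAffineHom g
    let B : CommRingCat := Γ(Y, ⊤)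
    let g' : Spec B ⟶ Spec (CommRingCat.of A) := Y.isoSpec.inv ≫ g
    obtain ⟨φ, hφ⟩ : ∃ φ : CommRingCat.of A ⟶ B, Spec.map φ = g' :=
      ⟨Spec.preimage g', Spec.map_preimage g'⟩
    have hfin : IsFinite g' := by
      dsimp only [g']
      infer_instance
    rw [← hφ, IsFinite.SpecMap_iff] at hfin
    letI : Algebra A B := φ.hom.toAlgebra
    haveI : Module.Finite A B := hfin
    haveI : Algebra.IsIntegral A B := inferInstance
    have hb := HenselPair.bijOn_idempotent_of_isIntegral (A := A) (B := B) I
    have hCL := (HC.CL_fst_SpecMap_iff A B I).mpr hb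
    have hcomp : Y.isoSpec.hom ≫ Spec.map (CommRingCat.ofHom (algebraMap A B)) = g := by
      have : CommRingCat.ofHom (algebraMap A B) = φ := rfl
      rw [this, hφ]
      simp [g']
    exact HC.CL_fst_of_iso Y.isoSpec g (Spec.map (CommRingCat.ofHom (algebraMap A B))) hcomp _ hCL
  · intro h
    refine HenselPair.henselianRing_of_bijOn_idempotent A I fun B _ _ hfin => ?_
    rw [← HC.CL_fst_SpecMap_iff]
    have hfin' : (CommRingCat.ofHom (algebraMap A B)).hom.Finite :=
      RingHom.finite_algebraMap.mpr hfin
    exact h _ _ ((IsFinite.SpecMap_iff _).mpr hfin')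

end Groth.Agent.S17971
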