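import Groth.Statements.S17974
import Mathlib.RingTheory.Unramified.Finite
-- import your own Groth.Agent.* helpers here

set_option autoImplicit false
universe u
open Unram

namespace Groth.Agent.S17974

open TensorProduct

/-- Let A be a commutative ring, B an unramified A-algebra (formally unramified and of finite type), C
an A-algebra, p a prime ideal of C, and u, v : B → C two A-algebra homomorphisms which agree after
composition with C → C/p. Then there is an element f of C not in p such that u and v agree after
composition with the localization map C → C[1/f]. -/
theorem result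
    (A : Type u) [CommRing A] (B : Type u) [CommRing B] [Algebra A B]
    [Algebra.FormallyUnramified A B] [Algebra.FiniteType A B]
    (C : Type u) [CommRing C] [Algebra A C] (p : Ideal C) [p.IsPrime]
    (u v : B →ₐ[A] C)
    (huv : (Ideal.Quotient.mk p).comp u.toRingHom = (Ideal.Quotient.mk p).comp v.toRingHom) :
    ∃ f : C, f ∉ p ∧
      (algebraMap C (Localization.Away f)).comp u.toRingHom =
        (algebraMap C (Localization.Away f)).comp v.toRingHom := by
  obtain ⟨t, ht1, ht2⟩ := (Algebra.FormallyUnramified.iff_exists_tensorProduct (R := A) (S := B)).mp
    inferInstance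
  let w : B ⊗[A] B →ₐ[A] C := Algebra.TensorProduct.productMap u v
  set c := w t with hc
  have huv' : ∀ b, Ideal.Quotient.mk p (u b) = Ideal.Quotient.mk p (v b) :=
    fun b => RingHom.congr_fun huv b
  -- modulo p, w factors through multiplication
  have hmod : ∀ z : B ⊗[A] B, Ideal.Quotient.mk p (w z) =
      Ideal.Quotient.mk p (u (Algebra.TensorProduct.lmul' A z)) := by
    intro z
    induction z using TensorProduct.induction_on with
    | zero => simp
    | tmul x y =>
      simp only [w, Algebra.TensorProduct.productMap_apply_tmul, Algebra.TensorProduct.lmul'_apply_tmul,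
        map_mul]
      rw [huv' y]
    | add x y hx hy => simp only [map_add, hx, hy]
  have hcp : c ∉ p := by
    intro hcp
    have h1 : Ideal.Quotient.mk p c = 0 := Ideal.Quotient.eq_zero_iff_mem.mpr hcp
    rw [hc, hmod, ht2, map_one, map_one] at h1
    exact one_ne_zero h1
  refine ⟨c, hcp, ?_⟩
  ext b
  have h0 : (v b - u b) * c = 0 := by
    have := congrArg w (ht1 b)
    rw [map_mul, map_sub, map_zero] at this
    simpa [w] using this
  have hunit : IsUnit (algebraMap C (Localization.Away c) c) :=
    IsLocalization.Away.algebraMap_isUnit c
  have h1 : algebraMap C (Localization.Away c) (v b - u b) * algebraMap C (Localization.Away c) c = 0 := by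
    rw [← map_mul, h0, map_zero]
  have h2 := hunit.mul_left_eq_zero.mp h1
  rw [map_sub, sub_eq_zero] at h2
  exact h2.symm

end Groth.Agent.S17974
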