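import Groth.Statements.S17975
import Mathlib.RingTheory.Nakayama
import Mathlib.Algebra.Polynomial.RingDivision
-- import your own Groth.Agent.* helpers here

set_option autoImplicit false
universe u
open Hensel

namespace Groth.Agent.S17975

open Polynomial

lemma aux
    (A : Type u) [CommRing A] [IsLocalRing A] (C : Type u) [CommRing C] [Algebra A C] [Module.Finite A C]
    (Q₀ : Polynomial (IsLocalRing.ResidueField A)) (hQ₀ : Q₀.Monic)
    (I : Ideal C) (hI : I = Ideal.map (algebraMap A C) (IsLocalRing.maximalIdeal A))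
    (e : (C ⧸ I) ≃ₐ[A] AdjoinRoot Q₀)
    (x : C) (hx : e (Ideal.Quotient.mk I x) = AdjoinRoot.root Q₀) :
    Algebra.adjoin A {x} = ⊤ ∧
      ∃ Q : Polynomial A, Q.Monic ∧ Q.natDegree = Q₀.natDegree ∧
        Polynomial.map (IsLocalRing.residue A) Q = Q₀ ∧ Polynomial.aeval x Q = 0 := by
  classical
  set m := IsLocalRing.maximalIdeal A
  set n := Q₀.natDegree with hn
  let pb := AdjoinRoot.powerBasis' hQ₀
  -- the submodule spanned by the powers
  let N : Submodule A C := Submodule.span A (Set.range fun i : Fin n => x ^ (i : ℕ))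
  have hxpow : ∀ j : ℕ, e (Ideal.Quotient.mk I (x ^ j)) = AdjoinRoot.root Q₀ ^ j := by
    intro j; rw [map_pow, map_pow, hx]
  have hNtop : (⊤ : Submodule A C) ≤ N := by
    apply Submodule.le_of_le_smul_of_le_jacobson_bot Module.Finite.fg_top
      (IsLocalRing.maximalIdeal_le_jacobson (⊥ : Ideal A))
    rintro c -
    -- expand e (mk c) in the power basis
    set z := e (Ideal.Quotient.mk I c) with hz
    have hzsum : z = ∑ i : Fin n, (pb.basis.repr z i) • AdjoinRoot.root Q₀ ^ (i : ℕ) := by
      conv_lhs => rw [← pb.basis.sum_repr z]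
      apply Finset.sum_congr rfl
      intro i _
      rw [PowerBasis.coe_basis]
      rfl
    choose a ha using fun i : Fin n => IsLocalRing.residue_surjective (pb.basis.repr z i)
    set c' := ∑ i : Fin n, a i • x ^ (i : ℕ) with hc'
    have hc'N : c' ∈ N :=
      Submodule.sum_mem _ fun i _ => Submodule.smul_mem _ _ (Submodule.subset_span ⟨i, rfl⟩)
    have hdiff : c - c' ∈ I := by
      rw [← Ideal.Quotient.eq_zero_iff_mem]
      apply e.injective
      rw [map_zero, map_sub, map_sub, ← hz, hc', map_sum, map_sum, sub_eq_zero, hzsum]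
      apply Finset.sum_congr rfl
      intro i _
      rw [← Ideal.Quotient.mkₐ_eq_mk A, map_smul, map_smul, Ideal.Quotient.mkₐ_eq_mk, hxpow, ← ha i]
      rw [← IsScalarTower.algebraMap_smul (IsLocalRing.ResidueField A) (a i)]
      rfl
    have hmem : c - c' ∈ m • (⊤ : Submodule A C) := by
      rw [Ideal.smul_top_eq_map, ← hI]; exact hdiff
    have : c = c' + (c - c') := by abel
    rw [this]
    exact Submodule.add_mem_sup hc'N hmem
  have hNeq : N = ⊤ := top_le_iff.mp hNtop
  constructor
  · -- adjoin = ⊤
    rw [← Algebra.toSubmodule_eq_top, ← top_le_iff, ← hNeq]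
    apply Submodule.span_le.mpr
    rintro _ ⟨i, rfl⟩
    exact Subalgebra.pow_mem _ (Algebra.subset_adjoin (Set.mem_singleton x)) _
  · have hxn : x ^ n ∈ N := by rw [hNeq]; trivial
    obtain ⟨a, ha⟩ := (Submodule.mem_span_range_iff_exists_fun A).mp hxn
    let r : Polynomial A := ∑ i : Fin n, Polynomial.C (a i) * X ^ (i : ℕ)
    have hrdeg : r.degree < (n : WithBot ℕ) := Polynomial.degree_sum_fin_lt a
    let Q : Polynomial A := X ^ n - r
    have hQmonic : Q.Monic := Polynomial.monic_X_pow_sub hrdeg
    have hQdeg : Q.natDegree = n := by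
      have : Q.degree = (n : WithBot ℕ) := by
        have h1 : (X ^ n : Polynomial A).degree = n := Polynomial.degree_X_pow n
        rw [show Q = X ^ n - r from rfl, Polynomial.degree_sub_eq_left_of_degree_lt (by rw [h1]; exact hrdeg), h1]
      exact Polynomial.natDegree_eq_of_degree_eq_some this
    have hQx : Polynomial.aeval x Q = 0 := by
      simp only [Q, r, map_sub, map_pow, aeval_X, map_sum, map_mul, aeval_C]
      rw [← ha, sub_eq_zero]
      apply Finset.sum_congr rfl
      intro i _
      rw [Algebra.smul_def]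
    refine ⟨Q, hQmonic, hQdeg, ?_, hQx⟩
    -- the reduction is Q₀
    set Qb := Polynomial.map (IsLocalRing.residue A) Q with hQb
    have hQbmonic : Qb.Monic := hQmonic.map _
    have hQbdeg : Qb.natDegree = n := by rw [hQb, hQmonic.natDegree_map, hQdeg]
    have hroot : Polynomial.aeval (AdjoinRoot.root Q₀) Qb = 0 := by
      have h1 : e (Ideal.Quotient.mk I (Polynomial.aeval x Q)) = 0 := by rw [hQx, map_zero, map_zero]
      have h2 : e (Ideal.Quotient.mk I (Polynomial.aeval x Q)) =
          Polynomial.aeval (AdjoinRoot.root Q₀) Q := by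
        rw [← Ideal.Quotient.mkₐ_eq_mk A, ← Polynomial.aeval_algHom_apply,
          ← Polynomial.aeval_algHom_apply, Ideal.Quotient.mkₐ_eq_mk, hx]
      rw [h2] at h1
      rw [hQb]
      have h3 : Polynomial.aeval (AdjoinRoot.root Q₀) (Polynomial.map (algebraMap A (IsLocalRing.ResidueField A)) Q) =
          Polynomial.aeval (AdjoinRoot.root Q₀) Q := Polynomial.aeval_map_algebraMap _ _ _
      exact h3.trans h1
    have hdvd : Q₀ ∣ Qb := by
      rw [AdjoinRoot.aeval_eq, AdjoinRoot.mk_eq_zero] at hroot
      exact hroot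
    exact Polynomial.eq_of_monic_of_dvd_of_natDegree_le hQ₀ hQbmonic hdvd (by rw [hQbdeg])

/-- Let A be a local ring with maximal ideal m and residue field k, C a commutative A-algebra which is
finitely generated as an A-module, Q₀ a monic polynomial of degree n over k, e an A-algebra
isomorphism from C/mC to k[T]/(Q₀), and x an element of C whose class is sent by e to the class of
T. Then x generates C as an A-algebra, and x is a root of a monic polynomial Q over A of degree n
whose reduction modulo m equals Q₀. -/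
theorem result
    (A : Type u) [CommRing A] [IsLocalRing A] (C : Type u) [CommRing C] [Algebra A C] [Module.Finite A C]
    (Q₀ : Polynomial (IsLocalRing.ResidueField A)) (hQ₀ : Q₀.Monic)
    (e : (C ⧸ Ideal.map (algebraMap A C) (IsLocalRing.maximalIdeal A)) ≃ₐ[A] AdjoinRoot Q₀)
    (x : C) (hx : e (Ideal.Quotient.mk (Ideal.map (algebraMap A C) (IsLocalRing.maximalIdeal A)) x) = AdjoinRoot.root Q₀) :
    Algebra.adjoin A {x} = ⊤ ∧
      ∃ Q : Polynomial A, Q.Monic ∧ Q.natDegree = Q₀.natDegree ∧
        Polynomial.map (IsLocalRing.residue A) Q = Q₀ ∧ Polynomial.aeval x Q = 0 := by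
  exact aux A C Q₀ hQ₀ _ rfl e x hx

end Groth.Agent.S17975
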