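import Groth.Statements.S17977
import Groth.Agent.Lib27.EssEtL
-- import your own Groth.Agent.* helpers here

set_option autoImplicit false
universe u
open EGA4loc

namespace Groth.Agent.S17977

/-- Let A be a local ring, B a local ring which is a local-etale A-algebra, and C a local ring with a
local structure map A → C. Then every A-algebra homomorphism B → C is local. (The source states this
for local ind-etale B, i.e. filtered colimits of local-etale algebras along local maps, and reduces
at once to the local-etale case stated here.) -/
theorem result (A : Type u) [CommRing A] [IsLocalRing A]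
    (B : Type u) [CommRing B] [IsLocalRing B] [Algebra A B] (hB : EGA4loc.IsEssentiallyEtale A B)
    (C : Type u) [CommRing C] [IsLocalRing C] [Algebra A C] [IsLocalHom (algebraMap A C)]
    (φ : B →ₐ[A] C) : IsLocalHom φ.toRingHom := by
  have h1 := Groth.Agent.Lib27.EssEtL.formallyUnramified hB
  have h2 := Groth.Agent.Lib27.EssEtL.essFiniteType hB
  have h3 := Groth.Agent.Lib27.EssEtL.isLocalHom_algebraMap hB
  have hmax := Algebra.FormallyUnramified.map_maximalIdeal (R := A) (S := B)
  refine ⟨fun b hb => ?_⟩
  by_contra hnb
  have hbm : b ∈ IsLocalRing.maximalIdeal B := (IsLocalRing.mem_maximalIdeal b).2 hnb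
  rw [← hmax] at hbm
  have hle : (IsLocalRing.maximalIdeal A).map (algebraMap A B) ≤
      (IsLocalRing.maximalIdeal C).comap φ.toRingHom := by
    rw [Ideal.map_le_iff_le_comap]
    intro a ha
    rw [Ideal.mem_comap, Ideal.mem_comap]
    change φ (algebraMap A B a) ∈ _
    rw [AlgHom.commutes, IsLocalRing.mem_maximalIdeal]
    intro hu
    exact (IsLocalRing.mem_maximalIdeal a).1 ha (isUnit_of_map_unit (algebraMap A C) a hu)
  have := hle hbm
  rw [Ideal.mem_comap, IsLocalRing.mem_maximalIdeal] at this
  exact this hb

end Groth.Agent.S17977
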