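import Groth.Statements.S17978
import Groth.Agent.Lib27.EssEtL
-- import your own Groth.Agent.* helpers here

set_option autoImplicit false
universe u
open EGA4loc

namespace Groth.Agent.S17978

/-- Let A be a local ring, B a local ring which is a local-etale A-algebra, and C a local ring with a
local structure map A → C. Then two A-algebra homomorphisms B → C which agree after composition with
the residue map of C are equal; in other words an A-algebra map B → C is determined by the map it
induces on residue fields. (The source states this for local ind-etale B and reduces to the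
local-etale case stated here; C is an arbitrary local A-algebra with local structure map.) -/
theorem result (A : Type u) [CommRing A] [IsLocalRing A]
    (B : Type u) [CommRing B] [IsLocalRing B] [Algebra A B] (hB : EGA4loc.IsEssentiallyEtale A B)
    (C : Type u) [CommRing C] [IsLocalRing C] [Algebra A C] [IsLocalHom (algebraMap A C)]
    (u v : B →ₐ[A] C)
    (h : (IsLocalRing.residue C).comp u.toRingHom = (IsLocalRing.residue C).comp v.toRingHom) :
    u = v := by
  have h1 := Groth.Agent.Lib27.EssEtL.formallyUnramified hB
  have h2 := Groth.Agent.Lib27.EssEtL.essFiniteType hB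
  obtain ⟨t, ht1, ht2⟩ := (Algebra.FormallyUnramified.iff_exists_tensorProduct (R := A) (S := B)).1 h1
  let w : TensorProduct A B B →ₐ[A] C := Algebra.TensorProduct.productMap u v
  have hw : ∀ b b' : B, w (b ⊗ₜ[A] b') = u b * v b' := fun b b' =>
    Algebra.TensorProduct.productMap_apply_tmul u v b b'
  have hres : ∀ b : B, IsLocalRing.residue C (v b) = IsLocalRing.residue C (u b) := fun b =>
    (congrArg (fun f : B →+* IsLocalRing.ResidueField C => f b) h).symm
  have hc : ∀ s, (v s - u s) * w t = 0 := by
    intro s
    have := congrArg w (ht1 s)
    rw [map_mul, map_sub, map_zero, hw, hw, map_one, map_one, one_mul, mul_one] at this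
    exact this
  have hρ : ∀ x : TensorProduct A B B,
      IsLocalRing.residue C (w x) = IsLocalRing.residue C (u (Algebra.TensorProduct.lmul' A x)) := by
    intro x
    induction x using TensorProduct.induction_on with
    | zero => simp
    | tmul b b' =>
      rw [hw, Algebra.TensorProduct.lmul'_apply_tmul, map_mul, map_mul, map_mul, hres]
    | add x y hx hy => rw [map_add, map_add, hx, hy, map_add, map_add, map_add]
  have hcu : IsUnit (w t) := by
    by_contra hnu
    have hm : w t ∈ IsLocalRing.maximalIdeal C := (IsLocalRing.mem_maximalIdeal _).2 hnu
    have h0 : IsLocalRing.residue C (w t) = 0 := (IsLocalRing.residue_eq_zero_iff _).2 hm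
    rw [hρ, ht2, map_one, map_one] at h0
    exact one_ne_zero h0
  apply AlgHom.ext
  intro s
  have := (hcu.mul_left_eq_zero).1 (hc s)
  exact (sub_eq_zero.1 this).symm

end Groth.Agent.S17978
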