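import Groth.Statements.S17979
import Mathlib.RingTheory.Nakayama
import Mathlib.RingTheory.AdjoinRoot
import Mathlib.RingTheory.Ideal.Quotient.Operations
-- import your own Groth.Agent.* helpers here

set_option autoImplicit false
universe u
open Hensel

namespace Groth.Agent.S17979

open Polynomial

/-- Let A be a local ring with residue field k and Q, R polynomials over A with Q monic. If the images
of Q and R in k[T] generate the unit ideal, then Q and R already generate the unit ideal of A[T]. -/
theorem result (A : Type u) [CommRing A] [IsLocalRing A]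
    (Q R : Polynomial A) (hQ : Q.Monic)
    (h : IsCoprime (Polynomial.map (IsLocalRing.residue A) Q) (Polynomial.map (IsLocalRing.residue A) R)) :
    IsCoprime Q R := by
  set J : Ideal A[X] := Ideal.span {Q, R} with hJ
  have hQJ : Ideal.span {Q} ≤ J := Ideal.span_mono (by simp)
  have hfin : Module.Finite A (A[X] ⧸ J) := by
    have : Module.Finite A (A[X] ⧸ Ideal.span {Q}) := hQ.finite_adjoinRoot
    exact Module.Finite.of_surjective (Ideal.Quotient.factorₐ A hQJ).toLinearMap
      (Ideal.Quotient.factor_surjective hQJ)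
  -- lift the Bezout relation
  obtain ⟨a, b, hab⟩ := h
  obtain ⟨a', rfl⟩ := Polynomial.map_surjective _ IsLocalRing.residue_surjective a
  obtain ⟨b', rfl⟩ := Polynomial.map_surjective _ IsLocalRing.residue_surjective b
  set δ := a' * Q + b' * R - 1 with hδ
  have hδm : ∀ i, δ.coeff i ∈ IsLocalRing.maximalIdeal A := by
    intro i
    have : Polynomial.map (IsLocalRing.residue A) δ = 0 := by
      rw [hδ, Polynomial.map_sub, Polynomial.map_add, Polynomial.map_mul, Polynomial.map_mul,
        Polynomial.map_one, hab, sub_self]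
    have hc := congrArg (fun f => Polynomial.coeff f i) this
    simp only [Polynomial.coeff_map, Polynomial.coeff_zero] at hc
    rwa [IsLocalRing.residue_eq_zero_iff] at hc
  have htop : (⊤ : Submodule A (A[X] ⧸ J)) ≤ IsLocalRing.maximalIdeal A • ⊤ := by
    rintro x -
    obtain ⟨f, rfl⟩ := Ideal.Quotient.mk_surjective x
    have hf : f = f * (a' * Q + b' * R) - f * δ := by rw [hδ]; ring
    have h1 : Ideal.Quotient.mk J (f * (a' * Q + b' * R)) = 0 := by
      rw [Ideal.Quotient.eq_zero_iff_mem]
      apply J.mul_mem_left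
      exact J.add_mem (J.mul_mem_left _ (Ideal.subset_span (by simp)))
        (J.mul_mem_left _ (Ideal.subset_span (by simp)))
    rw [hf, map_sub, h1, zero_sub]
    apply Submodule.neg_mem
    rw [δ.as_sum_range_C_mul_X_pow, Finset.mul_sum, map_sum]
    apply Submodule.sum_mem
    intro i _
    have : Ideal.Quotient.mk J (f * (C (δ.coeff i) * X ^ i)) =
        δ.coeff i • Ideal.Quotient.mk J (f * X ^ i) := by
      rw [← Ideal.Quotient.mkₐ_eq_mk A, ← map_smul, Algebra.smul_def]
      congr 1
      simp only [Polynomial.algebraMap_apply, Algebra.algebraMap_self, RingHom.id_apply]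
      ring
    rw [this]
    exact Submodule.smul_mem_smul (hδm i) trivial
  have hbot := Submodule.eq_bot_of_le_smul_of_le_jacobson_bot (IsLocalRing.maximalIdeal A)
    (⊤ : Submodule A (A[X] ⧸ J)) Module.Finite.fg_top htop
    (IsLocalRing.maximalIdeal_le_jacobson _)
  have hsub : Subsingleton (A[X] ⧸ J) := by
    constructor
    intro x y
    have hx : x ∈ (⊤ : Submodule A (A[X] ⧸ J)) := trivial
    have hy : y ∈ (⊤ : Submodule A (A[X] ⧸ J)) := trivial
    rw [hbot] at hx hy
    rw [(Submodule.mem_bot A).mp hx, (Submodule.mem_bot A).mp hy]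
  have hJtop : J = ⊤ := Ideal.Quotient.subsingleton_iff.mp hsub
  have h1 : (1 : A[X]) ∈ J := by rw [hJtop]; trivial
  rw [hJ, Ideal.mem_span_pair] at h1
  obtain ⟨u, v, huv⟩ := h1
  exact ⟨u, v, huv⟩

end Groth.Agent.S17979
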