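import Groth.Statements.S1799
import Groth.Agent.Lib.Helper13.ShriekComp

set_option autoImplicit false
universe u
open CategoryTheory
attribute [local instance] HasDerivedCategory.standard
open Dual2

namespace Groth.Agent.S1799

/-- Let A → B → C be ring maps of finite type between Noetherian rings, where each upper shriek φ^!(K)
is formed from a presentation ψ : P = (base)[x_1, …, x_n] → (target) as RHom_P(target, K ⊗^L P)[n],
the derived base change functors being assumed to exist and RHom_P(target, −) being given as a right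
adjoint of restriction of scalars. Then for every K in D(A) which is bounded below, the upper shriek
of K along A → C is isomorphic to the upper shriek along B → C of the upper shriek along A → B of K. -/
theorem result (A B C : Type u) [CommRing A] [CommRing B] [CommRing C] [IsNoetherianRing A] [IsNoetherianRing B] [IsNoetherianRing C] [Algebra A B] [Algebra B C] [Algebra A C] [IsScalarTower A B C] (n : ℕ) (ψ : MvPolynomial (Fin n) A →ₐ[A] B) (hψ : Function.Surjective ψ) [DRing.HasLBaseChange (algebraMap A (MvPolynomial (Fin n) A))] (Rψ : Dual.D (MvPolynomial (Fin n) A) ⥤ Dual.D B) (adj : DRing.restrictD ψ.toRingHom ⊣ Rψ) (m : ℕ) (χ : MvPolynomial (Fin m) B →ₐ[B] C) (hχ : Function.Surjective χ) [DRing.HasLBaseChange (algebraMap B (MvPolynomial (Fin m) B))] (Rχ : Dual.D (MvPolynomial (Fin m) B) ⥤ Dual.D C) (adjχ : DRing.restrictD χ.toRingHom ⊣ Rχ) (k : ℕ) (θ : MvPolynomial (Fin k) A →ₐ[A] C) (hθ : Function.Surjective θ) [DRing.HasLBaseChange (algebraMap A (MvPolynomial (Fin k) A))]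 (Rθ : Dual.D (MvPolynomial (Fin k) A) ⥤ Dual.D C) (adjθ : DRing.restrictD θ.toRingHom ⊣ Rθ) (K : Dual.D A) (c : ℤ) (hK : ∀ i : ℤ, i < c → Subsingleton (Dual.HD A K i)) : Nonempty (Dual2.shriekVia k Rθ K ≅ Dual2.shriekVia m Rχ (Dual2.shriekVia n Rψ K)) := by
  open Groth.Agent.Lib.Helper13.Shriek Groth.Agent.Lib.Helper13.Coind in
  have hGE : K.IsGE c := by
    rw [DerivedCategory.isGE_iff]
    intro i hi
    have := hK i hi
    exact ModuleCat.isZero_of_subsingleton _
  open Groth.Agent.Lib.Helper13.Shriek Groth.Agent.Lib.Helper13.Coind in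
  obtain ⟨i⟩ := Sh_comp n m k ψ hψ χ hχ θ hθ K c
  open Groth.Agent.Lib.Helper13.Shriek Groth.Agent.Lib.Helper13.Coind in
  let e1 : Rψ ≅ Rco ψ.toRingHom := uniq ψ.toRingHom Rψ adj
  open Groth.Agent.Lib.Helper13.Shriek Groth.Agent.Lib.Helper13.Coind in
  let e2 : Rχ ≅ Rco χ.toRingHom := uniq χ.toRingHom Rχ adjχ
  open Groth.Agent.Lib.Helper13.Shriek Groth.Agent.Lib.Helper13.Coind in
  let e3 : Rθ ≅ Rco θ.toRingHom := uniq θ.toRingHom Rθ adjθ
  let j1 : Dual2.shriekVia n Rψ K ≅
      Groth.Agent.Lib.Helper13.Shriek.Sh (algebraMap A (MvPolynomial (Fin n) A)) ψ.toRingHom n K :=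
    (CategoryTheory.shiftFunctor (Dual.D B) (n : ℤ)).mapIso (e1.app _)
  exact ⟨(CategoryTheory.shiftFunctor (Dual.D C) (k : ℤ)).mapIso (e3.app _) ≪≫ i ≪≫
    (CategoryTheory.shiftFunctor (Dual.D C) (m : ℤ)).mapIso
      ((Groth.Agent.Lib.Helper13.Coind.Rco χ.toRingHom).mapIso
        ((DRing.LBaseChange (algebraMap B (MvPolynomial (Fin m) B))).mapIso j1.symm) ≪≫
        (e2.app _).symm)⟩

end Groth.Agent.S1799
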