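import Groth.Statements.S1800
import Groth.Agent.Lib.Helper13.ShriekBC

set_option autoImplicit false
universe u
open CategoryTheory
open scoped TensorProduct
attribute [local instance] HasDerivedCategory.standard
open Dual2

namespace Groth.Agent.S1800

/-- Let R → R' be a flat homomorphism of Noetherian rings, R → A a ring map of finite type with A
Noetherian, and A' = R' ⊗_R A with the induced map R' → A'; each upper shriek φ^!(K) is formed from
a presentation ψ : P = (base)[x_1, …, x_n] → (target) as RHom_P(target, K ⊗^L P)[n], the derived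
base change functors being assumed to exist and RHom_P(target, −) being given as a right adjoint of
restriction of scalars. Assuming also the derived base change functors D(A) → D(A') and D(R) → D(R')
exist, for every K in D(R) which is bounded below the base change to A' of the upper shriek of K
along R → A is isomorphic to the upper shriek along R' → A' of the base change of K to R'. -/
theorem result (R R' A : Type u) [CommRing R] [CommRing R'] [CommRing A] [IsNoetherianRing R] [IsNoetherianRing R'] [IsNoetherianRing A] [Algebra R R'] [Module.Flat R R'] [Algebra R A] [IsNoetherianRing (R' ⊗[R] A)] (n : ℕ) (ψ : MvPolynomial (Fin n) R →ₐ[R] A) (hψ : Function.Surjective ψ) [DRing.HasLBaseChange (algebraMap R (MvPolynomial (Fin n) R))] (Rψ : Dual.D (MvPolynomial (Fin n) R) ⥤ Dual.D A) (adj : DRing.restrictD ψ.toRingHom ⊣ Rψ) (m : ℕ) (ψ' : MvPolynomial (Fin m) R' →ₐ[R'] (R' ⊗[R] A)) (hψ' : Function.Surjective ψ') [DRing.HasLBaseChange (algebraMap R' (MvPolynomial (Fin m) R'))] (Rψ' : Dual.D (MvPolynomial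 (Fin m) R') ⥤ Dual.D (R' ⊗[R] A)) (adj' : DRing.restrictD ψ'.toRingHom ⊣ Rψ') [DRing.HasLBaseChange (Algebra.TensorProduct.includeRight : A →ₐ[R] R' ⊗[R] A).toRingHom] [DRing.HasLBaseChange (algebraMap R R')] (K : Dual.D R) (c : ℤ) (hK : ∀ i : ℤ, i < c → Subsingleton (Dual.HD R K i)) : Nonempty ((DRing.LBaseChange (Algebra.TensorProduct.includeRight : A →ₐ[R] R' ⊗[R] A).toRingHom).obj (Dual2.shriekVia n Rψ K) ≅ Dual2.shriekVia m Rψ' ((DRing.LBaseChange (algebraMap R R')).obj K)) := by
  open Groth.Agent.Lib.Helper13.Shriek Groth.Agent.Lib.Helper13.Coind in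
  have hGE : K.IsGE c := by
    rw [DerivedCategory.isGE_iff]
    intro i hi
    have := hK i hi
    exact ModuleCat.isZero_of_subsingleton _
  open Groth.Agent.Lib.Helper13.Shriek Groth.Agent.Lib.Helper13.Coind in
  obtain ⟨i⟩ := Sh_flat_baseChange R R' A n ψ hψ K c
  open Groth.Agent.Lib.Helper13.Shriek Groth.Agent.Lib.Helper13.Coind in
  obtain ⟨i'⟩ := Sh_independent (bcPres R R' A n ψ) (bcPres_surjective R R' A n ψ hψ) ψ' hψ'
    ((DRing.LBaseChange (algebraMap R R')).obj K)
  open Groth.Agent.Lib.Helper13.Shriek Groth.Agent.Lib.Helper13.Coind in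
  let e1 : Rψ ≅ Rco ψ.toRingHom := uniq ψ.toRingHom Rψ adj
  open Groth.Agent.Lib.Helper13.Shriek Groth.Agent.Lib.Helper13.Coind in
  let e2 : Rψ' ≅ Rco ψ'.toRingHom := uniq ψ'.toRingHom Rψ' adj'
  let j1 : Dual2.shriekVia n Rψ K ≅
      Groth.Agent.Lib.Helper13.Shriek.Sh (algebraMap R (MvPolynomial (Fin n) R)) ψ.toRingHom n K :=
    (CategoryTheory.shiftFunctor (Dual.D A) (n : ℤ)).mapIso (e1.app _)
  exact ⟨(DRing.LBaseChange
      (Algebra.TensorProduct.includeRight : A →ₐ[R] R' ⊗[R] A).toRingHom).mapIso j1 ≪≫ i ≪≫ i' ≪≫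
    (CategoryTheory.shiftFunctor (Dual.D (R' ⊗[R] A)) (m : ℤ)).mapIso (e2.app _).symm⟩

end Groth.Agent.S1800
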