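import Groth.Statements.S18003
import Mathlib
import Groth.Agent.Lib.Helper20.WeilOrd

set_option autoImplicit false
universe u
open MvPolynomial
open WeilNum

namespace Groth.Agent.S18003



section Helpers
open scoped Polynomial
open Groth.Agent.Lib.Helper20.WeilOrd

theorem exists_commRing_of_commute {A : Type} [Ring A] (f v : A) (hfv : f * v = v * f) :
    ∃ (S : Type) (_ : CommRing S) (j : S →+* A) (f' v' : S), j f' = f ∧ j v' = v := by
  have hcomm : ∀ a ∈ ({f, v} : Set A), ∀ b ∈ ({f, v} : Set A), a * b = b * a := by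
    intro a ha b hb
    rcases ha with rfl | rfl <;> rcases hb with rfl | rfl
    · rfl
    · exact hfv
    · exact hfv.symm
    · rfl
  haveI := Algebra.isMulCommutative_adjoin ℤ hcomm
  open scoped IsMulCommutative in
  exact ⟨Algebra.adjoin ℤ ({f, v} : Set A), inferInstance,
    (Algebra.adjoin ℤ ({f, v} : Set A)).val.toRingHom,
    ⟨f, Algebra.subset_adjoin (by simp)⟩, ⟨v, Algebra.subset_adjoin (by simp)⟩, rfl, rfl⟩

theorem main (p e : ℕ) [Fact p.Prime] (he : 0 < e)
    (ι : Type) [Fintype ι] (K : ι → Type u) [∀ i, Field (K i)] [∀ i, CharZero (K i)] (π : ∀ i, K i)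
    (hint : ∀ i, IsIntegral ℤ (π i))
    (hweil : ∀ i, ∀ z ∈ (minpoly ℤ (π i)).aroots ℂ, ‖z‖ = Real.sqrt ((p : ℝ) ^ e))
    (hinj : ∀ i j, minpoly ℤ (π i) = minpoly ℤ (π j) → i = j)
    (D : ℕ) (hD : ∑ i, (minpoly ℤ (π i)).natDegree = 2 * D)
    (T : Type) [AddCommGroup T] [Module.Finite ℤ T] [Module.Free ℤ T] (FT : T →ₗ[ℤ] T) :
    (∃ _ : Module (MvPolynomial.aeval ![fun i => π i, fun i => ((p : K i) ^ e) / π i] :
        MvPolynomial (Fin 2) ℤ →ₐ[ℤ] ((i : ι) → K i)).range T,
        ∀ t : T, (⟨(MvPolynomial.aeval ![fun i => π i, fun i => ((p : K i) ^ e) / π i] :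
        MvPolynomial (Fin 2) ℤ →ₐ[ℤ] ((i : ι) → K i)) (X 0), AlgHom.mem_range_self _ _⟩ : (MvPolynomial.aeval ![fun i => π i, fun i => ((p : K i) ^ e) / π i] :
        MvPolynomial (Fin 2) ℤ →ₐ[ℤ] ((i : ι) → K i)).range) • t = FT t) ↔
      (Polynomial.aeval FT (∏ i, minpoly ℤ (π i)) = 0 ∧
        ∃ VT : T →ₗ[ℤ] T, FT ∘ₗ VT = ((p : ℤ) ^ e) • LinearMap.id) := by
  have hp : p.Prime := Fact.out
  obtain ⟨ε, h, hε, h0, hh, hker, hreg⟩ := data p e ι K π he hint hweil hinj D hD
  have hπ0 := pi_ne_zero p e ι K π he hint ε hε D h0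
  obtain ⟨P, hPdef⟩ : ∃ P : ℤ[X], P = ∏ i, minpoly ℤ (π i) := ⟨_, rfl⟩
  rw [← hPdef] at hh h0 ⊢
  obtain ⟨φ, hφ⟩ : ∃ φ : MvPolynomial (Fin 2) ℤ →ₐ[ℤ] ((i : ι) → K i),
      φ = MvPolynomial.aeval ![fun i => π i, fun i => ((p : K i) ^ e) / π i] := ⟨_, rfl⟩
  rw [← hφ] at hker ⊢
  have hφF : φ (X 0) = fun i => π i := by rw [hφ]; simp
  have hφV : φ (X 1) = fun i => ((p : K i) ^ e) / π i := by rw [hφ]; simp
  have hc0 : P.coeff 0 ≠ 0 := by
    rw [h0]
    intro h5
    rcases mul_eq_zero.mp h5 with h6 | h6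
    · rw [h6] at hε; simp at hε
    · exact pow_ne_zero _ (pow_ne_zero _ (by exact_mod_cast hp.ne_zero)) h6
  constructor
  · rintro ⟨inst, hF⟩
    obtain ⟨ρ, hρ⟩ : ∃ ρ : φ.range →ₐ[ℤ] Module.End ℤ T, ∀ x t, ρ x t = x • t :=
      ⟨((addMonoidEndRingEquivInt T).toRingHom.comp (Module.toAddMonoidEnd φ.range T)).toIntAlgHom,
        fun x t => rfl⟩
    have hρF : ρ ⟨φ (X 0), AlgHom.mem_range_self _ _⟩ = FT := by
      apply LinearMap.ext
      intro t
      rw [hρ, hF]
    constructor
    · rw [← hρF, Polynomial.aeval_algHom_apply]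
      have : Polynomial.aeval (⟨φ (X 0), AlgHom.mem_range_self _ _⟩ : φ.range) P = 0 := by
        apply Subtype.ext
        have h1 := Polynomial.aeval_algHom_apply φ.range.val
          (⟨φ (X 0), AlgHom.mem_range_self _ _⟩ : φ.range) P
        show φ.range.val (Polynomial.aeval (⟨φ (X 0), AlgHom.mem_range_self _ _⟩ : φ.range) P) = 0
        rw [← h1]
        show Polynomial.aeval (φ (X 0)) P = 0
        rw [hφF]
        funext i
        have h2 := Polynomial.aeval_algHom_apply (Pi.evalAlgHom ℤ K i) (fun i => π i) P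
        show (Pi.evalAlgHom ℤ K i) (Polynomial.aeval (fun i => π i) P) = 0
        rw [← h2, hPdef]
        exact aeval_pi_prod ι K π i
      rw [this, map_zero]
    · refine ⟨ρ ⟨φ (X 1), AlgHom.mem_range_self _ _⟩, ?_⟩
      rw [← hρF, ← Module.End.mul_eq_comp, ← map_mul]
      have : (⟨φ (X 0), AlgHom.mem_range_self _ _⟩ : φ.range) * ⟨φ (X 1), AlgHom.mem_range_self _ _⟩ =
          algebraMap ℤ φ.range ((p : ℤ) ^ e) := by
        apply Subtype.ext
        show φ (X 0) * φ (X 1) = algebraMap ℤ ((i : ι) → K i) ((p : ℤ) ^ e)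
        rw [hφF, hφV]
        funext i
        simp only [Pi.mul_apply, Pi.algebraMap_apply]
        rw [mul_div_cancel₀ _ (hπ0 i)]
        simp
      rw [this, AlgHom.commutes, Algebra.algebraMap_eq_smul_one]
      rfl
  · rintro ⟨hP, VT, hFV⟩
    -- FT is injective
    have hdiv : P.divX * Polynomial.X + Polynomial.C (P.coeff 0) = P := Polynomial.divX_mul_X_add P
    have hFinj : Function.Injective FT := by
      rw [← LinearMap.ker_eq_bot, LinearMap.ker_eq_bot']
      intro t ht
      have h1 : Polynomial.aeval FT P t = 0 := by rw [hP]; rfl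
      rw [← hdiv, map_add, map_mul, Polynomial.aeval_X, Polynomial.aeval_C,
        LinearMap.add_apply, Module.End.mul_apply, ht, map_zero, zero_add,
        Algebra.algebraMap_eq_smul_one, LinearMap.smul_apply, Module.End.one_apply] at h1
      rcases smul_eq_zero.mp h1 with h2 | h2
      · exact absurd h2 hc0
      · exact h2
    have hFV' : FT * VT = ((p : ℤ) ^ e) • (1 : Module.End ℤ T) := hFV
    have hVF : VT * FT = ((p : ℤ) ^ e) • (1 : Module.End ℤ T) := by
      apply LinearMap.ext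
      intro t
      apply hFinj
      have h1 : FT ((VT * FT) t) = (FT * VT) (FT t) := rfl
      rw [h1, hFV', LinearMap.smul_apply, LinearMap.smul_apply, Module.End.one_apply,
        Module.End.one_apply, map_smul]
    obtain ⟨S, _, j, f', v', hjf, hjv⟩ := exists_commRing_of_commute FT VT (by rw [hFV', hVF])
    obtain ⟨ψ, hψ⟩ : ∃ ψ : MvPolynomial (Fin 2) ℤ →ₐ[ℤ] Module.End ℤ T,
        ψ (X 0) = FT ∧ ψ (X 1) = VT :=
      ⟨(j.comp (MvPolynomial.aeval ![f', v'] : MvPolynomial (Fin 2) ℤ →ₐ[ℤ] S).toRingHom).toIntAlgHom,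
        by
          show j ((MvPolynomial.aeval ![f', v'] : MvPolynomial (Fin 2) ℤ →ₐ[ℤ] S) (X 0)) = FT
          rw [MvPolynomial.aeval_X]; exact hjf,
        by
          show j ((MvPolynomial.aeval ![f', v'] : MvPolynomial (Fin 2) ℤ →ₐ[ℤ] S) (X 1)) = VT
          rw [MvPolynomial.aeval_X]; exact hjv⟩
    obtain ⟨hψF, hψV⟩ := hψ
    have hψa : ψ (X 0 * X 1 - C ((p : ℤ) ^ e)) = 0 := by
      rw [map_sub, map_mul, hψF, hψV, hFV', MvPolynomial.algHom_C, Algebra.algebraMap_eq_smul_one,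
        sub_self]
    have hψspan : ∀ x ∈ Ideal.span ({X 0 * X 1 - C ((p : ℤ) ^ e)} : Set (MvPolynomial (Fin 2) ℤ)),
        ψ x = 0 := by
      intro x hx
      obtain ⟨c, hc⟩ := Ideal.mem_span_singleton'.mp hx
      rw [← hc, map_mul, hψa, mul_zero]
    have hψP : ψ (Polynomial.aeval (X 0 : MvPolynomial (Fin 2) ℤ) P) = 0 := by
      rw [← Polynomial.aeval_algHom_apply, hψF, hP]
    have hψh : ψ h = 0 := by
      have h1 := hψspan _ hh
      rw [map_sub, hψP, sub_zero, map_mul, map_pow, hψF] at h1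
      apply LinearMap.ext
      intro t
      have h2 : (FT ^ D * ψ h) t = 0 := by rw [h1]; rfl
      rw [Module.End.mul_apply, Module.End.pow_apply] at h2
      have h3 : Function.Injective (FT^[D]) := hFinj.iterate D
      apply h3
      rw [h2, LinearMap.zero_apply, iterate_map_zero]
    have hsurj : Function.Surjective φ.rangeRestrict.toRingHom := φ.rangeRestrict_surjective
    have hkerle : RingHom.ker φ.rangeRestrict.toRingHom ≤ RingHom.ker ψ.toRingHom := by
      intro x hx
      rw [RingHom.mem_ker] at hx ⊢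
      have hx' : φ x = 0 := congrArg Subtype.val hx
      have hx'' : x ∈ RingHom.ker φ := hx'
      rw [hker] at hx''
      show ψ x = 0
      have hle : Ideal.span {X 0 * X 1 - C ((p : ℤ) ^ e), h} ≤ RingHom.ker ψ.toRingHom := by
        rw [Ideal.span_le]
        intro y hy
        rcases hy with rfl | rfl
        · exact hψa
        · exact hψh
      exact hle hx''
    obtain ⟨ρ, hρ⟩ : ∃ ρ : φ.range →+* Module.End ℤ T, ∀ x, ρ (φ.rangeRestrict x) = ψ x :=
      ⟨RingHom.liftOfSurjective φ.rangeRestrict.toRingHom hsurj ⟨ψ.toRingHom, hkerle⟩,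
        fun x => RingHom.liftOfSurjective_comp_apply φ.rangeRestrict.toRingHom hsurj
          ⟨ψ.toRingHom, hkerle⟩ x⟩
    refine ⟨Module.compHom T ρ, ?_⟩
    intro t
    show ρ (φ.rangeRestrict (X 0)) t = FT t
    rw [hρ, hψF]

end Helpers

/-- Let p be a prime, e ≥ 1 and q = p^e; let (π_i) be a finite family of pairwise nonconjugate Weil
q-numbers (π_i in a field K_i of characteristic zero, integral over ℤ with minimal polynomial P_i,
all complex roots of P_i of absolute value √q, P_i ≠ P_j for i ≠ j) of even total degree Σ_i deg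
P_i, P_w = ∏_i P_i, and R_w ⊆ ∏_i K_i the minimal central order, the image of ℤ[F, V] → ∏_i K_i, F ↦
(π_i), V ↦ (q/π_i). Let T be a finitely generated free ℤ-module and F_T an endomorphism of T. Then
there exists an R_w-module structure on the additive group T in which the class of F acts as F_T if
and only if P_w(F_T) = 0 (equivalently: F_T is semisimple after tensoring with ℚ, with eigenvalues
among the conjugates of the π_i) and there is an endomorphism V_T of T with F_T ∘ V_T = q. When it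
exists the structure is determined by F_T (the class of V acts as V_T = q·F_T⁻¹), and reflexive
R_w-modules are exactly the ℤ-free finitely generated ones, so this identifies the objects of
Refl(R_w) with such pairs (T, F_T); the uniqueness remark is not part of the formal statement. -/
theorem result (p e : ℕ) [Fact p.Prime] (he : 0 < e)
    (ι : Type) [Fintype ι] (K : ι → Type u) [∀ i, Field (K i)] [∀ i, CharZero (K i)] (π : ∀ i, K i)
    (hint : ∀ i, IsIntegral ℤ (π i))
    (hweil : ∀ i, ∀ z ∈ (minpoly ℤ (π i)).aroots ℂ, ‖z‖ = Real.sqrt ((p : ℝ) ^ e))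
    (hinj : ∀ i j, minpoly ℤ (π i) = minpoly ℤ (π j) → i = j)
    (D : ℕ) (hD : ∑ i, (minpoly ℤ (π i)).natDegree = 2 * D)
    (T : Type) [AddCommGroup T] [Module.Finite ℤ T] [Module.Free ℤ T] (FT : T →ₗ[ℤ] T) :
    (∃ _ : Module (MvPolynomial.aeval ![fun i => π i, fun i => ((p : K i) ^ e) / π i] :
        MvPolynomial (Fin 2) ℤ →ₐ[ℤ] ((i : ι) → K i)).range T,
        ∀ t : T, (⟨(MvPolynomial.aeval ![fun i => π i, fun i => ((p : K i) ^ e) / π i] :
        MvPolynomial (Fin 2) ℤ →ₐ[ℤ] ((i : ι) → K i)) (X 0), AlgHom.mem_range_self _ _⟩ : (MvPolynomial.aeval ![fun i => π i, fun i => ((p : K i) ^ e) / π i] :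
        MvPolynomial (Fin 2) ℤ →ₐ[ℤ] ((i : ι) → K i)).range) • t = FT t) ↔
      (Polynomial.aeval FT (∏ i, minpoly ℤ (π i)) = 0 ∧
        ∃ VT : T →ₗ[ℤ] T, FT ∘ₗ VT = ((p : ℤ) ^ e) • LinearMap.id) := by

  exact main p e he ι K π hint hweil hinj D hD T FT

end Groth.Agent.S18003
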