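import Groth.Statements.S18019
import Mathlib

set_option autoImplicit false
universe u
open ClassStk

namespace Groth.Agent.S18019

open Polynomial in
/-- Let R be an integral domain of characteristic 2 and let a be a nonzero element of R, so that x ↦ x +
a defines an R-algebra involution of the polynomial ring R[x] (an action of the group of order two).
A polynomial f is invariant, f(x + a) = f(x), if and only if f belongs to the R-subalgebra generated
by u = x (x + a); in other words the ring of invariants is the polynomial ring R[u]. -/
theorem result (R : Type u) [CommRing R] [IsDomain R]
    [CharP R 2] (a : R) (ha : a ≠ 0) (f : Polynomial R) :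
    f.comp (X + C a) = f ↔ f ∈ Algebra.adjoin R ({X * (X + C a)} : Set (Polynomial R)) := by
  classical
  have h2a : a + a = 0 := CharTwo.add_self_eq_zero a
  set w : Polynomial R := X * (X + C a) with hw
  have hwm : w.Monic := by
    rw [hw]
    exact (monic_X).mul (monic_X_add_C a)
  have hwdeg : w.natDegree = 2 := by
    rw [hw, Monic.natDegree_mul monic_X (monic_X_add_C a), natDegree_X, natDegree_X_add_C]
  have hwσ : w.comp (X + C a) = w := by
    rw [hw]
    simp only [mul_comp, X_comp, add_comp, C_comp]
    have : (C a + C a : Polynomial R) = 0 := by rw [← C_add, h2a, C_0]
    rw [add_assoc, this, add_zero, mul_comm]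
  constructor
  · -- invariants are polynomials in w
    have key : ∀ n : ℕ, ∀ g : Polynomial R, g.natDegree = n → g.comp (X + C a) = g →
        g ∈ Algebra.adjoin R ({w} : Set (Polynomial R)) := by
      intro n
      induction n using Nat.strong_induction_on with
      | _ n ih =>
        intro g hgn hg
        have hdiv := modByMonic_add_div g w
        set q := g /ₘ w with hq
        set r := g %ₘ w with hr
        have hrdeg : r.natDegree < 2 := by
          rw [← hwdeg]
          apply natDegree_modByMonic_lt g hwm
          intro h1
          rw [h1, natDegree_one] at hwdeg
          omega
        have hrσdeg : (r.comp (X + C a)).natDegree < 2 := by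
          have := natDegree_comp_le (p := r) (q := X + C a)
          rw [natDegree_X_add_C, mul_one] at this
          omega
        -- w * (σ q - q) = r - σ r
        have h1 : w * (q.comp (X + C a) - q) = r - r.comp (X + C a) := by
          have h2 : (r + w * q).comp (X + C a) = r + w * q := by rw [hdiv]; exact hg
          rw [add_comp, mul_comp, hwσ] at h2
          linear_combination h2
        have hq0 : q.comp (X + C a) - q = 0 := by
          by_contra hne
          have h3 : (w * (q.comp (X + C a) - q)).natDegree =
              2 + (q.comp (X + C a) - q).natDegree := by
            rw [Monic.natDegree_mul' hwm hne, hwdeg]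
          have h4 : (r - r.comp (X + C a)).natDegree < 2 := by
            have := natDegree_sub_le r (r.comp (X + C a))
            omega
          rw [h1] at h3
          omega
        have hqσ : q.comp (X + C a) = q := sub_eq_zero.mp hq0
        have hrσ : r.comp (X + C a) = r := by
          rw [hq0, mul_zero] at h1
          exact (sub_eq_zero.mp h1.symm).symm
        -- r is constant
        have hrform := eq_X_add_C_of_natDegree_le_one (p := r) (by omega)
        have hb : r.coeff 1 = 0 := by
          have h5 : (C (r.coeff 1) * X + C (r.coeff 0)).comp (X + C a) =
              C (r.coeff 1) * X + C (r.coeff 0) := by rw [← hrform]; exact hrσ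
          simp only [add_comp, mul_comp, C_comp, X_comp] at h5
          have h6 : C (r.coeff 1) * C a = (0 : Polynomial R) := by linear_combination h5
          rw [← C_mul, C_eq_zero] at h6
          exact (mul_eq_zero.mp h6).resolve_right ha
        have hrC : r = C (r.coeff 0) := by
          rw [hb, C_0, zero_mul, zero_add] at hrform
          exact hrform
        have hrmem : r ∈ Algebra.adjoin R ({w} : Set (Polynomial R)) := by
          rw [hrC]
          exact Subalgebra.algebraMap_mem _ _
        have hwmem : w ∈ Algebra.adjoin R ({w} : Set (Polynomial R)) :=
          Algebra.subset_adjoin (Set.mem_singleton w)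
        rw [← hdiv]
        by_cases hqz : q = 0
        · rw [hqz, mul_zero, add_zero]
          exact hrmem
        · have hqdeg : q.natDegree < n := by
            have h7 := natDegree_divByMonic g hwm
            rw [← hq, hwdeg, hgn] at h7
            have h8 : ¬ g.degree < w.degree := by
              rw [← divByMonic_eq_zero_iff hwm]
              exact hqz
            have h9 : w.natDegree ≤ g.natDegree := by
              by_contra hlt
              apply h8
              exact degree_lt_degree (by omega)
            omega
          exact Subalgebra.add_mem _ hrmem
            (Subalgebra.mul_mem _ hwmem (ih q.natDegree hqdeg q rfl hqσ))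
    intro hf
    exact key f.natDegree f rfl hf
  · intro hf
    have hle : Algebra.adjoin R ({w} : Set (Polynomial R)) ≤
        AlgHom.equalizer (aeval (X + C a) : Polynomial R →ₐ[R] Polynomial R)
          (AlgHom.id R (Polynomial R)) := by
      apply Algebra.adjoin_le
      intro g hg
      rw [Set.mem_singleton_iff] at hg
      rw [hg]
      change aeval (X + C a) w = w
      rw [← comp_eq_aeval]
      exact hwσ
    have := hle hf
    rw [comp_eq_aeval]
    exact this

end Groth.Agent.S18019
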