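import Groth.Statements.S18026
import Mathlib
import Groth.Agent.Lib.Helper6.HenselSplit
import Groth.Agent.Lib.Helper6.EtLocUnr2
-- import your own Groth.Agent.* helpers here

set_option autoImplicit false
universe u
open Hensel

namespace Groth.Agent.S18026

open AlgebraicGeometry CategoryTheory in
/-- Let `A` be a henselian discrete valuation ring and `f : T ⟶ Spec A` an étale surjective morphism of
schemes. Then some open subscheme `U` of `T` is finite over `Spec A` and still maps onto it; in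
particular `U → Spec A` is a finite étale cover sitting inside `T` as an open subscheme (étaleness
of the restriction is automatic, and surjectivity records that `U` meets the closed fibre). (The
published statement asks for an open component of `T` finite étale over `Spec A`; when `T` is not
separated — two copies of `Spec A` glued along the generic point — no open and closed subset of `T`
is finite over `Spec A`, while the published proof constructs an open subscheme, the spectrum of the
local ring of `T` at a point of the closed fibre; so this row asks only for an open subscheme.) -/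
theorem result
    (A : Type u) [CommRing A] [IsDomain A] [IsDiscreteValuationRing A] [HenselianLocalRing A]
    (T : Scheme.{u}) (f : T ⟶ Spec (CommRingCat.of A)) [Etale f] [Surjective f] :
    ∃ U : T.Opens, IsFinite (U.ι ≫ f) ∧ Surjective (U.ι ≫ f) := by
  classical
  obtain ⟨t, ht⟩ := (inferInstance : Surjective f).surj (IsLocalRing.closedPoint A)
  obtain ⟨T₀, hT₀, htT₀⟩ : ∃ T₀ : T.Opens, IsAffineOpen T₀ ∧ t ∈ T₀ := by
    obtain ⟨_, ⟨T₀, hT₀, rfl⟩, htT₀, -⟩ :=
      T.isBasis_affineOpens.exists_subset_of_mem_open (Set.mem_univ t) isOpen_univ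
    exact ⟨T₀, hT₀, htT₀⟩
  haveI : IsAffine T₀.toScheme := hT₀
  haveI : Etale (T₀.ι ≫ f) := inferInstance
  haveI : IsSeparated (T₀.ι ≫ f) := inferInstance
  haveI : LocallyQuasiFinite (T₀.ι ≫ f) := by
    rw [← Scheme.Hom.quasiFiniteLocus_eq_top_iff]
    refine top_le_iff.mp fun x _ => ?_
    rw [Scheme.Hom.mem_quasiFiniteLocus]
    exact Groth.Agent.Lib.Helper6.EtLoc.quasiFiniteAt_of_unramified _ x
  obtain ⟨W, hWcl, hWfin, hWfib⟩ :=
    Groth.Agent.Lib.Helper6.HenselSplit.exists_clopen_finite A (T₀.ι ≫ f)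
      ((T₀.ι ≫ f).finite_preimage_singleton _) (fun x _ => (T₀.ι ≫ f).quasiFiniteAt x)
  have e : (T₀.ι.isoImage W).hom ≫ (T₀.ι ''ᵁ W).ι ≫ f = W.ι ≫ T₀.ι ≫ f := by
    rw [Scheme.Hom.isoImage_hom_ι_assoc]
  have hfinU : IsFinite ((T₀.ι ''ᵁ W).ι ≫ f) := by
    have e' : (T₀.ι ''ᵁ W).ι ≫ f = (T₀.ι.isoImage W).inv ≫ (W.ι ≫ T₀.ι ≫ f) := by
      rw [← e, Iso.inv_hom_id_assoc]
    rw [e']
    infer_instance
  refine ⟨T₀.ι ''ᵁ W, hfinU, ⟨fun y => ?_⟩⟩
  haveI : Etale ((T₀.ι ''ᵁ W).ι ≫ f) := inferInstance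
  have hopen : IsOpen (Set.range ((T₀.ι ''ᵁ W).ι ≫ f)) :=
    ((T₀.ι ''ᵁ W).ι ≫ f).isOpenMap.isOpen_range
  have hcl : IsLocalRing.closedPoint A ∈ Set.range ((T₀.ι ''ᵁ W).ι ≫ f) := by
    have h1 : (⟨t, htT₀⟩ : T₀.toScheme) ∈ W := hWfib _ ht
    exact ⟨⟨t, ⟨⟨t, htT₀⟩, h1, rfl⟩⟩, ht⟩
  exact (IsLocalRing.specializes_closedPoint (R := A) y).mem_open hopen hcl

end Groth.Agent.S18026
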