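import Groth.Statements.S1803
import Groth.Agent.Lib.Helper16.GorBC4

set_option autoImplicit false
universe u
open scoped TensorProduct
open Goren

namespace Groth.Agent.S1803

section helpers
open scoped TensorProduct
open Goren

theorem result_aux (k k' : Type u) [Field k] [Field k'] [Algebra k k'] (C : Type u) [CommRing C] [Algebra k C] [Algebra.FiniteType k C] (q : PrimeSpectrum (C ⊗[k] k')) : LocCoh.IsGorensteinLocalRing (Localization.AtPrime (q.asIdeal.comap (algebraMap C (C ⊗[k] k')))) ↔ LocCoh.IsGorensteinLocalRing (Localization.AtPrime q.asIdeal) := by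
  have hNC : IsNoetherianRing C := Algebra.FiniteType.isNoetherianRing k C
  have hNT : IsNoetherianRing (C ⊗[k] k') := by
    have h1 : Algebra.FiniteType k' (k' ⊗[k] C) := inferInstance
    have h2 : IsNoetherianRing (k' ⊗[k] C) := Algebra.FiniteType.isNoetherianRing k' _
    exact isNoetherianRing_of_ringEquiv _ (Algebra.TensorProduct.comm k k' C).toRingEquiv
  have hκ : LocCoh.IsGorensteinRing
      ((q.asIdeal.comap (algebraMap C (C ⊗[k] k'))).ResidueField ⊗[k] k') :=
    Groth.Agent.Lib.Helper16.GorBC.bc_of_fg k _
      (Groth.Agent.Lib.Helper16.GorBC.residueField_fg k C _) k'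
      (Groth.Agent.Lib.Helper16.GorBC.gorRing_of_isRegularRing k')
  exact (Groth.Agent.Lib.Helper16.GorBC.gor_tensor_atPrime_iff k k' C q.asIdeal hκ).symm

end helpers

/-- Let k'/k be any field extension, C a k-algebra of finite type, q a prime of C ⊗_k k' and p its
contraction to C. Then C_p is Gorenstein if and only if (C ⊗_k k')_q is Gorenstein. -/
theorem result (k k' : Type u) [Field k] [Field k'] [Algebra k k'] (C : Type u) [CommRing C] [Algebra k C] [Algebra.FiniteType k C] (q : PrimeSpectrum (C ⊗[k] k')) : LocCoh.IsGorensteinLocalRing (Localization.AtPrime (q.asIdeal.comap (algebraMap C (C ⊗[k] k')))) ↔ LocCoh.IsGorensteinLocalRing (Localization.AtPrime q.asIdeal) := by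
  exact result_aux k k' C q

end Groth.Agent.S1803
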