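import Groth.Statements.S18041
import Mathlib

set_option autoImplicit false
universe u
open AdjLin

namespace Groth.Agent.S18041



section Helpers
open MvPolynomial

variable {k : Type u} [Field k]

attribute [local instance] Classical.propDecidable

local notation "VV" => (Fin 4 → k)
local notation "PP" => Projectivization k (Fin 4 → k)

noncomputable def linF (ℓ : (Fin 4 → k) →ₗ[k] k) : MvPolynomial (Fin 4) k :=
  ∑ i, C (ℓ (Pi.single i 1)) * X i

theorem linF_hom (ℓ : (Fin 4 → k) →ₗ[k] k) : (linF ℓ).IsHomogeneous 1 := by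
  apply IsHomogeneous.sum
  intro i _
  have := (isHomogeneous_C (Fin 4) (ℓ (Pi.single i 1))).mul (isHomogeneous_X k i)
  simpa using this

theorem apply_eq_sum (ℓ : (Fin 4 → k) →ₗ[k] k) (v : Fin 4 → k) :
    ℓ v = ∑ i, ℓ (Pi.single i 1) * v i := by
  conv_lhs => rw [← Finset.univ_sum_single v]
  rw [map_sum]
  apply Finset.sum_congr rfl
  intro i _
  have : (Pi.single i (v i) : Fin 4 → k) = v i • Pi.single i 1 := by
    ext j
    by_cases h : j = i
    · subst h; simp
    · simp [Pi.single_eq_of_ne h]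
  rw [this, map_smul, smul_eq_mul, mul_comm]

theorem eval_linF (ℓ : (Fin 4 → k) →ₗ[k] k) (v : Fin 4 → k) :
    eval v (linF ℓ) = ℓ v := by
  rw [apply_eq_sum ℓ v, linF, map_sum]
  apply Finset.sum_congr rfl
  intro i _
  simp

/-- `S` can be cut out away from `z` by a form of degree `n`. -/
def Sep (S : Finset (Projectivization k (Fin 4 → k))) (z : Projectivization k (Fin 4 → k)) (n : ℕ) : Prop :=
  ∃ F : MvPolynomial (Fin 4) k, F.IsHomogeneous n ∧ eval z.rep F ≠ 0 ∧ ∀ z' ∈ S, eval z'.rep F = 0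

theorem Sep.mono {S T : Finset (Projectivization k (Fin 4 → k))} {z : Projectivization k (Fin 4 → k)}
    {n : ℕ} (h : Sep T z n) (hST : S ⊆ T) : Sep S z n := by
  obtain ⟨F, hF, hz, hT⟩ := h
  exact ⟨F, hF, hz, fun z' hz' => hT z' (hST hz')⟩

theorem Sep.mul_lin {S : Finset (Projectivization k (Fin 4 → k))} {z : Projectivization k (Fin 4 → k)}
    {n : ℕ} (h : Sep S z n) (ℓ : (Fin 4 → k) →ₗ[k] k) (hℓ : ℓ z.rep ≠ 0)
    (T : Finset (Projectivization k (Fin 4 → k))) (hT : ∀ z' ∈ T, ℓ z'.rep = 0) :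
    Sep (S ∪ T) z (n + 1) := by
  obtain ⟨F, hF, hz, hS⟩ := h
  refine ⟨F * linF ℓ, hF.mul (linF_hom ℓ), ?_, ?_⟩
  · rw [map_mul, eval_linF]
    exact mul_ne_zero hz hℓ
  · intro z' hz'
    rw [map_mul, eval_linF]
    rcases Finset.mem_union.mp hz' with h1 | h1
    · rw [hS z' h1, zero_mul]
    · rw [hT z' h1, mul_zero]

theorem sep_zero (z : Projectivization k (Fin 4 → k)) : Sep (∅ : Finset (Projectivization k (Fin 4 → k))) z 0 :=
  ⟨1, isHomogeneous_one _ _, by simp, by simp⟩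

theorem exists_lin_of_notMem (W : Submodule k (Fin 4 → k)) (v : Fin 4 → k) (hv : v ∉ W) :
    ∃ ℓ : (Fin 4 → k) →ₗ[k] k, ℓ v ≠ 0 ∧ ∀ w ∈ W, ℓ w = 0 := by
  obtain ⟨f, hf, hW⟩ := Submodule.exists_le_ker_of_notMem hv
  exact ⟨f, hf, fun w hw => LinearMap.mem_ker.mp (hW hw)⟩

theorem rep_notMem_span_of_ne (z z' : Projectivization k (Fin 4 → k)) (h : z' ≠ z) :
    z.rep ∉ Submodule.span k {z'.rep} := by
  intro hmem
  obtain ⟨a, ha⟩ := Submodule.mem_span_singleton.mp hmem
  apply h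
  rw [← Projectivization.mk_rep z', ← Projectivization.mk_rep z]
  rw [Projectivization.mk_eq_mk_iff' k _ _ z'.rep_nonzero z.rep_nonzero]
  have ha0 : a ≠ 0 := by
    rintro rfl
    rw [zero_smul] at ha
    exact z.rep_nonzero ha.symm
  exact ⟨a⁻¹, by rw [← ha, smul_smul, inv_mul_cancel₀ ha0, one_smul]⟩

theorem exists_lin_sep (z z' : Projectivization k (Fin 4 → k)) (h : z' ≠ z) :
    ∃ ℓ : (Fin 4 → k) →ₗ[k] k, ℓ z.rep ≠ 0 ∧ ℓ z'.rep = 0 := by
  obtain ⟨ℓ, h1, h2⟩ := exists_lin_of_notMem _ _ (rep_notMem_span_of_ne z z' h)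
  exact ⟨ℓ, h1, h2 _ (Submodule.mem_span_singleton_self _)⟩

theorem exists_lin_ne (z : Projectivization k (Fin 4 → k)) :
    ∃ ℓ : (Fin 4 → k) →ₗ[k] k, ℓ z.rep ≠ 0 := by
  obtain ⟨ℓ, h1, _⟩ := exists_lin_of_notMem (⊥ : Submodule k (Fin 4 → k)) z.rep
    (by rw [Submodule.mem_bot]; exact z.rep_nonzero)
  exact ⟨ℓ, h1⟩

theorem sep_empty (z : Projectivization k (Fin 4 → k)) (n : ℕ) :
    Sep (∅ : Finset (Projectivization k (Fin 4 → k))) z n := by
  induction n with
  | zero => exact sep_zero z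
  | succ n ih =>
    obtain ⟨ℓ, hℓ⟩ := exists_lin_ne z
    have := ih.mul_lin ℓ hℓ ∅ (by simp)
    simpa using this

theorem sep_of_card_le (z : Projectivization k (Fin 4 → k)) :
    ∀ (S : Finset (Projectivization k (Fin 4 → k))) (n : ℕ), z ∉ S → S.card ≤ n → Sep S z n := by
  classical
  intro S
  induction S using Finset.induction_on with
  | empty => intro n _ _; exact sep_empty z n
  | insert a S ha ih =>
    intro n hz hcard
    rw [Finset.card_insert_of_notMem ha] at hcard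
    obtain ⟨m, rfl⟩ : ∃ m, n = m + 1 := ⟨n - 1, by omega⟩
    have hz' : z ∉ S := fun h => hz (Finset.mem_insert_of_mem h)
    have haz : a ≠ z := fun h => hz (h ▸ Finset.mem_insert_self a S)
    obtain ⟨ℓ, h1, h2⟩ := exists_lin_sep z a haz
    have := (ih m hz' (by omega)).mul_lin ℓ h1 {a} (by simpa using h2)
    refine this.mono ?_
    intro x hx
    rcases Finset.mem_insert.mp hx with rfl | hx
    · simp
    · exact Finset.mem_union_left _ hx

theorem span_pair_eq (z₁ z₂ y₁ y₂ : Projectivization k (Fin 4 → k)) (h12 : z₁ ≠ z₂)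
    (h1 : z₁.rep ∈ Submodule.span k {y₁.rep, y₂.rep}) (h2 : z₂.rep ∈ Submodule.span k {y₁.rep, y₂.rep}) :
    Submodule.span k {z₁.rep, z₂.rep} = Submodule.span k {y₁.rep, y₂.rep} := by
  classical
  have hle : Submodule.span k {z₁.rep, z₂.rep} ≤ Submodule.span k {y₁.rep, y₂.rep} := by
    rw [Submodule.span_le]
    intro x hx
    rcases hx with rfl | rfl
    · exact h1
    · exact h2
  apply Submodule.eq_of_le_of_finrank_le hle
  have hli := Projectivization.linearIndependent_pair_iff_ne.mpr h12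
  have e1 : Module.finrank k ↥(Submodule.span k {z₁.rep, z₂.rep}) = 2 := by
    have := finrank_span_eq_card hli
    have hr : Set.range ![z₁.rep, z₂.rep] = {z₁.rep, z₂.rep} := by
      simp [Matrix.range_cons, Set.pair_comm]
    rw [hr] at this
    simpa using this
  have e2 : Module.finrank k ↥(Submodule.span k {y₁.rep, y₂.rep}) ≤ 2 := by
    have := finrank_span_finset_le_card (R := k) ({y₁.rep, y₂.rep} : Finset (Fin 4 → k))
    have h3 : ({y₁.rep, y₂.rep} : Finset (Fin 4 → k)).card ≤ 2 := Finset.card_le_two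
    have hc : ((({y₁.rep, y₂.rep} : Finset (Fin 4 → k)) : Set (Fin 4 → k))) = {y₁.rep, y₂.rep} := by
      simp
    rw [Set.finrank, hc] at this
    omega
  omega

theorem sep_lift {Z : Finset (Projectivization k (Fin 4 → k))} (ℓ : (Fin 4 → k) →ₗ[k] k)
    (z : Projectivization k (Fin 4 → k)) (hz : ℓ z.rep ≠ 0) (m : ℕ)
    (h : Sep ((Z.filter (fun y => ℓ y.rep ≠ 0)).erase z) z m) : Sep (Z.erase z) z (m + 1) := by
  have := h.mul_lin ℓ hz (Z.filter (fun y => ℓ y.rep = 0))
    (by intro z' hz'; exact (Finset.mem_filter.mp hz').2)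
  refine this.mono ?_
  intro x hx
  rw [Finset.mem_erase] at hx
  by_cases hx0 : ℓ x.rep = 0
  · exact Finset.mem_union_right _ (Finset.mem_filter.mpr ⟨hx.2, hx0⟩)
  · exact Finset.mem_union_left _
      (Finset.mem_erase.mpr ⟨hx.1, Finset.mem_filter.mpr ⟨hx.2, hx0⟩⟩)

theorem claim_step (m : ℕ)
    (ih : m ≠ 0 → ∀ Z : Finset (Projectivization k (Fin 4 → k)), Z.card ≤ 2 * m + 1 →
      ∀ z₁ ∈ Z, ∀ z₂ ∈ Z, ∀ z₃ ∈ Z, z₁ ≠ z₂ →
      z₃.rep ∉ Submodule.span k {z₁.rep, z₂.rep} → ∃ z ∈ Z, Sep (Z.erase z) z m)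
    (Z : Finset (Projectivization k (Fin 4 → k))) (hcard : Z.card ≤ 2 * (m + 1) + 1)
    (z₁ z₂ z₃ : Projectivization k (Fin 4 → k)) (h1 : z₁ ∈ Z) (h2 : z₂ ∈ Z) (h3 : z₃ ∈ Z)
    (h12 : z₁ ≠ z₂) (hn : z₃.rep ∉ Submodule.span k {z₁.rep, z₂.rep}) :
    ∃ z ∈ Z, Sep (Z.erase z) z (m + 1) := by
  obtain ⟨ℓ, hℓ3, hℓW⟩ := exists_lin_of_notMem _ _ hn
  have hℓ1 : ℓ z₁.rep = 0 := hℓW _ (Submodule.subset_span (by simp))
  have hℓ2 : ℓ z₂.rep = 0 := hℓW _ (Submodule.subset_span (by simp))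
  obtain ⟨Z', hZ'⟩ : ∃ Z' : Finset (Projectivization k (Fin 4 → k)),
      Z' = Z.filter (fun y => ℓ y.rep ≠ 0) := ⟨_, rfl⟩
  have hmem : ∀ y, y ∈ Z' ↔ y ∈ Z ∧ ℓ y.rep ≠ 0 := by
    intro y; rw [hZ', Finset.mem_filter]
  have h3' : z₃ ∈ Z' := (hmem _).mpr ⟨h3, hℓ3⟩
  have hsub : Z' ⊆ (Z.erase z₁).erase z₂ := by
    intro y hy
    have hy' := (hmem y).mp hy
    refine Finset.mem_erase.mpr ⟨?_, Finset.mem_erase.mpr ⟨?_, hy'.1⟩⟩
    · rintro rfl; exact hy'.2 hℓ2
    · rintro rfl; exact hy'.2 hℓ1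
  have hc' : Z'.card + 2 ≤ Z.card := by
    have := Finset.card_le_card hsub
    rw [Finset.card_erase_of_mem (Finset.mem_erase.mpr ⟨h12.symm, h2⟩),
      Finset.card_erase_of_mem h1] at this
    have hpos : 2 ≤ Z.card := by
      have := Finset.card_le_card (show ({z₁, z₂} : Finset _) ⊆ Z by
        intro x hx
        rcases Finset.mem_insert.mp hx with rfl | hx
        · exact h1
        · rw [Finset.mem_singleton] at hx; subst hx; exact h2)
      rw [Finset.card_pair h12] at this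
      exact this
    omega
  by_cases hsmall : Z'.card ≤ m + 1
  · refine ⟨z₃, h3, ?_⟩
    have hlift := sep_lift (Z := Z) ℓ z₃ hℓ3 m
    rw [← hZ'] at hlift
    apply hlift
    apply sep_of_card_le z₃ _ m (Finset.notMem_erase _ _)
    rw [Finset.card_erase_of_mem h3']
    omega
  · push Not at hsmall
    have hm0 : m ≠ 0 := by omega
    by_cases hcol : ∃ y₁ ∈ Z', ∃ y₂ ∈ Z', ∃ y₃ ∈ Z', y₁ ≠ y₂ ∧
        y₃.rep ∉ Submodule.span k {y₁.rep, y₂.rep}
    · obtain ⟨y₁, hy1, y₂, hy2, y₃, hy3, hy12, hyn⟩ := hcol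
      obtain ⟨z, hz, hsep⟩ := ih hm0 Z' (by omega) y₁ hy1 y₂ hy2 y₃ hy3 hy12 hyn
      have hz' := (hmem z).mp hz
      refine ⟨z, hz'.1, ?_⟩
      have hlift := sep_lift (Z := Z) ℓ z hz'.2 m
      rw [← hZ'] at hlift
      exact hlift hsep
    · push Not at hcol
      obtain ⟨y₁, hy1, y₂, hy2, hy12⟩ := Finset.one_lt_card.mp (by omega : 1 < Z'.card)
      have hall : ∀ y ∈ Z', y.rep ∈ Submodule.span k {y₁.rep, y₂.rep} :=
        fun y hy => hcol y₁ hy1 y₂ hy2 y hy hy12
      have hz12 : z₁.rep ∉ Submodule.span k {y₁.rep, y₂.rep} ∨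
          z₂.rep ∉ Submodule.span k {y₁.rep, y₂.rep} := by
        by_contra hcon
        push Not at hcon
        have := span_pair_eq z₁ z₂ y₁ y₂ h12 hcon.1 hcon.2
        exact hn (this ▸ hall z₃ h3')
      have key : ∀ z₀ ∈ Z, ℓ z₀.rep = 0 → z₀.rep ∉ Submodule.span k {y₁.rep, y₂.rep} →
          ∃ z ∈ Z, Sep (Z.erase z) z (m + 1) := by
        intro z₀ hz0 hℓ0 hz0W
        obtain ⟨ℓ₀, hℓ₀, hℓ₀W⟩ := exists_lin_of_notMem _ _ hz0W
        refine ⟨z₀, hz0, ?_⟩
        have hz0' : z₀ ∉ Z' := by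
          intro h; exact ((hmem _).mp h).2 hℓ0
        have hsub' : Z' ⊆ Z.erase z₀ := fun y hy =>
          Finset.mem_erase.mpr ⟨fun h => hz0' (h ▸ hy), ((hmem y).mp hy).1⟩
        have hcard'' : ((Z.erase z₀) \ Z').card ≤ m := by
          rw [Finset.card_sdiff_of_subset hsub', Finset.card_erase_of_mem hz0]
          omega
        have := (sep_of_card_le z₀ ((Z.erase z₀) \ Z') m (by simp) hcard'').mul_lin ℓ₀ hℓ₀ Z'
          (fun y hy => hℓ₀W _ (hall y hy))
        refine this.mono ?_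
        intro x hx
        by_cases hx' : x ∈ Z'
        · exact Finset.mem_union_right _ hx'
        · exact Finset.mem_union_left _ (Finset.mem_sdiff.mpr ⟨hx, hx'⟩)
      rcases hz12 with h | h
      · exact key z₁ h1 hℓ1 h
      · exact key z₂ h2 hℓ2 h

theorem claim : ∀ m : ℕ, 1 ≤ m → ∀ Z : Finset (Projectivization k (Fin 4 → k)), Z.card ≤ 2 * m + 1 →
      ∀ z₁ ∈ Z, ∀ z₂ ∈ Z, ∀ z₃ ∈ Z, z₁ ≠ z₂ →
      z₃.rep ∉ Submodule.span k {z₁.rep, z₂.rep} → ∃ z ∈ Z, Sep (Z.erase z) z m := by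
  intro m
  induction m with
  | zero => intro h; omega
  | succ m ih =>
    intro _ Z hcard z₁ h1 z₂ h2 z₃ h3 h12 hn
    exact claim_step m (fun hm0 => ih (by omega)) Z hcard z₁ z₂ z₃ h1 h2 h3 h12 hn

end Helpers

/-- Let k be an algebraically closed field of characteristic zero, n ≥ 1, and Z a nonempty finite set of
points of projective 3-space over k (points of the projectivization of k⁴, forms in four variables
being evaluated at the chosen representative). Suppose Z has the Cayley–Bacharach property in degree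
n: every form of degree n vanishing at all points of Z but one vanishes at that point as well. Then
Z has at least n + 2 points; and if Z has at most 2n + 1 points, all points of Z lie on one line
(their lines in k⁴ lie in a common 2-dimensional subspace). (The source states this for an arbitrary
zero-dimensional subscheme with length in place of cardinality; only the reduced case is stated
here. The lower bound needs Z nonempty: the empty set has the Cayley–Bacharach property vacuously.) -/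
theorem result (k : Type u) [Field k] [IsAlgClosed k] [CharZero k]
    (Z : Finset (Projectivization k (Fin 4 → k))) (hZ : Z.Nonempty) (n : ℕ) (hn : 1 ≤ n)
    (hCB : (∀ z ∈ Z, ∀ p : MvPolynomial (Fin 4) k, p.IsHomogeneous n →
      (∀ z' ∈ Z, z' ≠ z → MvPolynomial.eval z'.rep p = 0) → MvPolynomial.eval z.rep p = 0)) :
    n + 2 ≤ Z.card ∧
      (Z.card ≤ 2 * n + 1 → ∃ W : Submodule k (Fin 4 → k), Module.finrank k ↥W = 2 ∧ ∀ z ∈ Z, z.submodule ≤ W) := by

  classical
  have hnot : ∀ z ∈ Z, ¬ Sep (Z.erase z) z n := by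
    rintro z hz ⟨F, hF, hFz, hFS⟩
    exact hFz (hCB z hz F hF (fun z' hz' hne => hFS z' (Finset.mem_erase.mpr ⟨hne, hz'⟩)))
  have hcard : n + 2 ≤ Z.card := by
    by_contra hcon
    obtain ⟨z, hz⟩ := hZ
    apply hnot z hz
    apply sep_of_card_le z _ n (Finset.notMem_erase _ _)
    rw [Finset.card_erase_of_mem hz]
    omega
  refine ⟨hcard, fun hle => ?_⟩
  obtain ⟨z₁, h1, z₂, h2, h12⟩ := Finset.one_lt_card.mp (by omega : 1 < Z.card)
  refine ⟨Submodule.span k {z₁.rep, z₂.rep}, ?_, ?_⟩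
  · have hli := Projectivization.linearIndependent_pair_iff_ne.mpr h12
    have := finrank_span_eq_card hli
    have hr : Set.range ![z₁.rep, z₂.rep] = {z₁.rep, z₂.rep} := by
      simp [Matrix.range_cons, Set.pair_comm]
    rw [hr] at this
    simpa using this
  · intro z hz
    rw [Projectivization.submodule_eq, Submodule.span_singleton_le_iff_mem]
    by_contra hzn
    obtain ⟨z', hz', hsep⟩ := claim n hn Z hle z₁ h1 z₂ h2 z hz h12 hzn
    exact hnot z' hz' hsep

end Groth.Agent.S18041
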