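import Groth.Statements.S18042
import Mathlib
import Groth.Agent.S18041

set_option autoImplicit false
universe u
open AdjLin

namespace Groth.Agent.S18042



section Helpers
open MvPolynomial Groth.Agent.S18041

variable {k : Type u} [Field k]

attribute [local instance] Classical.propDecidable

local notation "VV" => (Fin 4 → k)
local notation "PP" => Projectivization k (Fin 4 → k)

/-- Cayley–Bacharach in degree `n`. -/
def NoSep (Z : Finset (Projectivization k (Fin 4 → k))) (n : ℕ) : Prop :=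
  ∀ z ∈ Z, ¬ Sep (Z.erase z) z n

/-- coplanar -/
def Cop (Z : Finset (Projectivization k (Fin 4 → k))) : Prop :=
  ∃ ℓ : (Fin 4 → k) →ₗ[k] k, ℓ ≠ 0 ∧ ∀ z ∈ Z, ℓ z.rep = 0

/-- on two skew lines -/
def OnTwo (Z : Finset (Projectivization k (Fin 4 → k))) : Prop :=
  ∃ W₁ W₂ : Submodule k (Fin 4 → k), Module.finrank k ↥W₁ = 2 ∧ Module.finrank k ↥W₂ = 2 ∧
    W₁ ⊓ W₂ = ⊥ ∧ ∀ z ∈ Z, z.rep ∈ W₁ ∨ z.rep ∈ W₂

theorem exists_lin_of_finrank_le (U : Submodule k (Fin 4 → k)) (h : Module.finrank k ↥U ≤ 3) :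
    ∃ ℓ : (Fin 4 → k) →ₗ[k] k, ℓ ≠ 0 ∧ ∀ w ∈ U, ℓ w = 0 := by
  have hne : U ≠ ⊤ := by
    rintro rfl
    rw [finrank_top, Module.finrank_fin_fun] at h
    omega
  obtain ⟨v, hv⟩ : ∃ v, v ∉ U := by
    by_contra hcon
    push Not at hcon
    exact hne (Submodule.eq_top_iff'.mpr hcon)
  obtain ⟨ℓ, h1, h2⟩ := exists_lin_of_notMem U v hv
  exact ⟨ℓ, fun h0 => h1 (by rw [h0]; rfl), h2⟩

theorem cop_of_forall_mem (Z : Finset (Projectivization k (Fin 4 → k))) (U : Submodule k (Fin 4 → k))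
    (h : Module.finrank k ↥U ≤ 3) (hZ : ∀ z ∈ Z, z.rep ∈ U) : Cop Z := by
  obtain ⟨ℓ, h0, hℓ⟩ := exists_lin_of_finrank_le U h
  exact ⟨ℓ, h0, fun z hz => hℓ _ (hZ z hz)⟩

theorem cop_of_card_le (Z : Finset (Projectivization k (Fin 4 → k))) (h : Z.card ≤ 3) : Cop Z := by
  have h1 := finrank_span_finset_le_card (R := k) (Z.image (fun z => z.rep))
  have hc := Finset.card_image_le (s := Z) (f := fun z : Projectivization k (Fin 4 → k) => z.rep)
  rw [Set.finrank] at h1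
  refine cop_of_forall_mem Z _ (by omega : Module.finrank k
    ↥(Submodule.span k ((Z.image (fun z => z.rep) : Finset (Fin 4 → k)) : Set (Fin 4 → k))) ≤ 3) ?_
  intro z hz
  apply Submodule.subset_span
  rw [Finset.mem_coe, Finset.mem_image]
  exact ⟨z, hz, rfl⟩

theorem finrank_span_pair_le (a b : Fin 4 → k) :
    Module.finrank k ↥(Submodule.span k ({a, b} : Set (Fin 4 → k))) ≤ 2 := by
  have := finrank_span_finset_le_card (R := k) ({a, b} : Finset (Fin 4 → k))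
  have h3 : ({a, b} : Finset (Fin 4 → k)).card ≤ 2 := Finset.card_le_two
  have hc : ((({a, b} : Finset (Fin 4 → k)) : Set (Fin 4 → k))) = {a, b} := by
    simp
  rw [Set.finrank, hc] at this
  omega

theorem finrank_span_pair_eq (z₁ z₂ : Projectivization k (Fin 4 → k)) (h12 : z₁ ≠ z₂) :
    Module.finrank k ↥(Submodule.span k ({z₁.rep, z₂.rep} : Set (Fin 4 → k))) = 2 := by
  have hli := Projectivization.linearIndependent_pair_iff_ne.mpr h12
  have := finrank_span_eq_card hli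
  have hr : Set.range ![z₁.rep, z₂.rep] = {z₁.rep, z₂.rep} := by
    simp [Matrix.range_cons, Set.pair_comm]
  rw [hr] at this
  simpa using this

theorem finrank_sup_span_le (W : Submodule k (Fin 4 → k)) (v : Fin 4 → k) :
    Module.finrank k ↥(W ⊔ Submodule.span k {v}) ≤ Module.finrank k ↥W + 1 := by
  have h1 := Submodule.finrank_add_le_finrank_add_finrank W (Submodule.span k {v})
  have h2 : Module.finrank k ↥(Submodule.span k ({v} : Set (Fin 4 → k))) ≤ 1 := by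
    have := finrank_span_finset_le_card (R := k) ({v} : Finset (Fin 4 → k))
    rw [Set.finrank, Finset.coe_singleton, Finset.card_singleton] at this
    exact this
  omega

theorem nosep_filter {Z : Finset (Projectivization k (Fin 4 → k))} {m : ℕ} (h : NoSep Z (m + 1))
    (ℓ : (Fin 4 → k) →ₗ[k] k) : NoSep (Z.filter (fun y => ℓ y.rep ≠ 0)) m := by
  intro z hz hsep
  rw [Finset.mem_filter] at hz
  exact h z hz.1 (sep_lift ℓ z hz.2 m hsep)

theorem card_ge_of_nosep {Z : Finset (Projectivization k (Fin 4 → k))} {m : ℕ} (h : NoSep Z m)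
    (hne : Z.Nonempty) : m + 2 ≤ Z.card := by
  by_contra hcon
  obtain ⟨z, hz⟩ := hne
  apply h z hz
  apply sep_of_card_le z _ m (Finset.notMem_erase _ _)
  rw [Finset.card_erase_of_mem hz]
  omega

theorem col_of_nosep {Z : Finset (Projectivization k (Fin 4 → k))} {m : ℕ} (h : NoSep Z m)
    (hm : 1 ≤ m) (hcard : Z.card ≤ 2 * m + 1)
    (y₁ y₂ y₃ : Projectivization k (Fin 4 → k)) (h1 : y₁ ∈ Z) (h2 : y₂ ∈ Z) (h3 : y₃ ∈ Z)
    (h12 : y₁ ≠ y₂) : y₃.rep ∈ Submodule.span k {y₁.rep, y₂.rep} := by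
  by_contra hn
  obtain ⟨z, hz, hsep⟩ := claim m hm Z hcard y₁ h1 y₂ h2 y₃ h3 h12 hn
  exact h z hz hsep

theorem card_filter_split (Z : Finset (Projectivization k (Fin 4 → k))) (ℓ : (Fin 4 → k) →ₗ[k] k) :
    (Z.filter (fun y => ℓ y.rep = 0)).card + (Z.filter (fun y => ℓ y.rep ≠ 0)).card = Z.card := by
  exact Finset.card_filter_add_card_filter_not (s := Z) (fun y => ℓ y.rep = 0)

theorem notMem_of_skew (W₁ W₂ : Submodule k (Fin 4 → k)) (hW : W₁ ⊓ W₂ = ⊥)
    (z : Projectivization k (Fin 4 → k)) (hz : z.rep ∈ W₁) : z.rep ∉ W₂ := by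
  intro h2
  have : z.rep ∈ W₁ ⊓ W₂ := ⟨hz, h2⟩
  rw [hW] at this
  exact z.rep_nonzero ((Submodule.mem_bot k).mp this)

theorem notMem_sup_of_skew (W₁ W₂ : Submodule k (Fin 4 → k)) (hW : W₁ ⊓ W₂ = ⊥)
    (z a : Projectivization k (Fin 4 → k))
    (hz : z.rep ∈ W₁) (ha : a.rep ∈ W₁) (hne : a ≠ z) :
    z.rep ∉ W₂ ⊔ Submodule.span k {a.rep} := by
  intro hmem
  obtain ⟨w, hw, x, hx, hsum⟩ := Submodule.mem_sup.mp hmem
  obtain ⟨c, rfl⟩ := Submodule.mem_span_singleton.mp hx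
  have hw1 : w ∈ W₁ := by
    have : w = z.rep - c • a.rep := by rw [← hsum]; abel
    rw [this]; exact W₁.sub_mem hz (W₁.smul_mem c ha)
  have hw0 : w = 0 := by
    have : w ∈ W₁ ⊓ W₂ := ⟨hw1, hw⟩
    rw [hW] at this; exact (Submodule.mem_bot k).mp this
  apply rep_notMem_span_of_ne z a hne
  rw [← hsum, hw0, zero_add]
  exact Submodule.smul_mem _ c (Submodule.mem_span_singleton_self _)

theorem count_skew {Z : Finset (Projectivization k (Fin 4 → k))} {n : ℕ} (hn : 1 ≤ n)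
    (h : NoSep Z n) (W₁ W₂ : Submodule k (Fin 4 → k))
    (hW : W₁ ⊓ W₂ = ⊥) (hZ : ∀ z ∈ Z, z.rep ∈ W₁ ∨ z.rep ∈ W₂)
    (Z₁ T : Finset (Projectivization k (Fin 4 → k)))
    (hm1 : ∀ y, y ∈ Z₁ ↔ y ∈ Z ∧ y.rep ∈ W₁) (hmT : ∀ y, y ∈ T ↔ y ∈ Z ∧ y.rep ∈ W₂) :
    Z₁ = ∅ ∨ n + 2 ≤ Z₁.card := by
  by_contra hcon
  push Not at hcon
  obtain ⟨hne, hlt⟩ := hcon
  obtain ⟨z, hz⟩ := hne
  have hz' := (hm1 z).mp hz
  obtain ⟨m, rfl⟩ : ∃ m, n = m + 1 := ⟨n - 1, by omega⟩
  apply h z hz'.1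
  by_cases hS : (Z₁.erase z) = ∅
  · have hzW₂ : z.rep ∉ W₂ := notMem_of_skew W₁ W₂ hW z hz'.2
    obtain ⟨ℓ, h1, h2⟩ := exists_lin_of_notMem W₂ z.rep hzW₂
    have := (sep_empty z m).mul_lin ℓ h1 T (fun t ht => h2 _ ((hmT t).mp ht).2)
    refine this.mono ?_
    intro x hx
    rw [Finset.mem_erase] at hx
    apply Finset.mem_union_right
    rcases hZ x hx.2 with hx1 | hx2
    · exfalso
      have : x ∈ Z₁.erase z := Finset.mem_erase.mpr ⟨hx.1, (hm1 x).mpr ⟨hx.2, hx1⟩⟩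
      rw [hS] at this; simp at this
    · exact (hmT x).mpr ⟨hx.2, hx2⟩
  · obtain ⟨a, ha⟩ := Finset.nonempty_iff_ne_empty.mpr hS
    have ha' := Finset.mem_erase.mp ha
    have ha'' := (hm1 a).mp ha'.2
    have hnot := notMem_sup_of_skew W₁ W₂ hW z a hz'.2 ha''.2 ha'.1
    obtain ⟨ℓ, h1, h2⟩ := exists_lin_of_notMem _ z.rep hnot
    have hcard : ((Z₁.erase z).erase a).card ≤ m := by
      rw [Finset.card_erase_of_mem ha, Finset.card_erase_of_mem hz]; omega
    have hz3 : z ∉ (Z₁.erase z).erase a := by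
      intro h3
      exact Finset.notMem_erase z Z₁ (Finset.mem_of_mem_erase h3)
    have hT' : ∀ t ∈ insert a T, ℓ t.rep = 0 := by
      intro t ht
      rcases Finset.mem_insert.mp ht with rfl | ht
      · exact h2 _ (Submodule.mem_sup_right (Submodule.mem_span_singleton_self _))
      · exact h2 _ (Submodule.mem_sup_left ((hmT t).mp ht).2)
    have := (sep_of_card_le z ((Z₁.erase z).erase a) m hz3 hcard).mul_lin ℓ h1 (insert a T) hT'
    refine this.mono ?_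
    intro x hx
    rw [Finset.mem_erase] at hx
    by_cases hxa : x = a
    · apply Finset.mem_union_right; rw [hxa]; exact Finset.mem_insert_self _ _
    rcases hZ x hx.2 with hx1 | hx2
    · apply Finset.mem_union_left
      exact Finset.mem_erase.mpr ⟨hxa, Finset.mem_erase.mpr ⟨hx.1, (hm1 x).mpr ⟨hx.2, hx1⟩⟩⟩
    · apply Finset.mem_union_right
      exact Finset.mem_insert_of_mem ((hmT x).mpr ⟨hx.2, hx2⟩)

theorem nonempty_filter_of_not_cop {Z : Finset (Projectivization k (Fin 4 → k))} (hncop : ¬ Cop Z)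
    (ℓ : (Fin 4 → k) →ₗ[k] k) (hℓ : ℓ ≠ 0) : (Z.filter (fun y => ℓ y.rep ≠ 0)).Nonempty := by
  rw [Finset.nonempty_iff_ne_empty]
  intro h0
  apply hncop
  refine ⟨ℓ, hℓ, fun z hz => ?_⟩
  by_contra hz0
  have : z ∈ Z.filter (fun y => ℓ y.rep ≠ 0) := Finset.mem_filter.mpr ⟨hz, hz0⟩
  rw [h0] at this; simp at this

theorem base (Z : Finset (Projectivization k (Fin 4 → k))) (hcard : Z.card ≤ 4) (hCB : NoSep Z 1) :
    Cop Z := by
  by_contra hncop
  have h4 : 4 ≤ Z.card := by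
    by_contra h; exact hncop (cop_of_card_le Z (by omega))
  obtain ⟨T, hTZ, hT3⟩ := Finset.exists_subset_card_eq (show 3 ≤ Z.card by omega)
  obtain ⟨ℓ₀, hℓ₀, hℓ₀T⟩ := cop_of_card_le T (by omega)
  have hsplit := card_filter_split Z ℓ₀
  have h3 : 3 ≤ (Z.filter (fun y => ℓ₀ y.rep = 0)).card := by
    rw [← hT3]; apply Finset.card_le_card
    intro t ht; exact Finset.mem_filter.mpr ⟨hTZ ht, hℓ₀T t ht⟩
  have hCB' := nosep_filter (m := 0) hCB ℓ₀
  have := card_ge_of_nosep hCB' (nonempty_filter_of_not_cop hncop ℓ₀ hℓ₀)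
  omega

theorem stepI (m : ℕ)
    (ih : ∀ Z : Finset (Projectivization k (Fin 4 → k)), Z.card ≤ 3 * (m + 1) + 1 →
      NoSep Z (m + 1) → Cop Z ∨ OnTwo Z)
    (Z : Finset (Projectivization k (Fin 4 → k))) (hcard : Z.card ≤ 3 * (m + 2) + 1)
    (hCB : NoSep Z (m + 2)) (hncop : ¬ Cop Z) :
    ∃ ℓ : (Fin 4 → k) →ₗ[k] k, ℓ ≠ 0 ∧
      (Z.filter (fun y => ℓ y.rep ≠ 0)).card ≤ 2 * (m + 1) + 1 := by
  have h4 : 4 ≤ Z.card := by
    by_contra h; exact hncop (cop_of_card_le Z (by omega))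
  obtain ⟨T, hTZ, hT3⟩ := Finset.exists_subset_card_eq (show 3 ≤ Z.card by omega)
  obtain ⟨ℓ₀, hℓ₀, hℓ₀T⟩ := cop_of_card_le T (by omega)
  have hsplit := card_filter_split Z ℓ₀
  have h3 : 3 ≤ (Z.filter (fun y => ℓ₀ y.rep = 0)).card := by
    rw [← hT3]; apply Finset.card_le_card
    intro t ht; exact Finset.mem_filter.mpr ⟨hTZ ht, hℓ₀T t ht⟩
  by_cases hsmall : (Z.filter (fun y => ℓ₀ y.rep ≠ 0)).card ≤ 2 * (m + 1) + 1
  · exact ⟨ℓ₀, hℓ₀, hsmall⟩
  push Not at hsmall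
  have hCB' : NoSep (Z.filter (fun y => ℓ₀ y.rep ≠ 0)) (m + 1) := nosep_filter hCB ℓ₀
  obtain ⟨Z', hZ'⟩ : ∃ Z' : Finset (Projectivization k (Fin 4 → k)),
      Z' = Z.filter (fun y => ℓ₀ y.rep ≠ 0) := ⟨_, rfl⟩
  rw [← hZ'] at hsmall hCB' hsplit
  have hmem' : ∀ y, y ∈ Z' ↔ y ∈ Z ∧ ℓ₀ y.rep ≠ 0 := by
    intro y; rw [hZ', Finset.mem_filter]
  have key : ∀ ℓ₁ : (Fin 4 → k) →ₗ[k] k, ℓ₁ ≠ 0 →
      m + 4 ≤ (Z.filter (fun y => ℓ₁ y.rep = 0)).card →
      ∃ ℓ : (Fin 4 → k) →ₗ[k] k, ℓ ≠ 0 ∧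
        (Z.filter (fun y => ℓ y.rep ≠ 0)).card ≤ 2 * (m + 1) + 1 := by
    intro ℓ₁ h1 hc
    refine ⟨ℓ₁, h1, ?_⟩
    have := card_filter_split Z ℓ₁
    omega
  have hcop : ∀ ℓ₁ : (Fin 4 → k) →ₗ[k] k, ℓ₁ ≠ 0 → (∀ z ∈ Z', ℓ₁ z.rep = 0) →
      ∃ ℓ : (Fin 4 → k) →ₗ[k] k, ℓ ≠ 0 ∧
        (Z.filter (fun y => ℓ y.rep ≠ 0)).card ≤ 2 * (m + 1) + 1 := by
    intro ℓ₁ h1 hall
    apply key ℓ₁ h1
    have : Z'.card ≤ (Z.filter (fun y => ℓ₁ y.rep = 0)).card := by
      apply Finset.card_le_card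
      intro y hy
      exact Finset.mem_filter.mpr ⟨((hmem' y).mp hy).1, hall y hy⟩
    omega
  by_cases hcop' : Cop Z'
  · obtain ⟨ℓ₁, h1, hall⟩ := hcop'
    exact hcop ℓ₁ h1 hall
  rcases ih Z' (by omega) hCB' with hc | ⟨W₁, W₂, hd1, hd2, hW, hall⟩
  · exact absurd hc hcop'
  obtain ⟨Z₁, hZ₁⟩ : ∃ Z₁ : Finset (Projectivization k (Fin 4 → k)),
      Z₁ = Z'.filter (fun y => y.rep ∈ W₁) := ⟨_, rfl⟩
  obtain ⟨Z₂, hZ₂⟩ : ∃ Z₂ : Finset (Projectivization k (Fin 4 → k)),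
      Z₂ = Z'.filter (fun y => y.rep ∈ W₂) := ⟨_, rfl⟩
  have hm1 : ∀ y, y ∈ Z₁ ↔ y ∈ Z' ∧ y.rep ∈ W₁ := by
    intro y; rw [hZ₁, Finset.mem_filter]
  have hm2 : ∀ y, y ∈ Z₂ ↔ y ∈ Z' ∧ y.rep ∈ W₂ := by
    intro y; rw [hZ₂, Finset.mem_filter]
  have c1 := count_skew (by omega : 1 ≤ m + 1) hCB' W₁ W₂ hW hall Z₁ Z₂ hm1 hm2
  have hne1 : Z₁ ≠ ∅ := by
    intro h0
    apply hcop'
    apply cop_of_forall_mem Z' W₂ (by omega)
    intro z hz
    rcases hall z hz with h | h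
    · exfalso
      have : z ∈ Z₁ := (hm1 z).mpr ⟨hz, h⟩
      rw [h0] at this; simp at this
    · exact h
  have hne2 : Z₂ ≠ ∅ := by
    intro h0
    apply hcop'
    apply cop_of_forall_mem Z' W₁ (by omega)
    intro z hz
    rcases hall z hz with h | h
    · exact h
    · exfalso
      have : z ∈ Z₂ := (hm2 z).mpr ⟨hz, h⟩
      rw [h0] at this; simp at this
  have c1' : m + 3 ≤ Z₁.card := by
    rcases c1 with h | h
    · exact absurd h hne1
    · omega
  obtain ⟨y, hy⟩ := Finset.nonempty_iff_ne_empty.mpr hne2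
  have hy' := (hm2 y).mp hy
  obtain ⟨ℓ₁, h1, hℓ₁⟩ := exists_lin_of_finrank_le (W₁ ⊔ Submodule.span k {y.rep})
    (by have := finrank_sup_span_le W₁ y.rep; omega)
  apply key ℓ₁ h1
  have hyn : y ∉ Z₁ := by
    intro hy1
    have := (hm1 y).mp hy1
    exact notMem_of_skew W₁ W₂ hW y this.2 hy'.2
  have : (insert y Z₁).card ≤ (Z.filter (fun y => ℓ₁ y.rep = 0)).card := by
    apply Finset.card_le_card
    intro x hx
    rcases Finset.mem_insert.mp hx with rfl | hx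
    · exact Finset.mem_filter.mpr ⟨((hmem' x).mp hy'.1).1,
        hℓ₁ _ (Submodule.mem_sup_right (Submodule.mem_span_singleton_self _))⟩
    · have := (hm1 x).mp hx
      exact Finset.mem_filter.mpr ⟨((hmem' x).mp this.1).1, hℓ₁ _ (Submodule.mem_sup_left this.2)⟩
  rw [Finset.card_insert_of_notMem hyn] at this
  omega

theorem stepII (m : ℕ) (Z : Finset (Projectivization k (Fin 4 → k)))
    (hcard : Z.card ≤ 3 * (m + 2) + 1) (hCB : NoSep Z (m + 2))
    (hncop : ¬ Cop Z) (ℓ : (Fin 4 → k) →ₗ[k] k) (hℓ : ℓ ≠ 0)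
    (hsmall : (Z.filter (fun y => ℓ y.rep ≠ 0)).card ≤ 2 * (m + 1) + 1) : OnTwo Z := by
  have hCB' : NoSep (Z.filter (fun y => ℓ y.rep ≠ 0)) (m + 1) := nosep_filter hCB ℓ
  have hne' := nonempty_filter_of_not_cop hncop ℓ hℓ
  obtain ⟨Z', hZ'⟩ : ∃ Z' : Finset (Projectivization k (Fin 4 → k)),
      Z' = Z.filter (fun y => ℓ y.rep ≠ 0) := ⟨_, rfl⟩
  rw [← hZ'] at hsmall hCB' hne'
  have hmem' : ∀ y, y ∈ Z' ↔ y ∈ Z ∧ ℓ y.rep ≠ 0 := by
    intro y; rw [hZ', Finset.mem_filter]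
  have hc' : m + 3 ≤ Z'.card := card_ge_of_nosep hCB' hne'
  obtain ⟨y₁, hy1, y₂, hy2, hy12⟩ := Finset.one_lt_card.mp (by omega : 1 < Z'.card)
  have hcol' : ∀ y ∈ Z', y.rep ∈ Submodule.span k {y₁.rep, y₂.rep} :=
    fun y hy => col_of_nosep hCB' (by omega) hsmall y₁ y₂ y hy1 hy2 hy hy12
  obtain ⟨q, hq, hqW⟩ : ∃ q ∈ Z, q.rep ∉ Submodule.span k {y₁.rep, y₂.rep} := by
    by_contra hcon
    push Not at hcon
    exact hncop (cop_of_forall_mem Z _
      (by have := finrank_span_pair_le y₁.rep y₂.rep; omega) hcon)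
  obtain ⟨ℓ'', hℓ'', hℓ''U⟩ := exists_lin_of_finrank_le
    (Submodule.span k {y₁.rep, y₂.rep} ⊔ Submodule.span k {q.rep})
    (by
      have h1 := finrank_sup_span_le (Submodule.span k {y₁.rep, y₂.rep}) q.rep
      have h2 := finrank_span_pair_le y₁.rep y₂.rep
      omega)
  have hCB'' : NoSep (Z.filter (fun y => ℓ'' y.rep ≠ 0)) (m + 1) := nosep_filter hCB ℓ''
  have hne'' := nonempty_filter_of_not_cop hncop ℓ'' hℓ''
  obtain ⟨Z'', hZ''⟩ : ∃ Z'' : Finset (Projectivization k (Fin 4 → k)),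
      Z'' = Z.filter (fun y => ℓ'' y.rep ≠ 0) := ⟨_, rfl⟩
  rw [← hZ''] at hCB'' hne''
  have hmem'' : ∀ y, y ∈ Z'' ↔ y ∈ Z ∧ ℓ'' y.rep ≠ 0 := by
    intro y; rw [hZ'', Finset.mem_filter]
  have hdisj : ∀ y ∈ Z', y ∉ Z'' := by
    intro y hy hy''
    exact ((hmem'' y).mp hy'').2 (hℓ''U _ (Submodule.mem_sup_left (hcol' y hy)))
  have hq'' : q ∉ Z'' := fun h => ((hmem'' q).mp h).2
    (hℓ''U _ (Submodule.mem_sup_right (Submodule.mem_span_singleton_self _)))
  have hq' : q ∉ Z' := fun h => hqW (hcol' q h)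
  have hcard'' : Z'.card + Z''.card + 1 ≤ Z.card := by
    have hsub : insert q (Z' ∪ Z'') ⊆ Z := by
      intro x hx
      rcases Finset.mem_insert.mp hx with rfl | hx
      · exact hq
      rcases Finset.mem_union.mp hx with h | h
      · exact ((hmem' x).mp h).1
      · exact ((hmem'' x).mp h).1
    have := Finset.card_le_card hsub
    have hqn : q ∉ Z' ∪ Z'' := by
      intro h
      rcases Finset.mem_union.mp h with h | h
      · exact hq' h
      · exact hq'' h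
    rw [Finset.card_insert_of_notMem hqn,
      Finset.card_union_eq_card_add_card.mpr (Finset.disjoint_left.mpr hdisj)] at this
    omega
  have hc'' : m + 3 ≤ Z''.card := card_ge_of_nosep hCB'' hne''
  have hsmall'' : Z''.card ≤ 2 * (m + 1) + 1 := by omega
  obtain ⟨x₁, hx1, x₂, hx2, hx12⟩ := Finset.one_lt_card.mp (by omega : 1 < Z''.card)
  have hcol'' : ∀ y ∈ Z'', y.rep ∈ Submodule.span k {x₁.rep, x₂.rep} :=
    fun y hy => col_of_nosep hCB'' (by omega) hsmall'' x₁ x₂ y hx1 hx2 hy hx12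
  obtain ⟨W', hW'⟩ : ∃ W' : Submodule k (Fin 4 → k), W' = Submodule.span k {y₁.rep, y₂.rep} :=
    ⟨_, rfl⟩
  obtain ⟨W, hW⟩ : ∃ W : Submodule k (Fin 4 → k), W = Submodule.span k {x₁.rep, x₂.rep} :=
    ⟨_, rfl⟩
  rw [← hW'] at hcol'
  rw [← hW] at hcol''
  have hall : ∀ z ∈ Z, z.rep ∈ W' ∨ z.rep ∈ W := by
    by_contra hcon
    push Not at hcon
    obtain ⟨z₀, hz0, hz0W', hz0W⟩ := hcon
    obtain ⟨Z₀, hZ₀⟩ : ∃ Z₀ : Finset (Projectivization k (Fin 4 → k)),
        Z₀ = Z.filter (fun y => y.rep ∉ W' ∧ y.rep ∉ W) := ⟨_, rfl⟩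
    have hmem₀ : ∀ y, y ∈ Z₀ ↔ y ∈ Z ∧ y.rep ∉ W' ∧ y.rep ∉ W := by
      intro y; rw [hZ₀, Finset.mem_filter]
    have hz0' : z₀ ∈ Z₀ := (hmem₀ z₀).mpr ⟨hz0, hz0W', hz0W⟩
    have hcard₀ : Z₀.card + (Z'.card + Z''.card) ≤ Z.card := by
      have hsub : Z₀ ∪ (Z' ∪ Z'') ⊆ Z := by
        intro x hx
        rcases Finset.mem_union.mp hx with h | h
        · exact ((hmem₀ x).mp h).1
        rcases Finset.mem_union.mp h with h | h
        · exact ((hmem' x).mp h).1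
        · exact ((hmem'' x).mp h).1
      have := Finset.card_le_card hsub
      have hd0 : Disjoint Z₀ (Z' ∪ Z'') := by
        rw [Finset.disjoint_left]
        intro x hx0 hx
        have hx0' := (hmem₀ x).mp hx0
        rcases Finset.mem_union.mp hx with h | h
        · exact hx0'.2.1 (hcol' x h)
        · exact hx0'.2.2 (hcol'' x h)
      rw [Finset.card_union_eq_card_add_card.mpr hd0,
        Finset.card_union_eq_card_add_card.mpr (Finset.disjoint_left.mpr hdisj)] at this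
      exact this
    have hce : (Z₀.erase z₀).card ≤ m := by
      rw [Finset.card_erase_of_mem hz0']; omega
    obtain ⟨ℓa, ha1, ha2⟩ := exists_lin_of_notMem W' z₀.rep hz0W'
    obtain ⟨ℓb, hb1, hb2⟩ := exists_lin_of_notMem W z₀.rep hz0W
    have s0 := sep_of_card_le z₀ (Z₀.erase z₀) m (Finset.notMem_erase _ _) hce
    have s1 := s0.mul_lin ℓa ha1 (Z.filter (fun y => y.rep ∈ W'))
      (fun t ht => ha2 _ (Finset.mem_filter.mp ht).2)
    have s2 := s1.mul_lin ℓb hb1 (Z.filter (fun y => y.rep ∈ W))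
      (fun t ht => hb2 _ (Finset.mem_filter.mp ht).2)
    apply hCB z₀ hz0
    refine s2.mono ?_
    intro x hx
    rw [Finset.mem_erase] at hx
    by_cases h1 : x.rep ∈ W'
    · exact Finset.mem_union_left _ (Finset.mem_union_right _ (Finset.mem_filter.mpr ⟨hx.2, h1⟩))
    by_cases h2 : x.rep ∈ W
    · exact Finset.mem_union_right _ (Finset.mem_filter.mpr ⟨hx.2, h2⟩)
    · exact Finset.mem_union_left _ (Finset.mem_union_left _
        (Finset.mem_erase.mpr ⟨hx.1, (hmem₀ x).mpr ⟨hx.2, h1, h2⟩⟩))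
  have hd' : Module.finrank k ↥W' = 2 := by rw [hW']; exact finrank_span_pair_eq y₁ y₂ hy12
  have hd : Module.finrank k ↥W = 2 := by rw [hW]; exact finrank_span_pair_eq x₁ x₂ hx12
  by_cases hinf : W' ⊓ W = ⊥
  · exact ⟨W', W, hd', hd, hinf, hall⟩
  · exfalso
    apply hncop
    apply cop_of_forall_mem Z (W' ⊔ W)
    · have h1 := Submodule.finrank_sup_add_finrank_inf_eq W' W
      have h2 : 1 ≤ Module.finrank k ↥(W' ⊓ W) := by
        by_contra h
        apply hinf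
        apply Submodule.finrank_eq_zero.mp
        omega
      omega
    · intro z hz
      rcases hall z hz with h | h
      · exact Submodule.mem_sup_left h
      · exact Submodule.mem_sup_right h

theorem main : ∀ n : ℕ, 1 ≤ n → ∀ Z : Finset (Projectivization k (Fin 4 → k)),
    Z.card ≤ 3 * n + 1 → NoSep Z n → Cop Z ∨ OnTwo Z := by
  intro n
  induction n with
  | zero => intro h; omega
  | succ n ih =>
    intro _ Z hcard hCB
    rcases Nat.eq_zero_or_pos n with rfl | hn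
    · left; exact base Z (by omega) hCB
    · obtain ⟨m, rfl⟩ : ∃ m, n = m + 1 := ⟨n - 1, by omega⟩
      by_cases hcop : Cop Z
      · left; exact hcop
      right
      obtain ⟨ℓ, hℓ, hsmall⟩ := stepI m (fun Z' h1 h2 => ih (by omega) Z' h1 h2) Z hcard hCB hcop
      exact stepII m Z hcard hCB hcop ℓ hℓ hsmall

theorem final (Z : Finset (Projectivization k (Fin 4 → k))) (n : ℕ) (hn : 1 ≤ n)
    (hCB : (∀ z ∈ Z, ∀ p : MvPolynomial (Fin 4) k, p.IsHomogeneous n →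
      (∀ z' ∈ Z, z' ≠ z → MvPolynomial.eval z'.rep p = 0) → MvPolynomial.eval z.rep p = 0))
    (hcard : Z.card ≤ 3 * n + 1) :
    (∃ W : Submodule k (Fin 4 → k), Module.finrank k ↥W = 3 ∧ ∀ z ∈ Z, z.submodule ≤ W) ∨
      (∃ W₁ W₂ : Submodule k (Fin 4 → k), Module.finrank k ↥W₁ = 2 ∧ Module.finrank k ↥W₂ = 2 ∧ W₁ ⊓ W₂ = ⊥ ∧
        (∀ z ∈ Z, z.submodule ≤ W₁ ∨ z.submodule ≤ W₂) ∧
        n + 1 ≤ Set.ncard {z : Projectivization k (Fin 4 → k) | z ∈ Z ∧ z.submodule ≤ W₁} ∧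
        n + 1 ≤ Set.ncard {z : Projectivization k (Fin 4 → k) | z ∈ Z ∧ z.submodule ≤ W₂} ∧
        2 * n + 3 ≤ Z.card) := by
  have hnot : NoSep Z n := by
    rintro z hz ⟨F, hF, hFz, hFS⟩
    exact hFz (hCB z hz F hF (fun z' hz' hne => hFS z' (Finset.mem_erase.mpr ⟨hne, hz'⟩)))
  have hsub : ∀ (z : Projectivization k (Fin 4 → k)) (W : Submodule k (Fin 4 → k)),
      z.submodule ≤ W ↔ z.rep ∈ W := by
    intro z W
    rw [Projectivization.submodule_eq, Submodule.span_singleton_le_iff_mem]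
  by_cases hcop : Cop Z
  · left
    obtain ⟨ℓ, hℓ, hall⟩ := hcop
    refine ⟨LinearMap.ker ℓ, ?_, ?_⟩
    · have h1 := Module.Dual.finrank_ker_add_one_of_ne_zero hℓ
      rw [Module.finrank_fin_fun] at h1
      omega
    · intro z hz
      rw [hsub]
      exact LinearMap.mem_ker.mpr (hall z hz)
  · right
    rcases main n hn Z hcard hnot with h | ⟨W₁, W₂, hd1, hd2, hW, hall⟩
    · exact absurd h hcop
    obtain ⟨Z₁, hZ₁⟩ : ∃ Z₁ : Finset (Projectivization k (Fin 4 → k)),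
        Z₁ = Z.filter (fun y => y.rep ∈ W₁) := ⟨_, rfl⟩
    obtain ⟨Z₂, hZ₂⟩ : ∃ Z₂ : Finset (Projectivization k (Fin 4 → k)),
        Z₂ = Z.filter (fun y => y.rep ∈ W₂) := ⟨_, rfl⟩
    have hm1 : ∀ y, y ∈ Z₁ ↔ y ∈ Z ∧ y.rep ∈ W₁ := by
      intro y; rw [hZ₁, Finset.mem_filter]
    have hm2 : ∀ y, y ∈ Z₂ ↔ y ∈ Z ∧ y.rep ∈ W₂ := by
      intro y; rw [hZ₂, Finset.mem_filter]
    have c1 := count_skew hn hnot W₁ W₂ hW hall Z₁ Z₂ hm1 hm2
    have c2 := count_skew hn hnot W₂ W₁ (by rw [inf_comm]; exact hW)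
      (fun z hz => (hall z hz).symm) Z₂ Z₁ hm2 hm1
    have hne1 : Z₁ ≠ ∅ := by
      intro h0
      apply hcop
      apply cop_of_forall_mem Z W₂ (by omega)
      intro z hz
      rcases hall z hz with h | h
      · exfalso
        have : z ∈ Z₁ := (hm1 z).mpr ⟨hz, h⟩
        rw [h0] at this; simp at this
      · exact h
    have hne2 : Z₂ ≠ ∅ := by
      intro h0
      apply hcop
      apply cop_of_forall_mem Z W₁ (by omega)
      intro z hz
      rcases hall z hz with h | h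
      · exact h
      · exfalso
        have : z ∈ Z₂ := (hm2 z).mpr ⟨hz, h⟩
        rw [h0] at this; simp at this
    have c1' : n + 2 ≤ Z₁.card := by
      rcases c1 with h | h
      · exact absurd h hne1
      · exact h
    have c2' : n + 2 ≤ Z₂.card := by
      rcases c2 with h | h
      · exact absurd h hne2
      · exact h
    have e1 : {z : Projectivization k (Fin 4 → k) | z ∈ Z ∧ z.submodule ≤ W₁} = ↑Z₁ := by
      ext z
      rw [Finset.mem_coe, hm1, ← hsub]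
      rfl
    have e2 : {z : Projectivization k (Fin 4 → k) | z ∈ Z ∧ z.submodule ≤ W₂} = ↑Z₂ := by
      ext z
      rw [Finset.mem_coe, hm2, ← hsub]
      rfl
    have hdisj : Disjoint Z₁ Z₂ := by
      rw [Finset.disjoint_left]
      intro x h1 h2
      exact notMem_of_skew W₁ W₂ hW x ((hm1 x).mp h1).2 ((hm2 x).mp h2).2
    have htot : Z₁.card + Z₂.card ≤ Z.card := by
      rw [← Finset.card_union_eq_card_add_card.mpr hdisj]
      apply Finset.card_le_card
      intro x hx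
      rcases Finset.mem_union.mp hx with h | h
      · exact ((hm1 x).mp h).1
      · exact ((hm2 x).mp h).1
    refine ⟨W₁, W₂, hd1, hd2, hW, ?_, ?_, ?_, ?_⟩
    · intro z hz
      rw [hsub, hsub]
      exact hall z hz
    · rw [e1, Set.ncard_coe_finset]; omega
    · rw [e2, Set.ncard_coe_finset]; omega
    · omega

end Helpers

/-- Let k be an algebraically closed field of characteristic zero, n ≥ 1, and Z a finite set of points
of projective 3-space over k (points of the projectivization of k⁴, forms in four variables being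
evaluated at the chosen representative) with the Cayley–Bacharach property in degree n: every form
of degree n vanishing at all points of Z but one vanishes at that point as well. If Z has at most 3n
+ 1 points, then either all points of Z lie in one plane (a common 3-dimensional subspace of k⁴), or
they lie on the union of two skew lines (two 2-dimensional subspaces of k⁴ meeting in zero), each
line carrying at least n + 1 points of Z, and Z has at least 2n + 3 points. (The source states this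
for an arbitrary zero-dimensional subscheme, with a third alternative, containment in the
first-order thickening of a line; for the reduced subschemes treated here that alternative is a case
of coplanarity.) -/
theorem result (k : Type u) [Field k] [IsAlgClosed k] [CharZero k]
    (Z : Finset (Projectivization k (Fin 4 → k))) (n : ℕ) (hn : 1 ≤ n)
    (hCB : (∀ z ∈ Z, ∀ p : MvPolynomial (Fin 4) k, p.IsHomogeneous n →
      (∀ z' ∈ Z, z' ≠ z → MvPolynomial.eval z'.rep p = 0) → MvPolynomial.eval z.rep p = 0))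
    (hcard : Z.card ≤ 3 * n + 1) :
    (∃ W : Submodule k (Fin 4 → k), Module.finrank k ↥W = 3 ∧ ∀ z ∈ Z, z.submodule ≤ W) ∨
      (∃ W₁ W₂ : Submodule k (Fin 4 → k), Module.finrank k ↥W₁ = 2 ∧ Module.finrank k ↥W₂ = 2 ∧ W₁ ⊓ W₂ = ⊥ ∧
        (∀ z ∈ Z, z.submodule ≤ W₁ ∨ z.submodule ≤ W₂) ∧
        n + 1 ≤ Set.ncard {z : Projectivization k (Fin 4 → k) | z ∈ Z ∧ z.submodule ≤ W₁} ∧
        n + 1 ≤ Set.ncard {z : Projectivization k (Fin 4 → k) | z ∈ Z ∧ z.submodule ≤ W₂} ∧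
        2 * n + 3 ≤ Z.card) := by

  exact final Z n hn hCB hcard

end Groth.Agent.S18042
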