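import Groth.Statements.S18049
import Mathlib

set_option autoImplicit false
open STCI

namespace Groth.Agent.S18049

/-- For natural numbers 0 < k < N such that k does not divide N, ⌊N/k⌋ ≤ (N - k)/gcd(k, N); stated here
in the equivalent cleared form ⌊N/k⌋ · gcd(k, N) ≤ N - k. -/
theorem result (k N : ℕ) (hk : 0 < k) (hkN : k < N) (hndvd : ¬ k ∣ N) :
    N / k * Nat.gcd k N ≤ N - k := by
  have hg : 0 < Nat.gcd k N := Nat.gcd_pos_of_pos_left N hk
  have hgk : Nat.gcd k N ∣ k := Nat.gcd_dvd_left k N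
  have hgN : Nat.gcd k N ∣ N := Nat.gcd_dvd_right k N
  have hdm : k * (N / k) + N % k = N := Nat.div_add_mod N k
  have hr0 : N % k ≠ 0 := fun h => hndvd (Nat.dvd_of_mod_eq_zero h)
  have hrk : N % k < k := Nat.mod_lt N hk
  have hgr : Nat.gcd k N ∣ N % k := (Nat.dvd_mod_iff hgk).mpr hgN
  have hgr' : Nat.gcd k N ≤ N % k := Nat.le_of_dvd (Nat.pos_of_ne_zero hr0) hgr
  have h2g : 2 * Nat.gcd k N ≤ k := by
    obtain ⟨c, hc⟩ := hgk
    have hc2 : 2 ≤ c := by
      rcases c with _ | _ | c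
      · omega
      · exfalso
        simp only [zero_add, mul_one] at hc
        omega
      · omega
    calc 2 * Nat.gcd k N = Nat.gcd k N * 2 := by ring
      _ ≤ Nat.gcd k N * c := Nat.mul_le_mul_left _ hc2
      _ = k := hc.symm
  have hq : 1 ≤ N / k := Nat.div_pos hkN.le hk
  apply Nat.le_sub_of_add_le
  obtain ⟨q, hq'⟩ : ∃ q, N / k = q + 1 := ⟨N / k - 1, by omega⟩
  rw [hq'] at hdm ⊢
  nlinarith [Nat.zero_le q, Nat.zero_le (Nat.gcd k N)]

end Groth.Agent.S18049
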