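import Groth.Statements.S18053
import Mathlib

set_option autoImplicit false
open STCI

namespace Groth.Agent.S18053

/-- Let (p_k)_{k ≥ 1} be a sequence of nonnegative integers and n a nonnegative integer such that (i)
p_1 ≤ 9 - (2/5)n, (ii) p_1 ≥ p_2 ≥ p_3 ≥ ⋯, (iii) Σ_k p_k ≤ 19 - n, and (iv) n/4 + Σ_{k ≥ 1}
p_k/(k(k+1)) ≥ 6. Then n = 0 and (p_k) is one of (9, 8, 2), (9, 9), (9, 9, 1) (followed by zeros).
Here the sequence is indexed from 0 (so p 0 is p_1 and the weight of p k is 1/((k+1)(k+2))), (iii)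
is stated for every partial sum, and the series in (iv) is the real sum Σ' over all k. -/
theorem result (p : ℕ → ℕ) (n : ℕ)
    (h1 : (p 0 : ℝ) ≤ 9 - (2 / 5 : ℝ) * n) (h2 : Antitone p)
    (h3 : ∀ m : ℕ, ((∑ k ∈ Finset.range m, p k : ℕ) : ℝ) ≤ 19 - (n : ℝ))
    (h4 : (6 : ℝ) ≤ (n : ℝ) / 4 + ∑' k : ℕ, (p k : ℝ) / (((k : ℝ) + 1) * ((k : ℝ) + 2))) :
    n = 0 ∧ (p = (fun k => if k = 0 then 9 else if k = 1 then 8 else if k = 2 then 2 else 0)
      ∨ p = (fun k => if k = 0 then 9 else if k = 1 then 9 else 0)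
      ∨ p = (fun k => if k = 0 then 9 else if k = 1 then 9 else if k = 2 then 1 else 0)) := by
  classical
  have hn0 : (0:ℝ) ≤ n := Nat.cast_nonneg n
  -- partial sums in ℕ
  have h3' : ∀ m : ℕ, (∑ k ∈ Finset.range m, p k) + n ≤ 19 := by
    intro m
    have := h3 m
    have h' : (((∑ k ∈ Finset.range m, p k) + n : ℕ) : ℝ) ≤ ((19 : ℕ) : ℝ) := by
      push_cast at this ⊢
      linarith
    exact_mod_cast h'
  -- p 19 = 0
  have hp19 : p 19 = 0 := by
    by_contra hne
    have h1 : ∀ k ∈ Finset.range 20, 1 ≤ p k := by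
      intro k hk
      have hk' : k ≤ 19 := by
        have := Finset.mem_range.mp hk
        omega
      have := h2 hk'
      omega
    have h4 : ∑ k ∈ Finset.range 20, 1 ≤ ∑ k ∈ Finset.range 20, p k := Finset.sum_le_sum h1
    simp only [Finset.sum_const, Finset.card_range, smul_eq_mul, mul_one] at h4
    have := h3' 20
    omega
  have hpz : ∀ k, 19 ≤ k → p k = 0 := by
    intro k hk
    have := h2 hk
    omega
  -- the series is a finite sum
  have hts : ∑' k : ℕ, (p k : ℝ) / (((k : ℝ) + 1) * ((k : ℝ) + 2)) =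
      ∑ k ∈ Finset.range (3 + 17), (p k : ℝ) / (((k : ℝ) + 1) * ((k : ℝ) + 2)) := by
    apply tsum_eq_sum
    intro k hk
    have hk' : 19 ≤ k := by
      have := Finset.mem_range.not.mp hk
      omega
    rw [hpz k hk']
    simp
  rw [hts, Finset.sum_range_add] at h4
  -- bound the tail
  have htail : ∑ x ∈ Finset.range 17, (p (3 + x) : ℝ) / ((((3 + x : ℕ) : ℝ) + 1) * (((3 + x : ℕ) : ℝ) + 2)) ≤
      ∑ x ∈ Finset.range 17, (p (3 + x) : ℝ) / 20 := by
    apply Finset.sum_le_sum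
    intro x _
    have hx : (0:ℝ) ≤ x := Nat.cast_nonneg x
    have hpx : (0:ℝ) ≤ p (3 + x) := Nat.cast_nonneg _
    apply div_le_div_of_nonneg_left hpx (by norm_num)
    push_cast
    nlinarith
  have hsum20 := h3' (3 + 17)
  rw [Finset.sum_range_add] at hsum20
  have hsum20' : ((∑ x ∈ Finset.range 3, p x : ℕ) : ℝ) + ((∑ x ∈ Finset.range 17, p (3 + x) : ℕ) : ℝ) + n ≤ 19 := by
    exact_mod_cast hsum20
  rw [← Finset.sum_div] at htail
  have e3 : ∑ x ∈ Finset.range 3, (p x : ℝ) / (((x : ℝ) + 1) * ((x : ℝ) + 2)) =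
      (p 0 : ℝ) / 2 + (p 1 : ℝ) / 6 + (p 2 : ℝ) / 12 := by
    simp only [Finset.sum_range_succ, Finset.sum_range_zero]
    norm_num
  have e3' : ((∑ x ∈ Finset.range 3, p x : ℕ) : ℝ) = (p 0 : ℝ) + p 1 + p 2 := by
    simp only [Finset.sum_range_succ, Finset.sum_range_zero]
    push_cast
    ring
  rw [e3] at h4
  rw [e3'] at hsum20'
  have hcast : ((∑ x ∈ Finset.range 17, p (3 + x) : ℕ) : ℝ) = ∑ x ∈ Finset.range 17, (p (3 + x) : ℝ) := by
    push_cast
    rfl
  rw [hcast] at hsum20'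
  -- main linear inequality (I), in ℝ then in ℕ
  have hI : (303 : ℝ) ≤ 12 * n + 27 * p 0 + 7 * p 1 + 2 * p 2 := by
    linarith
  have hI' : 303 ≤ 12 * n + 27 * p 0 + 7 * p 1 + 2 * p 2 := by exact_mod_cast hI
  have hII : 5 * p 0 + 2 * n ≤ 45 := by
    have : ((5 * p 0 + 2 * n : ℕ) : ℝ) ≤ ((45 : ℕ) : ℝ) := by
      push_cast
      linarith
    exact_mod_cast this
  have h10 : p 1 ≤ p 0 := h2 (by omega)
  have h21 : p 2 ≤ p 1 := h2 (by omega)
  have h32 : p 3 ≤ p 2 := h2 (by omega)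
  have hs3 := h3' 3
  have hs4 := h3' 4
  simp only [Finset.sum_range_succ, Finset.sum_range_zero] at hs3 hs4
  have hn : n = 0 := by omega
  have hp0 : p 0 = 9 := by omega
  have hcases : (p 1 = 9 ∧ p 2 ≤ 1) ∨ (p 1 = 8 ∧ p 2 = 2) := by omega
  have hp3 : p 2 = 0 ∨ p 3 = 0 := by omega
  refine ⟨hn, ?_⟩
  have hge3 : ∀ k, 3 ≤ k → p 2 ≠ 0 → p k = 0 := by
    intro k hk h
    have := h2 hk
    omega
  have hge2 : ∀ k, 2 ≤ k → p 2 = 0 → p k = 0 := by
    intro k hk h
    have := h2 hk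
    omega
  rcases hcases with ⟨h1, h2'⟩ | ⟨h1, h2'⟩
  · rcases Nat.eq_zero_or_pos (p 2) with hz | hpos
    · right; left
      funext k
      rcases k with _ | _ | k
      · simpa using hp0
      · simpa using h1
      · have := hge2 (k + 2) (by omega) hz
        simpa using this
    · right; right
      have hp2 : p 2 = 1 := by omega
      funext k
      rcases k with _ | _ | _ | k
      · simpa using hp0
      · simpa using h1
      · simpa using hp2
      · have := hge3 (k + 3) (by omega) (by omega)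
        simpa using this
  · left
    funext k
    rcases k with _ | _ | _ | k
    · simpa using hp0
    · simpa using h1
    · simpa using h2'
    · have := hge3 (k + 3) (by omega) (by omega)
      simpa using this

end Groth.Agent.S18053
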