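import Groth.Statements.S18054
import Mathlib

set_option autoImplicit false
open STCI

namespace Groth.Agent.S18054

/-- Let s, t, d, g be integers with t ≥ s ≥ 4, d ≥ 1, g ≥ 0 and d dividing st; put n = st/d and assume n
≥ 2; put r = d[n(s - 4) + t] + (2 - 2g)n and assume r ≤ (s/3)(2s² - 6s + 7) - 1. Then d ≤ g + 3.
(The bound is written cleared of the denominator 3; s(2s² - 6s + 7) is always divisible by 3, so
this is the same condition.) -/
theorem result (s t d g n : ℤ) (hs : 4 ≤ s) (hst : s ≤ t) (hd : 1 ≤ d) (hg : 0 ≤ g)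
    (hn : s * t = d * n) (hn2 : 2 ≤ n)
    (hr : 3 * (d * (n * (s - 4) + t) + (2 - 2 * g) * n) ≤ s * (2 * s ^ 2 - 6 * s + 7) - 3) :
    d ≤ g + 3 := by
  by_contra hcon
  push Not at hcon
  have hd4 : 4 ≤ d := by omega
  have hn0 : 0 < n := by omega
  have h1 : (10 - 2 * d) * n ≤ (2 - 2 * g) * n :=
    mul_le_mul_of_nonneg_right (by omega) hn0.le
  -- key inequality, multiplied by d
  have key : 3 * t * (s * (s - 6) * d + d ^ 2 + 10 * s) ≤ d * (s * (2 * s ^ 2 - 6 * s + 7) - 3) := by
    have h2 : 3 * (d * (n * (s - 4) + t) + (10 - 2 * d) * n) ≤ s * (2 * s ^ 2 - 6 * s + 7) - 3 := by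
      linarith
    have h3 : d * (3 * (d * (n * (s - 4) + t) + (10 - 2 * d) * n)) ≤
        d * (s * (2 * s ^ 2 - 6 * s + 7) - 3) := mul_le_mul_of_nonneg_left h2 (by omega)
    have h4 : d * (3 * (d * (n * (s - 4) + t) + (10 - 2 * d) * n)) =
        3 * ((d * n) * (d * (s - 4)) + d ^ 2 * t + (10 - 2 * d) * (d * n)) := by ring
    rw [h4, ← hn] at h3
    have h5 : 3 * ((s * t) * (d * (s - 4)) + d ^ 2 * t + (10 - 2 * d) * (s * t)) =
        3 * t * (s * (s - 6) * d + d ^ 2 + 10 * s) := by ring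
    rw [h5] at h3
    exact h3
  have ht0 : 0 < t := by omega
  rcases lt_or_ge s 13 with hs13 | hs13
  · -- small s
    have hc : 0 < s * (s - 6) * d + d ^ 2 + 10 * s := by
      interval_cases s <;> nlinarith [sq_nonneg (d - 4), sq_nonneg (2 * d - 5)]
    have key2 : 3 * s * (s * (s - 6) * d + d ^ 2 + 10 * s) ≤
        d * (s * (2 * s ^ 2 - 6 * s + 7) - 3) := by
      have : 3 * s * (s * (s - 6) * d + d ^ 2 + 10 * s) ≤
          3 * t * (s * (s - 6) * d + d ^ 2 + 10 * s) :=
        mul_le_mul_of_nonneg_right (by omega) hc.le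
      linarith
    rcases eq_or_lt_of_le hs with hs4 | hs5
    · subst hs4
      have hd12 : d ≤ 12 := by nlinarith
      interval_cases d
      all_goals first
        | (exfalso; nlinarith)
        | (have ht4 : t ≤ 4 := by nlinarith
           have : t = 4 := by omega
           subst this
           omega)
    · have hs5' : 5 ≤ s := by omega
      interval_cases s
      · nlinarith [sq_nonneg (5 * d - 36)]
      · nlinarith [sq_nonneg (d - 4)]
      · nlinarith [sq_nonneg (d - 4)]
      · nlinarith [sq_nonneg (d - 4)]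
      · nlinarith [sq_nonneg (d - 4)]
      · nlinarith [sq_nonneg (d - 4)]
      · nlinarith [sq_nonneg (d - 4)]
      · nlinarith [sq_nonneg (d - 4)]
  · have hc : 0 < s * (s - 6) * d + d ^ 2 + 10 * s := by
      have : 0 ≤ s * (s - 6) * d := mul_nonneg (mul_nonneg (by omega) (by omega)) (by omega)
      nlinarith [sq_nonneg d]
    have key2 : 3 * s * (s * (s - 6) * d + d ^ 2 + 10 * s) ≤
        d * (s * (2 * s ^ 2 - 6 * s + 7) - 3) := by
      have : 3 * s * (s * (s - 6) * d + d ^ 2 + 10 * s) ≤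
          3 * t * (s * (s - 6) * d + d ^ 2 + 10 * s) :=
        mul_le_mul_of_nonneg_right (by omega) hc.le
      linarith
    have h6 : 0 < s ^ 3 - 12 * s ^ 2 - 7 * s + 3 := by nlinarith [sq_nonneg s, sq_nonneg (s - 13)]
    nlinarith [mul_pos (by omega : (0:ℤ) < d) h6, sq_nonneg d, sq_nonneg s]

end Groth.Agent.S18054
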