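import Groth.Statements.S18055
import Mathlib

set_option autoImplicit false
open STCI

namespace Groth.Agent.S18055

/-- Let d ≥ 1, g ≥ 0 and 1 ≤ s ≤ t be integers with d dividing st, put n = st/d and r = d[n(s - 4) + t]
+ (2 - 2g)n, and assume n ≥ 2, r > 0 and (n - 1) divides r. Then s < 2d² and t < 2d⁴. This is the
statement about the degree data (d, g the degree and genus of the curve, s ≤ t the degrees of the
two surfaces) to which the published proof reduces the degree bound: there the divisibility and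
positivity express that r/(n - 1), the common value of the type numbers of the pair, is a positive
integer; the geometric hypotheses themselves are not part of this row. -/
theorem result (d g s t n : ℤ) (hd : 1 ≤ d) (hg : 0 ≤ g) (hs : 1 ≤ s) (hst : s ≤ t)
    (hn : s * t = d * n) (hn2 : 2 ≤ n)
    (hpos : 0 < d * (n * (s - 4) + t) + (2 - 2 * g) * n)
    (hdvd : (n - 1) ∣ d * (n * (s - 4) + t) + (2 - 2 * g) * n) :
    s < 2 * d ^ 2 ∧ t < 2 * d ^ 4 := by
  by_cases htd : t < d
  · constructor
    · nlinarith [sq_nonneg d]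
    · have h1 : d ≤ d ^ 4 := by
        have : d ^ 4 = d * d ^ 3 := by ring
        nlinarith [pow_pos (by omega : (0:ℤ) < d) 3, pow_pos (by omega : (0:ℤ) < d) 4]
      nlinarith [pow_pos (by omega : (0:ℤ) < d) 4]
  push Not at htd
  have hn0 : 0 < n := by omega
  have hn1 : 0 < n - 1 := by omega
  set r := d * (n * (s - 4) + t) + (2 - 2 * g) * n with hr
  set r'' := s * (d * (s - 4) + 2 - 2 * g) + d ^ 2 with hr''
  set r' := d * (s + t - 4) + 2 - 2 * g with hr'
  -- s * r = n * r''
  have hsr : s * r = n * r'' := by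
    rw [hr, hr'']
    have : s * (d * (n * (s - 4) + t) + (2 - 2 * g) * n) =
        (d * n) * (s * (s - 4)) + d * (s * t) + (2 - 2 * g) * n * s := by ring
    rw [this, hn]
    ring
  have hcop : IsCoprime (n - 1) n := by
    refine ⟨-1, 1, ?_⟩
    ring
  have hdvd'' : (n - 1) ∣ r'' := by
    have h1 : (n - 1) ∣ n * r'' := by
      rw [← hsr]
      exact Dvd.dvd.mul_left hdvd s
    exact hcop.dvd_of_dvd_mul_left h1
  have hr''pos : 0 < r'' := by
    have h1 : 0 < n * r'' := by
      rw [← hsr]
      exact mul_pos (by omega) hpos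
    exact (mul_pos_iff_of_pos_left hn0).mp h1
  have hle'' : n - 1 ≤ r'' := Int.le_of_dvd hr''pos hdvd''
  -- r' facts
  have hdvd' : (n - 1) ∣ r' := by
    have h1 : r' = r - (n - 1) * (d * (s - 4) + 2 - 2 * g) := by
      rw [hr, hr']
      ring
    rw [h1]
    exact dvd_sub hdvd (dvd_mul_right _ _)
  have hr'pos : 0 < r' := by
    have h1 : s * r' = r'' + (s * (d * t) - d ^ 2) := by
      rw [hr', hr'']
      ring
    have h2 : 0 ≤ s * (d * t) - d ^ 2 := by nlinarith
    have h3 : 0 < s * r' := by rw [h1]; omega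
    exact (mul_pos_iff_of_pos_left (by omega : (0:ℤ) < s)).mp h3
  have hle' : n - 1 ≤ r' := Int.le_of_dvd hr'pos hdvd'
  -- bounds
  have hb' : s * t ≤ d ^ 2 * (s + t) - 4 * d ^ 2 + 3 * d := by
    have h1 : d * (n - 1) ≤ d * r' := mul_le_mul_of_nonneg_left hle' (by omega)
    have h2 : d * r' ≤ d * (d * (s + t - 4) + 2) := by
      apply mul_le_mul_of_nonneg_left _ (by omega)
      rw [hr']
      omega
    have h3 : d * (n - 1) = s * t - d := by rw [hn]; ring
    nlinarith
  have hb'' : s * t ≤ d ^ 2 * (s * (s - 4)) + 2 * d * s + d ^ 3 + d := by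
    have h1 : d * (n - 1) ≤ d * r'' := mul_le_mul_of_nonneg_left hle'' (by omega)
    have h2 : d * r'' ≤ d * (s * (d * (s - 4) + 2) + d ^ 2) := by
      apply mul_le_mul_of_nonneg_left _ (by omega)
      rw [hr'']
      nlinarith
    have h3 : d * (n - 1) = s * t - d := by rw [hn]; ring
    nlinarith
  have hs2 : s < 2 * d ^ 2 := by
    by_contra hcon
    push Not at hcon
    have h1 : 2 * d ^ 2 * t ≤ s * t := mul_le_mul_of_nonneg_right hcon (by omega)
    have h2 : d ^ 2 * s ≤ d ^ 2 * t := mul_le_mul_of_nonneg_left hst (by positivity)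
    nlinarith
  refine ⟨hs2, ?_⟩
  by_contra hcon
  push Not at hcon
  have h1 : 2 * d ^ 4 * s ≤ t * s := mul_le_mul_of_nonneg_right hcon (by omega)
  have h2 : 0 ≤ (s - 1) * (2 * d ^ 2 - 1 - s) := mul_nonneg (by omega) (by omega)
  have hd2 : 0 < d ^ 2 := by positivity
  nlinarith [mul_nonneg hd2.le h2, pow_pos (by omega : (0:ℤ) < d) 3, pow_pos (by omega : (0:ℤ) < d) 4]

end Groth.Agent.S18055
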