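import Groth.Statements.S18056
import Mathlib
import Groth.Agent.Lib.Helper23.FieldSep3

set_option autoImplicit false
universe u v
open STCI

namespace Groth.Agent.S18056

open IsLocalRing

attribute [local instance] ULift.algebra' in
/-- universe-polymorphic form of "Noetherian local + formally smooth over a field ⇒ regular". -/
theorem isRegularLocalRing_of_formallySmooth_field' (k : Type u) (C : Type v) [Field k] [CommRing C]
    [Algebra k C] [IsLocalRing C] [IsNoetherianRing C] [Algebra.FormallySmooth k C] :
    IsRegularLocalRing C := by
  let k' := ULift.{v} k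
  let C' := ULift.{u} C
  have hloc : IsLocalRing C' := (ULift.ringEquiv (R := C)).symm.isLocalRing
  have hnoeth : IsNoetherianRing C' := isNoetherianRing_of_ringEquiv C (ULift.ringEquiv (R := C)).symm
  have h1 : Algebra.FormallySmooth k C' :=
    Algebra.FormallySmooth.of_equiv (ULift.algEquiv (R := k) (A := C)).symm
  have h2 : Algebra.FormallySmooth k' k := by
    have e : k' ≃ₐ[k'] k := AlgEquiv.ofRingEquiv (f := ULift.ringEquiv) (fun _ => rfl)
    exact Algebra.FormallySmooth.of_equiv e
  have : IsScalarTower k' k C' := IsScalarTower.of_algebraMap_eq (fun _ => rfl)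
  have h3 : Algebra.FormallySmooth k' C' := Algebra.FormallySmooth.comp k' k C'
  have := Groth.Agent.Lib.Helper23.FieldSep.isRegularLocalRing_of_formallySmooth_field k' C'
  exact IsRegularLocalRing.of_ringEquiv (ULift.ringEquiv (R := C))

/-- A local ring that is Artinian and formally smooth over a field is a field. -/
theorem maximalIdeal_eq_bot_of_formallySmooth_field (k : Type u) (C : Type v) [Field k] [CommRing C]
    [Algebra k C] [IsLocalRing C] [IsArtinianRing C] [Algebra.FormallySmooth k C] :
    maximalIdeal C = ⊥ := by
  have hreg := isRegularLocalRing_of_formallySmooth_field' k C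
  have h := hreg.spanFinrank_maximalIdeal
  have h0 : ringKrullDim C = 0 := by
    have : Ring.KrullDimLE 0 C := inferInstance
    exact (ringKrullDimZero_iff_ringKrullDim_eq_zero).mp this
  rw [h0] at h
  have h' : (maximalIdeal C).spanFinrank = 0 := by exact_mod_cast h
  exact (Submodule.spanFinrank_eq_zero_iff_eq_bot (IsNoetherian.noetherian _)).mp h'


/-- Let A → B be a homomorphism of Artinian local rings that is flat and formally smooth, where A has a
subring that is a field. Then A and B have the same length, each as a module over itself. -/
theorem result (A : Type u) (B : Type v) [CommRing A] [CommRing B]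
    [IsLocalRing A] [IsLocalRing B] [IsArtinianRing A] [IsArtinianRing B] [Algebra A B]
    [Module.Flat A B] [Algebra.FormallySmooth A B] (hK : ∃ K : Subring A, IsField K) :
    Module.length A A = Module.length B B := by
  -- the map is local
  have hloc : IsLocalHom (algebraMap A B) := by
    constructor
    intro a ha
    by_contra hna
    have hmem : a ∈ maximalIdeal A := (mem_maximalIdeal a).mpr hna
    have hnil : IsNilpotent a := by
      have h1 := IsArtinianRing.isNilpotent_jacobson_bot (R := A)
      rw [IsLocalRing.jacobson_eq_maximalIdeal ⊥ bot_ne_top] at h1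
      obtain ⟨n, hn⟩ := h1
      refine ⟨n, ?_⟩
      have : a ^ n ∈ (maximalIdeal A) ^ n := Ideal.pow_mem_pow hmem n
      rw [hn] at this
      exact this
    have h2 : IsNilpotent (algebraMap A B a) := hnil.map _
    exact h2.not_isUnit ha
  set I : Ideal B := (maximalIdeal A).map (algebraMap A B) with hI
  have hItop : I ≠ ⊤ := (map_maximalIdeal_lt_top (algebraMap A B)).ne
  have h1 := IsLocalRing.length_baseChange A B A
  rw [(TensorProduct.AlgebraTensorModule.rid A B B).length_eq] at h1
  -- the closed fibre is a field
  have : Nontrivial (B ⧸ I) := Ideal.Quotient.nontrivial_iff.mpr hItop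
  have : IsLocalRing (B ⧸ I) :=
    IsLocalRing.of_surjective' (Ideal.Quotient.mk I) Ideal.Quotient.mk_surjective
  letI : Field (A ⧸ maximalIdeal A) := Ideal.Quotient.field _
  have hfs : Algebra.FormallySmooth (A ⧸ maximalIdeal A) (B ⧸ I) :=
    .of_equiv (Algebra.TensorProduct.quotIdealMapEquivQuotTensor B (maximalIdeal A)).symm
  have hbot := maximalIdeal_eq_bot_of_formallySmooth_field (A ⧸ maximalIdeal A) (B ⧸ I)
  have hfield : IsField (B ⧸ I) := isField_iff_maximalIdeal_eq.mpr hbot
  have hmax : I.IsMaximal := Ideal.Quotient.maximal_of_isField I hfield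
  have hsimple : IsSimpleModule B (B ⧸ I) := by
    rw [isSimpleModule_iff_isCoatom]
    exact Ideal.isMaximal_def.mp hmax
  rw [Module.length_eq_one (R := B) (M := B ⧸ I), mul_one] at h1
  exact h1.symm

end Groth.Agent.S18056
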