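import Groth.Statements.S18069
import Mathlib
import Groth.Agent.Lib.Helper10.RigidAA5

set_option autoImplicit false
universe u
open CategoryTheory MonoidalCategory CartesianMonoidalCategory MonObj GrpObj AlgebraicGeometry CategoryTheory.Limits
open AlgGrp

namespace Groth.Agent.S18069

/-- Let k be a field and G₁, G₂ connected k-group schemes of finite type. Then G₁ × G₂ is anti-affine,
i.e. O(G₁ × G₂) = k, if and only if G₁ and G₂ are both anti-affine. -/
theorem result (k : Type u) [Field k]
    (G₁ G₂ : Over (Spec (CommRingCat.of k))) [GrpObj G₁] [LocallyOfFiniteType G₁.hom] [QuasiCompact G₁.hom] [ConnectedSpace ↥G₁.left]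
    [GrpObj G₂] [LocallyOfFiniteType G₂.hom] [QuasiCompact G₂.hom] [ConnectedSpace ↥G₂.left] :
    Function.Bijective ((Scheme.ΓSpecIso (CommRingCat.of k)).inv ≫ (G₁ ⊗ G₂).hom.appTop).hom ↔
      Function.Bijective ((Scheme.ΓSpecIso (CommRingCat.of k)).inv ≫ G₁.hom.appTop).hom ∧ Function.Bijective ((Scheme.ΓSpecIso (CommRingCat.of k)).inv ≫ G₂.hom.appTop).hom := by
  haveI := Groth.Agent.Lib.Helper10.RigidAA.quasiSeparated_of_lft G₁
  haveI := Groth.Agent.Lib.Helper10.RigidAA.quasiSeparated_of_lft G₂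
  constructor
  · intro h
    constructor
    · exact Groth.Agent.Lib.Helper10.RigidAA.bijective_of_section
        (CartesianMonoidalCategory.fst G₁ G₂)
        (CartesianMonoidalCategory.lift (𝟙 G₁) (toUnit G₁ ≫ η[G₂])) (lift_fst _ _) h
    · exact Groth.Agent.Lib.Helper10.RigidAA.bijective_of_section
        (CartesianMonoidalCategory.snd G₁ G₂)
        (CartesianMonoidalCategory.lift (toUnit G₂ ≫ η[G₁]) (𝟙 G₂)) (lift_snd _ _) h
  · rintro ⟨h1, h2⟩
    exact Groth.Agent.Lib.Helper10.RigidAA.bijective_tensor G₁ G₂ h1 h2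

end Groth.Agent.S18069
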