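import Groth.Statements.S1807
import Groth.Agent.Lib.Helper13.RelDual8
import Groth.Agent.Lib.Helper13.LTensorBC
import Groth.Agent.S1820

set_option autoImplicit false
universe u
open CategoryTheory
open scoped TensorProduct
attribute [local instance] HasDerivedCategory.standard
open Dual2

namespace Groth.Agent.S1807

/-- For φ flat (a flat ring map of finite type is perfect and tor independent of any R'). Let R → A be a
ring map between Noetherian rings which is flat and of finite type, R → R' a homomorphism of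
Noetherian rings, and A' = R' ⊗_R A with the induced map R' → A'; each upper shriek φ^!(K) is formed
from a presentation ψ : P = (base)[x_1, …, x_n] → (target) as RHom_P(target, K ⊗^L P)[n], the
derived base change functors being assumed to exist and RHom_P(target, −) being given as a right
adjoint of restriction of scalars. Assuming also the derived base change functors D(A) → D(A') and
D(R) → D(R') exist, for every K in D(R) the base change to A' of the upper shriek of K along R → A
is isomorphic to the upper shriek along R' → A' of the base change of K to R'. -/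
theorem result (R R' A : Type u) [CommRing R] [CommRing R'] [CommRing A] [IsNoetherianRing R] [IsNoetherianRing R'] [IsNoetherianRing A] [Algebra R R'] [Algebra R A] [Module.Flat R A] [IsNoetherianRing (R' ⊗[R] A)] (n : ℕ) (ψ : MvPolynomial (Fin n) R →ₐ[R] A) (hψ : Function.Surjective ψ) [DRing.HasLBaseChange (algebraMap R (MvPolynomial (Fin n) R))] (Rψ : Dual.D (MvPolynomial (Fin n) R) ⥤ Dual.D A) (adj : DRing.restrictD ψ.toRingHom ⊣ Rψ) (m : ℕ) (ψ' : MvPolynomial (Fin m) R' →ₐ[R'] (R' ⊗[R] A)) (hψ' : Function.Surjective ψ') [DRing.HasLBaseChange (algebraMap R' (MvPolynomial (Fin m) R'))] (Rψ' : Dual.D (MvPolynomial (Fin m) R') ⥤ Dual.D (R' ⊗[R] A)) (adj' : DRing.restrictD ψ'.toRingHom ⊣ Rψ') [DRing.HasLBaseChange (Algebra.TensorProduct.includeRight : A →ₐ[R] R' ⊗[R] A).toRingHom] [DRing.HasLBaseChange (algebraMap R R')] (K : Dual.D R) : Nonempty ((DRing.LBaseChange (Algebra.TensorProduct.includeRight : A →ₐ[R] R' ⊗[R] A).toRingHom).obj (Dual2.shriekVia n Rψ K) ≅ Dual2.shriekVia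 m Rψ' ((DRing.LBaseChange (algebraMap R R')).obj K)) := by
  classical
  open Groth.Agent.Lib.Helper13.Shriek Groth.Agent.Lib.Helper13.Coind in
  let P := MvPolynomial (Fin n) R
  let A' := R' ⊗[R] A
  let φ : A →+* A' := (Algebra.TensorProduct.includeRight : A →ₐ[R] R' ⊗[R] A).toRingHom
  -- the relative dualizing complex and a K-projective representative
  let ω := Dual2.shriekVia n Rψ (Dual.inD R R)
  obtain ⟨W, hW, -, ⟨eW⟩⟩ := Groth.Agent.Lib.Helper13.SF.exists_kprojective_rep ω
  have := hW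
  let W' : DRing.Cx A' := (DTen.extCx φ).obj W
  -- the shrieks through the standard coinduction
  let e0 : ω ≅ ((Groth.Agent.Lib.Helper13.Coind.Rco ψ.toRingHom).obj (Dual.inD P P))⟦(n : ℤ)⟧ :=
    (shiftFunctor (Dual.D A) (n : ℤ)).mapIso
      ((Groth.Agent.Lib.Helper13.Coind.uniq ψ.toRingHom Rψ adj).app _ ≪≫
        (Groth.Agent.Lib.Helper13.Coind.Rco ψ.toRingHom).mapIso
          (Groth.Agent.Lib.Helper13.RelDual.LBaseChangeSelfIso R P))
  let sh' : ∀ K' : Dual.D R', Dual2.shriekVia m Rψ' K' ≅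
      Groth.Agent.Lib.Helper13.Shriek.Sh (algebraMap R' (MvPolynomial (Fin m) R'))
        (ψ' : MvPolynomial (Fin m) R' →+* A') m K' := fun K' =>
    (shiftFunctor (Dual.D A') (m : ℤ)).mapIso
      ((Groth.Agent.Lib.Helper13.Coind.uniq ψ'.toRingHom Rψ' adj').app _)
  -- base change of the relative dualizing complex
  obtain ⟨ψ₁, hψ₁, ⟨ι⟩⟩ :=
    Groth.Agent.Lib.Helper13.RelDual.nonempty_LBaseChange_Rco_baseChange R A n ψ hψ R'
  obtain ⟨ind⟩ := Groth.Agent.Lib.Helper13.Shriek.Sh_independent ψ₁ hψ₁ ψ' hψ' (Dual.inD R' R')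
  have hW' : Nonempty (DRing.toD W' ≅ Dual2.shriekVia m Rψ' (Dual.inD R' R')) :=
    ⟨(Groth.Agent.Lib.Helper13.DR.LBaseChangeIso φ W).symm ≪≫
      (DRing.LBaseChange φ).mapIso (eW ≪≫ e0) ≪≫ ι ≪≫ ind ≪≫ (sh' _).symm⟩
  obtain ⟨i1⟩ := Groth.Agent.S1820.result R A n ψ hψ Rψ adj W ⟨eW⟩ K
  obtain ⟨i2⟩ := Groth.Agent.S1820.result R' A' m ψ' hψ' Rψ' adj' W' hW'
    ((DRing.LBaseChange (algebraMap R R')).obj K)
  obtain ⟨i3⟩ := Groth.Agent.Lib.Helper13.LTBC.nonempty_LBaseChange_LTensorCx_iso φ W
    ((DRing.LBaseChange (algebraMap R A)).obj K)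
  have hsq : φ.comp (algebraMap R A) = (algebraMap R' A').comp (algebraMap R R') := by
    ext r
    change (1 : R') ⊗ₜ[R] (algebraMap R A r) = (algebraMap R R' r) ⊗ₜ[R] (1 : A)
    rw [Algebra.algebraMap_eq_smul_one r, Algebra.algebraMap_eq_smul_one r,
      TensorProduct.smul_tmul]
  let i4 : (DRing.LBaseChange φ).obj ((DRing.LBaseChange (algebraMap R A)).obj K) ≅
      (DRing.LBaseChange (algebraMap R' A')).obj ((DRing.LBaseChange (algebraMap R R')).obj K) :=
    (Groth.Agent.Lib.Helper13.Shriek.LComp (algebraMap R A) φ _ rfl).app K ≪≫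
      (Groth.Agent.Lib.Helper13.Shriek.LComp (algebraMap R R') (algebraMap R' A')
        (φ.comp (algebraMap R A)) hsq).symm.app K
  exact ⟨(DRing.LBaseChange φ).mapIso i1 ≪≫ i3 ≪≫ (DRing.LTensorCx A' W').mapIso i4 ≪≫ i2.symm⟩

end Groth.Agent.S1807
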