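import Groth.Statements.S18096
-- import your own Groth.Agent.* helpers here
import Groth.Agent.Lib.Helper29.LinRep6

set_option autoImplicit false
universe u
open CategoryTheory MonoidalCategory CartesianMonoidalCategory MonObj GrpObj AlgebraicGeometry CategoryTheory.Limits
open AlgGrp

namespace Groth.Agent.S18096

/-- Let k be a field and G a k-group scheme of finite type. Then G is anti-affine, i.e. O(G) = k, if and
only if every finite-dimensional linear representation of G is trivial, i.e. for every n every
homomorphism G → GL_{n,k} is trivial. -/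
theorem result (k : Type u) [Field k]
    (G : Over (Spec (CommRingCat.of k))) [GrpObj G] [LocallyOfFiniteType G.hom] [QuasiCompact G.hom] :
    Function.Bijective ((Scheme.ΓSpecIso (CommRingCat.of k)).inv ≫ G.hom.appTop).hom ↔
      ∀ (n : ℕ) (ρ : G ⟶ FrB.GLn n (Spec (CommRingCat.of k))), IsMonHom ρ → ρ = 1 := by
  constructor
  · intro hG n ρ hρ
    exact Groth.Agent.Lib.Helper29.LinRep.hom_trivial_of_bijective G hG n ρ hρ
  · intro h
    haveI : CompactSpace G.left := Groth.Agent.Lib.Helper29.LinRep.compact_left G
    haveI : QuasiSeparatedSpace G.left := Groth.Agent.Lib.Helper29.LinRep.qs_left G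
    haveI : QuasiCompact (G ⊗ G).hom := Groth.Agent.Lib.Helper29.LinRep.qc_tensor G G
    haveI : LocallyOfFiniteType (G ⊗ G).hom := Groth.Agent.Lib.Helper29.LinRep.lft_tensor G G
    haveI : CompactSpace (G ⊗ G).left := Groth.Agent.Lib.Helper29.LinRep.compact_left (G ⊗ G)
    haveI : QuasiSeparatedSpace (G ⊗ G).left := Groth.Agent.Lib.Helper29.LinRep.qs_left (G ⊗ G)
    constructor
    · haveI : Nontrivial Γ(Spec (CommRingCat.of k), ⊤) :=
        (Groth.Agent.Lib.Helper29.AffAttr.isField_Γ_Spec k).nontrivial
      haveI : Nontrivial Γ(G.left, ⊤) :=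
        RingHom.domain_nontrivial (show Γ(G.left, ⊤) →+* Γ(Spec (CommRingCat.of k), ⊤) from
          η[G].left.appTop.hom)
      exact RingHom.injective _
    · intro f
      obtain ⟨r, hr⟩ := Groth.Agent.Lib.Helper29.LinRep.const_of_matrix_trivial G
        (fun J _ _ m h1 hmul =>
          Groth.Agent.Lib.Helper29.LinRep.matrix_trivial_of_hom_trivial G h J m h1 hmul) f
      refine ⟨(Scheme.ΓSpecIso (CommRingCat.of k)).hom.hom r, ?_⟩
      have e : (Scheme.ΓSpecIso (CommRingCat.of k)).inv.hom
          ((Scheme.ΓSpecIso (CommRingCat.of k)).hom.hom r) = r := by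
        change ((Scheme.ΓSpecIso (CommRingCat.of k)).hom ≫
          (Scheme.ΓSpecIso (CommRingCat.of k)).inv).hom r = r
        rw [Iso.hom_inv_id]
        rfl
      change G.hom.appTop.hom ((Scheme.ΓSpecIso (CommRingCat.of k)).inv.hom
        ((Scheme.ΓSpecIso (CommRingCat.of k)).hom.hom r)) = f
      rw [e]
      exact hr

end Groth.Agent.S18096
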