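import Groth.Statements.S18101
-- import your own Groth.Agent.* helpers here
import Groth.Agent.Lib.Helper29.LinRep5

set_option autoImplicit false
universe u
open CategoryTheory MonoidalCategory CartesianMonoidalCategory MonObj GrpObj AlgebraicGeometry CategoryTheory.Limits
open AlgGrp

namespace Groth.Agent.S18101

/-- Let k be a field and G a k-group scheme of finite type. Then G is anti-affine, i.e. O(G) = k, if and
only if every action of G on a variety having a fixed point is trivial; the fixed point is taken
k-rational here (the published condition allows any closed fixed point, which gives a formally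
stronger necessary condition; the equivalence with a rational fixed point is what the published
argument through linear representations yields). -/
theorem result (k : Type u) [Field k]
    (G : Over (Spec (CommRingCat.of k))) [GrpObj G] [LocallyOfFiniteType G.hom] [QuasiCompact G.hom] :
    Function.Bijective ((Scheme.ΓSpecIso (CommRingCat.of k)).inv ≫ G.hom.appTop).hom ↔
      ∀ (X : Over (Spec (CommRingCat.of k))) [LocallyOfFiniteType X.hom] [QuasiCompact X.hom] [IsSeparated X.hom] [GeometricallyIntegral X.hom]
        (a : AlgGrp.Action G X) (x : 𝟙_ (Over (Spec (CommRingCat.of k))) ⟶ X), a.IsFixedPt x → a.act = snd G X := by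
  constructor
  · intro hG X _ _ _ _ a x hx
    exact Groth.Agent.Lib.Helper29.LinRep.trivial_of_bijective G hG X a x hx
  · intro h
    haveI : CompactSpace G.left := Groth.Agent.Lib.Helper29.LinRep.compact_left G
    haveI : QuasiSeparatedSpace G.left := Groth.Agent.Lib.Helper29.LinRep.qs_left G
    haveI : QuasiCompact (G ⊗ G).hom := Groth.Agent.Lib.Helper29.LinRep.qc_tensor G G
    haveI : LocallyOfFiniteType (G ⊗ G).hom := Groth.Agent.Lib.Helper29.LinRep.lft_tensor G G
    haveI : CompactSpace (G ⊗ G).left := Groth.Agent.Lib.Helper29.LinRep.compact_left (G ⊗ G)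
    haveI : QuasiSeparatedSpace (G ⊗ G).left := Groth.Agent.Lib.Helper29.LinRep.qs_left (G ⊗ G)
    constructor
    · haveI : Nontrivial Γ(Spec (CommRingCat.of k), ⊤) :=
        (Groth.Agent.Lib.Helper29.AffAttr.isField_Γ_Spec k).nontrivial
      haveI : Nontrivial Γ(G.left, ⊤) :=
        RingHom.domain_nontrivial (show Γ(G.left, ⊤) →+* Γ(Spec (CommRingCat.of k), ⊤) from
          η[G].left.appTop.hom)
      exact RingHom.injective _
    · intro f
      obtain ⟨r, hr⟩ := Groth.Agent.Lib.Helper29.LinRep.const_of_trivial G
        (fun J _ a x hx => h (Groth.Agent.Lib.Helper29.LinRep.AJ k J) a x hx) f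
      refine ⟨(Scheme.ΓSpecIso (CommRingCat.of k)).hom.hom r, ?_⟩
      have e : (Scheme.ΓSpecIso (CommRingCat.of k)).inv.hom
          ((Scheme.ΓSpecIso (CommRingCat.of k)).hom.hom r) = r := by
        change ((Scheme.ΓSpecIso (CommRingCat.of k)).hom ≫
          (Scheme.ΓSpecIso (CommRingCat.of k)).inv).hom r = r
        rw [Iso.hom_inv_id]
        rfl
      change G.hom.appTop.hom ((Scheme.ΓSpecIso (CommRingCat.of k)).inv.hom
        ((Scheme.ΓSpecIso (CommRingCat.of k)).hom.hom r)) = f
      rw [e]
      exact hr

end Groth.Agent.S18101
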