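import Groth.Statements.S18121
import Mathlib

set_option autoImplicit false
universe u
open Pinch

namespace Groth.Agent.S18121



namespace PinchK
open Polynomial

variable {B : Type*} [CommRing B] (b : B)

/-- the quadratic polynomial -/
noncomputable abbrev fq : B[X] := X ^ 2 - C b

theorem fq_monic : (fq b).Monic := monic_X_pow_sub_C b (by norm_num)

theorem subsing [Subsingleton B] (x y : AdjoinRoot (fq b)) : x = y := by
  obtain ⟨p, rfl⟩ := AdjoinRoot.mk_surjective x
  obtain ⟨q, rfl⟩ := AdjoinRoot.mk_surjective y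
  rw [Subsingleton.elim p q]

theorem exists_decomp (g : AdjoinRoot (fq b)) :
    ∃ c d : B, g = AdjoinRoot.of (fq b) c + AdjoinRoot.of (fq b) d * AdjoinRoot.root (fq b) := by
  rcases subsingleton_or_nontrivial B with hB | hB
  · exact ⟨0, 0, subsing b _ _⟩
  obtain ⟨p, rfl⟩ := AdjoinRoot.mk_surjective g
  have hnd : (fq b).natDegree = 2 := natDegree_X_pow_sub_C
  have hne1 : fq b ≠ 1 := by
    intro h
    rw [h, natDegree_one] at hnd
    omega
  have hdeg : (p %ₘ fq b).natDegree ≤ 1 := by
    have h1 := natDegree_modByMonic_lt p (fq_monic b) hne1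
    omega
  have h3 := eq_X_add_C_of_natDegree_le_one hdeg
  refine ⟨(p %ₘ fq b).coeff 0, (p %ₘ fq b).coeff 1, ?_⟩
  have h4 : AdjoinRoot.mk (fq b) p = AdjoinRoot.mk (fq b) (p %ₘ fq b) := by
    rw [AdjoinRoot.mk_eq_mk]
    exact ⟨p /ₘ fq b, by rw [modByMonic_eq_sub_mul_div]; ring⟩
  rw [h4]
  conv_lhs => rw [h3]
  rw [map_add, map_mul, AdjoinRoot.mk_C, AdjoinRoot.mk_C, AdjoinRoot.mk_X, add_comm]

theorem eq_zero_of_decomp (c d : B)
    (h : AdjoinRoot.of (fq b) c + AdjoinRoot.of (fq b) d * AdjoinRoot.root (fq b) = 0) :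
    c = 0 ∧ d = 0 := by
  rcases subsingleton_or_nontrivial B with hB | hB
  · exact ⟨Subsingleton.elim _ _, Subsingleton.elim _ _⟩
  have h1 : AdjoinRoot.mk (fq b) (C c + C d * X) = 0 := by
    rw [map_add, map_mul, AdjoinRoot.mk_C, AdjoinRoot.mk_C, AdjoinRoot.mk_X]
    exact h
  rw [AdjoinRoot.mk_eq_zero] at h1
  have h2 : C c + C d * X = 0 := by
    by_contra hne
    refine (fq_monic b).not_dvd_of_degree_lt hne ?_ h1
    have h3 : (fq b).degree = 2 := degree_X_pow_sub_C (by norm_num) b
    rw [h3]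
    have h4 : (C c + C d * X : B[X]).degree ≤ 1 := by
      rw [add_comm]
      exact degree_linear_le
    exact lt_of_le_of_lt h4 (by norm_num)
  have hc := congrArg (fun q => coeff q 0) h2
  have hd := congrArg (fun q => coeff q 1) h2
  simp at hc hd
  exact ⟨hc, hd⟩


/-- the map `Ψ` -/
noncomputable abbrev Psi : MvPolynomial (Fin 2) B →ₐ[B] Polynomial (AdjoinRoot (fq b)) :=
  MvPolynomial.aeval ![Polynomial.C (AdjoinRoot.root (fq b)) * Polynomial.X, Polynomial.X]

theorem Psi_X0 : Psi b (MvPolynomial.X 0) = C (AdjoinRoot.root (fq b)) * X := by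
  simp [Psi]

theorem Psi_X1 : Psi b (MvPolynomial.X 1) = X := by
  simp [Psi]

theorem root_sq : AdjoinRoot.root (fq b) ^ 2 = AdjoinRoot.of (fq b) b := by
  have h1 : AdjoinRoot.mk (fq b) (fq b) = 0 := AdjoinRoot.mk_self
  rw [map_sub, map_pow, AdjoinRoot.mk_X, AdjoinRoot.mk_C] at h1
  exact sub_eq_zero.mp h1

theorem Psi_gen : Psi b (MvPolynomial.X 0 ^ 2 - MvPolynomial.C b * MvPolynomial.X 1 ^ 2) = 0 := by
  rw [map_sub, map_pow, map_mul, map_pow, Psi_X0, Psi_X1, mul_pow, ← C_pow, root_sq]
  have : Psi b (MvPolynomial.C b) = C (AdjoinRoot.of (fq b) b) := by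
    rw [← MvPolynomial.algebraMap_eq, AlgHom.commutes]
    rfl
  rw [this, sub_self]

theorem Psi_aeval (F : B[X]) :
    Psi b (Polynomial.aeval (MvPolynomial.X 1 : MvPolynomial (Fin 2) B) F) =
      F.map (AdjoinRoot.of (fq b)) := by
  rw [← aeval_algHom_apply, Psi_X1, aeval_X_left_eq_map]
  rfl

/-- reduction to normal form -/
theorem exists_normal_form (F : MvPolynomial (Fin 2) B) : ∃ F₀ F₁ : B[X],
    F - (Polynomial.aeval (MvPolynomial.X 1 : MvPolynomial (Fin 2) B) F₀ +
      MvPolynomial.X 0 * Polynomial.aeval (MvPolynomial.X 1 : MvPolynomial (Fin 2) B) F₁) ∈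
      Ideal.span {(MvPolynomial.X 0 ^ 2 - MvPolynomial.C b * MvPolynomial.X 1 ^ 2 :
        MvPolynomial (Fin 2) B)} := by
  induction F using MvPolynomial.induction_on with
  | C a =>
    refine ⟨C a, 0, ?_⟩
    rw [aeval_C, map_zero, mul_zero, add_zero, MvPolynomial.algebraMap_eq, sub_self]
    exact Ideal.zero_mem _
  | add p q hp hq =>
    obtain ⟨p₀, p₁, hp⟩ := hp
    obtain ⟨q₀, q₁, hq⟩ := hq
    refine ⟨p₀ + q₀, p₁ + q₁, ?_⟩
    rw [map_add, map_add]
    have := Ideal.add_mem _ hp hq
    convert this using 1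
    ring
  | mul_X p i hp =>
    obtain ⟨p₀, p₁, hp⟩ := hp
    fin_cases i
    · -- multiply by u
      refine ⟨C b * X ^ 2 * p₁, p₀, ?_⟩
      rw [map_mul, map_mul, map_pow, aeval_C, aeval_X, MvPolynomial.algebraMap_eq]
      have h1 := Ideal.mul_mem_right (MvPolynomial.X 0) _ hp
      have h2 := Ideal.mul_mem_right (Polynomial.aeval (MvPolynomial.X 1 : MvPolynomial (Fin 2) B) p₁) _
        (Ideal.subset_span (Set.mem_singleton (MvPolynomial.X 0 ^ 2 - MvPolynomial.C b *
          MvPolynomial.X 1 ^ 2 : MvPolynomial (Fin 2) B)))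
      have := Ideal.add_mem _ h1 h2
      convert this using 1
      simp only [Fin.zero_eta]
      ring
    · -- multiply by v
      refine ⟨p₀ * X, p₁ * X, ?_⟩
      rw [map_mul, map_mul, aeval_X]
      have h1 := Ideal.mul_mem_right (MvPolynomial.X 1) _ hp
      convert h1 using 1
      simp only [Fin.mk_one]
      ring

end PinchK

/-- Let B be a commutative ring, b an element of B, B' := B[z]/(z^2 - b) the rank-two B-algebra with z^2
= b, and Ψ : B[u, v] → B'[t] the B-algebra homomorphism with u ↦ z t and v ↦ t. Then the kernel of Ψ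
is the principal ideal generated by u^2 - b v^2, and a polynomial of B'[t] lies in the image of Ψ as
soon as its constant coefficient lies in B. Equivalently, B[u, v]/(u^2 - b v^2) is the fibre product
of B'[t] and B over B' (for t ↦ 0 and the inclusion of B): the pinching of Spec B' × 𝔸¹ along Spec
B' × {0} by the double cover Spec B' → Spec B is the hypersurface u^2 = b v^2 over B; for B = K[w]
and b = w this is the pinch point u^2 = v^2 w. -/
theorem result (B : Type u) [CommRing B] (b : B) :
    letI Ψ : MvPolynomial (Fin 2) B →ₐ[B] Polynomial (AdjoinRoot (Polynomial.X ^ 2 - Polynomial.C b)) :=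
      MvPolynomial.aeval
        ![Polynomial.C (AdjoinRoot.root (Polynomial.X ^ 2 - Polynomial.C b)) * Polynomial.X, Polynomial.X]
    RingHom.ker Ψ.toRingHom =
        Ideal.span {MvPolynomial.X 0 ^ 2 - MvPolynomial.C b * MvPolynomial.X 1 ^ 2} ∧
      ∀ G : Polynomial (AdjoinRoot (Polynomial.X ^ 2 - Polynomial.C b)),
        (∃ c : B, G.coeff 0 = algebraMap B (AdjoinRoot (Polynomial.X ^ 2 - Polynomial.C b)) c) →
          G ∈ Ψ.range := by

  classical
  show RingHom.ker (PinchK.Psi b).toRingHom =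
      Ideal.span {MvPolynomial.X 0 ^ 2 - MvPolynomial.C b * MvPolynomial.X 1 ^ 2} ∧
    ∀ G : Polynomial (AdjoinRoot (PinchK.fq b)),
      (∃ c : B, G.coeff 0 = algebraMap B (AdjoinRoot (PinchK.fq b)) c) → G ∈ (PinchK.Psi b).range
  constructor
  · apply le_antisymm
    · intro F hF
      have hF0 : PinchK.Psi b F = 0 := hF
      obtain ⟨F₀, F₁, hn⟩ := PinchK.exists_normal_form b F
      have hle : Ideal.span {(MvPolynomial.X 0 ^ 2 - MvPolynomial.C b * MvPolynomial.X 1 ^ 2 :
          MvPolynomial (Fin 2) B)} ≤ RingHom.ker (PinchK.Psi b).toRingHom := by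
        rw [Ideal.span_le]
        rintro _ rfl
        exact PinchK.Psi_gen b
      have h1 : PinchK.Psi b (F - (Polynomial.aeval (MvPolynomial.X 1 : MvPolynomial (Fin 2) B) F₀ +
          MvPolynomial.X 0 * Polynomial.aeval (MvPolynomial.X 1 : MvPolynomial (Fin 2) B) F₁)) = 0 :=
        hle hn
      rw [map_sub, hF0, zero_sub, neg_eq_zero, map_add, map_mul, PinchK.Psi_aeval, PinchK.Psi_aeval,
        PinchK.Psi_X0] at h1
      have hcoef : ∀ n, F₀.coeff (n + 1) = 0 ∧ F₁.coeff n = 0 := by
        intro n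
        have h2 := congrArg (fun q => Polynomial.coeff q (n + 1)) h1
        simp only [Polynomial.coeff_add, Polynomial.coeff_map, Polynomial.coeff_zero] at h2
        rw [mul_assoc, Polynomial.coeff_C_mul, Polynomial.coeff_X_mul, Polynomial.coeff_map,
          mul_comm] at h2
        exact PinchK.eq_zero_of_decomp b _ _ h2
      have h00 : F₀.coeff 0 = 0 := by
        have h2 := congrArg (fun q => Polynomial.coeff q 0) h1
        simp only [Polynomial.coeff_add, Polynomial.coeff_map, Polynomial.coeff_zero] at h2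
        rw [mul_assoc, Polynomial.coeff_C_mul, Polynomial.coeff_X_mul_zero, mul_zero, add_zero] at h2
        have h3 : AdjoinRoot.of (PinchK.fq b) (F₀.coeff 0) +
            AdjoinRoot.of (PinchK.fq b) 0 * AdjoinRoot.root (PinchK.fq b) = 0 := by
          rw [map_zero, zero_mul, add_zero]; exact h2
        exact (PinchK.eq_zero_of_decomp b _ _ h3).1
      have hF₀ : F₀ = 0 := by
        ext n
        rcases n with _ | n
        · rw [h00, Polynomial.coeff_zero]
        · rw [(hcoef n).1, Polynomial.coeff_zero]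
      have hF₁ : F₁ = 0 := by
        ext n
        rw [(hcoef n).2, Polynomial.coeff_zero]
      rw [hF₀, hF₁, map_zero, mul_zero, add_zero, sub_zero] at hn
      exact hn
    · rw [Ideal.span_le]
      rintro _ rfl
      exact PinchK.Psi_gen b
  · rintro G ⟨c, hc⟩
    have hCof : ∀ a : B, Polynomial.C (AdjoinRoot.of (PinchK.fq b) a) ∈ (PinchK.Psi b).range := by
      intro a
      refine ⟨MvPolynomial.C a, ?_⟩
      show PinchK.Psi b (MvPolynomial.C a) = _
      rw [← MvPolynomial.algebraMap_eq, AlgHom.commutes]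
      rfl
    have hX : (Polynomial.X : Polynomial (AdjoinRoot (PinchK.fq b))) ∈ (PinchK.Psi b).range :=
      ⟨MvPolynomial.X 1, PinchK.Psi_X1 b⟩
    have hzX : Polynomial.C (AdjoinRoot.root (PinchK.fq b)) * Polynomial.X ∈ (PinchK.Psi b).range :=
      ⟨MvPolynomial.X 0, PinchK.Psi_X0 b⟩
    have hmulX : ∀ H : Polynomial (AdjoinRoot (PinchK.fq b)), H * Polynomial.X ∈ (PinchK.Psi b).range := by
      intro H
      induction H using Polynomial.induction_on' with
      | add p q hp hq =>
        rw [add_mul]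
        exact (PinchK.Psi b).range.add_mem hp hq
      | monomial n g =>
        obtain ⟨c', d', hg⟩ := PinchK.exists_decomp b g
        have h1 : (Polynomial.monomial n g : Polynomial (AdjoinRoot (PinchK.fq b))) * Polynomial.X =
            Polynomial.C (AdjoinRoot.of (PinchK.fq b) c') * Polynomial.X ^ (n + 1) +
              Polynomial.C (AdjoinRoot.of (PinchK.fq b) d') *
                (Polynomial.C (AdjoinRoot.root (PinchK.fq b)) * Polynomial.X) * Polynomial.X ^ n := by
          rw [← Polynomial.C_mul_X_pow_eq_monomial, hg, Polynomial.C_add, Polynomial.C_mul]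
          ring
        rw [h1]
        exact (PinchK.Psi b).range.add_mem
          ((PinchK.Psi b).range.mul_mem (hCof c') ((PinchK.Psi b).range.pow_mem hX _))
          ((PinchK.Psi b).range.mul_mem ((PinchK.Psi b).range.mul_mem (hCof d') hzX)
            ((PinchK.Psi b).range.pow_mem hX _))
    have hG : G = G.divX * Polynomial.X + Polynomial.C (G.coeff 0) := (Polynomial.divX_mul_X_add G).symm
    rw [hG, hc]
    exact (PinchK.Psi b).range.add_mem (hmulX _) (hCof c)

end Groth.Agent.S18121
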