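import Groth.Statements.S18122
import Mathlib

set_option autoImplicit false
universe u
open Pinch

namespace Groth.Agent.S18122



open MvPolynomial in
theorem X1_dvd_of_dvd_two_X0_mul {K : Type*} [Field K] [NeZero (2 : K)]
    (w : MvPolynomial (Fin 2) K) (h : (X 1 : MvPolynomial (Fin 2) K) ∣ 2 * X 0 * w) :
    (X 1 : MvPolynomial (Fin 2) K) ∣ w := by
  have hp : Prime (X 1 : MvPolynomial (Fin 2) K) := MvPolynomial.X_prime
  rcases hp.dvd_or_dvd h with h1 | h1
  · exfalso
    obtain ⟨q, hq⟩ := h1
    have h2 := congrArg (MvPolynomial.eval (![1, 0] : Fin 2 → K)) hq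
    simp at h2
    exact (NeZero.ne (2 : K)) h2
  · exact h1

open MvPolynomial in
theorem aux {K : Type*} [Field K] [NeZero (2 : K)] (x y : MvPolynomial (Fin 2) K)
    (hx : x = X 0) (hy : y = X 1)
    (R : Subalgebra K (MvPolynomial (Fin 2) K))
    (hx2m : x ^ 2 ∈ R) (hxym : x * y ∈ R) (hym : y ∈ R)
    (hind : ∀ p : (f : MvPolynomial (Fin 2) K) → f ∈ R → Prop,
      p (x ^ 2) hx2m → p (x * y) hxym → p y hym →
      (∀ r, p (algebraMap K _ r) (Subalgebra.algebraMap_mem R r)) →
      (∀ f g hf hg, p f hf → p g hg → p (f + g) (add_mem hf hg)) →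
      (∀ f g hf hg, p f hf → p g hg → p (f * g) (mul_mem hf hg)) → ∀ f hf, p f hf)
    (δ : Derivation K R (MvPolynomial (Fin 2) K)) :
    ∃! D : Derivation K (MvPolynomial (Fin 2) K) (MvPolynomial (Fin 2) K),
      ∀ r : R, D (r : MvPolynomial (Fin 2) K) = δ r := by
  classical
  set a := δ ⟨x ^ 2, hx2m⟩ with ha
  set c := δ ⟨x * y, hxym⟩ with hc
  set e := δ ⟨y, hym⟩ with he
  have hsmul : ∀ (r : R) (s : MvPolynomial (Fin 2) K), r • s = (r : MvPolynomial (Fin 2) K) * s :=
    fun r s => rfl
  have hrel : (⟨x * y, hxym⟩ : R) * ⟨x * y, hxym⟩ = ⟨x ^ 2, hx2m⟩ * (⟨y, hym⟩ * ⟨y, hym⟩) :=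
    Subtype.ext (by show x * y * (x * y) = x ^ 2 * (y * y); ring)
  have hδ := congrArg δ hrel
  rw [Derivation.leibniz, Derivation.leibniz, Derivation.leibniz] at hδ
  simp only [hsmul, smul_add] at hδ
  have hδ' : x * y * c + x * y * c = x ^ 2 * (y * e + y * e) + y * y * a := hδ
  have hkey : y * (2 * x * (c - x * e)) = y * (y * a) := by linear_combination hδ'
  have hy0 : y ≠ 0 := by rw [hy]; exact MvPolynomial.X_ne_zero 1
  have hkey' : 2 * x * (c - x * e) = y * a := mul_left_cancel₀ hy0 hkey
  obtain ⟨d, hd⟩ : y ∣ c - x * e := by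
    rw [hy]
    apply X1_dvd_of_dvd_two_X0_mul
    rw [← hx, ← hy]
    exact ⟨a, hkey'⟩
  have ha2 : a = 2 * x * d := by
    have : y * a = y * (2 * x * d) := by rw [← hkey', hd]; ring
    exact mul_left_cancel₀ hy0 this
  let D : Derivation K (MvPolynomial (Fin 2) K) (MvPolynomial (Fin 2) K) :=
    MvPolynomial.mkDerivation K ![d, e]
  have hDx : D x = d := by
    rw [hx]
    show MvPolynomial.mkDerivation K ![d, e] (MvPolynomial.X 0) = d
    rw [MvPolynomial.mkDerivation_X]; rfl
  have hDy : D y = e := by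
    rw [hy]
    show MvPolynomial.mkDerivation K ![d, e] (MvPolynomial.X 1) = e
    rw [MvPolynomial.mkDerivation_X]; rfl
  have hDres : ∀ (f : MvPolynomial (Fin 2) K) (hf : f ∈ R), D f = δ ⟨f, hf⟩ := by
    apply hind (fun f hf => D f = δ ⟨f, hf⟩)
    · show D (x ^ 2) = a
      rw [ha2, pow_two, Derivation.leibniz, hDx, smul_eq_mul]; ring
    · show D (x * y) = c
      rw [Derivation.leibniz, hDx, hDy, smul_eq_mul, smul_eq_mul]
      linear_combination (-1 : MvPolynomial (Fin 2) K) * hd
    · exact hDy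
    · intro r
      rw [Derivation.map_algebraMap]
      have : (⟨algebraMap K (MvPolynomial (Fin 2) K) r, Subalgebra.algebraMap_mem R r⟩ : R) =
          algebraMap K R r := rfl
      rw [this, Derivation.map_algebraMap]
    · intro f g hf hg ihf ihg
      have : (⟨f + g, add_mem hf hg⟩ : R) = ⟨f, hf⟩ + ⟨g, hg⟩ := rfl
      rw [this, map_add, map_add, ihf, ihg]
    · intro f g hf hg ihf ihg
      have : (⟨f * g, mul_mem hf hg⟩ : R) = ⟨f, hf⟩ * ⟨g, hg⟩ := rfl
      rw [this, Derivation.leibniz, Derivation.leibniz, ihf, ihg]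
      rfl
  refine ⟨D, fun r => hDres r.1 r.2, ?_⟩
  intro D₁ hD₁
  apply MvPolynomial.derivation_ext
  intro i
  have h1y : D₁ y = e := hD₁ ⟨y, hym⟩
  have h1xy : D₁ (x * y) = c := hD₁ ⟨x * y, hxym⟩
  rw [Derivation.leibniz, h1y, smul_eq_mul, smul_eq_mul] at h1xy
  have h1x : D₁ x = d := by
    have : y * D₁ x = y * d := by linear_combination h1xy + hd
    exact mul_left_cancel₀ hy0 this
  fin_cases i
  · show D₁ (X 0) = D (X 0)
    rw [← hx, h1x, hDx]
  · show D₁ (X 1) = D (X 1)
    rw [← hy, h1y, hDy]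

/-- Let K be a field in which 2 ≠ 0, S = K[x, y], and R ⊆ S the K-subalgebra generated by x^2, x y and
y; R is the coordinate ring of the pinch point u^2 = v^2 w (u = x y, v = y, w = x^2) and S is its
normalization. Then restriction along R ⊆ S is a bijection from the K-derivations S → S onto the
K-derivations R → S: every K-derivation R → S extends uniquely to S. In sheaf terms, the natural
injective map from the tangent sheaf of the normalization to the dual of the pulled-back sheaf of
differentials of the pinch point is an isomorphism. (The text works over an algebraically closed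
field of characteristic different from 2 and for every semi-smooth variety; only this model case is
stated, and the computation uses only 2 ≠ 0.) -/
theorem result
    (K : Type u) [Field K] [NeZero (2 : K)] :
    letI R : Subalgebra K (MvPolynomial (Fin 2) K) :=
      Algebra.adjoin K {MvPolynomial.X 0 ^ 2, MvPolynomial.X 0 * MvPolynomial.X 1, MvPolynomial.X 1}
    ∀ δ : Derivation K R (MvPolynomial (Fin 2) K),
      ∃! D : Derivation K (MvPolynomial (Fin 2) K) (MvPolynomial (Fin 2) K),
        ∀ r : R, D (r : MvPolynomial (Fin 2) K) = δ r := by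

  intro δ
  refine aux (MvPolynomial.X 0) (MvPolynomial.X 1) rfl rfl _
    (Algebra.subset_adjoin (by simp)) (Algebra.subset_adjoin (by simp))
    (Algebra.subset_adjoin (by simp)) ?_ δ
  intro p h1 h2 h3 h4 h5 h6 f hf
  induction hf using Algebra.adjoin_induction with
  | mem f hf =>
    rcases hf with rfl | rfl | rfl
    · exact h1
    · exact h2
    · exact h3
  | algebraMap r => exact h4 r
  | add f g hf hg ihf ihg => exact h5 f g hf hg ihf ihg
  | mul f g hf hg ihf ihg => exact h6 f g hf hg ihf ihg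

end Groth.Agent.S18122
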