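import Groth.Statements.S18123
import Mathlib

set_option autoImplicit false
universe u
open Pinch

namespace Groth.Agent.S18123



namespace PinchAux
open MvPolynomial

variable {K : Type*} [Field K]

/-- evaluation `y ↦ 0` into `K[X]` -/
noncomputable def ε : MvPolynomial (Fin 2) K →ₐ[K] Polynomial K :=
  MvPolynomial.aeval ![Polynomial.X, 0]

/-- inclusion `X ↦ x` -/
noncomputable def ι : Polynomial K →ₐ[K] MvPolynomial (Fin 2) K :=
  Polynomial.aeval (X 0)

theorem ε_X0 : ε (X 0 : MvPolynomial (Fin 2) K) = Polynomial.X := by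
  simp [ε]

theorem ε_X1 : ε (X 1 : MvPolynomial (Fin 2) K) = 0 := by
  simp [ε]

theorem ι_X : ι (Polynomial.X : Polynomial K) = X 0 := by
  simp [ι]

theorem X1_dvd_sub (g : MvPolynomial (Fin 2) K) : (X 1 : MvPolynomial (Fin 2) K) ∣ g - ι (ε g) := by
  induction g using MvPolynomial.induction_on with
  | C a =>
    have : ι (ε (C a : MvPolynomial (Fin 2) K)) = C a := by
      simp [ε, ι]
    rw [this, sub_self]
    exact dvd_zero _
  | add p q hp hq =>
    rw [map_add, map_add]
    have : p + q - (ι (ε p) + ι (ε q)) = (p - ι (ε p)) + (q - ι (ε q)) := by ring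
    rw [this]
    exact dvd_add hp hq
  | mul_X p i hp =>
    rw [map_mul, map_mul]
    fin_cases i
    · show X 1 ∣ p * X 0 - ι (ε p) * ι (ε (X 0))
      rw [ε_X0, ι_X]
      have : p * X 0 - ι (ε p) * X 0 = (p - ι (ε p)) * X 0 := by ring
      rw [this]
      exact Dvd.dvd.mul_right hp _
    · show X 1 ∣ p * X 1 - ι (ε p) * ι (ε (X 1))
      rw [ε_X1, map_zero, mul_zero, sub_zero]
      exact Dvd.intro_left _ rfl

/-- the pinch subalgebra -/
noncomputable abbrev Rp (K : Type*) [Field K] : Subalgebra K (MvPolynomial (Fin 2) K) :=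
  Algebra.adjoin K {X 0 ^ 2, X 0 * X 1, X 1}

theorem x2_mem : (X 0 ^ 2 : MvPolynomial (Fin 2) K) ∈ Rp K := Algebra.subset_adjoin (by simp)
theorem xy_mem : (X 0 * X 1 : MvPolynomial (Fin 2) K) ∈ Rp K := Algebra.subset_adjoin (by simp)
theorem y_mem : (X 1 : MvPolynomial (Fin 2) K) ∈ Rp K := Algebra.subset_adjoin (by simp)

theorem X1_mul_mem (h : MvPolynomial (Fin 2) K) : X 1 * h ∈ Rp K := by
  induction h using MvPolynomial.induction_on' with
  | monomial u a =>
    have hmono : (monomial u a : MvPolynomial (Fin 2) K) = C a * (X 0 ^ u 0 * X 1 ^ u 1) := by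
      rw [monomial_eq, Finsupp.prod_fintype _ _ (fun i => pow_zero _), Fin.prod_univ_two]
    rcases Nat.even_or_odd' (u 0) with ⟨m, hm | hm⟩
    · have e1 : X 1 * (monomial u a : MvPolynomial (Fin 2) K) =
          C a * ((X 0 ^ 2) ^ m * X 1 ^ (u 1 + 1)) := by
        rw [hmono, hm]; ring
      rw [e1]
      exact (Rp K).mul_mem ((Rp K).algebraMap_mem a)
        ((Rp K).mul_mem ((Rp K).pow_mem x2_mem m) ((Rp K).pow_mem y_mem _))
    · have e1 : X 1 * (monomial u a : MvPolynomial (Fin 2) K) =
          C a * ((X 0 ^ 2) ^ m * (X 0 * X 1) * X 1 ^ (u 1)) := by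
        rw [hmono, hm]; ring
      rw [e1]
      exact (Rp K).mul_mem ((Rp K).algebraMap_mem a)
        ((Rp K).mul_mem ((Rp K).mul_mem ((Rp K).pow_mem x2_mem m) xy_mem) ((Rp K).pow_mem y_mem _))
  | add p q hp hq =>
    rw [mul_add]
    exact (Rp K).add_mem hp hq

theorem exists_expand_of_mem (f : MvPolynomial (Fin 2) K) (hf : f ∈ Rp K) :
    ∃ q : Polynomial K, ε f = Polynomial.expand K 2 q := by
  have hle : Rp K ≤ (AlgHom.range (Polynomial.expand K 2)).comap ε := by
    apply Algebra.adjoin_le
    rintro g (rfl | rfl | rfl)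
    · refine ⟨Polynomial.X, ?_⟩
      show Polynomial.expand K 2 Polynomial.X = ε (X 0 ^ 2)
      rw [map_pow, ε_X0, Polynomial.expand_X]
    · refine ⟨0, ?_⟩
      show Polynomial.expand K 2 0 = ε (X 0 * X 1)
      rw [map_mul, ε_X1, mul_zero, map_zero]
    · refine ⟨0, ?_⟩
      show Polynomial.expand K 2 0 = ε (X 1)
      rw [ε_X1, map_zero]
  obtain ⟨q, hq⟩ := hle hf
  exact ⟨q, hq.symm⟩

theorem eq_zero_of_parity (u q r : Polynomial K) (hu : u = Polynomial.expand K 2 q)
    (h : Polynomial.X * u = Polynomial.expand K 2 r) : u = 0 := by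
  ext n
  rw [Polynomial.coeff_zero]
  rcases Nat.even_or_odd' n with ⟨m, hm | hm⟩
  · have h1 := congrArg (fun f => Polynomial.coeff f (2 * m + 1)) h
    simp only [Polynomial.coeff_X_mul] at h1
    rw [Polynomial.coeff_expand (by norm_num : 0 < 2), if_neg (by omega)] at h1
    rw [hm]; exact h1
  · rw [hu, Polynomial.coeff_expand (by norm_num : 0 < 2), if_neg (by omega)]

theorem exists_odd (v r : Polynomial K) (h : Polynomial.X * v = Polynomial.expand K 2 r) :
    ∃ p : Polynomial K, v = Polynomial.X * Polynomial.expand K 2 p := by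
  have h0 : r.coeff 0 = 0 := by
    have h1 := congrArg (fun f => Polynomial.coeff f 0) h
    simp only [Polynomial.mul_coeff_zero, Polynomial.coeff_X_zero, zero_mul] at h1
    rw [Polynomial.coeff_expand (by norm_num : 0 < 2), if_pos (dvd_zero 2), Nat.zero_div] at h1
    exact h1.symm
  have hr : r = Polynomial.X * r.divX := by
    conv_lhs => rw [← Polynomial.divX_mul_X_add r, h0, map_zero, add_zero, mul_comm]
  refine ⟨r.divX, ?_⟩
  rw [hr, map_mul, Polynomial.expand_X] at h
  have h2 : Polynomial.X * v = Polynomial.X * (Polynomial.X * Polynomial.expand K 2 r.divX) := by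
    rw [h]; ring
  exact mul_left_cancel₀ Polynomial.X_ne_zero h2

end PinchAux

/-- Let K be a field in which 2 ≠ 0, S = K[x, y], and R ⊆ S the K-subalgebra generated by x^2, x y, y,
the coordinate ring of the pinch point with normalization S, obtained by gluing the plane along the
line y = 0 via x ↦ -x. A K-derivation D of S maps R into R if and only if D(y) is a multiple of y
and D(x) = y s + x p(x^2) for some s in S and some polynomial p in one variable. Every K-derivation
R → S extends uniquely to S, and under this identification the derivations mapping R into R form the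
image of the tangent sheaf of the pinch point in that of its normalization; so this image contains y
times all derivations of S, and modulo those it is spanned by the odd multiples x^(2k+1) ∂/∂x, the
part of the tangent sheaf of the line y = 0 invariant under x ↦ -x. (The text works over an
algebraically closed field of characteristic different from 2; the computation uses only 2 ≠ 0.) -/
theorem result
    (K : Type u) [Field K] [NeZero (2 : K)]
    (D : Derivation K (MvPolynomial (Fin 2) K) (MvPolynomial (Fin 2) K)) :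
    letI x : MvPolynomial (Fin 2) K := MvPolynomial.X 0
    letI y : MvPolynomial (Fin 2) K := MvPolynomial.X 1
    letI R : Subalgebra K (MvPolynomial (Fin 2) K) := Algebra.adjoin K {x ^ 2, x * y, y}
    (∀ r ∈ R, D r ∈ R) ↔
      (D y ∈ Ideal.span {y} ∧
        ∃ (s : MvPolynomial (Fin 2) K) (p : Polynomial K), D x = y * s + x * Polynomial.aeval (x ^ 2) p) := by

  classical
  have h2 : (2 : K) ≠ 0 := NeZero.ne 2
  show (∀ r ∈ PinchAux.Rp K, D r ∈ PinchAux.Rp K) ↔
    (D (MvPolynomial.X 1) ∈ Ideal.span {(MvPolynomial.X 1 : MvPolynomial (Fin 2) K)} ∧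
      ∃ (s : MvPolynomial (Fin 2) K) (p : Polynomial K), D (MvPolynomial.X 0) =
        MvPolynomial.X 1 * s + MvPolynomial.X 0 * Polynomial.aeval (MvPolynomial.X 0 ^ 2) p)
  constructor
  · intro h
    obtain ⟨q, hq⟩ := PinchAux.exists_expand_of_mem _ (h _ PinchAux.y_mem)
    obtain ⟨r, hr⟩ := PinchAux.exists_expand_of_mem _ (h _ PinchAux.xy_mem)
    rw [Derivation.leibniz, smul_eq_mul, smul_eq_mul, map_add, map_mul, map_mul, PinchAux.ε_X0,
      PinchAux.ε_X1, zero_mul, add_zero] at hr
    have hεy : PinchAux.ε (D (MvPolynomial.X 1)) = 0 := PinchAux.eq_zero_of_parity _ q r hq hr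
    constructor
    · rw [Ideal.mem_span_singleton]
      have h1 := PinchAux.X1_dvd_sub (D (MvPolynomial.X 1))
      rwa [hεy, map_zero, sub_zero] at h1
    · obtain ⟨r', hr'⟩ := PinchAux.exists_expand_of_mem _ (h _ PinchAux.x2_mem)
      rw [pow_two, Derivation.leibniz, smul_eq_mul, map_add, map_mul, PinchAux.ε_X0] at hr'
      have h3 : Polynomial.X * PinchAux.ε (D (MvPolynomial.X 0)) =
          Polynomial.expand K 2 (Polynomial.C (2 : K)⁻¹ * r') := by
        rw [map_mul, Polynomial.expand_C, ← hr', ← two_mul, ← mul_assoc]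
        have : (Polynomial.C (2 : K)⁻¹ * 2 : Polynomial K) = 1 := by
          rw [← Polynomial.C_ofNat, ← Polynomial.C_mul, inv_mul_cancel₀ h2, Polynomial.C_1]
        rw [this, one_mul]
      obtain ⟨p, hp⟩ := PinchAux.exists_odd _ _ h3
      obtain ⟨s, hs⟩ := PinchAux.X1_dvd_sub (D (MvPolynomial.X 0))
      refine ⟨s, p, ?_⟩
      have h4 : PinchAux.ι (PinchAux.ε (D (MvPolynomial.X 0))) =
          MvPolynomial.X 0 * Polynomial.aeval (MvPolynomial.X 0 ^ 2) p := by
        rw [hp, map_mul, PinchAux.ι_X]
        congr 1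
        show Polynomial.aeval (MvPolynomial.X 0) (Polynomial.expand K 2 p) = _
        rw [Polynomial.expand_aeval]
      rw [← h4, ← hs]
      ring
  · rintro ⟨hy, s, p, hx⟩
    rw [Ideal.mem_span_singleton] at hy
    obtain ⟨w, hw⟩ := hy
    have hp : Polynomial.aeval (MvPolynomial.X 0 ^ 2 : MvPolynomial (Fin 2) K) p ∈ PinchAux.Rp K := by
      have h1 := Polynomial.aeval_mem_adjoin_singleton K (MvPolynomial.X 0 ^ 2 : MvPolynomial (Fin 2) K)
        (p := p)
      exact Algebra.adjoin_mono (by simp) h1
    intro r hr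
    induction hr using Algebra.adjoin_induction with
    | mem f hf =>
      rcases hf with rfl | rfl | rfl
      · rw [pow_two, Derivation.leibniz, smul_eq_mul, hx]
        have : MvPolynomial.X 0 * (MvPolynomial.X 1 * s + MvPolynomial.X 0 *
            Polynomial.aeval (MvPolynomial.X 0 ^ 2) p) + MvPolynomial.X 0 * (MvPolynomial.X 1 * s +
            MvPolynomial.X 0 * Polynomial.aeval (MvPolynomial.X 0 ^ 2) p) =
            MvPolynomial.X 1 * (2 * MvPolynomial.X 0 * s) + (MvPolynomial.X 0 ^ 2 *
              Polynomial.aeval (MvPolynomial.X 0 ^ 2) p + MvPolynomial.X 0 ^ 2 *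
              Polynomial.aeval (MvPolynomial.X 0 ^ 2) p) := by ring
        rw [this]
        exact (PinchAux.Rp K).add_mem (PinchAux.X1_mul_mem _)
          ((PinchAux.Rp K).add_mem ((PinchAux.Rp K).mul_mem PinchAux.x2_mem hp)
            ((PinchAux.Rp K).mul_mem PinchAux.x2_mem hp))
      · rw [Derivation.leibniz, smul_eq_mul, smul_eq_mul, hw]
        have : MvPolynomial.X 0 * (MvPolynomial.X 1 * w) + MvPolynomial.X 1 * D (MvPolynomial.X 0) =
            MvPolynomial.X 1 * (MvPolynomial.X 0 * w + D (MvPolynomial.X 0)) := by ring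
        rw [this]
        exact PinchAux.X1_mul_mem _
      · rw [hw]
        exact PinchAux.X1_mul_mem _
    | algebraMap r =>
      rw [Derivation.map_algebraMap]
      exact (PinchAux.Rp K).zero_mem
    | add f g hf hg ihf ihg =>
      rw [map_add]
      exact (PinchAux.Rp K).add_mem ihf ihg
    | mul f g hf hg ihf ihg =>
      rw [Derivation.leibniz, smul_eq_mul, smul_eq_mul]
      exact (PinchAux.Rp K).add_mem ((PinchAux.Rp K).mul_mem hf ihg) ((PinchAux.Rp K).mul_mem hg ihf)

end Groth.Agent.S18123
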