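import Groth.Statements.S18125
import Mathlib

set_option autoImplicit false
universe u
open Pinch

namespace Groth.Agent.S18125

open MvPolynomial
open MvPolynomial

variable {K : Type u} [Field K] [NeZero (2 : K)] {n : ℕ}

/-- the monomial ideal `(u, v w, v^2)` -/
noncomputable def J' (K : Type u) [Field K] (n : ℕ) : Ideal (MvPolynomial (Fin (n + 3)) K) :=
  Ideal.span ((fun s => monomial s (1 : K)) ''
    ({Finsupp.single 0 1, Finsupp.single 1 1 + Finsupp.single 2 1, Finsupp.single 1 2} :
      Set (Fin (n + 3) →₀ ℕ)))

theorem u_mem : (X 0 : MvPolynomial (Fin (n + 3)) K) ∈ J' K n :=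
  Ideal.subset_span ⟨_, by simp, rfl⟩

theorem vw_mem : (X 1 * X 2 : MvPolynomial (Fin (n + 3)) K) ∈ J' K n := by
  apply Ideal.subset_span
  refine ⟨Finsupp.single 1 1 + Finsupp.single 2 1, by simp, ?_⟩
  change monomial _ (1 : K) = monomial _ 1 * monomial _ 1
  rw [monomial_mul, mul_one]

theorem vv_mem : (X 1 ^ 2 : MvPolynomial (Fin (n + 3)) K) ∈ J' K n := by
  apply Ideal.subset_span
  refine ⟨Finsupp.single 1 2, by simp, ?_⟩
  rw [X_pow_eq_monomial]

theorem jac_eq :
    Ideal.span {(X 0 : MvPolynomial (Fin (n + 3)) K) ^ 2 - X 1 ^ 2 * X 2, 2 * X 0,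
      -(2 * X 1 * X 2), -(X 1 ^ 2)} = J' K n := by
  have h2 : (2 : MvPolynomial (Fin (n + 3)) K) = C 2 := (map_ofNat C 2).symm
  have hinv : (C (2⁻¹ : K) : MvPolynomial (Fin (n + 3)) K) * C 2 = 1 := by
    rw [← C_mul, inv_mul_cancel₀ (NeZero.ne (2 : K)), C_1]
  apply le_antisymm
  · rw [Ideal.span_le]
    rintro x (rfl | rfl | rfl | rfl)
    · have : (X 0 : MvPolynomial (Fin (n + 3)) K) ^ 2 - X 1 ^ 2 * X 2 =
          X 0 * X 0 - X 2 * X 1 ^ 2 := by ring
      rw [this]
      exact Ideal.sub_mem _ (Ideal.mul_mem_left _ _ u_mem) (Ideal.mul_mem_left _ _ vv_mem)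
    · exact Ideal.mul_mem_left _ _ u_mem
    · have : -(2 * X 1 * X 2 : MvPolynomial (Fin (n + 3)) K) = (-2) * (X 1 * X 2) := by ring
      rw [this]
      exact Ideal.mul_mem_left _ _ vw_mem
    · exact neg_mem vv_mem
  · unfold J'
    rw [Ideal.span_le]
    rintro x ⟨s, hs, rfl⟩
    simp only [Set.mem_insert_iff, Set.mem_singleton_iff] at hs
    rcases hs with rfl | rfl | rfl <;> beta_reduce
    · have : (monomial (Finsupp.single 0 1) (1 : K) : MvPolynomial (Fin (n + 3)) K) =
          C (2⁻¹ : K) * (2 * X 0) := by
        rw [h2, ← mul_assoc, hinv, one_mul]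
        rfl
      rw [this]
      exact Ideal.mul_mem_left _ _ (Ideal.subset_span (by simp))
    · have : (monomial (Finsupp.single 1 1 + Finsupp.single 2 1) (1 : K) :
          MvPolynomial (Fin (n + 3)) K) = (-C (2⁻¹ : K)) * (-(2 * X 1 * X 2)) := by
        have h3 : (-C (2⁻¹ : K)) * (-(2 * X 1 * X 2) : MvPolynomial (Fin (n + 3)) K) =
            (C (2⁻¹ : K) * C 2) * (X 1 * X 2) := by
          rw [h2]
          ring
        rw [h3, hinv, one_mul]
        change monomial _ (1 : K) = monomial _ 1 * monomial _ 1
        rw [monomial_mul, mul_one]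
      rw [this]
      exact Ideal.mul_mem_left _ _ (Ideal.subset_span (by simp))
    · have : (monomial (Finsupp.single 1 2) (1 : K) : MvPolynomial (Fin (n + 3)) K) =
          -(-(X 1 ^ 2)) := by
        rw [neg_neg, X_pow_eq_monomial]
      rw [this]
      exact neg_mem (Ideal.subset_span (by simp))


/-- Let K be a field in which 2 ≠ 0, n ≥ 0, S = K[u, v, w, t_1, …, t_n] (u, v, w the first three
variables), h = u^2 - v^2 w the equation of the pinch-point model, and Jac the ideal generated by h
and its three partial derivatives 2u, -2vw, -v^2, which cuts out the scheme-theoretic singular locus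
of {h = 0}. Then the ideal (u, v) of the double locus is Jac + (v), and the colon ideal of Jac by
(v) is (u, v, w). Consequently (u, v)/Jac, the ideal of the double locus restricted to the singular
locus, is an invertible sheaf on the pinch locus u = v = w = 0: it is free of rank one over K[t_1,
…, t_n] on the class of v. (The text states this for every semi-smooth variety and reduces to this
model; K algebraically closed is not needed for the model computation.) -/
theorem result
    (K : Type u) [Field K] [NeZero (2 : K)] (n : ℕ) :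
    letI u : MvPolynomial (Fin (n + 3)) K := MvPolynomial.X 0
    letI v : MvPolynomial (Fin (n + 3)) K := MvPolynomial.X 1
    letI w : MvPolynomial (Fin (n + 3)) K := MvPolynomial.X 2
    letI Jac : Ideal (MvPolynomial (Fin (n + 3)) K) :=
      Ideal.span {u ^ 2 - v ^ 2 * w, 2 * u, -(2 * v * w), -(v ^ 2)}
    Ideal.span {u, v} = Jac ⊔ Ideal.span {v} ∧ Jac.colon (Ideal.span {v}) = Ideal.span {u, v, w} := by
  change Ideal.span {(X 0 : MvPolynomial (Fin (n + 3)) K), X 1} =
      Ideal.span {(X 0 : MvPolynomial (Fin (n + 3)) K) ^ 2 - X 1 ^ 2 * X 2, 2 * X 0,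
        -(2 * X 1 * X 2), -(X 1 ^ 2)} ⊔ Ideal.span {X 1} ∧
    (Ideal.span {(X 0 : MvPolynomial (Fin (n + 3)) K) ^ 2 - X 1 ^ 2 * X 2, 2 * X 0,
        -(2 * X 1 * X 2), -(X 1 ^ 2)}).colon (Ideal.span {(X 1 : MvPolynomial (Fin (n + 3)) K)}) =
      Ideal.span {X 0, X 1, X 2}
  rw [jac_eq]
  constructor
  · apply le_antisymm
    · rw [Ideal.span_le]
      rintro x (rfl | rfl)
      · exact Ideal.mem_sup_left u_mem
      · exact Ideal.mem_sup_right (Ideal.subset_span rfl)
    · rw [sup_le_iff]
      constructor
      · unfold J'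
        rw [Ideal.span_le]
        rintro x ⟨s, hs, rfl⟩
        simp only [Set.mem_insert_iff, Set.mem_singleton_iff] at hs
        rcases hs with rfl | rfl | rfl <;> beta_reduce
        · exact Ideal.subset_span (Or.inl rfl)
        · have : (monomial (Finsupp.single 1 1 + Finsupp.single 2 1) (1 : K) :
              MvPolynomial (Fin (n + 3)) K) = X 2 * X 1 := by
            rw [mul_comm]
            change monomial _ (1 : K) = monomial _ 1 * monomial _ 1
            rw [monomial_mul, mul_one]
          rw [this]
          exact Ideal.mul_mem_left _ _ (Ideal.subset_span (Or.inr rfl))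
        · rw [← X_pow_eq_monomial, pow_two]
          exact Ideal.mul_mem_left _ _ (Ideal.subset_span (Or.inr rfl))
      · rw [Ideal.span_le]
        rintro x rfl
        exact Ideal.subset_span (Or.inr rfl)
  · ext f
    rw [Submodule.mem_colon]
    constructor
    · intro h
      have hfv : f * X 1 ∈ J' K n := h (X 1) (Ideal.subset_span rfl)
      unfold J' at hfv
      rw [mem_ideal_span_monomial_image] at hfv
      have hX : ({X 0, X 1, X 2} : Set (MvPolynomial (Fin (n + 3)) K)) =
          X '' ({0, 1, 2} : Set (Fin (n + 3))) := by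
        simp [Set.image_insert_eq]
      rw [hX, mem_ideal_span_X_image]
      intro m hm
      have hm' : m + Finsupp.single 1 1 ∈ (f * X 1).support := by
        rw [support_mul_X]
        exact Finset.mem_map.mpr ⟨m, hm, rfl⟩
      obtain ⟨si, hsi, hle⟩ := hfv _ hm'
      simp only [Set.mem_insert_iff, Set.mem_singleton_iff] at hsi
      rcases hsi with rfl | rfl | rfl
      · refine ⟨0, by simp, ?_⟩
        have := hle 0
        simp at this
        omega
      · refine ⟨2, by simp, ?_⟩
        have := hle 2
        simp at this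
        omega
      · refine ⟨1, by simp, ?_⟩
        have := hle 1
        simp at this
        omega
    · intro hf s hs
      obtain ⟨a, rfl⟩ := Ideal.mem_span_singleton'.mp hs
      rw [smul_eq_mul]
      have hfv : f * X 1 ∈ J' K n := by
        refine Submodule.span_induction (p := fun f _ => f * X 1 ∈ J' K n) ?_ ?_ ?_ ?_ hf
        · rintro x (rfl | rfl | rfl)
          · rw [mul_comm]
            exact Ideal.mul_mem_left _ _ u_mem
          · rw [← pow_two]
            exact vv_mem
          · rw [mul_comm]
            exact vw_mem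
        · rw [zero_mul]
          exact Ideal.zero_mem _
        · intro x y _ _ hx hy
          rw [add_mul]
          exact Ideal.add_mem _ hx hy
        · intro a x _ hx
          rw [smul_eq_mul, mul_assoc]
          exact Ideal.mul_mem_left _ _ hx
      have : f * (a * X 1) = a * (f * X 1) := by ring
      rw [this]
      exact Ideal.mul_mem_left _ _ hfv

end Groth.Agent.S18125
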