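import Groth.Statements.S18127
-- import your own Groth.Agent.* helpers here

set_option autoImplicit false
universe u
open LocAlg

namespace Groth.Agent.S18127

open Matrix in
theorem det_mem_pow_of_cols {R : Type*} [CommRing R] {n : Type*} [Fintype n] [DecidableEq n]
    (N : Matrix n n R) (I : Ideal R) (Z : Finset n) (h : ∀ j ∈ Z, ∀ i, N i j ∈ I) :
    N.det ∈ I ^ Z.card := by
  rw [Matrix.det_apply]
  refine Ideal.sum_mem _ (fun σ _ => ?_)
  have hprod : ∏ i, N (σ i) i ∈ I ^ Z.card := by
    rw [← Finset.prod_mul_prod_compl Z]
    refine Ideal.mul_mem_right _ _ ?_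
    have := Ideal.prod_mem_prod (ι := n) (s := Z) (I := fun _ => I) (x := fun i => N (σ i) i)
      (fun i hi => h i hi (σ i))
    rwa [Finset.prod_const] at this
  rcases Int.units_eq_one_or (Equiv.Perm.sign σ) with h1 | h1 <;> rw [h1]
  · simpa using hprod
  · simpa using hprod

open Matrix in
noncomputable def liftT {R : Type*} [CommRing R] [IsLocalRing R] {n : Type*}
    (t : TransvectionStruct n (IsLocalRing.ResidueField R)) : TransvectionStruct n R :=
  ⟨t.i, t.j, t.hij, (IsLocalRing.residue_surjective t.c).choose⟩

open Matrix in
theorem liftT_map {R : Type*} [CommRing R] [IsLocalRing R] {n : Type*} [Fintype n] [DecidableEq n]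
    (t : TransvectionStruct n (IsLocalRing.ResidueField R)) :
    (IsLocalRing.residue R).mapMatrix (liftT t).toMatrix = t.toMatrix := by
  have hc : IsLocalRing.residue R (liftT t).c = t.c := (IsLocalRing.residue_surjective t.c).choose_spec
  ext a b
  simp only [RingHom.mapMatrix_apply, Matrix.map_apply, TransvectionStruct.toMatrix,
    Matrix.transvection, Matrix.add_apply, Matrix.one_apply, Matrix.single_apply, map_add]
  congr 1
  · split_ifs <;> simp
  · change IsLocalRing.residue R (if t.i = a ∧ t.j = b then (liftT t).c else 0) = _
    split_ifs
    · exact hc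
    · exact map_zero _

open Matrix in
theorem liftT_prod {R : Type*} [CommRing R] [IsLocalRing R] {n : Type*} [Fintype n] [DecidableEq n]
    (L : List (TransvectionStruct n (IsLocalRing.ResidueField R))) :
    (IsLocalRing.residue R).mapMatrix ((L.map liftT).map TransvectionStruct.toMatrix).prod =
      (L.map TransvectionStruct.toMatrix).prod := by
  rw [map_list_prod, List.map_map, List.map_map]
  congr 1
  apply List.map_congr_left
  intro t _
  exact liftT_map t

/-- Let R be a local ring with maximal ideal m and algebraically closed residue field, and M an n × n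
matrix over R whose reduction modulo m has rank at most r. Then the determinant of M lies in m^(n −
r). (The published setting is the local ring of germs of holomorphic functions at a point of a
complex manifold, where this says that the determinant vanishes to order at least n − r at a point
where the matrix has rank at most r.) -/
theorem result
    {R : Type u} [CommRing R] [IsLocalRing R] [IsAlgClosed (IsLocalRing.ResidueField R)]
    {n : ℕ} (M : Matrix (Fin n) (Fin n) R) (r : ℕ)
    (hr : (M.map (IsLocalRing.residue R)).rank ≤ r) :
    M.det ∈ IsLocalRing.maximalIdeal R ^ (n - r) := by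
  classical
  obtain ⟨L, L', D, hD⟩ := Matrix.Pivot.exists_list_transvec_mul_mul_list_transvec_eq_diagonal
    (M.map (IsLocalRing.residue R))
  set P := ((L.map liftT).map Matrix.TransvectionStruct.toMatrix).prod with hP
  set Q := ((L'.map liftT).map Matrix.TransvectionStruct.toMatrix).prod with hQ
  have hdet : (P * M * Q).det = M.det := by
    rw [Matrix.det_mul, Matrix.det_mul, hP, hQ, Matrix.TransvectionStruct.det_toMatrix_prod,
      Matrix.TransvectionStruct.det_toMatrix_prod, one_mul, mul_one]
  have hmap : (IsLocalRing.residue R).mapMatrix (P * M * Q) = Matrix.diagonal D := by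
    rw [map_mul, map_mul, hP, hQ, liftT_prod, liftT_prod, ← hD]
    rfl
  have hrank : (Matrix.diagonal D).rank ≤ r := by
    rw [← hD, Matrix.rank_mul_eq_left_of_isUnit_det _ _
      (by rw [Matrix.TransvectionStruct.det_toMatrix_prod]; exact isUnit_one),
      Matrix.rank_mul_eq_right_of_isUnit_det _ _
      (by rw [Matrix.TransvectionStruct.det_toMatrix_prod]; exact isUnit_one)]
    exact hr
  rw [Matrix.rank_diagonal] at hrank
  set Z : Finset (Fin n) := Finset.univ.filter (fun i => D i = 0) with hZ
  have hZcard : n - r ≤ Z.card := by
    have h1 : (Finset.univ.filter (fun i => ¬ D i = 0)).card ≤ r := by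
      rw [← Fintype.card_subtype]
      convert hrank
    have h2 := Finset.card_filter_add_card_filter_not (s := (Finset.univ : Finset (Fin n)))
      (fun i => D i = 0)
    rw [Finset.card_univ, Fintype.card_fin] at h2
    change Z.card + _ = n at h2
    omega
  have hcols : ∀ j ∈ Z, ∀ i, (P * M * Q) i j ∈ IsLocalRing.maximalIdeal R := by
    intro j hj i
    rw [← IsLocalRing.residue_eq_zero_iff]
    have := congrFun (congrFun hmap i) j
    rw [RingHom.mapMatrix_apply, Matrix.map_apply] at this
    rw [this, Matrix.diagonal_apply]
    split_ifs with hij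
    · subst hij; exact (Finset.mem_filter.1 hj).2
    · rfl
  rw [← hdet]
  exact Ideal.pow_le_pow_right hZcard (det_mem_pow_of_cols _ _ Z hcols)

end Groth.Agent.S18127
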