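import Groth.Statements.S18153
import Mathlib

set_option autoImplicit false
universe u w
open FrobAlg

namespace Groth.Agent.S18153

theorem det_eq_zero_of_col_sum {R : Type*} [CommRing R] {m : ℕ} (hm : 0 < m)
    (Mat : Matrix (Fin m) (Fin m) R) (hcol : ∀ j, ∑ i, Mat i j = 0) : Mat.det = 0 := by
  have h1 : Matrix.vecMul (fun _ => (1 : R)) Mat = 0 := by
    ext j
    simp [Matrix.vecMul, dotProduct, hcol j]
  have h2 := congrArg (fun w => Matrix.vecMul w (Matrix.adjugate Mat)) h1
  simp only [Matrix.vecMul_vecMul, Matrix.mul_adjugate, Matrix.zero_vecMul] at h2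
  have := congrFun h2 ⟨0, hm⟩
  simpa [Matrix.vecMul_smul] using this

section
variable (p : ℕ) [Fact p.Prime] (R : Type u) [CommRing R] [CharP R p] {m : ℕ} (σ : Type w)

/-- the Jacobian-coefficient as an `R`-multilinear map -/
noncomputable def jacCoeff (μ : (Fin m ⊕ σ) →₀ ℕ) :
    MultilinearMap R (fun _ : Fin m => MvPolynomial (Fin m ⊕ σ) R) R :=
  (MvPolynomial.lcoeff R μ).compMultilinearMap
    (((Matrix.detRowAlternating (R := MvPolynomial (Fin m ⊕ σ) R) (n := Fin m)).toMultilinearMap.restrictScalars R).compLinearMap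
      (fun _ => LinearMap.pi (fun j : Fin m => (MvPolynomial.pderiv (R := R) (Sum.inl j : Fin m ⊕ σ)).toLinearMap)))

theorem jacCoeff_apply (μ : (Fin m ⊕ σ) →₀ ℕ) (f : Fin m → MvPolynomial (Fin m ⊕ σ) R) :
    jacCoeff R σ μ f = MvPolynomial.coeff μ
      (Matrix.of fun i j : Fin m => MvPolynomial.pderiv (Sum.inl j) (f i)).det := rfl

theorem jacCoeff_monomial (hm : 0 < m) (d : Fin m → ((Fin m ⊕ σ) →₀ ℕ)) :
    jacCoeff R σ (Finsupp.sumElim (Finsupp.equivFunOnFinite.symm fun _ : Fin m => p - 1)
      (0 : σ →₀ ℕ)) (fun i => MvPolynomial.monomial (d i) (1 : R)) = 0 := by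
  classical
  set μ : (Fin m ⊕ σ) →₀ ℕ := Finsupp.sumElim (Finsupp.equivFunOnFinite.symm fun _ : Fin m => p - 1)
      (0 : σ →₀ ℕ) with hμ
  set E : (Fin m ⊕ σ) →₀ ℕ := ∑ i : Fin m, Finsupp.single (Sum.inl i) 1 with hE
  set D : (Fin m ⊕ σ) →₀ ℕ := ∑ i : Fin m, d i with hD
  rw [jacCoeff_apply]
  have hmat : (Matrix.of fun i j : Fin m => MvPolynomial.pderiv (Sum.inl j)
      (MvPolynomial.monomial (d i) (1 : R))) =
      Matrix.of fun i j : Fin m => MvPolynomial.monomial (d i - Finsupp.single (Sum.inl j) 1)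
        ((d i (Sum.inl j) : ℕ) : R) := by
    ext i j
    simp only [Matrix.of_apply, MvPolynomial.pderiv_monomial, one_mul]
  rw [hmat, Matrix.det_apply', MvPolynomial.coeff_sum]
  -- each term
  have hterm : ∀ τ : Equiv.Perm (Fin m),
      MvPolynomial.coeff μ (((Equiv.Perm.sign τ : ℤ) : MvPolynomial (Fin m ⊕ σ) R) *
        ∏ i, (Matrix.of fun i j : Fin m => MvPolynomial.monomial (d i - Finsupp.single (Sum.inl j) 1)
        ((d i (Sum.inl j) : ℕ) : R)) (τ i) i) =
      ((Equiv.Perm.sign τ : ℤ) : R) * (if D = μ + E then ∏ i, ((d (τ i) (Sum.inl i) : ℕ) : R) else 0) := by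
    intro τ
    rw [← map_intCast (MvPolynomial.C (σ := Fin m ⊕ σ) (R := R)), MvPolynomial.coeff_C_mul]
    congr 1
    simp only [Matrix.of_apply]
    rw [← MvPolynomial.monomial_sum_prod, MvPolynomial.coeff_monomial]
    by_cases hz : ∃ i, d (τ i) (Sum.inl i) = 0
    · obtain ⟨i, hi⟩ := hz
      have : ∏ i, ((d (τ i) (Sum.inl i) : ℕ) : R) = 0 :=
        Finset.prod_eq_zero (Finset.mem_univ i) (by rw [hi, Nat.cast_zero])
      rw [this, ite_self, ite_self]
    · push Not at hz
      have hsum : ∑ i, (d (τ i) - Finsupp.single (Sum.inl i) 1) + E = D := by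
        rw [hE, hD, ← Finset.sum_add_distrib, ← Equiv.sum_comp τ d]
        refine Finset.sum_congr rfl (fun i _ => ?_)
        refine tsub_add_cancel_of_le ?_
        rw [Finsupp.single_le_iff]
        exact Nat.one_le_iff_ne_zero.2 (hz i)
      have hiff : (∑ i, (d (τ i) - Finsupp.single (Sum.inl i) 1) = μ) ↔ D = μ + E := by
        rw [← hsum]
        exact ⟨fun h => by rw [h], fun h => add_right_cancel h⟩
      simp only [hiff]
  rw [Finset.sum_congr rfl (fun τ _ => hterm τ)]
  by_cases hDμ : D = μ + E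
  · simp only [if_pos hDμ]
    have hdet := Matrix.det_apply' (Matrix.of fun i j : Fin m => ((d i (Sum.inl j) : ℕ) : R))
    simp only [Matrix.of_apply] at hdet
    rw [← hdet]
    refine det_eq_zero_of_col_sum hm _ (fun j => ?_)
    simp only [Matrix.of_apply]
    rw [← Nat.cast_sum]
    have : ∑ i, d i (Sum.inl j) = p := by
      have h1 : D (Sum.inl j) = ∑ i, d i (Sum.inl j) := by
        rw [hD, Finsupp.finsetSum_apply]
      rw [← h1, hDμ, Finsupp.add_apply, hμ, Finsupp.sumElim_inl, hE, Finsupp.finsetSum_apply]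
      simp only [Finsupp.coe_equivFunOnFinite_symm, Finsupp.single_apply, Sum.inl.injEq,
        Finset.sum_ite_eq', Finset.mem_univ, if_true]
      have := (Fact.out : p.Prime).pos
      omega
    rw [this, CharP.cast_eq_zero]
  · simp only [if_neg hDμ, mul_zero, Finset.sum_const_zero]

end

/-- Let R be a commutative ring of prime characteristic p and f_1, …, f_m (m ≥ 1) polynomials over R in
the variables t_1, …, t_m and a further, possibly empty, family of variables s_a. Then in the m × m
Jacobian determinant det(∂f_i/∂t_j) with respect to the t-variables, the coefficient of the monomial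
t_1^{p-1} ⋯ t_m^{p-1} (all s-exponents zero) vanishes. (In the source this is the claim, for formal
power series in n ≥ m variables over the base field, to which the proof of the proposition reduces;
the coefficient in question only involves truncations of the f_i, so the polynomial form over any
ring of characteristic p is the same assertion.) -/
theorem result
    (p : ℕ) [Fact p.Prime] (R : Type u) [CommRing R] [CharP R p]
    {m : ℕ} (hm : 0 < m) (σ : Type w) (f : Fin m → MvPolynomial (Fin m ⊕ σ) R) :
    MvPolynomial.coeff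
        (Finsupp.sumElim (Finsupp.equivFunOnFinite.symm fun _ : Fin m => p - 1) (0 : σ →₀ ℕ))
        (Matrix.of fun i j : Fin m => MvPolynomial.pderiv (Sum.inl j) (f i)).det = 0 := by
  rw [← jacCoeff_apply]
  have : jacCoeff R σ (Finsupp.sumElim (Finsupp.equivFunOnFinite.symm fun _ : Fin m => p - 1)
      (0 : σ →₀ ℕ)) = 0 := by
    refine Module.Basis.ext_multilinear (fun _ => MvPolynomial.basisMonomials (Fin m ⊕ σ) R)
      (fun v => ?_)
    simp only [MvPolynomial.coe_basisMonomials, zero_apply]
    exact jacCoeff_monomial p R σ hm v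
  rw [this, zero_apply]


end Groth.Agent.S18153
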