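import Groth.Statements.S18155
import Groth.Agent.Lib.Lead.SmoothSrcLocal
import Groth.Agent.Lib.Helper9.TruncWitt

set_option autoImplicit false
universe u v
open FrobAlg

namespace Groth.Agent.S18155

open Groth.Agent.Lib.Helper9

/-- a type synonym used to twist algebra structures -/
def Tw (Q : Type v) : Type v := Q

instance (Q : Type v) [CommRing Q] : CommRing (Tw Q) := inferInstanceAs (CommRing Q)

section w2

variable (p : ℕ) [Fact p.Prime] (k : Type u) [Field k] [CharP k p] [PerfectRing k p]

lemma ker_res_sq : (RingHom.ker (FrobAlg.res p k)) ^ 2 = ⊥ := by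
  have h1 : RingHom.ker (FrobAlg.res p k) = RingHom.ker (TruncWitt.c0 p k 1) := by
    ext x
    rw [RingHom.mem_ker, RingHom.mem_ker, FrobAlg.res_apply]
    rfl
  rw [h1, TruncWitt.ker_c0, TruncWitt.maximalIdeal_eq, Ideal.span_singleton_pow,
    TruncWitt.p_pow_eq_zero p k 1]
  simp

end w2


/-- Let k be an algebraically closed field of characteristic p, A a commutative k-algebra and C an étale
A-algebra. If A admits a flat lifting over W_2(k) together with a lift of Frobenius, then so does C.
(The source states this for an étale cover Y → X of smooth varieties over k; its argument uses only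
that Y is étale over X, and the affine case is stated here with no smoothness or finiteness
hypothesis on A over k.) -/
theorem result
    (p : ℕ) [Fact p.Prime] (k : Type u) [Field k] [IsAlgClosed k] [CharP k p]
    (A C : Type v) [CommRing A] [CommRing C] [Algebra k A] [Algebra k C]
    [Algebra A C] [IsScalarTower k A C] [Algebra.Etale A C]
    (hA : FrobAlg.IsFLiftable p k A) : FrobAlg.IsFLiftable p k C := by
  classical
  obtain ⟨B, _, ι, π, Φ, h⟩ := hA
  rcases subsingleton_or_nontrivial C with hC | hC
  · -- trivial case
    let ι' : W2 p k →+* C := (algebraMap k C).comp (FrobAlg.res p k)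
    refine ⟨C, inferInstance, ι', RingHom.id C, RingHom.id C, ⟨⟨?_, Function.surjective_id, ?_, ?_⟩, ?_, ?_⟩⟩
    · rw [RingHom.Flat]
      let _ : Algebra (W2 p k) C := ι'.toAlgebra
      infer_instance
    · exact Subsingleton.elim _ _
    · rfl
    · ext x; exact Subsingleton.elim _ _
    · intro b; exact Subsingleton.elim _ _
  · have hchar : CharP C p := charP_of_injective_algebraMap (algebraMap k C).injective p
    let _ : Algebra B A := π.toAlgebra
    let _ : Algebra B C := ((algebraMap A C).comp π).toAlgebra
    have hst : IsScalarTower B A C := IsScalarTower.of_algebraMap_eq (fun _ => rfl)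
    have hBA : ∀ b, algebraMap B A b = π b := fun _ => rfl
    have hBC : ∀ b, algebraMap B C b = algebraMap A C (π b) := fun _ => rfl
    obtain ⟨Q, _, _, _, πQ, hπs, hπk⟩ :=
      Groth.Agent.Lib.Lead.SmoothSrcLocal.exists_etale_lift (P := B) (A := A) (B := C) h.surj
    -- twisted structures
    let _ : Algebra B (Tw Q) := (show B →+* Tw Q from (algebraMap B Q).comp Φ).toAlgebra
    let _ : Algebra B (Tw C) := (show B →+* Tw C from (algebraMap B C).comp Φ).toAlgebra
    have hTQ : ∀ b, algebraMap B (Tw Q) b = algebraMap B Q (Φ b) := fun _ => rfl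
    have hTC : ∀ b, algebraMap B (Tw C) b = algebraMap B C (Φ b) := fun _ => rfl
    let g : Tw Q →ₐ[B] Tw C :=
      { (show Tw Q →+* Tw C from πQ.toRingHom) with
        commutes' := fun b => by
          change πQ (algebraMap B Q (Φ b)) = algebraMap B C (Φ b)
          exact πQ.commutes (Φ b) }
    have hg : ∀ q : Q, g q = πQ q := fun _ => rfl
    let f : Q →ₐ[B] Tw C :=
      { (show Q →+* Tw C from (frobenius C p).comp πQ.toRingHom) with
        commutes' := fun b => by
          change (πQ (algebraMap B Q b)) ^ p = algebraMap B C (Φ b)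
          rw [πQ.commutes, hBC, hBC, ← map_pow, h.red] }
    have hf : ∀ q : Q, f q = (πQ q) ^ p := fun _ => rfl
    have hgs : Function.Surjective g := hπs
    have hk2 : (RingHom.ker πQ) ^ 2 = ⊥ := by
      rw [hπk]
      have h2 : RingHom.ker (algebraMap B A) = RingHom.ker π := rfl
      rw [h2, h.ker_eq, Ideal.map_map, ← Ideal.map_pow, ker_res_sq, Ideal.map_bot]
    have hnil : IsNilpotent (RingHom.ker (g : Tw Q →+* Tw C)) := ⟨2, hk2⟩
    let L : Q →ₐ[B] Tw Q := Algebra.FormallySmooth.liftOfSurjective f g hgs hnil
    have hL : ∀ q : Q, πQ (L q) = (πQ q) ^ p := fun q =>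
      Algebra.FormallySmooth.liftOfSurjective_apply f g hgs hnil q
    let ΦC : Q →+* Q := (show Q →+* Q from L.toRingHom)
    have hΦC : ∀ q, ΦC q = L q := fun _ => rfl
    refine ⟨Q, inferInstance, (algebraMap B Q).comp ι, πQ.toRingHom, ΦC, ⟨⟨?_, hπs, ?_, ?_⟩, ?_, ?_⟩⟩
    · exact h.flat.comp (RingHom.flat_algebraMap_iff.2 inferInstance)
    · change RingHom.ker πQ = _
      rw [hπk]
      have h2 : RingHom.ker (algebraMap B A) = RingHom.ker π := rfl
      rw [h2, h.ker_eq, Ideal.map_map]
    · ext w
      change πQ (algebraMap B Q (ι w)) = algebraMap k C (FrobAlg.res p k w)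
      rw [πQ.commutes, hBC]
      have := congrArg (fun φ => φ w) h.comm
      simp only [RingHom.comp_apply] at this
      rw [this, ← IsScalarTower.algebraMap_apply]
    · ext w
      change L (algebraMap B Q (ι w)) = algebraMap B Q (ι (sigma p k w))
      rw [L.commutes, hTQ]
      have := congrArg (fun φ => φ w) h.semi
      simp only [RingHom.comp_apply] at this
      rw [this]
    · intro q
      exact hL q

end Groth.Agent.S18155
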