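import Groth.Statements.S18156
import Mathlib

set_option autoImplicit false
universe u v
open CAlg

namespace Groth.Agent.S18156

namespace DerivCompletion

open AdicCompletion

variable {k : Type u} [CommRing k] {A : Type v} [CommRing A] [Algebra k A] (I : Ideal A)
  (D : Derivation k A A)

theorem D_mem_pow (n : ℕ) : ∀ x ∈ I ^ (n + 1), D x ∈ I ^ n := by
  induction n with
  | zero => intro x _; simp
  | succ n ih =>
    intro x hx
    rw [pow_succ] at hx
    refine Submodule.mul_induction_on hx (fun a ha b hb => ?_) (fun x y hx hy => ?_)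
    · rw [Derivation.leibniz]
      refine Ideal.add_mem _ ?_ ?_
      · exact Ideal.mul_mem_right _ _ ha
      · rw [smul_eq_mul, pow_succ']
        exact Ideal.mul_mem_mul hb (ih a ha)
    · rw [map_add]; exact Ideal.add_mem _ hx hy

theorem D_mem_smul_top (n : ℕ) (x : A) (hx : x ∈ (I ^ (n + 1) • ⊤ : Ideal A)) :
    D x ∈ (I ^ n • ⊤ : Ideal A) := by
  rw [smul_eq_mul, Ideal.mul_top] at hx ⊢
  exact D_mem_pow I D n x hx

/-- level maps -/
noncomputable def Dlvl (n : ℕ) (q : A ⧸ (I ^ (n + 1) • ⊤ : Ideal A)) : A ⧸ (I ^ n • ⊤ : Ideal A) :=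
  Quotient.liftOn' q (fun a => Ideal.Quotient.mk (I ^ n • ⊤ : Ideal A) (D a)) (by
    intro a b hab
    rw [Submodule.quotientRel_def] at hab
    rw [Ideal.Quotient.eq, ← map_sub]
    exact D_mem_smul_top I D n _ hab)

theorem Dlvl_mk (n : ℕ) (a : A) :
    Dlvl I D n (Ideal.Quotient.mk (I ^ (n + 1) • ⊤ : Ideal A) a) =
      Ideal.Quotient.mk (I ^ n • ⊤ : Ideal A) (D a) := rfl

theorem Dlvl_add (n : ℕ) (q q' : A ⧸ (I ^ (n + 1) • ⊤ : Ideal A)) :
    Dlvl I D n (q + q') = Dlvl I D n q + Dlvl I D n q' := by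
  obtain ⟨a, rfl⟩ := Ideal.Quotient.mk_surjective q
  obtain ⟨b, rfl⟩ := Ideal.Quotient.mk_surjective q'
  rw [← map_add, Dlvl_mk, Dlvl_mk, Dlvl_mk, map_add, map_add]

theorem Dlvl_smul (n : ℕ) (c : k) (q : A ⧸ (I ^ (n + 1) • ⊤ : Ideal A)) :
    Dlvl I D n (c • q) = c • Dlvl I D n q := by
  obtain ⟨a, rfl⟩ := Ideal.Quotient.mk_surjective q
  have h1 : c • (Ideal.Quotient.mk (I ^ (n + 1) • ⊤ : Ideal A) a) =
      Ideal.Quotient.mk (I ^ (n + 1) • ⊤ : Ideal A) (c • a) := rfl
  have h2 : c • (Ideal.Quotient.mk (I ^ n • ⊤ : Ideal A) (D a)) =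
      Ideal.Quotient.mk (I ^ n • ⊤ : Ideal A) (c • D a) := rfl
  rw [h1, Dlvl_mk, Dlvl_mk, h2, D.map_smul]

theorem Dlvl_transition {m n : ℕ} (hmn : m ≤ n) (q : A ⧸ (I ^ (n + 1) • ⊤ : Ideal A)) :
    transitionMap I A hmn (Dlvl I D n q) =
      Dlvl I D m (transitionMap I A (Nat.succ_le_succ hmn) q) := by
  obtain ⟨a, rfl⟩ := Ideal.Quotient.mk_surjective q
  rfl

theorem Dlvl_mul (n : ℕ) (q q' : A ⧸ (I ^ (n + 1) • ⊤ : Ideal A)) :
    Dlvl I D n (q * q') =
      transitionMap I A (Nat.le_succ n) q * Dlvl I D n q' +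
      transitionMap I A (Nat.le_succ n) q' * Dlvl I D n q := by
  obtain ⟨a, rfl⟩ := Ideal.Quotient.mk_surjective q
  obtain ⟨b, rfl⟩ := Ideal.Quotient.mk_surjective q'
  rw [← map_mul, Dlvl_mk, Dlvl_mk, Dlvl_mk, Derivation.leibniz, map_add]
  rfl

/-- The extension of `D` to the completion, as a function. -/
noncomputable def DhatFun (x : AdicCompletion I A) : AdicCompletion I A :=
  ⟨fun n => Dlvl I D n (x.val (n + 1)), fun {m n} hmn => by
    rw [Dlvl_transition I D hmn, x.property]⟩

theorem DhatFun_val (x : AdicCompletion I A) (n : ℕ) :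
    (DhatFun I D x).val n = Dlvl I D n (x.val (n + 1)) := rfl

/-- The extension of `D` to the completion. -/
noncomputable def Dhat : Derivation k (AdicCompletion I A) (AdicCompletion I A) :=
  Derivation.mk'
    { toFun := DhatFun I D
      map_add' := fun x y => by
        ext n
        rw [val_add_apply, DhatFun_val, DhatFun_val, DhatFun_val, val_add_apply, Dlvl_add]
      map_smul' := fun c x => by
        ext n
        rw [RingHom.id_apply, val_smul_apply, DhatFun_val, DhatFun_val, val_smul_apply, Dlvl_smul] }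
    (fun x y => by
      ext n
      change (DhatFun I D (x * y)).val n = (x * DhatFun I D y + y * DhatFun I D x).val n
      rw [val_add_apply, val_mul, val_mul, DhatFun_val, DhatFun_val,
        DhatFun_val, val_mul, Dlvl_mul, x.property, y.property])

theorem Dhat_of (a : A) : Dhat I D (of I A a) = of I A (D a) := by
  ext n
  rfl

end DerivCompletion

/-- Let k be a field and A a regular local ring that is a k-algebra, with maximal ideal m and m-adic
completion Â. Then every k-derivation D of A into itself extends to a k-derivation D̂ of Â into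
itself along the canonical map ρ : A → Â, in the sense that D̂(ρ(a)) = ρ(D(a)) for every a ∈ A. (The
source works throughout over an algebraically closed field of characteristic p; neither assumption
enters this statement.) -/
theorem result
    (k : Type u) [Field k] (A : Type v) [CommRing A] [Algebra k A] [IsRegularLocalRing A]
    (D : Derivation k A A) :
    ∃ Dhat : Derivation k (AdicCompletion (IsLocalRing.maximalIdeal A) A)
        (AdicCompletion (IsLocalRing.maximalIdeal A) A),
      ∀ a : A, Dhat (algebraMap A (AdicCompletion (IsLocalRing.maximalIdeal A) A) a) =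
        algebraMap A (AdicCompletion (IsLocalRing.maximalIdeal A) A) (D a) := by
  refine ⟨DerivCompletion.Dhat (IsLocalRing.maximalIdeal A) D, fun a => ?_⟩
  exact DerivCompletion.Dhat_of (IsLocalRing.maximalIdeal A) D a

end Groth.Agent.S18156
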