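import Groth.Statements.S18174
import Mathlib
import Groth.Agent.Lib.Helper26.FunFldPosGenus

set_option autoImplicit false
open FunFld

namespace Groth.Agent.S18174

open Groth.Agent.Lib.Helper26.FunFldAlgClosed Groth.Agent.Lib.Helper26.FunFldSeries Groth.Agent.Lib.Helper26.FunFldPosGenus Groth.Agent.Lib.Helper2.FF

/-- Let `k` be an algebraically closed field of characteristic zero and `K/k` a function field of one
variable (the function field of a smooth projective curve over `k`). A `g^r_d` is a divisor `D` of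
degree `d` with a subspace `V ⊆ L(D)` of dimension `r + 1`; for a place `P` and `n ≥ 0`, `V(-nP) = V
∩ L(D - nP)` is the space of members vanishing to order at least `n` at `P`, so `dim V(-nP)` counts
the vanishing orders `m_0 < ⋯ < m_r` of `V` at `P` that are at least `n`, and the weight of `V` at
`P` is `∑_{n=1}^{d} dim V(-nP) - r(r+1)/2`. Aspects `(D_Y, V_Y)` on `K_Y` and `(D_Z, V_Z)` on `K_Z`
of a limit `g^r_d` on two components meeting in a node (a place `P` of `K_Y` and a place `Q` of
`K_Z`) are compatible there when `m_i(V_Y, P) + m_{r-i}(V_Z, Q) = d` for every `i`, equivalently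
`dim V_Y(-nP) + dim V_Z(-(d+1-n)Q) = r + 1` for `0 ≤ n ≤ d + 1`. Let the component `Y` (function
field `K_Y`, aspect `(D_Y, V_Y)`) meet at the node `P` a chain of components `W_0, …, W_{n-1}`, `n ≥
1`, with aspects `(D_j, V_j)`, where `W_j` carries the node place `A_j` towards `Y` (for `j = 0`) or
towards `W_{j-1}`, and the node place `B_j ≠ A_j` towards `W_{j+1}` (for `j + 1 < n`); assume `W_0,
…, W_{n-2}` have genus `0`, `W_{n-1}` has positive genus, and consecutive aspects are compatible at
every node. Then `V_Y` has at least a cusp at `P`: `m_1(V_Y, P) ≥ 2`, that is `dim V_Y(-2P) ≥ r`.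
(The source assumes moreover that `Y` is rational; its argument does not use this, so that
hypothesis is omitted here.) (The source states this for curves over the complex numbers.) -/
theorem result
    (k : Type*) [Field k] [IsAlgClosed k] [CharZero k]
    (KY : Type*) [Field KY] [Algebra k KY] (hKY : FunFld.IsFunctionField k KY)
    (n : ℕ) (hn : 0 < n)
    (W : Fin n → Type*) [∀ j, Field (W j)] [∀ j, Algebra k (W j)]
    (hW : ∀ j, FunFld.IsFunctionField k (W j))
    (hrat : ∀ j : Fin n, (j : ℕ) + 1 < n → FunFld.genus k (W j) = 0)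
    (hpos : ∀ j : Fin n, (j : ℕ) + 1 = n → 0 < FunFld.genus k (W j))
    (d r : ℕ) (DY : FunFld.Divisor k KY) (hDY : DY.deg = d)
    (VY : Submodule k KY) (hVY : VY ≤ FunFld.L DY) (hVYr : Module.finrank k ↥VY = r + 1)
    (D : ∀ j, FunFld.Divisor k (W j)) (hD : ∀ j, (D j).deg = d)
    (V : ∀ j, Submodule k (W j)) (hV : ∀ j, V j ≤ FunFld.L (D j))
    (hVr : ∀ j, Module.finrank k ↥(V j) = r + 1)
    (P : FunFld.Place k KY) (A B : ∀ j, FunFld.Place k (W j))
    (hAB : ∀ j : Fin n, (j : ℕ) + 1 < n → A j ≠ B j)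
    (hcomp0 : ∀ m : ℕ, m ≤ d + 1 →
      Module.finrank k ↥(VY ⊓ FunFld.L (DY - Finsupp.single P ((m : ℤ)))) +
        Module.finrank k ↥((V ⟨0, hn⟩) ⊓ FunFld.L ((D ⟨0, hn⟩) - Finsupp.single (A ⟨0, hn⟩) ((d : ℤ) + 1 - m))) = r + 1)
    (hcomp : ∀ (j : Fin n) (hj : (j : ℕ) + 1 < n) (m : ℕ), m ≤ d + 1 →
      Module.finrank k ↥((V j) ⊓ FunFld.L ((D j) - Finsupp.single (B j) ((m : ℤ)))) +
        Module.finrank k ↥((V ⟨(j : ℕ) + 1, hj⟩) ⊓ FunFld.L ((D ⟨(j : ℕ) + 1, hj⟩) - Finsupp.single (A ⟨(j : ℕ) + 1, hj⟩) ((d : ℤ) + 1 - m))) = r + 1) :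
    r ≤ Module.finrank k ↥(VY ⊓ FunFld.L (DY - Finsupp.single P ((2 : ℤ)))) := by
  classical
  have hVYfin : Module.Finite k VY := Module.finite_of_finrank_pos (by omega)
  have hVfin : ∀ j, Module.Finite k (V j) := fun j => Module.finite_of_finrank_pos (by rw [hVr]; omega)
  -- the case d = 0 is trivial
  rcases Nat.eq_zero_or_pos d with hd0 | hdpos
  · have h1 : Module.finrank k ↥VY ≤ 1 := by
      have h := finrank_inf_L_le_one hKY VY (E := DY) (by rw [hDY, hd0]; simp) P
      rwa [inf_eq_left.2 hVY] at h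
    omega
  -- main claim down the chain
  have main : ∀ i : ℕ, ∀ j : Fin n, (j : ℕ) + 1 + i = n →
      Module.finrank k ↥((V j) ⊓ FunFld.L ((D j) - Finsupp.single (A j) ((d : ℤ) + 1 - (2 : ℕ)))) ≤ 1 := by
    intro i
    induction i with
    | zero =>
      intro j hj
      haveI := hVfin j
      apply finrank_inf_L_le_one_of_pos_genus (hW j) (hpos j (by omega)) (V j)
      rw [deg_sub, deg_single, deg_eq_one (hW j) (A j), hD j]
      push_cast; ring
    | succ i ih =>
      intro j hj
      have hj' : (j : ℕ) + 1 < n := by omega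
      have h1 := ih ⟨(j : ℕ) + 1, hj'⟩ (by simp; omega)
      have h2 := hcomp j hj' 2 (by omega)
      haveI := hVfin j
      have h3 := finrank_add_finrank_le (hW j) (D j) (V j) (A j) (B j) (hAB j hj')
        ((d : ℤ) + 1 - (2 : ℕ)) ((2 : ℕ) : ℤ) (by rw [hD j]; push_cast; linarith)
      rw [hVr j] at h3
      omega
  have h1 := main (n - 1) ⟨0, hn⟩ (by simp; omega)
  have h2 := hcomp0 2 (by omega)
  have e : ((2 : ℕ) : ℤ) = 2 := by norm_num
  rw [e] at h1 h2
  omega

end Groth.Agent.S18174
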