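import Groth.Statements.S18177
import Mathlib
import Groth.Agent.Lib.Helper26.FunFldSeries
import Groth.Agent.Lib.Helper2.FunFld.Riemann

set_option autoImplicit false
open FunFld

namespace Groth.Agent.S18177

open Groth.Agent.Lib.Helper26.FunFldAlgClosed Groth.Agent.Lib.Helper26.FunFldSeries Groth.Agent.Lib.Helper2.FF

/-- Let `k` be an algebraically closed field of characteristic zero and `K/k` a function field of one
variable (the function field of a smooth projective curve over `k`). A `g^r_d` is a divisor `D` of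
degree `d` with a subspace `V ⊆ L(D)` of dimension `r + 1`; for a place `P` and `n ≥ 0`, `V(-nP) = V
∩ L(D - nP)` is the space of members vanishing to order at least `n` at `P`, so `dim V(-nP)` counts
the vanishing orders `m_0 < ⋯ < m_r` of `V` at `P` that are at least `n`, and the weight of `V` at
`P` is `∑_{n=1}^{d} dim V(-nP) - r(r+1)/2`. Let `(D, V)` be a `g^r_d` with `r ≥ 1` and `P ≠ Q`
places at which the weights are large: `w(V, P) + w(V, Q) ≥ (r+1)(d-r) - (r-1)`, that is `(r+1)d + 1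
≤ ∑_{n=1}^{d} dim V(-nP) + ∑_{n=1}^{d} dim V(-nQ) + r`. Then `V` contains members with divisors `m_i
Q + (d - m_i) P` for two different indices `i`, and hence `m(Q - P)` is a principal divisor for some
`1 ≤ m ≤ d`. (In the source `K` is an elliptic tail of a degenerate curve, `P` its node and `Q` the
limit of the moving ramification point, the weight hypothesis coming from `ρ ≤ 0`; it concludes that
only finitely many `Q` are possible. The torsion assertion holds in any genus and is what is stated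
here.) (The source states this for curves over the complex numbers.) -/
theorem result
    (k : Type*) [Field k] [IsAlgClosed k] [CharZero k]
    (K : Type*) [Field K] [Algebra k K] (hK : FunFld.IsFunctionField k K)
    (d r : ℕ) (hr : 1 ≤ r) (D : FunFld.Divisor k K) (hD : D.deg = d)
    (V : Submodule k K) (hV : V ≤ FunFld.L D) (hVr : Module.finrank k ↥V = r + 1)
    (P Q : FunFld.Place k K) (hPQ : P ≠ Q)
    (hw : (r + 1) * d + 1 ≤
      (∑ n ∈ Finset.range d, Module.finrank k ↥(V ⊓ FunFld.L (D - Finsupp.single P ((n : ℤ) + 1)))) +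
        (∑ n ∈ Finset.range d, Module.finrank k ↥(V ⊓ FunFld.L (D - Finsupp.single Q ((n : ℤ) + 1)))) + r) :
    ∃ m : ℕ, 1 ≤ m ∧ m ≤ d ∧ ∃ h : K, h ≠ 0 ∧
      FunFld.div k h = Finsupp.single Q (m : ℤ) - Finsupp.single P (m : ℤ) := by
  classical
  have hVfin : Module.Finite k V := Module.finite_of_finrank_pos (by omega)
  set p : ℕ → ℕ := fun n => Module.finrank k ↥(V ⊓ FunFld.L (D - Finsupp.single P (n : ℤ))) with hp
  set q : ℕ → ℕ := fun n => Module.finrank k ↥(V ⊓ FunFld.L (D - Finsupp.single Q (n : ℤ))) with hq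
  have hp0 : p 0 = r + 1 := by
    have : (D - Finsupp.single P ((0 : ℕ) : ℤ)) = D := by simp
    show Module.finrank k ↥(V ⊓ FunFld.L (D - Finsupp.single P ((0 : ℕ) : ℤ))) = r + 1
    rw [this, inf_eq_left.2 hV, hVr]
  have hq0 : q 0 = r + 1 := by
    have : (D - Finsupp.single Q ((0 : ℕ) : ℤ)) = D := by simp
    show Module.finrank k ↥(V ⊓ FunFld.L (D - Finsupp.single Q ((0 : ℕ) : ℤ))) = r + 1
    rw [this, inf_eq_left.2 hV, hVr]
  have hpS : ∀ n : ℕ, p (n + 1) =
      Module.finrank k ↥(V ⊓ FunFld.L (D - Finsupp.single P ((n : ℤ) + 1))) := fun n => by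
    show Module.finrank k ↥(V ⊓ FunFld.L (D - Finsupp.single P ((n + 1 : ℕ) : ℤ))) = _
    rw [Nat.cast_succ]
  have hqS : ∀ n : ℕ, q (n + 1) =
      Module.finrank k ↥(V ⊓ FunFld.L (D - Finsupp.single Q ((n : ℤ) + 1))) := fun n => by
    show Module.finrank k ↥(V ⊓ FunFld.L (D - Finsupp.single Q ((n + 1 : ℕ) : ℤ))) = _
    rw [Nat.cast_succ]
  have hw' : (r + 1) * d + 1 ≤ (∑ n ∈ Finset.range d, p (n + 1)) + (∑ n ∈ Finset.range d, q (n + 1)) + r := by
    simp only [hpS, hqS]
    exact hw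
  -- the key pairs
  have key := fun n (hn : n < d + 1) =>
    finrank_add_finrank_le_succ hK D V P Q hPQ (n : ℤ) ((d - n : ℕ) : ℤ) (by
      rw [hD]
      have : ((d - n : ℕ) : ℤ) = (d : ℤ) - n := by omega
      rw [this]; linarith)
  set c : ℕ → ℕ := fun n => p n + q (d - n) with hc
  have hcle : ∀ n < d + 1, c n ≤ (r + 1) + 1 := by
    intro n hn
    have := (key n hn).1
    rw [hVr] at this
    exact this
  have hsum : (r + 1) * (d + 1) + 2 ≤ ∑ n ∈ Finset.range (d + 1), c n := by
    have h1 : ∑ n ∈ Finset.range (d + 1), c n =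
        (∑ n ∈ Finset.range (d + 1), p n) + ∑ n ∈ Finset.range (d + 1), q n := by
      simp only [hc]
      rw [Finset.sum_add_distrib]
      congr 1
      have := Finset.sum_range_reflect (fun n => q n) (d + 1)
      simp only [Nat.add_sub_cancel] at this
      exact this
    rw [h1, Finset.sum_range_succ' p d, Finset.sum_range_succ' q d, hp0, hq0]
    nlinarith [hw']
  obtain ⟨n₁, n₂, h12, h2d, hc1, hc2⟩ := exists_two_large (d + 1) (r + 1) c hcle hsum
  have h1d : n₁ < d + 1 := h12.trans h2d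
  obtain ⟨s₁, hs₁0, -, hs₁⟩ := (key n₁ h1d).2 (by rw [hVr]; exact hc1)
  obtain ⟨s₂, hs₂0, -, hs₂⟩ := (key n₂ h2d).2 (by rw [hVr]; exact hc2)
  have hdeg : ∀ n < d + 1, (D - Finsupp.single P (n : ℤ) - Finsupp.single Q ((d - n : ℕ) : ℤ)).deg = 0 := by
    intro n hn
    rw [deg_sub, deg_sub, deg_single, deg_single, deg_eq_one hK P, deg_eq_one hK Q, hD]
    have : ((d - n : ℕ) : ℤ) = (d : ℤ) - n := by omega
    rw [this]; push_cast; ring
  have hd1 := div_eq_neg_of_mem_L hK (hdeg n₁ h1d) hs₁0 hs₁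
  have hd2 := div_eq_neg_of_mem_L hK (hdeg n₂ h2d) hs₂0 hs₂
  refine ⟨n₂ - n₁, by omega, by omega, s₁ * s₂⁻¹, mul_ne_zero hs₁0 (inv_ne_zero hs₂0), ?_⟩
  rw [div_mul hK hs₁0 (inv_ne_zero hs₂0), div_inv hK, hd1, hd2]
  have e1 : ((d - n₁ : ℕ) : ℤ) = (d : ℤ) - n₁ := by omega
  have e2 : ((d - n₂ : ℕ) : ℤ) = (d : ℤ) - n₂ := by omega
  have e3 : ((n₂ - n₁ : ℕ) : ℤ) = (n₂ : ℤ) - n₁ := by omega
  rw [e1, e2, e3]
  simp only [Finsupp.single_sub]
  abel

end Groth.Agent.S18177
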