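import Groth.Statements.S1819
import Groth.Agent.Lib.Helper13.BDX7
import Groth.Agent.Lib.Helper13.BiDual2
import Groth.Agent.Lib.Helper13.DRingInj
import Groth.Agent.Lib.Helper13.PCDerived

set_option autoImplicit false
universe u
open CategoryTheory
attribute [local instance] HasDerivedCategory.standard
open Dual

namespace Groth.Agent.S1819

/-- Let A be a Noetherian ring with a dualizing complex ω and K a complex of A-modules all of whose
cohomology modules are finite; assume RHom(K, −) exists. Then every cohomology module of RHom_A(K,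
ω) is finite, and for every complex E representing RHom_A(K, ω) (with RHom(E, −) existing) there is
an isomorphism RHom_A(E, ω) ≅ K in D(A). -/
theorem result (A : Type u) [CommRing A] [IsNoetherianRing A] (ω : Dual.D A) (hω : Dual.IsDualizing A ω) (K : DRing.Cx A) [DRing.HasRHomCx K] (hK : ∀ i : ℤ, Module.Finite A (Dual.HD A (DRing.toD K) i)) : (∀ i : ℤ, Module.Finite A (Dual.HD A ((DRing.RHomCx K).obj ω) i)) ∧ ∀ (E : DRing.Cx A) [DRing.HasRHomCx E], Nonempty (DRing.toD E ≅ (DRing.RHomCx K).obj ω) → Nonempty ((DRing.RHomCx E).obj ω ≅ DRing.toD K) := by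
  classical
  obtain ⟨_, ⟨a, b, h2⟩, h3, h4, h5⟩ := hω
  have hinj : DRing.HasInjAmplitudeIn A a b ω :=
    Groth.Agent.Lib.Helper13.DR.hasInjAmplitudeIn_of_quotients ω a b
      (fun J i hi => h2 (A ⧸ J) i hi)
  obtain ⟨I, hv, hI, ⟨e⟩⟩ := hinj
  have hIinj : ∀ q, CategoryTheory.Injective (I.X q) := fun i =>
    (Groth.Agent.Lib.Helper13.DR.injective_iff _).2 (hI i)
  have hKI : I.IsKInjective :=
    Groth.Agent.Lib.Helper13.PC.isKInjective_of_forall_injective I a
      (fun i hi => hv i (Or.inl hi)) hIinj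
  have h4' : Function.Bijective (fun a : A => a • 𝟙 (DerivedCategory.Q.obj I : Dual.D A)) := by
    have : (fun a : A => a • 𝟙 (DerivedCategory.Q.obj I : Dual.D A)) =
        (Iso.homCongr e.symm e.symm) ∘ (fun a : A => a • 𝟙 ω) := by
      funext a
      change a • 𝟙 _ = e.hom ≫ (a • 𝟙 ω) ≫ e.inv
      rw [Linear.smul_comp, Linear.comp_smul, Category.id_comp, e.hom_inv_id]
    rw [this]
    exact (Iso.homCongr e.symm e.symm).bijective.comp h4
  have h5' : ∀ i : ℤ, i ≠ 0 → Subsingleton ((DerivedCategory.Q.obj I : Dual.D A) ⟶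
      (DerivedCategory.Q.obj I : Dual.D A)⟦i⟧) := by
    intro i hi
    have := h5 i hi
    exact (Iso.homCongr e ((shiftFunctor (Dual.D A) i).mapIso e)).subsingleton
  obtain ⟨b', hab', hv'⟩ : ∃ b' : ℤ, a ≤ b' ∧ DRing.VanishesOutside I a b' :=
    ⟨max a b, le_max_left _ _, fun i hi => hv i (by
      rcases hi with h | h
      · exact Or.inl h
      · exact Or.inr (lt_of_le_of_lt (le_max_right _ _) h))⟩
  have hIfin : ∀ i : ℤ, Module.Finite A (Dual.HD A (DerivedCategory.Q.obj I) i) := fun i => by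
    have := h3 i
    exact Module.Finite.equiv
      ((DerivedCategory.homologyFunctor (ModuleCat.{u} A) i).mapIso e).symm.toLinearEquiv
  obtain ⟨eK⟩ := Groth.Agent.Lib.Helper13.BD.nonempty_RHomCx_iso_of_isKInjective K I
  have eKω : (DRing.RHomCx K).obj ω ≅ DerivedCategory.Q.obj (DRing.homCx K I) :=
    (DRing.RHomCx K).mapIso e.symm ≪≫ eK
  have hbid : QuasiIso (Groth.Agent.Lib.Helper13.BD.bid K I) :=
    Groth.Agent.Lib.Helper13.BDX.bidQis_of_finite I hIinj h4' h5' a b' hv' hab' K hK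
  refine ⟨fun i => ?_, fun E _ ⟨eE⟩ => ?_⟩
  · have := Groth.Agent.Lib.Helper13.BDX.finite_homology_homCx I a b' hv' K hK hIfin i
    exact Module.Finite.equiv
      ((DerivedCategory.homologyFunctor (ModuleCat.{u} A) i).mapIso eKω ≪≫
        Groth.Agent.Lib.Helper13.PC.homologyQIso (DRing.homCx K I) i).symm.toLinearEquiv
  · obtain ⟨eE'⟩ := Groth.Agent.Lib.Helper13.BD.nonempty_RHomCx_iso_of_isKInjective E I
    have : IsIso (DerivedCategory.Q.map (Groth.Agent.Lib.Helper13.BD.bid K I)) := by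
      rw [DerivedCategory.isIso_Q_map_iff_quasiIso]
      exact hbid
    exact ⟨(DRing.RHomCx E).mapIso e.symm ≪≫ eE' ≪≫
      ((Groth.Agent.Lib.Helper13.HOp.DJIso I).app (Opposite.op E)).symm ≪≫
      (Groth.Agent.Lib.Helper13.HOp.DJ I).mapIso (eE ≪≫ eKω).symm.op ≪≫
      (Groth.Agent.Lib.Helper13.HOp.DJIso I).app (Opposite.op (DRing.homCx K I)) ≪≫
      (asIso (DerivedCategory.Q.map (Groth.Agent.Lib.Helper13.BD.bid K I))).symm⟩

end Groth.Agent.S1819
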