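import Groth.Statements.S18190
import Groth.Agent.Lib.Helper20.RootSum

set_option autoImplicit false
open OrbRR

namespace Groth.Agent.S18190

open Groth.Agent.Lib.Helper20.RootSum in
/-- the function `F(v) = v(v-N)/2 + (N²-1)/12` -/
noncomputable def FF (N : ℕ) (v : ℕ) : ℝ := ((v : ℝ) * ((v : ℝ) - (N : ℝ))) / 2 + ((N : ℝ) ^ 2 - 1) / 12

open Groth.Agent.Lib.Helper20.RootSum in
theorem FF_symm (N : ℕ) [NeZero N] (c : ZMod N) : FF N (-c).val = FF N c.val := by
  rw [ZMod.neg_val]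
  split_ifs with h
  · rw [h, ZMod.val_zero]
  · have hle : c.val ≤ N := (ZMod.val_lt c).le
    rw [FF, FF, Nat.cast_sub hle]
    ring

open Groth.Agent.Lib.Helper20.RootSum in
theorem zeta_pow_sub {N : ℕ} [NeZero N] {ζ : ℂ} (hζ : IsPrimitiveRoot ζ N) (l : ℕ) (a b : ZMod N) :
    ζ ^ (l * (b - a).val) = ζ ^ (l * b.val) * (starRingEnd ℂ) (ζ ^ (l * a.val)) := by
  have hN : 0 < N := Nat.pos_of_ne_zero (NeZero.ne N)
  have hnorm : ‖ζ ^ (l * a.val)‖ = 1 := by
    rw [norm_pow, Complex.norm_eq_one_of_pow_eq_one hζ.pow_eq_one hN.ne', one_pow]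
  rw [← Complex.inv_eq_conj hnorm]
  have hne : ζ ^ (l * a.val) ≠ 0 := pow_ne_zero _ (hζ.ne_zero hN.ne')
  rw [eq_mul_inv_iff_mul_eq₀ hne, ← pow_add, ← mul_add]
  have h1 : b.val = ((b - a).val + a.val) % N := by
    rw [← ZMod.val_add, sub_add_cancel]
  rw [pow_mul, pow_mul, h1, ← pow_eq_pow_mod _ (by rw [← pow_mul, mul_comm, pow_mul, hζ.pow_eq_one, one_pow])]

/-- Let N ≥ 1 and let f : ℤ/Nℤ → ℚ be f(x) = x(x − N)/2 + (N² − 1)/12, where x is read as its
representative with 0 ≤ x < N. The real N × N matrix indexed by ℤ/Nℤ whose (i, j) entry is f(j −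
i)/N, a symmetric circulant matrix, is positive semidefinite. -/
theorem result (N : ℕ) [NeZero N] :
    (Matrix.of fun i j : ZMod N =>
        ((((j - i).val : ℝ) * (((j - i).val : ℝ) - (N : ℝ))) / 2 + ((N : ℝ) ^ 2 - 1) / 12) / (N : ℝ)).PosSemidef := by
  have hN : 0 < N := Nat.pos_of_ne_zero (NeZero.ne N)
  rw [Matrix.posSemidef_iff_dotProduct_mulVec]
  constructor
  · ext a b
    simp only [Matrix.conjTranspose_apply, Matrix.of_apply, star_trivial]
    have := FF_symm N (b - a)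
    rw [neg_sub] at this
    unfold FF at this
    rw [this]
  · intro x
    set ζ : ℂ := Complex.exp (2 * Real.pi * Complex.I / N) with hζdef
    have hζ : IsPrimitiveRoot ζ N := Complex.isPrimitiveRoot_exp N hN.ne'
    set r : ℕ → ℝ := fun l => (2 - 2 * (ζ ^ l).re)⁻¹ with hr
    set z : ℕ → ℂ := fun l => ∑ b : ZMod N, (x b : ℂ) * ζ ^ (l * b.val) with hz
    have h6 : (6 : ℂ) ≠ 0 := by norm_num
    -- the entries
    have hentry : ∀ a b : ZMod N,
        ((((((b - a).val : ℝ) * (((b - a).val : ℝ) - (N : ℝ))) / 2 + ((N : ℝ) ^ 2 - 1) / 12) / (N : ℝ) : ℝ) : ℂ)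
        = ∑ l ∈ Finset.Ioo 0 N, ((r l / N : ℝ) : ℂ) * (ζ ^ (l * b.val) * (starRingEnd ℂ) (ζ ^ (l * a.val))) := by
      intro a b
      have hS := Groth.Agent.Lib.Helper20.RootSum.S_eq hζ h6 (ZMod.val_lt (b - a))
      push_cast
      rw [← hS, Groth.Agent.Lib.Helper20.RootSum.S, Finset.sum_div]
      refine Finset.sum_congr rfl (fun l _ => ?_)
      rw [(Groth.Agent.Lib.Helper20.RootSum.wt_complex hζ hN l).1, zeta_pow_sub hζ]
      ring
    -- the quadratic form as a complex number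
    have hQ : ((star x ⬝ᵥ (Matrix.of fun i j : ZMod N =>
        ((((j - i).val : ℝ) * (((j - i).val : ℝ) - (N : ℝ))) / 2 + ((N : ℝ) ^ 2 - 1) / 12) / (N : ℝ)).mulVec x : ℝ) : ℂ)
        = ((∑ l ∈ Finset.Ioo 0 N, r l / N * Complex.normSq (z l) : ℝ) : ℂ) := by
      simp only [dotProduct, Matrix.mulVec, star_trivial, Pi.star_apply, Matrix.of_apply]
      simp only [Complex.ofReal_sum, Complex.ofReal_mul]
      simp_rw [hentry]
      have hzz : ∀ l, ((Complex.normSq (z l) : ℝ) : ℂ) = ∑ a : ZMod N, ∑ b : ZMod N,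
          (x a : ℂ) * (x b : ℂ) * (ζ ^ (l * b.val) * (starRingEnd ℂ) (ζ ^ (l * a.val))) := by
        intro l
        rw [← Complex.mul_conj, hz]
        simp only [map_sum, map_mul, Complex.conj_ofReal]
        rw [Finset.sum_mul_sum _ _ _ _, Finset.sum_comm]
        refine Finset.sum_congr rfl (fun a _ => Finset.sum_congr rfl (fun b _ => by ring))
      simp_rw [hzz, Finset.mul_sum, Finset.sum_mul, Finset.mul_sum]
      symm
      rw [Finset.sum_comm]
      refine Finset.sum_congr rfl (fun a _ => ?_)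
      rw [Finset.sum_comm]
      refine Finset.sum_congr rfl (fun b _ => ?_)
      refine Finset.sum_congr rfl (fun l _ => ?_)
      ring
    have hnn : 0 ≤ ∑ l ∈ Finset.Ioo 0 N, r l / N * Complex.normSq (z l) := by
      refine Finset.sum_nonneg (fun l _ => ?_)
      exact mul_nonneg (div_nonneg (Groth.Agent.Lib.Helper20.RootSum.wt_complex hζ hN l).2 (Nat.cast_nonneg _)) (Complex.normSq_nonneg _)
    rw [Complex.ofReal_inj] at hQ
    rw [hQ]
    exact hnn

end Groth.Agent.S18190
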