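import Groth.Statements.S18196
import Groth.Agent.Lib.Helper21.LocImmLib
-- import your own Groth.Agent.* helpers here

set_option autoImplicit false
universe u
open LocImm

namespace Groth.Agent.S18196

open CategoryTheory AlgebraicGeometry in
/-- Let `f : X ⟶ Y` and `g : Y ⟶ Z` be morphisms of Noetherian schemes with `g` separated and `f ≫ g` a
localizing immersion (localizing and injective on points). If `f` is proper then `f` is a closed
immersion. -/
theorem result {X Y Z : Scheme.{u}} [IsNoetherian X] [IsNoetherian Y] [IsNoetherian Z]
    (f : X ⟶ Y) (g : Y ⟶ Z) (hfg : LocImm.IsLocImmersion (f ≫ g)) [IsSeparated g] [IsProper f] : IsClosedImmersion f := by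
  have h1 : Mono (f ≫ g) := Groth.Agent.Lib.Helper21.LocImmLib.mono_of_isLocImmersion _ hfg
  have h2 : Mono f := mono_of_mono f g
  have h3 : LocallyQuasiFinite f := inferInstance
  have h4 : IsFinite f := IsFinite.of_isProper_of_locallyQuasiFinite f
  exact (IsClosedImmersion.iff_isFinite_and_mono f).mpr ⟨h4, h2⟩

end Groth.Agent.S18196
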