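import Groth.Statements.S18200
import Groth.Agent.Lib.Helper21.LocImmFact
import Groth.Agent.Lib.Helper3.ZMTFinite
-- import your own Groth.Agent.* helpers here

set_option autoImplicit false
universe u
open LocImm

namespace Groth.Agent.S18200

open CategoryTheory AlgebraicGeometry in
/-- Let `f : X ⟶ Y` be a separated morphism of Noetherian schemes that is essentially quasi-finite:
essentially of finite type with every fibre the spectrum of a finite algebra over the residue field
(equivalently, `f` locally quasi-finite in the fibrewise sense, which carries no finite-type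
condition). Then `f` factors as a localizing immersion `i : X ⟶ Z` (localizing and injective on
points, `Z` Noetherian) followed by a finite morphism `h : Z ⟶ Y`. -/
theorem result {X Y : Scheme.{u}} [IsNoetherian X] [IsNoetherian Y] (f : X ⟶ Y) [IsSeparated f] [EssFT.EssFiniteType f] [LocallyQuasiFinite f] :
    ∃ (Z : Scheme.{u}) (i : X ⟶ Z) (h : Z ⟶ Y), IsNoetherian Z ∧ LocImm.IsLocImmersion i ∧ IsFinite h ∧ i ≫ h = f := by
  classical
  obtain ⟨Y₀, k, p, hY₀, hk, hs, hl, hq, hkp⟩ :=
    Groth.Agent.Lib.Helper21.LocImmLib.hasFact_of_essFiniteType f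
  -- `p` is quasi-finite at the points of the image of `k`
  have hqf : ∀ x : X, p.QuasiFiniteAt (k x) := by
    intro x
    have h1 : (k ≫ p).QuasiFiniteAt x := by
      rw [hkp]; exact f.quasiFiniteAt x
    have hiso : IsIso (k.stalkMap x) :=
      Groth.Agent.Lib.Helper21.LocImmLib.isIso_stalkMap_of_isLocalizing k hk.1 x
    simp only [Scheme.Hom.QuasiFiniteAt, Scheme.Hom.stalkMap_comp] at h1
    exact (RingHom.QuasiFinite.respectsIso.cancel_right_isIso _ (k.stalkMap x)).mp h1
  -- restrict to the quasi-finite locus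
  let U : Y₀.Opens := p.quasiFiniteLocus
  have hrange : Set.range k ⊆ Set.range U.ι := by
    rintro _ ⟨x, rfl⟩
    rw [Scheme.Opens.range_ι]
    exact hqf x
  let k' : X ⟶ U := IsOpenImmersion.lift U.ι k hrange
  have hk' : k' ≫ U.ι = k := IsOpenImmersion.lift_fac U.ι k hrange
  have hk'loc : LocImm.IsLocImmersion k' :=
    Groth.Agent.Lib.Helper21.LocImmLib.isLocImmersion_of_comp_isOpenImmersion U.ι k'
      (by rw [hk']; exact hk)
  let g : (U : Scheme.{u}) ⟶ Y := U.ι ≫ p
  have hUN : IsNoetherian (U : Scheme.{u}) :=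
    Groth.Agent.Lib.Helper21.LocImmLib.isNoetherian_of_locallyOfFiniteType U.ι
  have hgqc : QuasiCompact g :=
    Groth.Agent.Lib.Helper21.LocImmLib.quasiCompact_of_isNoetherian g
  obtain ⟨T, j, π, hj, hjqc, hπ, hjπ⟩ :=
    Groth.Agent.Lib.Helper3.exists_openImmersion_finite_factorization g
  have hTN : IsNoetherian T :=
    Groth.Agent.Lib.Helper21.LocImmLib.isNoetherian_of_locallyOfFiniteType π
  refine ⟨T, k' ≫ j, π, hTN, ?_, hπ, ?_⟩
  · refine ⟨fun x => ?_, fun x₁ x₂ h12 => ?_⟩
    · exact Groth.Agent.Lib.Helper21.LocImmLib.locAt_comp_right j k' x (hk'loc.1 x)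
    · apply hk'loc.2
      apply j.injective
      simpa [Scheme.Hom.comp_apply] using h12
  · rw [Category.assoc, hjπ]
    change k' ≫ U.ι ≫ p = f
    rw [← Category.assoc, hk', hkp]

end Groth.Agent.S18200
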