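import Groth.Statements.S18213
import Groth.Agent.Lib.Helper21.LocImmProp
import Groth.Agent.Lib.Helper18.FlG
import Groth.Agent.Lib.Helper10.FlatPt1
-- import your own Groth.Agent.* helpers here

set_option autoImplicit false
universe u
open LocImm

namespace Groth.Agent.S18213

open CategoryTheory AlgebraicGeometry in
/-- Let `f : X ⟶ Y` be a separated morphism of Noetherian schemes, essentially of finite type. Then the
set of points `x` for which the composite `Spec O_{X,x} ⟶ X ⟶ Y` is flat is open, and if `f` is flat
it factors as a localizing immersion `i : X ⟶ Z` (localizing and injective on points, `Z`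
Noetherian) followed by a separated flat morphism of finite type `h : Z ⟶ Y`. -/
theorem result {X Y : Scheme.{u}} [IsNoetherian X] [IsNoetherian Y] (f : X ⟶ Y) [IsSeparated f] [EssFT.EssFiniteType f] :
    IsOpen {x : X | Flat (X.fromSpecStalk x ≫ f)} ∧
      (Flat f → ∃ (Z : Scheme.{u}) (i : X ⟶ Z) (h : Z ⟶ Y), IsNoetherian Z ∧ LocImm.IsLocImmersion i ∧ IsSeparated h ∧ LocallyOfFiniteType h ∧ QuasiCompact h ∧ Flat h ∧ i ≫ h = f) := by
  have hmain := Groth.Agent.Lib.Helper21.LocImmLib.S18201_main (@Flat.{u})
    (fun {W X Y} _ _ _ i f _ _ hi hf => by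
      haveI : Flat i := Groth.Agent.Lib.Helper21.LocImmLib.flat_of_isLocalizing i hi.1
      haveI : Flat f := hf
      infer_instance)
    (fun {X Y} _ _ f _ _ h => Flat.of_stalkMap f fun x =>
      (Groth.Agent.Lib.Helper10.FlatPt.flatAt_iff f x).mpr (h x))
    (fun {X Y} _ _ f _ _ => by
      haveI : LocallyOfFinitePresentation f := by
        haveI : IsLocallyNoetherian Y := inferInstance
        infer_instance
      have h := Groth.Agent.Lib.Helper18.Fl.isOpen_flatLocus_scheme f
      have e : {x : X | Flat (X.fromSpecStalk x ≫ f)} = {x : X | (f.stalkMap x).hom.Flat} := by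
        ext x; exact (Groth.Agent.Lib.Helper10.FlatPt.flatAt_iff f x).symm
      rw [e]; exact h) f
  exact ⟨hmain.2.1, hmain.2.2⟩

end Groth.Agent.S18213
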