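import Groth.Statements.S18234
import Groth.Agent.Lib.Helper10.MagnetQuot
import Groth.Agent.Lib.Helper1.Thickening

set_option autoImplicit false
universe u
open CategoryTheory MonoidalCategory CartesianMonoidalCategory AlgebraicGeometry Opposite
open Magnet

namespace Groth.Agent.S18234

theorem attr_postcomp_unique {S : Scheme.{u}} {M : Type} [AddCommMonoid M] (N : AddSubmonoid M)
    {X Y : Over S} (aX : Magnet.MonAct (Magnet.AMonS S M) X)
    (aY : Magnet.MonAct (Magnet.AMonS S M) Y) (f : X ⟶ Y) (hf : Magnet.MonAct.IsEquivariant aX aY f)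
    [FormallyUnramified f.left] {T T' : Over S} (t : T ⟶ T')
    (ht : MoreMor.IsFirstOrderThickening t.left)
    (l₁ l₂ : (Magnet.attr aX N).obj (op T'))
    (htop : (Magnet.attr aX N).map t.op l₁ = (Magnet.attr aX N).map t.op l₂)
    (hbot : (Magnet.MonAct.eqvHom.postcomp (Magnet.subAct S M N) f hf).app _ l₁ =
      (Magnet.MonAct.eqvHom.postcomp (Magnet.subAct S M N) f hf).app _ l₂) :
    l₁ = l₂ := by
  have h1 : (Magnet.AMonS S N ◁ t) ≫ l₁.1 = (Magnet.AMonS S N ◁ t) ≫ l₂.1 :=
    congrArg Subtype.val htop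
  have h2 : l₁.1 ≫ f = l₂.1 ≫ f := congrArg Subtype.val hbot
  have hthick : MoreMor.IsFirstOrderThickening (Magnet.AMonS S N ◁ t).left :=
    Groth.Agent.Lib.Helper1.Thickening.isFirstOrderThickening_of_isPullback
      (Groth.Agent.Lib.Helper10.MagnetQuot.isPullback_whiskerLeft_left t (Magnet.AMonS S N)) ht
  obtain ⟨⟨hci, -⟩, hsq⟩ := hthick
  have hnil : IsNilpotent (Magnet.AMonS S N ◁ t).left.ker := ⟨2, by rw [pow_two]; exact hsq⟩
  apply Subtype.ext
  apply Over.OverMorphism.ext
  exact AlgebraicGeometry.FormallyUnramified.hom_ext (Magnet.AMonS S N ◁ t).left hnil f.left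
    (congrArg (fun q => q.left) h1) (congrArg (fun q => q.left) h2)

/-- Let S be a scheme, M a finitely generated abelian group, N a submonoid of M, X and Y schemes over S
with actions of the diagonalizable group scheme D(M)_S, and f : X → Y a formally unramified
equivariant S-morphism. If the attractors X^N and Y^N are represented by S-schemes Z_X and Z_Y, and
j : Z_X → Z_Y is the S-morphism that corresponds to f^N under the two representing bijections, then
j is formally unramified. (Stated for schemes; the published statement is for algebraic spaces over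
S.) -/
theorem result (S : Scheme.{u}) (M : Type) [AddCommGroup M]
    [AddGroup.FG M] (N : AddSubmonoid M) {X Y : Over S} (aX : Magnet.MonAct (Magnet.AMonS S M) X)
    (aY : Magnet.MonAct (Magnet.AMonS S M) Y) (f : X ⟶ Y) (hf : Magnet.MonAct.IsEquivariant aX aY f)
    [FormallyUnramified f.left] {ZX ZY : Over S} (eX : (Magnet.attr aX N).RepresentableBy ZX) (eY : (Magnet.attr aY N).RepresentableBy ZY)
    (j : ZX ⟶ ZY) (hj : ∀ (T : Over S) (z : T ⟶ ZX),
      eY.homEquiv (z ≫ j) = (Magnet.MonAct.eqvHom.postcomp (Magnet.subAct S M N) f hf).app (op T) (eX.homEquiv z)) :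
    FormallyUnramified j.left := by
  apply AlgebraicGeometry.FormallyUnramified.of_hom_ext
  intro R S' φ hφ hker g₁ g₂ hg hgj
  have hg₂ : g₂ ≫ ZX.hom = g₁ ≫ ZX.hom := by
    rw [← Over.w j, ← Category.assoc, ← hgj, Category.assoc]
  let T' : Over S := Over.mk (g₁ ≫ ZX.hom)
  let T : Over S := Over.mk (Spec.map φ ≫ g₁ ≫ ZX.hom)
  let t : T ⟶ T' := Over.homMk (Spec.map φ) rfl
  let z₁ : T' ⟶ ZX := Over.homMk g₁ rfl
  let z₂ : T' ⟶ ZX := Over.homMk g₂ hg₂
  have ht : MoreMor.IsFirstOrderThickening t.left :=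
    Groth.Agent.Lib.Helper1.Thickening.isFirstOrderThickening_SpecMap φ hφ hker
  have htz : t ≫ z₁ = t ≫ z₂ := by
    apply Over.OverMorphism.ext
    exact hg
  have hzj : z₁ ≫ j = z₂ ≫ j := by
    apply Over.OverMorphism.ext
    exact hgj
  have key : eX.homEquiv z₁ = eX.homEquiv z₂ := by
    apply attr_postcomp_unique N aX aY f hf t ht
    · rw [← eX.homEquiv_comp, ← eX.homEquiv_comp, htz]
    · rw [← hj, ← hj, hzj]
  have hz : z₁ = z₂ := eX.homEquiv.injective key
  exact congrArg (fun q => q.left) hz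

end Groth.Agent.S18234
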