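import Groth.Statements.S18256
import Groth.Agent.Lib.Helper1.ArtFunArt

set_option autoImplicit false
universe u
open ArtFun

namespace Groth.Agent.S18256

open CategoryTheory TensorProduct in
/-- Let R be an Artinian local ring with residue field k and M a finitely generated R-module. Suppose
that for every small extension p : A' → A of local Artinian R-algebras with residue field k (p
surjective, its kernel I a nonzero principal ideal killed by the maximal ideal of A'), the map M ⊗_R
I → M ⊗_R A' induced by the inclusion I ⊆ A' is injective (equivalently, the sequence 0 → M ⊗_R I →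
M ⊗_R A' → M ⊗_R A → 0 is exact). Then M is a free R-module. (The printed conclusion reads free over
the residue field; the proof establishes freeness over R, which is what is stated here.) -/
theorem result
    (R : Type u) [CommRing R] [IsArtinianRing R] [IsLocalRing R]
    (k : Type u) [Field k] [Algebra R k] (hk : Function.Surjective (algebraMap R k))
    (M : Type u) [AddCommGroup M] [Module R M] [Module.Finite R M]
    (h : ∀ (A' A : ArtFun.Art R k) (p : A' ⟶ A), ArtFun.Art.IsSmallExt p →
      Function.Injective
        (LinearMap.lTensor M (((RingHom.ker p.toAlgHom).restrictScalars R).subtype))) :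
    Module.Free R M := by
  classical
  let R₀ : ArtFun.Art R k := ArtFun.Art.of R (Algebra.ofId R k) hk
  have key : ∀ 𝔟 : Ideal R, Function.Injective (LinearMap.lTensor M 𝔟.subtype) := by
    intro 𝔟
    induction 𝔟 using WellFoundedLT.induction with
    | ind 𝔟 ih =>
      by_cases htop : 𝔟 = ⊤
      · subst htop
        have h1 : LinearMap.lTensor M (⊤ : Ideal R).subtype =
            (LinearEquiv.lTensor M (Submodule.topEquiv (R := R) (M := R))).toLinearMap := by
          apply TensorProduct.ext'
          intro m a
          rfl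
        rw [h1]
        exact (LinearEquiv.lTensor M Submodule.topEquiv).injective
      by_cases hbot : 𝔟 = ⊥
      · subst hbot
        intro a b _
        have : Subsingleton (TensorProduct R M (⊥ : Ideal R)) := by
          refine ⟨fun a b => ?_⟩
          have h0 : ∀ c : TensorProduct R M (⊥ : Ideal R), c = 0 := by
            intro c
            induction c using TensorProduct.induction_on with
            | zero => rfl
            | tmul m y =>
              have : y = 0 := Subsingleton.elim _ _
              rw [this, TensorProduct.tmul_zero]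
            | add c d hc hd => rw [hc, hd, add_zero]
          rw [h0 a, h0 b]
        exact Subsingleton.elim _ _
      have hle : 𝔟 ≤ IsLocalRing.maximalIdeal R := IsLocalRing.le_maximalIdeal htop
      -- `𝔪𝔟 < 𝔟`
      have hlt : IsLocalRing.maximalIdeal R * 𝔟 < 𝔟 := by
        refine lt_of_le_of_ne Ideal.mul_le_right ?_
        intro heq
        apply hbot
        refine Submodule.eq_bot_of_le_smul_of_le_jacobson_bot (IsLocalRing.maximalIdeal R) 𝔟
          (IsNoetherian.noetherian 𝔟) ?_ ?_
        · rw [smul_eq_mul, heq]
        · rw [IsLocalRing.jacobson_eq_maximalIdeal ⊥ bot_ne_top]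
      -- a maximal proper subideal containing `𝔪𝔟`
      obtain ⟨𝔟', ⟨h1, h2⟩, hmax⟩ := (set_has_maximal_iff_noetherian (R := R) (M := R)).mpr
        inferInstance {J : Ideal R | IsLocalRing.maximalIdeal R * 𝔟 ≤ J ∧ J < 𝔟} ⟨_, le_rfl, hlt⟩
      obtain ⟨x, hx𝔟, hx𝔟'⟩ := Set.exists_of_ssubset h2
      have hsup : 𝔟' ⊔ Ideal.span {x} = 𝔟 := by
        have hle' : 𝔟' ⊔ Ideal.span {x} ≤ 𝔟 :=
          sup_le h2.le ((Ideal.span_singleton_le_iff_mem _).mpr hx𝔟)
        refine eq_of_le_of_not_lt hle' ?_
        intro hlt'
        have hgt : 𝔟' < 𝔟' ⊔ Ideal.span {x} := by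
          refine lt_of_le_of_ne le_sup_left ?_
          intro heq
          apply hx𝔟'
          rw [heq]
          exact Ideal.mem_sup_right (Ideal.subset_span rfl)
        exact hmax _ ⟨h1.trans le_sup_left, hlt'⟩ hgt
      have h𝔟'm : 𝔟' ≤ IsLocalRing.maximalIdeal R := h2.le.trans hle
      have hxm : x ∈ IsLocalRing.maximalIdeal R := hle hx𝔟
      have hmx : IsLocalRing.maximalIdeal R * Ideal.span {x} ≤ 𝔟' :=
        (Ideal.mul_mono_right ((Ideal.span_singleton_le_iff_mem _).mpr hx𝔟)).trans h1
      have hsmall := Groth.Agent.Lib.Helper1.ArtFunLib.isSmallExt_quotQuot R₀ 𝔟' h𝔟'm x hxm hx𝔟' hmx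
      have hinj := h _ _ _ hsmall
      set p := Groth.Agent.Lib.Helper1.ArtFunLib.quotQuot R₀ 𝔟' (𝔟' ⊔ Ideal.span {x}) h𝔟'm
        (sup_le h𝔟'm ((Ideal.span_singleton_le_iff_mem _).2 hxm)) le_sup_left with hp
      -- the maps
      let α : 𝔟 →ₗ[R] ↥((RingHom.ker p.toAlgHom).restrictScalars R) :=
        { toFun := fun a => ⟨Ideal.Quotient.mk 𝔟' (a : R), by
            change Ideal.Quotient.mk 𝔟' (a : R) ∈ RingHom.ker p.toAlgHom
            have := (Groth.Agent.Lib.Helper1.ArtFunLib.mem_ker_quotQuot_iff R₀ 𝔟'
              (𝔟' ⊔ Ideal.span {x}) h𝔟'm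
              (sup_le h𝔟'm ((Ideal.span_singleton_le_iff_mem _).2 hxm)) le_sup_left (a : R)).mpr
              (hsup ▸ a.2)
            exact this⟩
          map_add' := fun a b => Subtype.ext (map_add _ _ _)
          map_smul' := fun r a => Subtype.ext (by
            change Ideal.Quotient.mk 𝔟' (r * (a : R)) = r • Ideal.Quotient.mk 𝔟' (a : R)
            rw [map_mul, Algebra.smul_def]
            rfl) }
      let ι : 𝔟' →ₗ[R] 𝔟 := Submodule.inclusion h2.le
      have hαs : Function.Surjective α := by
        rintro ⟨y, hy⟩
        obtain ⟨a, rfl⟩ := Ideal.Quotient.mk_surjective y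
        have ha : a ∈ 𝔟 := by
          rw [← hsup]
          exact (Groth.Agent.Lib.Helper1.ArtFunLib.mem_ker_quotQuot_iff R₀ 𝔟'
            (𝔟' ⊔ Ideal.span {x}) h𝔟'm
            (sup_le h𝔟'm ((Ideal.span_singleton_le_iff_mem _).2 hxm)) le_sup_left a).mp hy
        exact ⟨⟨a, ha⟩, rfl⟩
      have hex : Function.Exact ι α := by
        intro a
        constructor
        · intro ha
          have h3 : Ideal.Quotient.mk 𝔟' (a : R) = 0 := congrArg Subtype.val ha
          exact ⟨⟨a, Ideal.Quotient.eq_zero_iff_mem.mp h3⟩, rfl⟩
        · rintro ⟨b, rfl⟩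
          exact Subtype.ext (Ideal.Quotient.eq_zero_iff_mem.mpr b.2)
      have hex' := lTensor_exact M hex hαs
      -- the chase
      rw [injective_iff_map_eq_zero]
      intro z hz
      have hsq : (LinearMap.lTensor M ((RingHom.ker p.toAlgHom).restrictScalars R).subtype) ∘ₗ
          (LinearMap.lTensor M α) =
          (LinearMap.lTensor M (Algebra.linearMap R (R ⧸ 𝔟'))) ∘ₗ (LinearMap.lTensor M 𝔟.subtype) := by
        rw [← LinearMap.lTensor_comp, ← LinearMap.lTensor_comp]
        congr 1
      have h4 : LinearMap.lTensor M α z = 0 := by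
        apply hinj
        rw [map_zero]
        have h8 : LinearMap.lTensor M ((RingHom.ker p.toAlgHom).restrictScalars R).subtype
            (LinearMap.lTensor M α z) = LinearMap.lTensor M (Algebra.linearMap R (R ⧸ 𝔟'))
            (LinearMap.lTensor M 𝔟.subtype z) := LinearMap.congr_fun hsq z
        exact h8.trans (by rw [hz, map_zero]; rfl)
      obtain ⟨z', rfl⟩ := (hex' z).mp h4
      have h5 : LinearMap.lTensor M 𝔟'.subtype z' = 0 := by
        have h6 : (LinearMap.lTensor M 𝔟.subtype) ∘ₗ (LinearMap.lTensor M ι) =
            LinearMap.lTensor M 𝔟'.subtype := by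
          rw [← LinearMap.lTensor_comp]
          congr 1
        rw [← h6, LinearMap.comp_apply]
        exact hz
      have h7 : z' = 0 := (injective_iff_map_eq_zero _).mp (ih 𝔟' h2) z' h5
      rw [h7, map_zero]
  have hflat : Module.Flat R M := Module.Flat.iff_lTensor_injective'.mpr key
  exact Module.free_of_flat_of_isLocalRing

end Groth.Agent.S18256
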