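import Groth.Statements.S18257
import Groth.Agent.Lib.Helper2.UnitsTh.Main

set_option autoImplicit false
universe u
open UnitsSh

namespace Groth.Agent.S18257

open CategoryTheory CategoryTheory.Limits AlgebraicGeometry in
/-- In the case of the multiplicative group, for schemes and with Zariski cohomology of the sheaf of
units. Let A be a local ring with maximal ideal m, t a nonzero element of m with m·t = 0, and X' a
scheme flat over Spec A; let i : X ⟶ X' be the closed subscheme cut out by t (base change to A/(t))
and X₀ the closed fibre (base change to the residue field). If H^{q+1}(X₀, O_{X₀}) = 0, then the map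
H^q(X', O_{X'}^×) → H^q(X', i_* O_X^×) induced by the units map of i is surjective. (The published
statement covers any smooth commutative group scheme in place of the multiplicative group, with the
Lie algebra of its closed fibre in place of O_{X₀}, uses étale cohomology, and takes A Artinian;
this row allows any local ring A with t as stated.) -/
theorem result
    (A : Type u) [CommRing A] [IsLocalRing A]
    (t : A) (ht0 : t ≠ 0) (ht : t ∈ IsLocalRing.maximalIdeal A)
    (hmt : ∀ x ∈ IsLocalRing.maximalIdeal A, x * t = 0)
    (X' : Scheme.{u}) [X'.Over (Spec (CommRingCat.of A))] [Flat (X' ↘ Spec (CommRingCat.of A))]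
    (q : ℕ)
    (hvan : Subsingleton (Coh.HH
      (pullback (X' ↘ Spec (CommRingCat.of A)) (Spec.map (CommRingCat.ofHom (IsLocalRing.residue A))))
      (Coh.structureModule _) (q + 1))) :
    Function.Surjective (Sheaf.H.map (UnitsSh.comap
      (pullback.fst (X' ↘ Spec (CommRingCat.of A))
        (Spec.map (CommRingCat.ofHom (Ideal.Quotient.mk (Ideal.span ({t} : Set A))))))) q) := by
  open Groth.Agent.Lib.Helper2.UnitsTh in
  have hnil : ∀ a ∈ Ideal.span ({t} : Set A), IsNilpotent a := by
    intro a ha
    obtain ⟨b, rfl⟩ := Ideal.mem_span_singleton'.1 ha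
    refine ⟨2, ?_⟩
    have : t * t = 0 := hmt t ht
    calc (b * t) ^ 2 = b * b * (t * t) := by ring
      _ = 0 := by rw [this, mul_zero]
  exact Groth.Agent.Lib.Helper2.UnitsTh.surjective_H_comap_iI (X' ↘ Spec (CommRingCat.of A))
    (Ideal.span {t}) hnil q
    (Groth.Agent.Lib.Helper2.UnitsTh.subsingleton_H_kernel_span (X' ↘ Spec (CommRingCat.of A))
      t ht0 ht hmt (q + 1) hvan)

end Groth.Agent.S18257
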