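import Groth.Statements.S18265
import Mathlib

set_option autoImplicit false
universe u
open InvQ

namespace Groth.Agent.S18265

/-- A subalgebra `R` of an integrally closed domain `S` which is closed under exact division
(`s * b = a` with `a, b ∈ R`, `b ≠ 0` forces `s ∈ R`) is integrally closed. -/
theorem isIntegrallyClosed_of_division_closed {k S : Type*} [CommRing k] [CommRing S] [IsDomain S]
    [Algebra k S] [IsIntegrallyClosed S] (R : Subalgebra k S)
    (hdiv : ∀ s : S, ∀ a ∈ R, ∀ b ∈ R, b ≠ 0 → s * b = a → s ∈ R) :
    IsIntegrallyClosed R := by
  rw [isIntegrallyClosed_iff (FractionRing R)]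
  intro x hx
  have hinj : Function.Injective ((algebraMap S (FractionRing S)).comp R.val.toRingHom) :=
    (IsFractionRing.injective S (FractionRing S)).comp Subtype.val_injective
  let ι : FractionRing R →+* FractionRing S := IsFractionRing.lift hinj
  have hι : ∀ r : R, ι (algebraMap R (FractionRing R) r) = algebraMap S (FractionRing S) (r : S) :=
    fun r => IsFractionRing.lift_algebraMap hinj r
  -- the image of `x` is integral over `S`
  have hint : IsIntegral S (ι x) := by
    refine hx.map_of_comp_eq R.val.toRingHom ι ?_
    ext r
    exact (hι r).symm
  obtain ⟨s, hs⟩ := IsIntegrallyClosed.isIntegral_iff.mp hint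
  obtain ⟨a, b, hb, rfl⟩ := IsFractionRing.div_surjective (A := R) x
  have hb0 : (b : R) ≠ 0 := nonZeroDivisors.ne_zero hb
  have hb0' : ((b : R) : S) ≠ 0 := fun h => hb0 (Subtype.ext h)
  have hsb : s * (b : S) = (a : S) := by
    apply IsFractionRing.injective S (FractionRing S)
    rw [map_mul, hs, map_div₀, hι, hι]
    have : algebraMap S (FractionRing S) (b : S) ≠ 0 := by
      rw [Ne, map_eq_zero_iff _ (IsFractionRing.injective S (FractionRing S))]
      exact hb0'
    field_simp
  have hsR : s ∈ R := hdiv s a a.2 b b.2 hb0' hsb
  refine ⟨⟨s, hsR⟩, ?_⟩
  have hbK : algebraMap R (FractionRing R) b ≠ 0 := by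
    rw [Ne, map_eq_zero_iff _ (IsFractionRing.injective R (FractionRing R))]
    exact hb0
  rw [eq_div_iff hbK, ← map_mul]
  congr 1
  exact Subtype.ext hsb

/-- Let k be an algebraically closed field and n, m natural numbers, and let R be the ring of polynomial
functions of m vectors of k^(n+1) invariant under the special linear group SL(n+1, k) acting on all
the vectors at once and under the rescalings of the individual vectors by units with product 1
(equivalently: invariant and homogeneous of one and the same degree in each vector) — the graded
ring of invariant sections whose Proj is the quotient variety of ordered m-point sets in projective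
n-space. Then R is integrally closed in its field of fractions; hence that quotient variety is
normal. (Only the normality assertion of the source's statement is given here; its dimension,
rationality and singular-locus assertions are not.) -/
theorem result (k : Type u) [Field k] [IsAlgClosed k] (n m : ℕ) :
    IsIntegrallyClosed (W4c5pointsetsdelpezzo.invRing k n m) := by
  apply isIntegrallyClosed_of_division_closed
  intro s a ha b hb hb0 hsb
  have key : ∀ φ : W4c5pointsetsdelpezzo.TupleRing k n m →ₐ[k] W4c5pointsetsdelpezzo.TupleRing k n m,
      φ a = a → φ b = b → φ s = s := by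
    intro φ h1 h2
    have h3 : φ s * b = s * b := by
      calc φ s * b = φ s * φ b := by rw [h2]
        _ = φ (s * b) := (map_mul φ s b).symm
        _ = φ a := by rw [hsb]
        _ = a := h1
        _ = s * b := hsb.symm
    exact mul_right_cancel₀ hb0 h3
  unfold W4c5pointsetsdelpezzo.invRing at ha hb ⊢
  rw [Algebra.mem_inf, Algebra.mem_iInf, Algebra.mem_iInf] at ha hb ⊢
  refine ⟨fun g => ?_, fun t => ?_⟩
  · exact key _ (ha.1 g) (hb.1 g)
  · exact key _ (ha.2 t) (hb.2 t)

end Groth.Agent.S18265
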