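import Groth.Statements.S18266
import Mathlib

set_option autoImplicit false
universe u
open CategoryTheory AlgebraicGeometry
open FDesc

namespace Groth.Agent.S18266



/-- nonzero elements of `A` become units on the generic fibre -/
theorem isUnit_appTop_of_ne_zero (A : Type u) [CommRing A] [IsDomain A]
    {X : Scheme.{u}} (f : X ⟶ Spec (CommRingCat.of A))
    (η : ↥(Spec (CommRingCat.of A))) (hη : η.asIdeal = ⊥) (a : A) (ha : a ≠ 0) :
    IsUnit ((f.fiberι η ≫ f).appTop ((Scheme.ΓSpecIso (CommRingCat.of A)).inv a)) := by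
  set G := f.fiberι η ≫ f with hG
  set a' := (Scheme.ΓSpecIso (CommRingCat.of A)).inv a with ha'
  apply RingedSpace.isUnit_of_isUnit_germ (X := (f.fiber η).toRingedSpace) ⊤
  intro z hz
  have h1 : z ∈ G ⁻¹ᵁ (Spec (CommRingCat.of A)).basicOpen a' := by
    show G z ∈ (Spec (CommRingCat.of A)).basicOpen a'
    have h2 : G z = η := by
      have h3 : f.fiberι η z ∈ f ⁻¹' {η} := by
        rw [← Scheme.Hom.range_fiberι]; exact ⟨z, rfl⟩
      exact h3
    rw [h2, ha', basicOpen_eq_of_affine]
    show a ∉ η.asIdeal
    rw [hη]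
    exact ha
  rw [Scheme.preimage_basicOpen_top] at h1
  exact (Scheme.mem_basicOpen_top _ _ z).mp h1

theorem closure_singleton_bot (A : Type u) [CommRing A] (p : PrimeSpectrum A)
    (hp : p.asIdeal = ⊥) : closure ({p} : Set (PrimeSpectrum A)) = Set.univ := by
  rw [← PrimeSpectrum.zeroLocus_vanishingIdeal_eq_closure, PrimeSpectrum.vanishingIdeal_singleton,
    hp]
  simp

theorem isDominant_fromSpecResidueField (A : Type u) [CommRing A] [IsDomain A]
    (η : ↥(Spec (CommRingCat.of A))) (hη : η.asIdeal = ⊥) :
    IsDominant ((Spec (CommRingCat.of A)).fromSpecResidueField η) := by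
  refine ⟨?_⟩
  rw [DenseRange, Scheme.range_fromSpecResidueField, dense_iff_closure_eq]
  exact closure_singleton_bot A η hη

theorem part2 (A : Type u) [CommRing A] [IsDomain A]
    {X : Scheme.{u}} (f : X ⟶ Spec (CommRingCat.of A))
    (η : ↥(Spec (CommRingCat.of A))) (hη : η.asIdeal = ⊥)
    (Z : Scheme.{u}) (i : Z ⟶ X) (hfl : Flat (i ≫ f)) : (f.fiberι η).ker ≤ i.ker := by
  have hdom := isDominant_fromSpecResidueField A η hη
  have hsd : IsSchemeTheoreticallyDominant ((Spec (CommRingCat.of A)).fromSpecResidueField η) :=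
    IsSchemeTheoreticallyDominant.of_isDominant _
  have hsd' : IsSchemeTheoreticallyDominant ((i ≫ f).fiberι η) := by
    show IsSchemeTheoreticallyDominant (Limits.pullback.fst (i ≫ f) _)
    infer_instance
  let j : (i ≫ f).fiber η ⟶ f.fiber η :=
    Limits.pullback.lift ((i ≫ f).fiberι η ≫ i) ((i ≫ f).fiberToSpecResidueField η) (by
      rw [Category.assoc]; exact (i ≫ f).fiber_fac η)
  have hj : j ≫ f.fiberι η = (i ≫ f).fiberι η ≫ i := Limits.pullback.lift_fst _ _ _
  calc (f.fiberι η).ker ≤ (j ≫ f.fiberι η).ker := Scheme.Hom.le_ker_comp _ _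
    _ = ((i ≫ f).fiberι η ≫ i).ker := by rw [hj]
    _ = i.ker := by
      rw [Scheme.Hom.ker_comp, ((i ≫ f).fiberι η).ker_eq_bot, Scheme.IdealSheafData.map_bot]

theorem part1 (A : Type u) [CommRing A] [IsDomain A] [IsDiscreteValuationRing A]
    {X : Scheme.{u}} (f : X ⟶ Spec (CommRingCat.of A))
    (η : ↥(Spec (CommRingCat.of A))) (hη : η.asIdeal = ⊥) :
    Flat ((f.fiberι η).imageι ≫ f) := by
  set g := f.fiberι η with hg
  have hqc : QuasiCompact g := by
    show QuasiCompact (Limits.pullback.fst f _)
    infer_instance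
  refine HasRingHomProperty.of_iSup_eq_top (P := @Flat)
    (fun U : X.affineOpens => (⟨g.imageι ⁻¹ᵁ (U : X.Opens), U.2.preimage g.imageι⟩ :
      g.image.affineOpens)) ?_ ?_
  · show ⨆ U : X.affineOpens, g.imageι ⁻¹ᵁ (U : X.Opens) = ⊤
    rw [← Scheme.Hom.preimage_iSup, iSup_affineOpens_eq_top, Scheme.Hom.preimage_top]
  · rintro ⟨U, hU⟩
    set V := g.imageι ⁻¹ᵁ U with hV
    set F := g.imageι ≫ f with hF
    show (F.appLE ⊤ V le_top).hom.Flat
    let ψ : A →+* Γ(g.image, V) :=
      (F.appLE ⊤ V le_top).hom.comp (Scheme.ΓSpecIso (CommRingCat.of A)).inv.hom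
    have hψ : ψ.Flat := by
      algebraize [ψ]
      have htf : Module.IsTorsionFree A Γ(g.image, V) := by
        rw [Module.isTorsionFree_iff_smul_eq_zero]
        intro a b hab
        by_cases ha : a = 0
        · exact Or.inl ha
        right
        have hinj : Function.Injective (g.toImage.app V) := g.toImage_app_injective ⟨U, hU⟩
        apply hinj
        rw [map_zero]
        have hu : IsUnit (g.toImage.app V (ψ a)) := by
          have h1 := isUnit_appTop_of_ne_zero A f η hη a ha
          have e1 : g.toImage ≫ F = f.fiberι η ≫ f := by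
            rw [hF, ← Category.assoc, g.toImage_imageι]
          rw [← e1, Scheme.Hom.comp_appTop, CommRingCat.comp_apply] at h1
          have nat := g.toImage.naturality (homOfLE (le_top : V ≤ F ⁻¹ᵁ ⊤)).op
          have h2 := congrArg (fun φ => φ.hom (F.appTop
            ((Scheme.ΓSpecIso (CommRingCat.of A)).inv a))) nat
          simp only [CommRingCat.hom_comp, RingHom.comp_apply] at h2
          have h3 : g.toImage.app V (ψ a) = _ := h2
          rw [h3]
          exact h1.map _
        have h2 : g.toImage.app V (ψ a) * g.toImage.app V b = 0 := by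
          rw [← map_mul]
          rw [Algebra.smul_def] at hab
          have : algebraMap A Γ(g.image, V) a = ψ a := rfl
          rw [this] at hab
          rw [hab, map_zero]
        exact (hu.mul_right_eq_zero).mp h2
      show Module.Flat A Γ(g.image, V)
      infer_instance
    have e2 : (F.appLE ⊤ V le_top).hom =
        ψ.comp (Scheme.ΓSpecIso (CommRingCat.of A)).hom.hom := by
      ext x; simp [ψ]
    rw [e2]
    exact RingHom.Flat.comp
      (RingHom.Flat.of_bijective (ConcreteCategory.bijective_of_isIso _)) hψ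

/-- Let A be a discrete valuation ring, η the generic point of Spec A, and f : X → Spec A a morphism
from an arbitrary scheme X. The scheme-theoretic closure of the generic fibre X_η in X (the flat
completion) is flat over Spec A, and it is the largest closed subscheme of X flat over Spec A: for
every closed immersion i : Z → X with Z flat over Spec A, the ideal sheaf of the flat completion is
contained in the ideal sheaf of i. -/
theorem result (A : Type u) [CommRing A] [IsDomain A]
    [IsDiscreteValuationRing A] {X : Scheme.{u}} (f : X ⟶ Spec (CommRingCat.of A))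
    (η : ↥(Spec (CommRingCat.of A))) (hη : η.asIdeal = ⊥) :
    Flat ((f.fiberι η).imageι ≫ f) ∧
      ∀ (Z : Scheme.{u}) (i : Z ⟶ X), IsClosedImmersion i → Flat (i ≫ f) → (f.fiberι η).ker ≤ i.ker := by

  exact ⟨part1 A f η hη, fun Z i _ hfl => part2 A f η hη Z i hfl⟩

end Groth.Agent.S18266
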