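import Groth.Statements.S18267
import Groth.Agent.Lib.Helper1.ChowMain
import Groth.Agent.Lib.Helper6.CurveTop
import Groth.Agent.Lib.Helper9.DedFlat
import Groth.Agent.Lib.Helper25.CurveEtale
import Groth.Agent.Lib.Helper21.GenFin2

set_option autoImplicit false
open CategoryTheory CategoryTheory.Limits AlgebraicGeometry
open ZCorr

namespace Groth.Agent.S18267

open Groth.Agent.Lib.Helper1.NA Groth.Agent.Lib.Helper29.QCoh in
theorem aux
    (C X : Scheme.{0}) [C.Over (Spec (CommRingCat.of ℂ))] [X.Over (Spec (CommRingCat.of ℂ))]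
    [AlgebraicGeometry.IsIntegral C] [Smooth (C ↘ Spec (CommRingCat.of ℂ))]
    (hC : RelProj.IsHQuasiProjective (C ↘ Spec (CommRingCat.of ℂ)))
    (hdimC : topologicalKrullDim C = 1)
    (hX : RelProj.IsHProjective (X ↘ Spec (CommRingCat.of ℂ)))
    {Z : Scheme.{0}} (π : Z ⟶ C) [AlgebraicGeometry.IsIntegral Z] (hdimZ : topologicalKrullDim Z = 1)
    (i : Z ⟶ pullback (C ↘ Spec (CommRingCat.of ℂ)) (X ↘ Spec (CommRingCat.of ℂ)))
    [IsClosedImmersion i]
    (hπ : π = i ≫ pullback.fst (C ↘ Spec (CommRingCat.of ℂ)) (X ↘ Spec (CommRingCat.of ℂ)))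
    (hsurj : Function.Surjective ⇑π) : IsFinite π ∧ Flat π := by
  haveI : IsProper (X ↘ Spec (CommRingCat.of ℂ)) :=
    Groth.Agent.Lib.Helper1.Chow.isProper_of_isHProjective _ hX
  haveI : IsProper π := by rw [hπ]; infer_instance
  haveI : QuasiCompact (C ↘ Spec (CommRingCat.of ℂ)) := by
    obtain ⟨n, j, hj1, hj2, hj3⟩ := hC
    rw [← hj3]; infer_instance
  haveI : LocallyOfFiniteType (C ↘ Spec (CommRingCat.of ℂ)) := inferInstance
  haveI : IsLocallyNoetherian C :=
    LocallyOfFiniteType.isLocallyNoetherian (C ↘ Spec (CommRingCat.of ℂ))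
  haveI : CompactSpace C := QuasiCompact.compactSpace_of_compactSpace (C ↘ Spec (CommRingCat.of ℂ))
  haveI : IsNoetherian C := { }
  haveI : LocallyOfFiniteType π := inferInstance
  haveI : IsLocallyNoetherian Z := LocallyOfFiniteType.isLocallyNoetherian π
  haveI : CompactSpace Z := QuasiCompact.compactSpace_of_compactSpace π
  haveI : IsNoetherian Z := { }
  haveI : TopologicalSpace.NoetherianSpace Z := inferInstance
  haveI : IsDominant π := ⟨hsurj.denseRange⟩
  have hξ : π (genericPoint Z) = genericPoint C :=
    Groth.Agent.Lib.Helper21.GenFin.map_genericPoint π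
  constructor
  · haveI : LocallyQuasiFinite π := by
      refine LocallyQuasiFinite.of_finite_preimage_singleton _ (fun c => ?_)
      by_cases hc : c = genericPoint C
      · subst hc
        refine (Set.finite_singleton (genericPoint Z)).subset ?_
        intro z hz
        by_contra hne
        have hzcl : IsClosed ({z} : Set Z) :=
          Groth.Agent.Lib.Helper6.CurveTop.isClosed_singleton_of_ne_genericPoint hdimZ z hne
        have h1 : IsClosed (π '' {z}) := π.isClosedMap _ hzcl
        rw [Set.image_singleton, show π z = genericPoint C from hz] at h1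
        exact Groth.Agent.Lib.Helper6.CurveTop.not_isClosed_genericPoint hdimC h1
      · have hccl : IsClosed ({c} : Set C) :=
          Groth.Agent.Lib.Helper6.CurveTop.isClosed_singleton_of_ne_genericPoint hdimC c hc
        have hF : IsClosed (π ⁻¹' {c}) := hccl.preimage π.continuous
        refine Groth.Agent.Lib.Helper6.CurveTop.finite_of_isClosed_of_notMem hdimZ hF ?_
        intro hmem
        have h2 : π (genericPoint Z) = c := hmem
        exact hc (h2.symm.trans hξ)
    exact IsFinite.of_isProper_of_locallyQuasiFinite π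
  · refine Groth.Agent.Lib.Helper9.DedFlat.flat_of_dense
      (fun c => Groth.Agent.Lib.Helper25.CurveEtale.isRegularLocalRing_stalk_of_smooth
        (C ↘ Spec (CommRingCat.of ℂ)) c) hdimC.le π ?_
    intro W hW
    rw [irreducibleComponents_eq_singleton] at hW
    rw [Set.mem_singleton_iff.mp hW, Set.image_univ]
    exact hsurj.denseRange

/-- Over the complex numbers, suppose C is a quasi-projective curve that is smooth and irreducible and X
is a projective variety that is smooth and irreducible; take Z to be an integral closed subscheme of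
C × X of dimension one whose projection to C is surjective (a non-vertical irreducible component of
a correspondence from C to X). Then the projection Z → C is finite and flat. -/
theorem result
    (C X : Scheme.{0}) [C.Over (Spec (CommRingCat.of ℂ))] [X.Over (Spec (CommRingCat.of ℂ))]
    [AlgebraicGeometry.IsIntegral C] [Smooth (C ↘ Spec (CommRingCat.of ℂ))] (hC : RelProj.IsHQuasiProjective (C ↘ Spec (CommRingCat.of ℂ)))
    (hdimC : topologicalKrullDim C = 1)
    [AlgebraicGeometry.IsIntegral X] [Smooth (X ↘ Spec (CommRingCat.of ℂ))] (hX : RelProj.IsHProjective (X ↘ Spec (CommRingCat.of ℂ)))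
    {Z : Scheme.{0}} (i : Z ⟶ pullback (C ↘ Spec (CommRingCat.of ℂ)) (X ↘ Spec (CommRingCat.of ℂ))) [IsClosedImmersion i]
    [AlgebraicGeometry.IsIntegral Z] (hdimZ : topologicalKrullDim Z = 1)
    (hsurj : Function.Surjective ⇑(i ≫ pullback.fst (C ↘ Spec (CommRingCat.of ℂ)) (X ↘ Spec (CommRingCat.of ℂ)))) :
    IsFinite (i ≫ pullback.fst (C ↘ Spec (CommRingCat.of ℂ)) (X ↘ Spec (CommRingCat.of ℂ))) ∧
      Flat (i ≫ pullback.fst (C ↘ Spec (CommRingCat.of ℂ)) (X ↘ Spec (CommRingCat.of ℂ))) := by
  exact aux C X hC hdimC hX _ hdimZ i rfl hsurj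

end Groth.Agent.S18267
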