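import Groth.Statements.S18272
import Groth.Agent.Lib.Helper10.AbGen2

set_option autoImplicit false
open CategoryTheory MonoidalCategory CartesianMonoidalCategory MonObj GrpObj AlgebraicGeometry
open AbVar

namespace Groth.Agent.S18272

/-- Let A be an abelian variety over the complex numbers (a proper integral group scheme over Spec of
the complex numbers), G an abstract group and f : A(ℂ) → G a homomorphism from the group of complex
points. If V ⊂ A is an irreducible closed subset containing the neutral element and every complex
point lying in V is in the kernel of f, then there is an abelian subvariety A' ⊂ A (an integral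
closed subgroup scheme) containing V and with all its complex points in the kernel of f. -/
theorem result
    (A : Over (Spec (CommRingCat.of ℂ))) [GrpObj A] [IsProper A.hom] [AlgebraicGeometry.IsIntegral A.left]
    (G : Type) [Group G] (f : (𝟙_ (Over (Spec (CommRingCat.of ℂ))) ⟶ A) →* G)
    (V : Set ↥A.left) (hVcl : IsClosed V) (hVirr : IsIrreducible V)
    (hV1 : Set.range ⇑(η[A]).left ⊆ V)
    (hVker : ∀ a : 𝟙_ (Over (Spec (CommRingCat.of ℂ))) ⟶ A, Set.range ⇑a.left ⊆ V → f a = 1) :
    ∃ (B : Over (Spec (CommRingCat.of ℂ))) (_ : GrpObj B) (incl : B ⟶ A), IsMonHom incl ∧ IsClosedImmersion incl.left ∧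
      AlgebraicGeometry.IsIntegral B.left ∧ V ⊆ Set.range ⇑incl.left ∧
      ∀ b : 𝟙_ (Over (Spec (CommRingCat.of ℂ))) ⟶ B, f (b ≫ incl) = 1 := by
  classical
  haveI : Subsingleton ↥(Spec (CommRingCat.of ℂ)) :=
    inferInstanceAs (Subsingleton (PrimeSpectrum ℂ))
  let I := Scheme.IdealSheafData.vanishingIdeal (X := A.left) ⟨V, hVcl⟩
  let V' : Over (Spec (CommRingCat.of ℂ)) := Over.mk (I.subschemeι ≫ A.hom)
  let j : V' ⟶ A := Over.homMk I.subschemeι rfl
  haveI hj : IsClosedImmersion j.left := inferInstanceAs (IsClosedImmersion I.subschemeι)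
  have hjrange : Set.range j.left = V := by
    change Set.range I.subschemeι = _
    rw [Scheme.IdealSheafData.range_subschemeι]
    simp [I]
  haveI : IsReduced V'.left :=
    Groth.Agent.Lib.Helper16.isReduced_subscheme_vanishingIdeal (X := A.left) ⟨V, hVcl⟩
  haveI : IrreducibleSpace ↥V'.left := by
    haveI : IrreducibleSpace (Set.range j.left) := by
      rw [hjrange]
      exact Subtype.irreducibleSpace hVirr
    exact (j.left.isEmbedding.toHomeomorph).irreducibleSpace_iff.mpr inferInstance
  haveI : IsIntegral V'.left := isIntegral_of_irreducibleSpace_of_isReduced V'.left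
  haveI : IsProper V'.hom := by
    change IsProper (I.subschemeι ≫ A.hom)
    infer_instance
  haveI : IsReduced (𝟙_ (Over (Spec (CommRingCat.of ℂ)))).left := by
    change IsReduced (Spec (CommRingCat.of ℂ))
    infer_instance
  obtain ⟨eV, heV⟩ := Groth.Agent.Lib.Helper10.RigidAA.exists_factor_of_reduced j η[A] (by
    intro z
    rw [hjrange]
    exact hV1 ⟨z, rfl⟩)
  obtain ⟨B, grpB, incl, h1, h2, h3, h4, h5, h6⟩ :=
    Groth.Agent.Lib.Helper10.AbGen.exists_generated V' j eV heV (fun a => f a = 1)
      (fun a b ha hb => by
        change f (a * b) = 1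
        rw [map_mul, ha, hb, _root_.mul_one])
      (fun a ha => by
        change f a⁻¹ = 1
        rw [map_inv, ha, _root_.inv_one])
      (fun x => hVker _ (by
        rintro _ ⟨z, rfl⟩
        rw [← hjrange]
        exact ⟨x.left z, rfl⟩))
  refine ⟨B, grpB, incl, h1, h2, ?_, ?_, h6⟩
  · haveI := h4
    exact GeometricallyIntegral.isIntegral_of_subsingleton B.hom
  · rw [← hjrange]
    exact h5

end Groth.Agent.S18272
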