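import Groth.Statements.S1828
import Groth.Agent.Lib.Helper13.LciInv4

set_option autoImplicit false
universe u
open CategoryTheory
attribute [local instance] HasDerivedCategory.standard
open Dual2

namespace Groth.Agent.S1828

/-- Let R and A be Noetherian rings and R → A a homomorphism that is a local complete intersection,
presented by a surjection ψ : P = R[x_1, …, x_n] → A. For K in D(R) set φ^!(K) = RHom_P(A, K ⊗^L_R
P)[n], where the derived base change D(R) → D(P) is assumed to exist and RHom_P(A, −) : D(P) → D(A)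
means a right adjoint of restriction of scalars along ψ, and set ω_{A/R} = φ^!(R); also assume that
the derived base change functors D(A) → D(A_f) exist for every f ∈ A. Then ω_{A/R} is invertible:
for each prime q of A there exist f ∈ A not in q and an integer m with ω_{A/R} ⊗^L_A A_f ≅ A_f[m] in
D(A_f). (The published statement makes one more assertion, which is not included here.) -/
theorem result (R A : Type u) [CommRing R] [CommRing A] [IsNoetherianRing R] [IsNoetherianRing A] [Algebra R A] (hl : LCI.IsLCI R A) (n : ℕ) (ψ : MvPolynomial (Fin n) R →ₐ[R] A) (hψ : Function.Surjective ψ) [DRing.HasLBaseChange (algebraMap R (MvPolynomial (Fin n) R))] (Rψ : Dual.D (MvPolynomial (Fin n) R) ⥤ Dual.D A) (adj : DRing.restrictD ψ.toRingHom ⊣ Rψ) [hL : ∀ f : A, DRing.HasLBaseChange (algebraMap A (Localization.Away f))] (q : PrimeSpectrum A) : ∃ (f : A) (_ : f ∉ q.asIdeal) (m : ℤ), Nonempty ((DRing.LBaseChange (algebraMap A (Localization.Away f))).obj (Dual2.shriekVia n Rψ (Dual.inD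 R R)) ≅ (Dual.inD (Localization.Away f) (Localization.Away f))⟦m⟧) := by
  classical
  obtain ⟨_, n', α, hα, hα'⟩ := hl
  have hK : LCI.IsKoszulRegularIdeal (RingHom.ker ψ.toRingHom) :=
    Groth.Agent.S9269.result R A n' n α hα ψ hψ hα'
  let P := MvPolynomial (Fin n) R
  let _ : Algebra P A := ψ.toRingHom.toAlgebra
  obtain ⟨f, hf, c, ⟨ι⟩⟩ := Groth.Agent.Lib.Helper13.LciInv.exists_away_Rco_iso_shift P A hψ hK
    q.asIdeal
  let Af := Localization.Away f
  let X := (Groth.Agent.Lib.Helper13.Coind.Rco (algebraMap P A)).obj (Dual.inD P P)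
  -- replace `Rψ` by the standard coinduction functor
  let e0 : Dual2.shriekVia n Rψ (Dual.inD R R) ≅ X⟦(n : ℤ)⟧ :=
    (shiftFunctor (Dual.D A) (n : ℤ)).mapIso
      ((Groth.Agent.Lib.Helper13.Coind.uniq ψ.toRingHom Rψ adj).app _ ≪≫
        (Groth.Agent.Lib.Helper13.Coind.Rco (algebraMap P A)).mapIso
          (Groth.Agent.Lib.Helper13.RelDual.LBaseChangeSelfIso R P))
  let e1 : (DRing.LBaseChange (algebraMap A Af)).obj (Dual2.shriekVia n Rψ (Dual.inD R R)) ≅
      (Groth.Agent.Lib.Helper13.DR.flatBC A Af).obj (X⟦(n : ℤ)⟧) :=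
    (DRing.LBaseChange (algebraMap A Af)).mapIso e0 ≪≫
      (Groth.Agent.Lib.Helper13.Shriek.LBaseChangeFlatIso A Af).app _
  let e2 : (Groth.Agent.Lib.Helper13.DR.flatBC A Af).obj (X⟦(n : ℤ)⟧) ≅
      ((Groth.Agent.Lib.Helper13.DR.flatBC A Af).obj X)⟦(n : ℤ)⟧ :=
    ((Groth.Agent.Lib.Helper13.DR.flatBC A Af).commShiftIso (n : ℤ)).app X
  refine ⟨f, hf, -(c : ℤ) + (n : ℤ), ⟨e1 ≪≫ e2 ≪≫
    (shiftFunctor (Dual.D Af) (n : ℤ)).mapIso ι ≪≫
    ((shiftFunctorAdd' (Dual.D Af) (-(c : ℤ)) (n : ℤ) _ rfl).app _).symm⟩⟩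

end Groth.Agent.S1828
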