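import Groth.Statements.S18283
import Mathlib

set_option autoImplicit false
universe u v
open CAlgX

namespace Groth.Agent.S18283

section
variable {A : Type u} [CommRing A] {ι : Type v} [Fintype ι] [DecidableEq ι]

/-- the marked vector -/
def fj (H : Finset ι) (c : ι → ι → A) (j : ι) : ι → A :=
  Pi.single j (1 : A) - ∑ i ∈ Hᶜ, c j i • Pi.single i (1 : A)

theorem fj_apply (H : Finset ι) (c : ι → ι → A) (j k : ι) :
    fj H c j k = (if k = j then 1 else 0) - (if k ∈ H then 0 else c j k) := by
  unfold fj
  simp only [Pi.sub_apply, Finset.sum_apply, Pi.smul_apply, Pi.single_apply, smul_eq_mul,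
    mul_ite, mul_one, mul_zero, Finset.sum_ite_eq, Finset.mem_compl]
  congr 1
  split_ifs <;> simp_all

theorem fj_apply_mem (H : Finset ι) (c : ι → ι → A) (j : ι) {k : ι} (hk : k ∈ H) :
    fj H c j k = if k = j then 1 else 0 := by
  rw [fj_apply, if_pos hk, sub_zero]

/-- an alternating map vanishes on `h+1` vectors from the span of `h` vectors -/
theorem alt_eq_zero_of_span {N : Type*} [AddCommGroup N] [Module A N] {P : Type*} [AddCommGroup P]
    [Module A P] (H : Finset ι) (w : ι → N) (g : N [⋀^Fin (H.card + 1)]→ₗ[A] P)
    (v : Fin (H.card + 1) → N) (hv : ∀ k, v k ∈ Submodule.span A (w '' ↑H)) : g v = 0 := by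
  classical
  have hrep : ∀ k, ∃ a : ι → A, v k = ∑ s ∈ H, a s • w s := by
    intro k
    obtain ⟨l, hl, hl'⟩ := (Finsupp.mem_span_image_iff_linearCombination A).1 (hv k)
    refine ⟨l, ?_⟩
    rw [← hl', Finsupp.linearCombination_apply]
    exact Finsupp.sum_of_support_subset l ((Finsupp.mem_supported A l).1 hl) _ (fun i _ => zero_smul _ _)
  choose a ha using hrep
  have : v = fun k => ∑ s ∈ H, a k s • w s := funext ha
  rw [this]
  change g.toMultilinearMap _ = 0
  rw [MultilinearMap.map_sum_finset]
  refine Finset.sum_eq_zero (fun r hr => ?_)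
  rw [MultilinearMap.map_smul_univ]
  have hnot : ¬ Function.Injective r := by
    intro hinj
    have hr' : ∀ k, r k ∈ H := fun k => (Fintype.mem_piFinset.1 hr) k
    have := Finset.card_le_card_of_injOn r (s := Finset.univ) (t := H) (fun k _ => hr' k)
      (fun x _ y _ h => hinj h)
    simp at this
  have : g.toMultilinearMap (fun k => w (r k)) = 0 := by
    obtain ⟨x, y, hxy, hne⟩ := Function.not_injective_iff.1 hnot
    exact g.map_eq_zero_of_eq _ (by rw [hxy]) hne
  rw [this, smul_zero]

/-- the coordinate-minor alternating map -/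
noncomputable def minorAlt (n : ℕ) (idx : Fin n → ι) : (ι → A) [⋀^Fin n]→ₗ[A] A :=
  (Matrix.detRowAlternating (R := A) (n := Fin n)).compLinearMap (LinearMap.funLeft A A idx)

theorem minorAlt_apply (n : ℕ) (idx : Fin n → ι) (v : Fin n → ι → A) :
    minorAlt n idx v = Matrix.det (Matrix.of fun a b => v a (idx b)) := rfl

theorem key_coord (H : Finset ι) (c : ι → ι → A) (M : Submodule A (ι → A))
    (hf : ∀ j ∈ H, fj H c j ∈ M)
    (hw : ∀ v : Fin (H.card + 1) → ι → A, (∀ k, v k ∈ M) →
      exteriorPower.ιMulti A (H.card + 1) v = 0)
    (x : ι → A) (hx : x ∈ M) (hxH : ∀ k ∈ H, x k = 0) (i : ι) (hi : i ∉ H) : x i = 0 := by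
  classical
  set e : Fin H.card → ι := fun a => (H.equivFin.symm a : ι) with he
  have heH : ∀ a, e a ∈ H := fun a => (H.equivFin.symm a).2
  have hinj : Function.Injective e := fun a b h => H.equivFin.symm.injective (Subtype.ext h)
  set idx : Fin (H.card + 1) → ι := Fin.snoc (α := fun _ => ι) e i with hidx
  set v : Fin (H.card + 1) → ι → A := Fin.snoc (α := fun _ => ι → A) (fun a => fj H c (e a)) x with hv
  have hvM : ∀ k, v k ∈ M := by
    intro k
    refine Fin.lastCases ?_ (fun a => ?_) k
    · rw [hv, Fin.snoc_last]; exact hx
    · rw [hv, Fin.snoc_castSucc]; exact hf _ (heH a)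
  have h0 : minorAlt (H.card + 1) idx v = 0 := by
    rw [← exteriorPower.alternatingMapLinearEquiv_apply_ιMulti, hw v hvM, map_zero]
  rw [minorAlt_apply] at h0
  have htri : (Matrix.of fun a b => v a (idx b)).BlockTriangular id := by
    intro a b hab
    simp only [id_eq] at hab
    simp only [Matrix.of_apply]
    revert hab
    refine Fin.lastCases ?_ (fun a' => ?_) a
    · refine Fin.lastCases ?_ (fun b' => ?_) b
      · intro h; exact absurd h (lt_irrefl _)
      · intro _
        rw [hv, hidx, Fin.snoc_last, Fin.snoc_castSucc]
        exact hxH _ (heH b')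
    · refine Fin.lastCases ?_ (fun b' => ?_) b
      · intro h
        exact absurd h (not_lt.2 (Fin.le_last _))
      · intro h
        rw [hv, hidx, Fin.snoc_castSucc, Fin.snoc_castSucc, fj_apply_mem H c _ (heH b')]
        rw [if_neg]
        intro hEq
        have := hinj hEq
        rw [this] at h
        exact lt_irrefl _ h
  rw [Matrix.det_of_isUpperTriangular htri, Fin.prod_univ_castSucc] at h0
  simp only [Matrix.of_apply] at h0
  rw [hv, hidx] at h0
  simp only [Fin.snoc_last, Fin.snoc_castSucc] at h0
  rw [Finset.prod_eq_one, one_mul] at h0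
  · exact h0
  · intro a _
    rw [fj_apply_mem H c _ (heH a), if_pos rfl]

end

/-- Let A be a commutative ring, ι a finite index type, H a finite set of indices (the head indices) and
c : ι → ι → A a table of coefficients; for j ∈ H put f_j = e_j − Σ_{i ∉ H} c_{ji} e_i in the free
module A^ι, so that each f_j has head e_j with coefficient 1 and tail supported outside H. If a
submodule M of A^ι contains every f_j with j ∈ H, then M is the A-span of these f_j if and only if
every wedge product of |H|+1 elements of M vanishes in the (|H|+1)-st exterior power of A^ι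
(equivalently, every (|H|+1)-minor of every matrix whose rows lie in M vanishes). The published
statement is the case where A is a Noetherian algebra over a field of characteristic zero, A^ι is
the degree-(m+1) part of the polynomial ring over A with its basis of terms, H is the set of
degree-(m+1) terms of a strongly stable monomial ideal generated in degree m, and M is the
degree-(m+1) part of an ideal generated by a marked set on that monomial ideal; this row allows any
commutative ring and any submodule containing the marked polynomials. -/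
theorem result
    {A : Type u} [CommRing A] {ι : Type v} [Fintype ι] [DecidableEq ι]
    (H : Finset ι) (c : ι → ι → A) (M : Submodule A (ι → A))
    (hf : ∀ j ∈ H, (Pi.single j (1 : A) - ∑ i ∈ Hᶜ, c j i • Pi.single i (1 : A)) ∈ M) :
    M = Submodule.span A ((fun j => Pi.single j (1 : A) - ∑ i ∈ Hᶜ, c j i • Pi.single i (1 : A)) '' ↑H)
      ↔ ∀ v : Fin (H.card + 1) → ι → A, (∀ k, v k ∈ M) →
          exteriorPower.ιMulti A (H.card + 1) v = 0 := by
  change M = Submodule.span A (fj H c '' ↑H) ↔ _
  constructor
  · intro hM v hv
    refine alt_eq_zero_of_span H (fj H c) _ v (fun k => ?_)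
    rw [← hM]; exact hv k
  · intro hw
    refine le_antisymm ?_ (Submodule.span_le.2 ?_)
    · intro x hx
      set x' : ι → A := x - ∑ s ∈ H, x s • fj H c s with hx'
      have hsum_mem : ∑ s ∈ H, x s • fj H c s ∈ Submodule.span A (fj H c '' ↑H) :=
        Submodule.sum_mem _ (fun s hs => Submodule.smul_mem _ _
          (Submodule.subset_span ⟨s, hs, rfl⟩))
      have hx'M : x' ∈ M := by
        refine Submodule.sub_mem _ hx (Submodule.sum_mem _ (fun s hs => ?_))
        exact Submodule.smul_mem _ _ (hf s hs)
      have hx'H : ∀ k ∈ H, x' k = 0 := by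
        intro k hk
        rw [hx']
        simp only [Pi.sub_apply, Finset.sum_apply, Pi.smul_apply, smul_eq_mul,
          fj_apply_mem H c _ hk, mul_ite, mul_one, mul_zero, Finset.sum_ite_eq, if_pos hk, sub_self]
      have hx'0 : x' = 0 := by
        funext i
        by_cases hi : i ∈ H
        · exact hx'H i hi
        · exact key_coord H c M hf hw x' hx'M hx'H i hi
      have : x = ∑ s ∈ H, x s • fj H c s := by
        rw [← sub_eq_zero]; exact hx'0
      rw [this]; exact hsum_mem
    · rintro _ ⟨j, hj, rfl⟩
      exact hf j hj


end Groth.Agent.S18283
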