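import Groth.Statements.S18286
import Groth.Agent.Lib.Helper10.MagnetDom
import Mathlib.CategoryTheory.Limits.Types.Pullbacks

set_option autoImplicit false
universe u
open CategoryTheory MonoidalCategory CartesianMonoidalCategory MonObj AlgebraicGeometry Opposite
open Magnet

namespace Groth.Agent.S18286

/-- Let Y be an S-scheme affine over S with an action of the diagonalizable monoid scheme A(M)_S of a
commutative monoid M, let f : Z → Y be an equivariant closed immersion (for an action of A(M)_S on
Z), and let N ⊆ M be a submonoid (magnet). Then Z^N = Z ×_Y Y^N: the square of functors on S-schemes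
formed by f^N : Z^N → Y^N, the canonical maps Z^N → Z and Y^N → Y (evaluation at the unit section)
and f is cartesian. -/
theorem result (S : Scheme.{u}) (M : Type) [AddCommMonoid M]
    (N : AddSubmonoid M) (Y Z : Over S) [IsAffineHom Y.hom] (aY : Magnet.MonAct (Magnet.AMonS S M) Y)
    (aZ : Magnet.MonAct (Magnet.AMonS S M) Z) (f : Z ⟶ Y) [IsClosedImmersion f.left]
    (hf : Magnet.MonAct.IsEquivariant aZ aY f) :
    IsPullback (Magnet.MonAct.eqvHom.postcomp (Magnet.subAct S M N) f hf) (Magnet.attrToX aZ N)
      (Magnet.attrToX aY N) (yoneda.map f) := by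
  have hmono : Mono f := by
    have : Mono ((Over.forget S).map f) := by
      change Mono f.left
      infer_instance
    exact (Over.forget S).mono_of_mono_map this
  apply IsPullback.of_forall_isPullback_app
  intro T
  rw [Limits.Types.isPullback_iff]
  refine ⟨?_, ?_, ?_⟩
  · ext φ
    change lift (toUnit (unop T) ≫ η[AMonS S N]) (𝟙 (unop T)) ≫ (φ.1 ≫ f) =
      (lift (toUnit (unop T) ≫ η[AMonS S N]) (𝟙 (unop T)) ≫ φ.1) ≫ f
    rw [Category.assoc]
  · rintro φ ψ ⟨h1, -⟩
    apply Subtype.ext
    have h1' : φ.1 ≫ f = ψ.1 ≫ f := congrArg Subtype.val h1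
    exact (cancel_mono f).1 h1'
  · intro φY z hz
    have hz' : lift (toUnit (unop T) ≫ η[AMonS S N]) (𝟙 (unop T)) ≫ φY.1 = z ≫ f := hz
    -- the orbit map of `z`
    have hfe := hf
    unfold MonAct.IsEquivariant at hfe
    have hζ : ((AMonS S M ◁ z) ≫ aZ.act) ≫ f = (AMonS.map S N.subtype ▷ unop T) ≫ φY.1 := by
      rw [Groth.Agent.Lib.Helper10.MagnetDom.whiskerRight_comp_eq_orbit (AMonS.map S N.subtype) aY
        φY.1 φY.2, hz', Category.assoc, hfe, MonoidalCategory.whiskerLeft_comp, Category.assoc]
    obtain ⟨φ', hφ'⟩ := Groth.Agent.Lib.Helper10.MagnetDom.exists_lift_of_isClosedImmersion S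
      N.subtype Subtype.val_injective (unop T) Y Z f φY.1 _ hζ
    have heq : MonAct.IsEquivariant ((subAct S M N).prod (MonAct.trivial (AMonS S M) (unop T))) aZ φ' := by
      unfold MonAct.IsEquivariant
      rw [← cancel_mono f, Category.assoc, hφ', Category.assoc, hfe,
        ← MonoidalCategory.whiskerLeft_comp_assoc, hφ']
      exact φY.2
    refine ⟨⟨φ', heq⟩, ?_, ?_⟩
    · apply Subtype.ext
      exact hφ'
    · change lift (toUnit (unop T) ≫ η[AMonS S N]) (𝟙 (unop T)) ≫ φ' = z
      rw [← cancel_mono f, Category.assoc, hφ', hz']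

end Groth.Agent.S18286
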