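import Groth.Statements.S18288
import Groth.Agent.Lib.Helper10.MagnetDom
import Mathlib.CategoryTheory.Limits.Types.Pullbacks

set_option autoImplicit false
universe u
open CategoryTheory MonoidalCategory CartesianMonoidalCategory MonObj AlgebraicGeometry Opposite
open Magnet

namespace Groth.Agent.S18288

/-- Let M be a commutative monoid with an injective homomorphism f : M → Z into a commutative group Z
(so M is cancellative; the published statement takes Z to be the group completion of M, and the same
argument applies to any such Z), let Y be a submonoid of Z contained in the image of M, and let X be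
an S-scheme separated over S with an action of the diagonalizable monoid scheme A(M)_S. Regard X as
a D(Z)_S-scheme through D(Z)_S → A(M)_S. Then the canonical map of attractors X^{f⁻¹Y ⊂ M} → X^{Y ⊂
Z} is an isomorphism: a D(Z)_S-equivariant family out of A(Y)_S is automatically A(M)_S-equivariant.
(The published statement allows X to be an algebraic space; here X is a scheme.) -/
theorem result (S : Scheme.{u}) (M Z : Type) [AddCommMonoid M]
    [AddCommGroup Z] (f : M →+ Z) (hf : Function.Injective f) (Y : AddSubmonoid Z)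
    (hY : Y ≤ AddMonoidHom.mrange f) (X : Over S) [IsSeparated X.hom]
    (a : Magnet.MonAct (Magnet.AMonS S M) X) :
    IsIso (Magnet.attrComap a f Y) := by
  classical
  -- the bijection `c : f⁻¹ Y → Y`
  set c : ↥(Y.comap f) →+ ↥Y := (f.comp (Y.comap f).subtype).codRestrict Y (fun x => x.2) with hc
  have hcinj : Function.Injective c := by
    intro x y h
    apply Subtype.ext
    apply hf
    exact congrArg Subtype.val h
  have hcsurj : Function.Surjective c := by
    rintro ⟨y, hy⟩
    obtain ⟨m, rfl⟩ := hY hy
    exact ⟨⟨m, hy⟩, rfl⟩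
  let e : ↥(Y.comap f) ≃+ ↥Y := AddEquiv.ofBijective c ⟨hcinj, hcsurj⟩
  let cinv : ↥Y →+ ↥(Y.comap f) := e.symm.toAddMonoidHom
  have h1 : c.comp cinv = AddMonoidHom.id ↥Y := by
    ext y
    exact congrArg Subtype.val (e.apply_symm_apply y)
  have h2 : (f.comp (Y.comap f).subtype).comp cinv = Y.subtype := by
    ext y
    exact congrArg Subtype.val (e.apply_symm_apply y)
  have hCD : AMonS.map S c ≫ AMonS.map S cinv = 𝟙 _ := by
    rw [← AMonS.map_comp, h1, Groth.Agent.Lib.Helper10.MagnetDom.AMonS_map_id]
  have hFD : AMonS.map S f ≫ AMonS.map S (Y.comap f).subtype ≫ AMonS.map S cinv =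
      AMonS.map S Y.subtype := by
    rw [← Category.assoc, ← AMonS.map_comp, ← AMonS.map_comp, h2]
  apply (config := {allowSynthFailures := true}) NatIso.isIso_of_isIso_app
  intro T
  rw [isIso_iff_bijective]
  constructor
  · intro φ ψ h
    have h' : (AMonS.map S c ▷ unop T) ≫ φ.1 = (AMonS.map S c ▷ unop T) ≫ ψ.1 :=
      congrArg Subtype.val h
    apply Subtype.ext
    exact Groth.Agent.Lib.Helper10.MagnetDom.hom_ext_of_whiskerRight_map S c hcinj (unop T) X _ _ h'
  · intro ψ
    have hψ := ψ.2
    rw [MonAct.mem_eqvHom_iff] at hψ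
    have hφ : MonAct.IsEquivariant ((subAct S M (Y.comap f)).prod (MonAct.trivial (AMonS S M) (unop T))) a
        ((AMonS.map S cinv ▷ unop T) ≫ ψ.1) := by
      unfold MonAct.IsEquivariant
      apply Groth.Agent.Lib.Helper10.MagnetDom.hom_ext_of_whiskerRight_map S f hf _ X
      apply hom_ext_lift₂
      intro T' γ z
      rw [← lift_comp_fst_snd z]
      generalize z ≫ fst _ _ = b
      generalize z ≫ snd _ _ = t
      rw [lift_whiskerRight_assoc, lift_whiskerRight_assoc, MonAct.lift_prod_act_assoc,
        MonAct.lift_trivial_act, lift_whiskerLeft_assoc, lift_whiskerRight_assoc,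
        lift_whiskerRight_assoc]
      have e1 : lift (γ ≫ AMonS.map S f) b ≫ (subAct S M (Y.comap f)).act =
          ((γ ≫ AMonS.map S f) ≫ AMonS.map S (Y.comap f).subtype) * b := by
        rw [subAct, MonAct.lift_restrict_act, MonAct.lift_regular_act]
      have e2 : (((γ ≫ AMonS.map S f) ≫ AMonS.map S (Y.comap f).subtype) * b) ≫ AMonS.map S cinv =
          (γ ≫ AMonS.map S Y.subtype) * (b ≫ AMonS.map S cinv) := by
        rw [MonObj.mul_comp, Category.assoc, Category.assoc, hFD]
      have e3 := hψ T' γ (b ≫ AMonS.map S cinv) t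
      have e4 : lift γ (b ≫ AMonS.map S cinv) ≫ (subAct S Z Y).act =
          (γ ≫ AMonS.map S Y.subtype) * (b ≫ AMonS.map S cinv) := by
        rw [subAct, MonAct.lift_restrict_act, MonAct.lift_regular_act]
      rw [e4, MonAct.lift_restrict_act] at e3
      rw [e1, e2, e3]
    refine ⟨⟨(AMonS.map S cinv ▷ unop T) ≫ ψ.1, hφ⟩, ?_⟩
    apply Subtype.ext
    change (AMonS.map S c ▷ unop T) ≫ (AMonS.map S cinv ▷ unop T) ≫ ψ.1 = ψ.1
    rw [← comp_whiskerRight_assoc, hCD, id_whiskerRight, Category.id_comp]

end Groth.Agent.S18288
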