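import Groth.Statements.S18317
import Groth.Agent.Lib.Helper10.InfTorsor3
import Groth.Agent.Lib.Helper10.QuotFibre1
import Groth.Agent.Lib.Helper24.EtSheaf

set_option autoImplicit false
universe u
open CategoryTheory AlgebraicGeometry
open NonAbH1

namespace Groth.Agent.S18317

/-- Let K be a field and G a finite connected K-group scheme (G → Spec K finite, G connected as a
topological space). Then every G-torsor X over Spec K for the étale topology (a K-scheme with an
action of G whose shear map G ×_K X → X ×_K X is an isomorphism and which acquires a section over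
the members of some étale covering of Spec K) is trivial: X has a K-point. -/
theorem result (K : Type u) [Field K]
    (G X : Over (Spec (CommRingCat.of K))) [GrpObj G] [IsFinite G.hom] [ConnectedSpace G.left]
    (a : AlgGrp.Action G X) (h : NonAbH1.IsTorsorFor Scheme.etalePrecoverage a) :
    NonAbH1.HasSectionOver X (𝟙 (Spec (CommRingCat.of K))) := by
  have h' : NonAbH1.IsTorsorFor Scheme.fpqcPrecoverage a :=
    Groth.Agent.Lib.Helper10.QuotFibre.isTorsorFor_mono
      (Groth.Agent.Lib.Helper24.EtSheaf.etalePrecoverage_le.trans
        Scheme.fppfPrecoverage_le_fpqcPrecoverage) h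
  haveI : Subsingleton ↥G.left := Groth.Agent.Lib.Helper10.InfTorsor.subsingleton_of_connected
  haveI : UniversallyInjective X.hom :=
    Groth.Agent.Lib.Helper10.InfTorsor.universallyInjective_torsor a h'
  obtain ⟨L₀, hF, hA, hsep, t, ht⟩ :=
    Groth.Agent.Lib.Helper10.InfTorsor.exists_separable_point X h.2
  exact Groth.Agent.Lib.Helper10.InfTorsor.hasSection_of_separable_point X.hom t ht

end Groth.Agent.S18317
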