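import Groth.Statements.S18318
import Groth.Agent.Lib.Helper10.InfTorsor5
import Groth.Agent.Lib.Helper10.QuotFibre1

set_option autoImplicit false
universe u
open CategoryTheory AlgebraicGeometry
open NonAbH1

namespace Groth.Agent.S18318

/-- Let K be a field of exponential characteristic p and G a finite connected K-group scheme. Then there
is an integer n ≥ 0 such that every G-torsor X over Spec K for the fppf topology (simply transitive
action, a section over the members of some fppf covering) becomes trivial over the purely
inseparable extension K^{1/p^n} of K: equivalently, X admits a K-morphism from Spec K regarded as a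
K-scheme through the n-th iterate x ↦ x^(p^n) of the Frobenius endomorphism of K. The source
moreover bounds n by p^n ≤ (#G)!; only the existence of a uniform n is stated here. In particular (p
= 1, characteristic zero) every such torsor is trivial. -/
theorem result (K : Type u) [Field K]
    (p : ℕ) [ExpChar K p] (G : Over (Spec (CommRingCat.of K))) [GrpObj G] [IsFinite G.hom] [ConnectedSpace G.left] :
    ∃ n : ℕ, ∀ (X : Over (Spec (CommRingCat.of K))) (a : AlgGrp.Action G X), NonAbH1.IsTorsorFor Scheme.fppfPrecoverage a →
      NonAbH1.HasSectionOver X (Spec.map (CommRingCat.ofHom (iterateFrobenius K p n))) := by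
  haveI : Subsingleton ↥G.left := Groth.Agent.Lib.Helper10.InfTorsor.subsingleton_of_connected
  obtain ⟨N, hN⟩ := Groth.Agent.Lib.Helper10.InfTorsor.exists_pow_eq_zero (G := G)
  have key : ∃ n : ℕ, ∀ (X : Over (Spec (CommRingCat.of K))) (a : AlgGrp.Action G X),
      NonAbH1.IsTorsorFor Scheme.fpqcPrecoverage a → ∀ (x : X.left)
        (c : X.left.residueField x),
        c ^ p ^ n ∈ (Groth.Agent.Lib.Helper10.InfTorsor.alpha X.hom x).hom.range := by
    rcases expChar_is_prime_or_one K p with hp | hp
    · refine ⟨N, fun X a ha x c => ?_⟩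
      exact Groth.Agent.Lib.Helper10.InfTorsor.pow_mem_range p a ha.1 N hN N
        (Nat.lt_pow_self hp.one_lt).le x c
    · subst hp
      refine ⟨0, fun X a ha x c => ?_⟩
      haveI : UniversallyInjective X.hom :=
        Groth.Agent.Lib.Helper10.InfTorsor.universallyInjective_torsor a ha
      letI := Groth.Agent.Lib.Helper10.InfTorsor.algResidue X.hom x
      haveI := Groth.Agent.Lib.Helper10.InfTorsor.isPurelyInseparable_residue X.hom x
      obtain ⟨m, y, hy⟩ := IsPurelyInseparable.pow_mem K 1 c
      refine ⟨y, ?_⟩
      rw [one_pow, pow_one] at hy ⊢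
      exact hy
  obtain ⟨n, hn⟩ := key
  refine ⟨n, fun X a ha => ?_⟩
  have ha' : NonAbH1.IsTorsorFor Scheme.fpqcPrecoverage a :=
    Groth.Agent.Lib.Helper10.QuotFibre.isTorsorFor_mono Scheme.fppfPrecoverage_le_fpqcPrecoverage ha
  haveI := Groth.Agent.Lib.Helper6.Torsor.surjective_hom_of_grpObj (G := G)
  haveI : Surjective X.hom := Groth.Agent.Lib.Helper6.Torsor.surjective_of_isTorsorFor_fpqc a ha'
  obtain ⟨y⟩ := (inferInstance : Nonempty ↥(Spec (CommRingCat.of K)))
  obtain ⟨x, -⟩ := X.hom.surjective y
  exact Groth.Agent.Lib.Helper10.InfTorsor.hasSection_frobenius p X.hom rfl n x (hn X a ha' x)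

end Groth.Agent.S18318
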