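import Groth.Statements.S18319
import Groth.Agent.Lib.Helper10.InfTorsor2
import Groth.Agent.Lib.Helper10.QuotFibre1

set_option autoImplicit false
universe u
open CategoryTheory AlgebraicGeometry
open NonAbH1

namespace Groth.Agent.S18319

/-- Let K be a perfect field and G a finite connected K-group scheme (G → Spec K finite, G connected).
Then every G-torsor X over Spec K for the fppf topology (simply transitive action, a section over
the members of some fppf covering of Spec K) is trivial: X has a K-point. -/
theorem result (K : Type u) [Field K]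
    [PerfectField K] (G X : Over (Spec (CommRingCat.of K))) [GrpObj G] [IsFinite G.hom] [ConnectedSpace G.left]
    (a : AlgGrp.Action G X) (h : NonAbH1.IsTorsorFor Scheme.fppfPrecoverage a) :
    NonAbH1.HasSectionOver X (𝟙 (Spec (CommRingCat.of K))) := by
  have h' : NonAbH1.IsTorsorFor Scheme.fpqcPrecoverage a :=
    Groth.Agent.Lib.Helper10.QuotFibre.isTorsorFor_mono Scheme.fppfPrecoverage_le_fpqcPrecoverage h
  haveI : Subsingleton ↥G.left := Groth.Agent.Lib.Helper10.InfTorsor.subsingleton_of_connected
  haveI : UniversallyInjective X.hom :=
    Groth.Agent.Lib.Helper10.InfTorsor.universallyInjective_torsor a h'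
  haveI := Groth.Agent.Lib.Helper6.Torsor.surjective_hom_of_grpObj (G := G)
  haveI : Surjective X.hom := Groth.Agent.Lib.Helper6.Torsor.surjective_of_isTorsorFor_fpqc a h'
  obtain ⟨y⟩ := (inferInstance : Nonempty ↥(Spec (CommRingCat.of K)))
  obtain ⟨x, -⟩ := X.hom.surjective y
  exact Groth.Agent.Lib.Helper10.InfTorsor.hasSection_of_perfect X.hom x

end Groth.Agent.S18319
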