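import Groth.Statements.S18340
import Mathlib
import Groth.Agent.Lib.Helper20.FunApx
import Groth.Agent.Lib.Helper20.FunApx2
import Groth.Agent.Lib.Helper18.AdicHom
import Groth.Agent.Lib.Helper23.GRingPoly3
import Groth.Agent.Lib.Helper23.GScheme
import Groth.Agent.Lib.Helper18.Exc2

set_option autoImplicit false
universe u
open ArtinApx

namespace Groth.Agent.S18340


open CategoryTheory
open CategoryTheory in
theorem isGRing_field (k : Type u) [Field k] : CAlg.IsGRing k := by
  have : IsAdicComplete (IsLocalRing.maximalIdeal k) k :=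
    Groth.Agent.Lib.Helper18.Exc.isAdicComplete_of_isField k (Field.toIsField k)
  exact Groth.Agent.Lib.Helper23.GScheme.isGRing_of_local k
    (Groth.Agent.Lib.Helper18.Exc.isRegularHom_cpl_of_isAdicComplete k)

open CategoryTheory in
/-- Let k be an algebraically closed field, A a finitely generated k-algebra with a maximal ideal m (a
k-point of Spec A), F a functor from commutative A-algebras to sets which preserves filtered
colimits, and ξ an element of F(Â), Â the m-adic completion of A. Then for every natural number N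
there are an étale A-algebra A′, a surjective A-algebra homomorphism ψ : A′ → A/m^(N+1) and an
element ξ′ of F(A′) whose image under F(ψ) is the image of ξ under F of the canonical map Â →
A/m^(N+1). (Affine form of the statement for limit-preserving functors on schemes over a finite-type
k-scheme S with a k-point s: Spec A′ is the étale neighbourhood of s, the kernel of ψ is the
(N+1)-st power of the maximal ideal of the point above s, and the equation says that ξ′ and ξ agree
to order N.) -/
theorem result (k : Type u) [Field k] [IsAlgClosed k]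
    (A : Type u) [CommRing A] [Algebra k A] [Algebra.FiniteType k A] (m : Ideal A) [m.IsMaximal]
    (F : CommAlgCat.{u} A ⥤ Type u) [Limits.PreservesFilteredColimits F]
    (ξ : F.obj (CommAlgCat.of A (AdicCompletion m A))) (N : ℕ) :
    ∃ (A' : Type u) (_ : CommRing A') (_ : Algebra A A') (_ : Algebra.Etale A A')
      (ψ : A' →ₐ[A] (A ⧸ m ^ (N + 1))) (_ : Function.Surjective ψ) (ξ' : F.obj (CommAlgCat.of A A')),
      F.map (CommAlgCat.ofHom ψ) ξ' =
        F.map (CommAlgCat.ofHom (AdicCompletion.evalₐ m (N + 1))) ξ := by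

  classical
  have hGA : CAlg.IsGRing A :=
    Groth.Agent.Lib.Helper23.GRingPoly.isGRing_of_finiteType k (isGRing_field k) A
  have hN : IsNoetherianRing A := hGA.1
  have hreg : CAlg.IsRegularHom A (AdicCompletion m A) :=
    Groth.Agent.Lib.Helper18.AdicHom.isRegularHom_adicCompletion A m (fun p _ => hGA.2 p)
  let E := commAlgCatEquivUnder (CommRingCat.of A)
  let G : Under (CommRingCat.of A) ⥤ Type u := E.inverse ⋙ F
  have hG : ∀ (J : Type u) [SmallCategory J] [IsFiltered J],
      Limits.PreservesColimitsOfShape J G := fun J _ _ => inferInstance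
  let X₀ : CommAlgCat.{u} A := CommAlgCat.of A (AdicCompletion m A)
  let ξ' : G.obj (E.functor.obj X₀) := F.map (E.unitIso.hom.app X₀) ξ
  obtain ⟨k', l, f, b, hb, hmain⟩ :=
    Groth.Agent.Lib.Helper20.FunApx.exists_poly G hG (E.functor.obj X₀) ξ'
  change Fin k' → AdicCompletion m A at b
  have hb' : ∀ i, MvPolynomial.aeval b (f i) = 0 := hb
  obtain ⟨A', _, _, het, φ, hφs, -, c, hc, hcb⟩ :=
    Groth.Agent.Lib.Helper20.FunApx2.etale_approx A m hreg k' l f b hb' (N + 1)
  let Y₀ : CommAlgCat.{u} A := CommAlgCat.of A A'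
  let Z₀ : CommAlgCat.{u} A := CommAlgCat.of A (A ⧸ m ^ (N + 1))
  let ρ₀ : Y₀ ⟶ Z₀ := CommAlgCat.ofHom φ
  let π₀ : X₀ ⟶ Z₀ := CommAlgCat.ofHom (AdicCompletion.evalₐ m (N + 1))
  obtain ⟨η, hη⟩ := hmain (E.functor.obj Y₀) (E.functor.obj Z₀) c (fun i => hc i)
    (E.functor.map ρ₀) (E.functor.map π₀) (fun j => hcb j)
  refine ⟨A', inferInstance, inferInstance, het, φ, hφs, F.map (E.unitIso.inv.app Y₀) η, ?_⟩
  change F.map ρ₀ (F.map (E.unitIso.inv.app Y₀) η) = F.map π₀ ξ
  have h1 : E.unitIso.inv.app Y₀ ≫ ρ₀ = E.inverse.map (E.functor.map ρ₀) ≫ E.unitIso.inv.app Z₀ :=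
    (E.unitIso.inv.naturality ρ₀).symm
  have h2 : E.unitIso.hom.app X₀ ≫ E.inverse.map (E.functor.map π₀) ≫ E.unitIso.inv.app Z₀ =
      π₀ := by
    have hn : π₀ ≫ E.unitIso.hom.app Z₀ =
        E.unitIso.hom.app X₀ ≫ E.inverse.map (E.functor.map π₀) := E.unitIso.hom.naturality π₀
    calc E.unitIso.hom.app X₀ ≫ E.inverse.map (E.functor.map π₀) ≫ E.unitIso.inv.app Z₀
        = (E.unitIso.hom.app X₀ ≫ E.inverse.map (E.functor.map π₀)) ≫ E.unitIso.inv.app Z₀ :=
          (Category.assoc _ _ _).symm
      _ = (π₀ ≫ E.unitIso.hom.app Z₀) ≫ E.unitIso.inv.app Z₀ := by rw [hn]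
      _ = π₀ := by rw [Category.assoc, Iso.hom_inv_id_app]; exact Category.comp_id _
  have hη' : F.map (E.inverse.map (E.functor.map ρ₀)) η =
      F.map (E.inverse.map (E.functor.map π₀)) (F.map (E.unitIso.hom.app X₀) ξ) := hη
  rw [← Functor.map_comp_apply, h1, Functor.map_comp_apply, hη', ← Functor.map_comp_apply,
    ← Functor.map_comp_apply, h2]

end Groth.Agent.S18340
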