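import Groth.Statements.S18343
import Groth.Agent.Lib.Helper14.Ribbon1

set_option autoImplicit false
universe u
open CategoryTheory CategoryTheory.Limits AlgebraicGeometry
open MultCurve

namespace Groth.Agent.S18343

/-- Suppose C is a ribbon on the reduced scheme D via the closed immersion i : D ⟶ C (meaning the ideal
of D squares to zero and is locally generated by a single section z whose annihilator lies in (z)),
and consider an arbitrary morphism of schemes f : C ⟶ X. The morphism f is a closed immersion
exactly when two things hold: the composite i ≫ f, i.e. f restricted to D, is a closed immersion,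
and pulling back along f the ideal of the scheme-theoretic image of D in X yields the entire ideal
of D in C. This second requirement amounts to surjectivity of the map α_f that sends the pullback of
the conormal sheaf of the image of D in X onto the conormal bundle of D in C. (The statement is
given for arbitrary schemes and any morphism f; the published version assumes all schemes are of
finite type over a field and D is connected, but the proof relies on neither assumption.) -/
theorem result (D C X : Scheme.{u}) (i : D ⟶ C)
    (hR : MultCurve.IsRibbon i) (f : C ⟶ X) :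
    IsClosedImmersion f ↔ (IsClosedImmersion (i ≫ f) ∧ (i ≫ f).ker.comap f = i.ker) := by
  obtain ⟨⟨hci, hsq, _⟩, _⟩ := hR
  have hsurj : Function.Surjective i :=
    Groth.Agent.Lib.Helper14.Ribbon.surjective_of_ker_sq_eq_bot i hsq
  constructor
  · intro hf
    refine ⟨inferInstance, ?_⟩
    have hpb : IsPullback (𝟙 D) i (i ≫ f) f := IsPullback.of_horiz_isIso_mono ⟨by simp⟩
    have e : hpb.flip.isoPullback.hom ≫ pullback.fst f (i ≫ f) = i := hpb.flip.isoPullback_hom_fst
    rw [← Scheme.IdealSheafData.ker_fst_of_isClosedImmersion (i ≫ f) f]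
    calc (pullback.fst f (i ≫ f)).ker
        = (hpb.flip.isoPullback.hom ≫ pullback.fst f (i ≫ f)).ker :=
          (Scheme.Hom.ker_comp_of_isIso _ _).symm
      _ = i.ker := by rw [e]
  · rintro ⟨hcif, hker⟩
    have hhomeo : IsHomeomorph i :=
      isHomeomorph_iff_isEmbedding_surjective.mpr ⟨i.isClosedEmbedding.isEmbedding, hsurj⟩
    let h := hhomeo.homeomorph
    have hemb : Topology.IsClosedEmbedding f := by
      have h1 : Topology.IsClosedEmbedding (i ≫ f) := (i ≫ f).isClosedEmbedding
      have h2 := h1.comp h.symm.isClosedEmbedding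
      have h3 : (⇑(i ≫ f) ∘ ⇑h.symm) = ⇑f := by
        funext x
        show (i ≫ f) (h.symm x) = f x
        rw [Scheme.Hom.comp_apply]
        congr 1
        exact h.apply_symm_apply x
      rwa [h3] at h2
    have haff : IsAffineHom f := isAffineHom_of_isInducing f hemb.isInducing hemb.isClosed_range
    rw [isClosedImmersion_iff_isAffineHom]
    refine ⟨haff, fun U hU => ?_⟩
    have hU' : IsAffineOpen (f ⁻¹ᵁ U) := hU.preimage f
    refine Groth.Agent.Lib.Helper14.Ribbon.surjective_of_sqZero (f.app U).hom
      (i.app (f ⁻¹ᵁ U)).hom ?_ ?_ ?_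
    · have : (i.app (f ⁻¹ᵁ U)).hom.comp (f.app U).hom = ((i ≫ f).app U).hom := rfl
      rw [this]
      exact (i ≫ f).app_surjective U hU
    · rw [← Scheme.Hom.ker_apply i ⟨f ⁻¹ᵁ U, hU'⟩]
      have := congrArg (fun I => I.ideal ⟨f ⁻¹ᵁ U, hU'⟩) hsq
      simpa using this
    · have h1 := Groth.Agent.Lib.Helper1.ideal_comap (i ≫ f).ker f ⟨f ⁻¹ᵁ U, hU'⟩ ⟨U, hU⟩ le_rfl
      rw [hker] at h1
      rw [← Scheme.Hom.ker_apply i ⟨f ⁻¹ᵁ U, hU'⟩, h1, Scheme.Hom.ker_apply]
      have : (i.app (f ⁻¹ᵁ U)).hom.comp (f.app U).hom = ((i ≫ f).app U).hom := rfl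
      rw [this, ← Scheme.Hom.app_eq_appLE]
      rfl

end Groth.Agent.S18343
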