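import Groth.Statements.S18344
import Mathlib
import Groth.Agent.Helper19.Ribbon1
import Groth.Agent.Helper19.Conormal7
import Groth.Agent.Helper19.UnivConormal
import Groth.Agent.Lib.Helper29.QCohLocFree
import Groth.Agent.Lib.Helper10.UnivThick
-- import your own Groth.Agent.* helpers here

set_option autoImplicit false
universe u
open CategoryTheory CategoryTheory.Limits AlgebraicGeometry
open MultCurve

namespace Groth.Agent.S18344

open Groth.Agent.Helper19.Conormal Groth.Agent.Helper19.UnivConormal
  Groth.Agent.Lib.Helper29.QCoh Groth.Agent.Helper19.Ribbon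

/-- Let C be a scheme and I ⊂ O_C a quasi-coherent ideal with I² = 0, and let D ⊂ C be the closed
subscheme it defines. Then the following are equivalent: (a) every point of C has an affine open
neighbourhood U on which I(U) is generated by one section z such that every a with a z = 0 lies in
I(U); (b) the conormal sheaf of D in C (the ideal I regarded as an O_D-module, which makes sense
because I² = 0) is an invertible O_D-module. This identifies the line-bundle clause in the
definition of a ribbon with the section-level principal-of-order-two condition. -/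
theorem result (C : Scheme.{u}) (I : C.IdealSheafData)
    (hI : I ^ 2 = ⊥) :
    MultCurve.IsPrincipalOfOrder I 2 ↔ PicF.IsInvertible (Omega.conormal I.subschemeι) := by
  have hker : I.subschemeι.ker = I := Scheme.IdealSheafData.ker_subschemeι I
  have hsurj : Function.Surjective I.subschemeι := by
    rw [← Set.range_eq_univ, I.range_subschemeι]
    have h1 : (I ^ 2).support = I.support := Scheme.IdealSheafData.support_pow I 2 (by norm_num)
    rw [hI, Scheme.IdealSheafData.support_bot] at h1
    rw [← h1]; rfl
  have ht : MoreMor.IsFirstOrderThickening I.subschemeι :=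
    ⟨⟨inferInstance, ⟨hsurj⟩⟩, by rw [hker, ← pow_two, hI]⟩
  rw [isInvertible_iff_isFinLocFreeOfRank_one]
  constructor
  · intro h
    rw [isFinLocFreeOfRank_iff_exists_affine 1 (Omega.conormal I.subschemeι)]
    intro d
    obtain ⟨U, hdU, z, hz, hann⟩ := h (I.subschemeι d)
    have hU : IsAffineOpen (U : C.Opens) := U.2
    have hV : IsAffineOpen (I.subschemeι ⁻¹ᵁ (U : C.Opens)) := hU.preimage I.subschemeι
    refine ⟨I.subschemeι ⁻¹ᵁ (U : C.Opens), hV, hdU, ?_⟩
    have hch := isClosedChart_fot I.subschemeι hU
    letI := (I.subschemeι.appLE U (I.subschemeι ⁻¹ᵁ (U : C.Opens)) le_rfl).hom.toAlgebra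
    have hsq := ideal_sq_eq_bot I.subschemeι ht hU
    have hz' : I.subschemeι.ker.ideal ⟨U, hU⟩ = Ideal.span {z} := by
      rw [hker]; exact hz
    have hann' : ∀ a : Γ(C, U), a * z = 0 → a ∈ I.subschemeι.ker.ideal ⟨U, hU⟩ := by
      intro a ha
      rw [hker]
      apply hann a
      simpa using ha
    obtain ⟨e⟩ := free_of_principal (I.subschemeι.ker.ideal ⟨U, hU⟩) hch.2 hch.1 hsq z hz' hann'
    exact ⟨(conormalSectionsEquiv I.subschemeι hU hV le_rfl) ≪≫ₗ e⟩
  · intro h x
    obtain ⟨d, rfl⟩ := hsurj x
    rw [isFinLocFreeOfRank_iff_isFreeAlong] at h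
    obtain ⟨U₁, hdU₁, hfree⟩ := h d
    obtain ⟨W', hW'⟩ := Groth.Agent.Lib.Helper10.UnivThick.fot_exists_opens ht U₁
    have hdW' : I.subschemeι d ∈ W' := by
      have : d ∈ I.subschemeι ⁻¹ᵁ W' := by rw [hW']; exact hdU₁
      exact this
    obtain ⟨U, hU, hdU, hUW'⟩ := exists_isAffineOpen_mem_and_subset (x := I.subschemeι d) hdW'
    have hV : IsAffineOpen (I.subschemeι ⁻¹ᵁ U) := hU.preimage I.subschemeι
    have hVU₁ : I.subschemeι ⁻¹ᵁ U ≤ U₁ := by
      rw [← hW']
      intro y hy
      exact hUW' hy
    have hfree' : IsFreeAlong (Omega.conormal I.subschemeι) hV.fromSpec 1 := by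
      refine hfree.of_range_subset _ ?_
      rw [hV.range_fromSpec, Scheme.Opens.range_ι]
      exact hVU₁
    obtain ⟨e⟩ := nonempty_linearEquiv_of_isFreeAlong_fromSpec _ hV 1 hfree'
    have hch := isClosedChart_fot I.subschemeι hU
    letI := (I.subschemeι.appLE U (I.subschemeι ⁻¹ᵁ U) le_rfl).hom.toAlgebra
    have hsq := ideal_sq_eq_bot I.subschemeι ht hU
    obtain ⟨z, hz, hann⟩ := principal_of_free (I.subschemeι.ker.ideal ⟨U, hU⟩) hch.2 hch.1 hsq
      ((conormalSectionsEquiv I.subschemeι hU hV le_rfl).symm ≪≫ₗ e)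
    refine ⟨⟨U, hU⟩, hdU, z, ?_, ?_⟩
    · rw [← hz, hker]
    · intro a ha
      have := hann a (by simpa using ha)
      rw [hker] at this
      exact this

end Groth.Agent.S18344
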