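import Groth.Statements.S18345
import Mathlib
import Groth.Agent.S18346
import Groth.Agent.Helper19.OmegaD8
-- import your own Groth.Agent.* helpers here

set_option autoImplicit false
universe w u
open CategoryTheory CategoryTheory.Limits AlgebraicGeometry
open MultCurve

namespace Groth.Agent.S18345

open Groth.Agent.Helper19.OmegaD Abelian

theorem extClass_eq_zero_iff {𝒜 : Type*} [Category 𝒜] [Abelian 𝒜] [HasExt.{w} 𝒜]
    {S : ShortComplex 𝒜} (hS : S.ShortExact) :
    hS.extClass = 0 ↔ ∃ σ : S.X₃ ⟶ S.X₂, σ ≫ S.g = 𝟙 S.X₃ := by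
  constructor
  · intro h0
    obtain ⟨x₂, hx₂⟩ := Ext.covariant_sequence_exact₃ S.X₃ hS (Ext.mk₀ (𝟙 S.X₃)) (zero_add 1)
      (by rw [Ext.mk₀_id_comp, h0])
    obtain ⟨σ, rfl⟩ := (Ext.mk₀_bijective S.X₃ S.X₂).2 x₂
    rw [Ext.mk₀_comp_mk₀] at hx₂
    exact ⟨σ, (Ext.mk₀_bijective _ _).1 hx₂⟩
  · rintro ⟨σ, hσ⟩
    have h1 : hS.extClass = (Ext.mk₀ (𝟙 S.X₃)).comp hS.extClass (zero_add 1) :=
      (Ext.mk₀_id_comp _).symm
    rw [h1, ← hσ, ← Ext.mk₀_comp_mk₀, Ext.comp_assoc_of_second_deg_zero, hS.comp_extClass,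
      Ext.comp_zero]

/-- Let k be a field and C a ribbon, locally of finite type over k, on the reduced connected scheme D
along i : D ⟶ C, with its restricted cotangent sequence 0 → L → Ω_C|_D → Ω_D → 0 presented by a
universal k-derivation d₁ : O_C → Ω₁, a universal k-derivation d₂ : O_D → Ω₂, the map φ from the
conormal bundle L of D in C to i^*Ω₁ induced by d₁ and the map c : i^*Ω₁ → Ω₂ compatible with d₁ and
d₂, assumed short exact, that is, with φ injective; let e_C ∈ Ext¹(Ω_D, L) be the class of that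
sequence. Then the ribbon is split — i admits a retraction C ⟶ D that is a morphism over k — if and
only if e_C = 0. (The published text treats the restricted cotangent sequence as short exact for
every ribbon and puts the retractions in bijection with the splittings of e_C. Short exactness holds
over a perfect field but not in general: for k of characteristic p and a ∈ k not a p-th power, the
ribbon Spec k[x]/((x^p − a)²) on D = Spec k(a^{1/p}) has φ = 0 and admits no retraction, although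
Ext¹(Ω_D, L) = 0 there. So short exactness is assumed here, and this row states the existence part
of the bijection.) -/
theorem result (k : Type u) [Field k] (D C : Scheme.{u}) (i : D ⟶ C)
    (pC : C ⟶ Spec (CommRingCat.of k)) [LocallyOfFiniteType pC] [ConnectedSpace D] (hR : MultCurve.IsRibbon i)
    (Ω₁ : C.Modules) (d₁ : OmegaSh.Der pC Ω₁) (hd₁ : OmegaSh.IsUniversal d₁)
    (Ω₂ : D.Modules) (d₂ : OmegaSh.Der (i ≫ pC) Ω₂) (hd₂ : OmegaSh.IsUniversal d₂)
    (φ : Omega.conormal i ⟶ (Scheme.Modules.pullback i).obj Ω₁) (hφ : OmegaSh.IsConormalDiff i d₁ φ)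
    (c : (Scheme.Modules.pullback i).obj Ω₁ ⟶ Ω₂) (hc : OmegaSh.IsDiffCompat i d₁ d₂ c)
    (hw : φ ≫ c = 0) (hS : (ShortComplex.mk φ c hw).ShortExact) [HasExt.{w} D.Modules] :
    (∃ r : C ⟶ D, i ≫ r = 𝟙 D ∧ r ≫ i ≫ pC = pC) ↔ hS.extClass = 0 := by
  have hdf : OmegaSh.IsDiffCompat (𝟙 D) d₂ d₂ ((Scheme.Modules.pullbackId D).hom.app Ω₂) := by
    intro U s
    have h := pullbackId_hom_pullSect Ω₂ U (d₂.app U s)
    refine h.trans ?_
    rfl
  have key := Groth.Agent.S18346.result k D C i pC hR Ω₁ d₁ hd₁ Ω₂ d₂ hd₂ φ hφ c hc hw hS D (i ≫ pC)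
    (𝟙 D) (by simp) Ω₂ d₂ hd₂ _ hdf
  rw [key, extClass_eq_zero_iff hS]
  constructor
  · rintro ⟨s, hs⟩
    refine ⟨(Scheme.Modules.pullbackId D).inv.app Ω₂ ≫ s, ?_⟩
    change ((Scheme.Modules.pullbackId D).inv.app Ω₂ ≫ s) ≫ c = 𝟙 Ω₂
    rw [Category.assoc, hs]
    exact (Scheme.Modules.pullbackId D).inv_hom_id_app Ω₂
  · rintro ⟨σ, hσ⟩
    refine ⟨(Scheme.Modules.pullbackId D).hom.app Ω₂ ≫ σ, ?_⟩
    have hσ' : σ ≫ c = 𝟙 Ω₂ := hσ
    rw [Category.assoc, hσ']
    exact Category.comp_id _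

end Groth.Agent.S18345
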