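import Groth.Statements.S18348
import Mathlib
import Groth.Agent.Helper19.Ribbon7
import Groth.Agent.Helper19.Ribbon8
import Groth.Agent.Helper19.Ribbon9
-- import your own Groth.Agent.* helpers here

set_option autoImplicit false
universe w u
open CategoryTheory CategoryTheory.Limits AlgebraicGeometry
open MultCurve

namespace Groth.Agent.S18348

open Groth.Agent.Helper19.Ribbon Groth.Agent.Helper19.Conormal

/-- Let k be a field and D a reduced connected scheme locally of finite type over k, with structure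
morphism pD and a universal k-derivation d₂ : O_D → Ω₂. Let C and C′ be ribbons on D over k
(k-schemes locally of finite type with closed immersions i, i′ of D over k making them ribbons),
each with its restricted cotangent sequence 0 → L → Ω_C|_D → Ω_D → 0 presented by a universal
k-derivation d₁ : O_C → Ω₁, the fixed universal k-derivation d₂ of D, the map φ from the conormal
bundle L of D in C to i^*Ω₁ induced by d₁ and the map c : i^*Ω₁ → Ω₂ compatible with d₁ and d₂,
assumed short exact, that is, with φ and φ′ injective, with classes e ∈ Ext¹(Ω₂, L) and e′ ∈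
Ext¹(Ω₂, L′). Then C and C′ are isomorphic over D (by an isomorphism under D that is a k-morphism)
if and only if there is an isomorphism of O_D-modules α : L ≅ L′ carrying e to e′. In particular a
ribbon with short exact restricted cotangent sequence is determined up to isomorphism over D by its
conormal bundle together with its class. (The published statement asserts the uniqueness for all
ribbons, treating the restricted cotangent sequence as short exact for every ribbon; it is so over a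
perfect field but not in general: for k of characteristic p and a ∈ k not a p-th power, D = Spec
k(a^{1/p}) has Ext¹(Ω_D, L) = 0 for every L, yet the split ribbon with conormal bundle O_D and Spec
k[x]/((x^p − a)²) are ribbons on D with conormal bundle O_D that are not isomorphic over D, the
second having φ = 0; so short exactness is assumed here for both ribbons. The published statement
also, for D proper over k, phrases the criterion as e = a·e′ with a a nonzero scalar, identifying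
the automorphisms of the line bundle L with the nonzero constants; that identification needs Γ(D,
O_D) = k and fails, for example, for the projective line over a quadratic extension of k regarded as
a k-scheme, so the criterion is stated here with an arbitrary automorphism of the conormal bundle,
in which form it holds for every reduced connected D.) -/
theorem result (k : Type u) [Field k] (D : Scheme.{u})
    (pD : D ⟶ Spec (CommRingCat.of k)) [LocallyOfFiniteType pD] [ConnectedSpace D]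
    (Ω₂ : D.Modules) (d₂ : OmegaSh.Der pD Ω₂) (hd₂ : OmegaSh.IsUniversal d₂) [HasExt.{w} D.Modules]
    (C : Scheme.{u}) (i : D ⟶ C) (pC : C ⟶ Spec (CommRingCat.of k)) [LocallyOfFiniteType pC]
    (hp : i ≫ pC = pD) (hR : MultCurve.IsRibbon i)
    (Ω₁ : C.Modules) (d₁ : OmegaSh.Der pC Ω₁) (hd₁ : OmegaSh.IsUniversal d₁)
    (φ : Omega.conormal i ⟶ (Scheme.Modules.pullback i).obj Ω₁) (hφ : OmegaSh.IsConormalDiff i d₁ φ)
    (c : (Scheme.Modules.pullback i).obj Ω₁ ⟶ Ω₂) (hc : OmegaSh.IsDiffCompat i d₁ d₂ c)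
    (hw : φ ≫ c = 0) (hS : (ShortComplex.mk φ c hw).ShortExact)
    (C' : Scheme.{u}) (i' : D ⟶ C') (pC' : C' ⟶ Spec (CommRingCat.of k)) [LocallyOfFiniteType pC']
    (hp' : i' ≫ pC' = pD) (hR' : MultCurve.IsRibbon i')
    (Ω₁' : C'.Modules) (d₁' : OmegaSh.Der pC' Ω₁') (hd₁' : OmegaSh.IsUniversal d₁')
    (φ' : Omega.conormal i' ⟶ (Scheme.Modules.pullback i').obj Ω₁') (hφ' : OmegaSh.IsConormalDiff i' d₁' φ')
    (c' : (Scheme.Modules.pullback i').obj Ω₁' ⟶ Ω₂) (hc' : OmegaSh.IsDiffCompat i' d₁' d₂ c')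
    (hw' : φ' ≫ c' = 0) (hS' : (ShortComplex.mk φ' c' hw').ShortExact) :
    (∃ ψ : C ≅ C', i ≫ ψ.hom = i' ∧ ψ.hom ≫ pC' = pC) ↔
      ∃ α : Omega.conormal i ≅ Omega.conormal i',
        hS.extClass.comp (Abelian.Ext.mk₀ α.hom) (add_zero 1) = hS'.extClass := by
  constructor
  · rintro ⟨ψ, hψ1, hψ2⟩
    have hθ1 : i' ≫ ψ.inv = i := by
      rw [← hψ1, Category.assoc, Iso.hom_inv_id, Category.comp_id]
    have hθ2 : ψ.inv ≫ pC = pC' := by rw [← hψ2, Iso.inv_hom_id_assoc]
    obtain ⟨dg, hdg, -⟩ := Groth.Agent.S9370.result pC' pC ψ.hom (𝟙 _)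
      (by rw [Category.comp_id, hψ2]) Ω₁' d₁' hd₁' Ω₁ d₁ hd₁
    obtain ⟨dg', hdg', -⟩ := Groth.Agent.S9370.result pC pC' ψ.inv (𝟙 _)
      (by rw [Category.comp_id, hθ2]) Ω₁ d₁ hd₁ Ω₁' d₁' hd₁'
    obtain ⟨s₁, hs₁⟩ := exists_isLiftDiff i i' ψ.hom d₁ d₁' hψ1 dg hdg
    obtain ⟨s₂, hs₂⟩ := exists_isLiftDiff i' i ψ.inv d₁' d₁ hθ1 dg' hdg'
    have h12 : s₁ ≫ s₂ = 𝟙 _ := isLiftDiff_comp_eq_id i i' ψ.hom ψ.inv d₁ d₁' hd₁' ψ.inv_hom_id
      s₁ hs₁ s₂ hs₂ hψ1 hθ1
    have h21 : s₂ ≫ s₁ = 𝟙 _ := isLiftDiff_comp_eq_id i' i ψ.inv ψ.hom d₁' d₁ hd₁ ψ.hom_inv_id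
      s₂ hs₂ s₁ hs₁ hθ1 hψ1
    have hc1 : s₁ ≫ c = c' :=
      isLiftDiff_comp_diffCompat i i' ψ.hom d₁ d₁' hψ1 hd₁' s₁ hs₁ d₂ c hc c' hc'
    have hc2 : s₂ ≫ c' = c :=
      isLiftDiff_comp_diffCompat i' i ψ.inv d₁' d₁ hθ1 hd₁ s₂ hs₂ d₂ c' hc' c hc
    haveI := hS.mono_f
    haveI := hS'.mono_f
    haveI : Mono φ := hS.mono_f
    haveI : Mono φ' := hS'.mono_f
    have hk : (φ ≫ s₂) ≫ c' = 0 := by rw [Category.assoc, hc2, hw]
    have hk' : (φ' ≫ s₁) ≫ c = 0 := by rw [Category.assoc, hc1, hw']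
    let a : Omega.conormal i ⟶ Omega.conormal i' := hS'.exact.lift (φ ≫ s₂) hk
    let b : Omega.conormal i' ⟶ Omega.conormal i := hS.exact.lift (φ' ≫ s₁) hk'
    have ha : a ≫ φ' = φ ≫ s₂ := hS'.exact.lift_f _ hk
    have hb : b ≫ φ = φ' ≫ s₁ := hS.exact.lift_f _ hk'
    refine ⟨⟨a, b, ?_, ?_⟩, ?_⟩
    · rw [← cancel_mono φ, Category.assoc, hb, ← Category.assoc, ha, Category.assoc, h21,
        Category.comp_id, Category.id_comp]
    · rw [← cancel_mono φ', Category.assoc, ha, ← Category.assoc, hb, Category.assoc, h12,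
        Category.comp_id, Category.id_comp]
    · let Ψ : ShortComplex.mk φ c hw ⟶ ShortComplex.mk φ' c' hw' :=
        { τ₁ := a, τ₂ := s₂, τ₃ := 𝟙 Ω₂, comm₁₂ := ha, comm₂₃ := by
            change s₂ ≫ c' = c ≫ 𝟙 Ω₂
            rw [hc2, Category.comp_id] }
      exact (ShortComplex.ShortExact.extClass_naturality hS hS' Ψ).trans (Abelian.Ext.mk₀_id_comp _)
  · rintro ⟨α, hα⟩
    obtain ⟨β, hβ1, hβ2⟩ := exists_mid_of_extClass φ c hw hS φ' c' hw' hS' α.hom hα
    let Ψ : ShortComplex.mk φ c hw ⟶ ShortComplex.mk φ' c' hw' :=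
      { τ₁ := α.hom, τ₂ := β, τ₃ := 𝟙 Ω₂, comm₁₂ := hβ1.symm, comm₂₃ := by
          change β ≫ c' = c ≫ 𝟙 Ω₂
          rw [hβ2, Category.comp_id] }
    haveI : IsIso β := ShortComplex.isIso₂_of_shortExact_of_isIso₁₃' Ψ hS hS'
      (inferInstanceAs (IsIso α.hom)) (inferInstanceAs (IsIso (𝟙 Ω₂)))
    have hγ : inv β ≫ c = c' := by rw [IsIso.inv_comp_eq, hβ2]
    let L : Ctx2 i i' pC pC' :=
      { hci := hR.1.1, hsq := hR.1.2.1, hci' := hR'.1.1, hsq' := hR'.1.2.1,
        hp := hp'.trans hp.symm, Ω₁ := Ω₁, d₁ := d₁, Ω₁' := Ω₁', d₁' := d₁', pD := pD, Ω₂ := Ω₂,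
        d₂ := d₂, φ := φ, hφ := hφ, c := c, hc := hc, hw := hw, hS := hS, φ' := φ', hφ' := hφ',
        c' := c', hc' := hc', hw' := hw', hS' := hS', β := β, γ := inv β, hβ := hβ2, hγ := hγ,
        hβγ := IsIso.hom_inv_id β }
    let L' : Ctx2 i' i pC' pC :=
      { hci := hR'.1.1, hsq := hR'.1.2.1, hci' := hR.1.1, hsq' := hR.1.2.1,
        hp := hp.trans hp'.symm, Ω₁ := Ω₁', d₁ := d₁', Ω₁' := Ω₁, d₁' := d₁, pD := pD, Ω₂ := Ω₂,
        d₂ := d₂, φ := φ', hφ := hφ', c := c', hc := hc', hw := hw', hS := hS', φ' := φ, hφ' := hφ,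
        c' := c, hc' := hc, hw' := hw, hS' := hS, β := inv β, γ := β, hβ := hγ, hγ := hβ2,
        hβγ := IsIso.inv_hom_id β }
    exact ⟨⟨glued L.K₁, glued L.K₂, glued_comp_glued L, glued_comp_glued L'⟩, i_glued L.K₁,
      glued_comp L.K₁⟩

end Groth.Agent.S18348
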