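import Groth.Statements.S1835
import Mathlib

set_option autoImplicit false
universe u
open CycAlg

namespace Groth.Agent.S1835

/-- Let R be a Noetherian local ring of dimension 1, a a nonzerodivisor in the maximal ideal and b a
nonzerodivisor. There is an integer n such that whenever b = a^m c in some finite extension ring R ⊆
R', one has m ≤ n. -/
theorem result (R : Type u) [CommRing R] [IsNoetherianRing R] [IsLocalRing R] (hR : ringKrullDim R = 1) (a b : R) (ha : a ∈ nonZeroDivisors R) (ham : a ∈ IsLocalRing.maximalIdeal R) (hb : b ∈ nonZeroDivisors R) : ∃ n : ℕ, ∀ (R' : Type u) [CommRing R'] [Algebra R R'], Function.Injective (algebraMap R R') → Module.Finite R R' → ∀ (m : ℕ) (c : R'), algebraMap R R' b = algebraMap R R' a ^ m * c → m ≤ n := by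
  classical
  -- a^N ∈ (b)
  obtain ⟨N, d, hN⟩ : ∃ N : ℕ, ∃ d : R, a ^ N = b * d := by
    by_cases hbu : IsUnit b
    · obtain ⟨u, rfl⟩ := hbu
      exact ⟨0, ↑u⁻¹, by simp⟩
    have hdim : ringKrullDim (R ⧸ Ideal.span {b}) + 1 ≤ 1 := by
      have := ringKrullDim_quotient_succ_le_of_nonZeroDivisor hb
      rwa [hR] at this
    have hne : Ideal.span {b} ≠ ⊤ := by
      rw [Ne, Ideal.span_singleton_eq_top]; exact hbu
    haveI : Nontrivial (R ⧸ Ideal.span {b}) := Ideal.Quotient.nontrivial_iff.mpr hne
    haveI : IsLocalRing (R ⧸ Ideal.span {b}) :=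
      IsLocalRing.of_surjective' (Ideal.Quotient.mk _) Ideal.Quotient.mk_surjective
    have h0 : ringKrullDim (R ⧸ Ideal.span {b}) ≤ 0 := by
      have h1 : (0 : WithBot ℕ∞) ≤ ringKrullDim (R ⧸ Ideal.span {b}) := ringKrullDim_nonneg_of_nontrivial
      generalize ringKrullDim (R ⧸ Ideal.span {b}) = x at hdim h1
      induction x using WithBot.recBotCoe with
      | bot => simp
      | coe x =>
        have : ((x + 1 : ℕ∞) : WithBot ℕ∞) ≤ ((1 : ℕ∞) : WithBot ℕ∞) := by exact_mod_cast hdim
        rw [WithBot.coe_le_coe] at this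
        have hx : x = 0 := by
          by_contra hx
          have : 1 ≤ x := Order.one_le_iff_pos.mpr (pos_iff_ne_zero.mpr hx)
          have h2 : (1 : ℕ∞) + 1 ≤ 1 := le_trans (add_le_add_left this 1) ‹_›
          exact absurd h2 (by decide)
        rw [hx]; rfl
    haveI : Ring.KrullDimLE 0 (R ⧸ Ideal.span {b}) := Ring.krullDimLE_iff.mpr (by exact_mod_cast h0)
    have hmem : Ideal.Quotient.mk (Ideal.span {b}) a ∈ IsLocalRing.maximalIdeal (R ⧸ Ideal.span {b}) := by
      rw [IsLocalRing.mem_maximalIdeal, mem_nonunits_iff]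
      intro hu
      have : IsUnit a := by
        have hloc : IsLocalHom (Ideal.Quotient.mk (Ideal.span {b})) :=
          IsLocalHom.of_surjective _ Ideal.Quotient.mk_surjective
        exact hloc.map_nonunit a hu
      exact ham this
    obtain ⟨N, hN⟩ := (Ring.KrullDimLE.isNilpotent_iff_mem_maximalIdeal).mpr hmem
    rw [← map_pow, Ideal.Quotient.eq_zero_iff_mem, Ideal.mem_span_singleton'] at hN
    obtain ⟨d, hd⟩ := hN
    exact ⟨N, d, by rw [← hd, mul_comm]⟩
  refine ⟨N, ?_⟩
  intro R' _ _ hinj hfin m c hbc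
  by_contra hlt
  push Not at hlt
  -- a^N = a^m c d in R'
  have h1 : algebraMap R R' a ^ N * (1 - algebraMap R R' a ^ (m - N) * c * algebraMap R R' d) = 0 := by
    have : algebraMap R R' a ^ N = algebraMap R R' a ^ m * c * algebraMap R R' d := by
      rw [← hbc, ← map_pow, hN, map_mul]
    have hm : algebraMap R R' a ^ m = algebraMap R R' a ^ N * algebraMap R R' a ^ (m - N) := by
      rw [← pow_add]; congr 1; omega
    rw [mul_sub, mul_one, sub_eq_zero]
    conv_lhs => rw [this, hm]
    ring
  -- algebraMap a ∈ jacobson radical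
  have hjac : algebraMap R R' a ∈ Ideal.jacobson (⊥ : Ideal R') := by
    rw [Ideal.jacobson, Ideal.mem_sInf]
    rintro M ⟨-, hM⟩
    haveI : Algebra.IsIntegral R R' := Algebra.IsIntegral.of_finite R R'
    haveI := hM
    have hmax : (M.comap (algebraMap R R')).IsMaximal :=
      Ideal.isMaximal_comap_of_isIntegral_of_isMaximal M
    have : M.comap (algebraMap R R') = IsLocalRing.maximalIdeal R :=
      IsLocalRing.eq_maximalIdeal hmax
    have h2 : a ∈ M.comap (algebraMap R R') := by rw [this]; exact ham
    exact h2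
  have hunit : IsUnit (1 - algebraMap R R' a ^ (m - N) * c * algebraMap R R' d) := by
    have hmem : algebraMap R R' a ^ (m - N) * c * algebraMap R R' d ∈ Ideal.jacobson (⊥ : Ideal R') := by
      have : m - N = (m - N - 1) + 1 := by omega
      rw [this, pow_succ]
      have := Ideal.mul_mem_left _ (algebraMap R R' a ^ (m - N - 1)) hjac
      exact Ideal.mul_mem_right _ _ (Ideal.mul_mem_right _ _ this)
    have := (Ideal.mem_jacobson_bot.mp hmem) (-1)
    convert this using 1
    ring
  have h0 : algebraMap R R' a ^ N = 0 := by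
    rcases hunit with ⟨u, hu⟩
    rw [← hu] at h1
    exact (Units.mul_left_eq_zero u).mp h1
  rw [← map_pow, map_eq_zero_iff _ hinj] at h0
  have : a ^ N ∈ nonZeroDivisors R := pow_mem ha N
  exact nonZeroDivisors.ne_zero this h0

end Groth.Agent.S1835
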