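import Groth.Statements.S18351
import Mathlib
import Groth.Agent.Helper19.ConMapEx
-- import your own Groth.Agent.* helpers here

set_option autoImplicit false
universe w u
open CategoryTheory CategoryTheory.Limits AlgebraicGeometry
open MultCurve

namespace Groth.Agent.S18351

section helpers

open Groth.Agent.Lib.Helper29.QCoh Groth.Agent.Helper19.OmegaD Groth.Agent.Helper19.Conormal
open Groth.Agent.Helper19.ConMapEx

variable {D C C' B : Scheme.{u}} (i : D ⟶ C) (g : C ⟶ C') [QuasiCompact i]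
  (pC : C ⟶ B) (pC' : C' ⟶ B) (hgk : g ≫ pC' = pC)
  {Ω₁ : C.Modules} (d₁ : OmegaSh.Der pC Ω₁)
  {Ω₁' : C'.Modules} (d₁' : OmegaSh.Der pC' Ω₁')
  (φ : Omega.conormal i ⟶ (Scheme.Modules.pullback i).obj Ω₁) (hφ : OmegaSh.IsConormalDiff i d₁ φ)
  (φ' : Omega.conormal (i ≫ g) ⟶ (Scheme.Modules.pullback (i ≫ g)).obj Ω₁')
  (hφ' : OmegaSh.IsConormalDiff (i ≫ g) d₁' φ')
  (cg : (Scheme.Modules.pullback g).obj Ω₁' ⟶ Ω₁) (hcg : OmegaSh.IsDiffCompat g d₁' d₁ cg)
  (α : (Scheme.Modules.pullback (𝟙 D)).obj (Omega.conormal (i ≫ g)) ⟶ Omega.conormal i)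
  (hα : OmegaSh.IsConormalMap i (i ≫ g) g (𝟙 D) α)

include hφ hφ' hcg hα in
theorem comm₁₂ :
    ((Scheme.Modules.pullbackId D).inv.app (Omega.conormal (i ≫ g)) ≫ α) ≫ φ =
      φ' ≫ ((Scheme.Modules.pullbackComp i g).inv.app Ω₁' ≫ (Scheme.Modules.pullback i).map cg) := by
  have hsq : 𝟙 D ≫ (i ≫ g) = i ≫ g := Category.id_comp _
  obtain ⟨β, hβ⟩ := exists_idealPush i (i ≫ g) g (𝟙 D) hsq
  let adj := Scheme.Modules.pullbackPushforwardAdjunction (i ≫ g)
  apply (adj.homEquiv _ _).injective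
  apply Scheme.Modules.hom_ext
  intro U'
  ext s'
  have e1 := Groth.Agent.S9370.homEquiv_app (i ≫ g)
    (((Scheme.Modules.pullbackId D).inv.app (Omega.conormal (i ≫ g)) ≫ α) ≫ φ) U' s'
  have e2 := Groth.Agent.S9370.homEquiv_app (i ≫ g)
    (φ' ≫ ((Scheme.Modules.pullbackComp i g).inv.app Ω₁' ≫ (Scheme.Modules.pullback i).map cg)) U' s'
  refine e1.trans (Eq.trans ?_ e2.symm)
  -- right side
  have hR : (φ' ≫ ((Scheme.Modules.pullbackComp i g).inv.app Ω₁' ≫
      (Scheme.Modules.pullback i).map cg)).app ((i ≫ g) ⁻¹ᵁ U')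
        (OmegaSh.pullSect (i ≫ g) (ClSub.idealMod (i ≫ g).ker) U' s') =
      pullSect i Ω₁ (g ⁻¹ᵁ U') (d₁.app (g ⁻¹ᵁ U')
        (g.app U' (OmegaSh.idealSect (i ≫ g).ker U' s'))) := by
    rw [app_comp, app_comp]
    have h1 := hφ' U' s'
    have h1' : φ'.app ((i ≫ g) ⁻¹ᵁ U')
        (OmegaSh.pullSect (i ≫ g) (ClSub.idealMod (i ≫ g).ker) U' s') =
        pullSect (i ≫ g) Ω₁' U' (d₁'.app U' (OmegaSh.idealSect (i ≫ g).ker U' s')) := h1
    rw [h1', pullbackComp_inv_pullSect]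
    refine (pullSect_naturality i cg (g ⁻¹ᵁ U') _).trans ?_
    congr 1
    exact hcg U' _
  -- left side
  have hT : (𝟙 D) ⁻¹ᵁ ((i ≫ g) ⁻¹ᵁ U') ≤ i ⁻¹ᵁ (g ⁻¹ᵁ U') := le_rfl
  have hL : ((((Scheme.Modules.pullbackId D).inv.app (Omega.conormal (i ≫ g)) ≫ α) ≫ φ)).app
        ((i ≫ g) ⁻¹ᵁ U') (OmegaSh.pullSect (i ≫ g) (ClSub.idealMod (i ≫ g).ker) U' s') =
      pullSect i Ω₁ (g ⁻¹ᵁ U') (d₁.app (g ⁻¹ᵁ U')
        (g.app U' (OmegaSh.idealSect (i ≫ g).ker U' s'))) := by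
    rw [app_comp, app_comp]
    have h2 : ((Scheme.Modules.pullbackId D).inv.app (Omega.conormal (i ≫ g))).app
        ((i ≫ g) ⁻¹ᵁ U') (OmegaSh.pullSect (i ≫ g) (ClSub.idealMod (i ≫ g).ker) U' s') =
        pullSect (𝟙 D) (Omega.conormal (i ≫ g)) ((i ≫ g) ⁻¹ᵁ U')
          (OmegaSh.conormalSect (i ≫ g) U' s') :=
      pullbackId_inv_app_app _ _ _
    rw [h2]
    have h3 := conormalMap_apply i (i ≫ g) g (𝟙 D) hsq α hα U' s' (β.app U' s') (hβ U' s') hT
    have h3' : α.app ((i ≫ g) ⁻¹ᵁ U')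
        (pullSect (𝟙 D) (Omega.conormal (i ≫ g)) ((i ≫ g) ⁻¹ᵁ U')
          (OmegaSh.conormalSect (i ≫ g) U' s')) =
        OmegaSh.conormalSect i (g ⁻¹ᵁ U') (β.app U' s') := by
      refine h3.trans ?_
      exact res_self _ _
    rw [h3']
    have h4 := hφ (g ⁻¹ᵁ U') (β.app U' s')
    refine h4.trans ?_
    rw [hβ U' s']
    rfl
  exact hL.trans hR.symm

end helpers

/-- Let k be a field and D a reduced connected scheme locally of finite type over k with a universal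
k-derivation d₂ : O_D → Ω₂. Let C and C′ be ribbons on D over k (k-schemes locally of finite type
with closed immersions i, i′ of D over k making them ribbons), each with its restricted cotangent
sequence presented by a universal k-derivation (d₁, resp. d₁′), the map from the conormal bundle (𝓛,
resp. 𝓛′) induced by it and the map to Ω₂ compatible with d₂, assumed short exact, with classes e_C
∈ Ext¹(Ω₂, 𝓛) and e_{C′} ∈ Ext¹(Ω₂, 𝓛′). Let g : C ⟶ C′ be a morphism over D and over k, and let α :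
𝓛′ → 𝓛 be the map of conormal bundles induced by g (pulled back along the identity of D). Then
e_{C′} composed with α equals e_C: together with the restriction to D of the differential of g, α is
a morphism from the restricted cotangent sequence of C′ to that of C. (This is the form in which the
blow-up morphism X ⟶ C of a ribbon C along an effective Cartier divisor of D relates the two
classes; that such a blow-up X is again a ribbon on D, with conormal bundle 𝓛(δ), is a separate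
statement, and the identification of α with multiplication by the section of δ is not asserted here.
Valid for every morphism of ribbons over D.) -/
theorem result (k : Type u) [Field k] (D : Scheme.{u})
    (pD : D ⟶ Spec (CommRingCat.of k)) [LocallyOfFiniteType pD] [ConnectedSpace D]
    (Ω₂ : D.Modules) (d₂ : OmegaSh.Der pD Ω₂) (hd₂ : OmegaSh.IsUniversal d₂) [HasExt.{w} D.Modules]
    (C : Scheme.{u}) (i : D ⟶ C) (pC : C ⟶ Spec (CommRingCat.of k)) [LocallyOfFiniteType pC]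
    (hp : i ≫ pC = pD) (hR : MultCurve.IsRibbon i)
    (Ω₁ : C.Modules) (d₁ : OmegaSh.Der pC Ω₁) (hd₁ : OmegaSh.IsUniversal d₁)
    (φ : Omega.conormal i ⟶ (Scheme.Modules.pullback i).obj Ω₁) (hφ : OmegaSh.IsConormalDiff i d₁ φ)
    (c : (Scheme.Modules.pullback i).obj Ω₁ ⟶ Ω₂) (hc : OmegaSh.IsDiffCompat i d₁ d₂ c)
    (hw : φ ≫ c = 0) (hS : (ShortComplex.mk φ c hw).ShortExact)
    (C' : Scheme.{u}) (i' : D ⟶ C') (pC' : C' ⟶ Spec (CommRingCat.of k)) [LocallyOfFiniteType pC']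
    (hp' : i' ≫ pC' = pD) (hR' : MultCurve.IsRibbon i')
    (Ω₁' : C'.Modules) (d₁' : OmegaSh.Der pC' Ω₁') (hd₁' : OmegaSh.IsUniversal d₁')
    (φ' : Omega.conormal i' ⟶ (Scheme.Modules.pullback i').obj Ω₁') (hφ' : OmegaSh.IsConormalDiff i' d₁' φ')
    (c' : (Scheme.Modules.pullback i').obj Ω₁' ⟶ Ω₂) (hc' : OmegaSh.IsDiffCompat i' d₁' d₂ c')
    (hw' : φ' ≫ c' = 0) (hS' : (ShortComplex.mk φ' c' hw').ShortExact)
    (g : C ⟶ C') (hgi : i ≫ g = i') (hgk : g ≫ pC' = pC)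
    (α : (Scheme.Modules.pullback (𝟙 D)).obj (Omega.conormal i') ⟶ Omega.conormal i)
    (hα : OmegaSh.IsConormalMap i i' g (𝟙 D) α) :
    hS'.extClass.comp (Abelian.Ext.mk₀ ((Scheme.Modules.pullbackId D).inv.app (Omega.conormal i') ≫ α)) (add_zero 1) =
      hS.extClass := by
  subst hgi
  haveI : IsClosedImmersion i := hR.1.1
  -- the differential of `g`
  obtain ⟨cg, hcg, -⟩ := Groth.Agent.S9370.result pC' pC g (𝟙 _)
    (by rw [Category.comp_id, hgk]) Ω₁' d₁' hd₁' Ω₁ d₁ hd₁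
  let β : (Scheme.Modules.pullback (i ≫ g)).obj Ω₁' ⟶ (Scheme.Modules.pullback i).obj Ω₁ :=
    (Scheme.Modules.pullbackComp i g).inv.app Ω₁' ≫ (Scheme.Modules.pullback i).map cg
  have hβc : OmegaSh.IsDiffCompat (i ≫ g) d₁' d₂ (β ≫ c) := by
    have := Groth.Agent.Helper19.Conormal.isDiffCompat_comp i g d₁' d₁ d₂ cg hcg c hc
    simpa [β, Category.assoc] using this
  obtain ⟨c₀, -, hc₀u⟩ := Groth.Agent.S9370.result pC' pD (i ≫ g) (𝟙 _)
    (by rw [Category.comp_id, hp']) Ω₁' d₁' hd₁' Ω₂ d₂ hd₂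
  have h23 : β ≫ c = c' := (hc₀u _ hβc).trans (hc₀u _ hc').symm
  have h12 := comm₁₂ i g pC pC' d₁ d₁' φ hφ φ' hφ' cg hcg α hα
  let F : ShortComplex.mk φ' c' hw' ⟶ ShortComplex.mk φ c hw :=
    { τ₁ := (Scheme.Modules.pullbackId D).inv.app (Omega.conormal (i ≫ g)) ≫ α
      τ₂ := β
      τ₃ := 𝟙 _
      comm₁₂ := h12
      comm₂₃ := by
        change β ≫ c = c' ≫ 𝟙 _
        rw [Category.comp_id, h23] }
  have hnat := ShortComplex.ShortExact.extClass_naturality hS' hS F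
  rw [hnat]
  change (Abelian.Ext.mk₀ (𝟙 _)).comp hS.extClass (zero_add 1) = hS.extClass
  exact Abelian.Ext.mk₀_id_comp _

end Groth.Agent.S18351
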