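import Groth.Statements.S18364
import Mathlib

set_option autoImplicit false
universe u
open CAlg

namespace Groth.Agent.S18364
section Aux

lemma mem_kerloc {A M : Type*} [CommRing A] [AddCommGroup M] [Module A M] (p : Ideal A) [p.IsPrime]
    (W : Submodule A M) (m : M) :
    W.mkQ m ∈ LinearMap.ker (LocalizedModule.mkLinearMap p.primeCompl (M ⧸ W)) ↔
      ∃ s, s ∉ p ∧ s • m ∈ W := by
  rw [LinearMap.mem_ker, IsLocalizedModule.eq_zero_iff p.primeCompl]
  constructor
  · rintro ⟨c, hc⟩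
    refine ⟨c.1, c.2, ?_⟩
    rw [Submonoid.smul_def, ← map_smul, Submodule.mkQ_apply, Submodule.Quotient.mk_eq_zero] at hc
    exact hc
  · rintro ⟨s, hs, h⟩
    refine ⟨⟨s, hs⟩, ?_⟩
    rw [Submonoid.smul_def, ← map_smul, Submodule.mkQ_apply, Submodule.Quotient.mk_eq_zero]
    exact h

lemma mem_pi_top {A X : Type*} [CommRing A] [AddCommGroup X] [Module A X] (π : A) (x : X) :
    x ∈ Ideal.span {π} • (⊤ : Submodule A X) ↔ ∃ y, π • y = x := by
  rw [Submodule.ideal_span_singleton_smul, Submodule.mem_smul_pointwise_iff_exists]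
  simp

end Aux

theorem core
    (A : Type u) [CommRing A] [IsNoetherianRing A] (π : A)
    (ι : Type) [Finite ι] (𝔓 : ι → Ideal A) [∀ i, (𝔓 i).IsPrime]
    (h𝔓 : ∀ i, 𝔓 i ∈ (Ideal.span {π}).minimalPrimes) (h𝔓inj : Function.Injective 𝔓)
    (h𝔓surj : ∀ 𝔔 ∈ (Ideal.span {π}).minimalPrimes, ∃ i, 𝔓 i = 𝔔)
    (M : Type u) [AddCommGroup M] [Module A M]
    (W : Submodule A M) (memW : ∀ x : M, x ∈ W ↔ ∃ y, π • y = x)
    (hWsmul : ∀ (r : A) (m : M), r ∈ Ideal.span {π} → r • m ∈ W)
    (K : Set ι → Submodule A (M ⧸ W))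
    (hK : ∀ T : Set ι, K T = ⨅ i ∈ T, LinearMap.ker
      (LocalizedModule.mkLinearMap (𝔓 i).primeCompl (M ⧸ W)))
    (htf : K Set.univ = ⊥)
    (N : Set ι → Submodule A M)
    (hN : ∀ T : Set ι, N T = (K T).comap (Submodule.mkQ W))
    (Y : Set ι)
    (W' : Submodule A ↥(N Y)) (memW' : ∀ x : ↥(N Y), x ∈ W' ↔ ∃ y, π • y = x) :
    N Y ⊓ N Yᶜ = W ∧
    Submodule.map (N Y).subtype
      ((⨅ i ∈ Yᶜ, LinearMap.ker (LocalizedModule.mkLinearMap (𝔓 i).primeCompl
          (↥(N Y) ⧸ W'))).comap (Submodule.mkQ W'))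
      = N Y ⊓ N Yᶜ := by
  classical
  haveI : Fintype ι := Fintype.ofFinite ι
  have memN : ∀ (T : Set ι) (m : M), m ∈ N T ↔ ∀ i ∈ T, ∃ s, s ∉ 𝔓 i ∧ s • m ∈ W := by
    intro T m
    rw [hN, Submodule.mem_comap, hK]
    simp only [Submodule.mem_iInf]
    constructor
    · intro h i hi
      exact (mem_kerloc (𝔓 i) W m).1 (h i hi)
    · intro h i hi
      exact (mem_kerloc (𝔓 i) W m).2 (h i hi)
  have hone : ∀ i, (1 : A) ∉ 𝔓 i := fun i h =>
    (Ideal.IsPrime.ne_top (inferInstance : (𝔓 i).IsPrime)) ((Ideal.eq_top_iff_one _).2 h)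
  have hWN : ∀ T, W ≤ N T := by
    intro T m hm
    rw [memN]
    intro i _
    exact ⟨1, hone i, by rw [one_smul]; exact hm⟩
  have huniv : ∀ m, m ∈ N Set.univ → m ∈ W := by
    intro m hm
    rw [hN, Submodule.mem_comap, htf, Submodule.mem_bot, Submodule.mkQ_apply,
      Submodule.Quotient.mk_eq_zero] at hm
    exact hm
  have part1 : N Y ⊓ N Yᶜ = W := by
    apply le_antisymm
    · rintro m ⟨h1, h2⟩
      apply huniv
      rw [memN]
      intro i _
      by_cases hi : i ∈ Y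
      · exact (memN Y m).1 h1 i hi
      · exact (memN Yᶜ m).1 h2 i hi
    · exact le_inf (hWN _) (hWN _)
  refine ⟨part1, ?_⟩
  rw [part1]
  apply le_antisymm
  · rintro x hx
    rw [Submodule.mem_map] at hx
    obtain ⟨y, hy, rfl⟩ := hx
    rw [Submodule.mem_comap] at hy
    simp only [Submodule.mem_iInf] at hy
    rw [← part1]
    refine ⟨y.2, ?_⟩
    show (y : M) ∈ N Yᶜ
    rw [memN]
    intro i hi
    obtain ⟨s, hs, h⟩ := (mem_kerloc (𝔓 i) W' y).1 (hy i hi)
    refine ⟨s, hs, ?_⟩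
    rw [memW'] at h
    obtain ⟨z, hz⟩ := h
    rw [memW]
    exact ⟨z.1, by have := congrArg Subtype.val hz; simpa using this⟩
  · obtain ⟨n, hn⟩ := Ideal.exists_radical_pow_le_of_fg (Ideal.span {π})
      (IsNoetherian.noetherian _)
    have hrad : ∀ x : A, (∀ k, x ∈ 𝔓 k) → x ∈ (Ideal.span {π}).radical := by
      intro x hx
      rw [← Ideal.sInf_minimalPrimes, Ideal.mem_sInf]
      intro 𝔔 h𝔔
      obtain ⟨k, rfl⟩ := h𝔓surj 𝔔 h𝔔
      exact hx k
    have hex : ∀ i k, ∃ c, k ≠ i → (c ∈ 𝔓 k ∧ c ∉ 𝔓 i) := by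
      intro i k
      by_cases hki : k = i
      · exact ⟨0, fun h => absurd hki h⟩
      · have : ¬ (𝔓 k ≤ 𝔓 i) := by
          intro hle
          have h2 : 𝔓 i ≤ 𝔓 k := (h𝔓 i).2 ⟨inferInstance, (h𝔓 k).1.2⟩ hle
          exact hki (h𝔓inj (le_antisymm hle h2))
        rw [SetLike.not_le_iff_exists] at this
        obtain ⟨c, hc1, hc2⟩ := this
        exact ⟨c, fun _ => ⟨hc1, hc2⟩⟩
    choose c hc using hex
    have key : ∀ (i : ι) (m : M), i ∉ Y → ∃ s, s ∉ 𝔓 i ∧ s • m ∈ N Y := by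
      intro i m hi
      have ha_not : (∏ j ∈ Finset.univ.filter (· ∈ Y), c i j) ∉ 𝔓 i := by
        rw [Ideal.IsPrime.prod_mem_iff]
        rintro ⟨j, hj, hmem⟩
        have hjY : j ∈ Y := (Finset.mem_filter.1 hj).2
        have hji : j ≠ i := fun h => hi (h ▸ hjY)
        exact (hc i j hji).2 hmem
      refine ⟨(∏ j ∈ Finset.univ.filter (· ∈ Y), c i j) ^ n,
        fun h => ha_not (Ideal.IsPrime.mem_of_pow_mem inferInstance _ h), ?_⟩
      rw [memN]
      intro j hj
      have hji : j ≠ i := fun h => hi (h ▸ hj)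
      have hb_not : (∏ k ∈ Finset.univ.erase j, c j k) ∉ 𝔓 j := by
        rw [Ideal.IsPrime.prod_mem_iff]
        rintro ⟨k, hk, hmem⟩
        exact (hc j k (Finset.ne_of_mem_erase hk)).2 hmem
      refine ⟨(∏ k ∈ Finset.univ.erase j, c j k) ^ n,
        fun h => hb_not (Ideal.IsPrime.mem_of_pow_mem inferInstance _ h), ?_⟩
      have hab : (∏ k ∈ Finset.univ.erase j, c j k) * (∏ j ∈ Finset.univ.filter (· ∈ Y), c i j)
          ∈ (Ideal.span {π}).radical := by
        apply hrad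
        intro k
        by_cases hkj : k = j
        · rw [hkj]
          apply Ideal.mul_mem_left
          rw [Ideal.IsPrime.prod_mem_iff]
          exact ⟨j, Finset.mem_filter.2 ⟨Finset.mem_univ _, hj⟩, (hc i j hji).1⟩
        · apply Ideal.mul_mem_right
          rw [Ideal.IsPrime.prod_mem_iff]
          exact ⟨k, Finset.mem_erase.2 ⟨hkj, Finset.mem_univ _⟩, (hc j k hkj).1⟩
      have : (∏ k ∈ Finset.univ.erase j, c j k) ^ n *
          (∏ j ∈ Finset.univ.filter (· ∈ Y), c i j) ^ n ∈ Ideal.span {π} := by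
        rw [← mul_pow]
        exact hn (Ideal.pow_mem_pow hab n)
      rw [smul_smul]
      exact hWsmul _ _ this
    intro x hx
    rw [memW] at hx
    obtain ⟨m0, rfl⟩ := hx
    rw [Submodule.mem_map]
    have hmem : π • m0 ∈ N Y := hWN Y ((memW _).2 ⟨m0, rfl⟩)
    refine ⟨⟨π • m0, hmem⟩, ?_, rfl⟩
    rw [Submodule.mem_comap]
    simp only [Submodule.mem_iInf]
    intro i hi
    rw [mem_kerloc]
    obtain ⟨s, hs, h⟩ := key i m0 hi
    refine ⟨s, hs, ?_⟩
    rw [memW']
    refine ⟨⟨s • m0, h⟩, ?_⟩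
    apply Subtype.ext
    show π • (s • m0) = s • (π • m0)
    exact smul_comm _ _ _


/-- Let A be a Noetherian ring, π an element of A, and (𝔓_i)_{i ∈ ι} an injective finite family listing
exactly the minimal prime ideals over (π). Let M be a finitely generated A-module and M̄ = M/πM. For
a subset T of ι let K(T) ⊆ M̄ be the submodule of elements whose image in the localisation of M̄ at
𝔓_i is zero for every i ∈ T, and N(T) ⊆ M its preimage in M. Assume K(ι) = 0, i.e. no nonzero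
element of M̄ vanishes at all the minimal primes (every associated prime of M̄ is one of the 𝔓_i).
Then for every subset Y of ι with complement Z one has N(Y) ∩ N(Z) = πM, and the same construction
applied to the module N(Y) instead of M — the preimage in N(Y) of the elements of N(Y)/πN(Y)
vanishing at every 𝔓_i with i ∈ Z — is, as a submodule of M, equal to N(Y) ∩ N(Z). (Geometric
meaning: A is the local ring of a flat family of curves over a discrete valuation ring with
uniformizer π at a point of the reduced special fibre, M the stalk of a torsion-free rank-one sheaf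
I, Y a set of components of the special fibre through the point, and N(Y) the stalk of the kernel
I^Y of I → I(s)_Y; the statement is (I^Y)^Z = I^Y ∩ I^Z = πI. Reducedness of A/πA, flatness and rank
one are not used.) -/
theorem result
    (A : Type u) [CommRing A] [IsNoetherianRing A] (π : A)
    (ι : Type) [Finite ι] (𝔓 : ι → Ideal A) [∀ i, (𝔓 i).IsPrime]
    (h𝔓 : ∀ i, 𝔓 i ∈ (Ideal.span {π}).minimalPrimes) (h𝔓inj : Function.Injective 𝔓)
    (h𝔓surj : ∀ 𝔔 ∈ (Ideal.span {π}).minimalPrimes, ∃ i, 𝔓 i = 𝔔)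
    (M : Type u) [AddCommGroup M] [Module A M] [Module.Finite A M]
    (K : Set ι → Submodule A (M ⧸ Ideal.span {π} • (⊤ : Submodule A M)))
    (hK : ∀ T : Set ι, K T = ⨅ i ∈ T, LinearMap.ker
      (LocalizedModule.mkLinearMap (𝔓 i).primeCompl (M ⧸ Ideal.span {π} • (⊤ : Submodule A M))))
    (htf : K Set.univ = ⊥)
    (N : Set ι → Submodule A M)
    (hN : ∀ T : Set ι, N T = (K T).comap (Submodule.mkQ (Ideal.span {π} • (⊤ : Submodule A M))))
    (Y : Set ι) :
    N Y ⊓ N Yᶜ = Ideal.span {π} • (⊤ : Submodule A M) ∧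
    Submodule.map (N Y).subtype
      ((⨅ i ∈ Yᶜ, LinearMap.ker (LocalizedModule.mkLinearMap (𝔓 i).primeCompl
          (↥(N Y) ⧸ Ideal.span {π} • (⊤ : Submodule A ↥(N Y))))).comap
        (Submodule.mkQ (Ideal.span {π} • (⊤ : Submodule A ↥(N Y)))))
      = N Y ⊓ N Yᶜ := by
  exact core A π ι 𝔓 h𝔓 h𝔓inj h𝔓surj M _ (mem_pi_top π)
    (fun r m hr => Submodule.smul_mem_smul hr Submodule.mem_top) K hK htf N hN Y _ (mem_pi_top π)

end Groth.Agent.S18364
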