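import Groth.Statements.S18365
import Mathlib

set_option autoImplicit false
universe u
open CAlg

namespace Groth.Agent.S18365
section Aux

lemma mem_kerloc {A M : Type*} [CommRing A] [AddCommGroup M] [Module A M] (p : Ideal A) [p.IsPrime]
    (W : Submodule A M) (m : M) :
    W.mkQ m ∈ LinearMap.ker (LocalizedModule.mkLinearMap p.primeCompl (M ⧸ W)) ↔
      ∃ s, s ∉ p ∧ s • m ∈ W := by
  rw [LinearMap.mem_ker, IsLocalizedModule.eq_zero_iff p.primeCompl]
  constructor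
  · rintro ⟨c, hc⟩
    refine ⟨c.1, c.2, ?_⟩
    rw [Submonoid.smul_def, ← map_smul, Submodule.mkQ_apply, Submodule.Quotient.mk_eq_zero] at hc
    exact hc
  · rintro ⟨s, hs, h⟩
    refine ⟨⟨s, hs⟩, ?_⟩
    rw [Submonoid.smul_def, ← map_smul, Submodule.mkQ_apply, Submodule.Quotient.mk_eq_zero]
    exact h

lemma mem_pi_top {A X : Type*} [CommRing A] [AddCommGroup X] [Module A X] (π : A) (x : X) :
    x ∈ Ideal.span {π} • (⊤ : Submodule A X) ↔ ∃ y, π • y = x := by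
  rw [Submodule.ideal_span_singleton_smul, Submodule.mem_smul_pointwise_iff_exists]
  simp

end Aux

theorem core
    (A : Type u) [CommRing A] (π : A)
    (ι : Type) (𝔓 : ι → Ideal A) [∀ i, (𝔓 i).IsPrime]
    (M : Type u) [AddCommGroup M] [Module A M]
    (hπ : ∀ m : M, π • m = 0 → m = 0)
    (W : Submodule A M) (memW : ∀ x : M, x ∈ W ↔ ∃ y, π • y = x)
    (K : Set ι → Submodule A (M ⧸ W))
    (hK : ∀ T : Set ι, K T = ⨅ i ∈ T, LinearMap.ker
      (LocalizedModule.mkLinearMap (𝔓 i).primeCompl (M ⧸ W)))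
    (htf : K Set.univ = ⊥)
    (N : Set ι → Submodule A M)
    (hN : ∀ T : Set ι, N T = (K T).comap (Submodule.mkQ W))
    (Y Z : Set ι) (hY : K Y ⊔ K Yᶜ = ⊤)
    (W' : Submodule A ↥(N Y)) (memW' : ∀ x : ↥(N Y), x ∈ W' ↔ ∃ y, π • y = x)
    (K' : Set ι → Submodule A (↥(N Y) ⧸ W'))
    (hK' : ∀ T : Set ι, K' T = ⨅ i ∈ T, LinearMap.ker
      (LocalizedModule.mkLinearMap (𝔓 i).primeCompl (↥(N Y) ⧸ W')))
    (hZ : K' Z ⊔ K' Zᶜ = ⊤) :
    K Z ⊔ K Zᶜ = ⊤ := by
  classical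
  have memN : ∀ (T : Set ι) (m : M), m ∈ N T ↔ ∀ i ∈ T, ∃ s, s ∉ 𝔓 i ∧ s • m ∈ W := by
    intro T m
    rw [hN, Submodule.mem_comap, hK]
    simp only [Submodule.mem_iInf]
    constructor
    · intro h i hi
      exact (mem_kerloc (𝔓 i) W m).1 (h i hi)
    · intro h i hi
      exact (mem_kerloc (𝔓 i) W m).2 (h i hi)
  have hone : ∀ i, (1 : A) ∉ 𝔓 i := fun i h =>
    (Ideal.IsPrime.ne_top (inferInstance : (𝔓 i).IsPrime)) ((Ideal.eq_top_iff_one _).2 h)
  have hWN : ∀ T, W ≤ N T := by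
    intro T m hm
    rw [memN]
    intro i _
    exact ⟨1, hone i, by rw [one_smul]; exact hm⟩
  have huniv : ∀ m, m ∈ N Set.univ → m ∈ W := by
    intro m hm
    rw [hN, Submodule.mem_comap, htf, Submodule.mem_bot, Submodule.mkQ_apply,
      Submodule.Quotient.mk_eq_zero] at hm
    exact hm
  have hinter : ∀ (T : Set ι) (m : M), m ∈ N T → m ∈ N Tᶜ → m ∈ W := by
    intro T m h1 h2
    apply huniv
    rw [memN]
    intro i _
    by_cases hi : i ∈ T
    · exact (memN T m).1 h1 i hi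
    · exact (memN Tᶜ m).1 h2 i hi
  have memK : ∀ (T : Set ι) (m : M), W.mkQ m ∈ K T ↔ m ∈ N T := by
    intro T m
    rw [hN, Submodule.mem_comap]
  have decY : ∀ m : M, ∃ p ∈ N Y, ∃ q ∈ N Yᶜ, p + q = m := by
    intro m
    have : W.mkQ m ∈ K Y ⊔ K Yᶜ := by rw [hY]; trivial
    rw [Submodule.mem_sup] at this
    obtain ⟨k1, hk1, k2, hk2, hsum⟩ := this
    obtain ⟨m1, rfl⟩ := Submodule.mkQ_surjective W k1
    refine ⟨m1, (memK Y m1).1 hk1, m - m1, ?_, by abel⟩
    rw [← memK, map_sub, ← hsum, add_sub_cancel_left]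
    exact hk2
  have memK' : ∀ (T : Set ι) (y : ↥(N Y)), W'.mkQ y ∈ K' T ↔
      ∀ i ∈ T, ∃ s, s ∉ 𝔓 i ∧ ∃ z ∈ N Y, π • z = s • (y : M) := by
    intro T y
    rw [hK']
    simp only [Submodule.mem_iInf]
    constructor
    · intro h i hi
      obtain ⟨s, hs, h1⟩ := (mem_kerloc (𝔓 i) W' y).1 (h i hi)
      rw [memW'] at h1
      obtain ⟨z, hz⟩ := h1
      exact ⟨s, hs, z.1, z.2, by have := congrArg Subtype.val hz; simpa using this⟩
    · intro h i hi
      obtain ⟨s, hs, z, hz, hzs⟩ := h i hi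
      refine (mem_kerloc (𝔓 i) W' y).2 ⟨s, hs, ?_⟩
      rw [memW']
      exact ⟨⟨z, hz⟩, Subtype.ext (by simpa using hzs)⟩
  have decZ : ∀ y : ↥(N Y), ∃ a b : ↥(N Y), W'.mkQ a ∈ K' Z ∧ W'.mkQ b ∈ K' Zᶜ ∧ a + b = y := by
    intro y
    have : W'.mkQ y ∈ K' Z ⊔ K' Zᶜ := by rw [hZ]; trivial
    rw [Submodule.mem_sup] at this
    obtain ⟨k1, hk1, k2, hk2, hsum⟩ := this
    obtain ⟨a, rfl⟩ := Submodule.mkQ_surjective W' k1
    refine ⟨a, y - a, hk1, ?_, by abel⟩
    rw [map_sub, ← hsum, add_sub_cancel_left]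
    exact hk2
  have stepA : ∀ (T : Set ι) (y : ↥(N Y)), W'.mkQ y ∈ K' T → (y : M) ∈ N T := by
    intro T y hy
    rw [memN]
    intro i hi
    obtain ⟨s, hs, z, _, hzs⟩ := (memK' T y).1 hy i hi
    refine ⟨s, hs, ?_⟩
    rw [← hzs, memW]
    exact ⟨z, rfl⟩
  have stepB : ∀ p ∈ N Y, ∃ a ∈ N Z, ∃ b ∈ N Zᶜ, a + b = p := by
    intro p hp
    obtain ⟨a, b, ha, hb, hab⟩ := decZ ⟨p, hp⟩
    exact ⟨a.1, stepA Z a ha, b.1, stepA Zᶜ b hb,
      by have := congrArg Subtype.val hab; simpa using this⟩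
  have stepD : ∀ (T : Set ι) (a : ↥(N Y)) (a' : M), W'.mkQ a ∈ K' T → (a : M) = π • a' →
      ∃ a2 ∈ N T, a' - a2 ∈ N Y := by
    intro T a a' ha haa'
    have h1 : ∀ i ∈ T, i ∈ Y → ∃ s, s ∉ 𝔓 i ∧ s • a' ∈ W := by
      intro i hiT hiY
      obtain ⟨s, hs, z, hz, hzs⟩ := (memK' T a).1 ha i hiT
      have hz' : z = s • a' := by
        have : π • (z - s • a') = 0 := by
          rw [smul_sub, hzs, haa', smul_comm, sub_self]
        exact sub_eq_zero.1 (hπ _ this)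
      rw [hz'] at hz
      obtain ⟨t, ht, hts⟩ := (memN Y _).1 hz i hiY
      refine ⟨t * s, ?_, by rw [mul_smul]; exact hts⟩
      intro hmem
      rcases Ideal.IsPrime.mem_or_mem inferInstance hmem with h | h
      · exact ht h
      · exact hs h
    obtain ⟨a1, ha1, a2, ha2, hsum⟩ := decY a'
    refine ⟨a2, ?_, ?_⟩
    · rw [memN]
      intro i hiT
      by_cases hiY : i ∈ Y
      · obtain ⟨s, hs, hsa⟩ := h1 i hiT hiY
        obtain ⟨t, ht, hta⟩ := (memN Y a1).1 ha1 i hiY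
        refine ⟨s * t, ?_, ?_⟩
        · intro hmem
          rcases Ideal.IsPrime.mem_or_mem inferInstance hmem with h | h
          · exact hs h
          · exact ht h
        · have : a2 = a' - a1 := by rw [← hsum]; abel
          rw [this, smul_sub]
          apply W.sub_mem
          · rw [mul_comm, mul_smul]; exact W.smul_mem t hsa
          · rw [mul_smul]; exact W.smul_mem s hta
      · exact (memN Yᶜ a2).1 ha2 i hiY
    · have : a' - a2 = a1 := by rw [← hsum]; abel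
      rw [this]; exact ha1
  have stepC : ∀ q ∈ N Yᶜ, ∃ a ∈ N Z, ∃ b ∈ N Zᶜ, a + b = q := by
    intro q hq
    have hπq : π • q ∈ W := by rw [memW]; exact ⟨q, rfl⟩
    obtain ⟨a, b, ha, hb, hab⟩ := decZ ⟨π • q, hWN Y hπq⟩
    have hab' : (a : M) + (b : M) = π • q := by
      have := congrArg Subtype.val hab; simpa using this
    have haZ := stepA Z a ha
    have hbZ := stepA Zᶜ b hb
    have haZc : (a : M) ∈ N Zᶜ := by
      have : (a : M) = π • q - b := by rw [← hab']; abel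
      rw [this]
      exact (N Zᶜ).sub_mem (hWN _ hπq) hbZ
    have haW : (a : M) ∈ W := hinter Z _ haZ haZc
    rw [memW] at haW
    obtain ⟨a', ha'⟩ := haW
    have hb' : (b : M) = π • (q - a') := by
      rw [smul_sub, ha', ← hab']; abel
    obtain ⟨a2, ha2, ha2Y⟩ := stepD Z a a' ha ha'.symm
    obtain ⟨b2, hb2, hb2Y⟩ := stepD Zᶜ b (q - a') hb hb'
    obtain ⟨α, hα, β, hβ, hαβ⟩ := stepB _ ((N Y).add_mem ha2Y hb2Y)
    refine ⟨α + a2, (N Z).add_mem hα ha2, β + b2, (N Zᶜ).add_mem hβ hb2, ?_⟩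
    have : α + a2 + (β + b2) = (α + β) + a2 + b2 := by abel
    rw [this, hαβ]; abel
  rw [eq_top_iff]
  intro x _
  obtain ⟨m, rfl⟩ := Submodule.mkQ_surjective W x
  obtain ⟨p, hp, q, hq, rfl⟩ := decY m
  obtain ⟨a, ha, b, hb, rfl⟩ := stepB p hp
  obtain ⟨a', ha', b', hb', rfl⟩ := stepC q hq
  rw [Submodule.mem_sup]
  refine ⟨W.mkQ (a + a'), (memK Z _).2 ((N Z).add_mem ha ha'), W.mkQ (b + b'),
    (memK Zᶜ _).2 ((N Zᶜ).add_mem hb hb'), ?_⟩
  rw [← map_add]
  congr 1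
  abel



/-- Let A be a Noetherian ring, π an element of A, (𝔓_i)_{i ∈ ι} an injective finite family listing
exactly the minimal prime ideals over (π), and M a finitely generated A-module on which π acts
injectively; put M̄ = M/πM. For T ⊆ ι let K(T) ⊆ M̄ be the submodule of elements whose image in the
localisation of M̄ at 𝔓_i vanishes for every i ∈ T, and N(T) ⊆ M its preimage; assume K(ι) = 0.
Suppose that M̄ decomposes at Y, i.e. K(Y) + K(Yᶜ) = M̄, and that for a subset Z the module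
N(Y)/πN(Y) decomposes at Z, i.e. its submodule of elements vanishing at every 𝔓_i (i ∈ Z) and its
submodule of elements vanishing at every 𝔓_i (i ∉ Z) together span it. Then M̄ decomposes at Z: K(Z)
+ K(Zᶜ) = M̄. (Geometric meaning: for a flat family of curves over a discrete valuation ring with
uniformizer π, I a torsion-free rank-one sheaf flat over the base, Y a subcurve of the special fibre
X(s) at which I(s) decomposes and I^Y = ker(I → I(s)_Y): if I^Y(s) decomposes at a subcurve Z then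
so does I(s); decomposition of a sheaf at Z is the surjectivity of I(s) → I(s)_Z ⊕ I(s)_{Z^c},
checked on stalks. Reducedness of the special fibre and rank one are not used.) -/
theorem result
    (A : Type u) [CommRing A] [IsNoetherianRing A] (π : A)
    (ι : Type) [Finite ι] (𝔓 : ι → Ideal A) [∀ i, (𝔓 i).IsPrime]
    (h𝔓 : ∀ i, 𝔓 i ∈ (Ideal.span {π}).minimalPrimes) (h𝔓inj : Function.Injective 𝔓)
    (h𝔓surj : ∀ 𝔔 ∈ (Ideal.span {π}).minimalPrimes, ∃ i, 𝔓 i = 𝔔)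
    (M : Type u) [AddCommGroup M] [Module A M] [Module.Finite A M]
    (hπ : ∀ m : M, π • m = 0 → m = 0)
    (K : Set ι → Submodule A (M ⧸ Ideal.span {π} • (⊤ : Submodule A M)))
    (hK : ∀ T : Set ι, K T = ⨅ i ∈ T, LinearMap.ker
      (LocalizedModule.mkLinearMap (𝔓 i).primeCompl (M ⧸ Ideal.span {π} • (⊤ : Submodule A M))))
    (htf : K Set.univ = ⊥)
    (N : Set ι → Submodule A M)
    (hN : ∀ T : Set ι, N T = (K T).comap (Submodule.mkQ (Ideal.span {π} • (⊤ : Submodule A M))))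
    (Y Z : Set ι) (hY : K Y ⊔ K Yᶜ = ⊤)
    (K' : Set ι → Submodule A (↥(N Y) ⧸ Ideal.span {π} • (⊤ : Submodule A ↥(N Y))))
    (hK' : ∀ T : Set ι, K' T = ⨅ i ∈ T, LinearMap.ker
      (LocalizedModule.mkLinearMap (𝔓 i).primeCompl (↥(N Y) ⧸ Ideal.span {π} • (⊤ : Submodule A ↥(N Y)))))
    (hZ : K' Z ⊔ K' Zᶜ = ⊤) :
    K Z ⊔ K Zᶜ = ⊤ := by
  exact core A π ι 𝔓 M hπ _ (mem_pi_top π) K hK htf N hN Y Z hY _ (mem_pi_top π) K' hK' hZ

end Groth.Agent.S18365
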