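import Groth.Statements.S18366
-- import your own Groth.Agent.* helpers here
import Groth.Agent.Lib.Helper12.GRDense3
import Groth.Agent.Lib27.SmoothSch

set_option autoImplicit false
universe u
open CategoryTheory CategoryTheory.Limits AlgebraicGeometry
open Variety

namespace Groth.Agent.S18366

/-- Let k be a separably closed field and X a non-empty k-scheme of finite type which is geometrically
reduced. Then X has a k-rational point, i.e. the structure morphism admits a section. (Non-emptiness
is part of the hypotheses: the empty scheme is geometrically reduced of finite type and has no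
point. The published statement does not assume X non-empty; this row does, since the empty scheme
has no rational point.) -/
theorem result (k : Type u) [Field k] [IsSepClosed k]
    {X : Scheme.{u}} (f : X ⟶ Spec (CommRingCat.of k)) [LocallyOfFiniteType f] [QuasiCompact f] [GeometricallyReduced f]
    [Nonempty X] :
    ∃ s : Spec (CommRingCat.of k) ⟶ X, s ≫ f = 𝟙 (Spec (CommRingCat.of k)) := by
  obtain ⟨U, hUd, hUs⟩ := Groth.Agent.Lib.Helper12.H12GRDense.exists_dense_smooth_of_qc k f
  have hne : (U : Set X).Nonempty := hUd.nonempty
  haveI : Smooth (U.ι ≫ f) := hUs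
  obtain ⟨x, hx, -⟩ := Groth.Agent.Lib27.SmoothSch.exists_point_mem_of_smooth (k := k) k
    (U.ι ≫ f) (⊤ : (U : Scheme.{u}).Opens) (by
      obtain ⟨y, hy⟩ := hne
      exact ⟨⟨y, hy⟩, trivial⟩)
  refine ⟨x ≫ U.ι, ?_⟩
  rw [CategoryTheory.Category.assoc, hx]
  have : CommRingCat.ofHom (algebraMap k k) = 𝟙 (CommRingCat.of k) := by
    ext a; rfl
  rw [this, AlgebraicGeometry.Spec.map_id]

end Groth.Agent.S18366
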