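import Groth.Statements.S18370
import Mathlib

set_option autoImplicit false
universe u
open CategoryTheory CategoryTheory.Limits MonoidalCategory CartesianMonoidalCategory MonObj GrpObj AlgebraicGeometry
open GrpSch

namespace Groth.Agent.S18370

section helpers
open CategoryTheory CategoryTheory.Limits MonoidalCategory CartesianMonoidalCategory MonObj GrpObj AlgebraicGeometry
open GrpSch

section general

variable {𝒞 : Type*} [Category 𝒞] [CartesianMonoidalCategory 𝒞] [BraidedCategory 𝒞]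

theorem key (G Ga Gb : 𝒞) [GrpObj G] [IsCommMonObj G] (n a b : ℕ) (hn : n = a * b)
    (hab : Nat.Coprime a b) (hG : (𝟙 G) ^ n = 1)
    (ia : Ga ⟶ G) (hia : IsPullback ia (toUnit Ga) ((𝟙 G) ^ a) η[G])
    (ib : Gb ⟶ G) (hib : IsPullback ib (toUnit Gb) ((𝟙 G) ^ b) η[G]) :
    IsIso ((fst Ga Gb ≫ ia) * (snd Ga Gb ≫ ib)) := by
  -- every point is killed by n
  have hkill : ∀ {T : 𝒞} (x : T ⟶ G), x ^ n = 1 := by
    intro T x
    have := MonObj.comp_pow (𝟙 G) n x
    rw [Category.comp_id] at this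
    rw [← this, hG, MonObj.comp_one]
  have hia_pow : ia ^ a = 1 := by
    have := MonObj.comp_pow (𝟙 G) a ia
    rw [Category.comp_id] at this
    rw [← this, hia.w, ← Hom.one_def]
  have hib_pow : ib ^ b = 1 := by
    have := MonObj.comp_pow (𝟙 G) b ib
    rw [Category.comp_id] at this
    rw [← this, hib.w, ← Hom.one_def]
  have hmono_a : Mono ia := ⟨fun u v h => hia.hom_ext h (toUnit_unique _ _)⟩
  have hmono_b : Mono ib := ⟨fun u v h => hib.hom_ext h (toUnit_unique _ _)⟩
  -- Bezout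
  obtain ⟨u, v, huv⟩ : ∃ u v : ℤ, u * a + v * b = 1 := by
    refine ⟨Int.gcdA a b, Int.gcdB a b, ?_⟩
    have := Int.gcd_eq_gcd_ab (a : ℤ) (b : ℤ)
    rw [Int.gcd_natCast_natCast, hab] at this
    push_cast at this
    linarith
  -- the two projections
  have h1 : ((𝟙 G) ^ (v * b)) ≫ (𝟙 G) ^ a = toUnit G ≫ η[G] := by
    rw [MonObj.comp_pow, Category.comp_id, ← zpow_natCast, ← zpow_mul, ← Hom.one_def]
    have : v * (b : ℤ) * (a : ℤ) = (n : ℤ) * v := by rw [hn]; push_cast; ring
    rw [this, zpow_mul, zpow_natCast, hkill, one_zpow]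
  have h2 : ((𝟙 G) ^ (u * a)) ≫ (𝟙 G) ^ b = toUnit G ≫ η[G] := by
    rw [MonObj.comp_pow, Category.comp_id, ← zpow_natCast, ← zpow_mul, ← Hom.one_def]
    have : u * (a : ℤ) * (b : ℤ) = (n : ℤ) * u := by rw [hn]; push_cast; ring
    rw [this, zpow_mul, zpow_natCast, hkill, one_zpow]
  let pa : G ⟶ Ga := hia.lift ((𝟙 G) ^ (v * b)) (toUnit G) h1
  let pb : G ⟶ Gb := hib.lift ((𝟙 G) ^ (u * a)) (toUnit G) h2
  have hpa : pa ≫ ia = (𝟙 G) ^ (v * b) := hia.lift_fst _ _ _
  have hpb : pb ≫ ib = (𝟙 G) ^ (u * a) := hib.lift_fst _ _ _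
  set m := (fst Ga Gb ≫ ia) * (snd Ga Gb ≫ ib) with hm
  have hX : (fst Ga Gb ≫ ia) ^ a = 1 := by
    rw [← MonObj.comp_pow, hia_pow, MonObj.comp_one]
  have hY : (snd Ga Gb ≫ ib) ^ b = 1 := by
    rw [← MonObj.comp_pow, hib_pow, MonObj.comp_one]
  refine ⟨⟨lift pa pb, ?_, ?_⟩⟩
  · -- m ≫ ψ = 𝟙
    apply CartesianMonoidalCategory.hom_ext
    · rw [Category.assoc, lift_fst, Category.id_comp, ← cancel_mono ia, Category.assoc, hpa,
        GrpObj.comp_zpow, Category.comp_id, hm, mul_zpow]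
      have e1 : (snd Ga Gb ≫ ib) ^ (v * b) = 1 := by
        rw [mul_comm, zpow_mul, zpow_natCast, hY, one_zpow]
      have e2 : (fst Ga Gb ≫ ia) ^ (v * b) = fst Ga Gb ≫ ia := by
        have : v * (b : ℤ) = 1 - (a : ℤ) * u := by linarith
        rw [this, zpow_sub, zpow_one, zpow_mul, zpow_natCast, hX, one_zpow, inv_one, _root_.mul_one]
      rw [e1, e2, _root_.mul_one]
    · rw [Category.assoc, lift_snd, Category.id_comp, ← cancel_mono ib, Category.assoc, hpb,
        GrpObj.comp_zpow, Category.comp_id, hm, mul_zpow]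
      have e1 : (fst Ga Gb ≫ ia) ^ (u * a) = 1 := by
        rw [mul_comm, zpow_mul, zpow_natCast, hX, one_zpow]
      have e2 : (snd Ga Gb ≫ ib) ^ (u * a) = snd Ga Gb ≫ ib := by
        have : u * (a : ℤ) = 1 - (b : ℤ) * v := by linarith
        rw [this, zpow_sub, zpow_one, zpow_mul, zpow_natCast, hY, one_zpow, inv_one, _root_.mul_one]
      rw [e1, e2, _root_.one_mul]
  · -- ψ ≫ m = 𝟙
    rw [hm, MonObj.comp_mul, lift_fst_assoc, lift_snd_assoc, hpa, hpb, ← zpow_add]
    have : v * (b : ℤ) + u * a = 1 := by linarith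
    rw [this, zpow_one]

end general

end helpers

/-- Let S be a scheme and G a commutative S-group scheme which is killed by a natural number n, i.e. the
n-th power map of G is the trivial homomorphism, and let n = a·b with a and b coprime. If i_a : G_a
→ G and i_b : G_b → G are scheme-theoretic kernels of the a-th and b-th power maps of G, then the
morphism G_a ×_S G_b → G sending (x, y) to i_a(x)·i_b(y) is an isomorphism of S-schemes. (The
published statement assumes n ≠ 0; the case n = 0, where {a, b} = {0, 1} and one kernel is all of G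
while the other is trivial, is included here.) -/
theorem result {S : Scheme.{u}} (G Ga Gb : Over S)
    [GrpObj G] [IsCommMonObj G] (n a b : ℕ) (hn : n = a * b) (hab : Nat.Coprime a b)
    (hG : (𝟙 G) ^ n = 1)
    (ia : Ga ⟶ G) (hia : AlgGrp.IsKernel ia ((𝟙 G) ^ a))
    (ib : Gb ⟶ G) (hib : AlgGrp.IsKernel ib ((𝟙 G) ^ b)) :
    IsIso ((fst Ga Gb ≫ ia) * (snd Ga Gb ≫ ib)) := by
  exact key G Ga Gb n a b hn hab hG ia hia ib hib

end Groth.Agent.S18370
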