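import Groth.Statements.S18376
import Groth.Agent.S18374
import Groth.Agent.S18375
import Groth.Agent.Lib27.Graph.OneCross

set_option autoImplicit false
universe u
open PhiStab
open Groth.Agent.Lib27.Graph

namespace Groth.Agent.S18376

open PhiStab in
theorem result {V E : Type u} [Fintype V] [Fintype E] [DecidableEq V] [DecidableEq E]
    (ends : E → V × V)
    (hconn : LabGraph.Connected ends) (b : ℤ) (φ₁ φ₂ : V → ℝ) (h₁ : (∑ v : V, φ₁ v) = (b : ℝ))
    (h₂ : (∑ v : V, φ₂ v) = (b : ℝ)) (hnd : Nondegenerate ends φ₁) :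
    (∀ (m : V → ℤ) (N : Finset E), totDeg m N = b → IsStable ends φ₁ m N → IsSemistable ends φ₂ m N) ↔
      InClosedPolytope ends φ₁ φ₂ := by
  classical
  constructor
  · -- (⇒)
    intro H S hS d hd
    obtain ⟨T, hT, e₀, he₀T, he₀, huniq⟩ := exists_tree_one_crossing ends hconn S hS
    obtain ⟨m, ⟨hm, hst⟩, -⟩ := Groth.Agent.S18375.result ends T hT b φ₁ h₁ hnd
    obtain ⟨hSne, hSuniv⟩ := isElementary_nonempty_ne_univ hS
    have hScne : (Sᶜ).Nonempty := by
      rw [Finset.nonempty_iff_ne_empty]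
      intro h0
      apply hSuniv
      rw [← compl_compl S, h0, Finset.compl_empty]
    have hScuniv : Sᶜ ≠ Finset.univ := by
      intro h
      obtain ⟨x, hx⟩ := hSne
      have := h ▸ Finset.mem_univ x
      exact (Finset.mem_compl.mp this) hx
    have hdeg : (∑ v : V, φ₁ v) = (totDeg m Tᶜ : ℝ) := by rw [h₁, hm]
    have p1 := hst S hSne hSuniv
    have p2 := hst Sᶜ hScne hScuniv
    have e1 := exc_eq ends φ₁ m Tᶜ S
    have e2 := exc_eq ends φ₁ m Tᶜ Sᶜ
    have e3 := exc_compl (ends := ends) φ₁ m Tᶜ hdeg S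
    -- hfun = 1
    have hh : hfun ends Tᶜ S = 1 := by
      unfold hfun
      rw [Finset.sum_eq_single e₀]
      · rw [if_pos ⟨he₀, by simpa using he₀T⟩]
      · intro e _ hne
        rw [if_neg]
        rintro ⟨hcr, hnot⟩
        have heT : e ∈ T := by simpa using hnot
        exact hne (huniq e heT hcr)
      · intro h; exact absurd (Finset.mem_univ _) h
    -- semistability for φ₂
    have hss := H m Tᶜ hm hst S hSne hSuniv
    unfold ell at hd ⊢
    -- D ≤ d
    have hD : degOn ends m Tᶜ S ≤ d := by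
      have : ((degOn ends m Tᶜ S : ℤ) : ℝ) < (d : ℝ) + 1 := by
        rw [hh] at e3
        linarith
      have : degOn ends m Tᶜ S < d + 1 := by exact_mod_cast this
      omega
    have hD' : ((degOn ends m Tᶜ S : ℤ) : ℝ) ≤ (d : ℝ) := by exact_mod_cast hD
    linarith
  · -- (⇐)
    intro H m N hm hst
    have hdeg : (∑ v : V, φ₂ v) = (totDeg m N : ℝ) := by rw [h₂, hm]
    rw [(Groth.Agent.S18374.result ends hconn φ₂ m N hdeg).1]
    intro S hS
    obtain ⟨hSne, hSuniv⟩ := isElementary_nonempty_ne_univ hS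
    have p1 := hst S hSne hSuniv
    have := H S hS (degOn ends m N S) (by unfold ell; linarith)
    unfold ell at this
    linarith

end Groth.Agent.S18376
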