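import Mathlib
import Groth.Statements.S18377
import Groth.Agent.Lib.Helper4.VerlindePart
-- import your own Groth.Agent.* helpers here

set_option autoImplicit false
open Complex
open VerlindeComb

namespace Groth.Agent.S18377

open Groth.Agent.Lib.Helper4.Verlinde in
/-- Let r, k ≥ 1 be integers and v_1 > v_2 > ⋯ > v_r ≥ 0 integers below r + k; put z_j = exp(2πi v_j /
(r + k)) and, for μ = (μ_1, …, μ_r), let S_μ(z) = det(z_j^{μ_i + r - i}) / det(z_j^{r - i}) be the
value of the Schur polynomial (the z_j are distinct, so the Vandermonde denominator is nonzero).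
Then, summing over all μ with k > μ_1 ≥ ⋯ ≥ μ_r ≥ 0 and writing μ* = (k - μ_r, …, k - μ_1), one has
Σ_μ S_μ(z) S_{μ*}(z) = exp(2πi k (v_1 + ⋯ + v_r) / (r + k)) · k (r + k)^{r-1} / ∏_{i<j} (2 sin(π
(v_i - v_j) / (r + k)))². Indices are 0-based below: μ i stands for μ_{i+1}. -/
theorem result (r k : ℕ) (hr : 1 ≤ r) (hk : 1 ≤ k)
    (v : Fin r → ℕ) (hv : StrictAnti v) (hvlt : ∀ i, v i < r + k)
    (z : Fin r → ℂ) (hz : ∀ j, z j = Complex.exp (2 * Real.pi * Complex.I * (v j : ℂ) / ((r : ℂ) + k)))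
    (S : (Fin r → ℕ) → ℂ)
    (hS : ∀ μ : Fin r → ℕ, S μ =
      (Matrix.of fun i j : Fin r => z j ^ (μ i + (r - 1 - (i : ℕ)))).det /
        (Matrix.of fun i j : Fin r => z j ^ (r - 1 - (i : ℕ))).det) :
    (∑ μ ∈ (Finset.univ : Finset (Fin r → Fin k)).filter (fun μ : Fin r → Fin k => Antitone μ),
        S (fun i => (μ i : ℕ)) * S (fun i => k - (μ (Fin.rev i) : ℕ))) =
      Complex.exp (2 * Real.pi * Complex.I * (k : ℂ) * ((∑ j, v j : ℕ) : ℂ) / ((r : ℂ) + k)) *
        ((k : ℂ) * ((r : ℂ) + k) ^ (r - 1)) /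
        (∏ p ∈ (Finset.univ : Finset (Fin r × Fin r)).filter (fun p => p.1 < p.2),
          (((2 : ℝ) * Real.sin (Real.pi * ((v p.1 : ℝ) - (v p.2 : ℝ)) / ((r : ℝ) + k))) ^ 2 : ℝ) : ℂ) := by
  classical
  haveI : NeZero (r + k) := ⟨by omega⟩
  have hzv : ∀ j, z j = chi (r + k) (v j : ℤ) := by
    intro j
    rw [hz]
    unfold chi
    congr 1
    push_cast
    ring
  have hD0 : D (r + k) (delta r) v ≠ 0 := D_delta_ne_zero v hv.injective hvlt
  -- the Vandermonde product
  have hP : (∏ p ∈ (Finset.univ : Finset (Fin r × Fin r)).filter (fun p => p.1 < p.2),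
          (((2 : ℝ) * Real.sin (Real.pi * ((v p.1 : ℝ) - (v p.2 : ℝ)) / ((r : ℝ) + k))) ^ 2 : ℝ) : ℂ) =
      D (r + k) (delta r) v * (starRingEnd ℂ) (D (r + k) (delta r) v) := by
    rw [← prod_sin_eq (N := r + k) v, Complex.ofReal_prod]
    push_cast
    rfl
  -- the function on tuples
  obtain ⟨f, hf⟩ : ∃ f : (Fin r → ℕ) → ℂ, f = fun x =>
      D (r + k) v x * (starRingEnd ℂ) (D (r + k) v x) := ⟨_, rfl⟩
  obtain ⟨K, hK⟩ : ∃ K : ℂ, K =
      ((Equiv.Perm.sign (Fin.revPerm : Equiv.Perm (Fin r)) : ℤˣ) : ℂ) *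
        chi (r + k) (((r + k - 1 : ℕ) : ℤ) * ((∑ j, v j : ℕ) : ℤ)) /
        (D (r + k) (delta r) v * D (r + k) (delta r) v) := ⟨_, rfl⟩
  have hsummand : ∀ μ ∈ (Finset.univ : Finset (Fin r → Fin k)).filter
        (fun μ : Fin r → Fin k => Antitone μ),
      S (fun i => (μ i : ℕ)) * S (fun i => k - (μ (Fin.rev i) : ℕ)) =
      K * f (fun i => (μ i : ℕ) + delta r i) := by
    intro μ _
    obtain ⟨x, hx⟩ : ∃ x : Fin r → ℕ, x = fun i => (μ i : ℕ) + delta r i := ⟨_, rfl⟩
    rw [← hx]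
    have hxle : ∀ i, x i ≤ r + k - 1 := by
      intro i
      rw [hx]
      have h1 := (μ i).isLt
      have h2 := delta_le i
      have h3 := i.isLt
      simp only
      omega
    have hS1 : S (fun i => (μ i : ℕ)) = D (r + k) v x / D (r + k) (delta r) v := by
      rw [hS, det_eq_D z v hzv, det_eq_D_delta z v hzv, ← hx, D_transpose]
    have hstar : (fun i => (k - (μ (Fin.rev i) : ℕ)) + delta r i) =
        fun i => (r + k - 1) - x (Fin.rev i) := by
      funext i
      rw [hx]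
      simp only [delta_rev]
      have h1 := (μ (Fin.rev i)).isLt
      have h3 := i.isLt
      unfold delta
      omega
    have hS2 : S (fun i => k - (μ (Fin.rev i) : ℕ)) =
        ((Equiv.Perm.sign (Fin.revPerm : Equiv.Perm (Fin r)) : ℤˣ) : ℂ) *
          chi (r + k) (((r + k - 1 : ℕ) : ℤ) * ((∑ j, v j : ℕ) : ℤ)) *
          (starRingEnd ℂ) (D (r + k) v x) / D (r + k) (delta r) v := by
      rw [hS, det_eq_D z v hzv, det_eq_D_delta z v hzv, hstar,
        D_dual x v (r + k - 1) hxle, D_transpose x v]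
    rw [hS1, hS2, hK, hf]
    simp only
    field_simp
  rw [Finset.sum_congr rfl hsummand, ← Finset.mul_sum,
    sum_antitone_eq k (r + k) hk (by omega) f]
  -- the reduction
  have hsym : ∀ (π : Equiv.Perm (Fin r)) (w : Fin r → Fin (r + k)),
      G0 (r + k) v v (w ∘ π) = G0 (r + k) v v w :=
    fun π w => G0_comp_perm _ _ w π
  have hshift : ∀ (s : Fin (r + k)) (w : Fin r → Fin (r + k)),
      G0 (r + k) v v (fun j => w j + s) = G0 (r + k) v v w := by
    intro s w
    rw [G0_shift, sub_self, zero_mul, chi_zero, one_mul]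
  have hvan : ∀ w : Fin r → Fin (r + k), ¬ Function.Injective w →
      G0 (r + k) v v w = 0 := fun w hw => G0_eq_zero _ _ w hw
  obtain ⟨t₀, ht₀⟩ : ∃ t₀ : Fin (r + k), (t₀ : ℕ) = r + k - 1 := ⟨⟨r + k - 1, by omega⟩, rfl⟩
  have hred := reduction (G0 (r + k) v v) hsym hshift hvan t₀
  have hredall := reduction_all (G0 (r + k) v v) hsym hvan
  rw [sum_all_normSq (N := r + k) v hv.injective hvlt] at hred hredall
  have hsplit := Finset.sum_filter_add_sum_filter_not
    (Finset.univ.filter (fun w : Fin r → Fin (r + k) => StrictAnti w))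
    (fun w : Fin r → Fin (r + k) => t₀ ∈ Set.range w) (G0 (r + k) v v)
  rw [Finset.filter_filter, Finset.filter_filter] at hsplit
  have hstep2 : ∑ l ∈ (Finset.univ : Finset (Fin r → Fin (r + k))).filter
        (fun l : Fin r → Fin (r + k) => StrictAnti l ∧ ∀ j, (l j : ℕ) < k + r - 1),
        f (fun i => (l i : ℕ)) =
      ∑ w ∈ (Finset.univ : Finset (Fin r → Fin (r + k))).filter
        (fun w : Fin r → Fin (r + k) => StrictAnti w ∧ ¬ t₀ ∈ Set.range w),
        G0 (r + k) v v w := by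
    rw [hf]
    refine Finset.sum_congr ?_ (fun w _ => rfl)
    ext w
    simp only [Finset.mem_filter, Finset.mem_univ, true_and, Set.mem_range, not_exists]
    constructor
    · rintro ⟨h1, h2⟩
      refine ⟨h1, fun j hj => ?_⟩
      have := h2 j
      rw [hj, ht₀] at this
      omega
    · rintro ⟨h1, h2⟩
      refine ⟨h1, fun j => ?_⟩
      have h3 := (w j).isLt
      have h4 : (w j : ℕ) ≠ r + k - 1 := by
        intro h
        apply h2 j
        apply Fin.ext
        rw [h, ht₀]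
      omega
  rw [hstep2, hP, conj_D_delta, hK]
  have hN : ((r + k : ℕ) : ℂ) ≠ 0 := Nat.cast_ne_zero.mpr (by omega)
  have hfac : (r.factorial : ℂ) ≠ 0 := Nat.cast_ne_zero.mpr (Nat.factorial_ne_zero r)
  have hpow : ((r + k : ℕ) : ℂ) ^ r = ((r + k : ℕ) : ℂ) * ((r + k : ℕ) : ℂ) ^ (r - 1) := by
    rw [← pow_succ']
    congr 1
    omega
  -- the value of the restricted sum
  have hval : ∑ w ∈ (Finset.univ : Finset (Fin r → Fin (r + k))).filter
        (fun w : Fin r → Fin (r + k) => StrictAnti w ∧ ¬ t₀ ∈ Set.range w),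
        G0 (r + k) v v w = (k : ℂ) * ((r : ℂ) + k) ^ (r - 1) := by
    have h1 : (r.factorial : ℂ) * (∑ w ∈ (Finset.univ : Finset (Fin r → Fin (r + k))).filter
        (fun w : Fin r → Fin (r + k) => StrictAnti w), G0 (r + k) v v w -
        ((r + k : ℕ) : ℂ) ^ r) = 0 := by linear_combination hredall
    have h2 : ∑ w ∈ (Finset.univ : Finset (Fin r → Fin (r + k))).filter
        (fun w : Fin r → Fin (r + k) => StrictAnti w), G0 (r + k) v v w =
        ((r + k : ℕ) : ℂ) ^ r := by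
      rcases mul_eq_zero.mp h1 with h | h
      · exact absurd h hfac
      · exact sub_eq_zero.mp h
    have h3 : ((r + k : ℕ) : ℂ) * (r.factorial : ℂ) *
        (∑ w ∈ (Finset.univ : Finset (Fin r → Fin (r + k))).filter
        (fun w : Fin r → Fin (r + k) => StrictAnti w ∧ t₀ ∈ Set.range w), G0 (r + k) v v w -
        (r : ℂ) * ((r + k : ℕ) : ℂ) ^ (r - 1)) = 0 := by
      rw [hpow] at hred
      linear_combination hred
    have h4 : ∑ w ∈ (Finset.univ : Finset (Fin r → Fin (r + k))).filter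
        (fun w : Fin r → Fin (r + k) => StrictAnti w ∧ t₀ ∈ Set.range w), G0 (r + k) v v w =
        (r : ℂ) * ((r + k : ℕ) : ℂ) ^ (r - 1) := by
      rcases mul_eq_zero.mp h3 with h | h
      · rcases mul_eq_zero.mp h with h | h
        · exact absurd h hN
        · exact absurd h hfac
      · exact sub_eq_zero.mp h
    rw [h4, h2, hpow] at hsplit
    push_cast at hsplit ⊢
    linear_combination hsplit
  rw [hval]
  -- final algebra
  have hs := sign_mul_self (Fin.revPerm : Equiv.Perm (Fin r))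
  have hek : Complex.exp (2 * Real.pi * Complex.I * (k : ℂ) * ((∑ j, v j : ℕ) : ℂ) / ((r : ℂ) + k)) =
      chi (r + k) (((r + k - 1 : ℕ) : ℤ) * ((∑ j, v j : ℕ) : ℤ)) *
        chi (r + k) (-(((r - 1 : ℕ) : ℤ) * ((∑ j, v j : ℕ) : ℤ))) := by
    rw [← chi_add]
    unfold chi
    congr 1
    rw [Nat.cast_sub (by omega : 1 ≤ r + k), Nat.cast_sub hr]
    push_cast
    ring
  rw [hek]
  have hcm : chi (r + k) (-(((r - 1 : ℕ) : ℤ) * ((∑ j, v j : ℕ) : ℤ))) ≠ 0 := chi_ne_zero _
  have hsne : ((Equiv.Perm.sign (Fin.revPerm : Equiv.Perm (Fin r)) : ℤˣ) : ℂ) ≠ 0 := by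
    intro h
    rw [h, mul_zero] at hs
    exact zero_ne_one hs
  field_simp
  linear_combination (chi (r + k) (((r + k - 1 : ℕ) : ℤ) * ((∑ j, v j : ℕ) : ℤ)) *
    ((k : ℂ) * ((r : ℂ) + k) ^ (r - 1))) * hs

end Groth.Agent.S18377
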