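import Mathlib
import Groth.Statements.S18378
import Groth.Agent.Lib.Helper4.VerlindePart
-- import your own Groth.Agent.* helpers here

set_option autoImplicit false
open Complex
open VerlindeComb

namespace Groth.Agent.S18378

open Groth.Agent.Lib.Helper4.Verlinde in
/-- Let r, k ≥ 1 be integers and v, v' two integer vectors with r + k > v_1 > ⋯ > v_r ≥ 0 and r + k >
v'_1 > ⋯ > v'_r ≥ 0 whose difference v - v' is not a constant vector (a, …, a). Put z_j = exp(2πi
v_j / (r + k)), z'_j = exp(2πi v'_j / (r + k)), let S_μ(w) = det(w_j^{μ_i + r - i}) / det(w_j^{r -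
i}) be the Schur value at w = z or z', and write |x| for the sum of the coordinates of a vector and
μ* = (k - μ_r, …, k - μ_1). Then the sum over all μ with k ≥ μ_1 ≥ ⋯ ≥ μ_{r-1} ≥ μ_r = 0 of exp(-2πi
|μ| |v| / (r (r + k))) · exp(-2πi |μ*| |v'| / (r (r + k))) · S_μ(z) · S_{μ*}(z') is zero. The
vanishing is the orthogonality of distinct characters and holds exactly for non-equivalent v, v';
for v - v' constant the sum is nonzero. Indices are 0-based below: μ i stands for μ_{i+1}. -/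
theorem result (r k : ℕ) (hr : 1 ≤ r)
    (hk : 1 ≤ k) (v v' : Fin r → ℕ) (hv : StrictAnti v) (hvlt : ∀ i, v i < r + k) (hv' : StrictAnti v')
    (hv'lt : ∀ i, v' i < r + k) (hne : ¬ ∃ a : ℤ, ∀ i, (v i : ℤ) - (v' i : ℤ) = a)
    (z z' : Fin r → ℂ) (hz : ∀ j, z j = Complex.exp (2 * Real.pi * Complex.I * (v j : ℂ) / ((r : ℂ) + k)))
    (hz' : ∀ j, z' j = Complex.exp (2 * Real.pi * Complex.I * (v' j : ℂ) / ((r : ℂ) + k)))
    (S S' : (Fin r → ℕ) → ℂ)
    (hS : ∀ μ : Fin r → ℕ, S μ =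
      (Matrix.of fun i j : Fin r => z j ^ (μ i + (r - 1 - (i : ℕ)))).det /
        (Matrix.of fun i j : Fin r => z j ^ (r - 1 - (i : ℕ))).det)
    (hS' : ∀ μ : Fin r → ℕ, S' μ =
      (Matrix.of fun i j : Fin r => z' j ^ (μ i + (r - 1 - (i : ℕ)))).det /
        (Matrix.of fun i j : Fin r => z' j ^ (r - 1 - (i : ℕ))).det) :
    (∑ μ ∈ (Finset.univ : Finset (Fin r → Fin (k + 1))).filter
        (fun μ : Fin r → Fin (k + 1) => Antitone μ ∧ ∀ i : Fin r, (i : ℕ) = r - 1 → (μ i : ℕ) = 0),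
      Complex.exp (-(2 * Real.pi * Complex.I * ((∑ i, (μ i : ℕ) : ℕ) : ℂ) * ((∑ j, v j : ℕ) : ℂ) /
          ((r : ℂ) * ((r : ℂ) + k)))) *
      Complex.exp (-(2 * Real.pi * Complex.I * ((∑ i, (k - (μ (Fin.rev i) : ℕ)) : ℕ) : ℂ) *
          ((∑ j, v' j : ℕ) : ℂ) / ((r : ℂ) * ((r : ℂ) + k)))) *
      S (fun i => (μ i : ℕ)) * S' (fun i => k - (μ (Fin.rev i) : ℕ))) = 0 := by
  classical
  haveI : NeZero (r + k) := ⟨by omega⟩
  obtain ⟨c, hc⟩ : ∃ c : ℤ, c = ((∑ i, v i : ℕ) : ℤ) - ((∑ i, v' i : ℕ) : ℤ) := ⟨_, rfl⟩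
  have hzv : ∀ j, z j = chi (r + k) (v j : ℤ) := by
    intro j
    rw [hz]
    unfold chi
    congr 1
    push_cast
    ring
  have hzv' : ∀ j, z' j = chi (r + k) (v' j : ℤ) := by
    intro j
    rw [hz']
    unfold chi
    congr 1
    push_cast
    ring
  -- the function on strictly decreasing tuples
  obtain ⟨f, hf⟩ : ∃ f : (Fin r → ℕ) → ℂ, f = fun x =>
      if (∀ i : Fin r, (i : ℕ) = r - 1 → x i = 0) then
        E (r + k) r c (∑ j, x j) * (D (r + k) v x * (starRingEnd ℂ) (D (r + k) v' x)) else 0 :=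
    ⟨_, rfl⟩
  -- the constant
  obtain ⟨K, hK⟩ : ∃ K : ℂ, K =
      ((Equiv.Perm.sign (Fin.revPerm : Equiv.Perm (Fin r)) : ℤˣ) : ℂ) *
        chi (r + k) (((r + k - 1 : ℕ) : ℤ) * ((∑ j, v' j : ℕ) : ℤ)) /
        (D (r + k) (delta r) v * D (r + k) (delta r) v') *
      Complex.exp (-(2 * Real.pi * Complex.I *
        (-((∑ i, delta r i : ℕ) : ℂ) * ((∑ j, v j : ℕ) : ℂ) +
          ((r : ℂ) * (k : ℂ) + ((∑ i, delta r i : ℕ) : ℂ)) * ((∑ j, v' j : ℕ) : ℂ)) /
          ((r : ℂ) * ((r : ℂ) + k)))) := ⟨_, rfl⟩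
  have hsummand : ∀ μ ∈ (Finset.univ : Finset (Fin r → Fin (k + 1))).filter
        (fun μ : Fin r → Fin (k + 1) => Antitone μ ∧ ∀ i : Fin r, (i : ℕ) = r - 1 → (μ i : ℕ) = 0),
      Complex.exp (-(2 * Real.pi * Complex.I * ((∑ i, (μ i : ℕ) : ℕ) : ℂ) * ((∑ j, v j : ℕ) : ℂ) /
          ((r : ℂ) * ((r : ℂ) + k)))) *
      Complex.exp (-(2 * Real.pi * Complex.I * ((∑ i, (k - (μ (Fin.rev i) : ℕ)) : ℕ) : ℂ) *
          ((∑ j, v' j : ℕ) : ℂ) / ((r : ℂ) * ((r : ℂ) + k)))) *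
      S (fun i => (μ i : ℕ)) * S' (fun i => k - (μ (Fin.rev i) : ℕ)) =
      K * f (fun i => (μ i : ℕ) + delta r i) := by
    intro μ hμ
    simp only [Finset.mem_filter, Finset.mem_univ, true_and] at hμ
    obtain ⟨x, hx⟩ : ∃ x : Fin r → ℕ, x = fun i => (μ i : ℕ) + delta r i := ⟨_, rfl⟩
    rw [← hx]
    have hZ : ∀ i : Fin r, (i : ℕ) = r - 1 → x i = 0 := by
      intro i hi
      rw [hx]
      simp only [hμ.2 i hi, delta, hi]
      omega
    have hfx : f x = E (r + k) r c (∑ j, x j) *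
        (D (r + k) v x * (starRingEnd ℂ) (D (r + k) v' x)) := by
      rw [hf]
      simp only
      rw [if_pos hZ]
    have hxle : ∀ i, x i ≤ r + k - 1 := by
      intro i
      rw [hx]
      have h1 := (μ i).isLt
      have h2 := delta_le i
      have h3 := i.isLt
      simp only
      omega
    have hS1 : S (fun i => (μ i : ℕ)) = D (r + k) v x / D (r + k) (delta r) v := by
      rw [hS, det_eq_D z v hzv, det_eq_D_delta z v hzv, ← hx, D_transpose]
    have hstar : (fun i => (k - (μ (Fin.rev i) : ℕ)) + delta r i) =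
        fun i => (r + k - 1) - x (Fin.rev i) := by
      funext i
      rw [hx]
      simp only [delta_rev]
      have h1 := (μ (Fin.rev i)).isLt
      have h3 := i.isLt
      unfold delta
      omega
    have hS2 : S' (fun i => k - (μ (Fin.rev i) : ℕ)) =
        ((Equiv.Perm.sign (Fin.revPerm : Equiv.Perm (Fin r)) : ℤˣ) : ℂ) *
          chi (r + k) (((r + k - 1 : ℕ) : ℤ) * ((∑ j, v' j : ℕ) : ℤ)) *
          (starRingEnd ℂ) (D (r + k) v' x) / D (r + k) (delta r) v' := by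
      rw [hS', det_eq_D z' v' hzv', det_eq_D_delta z' v' hzv', hstar,
        D_dual x v' (r + k - 1) hxle, D_transpose x v']
    -- the sums
    have hxsum : ((∑ j, x j : ℕ) : ℂ) = ((∑ i, (μ i : ℕ) : ℕ) : ℂ) + ((∑ i, delta r i : ℕ) : ℂ) := by
      rw [hx]
      push_cast
      rw [Finset.sum_add_distrib]
    have hstarsum : ((∑ i, (k - (μ (Fin.rev i) : ℕ)) : ℕ) : ℂ) =
        (r : ℂ) * (k : ℂ) - ((∑ i, (μ i : ℕ) : ℕ) : ℂ) := by
      have h1 : ∑ i : Fin r, (k - (μ (Fin.rev i) : ℕ)) + ∑ i : Fin r, (μ i : ℕ) = r * k := by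
        have h2 : ∑ i : Fin r, ((μ (Fin.rev i) : Fin (k + 1)) : ℕ) = ∑ i : Fin r, (μ i : ℕ) :=
          Equiv.sum_comp Fin.revPerm (fun i => ((μ i : Fin (k + 1)) : ℕ))
        rw [← h2, ← Finset.sum_add_distrib]
        have h3 : ∀ i : Fin r, (k - (μ (Fin.rev i) : ℕ)) + (μ (Fin.rev i) : ℕ) = k := by
          intro i
          have := (μ (Fin.rev i)).isLt
          omega
        simp only [h3, Finset.sum_const, Finset.card_univ, Fintype.card_fin, smul_eq_mul]
      have h4 : ((∑ i : Fin r, (k - (μ (Fin.rev i) : ℕ)) + ∑ i : Fin r, (μ i : ℕ) : ℕ) : ℂ) =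
          ((r * k : ℕ) : ℂ) := by rw [h1]
      push_cast at h4 ⊢
      linear_combination h4
    have hexp : Complex.exp (-(2 * Real.pi * Complex.I * ((∑ i, (μ i : ℕ) : ℕ) : ℂ) *
          ((∑ j, v j : ℕ) : ℂ) / ((r : ℂ) * ((r : ℂ) + k)))) *
        Complex.exp (-(2 * Real.pi * Complex.I * ((∑ i, (k - (μ (Fin.rev i) : ℕ)) : ℕ) : ℂ) *
          ((∑ j, v' j : ℕ) : ℂ) / ((r : ℂ) * ((r : ℂ) + k)))) =
        E (r + k) r c (∑ j, x j) *
        Complex.exp (-(2 * Real.pi * Complex.I *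
          (-((∑ i, delta r i : ℕ) : ℂ) * ((∑ j, v j : ℕ) : ℂ) +
          ((r : ℂ) * (k : ℂ) + ((∑ i, delta r i : ℕ) : ℂ)) * ((∑ j, v' j : ℕ) : ℂ)) /
          ((r : ℂ) * ((r : ℂ) + k)))) := by
      unfold E
      rw [← Complex.exp_add, ← Complex.exp_add]
      congr 1
      rw [hstarsum, hxsum, hc]
      have hr0 : (r : ℂ) ≠ 0 := Nat.cast_ne_zero.mpr (by omega)
      have hN0 : ((r : ℂ) + k) ≠ 0 := by
        have : ((r + k : ℕ) : ℂ) ≠ 0 := Nat.cast_ne_zero.mpr (by omega)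
        simpa using this
      push_cast
      field_simp
      ring
    rw [hS1, hS2, hfx, hK, hexp]
    ring
  rw [Finset.sum_congr rfl hsummand, ← Finset.mul_sum]
  -- drop the vanishing condition into `f`
  have hstep1 : ∑ μ ∈ (Finset.univ : Finset (Fin r → Fin (k + 1))).filter
        (fun μ : Fin r → Fin (k + 1) => Antitone μ ∧ ∀ i : Fin r, (i : ℕ) = r - 1 → (μ i : ℕ) = 0),
        f (fun i => (μ i : ℕ) + delta r i) =
      ∑ μ ∈ (Finset.univ : Finset (Fin r → Fin (k + 1))).filter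
        (fun μ : Fin r → Fin (k + 1) => Antitone μ), f (fun i => (μ i : ℕ) + delta r i) := by
    rw [← Finset.filter_filter, Finset.sum_filter]
    refine Finset.sum_congr rfl (fun μ _ => ?_)
    split_ifs with h
    · rfl
    · rw [hf]
      simp only
      rw [if_neg]
      intro h'
      apply h
      intro i hi
      have := h' i hi
      omega
  rw [hstep1, sum_antitone_eq (k + 1) (r + k) (by omega) (by omega) f]
  -- identify with the core sum
  have hstep2 : ∑ l ∈ (Finset.univ : Finset (Fin r → Fin (r + k))).filter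
        (fun l : Fin r → Fin (r + k) => StrictAnti l ∧ ∀ j, (l j : ℕ) < k + 1 + r - 1),
        f (fun i => (l i : ℕ)) =
      ∑ w ∈ (Finset.univ : Finset (Fin r → Fin (r + k))).filter
        (fun w : Fin r → Fin (r + k) =>
          StrictAnti w ∧ ∀ i : Fin r, (i : ℕ) = r - 1 → (w i : ℕ) = 0),
        E (r + k) r c (∑ j, (w j : ℕ)) * G0 (r + k) v v' w := by
    rw [hf]
    simp only
    rw [← Finset.sum_filter, Finset.filter_filter]
    refine Finset.sum_congr ?_ (fun w _ => rfl)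
    ext w
    simp only [Finset.mem_filter, Finset.mem_univ, true_and]
    constructor
    · rintro ⟨⟨h1, _⟩, h3⟩
      exact ⟨h1, h3⟩
    · rintro ⟨h1, h3⟩
      refine ⟨⟨h1, fun j => ?_⟩, h3⟩
      have := (w j).isLt
      omega
  rw [hstep2, core (N := r + k) v v' hv hv' hvlt hv'lt hne c hc, mul_zero]

end Groth.Agent.S18378
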