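import Mathlib
import Groth.Statements.S18379
import Groth.Agent.Lib.Helper4.VerlindeSchur
-- import your own Groth.Agent.* helpers here

set_option autoImplicit false
open VerlindeComb

namespace Groth.Agent.S18379

open Groth.Agent.Lib.Helper4.Verlinde in
/-- Let r, k ≥ 1 be integers. Summing over all integer vectors v with r + k > v_1 > v_2 > ⋯ > v_{r-1} >
v_r = 0, one has Σ_v ∏_{i<j} (2 sin(π (v_i - v_j) / (r + k)))² = r (r + k)^{r-1}; that is, the
genus-zero Verlinde number of rank r and level k with no parabolic points, defined as (r (r +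
k)^{r-1})⁻¹ times this sum, equals 1. Indices are 0-based below: v i stands for v_{i+1}. -/
theorem result (r k : ℕ) (hr : 1 ≤ r) (hk : 1 ≤ k) :
    (∑ v ∈ (Finset.univ : Finset (Fin r → Fin (r + k))).filter
        (fun v : Fin r → Fin (r + k) => StrictAnti v ∧ ∀ i : Fin r, (i : ℕ) = r - 1 → (v i : ℕ) = 0),
      ∏ p ∈ (Finset.univ : Finset (Fin r × Fin r)).filter (fun p => p.1 < p.2),
        ((2 : ℝ) * Real.sin (Real.pi * ((v p.1 : ℕ) - (v p.2 : ℕ) : ℝ) / ((r : ℝ) + k))) ^ 2) =
      (r : ℝ) * ((r : ℝ) + k) ^ (r - 1) := by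
  classical
  haveI : NeZero (r + k) := ⟨by omega⟩
  apply Complex.ofReal_injective
  rw [Complex.ofReal_sum]
  have h1 : ∀ v : Fin r → Fin (r + k),
      ((∏ p ∈ (Finset.univ : Finset (Fin r × Fin r)).filter (fun p => p.1 < p.2),
        ((2 : ℝ) * Real.sin (Real.pi * ((v p.1 : ℕ) - (v p.2 : ℕ) : ℝ) / ((r : ℝ) + k))) ^ 2 : ℝ) : ℂ) =
      G0 (r + k) (delta r) (delta r) v := by
    intro v
    unfold G0
    rw [← prod_sin_eq (N := r + k) (fun j => (v j : ℕ))]
    push_cast
    rfl
  simp only [h1]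
  -- the reduction
  have hsym : ∀ (π : Equiv.Perm (Fin r)) (w : Fin r → Fin (r + k)),
      G0 (r + k) (delta r) (delta r) (w ∘ π) = G0 (r + k) (delta r) (delta r) w :=
    fun π w => G0_comp_perm _ _ w π
  have hshift : ∀ (s : Fin (r + k)) (w : Fin r → Fin (r + k)),
      G0 (r + k) (delta r) (delta r) (fun j => w j + s) = G0 (r + k) (delta r) (delta r) w := by
    intro s w
    rw [G0_shift, sub_self, zero_mul, chi_zero, one_mul]
  have hvan : ∀ w : Fin r → Fin (r + k), ¬ Function.Injective w →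
      G0 (r + k) (delta r) (delta r) w = 0 := fun w hw => G0_eq_zero _ _ w hw
  have hred := reduction (G0 (r + k) (delta r) (delta r)) hsym hshift hvan (0 : Fin (r + k))
  rw [sum_all_normSq (N := r + k) (delta r) delta_strictAnti.injective
    (fun i => by have := delta_le i; omega)] at hred
  have hfilter : Finset.univ.filter (fun w : Fin r → Fin (r + k) =>
        StrictAnti w ∧ ∀ i : Fin r, (i : ℕ) = r - 1 → (w i : ℕ) = 0) =
      Finset.univ.filter (fun w : Fin r → Fin (r + k) =>
        StrictAnti w ∧ (0 : Fin (r + k)) ∈ Set.range w) := by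
    ext w
    simp only [Finset.mem_filter, Finset.mem_univ, true_and]
    exact mem_B_iff hr w
  rw [hfilter]
  have hN : ((r + k : ℕ) : ℂ) ≠ 0 := Nat.cast_ne_zero.mpr (by omega)
  have hfac : (r.factorial : ℂ) ≠ 0 := Nat.cast_ne_zero.mpr (Nat.factorial_ne_zero r)
  have hpow : ((r + k : ℕ) : ℂ) ^ r = ((r + k : ℕ) : ℂ) * ((r + k : ℕ) : ℂ) ^ (r - 1) := by
    rw [← pow_succ']
    congr 1
    omega
  rw [hpow] at hred
  have h2 : ((r + k : ℕ) : ℂ) * (r.factorial : ℂ) *
      (∑ w ∈ Finset.univ.filter (fun w : Fin r → Fin (r + k) =>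
        StrictAnti w ∧ (0 : Fin (r + k)) ∈ Set.range w), G0 (r + k) (delta r) (delta r) w -
        (r : ℂ) * ((r + k : ℕ) : ℂ) ^ (r - 1)) = 0 := by
    linear_combination hred
  rcases mul_eq_zero.mp h2 with h3 | h3
  · rcases mul_eq_zero.mp h3 with h4 | h4
    · exact absurd h4 hN
    · exact absurd h4 hfac
  · rw [sub_eq_zero.mp h3]
    push_cast
    rfl

end Groth.Agent.S18379
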