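import Mathlib
import Groth.Statements.S18381
import Groth.Agent.Lib.Helper4.VerlindePart
import Groth.Agent.S18377
-- import your own Groth.Agent.* helpers here

set_option autoImplicit false
open Complex
open VerlindeComb

namespace Groth.Agent.S18381

open Groth.Agent.Lib.Helper4.Verlinde in
/-- Fix integers r, k ≥ 1. For g ≥ 0, d ∈ ℤ and parabolic data ω given by a finite family of partitions
λ_x with k ≥ λ_{x,1} ≥ ⋯ ≥ λ_{x,r} ≥ 0, write |ω| = Σ_x |λ_x|, z(v)_j = exp(2πi v_j / (r + k)),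
S_λ(v) = det(z(v)_j^{λ_i + r - i}) / det(z(v)_j^{r - i}) (Schur value), P(v) = ∏_{i<j} (2 sin(π (v_i
- v_j)/(r + k)))², and let V_g(r, d, ω) = (-1)^{d(r-1)} (k/r)^g (r (r+k)^{r-1})^{g-1} Σ_v exp(2πi
(d/r - |ω| / (r (r+k))) Σ_j v_j) · ∏_x S_{λ_x}(v) / P(v)^{g-1}, the sum over integer vectors r + k >
v_1 > ⋯ > v_{r-1} > v_r = 0 (the right-hand side of the Verlinde formula; it depends on ω only
through |ω| and the function v ↦ ∏_x S_{λ_x}(v), and is written that way below, with (r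
(r+k)^{r-1})^{g-1} as the g-th power divided once and 1/P^{g-1} as P/P^g). Then V_{g+1}(r, d, ω) =
Σ_μ V_g(r, d, ω^μ), the sum over all μ with k > μ_1 ≥ ⋯ ≥ μ_r ≥ 0, where ω^μ adjoins to ω the two
partitions μ and μ* = (k - μ_r, …, k - μ_1). Indices are 0-based below. -/
theorem result (r k : ℕ) (hr : 1 ≤ r) (hk : 1 ≤ k)
    (g : ℕ) (d : ℤ) (ι : Type) [Fintype ι] (lam : ι → Fin r → ℕ)
    (hlam : ∀ x, Antitone (lam x) ∧ ∀ i, lam x i ≤ k)
    (z : (Fin r → ℕ) → Fin r → ℂ)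
    (hz : ∀ v j, z v j = Complex.exp (2 * Real.pi * Complex.I * (v j : ℂ) / ((r : ℂ) + k)))
    (S : (Fin r → ℕ) → (Fin r → ℕ) → ℂ)
    (hS : ∀ μ v, S μ v = (Matrix.of fun i j : Fin r => z v j ^ (μ i + (r - 1 - (i : ℕ)))).det /
        (Matrix.of fun i j : Fin r => z v j ^ (r - 1 - (i : ℕ))).det)
    (P : (Fin r → ℕ) → ℝ)
    (hP : ∀ v, P v = ∏ p ∈ (Finset.univ : Finset (Fin r × Fin r)).filter (fun p => p.1 < p.2),
        ((2 : ℝ) * Real.sin (Real.pi * ((v p.1 : ℝ) - (v p.2 : ℝ)) / ((r : ℝ) + k))) ^ 2)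
    (V : ℕ → ℤ → ℕ → ((Fin r → ℕ) → ℂ) → ℂ)
    (hV : ∀ (g' : ℕ) (d' : ℤ) (w : ℕ) (Sω : (Fin r → ℕ) → ℂ), V g' d' w Sω =
        (-1 : ℂ) ^ (d' * ((r : ℤ) - 1)) * ((k : ℂ) / r) ^ g' *
          ((((r : ℂ) * ((r : ℂ) + k) ^ (r - 1)) ^ g') / ((r : ℂ) * ((r : ℂ) + k) ^ (r - 1))) *
          ∑ v ∈ (Finset.univ : Finset (Fin r → Fin (r + k))).filter
            (fun v : Fin r → Fin (r + k) => StrictAnti v ∧ ∀ i : Fin r, (i : ℕ) = r - 1 → (v i : ℕ) = 0),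
            Complex.exp (2 * Real.pi * Complex.I * ((d' : ℂ) / r - (w : ℂ) / ((r : ℂ) * ((r : ℂ) + k))) *
                ((∑ j, (v j : ℕ) : ℕ) : ℂ)) *
              Sω (fun j => (v j : ℕ)) *
              (((P (fun j => (v j : ℕ)) : ℂ)) / ((P (fun j => (v j : ℕ)) : ℂ)) ^ g')) :
    V (g + 1) d (∑ x, ∑ i, lam x i) (fun v => ∏ x, S (lam x) v) =
      ∑ μ ∈ (Finset.univ : Finset (Fin r → Fin k)).filter (fun μ : Fin r → Fin k => Antitone μ),
        V g d ((∑ x, ∑ i, lam x i) + (∑ i, (μ i : ℕ)) + (∑ i, (k - (μ (Fin.rev i) : ℕ))))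
          (fun v => (∏ x, S (lam x) v) * S (fun i => (μ i : ℕ)) v *
            S (fun i => k - (μ (Fin.rev i) : ℕ)) v) := by
  classical
  haveI : NeZero (r + k) := ⟨by omega⟩
  obtain ⟨W, hW⟩ : ∃ W : ℕ, W = ∑ x, ∑ i, lam x i := ⟨_, rfl⟩
  rw [← hW]
  have hr0 : (r : ℂ) ≠ 0 := Nat.cast_ne_zero.mpr (by omega)
  have hN0 : ((r : ℂ) + k) ≠ 0 := by
    have : ((r + k : ℕ) : ℂ) ≠ 0 := Nat.cast_ne_zero.mpr (by omega)
    simpa using this
  -- the weight of the adjoined pair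
  have hμsum : ∀ μ : Fin r → Fin k,
      ((W + (∑ i, (μ i : ℕ)) + (∑ i, (k - (μ (Fin.rev i) : ℕ))) : ℕ) : ℂ) =
        (W : ℂ) + (r : ℂ) * (k : ℂ) := by
    intro μ
    have h1 : ∑ i : Fin r, (k - (μ (Fin.rev i) : ℕ)) + ∑ i : Fin r, (μ i : ℕ) = r * k := by
      have h2 : ∑ i : Fin r, ((μ (Fin.rev i) : Fin k) : ℕ) = ∑ i : Fin r, (μ i : ℕ) :=
        Equiv.sum_comp Fin.revPerm (fun i => ((μ i : Fin k) : ℕ))
      rw [← h2, ← Finset.sum_add_distrib]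
      have h3 : ∀ i : Fin r, (k - (μ (Fin.rev i) : ℕ)) + (μ (Fin.rev i) : ℕ) = k := by
        intro i
        have := (μ (Fin.rev i)).isLt
        omega
      simp only [h3, Finset.sum_const, Finset.card_univ, Fintype.card_fin, smul_eq_mul]
    have h4 : W + (∑ i, (μ i : ℕ)) + (∑ i, (k - (μ (Fin.rev i) : ℕ))) = W + r * k := by omega
    rw [h4]
    push_cast
    ring
  simp only [hV, hμsum]
  rw [← Finset.mul_sum, Finset.sum_comm]
  -- rearrange the inner sums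
  have hinner : ∀ v : Fin r → Fin (r + k),
      ∑ μ ∈ (Finset.univ : Finset (Fin r → Fin k)).filter (fun μ : Fin r → Fin k => Antitone μ),
        Complex.exp (2 * Real.pi * Complex.I *
          ((d : ℂ) / r - ((W : ℂ) + (r : ℂ) * (k : ℂ)) / ((r : ℂ) * ((r : ℂ) + k))) *
                ((∑ j, (v j : ℕ) : ℕ) : ℂ)) *
          ((∏ x, S (lam x) (fun j => (v j : ℕ))) * S (fun i => (μ i : ℕ)) (fun j => (v j : ℕ)) *
            S (fun i => k - (μ (Fin.rev i) : ℕ)) (fun j => (v j : ℕ))) *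
          (((P (fun j => (v j : ℕ)) : ℂ)) / ((P (fun j => (v j : ℕ)) : ℂ)) ^ g) =
      Complex.exp (2 * Real.pi * Complex.I *
          ((d : ℂ) / r - ((W : ℂ) + (r : ℂ) * (k : ℂ)) / ((r : ℂ) * ((r : ℂ) + k))) *
                ((∑ j, (v j : ℕ) : ℕ) : ℂ)) * (∏ x, S (lam x) (fun j => (v j : ℕ))) *
        (((P (fun j => (v j : ℕ)) : ℂ)) / ((P (fun j => (v j : ℕ)) : ℂ)) ^ g) *
        ∑ μ ∈ (Finset.univ : Finset (Fin r → Fin k)).filter (fun μ : Fin r → Fin k => Antitone μ),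
          S (fun i => (μ i : ℕ)) (fun j => (v j : ℕ)) *
            S (fun i => k - (μ (Fin.rev i) : ℕ)) (fun j => (v j : ℕ)) := by
    intro v
    rw [Finset.mul_sum]
    refine Finset.sum_congr rfl (fun μ _ => ?_)
    ring
  rw [Finset.sum_congr rfl (fun v _ => hinner v)]
  rw [Finset.mul_sum, Finset.mul_sum]
  refine Finset.sum_congr rfl (fun v hv => ?_)
  simp only [Finset.mem_filter, Finset.mem_univ, true_and] at hv
  obtain ⟨vv, hvv⟩ : ∃ vv : Fin r → ℕ, vv = fun j => (v j : ℕ) := ⟨_, rfl⟩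
  rw [← hvv]
  have hvanti : StrictAnti vv := by
    rw [hvv]
    exact fun a b hab => hv.1 hab
  have hvlt : ∀ i, vv i < r + k := by
    intro i
    rw [hvv]
    exact (v i).isLt
  have h77 := Groth.Agent.S18377.result r k hr hk vv hvanti hvlt (z vv) (fun j => hz vv j)
    (fun μ => S μ vv) (fun μ => hS μ vv)
  rw [h77]
  -- the Vandermonde product is `P`
  have hPc : (∏ p ∈ (Finset.univ : Finset (Fin r × Fin r)).filter (fun p => p.1 < p.2),
          (((2 : ℝ) * Real.sin (Real.pi * ((vv p.1 : ℝ) - (vv p.2 : ℝ)) / ((r : ℝ) + k))) ^ 2 : ℝ) : ℂ) =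
      ((P vv : ℝ) : ℂ) := by
    rw [hP, Complex.ofReal_prod]
  rw [hPc]
  have hzv : ∀ j, z vv j = chi (r + k) (vv j : ℤ) := by
    intro j
    rw [hz]
    unfold chi
    congr 1
    push_cast
    ring
  have hP0 : ((P vv : ℝ) : ℂ) ≠ 0 := by
    have h1 : ((P vv : ℝ) : ℂ) = D (r + k) (delta r) vv *
        (starRingEnd ℂ) (D (r + k) (delta r) vv) := by
      rw [hP, ← prod_sin_eq (N := r + k) vv]
      push_cast
      rfl
    rw [h1]
    have hD0 : D (r + k) (delta r) vv ≠ 0 := D_delta_ne_zero vv hvanti.injective hvlt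
    exact mul_ne_zero hD0 ((map_ne_zero _).mpr hD0)
  have hexp : Complex.exp (2 * Real.pi * Complex.I *
        ((d : ℂ) / r - (W : ℂ) / ((r : ℂ) * ((r : ℂ) + k))) * ((∑ j, vv j : ℕ) : ℂ)) =
      Complex.exp (2 * Real.pi * Complex.I *
          ((d : ℂ) / r - ((W : ℂ) + (r : ℂ) * (k : ℂ)) / ((r : ℂ) * ((r : ℂ) + k))) *
                ((∑ j, vv j : ℕ) : ℂ)) *
        Complex.exp (2 * Real.pi * Complex.I * (k : ℂ) * ((∑ j, vv j : ℕ) : ℂ) / ((r : ℂ) + k)) := by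
    rw [← Complex.exp_add]
    congr 1
    field_simp
    ring
  rw [hexp]
  have hpow : ((r : ℂ) * ((r : ℂ) + k) ^ (r - 1)) ^ (g + 1) =
      ((r : ℂ) * ((r : ℂ) + k) ^ (r - 1)) ^ g * ((r : ℂ) * ((r : ℂ) + k) ^ (r - 1)) := pow_succ _ _
  have hA0 : ((r : ℂ) * ((r : ℂ) + k) ^ (r - 1)) ≠ 0 := mul_ne_zero hr0 (pow_ne_zero _ hN0)
  rw [hpow, pow_succ ((k : ℂ) / r) g, pow_succ ((P vv : ℝ) : ℂ) g]
  field_simp

end Groth.Agent.S18381
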