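import Groth.Statements.S18383
import Groth.Agent.Lib.Helper9.GrpShear
import Mathlib.AlgebraicGeometry.Morphisms.ClosedImmersion
import Mathlib.CategoryTheory.MorphismProperty.Limits

set_option autoImplicit false
universe u
open CategoryTheory CategoryTheory.Limits MonoidalCategory CartesianMonoidalCategory MonObj GrpObj AlgebraicGeometry
open GrpSch

namespace Groth.Agent.S18383

/-- Let S be a scheme, H an S-group scheme and i : G → H a homomorphism of S-group schemes which is a
closed immersion (G a closed subgroup scheme of H). Then the left-translation action of G on H is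
strictly free: the S-morphism G ×_S H → H ×_S H, (g, h) ↦ (i(g)·h, h), is a closed immersion. -/
theorem result {S : Scheme.{u}} (G H : Over S)
    [GrpObj G] [GrpObj H] (i : G ⟶ H) [IsMonHom i] [IsClosedImmersion i.left] :
    IsClosedImmersion (CartesianMonoidalCategory.lift ((i ▷ H) ≫ μ[H]) (snd G H)).left := by
  have h1 : lift ((i ▷ H) ≫ μ[H]) (snd G H) =
      (i ▷ H) ≫ (Groth.Agent.Lib.Helper9.shearSnd H).hom := by
    simp only [Groth.Agent.Lib.Helper9.shearSnd]
    rw [comp_lift, whiskerRight_snd]
  rw [h1, Over.comp_left]
  have h2 : IsClosedImmersion (i ▷ H).left := by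
    rw [CategoryTheory.Over.whiskerRight_left]
    exact MorphismProperty.pullbackMap (P := @IsClosedImmersion) inferInstance
      (inferInstance : IsClosedImmersion (𝟙 H.left)) (Over.w i).symm (Category.id_comp _).symm
  have h3 : IsIso (Groth.Agent.Lib.Helper9.shearSnd H).hom.left :=
    inferInstanceAs (IsIso ((Over.forget S).map (Groth.Agent.Lib.Helper9.shearSnd H).hom))
  infer_instance

end Groth.Agent.S18383
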