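import Groth.Statements.S18386
import Mathlib


set_option autoImplicit false
universe u
open LVCorr

namespace Groth.Agent.S18386

open AlgebraicGeometry in
/-- Let X be a connected Noetherian scheme and I a quasi-coherent sheaf of ideals on X, different from
the structure sheaf, such that I^k = I^(k+1) for some natural number k. Then I^k = 0. -/
theorem result (X : Scheme.{u}) [AlgebraicGeometry.IsNoetherian X]
    [ConnectedSpace X] (I : X.IdealSheafData) (hI : I ≠ ⊤) (k : ℕ)
    (h : I ^ k = I ^ (k + 1)) : I ^ k = ⊥ := by
  classical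
  -- local structure: on each affine the ideal of I^k is generated by an idempotent
  have hloc : ∀ U : X.affineOpens, ∃ e : Γ(X, U.1), IsIdempotentElem e ∧
      (I ^ k).ideal U = Ideal.span {e} := by
    intro U
    have hN : IsNoetherianRing Γ(X, U.1) := IsLocallyNoetherian.component_noetherian U
    have h1 : (I.ideal U) ^ k = (I.ideal U) ^ (k + 1) := by
      have := congrArg (fun J : X.IdealSheafData => J.ideal U) h
      simpa using this
    have h2 : ∀ m : ℕ, (I.ideal U) ^ (k + m) = (I.ideal U) ^ k := by
      intro m
      induction m with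
      | zero => rfl
      | succ m ih =>
        rw [← add_assoc, pow_succ, ih, ← pow_succ, ← h1]
    have h3 : IsIdempotentElem ((I ^ k).ideal U) := by
      show (I ^ k).ideal U * (I ^ k).ideal U = (I ^ k).ideal U
      rw [Scheme.IdealSheafData.ideal_pow]
      show (I.ideal U) ^ k * (I.ideal U) ^ k = _
      rw [← pow_add, h2]
      rfl
    have hfg : ((I ^ k).ideal U).FG := IsNoetherian.noetherian _
    exact (Ideal.isIdempotentElem_iff_of_fg _ hfg).1 h3
  -- the support of I^k is open
  have hopen : IsOpen ((I ^ k).support : Set X) := by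
    rw [isOpen_iff_forall_mem_open]
    intro x hx
    obtain ⟨U, hU, hxU, -⟩ := exists_isAffineOpen_mem_and_subset (x := x) (U := ⊤) trivial
    obtain ⟨e, he, hIe⟩ := hloc ⟨U, hU⟩
    refine ⟨X.basicOpen (1 - e), ?_, (X.basicOpen (1 - e)).2, ?_⟩
    · intro y hy
      have hyU : y ∈ U := X.basicOpen_le _ hy
      rw [SetLike.mem_coe, Scheme.IdealSheafData.mem_support_iff_of_mem (U := ⟨U, hU⟩) hyU, hIe,
        Scheme.zeroLocus_span, Scheme.zeroLocus_singleton]
      intro hye
      have : y ∈ X.basicOpen ((1 - e) * e) := by
        rw [Scheme.basicOpen_mul]; exact ⟨hy, hye⟩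
      rw [sub_mul, one_mul, he.eq, sub_self, Scheme.basicOpen_zero] at this
      exact this
    · have hx' := (Scheme.IdealSheafData.mem_support_iff_of_mem (U := ⟨U, hU⟩) hxU).1 hx
      rw [hIe, Scheme.zeroLocus_span, Scheme.zeroLocus_singleton] at hx'
      by_contra hne
      have h1 : x ∉ X.basicOpen (e + (1 - e)) := by
        intro h2
        have := X.basicOpen_add_le e (1 - e) h2
        rcases this with h3 | h3
        · exact hx' h3
        · exact hne h3
      apply h1
      rw [add_sub_cancel, Scheme.basicOpen_of_isUnit _ isUnit_one]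
      exact hxU
  have hclopen : IsClopen ((I ^ k).support : Set X) := ⟨(I ^ k).support.2, hopen⟩
  rcases isClopen_iff.1 hclopen with h0 | h1
  · exfalso
    have h2 : (I ^ k).support = ⊥ := TopologicalSpace.Closeds.ext h0
    rw [Scheme.IdealSheafData.support_eq_bot_iff] at h2
    apply hI
    rw [h] at h2
    apply top_le_iff.1
    intro U
    have h3 := congrArg (fun J : X.IdealSheafData => J.ideal U) h2
    simp only [Scheme.IdealSheafData.ideal_pow, Scheme.IdealSheafData.ideal_top] at h3
    have h4 : I.ideal U = ⊤ := by
      have h5 : (I.ideal U) ^ (k + 1) ≤ I.ideal U := Ideal.pow_le_self (Nat.succ_ne_zero k)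
      exact top_le_iff.1 (by
        have h6 : (⊤ : Ideal Γ(X, U.1)) = (I.ideal U) ^ (k + 1) := h3.symm
        rw [h6]; exact h5)
    rw [h4]
    exact le_rfl
  · apply le_bot_iff.1
    intro U
    obtain ⟨e, he, hIe⟩ := hloc U
    rw [hIe]
    have hbo : X.basicOpen e = ⊥ := by
      apply le_bot_iff.1
      intro y hy
      have hyU : y ∈ U.1 := X.basicOpen_le _ hy
      have hy' : y ∈ ((I ^ k).support : Set X) := by rw [h1]; trivial
      have := (Scheme.IdealSheafData.mem_support_iff_of_mem (U := U) hyU).1 hy'
      rw [hIe, Scheme.zeroLocus_span, Scheme.zeroLocus_singleton] at this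
      exact (this hy).elim
    have hnil : IsNilpotent e :=
      (Scheme.isNilpotent_iff_basicOpen_eq_bot_of_isCompact U.2.isCompact e).2 hbo
    have he0 : e = 0 := by
      obtain ⟨n, hn⟩ := hnil
      cases n with
      | zero => rw [pow_zero] at hn; rw [← mul_one e, hn, mul_zero]
      | succ n => rwa [he.pow_succ_eq] at hn
    rw [he0]
    simp

end Groth.Agent.S18386
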