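import Groth.Statements.S18387
import Mathlib.RingTheory.Artinian.Ring
import Mathlib.LinearAlgebra.FiniteDimensional.Lemmas
import Mathlib.RingTheory.Artinian.Algebra

set_option autoImplicit false
universe u
open LVCorr

namespace Groth.Agent.S18387

/-- In the affine form which its proof establishes. Let A be a commutative algebra over a field F which
is finite-dimensional of dimension d over F. Then the d-th power of the nilradical of A vanishes.
(Applied to the fibre algebra A = B/mB of a quasi-finite morphism over a closed point with maximal
ideal m, this says that the d-th power of the radical of mB lies in mB, i.e. the ramification of the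
morphism at that point is at most the degree d of the fibre.) -/
theorem result (F A : Type u) [Field F] [CommRing A] [Algebra F A]
    [FiniteDimensional F A] : nilradical A ^ Module.finrank F A = ⊥ := by
  have hart : IsArtinianRing A := IsArtinianRing.of_finite F A
  set N := nilradical A with hN
  obtain ⟨m, hm⟩ := IsArtinianRing.isNilpotent_nilradical (R := A)
  rw [Ideal.zero_eq_bot] at hm
  have hstab : ∀ i, N ^ i = N ^ (i + 1) → N ^ i = ⊥ := by
    intro i h
    have hj : ∀ j, N ^ i = N ^ (i + j) := by
      intro j
      induction j with
      | zero => rfl
      | succ j ih =>
        rw [← add_assoc, pow_succ, ← ih, ← pow_succ, ← h]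
    rw [hj m, pow_add, hm, Ideal.mul_bot]
  have claim : ∀ i, N ^ i = ⊥ ∨
      Module.finrank F ((N ^ i).restrictScalars F) + i ≤ Module.finrank F A := by
    intro i
    induction i with
    | zero =>
      right
      rw [pow_zero, Ideal.one_eq_top, Submodule.restrictScalars_top, finrank_top, add_zero]
    | succ i ih =>
      rcases ih with h | h
      · left
        rw [pow_succ, h, Ideal.bot_mul]
      · by_cases heq : N ^ i = N ^ (i + 1)
        · left
          rw [← heq]
          exact hstab i heq
        · right
          have hlt : N ^ (i + 1) < N ^ i :=
            lt_of_le_of_ne (Ideal.pow_le_pow_right (Nat.le_succ i)) (Ne.symm heq)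
          have hlt' : (N ^ (i + 1)).restrictScalars F < (N ^ i).restrictScalars F :=
            (Submodule.restrictScalars_lt (S := F)).mpr hlt
          have := Submodule.finrank_lt_finrank_of_lt hlt'
          omega
  rcases claim (Module.finrank F A) with h | h
  · exact h
  · have h0 : Module.finrank F ((N ^ Module.finrank F A).restrictScalars F) = 0 := by omega
    rw [Submodule.finrank_eq_zero] at h0
    exact (Submodule.restrictScalars_eq_bot_iff F A A).mp h0

end Groth.Agent.S18387
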