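import Groth.Statements.S18389
import Mathlib.AlgebraicGeometry.Morphisms.Proper
import Mathlib.AlgebraicGeometry.Restrict

set_option autoImplicit false
universe u
open LVCorr

namespace Groth.Agent.S18389

open AlgebraicGeometry CategoryTheory in
/-- Let j : C → C̄ be an open immersion with dense image and jX : X → X̄ an open immersion, and let c₁ :
C → X and c̄₁ : C̄ → X̄ satisfy j followed by c̄₁ equals c₁ followed by jX, with c̄₁ separated. Let
U be an open subset of X such that c₁⁻¹(U) is dense in C and the restriction c₁⁻¹(U) → U of c₁ is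
proper. Then c̄₁⁻¹(jX(U)) = j(c₁⁻¹(U)) as open subsets of C̄. (In the source all schemes are
separated of finite type over a field, C̄ and X̄ are compactifications of a correspondence and of X,
so that c̄₁ is automatically separated.) -/
theorem result {C Cb X Xb : Scheme.{u}}
    (j : C ⟶ Cb) [IsOpenImmersion j] (hj : DenseRange j.base)
    (jX : X ⟶ Xb) [IsOpenImmersion jX] (c₁ : C ⟶ X) (cb₁ : Cb ⟶ Xb) [IsSeparated cb₁]
    (h : j ≫ cb₁ = c₁ ≫ jX) (U : X.Opens) (hU : Dense ((c₁ ⁻¹ᵁ U : C.Opens) : Set C))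
    [IsProper (c₁ ∣_ U)] :
    cb₁ ⁻¹ᵁ (jX ''ᵁ U) = j ''ᵁ (c₁ ⁻¹ᵁ U) := by
  set V : C.Opens := c₁ ⁻¹ᵁ U with hV
  set W : Cb.Opens := cb₁ ⁻¹ᵁ (jX ''ᵁ U) with hW
  -- `j(V) ⊆ W`
  have hVW : ∀ v : C, v ∈ V → j v ∈ W := by
    intro v hv
    show cb₁ (j v) ∈ jX ''ᵁ U
    have : cb₁ (j v) = jX (c₁ v) := by
      have := congrArg (fun φ : C ⟶ Xb => φ v) h
      simpa using this
    rw [this]
    exact ⟨c₁ v, hv, rfl⟩
  -- the morphism `ι : V ⟶ W`
  have hrange1 : Set.range (V.ι ≫ j) ⊆ Set.range W.ι := by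
    rintro _ ⟨v, rfl⟩
    rw [Scheme.Opens.range_ι]
    exact hVW (V.ι v) v.2
  let ι : V.toScheme ⟶ W.toScheme := IsOpenImmersion.lift W.ι (V.ι ≫ j) hrange1
  have hι : ι ≫ W.ι = V.ι ≫ j := IsOpenImmersion.lift_fac _ _ _
  -- the morphism `g : W ⟶ U`
  have hrange2 : Set.range (W.ι ≫ cb₁) ⊆ Set.range (U.ι ≫ jX) := by
    rintro _ ⟨w, rfl⟩
    obtain ⟨u, hu, hu'⟩ : cb₁ (W.ι w) ∈ jX ''ᵁ U := w.2
    exact ⟨⟨u, hu⟩, hu'⟩
  let g : W.toScheme ⟶ U.toScheme := IsOpenImmersion.lift (U.ι ≫ jX) (W.ι ≫ cb₁) hrange2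
  have hg : g ≫ (U.ι ≫ jX) = W.ι ≫ cb₁ := IsOpenImmersion.lift_fac _ _ _
  have hgsep : IsSeparated g := by
    have : IsSeparated (g ≫ (U.ι ≫ jX)) := by rw [hg]; infer_instance
    exact IsSeparated.of_comp g (U.ι ≫ jX)
  have hcomp : ι ≫ g = c₁ ∣_ U := by
    rw [← cancel_mono (U.ι ≫ jX), Category.assoc, hg, ← Category.assoc, hι, Category.assoc, h,
      ← Category.assoc, ← Category.assoc, morphismRestrict_ι]
  have hproper : IsProper ι := by
    have : IsProper (ι ≫ g) := by rw [hcomp]; infer_instance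
    exact IsProper.of_comp ι g
  have hclosed : IsClosed (Set.range ι) := ι.isClosedMap.isClosed_range
  -- density
  have hdenseC : Dense (j '' (V : Set C)) := hj.dense_image j.continuous hU
  have hdenseW : Dense (W.ι ⁻¹' (j '' (V : Set C))) :=
    hdenseC.preimage W.ι.isOpenEmbedding.isOpenMap
  have hsub : W.ι ⁻¹' (j '' (V : Set C)) ⊆ Set.range ι := by
    rintro w ⟨v, hv, hvw⟩
    refine ⟨⟨v, hv⟩, ?_⟩
    apply W.ι.isOpenEmbedding.injective
    have := congrArg (fun φ : V.toScheme ⟶ Cb => φ ⟨v, hv⟩) hι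
    simp only [Scheme.Hom.comp_apply] at this
    rw [this, ← hvw]
    rfl
  have huniv : Set.range ι = Set.univ := by
    rw [← hclosed.closure_eq]
    exact (hdenseW.mono hsub).closure_eq
  -- conclude
  ext x
  constructor
  · intro hx
    have : (⟨x, hx⟩ : W) ∈ Set.range ι := by rw [huniv]; trivial
    obtain ⟨v, hv⟩ := this
    refine ⟨V.ι v, v.2, ?_⟩
    have h1 := congrArg (fun φ : V.toScheme ⟶ Cb => φ v) hι
    simp only [Scheme.Hom.comp_apply] at h1
    have h2 : j (V.ι v) = x := by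
      rw [← h1, hv]
      rfl
    exact h2
  · rintro ⟨v, hv, rfl⟩
    exact hVW v hv

end Groth.Agent.S18389
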