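import Groth.Statements.S18390
import Mathlib.RingTheory.Ideal.Operations
import Mathlib.RingTheory.Ideal.Maps
import Mathlib.RingTheory.Finiteness.Basic
import Mathlib.RingTheory.Finiteness.Ideal

set_option autoImplicit false
universe u
open LVCorr

namespace Groth.Agent.S18390

theorem sup_pow_add_le {R : Type*} [CommRing R] (P Q : Ideal R) :
    ∀ p q : ℕ, (P ⊔ Q) ^ (p + q) ≤ P ^ p * (P ⊔ Q) ^ q ⊔ Q ^ q * (P ⊔ Q) ^ p := by
  intro p
  induction p with
  | zero =>
    intro q
    apply le_sup_of_le_left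
    rw [pow_zero, Ideal.one_eq_top, Ideal.top_mul, zero_add]
  | succ p ihp =>
    intro q
    induction q with
    | zero =>
      apply le_sup_of_le_right
      rw [pow_zero, Ideal.one_eq_top, Ideal.top_mul, add_zero]
    | succ q ihq =>
      have hPT : P ≤ P ⊔ Q := le_sup_left
      have hQT : Q ≤ P ⊔ Q := le_sup_right
      have e1 : (P ⊔ Q) ^ (p + 1 + (q + 1)) = P * (P ⊔ Q) ^ (p + (q + 1)) ⊔
          Q * (P ⊔ Q) ^ (p + 1 + q) := by
        have : p + 1 + (q + 1) = (p + (q + 1)) + 1 := by ring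
        rw [this, pow_succ', Ideal.sup_mul]
        congr 2
        ring
      rw [e1]
      apply sup_le
      · calc P * (P ⊔ Q) ^ (p + (q + 1))
            ≤ P * (P ^ p * (P ⊔ Q) ^ (q + 1) ⊔ Q ^ (q + 1) * (P ⊔ Q) ^ p) :=
              Ideal.mul_mono_right (ihp (q + 1))
          _ = P ^ (p + 1) * (P ⊔ Q) ^ (q + 1) ⊔ Q ^ (q + 1) * (P * (P ⊔ Q) ^ p) := by
              rw [Ideal.mul_sup, pow_succ' P p, mul_assoc, mul_left_comm P (Q ^ (q + 1))]
          _ ≤ P ^ (p + 1) * (P ⊔ Q) ^ (q + 1) ⊔ Q ^ (q + 1) * (P ⊔ Q) ^ (p + 1) := by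
              apply sup_le_sup_left
              apply Ideal.mul_mono_right
              rw [pow_succ' (P ⊔ Q) p]
              exact Ideal.mul_mono_left hPT
      · calc Q * (P ⊔ Q) ^ (p + 1 + q)
            ≤ Q * (P ^ (p + 1) * (P ⊔ Q) ^ q ⊔ Q ^ q * (P ⊔ Q) ^ (p + 1)) :=
              Ideal.mul_mono_right ihq
          _ = P ^ (p + 1) * (Q * (P ⊔ Q) ^ q) ⊔ Q ^ (q + 1) * (P ⊔ Q) ^ (p + 1) := by
              rw [Ideal.mul_sup, mul_left_comm Q (P ^ (p + 1)), pow_succ' Q q, mul_assoc]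
          _ ≤ P ^ (p + 1) * (P ⊔ Q) ^ (q + 1) ⊔ Q ^ (q + 1) * (P ⊔ Q) ^ (p + 1) := by
              apply sup_le_sup_right
              apply Ideal.mul_mono_right
              rw [pow_succ' (P ⊔ Q) q]
              exact Ideal.mul_mono_left hQT

/-- In the affine, ring-theoretic form which its proof establishes. Let φ : A' → A be a ring
homomorphism, I' a finitely generated ideal of A' and I an ideal of A containing the image of I'.
Then some power I'^k is mapped into I^(k+1) if and only if for every n ≥ 1 and every a ∈ I'^n there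
is a k with φ(a)^k ∈ I^(nk+1). (Geometrically, for a morphism f : (X, Z) → (X', Z') of pairs with Z
a closed subscheme of the preimage of Z', the normal cone of Z in X is the spectrum of the
associated graded algebra of I, and the second condition says that the induced map of normal cones
sends the normal cone of Z set-theoretically into the zero section Z'; the source states the
equivalence in that language.) -/
theorem result (A' A : Type u) [CommRing A'] [CommRing A]
    (φ : A' →+* A) (I' : Ideal A') (hI' : I'.FG) (I : Ideal A) (hle : I'.map φ ≤ I) :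
    (∃ k : ℕ, (I' ^ k).map φ ≤ I ^ (k + 1)) ↔
      ∀ n : ℕ, 1 ≤ n → ∀ a ∈ I' ^ n, ∃ k : ℕ, 1 ≤ k ∧ φ a ^ k ∈ I ^ (n * k + 1) := by
  constructor
  · rintro ⟨k, hk⟩ n hn a ha
    rcases Nat.eq_zero_or_pos k with rfl | hkpos
    · -- k = 0: I = ⊤
      have hI : I = ⊤ := by
        rw [pow_zero, Ideal.one_eq_top, Ideal.map_top, zero_add, pow_one] at hk
        exact top_le_iff.mp hk
      refine ⟨1, le_rfl, ?_⟩
      rw [hI, Ideal.top_pow]
      trivial
    · refine ⟨k, hkpos, ?_⟩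
      have h1 : a ^ k ∈ (I' ^ k) ^ n := by
        rw [← pow_mul, mul_comm, pow_mul]
        exact Ideal.pow_mem_pow ha k
      have h2 : φ (a ^ k) ∈ ((I' ^ k) ^ n).map φ := Ideal.mem_map_of_mem φ h1
      rw [Ideal.map_pow] at h2
      have h3 : ((I' ^ k).map φ) ^ n ≤ (I ^ (k + 1)) ^ n := Ideal.pow_right_mono hk n
      have h4 : (I ^ (k + 1)) ^ n ≤ I ^ (n * k + 1) := by
        rw [← pow_mul]
        apply Ideal.pow_le_pow_right
        nlinarith
      rw [map_pow] at h2
      exact h4 (h3 h2)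
  · intro h
    -- reduce to n = 1
    have h1 : ∀ a ∈ I', ∃ k : ℕ, 1 ≤ k ∧ φ a ^ k ∈ I ^ (k + 1) := by
      intro a ha
      obtain ⟨k, hk, hk'⟩ := h 1 le_rfl a (by rwa [pow_one])
      exact ⟨k, hk, by rwa [one_mul] at hk'⟩
    suffices hmain : ∀ (J : Ideal A') (_ : J.FG),
        (∀ a ∈ J, ∃ k : ℕ, 1 ≤ k ∧ φ a ^ k ∈ I ^ (k + 1)) → J.map φ ≤ I →
          ∃ K : ℕ, 1 ≤ K ∧ (J ^ K).map φ ≤ I ^ (K + 1) by
      obtain ⟨K, _, hK⟩ := hmain I' hI' h1 hle
      exact ⟨K, hK⟩
    intro J hJ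
    induction J, hJ using Submodule.fg_induction with
    | singleton x =>
      intro hx _
      obtain ⟨k, hk, hk'⟩ := hx x (Submodule.mem_span_singleton_self x)
      refine ⟨k, hk, ?_⟩
      have : (Submodule.span A' {x} : Ideal A') = Ideal.span {x} := rfl
      rw [this, Ideal.span_singleton_pow, Ideal.map_span, Set.image_singleton, Ideal.span_le,
        Set.singleton_subset_iff, map_pow]
      exact hk'
    | sup N₁ N₂ hN₁ hN₂ ih₁ ih₂ =>
      intro hx hmap
      have hN₁le : N₁ ≤ N₁ ⊔ N₂ := le_sup_left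
      have hN₂le : N₂ ≤ N₁ ⊔ N₂ := le_sup_right
      obtain ⟨p, hp, hp'⟩ := ih₁ (fun a ha => hx a (hN₁le ha))
        ((Ideal.map_mono hN₁le).trans hmap)
      obtain ⟨q, hq, hq'⟩ := ih₂ (fun a ha => hx a (hN₂le ha))
        ((Ideal.map_mono hN₂le).trans hmap)
      refine ⟨p + q, by omega, ?_⟩
      have hT : ∀ j : ℕ, Ideal.map φ ((N₁ ⊔ N₂ : Ideal A') ^ j) ≤ I ^ j := by
        intro j
        rw [Ideal.map_pow]
        exact Ideal.pow_right_mono hmap j
      calc Ideal.map φ ((N₁ ⊔ N₂ : Ideal A') ^ (p + q))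
          ≤ Ideal.map φ ((N₁ : Ideal A') ^ p * (N₁ ⊔ N₂ : Ideal A') ^ q ⊔
              (N₂ : Ideal A') ^ q * (N₁ ⊔ N₂ : Ideal A') ^ p) :=
            Ideal.map_mono (sup_pow_add_le N₁ N₂ p q)
        _ = Ideal.map φ ((N₁ : Ideal A') ^ p) * Ideal.map φ ((N₁ ⊔ N₂ : Ideal A') ^ q) ⊔
              Ideal.map φ ((N₂ : Ideal A') ^ q) * Ideal.map φ ((N₁ ⊔ N₂ : Ideal A') ^ p) := by
            rw [Ideal.map_sup, Ideal.map_mul, Ideal.map_mul]
        _ ≤ I ^ (p + 1) * I ^ q ⊔ I ^ (q + 1) * I ^ p :=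
            sup_le_sup (Ideal.mul_mono hp' (hT q)) (Ideal.mul_mono hq' (hT p))
        _ = I ^ (p + q + 1) := by
            rw [← pow_add, ← pow_add]
            have e1 : p + 1 + q = p + q + 1 := by ring
            have e2 : q + 1 + p = p + q + 1 := by ring
            rw [e1, e2, sup_idem]

end Groth.Agent.S18390
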