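import Groth.Statements.S18391
import Mathlib


set_option autoImplicit false
universe u
open LVCorr

namespace Groth.Agent.S18391

/-- Let A be a normal (integrally closed) Noetherian domain and z an element of A such that the radical
of the principal ideal (z) is prime. Then there exist elements w, t of A and a natural number r,
with w not in the radical of (z), such that in the localization A[1/w] the ideal generated by z
equals the ideal generated by t^r and the ideal generated by t is prime. (The condition on w is the
one the printed proof produces and the later use of the lemma needs.) -/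
theorem result (A : Type u) [CommRing A] [IsDomain A]
    [IsNoetherianRing A] [IsIntegrallyClosed A] (z : A) (hz : (Ideal.span {z}).radical.IsPrime) :
    ∃ (w t : A) (r : ℕ), w ∉ (Ideal.span {z}).radical ∧
      Ideal.span {algebraMap A (Localization.Away w) z} =
        Ideal.span {algebraMap A (Localization.Away w) t ^ r} ∧
      (Ideal.span {algebraMap A (Localization.Away w) t}).IsPrime := by
  classical
  set P : Ideal A := (Ideal.span {z}).radical with hPdef
  have hPp : P.IsPrime := hz
  have h1P : (1 : A) ∉ P := fun h => hz.ne_top ((Ideal.eq_top_iff_one _).2 h)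
  by_cases hz0 : z = 0
  · refine ⟨1, 0, 1, h1P, ?_, ?_⟩
    · subst hz0; simp
    · have : IsDomain (Localization.Away (1 : A)) :=
        IsLocalization.isDomain_localization (by simp)
      rw [map_zero, Ideal.span_singleton_eq_bot.2 rfl]
      exact Ideal.isPrime_bot
  -- main case
  have hzP : z ∈ P := Ideal.le_radical (Ideal.mem_span_singleton_self z)
  have hPmin : P ∈ (Ideal.span {z}).minimalPrimes := by
    refine ⟨⟨hz, Ideal.le_radical⟩, fun Q hQ _ => ?_⟩
    exact (Ideal.IsPrime.radical_le_iff hQ.1).2 hQ.2
  have hht : P.height ≤ 1 :=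
    Ideal.height_le_one_of_isPrincipal_of_mem_minimalPrimes (Ideal.span {z}) P hPmin
  -- uniqueness of nonzero prime below P
  have huniq : ∀ Q : Ideal A, Q.IsPrime → Q ≠ ⊥ → Q ≤ P → Q = P := by
    intro Q hQ hQ0 hQP
    by_contra hne
    have hlt : Q < P := lt_of_le_of_ne hQP hne
    have hbot : (⊥ : Ideal A) < Q := bot_lt_iff_ne_bot.2 hQ0
    have : (⊥ : Ideal A).IsPrime := Ideal.isPrime_bot
    have e1 := Ideal.height_add_one_le_of_lt_of_isPrime hbot
    have e2 := Ideal.height_add_one_le_of_lt_of_isPrime hlt
    have e3 : (⊥ : Ideal A).height + 1 + 1 ≤ 1 := (add_le_add_left e1 1).trans (e2.trans hht)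
    have e4 : (1 : ℕ∞) + 1 ≤ (⊥ : Ideal A).height + 1 + 1 := by
      rw [add_assoc]; exact le_add_self
    have := e4.trans e3
    exact absurd this (by decide)
  have hinj : Function.Injective (algebraMap A (Localization.AtPrime P)) :=
    IsLocalization.injective _ P.primeCompl_le_nonZeroDivisors
  have : IsDomain (Localization.AtPrime P) :=
    IsLocalization.isDomain_localization P.primeCompl_le_nonZeroDivisors
  have : IsIntegrallyClosed (Localization.AtPrime P) :=
    isIntegrallyClosed_of_isLocalization _ P.primeCompl P.primeCompl_le_nonZeroDivisors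
  have htfae := tfae_of_isNoetherianRing_of_isLocalRing_of_isDomain (Localization.AtPrime P)
  have h4 : IsIntegrallyClosed (Localization.AtPrime P) ∧
      ∀ Q' : Ideal (Localization.AtPrime P), Q' ≠ ⊥ → Q'.IsPrime →
      Q' = IsLocalRing.maximalIdeal (Localization.AtPrime P) := by
    refine ⟨inferInstance, fun Q' hQ0 hQ' => ?_⟩
    rw [← Localization.AtPrime.eq_maximalIdeal_iff_under_eq]
    apply huniq _ (Ideal.IsPrime.under A Q')
    · intro hbot
      apply hQ0
      rw [← IsLocalization.map_under P.primeCompl (Localization.AtPrime P) Q', hbot, Ideal.map_bot]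
    · have h := Localization.AtPrime.under_maximalIdeal (I := P)
      exact (Ideal.comap_mono (IsLocalRing.le_maximalIdeal hQ'.ne_top)).trans h.le
  have h5 : (IsLocalRing.maximalIdeal (Localization.AtPrime P)).IsPrincipal :=
    (htfae.out 3 4).1 h4
  have h7 : ∀ I : Ideal (Localization.AtPrime P), I ≠ ⊥ →
      ∃ n : ℕ, I = IsLocalRing.maximalIdeal (Localization.AtPrime P) ^ n :=
    (htfae.out 3 6).1 h4
  obtain ⟨ϖ, hϖ⟩ := h5
  obtain ⟨t, s₀, hts⟩ := IsLocalization.exists_mk'_eq P.primeCompl ϖ
  have hm : IsLocalRing.maximalIdeal (Localization.AtPrime P) =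
      Ideal.span {algebraMap A (Localization.AtPrime P) t} := by
    change IsLocalRing.maximalIdeal (Localization.AtPrime P) = Ideal.span {ϖ} at hϖ
    rw [hϖ, Ideal.span_singleton_eq_span_singleton]
    have : algebraMap A (Localization.AtPrime P) t =
        ϖ * algebraMap A (Localization.AtPrime P) s₀ := by
      rw [← hts, IsLocalization.mk'_spec]
    rw [this]
    exact (associated_mul_unit_right ϖ _ (IsLocalization.map_units _ s₀))
  have htP : t ∈ P := by
    rw [← IsLocalization.AtPrime.to_map_mem_maximal_iff (Localization.AtPrime P) P t, hm]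
    exact Ideal.mem_span_singleton_self _
  have hzL : Ideal.span {algebraMap A (Localization.AtPrime P) z} ≠ ⊥ := by
    rw [Ne, Ideal.span_singleton_eq_bot, ← map_zero (algebraMap A (Localization.AtPrime P))]
    exact fun h => hz0 (hinj h)
  obtain ⟨r, hr⟩ := h7 _ hzL
  rw [hm, Ideal.span_singleton_pow, Ideal.span_singleton_eq_span_singleton] at hr
  obtain ⟨u, hu⟩ := hr
  obtain ⟨a, s, has⟩ := IsLocalization.exists_mk'_eq P.primeCompl (u : Localization.AtPrime P)
  have haP : a ∉ P := by
    have : IsUnit (IsLocalization.mk' (Localization.AtPrime P) a s) := has ▸ u.isUnit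
    exact (IsLocalization.AtPrime.isUnit_mk'_iff (Localization.AtPrime P) P a s).1 this
  have heq : z * a = s * t ^ r := by
    apply hinj
    rw [map_mul, map_mul, map_pow, ← hu, ← has]
    rw [mul_left_comm, IsLocalization.mk'_spec']
  -- generators of P
  obtain ⟨G, hG⟩ := (isNoetherianRing_iff_ideal_fg A).1 inferInstance P
  have hgen : ∀ p ∈ G, ∃ (b : A) (sp : P.primeCompl), p * sp = b * t := by
    intro p hp
    have hpP : p ∈ P := hG ▸ Ideal.subset_span hp
    have : algebraMap A (Localization.AtPrime P) p ∈
        IsLocalRing.maximalIdeal (Localization.AtPrime P) :=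
      (IsLocalization.AtPrime.to_map_mem_maximal_iff (Localization.AtPrime P) P p).2 hpP
    rw [hm, Ideal.mem_span_singleton'] at this
    obtain ⟨c, hc⟩ := this
    obtain ⟨b, sp, hbs⟩ := IsLocalization.exists_mk'_eq P.primeCompl c
    refine ⟨b, sp, hinj ?_⟩
    rw [map_mul, map_mul, ← hc, ← hbs, mul_right_comm, mul_comm (IsLocalization.mk' _ b sp),
      IsLocalization.mk'_spec']
  choose! bf sf hsf using hgen
  set w : A := s * a * ∏ p ∈ G, (sf p : A) with hw
  have hwP : w ∉ P := by
    intro h
    rcases hPp.mem_or_mem h with h | h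
    · rcases hPp.mem_or_mem h with h | h
      · exact s.2 h
      · exact haP h
    · obtain ⟨p, -, hp⟩ := (hPp.prod_mem_iff).1 h
      exact (sf p).2 hp
  have hw0 : w ≠ 0 := fun h => hwP (h ▸ P.zero_mem)
  have : IsDomain (Localization.Away w) :=
    IsLocalization.isDomain_localization (powers_le_nonZeroDivisors_of_noZeroDivisors hw0)
  have hwu : IsUnit (algebraMap A (Localization.Away w) w) :=
    IsLocalization.Away.algebraMap_isUnit w
  have hunit : ∀ x : A, x ∣ w → IsUnit (algebraMap A (Localization.Away w) x) := by
    intro x hx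
    exact isUnit_of_dvd_unit ((algebraMap A (Localization.Away w)).map_dvd hx) hwu
  have hsu : IsUnit (algebraMap A (Localization.Away w) s) :=
    hunit _ (Dvd.intro _ (mul_assoc _ _ _).symm)
  have hau : IsUnit (algebraMap A (Localization.Away w) a) :=
    hunit _ ⟨s * ∏ p ∈ G, (sf p : A), by rw [hw]; ring⟩
  have hspu : ∀ p ∈ G, IsUnit (algebraMap A (Localization.Away w) (sf p)) := by
    intro p hp
    exact hunit _ (Dvd.dvd.mul_left (Finset.dvd_prod_of_mem (fun p => (sf p : A)) hp) _)
  refine ⟨w, t, r, hwP, ?_, ?_⟩
  · rw [Ideal.span_singleton_eq_span_singleton]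
    have heq' := congrArg (algebraMap A (Localization.Away w)) heq
    rw [map_mul, map_mul, map_pow] at heq'
    apply associated_of_dvd_dvd
    · rw [← hsu.dvd_mul_left, ← heq']
      exact Dvd.intro _ rfl
    · rw [← hau.dvd_mul_right, heq']
      exact Dvd.intro_left _ rfl
  · have hmap : Ideal.span {algebraMap A (Localization.Away w) t} =
        Ideal.map (algebraMap A (Localization.Away w)) P := by
      apply le_antisymm
      · rw [Ideal.span_singleton_le_iff_mem]
        exact Ideal.mem_map_of_mem _ htP
      · rw [← hG, Ideal.map_span, Ideal.span_le]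
        rintro _ ⟨p, hp, rfl⟩
        rw [SetLike.mem_coe, Ideal.mem_span_singleton, ← (hspu p hp).dvd_mul_right,
          ← map_mul, hsf p hp, map_mul]
        exact Dvd.intro_left _ rfl
    rw [hmap]
    refine IsLocalization.isPrime_of_isPrime_disjoint (Submonoid.powers w) _ P hPp ?_
    rw [Set.disjoint_left]
    rintro _ ⟨n, rfl⟩ hn
    exact hwP (hPp.mem_of_pow_mem n hn)

end Groth.Agent.S18391
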