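import Groth.Statements.S18392
import Mathlib.RingTheory.Ideal.KrullsHeightTheorem
-- import your own Groth.Agent.* helpers here

set_option autoImplicit false
universe u
open LVCorr

namespace Groth.Agent.S18392

/-- Let A be a normal (integrally closed) Noetherian domain and z an element of A such that the radical
of (z) is prime. Then for every non-empty open subset V of Spec A contained in the basic open set
D(z) (that is, every non-empty open subset of Spec A[1/z]) there is an element x of A, not in the
radical of (z), such that the basic open set D(xz) = Spec A[1/xz] is contained in V. -/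
theorem result (A : Type u) [CommRing A]
    [IsDomain A] [IsNoetherianRing A] [IsIntegrallyClosed A] (z : A)
    (hz : (Ideal.span {z}).radical.IsPrime) (V : Set (PrimeSpectrum A)) (hV : IsOpen V)
    (hVz : V ⊆ (PrimeSpectrum.basicOpen z : Set (PrimeSpectrum A))) (hne : V.Nonempty) :
    ∃ x : A, x ∉ (Ideal.span {z}).radical ∧
      ((PrimeSpectrum.basicOpen (x * z) : TopologicalSpace.Opens (PrimeSpectrum A)) :
        Set (PrimeSpectrum A)) ⊆ V := by
  classical
  set p : Ideal A := (Ideal.span {z}).radical with hp
  haveI : p.IsPrime := hz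
  -- p is a minimal prime over (z)
  have hpmin : p ∈ (Ideal.span {z}).minimalPrimes := by
    refine ⟨⟨hz, Ideal.le_radical⟩, ?_⟩
    rintro q ⟨hq1, hq2⟩ _
    exact hq1.radical_le_iff.mpr hq2
  have hht : p.height ≤ 1 :=
    Ideal.height_le_one_of_isPrincipal_of_mem_minimalPrimes (Ideal.span {z}) p hpmin
  -- closed complement
  obtain ⟨I, hI⟩ := (PrimeSpectrum.isClosed_iff_zeroLocus_ideal _).mp hV.isClosed_compl
  have hIne : I ≠ ⊥ := by
    rintro rfl
    have : Vᶜ = Set.univ := by rw [hI]; simp
    rw [Set.compl_univ_iff] at this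
    exact hne.ne_empty this
  -- key: minimal primes of I not containing z are not inside p
  have hkey : ∀ q ∈ I.minimalPrimes, z ∉ q → ∃ x ∈ q, x ∉ p := by
    intro q hq hzq
    by_contra hcon
    push Not at hcon
    have hqp : q ≤ p := hcon
    haveI : q.IsPrime := hq.1.1
    have hqne : q ≠ p := by
      rintro rfl
      exact hzq (Ideal.le_radical (Ideal.subset_span rfl))
    have hlt : q < p := lt_of_le_of_ne hqp hqne
    have h1 : q.height < p.height := Ideal.height_strict_mono_of_isPrime_of_isPrime hlt
    have h2 : q.height = 0 := by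
      have : q.height < 1 := lt_of_lt_of_le h1 hht
      exact Order.lt_one_iff.mp this
    rw [Ideal.height_eq_zero_iff_eq_bot] at h2
    apply hIne
    have := hq.1.2
    rw [h2] at this
    exact le_bot_iff.mp this
  choose! g hg1 hg2 using hkey
  have hfin : I.minimalPrimes.Finite := Ideal.finite_minimalPrimes_of_isNoetherianRing A I
  set T : Finset (Ideal A) := hfin.toFinset.filter (fun q => z ∉ q) with hT
  refine ⟨∏ q ∈ T, g q, ?_, ?_⟩
  · rw [Ideal.IsPrime.prod_mem_iff]
    rintro ⟨q, hqT, hgq⟩
    rw [hT, Finset.mem_filter, Set.Finite.mem_toFinset] at hqT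
    exact hg2 q hqT.1 hqT.2 hgq
  · intro P hP
    by_contra hPV
    have hPI : P ∈ PrimeSpectrum.zeroLocus (I : Set A) := by rw [← hI]; exact hPV
    rw [PrimeSpectrum.mem_zeroLocus] at hPI
    have hrad : (∏ q ∈ T, g q) * z ∈ I.radical := by
      rw [← Ideal.sInf_minimalPrimes, Ideal.mem_sInf]
      intro q hq
      by_cases hzq : z ∈ q
      · exact Ideal.mul_mem_left _ _ hzq
      · apply Ideal.mul_mem_right
        have hqT : q ∈ T := by
          rw [hT, Finset.mem_filter, Set.Finite.mem_toFinset]; exact ⟨hq, hzq⟩
        rw [← Finset.mul_prod_erase T g hqT]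
        exact Ideal.mul_mem_right _ _ (hg1 q hq hzq)
    have : (∏ q ∈ T, g q) * z ∈ P.asIdeal := by
      have h3 : I.radical ≤ P.asIdeal := P.isPrime.radical_le_iff.mpr hPI
      exact h3 hrad
    exact hP this

end Groth.Agent.S18392
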