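import Groth.Statements.S18393
-- import your own Groth.Agent.* helpers here

set_option autoImplicit false
universe u v
open LVCorr

namespace Groth.Agent.S18393

/-- Stated for the underlying continuous maps. Let c₁, c₂ : C → X be continuous maps with C a Noetherian
topological space, let Z be a closed subset of X and B the closure in C of c₂⁻¹(Z) ∖ c₁⁻¹(Z). Call Z
locally invariant when every point x of Z has an open neighbourhood U such that every y in C with
c₂(y) ∈ Z ∩ U and c₁(y) ∈ U satisfies c₁(y) ∈ Z. Then Z is locally invariant if and only if for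
every irreducible subset T of B the closures of c₁(T) and of c₂(T) in X are disjoint. (The source
states this for a correspondence c = (c₁, c₂) : C → X × X of separated schemes of finite type over
an algebraically closed field and for the irreducible components of B; the condition for all
irreducible subsets of B is the same condition.) -/
theorem result {C : Type u} {X : Type v}
    [TopologicalSpace C] [TopologicalSpace X] [TopologicalSpace.NoetherianSpace C]
    (c₁ c₂ : C → X) (hc₁ : Continuous c₁) (hc₂ : Continuous c₂) (Z : Set X) (hZ : IsClosed Z) :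
    (∀ x ∈ Z, ∃ U : Set X, IsOpen U ∧ x ∈ U ∧
        ∀ y : C, c₂ y ∈ Z → c₂ y ∈ U → c₁ y ∈ U → c₁ y ∈ Z) ↔
      ∀ T : Set C, T ⊆ closure (c₂ ⁻¹' Z \ c₁ ⁻¹' Z) → IsIrreducible T →
        closure (c₁ '' T) ∩ closure (c₂ '' T) = ∅ := by
  classical
  constructor
  · intro hloc T hTB hT
    by_contra hne
    obtain ⟨x, hx1, hx2⟩ := Set.nonempty_iff_ne_empty.mpr hne
    have hc2B : ∀ y ∈ closure (c₂ ⁻¹' Z \ c₁ ⁻¹' Z), c₂ y ∈ Z := by
      intro y hy
      have h1 : closure (c₂ ⁻¹' Z \ c₁ ⁻¹' Z) ⊆ c₂ ⁻¹' Z :=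
        closure_minimal (fun y hy => hy.1) (hZ.preimage hc₂)
      exact h1 hy
    have hxZ : x ∈ Z := by
      have : closure (c₂ '' T) ⊆ Z := by
        apply closure_minimal _ hZ
        rintro _ ⟨y, hy, rfl⟩
        exact hc2B y (hTB hy)
      exact this hx2
    obtain ⟨U, hU, hxU, hUinv⟩ := hloc x hxZ
    -- opens meeting T
    obtain ⟨_, hy1U, ⟨y1, hy1T, rfl⟩⟩ := mem_closure_iff.mp hx1 U hU hxU
    obtain ⟨_, hy2U, ⟨y2, hy2T, rfl⟩⟩ := mem_closure_iff.mp hx2 U hU hxU
    have hpre := hT.isPreirreducible (c₁ ⁻¹' U) (c₂ ⁻¹' U) (hU.preimage hc₁) (hU.preimage hc₂)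
      ⟨y1, hy1T, hy1U⟩ ⟨y2, hy2T, hy2U⟩
    obtain ⟨y, hyT, hy1, hy2⟩ := hpre
    have hyB := hTB hyT
    obtain ⟨w, ⟨hw1, hw2⟩, hwW⟩ := mem_closure_iff.mp hyB (c₁ ⁻¹' U ∩ c₂ ⁻¹' U)
      ((hU.preimage hc₁).inter (hU.preimage hc₂)) ⟨hy1, hy2⟩
    exact hwW.2 (hUinv w hwW.1 hw2 hw1)
  · intro hirr x hxZ
    obtain ⟨S, hSf, hSc, hSi, hSU⟩ :=
      TopologicalSpace.NoetherianSpace.exists_finite_set_isClosed_irreducible
        (isClosed_closure (s := c₂ ⁻¹' Z \ c₁ ⁻¹' Z))
    -- for each t ∈ S choose closed set avoiding x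
    have hchoice : ∀ t ∈ S, ∃ F : Set X, IsClosed F ∧ x ∉ F ∧
        (c₁ '' t ⊆ F ∨ c₂ '' t ⊆ F) := by
      intro t ht
      have htB : t ⊆ closure (c₂ ⁻¹' Z \ c₁ ⁻¹' Z) := by
        rw [hSU]; exact Set.subset_sUnion_of_mem ht
      have h := hirr t htB (hSi t ht)
      by_cases hx1 : x ∈ closure (c₁ '' t)
      · have hx2 : x ∉ closure (c₂ '' t) := by
          intro hx2
          have : x ∈ closure (c₁ '' t) ∩ closure (c₂ '' t) := ⟨hx1, hx2⟩
          rw [h] at this
          exact this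
        exact ⟨_, isClosed_closure, hx2, Or.inr subset_closure⟩
      · exact ⟨_, isClosed_closure, hx1, Or.inl subset_closure⟩
    choose! F hF1 hF2 hF3 using hchoice
    refine ⟨(⋃ t ∈ S, F t)ᶜ, ?_, ?_, ?_⟩
    · rw [isOpen_compl_iff]
      exact hSf.isClosed_biUnion hF1
    · simp only [Set.mem_compl_iff, Set.mem_iUnion, not_exists]
      intro t ht
      exact hF2 t ht
    · intro y hy2Z hy2U hy1U
      by_contra hy1Z
      have hyW : y ∈ closure (c₂ ⁻¹' Z \ c₁ ⁻¹' Z) := subset_closure ⟨hy2Z, hy1Z⟩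
      rw [hSU] at hyW
      obtain ⟨t, htS, hyt⟩ := hyW
      rcases hF3 t htS with h | h
      · apply hy1U
        simp only [Set.mem_iUnion]
        exact ⟨t, htS, h ⟨y, hyt, rfl⟩⟩
      · apply hy2U
        simp only [Set.mem_iUnion]
        exact ⟨t, htS, h ⟨y, hyt, rfl⟩⟩

end Groth.Agent.S18393
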