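import Groth.Statements.S18402
import Mathlib

set_option autoImplicit false
universe u
open Pi1

namespace Groth.Agent.S18402

namespace Groth.Agent.S18402.Aux

open AlgebraicGeometry CategoryTheory CategoryTheory.Limits TopologicalSpace

/-- A set stable under generization and specialization in a space where every point is a
specialization of one of finitely many points is closed. -/
theorem isClosed_of_stable {Z : Type*} [TopologicalSpace Z] (G : Set Z) (hG : G.Finite)
    (hGen : ∀ z : Z, ∃ g ∈ G, g ⤳ z) (D : Set Z)
    (hD1 : StableUnderGeneralization D) (hD2 : StableUnderSpecialization D) : IsClosed D := by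
  have : D = ⋃ g ∈ G ∩ D, closure {g} := by
    ext z
    simp only [Set.mem_iUnion, exists_prop]
    constructor
    · intro hz
      obtain ⟨g, hg, hgz⟩ := hGen z
      exact ⟨g, ⟨hg, hD1 hgz hz⟩, specializes_iff_mem_closure.mp hgz⟩
    · rintro ⟨g, ⟨-, hgD⟩, hz⟩
      exact hD2 (specializes_iff_mem_closure.mpr hz) hgD
  rw [this]
  exact (hG.subset Set.inter_subset_left).isClosed_biUnion fun _ _ => isClosed_closure

theorem preconnectedSpace_of_fibres {T Z : Type*} [TopologicalSpace T] [TopologicalSpace Z]
    (p : T → Z) (hsurj : Function.Surjective p) (hgen : GeneralizingMap p)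
    (hfib : ∀ z : Z, _root_.IsPreconnected (p ⁻¹' {z})) [PreconnectedSpace Z]
    (G : Set Z) (hG : G.Finite) (hGen : ∀ z : Z, ∃ g ∈ G, g ⤳ z) : PreconnectedSpace T := by
  rw [preconnectedSpace_iff_clopen]
  intro C hC
  -- C is a union of fibres
  have hCfib : ∀ c ∈ C, ∀ t, p t = p c → t ∈ C := by
    intro c hc t ht
    exact (hfib (p c)).subset_isClopen hC ⟨c, rfl, hc⟩ ht
  have hpre : p ⁻¹' (p '' C) = C := by
    ext t
    constructor
    · rintro ⟨c, hc, hct⟩
      exact hCfib c hc t hct.symm
    · intro ht
      exact ⟨t, ht, rfl⟩
  have hcompl : (p '' C)ᶜ = p '' Cᶜ := by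
    ext z
    constructor
    · intro hz
      obtain ⟨t, rfl⟩ := hsurj z
      exact ⟨t, fun ht => hz ⟨t, ht, rfl⟩, rfl⟩
    · rintro ⟨t, ht, rfl⟩ ⟨c, hc, hct⟩
      exact ht (hCfib c hc t hct.symm)
  have hst1 : StableUnderGeneralization (p '' C) :=
    hgen.stableUnderGeneralization_image hC.2.stableUnderGeneralization
  have hst2 : StableUnderGeneralization (p '' C)ᶜ := by
    rw [hcompl]
    exact hgen.stableUnderGeneralization_image hC.compl.2.stableUnderGeneralization
  have hst3 : StableUnderSpecialization (p '' C) := by
    intro x y hxy hx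
    by_contra hy
    exact (hst2 hxy hy) hx
  have hst4 : StableUnderSpecialization (p '' C)ᶜ := by
    intro x y hxy hx hy
    exact hx (hst1 hxy hy)
  have hcl1 : IsClosed (p '' C) := isClosed_of_stable G hG hGen _ hst1 hst3
  have hcl2 : IsClosed (p '' C)ᶜ := isClosed_of_stable G hG hGen _ hst2 hst4
  have hclopen : IsClopen (p '' C) := ⟨hcl1, by simpa using hcl2.isOpen_compl⟩
  rcases isClopen_iff.mp hclopen with h | h
  · left
    rw [← hpre, h, Set.preimage_empty]
  · right
    rw [← hpre, h, Set.preimage_univ]

end Groth.Agent.S18402.Aux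

open AlgebraicGeometry CategoryTheory CategoryTheory.Limits in
/-- Let X be an irreducible scheme and π : W ⟶ X a flat morphism whose fibre over every field-valued
point of X is irreducible (so every fibre is geometrically irreducible and π is surjective). Then
for every finite étale cover Z of X with Z connected, the base change of Z along π is connected.
Ranging over all finite étale covers of X, this says that the monodromy group of each cover (the
image of the fundamental group in the permutations of a geometric fibre) is unchanged by pullback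
along π. The published statement asserts that equality of monodromy groups, for generically finite,
generically étale covers between irreducible algebraic stacks. -/
theorem result {X W : Scheme.{u}}
    [IrreducibleSpace X] (π : W ⟶ X) [Flat π] [GeometricallyIrreducible π]
    (Z : FEt.Cat X) [ConnectedSpace Z.left] :
    ConnectedSpace ↥(pullback Z.hom π) := by
  haveI : IsFinite Z.hom := Z.prop.1
  haveI : Etale Z.hom := Z.prop.2
  haveI : Flat (pullback.fst Z.hom π) := inferInstance
  haveI : GeometricallyIrreducible (pullback.fst Z.hom π) := inferInstance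
  have hsurj : Function.Surjective (pullback.fst Z.hom π) := (pullback.fst Z.hom π).surjective
  have hgen : GeneralizingMap (pullback.fst Z.hom π) := Flat.generalizingMap _
  have hfib : ∀ z : Z.left, _root_.IsPreconnected ((pullback.fst Z.hom π) ⁻¹' {z}) := by
    intro z
    rw [← (pullback.fst Z.hom π).range_fiberι, ← Set.image_univ]
    exact ((IrreducibleSpace.isIrreducible_univ _).image _
      ((pullback.fst Z.hom π).fiberι z).continuous.continuousOn).isPreirreducible.isPreconnected
  have hG : (Z.hom ⁻¹' {genericPoint X}).Finite := Z.hom.finite_preimage_singleton _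
  have hGen : ∀ z : Z.left, ∃ g ∈ (Z.hom ⁻¹' {genericPoint X}), g ⤳ z := by
    intro z
    have hz : genericPoint X ⤳ Z.hom z := genericPoint_specializes _
    obtain ⟨g, hg1, hg2⟩ := (Flat.generalizingMap Z.hom) hz
    exact ⟨g, hg2, hg1⟩
  haveI : PreconnectedSpace ↥(pullback Z.hom π) :=
    @Groth.Agent.S18402.Aux.preconnectedSpace_of_fibres _ Z.left _ _ (pullback.fst Z.hom π) hsurj
      hgen hfib (‹ConnectedSpace Z.left›).toPreconnectedSpace _ hG hGen
  haveI : Nonempty ↥(pullback Z.hom π) := by
    obtain ⟨z⟩ := (inferInstance : Nonempty Z.left)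
    obtain ⟨t, -⟩ := hsurj z
    exact ⟨t⟩
  exact ConnectedSpace.mk ‹_›

end Groth.Agent.S18402
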