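import Groth.Statements.S18416
import Groth.Agent.Lib.Helper25.JacobianCrit4

set_option autoImplicit false
universe u v w
open CAlg

namespace Groth.Agent.S18416

/-- Let R → C and C → B be smooth ring homomorphisms, J an ideal of B and K the preimage of J in C, and
suppose that C surjects onto A = B/J (so that C/K = B/J = A). Then for every prime x of A there
exist f ∈ B whose image in A does not lie in x and an ideal J₀ of B_f contained in J B_f such that
the composite C → B_f → B_f/J₀ is étale. -/
theorem result (R : Type u) (C : Type v) (B : Type w)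
    [CommRing R] [CommRing C] [CommRing B] [Algebra R C] [Algebra C B] [Algebra R B] [IsScalarTower R C B]
    [Algebra.Smooth R C] [Algebra.Smooth C B] (J : Ideal B)
    (hsurj : Function.Surjective ((Ideal.Quotient.mk J).comp (algebraMap C B)))
    (x : PrimeSpectrum (B ⧸ J)) :
    ∃ f : B, Ideal.Quotient.mk J f ∉ x.asIdeal ∧
      ∃ J₀ : Ideal (Localization.Away f), J₀ ≤ J.map (algebraMap B (Localization.Away f)) ∧
        ((Ideal.Quotient.mk J₀).comp ((algebraMap B (Localization.Away f)).comp (algebraMap C B))).Etale := by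
  classical
  set 𝔓 : Ideal B := x.asIdeal.comap (Ideal.Quotient.mk J) with h𝔓
  haveI : 𝔓.IsPrime := Ideal.comap_isPrime _ _
  haveI : Algebra.IsSmoothAt C 𝔓 := by
    have h : (⟨𝔓, inferInstance⟩ : PrimeSpectrum B) ∈ Algebra.smoothLocus C B := by
      rw [Algebra.smoothLocus_eq_univ]; trivial
    exact h
  obtain ⟨c, g, hgJ, H⟩ :=
    Groth.Agent.Lib.Helper25.JacobianCrit.exists_isEtaleAt_quotient_of_surjective C J hsurj 𝔓
  set I := Ideal.span (Set.range g) with hI
  have hIJ : I ≤ J := Ideal.span_le.mpr (by rintro _ ⟨i, rfl⟩; exact hgJ i)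
  let q : Ideal (B ⧸ I) := x.asIdeal.comap (Ideal.Quotient.factor hIJ)
  haveI : q.IsPrime := Ideal.comap_isPrime _ _
  have hq : q.comap (Ideal.Quotient.mk I) = 𝔓 := by
    rw [Ideal.comap_comap, Ideal.Quotient.factor_comp_mk]
  haveI hE : Algebra.IsEtaleAt C q := H q hq
  haveI : Algebra.FinitePresentation C (B ⧸ I) :=
    Algebra.FinitePresentation.quotient ⟨Finset.univ.image g, by simp [hI]⟩
  obtain ⟨f', hf', hEt⟩ := Algebra.exists_etale_of_isEtaleAt (R := C) q
  obtain ⟨f, rfl⟩ := Ideal.Quotient.mk_surjective f'
  refine ⟨f, ?_, I.map (algebraMap B (Localization.Away f)), Ideal.map_mono hIJ, ?_⟩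
  · intro hmem
    apply hf'
    change Ideal.Quotient.factor hIJ (Ideal.Quotient.mk I f) ∈ x.asIdeal
    rwa [Ideal.Quotient.factor_mk]
  · have hEt' : Algebra.Etale C (Localization.Away f ⧸ I.map (algebraMap B (Localization.Away f))) :=
      Algebra.Etale.of_equiv (Groth.Agent.Lib.Helper25.JacobianCrit.awayQuotientEquiv C I f)
    have h := RingHom.etale_algebraMap.mpr hEt'
    convert h using 1
    ext c
    simp only [RingHom.comp_apply]
    rw [IsScalarTower.algebraMap_apply C (Localization.Away f)
      (Localization.Away f ⧸ I.map (algebraMap B (Localization.Away f))),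
      IsScalarTower.algebraMap_apply C B (Localization.Away f)]
    rfl


end Groth.Agent.S18416
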