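import Groth.Statements.S18417
import Mathlib
import Groth.Agent.Lib.Helper12.QuasiReg2

set_option autoImplicit false
universe u v
open CAlg

namespace Groth.Agent.S18417



open MvPolynomial

section gen
variable {R : Type u} {B S : Type v} [CommRing R] [CommRing B] [CommRing S] [Algebra R B]
  [Algebra R S] {d : ℕ}

/-- Evaluation `B[T] → S` through a section `σ`. -/
noncomputable def Phi (σ : B →ₐ[R] S) (y : Fin d → S) : MvPolynomial (Fin d) B →ₐ[R] S :=
  { MvPolynomial.eval₂Hom (σ : B →+* S) y with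
    commutes' := fun r => by
      simp [MvPolynomial.algebraMap_apply] }

lemma Phi_apply (σ : B →ₐ[R] S) (y : Fin d → S) (p : MvPolynomial (Fin d) B) :
    Phi σ y p = MvPolynomial.eval₂ (σ : B →+* S) y p := rfl

@[simp] lemma Phi_C (σ : B →ₐ[R] S) (y : Fin d → S) (b : B) : Phi σ y (C b) = σ b := by
  rw [Phi_apply, eval₂_C]; rfl

@[simp] lemma Phi_X (σ : B →ₐ[R] S) (y : Fin d → S) (i : Fin d) : Phi σ y (X i) = y i := by
  rw [Phi_apply, eval₂_X]

lemma Phi_monomial (σ : B →ₐ[R] S) (y : Fin d → S) (m : Fin d →₀ ℕ) (b : B) :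
    Phi σ y (monomial m b) = σ b * m.prod (fun i k => y i ^ k) := by
  rw [Phi_apply, eval₂_monomial]; rfl

lemma Phi_mem_pow (σ : B →ₐ[R] S) (y : Fin d → S) (k : ℕ) {p : MvPolynomial (Fin d) B}
    (hp : p ∈ Ideal.span (Set.range (X : Fin d → MvPolynomial (Fin d) B)) ^ k) :
    Phi σ y p ∈ Ideal.span (Set.range y) ^ k := by
  have h1 : Ideal.span (Set.range (X : Fin d → MvPolynomial (Fin d) B)) ≤
      (Ideal.span (Set.range y)).comap (Phi σ y : MvPolynomial (Fin d) B →+* S) := by
    rw [Ideal.span_le]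
    rintro _ ⟨i, rfl⟩
    show Phi σ y (X i) ∈ Ideal.span (Set.range y)
    rw [Phi_X]
    exact Ideal.subset_span ⟨i, rfl⟩
  exact (Ideal.le_comap_pow _ k) (Ideal.pow_right_mono h1 k hp)

lemma Phi_approx (σ : B →ₐ[R] S) (y : Fin d → S) (π : S →ₐ[R] B) (hπσ : ∀ b, π (σ b) = b)
    (hker : ∀ s, π s = 0 → s ∈ Ideal.span (Set.range y)) :
    ∀ k, 1 ≤ k → ∀ a : S, ∃ p : MvPolynomial (Fin d) B,
      a - Phi σ y p ∈ Ideal.span (Set.range y) ^ k := by
  intro k hk
  induction k, hk using Nat.le_induction with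
  | base =>
    intro a
    refine ⟨C (π a), ?_⟩
    rw [pow_one]
    apply hker
    simp [hπσ]
  | succ k hk ih =>
    intro a
    have h1 : a - σ (π a) ∈ Ideal.span (Set.range y) := hker _ (by simp [hπσ])
    obtain ⟨c, hc⟩ := (Ideal.mem_span_range_iff_exists_fun).1 h1
    choose q hq using fun i => ih (c i)
    refine ⟨C (π a) + ∑ i, q i * X i, ?_⟩
    have : a - Phi σ y (C (π a) + ∑ i, q i * X i) = ∑ i, (c i - Phi σ y (q i)) * y i := by
      simp only [map_add, map_sum, map_mul, Phi_C, Phi_X, sub_mul, Finset.sum_sub_distrib, hc]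
      ring
    rw [this, pow_succ]
    exact Ideal.sum_mem _ fun i _ => Ideal.mul_mem_mul (hq i) (Ideal.subset_span ⟨i, rfl⟩)

end gen

section conc
variable {R : Type u} {A : Type v} [CommRing R] [CommRing A] [Algebra R A] {d : ℕ} (x : Fin d → A)

lemma coeff_eq_zero_of_Phi_eq_zero (hq : CAlgX.IsQuasiRegular x) (N : ℕ)
    (σ : (A ⧸ Ideal.span (Set.range x)) →ₐ[R] (A ⧸ Ideal.span (Set.range x) ^ N))
    (hσ : ∀ (a : A) (b : A ⧸ Ideal.span (Set.range x)),
      σ b = Ideal.Quotient.mk _ a → b = Ideal.Quotient.mk _ a)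
    (p : MvPolynomial (Fin d) (A ⧸ Ideal.span (Set.range x)))
    (hp : Phi σ (fun i => Ideal.Quotient.mk _ (x i)) p = 0) :
    ∀ n, n ≤ N → ∀ m : Fin d →₀ ℕ, m.degree < n → coeff m p = 0 := by
  classical
  intro n
  induction n with
  | zero => intro _ m hm; exact absurd hm (Nat.not_lt_zero _)
  | succ n ih =>
    intro hn m hm
    have ih' := ih (Nat.le_of_succ_le hn)
    rcases Nat.lt_succ_iff_lt_or_eq.1 hm with h | h
    · exact ih' m h
    · by_contra hne
      obtain ⟨hc, hhc⟩ : ∃ hc, hc = homogeneousComponent n p := ⟨_, rfl⟩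
      have hcoeff : ∀ m', coeff m' hc = if m'.degree = n then coeff m' p else 0 := by
        intro m'; rw [hhc, coeff_homogeneousComponent]
      have hq1 : p - hc ∈ Ideal.span (Set.range (X : Fin d → MvPolynomial (Fin d) _)) ^ (n + 1) := by
        rw [mem_pow_idealOfVars_iff']
        intro m' hm'
        rw [coeff_sub, hcoeff]
        split_ifs with h'
        · exact sub_self _
        · rw [sub_zero]; exact ih' m' (lt_of_le_of_ne (Nat.lt_succ_iff.1 hm') h')
      have hq2 : Phi σ (fun i => Ideal.Quotient.mk _ (x i)) hc ∈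
          Ideal.span (Set.range (fun i => Ideal.Quotient.mk (Ideal.span (Set.range x) ^ N) (x i))) ^ (n + 1) := by
        have := Phi_mem_pow σ (fun i => Ideal.Quotient.mk _ (x i)) (n + 1) hq1
        rw [map_sub, hp, zero_sub] at this
        exact neg_mem_iff.1 this
      choose ℓ hℓ using fun b : A ⧸ Ideal.span (Set.range x) =>
        Ideal.Quotient.mk_surjective (I := Ideal.span (Set.range x) ^ N) (σ b)
      obtain ⟨P, hP⟩ : ∃ P : MvPolynomial (Fin d) A,
        P = ∑ m' ∈ hc.support, monomial m' (ℓ (coeff m' hc)) := ⟨_, rfl⟩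
      have hPhom : P.IsHomogeneous n := by
        rw [hP]
        refine IsHomogeneous.sum _ _ _ (fun m' hm' => isHomogeneous_monomial _ ?_)
        rw [mem_support_iff, hcoeff] at hm'
        by_contra h'
        rw [if_neg h'] at hm'
        exact hm' rfl
      have hev : Ideal.Quotient.mk (Ideal.span (Set.range x) ^ N) (eval x P) =
          Phi σ (fun i => Ideal.Quotient.mk _ (x i)) hc := by
        conv_rhs => rw [← support_sum_monomial_coeff hc]
        rw [hP]
        simp only [map_sum, eval_monomial, Phi_monomial, map_mul, hℓ, Finsupp.prod, map_prod,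
          map_pow]
      have hevJ : eval x P ∈ Ideal.span (Set.range x) ^ (n + 1) := by
        have h1 : Ideal.Quotient.mk (Ideal.span (Set.range x) ^ N) (eval x P) ∈
            (Ideal.span (Set.range x) ^ (n + 1)).map
              (Ideal.Quotient.mk (Ideal.span (Set.range x) ^ N)) := by
          rw [hev, Ideal.map_pow, Ideal.map_span, ← Set.range_comp]; exact hq2
        rw [Ideal.mem_quotient_iff_mem_sup] at h1
        rwa [sup_eq_left.2 (Ideal.pow_le_pow_right hn)] at h1
      have hcoef := hq n P hPhom hevJ m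
      have hm_supp : m ∈ hc.support := by
        rw [mem_support_iff, hcoeff, if_pos h]; exact hne
      have hcP : coeff m P = ℓ (coeff m hc) := by
        rw [hP, coeff_sum]
        simp only [coeff_monomial]
        rw [Finset.sum_ite_eq' hc.support m]
        simp [hm_supp]
      rw [hcP] at hcoef
      have h2 : coeff m hc = Ideal.Quotient.mk _ (ℓ (coeff m hc)) := hσ _ _ (hℓ _).symm
      have h0 : coeff m hc = 0 := by rw [h2]; exact Ideal.Quotient.eq_zero_iff_mem.2 hcoef
      rw [hcoeff, if_pos h] at h0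
      exact hne h0

end conc

/-- Let R → A be a ring homomorphism and x_1, …, x_d a weakly regular sequence in A generating an ideal
J such that B = A/J is formally smooth over R. Then for every N ≥ 1 there is an isomorphism of
R-algebras e : A/J^N ≅ B[T_1, …, T_d]/(T_1, …, T_d)^N which sends the class of x_i to the class of
T_i and which is compatible with the projections to B: for every a ∈ A, e(a mod J^N) is congruent to
the constant a mod J modulo the ideal generated by the variables. (The source also assumes R → A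
smooth, which its argument does not use, and a regular sequence; weak regularity is what the
argument uses.) -/
theorem result
    (R : Type u) (A : Type v) [CommRing R] [CommRing A] [Algebra R A] (d : ℕ) (x : Fin d → A)
    (hreg : RingTheory.Sequence.IsWeaklyRegular A (List.ofFn x))
    [Algebra.FormallySmooth R (A ⧸ Ideal.span (Set.range x))] (N : ℕ) (hN : 1 ≤ N) :
    ∃ e : (A ⧸ Ideal.span (Set.range x) ^ N) ≃ₐ[R]
        (MvPolynomial (Fin d) (A ⧸ Ideal.span (Set.range x)) ⧸
          Ideal.span (Set.range (MvPolynomial.X : Fin d → MvPolynomial (Fin d) (A ⧸ Ideal.span (Set.range x)))) ^ N),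
      (∀ i : Fin d, e (Ideal.Quotient.mk _ (x i)) = Ideal.Quotient.mk _ (MvPolynomial.X i)) ∧
      ∀ a : A, e (Ideal.Quotient.mk _ a) - Ideal.Quotient.mk _ (MvPolynomial.C (Ideal.Quotient.mk _ a)) ∈
        (Ideal.span (Set.range (MvPolynomial.X : Fin d → MvPolynomial (Fin d) (A ⧸ Ideal.span (Set.range x))))).map
          (Ideal.Quotient.mk _) := by

  classical
  have hqr : CAlgX.IsQuasiRegular x :=
    Groth.Agent.Lib.Helper12.QR.isQuasiRegular_of_isWeaklyRegular d x hreg
  have hle : Ideal.span (Set.range x) ^ N ≤ Ideal.span (Set.range x) :=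
    Ideal.pow_le_self (by omega)
  obtain ⟨π, hπdef⟩ : ∃ π : (A ⧸ Ideal.span (Set.range x) ^ N) →ₐ[R] (A ⧸ Ideal.span (Set.range x)),
    π = Ideal.Quotient.factorₐ R hle := ⟨_, rfl⟩
  have hπmk : ∀ a : A, π (Ideal.Quotient.mk _ a) = Ideal.Quotient.mk _ a := by
    intro a; rw [hπdef]; rfl
  have hπsurj : Function.Surjective π := by
    intro b
    obtain ⟨a, rfl⟩ := Ideal.Quotient.mk_surjective b
    exact ⟨Ideal.Quotient.mk _ a, hπmk a⟩
  obtain ⟨y, hy⟩ : ∃ y : Fin d → A ⧸ Ideal.span (Set.range x) ^ N,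
    y = fun i => Ideal.Quotient.mk _ (x i) := ⟨_, rfl⟩
  have hI : Ideal.span (Set.range y) =
      (Ideal.span (Set.range x)).map (Ideal.Quotient.mk (Ideal.span (Set.range x) ^ N)) := by
    rw [Ideal.map_span, ← Set.range_comp, hy]; rfl
  have hIN : Ideal.span (Set.range y) ^ N = ⊥ := by
    rw [hI, ← Ideal.map_pow, Ideal.map_quotient_self]
  have hker : ∀ s, π s = 0 → s ∈ Ideal.span (Set.range y) := by
    intro s hs
    obtain ⟨a, rfl⟩ := Ideal.Quotient.mk_surjective s
    rw [hπmk, Ideal.Quotient.eq_zero_iff_mem] at hs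
    rw [hI]; exact Ideal.mem_map_of_mem _ hs
  have hnil : IsNilpotent (RingHom.ker (π : (A ⧸ Ideal.span (Set.range x) ^ N) →+* (A ⧸ Ideal.span (Set.range x)))) := by
    refine ⟨N, ?_⟩
    rw [Ideal.zero_eq_bot, ← le_bot_iff, ← hIN]
    exact Ideal.pow_right_mono (fun s hs => hker s hs) N
  obtain ⟨σ, hσdef⟩ : ∃ σ : (A ⧸ Ideal.span (Set.range x)) →ₐ[R] (A ⧸ Ideal.span (Set.range x) ^ N),
    σ = Algebra.FormallySmooth.liftOfSurjective (AlgHom.id R _) π hπsurj hnil := ⟨_, rfl⟩
  have hπσ : ∀ b, π (σ b) = b := fun b => by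
    rw [hσdef]; exact Algebra.FormallySmooth.liftOfSurjective_apply _ _ _ _ b
  have hσ' : ∀ (a : A) (b : A ⧸ Ideal.span (Set.range x)),
      σ b = Ideal.Quotient.mk _ a → b = Ideal.Quotient.mk _ a := by
    intro a b hab
    rw [← hπσ b, hab, hπmk]
  -- kills XI^N
  have hkill : ∀ p ∈ Ideal.span (Set.range (X : Fin d → MvPolynomial (Fin d) (A ⧸ Ideal.span (Set.range x)))) ^ N,
      Phi σ y p = 0 := by
    intro p hp
    have := Phi_mem_pow σ y N hp
    rwa [hIN, Ideal.mem_bot] at this
  obtain ⟨Ψ, hΨdef⟩ : ∃ Ψ : (MvPolynomial (Fin d) (A ⧸ Ideal.span (Set.range x)) ⧸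
      Ideal.span (Set.range (X : Fin d → MvPolynomial (Fin d) (A ⧸ Ideal.span (Set.range x)))) ^ N) →ₐ[R]
      (A ⧸ Ideal.span (Set.range x) ^ N), Ψ = Ideal.Quotient.liftₐ _ (Phi σ y) hkill := ⟨_, rfl⟩
  have hΨmk : ∀ p, Ψ (Ideal.Quotient.mk _ p) = Phi σ y p := by
    intro p; rw [hΨdef]; rfl
  have hsurj : Function.Surjective Ψ := by
    intro a
    obtain ⟨p, hp⟩ := Phi_approx σ y π hπσ hker N hN a
    rw [hIN, Ideal.mem_bot, sub_eq_zero] at hp
    exact ⟨Ideal.Quotient.mk _ p, by rw [hΨmk, ← hp]⟩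
  have hinj : Function.Injective Ψ := by
    rw [injective_iff_map_eq_zero]
    intro z hz
    obtain ⟨p, rfl⟩ := Ideal.Quotient.mk_surjective z
    rw [hΨmk] at hz
    rw [Ideal.Quotient.eq_zero_iff_mem, mem_pow_idealOfVars_iff']
    subst hy
    exact coeff_eq_zero_of_Phi_eq_zero x hqr N σ hσ' p hz N le_rfl
  -- π ∘ Φ = constant coefficient
  have hconst : ∀ p, π (Phi σ y p) = constantCoeff p := by
    intro p
    have : ((π : (A ⧸ Ideal.span (Set.range x) ^ N) →+* (A ⧸ Ideal.span (Set.range x))).comp (Phi σ y : MvPolynomial (Fin d) (A ⧸ Ideal.span (Set.range x)) →+* (A ⧸ Ideal.span (Set.range x) ^ N))) = constantCoeff := by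
      apply MvPolynomial.ringHom_ext
      · intro b
        show π (Phi σ y (C b)) = constantCoeff (C b)
        rw [Phi_C, hπσ, constantCoeff_C]
      · intro i
        show π (Phi σ y (X i)) = constantCoeff (X i)
        rw [Phi_X, constantCoeff_X, hy, hπmk]
        exact Ideal.Quotient.eq_zero_iff_mem.2 (Ideal.subset_span ⟨i, rfl⟩)
    exact RingHom.congr_fun this p
  refine ⟨(AlgEquiv.ofBijective Ψ ⟨hinj, hsurj⟩).symm, ?_, ?_⟩
  · intro i
    rw [AlgEquiv.symm_apply_eq]
    show _ = Ψ _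
    rw [hΨmk, Phi_X, hy]
  · intro a
    obtain ⟨p, hp⟩ := Ideal.Quotient.mk_surjective
      ((AlgEquiv.ofBijective Ψ ⟨hinj, hsurj⟩).symm (Ideal.Quotient.mk _ a))
    have h1 : Phi σ y p = Ideal.Quotient.mk _ a := by
      rw [← hΨmk, hp]
      exact (AlgEquiv.ofBijective Ψ ⟨hinj, hsurj⟩).apply_symm_apply _
    have h2 : (Ideal.Quotient.mk (Ideal.span (Set.range x)) a) = constantCoeff p := by
      rw [← hconst, h1, hπmk]
    rw [← hp, h2, ← map_sub]
    apply Ideal.mem_map_of_mem
    have : p - C (constantCoeff p) ∈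
        Ideal.span (Set.range (X : Fin d → MvPolynomial (Fin d) (A ⧸ Ideal.span (Set.range x)))) ^ 1 := by
      rw [mem_pow_idealOfVars_iff']
      intro m hm
      have hm0 : m = 0 := by
        rw [Nat.lt_one_iff] at hm
        exact (Finsupp.degree_eq_zero_iff m).1 hm
      rw [hm0, coeff_sub, coeff_zero_C, ← constantCoeff_eq, sub_self]
    rwa [pow_one] at this

end Groth.Agent.S18417
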