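import Groth.Statements.S18423
import Mathlib
import Groth.Agent.S2195

set_option autoImplicit false
universe u v
open Pi1

namespace Groth.Agent.S18423


/-- Let A be a Noetherian local ring of Krull dimension at least 2 and B a finite flat commutative
A-algebra. If B is etale over A at every prime of B lying over a non-maximal prime of A (that is,
Spec B is etale over the punctured spectrum of A), then B is etale over A. -/
theorem result (A : Type u) (B : Type v) [CommRing A] [CommRing B]
    [Algebra A B] [IsNoetherianRing A] [IsLocalRing A] (hdim : (2 : WithBot ℕ∞) ≤ ringKrullDim A)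
    [Module.Finite A B] [Module.Flat A B]
    (h : ∀ q : PrimeSpectrum B, q.asIdeal.comap (algebraMap A B) ≠ IsLocalRing.maximalIdeal A →
      Algebra.IsEtaleAt A q.asIdeal) :
    Algebra.Etale A B := by
  classical
  haveI : Module.Free A B := Module.free_of_flat_of_isLocalRing
  haveI : Algebra.FinitePresentation A B := Algebra.FinitePresentation.of_finiteType.mp inferInstance
  let b := Module.finBasis A B
  rw [Groth.Agent.S2195.result b]
  by_contra hd
  have hdm : Algebra.discr A b ∈ IsLocalRing.maximalIdeal A := hd
  have hdle : Ideal.span {Algebra.discr A b} ≤ IsLocalRing.maximalIdeal A := by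
    rw [Ideal.span_le]
    rintro z rfl
    exact hdm
  obtain ⟨p, hp, hpm⟩ := Ideal.exists_minimalPrimes_le hdle
  haveI hpprime : p.IsPrime := hp.1.1
  have hdp : Algebra.discr A b ∈ p := hp.1.2 (Ideal.subset_span rfl)
  have hht : p.height ≤ 1 :=
    Ideal.height_le_one_of_isPrincipal_of_mem_minimalPrimes (Ideal.span {Algebra.discr A b}) p hp
  have hpne : p ≠ IsLocalRing.maximalIdeal A := by
    rintro rfl
    have h1 : ((IsLocalRing.maximalIdeal A).height : WithBot ℕ∞) = ringKrullDim A :=
      IsLocalRing.maximalIdeal_height_eq_ringKrullDim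
    rw [← h1] at hdim
    have h2 : (2 : ℕ∞) ≤ (IsLocalRing.maximalIdeal A).height := by
      have h2' : ((2 : ℕ∞) : WithBot ℕ∞) ≤ ((IsLocalRing.maximalIdeal A).height : WithBot ℕ∞) := hdim
      exact WithBot.coe_le_coe.mp h2'
    have h3 := h2.trans hht
    exact absurd h3 (by norm_num)
  obtain ⟨f, hfm, hfp⟩ := SetLike.exists_of_lt (lt_of_le_of_ne hpm hpne)
  -- localize away from `f`
  let Af := Localization.Away f
  let Bf := Localization.Away (algebraMap A B f)
  haveI hloc : IsLocalization (Algebra.algebraMapSubmonoid B (Submonoid.powers f)) Bf := by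
    have e : Algebra.algebraMapSubmonoid B (Submonoid.powers f) =
        Submonoid.powers (algebraMap A B f) := Submonoid.map_powers _ _
    rw [e]
    infer_instance
  letI : Algebra Af Bf := localizationAlgebra (Submonoid.powers f) B
  haveI : IsScalarTower A Af Bf := isScalarTower_localizationAlgebra
    (Submonoid.powers f) B
  -- `Bf` is étale over `A`
  have hsub : (PrimeSpectrum.basicOpen (algebraMap A B f) : Set (PrimeSpectrum B)) ⊆
      Algebra.etaleLocus A B := by
    intro q hq
    rw [Algebra.mem_etaleLocus_iff]
    apply h q
    intro hcon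
    apply hq
    have : f ∈ q.asIdeal.comap (algebraMap A B) := by rw [hcon]; exact hfm
    exact this
  haveI hetA : Algebra.Etale A Bf := Algebra.basicOpen_subset_etaleLocus_iff_etale.mp hsub
  haveI : Algebra.FormallyEtale A Bf := hetA.formallyEtale
  haveI : IsLocalization ((Submonoid.powers f).map (algebraMap A B)) Bf := hloc
  haveI : Algebra.FormallyEtale Af Bf := Algebra.FormallyEtale.localization_base
    (R := A) (Submonoid.powers f)
  haveI : Algebra.FinitePresentation A Bf := hetA.finitePresentation
  haveI : Algebra.FinitePresentation Af Bf :=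
    Algebra.FinitePresentation.of_restrict_scalars_finitePresentation A Af Bf
  have hetf : Algebra.Etale Af Bf := ⟨inferInstance, inferInstance⟩
  let bf := b.localizationLocalization Af (Submonoid.powers f) Bf
  have hunit : IsUnit (Algebra.discr Af bf) := (Groth.Agent.S2195.result bf).mp hetf
  rw [Algebra.discr_localizationLocalization A (Submonoid.powers f) Bf b] at hunit
  -- contradiction
  have hdisj : Disjoint (Submonoid.powers f : Set A) (p : Set A) := by
    rw [Set.disjoint_left]
    rintro _ ⟨k, rfl⟩ hk
    exact hfp (hpprime.mem_of_pow_mem k hk)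
  have hne : Ideal.map (algebraMap A Af) p ≠ ⊤ :=
    (IsLocalization.map_algebraMap_ne_top_iff_disjoint (Submonoid.powers f) Af p).mpr hdisj
  apply hne
  exact Ideal.eq_top_of_isUnit_mem _ (Ideal.mem_map_of_mem _ hdp) hunit

end Groth.Agent.S18423
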