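import Groth.Statements.S18427
import Mathlib
import Groth.Agent.Lib.Helper4.ZY2
import Groth.Agent.Lib.Helper21.DedekindH0
import Groth.Agent.Lib.Helper21.RegularLocal
import Groth.Agent.Lib.Helper12.GRDense1

set_option autoImplicit false
universe u
open Models

namespace Groth.Agent.S18427

open CategoryTheory AlgebraicGeometry in

open AlgebraicGeometry CategoryTheory CategoryTheory.Limits in
/-- Let R be a discrete valuation ring with fraction field K, C a smooth proper geometrically connected
curve over K, and X a regular proper model of C over R (flat and proper over R, regular, with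
generic fibre C). Then the structure morphism X → Spec R has geometrically connected fibres; in
particular the special fibre of X is geometrically connected over the residue field of R. -/
theorem result (R : Type u) [CommRing R] [IsDomain R]
    [IsDiscreteValuationRing R] (C X : Scheme.{u})
    (f : C ⟶ Spec (CommRingCat.of (FractionRing R))) (p : X ⟶ Spec (CommRingCat.of R))
    (hC : Curve.IsSmoothProperCurve (FractionRing R) C f) [GeometricallyConnected f]
    (hX : Models.IsRegularProperModel R X p C f) :
    GeometricallyConnected p := by
  obtain ⟨⟨hflat, hlft, hqc, g, hpb⟩, hproper, hreg⟩ := hX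
  obtain ⟨hCproper, hCsmooth, hCint, -⟩ := hC
  haveI := hflat
  haveI := hproper
  haveI := hCproper
  haveI := hCsmooth
  haveI := hCint
  -- `X` is reduced
  haveI : IsReduced X := by
    haveI : ∀ x : X, _root_.IsReduced (X.presheaf.stalk x) := fun x => by
      haveI := hreg x
      haveI := Groth.Agent.Lib.Helper21.isDomain_of_isRegularLocalRing (X.presheaf.stalk x)
      infer_instance
    exact isReduced_of_isReduced_stalk X
  -- the generic fibre is dense
  have hrange : Set.range g.base = p.base ⁻¹' Set.range (Neron.genPt R).base := by
    have h1 : g = hpb.isoPullback.hom ≫ pullback.fst p (Neron.genPt R) :=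
      (hpb.isoPullback_hom_fst).symm
    have hs : Function.Surjective ⇑hpb.isoPullback.hom :=
      hpb.isoPullback.hom.homeomorph.surjective
    rw [h1, Scheme.Hom.comp_base, TopCat.coe_comp, Set.range_comp,
      Set.range_eq_univ.mpr hs, Set.image_univ]
    exact Scheme.Pullback.range_fst p (Neron.genPt R)
  have hdense : Dense (Set.range g.base) := by
    intro x
    let pt : Spec (CommRingCat.of (FractionRing R)) := (⊥ : PrimeSpectrum (FractionRing R))
    have hη : (Neron.genPt R).base pt ⤳ p.base x := by
      have hle : PrimeSpectrum.asIdeal (R := R) ((Neron.genPt R).base pt) ≤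
          PrimeSpectrum.asIdeal (R := R) (p.base x) := by
        intro r hr
        have h2 : algebraMap R (FractionRing R) r = 0 := hr
        have h3 : r = 0 := (IsFractionRing.injective R (FractionRing R)) (by rw [h2, map_zero])
        rw [h3]
        exact Ideal.zero_mem _
      exact (PrimeSpectrum.le_iff_specializes (R := R) ((Neron.genPt R).base pt) (p.base x)).mp hle
    obtain ⟨x', hx'x, hx'⟩ := (Flat.generalizingMap p) hη
    have hx'mem : x' ∈ Set.range g.base := by
      rw [hrange]
      exact ⟨pt, hx'.symm⟩
    exact hx'x.mem_closed isClosed_closure (subset_closure hx'mem)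
  haveI : IrreducibleSpace X := by
    have h1 : IsIrreducible (Set.range g.base) := by
      rw [← Set.image_univ]
      exact (IrreducibleSpace.isIrreducible_univ C).image g.base g.continuous.continuousOn
    have h2 := h1.closure
    rw [hdense.closure_eq] at h2
    exact (irreducibleSpace_def X).mpr h2
  haveI : IsIntegral X := isIntegral_of_irreducibleSpace_of_isReduced X
  -- the generic fibre of `p`
  have he : hpb.isoPullback.hom ≫ pullback.snd p (Neron.genPt R) = f := hpb.isoPullback_hom_snd
  have hsnd : pullback.snd p (Neron.genPt R) = hpb.isoPullback.inv ≫ f := by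
    rw [Iso.eq_inv_comp]
    exact he
  haveI : GeometricallyReduced f :=
    Groth.Agent.Lib.Helper12.H12GRDense.geometricallyReduced_of_smooth f
  haveI : GeometricallyConnected (pullback.snd p (Neron.genPt R)) := by
    rw [hsnd]
    exact (MorphismProperty.cancel_left_of_respectsIso (P := @GeometricallyConnected)
      hpb.isoPullback.inv f).mpr inferInstance
  haveI : GeometricallyReduced (pullback.snd p (Neron.genPt R)) := by
    rw [hsnd]
    exact (MorphismProperty.cancel_left_of_respectsIso (P := @GeometricallyReduced)
      hpb.isoPullback.inv f).mpr inferInstance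
  have hbij := Groth.Agent.Lib.Helper21.DedekindH0.bijective_toGlobal_of_dedekind X p
  have hρ : Function.Bijective (Groth.Agent.Lib.Helper4.ZY.ρ R p) := hbij
  haveI : IsIso (CommRingCat.ofHom (Groth.Agent.Lib.Helper4.ZY.ρ R p)) :=
    (ConcreteCategory.isIso_iff_bijective _).mpr hρ
  haveI := Groth.Agent.Lib.Helper4.ZY.geometricallyConnected_toSpecΓ R p
  rw [Groth.Agent.Lib.Helper4.ZY.fac R p]
  exact (MorphismProperty.cancel_right_of_respectsIso (P := @GeometricallyConnected)
    X.toSpecΓ (Spec.map (CommRingCat.ofHom (Groth.Agent.Lib.Helper4.ZY.ρ R p)))).mpr inferInstance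

end Groth.Agent.S18427
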