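import Groth.Statements.S18429
-- import your own Groth.Agent.* helpers here

set_option autoImplicit false
universe u
open SpinCurv

namespace Groth.Agent.S18429

/-- Let n ≥ 1 and r ≥ 2 be integers and let e_0, …, e_{nr} be integers with e_0 = e_{nr} = 0 (the
coefficients of a chain of nr - 1 exceptional curves joining two non-exceptional components with
coefficient zero) such that at every interior index 1 ≤ j ≤ nr - 1 the second difference e_{j-1} - 2
e_j + e_{j+1} (the degree of the divisor Σ e_i E_i on the j-th curve of the chain) is divisible by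
r. Then there are integers e'_0, …, e'_{nr}, with e'_j ≡ e_j modulo r for every interior j, with
e'_0 = e'_{nr} = 0 and every e'_j ≤ 0, whose second differences at the interior indices are each 0
or r, and are nonzero at no two distinct interior indices. -/
theorem result (n r : ℕ) (hn : 1 ≤ n) (hr : 2 ≤ r)
    (e : ℕ → ℤ) (he0 : e 0 = 0) (henr : e (n * r) = 0)
    (hdiv : ∀ j : ℕ, 1 ≤ j → j < n * r → (r : ℤ) ∣ e (j - 1) - 2 * e j + e (j + 1)) :
    ∃ e' : ℕ → ℤ, e' 0 = 0 ∧ e' (n * r) = 0 ∧
      (∀ j : ℕ, 1 ≤ j → j < n * r → (r : ℤ) ∣ e' j - e j) ∧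
      (∀ j : ℕ, j ≤ n * r → e' j ≤ 0) ∧
      (∀ j : ℕ, 1 ≤ j → j < n * r →
        (e' (j - 1) - 2 * e' j + e' (j + 1) = 0 ∨ e' (j - 1) - 2 * e' j + e' (j + 1) = r)) ∧
      (∀ j j' : ℕ, 1 ≤ j → j < n * r → 1 ≤ j' → j' < n * r →
        e' (j - 1) - 2 * e' j + e' (j + 1) ≠ 0 → e' (j' - 1) - 2 * e' j' + e' (j' + 1) ≠ 0 → j = j') := by
  have hrpos : (0 : ℤ) < r := by exact_mod_cast (by omega : 0 < r)
  -- a = e 1 mod r
  obtain ⟨A, hA⟩ : ∃ A : ℕ, (A : ℤ) = e 1 % r :=
    ⟨(e 1 % r).toNat, Int.toNat_of_nonneg (Int.emod_nonneg _ hrpos.ne')⟩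
  have hAlt : (A : ℤ) < r := by rw [hA]; exact Int.emod_lt_of_pos _ hrpos
  have hAe : (r : ℤ) ∣ (A : ℤ) - e 1 := by
    rw [hA, Int.emod_def]
    exact ⟨-(e 1 / r), by ring⟩
  -- congruence e j ≡ j e 1
  have hcong : ∀ j : ℕ, j ≤ n * r → (r : ℤ) ∣ e j - j * e 1 := by
    intro j
    induction j using Nat.strong_induction_on with
    | _ j ih =>
      intro hj
      match j, ih, hj with
      | 0, _, _ => simp [he0]
      | 1, _, _ => simp
      | (i + 2), ih, hj =>
        have h1 := ih i (by omega) (by omega)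
        have h2 := ih (i + 1) (by omega) (by omega)
        have h3 := hdiv (i + 1) (by omega) (by omega)
        have : e (i + 2) - ((i + 2 : ℕ) : ℤ) * e 1
            = (e (i + 1 - 1) - 2 * e (i + 1) + e (i + 1 + 1))
              + 2 * (e (i + 1) - ((i + 1 : ℕ) : ℤ) * e 1) - (e i - (i : ℤ) * e 1) := by
          simp only [Nat.add_sub_cancel]
          push_cast
          ring
        rw [this]
        exact dvd_sub (dvd_add h3 (Dvd.dvd.mul_left h2 2)) h1
  let e' : ℕ → ℤ := fun j =>
    if j ≤ A * n then -((r : ℤ) - A) * j else (A : ℤ) * j - r * A * n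
  have hlow : ∀ j : ℕ, j ≤ A * n → e' j = -((r : ℤ) - A) * j := fun j h => if_pos h
  have hhigh : ∀ j : ℕ, A * n ≤ j → e' j = (A : ℤ) * j - r * A * n := by
    intro j h
    by_cases h' : j ≤ A * n
    · have hj : j = A * n := le_antisymm h' h
      rw [hlow j h', hj]
      push_cast
      ring
    · exact if_neg h'
  have hAn : A * n < n * r ∨ A = 0 := by
    by_cases hA0 : A = 0
    · exact Or.inr hA0
    · left
      have : A < r := by exact_mod_cast hAlt
      calc A * n < r * n := Nat.mul_lt_mul_of_pos_right this (by omega)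
        _ = n * r := Nat.mul_comm _ _
  have hsd : ∀ i : ℕ, i + 2 ≤ n * r →
      (i + 1 ≠ A * n → e' i - 2 * e' (i + 1) + e' (i + 2) = 0) ∧
      (i + 1 = A * n → e' i - 2 * e' (i + 1) + e' (i + 2) = r) := by
    intro i hi
    constructor
    · intro hne
      by_cases h1 : i + 2 ≤ A * n
      · rw [hlow i (by omega), hlow (i + 1) (by omega), hlow (i + 2) h1]
        push_cast
        ring
      · have h2 : A * n ≤ i := by omega
        rw [hhigh i h2, hhigh (i + 1) (by omega), hhigh (i + 2) (by omega)]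
        push_cast
        ring
    · intro heq
      rw [hlow i (by omega), hlow (i + 1) (by omega), hhigh (i + 2) (by omega)]
      have : ((A : ℤ) * n) = (i : ℤ) + 1 := by exact_mod_cast heq.symm
      push_cast
      linear_combination (-(r : ℤ)) * this
  refine ⟨e', ?_, ?_, ?_, ?_, ?_, ?_⟩
  · rw [hlow 0 (Nat.zero_le _)]; simp
  · rcases hAn with h | h
    · rw [hhigh (n * r) h.le]; push_cast; ring
    · rw [hhigh (n * r) (by rw [h]; simp), h]; simp
  · intro j hj1 hj2
    have h1 := hcong j hj2.le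
    have h2 : (r : ℤ) ∣ e' j - j * A := by
      by_cases h : j ≤ A * n
      · rw [hlow j h]
        exact ⟨-(j : ℤ), by ring⟩
      · rw [hhigh j (by omega)]
        exact ⟨-((A : ℤ) * n), by ring⟩
    have : e' j - e j = (e' j - j * A) + (j : ℤ) * ((A : ℤ) - e 1) - (e j - j * e 1) := by ring
    rw [this]
    exact dvd_sub (dvd_add h2 (Dvd.dvd.mul_left hAe _)) h1
  · intro j hj
    by_cases h : j ≤ A * n
    · rw [hlow j h]
      have : (0 : ℤ) ≤ ((r : ℤ) - A) * j := mul_nonneg (by linarith) (by positivity)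
      linarith
    · rw [hhigh j (by omega)]
      have hj' : (j : ℤ) ≤ n * r := by exact_mod_cast hj
      have : (A : ℤ) * j ≤ A * (n * r) := mul_le_mul_of_nonneg_left hj' (by positivity)
      linarith
  · intro j hj1 hj2
    obtain ⟨i, rfl⟩ := Nat.exists_eq_succ_of_ne_zero (by omega : j ≠ 0)
    simp only [Nat.succ_eq_add_one, Nat.add_sub_cancel]
    by_cases h : i + 1 = A * n
    · exact Or.inr ((hsd i (by omega)).2 h)
    · exact Or.inl ((hsd i (by omega)).1 h)
  · intro j j' hj1 hj2 hj'1 hj'2 hne hne'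
    obtain ⟨i, rfl⟩ := Nat.exists_eq_succ_of_ne_zero (by omega : j ≠ 0)
    obtain ⟨i', rfl⟩ := Nat.exists_eq_succ_of_ne_zero (by omega : j' ≠ 0)
    simp only [Nat.succ_eq_add_one, Nat.add_sub_cancel] at hne hne' ⊢
    have h1 : i + 1 = A * n := by
      by_contra h
      exact hne ((hsd i (by omega)).1 h)
    have h2 : i' + 1 = A * n := by
      by_contra h
      exact hne' ((hsd i' (by omega)).1 h)
    omega

end Groth.Agent.S18429
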