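import Groth.Statements.S18434
import Mathlib

set_option autoImplicit false
universe u
open SpinCurv

namespace Groth.Agent.S18434

section helpers

open MvPowerSeries

variable (k : Type u) [Field k] (u v : ℕ)

/-- The coefficient map. -/
noncomputable def Phi : MvPowerSeries (Fin 2) k →ₗ[k] (Fin u → k) × (Fin (v - 1) → k) :=
  LinearMap.prod (LinearMap.pi fun i : Fin u => coeff (Finsupp.single (0 : Fin 2) (i : ℕ)))
    (LinearMap.pi fun j : Fin (v - 1) => coeff (Finsupp.single (1 : Fin 2) ((j : ℕ) + 1)))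

theorem Phi_eq_zero_iff (F : MvPowerSeries (Fin 2) k) :
    Phi k u v F = 0 ↔ (∀ a < u, coeff (Finsupp.single (0 : Fin 2) a) F = 0) ∧
      (∀ b, 1 ≤ b → b < v → coeff (Finsupp.single (1 : Fin 2) b) F = 0) := by
  constructor
  · intro h
    have h1 := congrArg Prod.fst h
    have h2 := congrArg Prod.snd h
    refine ⟨fun a ha => congrFun h1 ⟨a, ha⟩, fun b hb1 hb => ?_⟩
    have := congrFun h2 ⟨b - 1, by omega⟩
    simp only [Phi, LinearMap.prod_apply, Function.prod, LinearMap.pi_apply] at this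
    rwa [Nat.sub_add_cancel hb1] at this
  · rintro ⟨h1, h2⟩
    apply Prod.ext
    · funext i
      exact h1 i i.2
    · funext j
      exact h2 (j + 1) (by omega) (by have := j.2; omega)

theorem X0_pow : (X (0 : Fin 2) : MvPowerSeries (Fin 2) k) ^ u = monomial (Finsupp.single 0 u) 1 :=
  X_pow_eq _ _

theorem CX1_pow (w : k) : (C w : MvPowerSeries (Fin 2) k) * X (1 : Fin 2) ^ v =
    monomial (Finsupp.single 1 v) w := by
  rw [X_pow_eq, ← monomial_zero_eq_C_apply, monomial_mul_monomial, zero_add, mul_one]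

theorem X0X1 : (X (0 : Fin 2) : MvPowerSeries (Fin 2) k) * X 1 =
    monomial (Finsupp.single 0 1 + Finsupp.single 1 1) 1 := by
  rw [X_def, X_def, monomial_mul_monomial, mul_one]

theorem le_iff (e n : Fin 2 →₀ ℕ) : e ≤ n ↔ e 0 ≤ n 0 ∧ e 1 ≤ n 1 := by
  rw [Finsupp.le_def]
  constructor
  · intro h; exact ⟨h 0, h 1⟩
  · rintro ⟨h0, h1⟩ i
    fin_cases i <;> assumption

theorem mem_iff (hu : 1 ≤ u) (hv : 1 ≤ v) (w : k) (hw : w ≠ 0) (F : MvPowerSeries (Fin 2) k) :
    Phi k u v F = 0 ↔ ∃ A B C' : MvPowerSeries (Fin 2) k,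
      F = A * X 0 ^ u + B * (C w * X 1 ^ v) + C' * (X 0 * X 1) := by
  rw [Phi_eq_zero_iff, X0_pow, X0X1]
  constructor
  · rintro ⟨h1, h2⟩
    let A : MvPowerSeries (Fin 2) k := fun n => if n 1 = 0 then coeff (n + Finsupp.single 0 u) F else 0
    let B : MvPowerSeries (Fin 2) k :=
      fun n => if n 0 = 0 then w⁻¹ * coeff (n + Finsupp.single 1 v) F else 0
    let C' : MvPowerSeries (Fin 2) k :=
      fun n => coeff (n + (Finsupp.single 0 1 + Finsupp.single 1 1)) F
    have hA : ∀ n, coeff n A = if n 1 = 0 then coeff (n + Finsupp.single 0 u) F else 0 := fun n => rfl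
    have hB : ∀ n, coeff n B = if n 0 = 0 then w⁻¹ * coeff (n + Finsupp.single 1 v) F else 0 :=
      fun n => rfl
    have hC : ∀ n, coeff n C' = coeff (n + (Finsupp.single 0 1 + Finsupp.single 1 1)) F := fun n => rfl
    refine ⟨A, B, C', ?_⟩
    rw [CX1_pow]
    ext n
    simp only [map_add, coeff_mul_monomial, le_iff, hA, hB, hC, mul_one]
    simp only [Finsupp.single_apply, Finsupp.add_apply, Finsupp.tsub_apply]
    have hn : ∀ n' : Fin 2 →₀ ℕ, n' 0 = n 0 → n' 1 = n 1 → n' = n := by
      intro n' h0 h1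
      ext i; fin_cases i <;> assumption
    simp only [if_true, Fin.isValue, zero_ne_one, one_ne_zero, if_false, Nat.zero_le, true_and,
      and_true, Nat.sub_zero, zero_add, add_zero]
    have e1 : u ≤ n 0 → (n - Finsupp.single 0 u) + Finsupp.single 0 u = n := by
      intro h
      apply hn
      · simp only [Finsupp.add_apply, Finsupp.tsub_apply, Finsupp.single_apply, if_true]; omega
      · simp
    have e2 : v ≤ n 1 → (n - Finsupp.single 1 v) + Finsupp.single 1 v = n := by
      intro h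
      apply hn
      · simp
      · simp only [Finsupp.add_apply, Finsupp.tsub_apply, Finsupp.single_apply, if_true]; omega
    have e3 : 1 ≤ n 0 → 1 ≤ n 1 → (n - (Finsupp.single 0 1 + Finsupp.single 1 1)) +
        (Finsupp.single 0 1 + Finsupp.single 1 1) = n := by
      intro h h'
      apply hn
      · simp; omega
      · simp; omega
    by_cases hb : n 1 = 0
    · have hn0 : n = Finsupp.single 0 (n 0) := by
        apply (hn _ _ _).symm
        · simp
        · simp [hb]
      rw [if_neg (by omega : ¬ v ≤ n 1), if_neg (by omega : ¬ (1 ≤ n 0 ∧ 1 ≤ n 1)), add_zero, add_zero,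
        if_pos hb]
      by_cases hua : u ≤ n 0
      · rw [if_pos hua, e1 hua]
      · rw [if_neg hua, hn0]
        exact h1 _ (by omega)
    · by_cases ha : n 0 = 0
      · have hn1 : n = Finsupp.single 1 (n 1) := by
          apply (hn _ _ _).symm
          · simp [ha]
          · simp
        rw [if_neg (by omega : ¬ u ≤ n 0), if_neg (by omega : ¬ (1 ≤ n 0 ∧ 1 ≤ n 1)), add_zero, zero_add,
          if_pos ha]
        by_cases hvb : v ≤ n 1
        · rw [if_pos hvb, e2 hvb, mul_comm, ← mul_assoc, mul_inv_cancel₀ hw, one_mul]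
        · rw [if_neg hvb, hn1]
          exact h2 _ (by omega) (by omega)
      · rw [if_pos (by omega : 1 ≤ n 0 ∧ 1 ≤ n 1), e3 (by omega) (by omega), if_neg hb, if_neg ha]
        simp
  · rintro ⟨A, B, C', rfl⟩
    rw [CX1_pow]
    constructor
    · intro a ha
      simp only [map_add, coeff_mul_monomial, le_iff]
      simp only [Finsupp.single_apply, Finsupp.add_apply]
      simp only [if_true, Fin.isValue, zero_ne_one, one_ne_zero, if_false]
      rw [if_neg (by omega), if_neg (by omega), if_neg (by omega)]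
      simp
    · intro b hb1 hb
      simp only [map_add, coeff_mul_monomial, le_iff]
      simp only [Finsupp.single_apply, Finsupp.add_apply]
      simp only [if_true, Fin.isValue, zero_ne_one, one_ne_zero, if_false]
      rw [if_neg (by omega), if_neg (by omega), if_neg (by omega)]
      simp


theorem Phi_surjective : Function.Surjective (Phi k u v) := by
  rintro ⟨α, β⟩
  let F : MvPowerSeries (Fin 2) k := fun n =>
    if h : n 1 = 0 ∧ n 0 < u then α ⟨n 0, h.2⟩
    else if h' : n 0 = 0 ∧ 1 ≤ n 1 ∧ n 1 < v then β ⟨n 1 - 1, by omega⟩ else 0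
  refine ⟨F, ?_⟩
  apply Prod.ext
  · funext i
    change F (Finsupp.single 0 (i : ℕ)) = α i
    have h : (Finsupp.single (0 : Fin 2) (i : ℕ)) 1 = 0 ∧ (Finsupp.single (0 : Fin 2) (i : ℕ)) 0 < u := by
      simp
    simp only [F, dif_pos h]
    congr 1
    apply Fin.ext
    simp
  · funext j
    change F (Finsupp.single 1 ((j : ℕ) + 1)) = β j
    have hj := j.2
    have h : ¬ ((Finsupp.single (1 : Fin 2) ((j : ℕ) + 1)) 1 = 0 ∧
        (Finsupp.single (1 : Fin 2) ((j : ℕ) + 1)) 0 < u) := by
      simp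
    have h' : (Finsupp.single (1 : Fin 2) ((j : ℕ) + 1)) 0 = 0 ∧
        1 ≤ (Finsupp.single (1 : Fin 2) ((j : ℕ) + 1)) 1 ∧
        (Finsupp.single (1 : Fin 2) ((j : ℕ) + 1)) 1 < v := by
      simp; omega
    simp only [F, dif_neg h, dif_pos h']
    congr 1
    apply Fin.ext
    simp


end helpers

/-- Let k be a field, u, v ≥ 1 integers and w ∈ k nonzero. In the ring A = k[[x, y]]/(xy), the quotient
A/(x^u, w y^v) has dimension u + v - 1 over k (a basis is 1, x, …, x^{u-1}, y, …, y^{v-1}); this is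
the length of the cokernel at the node of a map whose image is generated by x^u and w y^v. -/
theorem result (k : Type u) [Field k] (u v : ℕ) (hu : 1 ≤ u) (hv : 1 ≤ v)
    (w : k) (hw : w ≠ 0) :
    Module.finrank k (SpinCurv.NodeRing k 0 ⧸
      Ideal.span {SpinCurv.NodeRing.x k 0 ^ u, algebraMap k (SpinCurv.NodeRing k 0) w * SpinCurv.NodeRing.y k 0 ^ v}) =
      u + v - 1 := by
  classical
  let I₀ : Ideal (MvPowerSeries (Fin 2) k) :=
    Ideal.span {(MvPowerSeries.X 0 * MvPowerSeries.X 1 - MvPowerSeries.C 0 : MvPowerSeries (Fin 2) k)}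
  let J : Ideal (SpinCurv.NodeRing k 0) :=
    Ideal.span {SpinCurv.NodeRing.x k 0 ^ u,
      algebraMap k (SpinCurv.NodeRing k 0) w * SpinCurv.NodeRing.y k 0 ^ v}
  let π : MvPowerSeries (Fin 2) k →ₗ[k] (SpinCurv.NodeRing k 0 ⧸ J) :=
    ((Ideal.Quotient.mkₐ k J).comp (Ideal.Quotient.mkₐ k I₀)).toLinearMap
  have hπ : Function.Surjective π :=
    (Ideal.Quotient.mkₐ_surjective k J).comp (Ideal.Quotient.mkₐ_surjective k I₀)
  have hker : LinearMap.ker π = LinearMap.ker (Phi k u v) := by
    ext F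
    rw [LinearMap.mem_ker, LinearMap.mem_ker, mem_iff k u v hu hv w hw]
    change (Ideal.Quotient.mk J) ((Ideal.Quotient.mk I₀) F) = 0 ↔ _
    rw [Ideal.Quotient.eq_zero_iff_mem, Ideal.mem_span_pair]
    constructor
    · rintro ⟨a, b, hab⟩
      obtain ⟨A, rfl⟩ := Ideal.Quotient.mk_surjective a
      obtain ⟨B, rfl⟩ := Ideal.Quotient.mk_surjective b
      have h1 : (Ideal.Quotient.mk I₀) (F - (A * MvPowerSeries.X 0 ^ u +
          B * (MvPowerSeries.C w * MvPowerSeries.X 1 ^ v))) = 0 := by
        rw [map_sub, ← hab, sub_eq_zero]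
        simp only [map_add, map_mul, map_pow]
        rfl
      rw [Ideal.Quotient.eq_zero_iff_mem, Ideal.mem_span_singleton'] at h1
      obtain ⟨C', hC'⟩ := h1
      refine ⟨A, B, C', ?_⟩
      rw [map_zero, sub_zero] at hC'
      rw [hC']
      ring
    · rintro ⟨A, B, C', rfl⟩
      refine ⟨Ideal.Quotient.mk I₀ A, Ideal.Quotient.mk I₀ B, ?_⟩
      have h1 : (Ideal.Quotient.mk I₀) (C' * (MvPowerSeries.X 0 * MvPowerSeries.X 1)) = 0 := by
        rw [Ideal.Quotient.eq_zero_iff_mem, Ideal.mem_span_singleton']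
        exact ⟨C', by rw [map_zero, sub_zero]⟩
      rw [map_add, h1, add_zero]
      simp only [map_add, map_mul, map_pow]
      rfl
  let e : (SpinCurv.NodeRing k 0 ⧸ J) ≃ₗ[k] (Fin u → k) × (Fin (v - 1) → k) :=
    (π.quotKerEquivOfSurjective hπ).symm ≪≫ₗ Submodule.quotEquivOfEq _ _ hker ≪≫ₗ
      (Phi k u v).quotKerEquivOfSurjective (Phi_surjective k u v)
  have := e.finrank_eq
  rw [Module.finrank_prod, Module.finrank_fin_fun, Module.finrank_fin_fun] at this
  rw [show u + v - 1 = u + (v - 1) by omega]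
  exact this

end Groth.Agent.S18434
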