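import Groth.Statements.S18435
import Mathlib

set_option autoImplicit false
universe u
open SpinCurv

namespace Groth.Agent.S18435

section helpers
open MvPolynomial


variable (k : Type*) [Field k]

noncomputable abbrev I : Ideal (MvPolynomial (Fin 2) k) :=
  Ideal.span {(MvPolynomial.X 0 * MvPolynomial.X 1 - MvPolynomial.C 0 : MvPolynomial (Fin 2) k)}

theorem memI (H : MvPolynomial (Fin 2) k) :
    H ∈ I k ↔ ∀ m ∈ H.support, 1 ≤ m 0 ∧ 1 ≤ m 1 := by
  have h1 : (MvPolynomial.X 0 * MvPolynomial.X 1 - MvPolynomial.C 0 : MvPolynomial (Fin 2) k) =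
      monomial (Finsupp.single 0 1 + Finsupp.single 1 1) 1 := by
    rw [map_zero, sub_zero, X, X, monomial_mul, one_mul]
  have h2 : ({(MvPolynomial.X 0 * MvPolynomial.X 1 - MvPolynomial.C 0 : MvPolynomial (Fin 2) k)} :
      Set (MvPolynomial (Fin 2) k)) =
      (fun s => monomial s (1 : k)) '' {Finsupp.single 0 1 + Finsupp.single 1 1} := by
    rw [Set.image_singleton, h1]
  rw [I, h2, mem_ideal_span_monomial_image]
  refine forall₂_congr fun m _ => ?_
  simp only [Set.mem_singleton_iff, exists_eq_left]
  constructor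
  · intro h
    have h0 := h 0
    have h1 := h 1
    simp at h0 h1
    exact ⟨h0, h1⟩
  · rintro ⟨h0, h1⟩ i
    fin_cases i <;> simp [h0, h1]




theorem decomp (H : MvPolynomial (Fin 2) k) (hH : ∀ m ∈ H.support, 1 ≤ m 0) :
    ∃ A : Polynomial k, (Ideal.Quotient.mk (I k) H) =
      Ideal.Quotient.mk (I k) (X 0) * Polynomial.aeval (Ideal.Quotient.mk (I k) (X 0)) A := by
  classical
  refine ⟨∑ v ∈ H.support, if v 1 = 0 then Polynomial.monomial (v 0 - 1) (coeff v H) else 0, ?_⟩
  conv_lhs => rw [H.as_sum]
  rw [map_sum, map_sum, Finset.mul_sum]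
  refine Finset.sum_congr rfl fun v hv => ?_
  have h0 := hH v hv
  split_ifs with h1
  · have hv' : v = Finsupp.single 0 (v 0 - 1 + 1) := by
      ext i; fin_cases i
      · simp; omega
      · simp [h1]
    rw [Polynomial.aeval_monomial]
    obtain ⟨c, hc⟩ : ∃ c, c = coeff v H := ⟨_, rfl⟩
    rw [← hc]
    conv_lhs => rw [hv', ← C_mul_X_pow_eq_monomial, pow_succ]
    rw [map_mul, map_mul, map_pow]
    have : algebraMap k (MvPolynomial (Fin 2) k ⧸ I k) c =
        Ideal.Quotient.mk (I k) (C c) := rfl
    rw [this]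
    ring
  · rw [map_zero, mul_zero, Ideal.Quotient.eq_zero_iff_mem, memI]
    intro m hm
    have hm' : m = v := by
      by_contra hne
      rw [mem_support_iff, coeff_monomial, if_neg (fun h => hne h.symm)] at hm
      exact hm rfl
    subst hm'
    exact ⟨h0, Nat.one_le_iff_ne_zero.mpr h1⟩

theorem support_of_X1_mul (G : MvPolynomial (Fin 2) k) (h : X 1 * G ∈ I k) :
    ∀ m ∈ G.support, 1 ≤ m 0 := by
  intro m hm
  rw [memI] at h
  have : m + Finsupp.single 1 1 ∈ (X 1 * G).support := by
    rw [mem_support_iff, mul_comm, coeff_mul_X]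
    exact mem_support_iff.mp hm
  have := (h _ this).1
  simpa using this



end helpers

section helpers2
open LaurentPolynomial Polynomial


theorem toLaurent_coeff_nat {k : Type*} [Field k] (A : k[X]) (j : ℕ) :
    (toLaurent A).coeff (j : ℤ) = A.coeff j := by
  rw [coeff_toLaurent]
  exact Finsupp.mapDomain_apply Nat.cast_injective _ j

theorem toLaurent_coeff_neg {k : Type*} [Field k] (A : k[X]) (n : ℤ) (hn : n < 0) :
    (toLaurent A).coeff n = 0 := by
  rw [coeff_toLaurent]
  apply Finsupp.mapDomain_of_notMem_range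
  rintro ⟨j, hj⟩
  have : (j : ℤ) = n := hj
  omega

theorem coeff_T_mul {k : Type*} [Field k] (m n : ℤ) (f : k[T;T⁻¹]) :
    (T m * f).coeff n = f.coeff (n - m) := by
  unfold T
  rw [AddMonoidAlgebra.coeff_single_mul_apply, one_mul, neg_add_eq_sub]

end helpers2

/-- Let k be a field and A = k[x, y]/(xy) the node, with the two affine charts U = Spec k[s, y]/(sy) and
V = Spec k[t, x]/(tx) of the curve obtained by the (p, q)-construction with p = q = 0, glued along
k[s, s⁻¹] by t = s⁻¹ (y ↦ 0 from U, x ↦ 0 from V), and with A → O(U) given by x ↦ 0, y ↦ y and A →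
O(V) by x ↦ x, y ↦ 0. A global section of O(1) is a pair (g, f) with g = s f on U ∩ V. If such a
pair is annihilated by both x and y (acting through the two restriction maps), then g = 0 and f = 0;
so the module of global sections of O(1) has no nonzero element killed by the maximal ideal (x, y),
i.e. its direct image on the node is torsion-free there. All three coordinate rings are written as
the quotient of the polynomial ring in two variables by the product of the variables, and the four
restriction homomorphisms are k-algebra maps pinned by their values on generators. (The published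
proof reduces the torsion-freeness of the direct image of O(1), for general R, p, q, to exactly this
case of a field with p = q = 0.) -/
theorem result (k : Type u) [Field k]
    (rU : SpinCurv.PolyNodeRing k 0 →ₐ[k] SpinCurv.PolyNodeRing k 0)
    (hrUx : rU (SpinCurv.PolyNodeRing.x k 0) = 0)
    (hrUy : rU (SpinCurv.PolyNodeRing.y k 0) = SpinCurv.PolyNodeRing.y k 0)
    (rV : SpinCurv.PolyNodeRing k 0 →ₐ[k] SpinCurv.PolyNodeRing k 0)
    (hrVx : rV (SpinCurv.PolyNodeRing.x k 0) = SpinCurv.PolyNodeRing.y k 0)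
    (hrVy : rV (SpinCurv.PolyNodeRing.y k 0) = 0)
    (gU : SpinCurv.PolyNodeRing k 0 →ₐ[k] LaurentPolynomial k)
    (hgUs : gU (SpinCurv.PolyNodeRing.x k 0) = LaurentPolynomial.T 1)
    (hgUy : gU (SpinCurv.PolyNodeRing.y k 0) = 0)
    (gV : SpinCurv.PolyNodeRing k 0 →ₐ[k] LaurentPolynomial k)
    (hgVt : gV (SpinCurv.PolyNodeRing.x k 0) = LaurentPolynomial.T (-1))
    (hgVx : gV (SpinCurv.PolyNodeRing.y k 0) = 0)
    (g f : SpinCurv.PolyNodeRing k 0) (hsec : gU g = LaurentPolynomial.T 1 * gV f)
    (hx : rU (SpinCurv.PolyNodeRing.x k 0) * g = 0 ∧ rV (SpinCurv.PolyNodeRing.x k 0) * f = 0)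
    (hy : rU (SpinCurv.PolyNodeRing.y k 0) * g = 0 ∧ rV (SpinCurv.PolyNodeRing.y k 0) * f = 0) :
    g = 0 ∧ f = 0 := by
  obtain ⟨hyf⟩ : PLift (SpinCurv.PolyNodeRing.y k 0 * f = 0) := ⟨by rw [← hrVx]; exact hx.2⟩
  obtain ⟨hyg⟩ : PLift (SpinCurv.PolyNodeRing.y k 0 * g = 0) := ⟨by rw [← hrUy]; exact hy.1⟩
  obtain ⟨G, rfl⟩ := Ideal.Quotient.mk_surjective g
  obtain ⟨F, rfl⟩ := Ideal.Quotient.mk_surjective f
  have hG : MvPolynomial.X 1 * G ∈ I k := by
    rw [← Ideal.Quotient.eq_zero_iff_mem, map_mul]; exact hyg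
  have hF : MvPolynomial.X 1 * F ∈ I k := by
    rw [← Ideal.Quotient.eq_zero_iff_mem, map_mul]; exact hyf
  obtain ⟨A, hA⟩ := decomp k G (support_of_X1_mul k G hG)
  obtain ⟨B, hB⟩ := decomp k F (support_of_X1_mul k F hF)
  have hgU : gU (Ideal.Quotient.mk (I k) G) = LaurentPolynomial.T 1 * Polynomial.toLaurent A := by
    rw [hA, map_mul, ← Polynomial.aeval_algHom_apply]
    change gU (SpinCurv.PolyNodeRing.x k 0) * Polynomial.aeval (gU (SpinCurv.PolyNodeRing.x k 0)) A = _
    rw [hgUs]
    congr 1
    have := Polynomial.aeval_algHom_apply (Polynomial.toLaurentAlg (R := k)) Polynomial.X A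
    rw [Polynomial.aeval_X_left, AlgHom.id_apply, Polynomial.toLaurentAlg_apply,
      Polynomial.toLaurentAlg_apply, Polynomial.toLaurent_X] at this
    exact this
  have hgV : gV (Ideal.Quotient.mk (I k) F) =
      LaurentPolynomial.T (-1) * LaurentPolynomial.invert (Polynomial.toLaurent B) := by
    rw [hB, map_mul, ← Polynomial.aeval_algHom_apply]
    change gV (SpinCurv.PolyNodeRing.x k 0) * Polynomial.aeval (gV (SpinCurv.PolyNodeRing.x k 0)) B = _
    rw [hgVt]
    congr 1
    have := Polynomial.aeval_algHom_apply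
      ((LaurentPolynomial.invert (R := k)).toAlgHom.comp (Polynomial.toLaurentAlg (R := k)))
      Polynomial.X B
    rw [Polynomial.aeval_X_left, AlgHom.id_apply] at this
    simp only [AlgHom.comp_apply, Polynomial.toLaurentAlg_apply, Polynomial.toLaurent_X] at this
    have this' : Polynomial.aeval (LaurentPolynomial.invert (LaurentPolynomial.T (1 : ℤ))) B =
      LaurentPolynomial.invert (Polynomial.toLaurent B) := this
    rw [LaurentPolynomial.invert_T] at this'
    exact this'
  have key : ∀ n : ℤ, (Polynomial.toLaurent A).coeff (n - 1) = (Polynomial.toLaurent B).coeff (-n) := by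
    intro n
    have h := congrArg (fun q : LaurentPolynomial k => q.coeff n) hsec
    simp only [hgU, hgV] at h
    rw [← mul_assoc, ← LaurentPolynomial.T_add, coeff_T_mul, coeff_T_mul] at h
    simpa using h
  have hA0 : A = 0 := by
    ext j
    have := key (j + 1)
    rw [add_sub_cancel_right, toLaurent_coeff_nat, toLaurent_coeff_neg B _ (by omega)] at this
    simpa using this
  have hB0 : B = 0 := by
    ext j
    have := key (-(j : ℤ))
    rw [neg_neg, toLaurent_coeff_nat, toLaurent_coeff_neg A _ (by omega)] at this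
    simpa using this.symm
  refine ⟨?_, ?_⟩
  · rw [hA, hA0, map_zero, mul_zero]
  · rw [hB, hB0, map_zero, mul_zero]

end Groth.Agent.S18435
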