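import Groth.Statements.S18436
import Mathlib
import Groth.Agent.Lib.Helper9.PolyNode

set_option autoImplicit false
universe u
open SpinCurv

namespace Groth.Agent.S18436

open Groth.Agent.Lib.Helper9.PolyNode in
theorem free_aux (R : Type u) [CommRing R] (p q : R)
    (gU : SpinCurv.PolyNodeRing R q →ₐ[R] LaurentPolynomial R)
    (hgUs : gU (SpinCurv.PolyNodeRing.x R q) = LaurentPolynomial.T 1)
    (hgUy : gU (SpinCurv.PolyNodeRing.y R q) = LaurentPolynomial.C q * LaurentPolynomial.T (-1))
    (gV : SpinCurv.PolyNodeRing R p →ₐ[R] LaurentPolynomial R)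
    (hgVt : gV (SpinCurv.PolyNodeRing.x R p) = LaurentPolynomial.T (-1))
    (hgVx : gV (SpinCurv.PolyNodeRing.y R p) = LaurentPolynomial.C p * LaurentPolynomial.T 1)
    (n : ℤ) (hn : -1 ≤ n)
    (L : (SpinCurv.PolyNodeRing R q × SpinCurv.PolyNodeRing R p) →ₗ[R] LaurentPolynomial R)
    (hL : ∀ g f, L (g, f) = gU g - LaurentPolynomial.T n * gV f) :
    Module.Free R (LinearMap.ker L) := by
  classical
  -- membership in the kernel, coordinatewise
  have hmem : ∀ g f, (g, f) ∈ LinearMap.ker L ↔
      ∀ m : ℤ, q ^ (-m).toNat * nf R q g m = p ^ (m - n).toNat * nf R p f (n - m) := by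
    intro g f
    rw [LinearMap.mem_ker, hL, sub_eq_zero]
    constructor
    · intro h m
      have h' : (gU g).coeff m = (LaurentPolynomial.T n * gV f).coeff m := by rw [h]
      rw [coeff_algHom R q gU q hgUs hgUy, LaurentPolynomial.T, AddMonoidAlgebra.coeff_single_mul_apply,
        one_mul, coeff_algHom' R p gV p hgVt hgVx] at h'
      rw [h']
      congr 2 <;> ring_nf
    · intro h
      ext m
      rw [coeff_algHom R q gU q hgUs hgUy, LaurentPolynomial.T, AddMonoidAlgebra.coeff_single_mul_apply,
        one_mul, coeff_algHom' R p gV p hgVt hgVx, h m]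
      congr 2 <;> ring_nf
  -- the parametrisation
  let a : ℤ → R := fun m => if m < 0 then 1 else p ^ (m - n).toNat
  let b : ℤ → R := fun m => if m < 0 then q ^ (-m).toNat else 1
  let J : (ℤ →₀ R) →ₗ[R] (SpinCurv.PolyNodeRing R q × SpinCurv.PolyNodeRing R p) :=
    LinearMap.prod ((unf R q).comp (diag R a))
      ((unf R p).comp ((refl R n).toLinearMap.comp (diag R b)))
  have hJ1 : ∀ z m, nf R q (J z).1 m = a m * z m := by
    intro z m
    change nf R q (unf R q (diag R a z)) m = _
    rw [nf_unf, diag_apply]
  have hJ2 : ∀ z m, nf R p (J z).2 (n - m) = b m * z m := by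
    intro z m
    change nf R p (unf R p (refl R n (diag R b z))) (n - m) = _
    rw [nf_unf, refl_apply, diag_apply, sub_sub_cancel]
  have hJinj : Function.Injective J := by
    rw [← LinearMap.ker_eq_bot, LinearMap.ker_eq_bot']
    intro z hz
    ext m
    rcases lt_or_ge m 0 with hm | hm
    · have := hJ1 z m
      rw [hz] at this
      simpa [a, hm] using this.symm
    · have := hJ2 z m
      rw [hz] at this
      simpa [b, not_lt.mpr hm] using this.symm
  have hJrange : LinearMap.range J = LinearMap.ker L := by
    apply le_antisymm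
    · rintro _ ⟨z, rfl⟩
      have : J z = ((J z).1, (J z).2) := rfl
      rw [this, hmem]
      intro m
      rw [hJ1, hJ2]
      rcases lt_or_ge m 0 with hm | hm
      · have : (m - n).toNat = 0 := Int.toNat_eq_zero.mpr (by omega)
        simp only [a, b, hm, if_true, this, pow_zero, one_mul]
      · have : (-m).toNat = 0 := Int.toNat_eq_zero.mpr (by omega)
        simp only [a, b, not_lt.mpr hm, if_false, this, pow_zero, one_mul]
    · rintro ⟨g, f⟩ hgf
      rw [hmem] at hgf
      let z : ℤ →₀ R := Finsupp.filter (fun m => m < 0) (nf R q g) +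
        Finsupp.filter (fun m => 0 ≤ m) (refl R n (nf R p f))
      have hz : ∀ m, z m = if m < 0 then nf R q g m else nf R p f (n - m) := by
        intro m
        simp only [z, Finsupp.add_apply, Finsupp.filter_apply, refl_apply]
        rcases lt_or_ge m 0 with hm | hm
        · simp [hm, not_le.mpr hm]
        · simp [hm, not_lt.mpr hm]
      refine ⟨z, ?_⟩
      apply Prod.ext
      · apply (nfEquiv R q).injective
        ext m
        change nf R q (J z).1 m = nf R q g m
        rw [hJ1, hz]
        rcases lt_or_ge m 0 with hm | hm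
        · simp [a, hm]
        · have h0 : (-m).toNat = 0 := Int.toNat_eq_zero.mpr (by omega)
          have := hgf m
          rw [h0, pow_zero, one_mul] at this
          simp [a, not_lt.mpr hm, this]
      · apply (nfEquiv R p).injective
        ext m'
        obtain ⟨m, rfl⟩ : ∃ m, m' = n - m := ⟨n - m', by ring⟩
        change nf R p (J z).2 (n - m) = nf R p f (n - m)
        rw [hJ2, hz]
        rcases lt_or_ge m 0 with hm | hm
        · have h0 : (m - n).toNat = 0 := Int.toNat_eq_zero.mpr (by omega)
          have := hgf m
          rw [h0, pow_zero, one_mul] at this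
          simp [b, hm, this]
        · simp [b, not_lt.mpr hm]
  rw [← hJrange]
  exact Module.Free.of_equiv (LinearEquiv.ofInjective J hJinj)

/-- Let R be a commutative ring and p, q ∈ R, and consider the two affine charts U = Spec R[s, y]/(sy -
q) and V = Spec R[t, x]/(xt - p) of the curve obtained from the node xy = pq by the (p,
q)-construction, glued along R[s, s⁻¹] by t = s⁻¹ (so y = q s⁻¹ on U and x = p s on V). For an
integer n ≥ -1 the global sections of the twisting sheaf O(n) (equal to vⁿ O on U and to ξⁿ O on V,
ξ = s v) are the pairs (g, f) of functions on U and V with g = sⁿ f on U ∩ V. This R-module, written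
as the kernel of the R-linear map (g, f) ↦ g|_{U ∩ V} - sⁿ · f|_{U ∩ V} into R[s, s⁻¹], is free over
R (hence the direct image of O(n) on the node is flat over R). Both chart rings are written as the
quotient of the polynomial ring in two variables by (first variable)·(second variable) - constant,
and the two restriction homomorphisms to R[s, s⁻¹] are R-algebra maps pinned by their values on
generators. (The published setting has R complete local and p, q in the maximal ideal; the printed
computation uses neither.) -/
theorem result (R : Type u) [CommRing R] (p q : R)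
    (gU : SpinCurv.PolyNodeRing R q →ₐ[R] LaurentPolynomial R)
    (hgUs : gU (SpinCurv.PolyNodeRing.x R q) = LaurentPolynomial.T 1)
    (hgUy : gU (SpinCurv.PolyNodeRing.y R q) = LaurentPolynomial.C q * LaurentPolynomial.T (-1))
    (gV : SpinCurv.PolyNodeRing R p →ₐ[R] LaurentPolynomial R)
    (hgVt : gV (SpinCurv.PolyNodeRing.x R p) = LaurentPolynomial.T (-1))
    (hgVx : gV (SpinCurv.PolyNodeRing.y R p) = LaurentPolynomial.C p * LaurentPolynomial.T 1)
    (n : ℤ) (hn : -1 ≤ n) :
    Module.Free R (LinearMap.ker
      (gU.toLinearMap.comp (LinearMap.fst R (SpinCurv.PolyNodeRing R q) (SpinCurv.PolyNodeRing R p)) -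
        (LinearMap.mulLeft R (LaurentPolynomial.T n)).comp
          (gV.toLinearMap.comp (LinearMap.snd R (SpinCurv.PolyNodeRing R q) (SpinCurv.PolyNodeRing R p))))) := by
  apply free_aux R p q gU hgUs hgUy gV hgVt hgVx n hn
  intro g f
  rfl

end Groth.Agent.S18436
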