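import Groth.Statements.S18437
import Mathlib
import Groth.Agent.Lib.Helper9.PolyNode

set_option autoImplicit false
universe u
open SpinCurv

namespace Groth.Agent.S18437

section helpers
open Groth.Agent.Lib.Helper9.PolyNode SpinCurv LaurentPolynomial

section
variable {R : Type u} [CommRing R] {p q : R}
  (rU : PolyNodeRing R (p * q) →ₐ[R] PolyNodeRing R q)
  (rV : PolyNodeRing R (p * q) →ₐ[R] PolyNodeRing R p)
  (n : ℕ)

/-- The section map, as an `R`-linear map. -/
noncomputable def sec : (Fin (n + 1) → PolyNodeRing R (p * q)) →ₗ[R]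
    (PolyNodeRing R q × PolyNodeRing R p) :=
  LinearMap.prod
    (∑ i : Fin (n + 1), (LinearMap.mulRight R (PolyNodeRing.x R q ^ (n - (i : ℕ)))).comp
      (rU.toLinearMap.comp (LinearMap.proj i)))
    (∑ i : Fin (n + 1), (LinearMap.mulRight R (PolyNodeRing.x R p ^ (i : ℕ))).comp
      (rV.toLinearMap.comp (LinearMap.proj i)))

theorem sec_apply (F : Fin (n + 1) → PolyNodeRing R (p * q)) :
    sec rU rV n F = (∑ i : Fin (n + 1), rU (F i) * PolyNodeRing.x R q ^ (n - (i : ℕ)),
      ∑ i : Fin (n + 1), rV (F i) * PolyNodeRing.x R p ^ (i : ℕ)) := by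
  simp only [sec, LinearMap.prod_apply, Function.prod, LinearMap.sum_apply, LinearMap.comp_apply,
    LinearMap.mulRight_apply, LinearMap.proj_apply, AlgHom.toLinearMap_apply]

theorem sec_single (k : Fin (n + 1)) (c : PolyNodeRing R (p * q)) :
    sec rU rV n (Pi.single k c) =
      (rU c * PolyNodeRing.x R q ^ (n - (k : ℕ)), rV c * PolyNodeRing.x R p ^ (k : ℕ)) := by
  rw [sec_apply]
  congr 1
  · rw [Finset.sum_eq_single k]
    · rw [Pi.single_eq_same]
    · intro j _ hj
      rw [Pi.single_eq_of_ne hj, map_zero, zero_mul]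
    · intro h; exact absurd (Finset.mem_univ k) h
  · rw [Finset.sum_eq_single k]
    · rw [Pi.single_eq_same]
    · intro j _ hj
      rw [Pi.single_eq_of_ne hj, map_zero, zero_mul]
    · intro h; exact absurd (Finset.mem_univ k) h

theorem sec_smul (c : PolyNodeRing R (p * q)) (F : Fin (n + 1) → PolyNodeRing R (p * q)) :
    sec rU rV n (c • F) = (rU c * (sec rU rV n F).1, rV c * (sec rU rV n F).2) := by
  rw [sec_apply, sec_apply]
  simp only [Pi.smul_apply, smul_eq_mul, map_mul, Finset.mul_sum, mul_assoc]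

end


theorem smul_eq {R : Type u} [CommRing R] {π : R} (r : R) (a : PolyNodeRing R π) :
    r • a = algebraMap R (PolyNodeRing R π) r * a := Algebra.smul_def r a

section main
variable {R : Type u} [CommRing R] {p q : R}
    {rU : PolyNodeRing R (p * q) →ₐ[R] PolyNodeRing R q}
    (hrUx : rU (PolyNodeRing.x R (p * q)) = algebraMap R _ p * PolyNodeRing.x R q)
    (hrUy : rU (PolyNodeRing.y R (p * q)) = PolyNodeRing.y R q)
    {rV : PolyNodeRing R (p * q) →ₐ[R] PolyNodeRing R p}
    (hrVx : rV (PolyNodeRing.x R (p * q)) = PolyNodeRing.y R p)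
    (hrVy : rV (PolyNodeRing.y R (p * q)) = algebraMap R _ q * PolyNodeRing.x R p)
    {gU : PolyNodeRing R q →ₐ[R] LaurentPolynomial R}
    (hgUs : gU (PolyNodeRing.x R q) = T 1)
    (hgUy : gU (PolyNodeRing.y R q) = C q * T (-1))
    {gV : PolyNodeRing R p →ₐ[R] LaurentPolynomial R}
    (hgVt : gV (PolyNodeRing.x R p) = T (-1))
    (hgVx : gV (PolyNodeRing.y R p) = C p * T 1) (n : ℕ)

include hrUx hrUy hrVx hrVy hgUs hgUy hgVt hgVx in
theorem comp_eq : gU.comp rU = gV.comp rV := by
  apply Ideal.Quotient.algHom_ext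
  apply MvPolynomial.algHom_ext
  intro i
  fin_cases i
  · change gU (rU (PolyNodeRing.x R (p * q))) = gV (rV (PolyNodeRing.x R (p * q)))
    rw [hrUx, hrVx, map_mul, hgUs, hgVx, AlgHom.commutes, C_eq_algebraMap]
  · change gU (rU (PolyNodeRing.y R (p * q))) = gV (rV (PolyNodeRing.y R (p * q)))
    rw [hrUy, hrVy, map_mul, hgUy, hgVt, AlgHom.commutes, C_eq_algebraMap]

include hrUx hrUy hrVx hrVy hgUs hgUy hgVt hgVx in
theorem sec_mem (F : Fin (n + 1) → PolyNodeRing R (p * q)) :
    gU (sec rU rV n F).1 = T (n : ℤ) * gV (sec rU rV n F).2 := by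
  rw [sec_apply]
  simp only [map_sum, map_mul, map_pow, hgUs, hgVt, Finset.mul_sum]
  apply Finset.sum_congr rfl
  intro i _
  have : gU (rU (F i)) = gV (rV (F i)) :=
    AlgHom.congr_fun (comp_eq hrUx hrUy hrVx hrVy hgUs hgUy hgVt hgVx) (F i)
  rw [this, T_pow, T_pow, mul_left_comm, ← T_add]
  congr 2
  have := i.is_le
  push_cast [Nat.cast_sub this]
  ring

variable (R p q) in
/-- The standard sections. -/
noncomputable def stdSec (m : ℤ) : Fin (n + 1) → PolyNodeRing R (p * q) :=
  if m < 0 then Pi.single (Fin.last n) (PolyNodeRing.y R (p * q) ^ (-m).toNat)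
  else if m ≤ n then
    Pi.single ⟨min (n - m).toNat n, Nat.lt_succ_of_le (min_le_right _ _)⟩ 1
  else Pi.single 0 (PolyNodeRing.x R (p * q) ^ (m - n).toNat)

theorem stdSec_of_neg (k : ℕ) (hk : 1 ≤ k) :
    stdSec R p q n (-(k : ℤ)) = Pi.single (Fin.last n) (PolyNodeRing.y R (p * q) ^ k) := by
  rw [stdSec, if_pos (by omega), neg_neg, Int.toNat_natCast]

theorem stdSec_of_mid (i : Fin (n + 1)) :
    stdSec R p q n ((n : ℤ) - (i : ℕ)) = Pi.single i 1 := by
  have := i.is_le
  rw [stdSec, if_neg (by omega), if_pos (by omega)]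
  congr 1
  apply Fin.ext
  simp only [sub_sub_cancel, Int.toNat_natCast]
  omega

theorem stdSec_of_gt (k : ℕ) (hk : 1 ≤ k) :
    stdSec R p q n ((n + k : ℕ) : ℤ) = Pi.single 0 (PolyNodeRing.x R (p * q) ^ k) := by
  rw [stdSec, if_neg (by omega), if_neg (by push_cast; omega)]
  congr 2
  push_cast; omega

include hrUx hrUy hrVx hrVy in
theorem sec_stdSec (m : ℤ) :
    sec rU rV n (stdSec R p q n m) = paramJ R p q (n : ℤ) (Finsupp.single m 1) := by
  rw [paramJ_single, mul_one, mul_one]
  rcases lt_or_ge m 0 with hm | hm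
  · -- m < 0
    obtain ⟨k, rfl⟩ : ∃ k : ℕ, m = -(k : ℤ) := ⟨(-m).toNat, by omega⟩
    rw [stdSec_of_neg n k (by omega)]
    rw [sec_single, Fin.val_last, Nat.sub_self, pow_zero, mul_one, map_pow,
      map_pow, hrUy, hrVy]
    have hA : coefA R p (n : ℤ) (-(k : ℤ)) = 1 := if_pos hm
    have hB : coefB R q (-(k : ℤ)) = q ^ k := by
      rw [coefB, if_pos hm, neg_neg, Int.toNat_natCast]
    have hs : (n : ℤ) - -(k : ℤ) = ((n + k : ℕ) : ℤ) := by push_cast; ring
    rw [hA, hB, one_smul, std_neg_natCast, hs, std_natCast]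
    refine Prod.ext rfl ?_
    simp only [smul_eq, map_pow]
    ring
  · have hm' : ¬ m < 0 := not_lt.mpr hm
    rcases le_or_gt m n with hmn | hmn
    · obtain ⟨j, rfl⟩ : ∃ j : ℕ, m = (j : ℤ) := ⟨m.toNat, by omega⟩
      have hj : j ≤ n := by exact_mod_cast hmn
      have hidx : ((j : ℕ) : ℤ) = (n : ℤ) - ((⟨n - j, by omega⟩ : Fin (n + 1)) : ℕ) := by
        push_cast [Nat.cast_sub hj]; ring
      rw [hidx, stdSec_of_mid, ← hidx]
      rw [sec_single, map_one, map_one]
      have hA : coefA R p (n : ℤ) (j : ℤ) = 1 := by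
        rw [coefA, if_neg hm', Int.toNat_eq_zero.mpr (by omega), pow_zero]
      have hB : coefB R q (j : ℤ) = 1 := if_neg hm'
      have hs : (n : ℤ) - (j : ℤ) = ((n - j : ℕ) : ℤ) := by push_cast [Nat.cast_sub hj]; ring
      rw [hA, hB, one_smul, one_smul, std_natCast, hs, std_natCast]
      have h2 : n - (n - j) = j := by omega
      simp only [h2, one_mul]
    · obtain ⟨k, rfl⟩ : ∃ k : ℕ, m = ((n + k : ℕ) : ℤ) := ⟨(m - n).toNat, by push_cast; omega⟩
      rw [stdSec_of_gt n k (by push_cast at hmn; omega)]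
      rw [sec_single, map_pow, map_pow, hrUx, hrVx]
      have hA : coefA R p (n : ℤ) ((n + k : ℕ) : ℤ) = p ^ k := by
        rw [coefA, if_neg hm']
        congr 1
        push_cast; omega
      have hB : coefB R q ((n + k : ℕ) : ℤ) = 1 := if_neg hm'
      have hs : (n : ℤ) - ((n + k : ℕ) : ℤ) = -(k : ℤ) := by push_cast; ring
      rw [hA, hB, one_smul, std_natCast, hs, std_neg_natCast]
      simp only [Fin.val_zero, Nat.sub_zero, pow_zero, mul_one]
      refine Prod.ext ?_ rfl
      simp only [smul_eq, map_pow]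
      ring

variable (R p q) in
/-- The `R`-linear section of standard sections. -/
noncomputable def stdLin : (ℤ →₀ R) →ₗ[R] (Fin (n + 1) → PolyNodeRing R (p * q)) :=
  Finsupp.linearCombination R (stdSec R p q n)

include hrUx hrUy hrVx hrVy in
theorem sec_stdLin (z : ℤ →₀ R) : sec rU rV n (stdLin R p q n z) = paramJ R p q (n : ℤ) z := by
  induction z using Finsupp.induction_linear with
  | zero => simp
  | add f g hf hg => rw [map_add, map_add, map_add, hf, hg]
  | single m r =>
    rw [stdLin, Finsupp.linearCombination_single, map_smul,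
      sec_stdSec hrUx hrUy hrVx hrVy, ← map_smul, Finsupp.smul_single, smul_eq_mul, mul_one]

variable (R p q) in
/-- The first kind of relation vector. -/
noncomputable def relP (i : Fin n) : Fin (n + 1) → PolyNodeRing R (p * q) :=
  Pi.single (Fin.castSucc i) (algebraMap R (PolyNodeRing R (p * q)) p) -
    Pi.single (Fin.succ i) (PolyNodeRing.x R (p * q))

variable (R p q) in
/-- The second kind of relation vector. -/
noncomputable def relQ (i : Fin n) : Fin (n + 1) → PolyNodeRing R (p * q) :=
  Pi.single (Fin.castSucc i) (PolyNodeRing.y R (p * q)) -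
    Pi.single (Fin.succ i) (algebraMap R (PolyNodeRing R (p * q)) q)

variable (R p q) in
/-- The module of relations. -/
noncomputable def relN : Submodule (PolyNodeRing R (p * q)) (Fin (n + 1) → PolyNodeRing R (p * q)) :=
  Submodule.span _ (Set.range (relP R p q n) ∪ Set.range (relQ R p q n))

include hrUx hrVx in
theorem sec_relP (i : Fin n) : sec rU rV n (relP R p q n i) = 0 := by
  have hi := i.is_lt
  rw [relP, map_sub, sec_single, sec_single, AlgHom.commutes, AlgHom.commutes, hrUx, hrVx]
  simp only [Fin.val_castSucc, Fin.val_succ]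
  have h1 : n - (i : ℕ) = (n - ((i : ℕ) + 1)) + 1 := by omega
  rw [h1, pow_succ, pow_succ]
  have hxy := x_mul_y R p
  refine Prod.ext ?_ ?_
  · simp only [Prod.fst_sub, Prod.fst_zero]
    ring
  · simp only [Prod.snd_sub, Prod.snd_zero]
    rw [← hxy]
    ring

include hrUy hrVy in
theorem sec_relQ (i : Fin n) : sec rU rV n (relQ R p q n i) = 0 := by
  have hi := i.is_lt
  rw [relQ, map_sub, sec_single, sec_single, AlgHom.commutes, AlgHom.commutes, hrUy, hrVy]
  simp only [Fin.val_castSucc, Fin.val_succ]
  have h1 : n - (i : ℕ) = (n - ((i : ℕ) + 1)) + 1 := by omega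
  rw [h1, pow_succ, pow_succ]
  have hxy := x_mul_y R q
  refine Prod.ext ?_ ?_
  · simp only [Prod.fst_sub, Prod.fst_zero]
    rw [← hxy]
    ring
  · simp only [Prod.snd_sub, Prod.snd_zero]
    ring

include hrUx hrUy hrVx hrVy in
theorem sec_eq_zero_of_mem_relN {F : Fin (n + 1) → PolyNodeRing R (p * q)}
    (hF : F ∈ relN R p q n) : sec rU rV n F = 0 := by
  induction hF using Submodule.span_induction with
  | mem x hx =>
    rcases hx with ⟨i, rfl⟩ | ⟨i, rfl⟩
    · exact sec_relP hrUx hrVx n i
    · exact sec_relQ hrUy hrVy n i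
  | zero => exact map_zero _
  | add x y _ _ hx hy => rw [map_add, hx, hy, add_zero]
  | smul c x _ hx => rw [sec_smul, hx]; simp

variable (R p q) in
/-- `F` is congruent to a standard section modulo the relations. -/
def Good (F : Fin (n + 1) → PolyNodeRing R (p * q)) : Prop :=
  ∃ z : ℤ →₀ R, F - stdLin R p q n z ∈ relN R p q n

theorem good_zero : Good R p q n 0 := ⟨0, by simp⟩

theorem good_add {F G : Fin (n + 1) → PolyNodeRing R (p * q)} (hF : Good R p q n F)
    (hG : Good R p q n G) : Good R p q n (F + G) := by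
  obtain ⟨z, hz⟩ := hF
  obtain ⟨w, hw⟩ := hG
  refine ⟨z + w, ?_⟩
  rw [map_add, add_sub_add_comm]
  exact Submodule.add_mem _ hz hw

theorem good_smul (r : R) {F : Fin (n + 1) → PolyNodeRing R (p * q)} (hF : Good R p q n F) :
    Good R p q n (r • F) := by
  obtain ⟨z, hz⟩ := hF
  refine ⟨r • z, ?_⟩
  rw [map_smul, ← smul_sub, ← algebraMap_smul (PolyNodeRing R (p * q)) r]
  exact Submodule.smul_mem _ _ hz

theorem good_of_sub_mem {F G : Fin (n + 1) → PolyNodeRing R (p * q)} (hG : Good R p q n G)
    (h : F - G ∈ relN R p q n) : Good R p q n F := by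
  obtain ⟨w, hw⟩ := hG
  refine ⟨w, ?_⟩
  have : F - stdLin R p q n w = (F - G) + (G - stdLin R p q n w) := by abel
  rw [this]
  exact Submodule.add_mem _ h hw

theorem good_stdSec (m : ℤ) : Good R p q n (stdSec R p q n m) := by
  refine ⟨Finsupp.single m 1, ?_⟩
  rw [stdLin, Finsupp.linearCombination_single, one_smul, sub_self]
  exact Submodule.zero_mem _

theorem good_single_one (i : Fin (n + 1)) : Good R p q n (Pi.single i 1) := by
  rw [← stdSec_of_mid]
  exact good_stdSec n _

theorem good_single_x_pow (a : ℕ) : ∀ i : Fin (n + 1),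
    Good R p q n (Pi.single i (PolyNodeRing.x R (p * q) ^ a)) := by
  induction a with
  | zero => intro i; rw [pow_zero]; exact good_single_one n i
  | succ a ih =>
    intro i
    induction i using Fin.cases with
    | zero =>
      rw [← stdSec_of_gt n (a + 1) (by omega)]
      exact good_stdSec n _
    | succ i' =>
      have hrel : PolyNodeRing.x R (p * q) ^ a • relP R p q n i' ∈ relN R p q n :=
        Submodule.smul_mem _ _ (Submodule.subset_span (Or.inl ⟨i', rfl⟩))
      have hG := good_smul n p (ih (Fin.castSucc i'))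
      refine good_of_sub_mem n hG ?_
      have : Pi.single (Fin.succ i') (PolyNodeRing.x R (p * q) ^ (a + 1)) -
          p • (Pi.single (Fin.castSucc i') (PolyNodeRing.x R (p * q) ^ a) :
            Fin (n + 1) → PolyNodeRing R (p * q)) =
          -(PolyNodeRing.x R (p * q) ^ a • relP R p q n i') := by
        rw [relP, smul_sub, ← Pi.single_smul, ← Pi.single_smul, ← Pi.single_smul, smul_eq_mul,
          smul_eq_mul, neg_sub, pow_succ, smul_eq, mul_comm (algebraMap R (PolyNodeRing R (p * q)) p)]
      rw [this]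
      exact Submodule.neg_mem _ hrel

theorem good_single_y_pow (b : ℕ) : ∀ i : Fin (n + 1),
    Good R p q n (Pi.single i (PolyNodeRing.y R (p * q) ^ b)) := by
  induction b with
  | zero => intro i; rw [pow_zero]; exact good_single_one n i
  | succ b ih =>
    intro i
    induction i using Fin.lastCases with
    | last =>
      rw [← stdSec_of_neg n (b + 1) (by omega)]
      exact good_stdSec n _
    | cast i' =>
      have hrel : PolyNodeRing.y R (p * q) ^ b • relQ R p q n i' ∈ relN R p q n :=
        Submodule.smul_mem _ _ (Submodule.subset_span (Or.inr ⟨i', rfl⟩))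
      have hG := good_smul n q (ih (Fin.succ i'))
      refine good_of_sub_mem n hG ?_
      have : Pi.single (Fin.castSucc i') (PolyNodeRing.y R (p * q) ^ (b + 1)) -
          q • (Pi.single (Fin.succ i') (PolyNodeRing.y R (p * q) ^ b) :
            Fin (n + 1) → PolyNodeRing R (p * q)) =
          (PolyNodeRing.y R (p * q) ^ b • relQ R p q n i') := by
        rw [relQ, smul_sub, ← Pi.single_smul, ← Pi.single_smul, ← Pi.single_smul, smul_eq_mul,
          smul_eq_mul, pow_succ, smul_eq, mul_comm (algebraMap R (PolyNodeRing R (p * q)) q)]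
      rw [this]
      exact hrel

theorem good_single (i : Fin (n + 1)) (c : PolyNodeRing R (p * q)) :
    Good R p q n (Pi.single i c) := by
  rw [← unf_nf R (p * q) c]
  generalize nf R (p * q) c = z
  induction z using Finsupp.induction_linear with
  | zero => rw [map_zero, Pi.single_zero]; exact good_zero n
  | add f g hf hg => rw [map_add, Pi.single_add]; exact good_add n hf hg
  | single m r =>
    rw [unf_single, Pi.single_smul]
    apply good_smul
    unfold std
    split_ifs
    · exact good_single_x_pow n _ i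
    · exact good_single_y_pow n _ i

theorem good_all (F : Fin (n + 1) → PolyNodeRing R (p * q)) : Good R p q n F := by
  rw [← Finset.univ_sum_single F]
  apply Finset.sum_induction _ (Good R p q n) (fun _ _ => good_add n) (good_zero n)
  intro i _
  exact good_single n i (F i)

include hrUx hrUy hrVx hrVy in
theorem mem_relN_of_sec_eq_zero {F : Fin (n + 1) → PolyNodeRing R (p * q)}
    (hF : sec rU rV n F = 0) : F ∈ relN R p q n := by
  obtain ⟨z, hz⟩ := good_all n F
  have h1 := sec_eq_zero_of_mem_relN hrUx hrUy hrVx hrVy n hz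
  rw [map_sub, hF, zero_sub, neg_eq_zero, sec_stdLin hrUx hrUy hrVx hrVy] at h1
  have hz0 : z = 0 := paramJ_injective R p q (n : ℤ) (by rw [h1, map_zero])
  rw [hz0, map_zero, sub_zero] at hz
  exact hz

end main


end helpers

/-- Let R be a commutative ring and p, q ∈ R; put A = R[x, y]/(xy - pq) and consider the two affine
charts U = Spec R[s, y]/(sy - q) and V = Spec R[t, x]/(xt - p) of the curve obtained from Spec A by
blowing up as in the (p, q)-construction, glued along R[s, s⁻¹] by t = s⁻¹ (so y = q s⁻¹ on U and x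
= p s on V), with the projection to Spec A given by x ↦ p s, y ↦ y on U and x ↦ x, y ↦ q t on V. For
n ≥ 0 the twisting sheaf O(n) is vⁿ O on U and ξⁿ O on V with ξ = s v, so its global sections are
the pairs (g, f) of functions on U and V with g = sⁿ f on U ∩ V. Then the map A^{n+1} → O(U) × O(V)
sending (F_0, …, F_n), i.e. the section Σ F_i ξ^{n-i} v^i, to (Σ F_i|_U s^{n-i}, Σ F_i|_V t^i) has
image exactly the set of such pairs, and F is sent to zero exactly when it lies in the A-submodule
of A^{n+1} generated by the vectors p e_i - x e_{i+1} and y e_i - q e_{i+1} for 0 ≤ i < n (e_0, …,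
e_n the standard basis). So the global sections of O(n) form the degree-n piece of A[ξ, v]/(p ξ - x
v, q v - y ξ). For n = 0 this says that a ↦ (a|_U, a|_V) is injective on A with image the pairs of
functions that agree on U ∩ V, so that the functions on the blown-up curve are exactly the functions
on Spec A (the direct image of its structure sheaf is the structure sheaf of Spec A); for n = 1 it
presents the global sections of O(1) as A ξ ⊕ A v modulo the relations p ξ = x v and y ξ = q v. Here
R[s, y]/(sy - q) and R[t, x]/(xt - p) are both written as the quotient of the polynomial ring in two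
variables by (first variable)·(second variable) - constant, the homomorphisms rU, rV are the
restriction maps from A to the two charts and gU, gV the restriction maps from the charts to their
intersection R[s, s⁻¹] (Laurent polynomials), each pinned by its values on the two generators. (The
published setting has R complete local and p, q in the maximal ideal, and reduces to this polynomial
computation, which uses neither.) -/
theorem result (R : Type u) [CommRing R] (p q : R)
    (rU : SpinCurv.PolyNodeRing R (p * q) →ₐ[R] SpinCurv.PolyNodeRing R q)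
    (hrUx : rU (SpinCurv.PolyNodeRing.x R (p * q)) = algebraMap R _ p * SpinCurv.PolyNodeRing.x R q)
    (hrUy : rU (SpinCurv.PolyNodeRing.y R (p * q)) = SpinCurv.PolyNodeRing.y R q)
    (rV : SpinCurv.PolyNodeRing R (p * q) →ₐ[R] SpinCurv.PolyNodeRing R p)
    (hrVx : rV (SpinCurv.PolyNodeRing.x R (p * q)) = SpinCurv.PolyNodeRing.y R p)
    (hrVy : rV (SpinCurv.PolyNodeRing.y R (p * q)) = algebraMap R _ q * SpinCurv.PolyNodeRing.x R p)
    (gU : SpinCurv.PolyNodeRing R q →ₐ[R] LaurentPolynomial R)
    (hgUs : gU (SpinCurv.PolyNodeRing.x R q) = LaurentPolynomial.T 1)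
    (hgUy : gU (SpinCurv.PolyNodeRing.y R q) = LaurentPolynomial.C q * LaurentPolynomial.T (-1))
    (gV : SpinCurv.PolyNodeRing R p →ₐ[R] LaurentPolynomial R)
    (hgVt : gV (SpinCurv.PolyNodeRing.x R p) = LaurentPolynomial.T (-1))
    (hgVx : gV (SpinCurv.PolyNodeRing.y R p) = LaurentPolynomial.C p * LaurentPolynomial.T 1) (n : ℕ) :
    Set.range (fun F : Fin (n + 1) → SpinCurv.PolyNodeRing R (p * q) =>
        (∑ i : Fin (n + 1), rU (F i) * SpinCurv.PolyNodeRing.x R q ^ (n - (i : ℕ)),
         ∑ i : Fin (n + 1), rV (F i) * SpinCurv.PolyNodeRing.x R p ^ (i : ℕ))) =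
      {gf : SpinCurv.PolyNodeRing R q × SpinCurv.PolyNodeRing R p |
        gU gf.1 = LaurentPolynomial.T (n : ℤ) * gV gf.2} ∧
    {F : Fin (n + 1) → SpinCurv.PolyNodeRing R (p * q) |
        (∑ i : Fin (n + 1), rU (F i) * SpinCurv.PolyNodeRing.x R q ^ (n - (i : ℕ)),
         ∑ i : Fin (n + 1), rV (F i) * SpinCurv.PolyNodeRing.x R p ^ (i : ℕ)) = 0} =
      (Submodule.span (SpinCurv.PolyNodeRing R (p * q))
        (Set.range (fun i : Fin n =>
            (Pi.single (Fin.castSucc i) (algebraMap R (SpinCurv.PolyNodeRing R (p * q)) p) -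
              Pi.single (Fin.succ i) (SpinCurv.PolyNodeRing.x R (p * q)) : Fin (n + 1) → SpinCurv.PolyNodeRing R (p * q))) ∪
         Set.range (fun i : Fin n =>
            (Pi.single (Fin.castSucc i) (SpinCurv.PolyNodeRing.y R (p * q)) -
              Pi.single (Fin.succ i) (algebraMap R (SpinCurv.PolyNodeRing R (p * q)) q) : Fin (n + 1) → SpinCurv.PolyNodeRing R (p * q)))) :
        Set (Fin (n + 1) → SpinCurv.PolyNodeRing R (p * q))) := by
  constructor
  · ext gf
    constructor
    · rintro ⟨F, rfl⟩
      have := sec_mem hrUx hrUy hrVx hrVy hgUs hgUy hgVt hgVx n F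
      rw [sec_apply] at this
      exact this
    · intro h
      have h' := (Groth.Agent.Lib.Helper9.PolyNode.mem_range_paramJ_iff (n := (n : ℤ)) (by omega)
        hgUs hgUy hgVt hgVx gf).mpr h
      obtain ⟨z, rfl⟩ := h'
      refine ⟨stdLin R p q n z, ?_⟩
      change (∑ i : Fin (n + 1), rU (stdLin R p q n z i) * SpinCurv.PolyNodeRing.x R q ^ (n - (i : ℕ)),
         ∑ i : Fin (n + 1), rV (stdLin R p q n z i) * SpinCurv.PolyNodeRing.x R p ^ (i : ℕ)) = _
      rw [← sec_apply, sec_stdLin hrUx hrUy hrVx hrVy]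
  · ext F
    change (_ = (0 : SpinCurv.PolyNodeRing R q × SpinCurv.PolyNodeRing R p)) ↔ F ∈ relN R p q n
    rw [← sec_apply]
    constructor
    · exact mem_relN_of_sec_eq_zero hrUx hrUy hrVx hrVy n
    · exact sec_eq_zero_of_mem_relN hrUx hrUy hrVx hrVy n

end Groth.Agent.S18437
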