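import Groth.Statements.S18457
import Mathlib

set_option autoImplicit false
open Finset
open Surf

namespace Groth.Agent.S18457

/-- In the Picard lattice of the plane blown up at n ≤ 8 points, with basis h, e_1, …, e_n, form h² = 1,
e_i² = −1, all other products 0, and anticanonical class D = 3h − Σ e_i, let d·h − Σ a_i e_i be a
class with all a_i ≥ 0 (the class of the strict transform of a degree-d plane curve having
multiplicity a_i at the i-th point) which is a (−2)-class orthogonal to D, that is d² − Σ a_i² = −2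
and 3d = Σ a_i. Then one of the following holds: d = 1 and every a_i is 0 or 1 with exactly three
equal to 1; d = 2 and every a_i is 0 or 1 with exactly six equal to 1; d = 3, n = 8, and one a_i
equals 2 while the remaining seven equal 1. The published statement is geometric: under the
general-position hypotheses on the points, no smooth rational curve on the blown-up plane is
orthogonal to D; this row is the lattice enumeration its proof carries out (a line through three of
the points, a conic through six, a cubic through all eight and singular at one). -/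
theorem result (n : ℕ) (hn : n ≤ 8)
    (d : ℤ) (a : Fin n → ℤ) (ha : ∀ i, 0 ≤ a i)
    (hsq : d ^ 2 - ∑ i, (a i) ^ 2 = -2) (hK : 3 * d = ∑ i, a i) :
    (d = 1 ∧ (∀ i, a i = 0 ∨ a i = 1) ∧ (Finset.univ.filter (fun i => a i = 1)).card = 3) ∨
      (d = 2 ∧ (∀ i, a i = 0 ∨ a i = 1) ∧ (Finset.univ.filter (fun i => a i = 1)).card = 6) ∨
      (d = 3 ∧ n = 8 ∧ ∃ j, a j = 2 ∧ ∀ i, i ≠ j → a i = 1) := by
  have hS2 : ∑ i, (a i) ^ 2 = d ^ 2 + 2 := by linarith
  have hd0 : 0 ≤ d := by
    have : 0 ≤ ∑ i, a i := Finset.sum_nonneg (fun i _ => ha i)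
    linarith
  have hn' : (n : ℤ) ≤ 8 := by exact_mod_cast hn
  have hCS : (∑ i, a i) ^ 2 ≤ (n : ℤ) * ∑ i, (a i) ^ 2 := by
    have := sq_sum_le_card_mul_sum_sq (s := (Finset.univ : Finset (Fin n))) (f := a)
    simpa using this
  have hd4 : d ≤ 4 := by
    rw [← hK, hS2] at hCS
    nlinarith
  have hterm : ∀ i, 0 ≤ a i * (a i - 1) := by
    intro i
    rcases (ha i).eq_or_lt with h | h
    · rw [← h]; simp
    · exact mul_nonneg (ha i) (by omega)
  have hT : ∑ i, a i * (a i - 1) = d ^ 2 + 2 - 3 * d := by
    have : ∑ i, a i * (a i - 1) = ∑ i, (a i) ^ 2 - ∑ i, a i := by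
      rw [← Finset.sum_sub_distrib]
      exact Finset.sum_congr rfl fun i _ => by ring
    rw [this, hS2, ← hK]
  have h01_of_zero : ∀ i, a i * (a i - 1) = 0 → a i = 0 ∨ a i = 1 := by
    intro i h
    rcases mul_eq_zero.mp h with h | h
    · left; exact h
    · right; omega
  have hcount : (∀ i, a i = 0 ∨ a i = 1) →
      ((Finset.univ.filter (fun i => a i = 1)).card : ℤ) = ∑ i, a i := by
    intro h01
    rw [Finset.card_filter]
    push_cast
    refine Finset.sum_congr rfl fun i _ => ?_
    rcases h01 i with h | h <;> simp [h]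
  have hzero_case : d ^ 2 + 2 - 3 * d = 0 → (∀ i, a i = 0 ∨ a i = 1) ∧
      ((Finset.univ.filter (fun i => a i = 1)).card : ℤ) = 3 * d := by
    intro hz
    have h0 : ∀ i, a i * (a i - 1) = 0 := fun i =>
      (Finset.sum_eq_zero_iff_of_nonneg (fun i _ => hterm i)).mp (by rw [hT, hz]) i
        (Finset.mem_univ i)
    have h01 := fun i => h01_of_zero i (h0 i)
    exact ⟨h01, by rw [hcount h01, hK]⟩
  interval_cases d
  · exfalso
    have hall : ∀ i, a i = 0 := fun i =>
      (Finset.sum_eq_zero_iff_of_nonneg (fun i _ => ha i)).mp (by linarith) i (Finset.mem_univ i)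
    simp [hall] at hS2
  · left
    obtain ⟨h01, hc⟩ := hzero_case (by norm_num)
    exact ⟨rfl, h01, by exact_mod_cast hc⟩
  · right; left
    obtain ⟨h01, hc⟩ := hzero_case (by norm_num)
    exact ⟨rfl, h01, by exact_mod_cast hc⟩
  · right; right
    have hex : ∃ j, 2 ≤ a j := by
      by_contra hcon
      push Not at hcon
      have h0 : ∀ i, a i * (a i - 1) = 0 := by
        intro i
        have h1 := hcon i
        have h2 := ha i
        have : a i = 0 ∨ a i = 1 := by omega
        rcases this with h | h <;> simp [h]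
      have : ∑ i, a i * (a i - 1) = 0 := Finset.sum_eq_zero (fun i _ => h0 i)
      rw [hT] at this
      norm_num at this
    obtain ⟨j, hj⟩ := hex
    have hsplit := Finset.add_sum_erase Finset.univ (fun i => a i * (a i - 1)) (Finset.mem_univ j)
    have hrest_nonneg : 0 ≤ ∑ i ∈ Finset.univ.erase j, a i * (a i - 1) :=
      Finset.sum_nonneg (fun i _ => hterm i)
    rw [hT] at hsplit
    have haj : a j = 2 := by nlinarith
    have hrest0 : ∑ i ∈ Finset.univ.erase j, a i * (a i - 1) = 0 := by
      rw [haj] at hsplit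
      linarith
    have h01 : ∀ i, i ≠ j → a i = 0 ∨ a i = 1 := fun i hi =>
      h01_of_zero i ((Finset.sum_eq_zero_iff_of_nonneg (fun i _ => hterm i)).mp hrest0 i
        (Finset.mem_erase.mpr ⟨hi, Finset.mem_univ i⟩))
    have hsplit2 := Finset.add_sum_erase Finset.univ a (Finset.mem_univ j)
    have hsum7 : ∑ i ∈ Finset.univ.erase j, a i = 7 := by
      rw [← hK, haj] at hsplit2
      linarith
    have hcard : ((Finset.univ.erase j).card : ℤ) = (n : ℤ) - 1 := by
      rw [Finset.card_erase_of_mem (Finset.mem_univ j), Finset.card_univ, Fintype.card_fin]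
      have : 1 ≤ n := by
        rcases n with _ | n
        · exact j.elim0
        · omega
      push_cast [Nat.cast_sub this]
      ring
    have hdiff : ∑ i ∈ Finset.univ.erase j, (1 - a i) = (n : ℤ) - 1 - 7 := by
      rw [Finset.sum_sub_distrib, hsum7, Finset.sum_const, nsmul_eq_mul, mul_one, hcard]
    have hdiff_nonneg : ∀ i ∈ Finset.univ.erase j, 0 ≤ 1 - a i := by
      intro i hi
      rcases h01 i (Finset.ne_of_mem_erase hi) with h | h <;> simp [h]
    have hn8 : n = 8 := by
      have := Finset.sum_nonneg hdiff_nonneg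
      rw [hdiff] at this
      omega
    refine ⟨rfl, hn8, j, haj, fun i hi => ?_⟩
    have hz : ∑ i ∈ Finset.univ.erase j, (1 - a i) = 0 := by
      rw [hdiff, hn8]
      norm_num
    have := (Finset.sum_eq_zero_iff_of_nonneg hdiff_nonneg).mp hz i
      (Finset.mem_erase.mpr ⟨hi, Finset.mem_univ i⟩)
    linarith
  · exfalso
    have hsum : ∑ i, a i = 12 := by linarith
    have hsum2 : ∑ i, (a i) ^ 2 = 18 := by rw [hS2]; norm_num
    have hq : ∑ i, (2 * a i - 3) ^ 2 = 9 * (n : ℤ) - 72 := by
      have : ∑ i, (2 * a i - 3) ^ 2 = 4 * ∑ i, (a i) ^ 2 - 12 * ∑ i, a i + ∑ i : Fin n, (9 : ℤ) := by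
        rw [Finset.mul_sum, Finset.mul_sum, ← Finset.sum_sub_distrib, ← Finset.sum_add_distrib]
        exact Finset.sum_congr rfl fun i _ => by ring
      rw [this, hsum, hsum2]
      simp
      ring
    have hge : ∑ i : Fin n, (1 : ℤ) ≤ ∑ i, (2 * a i - 3) ^ 2 := by
      refine Finset.sum_le_sum fun i _ => ?_
      have h1 := ha i
      rcases le_or_gt (a i) 1 with h | h
      · nlinarith
      · nlinarith
    rw [hq] at hge
    simp at hge
    omega

end Groth.Agent.S18457
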