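import Groth.Statements.S18464
import Mathlib

set_option autoImplicit false
universe u
open CategoryTheory CategoryTheory.Limits AlgebraicGeometry
open LefPen

namespace Groth.Agent.S18464

section helpers

variable (k : Type u) [Field k]

/-- The subalgebra of polynomial functions. -/
noncomputable def polyAlg (V : Type u) [AddCommGroup V] [Module k V] : Subalgebra k (V → k) :=
  Algebra.adjoin k (Set.range (fun l : Module.Dual k V => (l : V → k)))

theorem isPolyFun_iff {V : Type u} [AddCommGroup V] [Module k V] (f : V → k) :
    LefPen.IsPolyFun k f ↔ f ∈ polyAlg k V := Iff.rfl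

variable {k}
variable {m r : ℕ}

/-- Coordinate functions are polynomial. -/
theorem coord_mem (i : Fin m) (t : Fin (r + 1)) :
    (fun x : Fin m → (Fin (r + 1) → k) => x i t) ∈ polyAlg k (Fin m → (Fin (r + 1) → k)) := by
  apply Algebra.subset_adjoin
  refine ⟨((LinearMap.proj t : (Fin (r + 1) → k) →ₗ[k] k).comp
    (LinearMap.proj i : (Fin m → (Fin (r + 1) → k)) →ₗ[k] (Fin (r + 1) → k)) :
      (Fin m → (Fin (r + 1) → k)) →ₗ[k] k), ?_⟩
  funext x
  rfl

/-- Evaluating a fixed polynomial at the `i`-th point is a polynomial function. -/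
theorem aeval_mem (i : Fin m) (Q : MvPolynomial (Fin (r + 1)) k) :
    (fun x : Fin m → (Fin (r + 1) → k) => MvPolynomial.aeval (x i) Q) ∈
      polyAlg k (Fin m → (Fin (r + 1) → k)) := by
  have h : (fun x : Fin m → (Fin (r + 1) → k) => MvPolynomial.aeval (x i) Q) =
      MvPolynomial.aeval (fun t : Fin (r + 1) => (fun x : Fin m → (Fin (r + 1) → k) => x i t)) Q := by
    funext x
    have := MvPolynomial.comp_aeval_apply (f := (fun t : Fin (r + 1) =>
      (fun x : Fin m → (Fin (r + 1) → k) => x i t)))
      (Pi.evalAlgHom k (fun _ : Fin m → (Fin (r + 1) → k) => k) x) Q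
    simp only [Pi.evalAlgHom_apply] at this
    rw [this]
  rw [h]
  have : MvPolynomial.aeval (fun t : Fin (r + 1) => (fun x : Fin m → (Fin (r + 1) → k) => x i t)) Q ∈
      Algebra.adjoin k (Set.range (fun t : Fin (r + 1) => (fun x : Fin m → (Fin (r + 1) → k) => x i t))) := by
    rw [Algebra.adjoin_range_eq_range_aeval]
    exact ⟨Q, rfl⟩
  refine Algebra.adjoin_le ?_ this
  rintro _ ⟨t, rfl⟩
  exact coord_mem i t


variable (k r) (d : ℕ)

instance : Module.Finite k (LefPen.Form r k d) :=
  Module.Finite.iff_fg.mpr (MvPolynomial.homogeneousSubmodule_fg (Fin (r + 1)) k d)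

variable {k r d}

/-- Evaluation at a point, as a linear form on forms. -/
noncomputable def evp (pt : Fin (r + 1) → k) : LefPen.Form r k d →ₗ[k] k :=
  (MvPolynomial.aeval pt).toLinearMap ∘ₗ (Submodule.subtype _)

theorem evp_apply (pt : Fin (r + 1) → k) (G : LefPen.Form r k d) :
    evp pt G = MvPolynomial.aeval pt G.1 := rfl

/-- Evaluation at a tuple of points. -/
noncomputable def ev (x : Fin m → (Fin (r + 1) → k)) : LefPen.Form r k d →ₗ[k] (Fin m → k) :=
  LinearMap.pi (fun i => evp (x i))

theorem ev_apply (x : Fin m → (Fin (r + 1) → k)) (G : LefPen.Form r k d) (i : Fin m) :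
    ev x G i = MvPolynomial.aeval (x i) G.1 := rfl

/-- The set of the statement. -/
def S (k : Type u) [Field k] (r d m : ℕ) : Set (Fin m → (Fin (r + 1) → k)) :=
  {x | ∀ G : LefPen.Form r k d, (∀ i : Fin m, MvPolynomial.aeval (x i) G.1 = 0) → G = 0}

theorem mem_S_iff (x : Fin m → (Fin (r + 1) → k)) :
    x ∈ S k r d m ↔ LinearMap.ker (ev (d := d) x) = ⊥ := by
  rw [LinearMap.ker_eq_bot']
  constructor
  · intro h G hG
    exact h G (fun i => congrFun hG i)
  · intro h G hG
    exact h G (funext hG)

/-- The key: a polynomial function cutting out a neighbourhood inside `S`. -/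
theorem exists_polyFun (x : Fin m → (Fin (r + 1) → k)) (hx : x ∈ S k r d m) :
    ∃ f : (Fin m → (Fin (r + 1) → k)) → k, LefPen.IsPolyFun k f ∧ f x ≠ 0 ∧
      ∀ w, f w ≠ 0 → w ∈ S k r d m := by
  classical
  rw [mem_S_iff] at hx
  obtain ⟨L, hL⟩ := LinearMap.exists_leftInverse_of_injective (ev (d := d) x) hx
  refine ⟨fun w => LinearMap.det (L ∘ₗ ev w), ?_, ?_, ?_⟩
  · -- polynomial
    rw [isPolyFun_iff]
    let b := Module.finBasis k (LefPen.Form r k d)
    let M' : Matrix (Fin (Module.finrank k (LefPen.Form r k d))) (Fin (Module.finrank k (LefPen.Form r k d)))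
        ((Fin m → (Fin (r + 1) → k)) → k) :=
      fun i j w => LinearMap.toMatrix b b (L ∘ₗ ev w) i j
    have hM' : ∀ i j, M' i j ∈ polyAlg k (Fin m → (Fin (r + 1) → k)) := by
      intro i j
      have h : M' i j = ∑ l : Fin m, (b.repr (L (Pi.single l 1)) i) •
          (fun w : Fin m → (Fin (r + 1) → k) => MvPolynomial.aeval (w l) (b j).1) := by
        funext w
        simp only [M', LinearMap.toMatrix_apply, LinearMap.comp_apply]
        rw [LinearMap.pi_apply_eq_sum_univ L (ev w (b j))]
        simp only [map_sum, map_smul, Finsupp.coe_finsetSum, Finsupp.coe_smul, Finset.sum_apply,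
          Pi.smul_apply, smul_eq_mul, ev_apply]
        refine Finset.sum_congr rfl fun l _ => ?_
        rw [mul_comm]
        have : (fun j => if l = j then (1 : k) else 0) = Pi.single l 1 := by
          funext t
          simp [Pi.single_apply, eq_comm]
        rw [this]

      rw [h]
      exact Subalgebra.sum_mem _ fun l _ => Subalgebra.smul_mem _ (aeval_mem l _) _
    have hdet : (fun w => LinearMap.det (L ∘ₗ ev w)) = Matrix.det M' := by
      funext w
      rw [← LinearMap.det_toMatrix b]
      have := RingHom.map_det (Pi.evalRingHom (fun _ : Fin m → (Fin (r + 1) → k) => k) w) M'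
      simp only [Pi.evalRingHom_apply] at this
      rw [this]
      rfl
    rw [hdet, Matrix.det_apply']
    refine Subalgebra.sum_mem _ fun σ _ => Subalgebra.mul_mem _ ?_ (Subalgebra.prod_mem _ fun i _ => hM' _ _)
    exact intCast_mem _ _
  · change LinearMap.det (L ∘ₗ ev x) ≠ 0
    rw [hL, LinearMap.det_id]
    exact one_ne_zero
  · intro w hw
    rw [mem_S_iff, LinearMap.ker_eq_bot]
    have h1 : Function.Injective (L ∘ₗ ev (d := d) w) := by
      have := (LinearMap.equivOfDetNeZero (L ∘ₗ ev (d := d) w) hw).injective
      exact this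
    exact Function.Injective.of_comp (f := L) h1


theorem finrank_form_le (k : Type u) [Field k] (r d : ℕ) : Module.finrank k (LefPen.Form r k d) ≤ (r + d).choose d := by
  classical
  have h1 : MvPolynomial.homogeneousSubmodule (Fin (r + 1)) k d =
      Submodule.span k (((Finset.univ : Finset (Fin (r + 1))).finsuppAntidiag d).image
        (fun v => (MvPolynomial.monomial v (1 : k))) : Set (MvPolynomial (Fin (r + 1)) k)) := by
    rw [MvPolynomial.homogeneousSubmodule_eq_finsupp_supported,
      AddMonoidAlgebra.supported_eq_span_single]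
    congr 1
    ext Q
    simp only [Set.mem_image, Set.mem_ofPred_eq, Finset.coe_image, Finset.mem_coe,
      Finset.mem_finsuppAntidiag, Finset.subset_univ, and_true]
    constructor
    · rintro ⟨v, hv, rfl⟩
      refine ⟨v, ?_, rfl⟩
      rw [← hv, Finsupp.degree_eq_sum]
    · rintro ⟨v, hv, rfl⟩
      refine ⟨v, ?_, rfl⟩
      rw [← hv, Finsupp.degree_eq_sum]
  change Module.finrank k (MvPolynomial.homogeneousSubmodule (Fin (r + 1)) k d) ≤ _
  rw [h1]
  refine (finrank_span_finset_le_card _).trans ?_
  refine Finset.card_image_le.trans ?_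
  rw [Finset.card_finsuppAntidiag_nat_eq_choose, Finset.card_univ, Fintype.card_fin]
  have : r + 1 + d - 1 = r + d := by omega
  rw [this]


theorem exists_mem_S [Infinite k] (hm : Nat.choose (r + d) d ≤ m) : ∃ x, x ∈ S k r d m := by
  classical
  -- the evaluation functionals span the dual
  have hcoann : (Submodule.span k (Set.range (evp (k := k) (r := r) (d := d)))).dualCoannihilator = ⊥ := by
    rw [eq_bot_iff]
    intro G hG
    rw [Submodule.mem_dualCoannihilator] at hG
    rw [Submodule.mem_bot]
    apply Subtype.ext
    apply MvPolynomial.funext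
    intro pt
    have := hG (evp pt) (Submodule.subset_span ⟨pt, rfl⟩)
    rw [evp_apply] at this
    have h2 : MvPolynomial.eval pt G.1 = MvPolynomial.aeval pt G.1 := rfl
    rw [h2, this]
    exact (map_zero _).symm
  have htop : Submodule.span k (Set.range (evp (k := k) (r := r) (d := d))) = ⊤ := by
    rw [← Subspace.dualCoannihilator_dualAnnihilator_eq
      (W := Submodule.span k (Set.range (evp (k := k) (r := r) (d := d)))), hcoann,
      Submodule.dualAnnihilator_bot]
  obtain ⟨b, hb_sub, hb_span, hb_li⟩ := exists_linearIndependent k (Set.range (evp (k := k) (r := r) (d := d)))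
  rw [htop] at hb_span
  let B : Module.Basis b k (Module.Dual k (LefPen.Form r k d)) :=
    Module.Basis.mk hb_li (by rw [Subtype.range_coe]; exact hb_span.ge)
  have hfin : Fintype b := FiniteDimensional.fintypeBasisIndex B
  have hcard : Fintype.card b ≤ Fintype.card (Fin m) := by
    rw [← Module.finrank_eq_card_basis B, Subspace.dual_finrank_eq, Fintype.card_fin]
    exact (finrank_form_le k r d).trans hm
  obtain ⟨e⟩ := Function.Embedding.nonempty_of_card_le hcard
  have hpt : ∀ β : b, ∃ pt : Fin (r + 1) → k, evp pt = (β : Module.Dual k (LefPen.Form r k d)) :=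
    fun β => hb_sub β.2
  choose pt hpt using hpt
  let x : Fin m → (Fin (r + 1) → k) := fun i => if h : ∃ β, e β = i then pt h.choose else 0
  have hx : ∀ β, x (e β) = pt β := by
    intro β
    have h : ∃ β', e β' = e β := ⟨β, rfl⟩
    simp only [x, dif_pos h]
    rw [e.injective h.choose_spec]
  refine ⟨x, ?_⟩
  intro G hG
  rw [← Module.forall_dual_apply_eq_zero_iff k]
  intro φ
  have hφ : φ ∈ Submodule.span k b := by rw [hb_span]; trivial
  induction hφ using Submodule.span_induction with
  | mem ψ hψ =>
    have := hG (e ⟨ψ, hψ⟩)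
    rw [hx, ← evp_apply, hpt] at this
    exact this
  | zero => rfl
  | add ψ ψ' _ _ h1 h2 => rw [LinearMap.add_apply, h1, h2, add_zero]
  | smul c ψ _ h1 => rw [LinearMap.smul_apply, h1, smul_zero]


end helpers

/-- Let k be an infinite field, r a natural number, d ≥ 1 an integer, and m ≥ C(r+d, d), the number of
monomials of degree d in r+1 variables. In the space of m-tuples of vectors of k^(r+1) (homogeneous
coordinate vectors of m points of projective r-space; a zero vector is allowed and imposes no
condition), the tuples such that the only form of degree d vanishing at all of them is the zero form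
make up a Zariski-open subset which contains the non-vanishing locus of a not identically zero
polynomial function, so a dense open subset. (The published statement is the openness and density of
the corresponding locus in the m-fold product of projective r-space over the ground field; here the
ground field is any infinite field and the statement is made on coordinate vectors.) -/
theorem result (k : Type u) [Field k] [Infinite k]
    (r d m : ℕ) (hd : 1 ≤ d) (hm : Nat.choose (r + d) d ≤ m) :
    LefPen.IsZOpen k {x : Fin m → (Fin (r + 1) → k) |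
      ∀ G : LefPen.Form r k d, (∀ i : Fin m, MvPolynomial.aeval (x i) G.1 = 0) → G = 0} ∧
    LefPen.IsGeneric k {x : Fin m → (Fin (r + 1) → k) |
      ∀ G : LefPen.Form r k d, (∀ i : Fin m, MvPolynomial.aeval (x i) G.1 = 0) → G = 0} := by
  constructor
  · intro x hx
    exact exists_polyFun x hx
  · obtain ⟨x, hx⟩ := exists_mem_S (k := k) (r := r) (d := d) (m := m) hm
    obtain ⟨f, hf, hfx, hfS⟩ := exists_polyFun x hx
    exact ⟨f, hf, ⟨x, hfx⟩, hfS⟩

end Groth.Agent.S18464
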