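import Groth.Statements.S18466
import Mathlib

set_option autoImplicit false
universe u
open Hopf

namespace Groth.Agent.S18466

section helpers
open TensorProduct


section fwd
variable (k : Type u) [Field k] (n : ℕ) [NeZero n]

local notation "G" => Multiplicative (ZMod n)

theorem forward (Φ : ConstGrp.F k G ≃ₐc[k] MonoidAlgebra k G) : ∃ ζ : k, IsPrimitiveRoot ζ n := by
  classical
  let Ψ := Φ.symm
  let c : G → ConstGrp.F k G := fun g => Ψ (MonoidAlgebra.of k G g)
  have hc_comul : ∀ g, Coalgebra.comul (R := k) (c g) = c g ⊗ₜ[k] c g := by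
    intro g
    have h := CoalgHomClass.map_comp_comul_apply Ψ (MonoidAlgebra.of k G g)
    rw [← h]
    simp [c, MonoidAlgebra.of_apply]
  have hc_mul : ∀ g a b, c g (a * b) = c g a * c g b := by
    intro g a b
    have := ConstGrp.pair_comul k G (c g) a b
    rw [hc_comul, ConstGrp.pair_tmul] at this
    exact this.symm
  have hc_one : ∀ g, c g 1 = 1 := by
    intro g
    have h := CoalgHomClass.counit_comp_apply Ψ (MonoidAlgebra.of k G g)
    rw [ConstGrp.counit_apply] at h
    refine Eq.trans h ?_
    simp [MonoidAlgebra.of_apply]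
  have hc_mul' : ∀ g h a, c (g * h) a = c g a * c h a := by
    intro g h a
    simp only [c, map_mul]
    rfl
  have hc_one' : ∀ a, c 1 a = 1 := by
    intro a
    simp only [c, map_one]
    rfl
  let σ : G := Multiplicative.ofAdd 1
  let θ : G →* k := { toFun := fun g => c g σ, map_one' := hc_one' σ, map_mul' := fun g h => hc_mul' g h σ }
  let χ : G → (G →* k) := fun g =>
    { toFun := fun a => c g a, map_one' := hc_one g, map_mul' := fun a b => hc_mul g a b }
  have hσ : ∀ a : G, a = σ ^ (Multiplicative.toAdd a).val := by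
    intro a
    change a = Multiplicative.ofAdd ((Multiplicative.toAdd a).val • (1 : ZMod n))
    rw [nsmul_eq_mul, mul_one, ZMod.natCast_zmod_val]
    rfl
  have hθinj : Function.Injective θ := by
    intro g h hgh
    have h1 : c g = c h := by
      ext a
      rw [hσ a]
      change χ g (σ ^ _) = χ h (σ ^ _)
      rw [map_pow, map_pow]
      change (θ g) ^ _ = (θ h) ^ _
      rw [hgh]
    have h2 : MonoidAlgebra.of k G g = MonoidAlgebra.of k G h := Ψ.injective h1
    exact MonoidAlgebra.of_injective h2
  have hord : orderOf (θ σ) = n := by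
    rw [orderOf_injective θ hθinj σ]
    change orderOf (Multiplicative.ofAdd (1 : ZMod n)) = n
    rw [orderOf_ofAdd_eq_addOrderOf, ZMod.addOrderOf_one]
  refine ⟨θ σ, ?_⟩
  have := IsPrimitiveRoot.orderOf (θ σ)
  rwa [hord] at this

end fwd


section bwd
variable (k : Type u) [Field k] (n : ℕ) [NeZero n]

local notation "G" => Multiplicative (ZMod n)

/-- Group-like elements of the function algebra are the multiplicative functions. -/
theorem comul_of_mul {H : Type*} [Group H] [Fintype H] [DecidableEq H] (f : ConstGrp.F k H)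
    (hf : ∀ a b, f (a * b) = f a * f b) : Coalgebra.comul (R := k) f = f ⊗ₜ[k] f := by
  rw [ConstGrp.comul_eq_sum]
  conv_rhs => rw [ConstGrp.eq_sum_smul_e f]
  rw [TensorProduct.sum_tmul]
  refine Finset.sum_congr rfl fun a _ => ?_
  rw [TensorProduct.tmul_sum]
  refine Finset.sum_congr rfl fun b _ => ?_
  rw [TensorProduct.smul_tmul_smul, hf]

variable {k n} in
/-- The characters. -/
noncomputable def cF (ζ : k) (g : G) : ConstGrp.F k G :=
  fun h => ζ ^ ((Multiplicative.toAdd g).val * (Multiplicative.toAdd h).val)

omit [NeZero n] in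
theorem cF_apply (ζ : k) (g h : G) :
    cF ζ g h = ζ ^ ((Multiplicative.toAdd g).val * (Multiplicative.toAdd h).val) := rfl

theorem cF_mul_left {ζ : k} (hζ : ζ ^ n = 1) (g g' h : G) :
    cF ζ (g * g') h = cF ζ g h * cF ζ g' h := by
  rw [cF_apply, cF_apply, cF_apply, ← pow_add, pow_eq_pow_mod _ hζ,
    pow_eq_pow_mod ((Multiplicative.toAdd g).val * _ + _) hζ]
  congr 1
  rw [toAdd_mul, ZMod.val_add, ← add_mul]
  exact (Nat.mod_modEq _ _).mul_right _

theorem cF_mul_right {ζ : k} (hζ : ζ ^ n = 1) (g h h' : G) :
    cF ζ g (h * h') = cF ζ g h * cF ζ g h' := by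
  rw [cF_apply, cF_apply, cF_apply, ← pow_add, pow_eq_pow_mod _ hζ,
    pow_eq_pow_mod ((Multiplicative.toAdd g).val * _ + _) hζ]
  congr 1
  rw [toAdd_mul, ZMod.val_add, ← mul_add]
  exact (Nat.mod_modEq _ _).mul_left _

omit [NeZero n] in
theorem cF_one_left (ζ : k) (h : G) : cF ζ 1 h = 1 := by
  rw [cF_apply, toAdd_one, ZMod.val_zero, zero_mul, pow_zero]

omit [NeZero n] in
theorem cF_one_right (ζ : k) (g : G) : cF ζ g 1 = 1 := by
  rw [cF_apply, toAdd_one, ZMod.val_zero, mul_zero, pow_zero]


theorem backward (ζ : k) (hζ : IsPrimitiveRoot ζ n) :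
    Nonempty (ConstGrp.F k G ≃ₐc[k] MonoidAlgebra k G) := by
  have hζn : ζ ^ n = 1 := hζ.pow_eq_one
  let Ψ₀ : G →* ConstGrp.F k G :=
    { toFun := cF ζ
      map_one' := by ext h; exact cF_one_left k n ζ h
      map_mul' := fun g g' => by ext h; exact cF_mul_left k n hζn g g' h }
  let Ψa : MonoidAlgebra k G →ₐ[k] ConstGrp.F k G := MonoidAlgebra.lift k (ConstGrp.F k G) G Ψ₀
  have hΨa : ∀ g, Ψa (MonoidAlgebra.of k G g) = cF ζ g := by
    intro g
    simp [Ψa, Ψ₀]
  let Ψ : MonoidAlgebra k G →ₐc[k] ConstGrp.F k G := BialgHom.ofAlgHom Ψa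
    (by
      refine MonoidAlgebra.algHom_ext (fun g => ?_) (Subsingleton.elim _ _)
      change Coalgebra.counit (R := k) (Ψa (MonoidAlgebra.of k G g)) = Coalgebra.counit (R := k) (MonoidAlgebra.of k G g)
      rw [hΨa, ConstGrp.counit_apply, cF_one_right]
      simp [MonoidAlgebra.of_apply])
    (by
      refine MonoidAlgebra.algHom_ext (fun g => ?_) (Subsingleton.elim _ _)
      change Algebra.TensorProduct.map Ψa Ψa (Coalgebra.comul (R := k) (MonoidAlgebra.of k G g)) =
        Coalgebra.comul (R := k) (Ψa (MonoidAlgebra.of k G g))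
      have h2 : Coalgebra.comul (R := k) (cF ζ g) = cF ζ g ⊗ₜ[k] cF ζ g :=
        comul_of_mul k (cF ζ g) (cF_mul_right k n hζn g)
      rw [hΨa, h2]
      have : Coalgebra.comul (R := k) (MonoidAlgebra.of k G g) =
          MonoidAlgebra.of k G g ⊗ₜ[k] MonoidAlgebra.of k G g := by
        simp [MonoidAlgebra.of_apply]
      rw [this, Algebra.TensorProduct.map_tmul, hΨa])
  -- characters
  let χ : G → (G →* k) := fun g =>
    { toFun := cF ζ g, map_one' := cF_one_right k n ζ g, map_mul' := cF_mul_right k n hζn g }
  have hχinj : Function.Injective χ := by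
    intro g h hgh
    rcases Nat.lt_or_ge 1 n with hn | hn
    · have h1 : cF ζ g (Multiplicative.ofAdd 1) = cF ζ h (Multiplicative.ofAdd 1) :=
        DFunLike.congr_fun hgh (Multiplicative.ofAdd 1)
      have hone : (1 : ZMod n).val = 1 := by
        have : Fact (1 < n) := ⟨hn⟩
        exact ZMod.val_one n
      rw [cF_apply, cF_apply, toAdd_ofAdd, hone, mul_one, mul_one] at h1
      have h2 := hζ.pow_inj (ZMod.val_lt _) (ZMod.val_lt _) h1
      exact Multiplicative.toAdd.injective (ZMod.val_injective n h2)
    · have hn1 : n = 1 := le_antisymm hn (Nat.one_le_iff_ne_zero.mpr (NeZero.ne n))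
      subst hn1
      exact Subsingleton.elim _ _
  have hLI : LinearIndependent k (fun g : G => (χ g : G → k)) :=
    (linearIndependent_monoidHom G k).comp χ hχinj
  have hinj : Function.Injective Ψa := by
    have hsp : Submodule.span k (Set.range (MonoidAlgebra.basis G k)) = ⊤ :=
      (MonoidAlgebra.basis G k).span_eq
    refine LinearMap.injective_of_linearIndependent (f := Ψa.toLinearMap) hsp ?_
    have : (Ψa.toLinearMap ∘ (MonoidAlgebra.basis G k)) = fun g : G => cF ζ g := by
      funext g
      exact hΨa g
    rw [this]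
    exact hLI
  have hfin : Module.Finite k (MonoidAlgebra k G) := Module.Finite.of_basis (MonoidAlgebra.basis G k)
  have hrank : Module.finrank k (MonoidAlgebra k G) = Module.finrank k (ConstGrp.F k G) := by
    rw [Module.finrank_eq_card_basis (MonoidAlgebra.basis G k),
      Module.finrank_eq_card_basis (ConstGrp.basis k G)]
  have hsurj : Function.Surjective Ψa :=
    (LinearMap.injective_iff_surjective_of_finrank_eq_finrank (f := Ψa.toLinearMap) hrank).mp hinj
  exact ⟨(BialgEquiv.ofBijective Ψ ⟨hinj, hsurj⟩).symm⟩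

end bwd


end helpers

/-- Let k be a field and n ≥ 1. The constant group scheme ℤ/n over k is self-dual, that is, isomorphic
to its Cartier dual μ_n — equivalently the Hopf algebra of k-valued functions on the cyclic group of
order n and the group algebra of that group over k (group elements group-like) are isomorphic as
bialgebras — precisely when the field k has a primitive n-th root of unity, i.e. k contains n
distinct n-th roots of unity in k. (The published statement assumes that the characteristic of k
does not divide n; both directions hold without that assumption by the same argument, since a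
primitive n-th root of unity forces n to be nonzero in k, so it is omitted here.) -/
theorem result
    (k : Type u) [Field k] (n : ℕ) [NeZero n] :
    Nonempty (ConstGrp.F k (Multiplicative (ZMod n)) ≃ₐc[k] MonoidAlgebra k (Multiplicative (ZMod n))) ↔
      ∃ ζ : k, IsPrimitiveRoot ζ n := by
  constructor
  · rintro ⟨Φ⟩
    exact forward k n Φ
  · rintro ⟨ζ, hζ⟩
    exact backward k n ζ hζ

end Groth.Agent.S18466
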