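import Groth.Statements.S18467
import Mathlib

set_option autoImplicit false
universe u
open Hopf

namespace Groth.Agent.S18467

section
variable {R : Type u} [CommRing R] {G : Type*} [CommGroup G] [Fintype G]

/-- the element `∑ a(m) [m]` of the group algebra -/
noncomputable def E (a : G → R) : MonoidAlgebra R G := ∑ m : G, a m • MonoidAlgebra.of R G m

theorem E_mul (a b : G → R) :
    E a * E b = E (fun l => ∑ m : G, a m * b (m⁻¹ * l)) := by
  unfold E
  rw [Finset.sum_mul_sum]
  have h1 : ∀ m : G, ∑ n : G, (a m • MonoidAlgebra.of R G m) * (b n • MonoidAlgebra.of R G n) =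
      ∑ l : G, (a m * b (m⁻¹ * l)) • MonoidAlgebra.of R G l := by
    intro m
    rw [← Equiv.sum_comp (Equiv.mulLeft m⁻¹)]
    refine Finset.sum_congr rfl fun l _ => ?_
    rw [smul_mul_smul_comm, ← map_mul, Equiv.coe_mulLeft, mul_inv_cancel_left]
  rw [Finset.sum_congr rfl fun m _ => h1 m, Finset.sum_comm]
  refine Finset.sum_congr rfl fun l _ => ?_
  rw [Finset.sum_smul]

theorem sum_eq_zero_of_shift (F : G → R) (g : G) (hmul : ∀ m, F (g * m) = F g * F m)
    (hunit : IsUnit (F g - 1)) : ∑ m : G, F m = 0 := by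
  have h1 : ∑ m : G, F m = F g * ∑ m : G, F m := by
    conv_lhs => rw [← Equiv.sum_comp (Equiv.mulLeft g) F]
    rw [Finset.mul_sum]
    exact Finset.sum_congr rfl fun m _ => hmul m
  have h2 : (F g - 1) * ∑ m : G, F m = 0 := by
    rw [sub_mul, one_mul, ← h1, sub_self]
  exact hunit.mul_right_eq_zero.mp h2
end


/-- Let p be a prime and R a commutative ring containing an element u with u(p − 1) = 1, and let χ be a
homomorphism from the group of units of ℤ/p to the group of units of R such that χ(m) − 1 is a unit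
of R for every m ≠ 1. For 0 ≤ i < p − 1 put e_i = u · Σ_m χ(m)^{−i} [m] in the group algebra
R[(ℤ/p)ˣ]. Then the e_i are idempotents, e_i e_j = 0 for i ≠ j, and Σ_i e_i = 1. (The published
statement is for algebras over the subring of the p-adic integers generated over ℤ by the values of
the Teichmüller character χ and by 1/(p(p − 1)); the hypotheses on R and χ here are the properties
of that situation which the computation uses, so the row is stated for every such pair.) -/
theorem result
    (p : ℕ) [Fact p.Prime] (R : Type u) [CommRing R] (u : R) (hu : u * ((p - 1 : ℕ) : R) = 1)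
    (χ : (ZMod p)ˣ →* Rˣ) (hχ : ∀ m : (ZMod p)ˣ, m ≠ 1 → IsUnit ((χ m : R) - 1)) :
    CompleteOrthogonalIdempotents (fun i : Fin (p - 1) =>
      u • ∑ m : (ZMod p)ˣ, ((χ m⁻¹ : Rˣ) : R) ^ (i : ℕ) • MonoidAlgebra.of R (ZMod p)ˣ m) := by
  classical
  let c : ℕ → (ZMod p)ˣ → R := fun i m => ((χ m⁻¹ : Rˣ) : R) ^ i
  have hc_def : ∀ i m, c i m = ((χ m⁻¹ : Rˣ) : R) ^ i := fun i m => rfl
  have hc_mul : ∀ i m n, c i (m * n) = c i m * c i n := by
    intro i m n
    simp only [hc_def, mul_inv, map_mul, Units.val_mul, mul_pow]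
  have hc_one : ∀ i, c i 1 = 1 := by
    intro i
    simp [hc_def]
  have hcard : Fintype.card (ZMod p)ˣ = p - 1 := ZMod.card_units p
  obtain ⟨g, hg⟩ := IsCyclic.exists_generator (α := (ZMod p)ˣ)
  have hord : orderOf g = p - 1 := by
    rw [orderOf_eq_card_of_forall_mem_zpowers hg, Nat.card_eq_fintype_card, hcard]
  have hI : ∀ i j : ℕ, i < p - 1 → j < p - 1 →
      ∑ m : (ZMod p)ˣ, c i m * c j m⁻¹ = if i = j then ((p - 1 : ℕ) : R) else 0 := by
    intro i j hi hj
    split_ifs with hij
    · subst hij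
      have : ∀ m : (ZMod p)ˣ, c i m * c i m⁻¹ = 1 := by
        intro m
        rw [← hc_mul, mul_inv_cancel, hc_one]
      simp [this, hcard]
    · apply sum_eq_zero_of_shift _ g
      · intro m
        simp only [mul_inv, hc_mul]
        ring
      · have hU : (χ g⁻¹) ^ i * (χ g⁻¹⁻¹) ^ j = χ (g ^ ((j : ℤ) - i)) := by
          rw [zpow_sub, zpow_natCast, zpow_natCast]
          simp only [map_mul, map_inv, map_pow, inv_inv, inv_pow]
          exact mul_comm _ _
        have hU' : c i g * c j g⁻¹ = ((χ (g ^ ((j : ℤ) - i)) : Rˣ) : R) := by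
          rw [← hU]
          simp [hc_def]
        rw [hU']
        apply hχ
        intro h1
        rw [← orderOf_dvd_iff_zpow_eq_one, hord] at h1
        have h2 : |(j : ℤ) - i| < ((p - 1 : ℕ) : ℤ) := by
          rw [abs_lt]
          constructor <;> omega
        have := Int.eq_zero_of_abs_lt_dvd h1 h2
        omega
  have hprod : ∀ i j : ℕ, i < p - 1 → j < p - 1 →
      E (c i) * E (c j) = (if i = j then ((p - 1 : ℕ) : R) else 0) • E (c j) := by
    intro i j hi hj
    rw [E_mul]
    unfold E
    rw [Finset.smul_sum]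
    refine Finset.sum_congr rfl fun l _ => ?_
    rw [smul_smul]
    congr 1
    simp only [hc_mul, ← mul_assoc, ← Finset.sum_mul, hI i j hi hj]
  have he : ∀ i : Fin (p - 1),
      (u • ∑ m : (ZMod p)ˣ, ((χ m⁻¹ : Rˣ) : R) ^ (i : ℕ) • MonoidAlgebra.of R (ZMod p)ˣ m) =
        u • E (c i) := fun i => rfl
  refine ⟨⟨fun i => ?_, fun i j hij => ?_⟩, ?_⟩
  · change _ * _ = _
    simp only [he]
    rw [smul_mul_smul_comm, hprod i i i.2 i.2, if_pos rfl, smul_smul, mul_assoc, hu, mul_one]
  · simp only [he]
    rw [smul_mul_smul_comm, hprod i j i.2 j.2, if_neg (fun h => hij (Fin.ext h)), zero_smul,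
      smul_zero]
  · simp only [he]
    rw [← Finset.smul_sum]
    unfold E
    rw [Finset.sum_comm]
    have hinner : ∀ m : (ZMod p)ˣ, ∑ i : Fin (p - 1), c i m • MonoidAlgebra.of R (ZMod p)ˣ m =
        (if m = 1 then ((p - 1 : ℕ) : R) else 0) • MonoidAlgebra.of R (ZMod p)ˣ m := by
      intro m
      rw [← Finset.sum_smul]
      congr 1
      split_ifs with hm
      · subst hm
        simp [hc_one]
      · rw [Fin.sum_univ_eq_sum_range (fun i => c i m) (p - 1)]
        simp only [hc_def]
        have hgeom := geom_sum_mul ((χ m⁻¹ : Rˣ) : R) (p - 1)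
        have hpow : ((χ m⁻¹ : Rˣ) : R) ^ (p - 1) = 1 := by
          rw [← Units.val_pow_eq_pow_val, ← map_pow, ZMod.units_pow_card_sub_one_eq_one, map_one,
            Units.val_one]
        rw [hpow, sub_self] at hgeom
        exact (hχ m⁻¹ (by simpa using hm)).mul_left_eq_zero.mp hgeom
    rw [Finset.sum_congr rfl fun m _ => hinner m,
      Finset.sum_eq_single (1 : (ZMod p)ˣ) (fun m _ hm => by rw [if_neg hm, zero_smul])
        (fun h => absurd (Finset.mem_univ _) h), if_pos rfl]
    rw [smul_smul, hu, map_one, one_smul]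

end Groth.Agent.S18467
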