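import Groth.Statements.S18470
import Mathlib

set_option autoImplicit false
universe u v
open OortTate

namespace Groth.Agent.S18470

/-- Let R be a commutative ring and A a commutative Hopf algebra over R which is finitely generated and
projective as an R-module (a finite locally free group scheme G = Spec A, not assumed commutative),
and let A^D = Hom_R(A, R) be the dual algebra with its Hopf structure (the Cartier dual when A is
cocommutative), whose counit is evaluation at 1. Then restriction of linear forms to the
augmentation ideal I = ker ε_A of A is a bijection from the augmentation ideal of A^D onto the dual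
module Hom_R(I, R): the dual of the augmentation ideal of G is the augmentation ideal of the dual.
The published statement is for a group scheme of order p over a Λ_p-algebra; the argument uses only
the splitting A = R·1 ⊕ ker ε. -/
theorem result
    (R : Type u) [CommRing R] (A : Type v) [CommRing A] [HopfAlgebra R A]
    [Module.Finite R A] [Module.Projective R A] :
    Function.Bijective (fun f : LinearMap.ker (Bialgebra.counitAlgHom R (CartDual.D R A)).toLinearMap =>
      ((CartDual.toDual R A) (f : CartDual.D R A)).comp
        (LinearMap.ker (Bialgebra.counitAlgHom R A).toLinearMap).subtype) := by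
  have hker : ∀ a : A, a ∈ LinearMap.ker (Bialgebra.counitAlgHom R A).toLinearMap ↔
      Coalgebra.counit (R := R) a = 0 := fun a => Iff.rfl
  have hmem : ∀ a : A, a - algebraMap R A (Coalgebra.counit (R := R) a) ∈
      LinearMap.ker (Bialgebra.counitAlgHom R A).toLinearMap := by
    intro a
    rw [hker]
    simp
  have hone : ∀ f : LinearMap.ker (Bialgebra.counitAlgHom R (CartDual.D R A)).toLinearMap,
      (f : CartDual.D R A).ofConv 1 = 0 := by
    intro f
    exact f.2
  constructor
  · intro f g hfg
    apply Subtype.ext
    apply (CartDual.toDual R A).injective
    apply LinearMap.ext
    intro a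
    have h1 := LinearMap.congr_fun hfg ⟨_, hmem a⟩
    simp only [LinearMap.comp_apply, Submodule.subtype_apply, CartDual.toDual_apply, map_sub] at h1
    simp only [CartDual.toDual_apply]
    rw [Algebra.algebraMap_eq_smul_one, map_smul, map_smul, hone f, hone g] at h1
    simpa using h1
  · intro g
    let P : A →ₗ[R] LinearMap.ker (Bialgebra.counitAlgHom R A).toLinearMap :=
      LinearMap.codRestrict (LinearMap.ker (Bialgebra.counitAlgHom R A).toLinearMap)
        (LinearMap.id - (Algebra.linearMap R A).comp (Coalgebra.counit (R := R) (A := A)))
        (fun a => hmem a)
    have hP1 : P 1 = 0 := by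
      apply Subtype.ext
      change (1 : A) - algebraMap R A (Coalgebra.counit (R := R) (1 : A)) = 0
      simp
    have hPa : ∀ a : LinearMap.ker (Bialgebra.counitAlgHom R A).toLinearMap, P a = a := by
      intro a
      apply Subtype.ext
      have ha := (hker _).mp a.2
      change (a : A) - algebraMap R A (Coalgebra.counit (R := R) (a : A)) = a
      rw [ha]; simp
    refine ⟨⟨WithConv.toConv (g.comp P), ?_⟩, ?_⟩
    · change g (P 1) = 0
      rw [hP1, map_zero]
    · apply LinearMap.ext
      intro a
      change g (P a) = g a
      rw [hPa]

end Groth.Agent.S18470
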