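import Groth.Statements.S18472
import Mathlib
import Groth.Agent.S15067

set_option autoImplicit false
universe u v
open Hopf

namespace Groth.Agent.S18472


open Groth.Agent.S15067 WithConv

theorem unram_of_sq (R : Type u) [CommRing R] (A : Type v) [CommRing A] [HopfAlgebra R A]
    (hI : RingHom.ker (Bialgebra.counitAlgHom R A) ^ 2 = RingHom.ker (Bialgebra.counitAlgHom R A)) :
    Algebra.FormallyUnramified R A := by
  rw [Algebra.FormallyUnramified.iff_comp_injective]
  intro B _ _ J hJ g₁ g₂ hg
  set I : Ideal A := RingHom.ker (Bialgebra.counitAlgHom R A) with hIdef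
  set h : WithConv (A →ₐ[R] B) := cinv g₁ * toConv g₂ with hh
  have hmkh : (Ideal.Quotient.mkₐ R J).comp h.ofConv = (1 : WithConv (A →ₐ[R] B ⧸ J)).ofConv := by
    rw [hh, AlgHom.comp_convMul_distrib]
    have h3 : (Ideal.Quotient.mkₐ R J).comp (cinv g₁).ofConv =
        (cinv ((Ideal.Quotient.mkₐ R J).comp g₁)).ofConv := rfl
    rw [h3, ofConv_toConv, hg, cinv_mul]
  -- h maps I into J
  have hIJ : ∀ a ∈ I, h.ofConv a ∈ J := by
    intro a ha
    have h1 := AlgHom.congr_fun hmkh a
    rw [AlgHom.comp_apply] at h1
    have h2 : Coalgebra.counit (R := R) a = 0 := ha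
    have h3 : (1 : WithConv (A →ₐ[R] B ⧸ J)).ofConv a = 0 := by
      change algebraMap R (B ⧸ J) (Coalgebra.counit a) = 0
      rw [h2, map_zero]
    rw [h3] at h1
    exact Ideal.Quotient.eq_zero_iff_mem.mp h1
  have hkill : I ≤ RingHom.ker h.ofConv := by
    rw [← hI, pow_two, Ideal.mul_le]
    intro r hr s hs
    rw [RingHom.mem_ker, map_mul]
    have : h.ofConv r * h.ofConv s ∈ J ^ 2 := by
      rw [pow_two]; exact Ideal.mul_mem_mul (hIJ r hr) (hIJ s hs)
    rw [hJ] at this
    exact this
  have hone : h = 1 := by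
    apply WithConv.ext
    refine AlgHom.ext fun a => ?_
    have hmem : a - algebraMap R A (Coalgebra.counit (R := R) a) ∈ I := by
      rw [hIdef, RingHom.mem_ker, map_sub]
      change Coalgebra.counit a - Coalgebra.counit (algebraMap R A (Coalgebra.counit (R := R) a)) = 0
      rw [Bialgebra.counit_algebraMap, sub_self]
    have h0 := hkill hmem
    rw [RingHom.mem_ker, map_sub, AlgHom.commutes, sub_eq_zero] at h0
    rw [h0]
    rfl
  have hfin : toConv g₂ = toConv g₁ := by
    calc toConv g₂ = (toConv g₁ * cinv g₁) * toConv g₂ := by rw [mul_cinv, one_mul]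
      _ = toConv g₁ * h := by rw [mul_assoc]
      _ = toConv g₁ := by rw [hone, mul_one]
  exact (toConv_injective hfin).symm

theorem sq_of_unram (R : Type u) [CommRing R] (A : Type v) [CommRing A] [HopfAlgebra R A]
    [Algebra.FormallyUnramified R A] :
    RingHom.ker (Bialgebra.counitAlgHom R A) ^ 2 = RingHom.ker (Bialgebra.counitAlgHom R A) := by
  set I : Ideal A := RingHom.ker (Bialgebra.counitAlgHom R A) with hIdef
  refine le_antisymm (Ideal.pow_le_self two_ne_zero) ?_
  intro a ha
  let J : Ideal (A ⧸ I ^ 2) := I.map (Ideal.Quotient.mk (I ^ 2))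
  have hJ : J ^ 2 = ⊥ := by
    rw [← Ideal.map_pow, Ideal.map_quotient_self]
  let g₁ : A →ₐ[R] A ⧸ I ^ 2 := Ideal.Quotient.mkₐ R (I ^ 2)
  let g₂ : A →ₐ[R] A ⧸ I ^ 2 := (Algebra.ofId R (A ⧸ I ^ 2)).comp (Bialgebra.counitAlgHom R A)
  have hg : (Ideal.Quotient.mkₐ R J).comp g₁ = (Ideal.Quotient.mkₐ R J).comp g₂ := by
    refine AlgHom.ext fun x => ?_
    rw [AlgHom.comp_apply, AlgHom.comp_apply, Ideal.Quotient.mkₐ_eq_mk, Ideal.Quotient.mkₐ_eq_mk,
      Ideal.Quotient.eq]
    have hmem : x - algebraMap R A (Coalgebra.counit (R := R) x) ∈ I := by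
      rw [hIdef, RingHom.mem_ker, map_sub]
      change Coalgebra.counit x - Coalgebra.counit (algebraMap R A (Coalgebra.counit (R := R) x)) = 0
      rw [Bialgebra.counit_algebraMap, sub_self]
    have := Ideal.mem_map_of_mem (Ideal.Quotient.mk (I ^ 2)) hmem
    convert this using 1
    simp [g₂, Algebra.ofId_apply]
  have heq : g₁ = g₂ := Algebra.FormallyUnramified.comp_injective J hJ hg
  have h1 := AlgHom.congr_fun heq a
  have h2 : Coalgebra.counit (R := R) a = 0 := ha
  have h3 : g₂ a = 0 := by
    change algebraMap R (A ⧸ I ^ 2) (Coalgebra.counit a) = 0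
    rw [h2, map_zero]
  rw [h3] at h1
  exact Ideal.Quotient.eq_zero_iff_mem.mp h1

/-- Let R be a commutative ring and A a commutative Hopf algebra over R which is finitely generated and
projective as an R-module (a finite locally free group scheme G = Spec A over Spec R), and let I =
ker ε be its augmentation ideal. Then A is étale over R if and only if I² = I. (The published text
calls G finite flat, meaning that A is finitely generated and projective.) -/
theorem result
    (R : Type u) [CommRing R] (A : Type v) [CommRing A] [HopfAlgebra R A]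
    [Module.Finite R A] [Module.Projective R A] :
    Algebra.Etale R A ↔
      RingHom.ker (Bialgebra.counitAlgHom R A) ^ 2 = RingHom.ker (Bialgebra.counitAlgHom R A) := by
  constructor
  · intro h
    exact sq_of_unram R A
  · intro h
    have hu := unram_of_sq R A h
    have hfp : Module.FinitePresentation R A := Module.finitePresentation_of_projective R A
    exact Algebra.Etale.of_formallyUnramified_of_flat

end Groth.Agent.S18472
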