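import Groth.Statements.S18479
import Mathlib

set_option autoImplicit false
universe u v
open scoped TensorProduct
open OortTate

namespace Groth.Agent.S18479

/-- Let R be a commutative ring and A a commutative Hopf algebra over R whose augmentation ideal ker ε
is a free R-module of rank one with generator x (this is the situation of a group scheme of order 2
over a local ring: A free of rank 2, so ker ε is free of rank 1). Then there are a, b ∈ R with x² =
a·x, Δ(x) = x ⊗ 1 + 1 ⊗ x + b·(x ⊗ x), and ab = −2; thus A is the Hopf algebra R[T]/(T² − aT) with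
comultiplication T ↦ T ⊗ 1 + 1 ⊗ T + b T ⊗ T. (The copy works over a Noetherian local ring to get
freeness; the computation uses only that ker ε is free on x.) -/
theorem result
    (R : Type u) [CommRing R] (A : Type v) [CommRing A] [HopfAlgebra R A]
    (x : A) (hx : Bialgebra.counitAlgHom R A x = 0)
    (hgen : ∀ f : A, Bialgebra.counitAlgHom R A f = 0 → ∃ r : R, f = r • x)
    (hfree : ∀ r : R, r • x = 0 → r = 0) :
    ∃ a b : R, x * x = a • x ∧
      Bialgebra.comulAlgHom R A x = x ⊗ₜ[R] 1 + 1 ⊗ₜ[R] x + b • (x ⊗ₜ[R] x) ∧ a * b = -2 := by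
  set ε := Bialgebra.counitAlgHom R A with hε
  -- coordinate functional π
  have hker : ∀ f : A, ε (f - algebraMap R A (ε f)) = 0 := by
    intro f
    rw [map_sub, AlgHom.commutes]
    simp
  choose π' hπ' using fun f : A => hgen (f - algebraMap R A (ε f)) (hker f)
  have hdecomp : ∀ f : A, f = algebraMap R A (ε f) + π' f • x := by
    intro f
    rw [← hπ' f]
    ring
  have hinj : ∀ r s : R, r • x = s • x → r = s := by
    intro r s h
    have : (r - s) • x = 0 := by rw [sub_smul, h, sub_self]
    exact sub_eq_zero.mp (hfree _ this)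
  -- uniqueness of decomposition
  have huniq : ∀ (f : A) (c r : R), f = algebraMap R A c + r • x → ε f = c ∧ π' f = r := by
    intro f c r h
    have h1 : ε f = c := by
      rw [h, map_add, AlgHom.commutes, map_smul, hx, smul_zero, add_zero]
      rfl
    refine ⟨h1, ?_⟩
    apply hinj
    have h2 := hdecomp f
    rw [h1] at h2
    have : algebraMap R A c + π' f • x = algebraMap R A c + r • x := by rw [← h2, ← h]
    exact add_left_cancel this
  let π : A →ₗ[R] R :=
    { toFun := π'
      map_add' := fun f g => by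
        refine (huniq (f + g) (ε f + ε g) (π' f + π' g) ?_).2
        conv_lhs => rw [hdecomp f, hdecomp g]
        rw [map_add, add_smul]
        ring
      map_smul' := fun c f => by
        refine (huniq (c • f) (c * ε f) (c * π' f) ?_).2
        conv_lhs => rw [hdecomp f]
        rw [smul_add, map_mul, mul_smul, Algebra.smul_def c (algebraMap R A (ε f))] }
  have hπ : ∀ f, π f = π' f := fun f => rfl
  have hπx : π x = 1 := (huniq x 0 1 (by simp)).2
  have hπ1 : π 1 = 0 := (huniq 1 1 0 (by simp)).2
  have hε1 : ε 1 = 1 := map_one ε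
  -- functionals on A ⊗ A
  let T : (A →ₗ[R] R) → (A →ₗ[R] R) → (A ⊗[R] A →ₗ[R] R) := fun φ ψ =>
    LinearMap.mul' R R ∘ₗ TensorProduct.map φ ψ
  have hT : ∀ φ ψ f g, T φ ψ (f ⊗ₜ[R] g) = φ f * ψ g := fun φ ψ f g => rfl
  let εl : A →ₗ[R] R := ε.toLinearMap
  have hεl : ∀ f, εl f = ε f := fun f => rfl
  have hdec2 : ∀ t : A ⊗[R] A, t = T εl εl t • ((1 : A) ⊗ₜ[R] (1 : A)) + T π εl t • (x ⊗ₜ[R] (1 : A)) +
      T εl π t • ((1 : A) ⊗ₜ[R] x) + T π π t • (x ⊗ₜ[R] x) := by
    intro t
    induction t using TensorProduct.induction_on with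
    | zero => simp
    | add t₁ t₂ h₁ h₂ =>
      conv_lhs => rw [h₁, h₂]
      simp only [map_add, add_smul]
      abel
    | tmul f g =>
      conv_lhs => rw [hdecomp f, hdecomp g]
      simp only [hT, hεl, hπ, Algebra.algebraMap_eq_smul_one, TensorProduct.add_tmul,
        TensorProduct.tmul_add, TensorProduct.smul_tmul_smul]
      abel
  -- counit axioms
  have hcomul : ∀ f : A, Bialgebra.comulAlgHom R A f = Coalgebra.comul f := fun f => rfl
  have hcounit : ∀ f : A, ε f = Coalgebra.counit f := fun f => rfl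
  have hTεψ : ∀ (ψ : A →ₗ[R] R) (f : A), T εl ψ (Coalgebra.comul f) = ψ f := by
    intro ψ f
    have h1 : T εl ψ = (TensorProduct.lid R R).toLinearMap ∘ₗ (LinearMap.lTensor R ψ) ∘ₗ
        (LinearMap.rTensor A (Coalgebra.counit : A →ₗ[R] R)) := by
      apply TensorProduct.ext'
      intro f g
      simp [hT, hεl, hcounit]
    rw [h1, LinearMap.comp_apply, LinearMap.comp_apply, Coalgebra.rTensor_counit_comul]
    simp
  have hTψε : ∀ (ψ : A →ₗ[R] R) (f : A), T ψ εl (Coalgebra.comul f) = ψ f := by
    intro ψ f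
    have h1 : T ψ εl = (TensorProduct.rid R R).toLinearMap ∘ₗ (LinearMap.rTensor R ψ) ∘ₗ
        (LinearMap.lTensor A (Coalgebra.counit : A →ₗ[R] R)) := by
      apply TensorProduct.ext'
      intro f g
      simp [hT, hεl, hcounit, mul_comm]
    rw [h1, LinearMap.comp_apply, LinearMap.comp_apply, Coalgebra.lTensor_counit_comul]
    simp
  obtain ⟨a, ha⟩ := hgen (x * x) (by rw [map_mul, hx, zero_mul])
  set b : R := T π π (Coalgebra.comul x) with hb
  have hΔ : Bialgebra.comulAlgHom R A x = x ⊗ₜ[R] 1 + 1 ⊗ₜ[R] x + b • (x ⊗ₜ[R] x) := by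
    rw [hcomul]
    conv_lhs => rw [hdec2 (Coalgebra.comul x)]
    rw [hTεψ, hTεψ, hTψε, hεl, hx, hπx, zero_smul, zero_add, one_smul, one_smul]
  refine ⟨a, b, ha, hΔ, ?_⟩
  -- multiplicativity of the comultiplication
  have hmul : Bialgebra.comulAlgHom R A (x * x) = Bialgebra.comulAlgHom R A x *
      Bialgebra.comulAlgHom R A x := map_mul _ _ _
  rw [ha, map_smul, hΔ] at hmul
  have E1 := congrArg (T π π) hmul
  simp only [map_smul, map_add, mul_add, add_mul, Algebra.TensorProduct.tmul_mul_tmul,
    smul_mul_assoc, mul_smul_comm, hT, ha, one_mul, mul_one, hπx, hπ1, smul_eq_mul] at E1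
  -- antipode
  have hanti := HopfAlgebra.mul_antipode_rTensor_comul_apply (R := R) x
  rw [← hcomul, hΔ, ← hcounit, hx, map_zero] at hanti
  simp only [map_add, map_smul, LinearMap.rTensor_tmul, LinearMap.mul'_apply,
    HopfAlgebra.antipode_one, one_mul, mul_one] at hanti
  set Sx := HopfAlgebra.antipode R x with hSx
  have hSx0 : ε Sx = 0 := by
    have := congrArg ε hanti
    simpa [hx] using this
  obtain ⟨s, hs⟩ := hgen Sx hSx0
  rw [hs, smul_mul_assoc, ha, smul_smul, smul_smul, ← one_smul R x, smul_smul, smul_smul,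
    ← add_smul, ← add_smul] at hanti
  have E2 := hfree _ hanti
  linear_combination s * E1 + (a * b + 2) * E2

end Groth.Agent.S18479
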