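import Groth.Statements.S18480
import Mathlib

set_option autoImplicit false
universe u v
open scoped TensorProduct
open OortTate

namespace Groth.Agent.S18480

section helpers
variable {R : Type u} [CommRing R] {A : Type v} [CommRing A] [Algebra R A]

/-- coordinates on an augmented algebra whose augmentation ideal is free of rank one -/
theorem exists_coord (ε : A →ₐ[R] R) (x : A) (hx : ε x = 0)
    (hgen : ∀ f : A, ε f = 0 → ∃ r : R, f = r • x)
    (hfree : ∀ r : R, r • x = 0 → r = 0) :
    ∃ π : A →ₗ[R] R, (∀ y, y = algebraMap R A (ε y) + π y • x) ∧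
      (∀ (y : A) (c r : R), y = algebraMap R A c + r • x → ε y = c ∧ π y = r) := by
  have hker : ∀ f : A, ε (f - algebraMap R A (ε f)) = 0 := by
    intro f
    rw [map_sub, AlgHom.commutes]
    simp
  choose π' hπ' using fun f : A => hgen (f - algebraMap R A (ε f)) (hker f)
  have hdecomp : ∀ f : A, f = algebraMap R A (ε f) + π' f • x := by
    intro f
    rw [← hπ' f]
    ring
  have hinj : ∀ r s : R, r • x = s • x → r = s := by
    intro r s h
    have : (r - s) • x = 0 := by rw [sub_smul, h, sub_self]
    exact sub_eq_zero.mp (hfree _ this)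
  have huniq : ∀ (f : A) (c r : R), f = algebraMap R A c + r • x → ε f = c ∧ π' f = r := by
    intro f c r h
    have h1 : ε f = c := by
      rw [h, map_add, AlgHom.commutes, map_smul, hx, smul_zero, add_zero]
      rfl
    refine ⟨h1, ?_⟩
    apply hinj
    have h2 := hdecomp f
    rw [h1] at h2
    have : algebraMap R A c + π' f • x = algebraMap R A c + r • x := by rw [← h2, ← h]
    exact add_left_cancel this
  refine ⟨{ toFun := π'
            map_add' := fun f g => ?_
            map_smul' := fun c f => ?_ }, hdecomp, huniq⟩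
  · refine (huniq (f + g) (ε f + ε g) (π' f + π' g) ?_).2
    conv_lhs => rw [hdecomp f, hdecomp g]
    rw [map_add, add_smul]
    abel
  · refine (huniq (c • f) (c * ε f) (c * π' f) ?_).2
    conv_lhs => rw [hdecomp f]
    rw [smul_add, map_mul, mul_smul, Algebra.smul_def c (algebraMap R A (ε f))]

end helpers

theorem exists_algHom_of_eq {R : Type u} [CommRing R] {A : Type v} [CommRing A] [Algebra R A]
    {A' : Type v} [CommRing A'] [Algebra R A']
    (ε : A →ₐ[R] R) (π : A →ₗ[R] R) (x : A)
    (hdec : ∀ y, y = algebraMap R A (ε y) + π y • x)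
    (huniq : ∀ (y : A) (c r : R), y = algebraMap R A c + r • x → ε y = c ∧ π y = r)
    (a : R) (hxa : x * x = a • x) (x' : A') (a' : R) (hxa' : x' * x' = a' • x')
    (s : R) (h : a = a' * s) :
    ∃ f : A →ₐ[R] A', ∀ y, f y = algebraMap R A' (ε y) + (s * π y) • x' := by
  have key : ∀ (c r c' r' : R), (algebraMap R A c + r • x) * (algebraMap R A c' + r' • x) =
      algebraMap R A (c * c') + (c * r' + c' * r + a * r * r') • x := by
    intro c r c' r'
    simp only [Algebra.smul_def, map_add, map_mul]
    have hxx : x * x = algebraMap R A a * x := by rw [hxa, Algebra.smul_def]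
    linear_combination (algebraMap R A r * algebraMap R A r') * hxx
  have key' : ∀ (c r c' r' : R), (algebraMap R A' c + r • x') * (algebraMap R A' c' + r' • x') =
      algebraMap R A' (c * c') + (c * r' + c' * r + a' * r * r') • x' := by
    intro c r c' r'
    simp only [Algebra.smul_def, map_add, map_mul]
    have hxx : x' * x' = algebraMap R A' a' * x' := by rw [hxa', Algebra.smul_def]
    linear_combination (algebraMap R A' r * algebraMap R A' r') * hxx
  have hmul : ∀ y z : A, ε (y * z) = ε y * ε z ∧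
      π (y * z) = ε y * π z + ε z * π y + a * π y * π z := by
    intro y z
    apply huniq
    conv_lhs => rw [hdec y, hdec z]
    exact key _ _ _ _
  have hπ1 : π 1 = 0 := (huniq 1 1 0 (by simp)).2
  let flin : A →ₗ[R] A' :=
    (Algebra.linearMap R A').comp ε.toLinearMap + (s • π).smulRight x'
  have hflin : ∀ y, flin y = algebraMap R A' (ε y) + (s * π y) • x' := fun y => rfl
  refine ⟨AlgHom.ofLinearMap flin ?_ ?_, fun y => rfl⟩
  · rw [hflin, hπ1, map_one, map_one, mul_zero, zero_smul, add_zero]
  · intro y z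
    rw [hflin, hflin, hflin, key', (hmul y z).1, (hmul y z).2, h]
    congr 2
    ring


/-- Let R be a commutative ring and let A and A' be commutative Hopf algebras over R whose augmentation
ideals are free of rank one with generators x and x', with constants a, b and a', b' ∈ R such that
x² = a x, Δ(x) = x ⊗ 1 + 1 ⊗ x + b x ⊗ x and x'² = a' x', Δ(x') = x' ⊗ 1 + 1 ⊗ x' + b' x' ⊗ x' (the
group schemes of order two G_{a,b} and G_{a',b'}). Then A and A' are isomorphic as bialgebras over R
(G_{a,b} ≅ G_{a',b'} as group schemes) if and only if there is a unit s of R with a = a'·s and b' =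
b·s. -/
theorem result
    (R : Type u) [CommRing R] (A : Type v) [CommRing A] [HopfAlgebra R A]
    (x : A) (hx : Bialgebra.counitAlgHom R A x = 0)
    (hgen : ∀ f : A, Bialgebra.counitAlgHom R A f = 0 → ∃ r : R, f = r • x)
    (hfree : ∀ r : R, r • x = 0 → r = 0)
    (a b : R) (hxa : x * x = a • x)
    (hxb : Bialgebra.comulAlgHom R A x = x ⊗ₜ[R] 1 + 1 ⊗ₜ[R] x + b • (x ⊗ₜ[R] x))
    (A' : Type v) [CommRing A'] [HopfAlgebra R A']
    (x' : A') (hx' : Bialgebra.counitAlgHom R A' x' = 0)
    (hgen' : ∀ f : A', Bialgebra.counitAlgHom R A' f = 0 → ∃ r : R, f = r • x')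
    (hfree' : ∀ r : R, r • x' = 0 → r = 0)
    (a' b' : R) (hxa' : x' * x' = a' • x')
    (hxb' : Bialgebra.comulAlgHom R A' x' = x' ⊗ₜ[R] 1 + 1 ⊗ₜ[R] x' + b' • (x' ⊗ₜ[R] x')) :
    Nonempty (A ≃ₐc[R] A') ↔ ∃ s : Rˣ, a = a' * (s : R) ∧ b' = b * (s : R) := by
  set ε := Bialgebra.counitAlgHom R A with hε
  set ε' := Bialgebra.counitAlgHom R A' with hε'
  obtain ⟨π, hdec, huniq⟩ := exists_coord ε x hx hgen hfree
  obtain ⟨π', hdec', huniq'⟩ := exists_coord ε' x' hx' hgen' hfree'
  have hπx : π x = 1 := (huniq x 0 1 (by simp)).2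
  have hπ1 : π 1 = 0 := (huniq 1 1 0 (by simp)).2
  have hπx' : π' x' = 1 := (huniq' x' 0 1 (by simp)).2
  have hπ1' : π' 1 = 0 := (huniq' 1 1 0 (by simp)).2
  have hinj' : ∀ r s : R, r • x' = s • x' → r = s := by
    intro r s h
    have : (r - s) • x' = 0 := by rw [sub_smul, h, sub_self]
    exact sub_eq_zero.mp (hfree' _ this)
  let PP : A' ⊗[R] A' →ₗ[R] R := LinearMap.mul' R R ∘ₗ TensorProduct.map π' π'
  have hPP : ∀ f g, PP (f ⊗ₜ[R] g) = π' f * π' g := fun f g => rfl
  constructor
  · rintro ⟨φ⟩
    have hcounit : ∀ y, ε' (φ y) = ε y := fun y => CoalgHomClass.counit_comp_apply φ y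
    have hcounit' : ∀ y, ε (φ.symm y) = ε' y := fun y => CoalgHomClass.counit_comp_apply φ.symm y
    obtain ⟨s, hs⟩ := hgen' (φ x) (by rw [hcounit, hx])
    obtain ⟨t, ht⟩ := hgen (φ.symm x') (by rw [hcounit', hx'])
    have hst : s * t = 1 := by
      have : x = (s * t) • x := by
        conv_lhs => rw [← φ.symm_apply_apply x, hs, map_smul, ht, smul_smul]
      have h0 : (s * t - 1) • x = 0 := by rw [sub_smul, one_smul, ← this, sub_self]
      exact sub_eq_zero.mp (hfree _ h0)
    refine ⟨⟨s, t, hst, by rw [mul_comm]; exact hst⟩, ?_, ?_⟩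
    · have h1 : φ (x * x) = φ x * φ x := map_mul φ x x
      rw [hxa, map_smul, hs, smul_mul_smul_comm, hxa', smul_smul, smul_smul] at h1
      have h2 := hinj' _ _ h1
      change a = a' * s
      calc a = a * (s * t) := by rw [hst, mul_one]
        _ = (a * s) * t := by ring
        _ = (s * s * a') * t := by rw [h2]
        _ = a' * s * (s * t) := by ring
        _ = a' * s := by rw [hst, mul_one]
    · have h3 := CoalgHomClass.map_comp_comul_apply φ x
      change TensorProduct.map _ _ (Bialgebra.comulAlgHom R A x) =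
        Bialgebra.comulAlgHom R A' (φ x) at h3
      rw [hxb, hs, map_smul, hxb'] at h3
      have h4 := congrArg PP h3
      simp only [map_add, map_smul, TensorProduct.map_tmul, hPP, smul_eq_mul] at h4
      have hφx : ∀ y : A, π' ((φ : A →ₗ[R] A') y) = π' (φ y) := fun y => rfl
      simp only [LinearMap.coe_coe, hs, map_one, map_smul, hπx', hπ1', smul_eq_mul] at h4
      change b' = b * s
      linear_combination (-t) * h4 + (b * s - b') * hst
  · rintro ⟨s, ha, hb⟩
    have ha' : a' = a * ((s⁻¹ : Rˣ) : R) := by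
      rw [ha, mul_assoc, Units.mul_inv, mul_one]
    obtain ⟨f, hf⟩ := exists_algHom_of_eq ε π x hdec huniq a hxa x' a' hxa' (s : R) ha
    obtain ⟨g, hg⟩ := exists_algHom_of_eq ε' π' x' hdec' huniq' a' hxa' x a hxa
      ((s⁻¹ : Rˣ) : R) ha'
    have hεf : ∀ y, ε' (f y) = ε y := fun y => (huniq' (f y) _ _ (hf y)).1
    have hπf : ∀ y, π' (f y) = s * π y := fun y => (huniq' (f y) _ _ (hf y)).2
    have hεg : ∀ y, ε (g y) = ε' y := fun y => (huniq (g y) _ _ (hg y)).1
    have hπg : ∀ y, π (g y) = ((s⁻¹ : Rˣ) : R) * π' y := fun y => (huniq (g y) _ _ (hg y)).2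
    have hgf : ∀ y, g (f y) = y := by
      intro y
      rw [hg, hεf, hπf, ← mul_assoc, Units.inv_mul, one_mul]
      exact (hdec y).symm
    have hfg : ∀ y, f (g y) = y := by
      intro y
      rw [hf, hεg, hπg, ← mul_assoc, Units.mul_inv, one_mul]
      exact (hdec' y).symm
    let e : A ≃ₐ[R] A' := AlgEquiv.ofAlgHom f g (AlgHom.ext hfg) (AlgHom.ext hgf)
    have he : ∀ y, e y = f y := fun y => rfl
    have he' : ∀ y, (e : A →ₐ[R] A') y = f y := fun y => rfl
    have hfx : f x = (s : R) • x' := by
      rw [hf, hx, hπx, map_zero, zero_add, mul_one]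
    refine ⟨BialgEquiv.ofAlgEquiv e ?_ ?_⟩
    · exact AlgHom.ext fun y => hεf y
    · apply AlgHom.ext
      intro y
      have hx1 : ((Algebra.TensorProduct.map (e : A →ₐ[R] A') (e : A →ₐ[R] A')).comp
          (Bialgebra.comulAlgHom R A)) x =
          ((Bialgebra.comulAlgHom R A').comp (e : A →ₐ[R] A')) x := by
        simp only [AlgHom.comp_apply, he', hxb, hfx, map_add, map_smul,
          Algebra.TensorProduct.map_tmul, map_one, hxb']
        simp only [TensorProduct.smul_tmul', TensorProduct.tmul_smul, smul_add, smul_smul, hb]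
        congr 2
        ring_nf
      rw [hdec y]
      simp only [map_add, map_smul, AlgHom.commutes]
      rw [hx1]

end Groth.Agent.S18480
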