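import Groth.Statements.S18484
import Groth.Agent.Helper19.SchDomEpi

set_option autoImplicit false
universe u
open CategoryTheory CategoryTheory.Limits AlgebraicGeometry MonObj
open Neron

namespace Groth.Agent.S18484

/-- Let R be a Dedekind domain with fraction field K, X a Spec R-scheme which is a Néron model of its
generic fibre X_K, and i : G → X a closed immersion with G smooth over Spec R. Then G is a Néron
model of its generic fibre G_K: smooth, separated, of finite type, and for every smooth Spec
R-scheme Y restriction to generic fibres is a bijection from R-morphisms Y → G onto K-morphisms Y_K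
→ G_K. (The source states this for a closed subgroup scheme of a Néron model; the group laws play no
part and are not assumed. The converse direction of the source, that a Néron model is a closed
subgroup of a Néron model, is immediate and not stated.) -/
theorem result (R : Type u) [CommRing R] [IsDedekindDomain R]
    (X G : Over (Spec (CommRingCat.of R))) (hX : Neron.IsNeronModelOf R X ((Neron.genericFibre R).obj X) (Iso.refl _))
    (i : G ⟶ X) [IsClosedImmersion i.left] [Smooth G.hom] :
    Neron.IsNeronModelOf R G ((Neron.genericFibre R).obj G) (Iso.refl _) := by
  obtain ⟨hsX, hsepX, hlftX, hqcX, huX⟩ := hX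
  have hw : i.left ≫ X.hom = G.hom := Over.w i
  haveI : Mono i.left := inferInstance
  haveI : Mono i := Over.mono_of_mono_left i
  haveI : Mono ((Neron.genericFibre R).map i) := inferInstance
  refine ⟨inferInstance, ?_, ?_, ?_, ?_⟩
  · rw [← hw]; infer_instance
  · rw [← hw]; infer_instance
  · rw [← hw]; infer_instance
  · intro Y hY
    haveI := hY
    constructor
    · intro g₁ g₂ h
      have h0 : (Neron.genericFibre R).map g₁ = (Neron.genericFibre R).map g₂ := by
        simpa using h
      have h' : (fun g : Y ⟶ X => (Neron.genericFibre R).map g ≫ (Iso.refl _).hom) (g₁ ≫ i) =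
          (fun g : Y ⟶ X => (Neron.genericFibre R).map g ≫ (Iso.refl _).hom) (g₂ ≫ i) := by
        simp only [Functor.map_comp, h0]
      have h2 : g₁ ≫ i = g₂ ≫ i := (huX Y hY).1 h'
      exact (cancel_mono i).mp h2
    · intro v
      obtain ⟨u, hu⟩ := (huX Y hY).2 (v ≫ (Neron.genericFibre R).map i)
      have hu' : (Neron.genericFibre R).map u = v ≫ (Neron.genericFibre R).map i := by
        simpa using hu
      -- the generic fibre of `Y` is scheme-theoretically dominant in `Y`
      haveI : IsSchemeTheoreticallyDominant (Neron.genPt R) :=
        Groth.Agent.Helper19.SchDomEpi.isSchemeTheoreticallyDominant_specMap _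
          (IsFractionRing.injective R (FractionRing R))
      haveI : Flat Y.hom := inferInstance
      haveI hjY : IsSchemeTheoreticallyDominant (pullback.fst Y.hom (Neron.genPt R)) :=
        inferInstance
      have hleft : pullback.fst Y.hom (Neron.genPt R) ≫ u.left =
          (v.left ≫ pullback.fst G.hom (Neron.genPt R)) ≫ i.left := by
        have e1 := congrArg (fun t => t.left ≫ pullback.fst X.hom (Neron.genPt R)) hu'
        simp only [Over.pullback_map_left, Over.comp_left, Category.assoc,
          pullback.lift_fst] at e1
        rw [Category.assoc]
        exact e1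
      have hker : i.left.ker ≤ u.left.ker := by
        calc i.left.ker ≤ ((v.left ≫ pullback.fst G.hom (Neron.genPt R)) ≫ i.left).ker :=
              Scheme.Hom.le_ker_comp _ _
          _ = (pullback.fst Y.hom (Neron.genPt R) ≫ u.left).ker := by rw [hleft]
          _ = u.left.ker := by
              rw [Scheme.Hom.ker_comp, hjY.ker_eq_bot, Scheme.IdealSheafData.map_bot]
      let w₀ : Y.left ⟶ G.left := IsClosedImmersion.lift i.left u.left hker
      have hw₀ : w₀ ≫ i.left = u.left := IsClosedImmersion.lift_fac _ _ _
      let w : Y ⟶ G := Over.homMk w₀ (by
        rw [← hw, ← Category.assoc, hw₀]; exact Over.w u)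
      have hwi : w ≫ i = u := by
        ext1
        exact hw₀
      refine ⟨w, ?_⟩
      change (Neron.genericFibre R).map w ≫ (Iso.refl _).hom = v
      rw [Iso.refl_hom, Category.comp_id,
        ← cancel_mono ((Neron.genericFibre R).map i), ← Functor.map_comp, hwi, hu']

end Groth.Agent.S18484
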