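import Groth.Statements.S18490
import Mathlib

set_option autoImplicit false
universe u
open CategoryTheory CategoryTheory.Limits AlgebraicGeometry
open FlatMor

namespace Groth.Agent.S18490

theorem flat_of_retract {R A B : Type*} [CommRing R] [CommRing A] [CommRing B]
    (φ : R →+* A) (α : A →+* B) (r : B →+* A) (h : r.comp α = RingHom.id A)
    (hflat : (α.comp φ).Flat) : φ.Flat := by
  algebraize [φ, α.comp φ]
  let i : A →ₗ[R] B :=
    { toFun := α
      map_add' := map_add α
      map_smul' := fun c a => by
        simp only [Algebra.smul_def, map_mul, RingHom.id_apply]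
        rfl }
  let r' : B →ₗ[R] A :=
    { toFun := r
      map_add' := map_add r
      map_smul' := fun c b => by
        simp only [Algebra.smul_def, map_mul, RingHom.id_apply]
        congr 1
        exact congrFun (congrArg DFunLike.coe h) (φ c) }
  have : Module.Flat R B := hflat
  exact Module.Flat.of_retract i r' (LinearMap.ext fun a => congrFun (congrArg DFunLike.coe h) a)


set_option backward.isDefEq.respectTransparency false in
/-- Let f : X → S and g : Y → S be morphisms of schemes and suppose that g has a section y : S → Y. If
the structure morphism X ×_S Y → S (first projection followed by f) is quasi-compact, then so is f;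
likewise for locally of finite type, for separated, and for flat. (Finite type, also listed in the
source, is the conjunction of the first two.) -/
theorem result {X Y S : Scheme.{u}} (f : X ⟶ S) (g : Y ⟶ S)
    (y : S ⟶ Y) (hy : y ≫ g = 𝟙 S) :
    (QuasiCompact (pullback.fst f g ≫ f) → QuasiCompact f) ∧
    (LocallyOfFiniteType (pullback.fst f g ≫ f) → LocallyOfFiniteType f) ∧
    (IsSeparated (pullback.fst f g ≫ f) → IsSeparated f) ∧
    (Flat (pullback.fst f g ≫ f) → Flat f) := by
  let s : X ⟶ pullback f g := pullback.lift (𝟙 X) (f ≫ y) (by simp [hy])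
  have hs : s ≫ pullback.fst f g = 𝟙 X := pullback.lift_fst _ _ _
  have hfs : f = s ≫ (pullback.fst f g ≫ f) := by rw [← Category.assoc, hs, Category.id_comp]
  refine ⟨fun h => ?_, fun h => ?_, fun h => ?_, fun h => ?_⟩
  · refine ⟨fun U hU hU' => ?_⟩
    have hc := h.isCompact_preimage U hU hU'
    have : f ⁻¹' U = (pullback.fst f g) '' ((pullback.fst f g ≫ f) ⁻¹' U) := by
      ext x
      constructor
      · intro hx
        refine ⟨s x, ?_, ?_⟩
        · change (pullback.fst f g ≫ f) (s x) ∈ U
          rw [← Scheme.Hom.comp_apply, ← hfs]
          exact hx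
        · rw [← Scheme.Hom.comp_apply, hs]
          rfl
      · rintro ⟨z, hz, rfl⟩
        exact hz
    rw [this]
    exact hc.image (pullback.fst f g).continuous
  · haveI : LocallyOfFiniteType (s ≫ pullback.fst f g) := by rw [hs]; infer_instance
    haveI : LocallyOfFiniteType s := locallyOfFiniteType_of_comp s (pullback.fst f g)
    rw [hfs]
    infer_instance
  · haveI : IsSeparated (s ≫ pullback.fst f g) := by rw [hs]; infer_instance
    haveI : IsSeparated s := IsSeparated.of_comp s (pullback.fst f g)
    rw [hfs]
    infer_instance
  · rw [Flat.iff_flat_stalkMap] at h ⊢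
    intro x
    have hx' : (pullback.fst f g) (s x) = x := by
      rw [← Scheme.Hom.comp_apply, hs]; rfl
    have h1 := h (s x)
    rw [Scheme.Hom.stalkMap_comp] at h1
    have h2 : (pullback.fst f g).stalkMap (s x) ≫ s.stalkMap x =
        (X.presheaf.stalkCongr (.of_eq hx')).hom := by
      have e1 := Scheme.Hom.stalkMap_comp s (pullback.fst f g) x
      have e2 := Scheme.Hom.stalkMap_congr_hom _ _ hs x
      rw [Scheme.Hom.stalkMap_id] at e2
      exact e1.symm.trans (e2.trans (Category.comp_id _))
    have h3 : (f.stalkMap ((pullback.fst f g) (s x))).hom.Flat := by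
      refine flat_of_retract _ ((pullback.fst f g).stalkMap (s x)).hom
        ((s.stalkMap x) ≫ (X.presheaf.stalkCongr (.of_eq hx')).inv).hom ?_ h1
      rw [← CommRingCat.hom_comp, ← Category.assoc, h2, Iso.hom_inv_id]
      rfl
    exact hx' ▸ h3

end Groth.Agent.S18490
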