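import Groth.Statements.S18500
import Groth.Agent.Lib.Helper14.FlatClosure2

set_option autoImplicit false
universe u
open CategoryTheory CategoryTheory.Limits AlgebraicGeometry
open AlgSp

namespace Groth.Agent.S18500

/-- Let R be a Dedekind domain with fraction field K, S = Spec R, and Y an algebraic space over S (an
fppf sheaf on S-schemes with representable diagonal and an étale atlas), with structure map p : Y →
h_S; let Y_K → Y be its generic fibre, the pullback of p along h_{Spec K} → h_S; let k : H → Y_K be
a closed subspace (a representable closed immersion from an algebraic space) and i : Z → Y the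
scheme theoretic image of the composite H → Y_K → Y. Then Z is flat over S (étale-locally on
charts), the square H → Z, H → Y_K, Z → Y, Y_K → Y is cartesian for the induced H → Z (the generic
fibre of Z is H), and Z is the unique such subspace: every closed subspace i' : Z' → Y which is flat
over S and whose pullback along Y_K → Y is H (through some H → Z') is isomorphic to Z over Y. (The
source allows any connected Dedekind scheme as base; the affine base is stated.) -/
theorem result (R : Type u) [CommRing R] [IsDedekindDomain R]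
    (Y YK H Z : AlgSp.Space (Spec (CommRingCat.of R)))
    (pY : Y.obj ⟶ (AlgSp.yon (Spec (CommRingCat.of R))).obj (Over.mk (𝟙 (Spec (CommRingCat.of R)))))
    (pr : YK ⟶ Y) (qK : YK.obj ⟶ (AlgSp.yon (Spec (CommRingCat.of R))).obj (Over.mk (Neron.genPt R)))
    (hYK : IsPullback pr.hom qK pY ((AlgSp.yon (Spec (CommRingCat.of R))).map (Over.mkIdTerminal.from (Over.mk (Neron.genPt R)))))
    (k : H ⟶ YK) (hk : AlgSp.RepWith @IsClosedImmersion k.hom)
    (i : Z ⟶ Y) (hZ : AlgSp.IsSchImage (k.hom ≫ pr.hom) i.hom) :
    AlgSp.LocP @Flat (i.hom ≫ pY) ∧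
    (∃ m : H ⟶ Z, m ≫ i = k ≫ pr ∧ IsPullback m.hom k.hom i.hom pr.hom) ∧
    (∀ (Z' : AlgSp.Space (Spec (CommRingCat.of R))) (i' : Z' ⟶ Y) (m' : H ⟶ Z'),
      AlgSp.RepWith @IsClosedImmersion i'.hom → AlgSp.LocP @Flat (i'.hom ≫ pY) →
      IsPullback m'.hom k.hom i'.hom pr.hom → ∃ e : Z ≅ Z', e.hom ≫ i' = i) := by
  open CategoryTheory.Limits Groth.Agent.Lib.Helper14.AS in
  have hKqc : AlgSp.RepWith @QuasiCompact k.hom :=
    repWith_mono (fun _ _ g hg => by
      have : IsClosedImmersion g := hg
      exact (inferInstance : QuasiCompact g)) hk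
  have hεqc : AlgSp.RepWith @QuasiCompact ((AlgSp.yon (Spec (CommRingCat.of R))).map
      (Over.mkIdTerminal.from (Over.mk (Neron.genPt R)))) :=
    (AlgSp.repWith_yon_map_iff @QuasiCompact _).2 (by
      have h : (Over.mkIdTerminal.from (Over.mk (Neron.genPt R))).left = Neron.genPt R := by
        simp
      rw [h]
      have : IsAffineHom (Neron.genPt R) := by
        unfold Neron.genPt
        infer_instance
      infer_instance)
  have hεfl : AlgSp.RepWith @Flat ((AlgSp.yon (Spec (CommRingCat.of R))).map
      (Over.mkIdTerminal.from (Over.mk (Neron.genPt R)))) :=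
    (AlgSp.repWith_yon_map_iff @Flat _).2 (by
      have h : (Over.mkIdTerminal.from (Over.mk (Neron.genPt R))).left = Neron.genPt R := by
        simp
      rw [h]
      exact flat_genPt)
  have hεmono : Mono ((AlgSp.yon (Spec (CommRingCat.of R))).map
      (Over.mkIdTerminal.from (Over.mk (Neron.genPt R)))) := by
    have h : (Over.mkIdTerminal.from (Over.mk (Neron.genPt R))).left = Neron.genPt R := by
      simp
    have h1 : Mono (Over.mkIdTerminal.from (Over.mk (Neron.genPt R))).left := by
      rw [h]; exact mono_genPt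
    have h2 : Mono (Over.mkIdTerminal.from (Over.mk (Neron.genPt R))) := Over.mono_of_mono_left _
    infer_instance
  have hprqc : AlgSp.RepWith @QuasiCompact pr.hom := repWith_of_isPullback _ hYK.flip hεqc
  have hprfl : AlgSp.LocP @Flat pr.hom :=
    locP_of_repWith etale_le_flat (repWith_of_isPullback _ hYK.flip hεfl)
  have hprmono : Mono pr.hom := by
    constructor
    intro A a b hab
    apply hYK.hom_ext hab
    rw [← cancel_mono ((AlgSp.yon (Spec (CommRingCat.of R))).map
      (Over.mkIdTerminal.from (Over.mk (Neron.genPt R)))), Category.assoc, Category.assoc,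
      ← hYK.w, ← Category.assoc, ← Category.assoc, hab]
  have hgqc : AlgSp.RepWith @QuasiCompact (k.hom ≫ pr.hom) := repWith_comp _ hKqc hprqc
  have hqc : AlgSp.IsQuasiCompactMor (k.hom ≫ pr.hom) := isQuasiCompactMor_of_repWith hgqc
  refine ⟨?_, ?_, ?_⟩
  · exact locP_flat_schImage_of_generic Y.property pY (k.hom ≫ pr.hom) hgqc.rep hqc
      (k.hom ≫ qK) i.hom hZ
  · obtain ⟨m, hm, sq⟩ := isPullback_schImage_of_flat_mono Y.property YK.property H.property
      pr.hom hprfl k.hom hk hqc i.hom hZ
    exact ⟨ObjectProperty.homMk m, ObjectProperty.hom_ext _ hm, sq⟩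
  · intro Z' i' m' hi' hfl' sq'
    obtain ⟨l₂, hl₂⟩ := exists_lift_flat_closed_of_generic Y.property pY pr.hom qK _ hYK k.hom hqc
      i.hom hZ i'.hom hi' hfl' m'.hom sq'
    obtain ⟨l₁, hl₁⟩ := hZ.2.2 i'.hom Z'.property hi' ⟨m'.hom, sq'.w⟩
    have : Mono i.hom := mono_of_repWith_isClosedImmersion hZ.1
    have : Mono i'.hom := mono_of_repWith_isClosedImmersion hi'
    have h1 : l₁ ≫ l₂ = 𝟙 _ := by
      rw [← cancel_mono i.hom, Category.assoc, hl₂, hl₁, Category.id_comp]
    have h2 : l₂ ≫ l₁ = 𝟙 _ := by
      rw [← cancel_mono i'.hom, Category.assoc, hl₁, hl₂, Category.id_comp]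
    refine ⟨(ObjectProperty.fullyFaithfulι _).preimageIso ⟨l₁, l₂, h1, h2⟩, ?_⟩
    apply ObjectProperty.hom_ext
    exact hl₁

end Groth.Agent.S18500
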