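import Groth.Statements.S18503
import Mathlib
import Groth.Agent.Lib.Helper10.FreeAct1
import Groth.Agent.Lib.Helper10.MonoFibre

set_option autoImplicit false
universe u
open CategoryTheory MonoidalCategory CartesianMonoidalCategory MonObj GrpObj AlgebraicGeometry Topology
open EqInt

namespace Groth.Agent.S18503

/-- Over a field k, let an affine group scheme G of finite type act on a quasi-separated scheme X of
finite type over k. If the action is proper (the morphism (σ, p₂) : G × X → X × X is proper) and the
stabilizer of every point is trivial (for each point x of X the fibre over x of the stabilizer group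
scheme (G × X) ×_{X × X} X → X, the pullback of (σ, p₂) along the diagonal, is Spec κ(x) through its
structure map), then the action is free: (σ, p₂) is a closed immersion. (Stated for X a scheme; the
source allows an algebraic space.) -/
theorem result (k : Type u) [Field k]
    (G X : Over (Spec (CommRingCat.of k))) [GrpObj G] [IsAffine G.left] [LocallyOfFiniteType G.hom]
    [LocallyOfFiniteType X.hom] [QuasiCompact X.hom] [QuasiSeparated X.hom]
    (a : AlgGrp.Action G X) (hp : IsProper (GIT.psi a (𝟙 X)).left)
    (htriv : ∀ x : ↥X.left, IsIso ((Limits.pullback.snd (GIT.psi a (𝟙 X)).left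
      (CartesianMonoidalCategory.lift (𝟙 X) (𝟙 X)).left).fiberToSpecResidueField x)) :
    IsClosedImmersion (GIT.psi a (𝟙 X)).left := by
  haveI := hp
  have hσ : Mono (Limits.pullback.snd (GIT.psi a (𝟙 X)).left
      (CartesianMonoidalCategory.lift (𝟙 X) (𝟙 X)).left) := by
    refine Groth.Agent.Lib.Helper10.MonoFibre.mono_of_fiber _ (fun x => ?_)
    haveI := htriv x
    infer_instance
  haveI hΨ : Mono (GIT.psi a (𝟙 X)) := Groth.Agent.Lib.Helper10.FreeAct.mono_psi_of_mono_stab a hσ
  have hΨL : Mono (GIT.psi a (𝟙 X)).left := inferInstance
  exact (IsClosedImmersion.iff_isProper_and_mono _).mpr ⟨hp, hΨL⟩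

end Groth.Agent.S18503
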