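import Groth.Statements.S18510
import Mathlib
import Groth.Agent.Lib.Helper10.Torsor1
import Groth.Agent.Lib.Helper10.HomSp1
import Groth.Agent.Lib.Helper25.ProperDescent

set_option autoImplicit false
universe u
open CategoryTheory MonoidalCategory CartesianMonoidalCategory MonObj GrpObj AlgebraicGeometry Topology
open EqInt

namespace Groth.Agent.S18510

/-- Flatness codescends along faithfully flat ring maps. -/
theorem flat_codescendsAlong_faithfullyFlat :
    RingHom.CodescendsAlong RingHom.Flat RingHom.FaithfullyFlat := by
  refine .mk _ RingHom.Flat.respectsIso fun R S T _ _ _ _ _ h h' ↦ ?_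
  rw [RingHom.flat_algebraMap_iff] at h' ⊢
  rw [RingHom.faithfullyFlat_algebraMap_iff] at h
  exact Module.Flat.of_flat_tensorProduct R T S

set_option backward.isDefEq.respectTransparency.types false in
theorem flat_descendsAlong :
    MorphismProperty.DescendsAlong @Flat.{u}
      (@Surjective ⊓ @Flat ⊓ @QuasiCompact : MorphismProperty Scheme.{u}) :=
  HasRingHomProperty.descendsAlong_flat flat_codescendsAlong_faithfullyFlat

/-- Over a field k, let an affine group scheme G of finite type act on X, on Y and on U (quasi-separated
schemes of finite type over k), let f : X → Y be G-equivariant, and let q_X : X × U → X_G and q_Y :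
Y × U → Y_G be principal bundle quotients for the diagonal actions (each is invariant, flat and
surjective, and (σ, p₂) into the fibre square over the quotient is an isomorphism), X_G and Y_G
being quasi-separated of finite type over k. Let f_G : X_G → Y_G satisfy f_G ∘ q_X = q_Y ∘ (f ×
id_U) as maps X × U → Y_G. If f is proper, resp. flat, resp. smooth, then so is f_G. (Stated for
schemes; the source allows algebraic spaces and also treats regular embeddings and local complete
intersection morphisms, which are not stated here.) -/
theorem result (k : Type u) [Field k]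
    (G X Y U XG YG : Over (Spec (CommRingCat.of k))) [GrpObj G] [IsAffine G.left] [LocallyOfFiniteType G.hom]
    [LocallyOfFiniteType X.hom] [QuasiCompact X.hom] [QuasiSeparated X.hom]
    [LocallyOfFiniteType Y.hom] [QuasiCompact Y.hom] [QuasiSeparated Y.hom]
    [LocallyOfFiniteType U.hom] [QuasiCompact U.hom] [QuasiSeparated U.hom]
    [LocallyOfFiniteType XG.hom] [QuasiCompact XG.hom] [QuasiSeparated XG.hom]
    [LocallyOfFiniteType YG.hom] [QuasiCompact YG.hom] [QuasiSeparated YG.hom]
    (a : AlgGrp.Action G X) (aY : AlgGrp.Action G Y) (b : AlgGrp.Action G U)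
    (f : X ⟶ Y) (hf : AlgGrp.Action.IsEquivariant a aY f)
    (qX : X ⊗ U ⟶ XG) (hqX : GIT.IsInvariant (a.prod b) qX) [Flat qX.left] [Surjective qX.left]
    (hcX : IsIso (GIT.PsiY (a.prod b) qX hqX))
    (qY : Y ⊗ U ⟶ YG) (hqY : GIT.IsInvariant (aY.prod b) qY) [Flat qY.left] [Surjective qY.left]
    (hcY : IsIso (GIT.PsiY (aY.prod b) qY hqY))
    (fG : XG ⟶ YG) (hfG : qX ≫ fG = (f ▷ U) ≫ qY) :
    (IsProper f.left → IsProper fG.left) ∧ (Flat f.left → Flat fG.left) ∧
      (Smooth f.left → Smooth fG.left) := by
  -- equivariance of f × id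
  have hequiv : (a.prod b).act ≫ (f ▷ U) = (G ◁ (f ▷ U)) ≫ (aY.prod b).act := by
    have hf' : a.act ≫ f = (G ◁ f) ≫ aY.act := hf
    apply CartesianMonoidalCategory.hom_ext
    · rw [AlgGrp.Action.prod_act, AlgGrp.Action.prod_act, Category.assoc, Category.assoc,
        CartesianMonoidalCategory.whiskerRight_fst, CartesianMonoidalCategory.lift_fst,
        CartesianMonoidalCategory.lift_fst_assoc, Category.assoc, hf',
        ← MonoidalCategory.whiskerLeft_comp_assoc, ← MonoidalCategory.whiskerLeft_comp_assoc,
        CartesianMonoidalCategory.whiskerRight_fst]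
    · rw [AlgGrp.Action.prod_act, AlgGrp.Action.prod_act, Category.assoc, Category.assoc,
        CartesianMonoidalCategory.whiskerRight_snd, CartesianMonoidalCategory.lift_snd,
        CartesianMonoidalCategory.lift_snd, ← MonoidalCategory.whiskerLeft_comp_assoc,
        CartesianMonoidalCategory.whiskerRight_snd]
  -- quasi-compactness of the quotient maps
  haveI : QuasiCompact (X ⊗ U).hom := by
    have : (X ⊗ U).hom = (CartesianMonoidalCategory.snd X U).left ≫ U.hom :=
      (Over.w (CartesianMonoidalCategory.snd X U)).symm
    rw [this, Over.snd_left]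
    infer_instance
  haveI : QuasiCompact (Y ⊗ U).hom := by
    have : (Y ⊗ U).hom = (CartesianMonoidalCategory.snd Y U).left ≫ U.hom :=
      (Over.w (CartesianMonoidalCategory.snd Y U)).symm
    rw [this, Over.snd_left]
    infer_instance
  haveI : QuasiCompact (qX.left ≫ XG.hom) := by
    rw [Over.w qX]; infer_instance
  haveI : QuasiCompact qX.left := QuasiCompact.of_comp qX.left XG.hom
  haveI : QuasiCompact (qY.left ≫ YG.hom) := by
    rw [Over.w qY]; infer_instance
  haveI : QuasiCompact qY.left := QuasiCompact.of_comp qY.left YG.hom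
  have sq : IsPullback (f ▷ U) qX qY fG :=
    Groth.Agent.Lib.Helper10.Torsor.isPullback_of_principal (a.prod b) (aY.prod b) qX qY hqX hqY
      (f ▷ U) hequiv fG hfG hcX hcY
  have sqL : IsPullback (f ▷ U).left qX.left qY.left fG.left := sq.map (Over.forget _)
  have sq2 : IsPullback (f ▷ U).left (CartesianMonoidalCategory.fst X U).left
      (CartesianMonoidalCategory.fst Y U).left f.left :=
    (Groth.Agent.Lib.Helper10.HomSp.isPullback_whiskerRight_fst f U).map (Over.forget _)
  have hcover : (@Surjective ⊓ @Flat ⊓ @QuasiCompact : MorphismProperty Scheme.{u}) qY.left :=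
    ⟨⟨inferInstance, inferInstance⟩, inferInstance⟩
  refine ⟨fun h => ?_, fun h => ?_, fun h => ?_⟩
  · have h1 : IsProper (f ▷ U).left := MorphismProperty.of_isPullback (P := @IsProper) sq2.flip h
    exact MorphismProperty.DescendsAlong.of_isPullback (P := @IsProper)
      (Q := (@Surjective ⊓ @Flat ⊓ @QuasiCompact : MorphismProperty Scheme.{u})) sqL hcover h1
  · have h1 : Flat (f ▷ U).left := MorphismProperty.of_isPullback (P := @Flat) sq2.flip h
    haveI := flat_descendsAlong.{u}
    exact MorphismProperty.DescendsAlong.of_isPullback (P := @Flat)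
      (Q := (@Surjective ⊓ @Flat ⊓ @QuasiCompact : MorphismProperty Scheme.{u})) sqL hcover h1
  · have h1 : Smooth (f ▷ U).left := MorphismProperty.of_isPullback (P := @Smooth) sq2.flip h
    exact MorphismProperty.DescendsAlong.of_isPullback (P := @Smooth)
      (Q := (@Surjective ⊓ @Flat ⊓ @QuasiCompact : MorphismProperty Scheme.{u})) sqL hcover h1

end Groth.Agent.S18510
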