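import Groth.Statements.S18519
import Groth.Agent.Lib.Helper15.SepAlgBrauer
import Groth.Agent.Lib.Helper15.CSABaseChange
import Groth.Agent.Lib.Helper15.Wedderburn
import Groth.Agent.Lib.Helper15.CharpolyInv
-- import your own Groth.Agent.* helpers here

set_option autoImplicit false
universe u
open scoped TensorProduct
open Brauer

namespace Groth.Agent.S18519

/-- For a field K with maximal abelian extension K_ab, cd(K_ab) ≤ 1 if and only if for every etale
K-algebra E the restriction map Br(E) ⟶ Br(E ⊗_K K_ab) is trivial; the same holds with the maximal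
solvable extension. Stated here for an arbitrary separable algebraic extension F of K in place of
K_ab (the published lemma takes for F the maximal abelian or the maximal solvable extension of K;
this row allows any separable algebraic extension), with cd(F) ≤ 1 unfolded by the Brauer-group
criterion (every finite separable extension of F has trivial Brauer group) and with etale algebras
replaced by their field factors: (a) every finite-dimensional central division algebra over a finite
separable extension F′ of F is F′ itself; if and only if (b) for every finite separable extension E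
of K, every finite-dimensional central division algebra D over E and every field M containing E and
F compatibly over K, the base change M ⊗_E D is isomorphic over M to a matrix algebra over M. -/
theorem result
    (K F : Type u) [Field K] [Field F] [Algebra K F] [Algebra.IsSeparable K F] :
    (∀ (F' : Type u) [Field F'] [Algebra F F'] [FiniteDimensional F F'] [Algebra.IsSeparable F F']
        (D : Type u) [DivisionRing D] [Algebra F' D] [Algebra.IsCentral F' D] [FiniteDimensional F' D],
        Module.finrank F' D = 1) ↔
    (∀ (E : Type u) [Field E] [Algebra K E] [FiniteDimensional K E] [Algebra.IsSeparable K E]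
        (D : Type u) [DivisionRing D] [Algebra E D] [Algebra.IsCentral E D] [FiniteDimensional E D]
        (M : Type u) [Field M] [Algebra K M] [Algebra E M] [Algebra F M] [IsScalarTower K E M]
        [IsScalarTower K F M],
        ∃ n : ℕ, Nonempty ((M ⊗[E] D) ≃ₐ[M] Matrix (Fin n) (Fin n) M)) := by
  constructor
  · -- (a) ⇒ (b)
    intro ha E _ _ _ _ D _ _ _ _ M _ _ _ _ _ _
    obtain ⟨α, hα⟩ := Field.exists_primitive_element K E
    let α' : M := algebraMap E M α
    let F'' : IntermediateField F M := IntermediateField.adjoin F {α'}
    have hαK : IsIntegral K α := Algebra.IsIntegral.isIntegral α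
    have hα'K : IsIntegral K α' := hαK.algebraMap
    have hα'F : IsIntegral F α' := hα'K.tower_top
    haveI : FiniteDimensional F F'' := IntermediateField.adjoin.finiteDimensional hα'F
    have hsepK : IsSeparable K α := Algebra.IsSeparable.isSeparable K α
    have hsepK' : IsSeparable K α' :=
      hsepK.map (IsScalarTower.toAlgHom K E M) (RingHom.injective _)
    have hsepF : IsSeparable F α' := hsepK'.tower_top F
    haveI : Algebra.IsSeparable F F'' :=
      (IntermediateField.isSeparable_adjoin_simple_iff_isSeparable F M).mpr hsepF
    have hmem : ∀ e : E, algebraMap E M e ∈ F'' := by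
      intro e
      let φ : E →ₐ[K] M := IsScalarTower.toAlgHom K E M
      have h1 : (IntermediateField.adjoin K {α}).map φ = IntermediateField.adjoin K {α'} := by
        rw [IntermediateField.adjoin_map, Set.image_singleton]; rfl
      have h2 : IntermediateField.adjoin K {α'} ≤ F''.restrictScalars K := by
        rw [IntermediateField.adjoin_le_iff]
        rintro _ rfl
        exact IntermediateField.mem_adjoin_simple_self F α'
      have h3 : φ e ∈ (IntermediateField.adjoin K {α}).map φ := by
        rw [hα]; exact ⟨e, trivial, rfl⟩
      rw [h1] at h3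
      exact h2 h3
    letI : Algebra E F'' := ((algebraMap E M).codRestrict F'' hmem).toAlgebra
    haveI : IsScalarTower E F'' M := IsScalarTower.of_algebraMap_eq (fun x => rfl)
    haveI : Algebra.IsCentral F'' (F'' ⊗[E] D) :=
      Groth.Agent.Lib.Helper15.CSA.isCentral_baseChange E F'' D
    haveI : IsSimpleRing (F'' ⊗[E] D) :=
      Groth.Agent.Lib.Helper15.CSA.isSimpleRing_baseChange E F'' D
    obtain ⟨n, hn, D', hD', halg, hcen, hfin, ⟨e⟩⟩ :=
      Groth.Agent.Lib.Helper15.CSA.exists_algEquiv_matrix_central_division F'' (F'' ⊗[E] D)
    have h1 : Module.finrank F'' D' = 1 := ha F'' D'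
    have hbij : Function.Bijective (Algebra.ofId F'' D') := by
      have hinj : Function.Injective (Algebra.ofId F'' D') := (algebraMap F'' D').injective
      refine ⟨hinj, ?_⟩
      have := (LinearMap.injective_iff_surjective_of_finrank_eq_finrank
        (f := (Algebra.ofId F'' D').toLinearMap) (by rw [Module.finrank_self, h1])).mp hinj
      exact this
    let e1 : F'' ≃ₐ[F''] D' := AlgEquiv.ofBijective _ hbij
    let e2 : (F'' ⊗[E] D) ≃ₐ[F''] Matrix (Fin n) (Fin n) F'' := e.trans e1.symm.mapMatrix
    exact ⟨n, ⟨Groth.Agent.Lib.Helper15.CharpolyInv.bc E D F'' e2 M⟩⟩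
  · -- (b) ⇒ (a)
    intro hb F' _ _ _ _ D _ _ _ _
    letI : Algebra K F' := ((algebraMap F F').comp (algebraMap K F)).toAlgebra
    haveI : IsScalarTower K F F' := IsScalarTower.of_algebraMap_eq (fun x => rfl)
    haveI : Algebra.IsSeparable K F' := Algebra.IsSeparable.trans K F F'
    haveI : Algebra.IsAlgebraic K F' := inferInstance
    obtain ⟨E, hE, D₀, hfin, ⟨e⟩⟩ :=
      Groth.Agent.Lib.Helper15.SepAlgBrauer.exists_descent K F' D
    haveI : Algebra.IsSeparable K E := Algebra.isSeparable_tower_bot_of_isSeparable K E F'
    haveI : IsDomain D₀ := inferInstance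
    letI hdiv : DivisionRing D₀ := divisionRingOfFiniteDimensional E D₀
    haveI : Algebra.IsCentral F' (F' ⊗[E] D₀) := Algebra.IsCentral.of_algEquiv F' D _ e.symm
    haveI : Algebra.IsCentral E D₀ :=
      Groth.Agent.Lib.Helper15.CSA.isCentral_of_baseChange E F' D₀
    obtain ⟨n, ⟨e'⟩⟩ := @hb E _ _ _ _ D₀ hdiv _ _ _ F' _ _ _ _ _ _
    exact Groth.Agent.Lib.Helper15.SepAlgBrauer.finrank_eq_one_of_algEquiv_matrix F' D n
      (e.symm.trans e')

end Groth.Agent.S18519
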