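import Groth.Statements.S18538
import Mathlib

set_option autoImplicit false
universe u
open EtAlg

namespace Groth.Agent.S18538

/-- Let A ⊆ B be an injective finite extension of integrally closed domains, with fraction fields K ⊆ L
and L separable over K. Then A → B → B ⊗_A B is exact, the second map being b ↦ b ⊗ 1 - 1 ⊗ b: every
element of B whose two images in B ⊗_A B agree comes from A. -/
theorem result
    (A B K L : Type u) [CommRing A] [CommRing B] [IsDomain A] [IsDomain B]
    [IsIntegrallyClosed A] [IsIntegrallyClosed B] [Algebra A B] [FaithfulSMul A B] [Module.Finite A B]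
    [Field K] [Field L] [Algebra A K] [IsFractionRing A K] [Algebra B L] [IsFractionRing B L]
    [Algebra K L] [Algebra A L] [IsScalarTower A K L] [IsScalarTower A B L]
    [Algebra.IsSeparable K L] :
    Algebra.IsEffective A B := by
  intro b
  refine ⟨fun hb => ?_, fun hb => Algebra.TensorProduct.includeLeftSubRight_zero_of_mem_range hb⟩
  -- the natural map B ⊗[A] B → L ⊗[K] L
  let Φ : TensorProduct A B B →ₗ[A] TensorProduct K L L :=
    (TensorProduct.mapOfCompatibleSMul K A A L L) ∘ₗ
      (TensorProduct.map (IsScalarTower.toAlgHom A B L).toLinearMap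
        (IsScalarTower.toAlgHom A B L).toLinearMap)
  have hΦ : ∀ x y : B, Φ (x ⊗ₜ[A] y) = algebraMap B L x ⊗ₜ[K] algebraMap B L y := fun x y => rfl
  have h1 : Algebra.TensorProduct.includeLeftSubRight K L (algebraMap B L b) = 0 := by
    have := congrArg Φ hb
    rw [Algebra.TensorProduct.includeLeftSubRight_apply, map_sub, hΦ, hΦ, map_zero, map_one] at this
    rw [Algebra.TensorProduct.includeLeftSubRight_apply]
    exact this
  have heff : Algebra.IsEffective K L := Algebra.IsEffective.of_faithfullyFlat K L
  obtain ⟨k, hk⟩ := (heff (algebraMap B L b)).mp h1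
  have hk' : algebraMap K L k = algebraMap B L b := hk
  have hbint : IsIntegral A b := Algebra.IsIntegral.isIntegral b
  have hkint : IsIntegral A k := by
    have h2 : IsIntegral A (algebraMap B L b) := hbint.algebraMap
    rw [← hk'] at h2
    exact (isIntegral_algebraMap_iff (algebraMap K L).injective).mp h2
  obtain ⟨a, ha⟩ := IsIntegrallyClosed.algebraMap_eq_of_integral hkint
  refine ⟨a, ?_⟩
  apply IsFractionRing.injective B L
  change algebraMap B L (algebraMap A B a) = algebraMap B L b
  rw [← hk', ← ha, ← IsScalarTower.algebraMap_apply, ← IsScalarTower.algebraMap_apply]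

end Groth.Agent.S18538
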