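import Groth.Statements.S18544
import Groth.Agent.Lib.Helper15.DetIrr
-- import your own Groth.Agent.* helpers here

set_option autoImplicit false
universe u
open CAlg

namespace Groth.Agent.S18544

/-- Let F be an algebraically closed field of characteristic zero, n a natural number, and N a nonzero
polynomial over F in the n² matrix entries whose evaluation on n × n matrices is multiplicative,
N(xy) = N(x)·N(y) for all x, y (a norm form on the matrix algebra M_n(F) over F). Then N is a
natural power of the determinant: for some m, N(x) = det(x)^m for every matrix x. The published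
statement concerns norm forms of any central simple algebra over a subfield; this row is the case of
the full matrix algebra over an algebraically closed field, which is the case its proof treats. -/
theorem result (F : Type u) [Field F] [IsAlgClosed F]
    [CharZero F] (n : ℕ) (N : MvPolynomial (Fin n × Fin n) F) (hN : N ≠ 0)
    (hmul : ∀ x y : Matrix (Fin n) (Fin n) F,
      MvPolynomial.eval (fun ij : Fin n × Fin n => (x * y) ij.1 ij.2) N =
        MvPolynomial.eval (fun ij : Fin n × Fin n => x ij.1 ij.2) N * MvPolynomial.eval (fun ij : Fin n × Fin n => y ij.1 ij.2) N) :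
    ∃ m : ℕ, ∀ x : Matrix (Fin n) (Fin n) F,
      MvPolynomial.eval (fun ij : Fin n × Fin n => x ij.1 ij.2) N = x.det ^ m := by
  classical
  open MvPolynomial Groth.Agent.Lib.Helper15.DetIrr in
  -- notation
  let ev : Matrix (Fin n) (Fin n) F → F := fun x =>
    MvPolynomial.eval (fun ij : Fin n × Fin n => x ij.1 ij.2) N
  have hev : ∀ x y, ev (x * y) = ev x * ev y := hmul
  -- every point is a matrix
  have hpt : ∀ x : Fin n × Fin n → F,
      x = fun ij : Fin n × Fin n => (Matrix.of fun i j => x (i, j) : Matrix (Fin n) (Fin n) F) ij.1 ij.2 := by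
    intro x
    funext ij
    rfl
  -- N is not identically zero
  obtain ⟨x₀, hx₀⟩ : ∃ x₀ : Matrix (Fin n) (Fin n) F, ev x₀ ≠ 0 := by
    by_contra hcon
    push Not at hcon
    apply hN
    apply MvPolynomial.funext
    intro x
    rw [map_zero, hpt x]
    exact hcon _
  have h1 : ev 1 = 1 := by
    have h := hev x₀ 1
    rw [mul_one] at h
    have h2 : ev x₀ * ev 1 = ev x₀ * 1 := by rw [← h, mul_one]
    exact mul_left_cancel₀ hx₀ h2
  -- N does not vanish on invertible matrices
  have hunit : ∀ x : Matrix (Fin n) (Fin n) F, x.det ≠ 0 → ev x ≠ 0 := by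
    intro x hx h0
    have hu : IsUnit x.det := isUnit_iff_ne_zero.mpr hx
    have h := hev x x⁻¹
    rw [Matrix.mul_nonsing_inv x hu, h1, h0, zero_mul] at h
    exact one_ne_zero h
  -- Nullstellensatz
  have hmem : gdet F n ∈ MvPolynomial.vanishingIdeal F
      (MvPolynomial.zeroLocus F (Ideal.span {N})) := by
    rw [MvPolynomial.mem_vanishingIdeal_iff]
    intro x hx
    rw [MvPolynomial.mem_zeroLocus_iff] at hx
    have hNx : MvPolynomial.aeval x N = 0 := hx N (Ideal.subset_span rfl)
    rw [MvPolynomial.aeval_eq_eval] at hNx ⊢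
    change MvPolynomial.eval x (gdet F n) = 0
    rw [eval_gdet]
    by_contra hdet
    apply hunit _ hdet
    change MvPolynomial.eval _ N = 0
    rw [← hpt x]
    exact hNx
  rw [MvPolynomial.vanishingIdeal_zeroLocus_eq_radical] at hmem
  obtain ⟨K, hK⟩ := hmem
  rw [Ideal.mem_span_singleton] at hK
  rcases Nat.eq_zero_or_pos n with hn | hn
  · subst hn
    refine ⟨0, fun x => ?_⟩
    have : x = 1 := Subsingleton.elim _ _
    rw [this, pow_zero]
    exact h1
  have hirr : Irreducible (gdet F n) := irreducible_gdet F n hn
  have hprime : Prime (gdet F n) := hirr.prime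
  obtain ⟨m, -, hassoc⟩ := (dvd_prime_pow hprime K).mp hK
  obtain ⟨u, hu⟩ := hassoc
  obtain ⟨c, hc, huc⟩ := MvPolynomial.isUnit_iff_eq_C_of_isReduced.mp u.isUnit
  have hNeq : gdet F n ^ m = N * MvPolynomial.C c := by rw [← hu, huc]
  have hev2 : ∀ x : Matrix (Fin n) (Fin n) F, x.det ^ m = ev x * c := by
    intro x
    have := congrArg (MvPolynomial.eval (fun ij : Fin n × Fin n => x ij.1 ij.2)) hNeq
    rw [map_pow, map_mul, MvPolynomial.eval_C, eval_gdet] at this
    exact this
  have hc1 : c = 1 := by
    have := hev2 1
    rw [Matrix.det_one, one_pow, h1, one_mul] at this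
    exact this.symm
  refine ⟨m, fun x => ?_⟩
  have := hev2 x
  rw [hc1, mul_one] at this
  exact this.symm

end Groth.Agent.S18544
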