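import Groth.Statements.S18549
import Mathlib
import Groth.Agent.Lib.Helper9.InvolutionF2

set_option autoImplicit false
open scoped TensorProduct
universe u v
open GalCoh

namespace Groth.Agent.S18549

/-- Over the real numbers, that is for the group G = Gal(ℂ/ℝ) of order 2 acting linearly on a
finite-dimensional vector space V over the field 𝔽₂ with two elements, the short exact sequence of
G-modules 0 → V → S²V → Λ²V → 0 (v ↦ v·v, x·y ↦ x ∧ y) splits G-equivariantly. Here, for a vector
space V over the field with two elements carrying a linear action ρ of a group G, write N_a ⊆ V ⊗ V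
for the span of the tensors v ⊗ v and N_s ⊆ N_a for the span of the tensors x ⊗ y + y ⊗ x, so that
S²V = (V ⊗ V)/N_s, Λ²V = (V ⊗ V)/N_a and the surjection S²V → Λ²V, x·y ↦ x ∧ y, is G-equivariant for
the diagonal action; a G-equivariant linear section of this surjection is the same thing as a
G-stable subspace W of V ⊗ V with W ∩ N_a = N_s and W + N_a = V ⊗ V, which is how the splitting is
stated. (G is any group of order 2 here; V is taken finite-dimensional, the case covered by the
structure theory of finitely generated modules over 𝔽₂[G] that the argument uses.) -/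
theorem result (G : Type u) [Group G] (hG : Nat.card G = 2)
    (V : Type v) [AddCommGroup V] [Module (ZMod 2) V] [Module.Finite (ZMod 2) V]
    (ρ : Representation (ZMod 2) G V) :
    ∃ W : Submodule (ZMod 2) (V ⊗[ZMod 2] V),
      (∀ g : G, ∀ w ∈ W, ρ.tprod ρ g w ∈ W) ∧
      W ⊓ Submodule.span (ZMod 2) (Set.range fun v : V => v ⊗ₜ[ZMod 2] v) =
        Submodule.span (ZMod 2) (Set.range fun p : V × V => p.1 ⊗ₜ[ZMod 2] p.2 + p.2 ⊗ₜ[ZMod 2] p.1) ∧
      W ⊔ Submodule.span (ZMod 2) (Set.range fun v : V => v ⊗ₜ[ZMod 2] v) = ⊤ := by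
  classical
  obtain ⟨σ, hσ1, hσuniq⟩ := (Nat.card_eq_two_iff' (1 : G)).mp hG
  have hG2 : ∀ g : G, g = 1 ∨ g = σ := fun g => by
    by_cases h : g = 1
    · exact Or.inl h
    · exact Or.inr (hσuniq g h)
  have hσσ : σ * σ = 1 := by
    rcases hG2 (σ * σ) with h | h
    · exact h
    · exfalso; apply hσ1; simpa using h
  have hT : ∀ v, (ρ σ) ((ρ σ) v) = v := by
    intro v
    have : (ρ σ * ρ σ) v = v := by rw [← map_mul, hσσ, map_one]; rfl
    exact this
  obtain ⟨n, b, τ, hb⟩ := Groth.Agent.Lib.Helper9.InvolutionF2.exists_perm_basis (ρ σ) hT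
  have hperm : ∀ g : G, ∃ τg : Fin n → Fin n, Function.Injective τg ∧
      ∀ i, ρ g (b i) = b (τg i) := by
    intro g
    rcases hG2 g with rfl | rfl
    · exact ⟨id, Function.injective_id, fun i => by simp⟩
    · refine ⟨τ, ?_, hb⟩
      intro i j hij
      have h1 : (ρ g) (b i) = (ρ g) (b j) := by rw [hb, hb, hij]
      have h2 := congrArg (ρ g) h1
      rw [hT, hT] at h2
      exact b.injective h2
  let B : Module.Basis (Fin n × Fin n) (ZMod 2) (V ⊗[ZMod 2] V) := b.tensorProduct b
  let D : V ⊗[ZMod 2] V →ₗ[ZMod 2] V ⊗[ZMod 2] V :=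
    B.constr (ZMod 2) (fun p => if p.1 = p.2 then B p else 0)
  let P : V ⊗[ZMod 2] V →ₗ[ZMod 2] V ⊗[ZMod 2] V :=
    B.constr (ZMod 2) (fun p => if p.1 < p.2 then B p else 0)
  let c : V ⊗[ZMod 2] V →ₗ[ZMod 2] V ⊗[ZMod 2] V := (TensorProduct.comm (ZMod 2) V V).toLinearMap
  have hB : ∀ i j, B (i, j) = b i ⊗ₜ[ZMod 2] b j := fun i j =>
    Module.Basis.tensorProduct_apply b b i j
  have hcB : ∀ i j, c (B (i, j)) = B (j, i) := by
    intro i j
    rw [hB, hB]
    rfl
  have hD : ∀ p, D (B p) = if p.1 = p.2 then B p else 0 := fun p =>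
    B.constr_basis (ZMod 2) _ p
  have hP : ∀ p, P (B p) = if p.1 < p.2 then B p else 0 := fun p =>
    B.constr_basis (ZMod 2) _ p
  have hid : ∀ z, z = P z + c (P (c z)) + D z := by
    have : (LinearMap.id : V ⊗[ZMod 2] V →ₗ[ZMod 2] V ⊗[ZMod 2] V) = P + c ∘ₗ P ∘ₗ c + D := by
      apply B.ext
      rintro ⟨i, j⟩
      simp only [LinearMap.id_apply, LinearMap.add_apply, LinearMap.comp_apply]
      rw [hcB, hP, hP, hD]
      rcases lt_trichotomy i j with h | h | h
      · simp [h, h.ne, not_lt.mpr h.le]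
      · subst h; simp
      · simp [h, h.ne', not_lt.mpr h.le, hcB]
    intro z
    exact congrArg (fun F => F z) this
  have hDc : ∀ z, D (c z) = D z := by
    have : D ∘ₗ c = D := by
      apply B.ext
      rintro ⟨i, j⟩
      simp only [LinearMap.comp_apply]
      rw [hcB, hD, hD]
      by_cases h : i = j
      · subst h; simp
      · simp [h, Ne.symm h]
    intro z
    exact congrArg (fun F => F z) this
  have hDD : ∀ z, D (D z) = D z := by
    have : D ∘ₗ D = D := by
      apply B.ext
      rintro ⟨i, j⟩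
      simp only [LinearMap.comp_apply]
      rw [hD]
      by_cases h : i = j
      · subst h; simp [hD]
      · simp [h]
    intro z
    exact congrArg (fun F => F z) this
  set Na := Submodule.span (ZMod 2) (Set.range fun v : V => v ⊗ₜ[ZMod 2] v) with hNa
  set Ns := Submodule.span (ZMod 2)
    (Set.range fun p : V × V => p.1 ⊗ₜ[ZMod 2] p.2 + p.2 ⊗ₜ[ZMod 2] p.1) with hNs
  have hcNa : ∀ z ∈ Na, c z = z := by
    intro z hz
    induction hz using Submodule.span_induction with
    | mem z hz => obtain ⟨v, rfl⟩ := hz; rfl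
    | zero => simp
    | add x y _ _ hx hy => rw [map_add, hx, hy]
    | smul a x _ hx => rw [map_smul, hx]
  have hsym : ∀ u, u + c u ∈ Ns := by
    intro u
    induction u using TensorProduct.induction_on with
    | zero => simp
    | tmul x y => exact Submodule.subset_span ⟨(x, y), rfl⟩
    | add x y hx hy =>
      have : x + y + c (x + y) = (x + c x) + (y + c y) := by rw [map_add]; abel
      rw [this]
      exact add_mem hx hy
  have htwo : ∀ z : V ⊗[ZMod 2] V, z + z = 0 :=
    Groth.Agent.Lib.Helper9.InvolutionF2.add_self_eq_zero'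
  have hNsNa : Ns ≤ Na := by
    rw [hNs, Submodule.span_le]
    rintro _ ⟨⟨x, y⟩, rfl⟩
    have : x ⊗ₜ[ZMod 2] y + y ⊗ₜ[ZMod 2] x =
        (x + y) ⊗ₜ[ZMod 2] (x + y) - x ⊗ₜ[ZMod 2] x - y ⊗ₜ[ZMod 2] y := by
      rw [TensorProduct.add_tmul, TensorProduct.tmul_add, TensorProduct.tmul_add]
      abel
    change x ⊗ₜ[ZMod 2] y + y ⊗ₜ[ZMod 2] x ∈ Na
    rw [this]
    exact sub_mem (sub_mem (Submodule.subset_span ⟨_, rfl⟩) (Submodule.subset_span ⟨_, rfl⟩))
      (Submodule.subset_span ⟨_, rfl⟩)
  have hNsD : Ns ≤ LinearMap.ker D := by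
    rw [hNs, Submodule.span_le]
    rintro _ ⟨⟨x, y⟩, rfl⟩
    change D (x ⊗ₜ[ZMod 2] y + y ⊗ₜ[ZMod 2] x) = 0
    have : y ⊗ₜ[ZMod 2] x = c (x ⊗ₜ[ZMod 2] y) := rfl
    rw [this, map_add, hDc]
    exact htwo _
  have hDNa : ∀ z, D z ∈ Na := by
    intro z
    have hrange : LinearMap.range D ≤ Na := by
      rw [LinearMap.range_eq_map, ← B.span_eq, Submodule.map_span, Submodule.span_le]
      rintro _ ⟨_, ⟨⟨i, j⟩, rfl⟩, rfl⟩
      rw [hD]
      by_cases h : i = j
      · subst h
        simp only [if_true]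
        rw [hB]
        exact Submodule.subset_span ⟨_, rfl⟩
      · simp only [h, if_false]
        exact Na.zero_mem
    exact hrange ⟨z, rfl⟩
  refine ⟨LinearMap.ker D, ?_, ?_, ?_⟩
  · -- G-stability
    intro g w hw
    obtain ⟨τg, hτg, hbg⟩ := hperm g
    rw [LinearMap.mem_ker] at hw ⊢
    have hcomm : D ∘ₗ (ρ.tprod ρ g) = (ρ.tprod ρ g) ∘ₗ D := by
      apply B.ext
      rintro ⟨i, j⟩
      simp only [LinearMap.comp_apply]
      have hgB : ∀ i j, (ρ.tprod ρ g) (B (i, j)) = B (τg i, τg j) := by
        intro i j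
        rw [hB, hB, Representation.tprod_apply, TensorProduct.map_tmul, hbg, hbg]
      rw [hgB, hD, hD]
      by_cases h : i = j
      · subst h; rw [if_pos rfl, if_pos rfl, hgB]
      · have : τg i ≠ τg j := fun h' => h (hτg h')
        simp [h, this]
    have := congrArg (fun F => F w) hcomm
    simp only [LinearMap.comp_apply] at this
    rw [this, hw, map_zero]
  · -- intersection
    apply le_antisymm
    · rintro z ⟨hz1, hz2⟩
      have hz1' : D z = 0 := hz1
      have hz2' : c z = z := hcNa z hz2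
      have := hid z
      rw [hz2', hz1', add_zero] at this
      rw [this]
      exact hsym (P z)
    · exact le_inf hNsD hNsNa
  · -- sum
    rw [eq_top_iff]
    intro z _
    have : z = (z - D z) + D z := by abel
    rw [this]
    apply Submodule.add_mem_sup
    · rw [LinearMap.mem_ker, map_sub, hDD, sub_self]
    · exact hDNa z

end Groth.Agent.S18549
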