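import Groth.Statements.S18550
import Mathlib
import Groth.Agent.Lib.Helper9.WayOut

set_option autoImplicit false
open CategoryTheory Limits
universe w v u
open CohDer

namespace Groth.Agent.S18550

open Pretriangulated DerivedCategory Groth.Agent.Lib.Helper9

section General

variable {C : Type*} [Category C]

lemma comp_pow {X Y : C} (a : X ⟶ Y) (f : End X) (g : End Y)
    (h : a ≫ End.asHom g = End.asHom f ≫ a) (m : ℕ) :
    a ≫ End.asHom (g ^ m) = End.asHom (f ^ m) ≫ a := by
  induction m with
  | zero => simp
  | succ m ih =>
    rw [pow_succ, pow_succ, End.mul_def, End.mul_def]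
    change a ≫ (End.asHom g ≫ End.asHom (g ^ m)) = (End.asHom f ≫ End.asHom (f ^ m)) ≫ a
    rw [← Category.assoc, h, Category.assoc, ih, Category.assoc]

variable [HasZeroObject C] [Preadditive C] [HasShift C ℤ]
  [∀ n : ℤ, (shiftFunctor C n).Additive] [Pretriangulated C]

lemma pow_add_eq_zero (T : Triangle C) (hT : T ∈ distTriang C) (φ : T ⟶ T) (m k : ℕ)
    (h₁ : (End.of φ.hom₁) ^ m = 0) (h₃ : (End.of φ.hom₃) ^ k = 0) :
    (End.of φ.hom₂) ^ (m + k) = 0 := by
  have hk : End.asHom ((End.of φ.hom₂) ^ k) ≫ T.mor₂ = 0 := by
    rw [← comp_pow T.mor₂ (End.of φ.hom₂) (End.of φ.hom₃) φ.comm₂ k, h₃]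
    exact comp_zero
  obtain ⟨g, hg⟩ := Triangle.coyoneda_exact₂ T hT _ hk
  rw [pow_add, End.mul_def]
  change End.asHom ((End.of φ.hom₂) ^ k) ≫ End.asHom ((End.of φ.hom₂) ^ m) = 0
  rw [hg, Category.assoc, comp_pow T.mor₁ (End.of φ.hom₁) (End.of φ.hom₂) φ.comm₁ m, h₁]
  change g ≫ (0 : T.obj₁ ⟶ T.obj₁) ≫ T.mor₁ = 0
  rw [zero_comp, comp_zero]

end General

variable {A : Type u} [Category.{v} A] [Abelian A] [HasDerivedCategory.{w} A]

lemma eq_zero_of_homologyMap_eq_zero (X : DerivedCategory A) (a : ℤ) [X.IsGE a] [X.IsLE a]
    (f : X ⟶ X) (hf : (homologyFunctor A a).map f = 0) : f = 0 := by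
  obtain ⟨Y, ⟨e⟩⟩ := exists_iso_singleFunctor_obj_of_isGE_of_isLE X a
  obtain ⟨g, hg⟩ := (singleFunctor A a).map_surjective (e.inv ≫ f ≫ e.hom)
  have hg0 : g = 0 := by
    have h1 := NatIso.naturality_1 (singleFunctorCompHomologyFunctorIso A a) g
    dsimp at h1
    rw [← h1, hg]
    simp [hf]
  rw [hg0, Functor.map_zero] at hg
  have : f = e.hom ≫ (e.inv ≫ f ≫ e.hom) ≫ e.inv := by simp
  rw [this, ← hg]
  simp

theorem main (n : ℕ) : ∀ (a : ℤ) (X : DerivedCategory A)
    (_ : ∀ i : ℤ, i < a ∨ a + n < i → IsZero ((homologyFunctor A i).obj X))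
    (f : CategoryTheory.End X) (_ : ∀ i : ℤ, (homologyFunctor A i).map f = 0),
    f ^ (n + 1) = 0 := by
  induction n with
  | zero =>
    intro a X hX f hf
    have : X.IsGE a := (isGE_iff X a).mpr (fun i hi => hX i (Or.inl hi))
    have : X.IsLE a := (isLE_iff X a).mpr (fun i hi => hX i (Or.inr (by simpa using hi)))
    rw [zero_add, pow_one]
    exact eq_zero_of_homologyMap_eq_zero X a f (hf a)
  | succ n ih =>
    intro a X hX f hf
    have hGE : X.IsGE a := (isGE_iff X a).mpr (fun i hi => hX i (Or.inl hi))
    have hLE : X.IsLE (a + n + 1) := (isLE_iff X (a + n + 1)).mpr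
      (fun i hi => hX i (Or.inr (by push_cast; omega)))
    have hT := TStructure.t.triangleLTGE_distinguished (a + n + 1) X
    let φ := (TStructure.t.triangleLTGE (a + n + 1)).map f
    have h₁ : (End.of φ.hom₁) ^ (n + 1) = 0 := by
      have hGE' : ((TStructure.t.truncLT (a + n + 1)).obj X).IsGE a := inferInstance
      have hLE' : ((TStructure.t.truncLT (a + n + 1)).obj X).IsLE (a + n + 1 - 1) := inferInstance
      apply ih a ((TStructure.t.truncLT (a + n + 1)).obj X)
      · rintro i (hi | hi)
        · exact DerivedCategory.isZero_of_isGE _ a i hi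
        · exact DerivedCategory.isZero_of_isLE _ (a + n + 1 - 1) i (by omega)
      · intro i
        change (homologyFunctor A i).map ((TStructure.t.truncLT (a + n + 1)).map f) = 0
        by_cases hi : i < a + n + 1
        · have hiso := isIso_homologyMap_mor₁ _ hT (a + n + 1) inferInstance i hi
          have hnat : (TStructure.t.truncLT (a + n + 1)).map f ≫
              (TStructure.t.truncLTι (a + n + 1)).app X =
              (TStructure.t.truncLTι (a + n + 1)).app X ≫ f :=
            (TStructure.t.truncLTι (a + n + 1)).naturality f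
          have hnat' := congrArg (fun g => (homologyFunctor A i).map g) hnat
          simp only [Functor.map_comp] at hnat'
          have hf' : (homologyFunctor A i).map (f : X ⟶ X) = 0 := hf i
          rw [hf', comp_zero] at hnat'
          have hmono : Mono ((homologyFunctor A i).map
              ((TStructure.t.truncLTι (a + n + 1)).app X)) := by
            have : IsIso ((homologyFunctor A i).map
              ((TStructure.t.truncLTι (a + n + 1)).app X)) := hiso
            infer_instance
          rw [← cancel_mono ((homologyFunctor A i).map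
            ((TStructure.t.truncLTι (a + n + 1)).app X)), hnat', zero_comp]
        · exact (DerivedCategory.isZero_of_isLE _ (a + n + 1 - 1) i (by omega)).eq_of_src _ _
    have h₃ : (End.of φ.hom₃) ^ 1 = 0 := by
      rw [pow_one]
      have hGE' : ((TStructure.t.truncGE (a + n + 1)).obj X).IsGE (a + n + 1) := inferInstance
      have hLE' : ((TStructure.t.truncGE (a + n + 1)).obj X).IsLE (a + n + 1) := inferInstance
      refine eq_zero_of_homologyMap_eq_zero ((TStructure.t.truncGE (a + n + 1)).obj X) (a + n + 1)
        ((TStructure.t.truncGE (a + n + 1)).map f) ?_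
      have hLE1 : ((TStructure.t.truncLT (a + n + 1)).obj X).IsLE (a + n + 1 - 1) := inferInstance
      have hiso := isIso_homologyMap_mor₂ _ hT (a + n + 1 - 1) hLE1 (a + n + 1) (by omega)
      have hnat : (TStructure.t.truncGEπ (a + n + 1)).app X ≫
          (TStructure.t.truncGE (a + n + 1)).map f =
          f ≫ (TStructure.t.truncGEπ (a + n + 1)).app X :=
        TStructure.t.truncGEπ_naturality (a + n + 1) f
      have hnat' := congrArg (fun g => (homologyFunctor A (a + n + 1)).map g) hnat
      simp only [Functor.map_comp] at hnat'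
      have hf' : (homologyFunctor A (a + n + 1)).map (f : X ⟶ X) = 0 := hf _
      rw [hf', zero_comp] at hnat'
      have hepi : Epi ((homologyFunctor A (a + n + 1)).map
          ((TStructure.t.truncGEπ (a + n + 1)).app X)) := by
        have : IsIso ((homologyFunctor A (a + n + 1)).map
          ((TStructure.t.truncGEπ (a + n + 1)).app X)) := hiso
        infer_instance
      rw [← cancel_epi ((homologyFunctor A (a + n + 1)).map
        ((TStructure.t.truncGEπ (a + n + 1)).app X)), hnat', comp_zero]
    exact pow_add_eq_zero _ hT φ (n + 1) 1 h₁ h₃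

/-- Let A be an abelian category, X an object of its derived category whose cohomology objects H^i(X)
are zero for all integers i outside the interval [a, a + n], and f : X → X an endomorphism in the
derived category such that H^i(f) = 0 for every i. Then f^(n+1) = 0. (The source works in the
bounded derived category; the statement in D(A) for an object with cohomology bounded in this way is
the same assertion, the bounded derived category being a full subcategory.) -/
theorem result (A : Type u) [Category.{v} A] [Abelian A]
    [HasDerivedCategory.{w} A] (X : DerivedCategory A) (a : ℤ) (n : ℕ)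
    (hX : ∀ i : ℤ, i < a ∨ a + n < i → IsZero ((DerivedCategory.homologyFunctor A i).obj X))
    (f : CategoryTheory.End X) (hf : ∀ i : ℤ, (DerivedCategory.homologyFunctor A i).map f = 0) :
    f ^ (n + 1) = 0 := by
  exact main n a X hX f hf

end Groth.Agent.S18550
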