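import Groth.Statements.S18560
import Mathlib

set_option autoImplicit false
universe u v
open PtQuiv

namespace Groth.Agent.S18560

/-- Let K be a field and s i ∈ K² (i in a finite index type) nonzero vectors, regarded as a
representation of the quiver with a central vertex carrying the plane and one vertex per i carrying
a line that maps to the plane by 1 ↦ s i. For a weight θ in the hypersimplex (0 ≤ θ i ≤ 1, Σ θ i =
2, central weight -1) the representation is θ-semistable if and only if, for every vector v, the
indices i with s i on the line K ∙ v have total weight at most 1. (The published statement is over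
an algebraically closed field, assumes semistability for some interior weight instead of s i ≠ 0,
and phrases the bound through the classes of pairwise proportional s i; any field is allowed here.
Its further assertion that the bounding walls, where the total weight of one proportionality class
equals 1, do not meet in the interior of the hypersimplex is not part of this row.) -/
theorem result (K : Type u) [Field K] (ι : Type v) [Fintype ι]
    (s : ι → (Fin 2 → K)) (hs : ∀ i, s i ≠ 0) (θ : ι → ℚ) (h0 : ∀ i, 0 ≤ θ i)
    (h1 : ∀ i, θ i ≤ 1) (h2 : ∑ i, θ i = 2) :
    PtQuiv.QSemistable (-1) θ s ↔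
      ∀ (J : Finset ι) (v : Fin 2 → K), (∀ i ∈ J, s i ∈ K ∙ v) → ∑ i ∈ J, θ i ≤ 1 := by
  classical
  constructor
  · rintro ⟨-, h⟩ J v hJ
    have hw := h (K ∙ v) J hJ
    unfold PtQuiv.QWt at hw
    have hle : Module.finrank K ↥(K ∙ v) ≤ 1 := by
      have := finrank_span_le_card (R := K) ({v} : Set (Fin 2 → K))
      simpa using this
    have hle' : (Module.finrank K ↥(K ∙ v) : ℚ) ≤ 1 := by exact_mod_cast hle
    linarith
  · intro h
    refine ⟨by rw [h2]; norm_num, fun L I hLI => ?_⟩
    unfold PtQuiv.QWt
    have hsub : ∑ i ∈ I, θ i ≤ 2 := by
      rw [← h2]
      exact Finset.sum_le_sum_of_subset_of_nonneg (Finset.subset_univ I) (fun i _ _ => h0 i)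
    have hfr : Module.finrank K ↥L ≤ 2 := by
      have := Submodule.finrank_le L
      simpa using this
    rcases Nat.lt_or_ge (Module.finrank K ↥L) 1 with h0' | h1'
    · -- dim 0
      have hL : L = ⊥ := Submodule.finrank_eq_zero.mp (by omega)
      have hI : I = ∅ := by
        rw [Finset.eq_empty_iff_forall_notMem]
        intro i hi
        have := hLI i hi
        rw [hL, Submodule.mem_bot] at this
        exact hs i this
      rw [hI]
      have : (Module.finrank K ↥L : ℚ) = 0 := by
        have : Module.finrank K ↥L = 0 := by omega
        exact_mod_cast this
      simp [this]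
    · rcases Nat.lt_or_ge (Module.finrank K ↥L) 2 with h2' | h2''
      · -- dim 1
        have h1eq : Module.finrank K ↥L = 1 := by omega
        obtain ⟨v, hv0, hv⟩ := finrank_eq_one_iff'.mp h1eq
        have := h I (v : Fin 2 → K) (fun i hi => by
          obtain ⟨c, hc⟩ := hv ⟨s i, hLI i hi⟩
          rw [Submodule.mem_span_singleton]
          exact ⟨c, by simpa using congrArg Subtype.val hc⟩)
        have h1q : (Module.finrank K ↥L : ℚ) = 1 := by exact_mod_cast h1eq
        rw [h1q]
        linarith
      · have h2eq : Module.finrank K ↥L = 2 := by omega
        have h2q : (Module.finrank K ↥L : ℚ) = 2 := by exact_mod_cast h2eq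
        rw [h2q]
        linarith

end Groth.Agent.S18560
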