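import Groth.Statements.S18561
import Mathlib
import Groth.Agent.S18560

set_option autoImplicit false
universe u v
open PtQuiv

namespace Groth.Agent.S18561

/-- Let K be a field and s i ∈ K² (i in a finite index type) nonzero vectors, regarded as a
representation of the quiver with a central vertex carrying the plane and one vertex per i carrying
a line mapping to the plane by 1 ↦ s i. Then the representation is stable for some weight of the
hypersimplex (0 ≤ θ i ≤ 1, Σ θ i = 2, central weight -1) if and only if the s i fall into at least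
three proportionality classes, i.e. three of them are pairwise non-proportional. (The published
statement is over an algebraically closed field and assumes semistability for some interior weight
instead of s i ≠ 0; any field is allowed here. Its further assertions, that the set of semistability
weights is full-dimensional exactly in this case and is a wall otherwise, are not part of this row.) -/
theorem result (K : Type u) [Field K] (ι : Type v)
    [Fintype ι] (s : ι → (Fin 2 → K)) (hs : ∀ i, s i ≠ 0) :
    (∃ θ : ι → ℚ, (∀ i, 0 ≤ θ i) ∧ (∀ i, θ i ≤ 1) ∧ ∑ i, θ i = 2 ∧ PtQuiv.QStable (-1) θ s) ↔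
      ∃ i j k : ι, s i ∉ K ∙ s j ∧ s j ∉ K ∙ s k ∧ s i ∉ K ∙ s k := by
  classical
  -- proportionality is symmetric for nonzero vectors
  have hsymm : ∀ i j : ι, s i ∈ K ∙ s j → s j ∈ K ∙ s i := by
    intro i j hij
    obtain ⟨c, hc⟩ := Submodule.mem_span_singleton.mp hij
    have hc0 : c ≠ 0 := by
      rintro rfl
      rw [zero_smul] at hc
      exact hs i hc.symm
    rw [Submodule.mem_span_singleton]
    exact ⟨c⁻¹, by rw [← hc, smul_smul, inv_mul_cancel₀ hc0, one_smul]⟩
  have htrans : ∀ i j k : ι, s i ∈ K ∙ s j → s j ∈ K ∙ s k → s i ∈ K ∙ s k := by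
    intro i j k hij hjk
    obtain ⟨c, hc⟩ := Submodule.mem_span_singleton.mp hij
    obtain ⟨d, hd⟩ := Submodule.mem_span_singleton.mp hjk
    rw [Submodule.mem_span_singleton]
    exact ⟨c * d, by rw [← hc, ← hd, smul_smul]⟩
  have hfr1 : ∀ v : Fin 2 → K, Module.finrank K ↥(K ∙ v) ≤ 1 := by
    intro v
    have := finrank_span_le_card (R := K) ({v} : Set (Fin 2 → K))
    simpa using this
  constructor
  · rintro ⟨θ, h0, h1, h2, hst⟩
    by_contra hcon
    push_neg at hcon
    have hss := (Groth.Agent.S18560.result K ι s hs θ h0 h1 h2).mp hst.1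
    -- there is an index
    have hne : Nonempty ι := by
      by_contra hemp
      rw [not_nonempty_iff] at hemp
      rw [Finset.univ_eq_empty, Finset.sum_empty] at h2
      norm_num at h2
    obtain ⟨i₀⟩ := hne
    let C₁ : Finset ι := Finset.univ.filter (fun i => s i ∈ K ∙ s i₀)
    have hC₁ : ∑ i ∈ C₁, θ i ≤ 1 := hss C₁ (s i₀) (fun i hi => (Finset.mem_filter.mp hi).2)
    by_cases hall : ∀ j, s j ∈ K ∙ s i₀
    · have : C₁ = Finset.univ := by
        ext j; simp [C₁, hall j]
      rw [this, h2] at hC₁
      norm_num at hC₁
    · push_neg at hall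
      obtain ⟨j₀, hj₀⟩ := hall
      let C₂ : Finset ι := Finset.univ.filter (fun i => s i ∈ K ∙ s j₀)
      have hC₂ : ∑ i ∈ C₂, θ i ≤ 1 := hss C₂ (s j₀) (fun i hi => (Finset.mem_filter.mp hi).2)
      have hi₀j₀ : s i₀ ∉ K ∙ s j₀ := fun h => hj₀ (hsymm _ _ h)
      have hunion : C₁ ∪ C₂ = Finset.univ := by
        ext k
        simp only [Finset.mem_union, Finset.mem_univ, iff_true, C₁, C₂, Finset.mem_filter, true_and]
        by_contra hk
        push_neg at hk
        exact hk.2 (hcon k i₀ j₀ hk.1 hi₀j₀)
      have hdisj : Disjoint C₁ C₂ := by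
        rw [Finset.disjoint_left]
        intro k hk1 hk2
        have h1' := (Finset.mem_filter.mp hk1).2
        have h2' := (Finset.mem_filter.mp hk2).2
        exact hj₀ (htrans _ _ _ (hsymm _ _ h2') h1')
      have hsum : ∑ i ∈ C₁, θ i + ∑ i ∈ C₂, θ i = 2 := by
        rw [← Finset.sum_union hdisj, hunion, h2]
      have hC₁eq : ∑ i ∈ C₁, θ i = 1 := by linarith
      have hfr : Module.finrank K ↥(K ∙ s i₀) = 1 := finrank_span_singleton (hs i₀)
      have hw : PtQuiv.QWt K (-1) θ (K ∙ s i₀) C₁ = 0 := by
        unfold PtQuiv.QWt
        rw [hfr, hC₁eq]; norm_num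
      rcases hst.2 (K ∙ s i₀) C₁ (fun i hi => (Finset.mem_filter.mp hi).2) hw with ⟨hb, -⟩ | ⟨ht, -⟩
      · rw [hb, finrank_bot] at hfr
        exact absurd hfr (by norm_num)
      · rw [ht, finrank_top] at hfr
        simp at hfr
  · rintro ⟨i, j, k, hij, hjk, hik⟩
    have hij' : i ≠ j := fun h => hij (h ▸ Submodule.mem_span_singleton_self _)
    have hjk' : j ≠ k := fun h => hjk (h ▸ Submodule.mem_span_singleton_self _)
    have hik' : i ≠ k := fun h => hik (h ▸ Submodule.mem_span_singleton_self _)
    let T : Finset ι := {i, j, k}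
    have hTcard : T.card = 3 := by
      simp only [T]
      rw [Finset.card_insert_of_notMem, Finset.card_insert_of_notMem, Finset.card_singleton]
      · simpa using hjk'
      · simp only [Finset.mem_insert, Finset.mem_singleton, not_or]
        exact ⟨hij', hik'⟩
    set N : ℕ := Fintype.card ι with hN
    have hN3 : 3 ≤ N := by
      rw [← hTcard]; exact Finset.card_le_univ T
    have hNpos : (0 : ℚ) < N := by exact_mod_cast (by omega : 0 < N)
    let ε : ℚ := 1 / (2 * N)
    have hε : 0 < ε := by positivity
    let big : ℚ := (2 - ((N : ℚ) - 3) * ε) / 3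
    have hNε : ((N : ℚ) - 3) * ε < 1 / 2 := by
      simp only [ε]
      rw [mul_one_div, div_lt_iff₀ (by positivity)]
      nlinarith
    have hNε0 : 0 ≤ ((N : ℚ) - 3) * ε := by
      have : (3 : ℚ) ≤ N := by exact_mod_cast hN3
      have := hε.le
      nlinarith
    have hbig0 : 0 < big := by simp only [big]; linarith
    have hbig1 : big ≤ 1 := by simp only [big]; linarith
    let θ : ι → ℚ := fun l => if l ∈ T then big else ε
    have hθpos : ∀ l, 0 < θ l := by
      intro l; simp only [θ]; split_ifs <;> assumption
    have hε1 : ε ≤ 1 := by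
      simp only [ε]
      rw [div_le_one (by positivity)]
      have : (3 : ℚ) ≤ N := by exact_mod_cast hN3
      linarith
    have hsumθ : ∑ l, θ l = 2 := by
      have h1 : ∑ l, θ l = ∑ l ∈ T, θ l + ∑ l ∈ Finset.univ \ T, θ l := by
        rw [← Finset.sum_union (Finset.disjoint_sdiff)]
        congr 1
        rw [Finset.union_sdiff_of_subset (Finset.subset_univ T)]
      have h2 : ∑ l ∈ T, θ l = 3 * big := by
        rw [Finset.sum_congr rfl (fun l hl => by simp only [θ, if_pos hl] : ∀ l ∈ T, θ l = big),
          Finset.sum_const, hTcard]; simp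
      have h3 : ∑ l ∈ Finset.univ \ T, θ l = ((N : ℚ) - 3) * ε := by
        rw [Finset.sum_congr rfl (fun l hl => by
          simp only [θ, if_neg (Finset.mem_sdiff.mp hl).2] : ∀ l ∈ Finset.univ \ T, θ l = ε),
          Finset.sum_const, Finset.card_sdiff_of_subset (Finset.subset_univ T), hTcard,
          Finset.card_univ, ← hN, nsmul_eq_mul, Nat.cast_sub hN3]
        simp
      rw [h1, h2, h3]; simp only [big]; ring
    -- bound on a proportionality class
    have hclass : ∀ (J : Finset ι) (v : Fin 2 → K), (∀ l ∈ J, s l ∈ K ∙ v) → ∑ l ∈ J, θ l < 1 := by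
      intro J v hJ
      -- at most one element of `T` lies in `J`
      have hTJ : (J ∩ T).card ≤ 1 := by
        rw [Finset.card_le_one]
        intro x hx y hy
        by_contra hxy
        have hxJ := hJ x (Finset.mem_inter.mp hx).1
        have hyJ := hJ y (Finset.mem_inter.mp hy).1
        have hxT := (Finset.mem_inter.mp hx).2
        have hyT := (Finset.mem_inter.mp hy).2
        -- s x and s y proportional
        have hprop : s x ∈ K ∙ s y := by
          obtain ⟨c, hc⟩ := Submodule.mem_span_singleton.mp hxJ
          obtain ⟨d, hd⟩ := Submodule.mem_span_singleton.mp hyJ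
          have hd0 : d ≠ 0 := by
            rintro rfl; rw [zero_smul] at hd; exact hs y hd.symm
          rw [Submodule.mem_span_singleton]
          exact ⟨c * d⁻¹, by rw [← hd, smul_smul, mul_assoc, inv_mul_cancel₀ hd0, mul_one, hc]⟩
        simp only [T, Finset.mem_insert, Finset.mem_singleton] at hxT hyT
        rcases hxT with rfl | rfl | rfl <;> rcases hyT with rfl | rfl | rfl
        · exact hxy rfl
        · exact hij hprop
        · exact hik hprop
        · exact hij (hsymm _ _ hprop)
        · exact hxy rfl
        · exact hjk hprop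
        · exact hik (hsymm _ _ hprop)
        · exact hjk (hsymm _ _ hprop)
        · exact hxy rfl
      have h1 : ∑ l ∈ J, θ l = ∑ l ∈ J ∩ T, θ l + ∑ l ∈ J \ T, θ l := by
        rw [← Finset.sum_union (by
          rw [Finset.disjoint_left]; intro a ha hb
          exact (Finset.mem_sdiff.mp hb).2 (Finset.mem_inter.mp ha).2)]
        congr 1
        ext a; simp only [Finset.mem_union, Finset.mem_inter, Finset.mem_sdiff]; tauto
      have h2 : ∑ l ∈ J ∩ T, θ l ≤ big := by
        rw [Finset.sum_congr rfl (fun l hl => by
          simp only [θ, if_pos (Finset.mem_inter.mp hl).2] : ∀ l ∈ J ∩ T, θ l = big),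
          Finset.sum_const, nsmul_eq_mul]
        have : ((J ∩ T).card : ℚ) ≤ 1 := by exact_mod_cast hTJ
        nlinarith
      have h3 : ∑ l ∈ J \ T, θ l ≤ ((N : ℚ) - 3) * ε := by
        rw [Finset.sum_congr rfl (fun l hl => by
          simp only [θ, if_neg (Finset.mem_sdiff.mp hl).2] : ∀ l ∈ J \ T, θ l = ε),
          Finset.sum_const, nsmul_eq_mul]
        have hc : (J \ T).card ≤ N - 3 := by
          have := Finset.card_le_card (Finset.sdiff_subset_sdiff (Finset.subset_univ J) (le_refl T))
          rw [Finset.card_sdiff_of_subset (Finset.subset_univ T), hTcard, Finset.card_univ] at this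
          exact this
        have hc' : ((J \ T).card : ℚ) ≤ (N : ℚ) - 3 := by
          have : ((J \ T).card : ℚ) ≤ ((N - 3 : ℕ) : ℚ) := by exact_mod_cast hc
          rwa [Nat.cast_sub hN3] at this
        have := hε.le
        nlinarith
      rw [h1]
      simp only [big] at h2 ⊢
      linarith
    refine ⟨θ, fun l => (hθpos l).le, ?_, hsumθ, ?_⟩
    · intro l; simp only [θ]; split_ifs <;> assumption
    · have hsemi : PtQuiv.QSemistable (-1) θ s :=
        (Groth.Agent.S18560.result K ι s hs θ (fun l => (hθpos l).le)
          (fun l => by simp only [θ]; split_ifs <;> assumption) hsumθ).mpr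
          (fun J v hJ => (hclass J v hJ).le)
      refine ⟨hsemi, fun L I hLI hw => ?_⟩
      unfold PtQuiv.QWt at hw
      have hfr : Module.finrank K ↥L ≤ 2 := by
        have := Submodule.finrank_le L
        simpa using this
      rcases Nat.lt_or_ge (Module.finrank K ↥L) 1 with h0' | h1'
      · left
        have hL : L = ⊥ := Submodule.finrank_eq_zero.mp (by omega)
        refine ⟨hL, ?_⟩
        rw [Finset.eq_empty_iff_forall_notMem]
        intro l hl
        have := hLI l hl
        rw [hL, Submodule.mem_bot] at this
        exact hs l this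
      · rcases Nat.lt_or_ge (Module.finrank K ↥L) 2 with h2' | h2''
        · exfalso
          have h1eq : Module.finrank K ↥L = 1 := by omega
          obtain ⟨v, hv0, hv⟩ := finrank_eq_one_iff'.mp h1eq
          have := hclass I (v : Fin 2 → K) (fun l hl => by
            obtain ⟨c, hc⟩ := hv ⟨s l, hLI l hl⟩
            rw [Submodule.mem_span_singleton]
            exact ⟨c, by simpa using congrArg Subtype.val hc⟩)
          have h1q : (Module.finrank K ↥L : ℚ) = 1 := by exact_mod_cast h1eq
          rw [h1q] at hw
          linarith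
        · right
          have h2eq : Module.finrank K ↥L = 2 := by omega
          have hL : L = ⊤ := by
            apply Submodule.eq_top_of_finrank_eq
            rw [h2eq]; simp
          refine ⟨hL, ?_⟩
          have h2q : (Module.finrank K ↥L : ℚ) = 2 := by exact_mod_cast h2eq
          rw [h2q] at hw
          have hI2 : ∑ l ∈ I, θ l = ∑ l, θ l := by rw [hsumθ]; linarith
          by_contra hne
          obtain ⟨x, hx⟩ : ∃ x, x ∉ I := by
            by_contra hall
            push_neg at hall
            exact hne (Finset.eq_univ_of_forall hall)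
          have hlt : ∑ l ∈ I, θ l < ∑ l, θ l := by
            apply Finset.sum_lt_sum_of_subset (Finset.subset_univ I) (Finset.mem_univ x) hx
              (hθpos x) (fun l _ _ => (hθpos l).le)
          linarith

end Groth.Agent.S18561
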