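import Groth.Statements.S18563
import Mathlib
import Groth.Agent.Lib.Helper2.PtQuivTr2

set_option autoImplicit false
universe u v
open PtQuiv

namespace Groth.Agent.S18563
open Groth.Agent.Lib.Helper2.PtQuivTr

/-- Let K be a field, κ a finite index type with a ≠ b, and s i ∈ K² a representation of the quiver with
a central vertex carrying the plane and one vertex per i : κ carrying a line mapping to the plane by
1 ↦ s i. Let θ be a weight of the hypersimplex (0 ≤ θ i ≤ 1, Σ θ i = 2, central weight -1) with 1 <
θ a + θ b < 2, and put c = 1 / (2 - θ a - θ b). Then s is θ-stable if and only if s a, s b are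
linearly independent and, writing every other s i = t i 0 • s a + t i 1 • s b, the representation t
of the quiver with two one-dimensional sinks p₀, p₁ and one one-dimensional source per i ≠ a, b
(arrow to p_j given by t i j) is stable for the weight c (θ a - 1) at p₀, c (θ b - 1) at p₁ and c θ
i at the sources. (The published statement is about representations over a base scheme, with
(semi)stability tested on geometric fibres, that is over algebraically closed fields; this row
states the fibrewise content over an arbitrary field.) -/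
theorem result (K : Type u) [Field K]
    (κ : Type v) [Fintype κ] [DecidableEq κ] (a b : κ) (hab : a ≠ b) (s : κ → (Fin 2 → K))
    (θ : κ → ℚ) (h0 : ∀ i, 0 ≤ θ i) (h1 : ∀ i, θ i ≤ 1) (h2 : ∑ i, θ i = 2)
    (hθ : 1 < θ a + θ b) (hθ' : θ a + θ b < 2) :
    PtQuiv.QStable (-1) θ s ↔
      (LinearIndependent K ![s a, s b] ∧
        ∀ t : {i : κ // i ≠ a ∧ i ≠ b} → (Fin 2 → K),
          (∀ i, s i.1 = t i 0 • s a + t i 1 • s b) →
            PtQuiv.PStable ![(2 - θ a - θ b)⁻¹ * (θ a - 1), (2 - θ a - θ b)⁻¹ * (θ b - 1)]
              (fun i : {i : κ // i ≠ a ∧ i ≠ b} => (2 - θ a - θ b)⁻¹ * θ i.1) t) := by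
  classical
  have hc := c_pos θ hθ'
  constructor
  · rintro ⟨hQ, hQst⟩
    have hli := li_of_qSemistable hab s θ hθ hQ
    obtain ⟨hsa, hsb⟩ := ne_zero_of_li s hli
    refine ⟨hli, fun t hrel => ⟨pSemistable_of_qSemistable hab s θ h2 hθ' t hrel hsa hsb hQ, ?_⟩⟩
    intro U I' hsub hW0
    rw [PWt_eq] at hW0
    obtain ⟨L, J, hLJ, hW, hJ1, hJ2⟩ := PtoQ hab s θ t hrel hsa hsb U I' hsub
    rw [hW] at hW0
    have hQ0 : QWt K (-1) θ L J = 0 := (mul_eq_zero.mp hW0).resolve_left hc.ne'
    rcases hQst L J hLJ hQ0 with ⟨-, hJ⟩ | ⟨-, hJ⟩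
    · exact Or.inl (hJ1 hJ)
    · exact Or.inr (hJ2 hJ)
  · rintro ⟨hli, hP⟩
    obtain ⟨t, hrel⟩ := exists_coords s hli
    obtain ⟨hPss, hPst⟩ := hP t hrel
    have hQ := qSemistable_of_pSemistable hab s θ h0 h2 hθ hθ' t hrel hli hPss
    refine ⟨hQ, ?_⟩
    intro L J hsub hQ0
    by_cases hL : Module.finrank K L ≤ 1
    · left
      obtain ⟨U, I', hPs, hle, h3⟩ := QtoP hab s θ t hrel hli hθ L J hsub hL
      have hPW := hPss.2 U I' hPs
      rw [PWt_eq] at hPW
      have hW : (θ a - 1) * (Module.finrank K (U 0) : ℚ) + (θ b - 1) * (Module.finrank K (U 1) : ℚ)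
          + ∑ i ∈ I', θ i.1 ≤ 0 := by
        by_contra hpos
        rw [not_le] at hpos
        have := mul_pos hc hpos
        linarith
      obtain ⟨hW0, hUt, himp⟩ := h3 hQ0 hW
      have hPW0 : PWt K ![(2 - θ a - θ b)⁻¹ * (θ a - 1), (2 - θ a - θ b)⁻¹ * (θ b - 1)]
          (fun i : {i : κ // i ≠ a ∧ i ≠ b} => (2 - θ a - θ b)⁻¹ * θ i.1) U I' = 0 := by
        rw [PWt_eq, hW0, mul_zero]
      rcases hPst U I' hPs hPW0 with h | h
      · exact himp h
      · exact absurd h.1 hUt
    · right
      have hle : Module.finrank K L ≤ 2 := by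
        have := Submodule.finrank_le L
        simpa using this
      have h2' : Module.finrank K L = 2 := by omega
      have hLtop : L = ⊤ := Submodule.eq_top_of_finrank_eq (by rw [h2']; simp)
      refine ⟨hLtop, ?_⟩
      -- all weights positive
      have hpos : ∀ i, 0 < θ i := by
        intro i
        by_cases hia : i = a
        · rw [hia]; have := h1 b; linarith
        by_cases hib : i = b
        · rw [hib]; have := h1 a; linarith
        rcases (h0 i).lt_or_eq with h | h
        · exact h
        · exfalso
          set i' : {i : κ // i ≠ a ∧ i ≠ b} := ⟨i, hia, hib⟩ with hi'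
          have hPs : PSubrep t (fun _ => ⊤) (Finset.univ.erase i') := fun _ _ _ => Submodule.mem_top
          have hft : Module.finrank K (⊤ : Submodule K K) = 1 := by
            rw [finrank_top, Module.finrank_self]
          have hsum : ∑ j ∈ Finset.univ.erase i', θ j.1 = 2 - θ a - θ b := by
            have e1 := Finset.add_sum_erase Finset.univ (fun j : {i : κ // i ≠ a ∧ i ≠ b} => θ j.1)
              (Finset.mem_univ i')
            have e2 := sum_split hab θ
            rw [h2] at e2
            have e3 : θ i'.1 = 0 := h.symm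
            linarith
          have hPW0 : PWt K ![(2 - θ a - θ b)⁻¹ * (θ a - 1), (2 - θ a - θ b)⁻¹ * (θ b - 1)]
              (fun i : {i : κ // i ≠ a ∧ i ≠ b} => (2 - θ a - θ b)⁻¹ * θ i.1) (fun _ => ⊤)
              (Finset.univ.erase i') = 0 := by
            rw [PWt_eq, hsum, hft]
            push_cast
            ring
          rcases hPst _ _ hPs hPW0 with ⟨hU, -⟩ | ⟨-, hI⟩
          · have := congrFun hU 0
            exact absurd this.symm bot_ne_top
          · have : i' ∈ Finset.univ.erase i' := by rw [hI]; exact Finset.mem_univ i'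
            exact absurd this (Finset.notMem_erase _ _)
      by_contra hJ
      obtain ⟨i, hi⟩ : ∃ i, i ∉ J := by
        by_contra hcon
        push Not at hcon
        exact hJ (Finset.eq_univ_iff_forall.mpr hcon)
      have hsub' : J ⊆ Finset.univ.erase i := by
        intro x hx
        rw [Finset.mem_erase]
        exact ⟨fun h => hi (h ▸ hx), Finset.mem_univ _⟩
      have e1 := Finset.sum_le_sum_of_subset_of_nonneg hsub' (fun i _ _ => h0 i)
      have e2 := Finset.add_sum_erase Finset.univ θ (Finset.mem_univ i)
      unfold QWt at hQ0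
      rw [h2'] at hQ0
      push_cast at hQ0
      have := hpos i
      linarith

end Groth.Agent.S18563
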