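import Groth.Statements.S18571
import Groth.Agent.Lib27.Sch.P1Chart

set_option autoImplicit false
universe u
open CategoryTheory AlgebraicGeometry
open REq

namespace Groth.Agent.S18571

/-- Let X be an integral separated scheme of finite type over a field k which is retract rational over
k. Then there is a non-empty open subscheme U of X such that, for every field K containing k, any
two K-points of U are directly R-linked in U: some open subscheme of the projective line over K maps
to U over k and hits both points at K-rational points. (Fields K are taken in the universe of k;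
retract rationality is stated with an open subscheme of an affine space, which for irreducible X is
the same as with an open subscheme of a projective space.) -/
theorem result (k : Type u) [Field k] (X : Scheme.{u})
    (f : X ⟶ Spec (CommRingCat.of k)) [IsIntegral X] [LocallyOfFiniteType f] [QuasiCompact f]
    [IsSeparated f] (hX : REq.IsRetractRational f) :
    ∃ U : X.Opens, (U : Set X).Nonempty ∧
      ∀ (K : Type u) [Field K] [Algebra k K] (A B : REq.Pts (U.ι ≫ f) K),
        REq.ElemLink (U.ι ≫ f) K A B := by
  obtain ⟨U, n, V, a, b, hne, hab, ha, hb⟩ := hX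
  refine ⟨U, hne, ?_⟩
  intro K _ _ A B
  have hA : (A.1 ≫ a ≫ V.ι) ≫
      Spec.map (CommRingCat.ofHom (algebraMap k (MvPolynomial (Fin n) k))) =
      Spec.map (CommRingCat.ofHom (algebraMap k K)) := by
    rw [Category.assoc, Category.assoc, ha]
    exact A.2
  have hB : (B.1 ≫ a ≫ V.ι) ≫
      Spec.map (CommRingCat.ofHom (algebraMap k (MvPolynomial (Fin n) k))) =
      Spec.map (CommRingCat.ofHom (algebraMap k K)) := by
    rw [Category.assoc, Category.assoc, ha]
    exact B.2
  obtain ⟨va, hva⟩ := Groth.Agent.Lib27.P1Chart.point_eq k K n _ hA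
  obtain ⟨vb, hvb⟩ := Groth.Agent.Lib27.P1Chart.point_eq k K n _ hB
  have hr : ∀ (C : Spec (CommRingCat.of K) ⟶ (U : Scheme.{u})),
      Set.range (C ≫ a ≫ V.ι) ⊆ (V : Set _) := by
    intro C
    rintro _ ⟨x, rfl⟩
    have h1 : (C ≫ a ≫ V.ι) x ∈ Set.range V.ι := ⟨(C ≫ a) x, by simp⟩
    rw [Scheme.Opens.range_ι] at h1
    exact h1
  have hraV := hr A.1
  have hrbV := hr B.1
  rw [hva] at hraV
  rw [hvb] at hrbV
  obtain ⟨U', h, a', b', h1, h2, h3, h4, h5⟩ :=
    Groth.Agent.Lib27.P1Chart.exists_link k K n V va vb hraV hrbV
  refine ⟨U', h ≫ b, a', b', ?_, h2, h3, ?_, ?_⟩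
  · rw [Category.assoc, hb, h1]
  · have h6 : a' ≫ h = A.1 ≫ a := by
      rw [← cancel_mono V.ι]
      simp only [Category.assoc]
      rw [h4, hva]
    rw [← Category.assoc, h6, Category.assoc, hab, Category.comp_id]
  · have h6 : b' ≫ h = B.1 ≫ a := by
      rw [← cancel_mono V.ι]
      simp only [Category.assoc]
      rw [h5, hvb]
    rw [← Category.assoc, h6, Category.assoc, hab, Category.comp_id]

end Groth.Agent.S18571
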