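import Groth.Statements.S18572
import Groth.Agent.Lib27.Sch.RetractLink

set_option autoImplicit false
universe u
open CategoryTheory AlgebraicGeometry
open REq

namespace Groth.Agent.S18572

/-- Let k be an infinite field and X an integral separated scheme of finite type over k which is retract
rational over k. Then X is almost R-trivial over k: there is a dense open subscheme U of X such
that, for every field K containing k (in the universe of k), U has a K-point and any two K-points of
X lying in U are R-equivalent on X. -/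
theorem result (k : Type u) [Field k] [Infinite k] (X : Scheme.{u})
    (f : X ⟶ Spec (CommRingCat.of k)) [IsIntegral X] [LocallyOfFiniteType f] [QuasiCompact f]
    [IsSeparated f] (hX : REq.IsRetractRational f) :
    REq.IsAlmostRTrivial f := by
  obtain ⟨U, n, V, a, b, hne, hab, ha, hb⟩ := hX
  refine ⟨U, U.2.dense hne, ?_⟩
  intro K _ _
  constructor
  · have hV : (V : Set (Spec (CommRingCat.of (MvPolynomial (Fin n) k)))).Nonempty := by
      obtain ⟨x, hx⟩ := hne
      refine ⟨(a ≫ V.ι) ⟨x, hx⟩, ?_⟩
      have h1 : (a ≫ V.ι) ⟨x, hx⟩ ∈ Set.range V.ι := ⟨a ⟨x, hx⟩, by simp⟩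
      rwa [Scheme.Opens.range_ι] at h1
    obtain ⟨c, hc⟩ := Groth.Agent.Lib27.RetractLink.exists_kpoint n V hV
    have hpr : Set.range (Spec.map (CommRingCat.ofHom (MvPolynomial.eval c))) ⊆
        Set.range V.ι := by
      rw [Scheme.Opens.range_ι]
      exact hc
    have hp' : IsOpenImmersion.lift V.ι _ hpr ≫ V.ι =
        Spec.map (CommRingCat.ofHom (MvPolynomial.eval c)) := IsOpenImmersion.lift_fac _ _ _
    refine ⟨⟨REq.specMap k K ≫ IsOpenImmersion.lift V.ι _ hpr ≫ b ≫ U.ι, ?_⟩, ?_⟩
    · simp only [Category.assoc]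
      rw [hb, reassoc_of% hp', ← Spec.map_comp, ← CommRingCat.ofHom_comp]
      have h2 : (MvPolynomial.eval c).comp (algebraMap k (MvPolynomial (Fin n) k)) =
          RingHom.id k := by
        ext r
        simp
      rw [h2]
      change _ ≫ Spec.map (𝟙 _) = _
      rw [Spec.map_id, Category.comp_id]
    · rintro _ ⟨x, rfl⟩
      have h1 : (REq.specMap k K ≫ IsOpenImmersion.lift V.ι _ hpr ≫ b ≫ U.ι) x ∈
          Set.range U.ι :=
        ⟨(REq.specMap k K ≫ IsOpenImmersion.lift V.ι _ hpr ≫ b) x, by simp⟩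
      rw [Scheme.Opens.range_ι] at h1
      exact h1
  · intro A B hA hB
    have hAr : Set.range A.1 ⊆ Set.range U.ι := by
      rw [Scheme.Opens.range_ι]
      exact hA
    have hBr : Set.range B.1 ⊆ Set.range U.ι := by
      rw [Scheme.Opens.range_ι]
      exact hB
    have hA' : IsOpenImmersion.lift U.ι A.1 hAr ≫ U.ι = A.1 := IsOpenImmersion.lift_fac _ _ _
    have hB' : IsOpenImmersion.lift U.ι B.1 hBr ≫ U.ι = B.1 := IsOpenImmersion.lift_fac _ _ _
    obtain ⟨U', h, a', b', h1, h2, h3, h4, h5⟩ :=
      Groth.Agent.Lib27.RetractLink.elemLink_of_retract f U n V a b hab ha hb K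
        ⟨IsOpenImmersion.lift U.ι A.1 hAr, by rw [reassoc_of% hA']; exact A.2⟩
        ⟨IsOpenImmersion.lift U.ι B.1 hBr, by rw [reassoc_of% hB']; exact B.2⟩
    apply Relation.EqvGen.rel
    refine ⟨U', h ≫ U.ι, a', b', ?_, h2, h3, ?_, ?_⟩
    · rw [Category.assoc, h1]
    · rw [← Category.assoc, h4]
      exact hA'
    · rw [← Category.assoc, h5]
      exact hB'

end Groth.Agent.S18572
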