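import Groth.Statements.S18573
import Groth.Agent.Lib27.Sch.P1Irred

set_option autoImplicit false
universe u
open CategoryTheory AlgebraicGeometry
open REq

namespace Groth.Agent.S18573

/-- Let Y be a scheme over a field k and K a field containing k. Let V and W be closed subsets of Y with
V ∪ W = Y such that no K-point of Y has its image in V ∩ W. If p is a K-point of Y lying in V and q
a K-point of Y lying in W, then p and q are not R-equivalent on Y. (The published step concerns
k-points of the special fibre of a proper flat scheme over a discrete valuation ring, that is K = k;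
this row is stated for any scheme Y over k and K-points for any field K containing k.) -/
theorem result (k : Type u) [Field k] (Y : Scheme.{u})
    (g : Y ⟶ Spec (CommRingCat.of k)) (K : Type u) [Field K] [Algebra k K]
    (V W : Set Y) (hV : IsClosed V) (hW : IsClosed W) (hVW : V ∪ W = Set.univ)
    (hT : ∀ z : REq.Pts g K, ¬ (Set.range z.1.base ⊆ V ∩ W))
    (p q : REq.Pts g K) (hp : Set.range p.1.base ⊆ V) (hq : Set.range q.1.base ⊆ W) :
    ¬ REq.REquiv g K p q := by
  intro hpq
  have key : ∀ A B : REq.Pts g K, REq.ElemLink g K A B →
      (Set.range A.1.base ⊆ V ↔ Set.range B.1.base ⊆ V) := by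
    rintro A B ⟨U, h, a, b, -, -, -, haA, hbB⟩
    have hirr := Groth.Agent.Lib27.P1Irred.irreducibleSpace_projSpaceOver 1 K
    have hU : IsPreirreducible (U : Set ↥(REq.P1K K)) :=
      (IrreducibleSpace.isIrreducible_univ _).isPreirreducible.open_subset U.2 (Set.subset_univ _)
    have : PreirreducibleSpace ↥(U : Scheme.{u}) := Subtype.preirreducibleSpace hU
    have hcov : (Set.univ : Set ↥(U : Scheme.{u})) ⊆ (h.base ⁻¹' V) ∪ (h.base ⁻¹' W) := by
      intro x _
      have : h.base x ∈ V ∪ W := by rw [hVW]; trivial
      exact this
    have hAeq : ∀ x, A.1.base x = h.base (a.base x) := by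
      intro x
      rw [← haA]
      rfl
    have hBeq : ∀ x, B.1.base x = h.base (b.base x) := by
      intro x
      rw [← hbB]
      rfl
    rcases (isPreirreducible_iff_isClosed_union_isClosed.mp
      (PreirreducibleSpace.isPreirreducible_univ (X := ↥(U : Scheme.{u})))
      _ _ (hV.preimage h.continuous) (hW.preimage h.continuous) hcov) with h1 | h1
    · constructor
      · rintro - _ ⟨x, rfl⟩
        rw [hBeq]
        exact h1 (Set.mem_univ _)
      · rintro - _ ⟨x, rfl⟩
        rw [hAeq]
        exact h1 (Set.mem_univ _)
    · have hAW : Set.range A.1.base ⊆ W := by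
        rintro _ ⟨x, rfl⟩
        rw [hAeq]
        exact h1 (Set.mem_univ _)
      have hBW : Set.range B.1.base ⊆ W := by
        rintro _ ⟨x, rfl⟩
        rw [hBeq]
        exact h1 (Set.mem_univ _)
      constructor
      · intro hA
        exact absurd (Set.subset_inter hA hAW) (hT A)
      · intro hB
        exact absurd (Set.subset_inter hB hBW) (hT B)
  have hiff : ∀ A B : REq.Pts g K, REq.REquiv g K A B →
      (Set.range A.1.base ⊆ V ↔ Set.range B.1.base ⊆ V) := by
    intro A B hAB
    induction hAB with
    | rel A B hAB => exact key A B hAB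
    | refl A => exact Iff.rfl
    | symm A B _ ih => exact ih.symm
    | trans A B C _ _ ih1 ih2 => exact ih1.trans ih2
  exact hT q (Set.subset_inter ((hiff p q hpq).mp hp) hq)

end Groth.Agent.S18573
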