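import Groth.Statements.S18578
import Mathlib
import Groth.Agent.Lib.Helper16.DLog1

set_option autoImplicit false
universe u
open LogDiff

namespace Groth.Agent.S18578

/-- The degree-one case, stated at the local ring of a point. Let k be a field of characteristic zero, B
a smooth k-algebra, R the localization of B at a prime ideal, K the fraction field of R and f_1, …,
f_r prime elements of R. If g is a unit of K whose logarithmic differential g⁻¹dg in Ω_{K/k} is the
image of a form η ∈ Ω_{R/k} plus an R-linear combination Σ c_i f_i⁻¹df_i, then g⁻¹dg = v⁻¹dv + Σ b_i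
f_i⁻¹df_i for a unit v of R and integers b_i. (When the f_i are part of a regular system of
parameters the hypothesis says that g⁻¹dg has at worst logarithmic poles along the divisor f_1⋯f_r =
0 at this point, and the statement is the stalkwise injectivity of 1-forms with logarithmic poles
modulo logarithmic differentials of functions invertible off the divisor into Ω¹_K modulo
logarithmic differentials; it is stated here for arbitrary prime elements f_i.) -/
theorem result
    {k B R K : Type u} [Field k] [CharZero k] [CommRing B] [Algebra k B] [Algebra.Smooth k B]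
    (p : Ideal B) [p.IsPrime] [CommRing R] [Algebra B R] [IsLocalization.AtPrime R p]
    [Algebra k R] [IsScalarTower k B R]
    [Field K] [Algebra R K] [IsFractionRing R K] [Algebra k K] [IsScalarTower k R K]
    {r : ℕ} (f : Fin r → R) (hf : ∀ i, Prime (f i))
    (g : Kˣ) (η : Ω[R⁄k]) (c : Fin r → R)
    (h : (g : K)⁻¹ • KaehlerDifferential.D k K (g : K) =
      KaehlerDifferential.map k k R K η +
        ∑ i, (algebraMap R K (c i) * (algebraMap R K (f i))⁻¹) •
          KaehlerDifferential.D k K (algebraMap R K (f i))) :
    ∃ (v : Rˣ) (b : Fin r → ℤ),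
      (g : K)⁻¹ • KaehlerDifferential.D k K (g : K) =
        (algebraMap R K (v : R))⁻¹ • KaehlerDifferential.D k K (algebraMap R K (v : R)) +
          ∑ i, ((b i : K) * (algebraMap R K (f i))⁻¹) •
            KaehlerDifferential.D k K (algebraMap R K (f i)) := by
  classical
  have hreg0 : IsRegularLocalRing (Localization.AtPrime (⊥ : Ideal k)) := by
    have h : (⊥ : Ideal k).primeCompl ≤ IsUnit.submonoid k := by
      intro x hx
      have : x ≠ 0 := fun h => hx (by rw [h]; exact Ideal.zero_mem _)
      exact this.isUnit
    exact IsRegularLocalRing.of_ringEquiv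
      (IsLocalization.atUnits k (⊥ : Ideal k).primeCompl
        (S := Localization.AtPrime (⊥ : Ideal k)) h).toRingEquiv
  have hlies : p.LiesOver (⊥ : Ideal k) := ⟨by symm; apply Ideal.eq_bot_of_prime⟩
  have hregp : IsRegularLocalRing (Localization.AtPrime p) :=
    Groth.Agent.Lib.Helper25.RegularSmooth.isRegularLocalRing_of_smooth (A := k) (B := B) ⊥ p
  have hregR : IsRegularLocalRing R :=
    IsRegularLocalRing.of_ringEquiv
      (IsLocalization.algEquiv p.primeCompl (Localization.AtPrime p) R).toRingEquiv
  obtain ⟨hdom, hufd⟩ := Groth.Agent.Lib.Helper20.RegularUFD.ufd_of_isRegularLocalRing R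
  have : Algebra.FormallySmooth B R := Algebra.FormallySmooth.of_isLocalization p.primeCompl
  have : Algebra.FormallySmooth k R := Algebra.FormallySmooth.comp k B R
  have : Algebra.EssFiniteType B R := Algebra.EssFiniteType.of_isLocalization R p.primeCompl
  have : Algebra.EssFiniteType k R := Algebra.EssFiniteType.comp k B R
  have h' : Groth.Agent.Lib.Helper16.DLog.dlog k (g : K) = KaehlerDifferential.map k k R K η +
      ∑ i, algebraMap R K (c i) • Groth.Agent.Lib.Helper16.DLog.dlog k (algebraMap R K (f i)) := by
    simp only [Groth.Agent.Lib.Helper16.DLog.dlog, smul_smul]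
    exact h
  obtain ⟨v, b, hvb⟩ := Groth.Agent.Lib.Helper16.DLog.dlog_main f hf g η c h'
  refine ⟨v, b, ?_⟩
  simp only [Groth.Agent.Lib.Helper16.DLog.dlog] at hvb
  rw [hvb]
  congr 1
  apply Finset.sum_congr rfl
  intro i _
  rw [← Int.cast_smul_eq_zsmul K (b i), smul_smul]

end Groth.Agent.S18578
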