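import Groth.Statements.S18579
import Mathlib

set_option autoImplicit false
universe u
open LogDiff

namespace Groth.Agent.S18579

open Finset in
/-- In a domain, a factor of a product of powers of primes is a unit times a product of powers. -/
theorem factor_of_mul_eq {R : Type*} [CommRing R] [IsDomain R] {r : ℕ} (f : Fin r → R)
    (hf : ∀ i, Prime (f i)) (a a' : R) (N : ℕ) (h : a * a' = (∏ i, f i) ^ N) :
    ∃ (b : Rˣ) (e : Fin r → ℕ), a = b * ∏ i, f i ^ e i := by
  classical
  have h' : a * a' = 1 * ∏ x ∈ (Finset.univ : Finset (Fin r)) ×ˢ Finset.range N, f x.1 := by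
    rw [one_mul, Finset.prod_product, h, ← Finset.prod_pow]
    refine Finset.prod_congr rfl fun i _ => ?_
    simp
  obtain ⟨t, u, b, c, -, -, hbc, ha, -⟩ :=
    mul_eq_mul_prime_prod (p := fun x : Fin r × ℕ => f x.1) (fun x _ => hf x.1) h'
  have hb : IsUnit b := IsUnit.of_mul_eq_one c hbc.symm
  refine ⟨hb.unit, fun i => #{x ∈ t | x.1 = i}, ?_⟩
  rw [ha, IsUnit.unit_spec]
  congr 1
  rw [← Finset.prod_fiberwise' t (fun x : Fin r × ℕ => x.1) f]
  refine Finset.prod_congr rfl fun i _ => ?_
  rw [Finset.prod_const]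

/-- Sign lemma for uniqueness. -/
theorem exponent_nonpos {R K : Type*} [CommRing R] [IsDomain R] [Field K] [Algebra R K]
    [IsFractionRing R K] {r : ℕ} (f : Fin r → R) (hf : ∀ i, Prime (f i))
    (hfa : ∀ i j, Associated (f i) (f j) → i = j) (u u' : Rˣ) (γ : Fin r → ℤ)
    (h : algebraMap R K (u : R) * ∏ i, (algebraMap R K (f i)) ^ (γ i) = algebraMap R K (u' : R))
    (j : Fin r) : γ j ≤ 0 := by
  classical
  by_contra hj
  push Not at hj
  have hinj : Function.Injective (algebraMap R K) := IsFractionRing.injective R K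
  have hne : ∀ i, algebraMap R K (f i) ≠ 0 := fun i =>
    (map_ne_zero_iff _ hinj).mpr (hf i).ne_zero
  have hsplit : ∀ i, (algebraMap R K (f i)) ^ (γ i) =
      (algebraMap R K (f i)) ^ ((γ i).toNat) / (algebraMap R K (f i)) ^ ((-γ i).toNat) := by
    intro i
    rw [← zpow_natCast, ← zpow_natCast, ← zpow_sub₀ (hne i), Int.toNat_sub_toNat_neg]
  simp_rw [hsplit] at h
  rw [Finset.prod_div_distrib] at h
  have hden : (∏ i, (algebraMap R K (f i)) ^ ((-γ i).toNat)) ≠ 0 :=
    Finset.prod_ne_zero_iff.mpr fun i _ => pow_ne_zero _ (hne i)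
  rw [← mul_div_assoc, div_eq_iff hden] at h
  have hR : (u : R) * ∏ i, f i ^ ((γ i).toNat) = (u' : R) * ∏ i, f i ^ ((-γ i).toNat) := by
    apply hinj
    simpa [map_mul, map_prod, map_pow] using h
  have hdvd : f j ∣ (u' : R) * ∏ i, f i ^ ((-γ i).toNat) := by
    rw [← hR]
    apply Dvd.dvd.mul_left
    apply Dvd.dvd.trans _ (Finset.dvd_prod_of_mem _ (Finset.mem_univ j))
    apply dvd_pow_self
    intro h0
    have : γ j ≤ 0 := Int.toNat_eq_zero.mp h0
    omega
  rcases (hf j).dvd_or_dvd hdvd with h1 | h1
  · exact (hf j).not_isUnit (isUnit_of_dvd_unit h1 u'.isUnit)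
  · obtain ⟨i, -, hi⟩ := (hf j).exists_mem_finset_dvd h1
    have hji : f j ∣ f i := (hf j).dvd_of_dvd_pow hi
    have hij : j = i := hfa j i ((hf j).associated_of_dvd (hf i) hji)
    subst hij
    have h0 : (-γ j).toNat = 0 := by
      apply Int.toNat_eq_zero.mpr; omega
    rw [h0, pow_zero] at hi
    exact (hf j).not_isUnit (isUnit_of_dvd_one hi)


/-- The exact sequence for units (first Milnor K-groups) when every component of the divisor is removed.
Let k be a field, B a smooth k-algebra, R the localization of B at a prime ideal, K the fraction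
field of R and f_1, …, f_r pairwise non-associate prime elements of R. If w is a unit of K such that
w and w⁻¹ both lie in R[1/(f_1⋯f_r)], i.e. each becomes an element of R after multiplication by a
power of f_1⋯f_r, then there is exactly one pair (v, b) consisting of a unit v of R and integers
b_1, …, b_r with w = v · ∏ f_i^{b_i} in K. (This is the exactness of 0 → Γ(Spec R, O^×) → Γ(Spec R ∖
V(f_1⋯f_r), O^×) → ℤ^r → 0, the last map being the orders along the f_i. The published statement
takes the f_i to be local equations of the components of a normal crossings divisor, over a field of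
characteristic zero; this row allows arbitrary pairwise non-associate prime elements and any field.) -/
theorem result
    {k B R K : Type u} [Field k] [CommRing B] [Algebra k B] [Algebra.Smooth k B]
    (p : Ideal B) [p.IsPrime] [CommRing R] [Algebra B R] [IsLocalization.AtPrime R p]
    [Field K] [Algebra R K] [IsFractionRing R K]
    {r : ℕ} (f : Fin r → R) (hf : ∀ i, Prime (f i)) (hfa : ∀ i j, Associated (f i) (f j) → i = j)
    (w : Kˣ)
    (hw : ∃ (a : R) (n : ℕ), (w : K) * algebraMap R K ((∏ i, f i) ^ n) = algebraMap R K a)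
    (hw' : ∃ (a : R) (n : ℕ), (w⁻¹ : Kˣ) * algebraMap R K ((∏ i, f i) ^ n) = algebraMap R K a) :
    ∃! vb : Rˣ × (Fin r → ℤ),
      (w : K) = algebraMap R K (vb.1 : R) * ∏ i, (algebraMap R K (f i)) ^ (vb.2 i) := by
  classical
  have hinj : Function.Injective (algebraMap R K) := IsFractionRing.injective R K
  have : IsDomain R := hinj.isDomain (algebraMap R K)
  have hne : ∀ i, algebraMap R K (f i) ≠ 0 := fun i =>
    (map_ne_zero_iff _ hinj).mpr (hf i).ne_zero
  have hFne : algebraMap R K (∏ i, f i) ≠ 0 := by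
    rw [map_prod]
    exact Finset.prod_ne_zero_iff.mpr fun i _ => hne i
  obtain ⟨a, n, han⟩ := hw
  obtain ⟨a', n', han'⟩ := hw'
  have hmul : a * a' = (∏ i, f i) ^ (n + n') := by
    apply hinj
    rw [map_mul, ← han, ← han', pow_add, map_mul]
    have : (w : K) * ((w⁻¹ : Kˣ) : K) = 1 := by
      rw [← Units.val_mul, mul_inv_cancel, Units.val_one]
    calc (w : K) * algebraMap R K ((∏ i, f i) ^ n) *
          (((w⁻¹ : Kˣ) : K) * algebraMap R K ((∏ i, f i) ^ n'))
        = ((w : K) * ((w⁻¹ : Kˣ) : K)) *
          (algebraMap R K ((∏ i, f i) ^ n) * algebraMap R K ((∏ i, f i) ^ n')) := by ring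
      _ = _ := by rw [this, one_mul]
  obtain ⟨b, e, hab⟩ := factor_of_mul_eq f hf a a' (n + n') hmul
  refine ⟨(b, fun i => (e i : ℤ) - n), ?_, ?_⟩
  · -- existence
    change (w : K) = algebraMap R K (b : R) * ∏ i, (algebraMap R K (f i)) ^ ((e i : ℤ) - n)
    have hw_eq : (w : K) = algebraMap R K a / algebraMap R K ((∏ i, f i) ^ n) := by
      rw [eq_div_iff, han]
      rw [map_pow]
      exact pow_ne_zero _ hFne
    rw [hw_eq, hab, map_mul, map_prod, map_pow, map_prod, ← Finset.prod_pow, mul_div_assoc,
      ← Finset.prod_div_distrib]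
    congr 1
    refine Finset.prod_congr rfl fun i _ => ?_
    rw [map_pow, zpow_sub₀ (hne i), zpow_natCast, zpow_natCast]
  · -- uniqueness
    rintro ⟨v, β⟩ hvβ
    change (w : K) = algebraMap R K (v : R) * ∏ i, (algebraMap R K (f i)) ^ (β i) at hvβ
    have hbe : (w : K) = algebraMap R K (b : R) *
        ∏ i, (algebraMap R K (f i)) ^ ((e i : ℤ) - n) := by
      have hw_eq : (w : K) = algebraMap R K a / algebraMap R K ((∏ i, f i) ^ n) := by
        rw [eq_div_iff, han]
        rw [map_pow]
        exact pow_ne_zero _ hFne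
      rw [hw_eq, hab, map_mul, map_prod, map_pow, map_prod, ← Finset.prod_pow, mul_div_assoc,
        ← Finset.prod_div_distrib]
      congr 1
      refine Finset.prod_congr rfl fun i _ => ?_
      rw [map_pow, zpow_sub₀ (hne i), zpow_natCast, zpow_natCast]
    set β' : Fin r → ℤ := fun i => (e i : ℤ) - n with hβ'
    have hprodne : ∀ δ : Fin r → ℤ, (∏ i, (algebraMap R K (f i)) ^ (δ i)) ≠ 0 := fun δ =>
      Finset.prod_ne_zero_iff.mpr fun i _ => zpow_ne_zero _ (hne i)
    -- v * ∏ f^(β - β') = b
    have h1 : algebraMap R K (v : R) * ∏ i, (algebraMap R K (f i)) ^ (β i - β' i) =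
        algebraMap R K (b : R) := by
      have : ∏ i, (algebraMap R K (f i)) ^ (β i - β' i) =
          (∏ i, (algebraMap R K (f i)) ^ (β i)) / ∏ i, (algebraMap R K (f i)) ^ (β' i) := by
        rw [← Finset.prod_div_distrib]
        exact Finset.prod_congr rfl fun i _ => zpow_sub₀ (hne i) _ _
      rw [this, ← mul_div_assoc, div_eq_iff (hprodne β'), ← hvβ, hbe]
    have h2 : algebraMap R K (b : R) * ∏ i, (algebraMap R K (f i)) ^ (β' i - β i) =
        algebraMap R K (v : R) := by
      have : ∏ i, (algebraMap R K (f i)) ^ (β' i - β i) =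
          (∏ i, (algebraMap R K (f i)) ^ (β' i)) / ∏ i, (algebraMap R K (f i)) ^ (β i) := by
        rw [← Finset.prod_div_distrib]
        exact Finset.prod_congr rfl fun i _ => zpow_sub₀ (hne i) _ _
      rw [this, ← mul_div_assoc, div_eq_iff (hprodne β), ← hvβ, hbe]
    have hββ' : β = β' := by
      funext j
      have h3 : β j - β' j ≤ 0 := exponent_nonpos f hf hfa v b (fun i => β i - β' i) h1 j
      have h4 : β' j - β j ≤ 0 := exponent_nonpos f hf hfa b v (fun i => β' i - β i) h2 j
      omega
    have hvb : v = b := by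
      apply Units.ext
      apply hinj
      rw [hββ'] at hvβ
      have := hvβ.symm.trans hbe
      exact mul_right_cancel₀ (hprodne β') this
    rw [hvb, hββ']

end Groth.Agent.S18579
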