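import Groth.Statements.S18580
import Mathlib

set_option autoImplicit false
universe u
open EtBase

namespace Groth.Agent.S18580

open AlgebraicGeometry CategoryTheory CategoryTheory.Limits

universe u'

/-- A section of an unramified morphism (locally of finite type) is an open immersion. -/
theorem isOpenImmersion_of_section {X Y : Scheme.{u'}} (f : X ⟶ Y)
    [FormallyUnramified f] [LocallyOfFiniteType f] (s : Y ⟶ X) (hs : s ≫ f = 𝟙 Y) :
    IsOpenImmersion s := by
  have hiso : IsIso (s ≫ f) := by rw [hs]; infer_instance
  set gr : Y ⟶ pullback (s ≫ f) f := pullback.lift (𝟙 Y) s (by simp) with hgr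
  have hsgr : s = gr ≫ pullback.snd _ _ := (pullback.lift_snd _ _ _).symm
  have h1 : IsOpenImmersion gr :=
    MorphismProperty.of_isPullback (P := @IsOpenImmersion)
      (pullback_lift_diagonal_isPullback s f) inferInstance
  rw [hsgr]
  infer_instance

/-- A section of a separated morphism is a closed immersion. -/
theorem isClosedImmersion_of_section {X Y : Scheme.{u'}} (f : X ⟶ Y)
    [IsSeparated f] (s : Y ⟶ X) (hs : s ≫ f = 𝟙 Y) :
    IsClosedImmersion s := by
  have hiso : IsIso (s ≫ f) := by rw [hs]; infer_instance
  exact IsClosedImmersion.of_comp s f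

theorem section_eq {X Y : Scheme.{u'}} (f : X ⟶ Y) (s : Y ⟶ X) [IsOpenImmersion s]
    (hs : s ≫ f = 𝟙 Y) (U : X.Opens) (hU : s.opensRange = U) [IsIso (U.ι ≫ f)] :
    s = inv (U.ι ≫ f) ≫ U.ι := by
  subst hU
  rw [IsIso.eq_inv_comp]
  rw [← s.isoOpensRange_inv_comp, Category.assoc, Category.assoc, reassoc_of% hs]


open AlgebraicGeometry CategoryTheory in
/-- Let Y be a connected scheme and f : X ⟶ Y a separated morphism that is unramified (locally of finite
type and formally unramified). Then the sections of f correspond bijectively to the connected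
components of X mapping isomorphically onto Y: there is a bijection from the set of sections s of f
to the set of open subschemes U of X whose underlying set is a connected component of X and for
which U ⟶ X ⟶ Y is an isomorphism, sending s to its image. In particular every section is an
isomorphism onto a connected component of X and is determined by its image. (A connected component
mapping isomorphically onto Y is the image of a section, hence open, so restricting to open
components loses nothing. The published statement also assumes Y Noetherian; that hypothesis plays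
no role and is omitted.) -/
theorem result {X Y : Scheme.{u}} (f : X ⟶ Y)
    [FormallyUnramified f] [LocallyOfFiniteType f] [IsSeparated f] [ConnectedSpace Y] :
    ∃ e : {s : Y ⟶ X // s ≫ f = 𝟙 Y} ≃
        {U : X.Opens // (∃ x : X, (U : Set X) = connectedComponent x) ∧ IsIso (U.ι ≫ f)},
      ∀ s : {s : Y ⟶ X // s ≫ f = 𝟙 Y}, ((e s).1 : Set X) = Set.range s.1 := by
  classical
  have hopen : ∀ s : {s : Y ⟶ X // s ≫ f = 𝟙 Y}, IsOpenImmersion s.1 :=
    fun s => isOpenImmersion_of_section f s.1 s.2
  have hclosed : ∀ s : {s : Y ⟶ X // s ≫ f = 𝟙 Y}, IsClosedImmersion s.1 :=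
    fun s => isClosedImmersion_of_section f s.1 s.2
  let F : {s : Y ⟶ X // s ≫ f = 𝟙 Y} →
      {U : X.Opens // (∃ x : X, (U : Set X) = connectedComponent x) ∧ IsIso (U.ι ≫ f)} :=
    fun s => ⟨@Scheme.Hom.opensRange _ _ s.1 (hopen s), by
      have := hopen s
      have := hclosed s
      refine ⟨?_, ?_⟩
      · obtain ⟨y⟩ : Nonempty Y := inferInstance
        refine ⟨s.1 y, ?_⟩
        rw [Scheme.Hom.coe_opensRange]
        apply subset_antisymm
        · exact (isPreconnected_range s.1.continuous).subset_connectedComponent ⟨y, rfl⟩
        · have hclopen : IsClopen (Set.range s.1) :=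
            ⟨s.1.isClosedEmbedding.isClosed_range, s.1.isOpenEmbedding.isOpen_range⟩
          exact hclopen.connectedComponent_subset ⟨y, rfl⟩
      · have : s.1.opensRange.ι ≫ f = s.1.isoOpensRange.inv := by
          rw [← s.1.isoOpensRange_inv_comp, Category.assoc, s.2, Category.comp_id]
        rw [this]
        infer_instance⟩
  have hFinj : Function.Injective F := by
    intro s s' h
    have := hopen s
    have := hopen s'
    have hU : s.1.opensRange = s'.1.opensRange := congrArg Subtype.val h
    have : IsIso (s'.1.opensRange.ι ≫ f) := (F s').2.2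
    apply Subtype.ext
    exact (section_eq f s.1 s.2 _ hU).trans (section_eq f s'.1 s'.2 _ rfl).symm
  have hFsurj : Function.Surjective F := by
    rintro ⟨U, hU, hiso⟩
    have := hiso
    refine ⟨⟨inv (U.ι ≫ f) ≫ U.ι, by simp⟩, ?_⟩
    apply Subtype.ext
    change @Scheme.Hom.opensRange _ _ (inv (U.ι ≫ f) ≫ U.ι) _ = U
    rw [Scheme.Hom.opensRange_comp_of_isIso, Scheme.Opens.opensRange_ι]
  refine ⟨Equiv.ofBijective F ⟨hFinj, hFsurj⟩, fun s => ?_⟩
  have := hopen s
  change ((s.1.opensRange : X.Opens) : Set X) = _
  rw [Scheme.Hom.coe_opensRange]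

end Groth.Agent.S18580
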