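import Groth.Statements.S18581
import Groth.Agent.Lib.Helper18.FlatLocal
import Groth.Agent.Lib.Helper18.FibBridge

set_option autoImplicit false
universe u
open Desc

namespace Groth.Agent.S18581

open IsLocalRing
/-- Let A → B be a local homomorphism of Noetherian local rings which is étale, in the sense that B is
(compatibly with the map from A) the localization of an étale A-algebra E at a prime ideal. Then A
is a Cohen–Macaulay ring exactly when B is one. -/
theorem result (A B : Type u) [CommRing A] [CommRing B]
    [IsLocalRing A] [IsLocalRing B] [IsNoetherianRing A] [IsNoetherianRing B]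
    [Algebra A B] [IsLocalHom (algebraMap A B)]
    (E : Type u) [CommRing E] [Algebra A E] [Algebra.Etale A E] (P : Ideal E) [P.IsPrime]
    [Algebra E B] [IsScalarTower A E B] [IsLocalization.AtPrime B P] :
    LocCoh.IsCohenMacaulayLocalRing A ↔ LocCoh.IsCohenMacaulayLocalRing B := by
  have hflatE : Module.Flat A E := inferInstance
  have : Module.Flat E B := IsLocalization.flat B P.primeCompl
  have hflat : Module.Flat A B := Module.Flat.trans A E B
  have : Algebra.FormallyUnramified E B := Algebra.FormallyUnramified.of_isLocalization P.primeCompl
  have hunr : Algebra.FormallyUnramified A B := Algebra.FormallyUnramified.comp A E B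
  have : Algebra.EssFiniteType E B := Algebra.EssFiniteType.of_isLocalization B P.primeCompl
  have hess : Algebra.EssFiniteType A B := Algebra.EssFiniteType.comp A E B
  have hmax : (maximalIdeal A).map (algebraMap A B) = maximalIdeal B :=
    Algebra.FormallyUnramified.map_maximalIdeal
  have hfield : IsField (B ⧸ (maximalIdeal A).map (algebraMap A B)) := by
    rw [hmax]
    exact (Ideal.Quotient.maximal_ideal_iff_isField_quotient _).mp inferInstance
  have hlocal : IsLocalRing (B ⧸ (maximalIdeal A).map (algebraMap A B)) := by
    let := hfield.toField
    infer_instance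
  have hdim0 : ringKrullDim (B ⧸ (maximalIdeal A).map (algebraMap A B)) = 0 :=
    ringKrullDim_eq_zero_of_isField hfield
  have hdepth0 := Groth.Agent.Lib.Helper18.FibBridge.depth_eq_zero_of_ringKrullDim_eq_zero _ hdim0
  have hdim := Groth.Agent.Lib.Helper18.FlatLocal.ringKrullDim_eq_add_fibre_of_flat A B
  have hdepth := Groth.Agent.Lib.Helper18.FlatLocal.depth_eq_add_fibre_of_flat A B
  rw [hdim0, add_zero] at hdim
  rw [hdepth0, add_zero] at hdepth
  constructor
  · intro h
    refine ⟨?_⟩
    rw [Module.supportDim_self_eq_ringKrullDim, hdim, hdepth,
      ← Module.supportDim_self_eq_ringKrullDim (R := A)]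
    exact h.supportDim_eq_depth
  · intro h
    refine ⟨?_⟩
    rw [Module.supportDim_self_eq_ringKrullDim, ← hdim, ← hdepth,
      ← Module.supportDim_self_eq_ringKrullDim (R := B)]
    exact h.supportDim_eq_depth


end Groth.Agent.S18581
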