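import Groth.Statements.S18589
import Mathlib
-- import your own Groth.Agent.* helpers here

set_option autoImplicit false
open CAlg

namespace Groth.Agent.S18589

/-- For a prime p and every natural number n, the n-th Witt addition polynomial over the integers (the
polynomial S_n with (x + y)_n = S_n(x_0, y_0, …, x_n, y_n) for p-typical Witt vectors x, y) is
weighted homogeneous of weighted degree p ^ n for the grading in which the variables x_i and y_i
have weight p ^ i. -/
theorem result (p : ℕ) [Fact p.Prime] (n : ℕ) :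
    MvPolynomial.IsWeightedHomogeneous (fun i : Fin 2 × ℕ => p ^ i.2) (WittVector.wittAdd p n) (p ^ n) := by
  classical
  set w : Fin 2 × ℕ → ℕ := fun i => p ^ i.2 with hw
  have hp : p ≠ 0 := (Fact.out : p.Prime).ne_zero
  induction n using Nat.strong_induction_on with
  | _ n ih =>
  -- the defining identity
  have hprop : ∑ x ∈ Finset.range n, MvPolynomial.C ((p : ℤ) ^ x) *
        (WittVector.wittAdd p x) ^ p ^ (n - x) +
      MvPolynomial.C ((p : ℤ) ^ n) * WittVector.wittAdd p n =
      MvPolynomial.rename (Prod.mk (0 : Fin 2)) (wittPolynomial p ℤ n) +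
        MvPolynomial.rename (Prod.mk (1 : Fin 2)) (wittPolynomial p ℤ n) := by
    have h := wittStructureInt_prop p (MvPolynomial.X (0 : Fin 2) + MvPolynomial.X 1) n
    rw [map_add, MvPolynomial.bind₁_X_right, MvPolynomial.bind₁_X_right] at h
    rw [← h, wittPolynomial_eq_sum_C_mul_X_pow, map_sum, Finset.sum_range_succ]
    congr 1
    · apply Finset.sum_congr rfl
      intro x _
      rw [map_mul, MvPolynomial.bind₁_C_right, map_pow (MvPolynomial.bind₁ _),
        MvPolynomial.bind₁_X_right]
      rfl
    · rw [map_mul, MvPolynomial.bind₁_C_right, map_pow (MvPolynomial.bind₁ _),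
        MvPolynomial.bind₁_X_right, Nat.sub_self, pow_zero, pow_one]
      rfl
  -- homogeneity of the renamed Witt polynomials
  have hW : ∀ j : Fin 2, MvPolynomial.IsWeightedHomogeneous w
      (MvPolynomial.rename (Prod.mk j) (wittPolynomial p ℤ n)) (p ^ n) := by
    intro j
    rw [wittPolynomial_eq_sum_C_mul_X_pow, map_sum]
    apply MvPolynomial.IsWeightedHomogeneous.sum
    intro i hi
    rw [map_mul, map_pow (MvPolynomial.rename _), MvPolynomial.rename_C, MvPolynomial.rename_X]
    apply MvPolynomial.IsWeightedHomogeneous.C_mul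
    have h1 := (MvPolynomial.isWeightedHomogeneous_X ℤ w (j, i)).pow (p ^ (n - i))
    have h2 : p ^ (n - i) • w (j, i) = p ^ n := by
      simp only [hw, smul_eq_mul]
      rw [← pow_add, Nat.sub_add_cancel (Nat.lt_succ_iff.mp (Finset.mem_range.mp hi))]
    rwa [h2] at h1
  have hsum : MvPolynomial.IsWeightedHomogeneous w
      (∑ x ∈ Finset.range n, MvPolynomial.C ((p : ℤ) ^ x) * (WittVector.wittAdd p x) ^ p ^ (n - x))
      (p ^ n) := by
    apply MvPolynomial.IsWeightedHomogeneous.sum
    intro i hi
    apply MvPolynomial.IsWeightedHomogeneous.C_mul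
    have h1 := (ih i (Finset.mem_range.mp hi)).pow (p ^ (n - i))
    have h2 : p ^ (n - i) • p ^ i = p ^ n := by
      rw [smul_eq_mul, ← pow_add, Nat.sub_add_cancel (Finset.mem_range.mp hi).le]
    rwa [h2] at h1
  have hmain : MvPolynomial.IsWeightedHomogeneous w
      (MvPolynomial.C ((p : ℤ) ^ n) * WittVector.wittAdd p n) (p ^ n) := by
    have : MvPolynomial.C ((p : ℤ) ^ n) * WittVector.wittAdd p n =
        (MvPolynomial.rename (Prod.mk (0 : Fin 2)) (wittPolynomial p ℤ n) +
          MvPolynomial.rename (Prod.mk (1 : Fin 2)) (wittPolynomial p ℤ n)) -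
        ∑ x ∈ Finset.range n, MvPolynomial.C ((p : ℤ) ^ x) *
          (WittVector.wittAdd p x) ^ p ^ (n - x) := by
      rw [← hprop]; ring
    rw [this]
    exact ((hW 0).add (hW 1)).sub hsum
  intro d hd
  apply hmain
  rw [MvPolynomial.coeff_C_mul]
  exact mul_ne_zero (pow_ne_zero n (by exact_mod_cast hp)) hd

end Groth.Agent.S18589
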