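import Groth.Statements.S18590
import Mathlib
import Groth.Agent.Lib.Helper9.WittHomog

set_option autoImplicit false
universe u
open CAlg

namespace Groth.Agent.S18590

/-- Let p be a prime, A a commutative ring, K a commutative A-algebra of characteristic p and M_0, M_1,
M_2, … A-submodules of K with M_i · M_j ⊆ M_(i+j) for all i, j. Then the subset of the ring W(K) of
p-typical Witt vectors consisting of the vectors whose n-th coordinate lies in M_(p^n) for every n
is closed under addition and under multiplication by the image of W(A) under W of the structure map;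
in other words it is a W(A)-submodule of W(K). (The published statement is the case of an integral
normal noetherian scheme X of characteristic p with function field K, an affine open subset U with
coordinate ring A, and M_k the module of sections over U of the divisorial sheaf of k·D for a real
Weil divisor D on X; these form such a multiplicative family, and the subset is then the module of
sections over U of the Witt divisorial sheaf of D inside W(K). Only the two stated properties of
that family enter.) -/
theorem result
    (p : ℕ) [Fact p.Prime] (A K : Type u) [CommRing A] [CommRing K] [Algebra A K] [CharP K p]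
    (M : ℕ → Submodule A K)
    (hmul : ∀ (i j : ℕ) (a b : K), a ∈ M i → b ∈ M j → a * b ∈ M (i + j)) :
    (∀ φ ψ : WittVector p K, (∀ n : ℕ, φ.coeff n ∈ M (p ^ n)) → (∀ n : ℕ, ψ.coeff n ∈ M (p ^ n)) →
        ∀ n : ℕ, (φ + ψ).coeff n ∈ M (p ^ n)) ∧
      (∀ (x : WittVector p A) (φ : WittVector p K), (∀ n : ℕ, φ.coeff n ∈ M (p ^ n)) →
        ∀ n : ℕ, (WittVector.map (algebraMap A K) x * φ).coeff n ∈ M (p ^ n)) := by
  classical
  have hp0 : p ≠ 0 := (Fact.out : p.Prime).ne_zero
  let N : ℕ → AddSubgroup K := fun i => (M i).toAddSubgroup
  have hmulN : ∀ (i j : ℕ) (a b : K), a ∈ N i → b ∈ N j → a * b ∈ N (i + j) := hmul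
  constructor
  · intro φ ψ hφ hψ n
    rw [WittVector.add_coeff, WittVector.peval]
    have hpn : 0 < p ^ n := pow_pos (Nat.pos_of_ne_zero hp0) n
    refine Groth.Agent.Lib.Helper9.aeval_mem_of_isWeightedHomogeneous N
      (Groth.Agent.Lib.Helper9.wittWeight p ![1, 1]) (Function.uncurry ![φ.coeff, ψ.coeff])
      hmulN ?_ ?_ (WittVector.wittAdd p n) (p ^ n) hpn
      (Groth.Agent.Lib.Helper9.isWeightedHomogeneous_wittAdd p n)
    · rintro ⟨j, i⟩ _
      fin_cases j
      · simpa [Groth.Agent.Lib.Helper9.wittWeight, N] using hφ i
      · simpa [Groth.Agent.Lib.Helper9.wittWeight, N] using hψ i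
    · rintro ⟨j, i⟩ h
      exfalso
      fin_cases j <;> simp [Groth.Agent.Lib.Helper9.wittWeight, hp0] at h
  · intro x φ hφ n
    rw [WittVector.mul_coeff, WittVector.peval]
    have hpn : 0 < p ^ n := pow_pos (Nat.pos_of_ne_zero hp0) n
    refine Groth.Agent.Lib.Helper9.aeval_mem_of_isWeightedHomogeneous N
      (Groth.Agent.Lib.Helper9.wittWeight p ![0, 1])
      (Function.uncurry ![(WittVector.map (algebraMap A K) x).coeff, φ.coeff])
      hmulN ?_ ?_ (WittVector.wittMul p n) (p ^ n) hpn
      (Groth.Agent.Lib.Helper9.isWeightedHomogeneous_wittMul_right p n)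
    · rintro ⟨j, i⟩ h
      fin_cases j
      · simp [Groth.Agent.Lib.Helper9.wittWeight] at h
      · simpa [Groth.Agent.Lib.Helper9.wittWeight, N] using hφ i
    · rintro ⟨j, i⟩ h i' k hk
      fin_cases j
      · have : Function.uncurry ![(WittVector.map (algebraMap A K) x).coeff, φ.coeff]
            ((0 : Fin 2), i) * k = (x.coeff i) • k := by
          simp [WittVector.map_coeff, Algebra.smul_def]
        rw [show ((⟨0, by omega⟩ : Fin 2), i) = ((0 : Fin 2), i) from rfl, this]
        exact (M i').smul_mem _ hk
      · exfalso
        simp [Groth.Agent.Lib.Helper9.wittWeight, hp0] at h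

end Groth.Agent.S18590
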