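import Groth.Statements.S18598
import Mathlib

set_option autoImplicit false
universe u
open SSRed

namespace Groth.Agent.S18598

open Polynomial in
/-- `(α - 1)^φ(m)` divides `Φ_m(1)` for a primitive `m`-th root of unity `α` in a domain. -/
theorem sub_one_pow_totient_dvd {O : Type*} [CommRing O] [IsDomain O] {α : O} {m : ℕ}
    (hm : 0 < m) (hα : IsPrimitiveRoot α m) :
    (α - 1) ^ (Nat.totient m) ∣ (cyclotomic m O).eval 1 := by
  have : NeZero m := ⟨hm.ne'⟩
  rw [cyclotomic_eq_prod_X_sub_primitiveRoots hα, eval_prod, ← hα.card_primitiveRoots,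
    ← Finset.prod_const]
  apply Finset.prod_dvd_prod_of_dvd
  intro μ hμ
  rw [mem_primitiveRoots hm] at hμ
  obtain ⟨i, -, -, rfl⟩ := (hα.isPrimitiveRoot_iff).mp hμ
  simp only [eval_sub, eval_X, eval_C]
  have h1 : α - 1 ∣ α ^ i - 1 := by
    have := sub_dvd_pow_sub_pow α 1 i
    rwa [one_pow] at this
  have h2 : (1 : O) - α ^ i = -(α ^ i - 1) := by ring
  rw [h2]
  exact (dvd_neg).mpr h1

/-- Divisibility of natural numbers can be tested in a characteristic-zero domain in which no prime
factor of the divisor is invertible. -/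
theorem nat_dvd_of_cast_dvd {O : Type*} [CommRing O] [IsDomain O] [CharZero O] {A B : ℕ}
    (hA : ∀ q : ℕ, q.Prime → q ∣ A → ¬ IsUnit (q : O)) (hB : B ≠ 0)
    (h : (A : O) ∣ (B : O)) : A ∣ B := by
  obtain ⟨A', B', hcop, hA', hB'⟩ := Nat.exists_coprime A B
  set g := Nat.gcd A B with hg
  have hg0 : g ≠ 0 := by
    intro h0
    rw [h0, mul_zero] at hB'
    exact hB hB'
  have hdvd : (A' : O) ∣ (B' : O) := by
    have : (A' : O) * (g : O) ∣ (B' : O) * (g : O) := by
      have h' := h
      rw [hA', hB'] at h'
      push_cast at h'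
      exact h'
    exact (mul_dvd_mul_iff_right (Nat.cast_ne_zero.mpr hg0)).mp this
  have hcopO : IsCoprime (A' : O) (B' : O) := by
    have := (Nat.isCoprime_iff_coprime.mpr hcop).map (Int.castRingHom O)
    simpa using this
  have hunit : IsUnit (A' : O) := hcopO.isUnit_of_dvd' dvd_rfl hdvd
  have hA1 : A' = 1 := by
    by_contra hne
    obtain ⟨q, hq, hqA'⟩ := Nat.exists_prime_and_dvd hne
    apply hA q hq (hqA'.trans (Dvd.intro _ hA'.symm))
    exact isUnit_of_dvd_unit (Nat.cast_dvd_cast hqA') hunit
  rw [hA1, one_mul] at hA'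
  rw [hA']
  exact Nat.gcd_dvd_right A B


/-- Let O be a commutative integral domain of characteristic zero, n a positive integer such that no
prime number dividing n is a unit in O, and α an element of O of finite multiplicative order such
that (α − 1)² is divisible by n in O. Then α = 1 if n ≥ 5, α² = 1 if n = 4, α³ = 1 if n = 3, and α⁴
= 1 if n = 2. -/
theorem result (O : Type u) [CommRing O] [IsDomain O] [CharZero O]
    (n : ℕ) (hn : 0 < n) (hO : ∀ p : ℕ, p.Prime → p ∣ n → ¬ IsUnit (p : O))
    (α : O) (hα : IsOfFinOrder α) (h : (n : O) ∣ (α - 1) ^ 2) :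
    (5 ≤ n → α = 1) ∧ (n = 4 → α ^ 2 = 1) ∧ (n = 3 → α ^ 3 = 1) ∧ (n = 2 → α ^ 4 = 1) := by
  classical
  set m := orderOf α with hm
  have hmpos : 0 < m := hα.orderOf_pos
  have hprim : IsPrimitiveRoot α m := IsPrimitiveRoot.orderOf α
  have hfinish : ∀ d : ℕ, m ∣ d → α ^ d = 1 := fun d hd => orderOf_dvd_iff_pow_eq_one.mp hd
  -- trivial case m = 1
  by_cases hm1 : m = 1
  · have hα1 : α = 1 := by
      have := hfinish 1 (by rw [hm1])
      simpa using this
    subst hα1
    simp
  -- key divisibility
  have hkey : ∀ c : ℕ, c ≠ 0 → (Polynomial.cyclotomic m O).eval 1 = (c : O) →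
      n ^ (Nat.totient m) ∣ c ^ 2 := by
    intro c hc hcyc
    apply nat_dvd_of_cast_dvd (O := O)
    · intro q hq hqn
      exact hO q hq (hq.dvd_of_dvd_pow hqn)
    · exact pow_ne_zero _ hc
    · push_cast
      have h1 := sub_one_pow_totient_dvd hmpos hprim
      rw [hcyc] at h1
      calc (n : O) ^ (Nat.totient m) ∣ ((α - 1) ^ 2) ^ (Nat.totient m) := pow_dvd_pow_of_dvd h _
        _ = ((α - 1) ^ (Nat.totient m)) ^ 2 := by rw [← pow_mul, ← pow_mul, mul_comm]
        _ ∣ (c : O) ^ 2 := pow_dvd_pow_of_dvd h1 _
  have hφpos : 0 < Nat.totient m := Nat.totient_pos.mpr hmpos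
  by_cases hpp : ∃ p k : ℕ, p.Prime ∧ p ^ k = m
  · obtain ⟨p, k, hp, hpk⟩ := hpp
    have : Fact p.Prime := ⟨hp⟩
    obtain ⟨k, rfl⟩ : ∃ k', k = k' + 1 := by
      rcases k with _ | k'
      · exfalso; apply hm1; rw [← hpk, pow_zero]
      · exact ⟨k', rfl⟩
    have hcyc : (Polynomial.cyclotomic m O).eval 1 = (p : O) := by
      rw [← hpk]; exact Polynomial.eval_one_cyclotomic_prime_pow k
    have hdiv := hkey p hp.ne_zero hcyc
    rw [← hpk, Nat.totient_prime_pow_succ hp] at hdiv
    -- n divides p^2
    have hp2 : 2 ≤ p := hp.two_le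
    have hφ1 : 1 ≤ p ^ k * (p - 1) := by
      have : 0 < p ^ k * (p - 1) := Nat.mul_pos (pow_pos hp.pos _) (by omega)
      omega
    have hndvd : n ∣ p ^ 2 := (dvd_pow_self n (by omega)).trans hdiv
    obtain ⟨e, he2, hne⟩ := (Nat.dvd_prime_pow hp).mp hndvd
    rw [hne, ← pow_mul] at hdiv
    have hle : e * (p ^ k * (p - 1)) ≤ 2 := (Nat.pow_dvd_pow_iff_le_right hp.one_lt).mp hdiv
    have hmd : ∀ d : ℕ, p ^ (k + 1) ∣ d → α ^ d = 1 := fun d hd => hfinish d (hpk ▸ hd)
    have hpk1 : 1 ≤ p ^ k := Nat.one_le_pow _ _ hp.pos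
    refine ⟨?_, ?_, ?_, ?_⟩
    · intro h5
      exfalso
      have hmul : p - 1 ≤ p ^ k * (p - 1) := Nat.le_mul_of_pos_left _ (by omega)
      interval_cases e
      · simp at hne; omega
      · simp only [pow_one] at hne
        omega
      · have h3 : p = 2 := by omega
        rw [h3] at hne
        omega
    · intro h4
      have hp' : p = 2 := by
        have : p ∣ 4 := by
          rcases e with _ | e
          · simp at hne; omega
          · rw [h4] at hne; rw [hne, pow_succ]; exact Dvd.intro_left _ rfl
        have : p ∣ 2 ^ 2 := by simpa using this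
        exact (Nat.prime_dvd_prime_iff_eq hp Nat.prime_two).mp (hp.dvd_of_dvd_pow this)
      subst hp'
      have he : e = 2 := by
        have : (2:ℕ) ^ e = 2 ^ 2 := by rw [← hne, h4]; norm_num
        exact Nat.pow_right_injective (le_refl 2) this
      subst he
      have hk0 : k = 0 := by
        by_contra hk
        have : 2 ≤ 2 ^ k := by
          calc 2 = 2 ^ 1 := by norm_num
            _ ≤ 2 ^ k := Nat.pow_le_pow_right (by norm_num) (by omega)
        simp at hle
        omega
      subst hk0
      exact hmd 2 (by norm_num)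
    · intro h3
      have hp' : p = 3 := by
        have : p ∣ 3 := by
          rcases e with _ | e
          · simp at hne; omega
          · rw [h3] at hne; rw [hne, pow_succ]; exact Dvd.intro_left _ rfl
        exact (Nat.prime_dvd_prime_iff_eq hp Nat.prime_three).mp this
      subst hp'
      have he : e = 1 := by
        have : (3:ℕ) ^ e = 3 ^ 1 := by rw [← hne, h3]; norm_num
        exact Nat.pow_right_injective (by norm_num) this
      subst he
      have hk0 : k = 0 := by
        by_contra hk
        have : 3 ≤ 3 ^ k := by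
          calc 3 = 3 ^ 1 := by norm_num
            _ ≤ 3 ^ k := Nat.pow_le_pow_right (by norm_num) (by omega)
        simp at hle
        omega
      subst hk0
      exact hmd 3 (by norm_num)
    · intro h2
      have hp' : p = 2 := by
        have : p ∣ 2 := by
          rcases e with _ | e
          · simp at hne; omega
          · rw [h2] at hne; rw [hne, pow_succ]; exact Dvd.intro_left _ rfl
        exact (Nat.prime_dvd_prime_iff_eq hp Nat.prime_two).mp this
      subst hp'
      have hk1 : k ≤ 1 := by
        by_contra hk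
        have : 4 ≤ 2 ^ k := by
          calc 4 = 2 ^ 2 := by norm_num
            _ ≤ 2 ^ k := Nat.pow_le_pow_right (by norm_num) (by omega)
        have he : e = 1 := by
          have : (2:ℕ) ^ e = 2 ^ 1 := by rw [← hne, h2]; norm_num
          exact Nat.pow_right_injective (le_refl 2) this
        subst he
        simp at hle
        omega
      interval_cases k
      · exact hmd 4 (by norm_num)
      · exact hmd 4 (by norm_num)
  · -- not a prime power: n = 1
    push Not at hpp
    have hcyc : (Polynomial.cyclotomic m O).eval 1 = ((1 : ℕ) : O) := by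
      rw [Nat.cast_one]
      exact Polynomial.eval_one_cyclotomic_not_prime_pow (fun {p} hp k => hpp p k hp)
    have hdiv := hkey 1 one_ne_zero hcyc
    rw [one_pow, Nat.dvd_one] at hdiv
    have hn1 : n = 1 := by
      rcases Nat.pow_eq_one.mp hdiv with h1 | h1
      · exact h1
      · omega
    subst hn1
    refine ⟨fun h => ?_, fun h => ?_, fun h => ?_, fun h => ?_⟩ <;> omega

end Groth.Agent.S18598
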