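import Groth.Statements.S1861
import Groth.Agent.Lib.Helper21.BaseChg7
-- import your own Groth.Agent.* helpers here

set_option autoImplicit false
universe u
open CategoryTheory AlgebraicGeometry
open Cyc

namespace Groth.Agent.S1861

/-- Let f : X → Y be flat, locally of finite type, of relative dimension r, y a point of Y and x a point
of X that is generic in an irreducible component of f⁻¹ of the closure of y (that is, x lies in that
closed set and has no proper generalization in it). Then f(x) = y and δX(x) = δY(y) + r. Here a pair
(X, δ) with Cyc.IsSetup plays the role of a scheme locally of finite type over a fixed base with a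
dimension function (X locally Noetherian with universally catenary local rings, δ a dimension
function), and Cyc.DeltaCompat records that the dimension function upstairs is the induced one. -/
theorem result (X Y : Scheme.{u}) (δX : X → ℤ) (δY : Y → ℤ) (hX : Cyc.IsSetup X δX) (hY : Cyc.IsSetup Y δY) (f : X ⟶ Y) [Flat f] [LocallyOfFiniteType f] (r : ℕ) (hr : Cyc.HasRelDim f r) (hδ : Cyc.DeltaCompat f δX δY) (y : Y) (x : X) (hx : f x ∈ closure ({y} : Set Y)) (hmax : ∀ x' : X, f x' ∈ closure ({y} : Set Y) → x' ⤳ x → x' = x) : f x = y ∧ δX x = δY y + r := by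
  have h1 : y ⤳ f x := specializes_iff_mem_closure.mpr hx
  have hfx : f x = y := by
    obtain ⟨x', hx', hx'y⟩ := Flat.generalizingMap f h1
    have h2 := hmax x' (by rw [hx'y]; exact subset_closure rfl) hx'
    rw [← h2, hx'y]
  refine ⟨hfx, ?_⟩
  have hmax' : ∀ x'' : X, x'' ⤳ x → f x'' = f x → x'' = x := by
    intro x'' hsp hp
    exact hmax x'' (by rw [hp, hfx]; exact subset_closure rfl) hsp
  obtain ⟨c, hc1, hc2⟩ := Groth.Agent.Lib.Helper21.FibDim.fibreDimAt_eq_trdeg_of_maximal f x hmax'
  have hcr : c = r := by
    have h3 := Groth.Agent.Lib.Helper21.BaseChg.fibreDimAt_eq_of_components' f x hmax' r (hr (f x))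
    rw [hc1] at h3
    exact_mod_cast h3
  obtain ⟨n, hn1, hn2⟩ := hδ x
  have hnc : n = c := by
    have h4 : (n : Cardinal.{u}) = c := by rw [← hn1, ← hc2]
    exact_mod_cast h4
  rw [hn2, hfx, hnc, hcr]

end Groth.Agent.S1861
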