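import Groth.Statements.S18614
import Mathlib
import Groth.Agent.Lib.Helper9.LinTop

set_option autoImplicit false
universe u v
open LinTop

namespace Groth.Agent.S18614

/-- Let k be a field carrying the discrete topology and M a separated topological k-module with a
k-linear topology (the open k-submodules form a basis of neighbourhoods of zero and M is a
topological additive group). For a closed submodule M₁, the perpendicular of the perpendicular of
M₁, both taken with respect to the pairing of M with its continuous dual (the continuous k-linear
maps M → k), is M₁ itself: an element killed by every continuous functional vanishing on M₁ belongs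
to M₁. -/
theorem result (k : Type u) (M : Type v) [Field k]
    [TopologicalSpace k] [DiscreteTopology k] [AddCommGroup M] [Module k M] [TopologicalSpace M]
    [IsTopologicalAddGroup M] [IsLinearTopology k M] [T2Space M]
    (M₁ : Submodule k M) (hM₁ : IsClosed (M₁ : Set M)) (x : M)
    (hx : ∀ φ : M →L[k] k, (∀ m ∈ M₁, φ m = 0) → φ x = 0) : x ∈ M₁ := by
  classical
  by_contra hxM
  -- an open submodule U with (x + U) ∩ M₁ = ∅
  have hnhds : {y : M | x + y ∉ M₁} ∈ nhds (0 : M) := by
    have hcont : Continuous fun y : M => x + y := continuous_const.add continuous_id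
    have hopen : IsOpen {y : M | x + y ∉ M₁} := hM₁.isOpen_compl.preimage hcont
    exact hopen.mem_nhds (by simpa using hxM)
  obtain ⟨U, hU, hUsub⟩ := (IsLinearTopology.hasBasis_submodule k).mem_iff.mp hnhds
  have hxU : x ∉ M₁ ⊔ U := by
    intro hmem
    obtain ⟨m, hm, u, hu, hmu⟩ := Submodule.mem_sup.mp hmem
    have h1 : x + (-u) ∉ M₁ := hUsub (U.neg_mem hu)
    apply h1
    have : x + -u = m := by rw [← hmu]; abel
    rw [this]; exact hm
  obtain ⟨f, hfx, hfker⟩ := Submodule.exists_le_ker_of_notMem hxU
  have hcont : Continuous f :=
    Groth.Agent.Lib.Helper9.LinTop.continuous_of_le_ker f U hU (le_sup_right.trans hfker)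
  exact hfx (hx ⟨f, hcont⟩ fun m hm => hfker (le_sup_left (a := M₁) (b := U) hm))

end Groth.Agent.S18614
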