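import Groth.Statements.S18615
import Mathlib
import Groth.Agent.Lib.Helper9.LinTop

set_option autoImplicit false
universe u v
open LinTop

namespace Groth.Agent.S18615

/-- Let k be a field carrying the discrete topology and M a separated topological k-module with a
k-linear topology (open k-submodules form a basis of neighbourhoods of zero, M a topological
additive group). For closed submodules M₁ ⊆ M₂ there is a short exact sequence 0 → M₂^⊥ → M₁^⊥ →
(M₂/M₁)^* → 0 of plain k-modules, where ⊥ denotes the annihilator in the continuous dual of M and *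
the continuous dual. Stated here as its one non-formal part, surjectivity on the right: every
continuous functional on M₂ (subspace topology) that vanishes on M₁ is the restriction of a
continuous functional on M vanishing on M₁ (continuous functionals on M₂/M₁ being the continuous
functionals on M₂ that kill M₁). -/
theorem result (k : Type u) (M : Type v) [Field k]
    [TopologicalSpace k] [DiscreteTopology k] [AddCommGroup M] [Module k M] [TopologicalSpace M]
    [IsTopologicalAddGroup M] [IsLinearTopology k M] [T2Space M]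
    (M₁ M₂ : Submodule k M) (h₁₂ : M₁ ≤ M₂) (hM₁ : IsClosed (M₁ : Set M))
    (hM₂ : IsClosed (M₂ : Set M)) (ψ : M₂ →L[k] k)
    (hψ : ∀ m : M₂, (m : M) ∈ M₁ → ψ m = 0) :
    ∃ φ : M →L[k] k, (∀ m ∈ M₁, φ m = 0) ∧ ∀ m : M₂, φ (m : M) = ψ m := by
  classical
  -- ker ψ is open in M₂, so contains U ∩ M₂ for an open submodule U
  have hker : {m : M₂ | ψ m = 0} ∈ nhds (0 : M₂) := by
    have hopen : IsOpen {m : M₂ | ψ m = 0} :=
      (isOpen_discrete ({0} : Set k)).preimage ψ.continuous
    exact hopen.mem_nhds (by simp)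
  rw [nhds_subtype_eq_comap, Filter.mem_comap] at hker
  obtain ⟨t, ht, hts⟩ := hker
  obtain ⟨U, hU, hUt⟩ := (IsLinearTopology.hasBasis_submodule k).mem_iff.mp ht
  have hUψ : ∀ m : M₂, (m : M) ∈ U → ψ m = 0 := fun m hm => hts (hUt hm)
  -- the submodule M₁ ⊔ U; define functional on (M₁ ⊔ U) ⊔ M₂ ... we use quotient
  let N : Submodule k M := M₁ ⊔ U
  have hNψ : ∀ m : M₂, (m : M) ∈ N → ψ m = 0 := by
    intro m hm
    obtain ⟨a, ha, u, hu, hau⟩ := Submodule.mem_sup.mp hm
    have ha2 : a ∈ M₂ := h₁₂ ha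
    have hu2 : u ∈ M₂ := by
      have : u = (m : M) - a := by rw [← hau]; abel
      rw [this]; exact M₂.sub_mem m.2 ha2
    have : m = ⟨a, ha2⟩ + ⟨u, hu2⟩ := Subtype.ext hau.symm
    rw [this, map_add, hψ ⟨a, ha2⟩ ha, hUψ ⟨u, hu2⟩ hu, add_zero]
  let ι : M₂ →ₗ[k] (M ⧸ N) := N.mkQ.comp M₂.subtype
  have hιker : LinearMap.ker ι ≤ LinearMap.ker (ψ : M₂ →ₗ[k] k) := by
    intro m hm
    rw [LinearMap.mem_ker] at hm ⊢
    have : (m : M) ∈ N := by
      simpa [ι, Submodule.Quotient.mk_eq_zero] using hm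
    exact hNψ m this
  let ψ₁ : (M₂ ⧸ LinearMap.ker ι) →ₗ[k] k := (LinearMap.ker ι).liftQ (ψ : M₂ →ₗ[k] k) hιker
  let ψ₂ : LinearMap.range ι →ₗ[k] k := ψ₁.comp (LinearMap.quotKerEquivRange ι).symm.toLinearMap
  obtain ⟨g, hg⟩ := LinearMap.exists_extend ψ₂
  let f : M →ₗ[k] k := g.comp N.mkQ
  have hfN : N ≤ LinearMap.ker f := by
    intro n hn
    rw [LinearMap.mem_ker]
    simp only [f, LinearMap.comp_apply, Submodule.mkQ_apply]
    rw [(Submodule.Quotient.mk_eq_zero N).mpr hn, map_zero]
  have hcont : Continuous f :=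
    Groth.Agent.Lib.Helper9.LinTop.continuous_of_le_ker f U hU (le_sup_right.trans hfN)
  refine ⟨⟨f, hcont⟩, fun m hm => hfN (le_sup_left (a := M₁) (b := U) hm), fun m => ?_⟩
  change g (N.mkQ (m : M)) = ψ m
  have h1 : N.mkQ (m : M) = ((⟨ι m, LinearMap.mem_range_self ι m⟩ : LinearMap.range ι) : M ⧸ N) := rfl
  rw [h1]
  have h2 := congrArg (fun h => h ⟨ι m, LinearMap.mem_range_self ι m⟩) hg
  simp only [LinearMap.comp_apply, Submodule.subtype_apply] at h2
  rw [h2]
  simp only [ψ₂, LinearMap.comp_apply, LinearEquiv.coe_coe]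
  have h3 : (LinearMap.quotKerEquivRange ι).symm ⟨ι m, LinearMap.mem_range_self ι m⟩ =
      (LinearMap.ker ι).mkQ m := by
    rw [LinearEquiv.symm_apply_eq]
    apply Subtype.ext
    simp [LinearMap.quotKerEquivRange_apply_mk]
  rw [h3]
  simp [ψ₁]

end Groth.Agent.S18615
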