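import Groth.Statements.S1862
import Groth.Agent.Lib.Helper21.GenFin2
import Groth.Agent.Lib.Helper3.Noetherian
-- import your own Groth.Agent.* helpers here

set_option autoImplicit false
universe u
open CategoryTheory AlgebraicGeometry
open Cyc

namespace Groth.Agent.S1862

/-- Let f : X → Y be a morphism locally of finite type of integral schemes with δX(η_X) = δY(η_Y). Then
either the image of f is not dense, or f maps the generic point to the generic point and the induced
extension of residue fields there (the function fields) is finite. Here a pair (X, δ) with
Cyc.IsSetup plays the role of a scheme locally of finite type over a fixed base with a dimension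
function (X locally Noetherian with universally catenary local rings, δ a dimension function), and
Cyc.DeltaCompat records that the dimension function upstairs is the induced one. -/
theorem result (X Y : Scheme.{u}) [IsIntegral X] [IsIntegral Y] (δX : X → ℤ) (δY : Y → ℤ) (hX : Cyc.IsSetup X δX) (hY : Cyc.IsSetup Y δY) (f : X ⟶ Y) [LocallyOfFiniteType f] (hδ : Cyc.DeltaCompat f δX δY) (heq : δX (genericPoint X) = δY (genericPoint Y)) : ¬ Dense (Set.range f) ∨ (f (genericPoint X) = genericPoint Y ∧ (f.residueFieldMap (genericPoint X)).hom.Finite) := by
  by_cases hd : Dense (Set.range f)
  swap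
  · exact Or.inl hd
  right
  have : IsDominant f := ⟨hd⟩
  have hgen : f (genericPoint X) = genericPoint Y :=
    Groth.Agent.Lib.Helper21.GenFin.map_genericPoint f
  refine ⟨hgen, ?_⟩
  obtain ⟨n, hn1, hn2⟩ := hδ (genericPoint X)
  have hn0 : n = 0 := by
    rw [hgen, heq] at hn2
    omega
  subst hn0
  have hess := Groth.Agent.Lib.Helper3.essFiniteType_residueFieldMap f (genericPoint X)
  algebraize [(f.residueFieldMap (genericPoint X)).hom]
  have halg : Algebra.IsAlgebraic (Y.residueField (f (genericPoint X)))
      (X.residueField (genericPoint X)) := by
    rw [← trdeg_eq_zero_iff]
    exact_mod_cast hn1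
  obtain ⟨s, hs⟩ := IntermediateField.fg_top (Y.residueField (f (genericPoint X)))
    (X.residueField (genericPoint X))
  have h1 : FiniteDimensional (Y.residueField (f (genericPoint X)))
      (IntermediateField.adjoin (Y.residueField (f (genericPoint X)))
        ((s : Set (X.residueField (genericPoint X))))) :=
    IntermediateField.finiteDimensional_adjoin (fun x _ => (halg.isAlgebraic x).isIntegral)
  rw [hs] at h1
  have h2 : Module.Finite (Y.residueField (f (genericPoint X)))
      (X.residueField (genericPoint X)) :=
    Module.Finite.equiv (IntermediateField.topEquiv (F := Y.residueField (f (genericPoint X)))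
      (E := X.residueField (genericPoint X))).toLinearEquiv
  exact h2

end Groth.Agent.S1862
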