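import Groth.Statements.S18637
import Mathlib
import Groth.Agent.Lib.Helper11.GrCoreI
import Groth.Agent.Lib.Helper11.GrLCPrime

set_option autoImplicit false
universe u
open GrLC

namespace Groth.Agent.S18637

/-- Let R be a commutative Noetherian ℤ-graded ring and m a maximal ideal of R which is graded. If e :
R/m → E is a *injective envelope of R/m in the category of graded R-modules (E graded and
*injective, e degree-preserving and injective, every nonzero graded submodule of E meeting the
image), then e is an injective hull of R/m as an ordinary R-module: E is an injective R-module and e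
is an essential injection. -/
theorem result (R : Type u) [CommRing R] [IsNoetherianRing R] (𝒜 : ℤ → AddSubgroup R) [GradedRing 𝒜] (m : HomogeneousIdeal 𝒜) [m.toIdeal.IsMaximal] (E' : Type u) [AddCommGroup E'] [Module R E'] (𝓔 : ℤ → AddSubgroup E') [DirectSum.Decomposition 𝓔] [SetLike.GradedSMul 𝒜 𝓔] (e : (R ⧸ m.toIdeal) →ₗ[R] E') (he : GrLC.IsStarInjHull 𝒜 (GrLC.quotGr 𝒜 m) 𝓔 e) : InjHull.IsInjectiveHull e := by
  have hess : InjHull.IsEssentialInj e :=
    Groth.Agent.Lib.Helper11.GrLCLib.isEssentialInj_quotGr 𝒜 𝓔 m he.toIsStarEss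
  refine ⟨hess, ?_⟩
  by_contra hni
  obtain ⟨p, hp, hph, hass⟩ :=
    (Groth.Agent.Lib.Helper11.GrCore.not_injective_iff_of_isStarInj_int 𝒜 𝓔 he.starInj).1 hni
  have hPprime : (Ideal.homogeneousCore 𝒜 p).toIdeal.IsPrime := Ideal.IsPrime.homogeneousCore hp
  have hmprime : m.toIdeal.IsPrime := Ideal.IsMaximal.isPrime inferInstance
  rw [AssociatedPrimes.mem_iff, isAssociatedPrime_iff] at hass
  obtain ⟨_, z, hz⟩ := hass
  have hann : ∀ r : R, r • z = 0 ↔ r ∈ (Ideal.homogeneousCore 𝒜 p).toIdeal := by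
    intro r
    rw [hz, Submodule.mem_colon_singleton, Submodule.mem_bot]
  have hz0 : z ≠ 0 := by
    intro h0
    have : (1 : R) ∈ (Ideal.homogeneousCore 𝒜 p).toIdeal := (hann 1).1 (by rw [h0, smul_zero])
    exact hPprime.ne_top ((Ideal.eq_top_iff_one _).2 this)
  have heq := Groth.Agent.Lib.Helper11.GrLCLib.eq_of_annihilator_prime m.toIdeal hess
    (Ideal.homogeneousCore 𝒜 p).toIdeal z hz0 hann
  have hle : m.toIdeal ≤ p := heq ▸ Ideal.toIdeal_homogeneousCore_le 𝒜 p
  have hpm : p = m.toIdeal :=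
    (Ideal.IsMaximal.eq_of_le inferInstance hp.ne_top hle).symm
  exact hph (hpm ▸ m.isHomogeneous)

end Groth.Agent.S18637
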