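import Groth.Statements.S18643
import Mathlib
import Mathlib
import Groth.Agent.Lib.Helper11.GrVerN
import Groth.Agent.Lib.Helper11.GrHilbB
import Groth.Agent.S18641
import Groth.Agent.S18655

set_option autoImplicit false
universe u
open GrLC

namespace Groth.Agent.S18643

/-- Let R be a graded ring defined over a field k = R_0 which is Gorenstein and generated over k by R_1,
with dim R ≥ 1 and dim_k R_1 ≥ 2, and let q ≥ 1. Then the Veronese subring R^(q) is a Gorenstein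
ring if and only if q divides the a-invariant a(R). Here 'graded ring defined over a field' means R
= ⊕_{n ≥ 0} R_n is Noetherian with R_0 a field, and m = R_+ is its unique graded maximal ideal. The
a-invariant a(R) is the largest degree in which the graded local cohomology H^n_m(R) (n = dim R, m =
R_+), computed from a *injective resolution of R in the graded category, is nonzero. The Veronese
subring R^(q) = ⊕_j R_{jq}, regraded by (R^(q))_j = R_{jq}, is presented abstractly as a ℤ-graded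
ring R' with an injective ring homomorphism φ : R' → R carrying R'_j onto R_{jq} for every j. -/
theorem result (R : Type u) [CommRing R] [LocCoh.IsGorensteinRing R] (𝒜 : ℤ → AddSubgroup R) [GradedRing 𝒜] (hpos : ∀ n : ℤ, n < 0 → 𝒜 n = ⊥) (h0 : IsField (GrLC.deg0 𝒜)) (m : HomogeneousIdeal 𝒜) (hm : GrLC.IsStarLocal 𝒜 m) (hmsp : m.toIdeal = Ideal.span (⋃ n ∈ Set.Ioi (0 : ℤ), (𝒜 n : Set R))) (hstd : Ideal.span (⋃ n ∈ Set.Ioi (0 : ℤ), (𝒜 n : Set R)) = Ideal.span ((𝒜 1 : AddSubgroup R) : Set R)) (hR1 : 2 ≤ Module.finrank (GrLC.deg0 𝒜) (GrLC.comp 𝒜 𝒜 1)) (n : ℕ) (hn : ringKrullDim R = n) (h1 : 1 ≤ n) (I : GrLC.StarInjRes 𝒜 𝒜) (a : ℤ) (ha : GrLC.endDeg (I.Hgr m n) = ((a : WithTop ℤ) : WithBot (WithTop ℤ))) (q : ℕ) (hq : 0 < q) (R' : Type u) [CommRing R'] (𝒜' : ℤ → AddSubgroup R') [GradedRing 𝒜'] (φ : R' →+* R) (hφ : Function.Injective φ) (hdeg : ∀ j : ℤ, (𝒜' j).map (φ : R' →+ R) = 𝒜 (j * q)) : LocCoh.IsGorensteinRing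 R' ↔ (q : ℤ) ∣ a := by
  constructor
  swap
  · intro hdvd
    exact Groth.Agent.S18641.result R 𝒜 hpos h0 m hm hmsp n hn I a ha q hq R' 𝒜' φ hφ hdeg hdvd
  intro hGR'
  have hn1 : 1 ≤ n := h1
  set m' : HomogeneousIdeal 𝒜' := Groth.Agent.Lib.Helper11.GrField.irrelevant 𝒜' with hm'def
  have hm'sp : m'.toIdeal = Ideal.span (⋃ j ∈ Set.Ioi (0 : ℤ), (𝒜' j : Set R')) := rfl
  have hq' : (q : ℤ) ≠ 0 := by exact_mod_cast hq.ne'
  have hR : Groth.Agent.Lib.Helper11.GrVer.IsVerRing 𝒜 𝒜' φ (AddMonoidHom.mulRight (q : ℤ)) :=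
    ⟨hφ, fun a b h => mul_right_cancel₀ hq' h, fun j => hdeg j⟩
  have hφm : ∀ (j : ℤ) (r : R'), r ∈ 𝒜' j → φ r ∈ 𝒜 (j * q) := by
    intro j r hr
    rw [← hdeg j]
    exact ⟨r, hr, rfl⟩
  have h1 : m'.toIdeal.map φ ≤ m.toIdeal := by
    rw [hm'sp, Ideal.map_span, Ideal.span_le]
    rintro _ ⟨r, hr, rfl⟩
    simp only [Set.mem_iUnion, Set.mem_Ioi] at hr
    obtain ⟨j, hj, hr⟩ := hr
    rw [hmsp]
    apply Ideal.subset_span
    simp only [Set.mem_iUnion, Set.mem_Ioi]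
    exact ⟨j * q, mul_pos hj (by exact_mod_cast hq), hφm j r hr⟩
  have h2 : ∃ K, m.toIdeal ^ K ≤ m'.toIdeal.map φ := by
    apply Ideal.exists_pow_le_of_le_radical_of_fg _ (IsNoetherian.noetherian _)
    rw [hmsp, Ideal.span_le]
    intro y hy
    simp only [Set.mem_iUnion, Set.mem_Ioi] at hy
    obtain ⟨n, hn, hy⟩ := hy
    refine ⟨q, ?_⟩
    have h3 : y ^ q ∈ 𝒜 (q • n) := SetLike.pow_mem_graded q hy
    have h4 : (q • n : ℤ) = n * q := by rw [nsmul_eq_mul, mul_comm]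
    rw [h4, ← hdeg n] at h3
    obtain ⟨r, hr, hry⟩ := h3
    have h5 : (φ : R' →+ R) r = φ r := rfl
    rw [← hry, h5]
    apply Ideal.mem_map_of_mem
    rw [hm'sp]
    apply Ideal.subset_span
    simp only [Set.mem_iUnion, Set.mem_Ioi]
    exact ⟨n, hn, hr⟩
  have hpos' : ∀ j : ℤ, j < 0 → 𝒜' j = ⊥ := by
    intro j hj
    rw [eq_bot_iff]
    intro x hx
    have h3 := hφm j x hx
    rw [hpos (j * q) (mul_neg_of_neg_of_pos hj (by exact_mod_cast hq)), AddSubgroup.mem_bot] at h3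
    rw [AddSubgroup.mem_bot]
    exact hφ (by rw [h3, map_zero])
  have hzero : ∀ x : R, x ∈ 𝒜 0 ↔ ∃ c : GrLC.deg0 𝒜', φ (c : R') = x := by
    intro x
    have h3 := hdeg 0
    rw [zero_mul] at h3
    rw [← h3]
    constructor
    · rintro ⟨r, hr, rfl⟩
      exact ⟨⟨r, hr⟩, rfl⟩
    · rintro ⟨c, rfl⟩
      exact ⟨c, c.2, rfl⟩
  have hF' : IsField (GrLC.deg0 𝒜') := by
    refine ⟨⟨0, 1, ?_⟩, mul_comm, ?_⟩
    · intro h01
      have h3 : (0 : R') = 1 := congrArg Subtype.val h01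
      have h4 : ((0 : GrLC.deg0 𝒜) : R) = ((1 : GrLC.deg0 𝒜) : R) := by
        change (0 : R) = 1
        rw [← map_zero φ, ← map_one φ, h3]
      exact h0.nontrivial.exists_pair_ne.elim (fun a ⟨b, hab⟩ => hab (by
        have h5 : (0 : GrLC.deg0 𝒜) = 1 := Subtype.ext h4
        rw [← mul_one a, ← mul_one b, ← h5, mul_zero, mul_zero]))
    · intro x hx
      have hφx : φ (x : R') ∈ 𝒜 0 := (hzero _).mpr ⟨x, rfl⟩
      have hne : (⟨φ (x : R'), hφx⟩ : GrLC.deg0 𝒜) ≠ 0 := by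
        intro h3
        apply hx
        have h4 : φ (x : R') = 0 := congrArg Subtype.val h3
        exact Subtype.ext (hφ (h4.trans (map_zero φ).symm))
      obtain ⟨y, hy⟩ := h0.mul_inv_cancel hne
      obtain ⟨c, hc⟩ := (hzero (y : R)).mp y.2
      refine ⟨c, ?_⟩
      apply Subtype.ext
      apply hφ
      have h5 : φ (x : R') * (y : R) = 1 := congrArg Subtype.val hy
      change φ ((x : R') * (c : R')) = φ 1
      rw [map_mul, hc, h5, map_one]
  letI : Field (GrLC.deg0 𝒜') := hF'.toField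
  letI algR' : Algebra (GrLC.deg0 𝒜') R' := (GrLC.deg0 𝒜').subtype.toAlgebra
  letI algR : Algebra (GrLC.deg0 𝒜') R := (φ.comp (GrLC.deg0 𝒜').subtype).toAlgebra
  have hφk : ∀ c : GrLC.deg0 𝒜', φ (algebraMap (GrLC.deg0 𝒜') R' c) =
      algebraMap (GrLC.deg0 𝒜') R c := fun c => rfl
  have hk' : Groth.Agent.Lib.Helper11.GrField.IsBase 𝒜' (GrLC.deg0 𝒜') := by
    intro x
    constructor
    · intro hx
      exact ⟨⟨x, hx⟩, rfl⟩
    · rintro ⟨c, rfl⟩
      exact c.2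
  have hk : Groth.Agent.Lib.Helper11.GrField.IsBase 𝒜 (GrLC.deg0 𝒜') := by
    intro x
    rw [hzero x]
    constructor
    · rintro ⟨c, rfl⟩
      exact ⟨c, rfl⟩
    · rintro ⟨c, rfl⟩
      exact ⟨c, rfl⟩
  haveI : Nontrivial R' := by
    refine ⟨⟨0, 1, fun h01 => ?_⟩⟩
    have : (0 : GrLC.deg0 𝒜') = 1 := Subtype.ext h01
    exact hF'.nontrivial.exists_pair_ne.elim (fun a ⟨b, hab⟩ => hab (by
      rw [← mul_one a, ← mul_one b, ← this, mul_zero, mul_zero]))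
  haveI : Nontrivial R := by
    refine ⟨⟨0, 1, fun h01 => ?_⟩⟩
    have : (0 : GrLC.deg0 𝒜) = 1 := Subtype.ext h01
    exact h0.nontrivial.exists_pair_ne.elim (fun a ⟨b, hab⟩ => hab (by
      rw [← mul_one a, ← mul_one b, ← this, mul_zero, mul_zero]))
  haveI hCMR : LocCoh.IsCohenMacaulayRing R :=
    Groth.Agent.Lib.Helper11.GrVer.isCohenMacaulayRing_of_isGorensteinRing R
  have hm' : GrLC.IsStarLocal 𝒜' m' :=
    Groth.Agent.Lib.Helper11.GrField.isStarLocal_irrelevant hk' hpos' m' hm'sp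
  haveI hmax' : m'.toIdeal.IsMaximal :=
    Groth.Agent.Lib.Helper11.GrLes.isMaximal_of_isCoatom 𝒜' hpos' hm'.1
  have hdim' : ringKrullDim R' = n := by
    rw [Groth.Agent.Lib.Helper11.GrVer.ringKrullDim_veronese q hq hR, hn]
  have hht2 := Groth.Agent.Lib.Helper11.GrLes.ringKrullDim_eq_height 𝒜' hpos' hm'
  rw [hdim'] at hht2
  have hht2' : m'.toIdeal.height = (n : ℕ∞) := by
    have : ((m'.toIdeal.height : ℕ∞) : WithBot ℕ∞) = ((n : ℕ∞) : WithBot ℕ∞) := hht2.symm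
    exact_mod_cast this
  have hq' : (0 : ℤ) < q := by exact_mod_cast hq
  have hρ0 : 0 ≤ a % (q : ℤ) := Int.emod_nonneg a hq'.ne'
  have hρq : a % (q : ℤ) < q := Int.emod_lt_of_pos a hq'
  have hρa : (q : ℤ) ∣ a - a % (q : ℤ) := Int.dvd_self_sub_emod
  have hty := Groth.Agent.S18655.result R 𝒜 hpos h0 m hm hmsp hstd n hn I a ha q hq R' 𝒜' φ hφ hdeg
    m' hm'sp (a % (q : ℤ)) hρ0 hρq hρa
  have hone := (Groth.Agent.Lib.Helper11.GrGor.bassNum_gorenstein (R := R') m'.toIdeal n hht2').2.2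
  rw [hone] at hty
  have hfr : Module.finrank (GrLC.deg0 𝒜) (GrLC.comp 𝒜 𝒜 (a % (q : ℤ))) = 1 := by
    exact_mod_cast hty.symm
  have hdimR : 1 ≤ ringKrullDim R := by
    rw [hn]
    exact_mod_cast hn1
  have mono : ∀ t : ℕ, Module.finrank (GrLC.deg0 𝒜) (GrLC.comp 𝒜 𝒜 1) ≤
      Module.finrank (GrLC.deg0 𝒜) (GrLC.comp 𝒜 𝒜 (1 + (t : ℤ))) := by
    intro t
    induction t with
    | zero => simp
    | succ t ih =>
      refine ih.trans ?_
      have := Groth.Agent.Lib.Helper11.GrHilb.finrank_comp_le_succ hpos h0 hstd hdimR (1 + (t : ℤ))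
      have e : (1 + ((t + 1 : ℕ) : ℤ)) = 1 + (t : ℤ) + 1 := by push_cast; ring
      rw [e]
      exact this
  by_cases hρ : a % (q : ℤ) = 0
  · exact Int.dvd_of_emod_eq_zero hρ
  · exfalso
    have hρ1 : 1 ≤ a % (q : ℤ) := by omega
    obtain ⟨t, ht⟩ := Int.eq_ofNat_of_zero_le (by omega : 0 ≤ a % (q : ℤ) - 1)
    have e : a % (q : ℤ) = 1 + (t : ℤ) := by omega
    have := mono t
    rw [← e, hfr] at this
    omega

end Groth.Agent.S18643
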