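import Groth.Statements.S18645
import Mathlib
import Groth.Agent.Lib.Helper11.GrLesH

set_option autoImplicit false
universe u
open GrLC

namespace Groth.Agent.S18645

/-- Let R be a graded ring defined over a field which is Cohen–Macaulay, of dimension n, and let f_1, …,
f_t be an R-regular sequence of homogeneous elements of positive degrees d_1, …, d_t, with S =
R/(f_1, …, f_t). The canonical module of S is (K_R/(f_1, …, f_t)K_R)(d_1 + ⋯ + d_t); consequently —
this is the form stated here — the a-invariants satisfy a(S) = a(R) + d_1 + ⋯ + d_t, where a(S) is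
the largest nonzero degree of H^{n−t}_m(S) and a(R) that of H^n_m(R), both graded local cohomologies
over R with support in m = R_+ computed from *injective resolutions in the graded category, and S is
presented as a graded R-module N with a degree-preserving surjection π : R → N whose kernel is (f_1,
…, f_t). Here 'graded ring defined over a field' means R = ⊕_{n ≥ 0} R_n is Noetherian with R_0 a
field, and m = R_+ is its unique graded maximal ideal. -/
theorem result (R : Type u) [CommRing R] [LocCoh.IsCohenMacaulayRing R] (𝒜 : ℤ → AddSubgroup R) [GradedRing 𝒜] (hpos : ∀ n : ℤ, n < 0 → 𝒜 n = ⊥) (h0 : IsField (GrLC.deg0 𝒜)) (m : HomogeneousIdeal 𝒜) (hm : GrLC.IsStarLocal 𝒜 m) (hmsp : m.toIdeal = Ideal.span (⋃ n ∈ Set.Ioi (0 : ℤ), (𝒜 n : Set R))) (n : ℕ) (hn : ringKrullDim R = n) (I : GrLC.StarInjRes 𝒜 𝒜) (t : ℕ) (htn : t ≤ n) (f : Fin t → R) (deg : Fin t → ℤ) (hfdeg : ∀ i, f i ∈ 𝒜 (deg i)) (hfm : ∀ i, f i ∈ m.toIdeal) (hreg : RingTheory.Sequence.IsRegular R (List.ofFn f)) (N : Type u)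 [AddCommGroup N] [Module R N] (𝒩 : ℤ → AddSubgroup N) [DirectSum.Decomposition 𝒩] [SetLike.GradedSMul 𝒜 𝒩] (π : R →ₗ[R] N) (hπ : GrLC.IsGrHom 𝒜 𝒩 π) (hπs : Function.Surjective π) (hπk : LinearMap.ker π = Ideal.span (Set.range f)) (F : GrLC.StarInjRes 𝒜 𝒩) : GrLC.endDeg (F.Hgr m (n - t)) = GrLC.endDeg (I.Hgr m n) + ((((Finset.univ : Finset (Fin t)).sum deg : ℤ) : WithTop ℤ) : WithBot (WithTop ℤ)) := by
  have hmax := Groth.Agent.Lib.Helper11.GrLes.isMaximal_of_isCoatom 𝒜 hpos hm.1
  have hht := Groth.Agent.Lib.Helper11.GrLes.ringKrullDim_eq_height 𝒜 hpos hm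
  rw [hn] at hht
  have hht' : m.toIdeal.height = (n : ℕ∞) := by
    have : ((m.toIdeal.height : ℕ∞) : WithBot ℕ∞) = ((n : ℕ∞) : WithBot ℕ∞) := hht.symm
    exact_mod_cast this
  have hvan : ∀ i, i < n → Subsingleton (I.H m i) := fun i hi =>
    Groth.Agent.Lib.Helper11.GrLes.subsingleton_H_of_lt_height 𝒜 m hmax I n hht'.ge i hi
  -- the elements of the sequence are nonzero, hence of non-negative degree
  have hne : ∀ i : Fin t, f i ≠ 0 := by
    intro i hfi
    have hlen : (i : ℕ) < (List.ofFn f).length := by rw [List.length_ofFn]; exact i.2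
    have hr := hreg.toIsWeaklyRegular.regular_mod_prev i hlen
    have hget : (List.ofFn f)[(i : ℕ)] = f i := by
      rw [List.getElem_ofFn]
    rw [hget, hfi] at hr
    have hsub : Subsingleton (R ⧸ (Ideal.ofList ((List.ofFn f).take i) • (⊤ : Submodule R R))) := by
      refine ⟨fun a b => hr ?_⟩
      simp
    have htop : Ideal.ofList ((List.ofFn f).take i) • (⊤ : Submodule R R) = ⊤ :=
      Submodule.Quotient.subsingleton_iff.1 hsub
    have hmono : Ideal.ofList ((List.ofFn f).take i) • (⊤ : Submodule R R) ≤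
        Ideal.ofList (List.ofFn f) • (⊤ : Submodule R R) := by
      apply Submodule.smul_mono_left
      apply Ideal.span_mono
      intro r hr'
      exact List.mem_of_mem_take hr'
    rw [htop] at hmono
    exact hreg.top_ne_smul (le_antisymm hmono le_top)
  have hdeg0 : ∀ i : Fin t, 0 ≤ deg i := by
    intro i
    by_contra h
    exact hne i (Groth.Agent.Lib.Helper11.GrLes.eq_zero_of_neg_deg 𝒜 hpos (by omega) (hfdeg i))
  have hF2 : List.Forall₂ (fun r k => r ∈ 𝒜 k ∧ 0 ≤ k ∧ r ∈ m.toIdeal) (List.ofFn f)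
      (List.ofFn deg) := by
    rw [List.forall₂_iff_get]
    refine ⟨by rw [List.length_ofFn, List.length_ofFn], ?_⟩
    intro i h1 h2
    rw [List.get_eq_getElem, List.get_eq_getElem, List.getElem_ofFn, List.getElem_ofFn]
    exact ⟨hfdeg _, hdeg0 _, hfm _⟩
  have hπk' : LinearMap.ker π = Ideal.ofList (List.ofFn f) • (⊤ : Submodule R R) := by
    rw [hπk, smul_eq_mul, Ideal.mul_top]
    unfold Ideal.ofList
    congr 1
    ext r
    simp [List.mem_ofFn]
  have key := Groth.Agent.Lib.Helper11.GrLes.endDeg_regSeq m (List.ofFn f) (List.ofFn deg) hF2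
    R 𝒜 N 𝒩 π hπ hπs hπk' hreg.toIsWeaklyRegular I F n (by rw [List.length_ofFn]; exact htn) hvan
  rw [List.length_ofFn, List.sum_ofFn] at key
  exact key.2

end Groth.Agent.S18645
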