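import Groth.Statements.S18653
import Mathlib
import Groth.Agent.Lib.Helper2.Gor.GD3
import Groth.Agent.Lib.Helper2.FunFld.GS5

set_option autoImplicit false
universe u
open GrLC

namespace Groth.Agent.S18653

/-- Let R be a graded ring defined over an algebraically closed field k which is an integral domain of
dimension one. Then R is isomorphic to a semigroup ring (the subring of k[T] spanned by the
monomials T^h, h in an additive submonoid H of ℕ); moreover, if R is generated over k by R_1, then R
is a polynomial ring k[T]. Here a graded ring defined over k is a commutative k-algebra of finite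
type graded in nonnegative degrees by k-subspaces with degree-zero part k·1; the isomorphisms
asserted are ring isomorphisms. -/
theorem result (k : Type u) [Field k] [IsAlgClosed k] (R : Type u) [CommRing R] [IsDomain R] [Algebra k R] (𝒜 : ℤ → Submodule k R) [GradedAlgebra 𝒜] (hpos : ∀ n : ℤ, n < 0 → 𝒜 n = ⊥) (h0 : 𝒜 0 = Submodule.span k {(1 : R)}) [Algebra.FiniteType k R] (h1 : ringKrullDim R = 1) : (∃ H : AddSubmonoid ℕ, Nonempty (R ≃+* AddMonoidAlgebra k H)) ∧ (Ideal.span (⋃ n ∈ Set.Ioi (0 : ℤ), (𝒜 n : Set R)) = Ideal.span ((𝒜 1 : Submodule k R) : Set R) → Nonempty (R ≃+* Polynomial k)) := by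
  obtain ⟨H', Ψ, hΨinj, hΨrange, hH'⟩ := Groth.Agent.Lib.Helper2.GD.main 𝒜 hpos h0 h1
  refine ⟨⟨H', ?_⟩, ?_⟩
  · have hr : Ψ.range = (Groth.Agent.Lib.Helper2.GS.iotaM k H').range := by
      apply SetLike.coe_injective
      rw [hΨrange, Groth.Agent.Lib.Helper2.GS.range_iotaM]
    let e1 : R ≃ₐ[k] Ψ.range := AlgEquiv.ofInjective Ψ hΨinj
    let e2 : Ψ.range ≃ₐ[k] (Groth.Agent.Lib.Helper2.GS.iotaM k H').range := Subalgebra.equivOfEq _ _ hr
    let e3 : AddMonoidAlgebra k H' ≃ₐ[k] (Groth.Agent.Lib.Helper2.GS.iotaM k H').range :=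
      AlgEquiv.ofInjective _ (Groth.Agent.Lib.Helper2.GS.iotaM_injective k H')
    exact ⟨((e1.trans e2).trans e3.symm).toRingEquiv⟩
  · intro hspan
    have hx : ∃ x ∈ 𝒜 1, x ≠ 0 := by
      by_contra hcon
      push Not at hcon
      obtain ⟨n, hn, x, hx, hx0⟩ := Groth.Agent.Lib.Helper2.GD.exists_pos 𝒜 hpos h0 h1
      apply hx0
      have h2 : x ∈ Ideal.span (⋃ n ∈ Set.Ioi (0 : ℤ), (𝒜 n : Set R)) := by
        apply Ideal.subset_span
        simp only [Set.mem_iUnion]
        exact ⟨n, hn, hx⟩
      rw [hspan] at h2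
      have h3 : Ideal.span ((𝒜 1 : Submodule k R) : Set R) = ⊥ := by
        rw [Ideal.span_eq_bot]
        intro y hy
        exact hcon y hy
      rw [h3] at h2
      exact h2
    have htop := hH' hx
    have hsurj : Function.Surjective Ψ := by
      intro q
      have : q ∈ (Ψ.range : Set (Polynomial k)) := by
        rw [hΨrange, htop]
        intro n _
        trivial
      exact this
    exact ⟨(AlgEquiv.ofBijective Ψ ⟨hΨinj, hsurj⟩).toRingEquiv⟩

end Groth.Agent.S18653
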