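import Groth.Statements.S18658
import Mathlib
import Groth.Agent.Lib.Helper11.GrVerJ

set_option autoImplicit false
universe u
open GrLC

namespace Groth.Agent.S18658

/-- Let R be a graded ring defined over a field, q ≥ 1, and R' = R^(q) its Veronese subring. Then K_{R'}
= (K_R)^(q): the canonical module of R' is the Veronese submodule ⊕_j (K_R)_{jq} of the canonical
module of R. Stated here as: for canonical modules C of R and C' of R' there is an injective
additive map g : C' → C, semilinear over the inclusion φ : R' → R, carrying C'_j onto C_{jq} for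
every j. Here 'graded ring defined over a field' means R = ⊕_{n ≥ 0} R_n is Noetherian with R_0 a
field, and m = R_+ is its unique graded maximal ideal. Both R and R' have dimension n = dim R; the
canonical module of each is represented by a finitely generated graded module together with a
homogeneous isomorphism from its Hom into a *injective envelope of the residue field onto the top
graded local cohomology H^n of the ring with support in its irrelevant ideal, computed from a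
*injective resolution in the graded category (by graded Matlis duality this pins the module up to
graded isomorphism). The Veronese subring R^(q) = ⊕_j R_{jq}, regraded by (R^(q))_j = R_{jq}, is
presented abstractly as a ℤ-graded ring R' with an injective ring homomorphism φ : R' → R carrying
R'_j onto R_{jq} for every j. -/
theorem result (R : Type u) [CommRing R] [IsNoetherianRing R] (𝒜 : ℤ → AddSubgroup R) [GradedRing 𝒜] (hpos : ∀ n : ℤ, n < 0 → 𝒜 n = ⊥) (h0 : IsField (GrLC.deg0 𝒜)) (m : HomogeneousIdeal 𝒜) (hm : GrLC.IsStarLocal 𝒜 m) (hmsp : m.toIdeal = Ideal.span (⋃ n ∈ Set.Ioi (0 : ℤ), (𝒜 n : Set R))) (n : ℕ) (hn : ringKrullDim R = n) (I : GrLC.StarInjRes 𝒜 𝒜) (E' : Type u) [AddCommGroup E'] [Module R E'] (𝓔 : ℤ → AddSubgroup E') [DirectSum.Decomposition 𝓔] [SetLike.GradedSMul 𝒜 𝓔] (e : (R ⧸ m.toIdeal) →ₗ[R] E') (he : GrLC.IsStarInjHull 𝒜 (GrLC.quotGr 𝒜 m) 𝓔 e) (C : Type u) [AddCommGroup C] [Module R C] (𝒞 : ℤ →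 AddSubgroup C) [DirectSum.Decomposition 𝒞] [SetLike.GradedSMul 𝒜 𝒞] (hC : GrLC.IsStarCanonical 𝒜 𝒞 𝓔 m n I) (q : ℕ) (hq : 0 < q) (R' : Type u) [CommRing R'] (𝒜' : ℤ → AddSubgroup R') [GradedRing 𝒜'] (φ : R' →+* R) (hφ : Function.Injective φ) (hdeg : ∀ j : ℤ, (𝒜' j).map (φ : R' →+ R) = 𝒜 (j * q)) (m' : HomogeneousIdeal 𝒜') (hm' : GrLC.IsStarLocal 𝒜' m') (hm'sp : m'.toIdeal = Ideal.span (⋃ j ∈ Set.Ioi (0 : ℤ), (𝒜' j : Set R'))) (I' : GrLC.StarInjRes 𝒜' 𝒜') (E'' : Type u) [AddCommGroup E''] [Module R' E''] (𝓔'' : ℤ → AddSubgroup E'') [DirectSum.Decomposition 𝓔''] [SetLike.GradedSMul 𝒜' 𝓔''] (e' : (R' ⧸ m'.toIdeal) →ₗ[R'] E'') (he' : GrLC.IsStarInjHull 𝒜' (GrLC.quotGr 𝒜' m') 𝓔'' e') (C' : Type u) [AddCommGroup C'] [Module R' C'] (𝒞' : ℤ → AddSubgroup C') [DirectSum.Decomposition 𝒞'] [SetLike.GradedSMul 𝒜' 𝒞'] (hC' : GrLC.IsStarCanonical 𝒜' 𝒞' 𝓔'' m' n I') : ∃ g : C' →ₛₗ[φ] C, Function.Injective g ∧ ∀ j : ℤ, (𝒞' j).map (g :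 C' →+ C) = 𝒞 (j * q) := by
  have hq' : (q : ℤ) ≠ 0 := by exact_mod_cast hq.ne'
  have hR : Groth.Agent.Lib.Helper11.GrVer.IsVerRing 𝒜 𝒜' φ (AddMonoidHom.mulRight (q : ℤ)) :=
    ⟨hφ, fun a b h => mul_right_cancel₀ hq' h, fun j => hdeg j⟩
  have hφm : ∀ (j : ℤ) (r : R'), r ∈ 𝒜' j → φ r ∈ 𝒜 (j * q) := by
    intro j r hr
    rw [← hdeg j]
    exact ⟨r, hr, rfl⟩
  have h1 : m'.toIdeal.map φ ≤ m.toIdeal := by
    rw [hm'sp, Ideal.map_span, Ideal.span_le]
    rintro _ ⟨r, hr, rfl⟩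
    simp only [Set.mem_iUnion, Set.mem_Ioi] at hr
    obtain ⟨j, hj, hr⟩ := hr
    rw [hmsp]
    apply Ideal.subset_span
    simp only [Set.mem_iUnion, Set.mem_Ioi]
    exact ⟨j * q, mul_pos hj (by exact_mod_cast hq), hφm j r hr⟩
  have h2 : ∃ K, m.toIdeal ^ K ≤ m'.toIdeal.map φ := by
    apply Ideal.exists_pow_le_of_le_radical_of_fg _ (IsNoetherian.noetherian _)
    rw [hmsp, Ideal.span_le]
    intro y hy
    simp only [Set.mem_iUnion, Set.mem_Ioi] at hy
    obtain ⟨n, hn, hy⟩ := hy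
    refine ⟨q, ?_⟩
    have h3 : y ^ q ∈ 𝒜 (q • n) := SetLike.pow_mem_graded q hy
    have h4 : (q • n : ℤ) = n * q := by rw [nsmul_eq_mul, mul_comm]
    rw [h4, ← hdeg n] at h3
    obtain ⟨r, hr, hry⟩ := h3
    have h5 : (φ : R' →+ R) r = φ r := rfl
    rw [← hry, h5]
    apply Ideal.mem_map_of_mem
    rw [hm'sp]
    apply Ideal.subset_span
    simp only [Set.mem_iUnion, Set.mem_Ioi]
    exact ⟨n, hn, hr⟩
  have hpos' : ∀ j : ℤ, j < 0 → 𝒜' j = ⊥ := by
    intro j hj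
    rw [eq_bot_iff]
    intro x hx
    have h3 := hφm j x hx
    rw [hpos (j * q) (mul_neg_of_neg_of_pos hj (by exact_mod_cast hq)), AddSubgroup.mem_bot] at h3
    rw [AddSubgroup.mem_bot]
    exact hφ (by rw [h3, map_zero])
  have hzero : ∀ x : R, x ∈ 𝒜 0 ↔ ∃ c : GrLC.deg0 𝒜', φ (c : R') = x := by
    intro x
    have h3 := hdeg 0
    rw [zero_mul] at h3
    rw [← h3]
    constructor
    · rintro ⟨r, hr, rfl⟩
      exact ⟨⟨r, hr⟩, rfl⟩
    · rintro ⟨c, rfl⟩
      exact ⟨c, c.2, rfl⟩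
  have hF' : IsField (GrLC.deg0 𝒜') := by
    refine ⟨⟨0, 1, ?_⟩, mul_comm, ?_⟩
    · intro h01
      have h3 : (0 : R') = 1 := congrArg Subtype.val h01
      have h4 : ((0 : GrLC.deg0 𝒜) : R) = ((1 : GrLC.deg0 𝒜) : R) := by
        change (0 : R) = 1
        rw [← map_zero φ, ← map_one φ, h3]
      exact h0.nontrivial.exists_pair_ne.elim (fun a ⟨b, hab⟩ => hab (by
        have h5 : (0 : GrLC.deg0 𝒜) = 1 := Subtype.ext h4
        rw [← mul_one a, ← mul_one b, ← h5, mul_zero, mul_zero]))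
    · intro x hx
      have hφx : φ (x : R') ∈ 𝒜 0 := (hzero _).mpr ⟨x, rfl⟩
      have hne : (⟨φ (x : R'), hφx⟩ : GrLC.deg0 𝒜) ≠ 0 := by
        intro h3
        apply hx
        have h4 : φ (x : R') = 0 := congrArg Subtype.val h3
        exact Subtype.ext (hφ (h4.trans (map_zero φ).symm))
      obtain ⟨y, hy⟩ := h0.mul_inv_cancel hne
      obtain ⟨c, hc⟩ := (hzero (y : R)).mp y.2
      refine ⟨c, ?_⟩
      apply Subtype.ext
      apply hφ
      have h5 : φ (x : R') * (y : R) = 1 := congrArg Subtype.val hy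
      change φ ((x : R') * (c : R')) = φ 1
      rw [map_mul, hc, h5, map_one]
  letI : Field (GrLC.deg0 𝒜') := hF'.toField
  letI algR' : Algebra (GrLC.deg0 𝒜') R' := (GrLC.deg0 𝒜').subtype.toAlgebra
  letI algR : Algebra (GrLC.deg0 𝒜') R := (φ.comp (GrLC.deg0 𝒜').subtype).toAlgebra
  have hφk : ∀ c : GrLC.deg0 𝒜', φ (algebraMap (GrLC.deg0 𝒜') R' c) =
      algebraMap (GrLC.deg0 𝒜') R c := fun c => rfl
  have hk' : Groth.Agent.Lib.Helper11.GrField.IsBase 𝒜' (GrLC.deg0 𝒜') := by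
    intro x
    constructor
    · intro hx
      exact ⟨⟨x, hx⟩, rfl⟩
    · rintro ⟨c, rfl⟩
      exact c.2
  have hk : Groth.Agent.Lib.Helper11.GrField.IsBase 𝒜 (GrLC.deg0 𝒜') := by
    intro x
    rw [hzero x]
    constructor
    · rintro ⟨c, rfl⟩
      exact ⟨c, rfl⟩
    · rintro ⟨c, rfl⟩
      exact ⟨c, rfl⟩
  haveI : Nontrivial R' := by
    refine ⟨⟨0, 1, fun h01 => ?_⟩⟩
    have : (0 : GrLC.deg0 𝒜') = 1 := Subtype.ext h01
    exact hF'.nontrivial.exists_pair_ne.elim (fun a ⟨b, hab⟩ => hab (by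
      rw [← mul_one a, ← mul_one b, ← this, mul_zero, mul_zero]))
  haveI : Nontrivial R := by
    refine ⟨⟨0, 1, fun h01 => ?_⟩⟩
    have : (0 : GrLC.deg0 𝒜) = 1 := Subtype.ext h01
    exact h0.nontrivial.exists_pair_ne.elim (fun a ⟨b, hab⟩ => hab (by
      rw [← mul_one a, ← mul_one b, ← this, mul_zero, mul_zero]))
  exact Groth.Agent.Lib.Helper11.GrVer.exists_isVer_canonical hk hk' hR hφk hpos hpos' m hmsp m'
    hm'sp h1 h2 n I I' 𝓔 e he 𝒞 hC 𝓔'' e' he' 𝒞' hC'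

end Groth.Agent.S18658
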