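import Groth.Statements.S18662
import Mathlib
import Groth.Agent.Lib.Helper11.GrLCCmp

set_option autoImplicit false
universe u
open GrLC

namespace Groth.Agent.S18662

section helpers
open GrLC

open Groth.Agent.Lib.Helper11.GrLCLib DirectSum

theorem main (R : Type u) [CommRing R] (𝒜 : ℤ → AddSubgroup R) [GradedRing 𝒜]
    (m : HomogeneousIdeal 𝒜)
    (hmsp : m.toIdeal = Ideal.span (⋃ n ∈ Set.Ioi (0 : ℤ), (𝒜 n : Set R)))
    (M : Type u) [AddCommGroup M] [Module R M] (ℳ : ℤ → AddSubgroup M) [DirectSum.Decomposition ℳ]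
    [SetLike.GradedSMul 𝒜 ℳ] (d : ℤ) (hd : 0 < d) (f : R) (hf : f ∈ 𝒜 d)
    (hbij : Function.Bijective (fun x : M => f • x)) (E : GrLC.StarInjRes 𝒜 ℳ) (q : ℕ) :
    Subsingleton (E.H m q) := by
  have hfm : f ∈ m.toIdeal := by
    rw [hmsp]
    apply Ideal.subset_span
    simp only [Set.mem_iUnion, Set.mem_Ioi, SetLike.mem_coe]
    exact ⟨d, hd, hf⟩
  -- the inverse of multiplication by f
  let e : M ≃ₗ[R] M := LinearEquiv.ofBijective (LinearMap.lsmul R M f) hbij
  let ψ : M →ₗ[R] M := e.symm.toLinearMap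
  have hψf : ∀ x, f • ψ x = x := fun x => e.apply_symm_apply x
  have hfψ : ∀ x, ψ (f • x) = x := fun x => e.symm_apply_apply x
  have hψdeg : IsGrHomDeg ℳ ℳ ψ (-d) := by
    intro j y hy
    set x := ψ y with hx
    have hfx : f • x = y := hψf y
    have h1 := decompose_map_deg ℳ ℳ (isGrHomDeg_lsmul ℳ 𝒜 hf) x (j + -d)
    rw [neg_add_cancel_right] at h1
    simp only [LinearMap.lsmul_apply] at h1
    rw [hfx, decompose_of_mem_same ℳ hy] at h1
    have h2 : x = (decompose ℳ x (j + -d) : M) := hbij.1 (by simpa [hfx] using h1)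
    rw [h2]
    exact SetLike.coe_mem _
  obtain ⟨G, hG, hGl⟩ := exists_cmap E E ψ (-d) hψdeg
  have hhom : CMap.Homotopic (G.comp (CMap.smul E f)) (CMap.id E) := by
    refine homotopic_of_lifts _ _ LinearMap.id 0 ?_ (CMap.id_isDeg E) ?_ (CMap.id_lifts E)
    · have := CMap.comp_isDeg hG (CMap.smul_isDeg E hf)
      rwa [add_neg_cancel] at this
    · have := CMap.comp_lifts hGl (CMap.smul_lifts E f)
      have e1 : ψ ∘ₗ LinearMap.lsmul R M f = LinearMap.id := by
        ext x; exact hfψ x
      rwa [e1] at this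
  have hleft : ∀ x : E.H m q, G.Hmap m q (f • x) = x := by
    intro x
    have := CMap.Hmap_eq_of_homotopic m hhom q
    rw [CMap.Hmap_comp, CMap.Hmap_id] at this
    have h2 := LinearMap.congr_fun this x
    simp only [LinearMap.comp_apply, LinearMap.id_apply, CMap.Hmap_smul] at h2
    exact h2
  have hinj : ∀ x : E.H m q, f • x = 0 → x = 0 := by
    intro x hx
    rw [← hleft x, hx, map_zero]
  have hpow : ∀ (n : ℕ) (x : E.H m q), f ^ n • x = 0 → x = 0 := by
    intro n
    induction n with
    | zero => intro x hx; simpa using hx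
    | succ n ih =>
      intro x hx
      apply ih
      apply hinj
      rw [smul_smul, ← pow_succ']
      exact hx
  refine ⟨fun x y => ?_⟩
  have key : ∀ x : E.H m q, x = 0 := by
    intro x
    obtain ⟨z, rfl⟩ := Submodule.mkQ_surjective _ x
    obtain ⟨n, hn⟩ := z.2.1
    apply hpow n
    have hz : f ^ n • z = 0 := by
      apply Subtype.ext
      rw [Submodule.coe_smul, Submodule.coe_zero]
      exact hn _ (Ideal.pow_mem_pow hfm n)
    rw [← map_smul, hz, map_zero]
  rw [key x, key y]

end helpers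

/-- Let R be a graded ring defined over a field, m = R_+, and M a graded R-module satisfying condition
(**): there is a homogeneous f ∈ R_d with d > 0 such that multiplication by f on M is bijective.
Then H^q_m(M) = 0 for every integer q (graded local cohomology, computed from any *injective
resolution of M in the graded category). Here 'graded ring defined over a field' means R = ⊕_{n ≥ 0}
R_n is Noetherian with R_0 a field, and m = R_+ is its unique graded maximal ideal. -/
theorem result (R : Type u) [CommRing R] [IsNoetherianRing R] (𝒜 : ℤ → AddSubgroup R) [GradedRing 𝒜] (hpos : ∀ n : ℤ, n < 0 → 𝒜 n = ⊥) (h0 : IsField (GrLC.deg0 𝒜)) (m : HomogeneousIdeal 𝒜) (hm : GrLC.IsStarLocal 𝒜 m) (hmsp : m.toIdeal = Ideal.span (⋃ n ∈ Set.Ioi (0 : ℤ), (𝒜 n : Set R))) (M : Type u) [AddCommGroup M] [Module R M] (ℳ : ℤ → AddSubgroup M) [DirectSum.Decomposition ℳ] [SetLike.GradedSMul 𝒜 ℳ] (d : ℤ) (hd : 0 < d) (f : R) (hf : f ∈ 𝒜 d) (hbij : Function.Bijective (fun x : M => f • x)) (E : GrLC.StarInjRes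 𝒜 ℳ) (q : ℕ) : Subsingleton (E.H m q) := by
  exact main R 𝒜 m hmsp M ℳ d hd f hf hbij E q

end Groth.Agent.S18662
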