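import Groth.Statements.S18664
import Mathlib
import Mathlib
import Groth.Agent.Lib.Helper11.GrSegPoly

set_option autoImplicit false
universe u
open scoped TensorProduct
open GrSegre

namespace Groth.Agent.S18664

/-- Let R and S be standard graded rings defined over a field k which are Cohen–Macaulay, with dim R = 1
and dim S ≥ 2. Then the Segre product T = R # S is a Cohen–Macaulay ring if and only if R is a
polynomial ring over k (in one variable). Here a graded ring defined over k is a commutative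
k-algebra of finite type, graded in nonnegative degrees by k-subspaces with degree-zero part k·1,
standard graded when its irrelevant ideal is generated by the degree-one piece; the Segre product T
= ⊕_n R_n ⊗_k S_n is presented abstractly as a graded k-algebra T with an injective k-algebra
homomorphism ψ : T → R ⊗_k S carrying T_n onto the k-span of the elementary tensors a ⊗ b with a ∈
R_n, b ∈ S_n. -/
theorem result (k : Type u) [Field k] (R : Type u) [CommRing R] [Algebra k R] (𝒜 : ℤ → Submodule k R) [GradedAlgebra 𝒜] (hposR : ∀ n : ℤ, n < 0 → 𝒜 n = ⊥) (h0R : 𝒜 0 = Submodule.span k {(1 : R)}) [Algebra.FiniteType k R] (S : Type u) [CommRing S] [Algebra k S] (ℬ : ℤ → Submodule k S) [GradedAlgebra ℬ] (hposS : ∀ n : ℤ, n < 0 → ℬ n = ⊥) (h0S : ℬ 0 = Submodule.span k {(1 : S)}) [Algebra.FiniteType k S] (T : Type u) [CommRing T] [Algebra k T] (𝒯 : ℤ → Submodule k T) [GradedAlgebra 𝒯] (ψ : T →ₐ[k] TensorProduct k R S) (hψ : Function.Injective ψ)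 (hdegT : ∀ n : ℤ, (𝒯 n).map ψ.toLinearMap = Submodule.span k {x : TensorProduct k R S | ∃ a ∈ 𝒜 n, ∃ b ∈ ℬ n, x = a ⊗ₜ[k] b}) [LocCoh.IsCohenMacaulayRing R] [LocCoh.IsCohenMacaulayRing S] (hstdR : Ideal.span (⋃ n ∈ Set.Ioi (0 : ℤ), (𝒜 n : Set R)) = Ideal.span ((𝒜 1 : Submodule k R) : Set R)) (hstdS : Ideal.span (⋃ n ∈ Set.Ioi (0 : ℤ), (ℬ n : Set S)) = Ideal.span ((ℬ 1 : Submodule k S) : Set S)) (hr : ringKrullDim R = 1) (hs : 2 ≤ ringKrullDim S) : LocCoh.IsCohenMacaulayRing T ↔ Nonempty (R ≃ₐ[k] Polynomial k) := by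
  classical
  haveI : Nontrivial R := Groth.Agent.Lib.Helper11.Seg.nontrivial_of_ringKrullDim 1 (by exact_mod_cast hr)
  haveI : Nontrivial S := by
    by_contra h
    rw [not_nontrivial_iff_subsingleton] at h
    rw [ringKrullDim_eq_bot_of_subsingleton] at hs
    exact absurd hs (by simp)
  obtain ⟨s, hsd⟩ := Groth.Agent.Lib.Helper11.Seg.exists_nat_dim k S
  have h2s : 2 ≤ s := by
    rw [hsd] at hs
    exact_mod_cast hs
  obtain ⟨mR, I, hmR⟩ := Groth.Agent.Lib.Helper11.Seg.exists_irr_res 𝒜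
  obtain ⟨mS, J, hmS⟩ := Groth.Agent.Lib.Helper11.Seg.exists_irr_res ℬ
  obtain ⟨hI, hJ, hiff⟩ := Groth.Agent.Lib.Helper11.Seg.segre_cm_iff k R 𝒜 hposR h0R S ℬ hposS h0S
    T 𝒯 ψ hψ hdegT mR hmR I mS hmS J 1 s (by exact_mod_cast hr) hsd le_rfl (by omega)
  have h1 : LocCoh.IsCohenMacaulayRing T ↔ ∀ n : ℤ, 0 ≤ n → I.Hcomp mR 1 n = ⊥ := by
    rw [hiff, ← Groth.Agent.Lib.Helper11.Seg.forall_piece_or_iff ℬ hposS h0S hstdS s hsd (by omega)
      (fun n => I.Hcomp mR 1 n = ⊥)]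
    constructor
    · intro h n
      exact ((h 1 (by omega) n).1).symm
    · intro h q hq d
      constructor
      · by_cases hq1 : q = 1
        · subst hq1
          exact (h d).symm
        · left
          exact Groth.Agent.Lib.Helper11.Seg.Hcomp_eq_bot_of_subsingleton I mR q d (hI q hq1)
      · right
        exact Groth.Agent.Lib.Helper11.Seg.Hcomp_eq_bot_of_subsingleton J mS q d
          (hJ q (by omega))
  rw [h1]
  letI : GradedRing (Groth.Agent.Lib.Helper11.GrConv.conv 𝒜) :=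
    Groth.Agent.Lib.Helper11.GrConv.convGradedRing 𝒜
  have hk := Groth.Agent.Lib.Helper11.Seg.isBase_conv 𝒜 h0R
  have hpos := Groth.Agent.Lib.Helper11.Seg.hpos_conv 𝒜 hposR
  have hm := Groth.Agent.Lib.Helper11.Seg.isStarLocal_conv_irr 𝒜 hposR h0R
    (Groth.Agent.Lib.Helper11.GrConv.hidealConv 𝒜 mR) hmR
  have key := Groth.Agent.Lib.Helper11.Seg.main_k R (Groth.Agent.Lib.Helper11.GrConv.conv 𝒜) hk hpos
    (Groth.Agent.Lib.Helper11.GrConv.hidealConv 𝒜 mR) hm hmR hstdR 1 le_rfl (by exact_mod_cast hr)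
    (Groth.Agent.Lib.Helper11.GrConv.resConv 𝒜 𝒜 I)
  have h2 : (∀ n : ℤ, 0 ≤ n → I.Hcomp mR 1 n = ⊥) ↔
      ∀ j : ℤ, -((1 : ℕ) : ℤ) < j → (Groth.Agent.Lib.Helper11.GrConv.resConv 𝒜 𝒜 I).Hgr
        (Groth.Agent.Lib.Helper11.GrConv.hidealConv 𝒜 mR) 1 j = ⊥ := by
    refine forall_congr' (fun n => ?_)
    rw [Groth.Agent.Lib.Helper11.Seg.Hgr_eq_bot_iff,
      Groth.Agent.Lib.Helper11.Seg.Hcomp_resConv_eq_bot_iff]
    constructor
    · intro h hn
      exact h (by omega)
    · intro h hn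
      exact h (by omega)
  rw [h2, key]
  constructor
  · rintro ⟨e⟩
    exact ⟨e.trans (MvPolynomial.uniqueAlgEquiv k (Fin 1))⟩
  · rintro ⟨e⟩
    exact ⟨e.trans (MvPolynomial.uniqueAlgEquiv k (Fin 1)).symm⟩

end Groth.Agent.S18664
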