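import Groth.Statements.S18666
import Mathlib
import Groth.Agent.Lib.Helper11.ProjCME
import Groth.Agent.Lib.Helper2.Gor.GK1

set_option autoImplicit false
universe u
open GrProj

namespace Groth.Agent.S18666

open AlgebraicGeometry Pointwise in
/-- Let A = ⊕_{n ≥ 0} A_n be a commutative Noetherian graded ring satisfying condition (#) — there is an
integer d_0 such that for every d ≥ d_0 the Veronese subring A^(d) is generated by A_d over A_0,
equivalently A_{(n+1)d} is additively generated by the products A_d A_{nd} for every n ≥ 1 — and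
assume A is a Gorenstein ring. Then X = Proj A is a Gorenstein scheme: all of its local rings are
Gorenstein local rings. (The Cohen–Macaulay case of the same lemma is stated separately.) -/
theorem result (A : Type u) [CommRing A] (𝒜 : ℕ → AddSubgroup A) [GradedRing 𝒜] [LocCoh.IsGorensteinRing A] (hsharp : ∃ d₀ : ℕ, ∀ d : ℕ, d₀ ≤ d → ∀ n : ℕ, 1 ≤ n → 𝒜 ((n + 1) * d) = AddSubgroup.closure ((𝒜 d : Set A) * (𝒜 (n * d) : Set A))) (x : Proj 𝒜) : LocCoh.IsGorensteinLocalRing ((Proj 𝒜).presheaf.stalk x) := by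
  classical
  let x' : ProjectiveSpectrum 𝒜 := x
  obtain ⟨f, m, f_deg, hm, hx⟩ : ∃ (f : A) (m : ℕ) (_ : f ∈ 𝒜 m) (_ : 0 < m), f ∉ x'.1 := by
    by_contra! this
    refine x'.not_irrelevant_le fun z hz ↦ ?_
    rw [← DirectSum.sum_support_decompose 𝒜 z]
    exact x'.1.toIdeal.sum_mem fun k hk ↦ this _ k (SetLike.coe_mem _) <| by_contra <| by aesop
  set 𝔭 : Ideal A := x'.asHomogeneousIdeal.toIdeal with h𝔭def
  haveI h𝔭p : 𝔭.IsPrime := x'.isPrime
  have hfp : f ∉ 𝔭 := hx
  obtain ⟨d₀, hd₀⟩ := hsharp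
  have key : ∀ d : ℕ, d₀ ≤ d → ∃ g ∈ 𝒜 d, g ∉ 𝔭 := by
    intro d hd
    by_contra! hall
    apply hfp
    apply h𝔭p.mem_of_pow_mem d
    have hfd : f ^ d ∈ 𝒜 (m * d) := by
      have := SetLike.pow_mem_graded d f_deg
      rwa [smul_eq_mul, mul_comm] at this
    obtain ⟨n, rfl⟩ : ∃ n, m = n + 1 := Nat.exists_eq_succ_of_ne_zero hm.ne'
    rcases Nat.eq_zero_or_pos n with rfl | hn
    · rw [zero_add, one_mul] at hfd
      exact hall _ hfd
    · rw [hd₀ d hd n hn] at hfd
      have hle : AddSubgroup.closure ((𝒜 d : Set A) * (𝒜 (n * d) : Set A)) ≤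
          𝔭.toAddSubgroup := by
        rw [AddSubgroup.closure_le]
        rintro _ ⟨a, ha, b, _, rfl⟩
        exact Ideal.mul_mem_right _ _ (hall a ha)
      exact hle hfd
  obtain ⟨g, hg, hgp⟩ := key d₀ le_rfl
  obtain ⟨g', hg', hg'p⟩ := key (d₀ + 1) (Nat.le_succ _)
  haveI : LocCoh.IsGorensteinLocalRing (Localization.AtPrime 𝔭) :=
    LocCoh.IsGorensteinRing.isGorensteinLocalRing_localization _
  have hO : LocCoh.IsGorensteinLocalRing (HomogeneousLocalization.AtPrime 𝒜 𝔭) :=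
    Groth.Agent.Lib.Helper11.ProjCM.gor_atPrime x'.asHomogeneousIdeal.isHomogeneous hg hg' hgp hg'p
  let e : (Proj 𝒜).presheaf.stalk x ≃+* HomogeneousLocalization.AtPrime 𝒜 𝔭 :=
    Proj.stalkIso' 𝒜 x'
  exact Groth.Agent.Lib.Helper2.GK.gor_of_ringEquiv e.symm hO

end Groth.Agent.S18666
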