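import Groth.Statements.S18668
import Mathlib
import Groth.Agent.Lib.Helper2.FunFld.GS5

set_option autoImplicit false
universe u
open GrSect

namespace Groth.Agent.S18668
open Groth.Agent.Lib.Helper2.FF Groth.Agent.Lib.Helper2.GS

/-- Let X be a complete smooth curve of genus g ≥ 1 over an algebraically closed field k, P a closed
point, R = R_{X,P} = ⊕_{n ≥ 0} H^0(X, O_X(nP)) and H = H_{X,P} its Weierstrass semigroup. For any
nonzero t of degree one in R, t is prime in R and the quotient R/tR is isomorphic to k[H], the
semigroup algebra of H. Here the complete smooth curve X over the algebraically closed field k is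
given by its function field K/k (a function field of one variable in which k is algebraically
closed), the closed point P by a place of K/k, g ≥ 1 is the genus, H^0(X, O_X(nP)) = L(nP), and
R_{X,P} = ⊕_{n ≥ 0} L(nP)·T^n is realised as the k-subalgebra of K[T] of polynomials whose
coefficient of T^n lies in L(nP); the Weierstrass semigroup H_{X,P} is the set of n ≥ 0 with ℓ(nP) =
ℓ((n−1)P) + 1. The isomorphism is stated as a k-algebra isomorphism with the semigroup algebra of
the additive submonoid of ℕ generated by H_{X,P} (which is H_{X,P} itself). -/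
theorem result (k : Type u) [Field k] [IsAlgClosed k] (K : Type u) [Field K] [Algebra k K] (hK : FunFld.IsFunctionField k K) (hg : 1 ≤ FunFld.genus k K) (P : FunFld.Place k K) (t : ↥(W4c6gradedringsgw.sectRing (Finsupp.single P 1 : FunFld.Divisor k K))) (a : K) (ha : a ≠ 0) (ht : (t : Polynomial K) = Polynomial.C a * Polynomial.X) : Prime t ∧ Nonempty ((↥(W4c6gradedringsgw.sectRing (Finsupp.single P 1 : FunFld.Divisor k K)) ⧸ Ideal.span {t}) ≃ₐ[k] AddMonoidAlgebra k ↥(AddSubmonoid.closure (W4c6gradedringsgw.poleOrders P))) := by
  have hP : P.deg = 1 := deg_eq_one_of_isAlgClosed hK P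
  obtain ⟨π, hπ⟩ := exists_uniformizer P
  have hker := ker_Phi hK P hP hπ (by omega) t ha ht
  have ht0 : t ≠ 0 := by
    intro h
    have h1 : (t : Polynomial K) = 0 := by rw [h]; rfl
    rw [ht] at h1
    have h2 := congrArg (fun p => Polynomial.coeff p 1) h1
    simp only [Polynomial.coeff_C_mul, Polynomial.coeff_X_one, mul_one, Polynomial.coeff_zero] at h2
    exact ha h2
  refine ⟨?_, ?_⟩
  · rw [← Ideal.span_singleton_prime ht0, ← hker]
    exact RingHom.ker_isPrime _
  · let M := AddSubmonoid.closure (W4c6gradedringsgw.poleOrders P)
    have hker' : Ideal.span {t} = RingHom.ker ((Phi P hP hπ).rangeRestrict :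
        ↥(W4c6gradedringsgw.sectRing (Finsupp.single P 1 : FunFld.Divisor k K)) →+* (Phi P hP hπ).range) := by
      rw [← hker]
      ext x
      rw [RingHom.mem_ker, RingHom.mem_ker]
      constructor
      · intro h
        apply Subtype.ext
        exact h
      · intro h
        exact congrArg Subtype.val h
    let e1 := Ideal.quotientEquivAlgOfEq k hker'
    let e2 := Ideal.quotientKerAlgEquivOfSurjective (f := (Phi P hP hπ).rangeRestrict)
      (Phi P hP hπ).rangeRestrict_surjective
    have hrange : (Phi P hP hπ).range = (iotaM k M).range := by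
      apply SetLike.coe_injective
      rw [range_Phi hK, range_iotaM]
      ext q
      simp only [Set.mem_ofPred_eq]
      refine forall_congr' fun n => ?_
      rw [mem_closure_poleOrders hK P hP]
    let e3 := Subalgebra.equivOfEq _ _ hrange
    let e4 := AlgEquiv.ofInjective (iotaM k M) (iotaM_injective k M)
    exact ⟨e1.trans (e2.trans (e3.trans e4.symm))⟩

end Groth.Agent.S18668
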