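import Groth.Statements.S1867
import Groth.Agent.Lib.Helper21.Img1
import Groth.Agent.Lib.Helper18.SchDim1
-- import your own Groth.Agent.* helpers here

set_option autoImplicit false
universe u
open CategoryTheory AlgebraicGeometry
open Cyc

namespace Groth.Agent.S1867

/-- Let f : X → Y be a proper morphism of integral schemes with Y locally Noetherian, mapping the
generic point to the generic point with finite extension of function fields, and let ξ be a point of
Y whose local ring has dimension 1. Then f is finite over some open neighbourhood of ξ. -/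
theorem result (X Y : Scheme.{u}) [IsIntegral X] [IsIntegral Y] [IsLocallyNoetherian Y] (f : X ⟶ Y) [IsProper f] (hgen : f (genericPoint X) = genericPoint Y) (hfin : (f.residueFieldMap (genericPoint X)).hom.Finite) (ξ : Y) (hξ : ringKrullDim (Y.presheaf.stalk ξ) = 1) : ∃ V : Y.Opens, ξ ∈ V ∧ IsFinite (f ∣_ V) := by
  have : LocallyOfFiniteType f := inferInstance
  have : QuasiCompact f := inferInstance
  -- algebraicity at the generic point
  have halg0 : @Algebra.trdeg (Y.residueField (f (genericPoint X))) (X.residueField (genericPoint X))
      _ _ (f.residueFieldMap (genericPoint X)).hom.toAlgebra = 0 := by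
    algebraize [(f.residueFieldMap (genericPoint X)).hom]
    have : Module.Finite (Y.residueField (f (genericPoint X))) (X.residueField (genericPoint X)) :=
      hfin
    have : Algebra.IsAlgebraic (Y.residueField (f (genericPoint X)))
      (X.residueField (genericPoint X)) := Algebra.IsAlgebraic.of_finite _ _
    exact trdeg_eq_zero_iff.mpr this
  -- residue field extensions over `ξ` are algebraic
  have key : ∀ x : X, f x = ξ → @Algebra.trdeg (Y.residueField (f x)) (X.residueField x) _ _
      (f.residueFieldMap x).hom.toAlgebra = 0 := by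
    intro x hfx
    obtain ⟨n, hn⟩ := Groth.Agent.Lib.Helper21.FibDim.exists_nat_trdeg_residueFieldMap f x
    have hineq := Groth.Agent.Lib.Helper18.SchDim.stalk_dim_inequality f x n 0 hn (by
      intro ξ' hξ' _
      have h1 : ξ' = genericPoint X := by
        have h2 : genericPoint X ⤳ ξ' := genericPoint_specializes _
        exact (Groth.Agent.Lib.Helper21.FibDim.eq_of_specializes_of_closure_mem ξ' hξ' _ h2).symm
      subst h1
      rw [halg0]
      rfl)
    have hdimY : ringKrullDim (Y.presheaf.stalk (f x)) = 1 := by rw [hfx]; exact hξ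
    have hne : x ≠ genericPoint X := by
      intro h
      rw [h, hgen, ringKrullDim_stalk_eq_coheight] at hdimY
      have h0 : Order.coheight (genericPoint Y) = 0 := by
        rw [Order.coheight_eq_zero]
        intro b hb
        exact genericPoint_specializes b
      rw [h0] at hdimY
      exact absurd hdimY (by decide)
    have hc : (1 : WithBot ℕ∞) ≤ ringKrullDim (X.presheaf.stalk x) := by
      rw [ringKrullDim_stalk_eq_coheight]
      have h1 : Order.coheight x ≠ 0 := by
        rw [Ne, Order.coheight_eq_zero]
        intro hmax
        have h2 : x ≤ genericPoint X := genericPoint_specializes x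
        have h3 : genericPoint X ≤ x := hmax h2
        have h4 : x ⤳ genericPoint X := h3
        exact hne (h4.antisymm (genericPoint_specializes x)).eq
      have h5 : (1 : ℕ∞) ≤ Order.coheight x := Order.one_le_iff_ne_zero.mpr h1
      exact_mod_cast h5
    rw [hdimY] at hineq
    have h6 : (1 : WithBot ℕ∞) + (n : WithBot ℕ∞) ≤ 1 + ((0 : ℕ) : WithBot ℕ∞) :=
      (add_le_add_left hc _).trans hineq
    have h7 : ((1 + n : ℕ) : WithBot ℕ∞) ≤ ((1 : ℕ) : WithBot ℕ∞) := by
      push_cast
      simpa using h6
    have h8 : 1 + n ≤ 1 := by exact_mod_cast h7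
    have h9 : n = 0 := by omega
    rw [hn, h9]
    rfl
  -- the fibre is finite
  have hfinite : (f ⁻¹' {ξ}).Finite := by
    let _ := Groth.Agent.Lib.Helper21.FibDim.fiberOver f ξ
    have : LocallyOfFiniteType (f.fiber ξ ↘ Spec (CommRingCat.of (Y.residueField ξ))) :=
      MorphismProperty.pullback_snd (P := @LocallyOfFiniteType) _ _ inferInstance
    have : IsLocallyNoetherian (f.fiber ξ) :=
      LocallyOfFiniteType.isLocallyNoetherian (f.fiber ξ ↘ Spec (CommRingCat.of (Y.residueField ξ)))
    have : IsNoetherian (f.fiber ξ) := {}
    by_cases hne : Nonempty (f.fiber ξ)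
    · have hle : topologicalKrullDim (f.fiber ξ) ≤ 0 := by
        refine Groth.Agent.Lib.Helper21.Img.topologicalKrullDim_le_of_forall_closure' 0 (fun z => ?_)
        have h1 := Groth.Agent.Lib.Helper21.FibDim.trdeg_fiber_eq f ξ z
        have hk := key (f.fiberι ξ z) (f.fiberHomeo ξ z).2
        rw [hk] at h1
        rw [Groth.Agent.Lib.Helper21.FibDim.topologicalKrullDim_closure_singleton
          (Y.residueField ξ) (f.fiber ξ) z 0 (by rw [h1]; rfl)]
        rfl
      have h0 : topologicalKrullDim (f.fiber ξ) = 0 :=
        le_antisymm hle Groth.Agent.Lib.Helper18.TopDim.zero_le_topologicalKrullDim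
      have hF : Finite (f.fiber ξ) :=
        (Groth.Agent.Lib.Helper18.TopDim.topologicalKrullDim_eq_zero_iff.mp h0).1
      have : Finite ↥(f ⁻¹' {ξ}) := (f.fiberHomeo ξ).finite_iff.mp hF
      exact Set.toFinite _
    · have hE : IsEmpty (f.fiber ξ) := not_nonempty_iff.mp hne
      have : IsEmpty ↥(f ⁻¹' {ξ}) := (f.fiberHomeo ξ).symm.isEmpty
      exact Set.toFinite _
  exact exists_isFinite_morphismRestrict_of_finite_preimage_singleton f ξ hfinite

end Groth.Agent.S1867
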