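import Groth.Statements.S18673
import Mathlib
import Groth.Agent.Lib.Helper11.GrKunN
import Groth.Agent.Lib.Helper11.GrSegCM
import Groth.Agent.Lib27.GrFin5

set_option autoImplicit false
universe u
open scoped TensorProduct
open GrSegre

namespace Groth.Agent.S18673

/-- The case M = R, N = S of the published statement, degree by degree. Let R and S be graded rings
defined over a field k with Segre product T = R # S, write m = R_+, n = S_+, P = T_+, and assume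
that H^q_m(R) and H^q_n(S) vanish for q = 0, 1. Then for every q ≥ 0, H^q_P(T) ≅ (R # H^q_n(S)) ⊕
(H^q_m(R) # S) ⊕ ⊕_{i+j=q+1} (H^i_m(R) # H^j_n(S)). Stated here degree by degree as the equality of
(finite) dimensions dim H^q_P(T)_d = dim R_d · dim H^q_n(S)_d + dim H^q_m(R)_d · dim S_d +
Σ_{i+j=q+1} dim H^i_m(R)_d · dim H^j_n(S)_d (the published statement is for graded modules M, N in
place of R, S and gives the isomorphism itself). Here a graded ring defined over k is a non-zero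
commutative k-algebra of finite type, graded in nonnegative degrees by k-subspaces with degree-zero
part k·1 (a copy of the field k); the graded local cohomology pieces are computed from *injective
resolutions in the graded categories of R, S and T and their dimensions are taken over the
respective degree-zero fields (all equal to k); the Segre product T = ⊕_d R_d ⊗_k S_d is presented
abstractly as a graded k-algebra T with an injective k-algebra homomorphism ψ : T → R ⊗_k S carrying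
T_d onto the k-span of the elementary tensors a ⊗ b with a ∈ R_d, b ∈ S_d. -/
theorem result (k : Type u) [Field k] (R : Type u) [CommRing R] [Nontrivial R] [Algebra k R] (𝒜 : ℤ → Submodule k R) [GradedAlgebra 𝒜] (hposR : ∀ n : ℤ, n < 0 → 𝒜 n = ⊥) (h0R : 𝒜 0 = Submodule.span k {(1 : R)}) [Algebra.FiniteType k R] (S : Type u) [CommRing S] [Nontrivial S] [Algebra k S] (ℬ : ℤ → Submodule k S) [GradedAlgebra ℬ] (hposS : ∀ n : ℤ, n < 0 → ℬ n = ⊥) (h0S : ℬ 0 = Submodule.span k {(1 : S)}) [Algebra.FiniteType k S] (T : Type u) [CommRing T] [Algebra k T] (𝒯 : ℤ → Submodule k T) [GradedAlgebra 𝒯] (ψ : T →ₐ[k] TensorProduct k R S) (hψ : Function.Injective ψ) (hdegT : ∀ n : ℤ, (𝒯 n).map ψ.toLinearMap = Submodule.span k {x : TensorProduct k R S | ∃ a ∈ 𝒜 n, ∃ b ∈ ℬ n, x = a ⊗ₜ[k] b}) (mR : HomogeneousIdeal 𝒜) (hmR : mR.toIdeal = Ideal.span (⋃ n ∈ Set.Ioi (0 : ℤ), (𝒜 n : Set R))) (I : GrLC.StarInjRes 𝒜 𝒜) (mS : HomogeneousIdeal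 ℬ) (hmS : mS.toIdeal = Ideal.span (⋃ n ∈ Set.Ioi (0 : ℤ), (ℬ n : Set S))) (J : GrLC.StarInjRes ℬ ℬ) (mT : HomogeneousIdeal 𝒯) (hmT : mT.toIdeal = Ideal.span (⋃ n ∈ Set.Ioi (0 : ℤ), (𝒯 n : Set T))) (IT : GrLC.StarInjRes 𝒯 𝒯) (hR : ∀ (q : ℕ) (d : ℤ), q ≤ 1 → I.Hcomp mR q d = ⊥) (hS : ∀ (q : ℕ) (d : ℤ), q ≤ 1 → J.Hcomp mS q d = ⊥) (q : ℕ) (d : ℤ) : Module.finrank (GrLC.deg0 𝒯) (IT.Hcomp mT q d) = Module.finrank k (𝒜 d) * Module.finrank (GrLC.deg0 ℬ) (J.Hcomp mS q d) + Module.finrank (GrLC.deg0 𝒜) (I.Hcomp mR q d) * Module.finrank k (ℬ d) + (Finset.range (q + 2)).sum (fun i => Module.finrank (GrLC.deg0 𝒜) (I.Hcomp mR i d) * Module.finrank (GrLC.deg0 ℬ) (J.Hcomp mS (q + 1 - i) d)) := by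
  haveI : IsNoetherianRing R := Algebra.FiniteType.isNoetherianRing k R
  haveI : IsNoetherianRing S := Algebra.FiniteType.isNoetherianRing k S
  haveI : IsNoetherianRing (TensorProduct k R S) :=
    Groth.Agent.Lib.Helper11.Seg.noetherian_tensor (k := k) (R := R) (S := S)
  letI : GradedRing (Groth.Agent.Lib.Helper11.GrConv.conv 𝒜) :=
    Groth.Agent.Lib.Helper11.GrConv.convGradedRing 𝒜
  letI : GradedRing (Groth.Agent.Lib.Helper11.GrConv.conv ℬ) :=
    Groth.Agent.Lib.Helper11.GrConv.convGradedRing ℬ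
  letI : GradedRing (Groth.Agent.Lib.Helper11.GrConv.conv 𝒯) :=
    Groth.Agent.Lib.Helper11.GrConv.convGradedRing 𝒯
  haveI : Groth.Agent.Lib.Helper11.Seg.IsKAlgGr k (Groth.Agent.Lib.Helper11.GrConv.conv 𝒜) :=
    Groth.Agent.Lib.Helper11.Seg.isKAlgGr_conv 𝒜
  haveI : Groth.Agent.Lib.Helper11.Seg.IsKAlgGr k (Groth.Agent.Lib.Helper11.GrConv.conv ℬ) :=
    Groth.Agent.Lib.Helper11.Seg.isKAlgGr_conv ℬ
  haveI : Groth.Agent.Lib.Helper11.Seg.IsKGr k (Groth.Agent.Lib.Helper11.GrConv.conv 𝒜) :=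
    Groth.Agent.Lib.Helper11.Seg.isKGr_of_gradedSMul (Groth.Agent.Lib.Helper11.GrConv.conv 𝒜) _
  haveI : Groth.Agent.Lib.Helper11.Seg.IsKGr k (Groth.Agent.Lib.Helper11.GrConv.conv ℬ) :=
    Groth.Agent.Lib.Helper11.Seg.isKGr_of_gradedSMul (Groth.Agent.Lib.Helper11.GrConv.conv ℬ) _
  have hseg := Groth.Agent.Lib.Helper11.Seg.isSeg_conv (𝒜 := 𝒜) (ℬ := ℬ) (𝒯 := 𝒯) hψ hdegT
  have hR' : ∀ x ∈ Groth.Agent.Lib.Helper11.GrConv.conv 𝒜 0, ∃ c : k, algebraMap k R c = x := by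
    intro x hx
    have hx' : x ∈ 𝒜 0 := hx
    rw [h0R, Submodule.mem_span_singleton] at hx'
    obtain ⟨c, rfl⟩ := hx'
    exact ⟨c, by rw [Algebra.smul_def, mul_one]⟩
  have hS' : ∀ x ∈ Groth.Agent.Lib.Helper11.GrConv.conv ℬ 0, ∃ c : k, algebraMap k S c = x := by
    intro x hx
    have hx' : x ∈ ℬ 0 := hx
    rw [h0S, Submodule.mem_span_singleton] at hx'
    obtain ⟨c, rfl⟩ := hx'
    exact ⟨c, by rw [Algebra.smul_def, mul_one]⟩
  have heqR : Groth.Agent.Lib.Helper11.Seg.subK k (Groth.Agent.Lib.Helper11.GrConv.conv 𝒜) d =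
      𝒜 d := Submodule.ext (fun x => Iff.rfl)
  have heqS : Groth.Agent.Lib.Helper11.Seg.subK k (Groth.Agent.Lib.Helper11.GrConv.conv ℬ) d =
      ℬ d := Submodule.ext (fun x => Iff.rfl)
  have hfM0 : Module.Finite k
      ↥(Groth.Agent.Lib.Helper11.Seg.subK k (Groth.Agent.Lib.Helper11.GrConv.conv 𝒜) d) := by
    haveI := Groth.Agent.Lib.Helper11.GrDual.finite_compK_of_isNoetherian 𝒜 𝒜 hposR h0R d
    have heq : Groth.Agent.Lib.Helper11.GrDual.compK 𝒜 𝒜 d =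
        Groth.Agent.Lib.Helper11.Seg.subK k (Groth.Agent.Lib.Helper11.GrConv.conv 𝒜) d :=
      Submodule.ext (fun x => Iff.rfl)
    exact Module.Finite.equiv (LinearEquiv.ofEq _ _ heq)
  have hfN0 : Module.Finite k
      ↥(Groth.Agent.Lib.Helper11.Seg.subK k (Groth.Agent.Lib.Helper11.GrConv.conv ℬ) d) := by
    haveI := Groth.Agent.Lib.Helper11.GrDual.finite_compK_of_isNoetherian ℬ ℬ hposS h0S d
    have heq : Groth.Agent.Lib.Helper11.GrDual.compK ℬ ℬ d =
        Groth.Agent.Lib.Helper11.Seg.subK k (Groth.Agent.Lib.Helper11.GrConv.conv ℬ) d :=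
      Submodule.ext (fun x => Iff.rfl)
    exact Module.Finite.equiv (LinearEquiv.ofEq _ _ heq)
  have hI0 : ∀ e, (Groth.Agent.Lib.Helper11.GrConv.resConv 𝒜 𝒜 I).Hcomp
      (Groth.Agent.Lib.Helper11.GrConv.hidealConv 𝒜 mR) 0 e = ⊥ := by
    intro e
    have := hR 0 e (by omega)
    rw [Submodule.eq_bot_iff] at this ⊢
    exact this
  have hJ0 : ∀ e, (Groth.Agent.Lib.Helper11.GrConv.resConv ℬ ℬ J).Hcomp
      (Groth.Agent.Lib.Helper11.GrConv.hidealConv ℬ mS) 0 e = ⊥ := by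
    intro e
    have := hS 0 e (by omega)
    rw [Submodule.eq_bot_iff] at this ⊢
    exact this
  have key := Groth.Agent.Lib.Helper11.Kun.segre_row_conv hseg
    (Groth.Agent.Lib.Helper11.GrConv.hidealConv 𝒜 mR)
    (Groth.Agent.Lib.Helper11.GrConv.hidealConv ℬ mS)
    (Groth.Agent.Lib.Helper11.GrConv.hidealConv 𝒯 mT) hmR hmS hmT hseg.isSegreMod_self
    (Groth.Agent.Lib.Helper11.GrConv.resConv 𝒜 𝒜 I)
    (Groth.Agent.Lib.Helper11.GrConv.resConv ℬ ℬ J)
    (Groth.Agent.Lib.Helper11.GrConv.resConv 𝒯 𝒯 IT) hR' hS' d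
    (fun p => Groth.Agent.Lib27.GrFin.finite_Hcomp (Groth.Agent.Lib.Helper11.GrConv.conv 𝒜)
      (Groth.Agent.Lib.Helper11.Seg.hpos_conv 𝒜 hposR) _ hmR _ p d)
    (fun p => Groth.Agent.Lib27.GrFin.finite_Hcomp (Groth.Agent.Lib.Helper11.GrConv.conv ℬ)
      (Groth.Agent.Lib.Helper11.Seg.hpos_conv ℬ hposS) _ hmS _ p d)
    hfM0 hfN0 hI0 hJ0 q
  simp only [Groth.Agent.Lib.Helper11.Kun.finrank_Hcomp_resConv] at key
  rw [heqR, heqS] at key
  exact key

end Groth.Agent.S18673
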