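import Groth.Statements.S18702
import Mathlib
import Groth.Agent.Lib.Helper18.QGor9

set_option autoImplicit false
universe u
open QGor

namespace Groth.Agent.S18702

/-- Affine form, for an arbitrary Noetherian ring A (not assumed to be a domain). Let I be an ideal and
G a finite reflexive A-module (the evaluation map into the double dual is bijective). For k = 1 and
k = 2: if depth_I A ≥ k then depth_I G ≥ k; and if A satisfies (S_k) then G satisfies (S_k). -/
theorem result (A : Type u) [CommRing A] [IsNoetherianRing A] (I : Ideal A)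
    (G : Type u) [AddCommGroup G] [Module A G] [Module.Finite A G] [Module.IsReflexive A G] :
    (1 ≤ LocCoh.idealDepth I A → 1 ≤ LocCoh.idealDepth I G) ∧
    (2 ≤ LocCoh.idealDepth I A → 2 ≤ LocCoh.idealDepth I G) ∧
    (LocCoh.HasSk 1 A A → LocCoh.HasSk 1 A G) ∧ (LocCoh.HasSk 2 A A → LocCoh.HasSk 2 A G) := by
  exact ⟨Groth.Agent.Lib.Helper18.QGor.one_le_idealDepth_of_isReflexive I G,
    Groth.Agent.Lib.Helper18.QGor.two_le_idealDepth_of_isReflexive I G,
    Groth.Agent.Lib.Helper18.QGor.hasSk_one_of_isReflexive G,
    Groth.Agent.Lib.Helper18.QGor.hasSk_two_of_isReflexive G⟩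

end Groth.Agent.S18702
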