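import Groth.Statements.S18704
import Mathlib
import Groth.Agent.Lib.Helper18.QGor11

set_option autoImplicit false
universe u
open QGor

namespace Groth.Agent.S18704

/-- Affine form. Let A be a Noetherian ring with Serre's condition (S_2), I an ideal with ht I ≥ 2
(every prime containing I has height ≥ 2), and G a finite A-module with G_p reflexive for every
prime p not containing I. Then the following are equivalent: (i) G has (S_2) and dim Supp(G_p) ≥ 2
for every prime p ⊇ I in Supp G; (ii) depth_I G ≥ 2; (iii) G is reflexive. -/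
theorem result (A : Type u) [CommRing A] [IsNoetherianRing A]
    (hA : LocCoh.HasSk 2 A A) (I : Ideal A) (hI : 2 ≤ I.height)
    (G : Type u) [AddCommGroup G] [Module A G] [Module.Finite A G]
    (hU : ∀ p : PrimeSpectrum A, ¬ I ≤ p.asIdeal →
      Module.IsReflexive (Localization.AtPrime p.asIdeal) (LocalizedModule p.asIdeal.primeCompl G)) :
    ((LocCoh.HasSk 2 A G ∧ ∀ p : PrimeSpectrum A, I ≤ p.asIdeal → p ∈ Module.support A G →
        (2 : WithBot ℕ∞) ≤ Module.supportDim (Localization.AtPrime p.asIdeal) (LocalizedModule p.asIdeal.primeCompl G)) ↔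
      2 ≤ LocCoh.idealDepth I G) ∧
    (2 ≤ LocCoh.idealDepth I G ↔ Module.IsReflexive A G) := by
  have hA2 := Groth.Agent.Lib.Helper18.QGor.two_le_idealDepth_self_of_hasSk hA I hI
  have hA1 : 1 ≤ LocCoh.idealDepth I A := le_trans (by norm_num) hA2
  refine ⟨⟨?_, ?_⟩, ⟨?_, ?_⟩⟩
  · rintro ⟨hS, hcodim⟩
    exact Groth.Agent.Lib.Helper18.QGor.two_le_idealDepth_of_hasSk_of_codim I G hS hcodim
  · intro h2
    exact ⟨Groth.Agent.Lib.Helper18.QGor.hasSk_two_of_two_le_idealDepth hA I G hU h2,
      Groth.Agent.Lib.Helper18.QGor.two_le_supportDim_of_two_le_idealDepth I G h2⟩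
  · intro h2
    exact Groth.Agent.Lib.Helper18.QGor.isReflexive_of_two_le_idealDepth G I hA1 hU h2
  · intro hR
    exact Groth.Agent.Lib.Helper18.QGor.two_le_idealDepth_of_isReflexive I G hA2

end Groth.Agent.S18704
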