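import Groth.Statements.S18708
import Mathlib
import Groth.Agent.Lib.Helper18.QGor5

set_option autoImplicit false
universe u
open QGor

namespace Groth.Agent.S18708

/-- Affine-local form at a point of the equivalence (b) ⇔ (c) ⇔ (b″) and of the note after it. Let A → B
be a local homomorphism of Noetherian local rings, m the maximal ideal of A, J an ideal of B and 0 →
F → E⁰ → E¹ → G → 0 an exact sequence of finite B-modules with E⁰, E¹ flat over A, G_q flat over A
for every prime q not containing J, depth_J (E⁰/mE⁰) ≥ 2 and depth_J (E¹/mE¹) ≥ 1. Then depth_J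
(F/mF) ≥ 2 (the restriction map of the closed fibre of F off V(J) is bijective) if and only if G is
flat over A, if and only if depth_J (F/m^(n+1)F) ≥ 2 for all n; and when G is flat over A so is F. -/
theorem result (A B : Type u) [CommRing A] [CommRing B]
    [IsNoetherianRing A] [IsNoetherianRing B] [IsLocalRing A] [IsLocalRing B] [Algebra A B]
    [IsLocalHom (algebraMap A B)] (J : Ideal B)
    (F E0 E1 G : Type u) [AddCommGroup F] [Module B F] [Module A F] [IsScalarTower A B F] [Module.Finite B F]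
    [AddCommGroup E0] [Module B E0] [Module A E0] [IsScalarTower A B E0] [Module.Finite B E0] [Module.Flat A E0]
    [AddCommGroup E1] [Module B E1] [Module A E1] [IsScalarTower A B E1] [Module.Finite B E1] [Module.Flat A E1]
    [AddCommGroup G] [Module B G] [Module A G] [IsScalarTower A B G] [Module.Finite B G]
    (f : F →ₗ[B] E0) (u : E0 →ₗ[B] E1) (v : E1 →ₗ[B] G)
    (hf : Function.Injective f) (hfu : Function.Exact f u) (huv : Function.Exact u v) (hv : Function.Surjective v)
    (hGU : ∀ q : PrimeSpectrum B, ¬ J ≤ q.asIdeal → FlatCA.FlatAt A q.asIdeal G)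
    (h0 : 2 ≤ LocCoh.idealDepth J (EGA4.FibMod A B E0)) (h1 : 1 ≤ LocCoh.idealDepth J (EGA4.FibMod A B E1)) :
    (2 ≤ LocCoh.idealDepth J (EGA4.FibMod A B F) ↔ Module.Flat A G) ∧
    (Module.Flat A G ↔ ∀ n : ℕ, 2 ≤ LocCoh.idealDepth J (F ⧸ ((EGA4.mB A B) ^ (n + 1) • (⊤ : Submodule B F)))) ∧
    (Module.Flat A G → Module.Flat A F) := by
  have hfinF : Module.Finite B (EGA4.FibMod A B F) :=
    Module.Finite.of_surjective (Submodule.mkQ _) (Submodule.mkQ_surjective _)
  have part1 : 2 ≤ LocCoh.idealDepth J (EGA4.FibMod A B F) ↔ Module.Flat A G :=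
    ⟨fun h2 => Groth.Agent.Lib.Helper18.QGor.flat_of_two_le J f u v hf hfu huv hv hGU h0 h1 h2,
      fun hG => Groth.Agent.Lib.Helper18.QGor.two_le_of_flat J f u v hf hfu huv hv h0 h1⟩
  refine ⟨part1, ⟨?_, ?_⟩, ?_⟩
  · intro hG n
    have hFflat : Module.Flat A F :=
      Groth.Agent.Lib.Helper18.QGor.flat_F_of_flat f u v hf hfu huv hv
    have h2 := part1.2 hG
    have h3 := Groth.Agent.Lib.Helper18.QGor.le_idealDepth_quotient_of_primary (M := F) J
      (fun I' a ha x hx => Groth.Agent.Lib.Helper18.QGor.colon_of_flat I' a ha x hx) 2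
      (by exact_mod_cast h2) (IsLocalRing.maximalIdeal A ^ (n + 1)) (n + 1) le_rfl
      (Ideal.pow_le_self (Nat.succ_ne_zero n))
    have e : Groth.Agent.Lib.Helper18.QGor.SM B F (IsLocalRing.maximalIdeal A ^ (n + 1)) =
        (EGA4.mB A B) ^ (n + 1) • (⊤ : Submodule B F) := by
      change (Ideal.map (algebraMap A B) (IsLocalRing.maximalIdeal A ^ (n + 1))) • ⊤ = _
      rw [Ideal.map_pow]
    rw [e] at h3
    exact_mod_cast h3
  · intro h
    have h2 := h 0
    have e : (EGA4.mB A B) ^ (0 + 1) = EGA4.mB A B := by rw [zero_add, pow_one]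
    rw [e] at h2
    exact part1.1 h2
  · intro hG
    exact Groth.Agent.Lib.Helper18.QGor.flat_F_of_flat f u v hf hfu huv hv

end Groth.Agent.S18708
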