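import Groth.Statements.S18710
import Groth.Agent.S0320
import Groth.Agent.Lib.Helper24.DepthFlat
import Mathlib.RingTheory.Ideal.KrullsHeightTheorem
import Mathlib.RingTheory.Ideal.GoingDown
import Mathlib.RingTheory.Flat.Localization
import Mathlib.LinearAlgebra.TensorProduct.Quotient

set_option autoImplicit false
universe u
open QGor

namespace Groth.Agent.S18710

section helpers

open TensorProduct LocCoh Groth.Agent.Lib.Helper16.Depth Groth.Agent.Lib.Helper24.DepthFlat
  RingTheory.Sequence

/-- an element killed by `I` stays nonzero after a flat base change hitting all of `V(I)` -/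
lemma one_tmul_ne_zero (A B : Type u) [CommRing A] [CommRing B] [Algebra A B] [Module.Flat A B]
    (I : Ideal A)
    (hI : ∀ p : PrimeSpectrum A, I ≤ p.asIdeal →
      ∃ q : PrimeSpectrum B, q.asIdeal.comap (algebraMap A B) = p.asIdeal)
    (N : Type u) [AddCommGroup N] [Module A N] (m : N) (hm : m ≠ 0)
    (hIm : ∀ a ∈ I, a • m = 0) : (1 : B) ⊗ₜ[A] m ≠ 0 := by
  intro h0
  set f : A →ₗ[A] N := LinearMap.toSpanSingleton A N m with hf
  set a : Ideal A := LinearMap.ker f with ha
  have hmem : ∀ r : A, r ∈ a ↔ r • m = 0 := by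
    intro r
    rw [ha, LinearMap.mem_ker, hf, LinearMap.toSpanSingleton_apply]
  have hane : a ≠ ⊤ := by
    intro htop
    apply hm
    have h1 : (1 : A) ∈ a := by rw [htop]; trivial
    rw [hmem, one_smul] at h1
    exact h1
  have hIa : I ≤ a := fun r hr => (hmem r).2 (hIm r hr)
  obtain ⟨P, hPmax, haP⟩ := Ideal.exists_le_maximal a hane
  obtain ⟨q, hq⟩ := hI ⟨P, hPmax.isPrime⟩ (hIa.trans haP)
  let g : (A ⧸ a) →ₗ[A] N := Submodule.liftQ a f le_rfl
  have hg : Function.Injective g := by
    rw [← LinearMap.ker_eq_bot]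
    exact Submodule.ker_liftQ_eq_bot _ _ _ le_rfl
  have hinj := Module.Flat.lTensor_preserves_injective_linearMap (M := B) g hg
  have h1 : LinearMap.lTensor B g ((1 : B) ⊗ₜ[A] (Ideal.Quotient.mk a 1)) = (1 : B) ⊗ₜ[A] m := by
    rw [LinearMap.lTensor_tmul]
    congr 1
    change f 1 = m
    rw [hf, LinearMap.toSpanSingleton_apply, one_smul]
  have h2 : (1 : B) ⊗ₜ[A] (Ideal.Quotient.mk a 1) = 0 :=
    hinj (by rw [h1, h0, map_zero])
  have h3 := congrArg (TensorProduct.tensorQuotEquivQuotSMul B a) h2
  rw [TensorProduct.tensorQuotEquivQuotSMul_tmul_mk, one_smul, map_zero,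
    Submodule.Quotient.mk_eq_zero] at h3
  have hle : (a • (⊤ : Submodule A B)) ≤ q.asIdeal.restrictScalars A := by
    rw [Submodule.smul_le]
    intro r hr b _
    change r • b ∈ q.asIdeal
    rw [Algebra.smul_def]
    apply Ideal.mul_mem_right
    have : r ∈ q.asIdeal.comap (algebraMap A B) := by rw [hq]; exact haP hr
    exact this
  exact q.isPrime.ne_top ((Ideal.eq_top_iff_one _).2 (hle h3))

/-- `IM ≠ M` is preserved -/
lemma map_smul_top_ne_top (A B : Type u) [CommRing A] [CommRing B] [Algebra A B] [Module.Flat A B]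
    (I : Ideal A)
    (hI : ∀ p : PrimeSpectrum A, I ≤ p.asIdeal →
      ∃ q : PrimeSpectrum B, q.asIdeal.comap (algebraMap A B) = p.asIdeal)
    (M : Type u) [AddCommGroup M] [Module A M] (hIM : I • (⊤ : Submodule A M) ≠ ⊤) :
    I.map (algebraMap A B) • (⊤ : Submodule B (B ⊗[A] M)) ≠ ⊤ := by
  intro htop
  have hnt : Nontrivial (M ⧸ (I • (⊤ : Submodule A M))) :=
    Submodule.Quotient.nontrivial_iff.2 hIM
  obtain ⟨x, hx⟩ := exists_ne (0 : M ⧸ (I • (⊤ : Submodule A M)))
  have hIx : ∀ r ∈ I, r • x = 0 := by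
    intro r hr
    obtain ⟨y, rfl⟩ := Submodule.Quotient.mk_surjective _ x
    rw [← Submodule.Quotient.mk_smul, Submodule.Quotient.mk_eq_zero]
    exact Submodule.smul_mem_smul hr trivial
  have h1 := one_tmul_ne_zero A B I hI _ x hx hIx
  have hss : Subsingleton ((B ⊗[A] M) ⧸ (I.map (algebraMap A B) • (⊤ : Submodule B (B ⊗[A] M)))) :=
    Submodule.Quotient.subsingleton_iff.2 htop
  have := (TensorProduct.tensorQuotMapSMulEquivTensorQuot M B I).symm.injective.subsingleton
  exact h1 (Subsingleton.elim _ _)

/-- the reverse inequality, by induction (adapting the faithfully flat case of helper24) -/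
lemma depth_ge (A B : Type u) [CommRing A] [CommRing B] [Algebra A B]
    [IsNoetherianRing A] [IsNoetherianRing B] [Module.Flat A B] (I : Ideal A)
    (hI : ∀ p : PrimeSpectrum A, I ≤ p.asIdeal →
      ∃ q : PrimeSpectrum B, q.asIdeal.comap (algebraMap A B) = p.asIdeal) (n : ℕ) :
    ∀ (M : Type u) [AddCommGroup M] [Module A M] [Module.Finite A M],
      (n : ℕ∞) ≤ LocCoh.idealDepth (I.map (algebraMap A B)) (B ⊗[A] M) →
      (n : ℕ∞) ≤ LocCoh.idealDepth I M := by
  induction n with
  | zero => intro M _ _ _ _; simp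
  | succ n ih =>
    intro M _ _ _ hn
    by_cases hIM : I • (⊤ : Submodule A M) = ⊤
    · rw [idealDepth_eq_top_of_smul_top_eq_top I M hIM]; exact le_top
    set J := I.map (algebraMap A B) with hJ
    have hJM : J • (⊤ : Submodule B (B ⊗[A] M)) ≠ ⊤ := map_smul_top_ne_top A B I hI M hIM
    have hn' := hn
    rw [le_idealDepth_iff] at hn'
    rcases hn' with h | ⟨rs, hl, hr, hm⟩
    · exact absurd h hJM
    obtain ⟨y, rs', rfl⟩ : ∃ y rs', rs = y :: rs' := by
      cases rs with
      | nil => simp at hl
      | cons y rs' => exact ⟨y, rs', rfl⟩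
    have hyreg : IsSMulRegular (B ⊗[A] M) y := ((isWeaklyRegular_cons_iff _ y rs').mp hr).1
    have hyJ : y ∈ J := hm y (List.mem_cons_self)
    have hex : ∃ x ∈ I, IsSMulRegular M x := by
      by_contra hcon
      have hns : ¬ Subsingleton ((A ⧸ I) →ₗ[A] M) := by
        rw [IsSMulRegular.subsingleton_linearMap_iff]
        rintro ⟨r, hr1, hr2⟩
        rw [Ideal.annihilator_quotient] at hr1
        exact hcon ⟨r, hr1, hr2⟩
      rw [not_subsingleton_iff_nontrivial] at hns
      obtain ⟨f, hf⟩ := exists_ne (0 : (A ⧸ I) →ₗ[A] M)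
      set m := f 1 with hm'
      have hm0 : m ≠ 0 := by
        intro h0
        apply hf
        ext
        simpa using h0
      have hIm : ∀ a ∈ I, a • m = 0 := by
        intro a ha
        have h0 : (a • (1 : A ⧸ I)) = 0 := by
          rw [Algebra.smul_def, mul_one, Ideal.Quotient.algebraMap_eq,
            Ideal.Quotient.eq_zero_iff_mem]
          exact ha
        rw [hm', ← map_smul, h0, map_zero]
      have h1m : (1 : B) ⊗ₜ[A] m ≠ 0 := one_tmul_ne_zero A B I hI M m hm0 hIm
      have hJm : ∀ z ∈ J, z • ((1 : B) ⊗ₜ[A] m) = 0 := by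
        have : I ≤ ((Submodule.span B {(1 : B) ⊗ₜ[A] m}).annihilator).comap
            (algebraMap A B) := by
          intro a ha
          rw [Ideal.mem_comap, Submodule.mem_annihilator_span_singleton, TensorProduct.smul_tmul',
            Algebra.algebraMap_eq_smul_one, smul_assoc, one_smul,
            TensorProduct.smul_tmul, hIm a ha, TensorProduct.tmul_zero]
        intro z hz
        have := Ideal.map_le_iff_le_comap.mpr this hz
        rwa [Submodule.mem_annihilator_span_singleton] at this
      have := hJm y hyJ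
      exact h1m (hyreg (by simp only [this, smul_zero]))
    obtain ⟨x, hxI, hxreg⟩ := hex
    set x' := algebraMap A B x with hx'
    have hx'J : x' ∈ J := Ideal.mem_map_of_mem _ hxI
    have hx'reg : IsSMulRegular (B ⊗[A] M) x' :=
      hxreg.of_flat_of_isBaseChange (TensorProduct.isBaseChange A M B)
    have h1 := Groth.Agent.S0320.result B J (B ⊗[A] M) hJM x' hx'J hx'reg
    have h2 := Groth.Agent.S0320.result A I M hIM x hxI hxreg
    have e := QuotSMulTop.algebraMapTensorEquivTensorQuotSMulTop x M B
    have h3 : (n : ℕ∞) ≤ LocCoh.idealDepth J (B ⊗[A] QuotSMulTop x M) := by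
      rw [← idealDepth_congr J e]
      rw [← h1] at hn
      have : ((n + 1 : ℕ) : ℕ∞) = (n : ℕ∞) + 1 := by push_cast; rfl
      rw [this] at hn
      exact (ENat.add_le_add_iff_right ENat.one_ne_top).mp hn
    have h4 := ih (QuotSMulTop x M) h3
    rw [← h2]
    have : ((n + 1 : ℕ) : ℕ∞) = (n : ℕ∞) + 1 := by push_cast; rfl
    rw [this]
    gcongr

/-- heights: going down -/
lemma height_map_eq (A B : Type u) [CommRing A] [CommRing B]
    [IsNoetherianRing A] [IsNoetherianRing B] [Algebra A B] [Module.Flat A B] (I : Ideal A)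
    (hI : ∀ p : PrimeSpectrum A, I ≤ p.asIdeal →
      ∃ q : PrimeSpectrum B, q.asIdeal.comap (algebraMap A B) = p.asIdeal) :
    (I.map (algebraMap A B)).height = I.height := by
  haveI : Algebra.HasGoingDown A B := Algebra.HasGoingDown.of_flat
  apply le_antisymm
  · -- `ht(IB) ≤ ht(I)`
    rw [Ideal.height_eq_inf_minimalPrimes I]
    refine le_iInf₂ fun p hp => ?_
    haveI hpp : p.IsPrime := hp.1.1
    obtain ⟨q, hq⟩ := hI ⟨p, hpp⟩ hp.1.2
    have hpq : p.map (algebraMap A B) ≤ q.asIdeal := by
      rw [Ideal.map_le_iff_le_comap, hq]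
    obtain ⟨q', hq'min, hq'le⟩ := Ideal.exists_minimalPrimes_le hpq
    haveI hq'p : q'.IsPrime := hq'min.1.1
    have hover : q'.comap (algebraMap A B) = p := by
      apply le_antisymm
      · have hq2 : q.asIdeal.comap (algebraMap A B) = p := hq
        rw [← hq2]
        exact Ideal.comap_mono hq'le
      · rw [← Ideal.map_le_iff_le_comap]
        exact hq'min.1.2
    haveI : q'.LiesOver p := ⟨hover.symm⟩
    have hform := Ideal.height_eq_height_add_of_liesOver_of_hasGoingDown p q'
    have hzero : (q'.map (Ideal.Quotient.mk (p.map (algebraMap A B)))).height = 0 := by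
      rw [Ideal.minimalPrimes_eq_comap] at hq'min
      obtain ⟨r, hr, rfl⟩ := hq'min
      rw [Ideal.map_comap_of_surjective _ Ideal.Quotient.mk_surjective]
      haveI : r.IsPrime := hr.1.1
      exact Ideal.height_eq_zero_iff.2 hr
    rw [hzero, add_zero] at hform
    rw [← hform]
    exact Ideal.height_mono ((Ideal.map_mono hp.1.2).trans hq'min.1.2)
  · -- `ht(I) ≤ ht(IB)`
    rw [Ideal.height_eq_inf_minimalPrimes (I.map (algebraMap A B))]
    refine le_iInf₂ fun Q hQ => ?_
    haveI hQp : Q.IsPrime := hQ.1.1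
    set p := Q.comap (algebraMap A B) with hp
    haveI : p.IsPrime := Ideal.comap_isPrime _ _
    haveI : Q.LiesOver p := ⟨rfl⟩
    have hform := Ideal.height_eq_height_add_of_liesOver_of_hasGoingDown p Q
    have hIp : I ≤ p := by
      rw [hp, ← Ideal.map_le_iff_le_comap]
      exact hQ.1.2
    calc I.height ≤ p.height := Ideal.height_mono hIp
      _ ≤ Q.height := by rw [hform]; exact le_self_add

end helpers

open TensorProduct in
/-- Affine form. Let A → B be a flat homomorphism of Noetherian rings and I an ideal of A with V(I)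
contained in the image of Spec B → Spec A (every prime containing I is a contraction of a prime of
B). Then ht(IB) = ht(I) (codimension of the preimage equals codimension), and for every finite
A-module G one has depth_{IB} (B ⊗_A G) = depth_I G. -/
theorem result (A B : Type u) [CommRing A] [CommRing B]
    [IsNoetherianRing A] [IsNoetherianRing B] [Algebra A B] [Module.Flat A B] (I : Ideal A)
    (hI : ∀ p : PrimeSpectrum A, I ≤ p.asIdeal → ∃ q : PrimeSpectrum B, q.asIdeal.comap (algebraMap A B) = p.asIdeal)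
    (G : Type u) [AddCommGroup G] [Module A G] [Module.Finite A G] :
    (I.map (algebraMap A B)).height = I.height ∧
    LocCoh.idealDepth (I.map (algebraMap A B)) (B ⊗[A] G) = LocCoh.idealDepth I G := by
  refine ⟨height_map_eq A B I hI, le_antisymm ?_ ?_⟩
  · rw [← ENat.forall_natCast_le_iff_le]
    intro n hn
    exact depth_ge A B I hI n G hn
  · exact Groth.Agent.Lib.Helper24.DepthFlat.depth_le_of_flat A B I G

end Groth.Agent.S18710
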