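import Groth.Statements.S18720
import Groth.Agent.S0369
import Groth.Agent.Lib.Helper13.DualMod2
import Groth.Agent.Lib.Helper13.DualBC27
import Groth.Agent.Lib.Helper18.QGor9
import Groth.Agent.Lib.Helper18.TildeSec4

set_option autoImplicit false
universe u
open CategoryTheory
attribute [local instance] HasDerivedCategory.standard
open QGor

namespace Groth.Agent.S18720

/-- Affine-local form. Let A be a Noetherian local ring of Krull dimension n with a dualizing complex ω,
L = H⁰(ω), and J an ideal with ht J ≥ 1 such that ω restricted off V(J) is L placed in degree 0,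
i.e. H^i(ω)_p = 0 for every i ≠ 0 and every prime p not containing J. Then ω is ordinary (its
codimension function is p ↦ ht p), which for the local ring means: A is equidimensional and ω[n] is
normalized; and L satisfies (S₂). If moreover ht J ≥ 2, then depth_J L ≥ 2 (L is the module of
sections of its restriction off V(J)). -/
theorem result (A : Type u) [CommRing A] [IsNoetherianRing A]
    [IsLocalRing A] (ω : Dual.D A) (hω : Dual.IsDualizing A ω) (n : ℕ) (hd : ringKrullDim A = n)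
    (J : Ideal A) (hJ : 1 ≤ J.height)
    (hoff : ∀ p : PrimeSpectrum A, ¬ J ≤ p.asIdeal → ∀ i : ℤ, i ≠ 0 → p ∉ Module.support A (Dual.HD A ω i)) :
    (EGA4.IsEquidim A ∧ Dual.IsNormalized A (ω⟦(n : ℤ)⟧) ∧ LocCoh.HasSk 2 A (Dual.HD A ω 0)) ∧
    (2 ≤ J.height → 2 ≤ LocCoh.idealDepth J (Dual.HD A ω 0)) := by
  obtain ⟨c, hnorm⟩ := Groth.Agent.Lib.Helper13.DualBC.exists_normalized_shift ω hω
  have hω' := Groth.Agent.Lib.Helper13.DualBC.isDualizing_shift ω hω c
  have hJq : ∀ q ∈ minimalPrimes A, ¬ J ≤ q := by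
    intro q hq hJq
    haveI := hq.1.1
    have h1 : J.height ≤ q.height := Ideal.height_mono hJq
    have h2 : q.height = 0 := by
      have := PrimeSpectrum.height_eq_orderHeight (⟨q, hq.1.1⟩ : PrimeSpectrum A)
      rw [Order.height_eq_zero.2 (PrimeSpectrum.isMin_iff.2 hq)] at this
      exact this
    rw [h2] at h1
    have : (1 : ℕ∞) ≤ 0 := hJ.trans h1
    simp at this
  have key : ∀ q ∈ minimalPrimes A, ∀ e : ℕ, ringKrullDim (A ⧸ q) = e → (e : ℤ) = c := by
    intro q hq e he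
    haveI := hq.1.1
    have h1 := (Groth.Agent.Lib.Helper13.DualBC.nontrivial_localized_HD_iff_minimalPrime A (ω⟦c⟧) hω'
      hnorm q hq e he (-(e : ℤ))).2 rfl
    have h2 : (⟨q, hq.1.1⟩ : PrimeSpectrum A) ∈
        Module.support A (Dual.HD A (ω⟦c⟧) (-(e : ℤ))) := Module.mem_support_iff.2 h1
    rw [(Groth.Agent.Lib.Helper13.DualBC.HDShiftLinearEquiv ω c (-(e : ℤ))).support_eq] at h2
    by_contra hne
    exact hoff ⟨q, hq.1.1⟩ (hJq q hq) (c + -(e : ℤ)) (by omega) h2
  have hfin : ∀ q ∈ minimalPrimes A, ∃ e : ℕ, ringKrullDim (A ⧸ q) = e := by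
    intro q hq
    have h1 := Groth.Agent.Lib.Helper13.DualBC.ringKrullDim_quotient_eq_coheight
      (⟨q, hq.1.1⟩ : PrimeSpectrum A)
    have h2 : (Order.coheight (⟨q, hq.1.1⟩ : PrimeSpectrum A) : WithBot ℕ∞) ≤ n :=
      (show Order.krullDim (PrimeSpectrum A) = n from hd) ▸ Order.coheight_le_krullDim _
    have h3 : Order.coheight (⟨q, hq.1.1⟩ : PrimeSpectrum A) ≤ (n : ℕ∞) := by exact_mod_cast h2
    obtain ⟨e, he⟩ := ENat.ne_top_iff_exists.mp (ne_top_of_le_ne_top (ENat.natCast_ne_top n) h3)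
    exact ⟨e, by rw [h1, ← he]; rfl⟩
  obtain ⟨q₀, hq₀, -, hq₀d⟩ :=
    Groth.Agent.Lib.Helper13.DualMod.exists_minimalPrime_of_le_height_add_coheight n hd
      (IsLocalRing.closedPoint A) (by
        have h1 := PrimeSpectrum.height_eq_orderHeight (IsLocalRing.closedPoint A)
        have h2 : ((IsLocalRing.closedPoint A).asIdeal.height : WithBot ℕ∞) = n := by
          rw [← hd]
          exact IsLocalRing.maximalIdeal_height_eq_ringKrullDim
        rw [h1] at h2
        have h3 : Order.height (IsLocalRing.closedPoint A) = (n : ℕ∞) := by exact_mod_cast h2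
        rw [h3]
        exact le_self_add)
  have hcn : (n : ℤ) = c := key q₀ hq₀ n hq₀d
  subst hcn
  have hEq : EGA4.IsEquidim A := by
    intro q hq
    obtain ⟨e, he⟩ := hfin q hq
    have := key q hq e he
    rw [he, hd]
    exact_mod_cast this
  have h369 := Groth.Agent.S0369.result A (ω⟦(n : ℤ)⟧) hω' hnorm n hd
  let E : Dual.HD A (ω⟦(n : ℤ)⟧) (-(n : ℤ)) ≃ₗ[A] Dual.HD A ω 0 :=
    Groth.Agent.Lib.Helper13.DualMod.HDShiftLinearEquiv' ω (n : ℤ) (-(n : ℤ)) 0 (by omega)
  have hS2 : LocCoh.HasSk 2 A (Dual.HD A ω 0) :=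
    Groth.Agent.Lib.Helper18.QGor.hasSk_of_linearEquiv 2 E h369.2
  refine ⟨⟨hEq, hnorm, hS2⟩, fun hJ2 => ?_⟩
  have hsupp : Module.support A (Dual.HD A ω 0) = Set.univ := by
    rw [← E.support_eq, h369.1]
    ext p
    simp only [Set.mem_ofPred_eq, Set.mem_univ, iff_true]
    obtain ⟨q, hq, hqp⟩ := Ideal.exists_minimalPrimes_le (bot_le : (⊥ : Ideal A) ≤ p.asIdeal)
    exact ⟨q, hq, hqp, (hEq q hq).trans hd⟩
  haveI : Module.Finite A (Dual.HD A ω 0) := hω.finite_cohomology 0
  have hgoal : ((2 : ℕ) : ℕ∞) ≤ LocCoh.idealDepth J (Dual.HD A ω 0) := by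
    refine Groth.Agent.Lib.Helper18.QGor.le_idealDepth_of_forall_le_depth J 2 _ (fun p hp hJp => ?_)
    have h1 := hS2 p
    rw [Groth.Agent.Lib.Helper18.TildeSec.supportDim_localizedModule_of_support_eq_univ hsupp p] at h1
    have h2 : (2 : ℕ∞) ≤ p.height := hJ2.trans (Ideal.height_mono hJp)
    have h3 : ((2 : ℕ) : WithBot ℕ∞) ≤ (p.height : WithBot ℕ∞) := by
      have : (((2 : ℕ) : ℕ∞) : WithBot ℕ∞) ≤ (p.height : WithBot ℕ∞) :=
        WithBot.coe_le_coe.2 (by exact_mod_cast h2)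
      exact this
    rw [min_eq_left h3] at h1
    exact WithBot.coe_le_coe.1 (show (((2 : ℕ) : ℕ∞) : WithBot ℕ∞) ≤ _ from h1)
  exact_mod_cast hgoal

end Groth.Agent.S18720
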