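import Groth.Statements.S18721
import Groth.Agent.Lib.Helper13.SkDual5

set_option autoImplicit false
universe u
open CategoryTheory
attribute [local instance] HasDerivedCategory.standard
open QGor

namespace Groth.Agent.S18721

/-- Affine form. Let k be a field and A a finitely generated k-algebra, equidimensional of Krull
dimension n, and let ω be a dualizing complex of A normalized at every maximal ideal m (no nonzero
morphisms A/m → ω[i] in D(A) for i ≠ 0 — the canonical dualizing complex of Spec A over k). Put Z_i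
= Supp H^{-i}(ω). Then H^{-i}(ω) = 0 for every i > n, and for every k′ ≥ 1: A satisfies (S_{k′}) if
and only if dim Z_i ≤ i − k′ for all i ≠ n, where for i < k′ this means H^{-i}(ω) = 0. -/
theorem result (k A : Type u) [Field k] [CommRing A]
    [Algebra k A] (hft : Algebra.FiniteType k A) [IsNoetherianRing A]
    (hEq : EGA4.IsEquidim A) (n : ℕ) (hd : ringKrullDim A = n)
    (ω : Dual.D A) (hω : Dual.IsDualizing A ω)
    (hnorm : ∀ (m : Ideal A) (_ : m.IsMaximal) (i : ℤ), i ≠ 0 → Subsingleton (Dual.inD A (A ⧸ m) ⟶ ω⟦i⟧)) :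
    (∀ i : ℕ, n < i → Subsingleton (Dual.HD A ω (-(i : ℤ)))) ∧
    ∀ k' : ℕ, 1 ≤ k' →
      (LocCoh.HasSk k' A A ↔
        ∀ i : ℕ, i ≠ n →
          (i < k' → Subsingleton (Dual.HD A ω (-(i : ℤ)))) ∧
          (k' ≤ i → Module.supportDim A (Dual.HD A ω (-(i : ℤ))) ≤ ((i - k' : ℕ) : WithBot ℕ∞))) := by
  have hEqM : EGA4.IsEquidimModule A A := by
    intro p hp
    rw [Module.annihilator_eq_bot.2 inferInstance] at hp
    rw [Module.supportDim_self_eq_ringKrullDim]
    exact hEq p hp
  have hδ : Module.supportDim A A = n := by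
    rw [Module.supportDim_self_eq_ringKrullDim, hd]
  have hnorm' : ∀ (m : Ideal A) (_ : m.IsMaximal) (i : ℤ), i ≠ 0 →
      Subsingleton (Dual.inD A (A ⧸ m) ⟶ ω⟦i⟧) := hnorm
  have hvan := Groth.Agent.Lib.Helper13.SkDual.subsingleton_HD_global A ω hω hnorm' n hd
  refine ⟨fun i hi => hvan _ (Or.inl (by omega)), fun k' hk' => ?_⟩
  have key := Groth.Agent.Lib.Helper13.SkDual.hasSk_iff_of_equidim_global A ω hω hnorm' A hEqM n hδ k'
  have E := fun j : ℤ => Groth.Agent.Lib.Helper13.DualBC.homSelfHDEquiv A ω j
  rw [key]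
  constructor
  · intro h i hi
    obtain ⟨h1, h2⟩ := h (-(i : ℤ)) (by omega)
    constructor
    · intro hik
      have := h1 (by omega)
      exact (E (-(i : ℤ))).symm.toEquiv.subsingleton
    · intro hki
      have h3 := h2 (by omega)
      rw [Module.supportDim_eq_of_equiv (E (-(i : ℤ)))] at h3
      have h4 : (-(-(i : ℤ)) - (k' : ℤ)).toNat = i - k' := by omega
      rw [h4] at h3
      exact h3
  · intro h j hj
    by_cases hjpos : 0 < j
    · constructor
      · intro _
        have := hvan j (Or.inr hjpos)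
        exact (E j).toEquiv.subsingleton
      · intro hpos
        omega
    · obtain ⟨i, rfl⟩ : ∃ i : ℕ, j = -(i : ℤ) := ⟨(-j).toNat, by omega⟩
      obtain ⟨h1, h2⟩ := h i (by omega)
      constructor
      · intro hneg
        have := h1 (by omega)
        exact (E (-(i : ℤ))).toEquiv.subsingleton
      · intro hpos
        have h3 := h2 (by omega)
        rw [Module.supportDim_eq_of_equiv (E (-(i : ℤ)))]
        have h4 : (-(-(i : ℤ)) - (k' : ℤ)).toNat = i - k' := by omega
        rw [h4]
        exact h3

end Groth.Agent.S18721
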