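import Groth.Statements.S18722
import Mathlib
import Groth.Agent.Lib.Helper18.QGor12

set_option autoImplicit false
universe u
open QGor

namespace Groth.Agent.S18722

/-- Affine form. Let A → B be a flat homomorphism of Noetherian rings and J an ideal of B such that the
fibre local ring B_q/pB_q has depth ≥ 1 at every prime q ⊇ J (p the contraction of q); let F be a
finite B-module. (1) If F_q is reflexive for every prime q not containing J and depth_J F ≥ 2 (F is
the module of sections of its restriction off V(J)), then F is reflexive. (2) If F is reflexive and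
the fibre local rings at primes q ⊇ J have depth ≥ 2, then depth_J F ≥ 2. -/
theorem result (A B : Type u) [CommRing A] [CommRing B]
    [IsNoetherianRing A] [IsNoetherianRing B] [Algebra A B] [Module.Flat A B] (J : Ideal B)
    (hZ1 : ∀ q : PrimeSpectrum B, J ≤ q.asIdeal →
      1 ≤ LocCoh.idealDepth (q.asIdeal.map (algebraMap B (EGA4.FibLocRing A B q.asIdeal))) (EGA4.FibLocRing A B q.asIdeal))
    (F : Type u) [AddCommGroup F] [Module B F] [Module.Finite B F] :
    ((∀ q : PrimeSpectrum B, ¬ J ≤ q.asIdeal →
        Module.IsReflexive (Localization.AtPrime q.asIdeal) (LocalizedModule q.asIdeal.primeCompl F)) →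
      2 ≤ LocCoh.idealDepth J F → Module.IsReflexive B F) ∧
    (Module.IsReflexive B F →
      (∀ q : PrimeSpectrum B, J ≤ q.asIdeal →
        2 ≤ LocCoh.idealDepth (q.asIdeal.map (algebraMap B (EGA4.FibLocRing A B q.asIdeal))) (EGA4.FibLocRing A B q.asIdeal)) →
      2 ≤ LocCoh.idealDepth J F) := by
  have key : ∀ n : ℕ, (∀ q : PrimeSpectrum B, J ≤ q.asIdeal →
      (n : ℕ∞) ≤ LocCoh.idealDepth (q.asIdeal.map (algebraMap B (EGA4.FibLocRing A B q.asIdeal)))
        (EGA4.FibLocRing A B q.asIdeal)) → (n : ℕ∞) ≤ LocCoh.idealDepth J B := by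
    intro n hZ
    apply Groth.Agent.Lib.Helper18.QGor.le_idealDepth_of_forall_le_depth J n B
    intro q hq hJq
    rw [Groth.Agent.Lib.Helper18.Serre.depth_localizedModule_self]
    exact Groth.Agent.Lib.Helper18.QGor.le_depth_self_of_le_idealDepth_fibLocRing A B q n
      (hZ ⟨q, hq⟩ hJq)
  constructor
  · intro hU h2
    have hB1 : 1 ≤ LocCoh.idealDepth J B := by
      have := key 1 (fun q hq => by simpa using hZ1 q hq)
      simpa using this
    exact Groth.Agent.Lib.Helper18.QGor.isReflexive_of_two_le_idealDepth F J hB1 hU h2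
  · intro hR hZ2
    have hB2 : 2 ≤ LocCoh.idealDepth J B := by
      have := key 2 (fun q hq => by simpa using hZ2 q hq)
      simpa using this
    exact Groth.Agent.Lib.Helper18.QGor.two_le_idealDepth_of_isReflexive J F hB2

end Groth.Agent.S18722
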