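import Groth.Statements.S1873
import Mathlib
import Mathlib
import Groth.Agent.Lib.Helper11.IntMultD
import Groth.Agent.Lib.Helper11.IntMultH
import Groth.Agent.Lib.Helper11.IntMultI
import Groth.Agent.Lib.Helper11.IntMultL

set_option autoImplicit false
universe u
open CategoryTheory AlgebraicGeometry
attribute [local instance] HasDerivedCategory.standard
open IntMult

namespace Groth.Agent.S1873

/-- If the multiplicity of Z in the closed subscheme V ∩ W is 1, i.e. length_{O_{X,ξ}}(O_{V∩W,ξ}) = 1,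
then e(X, V·W, Z) = 1 and the local rings O_{V,ξ}, O_{W,ξ} are regular (V and W are smooth at a
general point of Z). Here X is a nonsingular variety over an algebraically closed field K (smooth,
separated, of finite type, integral), V and W are closed subvarieties given by quasi-coherent ideal
sheaves with integral subschemes, of dimensions r and s with dim X = n, intersecting properly, and ξ
is the generic point of an irreducible component Z of V ∩ W; e(X, V·W, Z) is the alternating sum of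
lengths of Tor over O_{X,ξ}. -/
theorem result (K : Type u) [Field K] [IsAlgClosed K] (X : Scheme.{u}) (f : X ⟶ Spec (CommRingCat.of K)) [Smooth f] [IsSeparated f] [QuasiCompact f] [IsIntegral X] (IV IW : X.IdealSheafData) [IsIntegral IV.subscheme] [IsIntegral IW.subscheme] (n r s : ℕ) (hn : topologicalKrullDim X = n) (hr : topologicalKrullDim IV.support = r) (hs : topologicalKrullDim IW.support = s) (hprop : IntMult.ProperInt (IV.support : Set X) (IW.support : Set X) n r s) (ξ : X) (hξV : ξ ∈ IV.support) (hξW : ξ ∈ IW.support) (hmax : ∀ ξ' : X, ξ' ∈ IV.support → ξ' ∈ IW.support → ξ' ⤳ ξ → ξ' = ξ) (h1 : Module.length (X.presheaf.stalk ξ) (↑(X.presheaf.stalk ξ) ⧸ (IntMult.stalkIdeal IV ξ ⊔ IntMult.stalkIdeal IW ξ)) = 1) : IntMult.mult IV IW ξ = 1 ∧ IsRegularLocalRing (↑(X.presheaf.stalk ξ) ⧸ IntMult.stalkIdeal IV ξ) ∧ IsRegularLocalRing (↑(X.presheaf.stalk ξ) ⧸ IntMult.stalkIdeal IW ξ) := by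
  haveI hregA : IsRegularLocalRing (X.presheaf.stalk ξ) :=
    Groth.Agent.Lib.Helper25.CurveEtale.isRegularLocalRing_stalk_of_smooth f ξ
  obtain ⟨a, ha⟩ := Groth.Agent.Lib.Helper18.SerreReg.exists_ringKrullDim_eq_nat
    (X.presheaf.stalk ξ)
  obtain ⟨dp, hdp, e1⟩ := Groth.Agent.Lib.Helper11.IntMultC.dim_quot_stalkIdeal K X f IV n r hn hr
    ξ hξV a ha
  obtain ⟨dq, hdq, e2⟩ := Groth.Agent.Lib.Helper11.IntMultC.dim_quot_stalkIdeal K X f IW n s hn hs
    ξ hξW a ha
  obtain ⟨e3, e4⟩ := Groth.Agent.Lib.Helper11.IntMultD.two_mul_le K X f IV IW n r s hn hprop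
    ξ hξV hξW a ha
  have hfl := Groth.Agent.Lib.Helper11.IntMultD.isFiniteLength_quot_sup IV IW ξ hmax
  haveI hpP : (IntMult.stalkIdeal IV ξ).IsPrime :=
    Groth.Agent.Lib.Helper11.IntMultI.stalkIdeal_isPrime IV ξ hξV
  haveI hqP : (IntMult.stalkIdeal IW ξ).IsPrime :=
    Groth.Agent.Lib.Helper11.IntMultI.stalkIdeal_isPrime IW ξ hξW
  have hpq : IntMult.stalkIdeal IV ξ ⊔ IntMult.stalkIdeal IW ξ =
      IsLocalRing.maximalIdeal (X.presheaf.stalk ξ) := by
    have hs : IsSimpleModule (X.presheaf.stalk ξ)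
        (↑(X.presheaf.stalk ξ) ⧸ (IntMult.stalkIdeal IV ξ ⊔ IntMult.stalkIdeal IW ξ)) :=
      Module.length_eq_one_iff.1 h1
    have hco : IsCoatom (IntMult.stalkIdeal IV ξ ⊔ IntMult.stalkIdeal IW ξ) :=
      isSimpleModule_iff_isCoatom.1 hs
    exact IsLocalRing.eq_maximalIdeal (Ideal.isMaximal_def.2 hco)
  have hsum : a ≤ dp + dq := by omega
  obtain ⟨h, x, hpx, hreg, e5, e6, hRp⟩ := Groth.Agent.Lib.Helper11.IntMultL.main
    (IntMult.stalkIdeal IV ξ) (IntMult.stalkIdeal IW ξ) hpq a dp dq ha hdp hdq hsum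
  obtain ⟨h', y, hqy, hregy, e7, e8, hRq⟩ := Groth.Agent.Lib.Helper11.IntMultL.main
    (IntMult.stalkIdeal IW ξ) (IntMult.stalkIdeal IV ξ) (by rw [sup_comm]; exact hpq) a dq dp ha
    hdq hdp (by omega)
  refine ⟨?_, hRp, hRq⟩
  have hW : LocCoh.IsCohenMacaulayLocalRing (↑(X.presheaf.stalk ξ) ⧸ IntMult.stalkIdeal IW ξ) :=
    { supportDim_eq_depth :=
        Groth.Agent.Lib.Helper16.PDR.isCohenMacaulayModule_self_of_isRegularLocalRing _ }
  have hdim : (h : WithBot ℕ∞) ≤
      ringKrullDim (↑(X.presheaf.stalk ξ) ⧸ IntMult.stalkIdeal IW ξ) := by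
    rw [hdq]
    exact_mod_cast e6
  have h1' : Module.length (X.presheaf.stalk ξ)
      (↑(X.presheaf.stalk ξ) ⧸ (IntMult.stalkIdeal IW ξ ⊔ IntMult.stalkIdeal IV ξ)) = 1 := by
    rw [sup_comm]; exact h1
  unfold IntMult.mult
  rw [hpx] at hfl h1' ⊢
  rw [Groth.Agent.Lib.Helper11.Kz.chi_quot_eq_length _ x hreg hfl hW hdim, h1']
  rfl

end Groth.Agent.S1873
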