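import Groth.Statements.S18731
import Groth.Agent.Lib.Helper25.BlowUpReg
import Groth.Agent.Lib.Helper25.BlowUpUP
import Groth.Agent.Lib.Helper1.IdealSheafComap

set_option autoImplicit false
universe u
open CategoryTheory CategoryTheory.Limits AlgebraicGeometry TopologicalSpace
open ModPair

namespace Groth.Agent.S18731

/-- Let I on X and J on Y be quasi-coherent ideal sheaves of effective Cartier divisors and f : X ⟶ Y a
morphism satisfying the modulus condition I ≤ J.comap f (the closed subscheme J ×_Y X of X lies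
inside the closed subscheme cut out by I). Then the pull-back of the divisor of J along f is
defined: J.comap f is the ideal sheaf of an effective Cartier divisor on X. -/
theorem result {X Y : Scheme.{u}} (I : X.IdealSheafData)
    (J : Y.IdealSheafData) (hI : BlowUp.IsEffCartierIdeal I) (hJ : BlowUp.IsEffCartierIdeal J)
    (f : X ⟶ Y) (hf : ModPair.IsAmbient I J f) : BlowUp.IsEffCartierIdeal (J.comap f) := by
  intro x
  obtain ⟨V, hxV, t, ht, hJV⟩ := hJ (f x)
  obtain ⟨U₀, hxU₀, s, hs, hIU₀⟩ := hI x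
  obtain ⟨U, hxU, hUV, hUU₀⟩ :=
    Groth.Agent.Lib.Helper25.BlowUpUP.exists_affineOpens_le_preimage f x V.1 hxV U₀.1 hxU₀
  obtain ⟨hs', hIU⟩ := Groth.Agent.Lib.Helper25.BlowUpUP.principal_of_le I
    (show U ≤ U₀ from hUU₀) s hs hIU₀
  have hJU : (J.comap f).ideal U = Ideal.span {(f.appLE V.1 U.1 hUV).hom t} := by
    rw [Groth.Agent.Lib.Helper1.ideal_comap J f U V hUV, hJV, Ideal.map_span, Set.image_singleton]
  refine ⟨U, hxU, (f.appLE V.1 U.1 hUV).hom t, ?_, hJU⟩
  have hle : I.ideal U ≤ (J.comap f).ideal U := hf U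
  have hmem : (X.presheaf.map (homOfLE (show U ≤ U₀ from hUU₀)).op).hom s ∈
      (J.comap f).ideal U := hle (by rw [hIU]; exact Ideal.mem_span_singleton_self _)
  rw [hJU, Ideal.mem_span_singleton'] at hmem
  obtain ⟨a, ha⟩ := hmem
  rw [← ha] at hs'
  exact (mul_mem_nonZeroDivisors.mp hs').2

end Groth.Agent.S18731
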