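import Groth.Statements.S18732
import Groth.Agent.Lib27.Sch.ComplCartier

set_option autoImplicit false
universe u
open CategoryTheory CategoryTheory.Limits AlgebraicGeometry TopologicalSpace
open ModPair

namespace Groth.Agent.S18732

/-- Let X be a scheme, I the quasi-coherent ideal sheaf of an effective Cartier divisor on X with open
complement U, and f : X' ⟶ X a morphism of schemes for which the open immersion of f⁻¹(U) into X'
has all of X' as its scheme-theoretic image. Then f⁻¹(U) is scheme-theoretically dense in X' (for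
every open W of X' the inclusion of f⁻¹(U) ∩ W into W is scheme-theoretically dominant), and the
closed subscheme of X' pulled back from the divisor of I is an effective Cartier divisor: I.comap f
is the ideal sheaf of an effective Cartier divisor. -/
theorem result {X X' : Scheme.{u}}
    (I : X.IdealSheafData) (hI : BlowUp.IsEffCartierIdeal I) (f : X' ⟶ X)
    [IsSchemeTheoreticallyDominant (f ⁻¹ᵁ ModPair.interior I).ι] :
    (∀ W : X'.Opens, IsSchemeTheoreticallyDominant
        (X'.homOfLE (inf_le_right : f ⁻¹ᵁ ModPair.interior I ⊓ W ≤ W))) ∧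
      BlowUp.IsEffCartierIdeal (I.comap f) := by
  have hOset : ((f ⁻¹ᵁ ModPair.interior I : X'.Opens) : Set X') =
      (((I.comap f).support : Set X'))ᶜ := by
    rw [Scheme.IdealSheafData.support_comap]
    rfl
  have hloc : ∀ x : X', ∃ U : X'.affineOpens, x ∈ U.1 ∧ ∃ g : Γ(X', U.1),
      (I.comap f).ideal U = Ideal.span {g} := by
    intro x
    obtain ⟨V, hxV, t, ht, hIV⟩ := hI (f x)
    obtain ⟨U, hxU, hUV, -⟩ :=
      Groth.Agent.Lib.Helper25.BlowUpUP.exists_affineOpens_le_preimage f x V.1 hxV ⊤ trivial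
    exact ⟨U, hxU, (f.appLE V.1 U.1 hUV).hom t, by
      rw [Groth.Agent.Lib.Helper1.ideal_comap I f U V hUV, hIV, Ideal.map_span,
        Set.image_singleton]⟩
  have hbasic : ∀ (U : X'.affineOpens) (g : Γ(X', U.1)), (I.comap f).ideal U = Ideal.span {g} →
      (((f ⁻¹ᵁ ModPair.interior I : X'.Opens) : Set X') ∩ (U.1 : Set X')) =
        (X'.basicOpen g : Set X') := by
    intro U g hg
    rw [hOset]
    exact Groth.Agent.Lib27.ComplCartier.compl_support_inf_eq_basicOpen (I.comap f) U g hg
  haveI : QuasiCompact (f ⁻¹ᵁ ModPair.interior I).ι :=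
    Groth.Agent.Lib27.ComplCartier.quasiCompact_ι_of_locally_basicOpen _ (fun x => by
      obtain ⟨U, hxU, g, hg⟩ := hloc x
      exact ⟨U, hxU, g, hbasic U g hg⟩)
  refine ⟨fun W => ?_, ?_⟩
  · exact IsSchemeTheoreticallyDominant.of_isPullback
      (isPullback_opens_inf (f ⁻¹ᵁ ModPair.interior I) W)
  · intro x
    obtain ⟨U, hxU, g, hg⟩ := hloc x
    exact ⟨U, hxU, g, Groth.Agent.Lib27.ComplCartier.mem_nonZeroDivisors_of_dominant
      (f ⁻¹ᵁ ModPair.interior I) U.1 g (hbasic U g hg), hg⟩

end Groth.Agent.S18732
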