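import Groth.Statements.S18734
import Groth.Agent.Lib.Helper21.FlatGen3
import Groth.Agent.Lib.Helper21.OpenAt21
import Groth.Agent.Lib.Helper14.LqfDim0
-- import your own Groth.Agent.* helpers here

set_option autoImplicit false
universe u
open CategoryTheory CategoryTheory.Limits AlgebraicGeometry TopologicalSpace
open ModPair

namespace Groth.Agent.S18734

/-- Let R be a valuation ring with fraction field K and f : Y ⟶ Spec R a morphism of schemes which is
flat, proper and generically finite (the generic fibre Y ×_{Spec R} Spec K ⟶ Spec K is a finite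
morphism). Then f is finite. No finite-presentation hypothesis is assumed. -/
theorem result {R : Type u} [CommRing R]
    [IsDomain R] [ValuationRing R] {Y : Scheme.{u}} (f : Y ⟶ Spec (CommRingCat.of R)) [Flat f] [IsProper f]
    (hgen : IsFinite (pullback.snd f
      (Spec.map (CommRingCat.ofHom (algebraMap R (FractionRing R)))))) :
    IsFinite f := by
  have hlft : LocallyOfFiniteType f := inferInstance
  suffices h : LocallyQuasiFinite f from IsFinite.of_isProper_of_locallyQuasiFinite f
  rw [Groth.Agent.Lib.Helper14.AS.locallyQuasiFinite_iff_fibreDimAt_eq_zero]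
  intro y
  obtain ⟨ζ, N, -, -, -, hζN, hFN⟩ :=
    Groth.Agent.Lib.Helper21.OpenAt.exists_maximal_generization_fibreDimAt f y
  rw [hFN]
  obtain ⟨x', hx'⟩ := QuasiSober.sober (isIrreducible_irreducibleComponent (x := ζ))
    isClosed_irreducibleComponent
  have hx'ζ : x' ⤳ ζ := hx'.specializes mem_irreducibleComponent
  have hx'max : ∀ z : Y, z ⤳ x' → z = x' := by
    intro z hz
    refine Groth.Agent.Lib.Helper21.FibDim.eq_of_specializes_of_closure_mem x' ?_ z hz
    rw [hx'.def]
    exact irreducibleComponent_mem_irreducibleComponents ζ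
  set g := Spec.map (CommRingCat.ofHom (algebraMap R (FractionRing R))) with hg
  have hfx' : f x' = (⊥ : PrimeSpectrum R) := by
    have hgm := Flat.generalizingMap f
    have hsp : (⊥ : PrimeSpectrum R) ⤳ f x' := (PrimeSpectrum.le_iff_specializes _ _).mp bot_le
    obtain ⟨z, hz, hfz⟩ := hgm hsp
    rw [hx'max z hz] at hfz
    exact hfz
  have hrange : x' ∈ Set.range (pullback.fst f g) := by
    rw [Scheme.Pullback.range_fst]
    refine ⟨(⊥ : PrimeSpectrum (FractionRing R)), ?_⟩
    rw [hfx']
    apply PrimeSpectrum.ext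
    change Ideal.comap (algebraMap R (FractionRing R)) ⊥ = ⊥
    rw [← RingHom.ker_eq_comap_bot]
    exact (RingHom.injective_iff_ker_eq_bot _).mp (IsFractionRing.injective R (FractionRing R))
  obtain ⟨w, rfl⟩ := hrange
  obtain ⟨n', hn'⟩ := Groth.Agent.Lib.Helper21.FibDim.exists_nat_trdeg_residueFieldMap f
    (pullback.fst f g w)
  have hsg : SurjectiveOnStalks g := by
    rw [hg, HasRingHomProperty.Spec_iff (P := @SurjectiveOnStalks)]
    exact RingHom.surjectiveOnStalks_of_isLocalization (nonZeroDivisors R) (FractionRing R)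
  have hsfst : SurjectiveOnStalks (pullback.fst f g) :=
    MorphismProperty.pullback_fst (P := @SurjectiveOnStalks) f g hsg
  have h1 := Groth.Agent.Lib.Helper21.IrrFib.trdeg_comp_of_surjectiveOnStalks
    (pullback.fst f g) f w n' hn'
  have h2 : FlatMor.fibreDimAt (pullback.snd f g) w = 0 :=
    (Groth.Agent.Lib.Helper14.AS.locallyQuasiFinite_iff_fibreDimAt_eq_zero _).mp inferInstance w
  obtain ⟨c, hc⟩ := Groth.Agent.Lib.Helper21.FibDim.exists_nat_trdeg_residueFieldMap
    (pullback.snd f g) w
  have hc0 : c = 0 := by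
    have h3 := Groth.Agent.Lib.Helper21.FibDim.trdeg_le_of_fibreDimAt_le (pullback.snd f g) w 0
      (by rw [h2]; rfl)
    rw [hc] at h3
    have : c ≤ 0 := by exact_mod_cast h3
    omega
  have h4 := Groth.Agent.Lib.Helper21.FourCond.trdeg_comp_surjectiveOnStalks_right
    (pullback.snd f g) g w c hc
  have h5 := Groth.Agent.Lib.Helper21.FourCond.trdeg_congr_hom pullback.condition w n' h1
  rw [h4] at h5
  have hn'0 : n' = 0 := by
    have : c = n' := by exact_mod_cast h5
    omega
  have hB := Groth.Agent.Lib.Helper21.FlatGen.trdeg_le_of_specializes_of_isBezout R f hx'ζ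
  rw [hζN, hn'] at hB
  have hN : N ≤ n' := by exact_mod_cast hB
  have : N = 0 := by omega
  rw [this]
  rfl

end Groth.Agent.S18734
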