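import Groth.Statements.S18736
import Groth.Agent.Lib27.Sch.ImageCartier

set_option autoImplicit false
universe u
open CategoryTheory CategoryTheory.Limits AlgebraicGeometry TopologicalSpace
open ModPair

namespace Groth.Agent.S18736

/-- With the minimal-case product: let (S, I_S), (T, I_T), (X, I_X) be schemes equipped with
quasi-coherent ideal sheaves of effective Cartier divisors, p : X ⟶ S a morphism satisfying the
modulus condition I_X ≤ I_S.comap p, and f : T ⟶ S a minimal morphism, I_T = I_S.comap f. Let Y be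
the scheme-theoretic image in X ×_S T of the open pr₁⁻¹(X°) ∩ pr₂⁻¹(T°) (X°, T° the open complements
of the supports of I_X, I_T), with projections r : Y ⟶ X and q : Y ⟶ T, and put I_Y := I_X.comap r.
Then I_Y is the ideal sheaf of an effective Cartier divisor, q satisfies the modulus condition I_Y ≤
I_T.comap q, and (Y, I_Y) with q and r is the fibre product of (T, I_T) and (X, I_X) over (S, I_S)
among modulus pairs and morphisms satisfying the modulus condition: for every scheme W with the
ideal sheaf I_W of an effective Cartier divisor and morphisms a : W ⟶ T, b : W ⟶ X with I_W ≤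
I_T.comap a, I_W ≤ I_X.comap b and a ≫ f = b ≫ p, there is a unique c : W ⟶ Y with c ≫ q = a, c ≫ r
= b and I_W ≤ I_Y.comap c. -/
theorem result {S T X : Scheme.{u}} (IS : S.IdealSheafData)
    (IT : T.IdealSheafData) (IX : X.IdealSheafData) (hS : BlowUp.IsEffCartierIdeal IS)
    (hT : BlowUp.IsEffCartierIdeal IT) (hX : BlowUp.IsEffCartierIdeal IX)
    (p : X ⟶ S) (hp : ModPair.IsAmbient IX IS p) (f : T ⟶ S) (hf : ModPair.IsMinimal IT IS f) :
    BlowUp.IsEffCartierIdeal (IX.comap (ModPair.mprodι p f IX IT ≫ pullback.fst p f)) ∧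
      ModPair.IsAmbient (IX.comap (ModPair.mprodι p f IX IT ≫ pullback.fst p f)) IT
        (ModPair.mprodι p f IX IT ≫ pullback.snd p f) ∧
      ∀ (W : Scheme.{u}) (IW : W.IdealSheafData), BlowUp.IsEffCartierIdeal IW →
        ∀ (a : W ⟶ T) (b : W ⟶ X), ModPair.IsAmbient IW IT a → ModPair.IsAmbient IW IX b →
          a ≫ f = b ≫ p →
          ∃! c : W ⟶ ModPair.mprod p f IX IT,
            c ≫ ModPair.mprodι p f IX IT ≫ pullback.snd p f = a ∧
              c ≫ ModPair.mprodι p f IX IT ≫ pullback.fst p f = b ∧
              ModPair.IsAmbient IW (IX.comap (ModPair.mprodι p f IX IT ≫ pullback.fst p f)) c := by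
  have hp' : IX ≤ IS.comap p := hp
  have hf' : IT = IS.comap f := hf
  have hA : Groth.Agent.Lib27.ImageCartier.LocPrin (IX.comap (pullback.fst p f)) :=
    Groth.Agent.Lib27.ImageCartier.locPrin_comap
      (Groth.Agent.Lib27.ImageCartier.locPrin_of_isEffCartier hX) _
  have hB : Groth.Agent.Lib27.ImageCartier.LocPrin (IT.comap (pullback.snd p f)) :=
    Groth.Agent.Lib27.ImageCartier.locPrin_comap
      (Groth.Agent.Lib27.ImageCartier.locPrin_of_isEffCartier hT) _
  have hOset : ((ModPair.prodInterior p f IX IT : (pullback p f).Opens) : Set ↥(pullback p f)) =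
      (((IX.comap (pullback.fst p f)).support : Set ↥(pullback p f)))ᶜ ∩
        (((IT.comap (pullback.snd p f)).support : Set ↥(pullback p f)))ᶜ := by
    rw [Scheme.IdealSheafData.support_comap, Scheme.IdealSheafData.support_comap]
    rfl
  haveI : QuasiCompact (ModPair.prodInterior p f IX IT).ι :=
    Groth.Agent.Lib27.ImageCartier.quasiCompact_ι_of_compl_supports hA hB _ hOset
  refine ⟨?_, ?_, ?_⟩
  · -- (i) the pulled back modulus is effective Cartier on the closure
    rw [Scheme.IdealSheafData.comap_comp]
    refine Groth.Agent.Lib27.ImageCartier.isEffCartierIdeal_comap_imageι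
      (ModPair.prodInterior p f IX IT).ι (IX.comap (pullback.fst p f)) hA ?_
    rw [← Scheme.IdealSheafData.comap_comp]
    refine Groth.Agent.Lib.Helper25.BlowUpUP.comap_eq_top_of_support IX _ (fun y => ?_)
    exact y.2.1
  · -- (ii) the modulus condition for the second projection
    change IX.comap (ModPair.mprodι p f IX IT ≫ pullback.fst p f) ≤
      IT.comap (ModPair.mprodι p f IX IT ≫ pullback.snd p f)
    have e0 : IT.comap (ModPair.mprodι p f IX IT ≫ pullback.snd p f) =
        (IS.comap f).comap (ModPair.mprodι p f IX IT ≫ pullback.snd p f) :=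
      congrArg (fun J : T.IdealSheafData =>
        J.comap (ModPair.mprodι p f IX IT ≫ pullback.snd p f)) hf'
    have e1 : (IS.comap f).comap (ModPair.mprodι p f IX IT ≫ pullback.snd p f) =
        (IS.comap p).comap (ModPair.mprodι p f IX IT ≫ pullback.fst p f) := by
      rw [← Scheme.IdealSheafData.comap_comp, ← Scheme.IdealSheafData.comap_comp,
        Category.assoc, Category.assoc, pullback.condition]
    rw [e0, e1]
    exact Scheme.IdealSheafData.comap_mono (ModPair.mprodι p f IX IT ≫ pullback.fst p f) hp'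
  · -- (iii) the universal property
    intro W IW hW a b ha hb hab
    have ha' : IW ≤ IT.comap a := ha
    have hb' : IW ≤ IX.comap b := hb
    have hTa : BlowUp.IsEffCartierIdeal (IT.comap a) :=
      Groth.Agent.Lib27.EqLocus.isEffCartierIdeal_comap_of_le IW IT hW hT a ha'
    have hXb : BlowUp.IsEffCartierIdeal (IX.comap b) :=
      Groth.Agent.Lib27.EqLocus.isEffCartierIdeal_comap_of_le IW IX hW hX b hb'
    set c₀ : W ⟶ pullback p f := pullback.lift b a hab.symm with hc₀
    have hc₀1 : c₀ ≫ pullback.fst p f = b := pullback.lift_fst _ _ _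
    have hc₀2 : c₀ ≫ pullback.snd p f = a := pullback.lift_snd _ _ _
    -- the preimage of the product of the interiors is scheme-theoretically dense in `W`
    have hW'set : ((c₀ ⁻¹ᵁ ModPair.prodInterior p f IX IT : W.Opens) : Set W) =
        (((IX.comap b).support : Set W))ᶜ ∩ (((IT.comap a).support : Set W))ᶜ := by
      rw [Scheme.IdealSheafData.support_comap, Scheme.IdealSheafData.support_comap]
      ext w
      have e1 : pullback.fst p f (c₀ w) = b w := by
        rw [← Scheme.Hom.comp_apply, hc₀1]
      have e2 : pullback.snd p f (c₀ w) = a w := by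
        rw [← Scheme.Hom.comp_apply, hc₀2]
      change (pullback.fst p f (c₀ w) ∉ IX.support ∧ pullback.snd p f (c₀ w) ∉ IT.support) ↔
        (b w ∉ IX.support ∧ a w ∉ IT.support)
      rw [e1, e2]
    have hW'ker : (c₀ ⁻¹ᵁ ModPair.prodInterior p f IX IT).ι.ker = ⊥ :=
      Groth.Agent.Lib27.ModPairProd.ker_ι_eq_bot_of_compl_supports _ _ hXb hTa _ hW'set
    have hker : (ModPair.prodInterior p f IX IT).ι.ker ≤ c₀.ker := by
      calc (ModPair.prodInterior p f IX IT).ι.ker
          ≤ ((c₀ ∣_ ModPair.prodInterior p f IX IT) ≫ (ModPair.prodInterior p f IX IT).ι).ker :=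
            Scheme.Hom.le_ker_comp _ _
        _ = ((c₀ ⁻¹ᵁ ModPair.prodInterior p f IX IT).ι ≫ c₀).ker := by
            rw [morphismRestrict_ι]
        _ = (c₀ ⁻¹ᵁ ModPair.prodInterior p f IX IT).ι.ker.map c₀ := Scheme.Hom.ker_comp _ _
        _ = c₀.ker := by rw [hW'ker, Scheme.IdealSheafData.map_bot]
    have hker' : (ModPair.mprodι p f IX IT).ker ≤ c₀.ker := by
      rw [Scheme.IdealSheafData.ker_subschemeι]
      exact hker
    refine ⟨IsClosedImmersion.lift (ModPair.mprodι p f IX IT) c₀ hker', ⟨?_, ?_, ?_⟩, ?_⟩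
    · rw [IsClosedImmersion.lift_fac_assoc, hc₀2]
    · rw [IsClosedImmersion.lift_fac_assoc, hc₀1]
    · change IW ≤ (IX.comap (ModPair.mprodι p f IX IT ≫ pullback.fst p f)).comap _
      rw [← Scheme.IdealSheafData.comap_comp, IsClosedImmersion.lift_fac_assoc, hc₀1]
      exact hb'
    · rintro c' ⟨h1, h2, -⟩
      rw [← cancel_mono (ModPair.mprodι p f IX IT), IsClosedImmersion.lift_fac]
      apply pullback.hom_ext
      · rw [Category.assoc, h2, hc₀1]
      · rw [Category.assoc, h1, hc₀2]

end Groth.Agent.S18736
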