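import Groth.Statements.S18749
import Groth.Agent.Lib27.Sch.AmbProd

set_option autoImplicit false
universe u
open CategoryTheory CategoryTheory.Limits AlgebraicGeometry TopologicalSpace
open ModPair

namespace Groth.Agent.S18749

/-- Let (S, I_S), (T, J), (X, I) be schemes with quasi-coherent ideal sheaves of effective Cartier
divisors and f : X ⟶ S, g : T ⟶ S morphisms satisfying the modulus condition. Let Y₀ be the
scheme-theoretic image of pr₁⁻¹(X°) ∩ pr₂⁻¹(T°) in X ×_S T, let π : Y ⟶ Y₀ be a blowing up of Y₀ in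
the sum of the two ideal sheaves I, J pulled back to Y₀ (the intersection of the two pulled-back
divisors), and let K be an ideal sheaf on Y whose product with the exceptional ideal is the product
of the pull-backs of I and J to Y. Then K is the ideal sheaf of an effective Cartier divisor (the
divisor D_X + D_T − E), the projections Y ⟶ X and Y ⟶ T satisfy the modulus condition with respect
to K, and the interior of (Y, K) is the preimage of pr₁⁻¹(X°) ∩ pr₂⁻¹(T°). -/
theorem result {S T X Y : Scheme.{u}} (IS : S.IdealSheafData)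
    (J : T.IdealSheafData) (I : X.IdealSheafData) (hS : BlowUp.IsEffCartierIdeal IS)
    (hT : BlowUp.IsEffCartierIdeal J) (hX : BlowUp.IsEffCartierIdeal I)
    (f : X ⟶ S) (hf : ModPair.IsAmbient I IS f) (g : T ⟶ S) (hg : ModPair.IsAmbient J IS g)
    (π : Y ⟶ ModPair.mprod f g I J) (K : Y.IdealSheafData) (hY : ModPair.IsAmbProd f g I J π K) :
    BlowUp.IsEffCartierIdeal K ∧
      ModPair.IsAmbient K I (π ≫ ModPair.mprodι f g I J ≫ pullback.fst f g) ∧
      ModPair.IsAmbient K J (π ≫ ModPair.mprodι f g I J ≫ pullback.snd f g) ∧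
      ModPair.interior K = (π ≫ ModPair.mprodι f g I J) ⁻¹ᵁ ModPair.prodInterior f g I J := by
  have hYE : BlowUp.IsEffCartierIdeal ((ModPair.prodCentre f g I J).comap π) := hY.1.1
  have hK := hY.2
  have hE : (ModPair.prodCentre f g I J).comap π =
      (I.comap (ModPair.mprodι f g I J ≫ pullback.fst f g)).comap π ⊔
        (J.comap (ModPair.mprodι f g I J ≫ pullback.snd f g)).comap π :=
    (Scheme.IdealSheafData.map_gc π).l_sup
  rw [hE] at hK hYE
  -- locally principal
  have hA₀ : Groth.Agent.Lib27.ImageCartier.LocPrin (I.comap (pullback.fst f g)) :=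
    Groth.Agent.Lib27.ImageCartier.locPrin_comap
      (Groth.Agent.Lib27.ImageCartier.locPrin_of_isEffCartier hX) _
  have hB₀ : Groth.Agent.Lib27.ImageCartier.LocPrin (J.comap (pullback.snd f g)) :=
    Groth.Agent.Lib27.ImageCartier.locPrin_comap
      (Groth.Agent.Lib27.ImageCartier.locPrin_of_isEffCartier hT) _
  have hA' : Groth.Agent.Lib27.ImageCartier.LocPrin
      ((I.comap (ModPair.mprodι f g I J ≫ pullback.fst f g)).comap π) :=
    Groth.Agent.Lib27.ImageCartier.locPrin_comap (Groth.Agent.Lib27.ImageCartier.locPrin_comap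
      (Groth.Agent.Lib27.ImageCartier.locPrin_of_isEffCartier hX) _) _
  have hB' : Groth.Agent.Lib27.ImageCartier.LocPrin
      ((J.comap (ModPair.mprodι f g I J ≫ pullback.snd f g)).comap π) :=
    Groth.Agent.Lib27.ImageCartier.locPrin_comap (Groth.Agent.Lib27.ImageCartier.locPrin_comap
      (Groth.Agent.Lib27.ImageCartier.locPrin_of_isEffCartier hT) _) _
  obtain ⟨hKA, hKB, hsupp, hcart⟩ :=
    Groth.Agent.Lib27.AmbProd.ambProd_aux _ _ K hA' hB' hYE hK
  -- the two moduli are effective Cartier on the closure `mprod`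
  have hOset : ((ModPair.prodInterior f g I J : (pullback f g).Opens) : Set ↥(pullback f g)) =
      (((I.comap (pullback.fst f g)).support : Set ↥(pullback f g)))ᶜ ∩
        (((J.comap (pullback.snd f g)).support : Set ↥(pullback f g)))ᶜ := by
    rw [Scheme.IdealSheafData.support_comap, Scheme.IdealSheafData.support_comap]
    rfl
  haveI : QuasiCompact (ModPair.prodInterior f g I J).ι :=
    Groth.Agent.Lib27.ImageCartier.quasiCompact_ι_of_compl_supports hA₀ hB₀ _ hOset
  have hAC₀ : BlowUp.IsEffCartierIdeal (I.comap (ModPair.mprodι f g I J ≫ pullback.fst f g)) := by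
    rw [Scheme.IdealSheafData.comap_comp]
    refine Groth.Agent.Lib27.ImageCartier.isEffCartierIdeal_comap_imageι
      (ModPair.prodInterior f g I J).ι (I.comap (pullback.fst f g)) hA₀ ?_
    rw [← Scheme.IdealSheafData.comap_comp]
    refine Groth.Agent.Lib.Helper25.BlowUpUP.comap_eq_top_of_support I _ (fun y => ?_)
    exact y.2.1
  have hBC₀ : BlowUp.IsEffCartierIdeal (J.comap (ModPair.mprodι f g I J ≫ pullback.snd f g)) := by
    rw [Scheme.IdealSheafData.comap_comp]
    refine Groth.Agent.Lib27.ImageCartier.isEffCartierIdeal_comap_imageι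
      (ModPair.prodInterior f g I J).ι (J.comap (pullback.snd f g)) hB₀ ?_
    rw [← Scheme.IdealSheafData.comap_comp]
    refine Groth.Agent.Lib.Helper25.BlowUpUP.comap_eq_top_of_support J _ (fun y => ?_)
    exact y.2.2
  -- the complement of the exceptional divisor
  haveI hiso : IsIso (π ∣_ (ModPair.prodCentre f g I J).support.compl) :=
    Groth.Agent.Lib.Helper25.BlowUpUP.isIso_restrict_compl_support _ π hY.1
  obtain ⟨W, hW⟩ : ∃ W : Y.Opens, W = π ⁻¹ᵁ (ModPair.prodCentre f g I J).support.compl := ⟨_, rfl⟩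
  haveI hflat : Flat (W.ι ≫ π) := by
    rw [hW, ← morphismRestrict_ι]
    infer_instance
  have hWset : (W : Set Y) =
      ((((I.comap (ModPair.mprodι f g I J ≫ pullback.fst f g)).comap π ⊔
        (J.comap (ModPair.mprodι f g I J ≫ pullback.snd f g)).comap π).support : Set Y))ᶜ := by
    rw [← hE, Scheme.IdealSheafData.support_comap, hW]
    rfl
  have hWloc : ∀ y : Y, ∃ U : Y.affineOpens, y ∈ U.1 ∧ ∃ e : Γ(Y, U.1),
      e ∈ nonZeroDivisors Γ(Y, U.1) ∧ ((W : Set Y) ∩ (U.1 : Set Y)) = (Y.basicOpen e : Set Y) := by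
    intro y
    obtain ⟨U, hyU, e, he, hU⟩ := hYE y
    refine ⟨U, hyU, e, he, ?_⟩
    rw [hWset]
    exact Groth.Agent.Lib27.ComplCartier.compl_support_inf_eq_basicOpen _ U e hU
  haveI : QuasiCompact W.ι :=
    Groth.Agent.Lib27.ComplCartier.quasiCompact_ι_of_locally_basicOpen W (fun y => by
      obtain ⟨U, hyU, e, -, hU⟩ := hWloc y
      exact ⟨U, hyU, e, hU⟩)
  haveI : IsSchemeTheoreticallyDominant W.ι :=
    ⟨Groth.Agent.Lib27.ComplCartier.ker_ι_eq_bot_of_locally_basicOpen_nzd W hWloc⟩
  have hAC : BlowUp.IsEffCartierIdeal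
      ((I.comap (ModPair.mprodι f g I J ≫ pullback.fst f g)).comap π) := by
    refine Groth.Agent.Lib27.AmbProd.isEffCartierIdeal_of_comap_dominant W.ι _ hA' ?_
    rw [← Scheme.IdealSheafData.comap_comp]
    exact Groth.Agent.Lib.Helper25.BlowUpUP.isEffCartierIdeal_comap_of_flat _ _ hAC₀
  have hBC : BlowUp.IsEffCartierIdeal
      ((J.comap (ModPair.mprodι f g I J ≫ pullback.snd f g)).comap π) := by
    refine Groth.Agent.Lib27.AmbProd.isEffCartierIdeal_of_comap_dominant W.ι _ hB' ?_
    rw [← Scheme.IdealSheafData.comap_comp]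
    exact Groth.Agent.Lib.Helper25.BlowUpUP.isEffCartierIdeal_comap_of_flat _ _ hBC₀
  refine ⟨hcart hAC hBC, ?_, ?_, ?_⟩
  · change K ≤ I.comap (π ≫ ModPair.mprodι f g I J ≫ pullback.fst f g)
    rw [Scheme.IdealSheafData.comap_comp]
    exact hKA
  · change K ≤ J.comap (π ≫ ModPair.mprodι f g I J ≫ pullback.snd f g)
    rw [Scheme.IdealSheafData.comap_comp]
    exact hKB
  · apply TopologicalSpace.Opens.ext
    change ((K.support : Set Y))ᶜ = _
    rw [hsupp, Scheme.IdealSheafData.support_comap, Scheme.IdealSheafData.support_comap,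
      Scheme.IdealSheafData.support_comap, Scheme.IdealSheafData.support_comap]
    ext y
    change ¬ (((ModPair.mprodι f g I J ≫ pullback.fst f g) (π y) ∈ I.support) ∨
      ((ModPair.mprodι f g I J ≫ pullback.snd f g) (π y) ∈ J.support)) ↔
      (pullback.fst f g ((π ≫ ModPair.mprodι f g I J) y) ∉ I.support ∧
        pullback.snd f g ((π ≫ ModPair.mprodι f g I J) y) ∉ J.support)
    rw [not_or]
    rfl

end Groth.Agent.S18749
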