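import Groth.Statements.S18750
import Groth.Agent.Lib.Helper25.BlowUpExist

set_option autoImplicit false
universe u
open CategoryTheory CategoryTheory.Limits AlgebraicGeometry TopologicalSpace
open ModPair

namespace Groth.Agent.S18750

/-- Let (S, I_S), (T, J), (X, I) be schemes with quasi-coherent ideal sheaves of effective Cartier
divisors and f : X ⟶ S, g : T ⟶ S morphisms satisfying the modulus condition, and let Y₀ be the
scheme-theoretic image of pr₁⁻¹(X°) ∩ pr₂⁻¹(T°) in X ×_S T. Then the ambient product exists: there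
are a blowing up π : Y ⟶ Y₀ of Y₀ in the sum of the two pulled-back moduli and an ideal sheaf K on Y
whose product with the exceptional ideal is the product of the pull-backs of I and J (the divisor
D_X + D_T − E exists). -/
theorem result {S T X : Scheme.{u}} (IS : S.IdealSheafData)
    (J : T.IdealSheafData) (I : X.IdealSheafData) (hS : BlowUp.IsEffCartierIdeal IS)
    (hT : BlowUp.IsEffCartierIdeal J) (hX : BlowUp.IsEffCartierIdeal I)
    (f : X ⟶ S) (hf : ModPair.IsAmbient I IS f) (g : T ⟶ S) (hg : ModPair.IsAmbient J IS g) :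
    ∃ (Y : Scheme.{u}) (π : Y ⟶ ModPair.mprod f g I J) (K : Y.IdealSheafData),
      ModPair.IsAmbProd f g I J π K := by
  obtain ⟨Y, π, hπ⟩ := Groth.Agent.Lib.Helper25.BlowUpUP.exists_isBlowUp
    (ModPair.mprod f g I J) (ModPair.prodCentre f g I J)
  refine ⟨Y, π, (I.comap (ModPair.mprodι f g I J ≫ pullback.fst f g)).comap π ⊓
    (J.comap (ModPair.mprodι f g I J ≫ pullback.snd f g)).comap π, hπ, ?_⟩
  set A' := (I.comap (ModPair.mprodι f g I J ≫ pullback.fst f g)).comap π with hA'
  set B' := (J.comap (ModPair.mprodι f g I J ≫ pullback.snd f g)).comap π with hB'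
  have hE : (ModPair.prodCentre f g I J).comap π = A' ⊔ B' :=
    (Scheme.IdealSheafData.map_gc π).l_sup
  rw [hE]
  have hEC : BlowUp.IsEffCartierIdeal (A' ⊔ B') := by rw [← hE]; exact hπ.1
  choose U hxU e he hU using hEC
  refine Scheme.IdealSheafData.ext_of_iSup_eq_top U ?_ ?_
  · rw [eq_top_iff]
    intro x _
    exact TopologicalSpace.Opens.mem_iSup.mpr ⟨x, hxU x⟩
  · intro x
    change (A'.ideal (U x) ⊓ B'.ideal (U x)) * (A'.ideal (U x) ⊔ B'.ideal (U x)) =
      A'.ideal (U x) * B'.ideal (U x)
    have hsum : A'.ideal (U x) ⊔ B'.ideal (U x) = Ideal.span {e x} := hU x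
    refine le_antisymm ?_ ?_
    · rw [Ideal.mul_le]
      intro r hr s hs
      obtain ⟨α, hα, β, hβ, rfl⟩ := Submodule.mem_sup.mp hs
      rw [mul_add]
      refine Ideal.add_mem _ ?_ ?_
      · have : r * α = α * r := mul_comm _ _
        rw [this]
        exact Ideal.mul_mem_mul hα hr.2
      · exact Ideal.mul_mem_mul hr.1 hβ
    · rw [Ideal.mul_le]
      intro a ha b hb
      have ha' : a ∈ Ideal.span {e x} := by rw [← hsum]; exact Ideal.mem_sup_left ha
      have hb' : b ∈ Ideal.span {e x} := by rw [← hsum]; exact Ideal.mem_sup_right hb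
      rw [Ideal.mem_span_singleton'] at ha' hb'
      obtain ⟨a', rfl⟩ := ha'
      obtain ⟨b', rfl⟩ := hb'
      rw [hsum]
      have h1 : a' * b' * e x ∈ A'.ideal (U x) ⊓ B'.ideal (U x) := by
        refine ⟨?_, ?_⟩
        · have : a' * b' * e x = b' * (a' * e x) := by ring
          rw [this]
          exact Ideal.mul_mem_left _ _ ha
        · have : a' * b' * e x = a' * (b' * e x) := by ring
          rw [this]
          exact Ideal.mul_mem_left _ _ hb
      have h2 : a' * e x * (b' * e x) = (a' * b' * e x) * e x := by ring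
      rw [h2]
      exact Ideal.mul_mem_mul h1 (Ideal.mem_span_singleton_self _)

end Groth.Agent.S18750
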