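import Groth.Statements.S18739
import Groth.Agent.Lib27.Cat.LocPullback
import Groth.Agent.S18738
import Groth.Agent.S18749
import Groth.Agent.S18750
import Groth.Agent.S18752

set_option autoImplicit false
universe u
open CategoryTheory CategoryTheory.Limits AlgebraicGeometry TopologicalSpace
open ModPair

namespace Groth.Agent.S18739

/-- The localization of the category of modulus pairs and ambient morphisms at the class of abstract
admissible blow-ups has all finite limits. -/
theorem result :
    HasFiniteLimits (ModPair.Pair.admBlowup.{u}).Localization := by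
  haveI : (ModPair.Pair.admBlowup.{u}).HasRightCalculusOfFractions := Groth.Agent.S18738.result
  -- the terminal modulus pair
  obtain ⟨pt, hptdef⟩ : ∃ pt : ModPair.Pair.{u}, pt = ModPair.Pair.mk (⊤_ Scheme.{u}) ⊤
    Groth.Agent.Lib.Helper25.BlowUpUP.isEffCartierIdeal_top := ⟨_, rfl⟩
  have hpt : IsTerminal pt := by
    rw [hptdef]
    refine IsTerminal.ofUniqueHom (fun Z => ⟨terminal.from Z.total, ?_⟩) (fun Z m => ?_)
    · change Z.mod ≤ (⊤ : (⊤_ Scheme.{u}).IdealSheafData).comap _
      rw [Scheme.IdealSheafData.comap_top]
      exact le_top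
    · apply ModPair.Pair.Hom.ext
      exact terminal.hom_ext _ _
  haveI : HasTerminal (ModPair.Pair.admBlowup.{u}).Localization :=
    (Groth.Agent.Lib27.LocPullback.isTerminal_obj (ModPair.Pair.admBlowup.{u}).Q
      ModPair.Pair.admBlowup.{u} hpt).some.hasTerminal
  haveI : HasPullbacks (ModPair.Pair.admBlowup.{u}).Localization :=
    Groth.Agent.Lib27.LocPullback.hasPullbacks_of_map (ModPair.Pair.admBlowup.{u}).Q
      ModPair.Pair.admBlowup.{u} (fun {A B P} a b => by
        obtain ⟨Y, π, K, hY⟩ := Groth.Agent.S18750.result P.mod A.mod B.mod P.isEffCartier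
          A.isEffCartier B.isEffCartier b.hom b.cond a.hom a.cond
        obtain ⟨hK, hKX, hKT, -⟩ := Groth.Agent.S18749.result P.mod A.mod B.mod P.isEffCartier
          A.isEffCartier B.isEffCartier b.hom b.cond a.hom a.cond π K hY
        exact (Groth.Agent.S18752.result P A B b a π K hY hK hKX hKT).hasPullback)
  exact hasFiniteLimits_of_hasTerminal_and_pullbacks

end Groth.Agent.S18739
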