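import Groth.Statements.S18745
import Groth.Agent.Lib.Helper14.LimIdeal2
import Groth.Agent.Lib.Helper14.LimHom2

set_option autoImplicit false
universe u
open CategoryTheory CategoryTheory.Limits AlgebraicGeometry TopologicalSpace
open ModPair

namespace Groth.Agent.S18745

/-- Let S be a quasi-compact quasi-separated scheme, (X_i, I_i) a cofiltered system of S-schemes, all
quasi-compact and quasi-separated, carrying quasi-coherent ideal sheaves of effective Cartier
divisors, with affine and minimal transition morphisms, and let X be its limit (as an S-scheme) with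
projections π_i and modulus I = I_i.comap π_i for every i. Let Y ⟶ S be locally of finite type with
Y quasi-compact and quasi-separated, carrying the ideal sheaf I_Y of an effective Cartier divisor.
Assume that either every transition morphism is scheme-theoretically dominant, or Y ⟶ S is locally
of finite presentation. Then every S-morphism φ : X ⟶ Y satisfying the modulus condition I ≤
I_Y.comap φ descends: for some i there is an S-morphism φ_i : X_i ⟶ Y satisfying the modulus
condition I_i ≤ I_Y.comap φ_i with π_i ≫ φ_i = φ. (The base is taken to be a scheme, that is the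
base modulus pair with empty modulus; morphisms over an arbitrary base modulus pair are among
these.) -/
theorem result {S : Scheme.{u}}
    [CompactSpace S] [QuasiSeparatedSpace S] {I : Type u} [SmallCategory I] [IsCofiltered I]
    (D : I ⥤ Over S) (c : Cone D) (hc : IsLimit c)
    [∀ (i j : I) (t : i ⟶ j), IsAffineHom (D.map t).left]
    [∀ i, CompactSpace (D.obj i).left] [∀ i, QuasiSeparatedSpace (D.obj i).left]
    (J : ∀ i, (D.obj i).left.IdealSheafData) (hJ : ∀ i, BlowUp.IsEffCartierIdeal (J i))
    (hmin : ∀ (i j : I) (t : i ⟶ j), ModPair.IsMinimal (J i) (J j) (D.map t).left)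
    (IX : c.pt.left.IdealSheafData) (hIX : ∀ i, IX = (J i).comap (c.π.app i).left)
    (Y : Over S) [CompactSpace Y.left] [QuasiSeparatedSpace Y.left] [LocallyOfFiniteType Y.hom]
    (IY : Y.left.IdealSheafData) (hY : BlowUp.IsEffCartierIdeal IY)
    (h : (∀ (i j : I) (t : i ⟶ j), IsSchemeTheoreticallyDominant (D.map t).left) ∨
      LocallyOfFinitePresentation Y.hom)
    (φ : c.pt ⟶ Y) (hφ : ModPair.IsAmbient IX IY φ.left) :
    ∃ (i : I) (φi : D.obj i ⟶ Y), ModPair.IsAmbient (J i) IY φi.left ∧ c.π.app i ≫ φi = φ := by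
  have hconn : IsConnected I := IsCofiltered.isConnected I
  let D' : I ⥤ Scheme.{u} := D ⋙ Over.forget S
  let t' : D' ⟶ (Functor.const I).obj S :=
    { app := fun i => (D.obj i).hom
      naturality := by
        intro i j a
        change (D.map a).left ≫ (D.obj j).hom = (D.obj i).hom ≫ 𝟙 S
        rw [Over.w, Category.comp_id] }
  let c' : Cone D' := (Over.forget S).mapCone c
  have hc' : IsLimit c' := isLimitOfPreserves (Over.forget S) hc
  have haff : ∀ {i j : I} (f : i ⟶ j), IsAffineHom (D'.map f) := fun f =>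
    inferInstanceAs (IsAffineHom (D.map f).left)
  have hcpt : ∀ i, CompactSpace (D'.obj i) := fun i =>
    inferInstanceAs (CompactSpace (D.obj i).left)
  have hqs : ∀ i, QuasiSeparatedSpace (D'.obj i) := fun i =>
    inferInstanceAs (QuasiSeparatedSpace (D.obj i).left)
  -- Step 1: descend the morphism
  obtain ⟨i₀, φ₀, hφ₀⟩ : ∃ (i₀ : I) (φ₀ : D.obj i₀ ⟶ Y), c.π.app i₀ ≫ φ₀ = φ := by
    rcases h with hdom | hfp
    · have : ∀ (i j : I) (t : i ⟶ j), IsSchemeTheoreticallyDominant (D.map t).left := hdom
      exact (Groth.Agent.Lib.Helper14.LimHom.main D c hc Y).1 φ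
    · have ha : c'.π ≫ t' = (Functor.const I).map (φ.left ≫ Y.hom) := by
        ext i
        change (c.π.app i).left ≫ (D.obj i).hom = φ.left ≫ Y.hom
        rw [Over.w, Over.w]
        rfl
      obtain ⟨i, g, hg1, hg2⟩ :=
        Scheme.exists_π_app_comp_eq_of_locallyOfFinitePresentation D' t' Y.hom c' hc' φ.left ha
      exact ⟨i, Over.homMk g hg2, Over.OverMorphism.ext hg1⟩
  -- Step 2: descend the modulus condition
  let K : (D.obj i₀).left.IdealSheafData := IY.comap φ₀.left
  have hφl : φ.left = (c.π.app i₀).left ≫ φ₀.left := by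
    rw [← hφ₀]
    rfl
  have hle : (J i₀).comap (c'.π.app i₀) ≤ K.comap (c'.π.app i₀) := by
    change (J i₀).comap (c.π.app i₀).left ≤ (IY.comap φ₀.left).comap (c.π.app i₀).left
    rw [← hIX i₀, ← Scheme.IdealSheafData.comap_comp, ← hφl]
    exact hφ
  have hloc : ∀ x : D'.obj i₀, ∃ U : (D'.obj i₀).affineOpens, x ∈ U.1 ∧
      ∃ f : Γ(D'.obj i₀, U.1), (J i₀).ideal U = Ideal.span {f} := by
    intro x
    obtain ⟨U, hxU, f, -, hf⟩ := hJ i₀ x
    exact ⟨U, hxU, f, hf⟩
  obtain ⟨i, t, ht⟩ := Groth.Agent.Lib.Helper14.LimIdeal.exists_comap_le_comap D' c' hc' i₀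
    (J i₀) K hloc hle
  refine ⟨i, D.map t ≫ φ₀, ?_, ?_⟩
  · change J i ≤ IY.comap ((D.map t).left ≫ φ₀.left)
    rw [Scheme.IdealSheafData.comap_comp, hmin i i₀ t]
    exact ht
  · rw [← Category.assoc, c.w t, hφ₀]

end Groth.Agent.S18745
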