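import Groth.Statements.S18748
import Groth.Agent.Lib27.Sch.PairCoprod
import Groth.Agent.Lib27.Cat.LocCoprod
import Groth.Agent.S18738

set_option autoImplicit false
universe u
open CategoryTheory CategoryTheory.Limits AlgebraicGeometry TopologicalSpace
open ModPair

namespace Groth.Agent.S18748

/-- The localization of the category of modulus pairs and ambient morphisms at the class of abstract
admissible blow-ups has binary coproducts, and the localization functor carries the coproduct of two
modulus pairs (the disjoint union of the total spaces with the disjoint union of the moduli) to a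
coproduct. (The source also states that the interior functor detects these coproducts; that part is
not included.) -/
theorem result :
    HasBinaryCoproducts (ModPair.Pair.admBlowup.{u}).Localization ∧
      PreservesColimitsOfShape (Discrete WalkingPair) (ModPair.Pair.admBlowup.{u}).Q := by
  haveI hmult : (ModPair.Pair.admBlowup.{u}).IsMultiplicative :=
    (Groth.Agent.S18738.result.{u}).toIsMultiplicative
  haveI : HasColimitsOfShape (Discrete WalkingPair) ModPair.Pair.{u} :=
    Groth.Agent.Lib27.PairCoprod.hasColimitsOfShape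
  have hiso : MorphismProperty.isomorphisms ModPair.Pair.{u} ≤ ModPair.Pair.admBlowup.{u} := by
    intro P Q f hf
    haveI : IsIso f := hf
    haveI : IsIso f.hom := inferInstanceAs (IsIso (ModPair.Pair.forget.map f))
    refine ⟨le_antisymm f.cond ?_, inferInstance, inferInstance⟩
    have h1 : Q.mod ≤ P.mod.comap (inv f).hom := (inv f).cond
    have h2 : f.hom ≫ (inv f).hom = 𝟙 _ := congrArg ModPair.Pair.Hom.hom (IsIso.hom_inv_id f)
    calc Q.mod.comap f.hom ≤ (P.mod.comap (inv f).hom).comap f.hom :=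
          Scheme.IdealSheafData.comap_mono _ h1
      _ = P.mod := by
          rw [← Scheme.IdealSheafData.comap_comp, h2, Scheme.IdealSheafData.comap_id]
  haveI : (ModPair.Pair.admBlowup.{u}).RespectsIso :=
    MorphismProperty.respectsIso_of_isStableUnderComposition hiso
  have : (ModPair.Pair.admBlowup.{u}).IsStableUnderCoproductsOfShape WalkingPair := by
    refine MorphismProperty.IsStableUnderCoproductsOfShape.mk _ WalkingPair (fun X₁ X₂ _ _ f hf => ?_)
    let e₁ : (∐ X₁) ≅ Groth.Agent.Lib27.PairCoprod.coprodPair X₁ :=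
      (coproductIsCoproduct X₁).coconePointUniqueUpToIso
        (Groth.Agent.Lib27.PairCoprod.isColimit X₁)
    let e₂ : (∐ X₂) ≅ Groth.Agent.Lib27.PairCoprod.coprodPair X₂ :=
      (coproductIsCoproduct X₂).coconePointUniqueUpToIso
        (Groth.Agent.Lib27.PairCoprod.isColimit X₂)
    have he₁ : ∀ j, Sigma.ι X₁ j ≫ e₁.hom = Groth.Agent.Lib27.PairCoprod.incPair X₁ j :=
      fun j => IsColimit.comp_coconePointUniqueUpToIso_hom _ _ _
    have he₂ : ∀ j, Sigma.ι X₂ j ≫ e₂.hom = Groth.Agent.Lib27.PairCoprod.incPair X₂ j :=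
      fun j => IsColimit.comp_coconePointUniqueUpToIso_hom _ _ _
    refine ((ModPair.Pair.admBlowup.{u}).arrow_mk_iso_iff
      (Arrow.isoMk (f := Arrow.mk (Limits.Sigma.map f))
        (g := Arrow.mk (Groth.Agent.Lib27.PairCoprod.mapPair X₁ X₂ f)) e₁ e₂ ?_)).mpr
      (Groth.Agent.Lib27.PairCoprod.admBlowup_mapPair X₁ X₂ f hf)
    refine Sigma.hom_ext _ _ (fun j => ?_)
    change Sigma.ι X₁ j ≫ e₁.hom ≫ Groth.Agent.Lib27.PairCoprod.mapPair X₁ X₂ f =
      Sigma.ι X₁ j ≫ Limits.Sigma.map f ≫ e₂.hom
    calc Sigma.ι X₁ j ≫ e₁.hom ≫ Groth.Agent.Lib27.PairCoprod.mapPair X₁ X₂ f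
        = (Sigma.ι X₁ j ≫ e₁.hom) ≫ Groth.Agent.Lib27.PairCoprod.mapPair X₁ X₂ f :=
          (Category.assoc _ _ _).symm
      _ = Groth.Agent.Lib27.PairCoprod.incPair X₁ j ≫
            Groth.Agent.Lib27.PairCoprod.mapPair X₁ X₂ f := by rw [he₁]
      _ = f j ≫ Groth.Agent.Lib27.PairCoprod.incPair X₂ j :=
          Groth.Agent.Lib27.PairCoprod.incPair_mapPair X₁ X₂ f j
      _ = f j ≫ Sigma.ι X₂ j ≫ e₂.hom := by rw [he₂]
      _ = (Sigma.ι X₁ j ≫ Limits.Sigma.map f) ≫ e₂.hom := by
          rw [Sigma.ι_map, Category.assoc]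
      _ = Sigma.ι X₁ j ≫ Limits.Sigma.map f ≫ e₂.hom := Category.assoc _ _ _
  exact Groth.Agent.Lib27.LocCoprod.hasCoproductsOfShape_and_preserves
    ModPair.Pair.admBlowup.{u} (ModPair.Pair.admBlowup.{u}).Q WalkingPair

end Groth.Agent.S18748
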