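import Groth.Statements.S18754
import Groth.Agent.Lib.Helper14.LimCI1
import Groth.Agent.Lib.Helper25.BlowUpDense

set_option autoImplicit false
universe u
open CategoryTheory CategoryTheory.Limits AlgebraicGeometry TopologicalSpace
open ModPair

namespace Groth.Agent.S18754

open CategoryTheory CategoryTheory.Limits AlgebraicGeometry in
/-- A closed immersion which is an isomorphism over a scheme-theoretically dense open is an
isomorphism. -/
lemma isIso_of_isClosedImmersion_of_isIso_restrict {X Z : Scheme.{u}} (π : X ⟶ Z)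
    [IsClosedImmersion π] (V : Z.Opens) [IsSchemeTheoreticallyDominant V.ι]
    [IsIso (π ∣_ V)] : IsIso π := by
  rw [IsClosedImmersion.isIso_iff_ker_eq_bot, eq_bot_iff]
  have h1 : π.ker ≤ ((π ⁻¹ᵁ V).ι ≫ π).ker := Scheme.Hom.le_ker_comp _ _
  have h2 : ((π ⁻¹ᵁ V).ι ≫ π).ker = V.ι.ker := by
    rw [← morphismRestrict_ι, Scheme.Hom.ker_comp_of_isIso]
  rw [h2, V.ι.ker_eq_bot] at h1
  exact h1

open CategoryTheory CategoryTheory.Limits AlgebraicGeometry in
lemma preimage_interior {X Y : Scheme.{u}} (IY : Y.IdealSheafData) (g : X ⟶ Y) :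
    g ⁻¹ᵁ ModPair.interior IY =
      Groth.Agent.Lib.Helper25.BlowUpUP.complSupport (IY.comap g) := by
  ext x
  simp [ModPair.interior, Groth.Agent.Lib.Helper25.BlowUpUP.complSupport,
    Scheme.IdealSheafData.support_comap]

/-- Let (Y, I_Y) be a modulus pair with Y quasi-compact and quasi-separated, and let (X_i ⟶ Y) be a
cofiltered system of Y-schemes with affine transition morphisms such that every X_i is quasi-compact
and quasi-separated, the pulled-back ideal I_Y.comap (X_i ⟶ Y) is the ideal of an effective Cartier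
divisor, and X_i ⟶ Y is an abstract admissible blow-up of modulus pairs which is locally of finite
presentation. Let X be the limit of the system over Y and suppose that X ⟶ Y, with the pulled-back
modulus (assumed effective Cartier), is also an abstract admissible blow-up. Then X ⟶ Y is locally
of finite presentation: an abstract admissible blow-up of quasi-compact quasi-separated modulus
pairs which is not of finite presentation is never a limit of finitely presented ones. -/
theorem result {Y : Scheme.{u}}
    [CompactSpace Y] [QuasiSeparatedSpace Y] (IY : Y.IdealSheafData) (hY : BlowUp.IsEffCartierIdeal IY)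
    {I : Type u} [SmallCategory I] [IsCofiltered I] (D : I ⥤ Over Y) (c : Cone D) (hc : IsLimit c)
    [∀ (i j : I) (t : i ⟶ j), IsAffineHom (D.map t).left]
    [∀ i, CompactSpace (D.obj i).left] [∀ i, QuasiSeparatedSpace (D.obj i).left]
    (hI : ∀ i, BlowUp.IsEffCartierIdeal (IY.comap (D.obj i).hom))
    (hadm : ∀ i, ModPair.IsAdmBlowup (IY.comap (D.obj i).hom) IY (D.obj i).hom)
    [∀ i, LocallyOfFinitePresentation (D.obj i).hom]
    (hX : BlowUp.IsEffCartierIdeal (IY.comap c.pt.hom))
    (hXadm : ModPair.IsAdmBlowup (IY.comap c.pt.hom) IY c.pt.hom) :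
    LocallyOfFinitePresentation c.pt.hom := by
  have hconn : IsConnected I := IsCofiltered.isConnected I
  let D' : I ⥤ Scheme.{u} := D ⋙ Over.forget Y
  let c' : Cone D' := (Over.forget Y).mapCone c
  have hc' : IsLimit c' := isLimitOfPreserves (Over.forget Y) hc
  have haff : ∀ {i j : I} (a : i ⟶ j), IsAffineHom (D'.map a) := fun a => by
    dsimp [D']
    infer_instance
  have i₀ : I := IsCofiltered.nonempty.some
  have hw₀ : (c.π.app i₀).left ≫ (D.obj i₀).hom = c.pt.hom := Over.w (c.π.app i₀)
  have hprop : IsProper c.pt.hom := hXadm.2.1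
  have hlft : LocallyOfFiniteType (c'.π.app i₀) := by
    change LocallyOfFiniteType (c.π.app i₀).left
    have : LocallyOfFiniteType ((c.π.app i₀).left ≫ (D.obj i₀).hom) := by
      rw [hw₀]
      infer_instance
    exact locallyOfFiniteType_of_comp (c.π.app i₀).left (D.obj i₀).hom
  have hcpt : CompactSpace (D'.obj i₀) := ‹∀ i, CompactSpace (D.obj i).left› i₀
  obtain ⟨k, -, hk⟩ := Groth.Agent.Lib.Helper14.LimCI.exists_isClosedImmersion_π D' c' hc' i₀
  have hπ : IsClosedImmersion (c.π.app k).left := hk
  have hw : (c.π.app k).left ≫ (D.obj k).hom = c.pt.hom := Over.w (c.π.app k)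
  have hg_iso : IsIso ((D.obj k).hom ∣_ ModPair.interior IY) := (hadm k).2.2
  have hf_iso : IsIso (((c.π.app k).left ≫ (D.obj k).hom) ∣_ ModPair.interior IY) := by
    rw [hw]
    exact hXadm.2.2
  rw [morphismRestrict_comp] at hf_iso
  have hπ_iso : IsIso ((c.π.app k).left ∣_ ((D.obj k).hom ⁻¹ᵁ ModPair.interior IY)) := by
    exact @IsIso.of_isIso_comp_right _ _ _ _ _ _ ((D.obj k).hom ∣_ ModPair.interior IY) hg_iso hf_iso
  have hdom : IsSchemeTheoreticallyDominant
      ((D.obj k).hom ⁻¹ᵁ ModPair.interior IY).ι := by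
    rw [preimage_interior]
    exact Groth.Agent.Lib.Helper25.BlowUpUP.isSchemeTheoreticallyDominant_ι_complSupport _ (hI k)
  have hiso : IsIso (c.π.app k).left :=
    isIso_of_isClosedImmersion_of_isIso_restrict _ ((D.obj k).hom ⁻¹ᵁ ModPair.interior IY)
  rw [← hw]
  infer_instance

end Groth.Agent.S18754
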