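import Groth.Statements.S18755
import Groth.Agent.Lib27.Sch.AmbProdMP

set_option autoImplicit false
universe u
open CategoryTheory CategoryTheory.Limits AlgebraicGeometry TopologicalSpace
open ModPair

namespace Groth.Agent.S18755

/-- Let (S₀, I₀), (S₁, I₁), (T, J), (X, I) be schemes with quasi-coherent ideal sheaves of effective
Cartier divisors, f : X ⟶ S₁, g : T ⟶ S₁ and σ : S₁ ⟶ S₀ morphisms satisfying the modulus condition,
and let (Y₁, K₁) with π₁ and (Y₀, K₀) with π₀ be ambient products of (X, I) and (T, J) over S₁ and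
over S₀ (the latter for f ≫ σ and g ≫ σ): blow-ups of the scheme-theoretic image of the product of
the interiors inside X ×_{S₁} T, resp. X ×_{S₀} T, in the intersection of the pulled-back moduli,
with K·E = D_X·D_T. Then the ambient product is functorial in the base: there is a unique morphism φ
: Y₁ ⟶ Y₀ compatible with the maps to X ×_{S₀} T (through the canonical X ×_{S₁} T ⟶ X ×_{S₀} T),
and every such φ is minimal, K₁ = K₀.comap φ. -/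
theorem result {S₀ S₁ T X Y₁ Y₀ : Scheme.{u}} (I₀ : S₀.IdealSheafData)
    (I₁ : S₁.IdealSheafData) (J : T.IdealSheafData) (I : X.IdealSheafData)
    (h₀ : BlowUp.IsEffCartierIdeal I₀) (h₁ : BlowUp.IsEffCartierIdeal I₁)
    (hT : BlowUp.IsEffCartierIdeal J) (hX : BlowUp.IsEffCartierIdeal I)
    (f : X ⟶ S₁) (hf : ModPair.IsAmbient I I₁ f) (g : T ⟶ S₁) (hg : ModPair.IsAmbient J I₁ g)
    (σ : S₁ ⟶ S₀) (hσ : ModPair.IsAmbient I₁ I₀ σ)
    (π₁ : Y₁ ⟶ ModPair.mprod f g I J) (K₁ : Y₁.IdealSheafData) (hY₁ : ModPair.IsAmbProd f g I J π₁ K₁)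
    (π₀ : Y₀ ⟶ ModPair.mprod (f ≫ σ) (g ≫ σ) I J) (K₀ : Y₀.IdealSheafData)
    (hY₀ : ModPair.IsAmbProd (f ≫ σ) (g ≫ σ) I J π₀ K₀) :
    (∃! φ : Y₁ ⟶ Y₀, φ ≫ π₀ ≫ ModPair.mprodι (f ≫ σ) (g ≫ σ) I J =
        π₁ ≫ ModPair.mprodι f g I J ≫ pullback.mapDesc f g σ) ∧
      ∀ φ : Y₁ ⟶ Y₀, φ ≫ π₀ ≫ ModPair.mprodι (f ≫ σ) (g ≫ σ) I J =
          π₁ ≫ ModPair.mprodι f g I J ≫ pullback.mapDesc f g σ →
        ModPair.IsMinimal K₁ K₀ φ := by
  have hm1 : pullback.mapDesc f g σ ≫ pullback.fst (f ≫ σ) (g ≫ σ) = pullback.fst f g := by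
    rw [pullback.mapDesc, pullback.map, pullback.lift_fst, Category.comp_id]
  have hm2 : pullback.mapDesc f g σ ≫ pullback.snd (f ≫ σ) (g ≫ σ) = pullback.snd f g := by
    rw [pullback.mapDesc, pullback.map, pullback.lift_snd, Category.comp_id]
  obtain ⟨c₀, hc₀⟩ : ∃ c₀ : Y₁ ⟶ pullback (f ≫ σ) (g ≫ σ),
      c₀ = π₁ ≫ ModPair.mprodι f g I J ≫ pullback.mapDesc f g σ := ⟨_, rfl⟩
  have hc₀1 : c₀ ≫ pullback.fst (f ≫ σ) (g ≫ σ) =
      π₁ ≫ ModPair.mprodι f g I J ≫ pullback.fst f g := by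
    rw [hc₀, Category.assoc, Category.assoc, hm1]
  have hc₀2 : c₀ ≫ pullback.snd (f ≫ σ) (g ≫ σ) =
      π₁ ≫ ModPair.mprodι f g I J ≫ pullback.snd f g := by
    rw [hc₀, Category.assoc, Category.assoc, hm2]
  rw [← hc₀]
  have hpre : c₀ ⁻¹ᵁ ModPair.prodInterior (f ≫ σ) (g ≫ σ) I J =
      (π₁ ≫ ModPair.mprodι f g I J) ⁻¹ᵁ ModPair.prodInterior f g I J := by
    ext y
    have e1 : pullback.fst (f ≫ σ) (g ≫ σ) (c₀ y) =
        pullback.fst f g ((π₁ ≫ ModPair.mprodι f g I J) y) := by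
      rw [← Scheme.Hom.comp_apply, ← Scheme.Hom.comp_apply, hc₀1, Category.assoc]
    have e2 : pullback.snd (f ≫ σ) (g ≫ σ) (c₀ y) =
        pullback.snd f g ((π₁ ≫ ModPair.mprodι f g I J) y) := by
      rw [← Scheme.Hom.comp_apply, ← Scheme.Hom.comp_apply, hc₀2, Category.assoc]
    change (pullback.fst (f ≫ σ) (g ≫ σ) (c₀ y) ∉ I.support ∧
        pullback.snd (f ≫ σ) (g ≫ σ) (c₀ y) ∉ J.support) ↔
      (pullback.fst f g ((π₁ ≫ ModPair.mprodι f g I J) y) ∉ I.support ∧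
        pullback.snd f g ((π₁ ≫ ModPair.mprodι f g I J) y) ∉ J.support)
    rw [e1, e2]
  have hker0 : (c₀ ⁻¹ᵁ ModPair.prodInterior (f ≫ σ) (g ≫ σ) I J).ι.ker = ⊥ := by
    rw [hpre]
    exact Groth.Agent.Lib27.AmbProdMP.ker_preimage_prodInterior_ι f g I J hX hT π₁ hY₁.1
  have hker : (ModPair.prodInterior (f ≫ σ) (g ≫ σ) I J).ι.ker ≤ c₀.ker := by
    calc (ModPair.prodInterior (f ≫ σ) (g ≫ σ) I J).ι.ker
        ≤ ((c₀ ∣_ ModPair.prodInterior (f ≫ σ) (g ≫ σ) I J) ≫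
            (ModPair.prodInterior (f ≫ σ) (g ≫ σ) I J).ι).ker :=
          Scheme.Hom.le_ker_comp _ _
      _ = ((c₀ ⁻¹ᵁ ModPair.prodInterior (f ≫ σ) (g ≫ σ) I J).ι ≫ c₀).ker := by
          rw [morphismRestrict_ι]
      _ = (c₀ ⁻¹ᵁ ModPair.prodInterior (f ≫ σ) (g ≫ σ) I J).ι.ker.map c₀ :=
          Scheme.Hom.ker_comp _ _
      _ = c₀.ker := by rw [hker0, Scheme.IdealSheafData.map_bot]
  have hker' : (ModPair.mprodι (f ≫ σ) (g ≫ σ) I J).ker ≤ c₀.ker := by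
    rw [Scheme.IdealSheafData.ker_subschemeι]
    exact hker
  obtain ⟨ψ, hψ⟩ : ∃ ψ : Y₁ ⟶ ModPair.mprod (f ≫ σ) (g ≫ σ) I J,
      ψ ≫ ModPair.mprodι (f ≫ σ) (g ≫ σ) I J = c₀ :=
    ⟨IsClosedImmersion.lift (ModPair.mprodι (f ≫ σ) (g ≫ σ) I J) c₀ hker',
      IsClosedImmersion.lift_fac _ _ _⟩
  have hA : (I.comap (ModPair.mprodι (f ≫ σ) (g ≫ σ) I J ≫
      pullback.fst (f ≫ σ) (g ≫ σ))).comap ψ =
      (I.comap (ModPair.mprodι f g I J ≫ pullback.fst f g)).comap π₁ := by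
    rw [← Scheme.IdealSheafData.comap_comp, ← Scheme.IdealSheafData.comap_comp,
      ← Category.assoc, hψ, hc₀1]
  have hB : (J.comap (ModPair.mprodι (f ≫ σ) (g ≫ σ) I J ≫
      pullback.snd (f ≫ σ) (g ≫ σ))).comap ψ =
      (J.comap (ModPair.mprodι f g I J ≫ pullback.snd f g)).comap π₁ := by
    rw [← Scheme.IdealSheafData.comap_comp, ← Scheme.IdealSheafData.comap_comp,
      ← Category.assoc, hψ, hc₀2]
  have hC : (ModPair.prodCentre (f ≫ σ) (g ≫ σ) I J).comap ψ =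
      (ModPair.prodCentre f g I J).comap π₁ := by
    rw [Groth.Agent.Lib27.AmbProdMP.comap_prodCentre,
      Groth.Agent.Lib27.AmbProdMP.comap_prodCentre, hA, hB]
  have hCE : BlowUp.IsEffCartierIdeal ((ModPair.prodCentre (f ≫ σ) (g ≫ σ) I J).comap ψ) := by
    rw [hC]
    exact hY₁.1.1
  obtain ⟨φ, hφ, hφuniq⟩ := hY₀.1.2 Y₁ ψ hCE
  have hφ' : φ ≫ π₀ = ψ := hφ
  constructor
  · refine ⟨φ, ?_, ?_⟩
    · change φ ≫ π₀ ≫ ModPair.mprodι (f ≫ σ) (g ≫ σ) I J = c₀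
      rw [← Category.assoc, hφ', hψ]
    · intro φ₂ hφ₂
      apply hφuniq
      change φ₂ ≫ π₀ = ψ
      rw [← cancel_mono (ModPair.mprodι (f ≫ σ) (g ≫ σ) I J), Category.assoc, hφ₂, hψ]
  · intro φ₂ hφ₂
    have hφ₂ψ : φ₂ ≫ π₀ = ψ := by
      rw [← cancel_mono (ModPair.mprodι (f ≫ σ) (g ≫ σ) I J), Category.assoc, hφ₂, hψ]
    change K₁ = K₀.comap φ₂
    have h0 := congrArg (fun L : Y₀.IdealSheafData => L.comap φ₂) hY₀.2
    simp only [Groth.Agent.Lib.Helper1.comap_mul] at h0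
    rw [← Scheme.IdealSheafData.comap_comp, ← Scheme.IdealSheafData.comap_comp (f := φ₂),
      ← Scheme.IdealSheafData.comap_comp (f := φ₂), hφ₂ψ, hC, hA, hB] at h0
    refine Groth.Agent.Lib27.AmbProdMP.eq_of_mul_eq_mul _ _ _ hY₁.1.1 ?_
    rw [hY₁.2, h0]

end Groth.Agent.S18755
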