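import Groth.Statements.S1876
import Groth.Agent.Lib.Helper2.AltTr.Derived

set_option autoImplicit false
universe u
open CategoryTheory
attribute [local instance] HasDerivedCategory.standard
open Trace

namespace Groth.Agent.S1876
section Aux
open Groth.Agent.Lib.Helper2.AltTr

theorem isKProjective_of (Λ : Type u) [CommRing Λ] (P : DRing.Cx Λ) (a b : ℤ)
    (hP : DRing.VanishesOutside P a b) (hPf : DRing.TermwiseFiniteFree P) :
    CochainComplex.IsKProjective P := by
  haveI : CochainComplex.IsStrictlyLE P b := by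
    rw [CochainComplex.isStrictlyLE_iff]
    intro i hi
    exact hP i (Or.inr hi)
  haveI : ∀ n : ℤ, Projective (P.X n) := fun n => by
    haveI := (hPf n).2
    exact (IsProjective.iff_projective (P.X n)).mp inferInstance
  exact CochainComplex.isKProjective_of_projective P b

end Aux

open Groth.Agent.Lib.Helper2.AltTr in

/-- Commutative coefficient ring, finite free terms: let P and Q be bounded complexes of finite free
Λ-modules with chain endomorphisms f and g, and α : P ≅ Q an isomorphism in the derived category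
D(Λ) with α ∘ f = g ∘ α there. Then Σ_i (−1)^i Tr(f^i | P^i) = Σ_i (−1)^i Tr(g^i | Q^i); that is,
the trace of an endomorphism of a perfect object of D(Λ) is well defined. -/
theorem result (Λ : Type u) [CommRing Λ] (P Q : DRing.Cx Λ) (a b : ℤ) (hP : DRing.VanishesOutside P a b) (hQ : DRing.VanishesOutside Q a b) (hPf : DRing.TermwiseFiniteFree P) (hQf : DRing.TermwiseFiniteFree Q) (f : P ⟶ P) (g : Q ⟶ Q) (α : DRing.toD P ≅ DRing.toD Q) (h : α.hom ≫ DerivedCategory.Q.map g = DerivedCategory.Q.map f ≫ α.hom) : ∑ i ∈ Finset.Icc a b, ((i.negOnePow : ℤˣ) : ℤ) • LinearMap.trace Λ (P.X i) (f.f i).hom = ∑ i ∈ Finset.Icc a b, ((i.negOnePow : ℤˣ) : ℤ) • LinearMap.trace Λ (Q.X i) (g.f i).hom := by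
  classical
  haveI := isKProjective_of Λ P a b hP hPf
  haveI := isKProjective_of Λ Q a b hQ hQf
  obtain ⟨u, hu⟩ := exists_Q_map_eq P Q α.hom
  obtain ⟨v, hv⟩ := exists_Q_map_eq Q P α.inv
  obtain ⟨h1⟩ := nonempty_homotopy_of_Q_map_eq P P (u ≫ v) (𝟙 P) (by
    rw [Functor.map_comp, hu, hv, Iso.hom_inv_id, CategoryTheory.Functor.map_id])
  obtain ⟨h2⟩ := nonempty_homotopy_of_Q_map_eq Q Q (v ≫ u) (𝟙 Q) (by
    rw [Functor.map_comp, hu, hv, Iso.inv_hom_id, CategoryTheory.Functor.map_id])
  obtain ⟨h3⟩ := nonempty_homotopy_of_Q_map_eq P Q (u ≫ g) (f ≫ u) (by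
    rw [Functor.map_comp, Functor.map_comp, hu, h])
  change altTr P a b f = altTr Q a b g
  have e1 : altTr P a b f = altTr P a b (f ≫ u ≫ v) := by
    apply altTr_eq_of_homotopy a b hPf hP
    have := (h1.compLeft f).symm
    rwa [Category.comp_id] at this
  have e2 : altTr P a b (f ≫ u ≫ v) = altTr P a b (u ≫ g ≫ v) := by
    apply altTr_eq_of_homotopy a b hPf hP
    have := (h3.compRight v).symm
    rwa [Category.assoc, Category.assoc] at this
  have e3 : altTr P a b (u ≫ g ≫ v) = altTr Q a b ((g ≫ v) ≫ u) :=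
    altTr_comp_comm a b hPf hQf u (g ≫ v)
  have e4 : altTr Q a b ((g ≫ v) ≫ u) = altTr Q a b g := by
    apply altTr_eq_of_homotopy a b hQf hQ
    have := h2.compLeft g
    rwa [Category.comp_id, ← Category.assoc] at this
  rw [e1, e2, e3, e4]

end Groth.Agent.S1876
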