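import Groth.Statements.S1877
import Mathlib
import Groth.Agent.Lib.Helper20.HA11

set_option autoImplicit false
universe u
open CategoryTheory CategoryTheory.Limits AlgebraicGeometry
open Grpd

namespace Groth.Agent.S1877


/-- Let (U, R, s, t, c) be a groupoid scheme over S with U and R affine, s and t finite locally free,
and j = (t, s) : R → U ×_S U a monomorphism (so an equivalence relation). Then U → M = Spec C is
finite locally free and (t, s) identifies R with U ×_M U. (The source's final clause, that M is the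
fppf quotient sheaf U/R, is not restated.) (A groupoid scheme carries U, R, s, t, c, e, i over S
with the groupoid axioms on T-points; 'finite locally free' is finite, flat and locally of finite
presentation; C ⊂ Γ(U) is the ring of functions a with s♯(a) = t♯(a) and M = Spec C.) -/
theorem result (S : Scheme.{u}) (G : Grpd.GroupoidScheme S) [IsAffine G.U] [IsAffine G.R] [IsFinite G.s] [Flat G.s] [LocallyOfFinitePresentation G.s] [IsFinite G.t] [Flat G.t] [LocallyOfFinitePresentation G.t] [Mono G.j] : (IsFinite G.toQuot ∧ Flat G.toQuot ∧ LocallyOfFinitePresentation G.toQuot) ∧ ∃ φ : G.R ≅ pullback G.toQuot G.toQuot, φ.hom ≫ pullback.fst G.toQuot G.toQuot = G.t ∧ φ.hom ≫ pullback.snd G.toQuot G.toQuot = G.s := by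

  classical
  have hgen := Groth.Agent.Lib.Helper20.HA.gen_ofGrpd G
  have hflat : Module.Flat G.invariants Γ(G.U, ⊤) :=
    (Groth.Agent.Lib.Helper20.HA.ofGrpd G).flat_inv hgen
  have hfin : Module.Finite G.invariants Γ(G.U, ⊤) :=
    (Groth.Agent.Lib.Helper20.HA.ofGrpd G).finite_inv hgen
  have hfp : Algebra.FinitePresentation G.invariants Γ(G.U, ⊤) :=
    (Groth.Agent.Lib.Helper20.HA.ofGrpd G).finitePresentation_inv hgen
  have hmu := (Groth.Agent.Lib.Helper20.HA.ofGrpd G).mu_bijective hgen
  have hsub : G.invariants.subtype = algebraMap G.invariants Γ(G.U, ⊤) := rfl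
  refine ⟨⟨?_, ?_, ?_⟩, ?_⟩
  · unfold Grpd.GroupoidScheme.toQuot
    have : IsFinite (Spec.map (CommRingCat.ofHom G.invariants.subtype)) := by
      rw [IsFinite.SpecMap_iff, CommRingCat.hom_ofHom, hsub, RingHom.finite_algebraMap]
      exact hfin
    infer_instance
  · unfold Grpd.GroupoidScheme.toQuot
    have : Flat (Spec.map (CommRingCat.ofHom G.invariants.subtype)) := by
      rw [Flat.SpecMap_iff, CommRingCat.hom_ofHom, hsub, RingHom.flat_algebraMap_iff]
      exact hflat
    infer_instance
  · unfold Grpd.GroupoidScheme.toQuot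
    have : LocallyOfFinitePresentation (Spec.map (CommRingCat.ofHom G.invariants.subtype)) := by
      rw [LocallyOfFinitePresentation.SpecMap_iff, CommRingCat.hom_ofHom, hsub,
        RingHom.finitePresentation_algebraMap]
      exact hfp
    infer_instance
  · -- the pushout square of rings
    letI : Algebra G.invariants Γ(G.R, ⊤) := (Groth.Agent.Lib.Helper20.HA.ofGrpd G).algB
    let e : (TensorProduct G.invariants Γ(G.U, ⊤) Γ(G.U, ⊤)) ≃+* Γ(G.R, ⊤) :=
      RingEquiv.ofBijective (Groth.Agent.Lib.Helper20.HA.ofGrpd G).mu hmu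
    have po0 := CommRingCat.isPushout_tensorProduct G.invariants Γ(G.U, ⊤) Γ(G.U, ⊤)
    have po : IsPushout (CommRingCat.ofHom (algebraMap G.invariants Γ(G.U, ⊤)))
        (CommRingCat.ofHom (algebraMap G.invariants Γ(G.U, ⊤))) G.s.appTop G.t.appTop := by
      refine po0.of_iso (Iso.refl _) (Iso.refl _) (Iso.refl _) e.toCommRingCatIso ?_ ?_ ?_ ?_
      · simp
      · simp
      · ext a
        show (Groth.Agent.Lib.Helper20.HA.ofGrpd G).mu (a ⊗ₜ 1) = G.s.appTop.hom a
        rw [Groth.Agent.Lib.Helper20.HA.Data.mu_tmul]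
        show G.s.appTop.hom a * G.t.appTop.hom 1 = _
        rw [map_one, mul_one]
      · ext a
        show (Groth.Agent.Lib.Helper20.HA.ofGrpd G).mu (1 ⊗ₜ a) = G.t.appTop.hom a
        rw [Groth.Agent.Lib.Helper20.HA.Data.mu_tmul]
        show G.s.appTop.hom 1 * G.t.appTop.hom a = _
        rw [map_one, one_mul]
    have pb1 := po.op.map Scheme.Spec
    have pb2 : IsPullback (Spec.map G.t.appTop) (Spec.map G.s.appTop)
        (Spec.map (CommRingCat.ofHom G.invariants.subtype))
        (Spec.map (CommRingCat.ofHom G.invariants.subtype)) := pb1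
    have hpb : IsPullback G.t G.s G.toQuot G.toQuot := by
      refine IsPullback.of_iso pb2 G.R.isoSpec.symm G.U.isoSpec.symm G.U.isoSpec.symm (Iso.refl _)
        ?_ ?_ ?_ ?_
      · exact Scheme.isoSpec_inv_naturality G.t
      · exact Scheme.isoSpec_inv_naturality G.s
      · unfold Grpd.GroupoidScheme.toQuot
        simp [← Scheme.isoSpec_hom]
      · unfold Grpd.GroupoidScheme.toQuot
        simp [← Scheme.isoSpec_hom]
    exact ⟨hpb.isoPullback, hpb.isoPullback_hom_fst, hpb.isoPullback_hom_snd⟩

end Groth.Agent.S1877
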