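import Groth.Statements.S18774
import Groth.Agent.Lib.Helper2.DegAdd.Bound
import Groth.Agent.S16754

set_option autoImplicit false
universe u
open CategoryTheory CategoryTheory.Limits AlgebraicGeometry
open VBCurve

namespace Groth.Agent.S18774

/-- Let k be a finite field and C a smooth proper geometrically integral curve over k (proper, smooth
and geometrically integral over k, of dimension one), and write g = dim_k H^1(C, O_C). Let E be a
finite locally free O_C-module and F a finite locally free submodule of E of rank r' ≥ 1 (a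
monomorphism F → E). Then deg F ≤ r' · (dim_k H^0(C, E) + g − 1), that is, the slope of F is at most
h^0(C, E) + g − 1; here the degree of a rank-n locally free module G is χ(G) − n·χ(O_C). -/
theorem result (k : Type u) [Field k] [Finite k] (X : Scheme.{u}) [X.Over (Spec (CommRingCat.of k))]
    [IsProper (X ↘ Spec (CommRingCat.of k))] [Smooth (X ↘ Spec (CommRingCat.of k))]
    [GeometricallyIntegral (X ↘ Spec (CommRingCat.of k))] (hdim : topologicalKrullDim ↥X = 1)
    (E : X.Modules) (hE : FlatMod.IsFinLocFree E) (F : X.Modules) (r' : ℕ) (hr' : 0 < r')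
    (hF : FlatMod.IsFinLocFreeOfRank r' F) (i : F ⟶ E) [Mono i] :
    Curv2.deg k X F r' ≤ (r' : ℤ) * ((Module.finrank k (Coh.HH X E 0) : ℤ) + (Curv2.genus k X : ℤ) - 1) := by
  have hgc : GeometricallyConnected (X ↘ Spec (CommRingCat.of k)) :=
    ((Groth.Agent.S16754.result k X hdim).2).2 inferInstance
  have h0O : Module.finrank k (Coh.HH X (Coh.structureModule X) 0) = 1 :=
    ((Groth.Agent.S16754.result k X hdim).1).2 hgc
  have hnoeth := Groth.Agent.Lib.Helper2.DegAdd.isNoetherian_of_proper (X := X) k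
  have hqc := Groth.Agent.Lib.Helper29.QCoh.isQuasicoherent_of_isFinLocFree hE
  have hfp := Groth.Agent.Lib.Helper29.QCoh.isFinitePresentation_of_isFinLocFree hE
  have hEc : Coh.IsCoh E := ⟨inferInstance, inferInstance⟩
  have hfin : Module.Finite k (Coh.HH X E 0) := Groth.Agent.S0002.result k X _ hEc 0
  have h0 := Groth.Agent.Lib.Helper2.DegAdd.h0_le_of_mono k i
  unfold Curv2.deg
  rw [Groth.Agent.Lib.Helper2.DegAdd.euler_eq_h0_sub_h1 k (le_of_eq hdim) F,
    Groth.Agent.Lib.Helper2.DegAdd.euler_eq_h0_sub_h1 k (le_of_eq hdim) (Coh.structureModule X),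
    h0O]
  unfold Curv2.genus
  have h1 : (0 : ℤ) ≤ (Module.finrank k (Coh.HH X F 1) : ℤ) := Int.natCast_nonneg _
  have h0' : (Module.finrank k (Coh.HH X F 0) : ℤ) ≤ (Module.finrank k (Coh.HH X E 0) : ℤ) := by
    exact_mod_cast h0
  have hE0 : (0 : ℤ) ≤ (Module.finrank k (Coh.HH X E 0) : ℤ) := Int.natCast_nonneg _
  have hr1 : (0 : ℤ) ≤ (r' : ℤ) - 1 := by
    have : (1 : ℤ) ≤ (r' : ℤ) := by exact_mod_cast hr'
    linarith
  have hmul := mul_nonneg hr1 hE0
  push_cast
  nlinarith

end Groth.Agent.S18774
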