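import Groth.Statements.S18789
import Mathlib

set_option autoImplicit false
universe u v w x
open TorusGr

namespace Groth.Agent.S18789

section Helpers

open DirectSum

variable {k : Type*} [Field k] {M : Type*} [AddCommGroup M] [DecidableEq M]
  {A : Type*} [CommRing A] [Algebra k A] (𝒜 : M → Submodule k A) [GradedAlgebra 𝒜]
  {P : Type*} [AddCommGroup P] [Module A P] [Module k P] [IsScalarTower k A P]
  (ℳ : M → Submodule k P) [Decomposition ℳ] [SetLike.GradedSMul 𝒜 ℳ]

omit [IsScalarTower k A P] in
/-- Homogeneous components of `a • p` for homogeneous `p`. -/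
theorem decompose_smul_add {a : A} {p : P} {d : M} (hp : p ∈ ℳ d) (j : M) :
    ((decompose ℳ (a • p)) (j + d) : P) = (decompose 𝒜 a j : A) • p := by
  classical
  have ha : a • p = ∑ l ∈ (decompose 𝒜 a).support, (decompose 𝒜 a l : A) • p := by
    conv_lhs => rw [← DirectSum.sum_support_decompose 𝒜 a, Finset.sum_smul]
  have hmem : ∀ l, (decompose 𝒜 a l : A) • p ∈ ℳ (l + d) := fun l =>
    SetLike.GradedSMul.smul_mem (A := 𝒜) (B := ℳ) (i := l) (j := d)
      (SetLike.coe_mem (decompose 𝒜 a l)) hp
  rw [ha, DirectSum.decompose_sum, DFinsupp.finsetSum_apply, AddSubmonoidClass.coe_finsetSum]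
  by_cases hj : j ∈ (decompose 𝒜 a).support
  · rw [Finset.sum_eq_single j]
    · rw [DirectSum.decompose_of_mem_same ℳ (hmem j)]
    · intro l _ hlj
      rw [DirectSum.decompose_of_mem_ne ℳ (hmem l) (fun h => hlj (add_right_cancel h))]
    · intro h; exact absurd hj h
  · rw [Finset.sum_eq_zero]
    · rw [DFinsupp.notMem_support_iff.mp hj]; simp
    · intro l hl
      have hlj : l ≠ j := fun h => hj (h ▸ hl)
      rw [DirectSum.decompose_of_mem_ne ℳ (hmem l) (fun h => hlj (add_right_cancel h))]

omit [IsScalarTower k A P] in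
include 𝒜 in
/-- The span of homogeneous elements is closed under taking homogeneous components. -/
theorem decompose_mem_span {n : ℕ} (wt : Fin n → M) (f : Fin n → P) (hf : ∀ i, f i ∈ ℳ (wt i))
    {x : P} (hx : x ∈ Submodule.span A (Set.range f)) (e : M) :
    ((decompose ℳ x) e : P) ∈ Submodule.span A (Set.range f) := by
  classical
  induction hx using Submodule.span_induction generalizing e with
  | mem x hx =>
    obtain ⟨i, rfl⟩ := hx
    by_cases h : wt i = e
    · subst h
      rw [DirectSum.decompose_of_mem_same ℳ (hf i)]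
      exact Submodule.subset_span ⟨i, rfl⟩
    · rw [DirectSum.decompose_of_mem_ne ℳ (hf i) h]
      exact Submodule.zero_mem _
  | zero => simp
  | add x y _ _ hx hy =>
    rw [DirectSum.decompose_add, DirectSum.add_apply, Submodule.coe_add]
    exact add_mem (hx e) (hy e)
  | smul a x _ hx =>
    -- decompose x into components
    have hxsum : a • x = ∑ d ∈ (decompose ℳ x).support, a • ((decompose ℳ x) d : P) := by
      conv_lhs => rw [← DirectSum.sum_support_decompose ℳ x, Finset.smul_sum]
    rw [hxsum, DirectSum.decompose_sum, DFinsupp.finsetSum_apply, AddSubmonoidClass.coe_finsetSum]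
    apply Submodule.sum_mem
    intro d _
    have := decompose_smul_add 𝒜 ℳ (a := a) (SetLike.coe_mem ((decompose ℳ x) d)) (e - d)
    rw [sub_add_cancel] at this
    rw [this]
    exact Submodule.smul_mem _ _ (hx d)

end Helpers


open DirectSum in
/-- Let `A` be a commutative algebra over a field `k`, graded by an additive commutative group `M` (for
`M` the character group of a split torus `T` this is a `T`-action on `Spec A`, and an `M`-graded
`A`-module is a `T`-equivariant quasi-coherent sheaf), let `P` be a finitely generated projective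
`A`-module with a compatible `M`-grading (a locally free `T`-sheaf of finite rank), and let `m` be a
homogeneous maximal ideal with residue field `k` (a `T`-fixed rational point). If homogeneous
elements `f i` of `P` reduce to a basis of `P/mP`, then there is a homogeneous `s ∉ m` such that
after inverting `s` the `f i` generate `P` and every relation among them is killed by a power of
`s`: on the invariant open `D(s)` the module is free on the homogeneous sections `f i`, with the
weights of the fibre `P/mP`. (The published statement has `M ≅ ℤ^r`, a split torus; here `M` is any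
additive commutative group, i.e. any diagonalizable group.) -/
theorem result
    {k : Type u} [Field k] {M : Type v} [AddCommGroup M] [DecidableEq M]
    {A : Type w} [CommRing A] [Algebra k A] (𝒜 : M → Submodule k A) [GradedAlgebra 𝒜]
    {P : Type x} [AddCommGroup P] [Module A P] [Module k P] [IsScalarTower k A P]
    (ℳ : M → Submodule k P) [Decomposition ℳ] [SetLike.GradedSMul 𝒜 ℳ]
    [Module.Finite A P] [Module.Projective A P]
    (m : Ideal A) [m.IsMaximal] (hm : m.IsHomogeneous 𝒜)
    (hrat : Function.Surjective (algebraMap k (A ⧸ m)))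
    {n : ℕ} (wt : Fin n → M) (f : Fin n → P) (hf : ∀ i, f i ∈ ℳ (wt i))
    (hli : LinearIndependent (A ⧸ m)
      (fun i => (Submodule.Quotient.mk (f i) : P ⧸ (m • (⊤ : Submodule A P)))))
    (hsp : Submodule.span A (Set.range f) ⊔ m • (⊤ : Submodule A P) = ⊤) :
    ∃ s : A, SetLike.IsHomogeneousElem 𝒜 s ∧ s ∉ m ∧
      (∀ p : P, ∃ (N : ℕ) (c : Fin n → A), s ^ N • p = ∑ i, c i • f i) ∧
      (∀ c : Fin n → A, ∑ i, c i • f i = 0 → ∃ N : ℕ, ∀ i, s ^ N * c i = 0) := by
  classical
  set Q : Submodule A P := Submodule.span A (Set.range f) with hQ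
  have hmprime : m.IsPrime := Ideal.IsMaximal.isPrime inferInstance
  -- a general tool: an element outside m has a homogeneous component outside m
  have hcomp_notMem : ∀ a : A, a ∉ m → ∃ j, (decompose 𝒜 a j : A) ∉ m := by
    intro a ha
    by_contra hcon
    push Not at hcon
    apply ha
    rw [← DirectSum.sum_support_decompose 𝒜 a]
    exact Ideal.sum_mem _ fun j _ => hcon j
  -- Step A: Nakayama
  obtain ⟨r, hr1, hrQ⟩ := Submodule.exists_sub_one_mem_and_smul_le_of_fg_of_le_sup (I := m)
    (N := Q) (N' := ⊤) (P := ⊤) (Module.finite_def.mp inferInstance) le_rfl (by rw [hsp])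
  have hrQ' : ∀ p : P, r • p ∈ Q := fun p =>
    hrQ (Submodule.smul_mem_pointwise_smul p r ⊤ trivial)
  have hrm : r ∉ m := by
    intro hrm
    have : (1 : A) ∈ m := by
      have := m.sub_mem hrm hr1
      simpa using this
    exact (Ideal.IsMaximal.ne_top inferInstance) ((Ideal.eq_top_iff_one m).mpr this)
  -- Step B: homogeneous s₁
  obtain ⟨j₁, hs₁m⟩ := hcomp_notMem r hrm
  set s₁ : A := (decompose 𝒜 r j₁ : A) with hs₁
  have hs₁Q : ∀ p : P, s₁ • p ∈ Q := by
    intro p
    have hp : s₁ • p = ∑ d ∈ (decompose ℳ p).support, s₁ • ((decompose ℳ p) d : P) := by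
      conv_lhs => rw [← DirectSum.sum_support_decompose ℳ p, Finset.smul_sum]
    rw [hp]
    apply Submodule.sum_mem
    intro d _
    rw [hs₁, ← decompose_smul_add 𝒜 ℳ (SetLike.coe_mem ((decompose ℳ p) d)) j₁]
    exact decompose_mem_span 𝒜 ℳ wt f hf (hrQ' _) _
  -- Step C: dual basis and determinant
  obtain ⟨t, φ, g, -, -, hφg⟩ := Module.Finite.exists_comp_eq_id_of_projective A P
  have hex : ∀ l : Fin t, ∃ a : Fin n → A, ∑ i, a i • f i = s₁ • φ (Pi.single l 1) := fun l =>
    (Submodule.mem_span_range_iff_exists_fun A).mp (hs₁Q _)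
  choose a ha using hex
  have hexpand : ∀ p : P, s₁ • p = ∑ i, (∑ l, g p l * a l i) • f i := by
    intro p
    have hp : p = ∑ l, g p l • φ (Pi.single l 1) := by
      have h1 : φ (g p) = p := by
        have := congrArg (fun F => F p) hφg
        simpa using this
      conv_lhs => rw [← h1, pi_eq_sum_univ' (g p)]
      rw [map_sum]
      refine Finset.sum_congr rfl fun l _ => ?_
      rw [map_smul]
    conv_lhs => rw [hp, Finset.smul_sum]
    have : ∀ l, s₁ • g p l • φ (Pi.single l 1) = ∑ i, (g p l * a l i) • f i := by
      intro l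
      rw [smul_comm, ← ha l, Finset.smul_sum]
      refine Finset.sum_congr rfl fun i _ => ?_
      rw [mul_smul]
    simp_rw [this]
    rw [Finset.sum_comm]
    refine Finset.sum_congr rfl fun i _ => ?_
    rw [Finset.sum_smul]
  let G : Matrix (Fin n) (Fin n) A := fun i j => ∑ l, g (f j) l * a l i
  have hG1 : ∀ j, s₁ • f j = ∑ i, G i j • f i := fun j => hexpand (f j)
  have hG2 : ∀ c : Fin n → A, ∑ j, c j • f j = 0 → ∀ i, G.det * c i = 0 := by
    intro c hc
    have hmv : G.mulVec c = 0 := by
      funext i
      simp only [Matrix.mulVec, dotProduct, Pi.zero_apply, G]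
      have h1 : g (∑ j, c j • f j) = 0 := by rw [hc, map_zero]
      rw [map_sum] at h1
      have h2 : ∀ l, ∑ j, c j * g (f j) l = 0 := by
        intro l
        have := congrFun h1 l
        simpa [Finset.sum_apply] using this
      calc ∑ j, (∑ l, g (f j) l * a l i) * c j
          = ∑ l, (∑ j, c j * g (f j) l) * a l i := by
            simp_rw [Finset.sum_mul]
            rw [Finset.sum_comm]
            refine Finset.sum_congr rfl fun l _ => Finset.sum_congr rfl fun j _ => ?_
            ring
        _ = 0 := by simp [h2]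
    have h3 : (G.adjugate * G).mulVec c = 0 := by
      rw [← Matrix.mulVec_mulVec, hmv, Matrix.mulVec_zero]
    rw [Matrix.adjugate_mul] at h3
    intro i
    have := congrFun h3 i
    simpa [Matrix.smul_mulVec, Matrix.one_mulVec] using this
  have hG3 : G.det ∉ m := by
    -- reduce modulo m
    have hGbar : ∀ i j, Ideal.Quotient.mk m (G i j) =
        if i = j then Ideal.Quotient.mk m s₁ else 0 := by
      intro i j
      have hrel : ∑ i', (Ideal.Quotient.mk m (G i' j) -
          if i' = j then Ideal.Quotient.mk m s₁ else 0) •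
          (Submodule.Quotient.mk (f i') : P ⧸ (m • (⊤ : Submodule A P))) = 0 := by
        simp_rw [sub_smul, Finset.sum_sub_distrib]
        rw [sub_eq_zero]
        have hL : ∑ i', Ideal.Quotient.mk m (G i' j) •
            (Submodule.Quotient.mk (f i') : P ⧸ (m • (⊤ : Submodule A P))) =
            Submodule.Quotient.mk (s₁ • f j) := by
          rw [hG1 j]
          change _ = (m • (⊤ : Submodule A P)).mkQ (∑ i, G i j • f i)
          rw [map_sum]
          rfl
        have hR : ∑ i', (if i' = j then Ideal.Quotient.mk m s₁ else 0) •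
            (Submodule.Quotient.mk (f i') : P ⧸ (m • (⊤ : Submodule A P))) =
            Submodule.Quotient.mk (s₁ • f j) := by
          rw [Finset.sum_eq_single j]
          · rw [if_pos rfl]; rfl
          · intro b _ hb; rw [if_neg hb, zero_smul]
          · intro h; exact absurd (Finset.mem_univ j) h
        rw [hL, hR]
      have := Fintype.linearIndependent_iff.mp hli _ hrel i
      exact sub_eq_zero.mp this
    intro hdet
    have h1 : Ideal.Quotient.mk m G.det = 0 := Ideal.Quotient.eq_zero_iff_mem.mpr hdet
    rw [RingHom.map_det] at h1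
    have h2 : (Ideal.Quotient.mk m).mapMatrix G =
        Matrix.diagonal (fun _ => Ideal.Quotient.mk m s₁) := by
      ext i j
      simp only [RingHom.mapMatrix_apply, Matrix.map_apply, Matrix.diagonal_apply]
      exact hGbar i j
    rw [h2, Matrix.det_diagonal, Finset.prod_const] at h1
    have h3 : Ideal.Quotient.mk m s₁ = 0 := by
      have : IsDomain (A ⧸ m) := Ideal.Quotient.isDomain m
      exact pow_eq_zero_iff (n := Finset.card (Finset.univ : Finset (Fin n))) (by
        intro h0
        -- n = 0: then det = 1 ≠ 0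
        rw [h0, pow_zero] at h1
        exact one_ne_zero h1) |>.mp h1
    exact hs₁m (Ideal.Quotient.eq_zero_iff_mem.mp h3)
  -- Step D: homogeneous component of det G
  have hhomog : ∀ a : A, (∀ c : Fin n → A, ∑ j, c j • f j = 0 → ∀ i, a * c i = 0) →
      ∀ j₂, ∀ c : Fin n → A, ∑ j, c j • f j = 0 → ∀ i, (decompose 𝒜 a j₂ : A) * c i = 0 := by
    intro a hakill j₂ c hc i₀
    have hcu : ∀ u : M, (decompose 𝒜 a j₂ : A) * (decompose 𝒜 (c i₀) u : A) = 0 := by
      intro u
      -- relation in degree d = u + wt i₀
      have hreld : ∑ i, (decompose 𝒜 (c i) (u + wt i₀ - wt i) : A) • f i = 0 := by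
        have h1 : ∀ i, (decompose 𝒜 (c i) (u + wt i₀ - wt i) : A) • f i =
            ((decompose ℳ (c i • f i)) (u + wt i₀) : P) := by
          intro i
          have := decompose_smul_add 𝒜 ℳ (a := c i) (hf i) (u + wt i₀ - wt i)
          rw [sub_add_cancel] at this
          exact this.symm
        simp_rw [h1]
        rw [← AddSubmonoidClass.coe_finsetSum, ← DFinsupp.finsetSum_apply,
          ← DirectSum.decompose_sum, hc, DirectSum.decompose_zero]
        rfl
      have h2 := hakill _ hreld i₀
      rw [add_sub_cancel_right] at h2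
      have h3 := DirectSum.coe_decompose_mul_add_of_right_mem 𝒜 (i := j₂) (a := a)
        (SetLike.coe_mem (decompose 𝒜 (c i₀) u))
      rw [h2, DirectSum.decompose_zero] at h3
      exact h3.symm ▸ rfl
    conv_lhs => rw [← DirectSum.sum_support_decompose 𝒜 (c i₀), Finset.mul_sum]
    exact Finset.sum_eq_zero fun u _ => hcu u
  obtain ⟨j₂, hs₂m⟩ := hcomp_notMem G.det hG3
  set s₂ : A := (decompose 𝒜 G.det j₂ : A) with hs₂
  have hs₂kill := hhomog G.det hG2 j₂
  -- Step E
  refine ⟨s₁ * s₂, ⟨j₁ + j₂, SetLike.mul_mem_graded (SetLike.coe_mem _) (SetLike.coe_mem _)⟩,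
    ?_, ?_, ?_⟩
  · intro h
    rcases hmprime.mem_or_mem h with h | h
    · exact hs₁m h
    · exact hs₂m h
  · intro p
    have : (s₁ * s₂) • p ∈ Q := by
      rw [mul_comm, mul_smul]
      exact Submodule.smul_mem _ _ (hs₁Q p)
    obtain ⟨c, hc⟩ := (Submodule.mem_span_range_iff_exists_fun A).mp this
    exact ⟨1, c, by rw [pow_one, hc]⟩
  · intro c hc
    refine ⟨1, fun i => ?_⟩
    rw [pow_one, mul_assoc, hs₂kill c hc i, mul_zero]

end Groth.Agent.S18789
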