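import Groth.Statements.S18791
import Mathlib

set_option autoImplicit false
universe u v w x
open TorusGr

namespace Groth.Agent.S18791

/-- Let `φ : B → A` be a degree-preserving homomorphism of commutative algebras over a field `k` graded
by an additive commutative group `M` (for `M` the character group of a split torus, an equivariant
morphism `Spec A → Spec B`), and let `m` be a maximal ideal of `A` containing all homogeneous
elements of non-zero degree (a fixed point). Then the ideal of those `b` whose image is zero in the
local ring `A_m` is homogeneous: the homogeneous (weight) components of such a `b` again die in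
`A_m`. Since `A_m` embeds in its completion when `A` is Noetherian, these are the elements of `B`
that die in the completed local ring. (The published lemma asserts moreover that, for `B = k[Y_1, …,
Y_d]` mapping the `Y_i` to semi-invariant lifts of a basis of `m/m²`, the kernel of the induced
surjection of completions `k[[Y]] → Â_m` is generated by semi-invariant polynomials; generation of
that kernel by polynomials can fail, so only the statement about polynomial elements of the kernel
is recorded here. The published statement has `M ≅ ℤ^r` (a split torus) and `B` the polynomial ring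
on the lifts; here `M` is any additive commutative group and `B` any `M`-graded `k`-algebra.) -/
theorem result
    {k : Type u} [Field k] {M : Type v} [AddCommGroup M] [DecidableEq M]
    {A : Type w} [CommRing A] [Algebra k A] (𝒜 : M → Submodule k A) [GradedAlgebra 𝒜]
    {B : Type x} [CommRing B] [Algebra k B] (ℬ : M → Submodule k B) [GradedAlgebra ℬ]
    (φ : B →ₐ[k] A) (hφ : ∀ i : M, ∀ b ∈ ℬ i, φ b ∈ 𝒜 i)
    (m : Ideal A) [m.IsMaximal] (hfix : ∀ i : M, i ≠ 0 → ∀ a ∈ 𝒜 i, a ∈ m) :
    (RingHom.ker ((algebraMap A (Localization.AtPrime m)).comp (φ : B →+* A))).IsHomogeneous ℬ := by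
  classical
  intro i b hb
  rw [RingHom.mem_ker, RingHom.comp_apply] at hb ⊢
  rw [IsLocalization.map_eq_zero_iff m.primeCompl] at hb ⊢
  obtain ⟨⟨s, hs⟩, hsb⟩ := hb
  change s * φ b = 0 at hsb
  change s ∉ m at hs
  -- φ commutes with taking components
  have hcomp : ∀ j : M, (DirectSum.decompose 𝒜 (φ b) j : A) = φ (DirectSum.decompose ℬ b j : B) := by
    intro j
    conv_lhs => rw [← DirectSum.sum_support_decompose ℬ b, map_sum, DirectSum.decompose_sum]
    rw [DFinsupp.finsetSum_apply, AddSubmonoidClass.coe_finsetSum]
    by_cases hj : j ∈ (DirectSum.decompose ℬ b).support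
    · rw [Finset.sum_eq_single j]
      · rw [DirectSum.decompose_of_mem_same 𝒜 (hφ j _ (SetLike.coe_mem _))]
      · intro l _ hlj
        rw [DirectSum.decompose_of_mem_ne 𝒜 (hφ l _ (SetLike.coe_mem _)) hlj]
      · intro h; exact absurd hj h
    · rw [Finset.sum_eq_zero]
      · rw [DFinsupp.notMem_support_iff.mp hj]; simp
      · intro l hl
        have hlj : l ≠ j := fun h => hj (h ▸ hl)
        rw [DirectSum.decompose_of_mem_ne 𝒜 (hφ l _ (SetLike.coe_mem _)) hlj]
  set a : A := φ b with ha
  -- the submodule generated by the components of a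
  let F := (DirectSum.decompose 𝒜 a).support
  let N : Submodule A A := Submodule.span A ((fun j => (DirectSum.decompose 𝒜 a j : A)) '' (F : Set M))
  have hNfg : N.FG := Submodule.fg_span ((Finset.finite_toSet F).image _)
  have haN : ∀ j, (DirectSum.decompose 𝒜 a j : A) ∈ N := by
    intro j
    by_cases hj : j ∈ F
    · exact Submodule.subset_span ⟨j, hj, rfl⟩
    · rw [DFinsupp.notMem_support_iff.mp hj]; simp
  -- multiplication by an element with all components in m
  have hmul : ∀ x : A, (∀ p, (DirectSum.decompose 𝒜 x p : A) ∈ m) →
      ∀ j, (DirectSum.decompose 𝒜 (x * a) j : A) ∈ m • N := by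
    intro x hx j
    have hx_sum : x * a = ∑ p ∈ (DirectSum.decompose 𝒜 x).support,
        (DirectSum.decompose 𝒜 x p : A) * a := by
      conv_lhs => rw [← DirectSum.sum_support_decompose 𝒜 x, Finset.sum_mul]
    rw [hx_sum, DirectSum.decompose_sum]
    rw [DFinsupp.finsetSum_apply, AddSubmonoidClass.coe_finsetSum]
    apply Submodule.sum_mem
    intro p _
    have := DirectSum.coe_decompose_mul_add_of_left_mem 𝒜 (i := p) (j := j - p) (b := a)
      (SetLike.coe_mem (DirectSum.decompose 𝒜 x p))
    rw [add_sub_cancel] at this
    rw [this, ← smul_eq_mul]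
    exact Submodule.smul_mem_smul (hx p) (haN _)
  set s0 : A := (DirectSum.decompose 𝒜 s 0 : A) with hs0def
  have hs0mem : s0 ∈ 𝒜 0 := SetLike.coe_mem _
  have hs0 : s0 ∉ m := by
    intro h0
    apply hs
    rw [← DirectSum.sum_support_decompose 𝒜 s]
    apply Ideal.sum_mem
    intro l _
    by_cases hl : l = 0
    · subst hl; exact h0
    · exact hfix l hl _ (SetLike.coe_mem _)
  have hjcomp : ∀ p, (DirectSum.decompose 𝒜 (s0 - s) p : A) ∈ m := by
    intro p
    by_cases hp : p = 0
    · subst hp
      rw [DirectSum.decompose_sub, DirectSum.sub_apply, AddSubgroupClass.coe_sub,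
        DirectSum.decompose_of_mem_same 𝒜 hs0mem, sub_self]
      exact m.zero_mem
    · exact hfix p hp _ (SetLike.coe_mem _)
  have hs0N : ∀ n ∈ N, s0 * n ∈ m • N := by
    intro n hn
    induction hn using Submodule.span_induction with
    | mem n hn =>
      obtain ⟨j, _, rfl⟩ := hn
      have h1 : s0 * (DirectSum.decompose 𝒜 a j : A) = (DirectSum.decompose 𝒜 ((s0 - s) * a) j : A) := by
        rw [sub_mul, hsb, sub_zero, DirectSum.coe_decompose_mul_of_left_mem_zero 𝒜 hs0mem]
      rw [h1]
      exact hmul _ hjcomp j
    | zero => simp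
    | add x y _ _ hx hy => rw [mul_add]; exact add_mem hx hy
    | smul c x _ hx =>
      have : s0 * c • x = c • (s0 * x) := by
        rw [smul_eq_mul, smul_eq_mul, mul_left_comm]
      rw [this]
      exact Submodule.smul_mem _ _ hx
  obtain ⟨y, e, he, hye⟩ := Ideal.IsMaximal.exists_inv (I := m) inferInstance hs0
  have hNle : N ≤ m • N := by
    intro n hn
    have : n = y • (s0 * n) + e • n := by
      rw [smul_eq_mul, smul_eq_mul, ← mul_assoc, ← add_mul, hye, one_mul]
    rw [this]
    exact add_mem (Submodule.smul_mem _ _ (hs0N n hn)) (Submodule.smul_mem_smul he hn)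
  obtain ⟨r, hr1, hrN⟩ := Submodule.exists_sub_one_mem_and_smul_eq_zero_of_fg_of_le_smul m N hNfg hNle
  have hr : r ∉ m := by
    intro hrm
    have : (1 : A) ∈ m := by
      have := m.sub_mem hrm hr1
      simpa using this
    exact (Ideal.IsMaximal.ne_top inferInstance) ((Ideal.eq_top_iff_one m).mpr this)
  refine ⟨⟨r, hr⟩, ?_⟩
  change r * (φ (DirectSum.decompose ℬ b i : B)) = 0
  rw [← hcomp i]
  exact hrN _ (haN i)

end Groth.Agent.S18791
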