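import Groth.Statements.S18792
import Mathlib
-- import your own Groth.Agent.* helpers here

set_option autoImplicit false
universe u
open DefMod

namespace Groth.Agent.S18792

open TensorProduct


/-- Let A be an associative unital algebra over ℚ, let a ∈ A be nilpotent and let b ∈ A. Then the
commutator map x ↦ a x − x a is a nilpotent ℚ-linear endomorphism of A, and exp(a) b exp(−a) =
exp(ad a)(b), where exp is the finite exponential series of a nilpotent element and ad a is the
commutator map. (The published statement takes A an algebra over an arbitrary commutative ring; the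
factorials in the exponential series require the rationals to act, so A is taken to be a ℚ-algebra
here. The intermediate double-sum expansion printed between the two sides is not restated.) -/
theorem result {A : Type u} [Ring A] [Algebra ℚ A] (a b : A)
    (ha : IsNilpotent a) :
    IsNilpotent (LinearMap.mulLeft ℚ a - LinearMap.mulRight ℚ a) ∧
      IsNilpotent.exp a * b * IsNilpotent.exp (-a) =
        IsNilpotent.exp (LinearMap.mulLeft ℚ a - LinearMap.mulRight ℚ a) b := by
  have hL : IsNilpotent (LinearMap.mulLeft ℚ a) := by
    obtain ⟨k, hk⟩ := ha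
    exact ⟨k, by rw [LinearMap.pow_mulLeft, hk]; ext; simp⟩
  have hR : IsNilpotent (LinearMap.mulRight ℚ a) := by
    obtain ⟨k, hk⟩ := ha
    exact ⟨k, by rw [LinearMap.pow_mulRight, hk]; ext; simp⟩
  have hc : Commute (LinearMap.mulLeft ℚ a) (LinearMap.mulRight ℚ a) :=
    LinearMap.commute_mulLeft_right a a
  refine ⟨hc.isNilpotent_sub hL hR, ?_⟩
  have hnR : IsNilpotent (-LinearMap.mulRight ℚ a) := hR.neg
  rw [sub_eq_add_neg, IsNilpotent.exp_add_of_commute hc.neg_right hL hnR]
  have h1 : IsNilpotent.exp (LinearMap.mulLeft ℚ a) = LinearMap.mulLeft ℚ (IsNilpotent.exp a) := by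
    have := IsNilpotent.map_exp ha (Algebra.lmul ℚ A)
    exact this.symm
  have h2 : IsNilpotent.exp (-LinearMap.mulRight ℚ a) b = b * IsNilpotent.exp (-a) := by
    obtain ⟨k, hk⟩ := ha
    have hk' : (-a) ^ k = 0 := by rw [neg_pow, hk, mul_zero]
    have hk'' : (-LinearMap.mulRight ℚ a) ^ k = 0 := by
      have : -LinearMap.mulRight ℚ a = LinearMap.mulRight ℚ (-a) := by ext; simp
      rw [this, LinearMap.pow_mulRight, hk']; ext; simp
    rw [IsNilpotent.exp_eq_sum hk', IsNilpotent.exp_eq_sum hk'']
    have : -LinearMap.mulRight ℚ a = LinearMap.mulRight ℚ (-a) := by ext; simp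
    simp only [this, LinearMap.pow_mulRight, LinearMap.sum_apply, LinearMap.smul_apply,
      LinearMap.mulRight_apply, Finset.mul_sum, mul_smul_comm]
  rw [Module.End.mul_apply, h2, h1, LinearMap.mulLeft_apply, mul_assoc]

end Groth.Agent.S18792
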