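import Groth.Statements.S18794
import Mathlib
-- import your own Groth.Agent.* helpers here

set_option autoImplicit false
universe u v w
open scoped TensorProduct
open DefMod

namespace Groth.Agent.S18794

open TensorProduct

section
variable {K : Type*} [Field K] {D : Type*} [Ring D] [Algebra K D]
  {E : Type*} [AddCommGroup E] [Module K E] [Module D E] [IsScalarTower K D E]
  {L M : Type*} [Field L] [Algebra K L] [Field M] [Algebra K M] (ι : L →ₐ[K] M)

/-- the transfer map `L ⊗ E → M ⊗ E`. -/
noncomputable def T : L ⊗[K] E →ₗ[K] M ⊗[K] E := LinearMap.rTensor E ι.toLinearMap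

omit [Module D E] in
theorem T_tmul (l : L) (e : E) : T (E := E) ι (l ⊗ₜ e) = ι l ⊗ₜ e := rfl

omit [Module D E] in
theorem T_smul (l : L) (v : L ⊗[K] E) : T (E := E) ι (l • v) = ι l • T ι v := by
  induction v using TensorProduct.induction_on with
  | zero => simp
  | tmul a e => simp [T_tmul, TensorProduct.smul_tmul']
  | add a b ha hb => rw [smul_add, map_add, ha, hb, map_add, smul_add]

theorem T_act (d : D) (v : L ⊗[K] E) :
    T ι ((DistribSMul.toLinearMap K E d).baseChange L v) =
      (DistribSMul.toLinearMap K E d).baseChange M (T ι v) := by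
  induction v using TensorProduct.induction_on with
  | zero => simp
  | tmul a e => simp [T_tmul]
  | add a b ha hb => rw [map_add, map_add, ha, hb, map_add, map_add]

omit [Module D E] in
theorem T_injective : Function.Injective (T (E := E) ι) :=
  Module.Flat.rTensor_preserves_injective_linearMap _ ι.injective

/-- pull back a submodule along `T`. -/
noncomputable def comapSub (N : Submodule M (M ⊗[K] E)) : Submodule L (L ⊗[K] E) where
  carrier := {v | T ι v ∈ N}
  add_mem' := by
    intro a b ha hb
    simp only [Set.mem_setOf_eq, map_add] at *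
    exact N.add_mem ha hb
  zero_mem' := by simp
  smul_mem' := by
    intro l v hv
    simp only [Set.mem_setOf_eq] at *
    rw [T_smul]
    exact N.smul_mem _ hv

omit [Module D E] in
theorem mem_comapSub (N : Submodule M (M ⊗[K] E)) (v : L ⊗[K] E) :
    v ∈ comapSub ι N ↔ T ι v ∈ N := Iff.rfl

end


section
variable (K : Type*) [Field K] (D : Type*) [Ring D] [Algebra K D]
  (E : Type*) [AddCommGroup E] [Module K E] [Module D E] [IsScalarTower K D E]

/-- irreducibility of the base change to `L`. -/
def Irr (L : Type*) [Field L] [Algebra K L] : Prop :=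
  Nontrivial (L ⊗[K] E) ∧ ∀ N : Submodule L (L ⊗[K] E),
    (∀ (d : D) (x : L ⊗[K] E), x ∈ N → (DistribSMul.toLinearMap K E d).baseChange L x ∈ N) →
      N = ⊥ ∨ N = ⊤

variable {K D E}
variable {L M : Type*} [Field L] [Algebra K L] [Field M] [Algebra K M]

theorem nontrivial_of_irr (h : Irr K D E M) : Nontrivial E := by
  obtain ⟨hnt, -⟩ := h
  by_contra hE
  rw [not_nontrivial_iff_subsingleton] at hE
  have : Subsingleton (M ⊗[K] E) := inferInstance
  exact not_subsingleton _ this

omit [Module D E] in
theorem nontrivial_tensor [Nontrivial E] : Nontrivial (L ⊗[K] E) := by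
  obtain ⟨e, he⟩ := exists_ne (0 : E)
  have hinj := Module.FaithfullyFlat.tensorProduct_mk_injective (A := K) (B := L) E
  exact ⟨⟨1 ⊗ₜ e, 0, fun h0 => he (hinj (by simpa using h0))⟩⟩

theorem irr_descend (ι : L →ₐ[K] M) (h : Irr K D E M) : Irr K D E L := by
  have hE : Nontrivial E := nontrivial_of_irr h
  obtain ⟨hnt, hM⟩ := h
  refine ⟨nontrivial_tensor, ?_⟩
  intro N hN
  let N' : Submodule M (M ⊗[K] E) := Submodule.span M (T ι '' (N : Set (L ⊗[K] E)))
  have hN' : ∀ (d : D) (x : M ⊗[K] E), x ∈ N' →
      (DistribSMul.toLinearMap K E d).baseChange M x ∈ N' := by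
    intro d x hx
    induction hx using Submodule.span_induction with
    | mem x hx =>
      obtain ⟨n, hn, rfl⟩ := hx
      rw [← T_act]
      exact Submodule.subset_span ⟨_, hN d n hn, rfl⟩
    | zero => simp
    | add x y _ _ hx hy => rw [map_add]; exact N'.add_mem hx hy
    | smul m x _ hx => rw [map_smul]; exact N'.smul_mem m hx
  rcases hM N' hN' with h0 | h1
  · left
    rw [eq_bot_iff]
    intro n hn
    have : T ι n ∈ N' := Submodule.subset_span ⟨n, hn, rfl⟩
    rw [h0, Submodule.mem_bot] at this
    exact (Submodule.mem_bot _).mpr (T_injective ι (by rw [this, map_zero]))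
  · right
    by_contra hne
    obtain ⟨φ, hφ0, hφ⟩ := N.exists_le_ker_of_lt_top (lt_top_iff_ne_top.mpr hne)
    let ψ : E →ₗ[K] M := ι.toLinearMap ∘ₗ (φ.restrictScalars K) ∘ₗ (TensorProduct.mk K L E 1)
    let Φ : M ⊗[K] E →ₗ[M] M := ψ.liftBaseChange M
    have hΦT : ∀ v, Φ (T ι v) = ι (φ v) := by
      intro v
      induction v using TensorProduct.induction_on with
      | zero => simp
      | tmul l e =>
        rw [T_tmul]
        show ι l • ι (φ (1 ⊗ₜ e)) = _
        rw [smul_eq_mul, ← map_mul, ← smul_eq_mul, ← map_smul, TensorProduct.smul_tmul',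
          smul_eq_mul, mul_one]
      | add a b ha hb => simp only [map_add, ha, hb]
    have hle : N' ≤ LinearMap.ker Φ := by
      rw [Submodule.span_le]
      rintro _ ⟨n, hn, rfl⟩
      show Φ (T ι n) = 0
      rw [hΦT, show φ n = 0 from hφ hn, map_zero]
    rw [h1, top_le_iff] at hle
    apply hφ0
    refine LinearMap.ext fun v => ?_
    have h3 : Φ (T ι v) = 0 := by rw [LinearMap.ker_eq_top.mp hle]; rfl
    rw [hΦT] at h3
    exact (map_eq_zero ι).mp h3

end


section
variable {K : Type u} [Field K] {D : Type v} [Ring D] [Algebra K D]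
  {E : Type w} [AddCommGroup E] [Module K E] [Module D E] [IsScalarTower K D E]

theorem irr_ascend [Nontrivial E]
    (h : ∀ L₀ : IntermediateField K (AlgebraicClosure K), FiniteDimensional K L₀ →
      Irr K D E L₀) : Irr K D E (AlgebraicClosure K) := by
  classical
  refine ⟨nontrivial_tensor, ?_⟩
  intro N hN
  by_cases hbot : N = ⊥
  · exact Or.inl hbot
  right
  obtain ⟨x, hxN, hx0⟩ := Submodule.exists_mem_ne_zero_of_ne_bot hbot
  let bE := Module.Free.chooseBasis K E
  let B := Algebra.TensorProduct.basis (AlgebraicClosure K) bE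
  let c := B.repr x
  let S : Finset (AlgebraicClosure K) := c.support.image c
  let L₀ : IntermediateField K (AlgebraicClosure K) :=
    IntermediateField.adjoin K (S : Set (AlgebraicClosure K))
  have hfin : FiniteDimensional K L₀ :=
    IntermediateField.finiteDimensional_adjoin (fun x _ => Algebra.IsIntegral.isIntegral x)
  have hmem : ∀ i ∈ c.support, c i ∈ L₀ := fun i hi =>
    IntermediateField.subset_adjoin K _ (Finset.mem_coe.mpr (Finset.mem_image_of_mem c hi))
  let x₀ : L₀ ⊗[K] E := ∑ i ∈ c.support.attach, (⟨c i, hmem i i.2⟩ : L₀) ⊗ₜ[K] bE i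
  have hTx₀ : T (E := E) L₀.val x₀ = x := by
    simp only [x₀, map_sum, T_tmul]
    have hval : ∀ i : c.support, L₀.val ⟨c i, hmem i i.2⟩ = c i := fun i => rfl
    simp only [hval]
    rw [Finset.sum_attach c.support (fun i => (c i) ⊗ₜ[K] bE i)]
    conv_rhs => rw [← B.linearCombination_repr x, Finsupp.linearCombination_apply, Finsupp.sum]
    refine Finset.sum_congr rfl fun i _ => ?_
    rw [Algebra.TensorProduct.basis_apply, TensorProduct.smul_tmul', smul_eq_mul, mul_one]
  obtain ⟨-, hL₀⟩ := h L₀ hfin
  have hstab : ∀ (d : D) (v : L₀ ⊗[K] E), v ∈ comapSub L₀.val N →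
      (DistribSMul.toLinearMap K E d).baseChange L₀ v ∈ comapSub L₀.val N := by
    intro d v hv
    rw [mem_comapSub, T_act] at *
    exact hN d _ hv
  have hx₀ : x₀ ∈ comapSub L₀.val N := by rw [mem_comapSub, hTx₀]; exact hxN
  rcases hL₀ _ hstab with h0 | h1
  · exfalso
    rw [h0, Submodule.mem_bot] at hx₀
    rw [hx₀, map_zero] at hTx₀
    exact hx0 hTx₀.symm
  · rw [eq_top_iff]
    intro y _
    clear * - h1 N
    induction y using TensorProduct.induction_on with
    | zero => exact N.zero_mem
    | tmul a e =>
      have : (1 : L₀) ⊗ₜ[K] e ∈ comapSub L₀.val N := by rw [h1]; trivial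
      rw [mem_comapSub, T_tmul, map_one] at this
      have h2 := N.smul_mem a this
      rwa [TensorProduct.smul_tmul', smul_eq_mul, mul_one] at h2
    | add a b ha hb => exact N.add_mem ha hb

end


/-- Let E be a left module over an associative algebra D over a field K of characteristic zero. For a
field extension L of K, the base change L ⊗_K E is a module over L ⊗_K D, i.e. an L-vector space
with a commuting action of D; call it irreducible when it is nonzero and its only L-subspaces stable
under every element of D are 0 and the whole space. Then E is absolutely irreducible (its base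
change to an algebraic closure of K is irreducible) if and only if L ⊗_K E is irreducible for every
finite extension L of K. (Finite extensions are taken in the universe of K.) -/
theorem result
    {K : Type u} [Field K] [CharZero K]
    {D : Type v} [Ring D] [Algebra K D]
    {E : Type w} [AddCommGroup E] [Module K E] [Module D E] [IsScalarTower K D E] :
    (Nontrivial (AlgebraicClosure K ⊗[K] E) ∧ ∀ N : Submodule (AlgebraicClosure K) (AlgebraicClosure K ⊗[K] E), (∀ (d : D) (x : AlgebraicClosure K ⊗[K] E), x ∈ N → (DistribSMul.toLinearMap K E d).baseChange (AlgebraicClosure K) x ∈ N) → N = ⊥ ∨ N = ⊤) ↔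
      ∀ (L : Type u) [Field L] [Algebra K L] [FiniteDimensional K L],
        (Nontrivial (L ⊗[K] E) ∧ ∀ N : Submodule (L) (L ⊗[K] E), (∀ (d : D) (x : L ⊗[K] E), x ∈ N → (DistribSMul.toLinearMap K E d).baseChange (L) x ∈ N) → N = ⊥ ∨ N = ⊤) := by
  show Irr K D E (AlgebraicClosure K) ↔
    ∀ (L : Type u) [Field L] [Algebra K L] [FiniteDimensional K L], Irr K D E L
  constructor
  · intro h L _ _ _
    exact irr_descend (IsAlgClosed.lift : L →ₐ[K] AlgebraicClosure K) h
  · intro h
    have : Nontrivial E := nontrivial_of_irr (h K)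
    exact irr_ascend (fun L₀ hL₀ => h L₀)

end Groth.Agent.S18794
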