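import Groth.Statements.S18795
import Mathlib
-- import your own Groth.Agent.* helpers here

set_option autoImplicit false
universe u v w
open scoped TensorProduct
open DefMod

namespace Groth.Agent.S18795

open TensorProduct

/-- over an algebraically closed field, an endomorphism killed (on some nonzero vector) by a
nonzero polynomial has an eigenvector. -/
theorem exists_eigen {k V : Type*} [Field k] [IsAlgClosed k] [AddCommGroup V] [Module k V]
    (f : Module.End k V) :
    ∀ (n : ℕ) (q : Polynomial k), q.natDegree = n → q ≠ 0 → ∀ v : V, v ≠ 0 →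
      Polynomial.aeval f q v = 0 → ∃ (r : k) (w : V), w ≠ 0 ∧ f w = r • w := by
  intro n
  induction n with
  | zero =>
    intro q hq hq0 v hv h
    exfalso
    rw [Polynomial.eq_C_of_natDegree_eq_zero hq] at h hq0
    rw [Polynomial.aeval_C] at h
    have hc : q.coeff 0 ≠ 0 := fun h0 => hq0 (by rw [h0, map_zero])
    rw [Module.algebraMap_end_apply] at h
    exact hv ((smul_eq_zero.mp h).resolve_left hc)
  | succ n ih =>
    intro q hq hq0 v hv h
    have hdeg : q.degree ≠ 0 := by
      intro h0
      have : q.natDegree = 0 := Polynomial.natDegree_eq_of_degree_eq_some h0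
      omega
    obtain ⟨r, hr⟩ := IsAlgClosed.exists_root q hdeg
    have hfac : (Polynomial.X - Polynomial.C r) * (q /ₘ (Polynomial.X - Polynomial.C r)) = q :=
      Polynomial.mul_divByMonic_eq_iff_isRoot.mpr hr
    set q' := q /ₘ (Polynomial.X - Polynomial.C r) with hq'
    have hq'0 : q' ≠ 0 := by
      intro h0; rw [h0, mul_zero] at hfac; exact hq0 hfac.symm
    have hq'deg : q'.natDegree = n := by
      have := congrArg Polynomial.natDegree hfac
      rw [Polynomial.natDegree_mul (Polynomial.X_sub_C_ne_zero r) hq'0,
        Polynomial.natDegree_X_sub_C, hq] at this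
      omega
    by_cases hw : Polynomial.aeval f q' v = 0
    · exact ih q' hq'deg hq'0 v hv hw
    · refine ⟨r, Polynomial.aeval f q' v, hw, ?_⟩
      rw [← hfac, map_mul, Module.End.mul_apply] at h
      simp only [map_sub, Polynomial.aeval_X, Polynomial.aeval_C, LinearMap.sub_apply,
        Module.algebraMap_end_apply] at h
      exact sub_eq_zero.mp h


/-- Let E be a left module over an associative algebra D over a field K of characteristic zero. Assume
that the D-linear endomorphisms of E form a finite-dimensional K-vector space, that E has a finite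
presentation over D, and that E is absolutely irreducible: its base change K̄ ⊗_K E to an algebraic
closure K̄ of K is nonzero and its only K̄-subspaces stable under every element of D are 0 and the
whole space. Then End_D(E) = K: every D-linear endomorphism of E is multiplication by a scalar from
K. -/
theorem result
    {K : Type u} [Field K] [CharZero K]
    {D : Type v} [Ring D] [Algebra K D]
    {E : Type w} [AddCommGroup E] [Module K E] [Module D E] [IsScalarTower K D E]
    [Module.Finite K (E →ₗ[D] E)] [Module.FinitePresentation D E]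
    (habs : (Nontrivial (AlgebraicClosure K ⊗[K] E) ∧ ∀ N : Submodule (AlgebraicClosure K) (AlgebraicClosure K ⊗[K] E), (∀ (d : D) (x : AlgebraicClosure K ⊗[K] E), x ∈ N → (DistribSMul.toLinearMap K E d).baseChange (AlgebraicClosure K) x ∈ N) → N = ⊥ ∨ N = ⊤))
    (φ : E →ₗ[D] E) : ∃ c : K, ∀ x : E, φ x = c • x := by
  classical
  obtain ⟨hnt, hirr⟩ := habs
  -- the base change algebra hom
  let Ψ : Module.End D E →ₐ[K] Module.End (AlgebraicClosure K) (AlgebraicClosure K ⊗[K] E) :=
    { toFun := fun f => (f.restrictScalars K).baseChange (AlgebraicClosure K)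
      map_one' := by
        apply TensorProduct.AlgebraTensorModule.ext; intro a e; simp
      map_mul' := by
        intro f g; apply TensorProduct.AlgebraTensorModule.ext; intro a e; simp
      map_zero' := by
        apply TensorProduct.AlgebraTensorModule.ext; intro a e; simp
      map_add' := by
        intro f g; apply TensorProduct.AlgebraTensorModule.ext; intro a e
        simp [TensorProduct.tmul_add]
      commutes' := by
        intro c; apply TensorProduct.AlgebraTensorModule.ext; intro a e
        simp [Module.algebraMap_end_apply, TensorProduct.smul_tmul'] }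
  have hΨ : ∀ (f : Module.End D E) (a : AlgebraicClosure K) (e : E),
      Ψ f (a ⊗ₜ e) = a ⊗ₜ f e := fun f a e => by simp [Ψ]
  have hint : IsIntegral K φ := Algebra.IsIntegral.isIntegral (R := K) (A := Module.End D E) φ
  obtain ⟨p, hpm, hp⟩ := hint
  have hp' : Polynomial.aeval (Ψ φ) p = 0 := by
    rw [Polynomial.aeval_algHom_apply, Polynomial.aeval_def, hp, map_zero]
  have hp'' : Polynomial.aeval (Ψ φ) (p.map (algebraMap K (AlgebraicClosure K))) = 0 := by
    rw [Polynomial.aeval_map_algebraMap, hp']
  obtain ⟨v, hv⟩ := exists_ne (0 : AlgebraicClosure K ⊗[K] E)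
  obtain ⟨r, w, hw, hrw⟩ := exists_eigen (Ψ φ) _ _ rfl
    ((hpm.map (algebraMap K (AlgebraicClosure K))).ne_zero) v hv (by rw [hp'']; rfl)
  -- the eigenspace is stable
  let N : Submodule (AlgebraicClosure K) (AlgebraicClosure K ⊗[K] E) :=
    LinearMap.ker (Ψ φ - r • LinearMap.id)
  have hcomm : ∀ (d : D) (x : AlgebraicClosure K ⊗[K] E),
      Ψ φ ((DistribSMul.toLinearMap K E d).baseChange (AlgebraicClosure K) x) =
        (DistribSMul.toLinearMap K E d).baseChange (AlgebraicClosure K) (Ψ φ x) := by
    intro d x
    induction x using TensorProduct.induction_on with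
    | zero => simp
    | tmul a e => simp [hΨ]
    | add a b ha hb => simp only [map_add, ha, hb]
  have hN : ∀ (d : D) (x : AlgebraicClosure K ⊗[K] E), x ∈ N →
      (DistribSMul.toLinearMap K E d).baseChange (AlgebraicClosure K) x ∈ N := by
    intro d x hx
    simp only [N, LinearMap.mem_ker, LinearMap.sub_apply, LinearMap.smul_apply,
      LinearMap.id_apply, sub_eq_zero] at hx ⊢
    rw [hcomm, hx, map_smul]
  have hNtop : N = ⊤ := by
    rcases hirr N hN with h0 | h1
    · exfalso
      have : w ∈ N := by
        simp only [N, LinearMap.mem_ker, LinearMap.sub_apply, LinearMap.smul_apply,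
          LinearMap.id_apply, sub_eq_zero]
        exact hrw
      rw [h0, Submodule.mem_bot] at this
      exact hw this
    · exact h1
  have hall : ∀ x, Ψ φ x = r • x := by
    intro x
    have : x ∈ N := by rw [hNtop]; trivial
    simpa only [N, LinearMap.mem_ker, LinearMap.sub_apply, LinearMap.smul_apply,
      LinearMap.id_apply, sub_eq_zero] using this
  -- E is nontrivial
  have hE : Nontrivial E := by
    by_contra hE
    rw [not_nontrivial_iff_subsingleton] at hE
    have : Subsingleton (AlgebraicClosure K ⊗[K] E) := inferInstance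
    exact not_subsingleton _ this
  let bE := Module.Free.chooseBasis K E
  have : Nonempty (Module.Free.ChooseBasisIndex K E) := bE.index_nonempty
  obtain ⟨i⟩ := this
  let ψ : AlgebraicClosure K ⊗[K] E →ₗ[AlgebraicClosure K] AlgebraicClosure K :=
    LinearMap.liftBaseChange (AlgebraicClosure K)
      ((Algebra.linearMap K (AlgebraicClosure K)) ∘ₗ (bE.coord i))
  have hψ : ∀ (a : AlgebraicClosure K) (e : E),
      ψ (a ⊗ₜ e) = a * algebraMap K _ (bE.coord i e) := fun a e => by
    simp [ψ]
  refine ⟨bE.coord i (φ (bE i)), ?_⟩
  have hr : r = algebraMap K (AlgebraicClosure K) (bE.coord i (φ (bE i))) := by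
    have h1 := congrArg ψ (hall (1 ⊗ₜ bE i))
    rw [hΨ, map_smul, hψ, hψ, one_mul, one_mul] at h1
    rw [h1]
    simp
  intro x
  have hinj := Module.FaithfullyFlat.tensorProduct_mk_injective (A := K)
    (B := AlgebraicClosure K) E
  apply hinj
  show (1 : AlgebraicClosure K) ⊗ₜ[K] φ x = 1 ⊗ₜ[K] (bE.coord i (φ (bE i)) • x)
  rw [← hΨ, hall, hr, TensorProduct.smul_tmul', smul_eq_mul, mul_one,
    Algebra.algebraMap_eq_smul_one, TensorProduct.smul_tmul]

end Groth.Agent.S18795
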