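import Groth.Statements.S18796
import Mathlib
-- import your own Groth.Agent.* helpers here

set_option autoImplicit false
universe u v w w' u'
open scoped TensorProduct
open DefMod

namespace Groth.Agent.S18796

open TensorProduct


/-- Let K be a field of characteristic zero, D an associative K-algebra, E a left D-module that is
finitely presented over D, F a left D-module and P a commutative K-algebra. The canonical P-linear
map Φ : P ⊗_K Hom_D(E, F) → Hom_P(P ⊗_K E, P ⊗_K F), determined by p ⊗ f ↦ p · (1_P ⊗ f), is
injective, and its image consists exactly of the P-linear maps that commute with the action of every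
element of D; in other words Φ identifies P ⊗_K Hom_D(E, F) with the module of homomorphisms P ⊗_K E
→ P ⊗_K F over P ⊗_K D. The map Φ is pinned here by its values on pure tensors. -/
theorem result
    {K : Type u} [Field K] [CharZero K]
    {D : Type v} [Ring D] [Algebra K D]
    {E : Type w} [AddCommGroup E] [Module K E] [Module D E] [IsScalarTower K D E]
    [Module.FinitePresentation D E]
    {F : Type w'} [AddCommGroup F] [Module K F] [Module D F] [IsScalarTower K D F]
    (P : Type u') [CommRing P] [Algebra K P]
    (Φ : P ⊗[K] (E →ₗ[D] F) →ₗ[P] (P ⊗[K] E →ₗ[P] P ⊗[K] F))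
    (hΦ : ∀ (p : P) (f : E →ₗ[D] F), Φ (p ⊗ₜ[K] f) = p • (f.restrictScalars K).baseChange P) :
    Function.Injective Φ ∧
      ∀ g : P ⊗[K] E →ₗ[P] P ⊗[K] F,
        g ∈ LinearMap.range Φ ↔
          ∀ d : D, g ∘ₗ (DistribSMul.toLinearMap K E d).baseChange P =
            (DistribSMul.toLinearMap K F d).baseChange P ∘ₗ g := by
  classical
  let bP := Module.Free.chooseBasis K P
  let eF := TensorProduct.equivFinsuppOfBasisLeft (N := F) bP
  let eH := TensorProduct.equivFinsuppOfBasisLeft (N := E →ₗ[D] F) bP
  have key1 : ∀ (t : P ⊗[K] (E →ₗ[D] F)) (e : E) (j), eF (Φ t (1 ⊗ₜ e)) j = (eH t j) e := by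
    intro t e j
    induction t using TensorProduct.induction_on with
    | zero => simp
    | tmul p f =>
      rw [hΦ, LinearMap.smul_apply, LinearMap.baseChange_tmul, TensorProduct.smul_tmul',
        smul_eq_mul, mul_one]
      rw [TensorProduct.equivFinsuppOfBasisLeft_apply_tmul_apply,
        TensorProduct.equivFinsuppOfBasisLeft_apply_tmul_apply]
      rfl
    | add a b ha hb =>
      simp only [map_add, LinearMap.add_apply, Finsupp.add_apply, ha, hb]
  constructor
  · rw [injective_iff_map_eq_zero]
    intro t ht
    apply eH.injective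
    rw [map_zero]
    ext j e
    rw [← key1, ht]
    simp
  · intro g
    constructor
    · rintro ⟨t, rfl⟩ d
      induction t using TensorProduct.induction_on with
      | zero => simp
      | tmul p f =>
        rw [hΦ]
        apply TensorProduct.AlgebraTensorModule.ext
        intro q e
        simp
      | add a b ha hb => rw [map_add, LinearMap.add_comp, LinearMap.comp_add, ha, hb]
    · intro hg
      have hact : ∀ (d : D) (z : P ⊗[K] F) (j),
          eF ((DistribSMul.toLinearMap K F d).baseChange P z) j = d • eF z j := by
        intro d z j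
        induction z using TensorProduct.induction_on with
        | zero => simp
        | tmul p x =>
          rw [LinearMap.baseChange_tmul, TensorProduct.equivFinsuppOfBasisLeft_apply_tmul_apply,
            TensorProduct.equivFinsuppOfBasisLeft_apply_tmul_apply]
          exact (smul_comm _ _ _)
        | add a b ha hb => simp only [map_add, Finsupp.add_apply, ha, hb, smul_add]
      let gj : Module.Free.ChooseBasisIndex K P → (E →ₗ[D] F) := fun j =>
        { toFun := fun e => eF (g (1 ⊗ₜ e)) j
          map_add' := by intro a b; simp [TensorProduct.tmul_add]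
          map_smul' := by
            intro d e
            have : (1 : P) ⊗ₜ[K] (d • e) =
                (DistribSMul.toLinearMap K E d).baseChange P (1 ⊗ₜ e) := by simp
            rw [this, ← LinearMap.comp_apply, hg d, LinearMap.comp_apply, hact]; rfl }
      obtain ⟨s, hs⟩ := (Module.Finite.fg_top : (⊤ : Submodule D E).FG)
      let J₀ : Finset (Module.Free.ChooseBasisIndex K P) :=
        s.biUnion fun e => (eF (g (1 ⊗ₜ e))).support
      have hgj0 : ∀ j, j ∉ J₀ → gj j = 0 := by
        intro j hj
        refine LinearMap.ext_on hs ?_
        intro e he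
        show eF (g (1 ⊗ₜ e)) j = 0
        by_contra hne
        exact hj (Finset.mem_biUnion.mpr ⟨e, he, Finsupp.mem_support_iff.mpr hne⟩)
      refine ⟨∑ j ∈ J₀, bP j ⊗ₜ gj j, ?_⟩
      apply TensorProduct.AlgebraTensorModule.ext
      intro p e
      have hpe : p ⊗ₜ[K] e = p • ((1 : P) ⊗ₜ[K] e) := by
        rw [TensorProduct.smul_tmul', smul_eq_mul, mul_one]
      rw [hpe, map_smul, map_smul]
      congr 1
      rw [map_sum, LinearMap.sum_apply]
      simp_rw [hΦ, LinearMap.smul_apply, LinearMap.baseChange_tmul, TensorProduct.smul_tmul',
        smul_eq_mul, mul_one]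
      have h5 : g (1 ⊗ₜ e) = ∑ j ∈ (eF (g (1 ⊗ₜ e))).support, bP j ⊗ₜ[K] (eF (g (1 ⊗ₜ e)) j) := by
        conv_lhs => rw [← eF.symm_apply_apply (g (1 ⊗ₜ e))]
        rw [TensorProduct.equivFinsuppOfBasisLeft_symm_apply, Finsupp.sum]
      rw [h5]
      symm
      apply Finset.sum_subset
      · intro j hj
        by_contra hjJ
        have := hgj0 j hjJ
        exact (Finsupp.mem_support_iff.mp hj) (congrArg (fun f => f e) this)
      · intro j _ hj
        show bP j ⊗ₜ[K] (eF (g (1 ⊗ₜ e)) j) = 0
        rw [Finsupp.notMem_support_iff.mp hj, TensorProduct.tmul_zero]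

end Groth.Agent.S18796
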