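import Groth.Statements.S18802
import Mathlib

set_option autoImplicit false
universe u v w w' w''
open DefMod

namespace Groth.Agent.S18802

/-- Let K be a field of characteristic zero, D an associative K-algebra and E, F left D-modules. A
K-linear map s : D → Hom_K(E, F) with s(ab)(e) = a s(b)(e) + s(a)(b e) (a derivation into the
bimodule Hom_K(E, F), i.e. a Hochschild 1-cocycle) defines the twisted sum F ⊕_s E = F × E with a ·
(f, e) = (a f + s(a) e, a e), an extension of E by F. Every extension of left D-modules 0 → F → Q →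
E → 0 arises this way: there are such an s and a D-linear isomorphism Q ≅ F ⊕_s E carrying the given
map F → Q to the inclusion f ↦ (f, 0) and compatible with the two projections onto E. (Together with
the splitting criterion this identifies derivations modulo principal derivations with Ext¹_D(E, F);
the compatibility of that identification with addition and scalars is not restated.) -/
theorem result
    {K : Type u} [Field K] [CharZero K]
    {D : Type v} [Ring D] [Algebra K D]
    {E : Type w} [AddCommGroup E] [Module K E] [Module D E] [IsScalarTower K D E]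
    {F : Type w'} [AddCommGroup F] [Module K F] [Module D F] [IsScalarTower K D F]
    {Q : Type w''} [AddCommGroup Q] [Module D Q]
    (i : F →ₗ[D] Q) (p : Q →ₗ[D] E) (hi : Function.Injective i) (hp : Function.Surjective p)
    (hex : Function.Exact i p) :
    ∃ (s : D →ₗ[K] E →ₗ[K] F) (hs : W4c6defoisocp1.IsHomDerivation s) (Φ : Q ≃ₗ[D] W4c6defoisocp1.TwistExt s hs),
      (∀ f : F, Φ (i f) = W4c6defoisocp1.TwistExt.inl f) ∧ ∀ q : Q, W4c6defoisocp1.TwistExt.snd (Φ q) = p q := by
  letI : Module K Q := Module.compHom Q (algebraMap K D)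
  haveI : IsScalarTower K D Q := IsScalarTower.of_compHom K D Q
  have hcommE : ∀ (a : D) (c : K) (e : E), a • (c • e) = c • (a • e) := by
    intro a c e
    rw [← algebraMap_smul D c e, ← mul_smul, ← Algebra.commutes, mul_smul, algebraMap_smul]
  have hcommQ : ∀ (a : D) (c : K) (q : Q), a • (c • q) = c • (a • q) := by
    intro a c q
    rw [← algebraMap_smul D c q, ← mul_smul, ← Algebra.commutes, mul_smul, algebraMap_smul]
  let iK : F →ₗ[K] Q := i.restrictScalars K
  let pK : Q →ₗ[K] E := p.restrictScalars K
  obtain ⟨τ, hτ⟩ := pK.exists_rightInverse_of_surjective (LinearMap.range_eq_top.mpr hp)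
  obtain ⟨ρ, hρ⟩ := iK.exists_leftInverse_of_injective (LinearMap.ker_eq_bot.mpr hi)
  have hτ' : ∀ e, p (τ e) = e := fun e => LinearMap.congr_fun hτ e
  have hρ' : ∀ f, ρ (i f) = f := fun f => LinearMap.congr_fun hρ f
  have hpi : ∀ f, p (i f) = 0 := fun f => hex.apply_apply_eq_zero f
  have hiρ : ∀ q, p q = 0 → i (ρ q) = q := by
    intro q hq
    obtain ⟨f, rfl⟩ := (hex q).mp hq
    rw [hρ']
  have hker : ∀ (a : D) (e : E), p (a • τ e - τ (a • e)) = 0 := by
    intro a e
    rw [map_sub, map_smul, hτ', hτ', sub_self]
  let s : D →ₗ[K] E →ₗ[K] F := LinearMap.mk₂ K (fun a e => ρ (a • τ e - τ (a • e)))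
    (fun a a' e => by
      rw [← map_add]; congr 1; rw [add_smul, add_smul, map_add]; abel)
    (fun c a e => by
      simp only [smul_assoc, map_smul]
      rw [← smul_sub, map_smul])
    (fun a e e' => by
      rw [← map_add]; congr 1; rw [map_add, smul_add, smul_add, map_add]; abel)
    (fun c a e => by
      rw [hcommE, map_smul, map_smul, hcommQ, ← smul_sub, map_smul])
  have hsi : ∀ a e, i (s a e) = a • τ e - τ (a • e) := fun a e => hiρ _ (hker a e)
  have hs : W4c6defoisocp1.IsHomDerivation s := by
    intro a b e
    apply hi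
    rw [map_add, map_smul, hsi, hsi, hsi, mul_smul, mul_smul, smul_sub]
    abel
  have hk2 : ∀ q, p (q - τ (p q)) = 0 := by
    intro q; rw [map_sub, hτ', sub_self]
  let Φf : Q →ₗ[D] W4c6defoisocp1.TwistExt s hs :=
    { toFun := fun q => W4c6defoisocp1.TwistExt.mk (ρ (q - τ (p q)), p q)
      map_add' := fun q q' => by
        apply W4c6defoisocp1.TwistExt.ext
        · simp only [W4c6defoisocp1.TwistExt.val_mk, W4c6defoisocp1.TwistExt.val_add, Prod.fst_add]
          rw [← map_add]; congr 1; rw [map_add, map_add]; abel
        · simp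
      map_smul' := fun a q => by
        apply W4c6defoisocp1.TwistExt.ext
        · simp only [W4c6defoisocp1.TwistExt.val_mk, W4c6defoisocp1.TwistExt.val_smul, RingHom.id_apply]
          apply hi
          have h1 := hiρ _ (hk2 (a • q))
          rw [h1, LinearMap.map_smul p a q, map_add, LinearMap.map_smul i, hsi, hiρ _ (hk2 q), smul_sub]
          abel
        · simp }
  let Φg : W4c6defoisocp1.TwistExt s hs →ₗ[D] Q :=
    { toFun := fun x => i (W4c6defoisocp1.TwistExt.val x).1 + τ (W4c6defoisocp1.TwistExt.val x).2
      map_add' := fun x y => by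
        simp only [W4c6defoisocp1.TwistExt.val_add, Prod.fst_add, Prod.snd_add, map_add]; abel
      map_smul' := fun a x => by
        simp only [W4c6defoisocp1.TwistExt.val_smul, RingHom.id_apply, map_add, map_smul, hsi, smul_add]
        abel }
  refine ⟨s, hs, LinearEquiv.ofLinearMap Φf Φg ?_ ?_, ?_, ?_⟩
  · ext x
    apply W4c6defoisocp1.TwistExt.ext
    · change ρ ((i (W4c6defoisocp1.TwistExt.val x).1 + τ (W4c6defoisocp1.TwistExt.val x).2) -
        τ (p (i (W4c6defoisocp1.TwistExt.val x).1 + τ (W4c6defoisocp1.TwistExt.val x).2))) = _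
      rw [map_add, hpi, hτ', zero_add, add_sub_cancel_right, hρ']
      rfl
    · change p (i (W4c6defoisocp1.TwistExt.val x).1 + τ (W4c6defoisocp1.TwistExt.val x).2) = _
      rw [map_add, hpi, hτ', zero_add]
      rfl
  · ext q
    change i (ρ (q - τ (p q))) + τ (p q) = q
    rw [hiρ _ (hk2 q)]; abel
  · intro f
    apply W4c6defoisocp1.TwistExt.ext
    · change ρ (i f - τ (p (i f))) = f
      rw [hpi, map_zero, sub_zero, hρ']
    · change p (i f) = 0
      exact hpi f
  · intro q
    rfl

end Groth.Agent.S18802
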