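import Groth.Statements.S18803
import Mathlib

set_option autoImplicit false
universe u v w w'
open DefMod

namespace Groth.Agent.S18803

/-- Let K be a field of characteristic zero, D an associative K-algebra, E and F left D-modules, and s :
D → Hom_K(E, F) a K-linear map with s(ab)(e) = a s(b)(e) + s(a)(b e). The twisted sum F ⊕_s E (that
is F × E with a · (f, e) = (a f + s(a) e, a e)) is a trivial extension of E by F — there is a
D-linear isomorphism F ⊕_s E ≅ F × E with the direct-sum module structure, carrying the inclusion f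
↦ (f, 0) to itself and compatible with the second projections — if and only if s is principal:
s(a)(e) = a σ(e) − σ(a e) for some K-linear σ : E → F (a Hochschild 1-coboundary). -/
theorem result
    {K : Type u} [Field K] [CharZero K]
    {D : Type v} [Ring D] [Algebra K D]
    {E : Type w} [AddCommGroup E] [Module K E] [Module D E] [IsScalarTower K D E]
    {F : Type w'} [AddCommGroup F] [Module K F] [Module D F] [IsScalarTower K D F]
    (s : D →ₗ[K] E →ₗ[K] F) (hs : W4c6defoisocp1.IsHomDerivation s) :
    (∃ Ψ : W4c6defoisocp1.TwistExt s hs ≃ₗ[D] F × E,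
        (∀ f : F, Ψ (W4c6defoisocp1.TwistExt.inl f) = (f, 0)) ∧ ∀ x : W4c6defoisocp1.TwistExt s hs, (Ψ x).2 = W4c6defoisocp1.TwistExt.snd x) ↔
      W4c6defoisocp1.IsPrincipal s := by
  constructor
  · rintro ⟨Ψ, hΨ1, hΨ2⟩
    have hs1 : s 1 = 0 := W4c6defoisocp1.TwistExt.map_one_eq_zero hs
    have hadd : ∀ (f : F) (e : E), (W4c6defoisocp1.TwistExt.mk (f, e) : W4c6defoisocp1.TwistExt s hs) =
        W4c6defoisocp1.TwistExt.inl f + W4c6defoisocp1.TwistExt.mk (0, e) := by
      intro f e
      apply W4c6defoisocp1.TwistExt.ext <;> simp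
    have halg : ∀ (c : K) (e : E), (algebraMap K D c) • (W4c6defoisocp1.TwistExt.mk (0, e) : W4c6defoisocp1.TwistExt s hs) =
        W4c6defoisocp1.TwistExt.mk (0, c • e) := by
      intro c e
      apply W4c6defoisocp1.TwistExt.ext
      · simp only [W4c6defoisocp1.TwistExt.val_smul, W4c6defoisocp1.TwistExt.val_mk, smul_zero, zero_add]
        rw [Algebra.algebraMap_eq_smul_one, map_smul, hs1]
        simp
      · simp only [W4c6defoisocp1.TwistExt.val_smul, W4c6defoisocp1.TwistExt.val_mk]
        rw [algebraMap_smul]
    let σ : E →ₗ[K] F :=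
      { toFun := fun e => (Ψ (W4c6defoisocp1.TwistExt.mk (0, e))).1
        map_add' := fun e e' => by
          have : (W4c6defoisocp1.TwistExt.mk (0, e + e') : W4c6defoisocp1.TwistExt s hs) =
              W4c6defoisocp1.TwistExt.mk (0, e) + W4c6defoisocp1.TwistExt.mk (0, e') := by
            apply W4c6defoisocp1.TwistExt.ext <;> simp
          rw [this, map_add]; rfl
        map_smul' := fun c e => by
          rw [← halg, map_smul, RingHom.id_apply]
          change (algebraMap K D c) • (Ψ (W4c6defoisocp1.TwistExt.mk (0, e))).1 = _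
          rw [algebraMap_smul] }
    refine ⟨σ, fun a e => ?_⟩
    have h1 : a • (W4c6defoisocp1.TwistExt.mk (0, e) : W4c6defoisocp1.TwistExt s hs) =
        W4c6defoisocp1.TwistExt.mk (s a e, a • e) := by
      apply W4c6defoisocp1.TwistExt.ext <;> simp
    have h2 := congrArg (fun x => Ψ x) h1
    simp only [map_smul] at h2
    rw [hadd (s a e) (a • e), map_add, hΨ1] at h2
    have h3 := congrArg Prod.fst h2
    change a • σ e = s a e + σ (a • e) at h3
    rw [h3]; abel
  · rintro ⟨σ, hσ⟩
    let Ψf : W4c6defoisocp1.TwistExt s hs →ₗ[D] F × E :=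
      { toFun := fun x => ((W4c6defoisocp1.TwistExt.val x).1 + σ (W4c6defoisocp1.TwistExt.val x).2,
          (W4c6defoisocp1.TwistExt.val x).2)
        map_add' := fun x y => by
          ext <;> simp [map_add]; abel
        map_smul' := fun a x => by
          ext
          · simp only [W4c6defoisocp1.TwistExt.val_smul, RingHom.id_apply, Prod.smul_fst, hσ, smul_add]
            abel
          · simp }
    let Ψg : F × E →ₗ[D] W4c6defoisocp1.TwistExt s hs :=
      { toFun := fun x => W4c6defoisocp1.TwistExt.mk (x.1 - σ x.2, x.2)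
        map_add' := fun x y => by
          apply W4c6defoisocp1.TwistExt.ext <;> simp [map_add]; abel
        map_smul' := fun a x => by
          apply W4c6defoisocp1.TwistExt.ext
          · simp only [W4c6defoisocp1.TwistExt.val_smul, W4c6defoisocp1.TwistExt.val_mk, RingHom.id_apply,
              Prod.smul_fst, Prod.smul_snd, hσ, smul_sub]
            abel
          · simp }
    refine ⟨LinearEquiv.ofLinearMap Ψf Ψg ?_ ?_, ?_, ?_⟩
    · ext x <;> simp [Ψf, Ψg]
    · ext x
      apply W4c6defoisocp1.TwistExt.ext <;> simp [Ψf, Ψg]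
    · intro f
      simp [Ψf]
    · intro x
      simp [Ψf]

end Groth.Agent.S18803
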