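import Groth.Statements.S18804
import Groth.Agent.Lib.Helper21.IdealCart
-- import your own Groth.Agent.* helpers here

set_option autoImplicit false
universe u
open CategoryTheory CategoryTheory.Limits AlgebraicGeometry
open Curves

namespace Groth.Agent.S18804

/-- Let k be an algebraically closed field of characteristic zero, X a smooth proper integral curve over
k (integral, proper and smooth over k, of dimension one) of genus g, and L an invertible O_X-module
of degree deg L = χ(L) − χ(O_X) at least 2g + 3. Then L is 3-very ample: every closed subscheme Z of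
X of length 4 imposes independent conditions on H^0(X, L), stated as dim_k H^0(X, L ⊗ I) + 4 = dim_k
H^0(X, L) for every quasi-coherent ideal I of O_X with dim_k H^0(X, O_X/I) = 4. -/
theorem result
    (k : Type u) [Field k] [IsAlgClosed k] [CharZero k]
    (X : Scheme.{u}) [X.Over (Spec (CommRingCat.of k))] [IsIntegral X]
    [IsProper (X ↘ Spec (CommRingCat.of k))] [Smooth (X ↘ Spec (CommRingCat.of k))]
    (hdim : topologicalKrullDim X = 1)
    (L : X.Modules) (hL : PicF.IsInvertible L)
    (hdeg : 2 * (Curv2.genus k X : ℤ) + 3 ≤ Curv2.deg k X L 1)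
    (I : X.IdealSheafData) (hI : Module.finrank k (Coh.HH X (ClSub.quotMod I) 0) = 4) :
    Module.finrank k (Coh.HH X (CohB1.tensorMod L (ClSub.idealMod I)) 0) + 4 =
      Module.finrank k (Coh.HH X L 0) := by
  have : IsLocallyNoetherian X :=
    LocallyOfFiniteType.isLocallyNoetherian (X ↘ Spec (CommRingCat.of k))
  have hpid : ∀ x : X, IsPrincipalIdealRing (X.presheaf.stalk x) := by
    intro x
    have hx : x ∈ (X ↘ Spec (CommRingCat.of k)).smoothLocus := by
      rw [Scheme.Hom.smoothLocus_eq_top_iff.mpr inferInstance]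
      trivial
    have := Groth.Agent.Lib.Helper21.RegPt.isRegularLocalRing_stalk_of_mem_smoothLocus
      (X ↘ Spec (CommRingCat.of k)) x hx
    exact Groth.Agent.Lib.Helper29.QCoh.isPrincipalIdealRing_of_isRegularLocalRing_of_dim_le_one _
      ((Groth.Agent.Lib.Helper29.QCoh.ringKrullDim_stalk_le_topologicalKrullDim X x).trans hdim.le)
  have hI0 : I ≠ ⊥ := by
    rintro rfl
    rw [Groth.Agent.Lib.Helper21.IdealCart.finrank_quotMod_bot k X] at hI
    omega
  have hcart := Groth.Agent.Lib.Helper21.IdealCart.isEffCartierIdeal_of_forall_pid I hI0 hpid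
  have hJ := Groth.Agent.Lib.Helper21.TwistDown.isInvertible_idealMod I hcart
  have dJ := Groth.Agent.Lib.Helper21.IdealCart.deg_idealMod k X hdim.le I hcart hI0
  rw [hI] at dJ
  have hN := Groth.Agent.Lib.Helper29.QCoh.isInvertible_tensorMod hL hJ
  have dN := Groth.Agent.Lib.Helper21.CDeg.deg_tensorMod k X hdim.le hL hJ
  rw [dJ] at dN
  have v1 := Groth.Agent.Lib.Helper21.TwistDown.h1_vanish k X hdim L hL (by omega)
  have v2 := Groth.Agent.Lib.Helper21.TwistDown.h1_vanish k X hdim _ hN
    (by rw [dN]; push_cast; omega)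
  have z1 : Module.finrank k (Coh.HH X L 1) = 0 := by
    have := v1; exact Module.finrank_zero_of_subsingleton
  have z2 : Module.finrank k (Coh.HH X (CohB1.tensorMod L (ClSub.idealMod I)) 1) = 0 := by
    have := v2; exact Module.finrank_zero_of_subsingleton
  unfold Curv2.deg at dN
  rw [Groth.Agent.Lib.Helper21.CDeg.euler_eq_sub k X hdim.le (CohB1.tensorMod L (ClSub.idealMod I)),
    Groth.Agent.Lib.Helper21.CDeg.euler_eq_sub k X hdim.le L, z1, z2] at dN
  push_cast at dN
  omega

end Groth.Agent.S18804
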