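import Groth.Statements.S18811
import Mathlib
-- import your own Groth.Agent.* helpers here

set_option autoImplicit false
universe u
open CategoryTheory CategoryTheory.Limits AlgebraicGeometry
open Variety

namespace Groth.Agent.S18811

open TensorProduct
open AlgebraicGeometry CategoryTheory Limits

theorem appLE_top {X Y : Scheme.{u}} (f : X ⟶ Y) (e : (⊤ : X.Opens) ≤ f ⁻¹ᵁ ⊤) :
    f.appLE ⊤ ⊤ e = f.appTop := by
  rw [Scheme.Hom.appTop, Scheme.Hom.app_eq_appLE]
  rfl

theorem qs_of_affine_diag {X S : Scheme.{u}} (a : X ⟶ S) [IsAffine S]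
    [IsAffineHom (pullback.diagonal a)] : QuasiSeparatedSpace X := by
  have : QuasiSeparated a := ⟨inferInstance⟩
  exact quasiSeparatedSpace_of_quasiSeparated a


/-- Let k be a field and X, Y quasi-compact k-schemes whose diagonal morphisms over k are affine
(semi-separated; for instance X and Y separated over k). Then the canonical map Γ(X, O_X) ⊗_k Γ(Y,
O_Y) → Γ(X ×_k Y, O) is an isomorphism: the commutative square of rings of global sections formed by
Spec k, X, Y and X ×_k Y with the pullback maps along the structure morphisms and the two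
projections is a pushout square of commutative rings. -/
theorem result (k : Type u) [Field k]
    (X : Scheme.{u}) [X.Over (Spec (CommRingCat.of k))] [CompactSpace ↥X]
    [IsAffineHom (pullback.diagonal (X ↘ (Spec (CommRingCat.of k))))]
    (Y : Scheme.{u}) [Y.Over (Spec (CommRingCat.of k))] [CompactSpace ↥Y]
    [IsAffineHom (pullback.diagonal (Y ↘ (Spec (CommRingCat.of k))))] :
    IsPushout (X ↘ (Spec (CommRingCat.of k))).appTop (Y ↘ (Spec (CommRingCat.of k))).appTop
      (pullback.fst (X ↘ (Spec (CommRingCat.of k))) (Y ↘ (Spec (CommRingCat.of k)))).appTop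
      (pullback.snd (X ↘ (Spec (CommRingCat.of k))) (Y ↘ (Spec (CommRingCat.of k)))).appTop := by
  set a := X ↘ (Spec (CommRingCat.of k)) with ha
  set b := Y ↘ (Spec (CommRingCat.of k)) with hb
  have hqX : QuasiSeparatedSpace X := qs_of_affine_diag a
  have hqY : QuasiSeparatedSpace Y := qs_of_affine_diag b
  have H : IsPullback (pullback.fst a b) (pullback.snd a b) a b := IsPullback.of_hasPullback a b
  have hss : Subsingleton ↥(Spec (CommRingCat.of k)) :=
    inferInstanceAs (Subsingleton (PrimeSpectrum k))
  have hfield : IsField Γ(Spec (CommRingCat.of k), ⊤) :=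
    (Scheme.ΓSpecIso (CommRingCat.of k)).commRingCatIsoToRingEquiv.toMulEquiv.isField
      (Field.toIsField k)
  have hUST : (⊤ : Y.Opens) ≤ b ⁻¹ᵁ ⊤ := le_rfl
  have hUSX : (⊤ : X.Opens) ≤ a ⁻¹ᵁ ⊤ := le_rfl
  have hUY : (⊤ : (pullback a b).Opens) = pullback.fst a b ⁻¹ᵁ ⊤ ⊓ pullback.snd a b ⁻¹ᵁ ⊤ := by
    simp
  have hiso := isIso_pushoutSection_of_isCompact_of_flat_right_of_ringHomFlat H hUST hUSX hUY
    (isAffineOpen_top _) isCompact_univ isQuasiSeparated_univ isCompact_univ
    isQuasiSeparated_univ (RingHom.Flat.of_isField hfield _)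
  have := (isIso_pushoutSection_iff H hUST hUSX hUY).mp hiso
  simpa only [appLE_top] using this

end Groth.Agent.S18811
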