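import Groth.Statements.S18823
-- import your own Groth.Agent.* helpers here
import Groth.Agent.Lib.Helper10.WeilClosed3

set_option autoImplicit false
universe u
open CategoryTheory MonoidalCategory CartesianMonoidalCategory AlgebraicGeometry
open AlgGrp

namespace Groth.Agent.S18823

set_option backward.isDefEq.respectTransparency.types false in
set_option maxHeartbeats 1000000 in
theorem core {S₀ : Scheme.{u}} (M G X T : Over S₀) [IsSeparated X.hom] (f g : M ⊗ T ⟶ X)
    (i : G ⟶ M) [IsSchemeTheoreticallyDominant i.left]
    (hrep : ∃ (T₀ : Scheme.{u}) (t : T₀ ⟶ M.left), IsClosedImmersion t ∧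
      (Groth.Agent.Lib.Helper10.WeilClosed.weilSubF (CartesianMonoidalCategory.fst M T).left
        (CategoryTheory.Limits.equalizer.ι f g).left).RepBy t)
    (h : (i ▷ T) ≫ f = (i ▷ T) ≫ g) : f = g := by
  obtain ⟨T₀, t, ht, hrep⟩ := hrep
  -- step 1: `i.left` satisfies the predicate
  have hP : (Groth.Agent.Lib.Helper10.WeilClosed.weilSubF (CartesianMonoidalCategory.fst M T).left
        (CategoryTheory.Limits.equalizer.ι f g).left).P i.left := by
    intro W a b hab
    let W' : Over S₀ := Over.mk (a ≫ (M ⊗ T).hom)
    let a' : W' ⟶ M ⊗ T := Over.homMk a rfl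
    have hb : b ≫ G.hom = W'.hom := by
      change b ≫ G.hom = a ≫ (M ⊗ T).hom
      rw [← Over.w i, ← Category.assoc, ← hab, Category.assoc, Over.w]
    let b' : W' ⟶ G := Over.homMk b hb
    have e1 : a' ≫ CartesianMonoidalCategory.fst M T = b' ≫ i := Over.OverMorphism.ext hab
    have e2 : a' = CartesianMonoidalCategory.lift b' (a' ≫ CartesianMonoidalCategory.snd M T) ≫
        (i ▷ T) := by
      apply CartesianMonoidalCategory.hom_ext
      · simp [e1]
      · simp
    have e3 : a' ≫ f = a' ≫ g := by
      rw [e2, Category.assoc, Category.assoc, h]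
    exact ⟨(CategoryTheory.Limits.equalizer.lift a' e3).left,
      congrArg (fun m => m.left) (CategoryTheory.Limits.equalizer.lift_ι a' e3)⟩
  obtain ⟨w', hw'⟩ := (hrep i.left).1 hP
  -- step 2: `t` is an isomorphism
  have hker : t.ker = ⊥ := by
    have h1 : t.ker ≤ (w' ≫ t).ker := Scheme.Hom.le_ker_comp w' t
    rw [hw', Scheme.Hom.ker_eq_bot i.left] at h1
    exact le_bot_iff.mp h1
  haveI : IsIso t := IsClosedImmersion.isIso_iff_ker_eq_bot.mpr hker
  -- step 3: the identity satisfies the predicate
  have hP1 : (Groth.Agent.Lib.Helper10.WeilClosed.weilSubF (CartesianMonoidalCategory.fst M T).left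
        (CategoryTheory.Limits.equalizer.ι f g).left).P (𝟙 M.left) :=
    (hrep (𝟙 M.left)).2 ⟨inv t, IsIso.inv_hom_id t⟩
  obtain ⟨w, hw⟩ := hP1 (𝟙 _) (CartesianMonoidalCategory.fst M T).left (by simp)
  apply Over.OverMorphism.ext
  have hc := congrArg (fun m => m.left) (CategoryTheory.Limits.equalizer.condition f g)
  simp only [Over.comp_left] at hc
  calc f.left = (w ≫ (CategoryTheory.Limits.equalizer.ι f g).left) ≫ f.left := by
        rw [hw, Category.id_comp]
    _ = (w ≫ (CategoryTheory.Limits.equalizer.ι f g).left) ≫ g.left := by
        rw [Category.assoc, hc, Category.assoc]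
    _ = g.left := by rw [hw, Category.id_comp]

/-- Let k be a field, X a separated k-scheme, M a k-scheme (in the source a monoid k-scheme) acting on X
through a : M ×_k X → X, and i : G → M a morphism of k-schemes which is a scheme-theoretically
dominant open immersion: no nonzero quasi-coherent ideal of O_M restricts to zero on G (for
quasi-compact i this is the usual schematic density, O_M → i_*O_G injective; in the source G is the
group of units of M, open and schematically dense). For a k-scheme T and a T-valued point x of X, x
is fixed under M, i.e. a ∘ (id_M × x) = x ∘ pr_T on M ×_k T, if and only if x is fixed under G, i.e.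
a ∘ (i × x) = x ∘ pr_T on G ×_k T. Thus the fixed-point subpresheaves X^M and X^G of X are equal.
(The published statement has no separatedness assumption on X and reduces to points landing in an
affine open; the step asserting that the equalizer of the two maps M ×_k T → X is closed uses that
the target is separated, so X is taken separated here, the case the printed argument establishes.
The monoid structure and the action axioms play no role in that argument and are not assumed.) -/
theorem result (k : Type u) [Field k]
    (M G X : Over (Spec (CommRingCat.of k))) [IsSeparated X.hom] (a : M ⊗ X ⟶ X) (i : G ⟶ M)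
    [IsOpenImmersion i.left] [IsSchemeTheoreticallyDominant i.left]
    (T : Over (Spec (CommRingCat.of k))) (x : T ⟶ X) :
    (M ◁ x) ≫ a = CartesianMonoidalCategory.snd M T ≫ x ↔
      (G ◁ x) ≫ (i ▷ X) ≫ a = CartesianMonoidalCategory.snd G T ≫ x := by
  constructor
  · intro h
    have e : (G ◁ x) ≫ (i ▷ X) = (i ▷ T) ≫ (M ◁ x) := by
      apply CartesianMonoidalCategory.hom_ext <;> simp
    rw [← Category.assoc, e, Category.assoc, h]
    simp
  · intro h
    refine core M G X T ((M ◁ x) ≫ a) (CartesianMonoidalCategory.snd M T ≫ x) i ?_ ?_
    · exact Groth.Agent.Lib.Helper10.WeilClosed.exists_repBy_of_field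
        (CategoryTheory.IsPullback.of_hasPullback M.hom T.hom).flip
        (CategoryTheory.Limits.equalizer.ι ((M ◁ x) ≫ a) (CartesianMonoidalCategory.snd M T ≫ x)).left
    · have e : (G ◁ x) ≫ (i ▷ X) = (i ▷ T) ≫ (M ◁ x) := by
        apply CartesianMonoidalCategory.hom_ext <;> simp
      rw [← Category.assoc, ← e, Category.assoc, h]
      simp

end Groth.Agent.S18823
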