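import Groth.Statements.S18825
import Mathlib
import Groth.Agent.Lib.Helper10.HomSp1
import Groth.Agent.Lib.Helper10.IdComp8
import Groth.Agent.S5355

set_option autoImplicit false
universe u
open CategoryTheory MonoidalCategory CartesianMonoidalCategory MonObj AlgebraicGeometry
open AlgGrp

namespace Groth.Agent.S18825

section Aux

open Groth.Agent.Lib.Helper10.HomSp CategoryTheory.Limits GrpObj

variable {k : Type u} [Field k]

theorem flat_over_field (X : Over (Spec (CommRingCat.of k))) : Flat X.hom := by
  haveI : Subsingleton ↥(Spec (CommRingCat.of k)) :=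
    inferInstanceAs (Subsingleton (PrimeSpectrum k))
  infer_instance

theorem flat_fst (X Y : Over (Spec (CommRingCat.of k))) : Flat (fst X Y).left := by
  haveI := flat_over_field Y
  rw [Over.fst_left]
  infer_instance

theorem flat_snd (X Y : Over (Spec (CommRingCat.of k))) : Flat (snd X Y).left := by
  haveI := flat_over_field X
  rw [Over.snd_left]
  infer_instance

theorem dominant_whiskerRight {A B : Over (Spec (CommRingCat.of k))} (g : A ⟶ B)
    (C : Over (Spec (CommRingCat.of k)))
    [IsSchemeTheoreticallyDominant g.left] [QuasiCompact g.left] :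
    IsSchemeTheoreticallyDominant (g ▷ C).left ∧ QuasiCompact (g ▷ C).left := by
  have sq : IsPullback (g ▷ C).left (fst A C).left (fst B C).left g.left :=
    (isPullback_whiskerRight_fst g C).map (Over.forget _)
  haveI := flat_fst B C
  exact ⟨IsSchemeTheoreticallyDominant.of_isPullback sq.flip,
    MorphismProperty.of_isPullback sq.flip ‹QuasiCompact g.left›⟩

theorem dominant_whiskerLeft (C : Over (Spec (CommRingCat.of k)))
    {A B : Over (Spec (CommRingCat.of k))} (g : A ⟶ B)
    [IsSchemeTheoreticallyDominant g.left] [QuasiCompact g.left] :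
    IsSchemeTheoreticallyDominant (C ◁ g).left ∧ QuasiCompact (C ◁ g).left := by
  have sq : IsPullback (C ◁ g).left (snd C A).left (snd C B).left g.left :=
    (isPullback_whiskerLeft_snd C g).map (Over.forget _)
  haveI := flat_snd C B
  exact ⟨IsSchemeTheoreticallyDominant.of_isPullback sq.flip,
    MorphismProperty.of_isPullback sq.flip ‹QuasiCompact g.left›⟩

end Aux

/-- Let k be a field and f : H → G a homomorphism of locally algebraic groups over k (group k-schemes
locally of finite type) which is of finite type (equivalently quasi-compact). Let H → K → G be the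
factorization of f through its scheme-theoretic image: i : K → G a closed immersion and g : H → K
with g followed by i equal to f and O_K → g_*O_H injective. Then (1) K is a closed subgroup scheme
of G: the unit section of G factors through i and, for every k-scheme T and T-valued points k₁, k₂
of K, the T-valued point (i k₁)⁻¹ · (i k₂) of G factors through i; and (2) g : H → K is surjective.
(The source also records that g is a homomorphism for the group structure induced on K; this row
does not state it.) -/
theorem result (k : Type u) [Field k]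
    (H G K : Over (Spec (CommRingCat.of k))) [GrpObj H] [GrpObj G]
    [LocallyOfFiniteType H.hom] [LocallyOfFiniteType G.hom]
    (f : H ⟶ G) [IsMonHom f] [QuasiCompact f.left]
    (i : K ⟶ G) [IsClosedImmersion i.left] (g : H ⟶ K) (hgi : g ≫ i = f)
    [IsSchemeTheoreticallyDominant g.left] :
    ((∃ e : 𝟙_ (Over (Spec (CommRingCat.of k))) ⟶ K, e ≫ i = η[G]) ∧
      ∀ (T : Over (Spec (CommRingCat.of k))) (k₁ k₂ : T ⟶ K),
        ∃ k₃ : T ⟶ K, k₃ ≫ i = (k₁ ≫ i)⁻¹ * (k₂ ≫ i)) ∧
    Surjective g.left := by
  classical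
  haveI : QuasiCompact g.left := by
    haveI : QuasiCompact (g.left ≫ i.left) := by
      rw [← Over.comp_left, hgi]; infer_instance
    exact QuasiCompact.of_comp g.left i.left
  haveI : Mono i := by
    haveI : Mono i.left := inferInstance
    exact (Over.forget _).mono_of_mono_map ‹_›
  obtain ⟨hd1, hq1⟩ := dominant_whiskerRight g H
  obtain ⟨hd2, hq2⟩ := dominant_whiskerLeft K g
  haveI : IsSchemeTheoreticallyDominant (g ⊗ₘ g).left := by
    rw [MonoidalCategory.tensorHom_def, Over.comp_left]; infer_instance
  let φ : K ⊗ K ⟶ G := (fst K K ≫ i)⁻¹ * (snd K K ≫ i)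
  have hφ : (g ⊗ₘ g) ≫ φ = (((fst H H)⁻¹ * snd H H) ≫ g) ≫ i := by
    rw [Category.assoc, hgi, MonObj.mul_comp, GrpObj.inv_comp]
    simp only [φ, MonObj.comp_mul, GrpObj.comp_inv]
    rw [← Category.assoc, ← Category.assoc, tensorHom_fst, tensorHom_snd, Category.assoc,
      Category.assoc, hgi]
  have hker : i.left.ker ≤ φ.left.ker := by
    have h1 : ((g ⊗ₘ g) ≫ φ).left.ker = φ.left.ker := by
      rw [Over.comp_left, Scheme.Hom.ker_comp, (g ⊗ₘ g).left.ker_eq_bot,
        Scheme.IdealSheafData.map_bot]
    rw [← h1, hφ, Over.comp_left]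
    exact Scheme.Hom.le_ker_comp _ _
  let ψl : (K ⊗ K).left ⟶ K.left := IsClosedImmersion.lift i.left φ.left hker
  have hψl : ψl ≫ i.left = φ.left := IsClosedImmersion.lift_fac _ _ _
  let ψ : K ⊗ K ⟶ K := Over.homMk ψl (by
    have := Over.w φ
    rw [← hψl, Category.assoc, Over.w i] at this
    exact this)
  have hψ : ψ ≫ i = φ := by
    ext1
    exact hψl
  let e : 𝟙_ (Over (Spec (CommRingCat.of k))) ⟶ K := η[H] ≫ g
  have he : e ≫ i = η[G] := by
    rw [Category.assoc, hgi]
    exact IsMonHom.one_hom f
  have hsub : ∀ (T : Over (Spec (CommRingCat.of k))) (k₁ k₂ : T ⟶ K),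
      (lift k₁ k₂ ≫ ψ) ≫ i = (k₁ ≫ i)⁻¹ * (k₂ ≫ i) := by
    intro T k₁ k₂
    rw [Category.assoc, hψ]
    simp only [φ, MonObj.comp_mul, GrpObj.comp_inv]
    rw [← Category.assoc, ← Category.assoc, lift_fst, lift_snd]
  refine ⟨⟨⟨e, he⟩, fun T k₁ k₂ => ⟨lift k₁ k₂ ≫ ψ, hsub T k₁ k₂⟩⟩, ?_⟩
  -- the induced group structure on `K`
  let v : K ⟶ K := lift (𝟙 K) (toUnit K ≫ e) ≫ ψ
  have hv : v ≫ i = i ≫ ι[G] := by
    rw [hsub, Category.id_comp, Category.assoc, he, ← Hom.inv_def]
    have : toUnit K ≫ η[G] = 1 := by
      rw [Hom.one_def]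
    rw [this, _root_.mul_one]
  let m : K ⊗ K ⟶ K := lift (fst K K ≫ v) (snd K K) ≫ ψ
  have hm : m ≫ i = (fst K K ≫ i) * (snd K K ≫ i) := by
    rw [hsub, Category.assoc, hv, ← Category.assoc, ← Hom.inv_def, _root_.inv_inv]
  letI : GrpObj K := Groth.Agent.Lib.Helper10.IdComp.grpObjOfMono i m hm e he v hv
  haveI : IsMonHom i := Groth.Agent.Lib.Helper10.IdComp.isMonHom_ofMono i m hm e he v hv
  haveI : IsMonHom g := by
    refine ⟨rfl, ?_⟩
    rw [← cancel_mono i, Category.assoc, hgi, Category.assoc, IsMonHom.mul_hom (f := f),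
      IsMonHom.mul_hom (f := i), ← Category.assoc, tensorHom_comp_tensorHom, hgi]
  have hdense : DenseRange g.left.base := g.left.denseRange
  exact (Groth.Agent.S5355.result k H K g hdense).1

end Groth.Agent.S18825
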