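import Groth.Statements.S18826
import Mathlib
import Groth.Prelude.Def_AlgGrp
import Groth.Agent.Lib.Helper10.ActOpen2

set_option autoImplicit false
universe u
open CategoryTheory MonoidalCategory CartesianMonoidalCategory MonObj AlgebraicGeometry
open AlgGrp

namespace Groth.Agent.S18826

/-- Let k be a field, G a locally algebraic group over k (a group k-scheme locally of finite type)
acting on k-schemes X and Y, and f : X → Y a G-equivariant k-morphism. Let P be a property of
morphisms of schemes which is local on the target for the Zariski topology, stable under base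
change, and descends along flat surjective universally open morphisms (the published hypothesis is
descent along fpqc morphisms; the printed argument descends only along the restriction G ×_k U → G·U
of the action, which is flat, surjective and universally open). Then there is a largest open subset
V of Y such that the restriction f⁻¹(V) → V of f has P, and this V is G-stable: the action G ×_k Y →
Y maps G ×_k V into V. -/
theorem result (k : Type u) [Field k]
    (G X Y : Over (Spec (CommRingCat.of k))) [GrpObj G] [LocallyOfFiniteType G.hom]
    (aX : AlgGrp.Action G X) (aY : AlgGrp.Action G Y) (f : X ⟶ Y) (hf : (G ◁ f) ≫ aY.act = aX.act ≫ f)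
    (P : MorphismProperty Scheme.{u}) [IsZariskiLocalAtTarget P] [P.IsStableUnderBaseChange]
    [P.DescendsAlong (@Flat ⊓ @Surjective ⊓ @UniversallyOpen)] :
    ∃ V : Y.left.Opens, P (f.left ∣_ V) ∧ (∀ V' : Y.left.Opens, P (f.left ∣_ V') → V' ≤ V) ∧
      (CartesianMonoidalCategory.snd G Y).left ⁻¹ᵁ V ≤ aY.act.left ⁻¹ᵁ V := by
  refine ⟨Groth.Agent.Lib.Helper10.ActOpen.largest f.left P,
    Groth.Agent.Lib.Helper10.ActOpen.P_largest f.left P,
    fun V' h => Groth.Agent.Lib.Helper10.ActOpen.le_largest f.left P V' h, ?_⟩
  exact Groth.Agent.Lib.Helper10.ActOpen.stable_of_P aX aY f hf P _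
    (Groth.Agent.Lib.Helper10.ActOpen.P_largest f.left P)
    (fun V' h => Groth.Agent.Lib.Helper10.ActOpen.le_largest f.left P V' h)

end Groth.Agent.S18826
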