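import Groth.Statements.S18829
import Groth.Agent.Lib.Helper7.HopfBaseChange
import Groth.Agent.Lib.Helper7.ComodCocomm

set_option autoImplicit false
universe u
open scoped TensorProduct
open HopfRep

namespace Groth.Agent.S18829

/-- Let k be a field and A a finitely generated commutative Hopf algebra over k, the coordinate ring of
an affine algebraic group T. Suppose T is a torus: for some algebraically closed field extension K
of k the base change K ⊗_k A is isomorphic as a K-bialgebra to the group algebra over K of a free
abelian group ℤ^n (T_K is a split torus of rank n). Then T is linearly reductive in the sense that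
every finite-dimensional A-comodule is semisimple. (The source's definition of a torus asks for such
an isomorphism over every algebraically closed extension; one suffices for the printed argument. The
source's notion of a linearly reductive algebraic group also includes smoothness of T over k, which
this row does not assert.) -/
theorem result (k K A : Type u) [Field k] [Field K]
    [Algebra k K] [IsAlgClosed K] [CommRing A] [HopfAlgebra k A] [Algebra.FiniteType k A] (n : ℕ)
    (e : (K ⊗[k] A) ≃ₐc[K] MonoidAlgebra K (Multiplicative (Fin n → ℤ))) :
    HopfRep.IsLinearlyReductive k A := by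
  classical
  rw [Groth.Agent.Lib.Helper7.Comod.isLinearlyReductive_baseChange_iff (k := k) (K := K) (A := A)]
  have hdiag : Submodule.span K {a : K ⊗[k] A | IsGroupLikeElem K a} = ⊤ := by
    rw [eq_top_iff]
    intro x _
    have hx : e x ∈ Submodule.span K (Set.range fun m : Multiplicative (Fin n → ℤ) =>
        (MonoidAlgebra.single m (1 : K) : MonoidAlgebra K (Multiplicative (Fin n → ℤ)))) := by
      induction e x using MonoidAlgebra.induction_linear with
      | zero => exact Submodule.zero_mem _
      | add f g hf hg => exact Submodule.add_mem _ hf hg
      | single m c =>
        have : (MonoidAlgebra.single m c : MonoidAlgebra K (Multiplicative (Fin n → ℤ))) =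
            c • MonoidAlgebra.single m (1 : K) := by
          rw [MonoidAlgebra.smul_single, smul_eq_mul, mul_one]
        rw [this]
        exact Submodule.smul_mem _ _ (Submodule.subset_span ⟨m, rfl⟩)
    have hx' : e.symm (e x) ∈ Submodule.span K {a : K ⊗[k] A | IsGroupLikeElem K a} := by
      have hmap : Submodule.map (e.symm : MonoidAlgebra K (Multiplicative (Fin n → ℤ)) →ₐc[K] K ⊗[k] A).toLinearMap
          (Submodule.span K (Set.range fun m : Multiplicative (Fin n → ℤ) =>
            (MonoidAlgebra.single m (1 : K) : MonoidAlgebra K (Multiplicative (Fin n → ℤ))))) ≤
          Submodule.span K {a : K ⊗[k] A | IsGroupLikeElem K a} := by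
        rw [Submodule.map_span]
        apply Submodule.span_mono
        rintro _ ⟨_, ⟨m, rfl⟩, rfl⟩
        exact (MonoidAlgebra.isGroupLikeElem_of (R := K) m).map
          (e.symm : MonoidAlgebra K (Multiplicative (Fin n → ℤ)) →ₐc[K] K ⊗[k] A)
      exact hmap ⟨e x, hx, rfl⟩
    simpa using hx'
  intro V _ _ _ _
  exact Groth.Agent.Lib.Helper7.Comod.isSemisimpleComod_of_span_eigenvectors
    (Groth.Agent.Lib.Helper7.Comod.span_eigenvectors_eq_top_of_span_groupLike hdiag)

end Groth.Agent.S18829
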