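import Groth.Statements.S18830
import Mathlib
import Groth.Agent.Lib.Helper10.MonUnits1

set_option autoImplicit false
universe u
open CategoryTheory MonoidalCategory CartesianMonoidalCategory MonObj AlgebraicGeometry
open AlgGrp

namespace Groth.Agent.S18830

/-- Let k be a field and M an algebraic monoid over k (a monoid k-scheme of finite type). Let i : G → M
be its group of units: a monomorphism of k-schemes through which a T-valued point of M factors if
and only if it is invertible in the monoid M(T). Then G is of finite type over k, i.e. the unit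
group is an algebraic group. -/
theorem result (k : Type u) [Field k]
    (M G : Over (Spec (CommRingCat.of k))) [MonObj M] [LocallyOfFiniteType M.hom] [QuasiCompact M.hom]
    (i : G ⟶ M) [Mono i]
    (hi : ∀ (T : Over (Spec (CommRingCat.of k))) (m : T ⟶ M), (∃ g : T ⟶ G, g ≫ i = m) ↔ IsUnit m) :
    LocallyOfFiniteType G.hom ∧ QuasiCompact G.hom := by
  obtain ⟨e, he⟩ := Groth.Agent.Lib.Helper10.MonUnits.exists_iso M i hi
  have sq : IsPullback (Limits.pullback.fst (Groth.Agent.Lib.Helper10.MonUnits.uu M)
        (Groth.Agent.Lib.Helper10.MonUnits.ee M)).left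
      (Limits.pullback.snd (Groth.Agent.Lib.Helper10.MonUnits.uu M)
        (Groth.Agent.Lib.Helper10.MonUnits.ee M)).left
      (Groth.Agent.Lib.Helper10.MonUnits.uu M).left (Groth.Agent.Lib.Helper10.MonUnits.ee M).left :=
    (IsPullback.of_hasPullback (Groth.Agent.Lib.Helper10.MonUnits.uu M)
      (Groth.Agent.Lib.Helper10.MonUnits.ee M)).map (Over.forget _)
  haveI hMM : LocallyOfFiniteType (M ⊗ M).hom := by
    rw [Over.tensorObj_hom]; infer_instance
  haveI hMMq : QuasiCompact (M ⊗ M).hom := by
    rw [Over.tensorObj_hom]; infer_instance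
  haveI : IsLocallyNoetherian (M ⊗ M).left := LocallyOfFiniteType.isLocallyNoetherian (M ⊗ M).hom
  have hw : (Groth.Agent.Lib.Helper10.MonUnits.ee M).left ≫ (M ⊗ M).hom = 𝟙 _ :=
    Over.w (Groth.Agent.Lib.Helper10.MonUnits.ee M)
  haveI h1 : LocallyOfFiniteType (Groth.Agent.Lib.Helper10.MonUnits.ee M).left := by
    haveI : LocallyOfFiniteType ((Groth.Agent.Lib.Helper10.MonUnits.ee M).left ≫ (M ⊗ M).hom) := by
      rw [hw]; infer_instance
    exact locallyOfFiniteType_of_comp _ (M ⊗ M).hom
  haveI h2 : QuasiCompact (Groth.Agent.Lib.Helper10.MonUnits.ee M).left := by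
    haveI : QuasiCompact ((Groth.Agent.Lib.Helper10.MonUnits.ee M).left ≫ (M ⊗ M).hom) := by
      rw [hw]; infer_instance
    exact QuasiCompact.of_comp _ (M ⊗ M).hom
  haveI h3 : LocallyOfFiniteType (Limits.pullback.fst (Groth.Agent.Lib.Helper10.MonUnits.uu M)
      (Groth.Agent.Lib.Helper10.MonUnits.ee M)).left :=
    MorphismProperty.of_isPullback (P := @LocallyOfFiniteType) sq.flip h1
  haveI h4 : QuasiCompact (Limits.pullback.fst (Groth.Agent.Lib.Helper10.MonUnits.uu M)
      (Groth.Agent.Lib.Helper10.MonUnits.ee M)).left :=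
    MorphismProperty.of_isPullback (P := @QuasiCompact) sq.flip h2
  have hU : (Groth.Agent.Lib.Helper10.MonUnits.U M).hom =
      (Limits.pullback.fst (Groth.Agent.Lib.Helper10.MonUnits.uu M)
        (Groth.Agent.Lib.Helper10.MonUnits.ee M)).left ≫ (M ⊗ M).hom :=
    (Over.w _).symm
  have hG : G.hom = e.hom.left ≫ (Groth.Agent.Lib.Helper10.MonUnits.U M).hom := (Over.w e.hom).symm
  haveI : IsIso e.hom.left := inferInstanceAs (IsIso ((Over.forget _).map e.hom))
  rw [hG, hU]
  constructor <;> infer_instance

end Groth.Agent.S18830
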