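import Groth.Statements.S18832
import Mathlib
import Groth.Agent.Lib.Helper23.SymGrRegular
import Groth.Agent.Lib.Helper23.CohenEq2

set_option autoImplicit false
universe u
open Polynomial
open DefT

namespace Groth.Agent.S18832

section jets

variable (k : Type u) [Field k]

/-- the jet ring `k[X]/(X^l)` -/
abbrev Jet (l : ℕ) : Type u := k[X] ⧸ Ideal.span {(X : k[X]) ^ l}

/-- constant coefficient of a jet (`l ≥ 1`). -/
noncomputable def c0 (l : ℕ) (hl : 1 ≤ l) : Jet k l →ₐ[k] k :=
  Ideal.Quotient.liftₐ _ (Polynomial.aeval (0 : k)) (by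
    intro p hp
    rw [Ideal.mem_span_singleton] at hp
    obtain ⟨q, rfl⟩ := hp
    have : l ≠ 0 := by omega
    simp [this])

variable {k}

lemma c0_mk (l : ℕ) (hl : 1 ≤ l) (p : k[X]) :
    c0 k l hl (Ideal.Quotient.mk _ p) = p.eval 0 := by
  unfold c0
  rw [Ideal.Quotient.liftₐ_apply]
  erw [Ideal.Quotient.lift_mk]
  simp [Polynomial.aeval_def, Polynomial.eval₂_eq_eval_map]

/-- the reduction map. -/
noncomputable abbrev red (l : ℕ) : Jet k (l + 1) →ₐ[k] Jet k l :=
  Ideal.Quotient.factorₐ k
    (Ideal.span_singleton_le_span_singleton.mpr (pow_dvd_pow (X : k[X]) (Nat.le_succ l)))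

lemma c0_red (l : ℕ) (hl : 1 ≤ l) (y : Jet k (l + 1)) :
    c0 k l hl (red l y) = c0 k (l + 1) (by omega) y := by
  obtain ⟨p, rfl⟩ := Ideal.Quotient.mk_surjective y
  rw [c0_mk]
  change c0 k l hl (Ideal.Quotient.mk _ p) = _
  rw [c0_mk]

lemma exists_eq_X_mul (l : ℕ) (hl : 1 ≤ l) (y : Jet k l) (hy : c0 k l hl y = 0) :
    ∃ z : Jet k l, y = Ideal.Quotient.mk _ X * z := by
  obtain ⟨p, rfl⟩ := Ideal.Quotient.mk_surjective y
  rw [c0_mk] at hy
  have : X ∣ p := by
    rw [Polynomial.X_dvd_iff, Polynomial.coeff_zero_eq_eval_zero]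
    exact hy
  obtain ⟨q, rfl⟩ := this
  exact ⟨Ideal.Quotient.mk _ q, by rw [map_mul]⟩

lemma mem_N (l : ℕ) (hl : 1 ≤ l) (y : Jet k l) (hy : c0 k l hl y = 0) :
    y ∈ Ideal.span {(Ideal.Quotient.mk (Ideal.span {(X : k[X]) ^ l}) X)} := by
  obtain ⟨z, rfl⟩ := exists_eq_X_mul l hl y hy
  exact Ideal.mul_mem_right _ _ (Ideal.subset_span rfl)

lemma N_pow (l : ℕ) :
    Ideal.span {(Ideal.Quotient.mk (Ideal.span {(X : k[X]) ^ l}) X)} ^ l = ⊥ := by
  rw [Ideal.span_singleton_pow, ← map_pow, Ideal.span_singleton_eq_bot,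
    Ideal.Quotient.eq_zero_iff_mem]
  exact Ideal.subset_span rfl

lemma isNilpotent_of_c0 (l : ℕ) (hl : 1 ≤ l) (y : Jet k l) (hy : c0 k l hl y = 0) :
    IsNilpotent y := by
  refine ⟨l, ?_⟩
  have := Ideal.pow_mem_pow (mem_N l hl y hy) l
  rw [N_pow] at this
  exact this

lemma c0_of_isNilpotent (l : ℕ) (hl : 1 ≤ l) (y : Jet k l) (hy : IsNilpotent y) :
    c0 k l hl y = 0 :=
  (hy.map (c0 k l hl)).eq_zero

lemma isUnit_of_c0 (l : ℕ) (hl : 1 ≤ l) (y : Jet k l) (hy : c0 k l hl y ≠ 0) :
    IsUnit y := by
  have h1 : IsNilpotent (y - algebraMap k _ (c0 k l hl y)) := by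
    apply isNilpotent_of_c0 l hl
    rw [map_sub, AlgHom.commutes]
    simp
  have h2 : IsUnit (algebraMap k (Jet k l) (c0 k l hl y)) := (IsUnit.mk0 _ hy).map _
  have := h1.isUnit_add_left_of_commute h2 (Commute.all _ _)
  simpa using this

lemma ker_red_sq (l : ℕ) (hl : 1 ≤ l) : (RingHom.ker (red (k := k) l)) ^ 2 = ⊥ := by
  rw [pow_two, eq_bot_iff, Ideal.mul_le]
  intro y hy z hz
  obtain ⟨p, rfl⟩ := Ideal.Quotient.mk_surjective y
  obtain ⟨q, rfl⟩ := Ideal.Quotient.mk_surjective z
  rw [RingHom.mem_ker] at hy hz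
  change Ideal.Quotient.mk _ p = 0 at hy
  change Ideal.Quotient.mk _ q = 0 at hz
  rw [Ideal.Quotient.eq_zero_iff_mem, Ideal.mem_span_singleton] at hy hz
  rw [Ideal.mem_bot, ← map_mul, Ideal.Quotient.eq_zero_iff_mem, Ideal.mem_span_singleton]
  have : (X : k[X]) ^ (l + 1) ∣ X ^ l * X ^ l := by
    rw [← pow_add]
    exact pow_dvd_pow _ (by omega)
  exact this.trans (mul_dvd_mul hy hz)

end jets

section loc

open IsLocalRing

variable {k : Type u} [Field k] {R : Type u} [CommRing R] [IsLocalRing R] [Algebra k R]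
  (res : R →ₐ[k] k)

lemma res_surj : Function.Surjective res := fun a => ⟨algebraMap k R a, res.commutes a⟩

lemma ker_res : RingHom.ker (res : R →+* k) = maximalIdeal R := by
  haveI : (RingHom.ker (res : R →+* k)).IsMaximal :=
    RingHom.ker_isMaximal_of_surjective (res : R →+* k) (res_surj res)
  exact IsLocalRing.eq_maximalIdeal inferInstance

lemma res_eq_zero {r : R} (hr : r ∈ maximalIdeal R) : res r = 0 := by
  rw [← ker_res res] at hr
  exact hr

lemma mem_of_res_eq_zero {r : R} (hr : res r = 0) : r ∈ maximalIdeal R := by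
  rw [← ker_res res]
  exact hr

lemma sub_mem (r : R) : r - algebraMap k R (res r) ∈ maximalIdeal R := by
  apply mem_of_res_eq_zero res
  rw [map_sub, AlgHom.commutes]
  simp

lemma algHom_eq_res (χ : R →ₐ[k] k) : χ = res := by
  ext r
  have h1 := res_eq_zero χ (sub_mem res r)
  rw [map_sub, AlgHom.commutes, sub_eq_zero] at h1
  simpa using h1

instance isLocalHom_res : IsLocalHom (res : R →+* k) := by
  constructor
  intro a ha
  by_contra h
  have : a ∈ maximalIdeal R := h
  exact ha.ne_zero (res_eq_zero res this)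

/-- the induced map on the residue field -/
noncomputable def resκ : ResidueField R →+* k := IsLocalRing.ResidueField.lift (res : R →+* k)

lemma resκ_residue (r : R) : resκ res (residue R r) = res r :=
  IsLocalRing.ResidueField.lift_residue_apply _ r

lemma resκ_algebraMap (a : k) : resκ res (algebraMap k (ResidueField R) a) = a := by
  rw [IsScalarTower.algebraMap_apply k R (ResidueField R)]
  change resκ res (residue R _) = a
  rw [resκ_residue, AlgHom.commutes]
  rfl

/-- `r ↦ class of r - res r` in the cotangent space. -/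
noncomputable def δ (r : R) : CotangentSpace R :=
  (maximalIdeal R).toCotangent ⟨r - algebraMap k R (res r), sub_mem res r⟩

lemma δ_add (r s : R) : δ res (r + s) = δ res r + δ res s := by
  unfold δ
  rw [← map_add]
  congr 1
  apply Subtype.ext
  simp only [map_add, Submodule.coe_add]
  ring

lemma δ_algebraMap (a : k) : δ res (algebraMap k R a) = 0 := by
  unfold δ
  rw [Ideal.toCotangent_eq_zero]
  simp

lemma δ_mul (r s : R) : δ res (r * s) = r • δ res s + (algebraMap k R (res s)) • δ res r := by
  unfold δ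
  rw [← map_smul, ← map_smul, ← map_add]
  congr 1
  apply Subtype.ext
  simp only [map_mul, Submodule.coe_add, Submodule.coe_smul, smul_eq_mul]
  ring

lemma δ_of_mem (r : R) (hr : r ∈ maximalIdeal R) :
    δ res r = (maximalIdeal R).toCotangent ⟨r, hr⟩ := by
  unfold δ
  congr 1
  apply Subtype.ext
  simp [res_eq_zero res hr]

variable {d : ℕ} (b : Module.Basis (Fin d) (ResidueField R) (CotangentSpace R)) (c : Fin d → k)

/-- the derivation `R → k` attached to a tangent vector. -/
noncomputable def Dv (r : R) : k :=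
  resκ res (b.constr ℕ (fun j => algebraMap k (ResidueField R) (c j)) (δ res r))

lemma Dv_add (r s : R) : Dv res b c (r + s) = Dv res b c r + Dv res b c s := by
  unfold Dv
  rw [δ_add, map_add, map_add]

lemma Dv_algebraMap (a : k) : Dv res b c (algebraMap k R a) = 0 := by
  unfold Dv
  rw [δ_algebraMap, map_zero, map_zero]

lemma Dv_mul (r s : R) :
    Dv res b c (r * s) = res r * Dv res b c s + res s * Dv res b c r := by
  unfold Dv
  have h1 : ∀ (t : R) (z : CotangentSpace R),
      (b.constr ℕ (fun j => algebraMap k (ResidueField R) (c j))) (t • z) =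
        residue R t * b.constr ℕ (fun j => algebraMap k (ResidueField R) (c j)) z := by
    intro t z
    rw [← algebraMap_smul (ResidueField R) t z, map_smul, smul_eq_mul]
    rfl
  rw [δ_mul, map_add, h1, h1, map_add, map_mul, map_mul, resκ_residue, resκ_residue,
    AlgHom.commutes]
  rfl

lemma Dv_x (x : maximalIdeal R) (j : Fin d) (hx : (maximalIdeal R).toCotangent x = b j) :
    Dv res b c x = c j := by
  unfold Dv
  rw [δ_of_mem res x x.2]
  change resκ res (b.constr ℕ _ ((maximalIdeal R).toCotangent x)) = _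
  rw [hx, Module.Basis.constr_basis, resκ_algebraMap]

/-- the tangent vector as a 2-jet. -/
noncomputable def tangent : R →ₐ[k] Jet k 2 where
  toFun r := Ideal.Quotient.mk _ (C (res r) + C (Dv res b c r) * X)
  map_one' := by
    have : Dv res b c 1 = 0 := by
      have := Dv_algebraMap res b c 1
      rwa [map_one] at this
    rw [this]
    simp
  map_mul' r s := by
    rw [← map_mul, Ideal.Quotient.eq, Ideal.mem_span_singleton, Dv_mul, map_mul]
    refine ⟨-(C (Dv res b c r) * C (Dv res b c s)), ?_⟩
    simp only [map_add, map_mul]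
    ring
  map_zero' := by
    have : Dv res b c 0 = 0 := by
      have := Dv_algebraMap res b c 0
      rwa [map_zero] at this
    rw [this]
    simp
  map_add' r s := by
    rw [← map_add (Ideal.Quotient.mk _), Dv_add, map_add res, C_add, C_add]
    congr 1
    ring
  commutes' a := by
    rw [Dv_algebraMap, AlgHom.commutes]
    simp
    rfl

lemma tangent_x (x : maximalIdeal R) (j : Fin d) (hx : (maximalIdeal R).toCotangent x = b j) :
    tangent res b c x = Ideal.Quotient.mk _ (C (c j) * X) := by
  change Ideal.Quotient.mk _ (C (res x) + C (Dv res b c x) * X) = _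
  rw [Dv_x res b c x j hx, res_eq_zero res x.2]
  simp

end loc

section key

open IsLocalRing

variable {k : Type u} [Field k] {R : Type u} [CommRing R] [IsLocalRing R] [Algebra k R]
  (res : R →ₐ[k] k)

/-- reduction to 2-jets -/
noncomputable abbrev red2 (l : ℕ) (hl : 2 ≤ l) : Jet k l →ₐ[k] Jet k 2 :=
  Ideal.Quotient.factorₐ k
    (Ideal.span_singleton_le_span_singleton.mpr (pow_dvd_pow (X : k[X]) hl))

lemma key (n : ℕ) (hn : 1 ≤ n) (Ψ : R →ₐ[k] Jet k (n + 1)) {d : ℕ} (x : Fin d → R) (c : Fin d → k)
    (hx : ∀ j, red2 (n + 1) (by omega) (Ψ (x j)) = Ideal.Quotient.mk _ (C (c j) * X))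
    (P : MvPolynomial (Fin d) R) (hP : P.IsHomogeneous n)
    (hev : Ψ (MvPolynomial.eval x P) = 0) :
    MvPolynomial.eval c (MvPolynomial.map (res : R →+* k) P) = 0 := by
  classical
  have h1 : ∀ j, ∃ r : k[X], Ψ (x j) = Ideal.Quotient.mk _ (X * r) ∧ r.eval 0 = c j := by
    intro j
    obtain ⟨p, hp⟩ := Ideal.Quotient.mk_surjective (Ψ (x j))
    have := hx j
    rw [← hp] at this
    change Ideal.Quotient.mk _ p = _ at this
    rw [Ideal.Quotient.eq, Ideal.mem_span_singleton] at this
    obtain ⟨q, hq⟩ := this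
    refine ⟨C (c j) + X * q, ?_, by simp⟩
    rw [← hp]
    congr 1
    linear_combination hq
  choose r hr1 hr2 using h1
  have h2 : ∀ a : R, ∃ g : k[X], Ψ a = Ideal.Quotient.mk _ g ∧ g.eval 0 = res a := by
    intro a
    obtain ⟨p, hp⟩ := Ideal.Quotient.mk_surjective (Ψ a)
    refine ⟨p, hp.symm, ?_⟩
    have := AlgHom.congr_fun (algHom_eq_res res ((c0 k (n + 1) (by omega)).comp Ψ)) a
    rw [AlgHom.comp_apply, ← hp, c0_mk] at this
    exact this
  choose g hg1 hg2 using h2
  set G' : k[X] := ∑ α ∈ P.support, g (P.coeff α) * ∏ j, r j ^ α j with hG'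
  have h3 : Ψ (MvPolynomial.eval x P) = Ideal.Quotient.mk _ (X ^ n * G') := by
    rw [MvPolynomial.eval_eq', map_sum, hG', Finset.mul_sum, map_sum]
    refine Finset.sum_congr rfl fun α hα => ?_
    have hdeg : ∑ j, α j = n := by
      have := hP (MvPolynomial.mem_support_iff.mp hα)
      have h' : Finsupp.degree α = n := by
        rw [Finsupp.degree_eq_weight_one]
        exact this
      rw [Finsupp.degree_eq_sum] at h'
      exact h'
    rw [map_mul, map_prod, hg1]
    simp_rw [map_pow, hr1]
    rw [← mul_assoc, mul_comm (X ^ n), mul_assoc, map_mul]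
    congr 1
    rw [← hdeg, ← Finset.prod_pow_eq_pow_sum, ← Finset.prod_mul_distrib, map_prod]
    refine Finset.prod_congr rfl fun j _ => ?_
    rw [← mul_pow, map_pow]
  rw [h3, Ideal.Quotient.eq_zero_iff_mem, Ideal.mem_span_singleton, pow_succ,
    mul_dvd_mul_iff_left (pow_ne_zero n X_ne_zero), Polynomial.X_dvd_iff,
    Polynomial.coeff_zero_eq_eval_zero] at hev
  rw [MvPolynomial.eval_map, MvPolynomial.eval₂_eq', ← hev, hG', Polynomial.eval_finset_sum]
  refine Finset.sum_congr rfl fun α _ => ?_
  rw [Polynomial.eval_mul, Polynomial.eval_prod, hg2]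
  simp_rw [Polynomial.eval_pow, hr2]
  rfl

end key

section qr

open IsLocalRing

variable {k : Type u} [Field k] {R : Type u} [CommRing R] [IsLocalRing R] [Algebra k R]
  (res : R →ₐ[k] k)

include res in
lemma jet_kills (l : ℕ) (hl : 1 ≤ l) (ψ : R →ₐ[k] Jet k l) (y : R) (hy : y ∈ maximalIdeal R ^ l) :
    ψ y = 0 := by
  have h1 : (maximalIdeal R).map (ψ : R →+* Jet k l) ≤
      Ideal.span {(Ideal.Quotient.mk (Ideal.span {(X : k[X]) ^ l}) X)} := by
    rw [Ideal.map_le_iff_le_comap]
    intro r hr
    rw [Ideal.mem_comap]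
    apply mem_N l hl
    have := AlgHom.congr_fun (algHom_eq_res res ((c0 k l hl).comp ψ)) r
    rw [AlgHom.comp_apply] at this
    rw [RingHom.coe_coe, this]
    exact res_eq_zero res hr
  have h2 : (maximalIdeal R ^ l).map (ψ : R →+* Jet k l) ≤ ⊥ := by
    rw [Ideal.map_pow, ← N_pow l]
    exact Ideal.pow_right_mono h1 l
  have := h2 (Ideal.mem_map_of_mem _ hy)
  simpa using this

variable (H' : ∀ l, 1 ≤ l → ∀ φ : R →ₐ[k] Jet k l, ∃ ψ : R →ₐ[k] Jet k (l + 1), (red l).comp ψ = φ)

include H' in
lemma exists_lift (φ₂ : R →ₐ[k] Jet k 2) :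
    ∀ l (hl : 2 ≤ l), ∃ ψ : R →ₐ[k] Jet k l, (red2 l hl).comp ψ = φ₂ := by
  intro l hl
  induction l, hl using Nat.le_induction with
  | base =>
    refine ⟨φ₂, ?_⟩
    ext r
    obtain ⟨p, hp⟩ := Ideal.Quotient.mk_surjective (φ₂ r)
    rw [AlgHom.comp_apply, ← hp]
    rfl
  | succ l hl ih =>
    obtain ⟨ψ, hψ⟩ := ih
    obtain ⟨ψ', hψ'⟩ := H' l (by omega) ψ
    refine ⟨ψ', ?_⟩
    rw [← hψ, ← hψ']
    ext r
    obtain ⟨p, hp⟩ := Ideal.Quotient.mk_surjective (ψ' r)
    rw [AlgHom.comp_apply, AlgHom.comp_apply, AlgHom.comp_apply, ← hp]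
    rfl

include res H' in
theorem regular_of_lift [Infinite k] [IsNoetherianRing R] : IsRegularLocalRing R := by
  classical
  let b := Module.finBasis (ResidueField R) (CotangentSpace R)
  set d := Module.finrank (ResidueField R) (CotangentSpace R) with hd
  choose x hx using fun j => (maximalIdeal R).toCotangent_surjective (b j)
  have hfun : (fun j => (maximalIdeal R).toCotangent (x j)) = ⇑b := funext hx
  have hsp : Submodule.span (R ⧸ maximalIdeal R)
      (Set.range fun j => (maximalIdeal R).toCotangent (x j)) = ⊤ := by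
    rw [hfun]
    exact b.span_eq
  have hs : Ideal.span (Set.range fun j => (x j : R)) = maximalIdeal R :=
    Groth.Agent.Lib.Helper12.QR.span_eq_of_cotangent_span_eq_top (maximalIdeal R)
      (maximalIdeal R).fg_of_isNoetherianRing (maximalIdeal_le_jacobson ⊥) x hsp
  have hq : CAlgX.IsQuasiRegular (fun j => (x j : R)) := by
    intro n P hP hev α
    rw [hs] at hev ⊢
    rcases n with _ | n
    · have hPC : P = MvPolynomial.C (P.coeff 0) :=
        MvPolynomial.totalDegree_eq_zero_iff_eq_C.mp (Nat.le_zero.mp hP.totalDegree_le)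
      by_cases hα : α = 0
      · subst hα
        have : MvPolynomial.eval (fun j => (x j : R)) P = P.coeff 0 := by
          conv_lhs => rw [hPC]
          rw [MvPolynomial.eval_C]
        rw [this] at hev
        simpa using hev
      · rw [hPC, MvPolynomial.coeff_C, if_neg (Ne.symm hα)]
        exact zero_mem _
    · by_contra hα
      have h1 : (MvPolynomial.map (res : R →+* k) P).coeff α ≠ 0 := by
        rw [MvPolynomial.coeff_map]
        intro h0
        exact hα (mem_of_res_eq_zero res h0)
      have h2 : ∃ c : Fin d → k, MvPolynomial.eval c (MvPolynomial.map (res : R →+* k) P) ≠ 0 := by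
        by_contra hall
        push Not at hall
        have : MvPolynomial.map (res : R →+* k) P = 0 :=
          MvPolynomial.funext fun c => by rw [hall c, map_zero]
        rw [this] at h1
        exact h1 (by simp)
      obtain ⟨c, hc⟩ := h2
      obtain ⟨ψ, hψ⟩ := exists_lift H' (tangent res b c) (n + 1 + 1) (by omega)
      refine hc (key res (n + 1) (by omega) ψ (fun j => (x j : R)) c ?_ P hP ?_)
      · intro j
        have := AlgHom.congr_fun hψ (x j)
        rw [AlgHom.comp_apply] at this
        rw [this]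
        exact tangent_x res b c (x j) j (hx j)
      · exact jet_kills res (n + 1 + 1) (by omega) ψ _ hev
  have hinj : ∀ (ι : Type u) [Fintype ι] [Nonempty ι],
      Function.Injective (Groth.Agent.Lib.Helper23.SymGr.can R (maximalIdeal R) ι) :=
    fun ι _ _ => Groth.Agent.Lib.Helper23.SymGrRegular.injective_of_isQuasiRegular
      (maximalIdeal R) x ι hs hq
  exact Groth.Agent.Lib.Helper23.SymGrRegular.isRegularLocalRing_of_symGrBijective R
    ((Groth.Agent.Lib.Helper23.SymGr.symGrBijective_iff R _).mpr hinj)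

end qr

section final

open IsLocalRing

theorem main (k : Type u) [Field k] [IsAlgClosed k]
    (A : Type u) [CommRing A] [Algebra k A] [Algebra.FiniteType k A]
    (m : Ideal A) [m.IsMaximal] :
    IsRegularLocalRing (Localization.AtPrime m) ↔
      ∀ (l : ℕ), 1 ≤ l →
        ∀ (φ : A →ₐ[k] Jet k l),
          (∀ a ∈ m, IsNilpotent (φ a)) →
          ∃ ψ : A →ₐ[k] Jet k (l + 1), (red l).comp ψ = φ := by
  -- the evaluation at `m`
  letI : Field (A ⧸ m) := Ideal.Quotient.field m
  haveI : Module.Finite k (A ⧸ m) := finite_of_finite_type_of_isJacobsonRing k (A ⧸ m)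
  have hbij : Function.Bijective (algebraMap k (A ⧸ m)) :=
    IsAlgClosed.algebraMap_bijective_of_isIntegral
  let e : k ≃ₐ[k] (A ⧸ m) := AlgEquiv.ofBijective (Algebra.ofId k _) hbij
  let ev : A →ₐ[k] k := e.symm.toAlgHom.comp (Ideal.Quotient.mkₐ k m)
  have hev : ∀ a, ev a = 0 ↔ a ∈ m := by
    intro a
    change e.symm (Ideal.Quotient.mk m a) = 0 ↔ _
    rw [map_eq_zero_iff _ e.symm.injective, Ideal.Quotient.eq_zero_iff_mem]
  let R := Localization.AtPrime m
  have hevu : ∀ y : m.primeCompl, IsUnit (ev y) := by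
    intro y
    rw [isUnit_iff_ne_zero, Ne, hev]
    exact y.2
  let res : R →ₐ[k] k := IsLocalization.liftAlgHom (M := m.primeCompl) (f := ev) hevu
  haveI : IsNoetherianRing A := Algebra.FiniteType.isNoetherianRing k A
  haveI : IsNoetherianRing R := IsLocalization.isNoetherianRing m.primeCompl R inferInstance
  constructor
  · intro hreg l hl φ hφ
    -- units
    have hφu : ∀ y : m.primeCompl, IsUnit (φ y) := by
      intro y
      apply isUnit_of_c0 l hl
      intro h0
      have hker : RingHom.ker (((c0 k l hl).comp φ : A →ₐ[k] k) : A →+* k) = m := by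
        symm
        apply Ideal.IsMaximal.eq_of_le inferInstance
        · rw [Ne, Ideal.eq_top_iff_one, RingHom.mem_ker]
          simp
        · intro a ha
          rw [RingHom.mem_ker]
          exact c0_of_isNilpotent l hl _ (hφ a ha)
      have : (y : A) ∈ RingHom.ker (((c0 k l hl).comp φ : A →ₐ[k] k) : A →+* k) := by
        rw [RingHom.mem_ker]
        exact h0
      rw [hker] at this
      exact y.2 this
    let φ' : R →ₐ[k] Jet k l := IsLocalization.liftAlgHom (M := m.primeCompl) (f := φ) hφu
    have hφ' : ∀ a, φ' (algebraMap A R a) = φ a := fun a => IsLocalization.lift_eq _ a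
    haveI : Algebra.IsGeometricallyReduced k (ResidueField R) := by
      have hb : Function.Bijective (algebraMap k (ResidueField R)) := by
        refine ⟨(algebraMap k (ResidueField R)).injective, fun y => ?_⟩
        obtain ⟨r, rfl⟩ := residue_surjective y
        refine ⟨res r, ?_⟩
        rw [IsScalarTower.algebraMap_apply k R (ResidueField R)]
        change residue R _ = residue R r
        rw [eq_comm, ← sub_eq_zero, ← map_sub, residue_eq_zero_iff]
        exact sub_mem res r
      have : Algebra.IsGeometricallyReduced k k := by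
        rw [Algebra.isGeometricallyReduced_field_iff]
        exact isReduced_of_injective (Algebra.TensorProduct.rid k k (AlgebraicClosure k)).toRingEquiv
          (Algebra.TensorProduct.rid k k (AlgebraicClosure k)).injective
      let e' : k ≃ₐ[k] ResidueField R := AlgEquiv.ofBijective (Algebra.ofId k _) hb
      exact Algebra.IsGeometricallyReduced.of_injective e'.symm.toAlgHom e'.symm.injective
    have hfs := Groth.Agent.Lib.Helper23.CohenEq2.adic_of_regular_of_sep (k := k) hreg
    have hsurj : Function.Surjective (red (k := k) l) := by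
      intro y
      obtain ⟨p, rfl⟩ := Ideal.Quotient.mk_surjective y
      exact ⟨Ideal.Quotient.mk _ p, rfl⟩
    let eq := Ideal.quotientKerAlgEquivOfSurjective hsurj
    obtain ⟨χ, hχ⟩ := hfs (Jet k (l + 1)) (RingHom.ker (red (k := k) l)) (ker_red_sq l hl)
      (eq.symm.toAlgHom.comp φ') ⟨l, fun y hy => by
        rw [AlgHom.comp_apply, jet_kills res l hl φ' y hy, map_zero]⟩
    refine ⟨χ.comp (IsScalarTower.toAlgHom k A R), ?_⟩
    ext a
    have h1 := AlgHom.congr_fun hχ (algebraMap A R a)
    rw [AlgHom.comp_apply, AlgHom.comp_apply, hφ'] at h1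
    have h2 := congrArg eq h1
    change eq (Ideal.Quotient.mk _ (χ (algebraMap A R a))) = eq (eq.symm (φ a)) at h2
    rw [AlgEquiv.apply_symm_apply, Ideal.quotientKerAlgEquivOfSurjective_mk] at h2
    exact h2
  · intro H
    refine regular_of_lift res ?_
    intro l hl φ
    have hc : ∀ r, c0 k l hl (φ r) = res r := fun r =>
      AlgHom.congr_fun (algHom_eq_res res ((c0 k l hl).comp φ)) r
    obtain ⟨ψA, hψA⟩ := H l hl (φ.comp (IsScalarTower.toAlgHom k A R)) (by
      intro a ha
      apply isNilpotent_of_c0 l hl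
      rw [AlgHom.comp_apply, hc]
      apply res_eq_zero res
      exact (IsLocalization.AtPrime.to_map_mem_maximal_iff R m a).mpr ha)
    have hu : ∀ y : m.primeCompl, IsUnit (ψA y) := by
      intro y
      apply isUnit_of_c0 (l + 1) (by omega)
      rw [← c0_red l hl]
      have := AlgHom.congr_fun hψA y
      rw [AlgHom.comp_apply] at this
      rw [this, AlgHom.comp_apply, hc]
      exact ((IsLocalization.map_units R y).map res).ne_zero
    refine ⟨IsLocalization.liftAlgHom (M := m.primeCompl) (f := ψA) hu, ?_⟩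
    apply IsLocalization.algHom_ext m.primeCompl
    ext a
    have := AlgHom.congr_fun hψA a
    rw [AlgHom.comp_apply, AlgHom.comp_apply] at this ⊢
    rw [AlgHom.comp_apply]
    change red l (IsLocalization.lift _ (algebraMap A R a)) = φ (algebraMap A R a)
    rw [IsLocalization.lift_eq]
    exact this

end final


/-- Let k be an algebraically closed field of characteristic zero, A a finitely generated k-algebra and
m a maximal ideal of A. Then A_m is a regular local ring (the pointed scheme (Spec A, m) is smooth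
at m) if and only if, for every l ≥ 1, every k-algebra homomorphism φ : A → k[X]/(X^l) mapping m
into the nilpotent elements extends to a k-algebra homomorphism ψ : A → k[X]/(X^(l+1)) reducing to φ
modulo X^l. Only jets along Spec k[X]/(X^l) are tested, not all local Artinian algebras. -/
theorem result (k : Type u) [Field k] [IsAlgClosed k] [CharZero k]
    (A : Type u) [CommRing A] [Algebra k A] [Algebra.FiniteType k A]
    (m : Ideal A) [m.IsMaximal] :
    IsRegularLocalRing (Localization.AtPrime m) ↔
      ∀ (l : ℕ), 1 ≤ l →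
        ∀ (φ : A →ₐ[k] (k[X] ⧸ Ideal.span {(X : k[X]) ^ l})),
          (∀ a ∈ m, IsNilpotent (φ a)) →
          ∃ ψ : A →ₐ[k] (k[X] ⧸ Ideal.span {(X : k[X]) ^ (l + 1)}),
            (Ideal.Quotient.factorₐ k
                (Ideal.span_singleton_le_span_singleton.mpr (pow_dvd_pow (X : k[X]) (Nat.le_succ l)))).comp ψ = φ := by
  exact main k A m

end Groth.Agent.S18832
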