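import Groth.Statements.S7453
import Mathlib

set_option autoImplicit false
universe u
open CategoryTheory CategoryTheory.Limits AlgebraicGeometry
open Grpd

namespace Groth.Agent.S7453



theorem lc_congr {S : Scheme.{u}} (G : Grpd.GroupoidScheme S) {T : Scheme.{u}}
    {α α' β β' : T ⟶ G.R} (hα : α = α') (hβ : β = β')
    (h : α ≫ G.s = β ≫ G.t) (h' : α' ≫ G.s = β' ≫ G.t) :
    Limits.pullback.lift α β h ≫ G.c = Limits.pullback.lift α' β' h' ≫ G.c := by
  subst hα hβ; rfl

theorem eq_of_cmp_inv_eq_e {S : Scheme.{u}} (G : Grpd.GroupoidScheme S) {T : Scheme.{u}}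
    (a b : T ⟶ G.R) (hs : a ≫ G.s = b ≫ G.s) (u : T ⟶ G.U)
    (h : Limits.pullback.lift a (b ≫ G.i) (by rw [Category.assoc, G.i_t]; exact hs) ≫ G.c =
      u ≫ G.e) : a = b ∧ u = a ≫ G.t := by
  have h1 : a ≫ G.s = (b ≫ G.i) ≫ G.t := by rw [Category.assoc, G.i_t]; exact hs
  have h2 : (b ≫ G.i) ≫ G.s = b ≫ G.t := by rw [Category.assoc, G.i_s]
  have hu : u = b ≫ G.t := by
    have := congrArg (fun φ => φ ≫ G.s) h
    change (_ ≫ G.c) ≫ G.s = (u ≫ G.e) ≫ G.s at this
    rw [G.comp_s a (b ≫ G.i) h1, Category.assoc, G.i_s, Category.assoc, G.e_s,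
      Category.comp_id] at this
    exact this.symm
  have hab : a = b := by
    calc a = Limits.pullback.lift a (a ≫ G.s ≫ G.e)
            (by rw [Category.assoc, Category.assoc, G.e_t, Category.comp_id]) ≫ G.c :=
          (G.comp_e a).symm
      _ = Limits.pullback.lift a (Limits.pullback.lift (b ≫ G.i) b h2 ≫ G.c)
            (h1.trans (G.comp_t (b ≫ G.i) b h2).symm) ≫ G.c := by
          apply lc_congr G rfl
          rw [G.i_comp b, ← Category.assoc, hs, Category.assoc]
      _ = Limits.pullback.lift (Limits.pullback.lift a (b ≫ G.i) h1 ≫ G.c) b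
            ((G.comp_s a (b ≫ G.i) h1).trans h2) ≫ G.c := (G.assoc a (b ≫ G.i) b h1 h2).symm
      _ = Limits.pullback.lift (b ≫ G.t ≫ G.e) b
            (by rw [Category.assoc, Category.assoc, G.e_s, Category.comp_id]) ≫ G.c := by
          apply lc_congr G _ rfl
          rw [h, hu, Category.assoc]
      _ = b := G.e_comp b
  refine ⟨hab, ?_⟩
  rw [hu, hab]

theorem isClosedImmersion_e {S : Scheme.{u}} (G : Grpd.GroupoidScheme S) (k : Type u) [Field k]
    (eU : G.U ≅ Spec (CommRingCat.of k)) : IsClosedImmersion G.e := by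
  haveI : IsAffine G.U := IsAffine.of_isIso eU.hom
  haveI : Subsingleton G.U := eU.hom.homeomorph.injective.subsingleton
  apply (IsZariskiLocalAtTarget.iff_of_openCover (P := @IsClosedImmersion) G.R.affineCover).mpr
  intro i
  show IsClosedImmersion (Limits.pullback.snd G.e (G.R.affineCover.f i))
  by_cases hne : Nonempty ↥(Limits.pullback G.e (G.R.affineCover.f i))
  · haveI : Surjective (Limits.pullback.fst G.e (G.R.affineCover.f i)) :=
      ⟨fun x => by obtain ⟨y⟩ := hne; exact ⟨y, Subsingleton.elim _ _⟩⟩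
    haveI : IsIso (Limits.pullback.fst G.e (G.R.affineCover.f i)) :=
      (isIso_iff_isOpenImmersion_and_surjective _).mpr ⟨inferInstance, inferInstance⟩
    haveI : IsAffine (Limits.pullback G.e (G.R.affineCover.f i)) :=
      IsAffine.of_isIso (Limits.pullback.fst G.e (G.R.affineCover.f i))
    apply IsClosedImmersion.of_surjective_of_isAffine
    have hcomp : Limits.pullback.snd G.e (G.R.affineCover.f i) ≫ (G.R.affineCover.f i ≫ G.s) =
        Limits.pullback.fst G.e (G.R.affineCover.f i) := by
      rw [← Category.assoc, ← Limits.pullback.condition, Category.assoc, G.e_s, Category.comp_id]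
    have happ := congrArg Scheme.Hom.appTop hcomp
    rw [Scheme.Hom.comp_appTop] at happ
    intro x
    haveI : IsIso (Limits.pullback.fst G.e (G.R.affineCover.f i)).appTop :=
      inferInstanceAs (IsIso ((Limits.pullback.fst G.e (G.R.affineCover.f i)).app ⊤))
    have hbij := ConcreteCategory.bijective_of_isIso
      (Limits.pullback.fst G.e (G.R.affineCover.f i)).appTop
    obtain ⟨y, hy⟩ := hbij.2 x
    refine ⟨(G.R.affineCover.f i ≫ G.s).appTop y, ?_⟩
    rw [← hy, ← happ]
    rfl
  · haveI : IsEmpty ↥(Limits.pullback G.e (G.R.affineCover.f i)) := not_nonempty_iff.mp hne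
    infer_instance

theorem precomp_lc {S : Scheme.{u}} (G : Grpd.GroupoidScheme S) {T T' : Scheme.{u}} (x : T' ⟶ T)
    (α β : T ⟶ G.R) (h : α ≫ G.s = β ≫ G.t) :
    x ≫ (Limits.pullback.lift α β h ≫ G.c) =
      Limits.pullback.lift (x ≫ α) (x ≫ β) (by rw [Category.assoc, Category.assoc, h]) ≫ G.c := by
  rw [← Category.assoc]
  congr 1
  apply Limits.pullback.hom_ext
  · rw [Category.assoc, Limits.pullback.lift_fst, Limits.pullback.lift_fst]
  · rw [Category.assoc, Limits.pullback.lift_snd, Limits.pullback.lift_snd]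

theorem isSeparated_s {S : Scheme.{u}} (G : Grpd.GroupoidScheme S) [IsClosedImmersion G.e] :
    IsSeparated G.s := by
  have hφ : Limits.pullback.fst G.s G.s ≫ G.s = (Limits.pullback.snd G.s G.s ≫ G.i) ≫ G.t := by
    rw [Category.assoc, G.i_t]; exact Limits.pullback.condition
  let φ : Limits.pullback G.s G.s ⟶ G.R :=
    Limits.pullback.lift (Limits.pullback.fst G.s G.s) (Limits.pullback.snd G.s G.s ≫ G.i) hφ ≫ G.c
  have hcomm : G.t ≫ G.e = Limits.pullback.diagonal G.s ≫ φ := by
    rw [precomp_lc]
    have := G.comp_i (𝟙 G.R)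
    rw [← Category.id_comp (G.t ≫ G.e), ← this]
    apply lc_congr G <;> simp
  have key : ∀ c : PullbackCone G.e φ,
      c.snd ≫ Limits.pullback.fst G.s G.s = c.snd ≫ Limits.pullback.snd G.s G.s ∧
        c.fst = (c.snd ≫ Limits.pullback.fst G.s G.s) ≫ G.t := by
    intro c
    apply eq_of_cmp_inv_eq_e G _ _ (by rw [Category.assoc, Category.assoc, Limits.pullback.condition])
    have := c.condition
    rw [precomp_lc] at this
    rw [this]
    apply lc_congr G <;> simp
  have sq : IsPullback G.t (Limits.pullback.diagonal G.s) G.e φ := by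
    refine ⟨⟨hcomm⟩, ⟨PullbackCone.IsLimit.mk _
      (fun c => c.snd ≫ Limits.pullback.fst G.s G.s) ?_ ?_ ?_⟩⟩
    · intro c
      exact (key c).2.symm
    · intro c
      apply Limits.pullback.hom_ext
      · simp
      · simp only [Category.assoc, Limits.pullback.diagonal_snd, Category.comp_id]
        exact (key c).1
    · intro c m hm1 hm2
      rw [← hm2]
      simp
  constructor
  exact MorphismProperty.of_isPullback sq inferInstance

/-- Let (U, R, s, t, c) be a groupoid scheme over S with U the spectrum of a field. Then R is a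
separated scheme. (A groupoid scheme carries U, R, s, t, c, e, i over S with the groupoid axioms on
T-points; c is defined on the fibre product of s and t and sends a pair (a, b) with s(a) = t(b) to a
composed with b.) -/
theorem result (S : Scheme.{u}) (G : Grpd.GroupoidScheme S) (k : Type u) [Field k] (eU : G.U ≅ Spec (CommRingCat.of k)) : G.R.IsSeparated := by

  haveI := isClosedImmersion_e G k eU
  haveI : IsAffine G.U := IsAffine.of_isIso eU.hom
  haveI := isSeparated_s G
  rw [Scheme.isSeparated_iff, ← Limits.terminal.comp_from G.s, IsSeparated.comp_iff]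
  infer_instance

end Groth.Agent.S7453
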