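import Groth.Statements.S1886
import Mathlib
import Groth.Agent.S7453

set_option autoImplicit false
universe u
open CategoryTheory CategoryTheory.Limits AlgebraicGeometry
open Grpd

namespace Groth.Agent.S1886



open Groth.Agent.S7453 in
theorem eq_of_inv_cmp_eq_e {S : Scheme.{u}} (G : Grpd.GroupoidScheme S) {T : Scheme.{u}}
    (a b : T ⟶ G.R) (ht : a ≫ G.t = b ≫ G.t) (u : T ⟶ G.U)
    (h : Limits.pullback.lift (a ≫ G.i) b (by rw [Category.assoc, G.i_s]; exact ht) ≫ G.c =
      u ≫ G.e) : a = b ∧ u = a ≫ G.s := by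
  have h1 : (a ≫ G.i) ≫ G.s = b ≫ G.t := by rw [Category.assoc, G.i_s]; exact ht
  have h0 : a ≫ G.s = (a ≫ G.i) ≫ G.t := by rw [Category.assoc, G.i_t]
  have hu : u = a ≫ G.s := by
    have := congrArg (fun φ => φ ≫ G.t) h
    change (_ ≫ G.c) ≫ G.t = (u ≫ G.e) ≫ G.t at this
    rw [G.comp_t (a ≫ G.i) b h1, Category.assoc, G.i_t, Category.assoc, G.e_t,
      Category.comp_id] at this
    exact this.symm
  refine ⟨?_, hu⟩
  symm
  calc b = Limits.pullback.lift (b ≫ G.t ≫ G.e) b
            (by rw [Category.assoc, Category.assoc, G.e_s, Category.comp_id]) ≫ G.c :=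
          (G.e_comp b).symm
      _ = Limits.pullback.lift (Limits.pullback.lift a (a ≫ G.i) h0 ≫ G.c) b
            ((G.comp_s a (a ≫ G.i) h0).trans h1) ≫ G.c := by
          apply lc_congr G _ rfl
          rw [G.comp_i a, ← Category.assoc, ← Category.assoc, ht]
      _ = Limits.pullback.lift a (Limits.pullback.lift (a ≫ G.i) b h1 ≫ G.c)
            (h0.trans (G.comp_t (a ≫ G.i) b h1).symm) ≫ G.c := G.assoc a (a ≫ G.i) b h0 h1
      _ = Limits.pullback.lift a (a ≫ G.s ≫ G.e)
            (by rw [Category.assoc, Category.assoc, G.e_t, Category.comp_id]) ≫ G.c := by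
          apply lc_congr G rfl
          rw [h, hu, Category.assoc]
      _ = a := G.comp_e a

theorem j_fst {S : Scheme.{u}} (G : Grpd.GroupoidScheme S) :
    G.j ≫ Limits.pullback.fst G.pU G.pU = G.t := Limits.pullback.lift_fst _ _ _

theorem j_snd {S : Scheme.{u}} (G : Grpd.GroupoidScheme S) :
    G.j ≫ Limits.pullback.snd G.pU G.pU = G.s := Limits.pullback.lift_snd _ _ _

theorem diag_fst {S : Scheme.{u}} (G : Grpd.GroupoidScheme S) :
    G.diag ≫ Limits.pullback.fst G.pU G.pU = 𝟙 _ := Limits.pullback.lift_fst _ _ _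

theorem diag_snd {S : Scheme.{u}} (G : Grpd.GroupoidScheme S) :
    G.diag ≫ Limits.pullback.snd G.pU G.pU = 𝟙 _ := Limits.pullback.lift_snd _ _ _

theorem eStab_fst {S : Scheme.{u}} (G : Grpd.GroupoidScheme S) :
    G.eStab ≫ Limits.pullback.fst G.j G.diag = G.e := Limits.pullback.lift_fst _ _ _

theorem eStab_snd {S : Scheme.{u}} (G : Grpd.GroupoidScheme S) :
    G.eStab ≫ Limits.pullback.snd G.j G.diag = 𝟙 _ := Limits.pullback.lift_snd _ _ _

open Groth.Agent.S7453 in
theorem exists_sq {S : Scheme.{u}} (G : Grpd.GroupoidScheme S) :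
    ∃ ψ : Limits.pullback G.j G.j ⟶ G.stabilizer,
      IsPullback G.s (Limits.pullback.diagonal G.j) G.eStab ψ := by
  obtain ⟨eS, heS, heS1, heS2⟩ : ∃ eS : G.U ⟶ Limits.pullback G.j G.diag, eS = G.eStab ∧
      eS ≫ Limits.pullback.fst G.j G.diag = G.e ∧ eS ≫ Limits.pullback.snd G.j G.diag = 𝟙 _ :=
    ⟨G.eStab, rfl, eStab_fst G, eStab_snd G⟩
  have hj : Limits.pullback.fst G.j G.j ≫ G.j = Limits.pullback.snd G.j G.j ≫ G.j :=
    Limits.pullback.condition
  have ht : Limits.pullback.fst G.j G.j ≫ G.t = Limits.pullback.snd G.j G.j ≫ G.t := by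
    have := congrArg (fun φ => φ ≫ Limits.pullback.fst G.pU G.pU) hj
    simpa only [Category.assoc, j_fst] using this
  have hs : Limits.pullback.fst G.j G.j ≫ G.s = Limits.pullback.snd G.j G.j ≫ G.s := by
    have := congrArg (fun φ => φ ≫ Limits.pullback.snd G.pU G.pU) hj
    simpa only [Category.assoc, j_snd] using this
  have h1 : (Limits.pullback.fst G.j G.j ≫ G.i) ≫ G.s = Limits.pullback.snd G.j G.j ≫ G.t := by
    rw [Category.assoc, G.i_s]; exact ht
  obtain ⟨g, hg⟩ : ∃ g : Limits.pullback G.j G.j ⟶ G.R, g =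
    Limits.pullback.lift (Limits.pullback.fst G.j G.j ≫ G.i) (Limits.pullback.snd G.j G.j) h1 ≫ G.c :=
    ⟨_, rfl⟩
  have hgt : g ≫ G.t = Limits.pullback.fst G.j G.j ≫ G.s := by
    rw [hg, G.comp_t _ _ h1, Category.assoc, G.i_t]
  have hgs : g ≫ G.s = Limits.pullback.fst G.j G.j ≫ G.s := by
    rw [hg, G.comp_s _ _ h1, hs]
  have hgj : g ≫ G.j = (Limits.pullback.fst G.j G.j ≫ G.s) ≫ G.diag := by
    apply Limits.pullback.hom_ext
    · calc (g ≫ G.j) ≫ Limits.pullback.fst G.pU G.pU = g ≫ G.t := by rw [Category.assoc, j_fst]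
        _ = Limits.pullback.fst G.j G.j ≫ G.s := hgt
        _ = ((Limits.pullback.fst G.j G.j ≫ G.s) ≫ G.diag) ≫ Limits.pullback.fst G.pU G.pU := by
            rw [Category.assoc, diag_fst, Category.comp_id]
    · calc (g ≫ G.j) ≫ Limits.pullback.snd G.pU G.pU = g ≫ G.s := by rw [Category.assoc, j_snd]
        _ = Limits.pullback.fst G.j G.j ≫ G.s := hgs
        _ = ((Limits.pullback.fst G.j G.j ≫ G.s) ≫ G.diag) ≫ Limits.pullback.snd G.pU G.pU := by
            rw [Category.assoc, diag_snd, Category.comp_id]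
  obtain ⟨ψ, hψ1, hψ2⟩ : ∃ ψ : Limits.pullback G.j G.j ⟶ Limits.pullback G.j G.diag,
      ψ ≫ Limits.pullback.fst G.j G.diag = g ∧
      ψ ≫ Limits.pullback.snd G.j G.diag = Limits.pullback.fst G.j G.j ≫ G.s :=
    ⟨Limits.pullback.lift g (Limits.pullback.fst G.j G.j ≫ G.s) hgj,
      Limits.pullback.lift_fst _ _ _, Limits.pullback.lift_snd _ _ _⟩
  have hΔg : Limits.pullback.diagonal G.j ≫ g = G.s ≫ G.e := by
    rw [hg, precomp_lc]
    have := G.i_comp (𝟙 G.R)
    rw [← Category.id_comp (G.s ≫ G.e), ← this]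
    apply lc_congr G <;> simp
  have hcomm : G.s ≫ eS = Limits.pullback.diagonal G.j ≫ ψ := by
    apply Limits.pullback.hom_ext
    · rw [Category.assoc, heS1, Category.assoc, hψ1, hΔg]
    · rw [Category.assoc, heS2, Category.assoc, hψ2, ← Category.assoc,
        Limits.pullback.diagonal_fst, Category.id_comp, Category.comp_id]
  have key : ∀ c : PullbackCone eS ψ,
      c.snd ≫ Limits.pullback.fst G.j G.j = c.snd ≫ Limits.pullback.snd G.j G.j ∧
        c.fst = (c.snd ≫ Limits.pullback.fst G.j G.j) ≫ G.s := by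
    intro c
    apply eq_of_inv_cmp_eq_e G _ _ (by rw [Category.assoc, Category.assoc, ht])
    have := congrArg (fun φ => φ ≫ Limits.pullback.fst G.j G.diag) c.condition
    simp only [Category.assoc, heS1, hψ1] at this
    rw [this, hg, precomp_lc]
    apply lc_congr G <;> simp
  have sq : IsPullback G.s (Limits.pullback.diagonal G.j) eS ψ := by
    refine ⟨⟨hcomm⟩, ⟨PullbackCone.IsLimit.mk _
        (fun c => c.snd ≫ Limits.pullback.fst G.j G.j) ?_ ?_ ?_⟩⟩
    · intro c
      exact (key c).2.symm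
    · intro c
      apply Limits.pullback.hom_ext
      · simp
      · simp only [Category.assoc, Limits.pullback.diagonal_snd, Category.comp_id]
        exact (key c).1
    · intro c m hm1 hm2
      rw [← hm2]
      simp
  subst heS
  exact ⟨ψ, sq⟩

/-- Let (U, R, s, t, c) be a groupoid scheme over S with stabilizer group scheme G → U and identity
section e : U → G. Then j = (t, s) : R → U ×_S U is separated iff G → U is separated iff e is a
closed immersion; and j is quasi-separated iff G → U is quasi-separated iff e is quasi-compact. (A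
groupoid scheme carries U, R, s, t, c, e, i over S with the groupoid axioms on T-points; 'finite
locally free' is finite, flat and locally of finite presentation; C ⊂ Γ(U) is the ring of functions
a with s♯(a) = t♯(a) and M = Spec C.) -/
theorem result (S : Scheme.{u}) (G : Grpd.GroupoidScheme S) : ((IsSeparated G.j ↔ IsSeparated G.stabilizerToU) ∧ (IsSeparated G.stabilizerToU ↔ IsClosedImmersion G.eStab)) ∧ ((QuasiSeparated G.j ↔ QuasiSeparated G.stabilizerToU) ∧ (QuasiSeparated G.stabilizerToU ↔ QuasiCompact G.eStab)) := by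

  obtain ⟨ψ, sq⟩ := exists_sq G
  have hA : IsSeparated G.j → IsSeparated G.stabilizerToU := by
    intro h
    show IsSeparated (Limits.pullback.snd G.j G.diag)
    infer_instance
  have hB : IsSeparated G.stabilizerToU → IsClosedImmersion G.eStab := by
    intro h
    have e1 : G.eStab ≫ G.stabilizerToU = 𝟙 _ := eStab_snd G
    haveI : IsClosedImmersion (G.eStab ≫ G.stabilizerToU) := by rw [e1]; infer_instance
    exact IsClosedImmersion.of_comp G.eStab G.stabilizerToU
  have hC : IsClosedImmersion G.eStab → IsSeparated G.j := by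
    intro h
    exact ⟨MorphismProperty.of_isPullback sq h⟩
  have hA' : QuasiSeparated G.j → QuasiSeparated G.stabilizerToU := by
    intro h
    show QuasiSeparated (Limits.pullback.snd G.j G.diag)
    infer_instance
  have hB' : QuasiSeparated G.stabilizerToU → QuasiCompact G.eStab := by
    intro h
    have e1 : G.eStab ≫ G.stabilizerToU = 𝟙 _ := eStab_snd G
    haveI : QuasiCompact (G.eStab ≫ G.stabilizerToU) := by rw [e1]; infer_instance
    exact QuasiCompact.of_comp G.eStab G.stabilizerToU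
  have hC' : QuasiCompact G.eStab → QuasiSeparated G.j := by
    intro h
    exact ⟨MorphismProperty.of_isPullback sq h⟩
  exact ⟨⟨⟨hA, fun h => hC (hB h)⟩, ⟨hB, fun h => hA (hC h)⟩⟩,
    ⟨⟨hA', fun h => hC' (hB' h)⟩, ⟨hB', fun h => hA' (hC' h)⟩⟩⟩

end Groth.Agent.S1886
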