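import Groth.Statements.S18861
-- import your own Groth.Agent.* helpers here

set_option autoImplicit false
universe u
open CategoryTheory MonoidalCategory CartesianMonoidalCategory MonObj GrpObj AlgebraicGeometry
open AlgGrp

namespace Groth.Agent.S18861

variable {S : Scheme.{u}} {G X : Over S} [GrpObj G]

theorem act_mul (a : AlgGrp.Action G X) {T : Over S} (g h : T ⟶ G) (x : T ⟶ X) :
    lift (g * h) x ≫ a.act = lift g (lift h x ≫ a.act) ≫ a.act := by
  have := congrArg (fun k => lift (lift g h) x ≫ k) a.mul_act
  simp only [lift_whiskerRight_assoc, lift_lift_associator_hom_assoc, lift_whiskerLeft_assoc] at this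
  rw [Hom.mul_def]
  exact this

theorem act_one (a : AlgGrp.Action G X) {T : Over S} (x : T ⟶ X) :
    lift (1 : T ⟶ G) x ≫ a.act = x := by
  have := congrArg (fun k => lift (toUnit T) x ≫ k) a.one_act
  simp only [lift_whiskerRight_assoc, lift_leftUnitor_hom] at this
  rw [Hom.one_def]
  exact this

/-- the shear map -/
noncomputable def shear (a : AlgGrp.Action G X) : G ⊗ X ≅ G ⊗ X where
  hom := lift (fst G X) a.act
  inv := lift (fst G X) (lift ((fst G X)⁻¹) (snd G X) ≫ a.act)
  hom_inv_id := by
    apply CartesianMonoidalCategory.hom_ext
    · simp
    · simp only [comp_lift, lift_fst, lift_snd, Category.id_comp]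
      rw [comp_lift_assoc, GrpObj.comp_inv, lift_fst, lift_snd]
      have h1 : lift (fst G X)⁻¹ a.act ≫ a.act =
          lift (fst G X)⁻¹ (lift (fst G X) (snd G X) ≫ a.act) ≫ a.act := by simp
      rw [h1, ← act_mul, inv_mul_cancel, act_one]
  inv_hom_id := by
    apply CartesianMonoidalCategory.hom_ext
    · simp
    · simp only [comp_lift, lift_fst, lift_snd, Category.id_comp]
      rw [← act_mul, mul_inv_cancel, act_one]

theorem act_eq (a : AlgGrp.Action G X) : a.act = (shear a).hom ≫ snd G X := by
  simp [shear]

theorem act_left_of (P : MorphismProperty Scheme.{u}) [P.IsStableUnderBaseChange] [P.RespectsIso]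
    (a : AlgGrp.Action G X) (h : P G.hom) : P a.act.left := by
  rw [act_eq a, Over.comp_left]
  have : IsIso (shear a).hom.left := inferInstanceAs (IsIso ((Over.forget S).map (shear a).hom))
  rw [P.cancel_left_of_respectsIso]
  rw [Over.snd_left]
  exact P.pullback_snd _ _ h

/-- Let S be a scheme and G a group scheme over S acting on an S-scheme X, with action morphism G ×_S X
→ X. If G → S is surjective, resp. flat, resp. affine, resp. proper, resp. finite, resp. smooth,
then so is the action morphism. (The source works over a field, where G → S is automatically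
faithfully flat, with G and X of finite type, and concludes that the action morphism is faithfully
flat, and smooth, affine, proper or finite when G is; the base and the finiteness conditions play no
role.) -/
theorem result {S : Scheme.{u}} {G X : Over S} [GrpObj G]
    (a : AlgGrp.Action G X) :
    (Surjective G.hom → Surjective a.act.left) ∧ (Flat G.hom → Flat a.act.left) ∧
      (IsAffineHom G.hom → IsAffineHom a.act.left) ∧ (IsProper G.hom → IsProper a.act.left) ∧
      (IsFinite G.hom → IsFinite a.act.left) ∧ (Smooth G.hom → Smooth a.act.left) := by
  exact ⟨fun h => act_left_of @Surjective a h, fun h => act_left_of @Flat a h,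
    fun h => act_left_of @IsAffineHom a h, fun h => act_left_of @IsProper a h,
    fun h => act_left_of @IsFinite a h, fun h => act_left_of @Smooth a h⟩

end Groth.Agent.S18861
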