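import Groth.Statements.S18864
import Mathlib
-- import your own Groth.Agent.* helpers here

set_option autoImplicit false
universe u v w
open HopfRep

namespace Groth.Agent.S18864

open TensorProduct


/-- Let k be a field and G = lim G_i a pro-algebraic group scheme over k, so that G = Spec A with A the
direct limit of the Hopf algebras A_i of the affine group schemes G_i of finite type; assume
moreover that the maps A_i → A are injective, so that A is the directed union of the A_i, here given
as injective bialgebra maps A_i → A with directed, jointly covering images. Then every homomorphism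
from G to an affine group scheme H = Spec B of finite type over k factors through some projection G
→ G_i: every bialgebra map f : B → A with B finitely generated as a k-algebra is the composite of
A_i → A with a bialgebra map B → A_i for some i. (The published statement allows arbitrary
transition maps in the system; this row assumes each A_i → A injective, the case the printed
argument treats. The source also states the pro-finite variant with H finite, which is the case of
finite-dimensional A_i and B; finite generation of the A_i is not used.) -/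
theorem result (k : Type u) [Field k]
    (A : Type v) [CommRing A] [HopfAlgebra k A] {ι : Type v} (Aι : ι → Type v)
    [∀ i, CommRing (Aι i)] [∀ i, HopfAlgebra k (Aι i)] (emb : ∀ i, Aι i →ₐc[k] A)
    (hinj : ∀ i, Function.Injective (emb i))
    (hdir : ∀ i j, ∃ l, Set.range (emb i) ⊆ Set.range (emb l) ∧ Set.range (emb j) ⊆ Set.range (emb l))
    (hcov : ∀ a : A, ∃ i, a ∈ Set.range (emb i))
    (B : Type w) [CommRing B] [HopfAlgebra k B] [Algebra.FiniteType k B] (f : B →ₐc[k] A) :
    ∃ (i : ι) (g : B →ₐc[k] Aι i), (emb i).comp g = f := by
  classical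
  obtain ⟨s, hs⟩ := (Algebra.FiniteType.out : (⊤ : Subalgebra k B).FG)
  have hfin : ∀ t : Finset B, ∃ i, ∀ b ∈ t, f b ∈ Set.range (emb i) := by
    intro t
    induction t using Finset.induction_on with
    | empty => obtain ⟨i, _⟩ := hcov 0; exact ⟨i, by simp⟩
    | insert b t hb ih =>
      obtain ⟨i, hi⟩ := ih
      obtain ⟨j, hj⟩ := hcov (f b)
      obtain ⟨l, hil, hjl⟩ := hdir i j
      refine ⟨l, fun x hx => ?_⟩
      rcases Finset.mem_insert.mp hx with rfl | hx
      · exact hjl hj
      · exact hil (hi x hx)
  obtain ⟨i, hi⟩ := hfin s
  have hrange : ∀ b : B, (f : B →ₐ[k] A) b ∈ ((emb i : Aι i →ₐ[k] A)).range := by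
    intro b
    have hb : b ∈ Algebra.adjoin k (s : Set B) := by rw [hs]; trivial
    have : Algebra.adjoin k (s : Set B) ≤
        ((emb i : Aι i →ₐ[k] A).range).comap (f : B →ₐ[k] A) :=
      Algebra.adjoin_le (fun x hx => hi x hx)
    exact this hb
  let e := AlgEquiv.ofInjective (emb i : Aι i →ₐ[k] A) (hinj i)
  let g₀ : B →ₐ[k] Aι i := (e.symm : _ →ₐ[k] _).comp ((f : B →ₐ[k] A).codRestrict _ hrange)
  have hg₀ : ∀ b, emb i (g₀ b) = f b := by
    intro b
    have := e.apply_symm_apply ((f : B →ₐ[k] A).codRestrict _ hrange b)
    exact congrArg Subtype.val this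
  refine ⟨i, BialgHom.ofAlgHom g₀ ?_ ?_, ?_⟩
  · ext b
    show Coalgebra.counit (g₀ b) = Coalgebra.counit b
    rw [← CoalgHomClass.counit_comp_apply (emb i) (g₀ b), hg₀,
      CoalgHomClass.counit_comp_apply]
  · ext b
    show TensorProduct.map g₀.toLinearMap g₀.toLinearMap (Coalgebra.comul b) =
      Coalgebra.comul (g₀ b)
    have hinj2 : Function.Injective (TensorProduct.map (emb i : Aι i →ₗ[k] A)
        (emb i : Aι i →ₗ[k] A)) :=
      TensorProduct.map_injective_of_flat_flat _ _ (hinj i) (hinj i)
    apply hinj2
    have h1 := CoalgHomClass.map_comp_comul_apply (emb i) (g₀ b)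
    have h2 := CoalgHomClass.map_comp_comul_apply f b
    rw [hg₀] at h1
    have h3 : (emb i : Aι i →ₗ[k] A) ∘ₗ g₀.toLinearMap = (f : B →ₗ[k] A) := by
      ext b; exact hg₀ b
    rw [← LinearMap.comp_apply, ← TensorProduct.map_comp, h3]
    exact h2.trans h1.symm
  · ext b
    exact hg₀ b

end Groth.Agent.S18864
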