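import Groth.Statements.S18874
import Groth.Agent.Lib.Helper1.CplProper

set_option autoImplicit false
universe u
open Lim

namespace Groth.Agent.S18874

open CategoryTheory AlgebraicGeometry in
/-- Let S be a quasi-compact scheme whose affine opens have excellent coordinate rings, let X → S and Y
→ S be quasi-compact, quasi-separated and locally of finite presentation, let f : X → Y be a
morphism over S, let s be a closed point of S and R the completion of the local ring of S at s. If
the base change X ×_S Spec R → Y ×_S Spec R of f is proper, then s has an open neighbourhood W in S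
such that X ×_S W → Y ×_S W is proper. (The published statement assumes X and Y only locally of
finite presentation over S; for S the affine line over a field, s the origin, Y = S and X the
disjoint union of S with one reduced point over each closed point other than s, the base change to
Spec R is an isomorphism while X ×_S W → W is not quasi-compact for any open W ∋ s, so X and Y are
taken of finite presentation over S here, which is what the limit argument of the published proof
uses.) -/
theorem result
    (S : Scheme.{u}) [CompactSpace S] (hS : ∀ U : S.affineOpens, EGA4.IsExcellent Γ(S, U.1))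
    {X Y : Scheme.{u}} (f : X ⟶ Y) (g : Y ⟶ S)
    [QuasiCompact g] [QuasiSeparated g] [LocallyOfFinitePresentation g]
    [QuasiCompact (f ≫ g)] [QuasiSeparated (f ≫ g)] [LocallyOfFinitePresentation (f ≫ g)]
    (s : S) (hs : IsClosed ({s} : Set S))
    (hR : IsProper (Limits.pullback.snd f (Limits.pullback.fst g
      (Spec.map (CommRingCat.ofHom (algebraMap (S.presheaf.stalk s) (EGA4.Cpl (S.presheaf.stalk s)))) ≫
        S.fromSpecStalk s)))) :
    ∃ W : S.Opens, s ∈ W ∧ IsProper (f ∣_ (g ⁻¹ᵁ W)) := by
  classical
  obtain ⟨_, ⟨(S₀ : S.Opens), (hS₀ : IsAffineOpen S₀), rfl⟩, hsS₀, -⟩ :=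
    S.isBasis_affineOpens.exists_subset_of_mem_open (Set.mem_univ s) isOpen_univ
  haveI hN : IsNoetherianRing Γ(S, S₀) := (hS ⟨S₀, hS₀⟩).1
  haveI : IsNoetherianRing (S.presheaf.stalk s) := by
    let _ := S.presheaf.algebra_section_stalk ⟨s, hsS₀⟩
    have hloc := hS₀.isLocalization_stalk ⟨s, hsS₀⟩
    exact IsLocalization.isNoetherianRing (hS₀.primeIdealOf ⟨s, hsS₀⟩).asIdeal.primeCompl _ hN
  haveI hff : Module.FaithfullyFlat (S.presheaf.stalk s) (EGA4.Cpl (S.presheaf.stalk s)) :=
    Module.FaithfullyFlat.of_flat_of_isLocalHom
  have hρ := (flat_and_surjective_SpecMap_iff (CommRingCat.ofHom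
    (algebraMap (S.presheaf.stalk s) (EGA4.Cpl (S.presheaf.stalk s))))).mpr
    ((RingHom.faithfullyFlat_algebraMap_iff).mpr hff)
  haveI := hρ.1
  haveI := hρ.2
  exact Groth.Agent.Lib.Helper1.CplProper.exists_nhd_proper f g s
    (Groth.Agent.Lib.Helper1.CplProper.proper_descend f g (S.fromSpecStalk s) _ hR)

end Groth.Agent.S18874
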