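import Groth.Statements.S18878
-- import your own Groth.Agent.* helpers here
import Groth.Agent.Lib.Helper12.GrpLim9

set_option autoImplicit false
universe u
open Lim

namespace Groth.Agent.S18878

open Groth.Agent.Lib.Helper12.H12GrpLim CategoryTheory.MonoidalCategory CategoryTheory.MonObj CategoryTheory.GrpObj

open CategoryTheory AlgebraicGeometry in
/-- Let S = lim S_i be a cofiltered limit of schemes with affine transition morphisms over a
quasi-compact quasi-separated stage S_{i₀}, let G₀ be a group scheme separated and of finite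
presentation over S_{i₀} and H₀ ⊆ G₀ a closed subscheme whose immersion is of finite presentation,
and write G, H (resp. G_i, H_i) for the base changes to S (resp. to a stage S_i). If H is a closed
subgroup scheme of G, that is H carries a group structure over S for which H → G is a homomorphism,
then H_i is a closed subgroup scheme of G_i for some stage i → i₀; if moreover H is normal in G, the
stage can be chosen so that H_i is normal in G_i. (The published statement is for separated finitely
presented group algebraic spaces and an arbitrary closed subspace H₀; this row is the case of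
schemes and assumes H₀ → G₀ of finite presentation: over the limit Spec k of the spectra of k[x_1,
x_2, …]/(x_1, …, x_n), k of characteristic zero, the closed subscheme of the additive group cut out
by all x_m t^m becomes the whole additive group over Spec k but is a subgroup over no stage, so a
finiteness condition on H₀ is needed, and finite presentation is what the published limit argument
uses.) -/
theorem result
    {I : Type u} [SmallCategory I] [IsCofiltered I]
    (D : I ⥤ Scheme.{u}) (c : Limits.Cone D) (hc : Limits.IsLimit c)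
    [∀ (i j : I) (a : i ⟶ j), IsAffineHom (D.map a)] (i₀ : I)
    [CompactSpace (D.obj i₀)] [QuasiSeparatedSpace (D.obj i₀)]
    (G₀ : Over (D.obj i₀)) [GrpObj G₀] [IsSeparated G₀.hom] [QuasiCompact G₀.hom]
    [LocallyOfFinitePresentation G₀.hom]
    (H₀ : Over (D.obj i₀)) (ι₀ : H₀ ⟶ G₀) [IsClosedImmersion ι₀.left]
    [LocallyOfFinitePresentation ι₀.left]
    (hH : ∃ _ : GrpObj (Red.bc (c.π.app i₀) H₀), IsMonHom ((Over.pullback (c.π.app i₀)).map ι₀)) :
    (∃ (i : I) (a : i ⟶ i₀) (_ : GrpObj (Red.bc (D.map a) H₀)),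
        IsMonHom ((Over.pullback (D.map a)).map ι₀)) ∧
    ((∃ (_ : GrpObj (Red.bc (c.π.app i₀) H₀)) (_ : IsMonHom ((Over.pullback (c.π.app i₀)).map ι₀)),
        AlgGrp.IsNormalHom ((Over.pullback (c.π.app i₀)).map ι₀)) →
      ∃ (i : I) (a : i ⟶ i₀) (_ : GrpObj (Red.bc (D.map a) H₀))
        (_ : IsMonHom ((Over.pullback (D.map a)).map ι₀)),
        AlgGrp.IsNormalHom ((Over.pullback (D.map a)).map ι₀)) := by
  -- restrict the system to `Over i₀`, where all stages are quasi-compact and quasi-separated
  let D' : Over i₀ ⥤ Scheme.{u} := Over.forget i₀ ⋙ D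
  let c' : Limits.Cone D' := c.whisker (Over.forget i₀)
  have hc' : Limits.IsLimit c' := (Functor.Initial.isLimitWhiskerEquiv (Over.forget i₀) c).symm hc
  haveI : ∀ (k l : Over i₀) (a : k ⟶ l), IsAffineHom (D'.map a) :=
    fun k l a => inferInstanceAs (IsAffineHom (D.map a.left))
  haveI : ∀ k : Over i₀, CompactSpace (D'.obj k) :=
    fun k => QuasiCompact.compactSpace_of_compactSpace (D.map k.hom)
  haveI : ∀ k : Over i₀, QuasiSeparatedSpace (D'.obj k) :=
    fun k => quasiSeparatedSpace_of_quasiSeparated (D.map k.hom)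
  let j : Over i₀ := Over.mk (𝟙 i₀)
  let G' : Over (D'.obj j) := G₀
  let H' : Over (D'.obj j) := H₀
  let ι' : H' ⟶ G' := ι₀
  letI : GrpObj G' := ‹GrpObj G₀›
  haveI : LocallyOfFinitePresentation G'.hom := ‹LocallyOfFinitePresentation G₀.hom›
  haveI : QuasiCompact G'.hom := ‹QuasiCompact G₀.hom›
  haveI : QuasiSeparated G'.hom := inferInstanceAs (QuasiSeparated G₀.hom)
  haveI : LocallyOfFinitePresentation H'.hom := by
    change LocallyOfFinitePresentation H₀.hom
    rw [← Over.w ι₀]; infer_instance
  haveI : QuasiCompact H'.hom := by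
    change QuasiCompact H₀.hom
    rw [← Over.w ι₀]; infer_instance
  haveI : QuasiSeparated H'.hom := by
    change QuasiSeparated H₀.hom
    rw [← Over.w ι₀]; infer_instance
  -- closed immersions stay monomorphisms after base change
  have hmono : ∀ {U : Scheme.{u}} (b : U ⟶ D'.obj j), Mono ((Over.pullback b).map ι') := by
    intro U b
    haveI : IsClosedImmersion ι'.left := ‹IsClosedImmersion ι₀.left›
    haveI : IsClosedImmersion ((Over.pullback b).map ι').left :=
      MorphismProperty.of_isPullback (P := @IsClosedImmersion) (isPullback_map_left b ι')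
        inferInstance
    exact Over.mono_of_mono_left _
  -- from subgroup equalities at a stage to a subgroup structure
  have key : ∀ {i : Over i₀} (f : i ⟶ j)
      {mi : Red.bc (D'.map f) (H' ⊗ H') ⟶ Red.bc (D'.map f) H'}
      {ei : Red.bc (D'.map f) (𝟙_ (Over (D'.obj j))) ⟶ Red.bc (D'.map f) H'}
      {ni : Red.bc (D'.map f) H' ⟶ Red.bc (D'.map f) H'} {i' : Over i₀} {g : i' ⟶ i}
      (_ : SubEqs D' f ι' mi ei ni g) (f' : i' ⟶ j) (_ : g ≫ f = f'),
      ∃ (M : GrpObj (Red.bc (D'.map f') H')),
        IsMonHom ((Over.pullback (D'.map f')).map ι') := by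
    intro i f mi ei ni i' g hsub f' hf
    obtain ⟨p, hp⟩ := hsub.preGrp D' f ι' f' hf
    haveI := hmono (D'.map f')
    have hg : p.IsGrp := p.isGrp_of_mono ((Over.pullback (D'.map f')).map ι') hp
    exact ⟨p.toGrpObj hg, letI := p.toGrpObj hg; ⟨hp.e, hp.m⟩⟩
  refine ⟨?_, ?_⟩
  · obtain ⟨MH, hι⟩ := hH
    letI MH' : GrpObj (Red.bc (c'.π.app j) H') := MH
    have hι' : IsMonHom ((Over.pullback (c'.π.app j)).map ι') := hι
    obtain ⟨i, f, mi, ei, ni, i', g, hsub⟩ := exists_subEqs D' c' hc' (j := j) G' H' ι' hι'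
    obtain ⟨M, hM⟩ := key f hsub (g ≫ f) rfl
    exact ⟨i'.left, (g ≫ f).left, M, hM⟩
  · rintro ⟨MH, hι, hnorm⟩
    letI MH' : GrpObj (Red.bc (c'.π.app j) H') := MH
    have hι' : IsMonHom ((Over.pullback (c'.π.app j)).map ι') := hι
    have hnorm' : AlgGrp.IsNormalHom ((Over.pullback (c'.π.app j)).map ι') := hnorm
    have hN : NormalProp ((Over.pullback (c'.π.app j)).map ι') := (isNormalHom_iff' _).1 hnorm'
    obtain ⟨i₂, a₂, hN₂⟩ := normalProp_descend D' c' hc' G' H' ι' hN
    obtain ⟨i, f, mi, ei, ni, i', g, hsub⟩ := exists_subEqs D' c' hc' (j := j) G' H' ι' hι'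
    obtain ⟨k, e₁, e₂, he⟩ := exists_common (g ≫ f) a₂
    obtain ⟨M, hM⟩ := key f (hsub.pers D' f ι' e₁) ((e₁ ≫ g) ≫ f) rfl
    have hN₃ : NormalProp ((Over.pullback (D'.map ((e₁ ≫ g) ≫ f))).map ι') :=
      normalProp_pers (D'.map e₂) (D'.map a₂) _
        (by rw [← D'.map_comp, ← he, Category.assoc]) ι' hN₂
    refine ⟨k.left, ((e₁ ≫ g) ≫ f).left, M, hM, ?_⟩
    letI : GrpObj (Red.bc (D'.map ((e₁ ≫ g) ≫ f)) H') := M
    exact (isNormalHom_iff' ((Over.pullback (D'.map ((e₁ ≫ g) ≫ f))).map ι')).2 hN₃

end Groth.Agent.S18878
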