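import Groth.Statements.S18879
import Groth.Agent.Lib.Helper21.FibDim11
import Groth.Agent.Lib.Helper18.SchDim1
-- import your own Groth.Agent.* helpers here

set_option autoImplicit false
universe u
open CategoryTheory AlgebraicGeometry
open Resolve

namespace Groth.Agent.S18879

/-- Let f : Y ⟶ X be a morphism locally of finite type between Noetherian separated schemes which is
birational: it maps the maximal points of Y bijectively onto the maximal points of X, and over every
maximal point of X its fibre is one point with the same residue field. Then for every point y of Y,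
the Krull dimension of the local ring of Y at y is at most the Krull dimension of the local ring of
X at f y (the codimension of a point does not increase along f). -/
theorem result {X Y : Scheme.{u}} (f : Y ⟶ X)
    [IsNoetherian X] [X.IsSeparated] [IsNoetherian Y] [Y.IsSeparated] [LocallyOfFiniteType f]
    (hf : RadPt.IsBirational f) (y : Y) :
    ringKrullDim (Y.presheaf.stalk y) ≤ ringKrullDim (X.presheaf.stalk (f.base y)) := by
  have : IsLocallyNoetherian X := inferInstance
  obtain ⟨n, hn⟩ := Groth.Agent.Lib.Helper21.FibDim.exists_nat_trdeg_residueFieldMap f y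
  have hineq := Groth.Agent.Lib.Helper18.SchDim.stalk_dim_inequality f y n 0 hn (by
    intro ξ hξ _
    have hξg : ξ ∈ genericPoints Y := hξ
    have hfξ : f ξ ∈ genericPoints X := hf.1.mapsTo hξg
    have hbij := (hf.2 (f ξ) hfξ).2 ξ rfl
    have := Groth.Agent.Lib.Helper21.FibDim.isAlgebraic_of_surjective
      (f.residueFieldMap ξ).hom hbij.2
    rw [(@trdeg_eq_zero_iff _ _ _ _ (f.residueFieldMap ξ).hom.toAlgebra).mpr this]
    rfl)
  have h0 : ringKrullDim (Y.presheaf.stalk y) ≤ ringKrullDim (Y.presheaf.stalk y) + (n : WithBot ℕ∞) := by
    have : (0 : WithBot ℕ∞) ≤ (n : WithBot ℕ∞) := by exact_mod_cast Nat.zero_le n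
    calc ringKrullDim (Y.presheaf.stalk y) = ringKrullDim (Y.presheaf.stalk y) + 0 := (add_zero _).symm
      _ ≤ _ := add_le_add_right this _
  refine (h0.trans hineq).trans ?_
  simp

end Groth.Agent.S18879
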