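import Groth.Statements.S1889
import Mathlib
import Groth.Agent.S7453

set_option autoImplicit false
universe u
open CategoryTheory CategoryTheory.Limits AlgebraicGeometry
open Grpd

namespace Groth.Agent.S1889



open Groth.Agent.S7453 in
theorem inv_cmp_cmp {S : Scheme.{u}} (G : Grpd.GroupoidScheme S) {T : Scheme.{u}}
    (α β : T ⟶ G.R) (h : α ≫ G.s = β ≫ G.t)
    (h' : (α ≫ G.i) ≫ G.s = (Limits.pullback.lift α β h ≫ G.c) ≫ G.t) :
    Limits.pullback.lift (α ≫ G.i) (Limits.pullback.lift α β h ≫ G.c) h' ≫ G.c = β := by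
  have h1 : (α ≫ G.i) ≫ G.s = α ≫ G.t := by rw [Category.assoc, G.i_s]
  calc Limits.pullback.lift (α ≫ G.i) (Limits.pullback.lift α β h ≫ G.c) h' ≫ G.c
      = Limits.pullback.lift (Limits.pullback.lift (α ≫ G.i) α h1 ≫ G.c) β
          ((G.comp_s (α ≫ G.i) α h1).trans h) ≫ G.c := (G.assoc (α ≫ G.i) α β h1 h).symm
    _ = Limits.pullback.lift (β ≫ G.t ≫ G.e) β
          (by rw [Category.assoc, Category.assoc, G.e_s, Category.comp_id]) ≫ G.c := by
        apply lc_congr G _ rfl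
        rw [G.i_comp α, ← Category.assoc, h, Category.assoc]
    _ = β := G.e_comp β

open Groth.Agent.S7453 in
theorem cmp_inv_cmp {S : Scheme.{u}} (G : Grpd.GroupoidScheme S) {T : Scheme.{u}}
    (α β : T ⟶ G.R) (h : α ≫ G.t = β ≫ G.t)
    (h1 : (α ≫ G.i) ≫ G.s = β ≫ G.t)
    (h' : α ≫ G.s = (Limits.pullback.lift (α ≫ G.i) β h1 ≫ G.c) ≫ G.t) :
    Limits.pullback.lift α (Limits.pullback.lift (α ≫ G.i) β h1 ≫ G.c) h' ≫ G.c = β := by
  have h0 : α ≫ G.s = (α ≫ G.i) ≫ G.t := by rw [Category.assoc, G.i_t]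
  calc Limits.pullback.lift α (Limits.pullback.lift (α ≫ G.i) β h1 ≫ G.c) h' ≫ G.c
      = Limits.pullback.lift (Limits.pullback.lift α (α ≫ G.i) h0 ≫ G.c) β
          ((G.comp_s α (α ≫ G.i) h0).trans h1) ≫ G.c := (G.assoc α (α ≫ G.i) β h0 h1).symm
    _ = Limits.pullback.lift (β ≫ G.t ≫ G.e) β
          (by rw [Category.assoc, Category.assoc, G.e_s, Category.comp_id]) ≫ G.c := by
        apply lc_congr G _ rfl
        rw [G.comp_i α, ← Category.assoc, h, Category.assoc]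
    _ = β := G.e_comp β

open Groth.Agent.S7453 in
theorem isOpenMap_cmp {S : Scheme.{u}} (G : Grpd.GroupoidScheme S) [IsIntegral G.U]
    [Subsingleton G.U] (Z : Scheme.{u}) (a : Z ⟶ G.R) :
    IsOpenMap ⇑(Limits.pullback.lift (Limits.pullback.fst (a ≫ G.s) G.t ≫ a)
      (Limits.pullback.snd (a ≫ G.s) G.t)
      ((Category.assoc _ _ _).trans Limits.pullback.condition) ≫ G.c) := by
  have hc0 : (Limits.pullback.fst (a ≫ G.s) G.t ≫ a) ≫ G.s =
      Limits.pullback.snd (a ≫ G.s) G.t ≫ G.t :=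
    (Category.assoc _ _ _).trans Limits.pullback.condition
  obtain ⟨μ₀, hμ₀⟩ : ∃ μ₀ : Limits.pullback (a ≫ G.s) G.t ⟶ G.R, μ₀ =
      Limits.pullback.lift (Limits.pullback.fst (a ≫ G.s) G.t ≫ a)
        (Limits.pullback.snd (a ≫ G.s) G.t) hc0 ≫ G.c := ⟨_, rfl⟩
  have hμ₀t : μ₀ ≫ G.t = Limits.pullback.fst (a ≫ G.s) G.t ≫ (a ≫ G.t) := by
    rw [hμ₀, G.comp_t _ _ hc0, Category.assoc]
  -- Θ : Q₀ → Q'
  obtain ⟨Θ, hΘ1, hΘ2⟩ : ∃ Θ : Limits.pullback (a ≫ G.s) G.t ⟶ Limits.pullback (a ≫ G.t) G.t,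
      Θ ≫ Limits.pullback.fst (a ≫ G.t) G.t = Limits.pullback.fst (a ≫ G.s) G.t ∧
      Θ ≫ Limits.pullback.snd (a ≫ G.t) G.t = μ₀ :=
    ⟨Limits.pullback.lift (Limits.pullback.fst (a ≫ G.s) G.t) μ₀ hμ₀t.symm,
      Limits.pullback.lift_fst _ _ _, Limits.pullback.lift_snd _ _ _⟩
  have hc1 : ((Limits.pullback.fst (a ≫ G.t) G.t ≫ a) ≫ G.i) ≫ G.s =
      Limits.pullback.snd (a ≫ G.t) G.t ≫ G.t := by
    rw [Category.assoc, G.i_s, Category.assoc]; exact Limits.pullback.condition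
  obtain ⟨ν, hν⟩ : ∃ ν : Limits.pullback (a ≫ G.t) G.t ⟶ G.R, ν =
      Limits.pullback.lift ((Limits.pullback.fst (a ≫ G.t) G.t ≫ a) ≫ G.i)
        (Limits.pullback.snd (a ≫ G.t) G.t) hc1 ≫ G.c := ⟨_, rfl⟩
  have hνt : ν ≫ G.t = Limits.pullback.fst (a ≫ G.t) G.t ≫ (a ≫ G.s) := by
    rw [hν, G.comp_t _ _ hc1, Category.assoc, G.i_t, Category.assoc]
  obtain ⟨Θ', hΘ'1, hΘ'2⟩ : ∃ Θ' : Limits.pullback (a ≫ G.t) G.t ⟶ Limits.pullback (a ≫ G.s) G.t,
      Θ' ≫ Limits.pullback.fst (a ≫ G.s) G.t = Limits.pullback.fst (a ≫ G.t) G.t ∧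
      Θ' ≫ Limits.pullback.snd (a ≫ G.s) G.t = ν :=
    ⟨Limits.pullback.lift (Limits.pullback.fst (a ≫ G.t) G.t) ν hνt.symm,
      Limits.pullback.lift_fst _ _ _, Limits.pullback.lift_snd _ _ _⟩
  have h12 : Θ ≫ Θ' = 𝟙 _ := by
    apply Limits.pullback.hom_ext
    · rw [Category.assoc, hΘ'1, hΘ1, Category.id_comp]
    · rw [Category.assoc, hΘ'2, Category.id_comp, hν, precomp_lc]
      have := inv_cmp_cmp G (Limits.pullback.fst (a ≫ G.s) G.t ≫ a)
        (Limits.pullback.snd (a ≫ G.s) G.t) hc0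
        (by rw [Category.assoc, G.i_s, G.comp_t _ _ hc0])
      rw [← this]
      apply lc_congr G
      · rw [← Category.assoc, ← Category.assoc, hΘ1]
      · rw [hΘ2, hμ₀]
  have h21 : Θ' ≫ Θ = 𝟙 _ := by
    apply Limits.pullback.hom_ext
    · rw [Category.assoc, hΘ1, hΘ'1, Category.id_comp]
    · rw [Category.assoc, hΘ2, Category.id_comp, hμ₀, precomp_lc]
      have := cmp_inv_cmp G (Limits.pullback.fst (a ≫ G.t) G.t ≫ a)
        (Limits.pullback.snd (a ≫ G.t) G.t)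
        (by rw [Category.assoc]; exact Limits.pullback.condition) hc1
        (by rw [G.comp_t _ _ hc1, Category.assoc _ _ G.t, G.i_t])
      rw [← this]
      apply lc_congr G
      · rw [← Category.assoc, hΘ'1]
      · rw [hΘ'2, hν]
  haveI : IsIso Θ := ⟨Θ', h12, h21⟩
  have hfac : μ₀ = Θ ≫ Limits.pullback.snd (a ≫ G.t) G.t := hΘ2.symm
  rw [← hμ₀, hfac]
  have h1 : IsOpenMap ⇑Θ := Θ.isOpenEmbedding.isOpenMap
  have h2 : IsOpenMap ⇑(Limits.pullback.snd (a ≫ G.t) G.t) :=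
    (Limits.pullback.snd (a ≫ G.t) G.t).isOpenMap
  rw [Scheme.Hom.comp_base, TopCat.coe_comp]
  exact h2.comp h1

/-- Let (U, R, s, t, c) be a groupoid scheme over S with U the spectrum of a field, W ⊆ R open and a : Z
→ R a morphism. Then the image of Z ×_{s∘a, U, t} W → R ×_{s,U,t} R → R (composition) is open. (A
groupoid scheme carries U, R, s, t, c, e, i over S with the groupoid axioms on T-points; 'finite
locally free' is finite, flat and locally of finite presentation; C ⊂ Γ(U) is the ring of functions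
a with s♯(a) = t♯(a) and M = Spec C.) -/
theorem result (S : Scheme.{u}) (G : Grpd.GroupoidScheme S) (k : Type u) [Field k] (eU : G.U ≅ Spec (CommRingCat.of k)) (W : G.R.Opens) (Z : Scheme.{u}) (a : Z ⟶ G.R) : IsOpen (Set.range ⇑(pullback.lift (pullback.fst (a ≫ G.s) (W.ι ≫ G.t) ≫ a) (pullback.snd (a ≫ G.s) (W.ι ≫ G.t) ≫ W.ι) ((Category.assoc _ _ _).trans (pullback.condition.trans (Category.assoc _ _ _).symm)) ≫ G.c)) := by

  haveI : Nonempty G.U := ⟨eU.inv (IsLocalRing.closedPoint k)⟩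
  haveI : IsIntegral G.U := isIntegral_of_isOpenImmersion eU.hom
  haveI : Subsingleton G.U := eU.hom.homeomorph.injective.subsingleton
  have hopen := isOpenMap_cmp G Z a
  let ω : pullback (a ≫ G.s) (W.ι ≫ G.t) ⟶ pullback (a ≫ G.s) G.t :=
    pullback.map (a ≫ G.s) (W.ι ≫ G.t) (a ≫ G.s) G.t (𝟙 Z) W.ι (𝟙 G.U) (by simp) (by simp)
  have hω1 : ω ≫ pullback.fst (a ≫ G.s) G.t = pullback.fst (a ≫ G.s) (W.ι ≫ G.t) := by
    show pullback.map _ _ _ _ _ _ _ _ _ ≫ _ = _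
    rw [pullback.map, pullback.lift_fst, Category.comp_id]
  have hω2 : ω ≫ pullback.snd (a ≫ G.s) G.t = pullback.snd (a ≫ G.s) (W.ι ≫ G.t) ≫ W.ι := by
    show pullback.map _ _ _ _ _ _ _ _ _ ≫ _ = _
    rw [pullback.map, pullback.lift_snd]
  have hfac : pullback.lift (pullback.fst (a ≫ G.s) (W.ι ≫ G.t) ≫ a)
      (pullback.snd (a ≫ G.s) (W.ι ≫ G.t) ≫ W.ι)
      ((Category.assoc _ _ _).trans (pullback.condition.trans (Category.assoc _ _ _).symm)) ≫ G.c =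
      ω ≫ (pullback.lift (pullback.fst (a ≫ G.s) G.t ≫ a) (pullback.snd (a ≫ G.s) G.t)
        ((Category.assoc _ _ _).trans pullback.condition) ≫ G.c) := by
    rw [Groth.Agent.S7453.precomp_lc]
    apply Groth.Agent.S7453.lc_congr G
    · rw [← Category.assoc, hω1]
    · rw [hω2]
  rw [hfac, Scheme.Hom.comp_base, TopCat.coe_comp, Set.range_comp]
  exact hopen _ ω.isOpenEmbedding.isOpen_range

end Groth.Agent.S1889
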