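import Groth.Statements.S1888
import Mathlib
import Groth.Agent.S7453
import Groth.Agent.S1889

set_option autoImplicit false
universe u
open CategoryTheory CategoryTheory.Limits AlgebraicGeometry
open Grpd

namespace Groth.Agent.S1888


/-- Let (U, R, s, t, c) be a groupoid scheme over S with U the spectrum of a field k, and r a point of R
such that both s and t induce isomorphisms from k to κ(r). Then there is an automorphism of the
scheme R carrying the identity point e to r. (The source's automorphism is x ↦ c(r, x); only the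
existence of an automorphism moving e to r is stated here.) (A groupoid scheme carries U, R, s, t,
c, e, i over S with the groupoid axioms on T-points; 'finite locally free' is finite, flat and
locally of finite presentation; C ⊂ Γ(U) is the ring of functions a with s♯(a) = t♯(a) and M = Spec
C.) -/
theorem result (S : Scheme.{u}) (G : Grpd.GroupoidScheme S) (k : Type u) [Field k] (eU : G.U ≅ Spec (CommRingCat.of k)) (r : G.R) (hs : IsIso (G.s.residueFieldMap r)) (ht : IsIso (G.t.residueFieldMap r)) : ∃ φ : G.R ≅ G.R, φ.hom (G.e (eU.inv (IsLocalRing.closedPoint k))) = r := by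

  haveI : Nonempty G.U := ⟨eU.inv (IsLocalRing.closedPoint k)⟩
  haveI : IsIntegral G.U := isIntegral_of_isOpenImmersion eU.hom
  haveI : Subsingleton G.U := eU.hom.homeomorph.injective.subsingleton
  have hiso : ∀ u : G.U, IsIso (G.U.fromSpecResidueField u) := by
    intro u
    have hcl : IsClosed ({u} : Set G.U) := by
      have : ({u} : Set G.U) = Set.univ := by
        ext v; simp [Subsingleton.elim v u]
      rw [this]; exact isClosed_univ
    haveI := isClosed_singleton_iff_isClosedImmersion.mp hcl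
    haveI : Surjective (G.U.fromSpecResidueField u) := ⟨fun v => by
      refine ⟨(Nonempty.some inferInstance), Subsingleton.elim _ _⟩⟩
    exact isIso_of_isClosedImmersion_of_surjective _
  obtain ⟨ξ, hξ⟩ : ∃ ξ : Spec (G.R.residueField r) ⟶ G.R, ξ = G.R.fromSpecResidueField r := ⟨_, rfl⟩
  haveI hσs : IsIso (ξ ≫ G.s) := by
    rw [hξ, ← Scheme.Hom.SpecMap_residueFieldMap_fromSpecResidueField]
    haveI := hiso (G.s r)
    infer_instance
  haveI hσt : IsIso (ξ ≫ G.t) := by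
    rw [hξ, ← Scheme.Hom.SpecMap_residueFieldMap_fromSpecResidueField]
    haveI := hiso (G.t r)
    infer_instance
  obtain ⟨ρ, hρ⟩ : ∃ ρ : G.U ⟶ G.R, ρ = inv (ξ ≫ G.s) ≫ ξ := ⟨_, rfl⟩
  have hρs : ρ ≫ G.s = 𝟙 _ := by rw [hρ, Category.assoc, IsIso.inv_hom_id]
  obtain ⟨θ, hθ⟩ : ∃ θ : G.U ⟶ G.U, θ = ρ ≫ G.t := ⟨_, rfl⟩
  haveI : IsIso θ := by
    rw [hθ, hρ, Category.assoc]; infer_instance
  have hρt : ρ ≫ G.t = θ := hθ.symm
  -- φ
  obtain ⟨α₁, hα₁⟩ : ∃ α₁ : G.R ⟶ G.R, α₁ = G.t ≫ ρ := ⟨_, rfl⟩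
  have hα₁s : α₁ ≫ G.s = G.t := by rw [hα₁, Category.assoc, hρs, Category.comp_id]
  have hα₁t : α₁ ≫ G.t = G.t ≫ θ := by rw [hα₁, Category.assoc, hρt]
  have h1 : α₁ ≫ G.s = 𝟙 G.R ≫ G.t := by rw [hα₁s, Category.id_comp]
  obtain ⟨φ, hφ⟩ : ∃ φ : G.R ⟶ G.R, φ = pullback.lift α₁ (𝟙 G.R) h1 ≫ G.c := ⟨_, rfl⟩
  have hφt : φ ≫ G.t = G.t ≫ θ := by rw [hφ, G.comp_t _ _ h1, hα₁t]
  -- ψ
  obtain ⟨α₂, hα₂⟩ : ∃ α₂ : G.R ⟶ G.R, α₂ = G.t ≫ inv θ ≫ ρ := ⟨_, rfl⟩
  have hα₂s : α₂ ≫ G.s = G.t ≫ inv θ := by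
    rw [hα₂, Category.assoc, Category.assoc, hρs, Category.comp_id]
  have hα₂t : α₂ ≫ G.t = G.t := by
    rw [hα₂, Category.assoc, Category.assoc, hρt, IsIso.inv_hom_id, Category.comp_id]
  have h2 : (α₂ ≫ G.i) ≫ G.s = 𝟙 G.R ≫ G.t := by
    rw [Category.assoc, G.i_s, hα₂t, Category.id_comp]
  obtain ⟨ψ, hψ⟩ : ∃ ψ : G.R ⟶ G.R, ψ = pullback.lift (α₂ ≫ G.i) (𝟙 G.R) h2 ≫ G.c := ⟨_, rfl⟩
  have hψt : ψ ≫ G.t = G.t ≫ inv θ := by
    rw [hψ, G.comp_t _ _ h2, Category.assoc, G.i_t, hα₂s]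
  have hφψ : φ ≫ ψ = 𝟙 _ := by
    rw [hψ, Groth.Agent.S7453.precomp_lc]
    have key := Groth.Agent.S1889.inv_cmp_cmp G α₁ (𝟙 G.R) h1
      (by rw [Category.assoc, G.i_s, G.comp_t _ _ h1])
    refine (Groth.Agent.S7453.lc_congr G ?_ ?_ _ _).trans key
    · have hφα₂ : φ ≫ α₂ = α₁ := by
        rw [hα₂, ← Category.assoc, hφt, Category.assoc, IsIso.hom_inv_id_assoc, hα₁]
      rw [← Category.assoc, hφα₂]
    · rw [Category.comp_id, hφ]
  have hψφ : ψ ≫ φ = 𝟙 _ := by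
    rw [hφ, Groth.Agent.S7453.precomp_lc]
    have key := Groth.Agent.S1889.cmp_inv_cmp G α₂ (𝟙 G.R) (by rw [hα₂t, Category.id_comp]) h2
      (by rw [G.comp_t _ _ h2, Category.assoc, G.i_t])
    refine (Groth.Agent.S7453.lc_congr G ?_ ?_ _ _).trans key
    · rw [hα₁, ← Category.assoc, hψt, Category.assoc, hα₂]
    · rw [Category.comp_id, hψ]
  have heφ : G.e ≫ φ = ρ := by
    rw [hφ, Groth.Agent.S7453.precomp_lc]
    refine (Groth.Agent.S7453.lc_congr G ?_ ?_ _ _).trans (G.comp_e ρ)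
    · rw [hα₁, ← Category.assoc, G.e_t, Category.id_comp]
    · rw [Category.comp_id, ← Category.assoc, hρs, Category.id_comp]
  refine ⟨⟨φ, ψ, hφψ, hψφ⟩, ?_⟩
  show φ (G.e _) = r
  have hξr : ∀ z, ξ z = r := by
    intro z; rw [hξ]; exact Scheme.fromSpecResidueField_apply _ _
  rw [← Scheme.Hom.comp_apply, heφ, hρ, Scheme.Hom.comp_apply]
  exact hξr _

end Groth.Agent.S1888
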