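import Groth.Statements.S18887
import Mathlib
-- import your own Groth.Agent.* helpers here

set_option autoImplicit false
universe u v
open DblCov

namespace Groth.Agent.S18887

open TensorProduct

theorem mat2 {A : Type*} [CommRing A] (X Y : Matrix (Fin 2) (Fin 2) A) :
    X * Y + Y * X = X.trace • Y + Y.trace • X -
      (X.trace * Y.trace - (X * Y).trace) • (1 : Matrix (Fin 2) (Fin 2) A) := by
  ext i j
  fin_cases i <;> fin_cases j <;>
    simp [Matrix.mul_apply, Fin.sum_univ_two, Matrix.trace_fin_two] <;> ring


/-- Let A be a commutative ring in which 2 is invertible and B a commutative A-algebra which is free of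
rank 2 as an A-module and whose trace form tr : B → A has kernel free of rank 1 over A. Then σ(b) =
tr(b) − b defines an A-algebra endomorphism σ of B with σ ≠ id and σ ∘ σ = id, and the elements
fixed by σ are exactly the image of A in B. -/
theorem result {A : Type u} {B : Type v} [CommRing A] [CommRing B]
    [Algebra A B] (h2 : IsUnit (2 : A)) [Module.Free A B] [Module.Finite A B]
    (hrk : Module.finrank A B = 2)
    [Module.Free A (LinearMap.ker (Algebra.trace A B))]
    (hker : Module.finrank A (LinearMap.ker (Algebra.trace A B)) = 1) :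
    ∃ σ : B →ₐ[A] B, (∀ b : B, σ b = algebraMap A B (Algebra.trace A B b) - b) ∧
      σ ≠ AlgHom.id A B ∧ σ.comp σ = AlgHom.id A B ∧
      ∀ b : B, σ b = b ↔ b ∈ Set.range (algebraMap A B) := by
  have hnt : Nontrivial A := by
    by_contra h
    rw [not_nontrivial_iff_subsingleton] at h
    have h1 : Module.finrank A B = 1 := by simp [Module.finrank, rank_subsingleton]
    omega
  let bs : Module.Basis (Fin 2) A B := Module.finBasisOfFinrankEq A B hrk
  have htralg : ∀ a : A, Algebra.trace A B (algebraMap A B a) = 2 * a := by
    intro a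
    rw [Algebra.trace_algebraMap, hrk]; simp
  have key : ∀ b c : B, (2 : A) • (b * c) = Algebra.trace A B b • c + Algebra.trace A B c • b -
      algebraMap A B (Algebra.trace A B b * Algebra.trace A B c - Algebra.trace A B (b * c)) := by
    intro b c
    apply Algebra.leftMulMatrix_injective bs
    have := mat2 (Algebra.leftMulMatrix bs b) (Algebra.leftMulMatrix bs c)
    rw [← map_mul, ← map_mul, mul_comm c b, ← Algebra.trace_eq_matrix_trace bs,
      ← Algebra.trace_eq_matrix_trace bs, ← Algebra.trace_eq_matrix_trace bs] at this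
    rw [map_smul, map_sub, map_add, map_smul, map_smul, AlgHom.commutes,
      Algebra.algebraMap_eq_smul_one, ← this, two_smul]
  let σl : B →ₗ[A] B := (Algebra.linearMap A B) ∘ₗ (Algebra.trace A B) - LinearMap.id
  have hσl : ∀ b, σl b = algebraMap A B (Algebra.trace A B b) - b := fun b => rfl
  have hmul : ∀ b c, σl (b * c) = σl b * σl c := by
    intro b c
    rw [hσl, hσl, hσl]
    have h := key b c
    rw [two_smul, Algebra.smul_def, Algebra.smul_def] at h
    rw [map_sub, map_mul] at h
    linear_combination -h
  have hone : σl 1 = 1 := by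
    rw [hσl, ← map_one (algebraMap A B), htralg, ← map_sub]
    congr 1; ring
  have hcomm : ∀ a : A, σl (algebraMap A B a) = algebraMap A B a := by
    intro a
    rw [hσl, htralg, ← map_sub]
    congr 1; ring
  let σ : B →ₐ[A] B := AlgHom.ofLinearMap σl hone hmul
  have hσ : ∀ b, σ b = algebraMap A B (Algebra.trace A B b) - b := fun b => rfl
  have hinv : ∀ b, σ (σ b) = b := by
    intro b
    rw [hσ (σ b), hσ b, map_sub, htralg, map_sub]
    rw [map_mul]
    have : (algebraMap A B) 2 = 2 := map_ofNat _ 2
    rw [this]; ring
  refine ⟨σ, hσ, ?_, ?_, ?_⟩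
  · intro hid
    have : Module.Finite A (LinearMap.ker (Algebra.trace A B)) :=
      Module.finite_of_finrank_eq_succ hker
    let bk := Module.finBasisOfFinrankEq A _ hker
    have hy : (bk 0 : B) ≠ 0 := fun h0 => bk.ne_zero 0 (Subtype.ext h0)
    have hty : Algebra.trace A B (bk 0 : B) = 0 := (bk 0).2
    have h1 : σ (bk 0 : B) = (bk 0 : B) := by rw [hid]; rfl
    rw [hσ, hty, map_zero, zero_sub] at h1
    have h3 : (2 : A) • (bk 0 : B) = 0 := by
      rw [two_smul]
      nth_rewrite 1 [← h1]
      exact neg_add_cancel _
    obtain ⟨u, hu⟩ := h2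
    rw [← hu] at h3
    have := congrArg (fun z => (↑u⁻¹ : A) • z) h3
    simp only [smul_smul, Units.inv_mul, one_smul, smul_zero] at this
    exact hy this
  · ext b; exact hinv b
  · intro b
    constructor
    · intro hb
      rw [hσ, sub_eq_iff_eq_add, ← two_smul A b] at hb
      obtain ⟨u, hu⟩ := h2
      refine ⟨↑u⁻¹ * Algebra.trace A B b, ?_⟩
      rw [map_mul, hb, ← hu, ← Algebra.smul_def, smul_smul, Units.inv_mul, one_smul]
    · rintro ⟨a, rfl⟩
      exact hcomm a

end Groth.Agent.S18887
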