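import Groth.Statements.S18888
import Mathlib
-- import your own Groth.Agent.* helpers here

set_option autoImplicit false
universe u v w
open CAlg

namespace Groth.Agent.S18888

open TensorProduct

theorem ufd_aux {A K : Type*} [CommRing A] [IsDomain A] [UniqueFactorizationMonoid A]
    [Field K] [Algebra A K] [IsFractionRing A K] (d : A) (hd : Squarefree d) (β : K)
    (h : β * β * algebraMap A K d ∈ Set.range (algebraMap A K)) :
    β ∈ Set.range (algebraMap A K) := by
  obtain ⟨c, hc⟩ := h
  obtain ⟨a, b, hab, rfl⟩ := IsFractionRing.exists_reduced_fraction (A := A) (K := K) β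
  have hb0 : algebraMap A K (b : A) ≠ 0 :=
    IsFractionRing.to_map_ne_zero_of_mem_nonZeroDivisors b.2
  have h1 : a * a * d = c * (b * b) := by
    apply IsFractionRing.injective A K
    have := hc
    rw [IsFractionRing.mk'_eq_div] at this
    simp only [map_mul]
    field_simp at this
    linear_combination -this
  have h2 : (b : A) * b ∣ a * a * d := ⟨c, by rw [h1]; ring⟩
  have h3 : IsRelPrime ((b : A) * b) (a * a) :=
    (IsRelPrime.mul_right hab.symm hab.symm).mul_left (IsRelPrime.mul_right hab.symm hab.symm)
  have h4 : (b : A) * b ∣ d := h3.dvd_of_dvd_mul_left h2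
  have h5 : IsUnit (b : A) := hd _ h4
  obtain ⟨u, hu⟩ := h5
  refine ⟨a * ↑u⁻¹, ?_⟩
  rw [IsFractionRing.mk'_eq_div, ← hu, map_mul, eq_div_iff (by rw [hu]; exact hb0), mul_assoc,
    ← map_mul, Units.inv_mul, map_one, mul_one]


/-- Let A be a unique factorisation domain in which 2 is invertible, with fraction field K, and let L ⊇
K be a quadratic extension field (of degree 2 over K) containing an element y ∉ K whose square is a
squarefree element d of A. Then the integral closure of A in L equals the A-subalgebra A[y]
generated by y. -/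
theorem result {A : Type u} {K : Type v} {L : Type w}
    [CommRing A] [IsDomain A] [UniqueFactorizationMonoid A] [Field K] [Algebra A K] [IsFractionRing A K]
    [Field L] [Algebra K L] [Algebra A L] [IsScalarTower A K L]
    (h2 : IsUnit (2 : A)) (hL : Module.finrank K L = 2)
    (d : A) (hd : Squarefree d) (y : L) (hy : y * y = algebraMap A L d)
    (hyK : y ∉ Set.range (algebraMap K L)) :
    integralClosure A L = Algebra.adjoin A {y} := by
  have hfd : FiniteDimensional K L := Module.finite_of_finrank_eq_succ hL
  have hyint : IsIntegral A y := by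
    refine ⟨Polynomial.X ^ 2 - Polynomial.C d, Polynomial.monic_X_pow_sub_C d (by norm_num), ?_⟩
    simp [pow_two, hy]
  apply le_antisymm
  swap
  · apply Algebra.adjoin_le
    rintro _ rfl
    exact hyint
  intro x hx
  have hx' : IsIntegral A x := hx
  have hli : LinearIndependent K ![(1 : L), y] := by
    rw [LinearIndependent.pair_iff]
    intro s t hst
    have ht : t = 0 := by
      by_contra ht
      apply hyK
      refine ⟨-s / t, ?_⟩
      have : t • y = -(s • (1 : L)) := by rw [eq_neg_iff_add_eq_zero, add_comm]; exact hst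
      rw [Algebra.smul_def, Algebra.smul_def, mul_one] at this
      rw [map_div₀, map_neg, div_eq_iff (by simpa using ht), ← this, mul_comm]
    refine ⟨?_, ht⟩
    rw [ht, zero_smul, add_zero, Algebra.smul_def, mul_one] at hst
    simpa using hst
  let b : Module.Basis (Fin 2) K L := basisOfLinearIndependentOfCardEqFinrank hli (by simp [hL])
  have hb0 : b 0 = 1 := by simp [b]
  have hb1 : b 1 = y := by simp [b]
  set α := b.repr x 0 with hα
  set β := b.repr x 1 with hβ
  have hxab : x = α • 1 + β • y := by
    conv_lhs => rw [← b.sum_repr x, Fin.sum_univ_two, hb0, hb1]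
  have hdK : algebraMap A L d = algebraMap K L (algebraMap A K d) :=
    IsScalarTower.algebraMap_apply A K L d
  have hxy : x * y = (β * algebraMap A K d) • 1 + α • y := by
    rw [hxab, add_mul, smul_mul_assoc, one_mul, smul_mul_assoc, hy, hdK, Algebra.smul_def β,
      ← map_mul, add_comm, Algebra.smul_def (β * (algebraMap A K) d) (1 : L), mul_one]
  have hM00 : Algebra.leftMulMatrix b x 0 0 = α := by
    rw [Algebra.leftMulMatrix_eq_repr_mul, hb0, mul_one]
  have hM10 : Algebra.leftMulMatrix b x 1 0 = β := by
    rw [Algebra.leftMulMatrix_eq_repr_mul, hb0, mul_one]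
  have hM01 : Algebra.leftMulMatrix b x 0 1 = β * algebraMap A K d := by
    rw [Algebra.leftMulMatrix_eq_repr_mul, hb1, hxy, ← hb0, ← hb1]
    simp
  have hM11 : Algebra.leftMulMatrix b x 1 1 = α := by
    rw [Algebra.leftMulMatrix_eq_repr_mul, hb1, hxy, ← hb0, ← hb1]
    simp
  have htr : Algebra.trace K L x = 2 * α := by
    rw [Algebra.trace_eq_matrix_trace b, Matrix.trace_fin_two, hM00, hM11]; ring
  have hnm : Algebra.norm K x = α * α - β * β * algebraMap A K d := by
    rw [Algebra.norm_eq_matrix_det b, Matrix.det_fin_two, hM00, hM11, hM01, hM10]; ring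
  have hic : IsIntegrallyClosed A := inferInstance
  obtain ⟨tα, htα⟩ := IsIntegrallyClosed.isIntegral_iff.mp
    (Algebra.isIntegral_trace (R := A) (L := K) (F := L) hx')
  obtain ⟨nα, hnα⟩ := IsIntegrallyClosed.isIntegral_iff.mp
    (Algebra.isIntegral_norm (R := A) K hx')
  obtain ⟨u, hu⟩ := h2
  have hαA : α = algebraMap A K (↑u⁻¹ * tα) := by
    rw [map_mul, htα, htr, ← mul_assoc]
    have : algebraMap A K ↑u⁻¹ * 2 = 1 := by
      rw [← map_ofNat (algebraMap A K) 2, ← hu, ← map_mul, Units.inv_mul, map_one]
    rw [this, one_mul]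
  obtain ⟨β', hβ'⟩ := ufd_aux d hd β ⟨(↑u⁻¹ * tα) * (↑u⁻¹ * tα) - nα, by
    rw [map_sub, map_mul, ← hαA, hnα, hnm]; ring⟩
  rw [hxab, hαA, ← hβ', Algebra.smul_def, Algebra.smul_def, mul_one,
    ← IsScalarTower.algebraMap_apply, ← IsScalarTower.algebraMap_apply]
  refine Subalgebra.add_mem _ (Subalgebra.algebraMap_mem _ _)
    (Subalgebra.mul_mem _ (Subalgebra.algebraMap_mem _ _) (Algebra.subset_adjoin rfl))

end Groth.Agent.S18888
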