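import Groth.Statements.S18889
import Mathlib
import Groth.Agent.Lib.Helper20.InvDescent
import Groth.Agent.Lib.Helper20.InvBaseChange

set_option autoImplicit false
universe u v w
open CAlg

namespace Groth.Agent.S18889



open TensorProduct
open Groth.Agent.Lib.Helper20.HandColim Groth.Agent.Lib.Helper20.HandColimProps
  Groth.Agent.Lib.Helper20.HandColimModel Groth.Agent.Lib.Helper20.HandColimEndo
  Groth.Agent.Lib.Helper20.InvDescent Groth.Agent.Lib.Helper20.InvBaseChange

/-- Let R be a commutative ring, A a commutative R-algebra of finite presentation, and G a finite group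
acting on A by R-algebra automorphisms such that the order of G is invertible in R. Then the ring of
invariants A^G is an R-algebra of finite presentation. (The source takes G to be a group of
automorphisms of A; here G acts through a possibly non-faithful action, which changes nothing since
the invariants and the invertibility of the order only depend on the image of G.) -/
theorem result {R : Type u} {A : Type v} [CommRing R] [CommRing A]
    [Algebra R A] [Algebra.FinitePresentation R A]
    {G : Type w} [Group G] [Finite G] [MulSemiringAction G A] [SMulCommClass G R A]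
    (hG : IsUnit ((Nat.card G : ℕ) : R)) :
    Algebra.FinitePresentation R (FixedPoints.subalgebra R A G) := by

  classical
  obtain ⟨N, a, C₀, _, _, _, ⟨e⟩⟩ := exists_pointed_model R A
  have hcP := (HC.of_fg_subalgebras R).pointed a
  let eG : G ≃ Fin (Nat.card G) := Finite.equivFin G
  haveI : SMulCommClass G (Pt a) A := inferInstanceAs (SMulCommClass G R A)
  let ρ : Fin (Nat.card G) → (Pt a ⊗[MvPolynomial (Fin N) ℤ] C₀ →ₐ[Pt a]
      Pt a ⊗[MvPolynomial (Fin N) ℤ] C₀) :=
    fun x => (e.symm.toAlgHom.comp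
      (MulSemiringAction.toAlgHom (Pt a) A (eG.symm x))).comp e.toAlgHom
  have hρ : ∀ x s, ρ x s = e.symm ((eG.symm x) • e s) := fun _ _ => rfl
  have hG' : IsUnit ((Nat.card G : ℕ) : Pt a) := hG
  obtain ⟨⟨k, c, hc⟩, ρi, hmul, hone, hcompat, hunit⟩ := descent_action
    (Algebra.Presentation.ofFinitePresentation (MvPolynomial (Fin N) ℤ) C₀) hcP
    (fun x y => eG (eG.symm x * eG.symm y)) (eG 1) ρ (by
      intro x y
      apply AlgHom.ext
      intro s
      change ρ _ s = ρ x (ρ y s)
      rw [hρ, hρ, hρ, Equiv.symm_apply_apply, e.apply_symm_apply, mul_smul])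
    (by
      apply AlgHom.ext
      intro s
      change ρ _ s = s
      rw [hρ, Equiv.symm_apply_apply, one_smul, e.symm_apply_apply])
    (Nat.card G) hG'
  -- the stage
  let gi : Pt c →ₐ[MvPolynomial (Fin N) ℤ] Pt a :=
    Pt.algHom c a ((Algebra.adjoin ℤ (k : Set R)).val : _ →+* R) hc
  have hmul' : ∀ (x y : G) s, ρi (eG (x * y)) s = ρi (eG x) (ρi (eG y) s) := by
    intro x y s
    have := hmul (eG x) (eG y)
    simp only [Equiv.symm_apply_apply] at this
    rw [this]
    rfl
  letI : MulSemiringAction G (Pt c ⊗[MvPolynomial (Fin N) ℤ] C₀) :=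
    { smul := fun x s => ρi (eG x) s
      one_smul := fun s => by
        change ρi (eG 1) s = s
        rw [hone]
        rfl
      mul_smul := fun x y s => hmul' x y s
      smul_zero := fun x => map_zero (ρi (eG x))
      smul_add := fun x s t => map_add (ρi (eG x)) s t
      smul_one := fun x => map_one (ρi (eG x))
      smul_mul := fun x s t => map_mul (ρi (eG x)) s t }
  have hact : ∀ (x : G) (s : Pt c ⊗[MvPolynomial (Fin N) ℤ] C₀), x • s = ρi (eG x) s :=
    fun _ _ => rfl
  haveI : SMulCommClass G (Pt c) (Pt c ⊗[MvPolynomial (Fin N) ℤ] C₀) :=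
    ⟨fun x r s => by rw [hact, hact, map_smul]⟩
  haveI : Algebra.FiniteType ℤ (Algebra.adjoin ℤ (k : Set R)) :=
    Algebra.FiniteType.adjoin_of_finite (Finset.finite_toSet k)
  haveI : IsNoetherianRing (Algebra.adjoin ℤ (k : Set R)) :=
    Algebra.FiniteType.isNoetherianRing ℤ _
  haveI : IsNoetherianRing (Pt c) :=
    inferInstanceAs (IsNoetherianRing (Algebra.adjoin ℤ (k : Set R)))
  haveI hfp := finitePresentation_fixedPoints_of_isNoetherianRing (Pt c)
    (Pt c ⊗[MvPolynomial (Fin N) ℤ] C₀) G
  letI : Algebra (Pt c) (Pt a) := (gi : Pt c →+* Pt a).toAlgebra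
  letI : Algebra (Pt c) A := ((algebraMap (Pt a) A).comp (gi : Pt c →+* Pt a)).toAlgebra
  haveI : IsScalarTower (Pt c) (Pt a) A := IsScalarTower.of_algebraMap_eq (fun _ => rfl)
  haveI : IsScalarTower (MvPolynomial (Fin N) ℤ) (Pt c) (Pt a) :=
    IsScalarTower.of_algebraMap_eq (fun p => (gi.commutes p).symm)
  let μ : Pt c ⊗[MvPolynomial (Fin N) ℤ] C₀ →ₐ[MvPolynomial (Fin N) ℤ]
      Pt a ⊗[MvPolynomial (Fin N) ℤ] C₀ :=
    Algebra.TensorProduct.map gi (AlgHom.id (MvPolynomial (Fin N) ℤ) C₀)
  let φ : Pt c ⊗[MvPolynomial (Fin N) ℤ] C₀ →ₐ[Pt c] A :=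
    { toRingHom := (e.toAlgHom.toRingHom).comp μ.toRingHom
      commutes' := fun r => by
        change e (μ (algebraMap (Pt c) _ r)) = algebraMap (Pt a) A (gi r)
        rw [Algebra.TensorProduct.algebraMap_apply, Algebra.TensorProduct.map_tmul, map_one,
          ← e.commutes, Algebra.TensorProduct.algebraMap_apply]
        rfl }
  have hφ' : ∀ s, φ s = e (Algebra.TensorProduct.map gi
      (AlgHom.id (MvPolynomial (Fin N) ℤ) C₀) s) := fun _ => rfl
  have hφ : ∀ (x : G) (s : Pt c ⊗[MvPolynomial (Fin N) ℤ] C₀), φ (x • s) = x • φ s := by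
    intro x s
    rw [hφ', hφ', hact, hcompat, hρ, e.apply_symm_apply, Equiv.symm_apply_apply]
  have hbij : Function.Bijective
      (Algebra.TensorProduct.lift (Algebra.ofId (Pt a) A) φ (fun _ _ => Commute.all _ _) :
        Pt a ⊗[Pt c] (Pt c ⊗[MvPolynomial (Fin N) ℤ] C₀) →ₐ[Pt a] A) := by
    have key : ∀ t, (Algebra.TensorProduct.lift (Algebra.ofId (Pt a) A) φ
        (fun _ _ => Commute.all _ _) :
        Pt a ⊗[Pt c] (Pt c ⊗[MvPolynomial (Fin N) ℤ] C₀) →ₐ[Pt a] A) t =
        e (Algebra.TensorProduct.cancelBaseChange (MvPolynomial (Fin N) ℤ) (Pt c) (Pt a) (Pt a)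
          C₀ t) := by
      intro t
      induction t using TensorProduct.induction_on with
      | zero => simp
      | add x y hx hy => rw [map_add, map_add, map_add, hx, hy]
      | tmul r s =>
        induction s using TensorProduct.induction_on with
        | zero => simp
        | add x y hx hy => rw [TensorProduct.tmul_add, map_add, map_add, map_add, hx, hy]
        | tmul r' b =>
          rw [Algebra.TensorProduct.lift_tmul, Algebra.TensorProduct.cancelBaseChange_tmul,
            Algebra.ofId_apply, hφ', Algebra.TensorProduct.map_tmul, AlgHom.id_apply]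
          have e1 : (r' • r) ⊗ₜ[MvPolynomial (Fin N) ℤ] b =
              r • ((gi r') ⊗ₜ[MvPolynomial (Fin N) ℤ] b) := by
            rw [TensorProduct.smul_tmul', smul_eq_mul]
            congr 1
            change gi r' * r = r * gi r'
            exact mul_comm _ _
          rw [e1, map_smul, Algebra.smul_def]
    have : ⇑(Algebra.TensorProduct.lift (Algebra.ofId (Pt a) A) φ
        (fun _ _ => Commute.all _ _) :
        Pt a ⊗[Pt c] (Pt c ⊗[MvPolynomial (Fin N) ℤ] C₀) →ₐ[Pt a] A) =
        e ∘ (Algebra.TensorProduct.cancelBaseChange (MvPolynomial (Fin N) ℤ) (Pt c) (Pt a) (Pt a)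
          C₀) := funext key
    rw [this]
    exact e.bijective.comp (AlgEquiv.bijective _)
  exact finitePresentation_fixedPoints_of_baseChange (R₀ := Pt c)
    (S₀ := Pt c ⊗[MvPolynomial (Fin N) ℤ] C₀) (R := Pt a) (A := A) hunit φ hφ hbij

end Groth.Agent.S18889
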