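import Groth.Statements.S18891
import Mathlib
-- import your own Groth.Agent.* helpers here

set_option autoImplicit false
universe u
open CategoryTheory CategoryTheory.Limits AlgebraicGeometry
open Mor

namespace Groth.Agent.S18891

open TensorProduct
open AlgebraicGeometry CategoryTheory Limits


/-- Let f : X → Y be a morphism of schemes which is proper and formally unramified, and such that for
every algebraically closed field Ω the map X(Ω) → Y(Ω), g ↦ g ≫ f, is injective. Then f is a closed
immersion. -/
theorem result {X Y : Scheme.{u}} (f : X ⟶ Y)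
    [IsProper f] [FormallyUnramified f]
    (hinj : ∀ (Ω : Type u) [Field Ω] [IsAlgClosed Ω],
      Function.Injective (fun g : Spec (CommRingCat.of Ω) ⟶ X => g ≫ f)) :
    IsClosedImmersion f := by
  rw [IsClosedImmersion.iff_isProper_and_mono]
  refine ⟨inferInstance, ?_⟩
  rw [← pullback.isIso_diagonal_iff, isIso_iff_isOpenImmersion_and_surjective]
  refine ⟨inferInstance, ⟨fun z => ?_⟩⟩
  obtain ⟨Ω, _, _, g, hgz⟩ : ∃ (Ω : Type u) (_ : Field Ω) (_ : IsAlgClosed Ω)
      (g : Spec (CommRingCat.of Ω) ⟶ pullback f f), ∀ pt, g pt = z := by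
    refine ⟨AlgebraicClosure ((pullback f f).residueField z), inferInstance, inferInstance,
      Spec.map (CommRingCat.ofHom (algebraMap ((pullback f f).residueField z) _)) ≫
      (pullback f f).fromSpecResidueField z, fun pt => ?_⟩
    rw [Scheme.Hom.comp_apply]
    exact Scheme.fromSpecResidueField_apply _ _
  have hg : g ≫ pullback.fst f f = g ≫ pullback.snd f f := by
    apply hinj Ω
    simp only [Category.assoc, pullback.condition]
  have hfac : g = (g ≫ pullback.fst f f) ≫ pullback.diagonal f := by
    apply pullback.hom_ext
    · rw [Category.assoc, pullback.diagonal_fst, Category.comp_id]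
    · rw [Category.assoc, pullback.diagonal_snd, Category.comp_id, hg]
  obtain ⟨pt⟩ : Nonempty (Spec (CommRingCat.of Ω)) := inferInstance
  refine ⟨(g ≫ pullback.fst f f) pt, ?_⟩
  have h3 := congrArg (fun h : Spec (CommRingCat.of Ω) ⟶ pullback f f => h pt) hfac
  simp only [Scheme.Hom.comp_apply] at h3 ⊢
  rw [← h3, hgz]

end Groth.Agent.S18891
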