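import Groth.Statements.S18895
import Groth.Agent.S1564
import Groth.Agent.S16754
import Groth.Agent.Lib.Helper2.DegAdd.GeomConn
import Groth.Agent.Lib.Helper21.FieldDvd
import Groth.Agent.Lib.Helper14.ReducedEtale
-- import your own Groth.Agent.* helpers here

set_option autoImplicit false
universe u
open CategoryTheory CategoryTheory.Limits AlgebraicGeometry
open Curves

namespace Groth.Agent.S18895

attribute [local instance] Groth.Agent.Lib.Helper21.FieldDvd.algΓ

/-- Let k be an algebraically closed field of characteristic different from 2 (the standing convention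
of the section; it plays no role here) and X a connected smooth proper curve over k of genus dim_k
H¹(X, O_X) ≥ 1. For every invertible O_X-module L of positive degree one has dim_k H⁰(X, L) ≤ deg L. -/
theorem result (k : Type u) [Field k] [IsAlgClosed k] (h2 : (2 : k) ≠ 0)
    (X : Scheme.{u}) [X.Over (Spec (CommRingCat.of k))]
    [IsProper (X ↘ Spec (CommRingCat.of k))] [Smooth (X ↘ Spec (CommRingCat.of k))] [ConnectedSpace ↥X]
    (hX : topologicalKrullDim ↥X = 1) (hg : 1 ≤ Curv2.genus k X)
    (L : X.Modules) (hL : PicF.IsInvertible L) (hdeg : 0 < Curv2.deg k X L 1) :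
    (Module.finrank k (Coh.HH X L 0) : ℤ) ≤ Curv2.deg k X L 1 := by
  have hred : IsReduced X :=
    Groth.Agent.Lib.Helper14.isReduced_of_smooth_scheme (X ↘ Spec (CommRingCat.of k))
  have hfield : IsField (Γ(X, ⊤) : Type u) := Groth.Agent.Lib.Helper21.FieldDvd.isField_Γ k X
  have hfin : Module.Finite k (Γ(X, ⊤) : Type u) := Groth.Agent.Lib.Helper21.FieldDvd.finite_Γ k X
  have h0Γ : Module.finrank k (Γ(X, ⊤) : Type u) = 1 := by
    have hdom : IsDomain (Γ(X, ⊤) : Type u) := hfield.isDomain
    have hint : Algebra.IsIntegral k (Γ(X, ⊤) : Type u) := Algebra.IsIntegral.of_finite k _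
    have hbij : Function.Bijective (Algebra.linearMap k (Γ(X, ⊤) : Type u)) :=
      IsAlgClosed.algebraMap_bijective_of_isIntegral (k := k) (K := (Γ(X, ⊤) : Type u))
    rw [← (LinearEquiv.ofBijective _ hbij).finrank_eq]
    exact Module.finrank_self k
  have h0 : Module.finrank k (Coh.HH X (Coh.structureModule X) 0) = 1 := by
    rw [(Groth.Agent.Lib.Helper21.FieldDvd.hh0LinearEquiv k X).finrank_eq]
    exact h0Γ
  have hgc : GeometricallyConnected (X ↘ Spec (CommRingCat.of k)) :=
    ((Groth.Agent.S16754.result k X hX).1).mp h0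
  have hint : IsIntegral X :=
    Groth.Agent.Lib.Helper2.DegAdd.isIntegral_of_geometricallyConnected k X hX
  by_cases hs : Nontrivial (Coh.HH X L 0)
  · obtain ⟨h1, h2⟩ := Groth.Agent.S1564.result k X hX h0 L hL hs
    rcases h1.lt_or_eq with hlt | heq
    · omega
    · have := h2 heq hdeg
      omega
  · rw [not_nontrivial_iff_subsingleton] at hs
    have : Module.finrank k (Coh.HH X L 0) = 0 := Module.finrank_zero_of_subsingleton
    rw [this]
    exact_mod_cast hdeg.le

end Groth.Agent.S18895
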