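import Groth.Statements.S18899
import Mathlib
-- import your own Groth.Agent.* helpers here

set_option autoImplicit false
universe u v w
open CAlg

namespace Groth.Agent.S18899

open TensorProduct

theorem step1 {A : Type*} [CommRing A] {G : Type*} [Group G] [Finite G] [MulSemiringAction G A]
    {K : Type*} [Field K] (f₁ f₂ : A →+* K)
    (h : ∀ a : A, (∀ g : G, g • a = a) → f₁ a = f₂ a) (a : A) :
    ∃ g : G, f₂ a = f₁ (g • a) := by
  cases nonempty_fintype G
  have h12 : (MulSemiringAction.charpoly G a).map f₁ = (MulSemiringAction.charpoly G a).map f₂ := by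
    ext n
    rw [Polynomial.coeff_map, Polynomial.coeff_map]
    exact h _ (fun g => MulSemiringAction.smul_coeff_charpoly a n g)
  have h0 : ((MulSemiringAction.charpoly G a).map f₂).eval (f₂ a) = 0 := by
    rw [Polynomial.eval_map, Polynomial.eval₂_hom, MulSemiringAction.eval_charpoly, map_zero]
  rw [← h12, MulSemiringAction.charpoly_eq, Polynomial.map_prod, Polynomial.eval_prod,
    Finset.prod_eq_zero_iff] at h0
  obtain ⟨g, -, hg⟩ := h0
  refine ⟨g, ?_⟩
  simpa [sub_eq_zero] using hg


/-- Let A be a commutative ring on which a finite group G acts by ring automorphisms, with ring of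
invariants A^G, and let K be a field. If two ring homomorphisms f₁, f₂ : A → K have the same
restriction to A^G, then f₂ = f₁ ∘ γ for some γ ∈ G. -/
theorem result {A : Type u} [CommRing A] {G : Type v} [Group G] [Finite G]
    [MulSemiringAction G A] {K : Type w} [Field K] (f₁ f₂ : A →+* K)
    (h : ∀ a : A, (∀ g : G, g • a = a) → f₁ a = f₂ a) :
    ∃ γ : G, ∀ a : A, f₂ a = f₁ (γ • a) := by
  classical
  cases nonempty_fintype G
  by_contra hcon
  push Not at hcon
  choose a ha using hcon
  let e : G ≃ Fin (Fintype.card G) := Fintype.equivFin G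
  let p : Polynomial A := ∑ g : G, Polynomial.C (a g) * Polynomial.X ^ (e g : ℕ)
  have hp : ∀ g : G, p.coeff (e g) = a g := by
    intro g
    simp only [p, Polynomial.finsetSum_coeff, Polynomial.coeff_C_mul, Polynomial.coeff_X_pow]
    rw [Finset.sum_eq_single g]
    · simp
    · intro g' _ hne
      have : (e g : ℕ) ≠ (e g' : ℕ) := fun h' => hne (e.injective (Fin.ext h')).symm
      simp [this]
    · simp
  let F₁ : Polynomial A →+* RatFunc K :=
    (algebraMap (Polynomial K) (RatFunc K)).comp (Polynomial.mapRingHom f₁)
  let F₂ : Polynomial A →+* RatFunc K :=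
    (algebraMap (Polynomial K) (RatFunc K)).comp (Polynomial.mapRingHom f₂)
  have hF : ∀ q : Polynomial A, (∀ g : G, g • q = q) → F₁ q = F₂ q := by
    intro q hq
    show algebraMap _ _ (q.map f₁) = algebraMap _ _ (q.map f₂)
    congr 1
    ext n
    rw [Polynomial.coeff_map, Polynomial.coeff_map]
    refine h _ (fun g => ?_)
    have := congrArg (fun r => Polynomial.coeff r n) (hq g)
    simpa [Polynomial.smul_eq_map] using this
  obtain ⟨g, hg⟩ := step1 F₁ F₂ hF p
  have hg' : p.map f₂ = (g • p).map f₁ :=
    IsFractionRing.injective (Polynomial K) (RatFunc K) hg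
  have := congrArg (fun r => Polynomial.coeff r (e g)) hg'
  simp only [Polynomial.coeff_map, Polynomial.smul_eq_map, MulSemiringAction.toRingHom_apply,
    hp] at this
  exact ha g this

end Groth.Agent.S18899
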