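import Groth.Statements.S18905
import Groth.Agent.Lib.Helper7.DualNumberUnramified

set_option autoImplicit false
universe u
open CategoryTheory CategoryTheory.Limits AlgebraicGeometry
open Mor

namespace Groth.Agent.S18905

open Groth.Agent.Lib.Helper7


/-- Let k be an algebraically closed field and X a scheme locally of finite type over k. Then X → Spec k
is formally unramified if and only if the map Hom_k(Spec k[ε], X) → Hom_k(Spec k, X) given by
restricting along the closed immersion of Spec k into Spec k[ε] (k[ε] the ring of dual numbers, ε ↦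
0), is bijective; since that map is always surjective, the condition is stated as injectivity: two
k-morphisms from Spec k[ε] to X which agree on Spec k are equal. -/
theorem result (k : Type u) [Field k] [IsAlgClosed k]
    {X : Scheme.{u}} (p : X ⟶ Spec (CommRingCat.of k)) [LocallyOfFiniteType p] :
    FormallyUnramified p ↔
      ∀ v₁ v₂ : Spec (CommRingCat.of (DualNumber k)) ⟶ X,
        v₁ ≫ p = Spec.map (CommRingCat.ofHom (algebraMap k (DualNumber k))) →
        v₂ ≫ p = Spec.map (CommRingCat.ofHom (algebraMap k (DualNumber k))) →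
        Spec.map (CommRingCat.ofHom (TrivSqZeroExt.fstHom k k k).toRingHom) ≫ v₁ =
          Spec.map (CommRingCat.ofHom (TrivSqZeroExt.fstHom k k k).toRingHom) ≫ v₂ →
        v₁ = v₂ := by
  constructor
  · intro hp v₁ v₂ h1 h2 h12
    have hsurj : Function.Surjective (TrivSqZeroExt.fstHom k k k).toRingHom :=
      fun c => ⟨TrivSqZeroExt.inl c, rfl⟩
    have : IsClosedImmersion
        (Spec.map (CommRingCat.ofHom (TrivSqZeroExt.fstHom k k k).toRingHom)) :=
      IsClosedImmersion.spec_of_surjective _ hsurj
    have hnil : IsNilpotent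
        (Spec.map (CommRingCat.ofHom (TrivSqZeroExt.fstHom k k k).toRingHom)).ker := by
      refine ⟨2, ker_SpecMap_pow_eq_bot _ 2 ?_⟩
      rw [eq_bot_iff, pow_two, Ideal.mul_le]
      intro x hx y hy
      rw [RingHom.mem_ker] at hx hy
      have hx' : x.fst = 0 := hx
      have hy' : y.fst = 0 := hy
      rw [Ideal.mem_bot]
      ext
      · simp [hx']
      · simp [hx', hy']
    exact FormallyUnramified.hom_ext _ hnil p h12 (h1.trans h2.symm)
  · intro H
    rw [IsZariskiLocalAtSource.iff_of_openCover (P := @FormallyUnramified)
      X.affineOpenCover.openCover]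
    intro i
    change FormallyUnramified (X.affineOpenCover.f i ≫ p)
    have hoi : IsOpenImmersion (X.affineOpenCover.f i) := X.affineOpenCover.map_prop i
    obtain ⟨φ, hφ⟩ : ∃ φ, Spec.map φ = X.affineOpenCover.f i ≫ p :=
      ⟨Spec.preimage _, Spec.map_preimage _⟩
    have hft : LocallyOfFiniteType (Spec.map φ) := by rw [hφ]; infer_instance
    rw [HasRingHomProperty.Spec_iff (P := @LocallyOfFiniteType)] at hft
    rw [← hφ, HasRingHomProperty.Spec_iff (P := @FormallyUnramified)]
    algebraize [φ.hom]
    change Algebra.FormallyUnramified k (X.affineOpenCover.X i)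
    apply formallyUnramified_of_dualNumber_points
    intro ψ₁ ψ₂ h12
    have hcomp : ∀ ψ : (X.affineOpenCover.X i) →ₐ[k] DualNumber k,
        (Spec.map (CommRingCat.ofHom ψ.toRingHom) ≫ X.affineOpenCover.f i) ≫ p =
          Spec.map (CommRingCat.ofHom (algebraMap k (DualNumber k))) := by
      intro ψ
      rw [Category.assoc, ← hφ, ← Spec.map_comp]
      congr 1
      ext c : 2
      exact ψ.commutes c
    have hfst : Spec.map (CommRingCat.ofHom (TrivSqZeroExt.fstHom k k k).toRingHom) ≫
          (Spec.map (CommRingCat.ofHom ψ₁.toRingHom) ≫ X.affineOpenCover.f i) =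
        Spec.map (CommRingCat.ofHom (TrivSqZeroExt.fstHom k k k).toRingHom) ≫
          (Spec.map (CommRingCat.ofHom ψ₂.toRingHom) ≫ X.affineOpenCover.f i) := by
      rw [← Category.assoc, ← Category.assoc, ← Spec.map_comp, ← Spec.map_comp]
      congr 2
      ext a
      exact congrArg (fun ψ : (X.affineOpenCover.X i) →ₐ[k] k => ψ a) h12
    have := H _ _ (hcomp ψ₁) (hcomp ψ₂) hfst
    rw [cancel_mono] at this
    have h3 := Spec.map_injective this
    ext a : 1
    exact congrArg (fun f => f.hom a) h3

end Groth.Agent.S18905
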