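import Groth.Statements.S1891
import Mathlib
import Groth.Agent.S7453
import Groth.Agent.S1889

set_option autoImplicit false
universe u
open CategoryTheory CategoryTheory.Limits AlgebraicGeometry
open Grpd

namespace Groth.Agent.S1891



open Groth.Agent.S7453 Groth.Agent.S1889 in
theorem e_comm {S : Scheme.{u}} {G₁ G₂ : Grpd.GroupoidScheme S}
    (a : Grpd.GroupoidScheme.Hom G₁ G₂) : G₁.e ≫ a.fR = a.fU ≫ G₂.e := by
  obtain ⟨x, hx⟩ : ∃ x : G₁.U ⟶ G₂.R, x = G₁.e ≫ a.fR := ⟨_, rfl⟩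
  have hxs : x ≫ G₂.s = a.fU := by
    rw [hx, Category.assoc, a.comm_s, ← Category.assoc, G₁.e_s, Category.id_comp]
  have hxt : x ≫ G₂.t = a.fU := by
    rw [hx, Category.assoc, a.comm_t, ← Category.assoc, G₁.e_t, Category.id_comp]
  have hst : x ≫ G₂.s = x ≫ G₂.t := hxs.trans hxt.symm
  have hee : G₁.e ≫ G₁.s = G₁.e ≫ G₁.t := by rw [G₁.e_s, G₁.e_t]
  have h1 : Limits.pullback.lift G₁.e G₁.e hee ≫ G₁.c = G₁.e := by
    refine (lc_congr G₁ rfl ?_ _ _).trans (G₁.comp_e G₁.e)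
    rw [← Category.assoc, G₁.e_s, Category.id_comp]
  have hxx : Limits.pullback.lift x x hst ≫ G₂.c = x := by
    have := a.comm_c G₁.e G₁.e hee
    rw [h1] at this
    refine (lc_congr G₂ hx hx _ _).trans (this.symm.trans hx.symm)
  have h2 := inv_cmp_cmp G₂ x x hst (by rw [Category.assoc, G₂.i_s, G₂.comp_t _ _ hst])
  have h3 : Limits.pullback.lift (x ≫ G₂.i) x (by rw [Category.assoc, G₂.i_s]) ≫ G₂.c = x := by
    refine (lc_congr G₂ rfl hxx.symm _ _).trans h2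
  rw [G₂.i_comp x] at h3
  rw [← hx, ← h3, ← Category.assoc, hxs]

/-- Let (U, R₁, s₁, t₁, c₁) and (U, R₂, s₂, t₂, c₂) be groupoid schemes over S on the same U = Spec k, k
a field, and a : R₁ → R₂ a morphism of groupoid schemes over the identity of U (here: over an
isomorphism on objects). If a(R₁) is open in R₂ then it is closed. (A groupoid scheme carries U, R,
s, t, c, e, i over S with the groupoid axioms on T-points; 'finite locally free' is finite, flat and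
locally of finite presentation; C ⊂ Γ(U) is the ring of functions a with s♯(a) = t♯(a) and M = Spec
C.) -/
theorem result (S : Scheme.{u}) (G₁ G₂ : Grpd.GroupoidScheme S) (k : Type u) [Field k] (eU : G₂.U ≅ Spec (CommRingCat.of k)) (a : Grpd.GroupoidScheme.Hom G₁ G₂) [IsIso a.fU] (hopen : IsOpen (Set.range ⇑a.fR)) : IsClosed (Set.range ⇑a.fR) := by

  haveI : Mono a.fU := inferInstance
  apply isClosed_of_closure_subset
  intro r₂ hr₂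
  let W : G₂.R.Opens := ⟨Set.range a.fR, hopen⟩
  have hW : ∀ x, x ∈ W ↔ x ∈ Set.range a.fR := fun x => Iff.rfl
  obtain ⟨ζ, hζ⟩ : ∃ ζ : Spec (G₂.R.residueField r₂) ⟶ G₂.R, ζ = G₂.R.fromSpecResidueField r₂ :=
    ⟨_, rfl⟩
  have hV := Groth.Agent.S1889.result S G₂ k eU W (Spec (G₂.R.residueField r₂)) ζ
  have hc0 : (pullback.fst (ζ ≫ G₂.s) (W.ι ≫ G₂.t) ≫ ζ) ≫ G₂.s =
      (pullback.snd (ζ ≫ G₂.s) (W.ι ≫ G₂.t) ≫ W.ι) ≫ G₂.t :=
    ((Category.assoc _ _ _).trans (pullback.condition.trans (Category.assoc _ _ _).symm))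
  obtain ⟨m, hm⟩ : ∃ m : pullback (ζ ≫ G₂.s) (W.ι ≫ G₂.t) ⟶ G₂.R, m =
      pullback.lift (pullback.fst (ζ ≫ G₂.s) (W.ι ≫ G₂.t) ≫ ζ)
        (pullback.snd (ζ ≫ G₂.s) (W.ι ≫ G₂.t) ≫ W.ι) hc0 ≫ G₂.c := ⟨_, rfl⟩
  rw [← hm] at hV
  -- identity factors through W
  have hrange_e : Set.range G₂.e ⊆ Set.range W.ι := by
    rintro _ ⟨u, rfl⟩
    rw [Scheme.Opens.range_ι]
    show _ ∈ Set.range a.fR
    obtain ⟨u₁, rfl⟩ := (a.fU).surjective u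
    refine ⟨G₁.e u₁, ?_⟩
    rw [← Scheme.Hom.comp_apply, e_comm a, Scheme.Hom.comp_apply]
  obtain ⟨e', he'⟩ : ∃ e' : G₂.U ⟶ W.toScheme, e' ≫ W.ι = G₂.e :=
    ⟨IsOpenImmersion.lift W.ι G₂.e hrange_e, IsOpenImmersion.lift_fac _ _ _⟩
  obtain ⟨σ, hσ1, hσ2⟩ : ∃ σ : Spec (G₂.R.residueField r₂) ⟶ pullback (ζ ≫ G₂.s) (W.ι ≫ G₂.t),
      σ ≫ pullback.fst _ _ = 𝟙 _ ∧ σ ≫ pullback.snd _ _ = ζ ≫ G₂.s ≫ e' :=
    ⟨pullback.lift (𝟙 _) (ζ ≫ G₂.s ≫ e') (by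
      rw [Category.id_comp, Category.assoc, Category.assoc, ← Category.assoc e', he', G₂.e_t,
        Category.comp_id]), pullback.lift_fst _ _ _, pullback.lift_snd _ _ _⟩
  have hσm : σ ≫ m = ζ := by
    rw [hm, Groth.Agent.S7453.precomp_lc]
    refine (Groth.Agent.S7453.lc_congr G₂ ?_ ?_ _ _).trans (G₂.comp_e ζ)
    · rw [← Category.assoc, hσ1, Category.id_comp]
    · rw [← Category.assoc, hσ2, Category.assoc, Category.assoc, he']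
  have hζr : ∀ z, ζ z = r₂ := by
    intro z
    have : ζ z ∈ Set.range ζ := ⟨z, rfl⟩
    rw [hζ, Scheme.range_fromSpecResidueField] at this
    rw [hζ]; exact this
  have hr₂V : r₂ ∈ Set.range m := by
    have z₀ : Spec (G₂.R.residueField r₂) := (Nonempty.some inferInstance)
    refine ⟨σ z₀, ?_⟩
    rw [← Scheme.Hom.comp_apply, hσm]
    exact hζr z₀
  obtain ⟨v, hvV, hvW⟩ := mem_closure_iff.mp hr₂ _ hV hr₂V
  obtain ⟨q, rfl⟩ := hvV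
  obtain ⟨p₀, hp₀⟩ := hvW
  obtain ⟨τ, hτ1, hτ2⟩ := Scheme.Pullback.exists_preimage_pullback (f := m) (g := a.fR) q p₀ hp₀.symm
  -- the W-component lies in range fR
  obtain ⟨w, hw⟩ : ∃ w : pullback m a.fR ⟶ G₂.R,
      w = pullback.fst m a.fR ≫ pullback.snd (ζ ≫ G₂.s) (W.ι ≫ G₂.t) ≫ W.ι := ⟨_, rfl⟩
  have hwτ : w τ ∈ Set.range a.fR := by
    rw [hw, Scheme.Hom.comp_apply, Scheme.Hom.comp_apply]
    have key : ∀ y : W.toScheme, (W.ι y) ∈ Set.range a.fR := by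
      intro y
      have : (W.ι y) ∈ Set.range W.ι := ⟨y, rfl⟩
      rw [Scheme.Opens.range_ι] at this
      exact this
    exact key _
  obtain ⟨p₁, hp₁⟩ := hwτ
  obtain ⟨τ', hτ'1, hτ'2⟩ := Scheme.Pullback.exists_preimage_pullback (f := w) (g := a.fR) τ p₁ hp₁.symm
  obtain ⟨π, hπ⟩ : ∃ π : pullback w a.fR ⟶ pullback m a.fR, π = pullback.fst w a.fR := ⟨_, rfl⟩
  obtain ⟨p', hp'⟩ : ∃ p' : pullback w a.fR ⟶ G₁.R, p' = pullback.snd w a.fR := ⟨_, rfl⟩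
  have hcond' : π ≫ w = p' ≫ a.fR := by rw [hπ, hp']; exact pullback.condition
  obtain ⟨φ, hφ⟩ : ∃ φ : pullback m a.fR ⟶ pullback (ζ ≫ G₂.s) (W.ι ≫ G₂.t),
      φ = pullback.fst m a.fR := ⟨_, rfl⟩
  obtain ⟨p, hp⟩ : ∃ p : pullback m a.fR ⟶ G₁.R, p = pullback.snd m a.fR := ⟨_, rfl⟩
  have hcond : φ ≫ m = p ≫ a.fR := by rw [hφ, hp]; exact pullback.condition
  have hw' : w = φ ≫ (pullback.snd (ζ ≫ G₂.s) (W.ι ≫ G₂.t) ≫ W.ι) := by rw [hφ]; exact hw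
  obtain ⟨P, hP⟩ : ∃ P : pullback w a.fR ⟶ G₁.R, P = π ≫ p := ⟨_, rfl⟩
  obtain ⟨J, hJ⟩ : ∃ J : pullback w a.fR ⟶ G₁.R, J = p' ≫ G₁.i := ⟨_, rfl⟩
  obtain ⟨Ψ, hΨ⟩ : ∃ Ψ : pullback w a.fR ⟶ pullback (ζ ≫ G₂.s) (W.ι ≫ G₂.t), Ψ = π ≫ φ :=
    ⟨_, rfl⟩
  have hJs : J ≫ G₁.s = p' ≫ G₁.t := by rw [hJ, Category.assoc, G₁.i_s]
  have hJt : J ≫ G₁.t = p' ≫ G₁.s := by rw [hJ, Category.assoc, G₁.i_t]
  obtain ⟨A, hA⟩ : ∃ A : pullback w a.fR ⟶ G₂.R,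
      A = Ψ ≫ (pullback.fst (ζ ≫ G₂.s) (W.ι ≫ G₂.t) ≫ ζ) := ⟨_, rfl⟩
  obtain ⟨B, hB⟩ : ∃ B : pullback w a.fR ⟶ G₂.R, B = p' ≫ a.fR := ⟨_, rfl⟩
  have hB' : B = Ψ ≫ (pullback.snd (ζ ≫ G₂.s) (W.ι ≫ G₂.t) ≫ W.ι) := by
    rw [hB, ← hcond', hΨ, Category.assoc]
    exact congrArg (π ≫ ·) hw'
  obtain ⟨C, hC⟩ : ∃ C : pullback w a.fR ⟶ G₂.R, C = P ≫ a.fR := ⟨_, rfl⟩
  have hC' : C = Ψ ≫ m := by
    rw [hC, hP, hΨ, Category.assoc, Category.assoc, hcond]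
  have hAB : A ≫ G₂.s = B ≫ G₂.t := by
    rw [hA, hB', Category.assoc Ψ, Category.assoc Ψ, hc0]
  have hABC : pullback.lift A B hAB ≫ G₂.c = C := by
    have h1 := Groth.Agent.S7453.precomp_lc G₂ Ψ _ _ hc0
    have h2 : Ψ ≫ m = Ψ ≫ (pullback.lift (pullback.fst (ζ ≫ G₂.s) (W.ι ≫ G₂.t) ≫ ζ)
        (pullback.snd (ζ ≫ G₂.s) (W.ι ≫ G₂.t) ≫ W.ι) hc0 ≫ G₂.c) := congrArg (Ψ ≫ ·) hm
    rw [hC', h2, h1]
    exact Groth.Agent.S7453.lc_congr G₂ hA hB' _ _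
  have hBs : B ≫ G₂.s = (p' ≫ G₁.s) ≫ a.fU := by
    rw [hB, Category.assoc, a.comm_s, Category.assoc]
  have hBt : B ≫ G₂.t = (p' ≫ G₁.t) ≫ a.fU := by
    rw [hB, Category.assoc, a.comm_t, Category.assoc]
  have hCs : C ≫ G₂.s = (P ≫ G₁.s) ≫ a.fU := by
    rw [hC, Category.assoc, a.comm_s, Category.assoc]
  have hD : P ≫ G₁.s = J ≫ G₁.t := by
    rw [hJt, ← cancel_mono a.fU, ← hCs, ← hBs, ← hABC, G₂.comp_s _ _ hAB]
  obtain ⟨D, hDdef⟩ : ∃ D : pullback w a.fR ⟶ G₁.R,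
      D = pullback.lift P J hD ≫ G₁.c := ⟨_, rfl⟩
  have hJf : (J ≫ a.fR) ≫ G₂.t = B ≫ G₂.s := by
    rw [Category.assoc, a.comm_t, ← Category.assoc, hJt, hBs]
  have hinner : pullback.lift B (J ≫ a.fR) hJf.symm ≫ G₂.c = A ≫ G₂.s ≫ G₂.e := by
    have h0 : p' ≫ G₁.s = J ≫ G₁.t := hJt.symm
    have h1 := a.comm_c p' J h0
    have h2 : pullback.lift p' J h0 ≫ G₁.c = p' ≫ G₁.t ≫ G₁.e := by
      refine (Groth.Agent.S7453.lc_congr G₁ rfl hJ _ _).trans (G₁.comp_i p')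
    rw [h2] at h1
    refine (Groth.Agent.S7453.lc_congr G₂ hB rfl _ _).trans (h1.symm.trans ?_)
    rw [Category.assoc, Category.assoc, e_comm a, ← Category.assoc G₁.t, ← a.comm_t,
      ← Category.assoc, ← Category.assoc, ← hB, Category.assoc, ← Category.assoc A, hAB,
      Category.assoc]
  have hfinal : D ≫ a.fR = A := by
    rw [hDdef, a.comm_c _ _ hD]
    have h2 : pullback.lift (P ≫ a.fR) (J ≫ a.fR) (by
        rw [Category.assoc, Category.assoc, a.comm_s, a.comm_t, ← Category.assoc,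
          ← Category.assoc, hD]) ≫ G₂.c =
        pullback.lift (pullback.lift A B hAB ≫ G₂.c) (J ≫ a.fR) (by
          rw [G₂.comp_s _ _ hAB, hJf]) ≫ G₂.c :=
      Groth.Agent.S7453.lc_congr G₂ (hC.symm.trans hABC.symm) rfl _ _
    rw [h2, G₂.assoc A B (J ≫ a.fR) hAB hJf.symm]
    refine (Groth.Agent.S7453.lc_congr G₂ rfl hinner _ _).trans (G₂.comp_e A)
  refine ⟨D τ', ?_⟩
  rw [← Scheme.Hom.comp_apply, hfinal, hA, Scheme.Hom.comp_apply, Scheme.Hom.comp_apply]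
  exact hζr _

end Groth.Agent.S1891
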