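import Groth.Statements.S1892
import Mathlib
import Groth.Agent.S7453
import Groth.Agent.S1889
import Groth.Agent.S1891

set_option autoImplicit false
universe u
open CategoryTheory CategoryTheory.Limits AlgebraicGeometry
open Grpd

namespace Groth.Agent.S1892



open Groth.Agent.S7453 Groth.Agent.S1889 in
theorem i_i {S : Scheme.{u}} (G : Grpd.GroupoidScheme S) {T : Scheme.{u}} (α : T ⟶ G.R) :
    (α ≫ G.i) ≫ G.i = α := by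
  have hs : ((α ≫ G.i) ≫ G.i) ≫ G.s = α ≫ G.s := by
    rw [Category.assoc, G.i_s, Category.assoc, G.i_t]
  exact (eq_of_cmp_inv_eq_e G ((α ≫ G.i) ≫ G.i) α hs ((α ≫ G.i) ≫ G.s)
    ((G.i_comp (α ≫ G.i)).trans (Category.assoc _ _ _).symm)).1

open Groth.Agent.S7453 Groth.Agent.S1889 in
theorem i_comm {S : Scheme.{u}} {G₁ G₂ : Grpd.GroupoidScheme S}
    (a : Grpd.GroupoidScheme.Hom G₁ G₂) : G₁.i ≫ a.fR = a.fR ≫ G₂.i := by
  have hs : (G₁.i ≫ a.fR) ≫ G₂.s = (a.fR ≫ G₂.i) ≫ G₂.s := by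
    rw [Category.assoc, a.comm_s, ← Category.assoc, G₁.i_s, Category.assoc, G₂.i_s, a.comm_t]
  have h0 : G₁.i ≫ G₁.s = 𝟙 G₁.R ≫ G₁.t := by rw [G₁.i_s, Category.id_comp]
  have h1 := a.comm_c G₁.i (𝟙 G₁.R) h0
  have h2 : Limits.pullback.lift G₁.i (𝟙 G₁.R) h0 ≫ G₁.c = G₁.s ≫ G₁.e := by
    have := G₁.i_comp (𝟙 G₁.R)
    refine (lc_congr G₁ (Category.id_comp _).symm rfl _ _).trans (this.trans (Category.id_comp _))
  rw [h2] at h1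
  refine (eq_of_cmp_inv_eq_e G₂ (G₁.i ≫ a.fR) (a.fR ≫ G₂.i) hs (G₁.s ≫ a.fU) ?_).1
  refine (lc_congr G₂ rfl ?_ _ _).trans (h1.symm.trans ?_)
  · rw [i_i, Category.id_comp]
  · rw [Category.assoc, Groth.Agent.S1891.e_comm a, Category.assoc]

open Groth.Agent.S7453 Groth.Agent.S1889 in
theorem mul_mem {S : Scheme.{u}} {G₁ G₂ : Grpd.GroupoidScheme S}
    (a : Grpd.GroupoidScheme.Hom G₁ G₂) [IsIso a.fU] {T : Scheme.{u}}
    (α β : T ⟶ G₂.R) (h : α ≫ G₂.s = β ≫ G₂.t) (τ : T)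
    (hα : α τ ∈ Set.range ⇑a.fR) (hβ : β τ ∈ Set.range ⇑a.fR) :
    (Limits.pullback.lift α β h ≫ G₂.c) τ ∈ Set.range ⇑a.fR := by
  obtain ⟨p₁, hp₁⟩ := hα
  obtain ⟨τ₁, hτ₁, -⟩ := Scheme.Pullback.exists_preimage_pullback (f := α) (g := a.fR) τ p₁ hp₁.symm
  obtain ⟨π₁, hπ₁⟩ : ∃ π₁ : Limits.pullback α a.fR ⟶ T, π₁ = Limits.pullback.fst α a.fR := ⟨_, rfl⟩
  obtain ⟨a₀, ha₀⟩ : ∃ a₀ : Limits.pullback α a.fR ⟶ G₁.R, a₀ = Limits.pullback.snd α a.fR :=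
    ⟨_, rfl⟩
  have hc₁ : π₁ ≫ α = a₀ ≫ a.fR := by rw [hπ₁, ha₀]; exact Limits.pullback.condition
  rw [← hπ₁] at hτ₁
  obtain ⟨β₁, hβ₁⟩ : ∃ β₁ : Limits.pullback α a.fR ⟶ G₂.R, β₁ = π₁ ≫ β := ⟨_, rfl⟩
  have hβ₁τ : β₁ τ₁ ∈ Set.range ⇑a.fR := by
    rw [hβ₁, Scheme.Hom.comp_apply, hτ₁]; exact hβ
  obtain ⟨p₂, hp₂⟩ := hβ₁τ
  obtain ⟨τ₂, hτ₂, -⟩ := Scheme.Pullback.exists_preimage_pullback (f := β₁) (g := a.fR) τ₁ p₂ hp₂.symm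
  obtain ⟨π₂, hπ₂⟩ : ∃ π₂ : Limits.pullback β₁ a.fR ⟶ Limits.pullback α a.fR,
      π₂ = Limits.pullback.fst β₁ a.fR := ⟨_, rfl⟩
  obtain ⟨b₁, hb₁⟩ : ∃ b₁ : Limits.pullback β₁ a.fR ⟶ G₁.R, b₁ = Limits.pullback.snd β₁ a.fR :=
    ⟨_, rfl⟩
  have hc₂ : π₂ ≫ β₁ = b₁ ≫ a.fR := by rw [hπ₂, hb₁]; exact Limits.pullback.condition
  rw [← hπ₂] at hτ₂
  obtain ⟨π, hπ⟩ : ∃ π : Limits.pullback β₁ a.fR ⟶ T, π = π₂ ≫ π₁ := ⟨_, rfl⟩
  obtain ⟨a₁, ha₁⟩ : ∃ a₁ : Limits.pullback β₁ a.fR ⟶ G₁.R, a₁ = π₂ ≫ a₀ := ⟨_, rfl⟩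
  have hπτ : π τ₂ = τ := by rw [hπ, Scheme.Hom.comp_apply, hτ₂, hτ₁]
  have hA : a₁ ≫ a.fR = π ≫ α := by
    rw [ha₁, hπ, Category.assoc, ← hc₁, Category.assoc]
  have hB : b₁ ≫ a.fR = π ≫ β := by
    rw [← hc₂, hπ, Category.assoc]
    exact congrArg (π₂ ≫ ·) hβ₁
  haveI : Mono a.fU := inferInstance
  have hab : a₁ ≫ G₁.s = b₁ ≫ G₁.t := by
    rw [← cancel_mono a.fU, Category.assoc, ← a.comm_s, ← Category.assoc, hA, Category.assoc, h,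
      ← Category.assoc, ← hB, Category.assoc, a.comm_t, Category.assoc]
  have key : (Limits.pullback.lift a₁ b₁ hab ≫ G₁.c) ≫ a.fR =
      π ≫ (Limits.pullback.lift α β h ≫ G₂.c) := by
    rw [a.comm_c _ _ hab, precomp_lc]
    exact lc_congr G₂ hA hB _ _
  refine ⟨(Limits.pullback.lift a₁ b₁ hab ≫ G₁.c) τ₂, ?_⟩
  rw [← Scheme.Hom.comp_apply, key, Scheme.Hom.comp_apply, hπτ]

theorem inv_mem_range {S : Scheme.{u}} {G₁ G₂ : Grpd.GroupoidScheme S}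
    (a : Grpd.GroupoidScheme.Hom G₁ G₂) (r : G₂.R) (hr : r ∈ Set.range ⇑a.fR) :
    G₂.i r ∈ Set.range ⇑a.fR := by
  obtain ⟨p, rfl⟩ := hr
  refine ⟨G₁.i p, ?_⟩
  rw [← Scheme.Hom.comp_apply, i_comm a, Scheme.Hom.comp_apply]

theorem inv_mem_closure {S : Scheme.{u}} {G₁ G₂ : Grpd.GroupoidScheme S}
    (a : Grpd.GroupoidScheme.Hom G₁ G₂) (r : G₂.R) (hr : r ∈ closure (Set.range ⇑a.fR)) :
    G₂.i r ∈ closure (Set.range ⇑a.fR) := by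
  have hsub : Set.range ⇑a.fR ⊆ ⇑G₂.i ⁻¹' (closure (Set.range ⇑a.fR)) := by
    intro x hx
    exact subset_closure (inv_mem_range a x hx)
  exact (isClosed_closure.preimage G₂.i.continuous).closure_subset_iff.mpr hsub hr

open Groth.Agent.S7453 Groth.Agent.S1889 in
theorem mul_mem_closure_right {S : Scheme.{u}} {G₁ G₂ : Grpd.GroupoidScheme S}
    (a : Grpd.GroupoidScheme.Hom G₁ G₂) [IsIso a.fU] [IsIntegral G₂.U] [Subsingleton G₂.U]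
    {T : Scheme.{u}} (α β : T ⟶ G₂.R) (h : α ≫ G₂.s = β ≫ G₂.t) (τ : T)
    (hα : α τ ∈ closure (Set.range ⇑a.fR)) (hβ : β τ ∈ Set.range ⇑a.fR) :
    (Limits.pullback.lift α β h ≫ G₂.c) τ ∈ closure (Set.range ⇑a.fR) := by
  obtain ⟨j, hj⟩ : ∃ j : Spec (T.residueField τ) ⟶ T, j = T.fromSpecResidueField τ := ⟨_, rfl⟩
  have hjτ : ∀ z, j z = τ := by
    intro z; rw [hj]; exact Scheme.fromSpecResidueField_apply _ _
  obtain ⟨α', hα'⟩ : ∃ α' : Spec (T.residueField τ) ⟶ G₂.R, α' = j ≫ α := ⟨_, rfl⟩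
  obtain ⟨β', hβ'⟩ : ∃ β' : Spec (T.residueField τ) ⟶ G₂.R, β' = j ≫ β := ⟨_, rfl⟩
  have h' : α' ≫ G₂.s = β' ≫ G₂.t := by rw [hα', hβ', Category.assoc, Category.assoc, h]
  have hα'pt : ∀ z, α' z = α τ := by intro z; rw [hα', Scheme.Hom.comp_apply, hjτ]
  have hβ'pt : ∀ z, β' z = β τ := by intro z; rw [hβ', Scheme.Hom.comp_apply, hjτ]
  have hN0 : Limits.pullback.fst G₂.s (β' ≫ G₂.t) ≫ G₂.s =
      (Limits.pullback.snd G₂.s (β' ≫ G₂.t) ≫ β') ≫ G₂.t := by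
    rw [Category.assoc]; exact Limits.pullback.condition
  obtain ⟨N, hN⟩ : ∃ N : Limits.pullback G₂.s (β' ≫ G₂.t) ⟶ G₂.R,
      N = Limits.pullback.lift (Limits.pullback.fst G₂.s (β' ≫ G₂.t))
        (Limits.pullback.snd G₂.s (β' ≫ G₂.t) ≫ β') hN0 ≫ G₂.c := ⟨_, rfl⟩
  have hpr : IsOpenMap ⇑(Limits.pullback.fst G₂.s (β' ≫ G₂.t)) :=
    (Limits.pullback.fst G₂.s (β' ≫ G₂.t)).isOpenMap
  have hsub : ⇑(Limits.pullback.fst G₂.s (β' ≫ G₂.t)) ⁻¹' (closure (Set.range ⇑a.fR)) ⊆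
      ⇑N ⁻¹' (closure (Set.range ⇑a.fR)) := by
    rw [hpr.preimage_closure_eq_closure_preimage
      (Limits.pullback.fst G₂.s (β' ≫ G₂.t)).continuous]
    apply (isClosed_closure.preimage N.continuous).closure_subset_iff.mpr
    intro x hx
    apply subset_closure
    show N x ∈ Set.range ⇑a.fR
    rw [hN]
    refine mul_mem a _ _ hN0 x hx ?_
    rw [Scheme.Hom.comp_apply, hβ'pt]
    exact hβ
  obtain ⟨ρ, hρ1, hρ2⟩ : ∃ ρ : Spec (T.residueField τ) ⟶ Limits.pullback G₂.s (β' ≫ G₂.t),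
      ρ ≫ Limits.pullback.fst _ _ = α' ∧ ρ ≫ Limits.pullback.snd _ _ = 𝟙 _ :=
    ⟨Limits.pullback.lift α' (𝟙 _) (by rw [Category.id_comp]; exact h'),
      Limits.pullback.lift_fst _ _ _, Limits.pullback.lift_snd _ _ _⟩
  have hρN : ρ ≫ N = j ≫ (Limits.pullback.lift α β h ≫ G₂.c) := by
    rw [hN, precomp_lc, precomp_lc]
    apply lc_congr G₂
    · rw [hρ1, hα']
    · rw [← Category.assoc, hρ2, Category.id_comp, hβ']
  have z₀ : Spec (T.residueField τ) := (Nonempty.some inferInstance)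
  have h1 : ρ z₀ ∈ ⇑(Limits.pullback.fst G₂.s (β' ≫ G₂.t)) ⁻¹' (closure (Set.range ⇑a.fR)) := by
    show (Limits.pullback.fst G₂.s (β' ≫ G₂.t)) (ρ z₀) ∈ closure (Set.range ⇑a.fR)
    rw [← Scheme.Hom.comp_apply, hρ1, hα'pt]
    exact hα
  have h2 : N (ρ z₀) ∈ closure (Set.range ⇑a.fR) := hsub h1
  rw [← Scheme.Hom.comp_apply, hρN, Scheme.Hom.comp_apply, hjτ] at h2
  exact h2

open Groth.Agent.S7453 Groth.Agent.S1889 in
theorem mul_mem_closure {S : Scheme.{u}} {G₁ G₂ : Grpd.GroupoidScheme S}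
    (a : Grpd.GroupoidScheme.Hom G₁ G₂) [IsIso a.fU] [IsIntegral G₂.U] [Subsingleton G₂.U]
    {T : Scheme.{u}} (α β : T ⟶ G₂.R) (h : α ≫ G₂.s = β ≫ G₂.t) (τ : T)
    (hα : α τ ∈ closure (Set.range ⇑a.fR)) (hβ : β τ ∈ closure (Set.range ⇑a.fR)) :
    (Limits.pullback.lift α β h ≫ G₂.c) τ ∈ closure (Set.range ⇑a.fR) := by
  obtain ⟨j, hj⟩ : ∃ j : Spec (T.residueField τ) ⟶ T, j = T.fromSpecResidueField τ := ⟨_, rfl⟩
  have hjτ : ∀ z, j z = τ := by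
    intro z; rw [hj]; exact Scheme.fromSpecResidueField_apply _ _
  obtain ⟨α', hα'⟩ : ∃ α' : Spec (T.residueField τ) ⟶ G₂.R, α' = j ≫ α := ⟨_, rfl⟩
  obtain ⟨β', hβ'⟩ : ∃ β' : Spec (T.residueField τ) ⟶ G₂.R, β' = j ≫ β := ⟨_, rfl⟩
  have h' : α' ≫ G₂.s = β' ≫ G₂.t := by rw [hα', hβ', Category.assoc, Category.assoc, h]
  have hα'pt : ∀ z, α' z = α τ := by intro z; rw [hα', Scheme.Hom.comp_apply, hjτ]
  have hβ'pt : ∀ z, β' z = β τ := by intro z; rw [hβ', Scheme.Hom.comp_apply, hjτ]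
  have hM0 : (Limits.pullback.fst (α' ≫ G₂.s) G₂.t ≫ α') ≫ G₂.s =
      Limits.pullback.snd (α' ≫ G₂.s) G₂.t ≫ G₂.t := by
    rw [Category.assoc]; exact Limits.pullback.condition
  obtain ⟨M, hM⟩ : ∃ M : Limits.pullback (α' ≫ G₂.s) G₂.t ⟶ G₂.R,
      M = Limits.pullback.lift (Limits.pullback.fst (α' ≫ G₂.s) G₂.t ≫ α')
        (Limits.pullback.snd (α' ≫ G₂.s) G₂.t) hM0 ≫ G₂.c := ⟨_, rfl⟩
  have hpr : IsOpenMap ⇑(Limits.pullback.snd (α' ≫ G₂.s) G₂.t) :=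
    (Limits.pullback.snd (α' ≫ G₂.s) G₂.t).isOpenMap
  have hsub : ⇑(Limits.pullback.snd (α' ≫ G₂.s) G₂.t) ⁻¹' (closure (Set.range ⇑a.fR)) ⊆
      ⇑M ⁻¹' (closure (Set.range ⇑a.fR)) := by
    rw [hpr.preimage_closure_eq_closure_preimage
      (Limits.pullback.snd (α' ≫ G₂.s) G₂.t).continuous]
    apply (isClosed_closure.preimage M.continuous).closure_subset_iff.mpr
    intro x hx
    show M x ∈ closure (Set.range ⇑a.fR)
    rw [hM]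
    refine mul_mem_closure_right a _ _ hM0 x ?_ hx
    rw [Scheme.Hom.comp_apply, hα'pt]
    exact hα
  obtain ⟨ρ, hρ1, hρ2⟩ : ∃ ρ : Spec (T.residueField τ) ⟶ Limits.pullback (α' ≫ G₂.s) G₂.t,
      ρ ≫ Limits.pullback.fst _ _ = 𝟙 _ ∧ ρ ≫ Limits.pullback.snd _ _ = β' :=
    ⟨Limits.pullback.lift (𝟙 _) β' (by rw [Category.id_comp]; exact h'),
      Limits.pullback.lift_fst _ _ _, Limits.pullback.lift_snd _ _ _⟩
  have hρM : ρ ≫ M = j ≫ (Limits.pullback.lift α β h ≫ G₂.c) := by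
    rw [hM, precomp_lc, precomp_lc]
    apply lc_congr G₂
    · rw [← Category.assoc, hρ1, Category.id_comp, hα']
    · rw [hρ2, hβ']
  have z₀ : Spec (T.residueField τ) := (Nonempty.some inferInstance)
  have h1 : ρ z₀ ∈ ⇑(Limits.pullback.snd (α' ≫ G₂.s) G₂.t) ⁻¹' (closure (Set.range ⇑a.fR)) := by
    show (Limits.pullback.snd (α' ≫ G₂.s) G₂.t) (ρ z₀) ∈ closure (Set.range ⇑a.fR)
    rw [← Scheme.Hom.comp_apply, hρ2, hβ'pt]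
    exact hβ
  have h2 : M (ρ z₀) ∈ closure (Set.range ⇑a.fR) := hsub h1
  rw [← Scheme.Hom.comp_apply, hρM, Scheme.Hom.comp_apply, hjτ] at h2
  exact h2

open Groth.Agent.S7453 Groth.Agent.S1889 in
theorem cmp_cmp_inv {S : Scheme.{u}} (G : Grpd.GroupoidScheme S) {T : Scheme.{u}}
    (α β : T ⟶ G.R) (h : α ≫ G.s = β ≫ G.t)
    (h' : (Limits.pullback.lift α β h ≫ G.c) ≫ G.s = (β ≫ G.i) ≫ G.t) :
    Limits.pullback.lift (Limits.pullback.lift α β h ≫ G.c) (β ≫ G.i) h' ≫ G.c = α := by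
  have h1 : β ≫ G.s = (β ≫ G.i) ≫ G.t := by rw [Category.assoc, G.i_t]
  rw [G.assoc α β (β ≫ G.i) h h1]
  refine (lc_congr G rfl ?_ _ _).trans (G.comp_e α)
  rw [G.comp_i β, ← Category.assoc, ← h, Category.assoc]

/-- Let (U₁, R₁, s, t, c) and (U₂, R₂, s, t, c) be groupoid schemes over S with U₂ isomorphic to Spec k
for a field k, and a : R₁ → R₂ a morphism of groupoid schemes which is an isomorphism on objects. If
a(R₁) is locally closed in R₂ then it is closed. (A groupoid scheme carries U, R, s, t, c, e, i over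
S satisfying the groupoid axioms on T-points.) -/
theorem result (S : Scheme.{u}) (G₁ G₂ : Grpd.GroupoidScheme S) (k : Type u) [Field k] (eU : G₂.U ≅ Spec (CommRingCat.of k)) (a : Grpd.GroupoidScheme.Hom G₁ G₂) [IsIso a.fU] (hlc : IsLocallyClosed (Set.range ⇑a.fR)) : IsClosed (Set.range ⇑a.fR) := by

  haveI : Nonempty G₂.U := ⟨eU.inv (IsLocalRing.closedPoint k)⟩
  haveI : IsIntegral G₂.U := isIntegral_of_isOpenImmersion eU.hom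
  haveI : Subsingleton G₂.U := eU.hom.homeomorph.injective.subsingleton
  apply isClosed_of_closure_subset
  intro r₂ hr₂
  obtain ⟨O, C, hO, hC, hWOC⟩ := hlc
  have hZC : closure (Set.range ⇑a.fR) ⊆ C := by
    apply hC.closure_subset_iff.mpr
    rw [hWOC]; exact Set.inter_subset_right
  have hW_iff : ∀ x, x ∈ Set.range ⇑a.fR ↔ x ∈ O ∧ x ∈ closure (Set.range ⇑a.fR) := by
    intro x
    constructor
    · intro hx
      refine ⟨?_, subset_closure hx⟩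
      rw [hWOC] at hx; exact hx.1
    · rintro ⟨h1, h2⟩
      rw [hWOC]; exact ⟨h1, hZC h2⟩
  obtain ⟨ζ, hζ⟩ : ∃ ζ : Spec (G₂.R.residueField r₂) ⟶ G₂.R, ζ = G₂.R.fromSpecResidueField r₂ :=
    ⟨_, rfl⟩
  have hζr : ∀ z, ζ z = r₂ := by
    intro z; rw [hζ]; exact Scheme.fromSpecResidueField_apply _ _
  have hopen := Groth.Agent.S1889.isOpenMap_cmp G₂ _ ζ
  have hc0 : (pullback.fst (ζ ≫ G₂.s) G₂.t ≫ ζ) ≫ G₂.s = pullback.snd (ζ ≫ G₂.s) G₂.t ≫ G₂.t :=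
    (Category.assoc _ _ _).trans pullback.condition
  obtain ⟨m, hm⟩ : ∃ m : pullback (ζ ≫ G₂.s) G₂.t ⟶ G₂.R, m =
      pullback.lift (pullback.fst (ζ ≫ G₂.s) G₂.t ≫ ζ) (pullback.snd (ζ ≫ G₂.s) G₂.t) hc0 ≫
        G₂.c := ⟨_, rfl⟩
  rw [← hm] at hopen
  obtain ⟨σ, hσ1, hσ2⟩ : ∃ σ : Spec (G₂.R.residueField r₂) ⟶ pullback (ζ ≫ G₂.s) G₂.t,
      σ ≫ pullback.fst _ _ = 𝟙 _ ∧ σ ≫ pullback.snd _ _ = ζ ≫ G₂.s ≫ G₂.e :=
    ⟨pullback.lift (𝟙 _) (ζ ≫ G₂.s ≫ G₂.e) (by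
      rw [Category.id_comp, Category.assoc, Category.assoc, G₂.e_t, Category.comp_id]),
      pullback.lift_fst _ _ _, pullback.lift_snd _ _ _⟩
  have hσm : σ ≫ m = ζ := by
    rw [hm, Groth.Agent.S7453.precomp_lc]
    refine (Groth.Agent.S7453.lc_congr G₂ ?_ hσ2 _ _).trans (G₂.comp_e ζ)
    rw [← Category.assoc, hσ1, Category.id_comp]
  have he_mem : ∀ u, G₂.e u ∈ Set.range ⇑a.fR := by
    intro u
    obtain ⟨u₁, rfl⟩ := (a.fU).surjective u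
    refine ⟨G₁.e u₁, ?_⟩
    rw [← Scheme.Hom.comp_apply, Groth.Agent.S1891.e_comm a, Scheme.Hom.comp_apply]
  have z₀ : Spec (G₂.R.residueField r₂) := (Nonempty.some inferInstance)
  have hx₀O : σ z₀ ∈ ⇑(pullback.snd (ζ ≫ G₂.s) G₂.t) ⁻¹' O := by
    show (pullback.snd (ζ ≫ G₂.s) G₂.t) (σ z₀) ∈ O
    rw [← Scheme.Hom.comp_apply, hσ2, Scheme.Hom.comp_apply, Scheme.Hom.comp_apply]
    exact ((hW_iff _).mp (he_mem _)).1
  have hmx₀ : m (σ z₀) = r₂ := by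
    rw [← Scheme.Hom.comp_apply, hσm]; exact hζr _
  have hopen' : IsOpen (⇑m '' (⇑(pullback.snd (ζ ≫ G₂.s) G₂.t) ⁻¹' O)) :=
    hopen _ (hO.preimage (pullback.snd (ζ ≫ G₂.s) G₂.t).continuous)
  obtain ⟨v, hv1, hv2⟩ := mem_closure_iff.mp hr₂ _ hopen' ⟨σ z₀, hx₀O, hmx₀⟩
  obtain ⟨x, hxO, rfl⟩ := hv1
  have hmt : m ≫ G₂.t = (pullback.fst (ζ ≫ G₂.s) G₂.t ≫ ζ) ≫ G₂.t := by
    rw [hm, G₂.comp_t _ _ hc0]
  have hms : m ≫ G₂.s = pullback.snd (ζ ≫ G₂.s) G₂.t ≫ G₂.s := by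
    rw [hm, G₂.comp_s _ _ hc0]
  have h1 : ((pullback.fst (ζ ≫ G₂.s) G₂.t ≫ ζ) ≫ G₂.i) ≫ G₂.s = m ≫ G₂.t := by
    rw [Category.assoc _ G₂.i, G₂.i_s, hmt]
  have hsnd_eq : pullback.lift ((pullback.fst (ζ ≫ G₂.s) G₂.t ≫ ζ) ≫ G₂.i) m h1 ≫ G₂.c =
      pullback.snd (ζ ≫ G₂.s) G₂.t := by
    have := Groth.Agent.S1889.inv_cmp_cmp G₂ (pullback.fst (ζ ≫ G₂.s) G₂.t ≫ ζ)
      (pullback.snd (ζ ≫ G₂.s) G₂.t) hc0 (by rw [Category.assoc _ G₂.i, G₂.i_s, G₂.comp_t _ _ hc0])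
    refine (Groth.Agent.S7453.lc_congr G₂ rfl hm _ _).trans this
  have hsndx : (pullback.snd (ζ ≫ G₂.s) G₂.t) x ∈ closure (Set.range ⇑a.fR) := by
    rw [← hsnd_eq]
    apply mul_mem_closure a _ _ h1 x
    · rw [Scheme.Hom.comp_apply, Scheme.Hom.comp_apply, hζr]
      exact inv_mem_closure a _ hr₂
    · exact subset_closure hv2
  have hsndW : (pullback.snd (ζ ≫ G₂.s) G₂.t) x ∈ Set.range ⇑a.fR :=
    (hW_iff _).mpr ⟨hxO, hsndx⟩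
  have h2 : m ≫ G₂.s = (pullback.snd (ζ ≫ G₂.s) G₂.t ≫ G₂.i) ≫ G₂.t := by
    rw [Category.assoc, G₂.i_t, hms]
  have hfst_eq : pullback.lift m (pullback.snd (ζ ≫ G₂.s) G₂.t ≫ G₂.i) h2 ≫ G₂.c =
      pullback.fst (ζ ≫ G₂.s) G₂.t ≫ ζ := by
    have := cmp_cmp_inv G₂ (pullback.fst (ζ ≫ G₂.s) G₂.t ≫ ζ)
      (pullback.snd (ζ ≫ G₂.s) G₂.t) hc0 (by rw [G₂.comp_s _ _ hc0, Category.assoc, G₂.i_t])
    refine (Groth.Agent.S7453.lc_congr G₂ hm rfl _ _).trans this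
  have hfin := mul_mem a m (pullback.snd (ζ ≫ G₂.s) G₂.t ≫ G₂.i) h2 x hv2 (by
    rw [Scheme.Hom.comp_apply]; exact inv_mem_range a _ hsndW)
  rw [hfst_eq, Scheme.Hom.comp_apply, hζr] at hfin
  exact hfin

end Groth.Agent.S1892
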