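import Groth.Statements.S18920
-- import your own Groth.Agent.* helpers here

set_option autoImplicit false
universe u
open CAlg

namespace Groth.Agent.S18920

/-- Let M be a commutative monoid, s ≥ 1, and ξ_1, …, ξ_s elements of M with ξ_i ^ (s!/i) = 1 for 1 ≤ i
≤ s (an (s!/i)-th root of unity for each i). Suppose that for every finitely supported function d on
{1, …, s} with Σ_i i · d_i = s! the product ∏_i ξ_i ^ d_i equals 1. Then ξ_1 ^ j = ξ_j for every 1 ≤
j ≤ s. (The source works with roots of unity in the complex numbers.) -/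
theorem result
    {M : Type u} [CommMonoid M] (s : ℕ) (hs : 1 ≤ s) (ξ : ℕ → M)
    (hξ : ∀ i : ℕ, 1 ≤ i → i ≤ s → ξ i ^ (s.factorial / i) = 1)
    (hprod : ∀ d : ℕ →₀ ℕ, (∀ i ∈ d.support, 1 ≤ i ∧ i ≤ s) →
      (d.sum fun i n => i * n) = s.factorial → (d.prod fun i n => ξ i ^ n) = 1)
    (j : ℕ) (hj : 1 ≤ j) (hjs : j ≤ s) :
    ξ 1 ^ j = ξ j := by
  classical
  by_cases hj1 : j = 1
  · subst hj1; rw [pow_one]
  have hjf : j ≤ s.factorial := hjs.trans (Nat.self_le_factorial s)
  set d : ℕ →₀ ℕ := Finsupp.single j 1 + Finsupp.single 1 (s.factorial - j) with hd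
  have hsupp : ∀ i ∈ d.support, 1 ≤ i ∧ i ≤ s := by
    intro i hi
    have h1 := Finsupp.support_add hi
    rw [Finset.mem_union] at h1
    rcases h1 with h1 | h1
    · have := Finsupp.support_single_subset h1
      rw [Finset.mem_singleton] at this
      subst this; exact ⟨hj, hjs⟩
    · have := Finsupp.support_single_subset h1
      rw [Finset.mem_singleton] at this
      subst this; exact ⟨le_rfl, hs⟩
  have hsum : (d.sum fun i n => i * n) = s.factorial := by
    rw [hd, Finsupp.sum_add_index' (by simp) (fun _ _ _ => Nat.mul_add _ _ _), Finsupp.sum_single_index (by simp),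
      Finsupp.sum_single_index (by simp)]
    omega
  have h := hprod d hsupp hsum
  rw [hd, Finsupp.prod_add_index' (by simp) (fun _ _ _ => pow_add _ _ _),
    Finsupp.prod_single_index (by simp), Finsupp.prod_single_index (by simp), pow_one] at h
  have h1 := hξ 1 le_rfl hs
  rw [Nat.div_one] at h1
  calc ξ 1 ^ j = ξ 1 ^ j * (ξ j * ξ 1 ^ (s.factorial - j)) := by rw [h, mul_one]
    _ = ξ j * (ξ 1 ^ j * ξ 1 ^ (s.factorial - j)) := by
        rw [mul_left_comm]
    _ = ξ j := by rw [← pow_add, Nat.add_sub_cancel' hjf, h1, mul_one]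

end Groth.Agent.S18920
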