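import Groth.Statements.S18924
import Mathlib
import Groth.Agent.Lib.Helper20.ResCount2

set_option autoImplicit false
universe u
open ResHyp

namespace Groth.Agent.S18924



section Helpers
open Groth.Agent.Lib.Helper20.ResCount Polynomial

theorem pv_smul {F : Type u} [Field F] (k : ℕ) (c : F) (v : Fin (k + 1) → F) :
    pv k (c • v) = C c * pv k v := by
  unfold pv
  rw [Finset.mul_sum]
  apply Finset.sum_congr rfl
  intro j _
  rw [Pi.smul_apply, smul_eq_mul, C_mul, mul_assoc]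

/-- the resultant as a function of the coefficient vectors -/
noncomputable def RR {F : Type u} [Field F] (n : ℕ) (p : (Fin 3 → F) × (Fin (n + 1) → F)) : F :=
  resultant (pv 2 p.1) (pv n p.2) 2 n

theorem RR_smul {F : Type u} [Field F] (n : ℕ) (c d : F) (a : Fin 3 → F) (b : Fin (n + 1) → F) :
    RR n (c • a, d • b) = c ^ n * d ^ 2 * RR n (a, b) := by
  unfold RR
  show resultant (pv 2 (c • a)) (pv n (d • b)) 2 n = _
  rw [pv_smul, pv_smul, resultant_C_mul_left, resultant_C_mul_right]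
  ring

theorem scale_count (F : Type u) [Field F] [Fintype F] (l : ℕ) :
    kk F * Nat.card {p : (Fin 3 → F) × (Fin (2 * l + 1 + 1) → F) // RR (2 * l + 1) p = 1} =
      Nat.card {p : (Fin 3 → F) × (Fin (2 * l + 1 + 1) → F) // RR (2 * l + 1) p ≠ 0} := by
  rw [← Nat.card_prod]
  have key : ∀ (t : F) (ht : t ≠ 0) (a : Fin 3 → F) (b : Fin (2 * l + 1 + 1) → F),
      RR (2 * l + 1) (t • a, (t⁻¹) ^ l • b) = t * RR (2 * l + 1) (a, b) := by
    intro t ht a b
    rw [RR_smul]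
    congr 1
    rw [pow_succ, ← pow_mul, mul_comm l 2, inv_pow, mul_right_comm,
      mul_inv_cancel₀ (pow_ne_zero _ ht), one_mul]
  let Φ : {t : F // t ≠ 0} × {p : (Fin 3 → F) × (Fin (2 * l + 1 + 1) → F) //
      RR (2 * l + 1) p = 1} →
      {p : (Fin 3 → F) × (Fin (2 * l + 1 + 1) → F) // RR (2 * l + 1) p ≠ 0} :=
    fun x => ⟨(x.1.1 • x.2.1.1, (x.1.1⁻¹) ^ l • x.2.1.2), by
      rw [key x.1.1 x.1.2, show (x.2.1.1, x.2.1.2) = x.2.1 from rfl, x.2.2, mul_one]
      exact x.1.2⟩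
  apply Nat.card_congr (Equiv.ofBijective Φ ⟨?_, ?_⟩)
  · rintro ⟨⟨t, ht⟩, ⟨⟨a, b⟩, hp⟩⟩ ⟨⟨t', ht'⟩, ⟨⟨a', b'⟩, hp'⟩⟩ h
    have h' := congrArg Subtype.val h
    simp only [Φ] at h'
    have hR := congrArg (RR (2 * l + 1)) h'
    rw [key t ht, key t' ht', hp, hp', mul_one, mul_one] at hR
    subst hR
    obtain ⟨h1, h2⟩ := Prod.ext_iff.mp h'
    simp only at h1 h2
    have ha : a = a' := by
      have := congrArg (fun v => t⁻¹ • v) h1
      simpa [smul_smul, inv_mul_cancel₀ ht] using this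
    have hb : b = b' := by
      have := congrArg (fun v => t ^ l • v) h2
      simp only [smul_smul] at this
      rwa [← mul_pow, mul_inv_cancel₀ ht, one_pow, one_smul, one_smul] at this
    subst ha
    subst hb
    rfl
  · rintro ⟨⟨a, b⟩, hR⟩
    obtain ⟨ρ, hρ⟩ : ∃ ρ : F, ρ = RR (2 * l + 1) (a, b) := ⟨_, rfl⟩
    have hρ0 : ρ ≠ 0 := by rw [hρ]; exact hR
    have h1 : RR (2 * l + 1) (ρ⁻¹ • a, ρ ^ l • b) = 1 := by
      have := key ρ⁻¹ (inv_ne_zero hρ0) a b
      rw [inv_inv] at this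
      rw [this, ← hρ, inv_mul_cancel₀ hρ0]
    refine ⟨(⟨ρ, hρ0⟩, ⟨(ρ⁻¹ • a, ρ ^ l • b), h1⟩), ?_⟩
    apply Subtype.ext
    show (ρ • ρ⁻¹ • a, (ρ⁻¹) ^ l • ρ ^ l • b) = (a, b)
    rw [smul_smul, smul_smul, mul_inv_cancel₀ hρ0, one_smul, ← mul_pow, inv_mul_cancel₀ hρ0,
      one_pow, one_smul]

theorem arith2 (j Q : ℕ) :
    Q * (j + 2) ^ 2 - Q = (j + 1) * (j + 2 + 1) * Q :=
  Nat.sub_eq_of_eq_add (by ring)

theorem main (F : Type u) [Field F] [Fintype F] (l : ℕ) (hl : 1 ≤ l) :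
    Nat.card {p : (Fin 3 → F) × (Fin (2 * l + 1 + 1) → F) //
      Polynomial.resultant (∑ i : Fin 3, Polynomial.C (p.1 i) * Polynomial.X ^ (i : ℕ))
        (∑ j : Fin (2 * l + 1 + 1), Polynomial.C (p.2 j) * Polynomial.X ^ (j : ℕ)) 2
          (2 * l + 1) = 1} =
      Fintype.card F ^ (2 * l + 1 + 3) - Fintype.card F ^ (2 * l + 1 + 1) := by
  obtain ⟨m, hm⟩ : ∃ m, 2 * l + 1 = m + 2 := ⟨2 * l - 1, by omega⟩
  have h := scale_count F l
  have hY : Nat.card {p : (Fin 3 → F) × (Fin (2 * l + 1 + 1) → F) // RR (2 * l + 1) p ≠ 0} =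
      kk F ^ 2 * (qq F + 1) * qq F ^ (2 * l + 1 + 1) := by
    rw [hm]
    exact count_total F m
  rw [hY] at h
  have hq : Nat.card F = kk F + 1 := qq_eq F
  have hk : 1 ≤ kk F := by
    have h2 : 1 < Nat.card F := by
      rw [Nat.card_eq_fintype_card]; exact Fintype.one_lt_card
    omega
  have hX : Nat.card {p : (Fin 3 → F) × (Fin (2 * l + 1 + 1) → F) // RR (2 * l + 1) p = 1} =
      kk F * (qq F + 1) * qq F ^ (2 * l + 1 + 1) := by
    apply Nat.eq_of_mul_eq_mul_left hk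
    rw [h]; ring
  have e : Nat.card {p : (Fin 3 → F) × (Fin (2 * l + 1 + 1) → F) //
      Polynomial.resultant (∑ i : Fin 3, Polynomial.C (p.1 i) * Polynomial.X ^ (i : ℕ))
        (∑ j : Fin (2 * l + 1 + 1), Polynomial.C (p.2 j) * Polynomial.X ^ (j : ℕ)) 2
          (2 * l + 1) = 1} =
      kk F * (qq F + 1) * qq F ^ (2 * l + 1 + 1) := hX
  rw [e, ← Nat.card_eq_fintype_card]
  obtain ⟨j, hj⟩ : ∃ j, kk F = j + 1 := ⟨kk F - 1, by omega⟩
  have hq' : Nat.card F = j + 2 := by omega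
  show kk F * (Nat.card F + 1) * Nat.card F ^ (2 * l + 1 + 1) = _
  rw [hj, hq']
  have e3 : (j + 2) ^ (2 * l + 1 + 3) = (j + 2) ^ (2 * l + 1 + 1) * (j + 2) ^ 2 := by ring
  rw [e3, arith2]

end Helpers

/-- Let F be a finite field with q elements and let n ≥ 3 be odd. Count the pairs (f, g) where f is a
binary quadratic form and g a binary form of degree n over F, recorded by their coefficient vectors
of lengths 3 and n + 1 (leading coefficients may vanish), whose resultant — the Sylvester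
determinant of the two coefficient vectors with size parameters 2 and n — equals 1. The number of
such pairs is q ^ (n + 3) - q ^ (n + 1). (The published statement gives q ^ (n + 3) + q ^ (n + 1);
for q = 3 and n = 3 the count is 648, not 810.) -/
theorem result (F : Type u) [Field F] [Fintype F] (n : ℕ)
    (hn : Odd n) (h3 : 3 ≤ n) :
    Nat.card {p : (Fin 3 → F) × (Fin (n + 1) → F) //
      Polynomial.resultant (∑ i : Fin 3, Polynomial.C (p.1 i) * Polynomial.X ^ (i : ℕ))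
        (∑ j : Fin (n + 1), Polynomial.C (p.2 j) * Polynomial.X ^ (j : ℕ)) 2 n = 1} =
      Fintype.card F ^ (n + 3) - Fintype.card F ^ (n + 1) := by

  obtain ⟨l, hl⟩ := hn
  subst hl
  exact main F l (by omega)

end Groth.Agent.S18924
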