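import Groth.Statements.S18925
import Mathlib
import Groth.Agent.Lib.Helper20.ResCount2

set_option autoImplicit false
universe u
open ResHyp

namespace Groth.Agent.S18925



section Helpers
open Groth.Agent.Lib.Helper20.ResCount

theorem arith (j Q : ℕ) :
    Q * (j + 2) ^ 3 - Q * (j + 2) ^ 2 - Q * (j + 2) + Q = (j + 1) ^ 2 * (j + 2 + 1) * Q := by
  have a1 : Q * (j + 2) ^ 3 - Q * (j + 2) ^ 2 = Q * (j + 2) ^ 2 * (j + 1) :=
    Nat.sub_eq_of_eq_add (by ring)
  have a2 : Q * (j + 2) ^ 2 * (j + 1) - Q * (j + 2) = Q * (j ^ 3 + 5 * j ^ 2 + 7 * j + 2) :=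
    Nat.sub_eq_of_eq_add (by ring)
  rw [a1, a2]
  ring

theorem main (F : Type u) [Field F] [Fintype F] (m : ℕ) :
    Nat.card {p : (Fin 3 → F) × (Fin (m + 2 + 1) → F) //
      Polynomial.resultant (∑ i : Fin 3, Polynomial.C (p.1 i) * Polynomial.X ^ (i : ℕ))
        (∑ j : Fin (m + 2 + 1), Polynomial.C (p.2 j) * Polynomial.X ^ (j : ℕ)) 2 (m + 2) ≠ 0} =
      Fintype.card F ^ (m + 2 + 4) - Fintype.card F ^ (m + 2 + 3) - Fintype.card F ^ (m + 2 + 2)
        + Fintype.card F ^ (m + 2 + 1) := by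
  have h := count_total F m
  have e : Nat.card {p : (Fin 3 → F) × (Fin (m + 2 + 1) → F) //
      Polynomial.resultant (∑ i : Fin 3, Polynomial.C (p.1 i) * Polynomial.X ^ (i : ℕ))
        (∑ j : Fin (m + 2 + 1), Polynomial.C (p.2 j) * Polynomial.X ^ (j : ℕ)) 2 (m + 2) ≠ 0} =
      kk F ^ 2 * (qq F + 1) * qq F ^ (m + 3) := h
  rw [e, ← Nat.card_eq_fintype_card]
  have hq : Nat.card F = kk F + 1 := qq_eq F
  have hk : 1 ≤ kk F := by
    have h2 : 1 < Nat.card F := by
      rw [Nat.card_eq_fintype_card]; exact Fintype.one_lt_card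
    omega
  obtain ⟨j, hj⟩ : ∃ j, kk F = j + 1 := ⟨kk F - 1, by omega⟩
  have hq' : Nat.card F = j + 2 := by omega
  show kk F ^ 2 * (Nat.card F + 1) * Nat.card F ^ (m + 3) = _
  rw [hj, hq']
  have e4 : (j + 2) ^ (m + 2 + 4) = (j + 2) ^ (m + 3) * (j + 2) ^ 3 := by ring
  have e3 : (j + 2) ^ (m + 2 + 3) = (j + 2) ^ (m + 3) * (j + 2) ^ 2 := by ring
  have e2 : (j + 2) ^ (m + 2 + 2) = (j + 2) ^ (m + 3) * (j + 2) := by ring
  have e1 : (j + 2) ^ (m + 2 + 1) = (j + 2) ^ (m + 3) := by ring
  rw [e4, e3, e2, e1, arith]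

end Helpers

/-- Let F be a finite field with q elements and let n ≥ 2. Count the pairs (f, g) where f is a binary
quadratic form and g a binary form of degree n over F, recorded by their coefficient vectors of
lengths 3 and n + 1 (leading coefficients may vanish), whose resultant — the Sylvester determinant
of the two coefficient vectors with size parameters 2 and n — is nonzero, i.e. f and g have no
common zero on the projective line. The number of such pairs is q ^ (n + 4) - q ^ (n + 3) - q ^ (n +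
2) + q ^ (n + 1). (The source's result is the compactly supported ℓ-adic cohomology of this locus:
one-dimensional of Tate weights n + 4, n + 3, n + 2, n + 1 in degrees 2n + 8, 2n + 7, 2n + 5, 2n + 4
and zero elsewhere; this row keeps only the resulting point count.) -/
theorem result (F : Type u) [Field F] [Fintype F] (n : ℕ) (h2 : 2 ≤ n) :
    Nat.card {p : (Fin 3 → F) × (Fin (n + 1) → F) //
      Polynomial.resultant (∑ i : Fin 3, Polynomial.C (p.1 i) * Polynomial.X ^ (i : ℕ))
        (∑ j : Fin (n + 1), Polynomial.C (p.2 j) * Polynomial.X ^ (j : ℕ)) 2 n ≠ 0} =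
      Fintype.card F ^ (n + 4) - Fintype.card F ^ (n + 3) - Fintype.card F ^ (n + 2) + Fintype.card F ^ (n + 1) := by

  obtain ⟨m, rfl⟩ : ∃ m, n = m + 2 := ⟨n - 2, by omega⟩
  exact main F m

end Groth.Agent.S18925
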