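import Groth.Statements.S18928
import Mathlib.Tactic.Ring
import Mathlib.Data.Nat.Factorial.Basic
import Mathlib.Data.Nat.Choose.Sum


set_option autoImplicit false
universe u
open DPow

namespace Groth.Agent.S18928

/-- Let B be a commutative ring, I an ideal of B with a divided power structure, p a prime, r a natural
number, b an element of B and δ an element of I. Then (b + δ)^(p^r) − b^(p^r) lies in the ideal p^r
I. (The source states this for a divided power thickening over the Witt vectors of length n and 0 ≤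
r ≤ n; neither restriction is used.) -/
theorem result {B : Type u} [CommRing B] {I : Ideal B}
    (hI : DividedPowers I) (p : ℕ) [Fact p.Prime] (r : ℕ) (b δ : B) (hδ : δ ∈ I) :
    (b + δ) ^ (p ^ r) - b ^ (p ^ r) ∈ Ideal.span {((p : B) ^ r)} * I := by
  obtain ⟨N', hN'⟩ : ∃ N', p ^ r = N' + 1 :=
    ⟨p ^ r - 1, (Nat.sub_add_cancel (Nat.one_le_pow _ _ (Fact.out : p.Prime).pos)).symm⟩
  have hcast : ((p : B) ^ r) = ((N' + 1 : ℕ) : B) := by rw [← hN']; push_cast; rfl
  rw [hN', add_comm b δ, add_pow, Finset.sum_range_succ']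
  simp only [pow_zero, Nat.sub_zero, Nat.choose_zero_right, Nat.cast_one, mul_one, one_mul,
    add_sub_cancel_right]
  refine Submodule.sum_mem _ fun i _ => ?_
  have h1 : δ ^ (i + 1) = ((i + 1).factorial : B) * hI.dpow (i + 1) δ :=
    (hI.factorial_mul_dpow_eq_pow hδ).symm
  have h2 : ((i + 1).factorial : B) * ((N' + 1).choose (i + 1) : B) =
      ((N' + 1 : ℕ) : B) * (N'.descFactorial i : B) := by
    rw [← Nat.cast_mul, ← Nat.cast_mul, ← Nat.descFactorial_eq_factorial_mul_choose,
      Nat.succ_descFactorial_succ]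
  have h3 : δ ^ (i + 1) * b ^ (N' + 1 - (i + 1)) * ((N' + 1).choose (i + 1) : B) =
      ((N' + 1 : ℕ) : B) * ((N'.descFactorial i : B) * b ^ (N' + 1 - (i + 1)) * hI.dpow (i + 1) δ) := by
    rw [h1]
    calc ((i + 1).factorial : B) * hI.dpow (i + 1) δ * b ^ (N' + 1 - (i + 1)) *
          ((N' + 1).choose (i + 1) : B)
        = (((i + 1).factorial : B) * ((N' + 1).choose (i + 1) : B)) *
          (b ^ (N' + 1 - (i + 1)) * hI.dpow (i + 1) δ) := by ring
      _ = _ := by rw [h2]; ring
  rw [h3, hcast]
  exact Ideal.mul_mem_mul (Ideal.mem_span_singleton_self _)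
    (I.mul_mem_left _ (hI.dpow_mem (Nat.succ_ne_zero i) hδ))

end Groth.Agent.S18928
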