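import Groth.Statements.S18929
import Groth.Agent.S18928
import Mathlib.RingTheory.Ideal.Maps


set_option autoImplicit false
universe u
open DPow

namespace Groth.Agent.S18929

theorem ghost_eq_sum (p : ℕ) [Fact p.Prime] (n : ℕ) {B : Type u} [CommRing B] (x : WittVector p B) :
    WittVector.ghostComponent n x =
      ∑ i ∈ Finset.range (n + 1), (p : B) ^ i * (x.coeff i) ^ (p ^ (n - i)) := by
  rw [WittVector.ghostComponent_apply, wittPolynomial_eq_sum_C_mul_X_pow, map_sum]
  refine Finset.sum_congr rfl fun i _ => ?_
  simp

theorem ghost_eq_sum_fin (p : ℕ) [Fact p.Prime] (n : ℕ) {B : Type u} [CommRing B]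
    (hp : (p : B) ^ n = 0) (x : WittVector p B) :
    WittVector.ghostComponent n x =
      ∑ i : Fin n, (p : B) ^ (i : ℕ) * (x.coeff i) ^ (p ^ (n - i)) := by
  rw [ghost_eq_sum, Finset.sum_range_succ, hp, zero_mul, add_zero,
    Fin.sum_univ_eq_sum_range (fun i => (p : B) ^ i * (x.coeff i) ^ (p ^ (n - i))) n]

theorem pow_mem_of_dp (p : ℕ) [Fact p.Prime] {B : Type u} [CommRing B] {I : Ideal B}
    (hI : DividedPowers I) (r : ℕ) (δ : B) (hδ : δ ∈ I) :
    δ ^ (p ^ r) ∈ Ideal.span {((p : B) ^ r)} * I := by
  have := Groth.Agent.S18928.result hI p r 0 δ hδ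
  rwa [zero_add, zero_pow (pow_ne_zero _ (Fact.out : p.Prime).ne_zero), sub_zero] at this



/-- Let p be a prime, n a natural number, B a commutative ring in which p^n = 0, and I an ideal of B
equipped with divided powers. There is a ring homomorphism θ from the truncated Witt vectors
W_n(B/I) to B such that, for every Witt vector x over B, θ applied to the truncation of the image of
x in W_n(B/I) equals Σ_{i<n} p^i x_i^(p^(n−i)); in particular this sum depends only on the residues
of x_0, …, x_{n−1} modulo I. (The source works with a divided power thickening of an algebra over a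
perfect field and also checks linearity over the Witt vectors of that field; only the ring
homomorphism is asserted here. θ is unique, the truncation-of-reduction map being surjective.) -/
theorem result (p : ℕ) [Fact p.Prime] (n : ℕ)
    {B : Type u} [CommRing B] (hp : (p : B) ^ n = 0) {I : Ideal B} (hI : DividedPowers I) :
    ∃ θ : TruncatedWittVector p n (B ⧸ I) →+* B, ∀ x : WittVector p B, θ (WittVector.truncate n (WittVector.map (Ideal.Quotient.mk I) x)) =
        ∑ i : Fin n, (p : B) ^ (i : ℕ) * (x.coeff i) ^ (p ^ (n - i)) := by
  let f : WittVector p B →+* TruncatedWittVector p n (B ⧸ I) :=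
    (WittVector.truncate n).comp (WittVector.map (Ideal.Quotient.mk I))
  have hf : Function.Surjective f :=
    (WittVector.truncate_surjective p n _).comp
      (WittVector.map_surjective _ Ideal.Quotient.mk_surjective)
  let g : WittVector p B →+* B := WittVector.ghostComponent n
  have hker : RingHom.ker f ≤ RingHom.ker g := by
    intro x hx
    rw [RingHom.mem_ker] at hx ⊢
    have hxi : ∀ i : Fin n, x.coeff i ∈ I := by
      intro i
      have := congrArg (fun z => TruncatedWittVector.coeff i z) hx
      simp only [f, RingHom.comp_apply, WittVector.coeff_truncate, WittVector.map_coeff,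
        TruncatedWittVector.coeff_zero] at this
      exact Ideal.Quotient.eq_zero_iff_mem.mp this
    simp only [g]
    rw [ghost_eq_sum_fin p n hp]
    refine Finset.sum_eq_zero fun i _ => ?_
    have h1 := pow_mem_of_dp p hI (n - i) (x.coeff i) (hxi i)
    have h2 : (p : B) ^ (i : ℕ) * x.coeff i ^ p ^ (n - (i : ℕ)) ∈
        Ideal.span {((p : B) ^ (i : ℕ))} * (Ideal.span {((p : B) ^ (n - (i : ℕ)))} * I) :=
      Ideal.mul_mem_mul (Ideal.mem_span_singleton_self _) h1
    rw [← mul_assoc, Ideal.span_singleton_mul_span_singleton, ← pow_add,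
      Nat.add_sub_cancel' i.2.le, hp] at h2
    simpa using h2
  refine ⟨(RingHom.liftOfRightInverse f (Function.surjInv hf) (Function.rightInverse_surjInv hf))
    ⟨g, hker⟩, fun x => ?_⟩
  have : (RingHom.liftOfRightInverse f (Function.surjInv hf) (Function.rightInverse_surjInv hf))
    ⟨g, hker⟩ (f x) = g x := RingHom.liftOfRightInverse_comp_apply _ _ _ _ x
  exact this.trans (ghost_eq_sum_fin p n hp x)

end Groth.Agent.S18929
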