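import Groth.Statements.S1893
import Mathlib

set_option autoImplicit false
universe u
open CategoryTheory CategoryTheory.Limits AlgebraicGeometry
open Grpd

namespace Groth.Agent.S1893



theorem exists_compact_open_between (X : Scheme.{u}) (E : Set X) (hE : IsCompact E)
    (O : X.Opens) (hEO : E ⊆ O) :
    ∃ V : X.Opens, IsCompact (V : Set X) ∧ E ⊆ V ∧ V ≤ O := by
  have hb := X.isBasis_affineOpens
  have key : ∀ y ∈ E, ∃ V : X.Opens, IsAffineOpen V ∧ y ∈ V ∧ V ≤ O := by
    intro y hy
    obtain ⟨V, hV, hyV, hVO⟩ := TopologicalSpace.Opens.isBasis_iff_nbhd.mp hb (hEO hy)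
    exact ⟨V, hV, hyV, hVO⟩
  choose N hN1 hN2 hN3 using key
  obtain ⟨t, ht⟩ := hE.elim_nhds_subcover' (fun y hy => (N y hy : Set X))
    (fun y hy => (N y hy).isOpen.mem_nhds (hN2 y hy))
  refine ⟨⨆ y ∈ t, N y.1 y.2, ?_, ?_, ?_⟩
  · have : ((⨆ y ∈ t, N y.1 y.2 : X.Opens) : Set X) = ⋃ y ∈ t, (N y.1 y.2 : Set X) := by
      simp
    rw [this]
    exact t.isCompact_biUnion (fun y _ => (hN1 y.1 y.2).isCompact)
  · intro z hz
    have := ht hz
    simp only [Set.mem_iUnion] at this
    obtain ⟨y, hyt, hzy⟩ := this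
    simp only [TopologicalSpace.Opens.coe_iSup, Set.mem_iUnion]
    exact ⟨y, hyt, hzy⟩
  · simp only [iSup_le_iff]
    intro y _
    exact hN3 y.1 y.2

/-- Let (U, R, s, t, c) be a groupoid scheme over S with s, t quasi-compact and flat and U
quasi-separated, and W ⊆ U a quasi-compact open. Then the saturation t(s⁻¹(W)) can be written as an
intersection of quasi-compact opens of U, indexed by a nonempty set. (A groupoid scheme carries U,
R, s, t, c, e, i over S with the groupoid axioms on T-points; 'finite locally free' is finite, flat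
and locally of finite presentation; C ⊂ Γ(U) is the ring of functions a with s♯(a) = t♯(a) and M =
Spec C.) -/
theorem result (S : Scheme.{u}) (G : Grpd.GroupoidScheme S) [QuasiCompact G.s] [Flat G.s] [QuasiCompact G.t] [Flat G.t] [QuasiSeparatedSpace G.U] (W : G.U.Opens) (hW : IsCompact (W : Set G.U)) : ∃ (ι : Type u) (_ : Nonempty ι) (V : ι → G.U.Opens), (∀ i, IsCompact (V i : Set G.U)) ∧ ⇑G.t '' (⇑G.s ⁻¹' (W : Set G.U)) = ⋂ i, (V i : Set G.U) := by

  obtain ⟨E, hEdef⟩ : ∃ E : Set G.U, E = ⇑G.t '' (⇑G.s ⁻¹' (W : Set G.U)) := ⟨_, rfl⟩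
  rw [← hEdef]
  have hEc : IsCompact E := by
    rw [hEdef]
    exact (QuasiCompact.isCompact_preimage (f := G.s) _ W.isOpen hW).image G.t.continuous
  have hEg : StableUnderGeneralization E := by
    intro y y' hyy' hy
    rw [hEdef] at hy ⊢
    obtain ⟨x, hx, rfl⟩ := hy
    obtain ⟨x', hx', rfl⟩ := Flat.generalizingMap G.t hyy'
    refine ⟨x', ?_, rfl⟩
    exact (W.isOpen.preimage G.s.continuous).stableUnderGeneralization hx' hx
  refine ⟨{V : G.U.Opens // IsCompact (V : Set G.U) ∧ E ⊆ V}, ?_, fun V => V.1, fun V => V.2.1, ?_⟩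
  · obtain ⟨V, hV1, hV2, _⟩ := exists_compact_open_between G.U E hEc ⊤ (fun _ _ => trivial)
    exact ⟨⟨V, hV1, hV2⟩⟩
  · apply Set.Subset.antisymm
    · intro y hy
      simp only [Set.mem_iInter]
      intro V
      exact V.2.2 hy
    · intro x hx
      by_contra hxE
      have hsub : E ⊆ ((⟨(closure {x})ᶜ, isClosed_closure.isOpen_compl⟩ : G.U.Opens) : Set G.U) := by
        intro y hy hyx
        exact hxE (hEg (specializes_iff_mem_closure.mpr hyx) hy)
      obtain ⟨V, hV1, hV2, hV3⟩ := exists_compact_open_between G.U E hEc _ hsub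
      simp only [Set.mem_iInter] at hx
      have := hV3 (hx ⟨V, hV1, hV2⟩)
      exact this (subset_closure rfl)

end Groth.Agent.S1893
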