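import Groth.Statements.S18930
import Mathlib.RingTheory.Ideal.Quotient.Operations


set_option autoImplicit false
universe u
open DPow

namespace Groth.Agent.S18930

/-- zeroth coefficient of elements of `ker θ` -/
theorem coeff_zero_pow_of_mem_ker (p : ℕ) [Fact p.Prime] (n : ℕ) (hn : 0 < n)
    {B : Type u} [CommRing B]
    (θ : TruncatedWittVector p n (B ⧸ (Ideal.span {(p : B)})) →+* B)
    (hθ : ∀ x : WittVector p B, θ (WittVector.truncate n (WittVector.map (Ideal.Quotient.mk (Ideal.span {(p : B)})) x)) =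
        ∑ i : Fin n, (p : B) ^ (i : ℕ) * (x.coeff i) ^ (p ^ (n - i)))
    (k : TruncatedWittVector p n (B ⧸ (Ideal.span {(p : B)}))) (hk : θ k = 0) :
    (TruncatedWittVector.coeff ⟨0, hn⟩ k) ^ (p ^ n) = 0 := by
  obtain ⟨y, rfl⟩ := WittVector.truncate_surjective p n _ k
  obtain ⟨x, rfl⟩ := WittVector.map_surjective _ Ideal.Quotient.mk_surjective y
  rw [hθ x] at hk
  obtain ⟨m, rfl⟩ : ∃ m, n = m + 1 := ⟨n - 1, by omega⟩
  rw [Fin.sum_univ_succ] at hk
  have h1 := congrArg (Ideal.Quotient.mk (Ideal.span {(p : B)})) hk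
  have hp0 : Ideal.Quotient.mk (Ideal.span {(p : B)}) (p : B) = 0 :=
    Ideal.Quotient.eq_zero_iff_mem.mpr (Ideal.mem_span_singleton_self _)
  rw [map_add, map_sum, map_zero] at h1
  rw [Finset.sum_eq_zero (fun i _ => by
    rw [map_mul, map_pow, hp0, Fin.val_succ, zero_pow (Nat.succ_ne_zero _), zero_mul]),
    add_zero] at h1
  simp only [Fin.val_zero, pow_zero, one_mul, Nat.sub_zero, map_pow] at h1
  rw [WittVector.coeff_truncate, WittVector.map_coeff]
  exact h1



/-- Let p be a prime, n ≥ 1, B a commutative ring with p^n = 0 and A = B/pB. Let θ : W_n(A) → B be the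
ring homomorphism which sends the reduction of a Witt vector (x_0, …, x_{n−1}) over B to Σ_{i<n} p^i
x_i^(p^(n−i)), let J_n be its kernel and let I_n be the set of a in W_n(A) whose zeroth component
satisfies a_0^(p^n) = 0. Then J_n + (p) ⊆ I_n. (In the source B is the ring of global sections of a
scheme over the Witt vectors of length n of a perfect field.) -/
theorem result (p : ℕ) [Fact p.Prime] (n : ℕ) (hn : 0 < n)
    {B : Type u} [CommRing B] (hp : (p : B) ^ n = 0)
    (θ : TruncatedWittVector p n (B ⧸ (Ideal.span {(p : B)})) →+* B)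
    (hθ : ∀ x : WittVector p B, θ (WittVector.truncate n (WittVector.map (Ideal.Quotient.mk (Ideal.span {(p : B)})) x)) =
        ∑ i : Fin n, (p : B) ^ (i : ℕ) * (x.coeff i) ^ (p ^ (n - i)))
    (a : TruncatedWittVector p n (B ⧸ (Ideal.span {(p : B)})))
    (ha : a ∈ RingHom.ker θ ⊔ Ideal.span {(p : TruncatedWittVector p n (B ⧸ (Ideal.span {(p : B)})))}) :
    (TruncatedWittVector.coeff ⟨0, hn⟩ a) ^ (p ^ n) = 0 := by
  obtain ⟨k, hk, c', hc', rfl⟩ := Submodule.mem_sup.mp ha
  obtain ⟨c, rfl⟩ := Ideal.mem_span_singleton'.mp hc'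
  have hk0 := coeff_zero_pow_of_mem_ker p n hn θ hθ k hk
  obtain ⟨x, rfl⟩ := WittVector.truncate_surjective p n _ k
  obtain ⟨y, rfl⟩ := WittVector.truncate_surjective p n _ c
  have hp0 : ((p : ℕ) : B ⧸ (Ideal.span {(p : B)})) = 0 := by
    have : Ideal.Quotient.mk (Ideal.span {(p : B)}) (p : B) = 0 :=
      Ideal.Quotient.eq_zero_iff_mem.mpr (Ideal.mem_span_singleton_self _)
    rwa [map_natCast] at this
  have h1 : WittVector.truncate n x + WittVector.truncate n y * (p : TruncatedWittVector p n _) =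
      WittVector.truncate n (x + y * (p : WittVector p _)) := by
    rw [map_add, map_mul, map_natCast]
  rw [h1, WittVector.coeff_truncate]
  rw [WittVector.coeff_truncate] at hk0
  have h2 : (x + y * (p : WittVector p (B ⧸ (Ideal.span {(p : B)})))).coeff 0 = x.coeff 0 := by
    have := map_add (WittVector.constantCoeff (p := p) (R := B ⧸ (Ideal.span {(p : B)}))) x
      (y * (p : WittVector p _))
    rw [map_mul, map_natCast, hp0, mul_zero, add_zero] at this
    exact this
  exact (congrArg (· ^ (p ^ n)) h2).trans hk0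

end Groth.Agent.S18930
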