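import Groth.Statements.S18931
import Mathlib.RingTheory.Ideal.Quotient.Operations
import Mathlib.RingTheory.WittVector.Identities
import Mathlib.RingTheory.WittVector.Domain
import Mathlib.Algebra.CharP.Quotient


set_option autoImplicit false
universe u
open DPow

namespace Groth.Agent.S18931

theorem surj_pow_pow {R : Type*} [Monoid R] (p : ℕ)
    (h : Function.Surjective (fun x : R => x ^ p)) (n : ℕ) :
    Function.Surjective (fun x : R => x ^ p ^ n) := by
  induction n with
  | zero => intro y; exact ⟨y, by simp⟩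
  | succ n ih =>
    intro y
    obtain ⟨z, rfl⟩ := ih y
    obtain ⟨w, rfl⟩ := h z
    exact ⟨w, by simp only [pow_succ, pow_mul]; rw [← pow_mul, mul_comm, pow_mul]⟩

/-- In characteristic `p` with surjective Frobenius, truncated Witt vectors with vanishing zeroth
component are multiples of `p`. -/
theorem mem_span_p_of_coeff_zero (p : ℕ) [Fact p.Prime] (n : ℕ) (hn : 0 < n)
    {A : Type u} [CommRing A] [CharP A p] (hF : Function.Surjective (fun y : A => y ^ p))
    (z : TruncatedWittVector p n A) (hz : TruncatedWittVector.coeff ⟨0, hn⟩ z = 0) :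
    z ∈ Ideal.span {(p : TruncatedWittVector p n A)} := by
  obtain ⟨w, rfl⟩ := WittVector.truncate_surjective p n _ z
  rw [WittVector.coeff_truncate] at hz
  have hw : w = WittVector.verschiebung (w.shift 1) := by
    have := WittVector.eq_iterate_verschiebung (x := w) (n := 1) (fun i hi => by
      have : i = 0 := by omega
      subst this; exact hz)
    simpa using this
  choose c hc using fun i => hF ((w.shift 1).coeff i)
  have hFc : WittVector.frobenius (WittVector.mk p c) = w.shift 1 := by
    ext i
    rw [WittVector.coeff_frobenius_charP]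
    exact hc i
  rw [hw, ← hFc, WittVector.verschiebung_frobenius, map_mul, map_natCast]
  exact Ideal.mem_span_singleton'.mpr ⟨_, rfl⟩

/-- successive correction of the components -/
theorem exists_correction (p : ℕ) [Fact p.Prime] (n : ℕ) {B : Type u} [CommRing B]
    (hF : Function.Surjective (fun y : B ⧸ (Ideal.span {(p : B)}) => y ^ p))
    (x₀ : B) (hx₀ : ∃ b, x₀ ^ (p ^ n) = (p : B) * b) :
    ∀ j, 1 ≤ j → j ≤ n → ∃ x : ℕ → B, x 0 = x₀ ∧
      ∃ b, ∑ i ∈ Finset.range j, (p : B) ^ i * (x i) ^ (p ^ (n - i)) = (p : B) ^ j * b := by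
  intro j hj
  induction j, hj using Nat.le_induction with
  | base =>
    intro _
    obtain ⟨b, hb⟩ := hx₀
    exact ⟨fun _ => x₀, rfl, b, by simp [hb]⟩
  | succ j hj ih =>
    intro hjn
    obtain ⟨x, hx0, b, hb⟩ := ih (by omega)
    obtain ⟨ybar, hy⟩ := surj_pow_pow p hF (n - j) (Ideal.Quotient.mk _ (-b))
    obtain ⟨y, rfl⟩ := Ideal.Quotient.mk_surjective ybar
    have h1 : y ^ (p ^ (n - j)) + b ∈ Ideal.span {(p : B)} := by
      rw [← Ideal.Quotient.eq_zero_iff_mem, map_add, map_pow]
      have : (Ideal.Quotient.mk (Ideal.span {(p : B)})) y ^ p ^ (n - j) =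
          Ideal.Quotient.mk _ (-b) := hy
      rw [this, map_neg, neg_add_cancel]
    obtain ⟨b', hb'⟩ := Ideal.mem_span_singleton'.mp h1
    refine ⟨Function.update x j y, ?_, b', ?_⟩
    · rw [Function.update_of_ne (by omega)]; exact hx0
    · rw [Finset.sum_range_succ, Function.update_self]
      have h2 : ∑ i ∈ Finset.range j, (p : B) ^ i * (Function.update x j y i) ^ (p ^ (n - i)) =
          ∑ i ∈ Finset.range j, (p : B) ^ i * (x i) ^ (p ^ (n - i)) := by
        refine Finset.sum_congr rfl fun i hi => ?_
        rw [Function.update_of_ne (Finset.mem_range.mp hi).ne]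
      rw [h2, hb]
      have h3 : y ^ (p ^ (n - j)) = b' * (p : B) - b := by rw [hb']; ring
      rw [h3, pow_succ]; ring



/-- Let p be a prime, n ≥ 1, B a commutative ring with p^n = 0 and A = B/pB, and assume that the p-th
power map of A is surjective. Let θ : W_n(A) → B be the ring homomorphism which sends the reduction
of a Witt vector (x_0, …, x_{n−1}) over B to Σ_{i<n} p^i x_i^(p^(n−i)). Then every a in W_n(A) with
a_0^(p^n) = 0 lies in ker θ + (p); together with the reverse inclusion, ker θ + (p) is exactly the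
set of such a. (In the source B is the ring of global sections of a scheme over the Witt vectors of
length n of a perfect field. The printed argument subtracts a single correction term, which suffices
for n ≤ 2; in general one corrects the components one at a time.) -/
theorem result (p : ℕ) [Fact p.Prime]
    (n : ℕ) (hn : 0 < n) {B : Type u} [CommRing B] (hp : (p : B) ^ n = 0)
    (hF : Function.Surjective (fun y : B ⧸ (Ideal.span {(p : B)}) => y ^ p))
    (θ : TruncatedWittVector p n (B ⧸ (Ideal.span {(p : B)})) →+* B)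
    (hθ : ∀ x : WittVector p B, θ (WittVector.truncate n (WittVector.map (Ideal.Quotient.mk (Ideal.span {(p : B)})) x)) =
        ∑ i : Fin n, (p : B) ^ (i : ℕ) * (x.coeff i) ^ (p ^ (n - i)))
    (a : TruncatedWittVector p n (B ⧸ (Ideal.span {(p : B)}))) (ha : (TruncatedWittVector.coeff ⟨0, hn⟩ a) ^ (p ^ n) = 0) :
    a ∈ RingHom.ker θ ⊔ Ideal.span {(p : TruncatedWittVector p n (B ⧸ (Ideal.span {(p : B)})))} := by
  by_cases hu : IsUnit (p : B)
  · -- degenerate case: `B` is trivial
    have h1 : (1 : B) = 0 := by
      have := (hu.pow n)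
      rw [hp] at this
      exact (isUnit_zero_iff.mp this).symm
    have hsub : Subsingleton (B ⧸ (Ideal.span {(p : B)})) := by
      have : Subsingleton B := subsingleton_of_zero_eq_one h1.symm
      exact Ideal.Quotient.subsingleton_iff.mpr (Subsingleton.elim _ _)
    have : a = 0 := by
      ext i
      exact Subsingleton.elim _ _
    rw [this]
    exact Submodule.zero_mem _
  have hchar : CharP (B ⧸ (Ideal.span {(p : B)})) p := CharP.quotient B p hu
  obtain ⟨x₀, hx₀a⟩ := Ideal.Quotient.mk_surjective (TruncatedWittVector.coeff ⟨0, hn⟩ a)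
  have hx₀ : ∃ b, x₀ ^ (p ^ n) = (p : B) * b := by
    have : x₀ ^ (p ^ n) ∈ Ideal.span {(p : B)} := by
      rw [← Ideal.Quotient.eq_zero_iff_mem, map_pow, hx₀a, ha]
    obtain ⟨b, hb⟩ := Ideal.mem_span_singleton'.mp this
    exact ⟨b, by rw [← hb, mul_comm]⟩
  obtain ⟨x, hx0, b, hb⟩ := exists_correction p n hF x₀ hx₀ n hn le_rfl
  rw [hp, zero_mul] at hb
  set k := WittVector.truncate n (WittVector.map (Ideal.Quotient.mk (Ideal.span {(p : B)}))
    (WittVector.mk p x)) with hk
  have hkθ : k ∈ RingHom.ker θ := by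
    rw [RingHom.mem_ker, hk, hθ, ← hb,
      ← Fin.sum_univ_eq_sum_range (fun i => (p : B) ^ i * (x i) ^ (p ^ (n - i))) n]
    rfl
  have hk0 : TruncatedWittVector.coeff ⟨0, hn⟩ k = TruncatedWittVector.coeff ⟨0, hn⟩ a := by
    rw [hk, WittVector.coeff_truncate, WittVector.map_coeff, ← hx₀a]
    change Ideal.Quotient.mk _ (x 0) = _
    rw [hx0]
  have hdiff : TruncatedWittVector.coeff ⟨0, hn⟩ (a - k) = 0 := by
    obtain ⟨u, hu'⟩ := WittVector.truncate_surjective p n _ a
    obtain ⟨v, hv'⟩ := WittVector.truncate_surjective p n _ k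
    rw [← hu', ← hv', ← map_sub, WittVector.coeff_truncate]
    rw [← hu', ← hv', WittVector.coeff_truncate, WittVector.coeff_truncate] at hk0
    have := map_sub (WittVector.constantCoeff (p := p) (R := B ⧸ (Ideal.span {(p : B)}))) u v
    change (u - v).coeff 0 = u.coeff 0 - v.coeff 0 at this
    rw [this]
    exact sub_eq_zero.mpr hk0.symm
  have hmem := mem_span_p_of_coeff_zero p n hn hF (a - k) hdiff
  exact Submodule.mem_sup.mpr ⟨k, hkθ, a - k, hmem, by ring⟩

end Groth.Agent.S18931
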