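import Groth.Statements.S18932
import Mathlib.RingTheory.WittVector.Identities
import Mathlib.RingTheory.Ideal.Quotient.Operations


set_option autoImplicit false
universe u
open DPow

namespace Groth.Agent.S18932

theorem surj_pow_pow {R : Type*} [Monoid R] (p : ℕ)
    (h : Function.Surjective (fun x : R => x ^ p)) (n : ℕ) :
    Function.Surjective (fun x : R => x ^ p ^ n) := by
  induction n with
  | zero => intro y; exact ⟨y, by simp⟩
  | succ n ih =>
    intro y
    obtain ⟨z, rfl⟩ := ih y
    obtain ⟨w, rfl⟩ := h z
    exact ⟨w, by simp only [pow_succ, pow_mul]; rw [← pow_mul, mul_comm, pow_mul]⟩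

theorem exists_approx (p : ℕ) (n : ℕ) {B : Type u} [CommRing B]
    (hF : Function.Surjective (fun y : B ⧸ (Ideal.span {(p : B)}) => y ^ p)) (a : B) :
    ∀ j, j ≤ n → ∃ x : ℕ → B,
      ∃ b, a - ∑ i ∈ Finset.range j, (p : B) ^ i * (x i) ^ (p ^ (n - i)) = (p : B) ^ j * b := by
  intro j
  induction j with
  | zero => intro _; exact ⟨fun _ => 0, a, by simp⟩
  | succ j ih =>
    intro hjn
    obtain ⟨x, b, hb⟩ := ih (by omega)
    obtain ⟨ybar, hy⟩ := surj_pow_pow p hF (n - j) (Ideal.Quotient.mk _ b)
    obtain ⟨y, rfl⟩ := Ideal.Quotient.mk_surjective ybar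
    have h1 : b - y ^ (p ^ (n - j)) ∈ Ideal.span {(p : B)} := by
      rw [← Ideal.Quotient.eq_zero_iff_mem, map_sub, map_pow]
      have : (Ideal.Quotient.mk (Ideal.span {(p : B)})) y ^ p ^ (n - j) =
          Ideal.Quotient.mk _ b := hy
      rw [this, sub_self]
    obtain ⟨b', hb'⟩ := Ideal.mem_span_singleton'.mp h1
    refine ⟨Function.update x j y, b', ?_⟩
    rw [Finset.sum_range_succ, Function.update_self]
    have h2 : ∑ i ∈ Finset.range j, (p : B) ^ i * (Function.update x j y i) ^ (p ^ (n - i)) =
        ∑ i ∈ Finset.range j, (p : B) ^ i * (x i) ^ (p ^ (n - i)) := by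
      refine Finset.sum_congr rfl fun i hi => ?_
      rw [Function.update_of_ne (Finset.mem_range.mp hi).ne]
    rw [h2, ← sub_sub, hb, pow_succ]
    have h3 : y ^ (p ^ (n - j)) = b - b' * (p : B) := by rw [hb']; ring
    rw [h3]; ring

theorem p_pow_eq_zero (p : ℕ) [Fact p.Prime] (k : Type u) [CommRing k] [CharP k p] (n : ℕ) :
    (p : TruncatedWittVector p n k) ^ n = 0 := by
  have h1 : WittVector.truncate n ((1 : WittVector p k) * (p : WittVector p k) ^ n) = 0 := by
    rw [← RingHom.mem_ker, WittVector.mem_ker_truncate]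
    intro i hi
    exact WittVector.mul_pow_charP_coeff_zero _ hi
  rwa [one_mul, map_pow, map_natCast] at h1



/-- Let p be a prime, k a perfect field of characteristic p, n a natural number and A a commutative
W_n(k)-algebra, W_n(k) the truncated Witt vectors, which is flat over W_n(k) and whose reduction
A/pA has surjective p-th power map. Let θ : W_n(A/pA) → A be the ring homomorphism which sends the
reduction of a Witt vector (x_0, …, x_{n−1}) over A to Σ_{i<n} p^i x_i^(p^(n−i)). Then θ is
surjective, so A is the quotient of W_n(A/pA) by the kernel of θ. (This is the step of the source's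
proposition establishing that Spec of the divided power envelope of that kernel is a thickening of
Spec A; the assertion that it is a final object of the crystalline site is not stated here.) -/
theorem result (p : ℕ) [Fact p.Prime]
    (k : Type u) [Field k] [CharP k p] [PerfectRing k p] (n : ℕ)
    (A : Type u) [CommRing A] [Algebra (TruncatedWittVector p n k) A] [Module.Flat (TruncatedWittVector p n k) A]
    (hF : Function.Surjective (fun y : A ⧸ (Ideal.span {(p : A)}) => y ^ p))
    (θ : TruncatedWittVector p n (A ⧸ (Ideal.span {(p : A)})) →+* A)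
    (hθ : ∀ x : WittVector p A, θ (WittVector.truncate n (WittVector.map (Ideal.Quotient.mk (Ideal.span {(p : A)})) x)) =
        ∑ i : Fin n, (p : A) ^ (i : ℕ) * (x.coeff i) ^ (p ^ (n - i))) :
    Function.Surjective θ := by
  have hp : (p : A) ^ n = 0 := by
    have := congrArg (algebraMap (TruncatedWittVector p n k) A) (p_pow_eq_zero p k n)
    rwa [map_pow, map_natCast, map_zero] at this
  intro a
  obtain ⟨x, b, hb⟩ := exists_approx p n hF a n le_rfl
  rw [hp, zero_mul, sub_eq_zero] at hb
  refine ⟨WittVector.truncate n (WittVector.map (Ideal.Quotient.mk (Ideal.span {(p : A)}))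
    (WittVector.mk p x)), ?_⟩
  rw [hθ, hb, ← Fin.sum_univ_eq_sum_range (fun i => (p : A) ^ i * (x i) ^ (p ^ (n - i))) n]
  rfl

end Groth.Agent.S18932
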