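import Groth.Statements.S18935
import Groth.Agent.Lib.Helper16.KzInv5

set_option autoImplicit false
universe u
open LCI

namespace Groth.Agent.S18935

section helpers
open LCI

theorem result_aux {R : Type u} [CommRing R] {I : Ideal R} (hI : I ≠ ⊤)
    (g : List R) (hg : LCI.IsKoszulRegularSeq R g) (hgI : Ideal.ofList g = I)
    (f : List R) (hfI : Ideal.ofList f = I) :
    LCI.IsKoszulRegularSeq R f ↔ ∀ h : List R, Ideal.ofList h = I → f.length ≤ h.length := by
  have hrange : ∀ l : List R, Ideal.span (Set.range fun i : Fin l.length => l.get i) = Ideal.ofList l := by
    intro l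
    rw [Ideal.ofList, Set.range_list_get]
  have hle : ∀ (a b : List R), LCI.IsKoszulRegularSeq R a → Ideal.ofList a = I → Ideal.ofList b = I →
      a.length ≤ b.length := by
    intro a b ha haI hbI
    refine Groth.Agent.Lib.Helper16.KzInv.length_le_of_kreg I hI (fun i : Fin a.length => a.get i)
      ((hrange a).trans haI) ?_ (fun i : Fin b.length => b.get i) ((hrange b).trans hbI)
    rw [List.ofFn_get]
    exact ha
  constructor
  · intro hf h hh
    exact hle f h hf hfI hh
  · intro hmin
    have h1 : f.length ≤ g.length := hmin g hgI
    have h2 : g.length ≤ f.length := hle g f hg hgI hfI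
    exact Groth.Agent.Lib.Helper16.KzInv.isKoszulRegularSeq_of_ofList_eq g f (le_antisymm h1 h2)
      (hfI.trans hgI.symm) hg

end helpers

/-- Let R be a commutative ring and I a proper ideal of R which is generated by some Koszul-regular
sequence. A finite sequence f of generators of I is Koszul-regular if and only if f has the smallest
possible length among all finite generating sequences of I. (Properness of I is needed: the
sequences (1) and (1, 1) are both Koszul-regular and generate the unit ideal.) -/
theorem result {R : Type u} [CommRing R] {I : Ideal R} (hI : I ≠ ⊤)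
    (g : List R) (hg : LCI.IsKoszulRegularSeq R g) (hgI : Ideal.ofList g = I)
    (f : List R) (hfI : Ideal.ofList f = I) :
    LCI.IsKoszulRegularSeq R f ↔ ∀ h : List R, Ideal.ofList h = I → f.length ≤ h.length := by
  exact result_aux hI g hg hgI f hfI

end Groth.Agent.S18935
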