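import Groth.Statements.S18936
import Mathlib.RingTheory.Localization.Ideal
import Mathlib.Tactic.Ring


set_option autoImplicit false
universe u
open CAlg

namespace Groth.Agent.S18936

/-- Let A be a Noetherian commutative ring, q a prime ideal of A and f an element of A whose image in
the localization A_q is a non-zero-divisor. Then there is an element b of A not in q such that the
image of f in A[1/b] is a non-zero-divisor. -/
theorem result {A : Type u} [CommRing A] [IsNoetherianRing A]
    (q : Ideal A) [q.IsPrime] (f : A)
    (hf : algebraMap A (Localization.AtPrime q) f ∈ nonZeroDivisors (Localization.AtPrime q)) :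
    ∃ b : A, b ∉ q ∧ algebraMap A (Localization.Away b) f ∈ nonZeroDivisors (Localization.Away b) := by
  classical
  -- the annihilator of `f`
  set K : Ideal A := Submodule.annihilator (Ideal.span {f}) with hK
  have hKmem : ∀ x, x ∈ K ↔ x * f = 0 := fun x => by
    rw [hK, Submodule.mem_annihilator_span_singleton, smul_eq_mul]
  obtain ⟨S, hS⟩ : K.FG := IsNoetherian.noetherian K
  -- each generator is killed by an element outside `q`
  have hkill : ∀ x ∈ S, ∃ s : q.primeCompl, (s : A) * x = 0 := by
    intro x hx
    have hxK : x ∈ K := hS ▸ Submodule.subset_span hx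
    have h1 : algebraMap A (Localization.AtPrime q) x * algebraMap A (Localization.AtPrime q) f = 0 := by
      rw [← map_mul, (hKmem x).mp hxK, map_zero]
    have h2 : algebraMap A (Localization.AtPrime q) x = 0 :=
      (mem_nonZeroDivisors_iff_right.mp hf) _ h1
    exact (IsLocalization.map_eq_zero_iff q.primeCompl _ x).mp h2
  choose! s hs using hkill
  set b : A := ∏ x ∈ S, (s x : A) with hb
  have hbq : b ∈ q.primeCompl := by
    rw [hb, ← Submonoid.coe_finsetProd]
    exact (∏ x ∈ S, s x).2
  have hbK : ∀ x ∈ K, b * x = 0 := by
    intro x hx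
    rw [← hS] at hx
    induction hx using Submodule.span_induction with
    | mem y hy =>
      rw [hb, ← Finset.mul_prod_erase S _ hy, mul_right_comm, hs y hy, zero_mul]
    | zero => rw [mul_zero]
    | add y z _ _ hy hz => rw [mul_add, hy, hz, add_zero]
    | smul a y _ hy => rw [smul_eq_mul, mul_left_comm, hy, mul_zero]
  refine ⟨b, hbq, ?_⟩
  rw [mem_nonZeroDivisors_iff_right]
  intro z hz
  obtain ⟨x, t, rfl⟩ := IsLocalization.exists_mk'_eq (Submonoid.powers b) z
  rw [← IsLocalization.mk'_one (M := Submonoid.powers b) (Localization.Away b) f,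
    ← IsLocalization.mk'_mul, IsLocalization.mk'_eq_zero_iff] at hz
  obtain ⟨m, hm⟩ := hz
  rw [IsLocalization.mk'_eq_zero_iff]
  have h3 : (m : A) * x ∈ K := by rw [hKmem]; rw [← hm]; ring
  refine ⟨⟨b, Submonoid.mem_powers b⟩ * m, ?_⟩
  rw [Submonoid.coe_mul, mul_assoc]
  exact hbK _ h3

end Groth.Agent.S18936
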