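import Groth.Statements.S18937
import Mathlib
import Groth.Agent.S18944
import Groth.Agent.Lib.Helper16.SyntStr1
import Groth.Agent.Lib.Helper16.SyntStr2
import Groth.Agent.Lib.Helper16.SyntStr3

set_option autoImplicit false
universe u
open CategoryTheory AlgebraicGeometry
open RegImm

namespace Groth.Agent.S18937

section helpers
open CategoryTheory AlgebraicGeometry
open RegImm

theorem result_aux (A : Type u) [CommRing A] [IsNoetherianRing A] (n : ℕ) (I : Ideal (MvPolynomial (Fin n) A))
    (h : RegImm.IsRegularImmersion RegImm.Kind.regular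
      (Spec.map (CommRingCat.ofHom (Ideal.Quotient.mk I))))
    (q : PrimeSpectrum (MvPolynomial (Fin n) A ⧸ I)) :
    ∃ g : MvPolynomial (Fin n) A ⧸ I, g ∉ q.asIdeal ∧
      ∃ (d : ℕ) (P : Fin d → MvPolynomial (Fin (n + 1)) A),
        RingTheory.Sequence.IsRegular (MvPolynomial (Fin (n + 1)) A) (List.ofFn P) ∧
        Nonempty (Localization.Away g ≃ₐ[A] (MvPolynomial (Fin (n + 1)) A ⧸ Ideal.ofList (List.ofFn P))) := by
  classical
  have hqp : q.asIdeal.IsPrime := q.2
  let R := MvPolynomial (Fin n) A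
  let f : R →ₐ[A] (R ⧸ I) := Ideal.Quotient.mkₐ A I
  have hf : Function.Surjective f := Ideal.Quotient.mk_surjective
  have hkf : RingHom.ker f.toRingHom = I := Ideal.mk_ker
  obtain ⟨rs, hrs, hker⟩ := Groth.Agent.S18944.result
    (Spec.map (CommRingCat.ofHom (Ideal.Quotient.mk I))) h q
  let ε : ((Spec (CommRingCat.of R)).presheaf.stalk
      ((Spec.map (CommRingCat.ofHom (Ideal.Quotient.mk I))) q)) ≃+*
      Localization.AtPrime (q.asIdeal.comap f) :=
    (AlgebraicGeometry.Spec.stalkIso (CommRingCat.of R)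
      (q.comap (Ideal.Quotient.mk I))).commRingCatIsoToRingEquiv
  have hreg : RingTheory.Sequence.IsWeaklyRegular (Localization.AtPrime (q.asIdeal.comap f))
      (rs.map ε) :=
    ((Groth.Agent.Lib.Helper16.SyntStr.isRegular_map_ringEquiv ε rs).mp hrs).toIsWeaklyRegular
  have hxs : Ideal.ofList (rs.map ε) =
      (RingHom.ker f.toRingHom).map (algebraMap R (Localization.AtPrime (q.asIdeal.comap f))) := by
    have h1 := Groth.Agent.Lib.Helper16.SyntStr.ker_localRingHom f.toRingHom hf
      (q.asIdeal.comap f) q.asIdeal rfl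
    rw [← h1]
    have h2 := AlgebraicGeometry.Scheme.localRingHom_comp_stalkIso
      (CommRingCat.ofHom (Ideal.Quotient.mk I)) q
    have h3 : Ideal.ofList (rs.map ε) = (Ideal.ofList rs).map (ε : _ →+* _) := by
      rw [Ideal.map_ofList]; rfl
    have hinj : Function.Injective
        (AlgebraicGeometry.Spec.stalkIso (CommRingCat.of (R ⧸ I)) q).inv.hom :=
      (AlgebraicGeometry.Spec.stalkIso (CommRingCat.of (R ⧸ I))
        q).symm.commRingCatIsoToRingEquiv.injective
    rw [h3, ← hker, Ideal.map_comap_of_equiv]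
    ext x
    rw [Ideal.mem_comap, RingHom.mem_ker, RingHom.mem_ker, ← h2]
    change (AlgebraicGeometry.Spec.stalkIso (CommRingCat.of (R ⧸ I)) q).inv.hom
      (Localization.localRingHom _ _ f.toRingHom rfl (ε (ε.symm x))) = 0 ↔ _
    rw [ε.apply_symm_apply]
    constructor
    · intro hx
      exact hinj (by rw [map_zero]; exact hx)
    · intro hx
      exact (congrArg (AlgebraicGeometry.Spec.stalkIso (CommRingCat.of (R ⧸ I)) q).inv.hom
        hx).trans (map_zero _)
  obtain ⟨hh, fs, hhQ, hI, hreg'⟩ :=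
    Groth.Agent.Lib.Helper16.SyntStr.exists_away_isWeaklyRegular (q.asIdeal.comap f)
      (RingHom.ker f.toRingHom) (rs.map ε) hxs hreg
  have hg : f hh ∉ q.asIdeal := hhQ
  have hnt : Nontrivial (Localization.Away (f hh)) := by
    rw [← not_subsingleton_iff_nontrivial,
      IsLocalization.subsingleton_iff (M := Submonoid.powers (f hh))]
    rintro ⟨k, hk⟩
    have : (f hh) ^ k ∈ q.asIdeal := by
      have h0 : (f hh) ^ k = 0 := hk
      rw [h0]; exact Ideal.zero_mem _
    exact hg (hqp.mem_of_pow_mem k this)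
  obtain ⟨hR, ⟨e⟩⟩ :=
    Groth.Agent.Lib.Helper16.SyntStr.exists_presentation_away f hf hh fs hI hreg'
  obtain ⟨d, P, hP, ⟨e'⟩⟩ :=
    Groth.Agent.Lib.Helper16.SyntStr.exists_ofFn_presentation A n _ _ hR e
  exact ⟨f hh, hg, d, P, hP, ⟨e'⟩⟩

end helpers

/-- Let A be a Noetherian commutative ring, n a natural number, I an ideal of the polynomial ring A[X_1,
…, X_n] and B = A[X_1, …, X_n]/I, and assume that the closed immersion Spec B → Spec A[X_1, …, X_n]
is a regular immersion (kind: successive non-zero-divisors). Then Spec B is covered by basic opens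
D(g) with B[1/g] isomorphic, as an A-algebra, to a quotient A[X_0, …, X_n]/(P_1, …, P_d) of the
polynomial ring in one more variable by a regular sequence P_1, …, P_d. -/
theorem result
    (A : Type u) [CommRing A] [IsNoetherianRing A] (n : ℕ) (I : Ideal (MvPolynomial (Fin n) A))
    (h : RegImm.IsRegularImmersion RegImm.Kind.regular
      (Spec.map (CommRingCat.ofHom (Ideal.Quotient.mk I))))
    (q : PrimeSpectrum (MvPolynomial (Fin n) A ⧸ I)) :
    ∃ g : MvPolynomial (Fin n) A ⧸ I, g ∉ q.asIdeal ∧
      ∃ (d : ℕ) (P : Fin d → MvPolynomial (Fin (n + 1)) A),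
        RingTheory.Sequence.IsRegular (MvPolynomial (Fin (n + 1)) A) (List.ofFn P) ∧
        Nonempty (Localization.Away g ≃ₐ[A] (MvPolynomial (Fin (n + 1)) A ⧸ Ideal.ofList (List.ofFn P))) := by
  exact result_aux A n I h q

end Groth.Agent.S18937
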