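import Groth.Statements.S18938
import Mathlib
import Groth.Agent.Lib.Helper16.SyntStr1
import Groth.Agent.Lib.Helper16.SyntStr2
import Groth.Agent.Lib.Helper16.SyntStr3

set_option autoImplicit false
universe u
open Synt

namespace Groth.Agent.S18938

section helpers
open Synt

theorem result_aux (A : Type u) [CommRing A] [IsNoetherianRing A] (B : Type u) [CommRing B] [Algebra A B]
    (h : Synt.IsSyntomic A B) (q : PrimeSpectrum B) :
    ∃ g : B, g ∉ q.asIdeal ∧
      ∃ (n d : ℕ) (P : Fin d → MvPolynomial (Fin n) A),
        RingTheory.Sequence.IsRegular (MvPolynomial (Fin n) A) (List.ofFn P) ∧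
        Nonempty (Localization.Away g ≃ₐ[A] (MvPolynomial (Fin n) A ⧸ Ideal.ofList (List.ofFn P))) := by
  classical
  have hfp : Algebra.FinitePresentation A B := h.2.1
  obtain ⟨n, f, hf⟩ := Algebra.FiniteType.iff_quotient_mvPolynomial''.mp
    (inferInstance : Algebra.FiniteType A B)
  have hqp : q.asIdeal.IsPrime := q.2
  obtain ⟨xs, hxs, hxreg⟩ :=
    Groth.Agent.Lib.Helper16.SyntStr.exists_isWeaklyRegular_ker A B h n f hf q.asIdeal
  obtain ⟨hh, fs, hhQ, hI, hreg⟩ :=
    Groth.Agent.Lib.Helper16.SyntStr.exists_away_isWeaklyRegular (q.asIdeal.comap f)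
      (RingHom.ker f) xs hxs hxreg
  have hg : f hh ∉ q.asIdeal := hhQ
  have hnt : Nontrivial (Localization.Away (f hh)) := by
    rw [← not_subsingleton_iff_nontrivial,
      IsLocalization.subsingleton_iff (M := Submonoid.powers (f hh))]
    rintro ⟨k, hk⟩
    have : (f hh) ^ k ∈ q.asIdeal := by
      have h0 : (f hh) ^ k = 0 := hk
      rw [h0]; exact Ideal.zero_mem _
    exact hg (hqp.mem_of_pow_mem k this)
  obtain ⟨hR, ⟨e⟩⟩ :=
    Groth.Agent.Lib.Helper16.SyntStr.exists_presentation_away f hf hh fs hI hreg
  obtain ⟨d, P, hP, ⟨e'⟩⟩ :=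
    Groth.Agent.Lib.Helper16.SyntStr.exists_ofFn_presentation A n _ _ hR e
  exact ⟨f hh, hg, n + 1, d, P, hP, ⟨e'⟩⟩

end helpers

/-- Let A be a Noetherian commutative ring and B a syntomic A-algebra. Then Spec B is covered by basic
opens D(g) with B[1/g] isomorphic, as an A-algebra, to A[T_1, …, T_n]/(P_1, …, P_d) for a regular
sequence P_1, …, P_d (successive non-zero-divisors with nonzero last quotient) in the polynomial
ring A[T_1, …, T_n]. (The source states this for a syntomic scheme over Spec A, syntomic meaning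
flat, locally of finite presentation and locally a Koszul-regular immersion into a smooth scheme;
here syntomic is the ring-map notion with local complete intersection fibres, which agrees with it.) -/
theorem result
    (A : Type u) [CommRing A] [IsNoetherianRing A] (B : Type u) [CommRing B] [Algebra A B]
    (h : Synt.IsSyntomic A B) (q : PrimeSpectrum B) :
    ∃ g : B, g ∉ q.asIdeal ∧
      ∃ (n d : ℕ) (P : Fin d → MvPolynomial (Fin n) A),
        RingTheory.Sequence.IsRegular (MvPolynomial (Fin n) A) (List.ofFn P) ∧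
        Nonempty (Localization.Away g ≃ₐ[A] (MvPolynomial (Fin n) A ⧸ Ideal.ofList (List.ofFn P))) := by
  exact result_aux A B h q

end Groth.Agent.S18938
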