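import Groth.Statements.S7456
import Mathlib

set_option autoImplicit false
universe u
open CategoryTheory CategoryTheory.Limits AlgebraicGeometry
open Grpd

namespace Groth.Agent.S7456



theorem c_s {S : Scheme.{u}} (G : Grpd.GroupoidScheme S) :
    G.c ≫ G.s = Limits.pullback.snd G.s G.t ≫ G.s := by
  have := G.comp_s (Limits.pullback.fst G.s G.t) (Limits.pullback.snd G.s G.t)
    Limits.pullback.condition
  rwa [show Limits.pullback.lift (Limits.pullback.fst G.s G.t) (Limits.pullback.snd G.s G.t)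
    Limits.pullback.condition = 𝟙 _ from by apply Limits.pullback.hom_ext <;> simp,
    Category.id_comp] at this

theorem c_t {S : Scheme.{u}} (G : Grpd.GroupoidScheme S) :
    G.c ≫ G.t = Limits.pullback.fst G.s G.t ≫ G.t := by
  have := G.comp_t (Limits.pullback.fst G.s G.t) (Limits.pullback.snd G.s G.t)
    Limits.pullback.condition
  rwa [show Limits.pullback.lift (Limits.pullback.fst G.s G.t) (Limits.pullback.snd G.s G.t)
    Limits.pullback.condition = 𝟙 _ from by apply Limits.pullback.hom_ext <;> simp,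
    Category.id_comp] at this

theorem inv_key {S : Scheme.{u}} (G : Grpd.GroupoidScheme S) (W : Set G.U) :
    ⇑G.s ⁻¹' (⇑G.t '' (⇑G.s ⁻¹' W)) ⊆ ⇑G.t ⁻¹' (⇑G.t '' (⇑G.s ⁻¹' W)) := by
  rintro r ⟨r', hr'W, hr'⟩
  obtain ⟨z, hz1, hz2⟩ :=
    Scheme.Pullback.exists_preimage_pullback (f := G.s) (g := G.t) r r' hr'.symm
  refine ⟨G.c z, ?_, ?_⟩
  · show G.s (G.c z) ∈ W
    have : G.s (G.c z) = G.s r' := by
      rw [← Scheme.Hom.comp_apply, c_s, Scheme.Hom.comp_apply, hz2]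
    rw [this]; exact hr'W
  · show G.t (G.c z) = G.t r
    rw [← Scheme.Hom.comp_apply, c_t, Scheme.Hom.comp_apply, hz1]

theorem inv_eq {S : Scheme.{u}} (G : Grpd.GroupoidScheme S) (W : Set G.U) :
    ⇑G.s ⁻¹' (⇑G.t '' (⇑G.s ⁻¹' W)) = ⇑G.t ⁻¹' (⇑G.t '' (⇑G.s ⁻¹' W)) := by
  apply Set.Subset.antisymm (inv_key G W)
  intro r hr
  have h1 : G.i r ∈ ⇑G.s ⁻¹' (⇑G.t '' (⇑G.s ⁻¹' W)) := by
    show G.s (G.i r) ∈ (⇑G.t '' (⇑G.s ⁻¹' W))
    rw [← Scheme.Hom.comp_apply, G.i_s]; exact hr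
  have h2 := inv_key G W h1
  have h3 : G.t (G.i r) ∈ (⇑G.t '' (⇑G.s ⁻¹' W)) := h2
  rw [← Scheme.Hom.comp_apply, G.i_t] at h3
  exact h3

/-- Let (U, R, s, t, c) be a groupoid scheme over S. For every subset W of U, the subset t(s^{-1}(W)) is
set-theoretically R-invariant: its preimages under s and t coincide. If moreover s and t are open
maps and quasi-compact, then U is covered by R-invariant quasi-compact open subsets. (The published
statement also asserts that this set is open when W is open and s, t are open maps; this row omits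
that clause.) (A groupoid scheme carries U, R, s, t, c, e, i over S with the groupoid axioms on
T-points; c is defined on the fibre product of s and t and sends a pair (a, b) with s(a) = t(b) to a
composed with b.) -/
theorem result (S : Scheme.{u}) (G : Grpd.GroupoidScheme S) : (∀ W : Set G.U, ⇑G.s ⁻¹' (⇑G.t '' (⇑G.s ⁻¹' W)) = ⇑G.t ⁻¹' (⇑G.t '' (⇑G.s ⁻¹' W))) ∧ (IsOpenMap ⇑G.s → IsOpenMap ⇑G.t → QuasiCompact G.s → QuasiCompact G.t → ∀ u : G.U, ∃ W : G.U.Opens, IsCompact (W : Set G.U) ∧ u ∈ W ∧ G.s ⁻¹ᵁ W = G.t ⁻¹ᵁ W) := by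

  refine ⟨inv_eq G, ?_⟩
  intro hso hto hsq htq u
  obtain ⟨_, ⟨W₀, hW₀, rfl⟩, huW₀, -⟩ :=
    G.U.isBasis_affineOpens.exists_subset_of_mem_open (Set.mem_univ u) isOpen_univ
  have hW₀' : IsAffineOpen W₀ := hW₀
  refine ⟨⟨⇑G.t '' (⇑G.s ⁻¹' (W₀ : Set G.U)), hto _ (W₀.isOpen.preimage G.s.continuous)⟩,
    ?_, ?_, ?_⟩
  · exact (hsq.isCompact_preimage _ W₀.isOpen hW₀'.isCompact).image G.t.continuous
  · refine ⟨G.e u, ?_, ?_⟩
    · show G.s (G.e u) ∈ W₀
      rw [← Scheme.Hom.comp_apply, G.e_s]; exact huW₀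
    · rw [← Scheme.Hom.comp_apply, G.e_t]; rfl
  · ext r
    exact Set.ext_iff.mp (inv_eq G (W₀ : Set G.U)) r

end Groth.Agent.S7456
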