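import Groth.Statements.S1894
import Mathlib
import Groth.Agent.S7456
import Groth.Agent.S1893

set_option autoImplicit false
universe u
open CategoryTheory CategoryTheory.Limits AlgebraicGeometry
open Grpd

namespace Groth.Agent.S1894



theorem exists_specializes_of_mem_closure {X Y : Scheme.{u}} (f : X ⟶ Y) [QuasiCompact f]
    (Z : Set X) (hZ : IsClosed Z) (y : Y) (hy : y ∈ closure (⇑f '' Z)) : ∃ x ∈ Z, f x ⤳ y := by
  obtain ⟨_, ⟨Y₀, hY₀, rfl⟩, hyY₀, -⟩ :=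
    Y.isBasis_affineOpens.exists_subset_of_mem_open (Set.mem_univ y) isOpen_univ
  have hY₀' : IsAffineOpen Y₀ := hY₀
  have hc : IsCompact ((f ⁻¹ᵁ Y₀ : X.Opens) : Set X) :=
    QuasiCompact.isCompact_preimage (f := f) _ Y₀.isOpen hY₀'.isCompact
  obtain ⟨R, g, hg⟩ := isCompact_iff_exists.mp hc
  have hrange : Set.range (g ≫ f) ⊆ Set.range hY₀'.fromSpec := by
    rw [hY₀'.range_fromSpec]
    rintro _ ⟨z, rfl⟩
    have : g z ∈ Set.range g := ⟨z, rfl⟩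
    rw [hg] at this
    exact this
  obtain ⟨φ, hφ⟩ : ∃ φ : Spec R ⟶ Spec Γ(Y, Y₀), φ ≫ hY₀'.fromSpec = g ≫ f :=
    ⟨IsOpenImmersion.lift _ _ hrange, IsOpenImmersion.lift_fac _ _ _⟩
  obtain ⟨p, hp⟩ : ∃ p, hY₀'.fromSpec p = y := by
    have : y ∈ Set.range hY₀'.fromSpec := by rw [hY₀'.range_fromSpec]; exact hyY₀
    exact this
  obtain ⟨ψ, rfl⟩ : ∃ ψ, φ = Spec.map ψ := ⟨Spec.preimage φ, (Spec.map_preimage φ).symm⟩
  obtain ⟨I, hI⟩ := (PrimeSpectrum.isClosed_iff_zeroLocus_ideal _).mp (hZ.preimage g.continuous)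
  have hpc' : p ∈ closure (⇑(Spec.map ψ) '' (⇑g ⁻¹' Z)) := by
    have hind := hY₀'.fromSpec.isOpenEmbedding.isInducing
    rw [hind.closure_eq_preimage_closure_image]
    show hY₀'.fromSpec p ∈ closure (⇑hY₀'.fromSpec '' (⇑(Spec.map ψ) '' (⇑g ⁻¹' Z)))
    rw [hp]
    rw [mem_closure_iff] at hy ⊢
    intro N hN hyN
    obtain ⟨_, ⟨hz1, hz2⟩, x, hxZ, rfl⟩ := hy (N ∩ Y₀) (hN.inter Y₀.isOpen) ⟨hyN, hyY₀⟩
    obtain ⟨q, rfl⟩ : x ∈ Set.range g := by rw [hg]; exact hz2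
    refine ⟨f (g q), hz1, Spec.map ψ q, ⟨q, hxZ, rfl⟩, ?_⟩
    rw [← Scheme.Hom.comp_apply, hφ]; rfl
  have hpc : (show PrimeSpectrum Γ(Y, Y₀) from p) ∈
      closure (PrimeSpectrum.comap ψ.hom '' PrimeSpectrum.zeroLocus I) := by
    rw [← hI]; exact hpc'
  rw [PrimeSpectrum.closure_image_comap_zeroLocus] at hpc
  obtain ⟨Q, hIQ, hQ, hQle⟩ := Ideal.exists_ideal_comap_le_prime (show PrimeSpectrum Γ(Y, Y₀) from p).asIdeal I hpc
  refine ⟨g ⟨Q, hQ⟩, ?_, ?_⟩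
  · have : (⟨Q, hQ⟩ : PrimeSpectrum R) ∈ g ⁻¹' Z := by rw [hI]; exact hIQ
    exact this
  · have h1 : (Spec.map ψ) ⟨Q, hQ⟩ ⤳ p := (PrimeSpectrum.le_iff_specializes _ _).mp hQle
    have h2 := h1.map hY₀'.fromSpec.continuous
    rw [hp, ← Scheme.Hom.comp_apply, hφ] at h2
    exact h2

/-- Let (U, R, s, t, c) be a groupoid scheme over S with s, t quasi-compact and flat and U
quasi-separated, and W ⊆ U a quasi-compact open. Then there are an R-invariant open V (s⁻¹V = t⁻¹V)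
and a quasi-compact open W' with W ⊆ V ⊆ W'. (A groupoid scheme carries U, R, s, t, c, e, i over S
with the groupoid axioms on T-points; 'finite locally free' is finite, flat and locally of finite
presentation; C ⊂ Γ(U) is the ring of functions a with s♯(a) = t♯(a) and M = Spec C.) -/
theorem result (S : Scheme.{u}) (G : Grpd.GroupoidScheme S) [QuasiCompact G.s] [Flat G.s] [QuasiCompact G.t] [Flat G.t] [QuasiSeparatedSpace G.U] (W : G.U.Opens) (hW : IsCompact (W : Set G.U)) : ∃ V W' : G.U.Opens, G.s ⁻¹ᵁ V = G.t ⁻¹ᵁ V ∧ IsCompact (W' : Set G.U) ∧ W ≤ V ∧ V ≤ W' := by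

  obtain ⟨E, hEdef⟩ : ∃ E : Set G.U, E = ⇑G.t '' (⇑G.s ⁻¹' (W : Set G.U)) := ⟨_, rfl⟩
  have hEc : IsCompact E := by
    rw [hEdef]
    exact (QuasiCompact.isCompact_preimage (f := G.s) _ W.isOpen hW).image G.t.continuous
  have hEg : StableUnderGeneralization E := by
    intro y y' hyy' hy
    rw [hEdef] at hy ⊢
    obtain ⟨x, hx, rfl⟩ := hy
    obtain ⟨x', hx', rfl⟩ := Flat.generalizingMap G.t hyy'
    refine ⟨x', ?_, rfl⟩
    exact (W.isOpen.preimage G.s.continuous).stableUnderGeneralization hx' hx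
  have hsat : ∀ A : Set G.U, A ⊆ ⇑G.t '' (⇑G.s ⁻¹' A) := by
    intro A x hx
    refine ⟨G.e x, ?_, ?_⟩
    · show G.s (G.e x) ∈ A
      rw [← Scheme.Hom.comp_apply, G.e_s]; exact hx
    · rw [← Scheme.Hom.comp_apply, G.e_t]; rfl
  have hWE : (W : Set G.U) ⊆ E := by rw [hEdef]; exact hsat _
  have hEinv : ⇑G.s ⁻¹' E = ⇑G.t ⁻¹' E := by rw [hEdef]; exact Groth.Agent.S7456.inv_eq G _
  obtain ⟨W', hW'c, hEW', -⟩ :=
    Groth.Agent.S1893.exists_compact_open_between G.U E hEc ⊤ (fun _ _ => trivial)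
  obtain ⟨Z, hZdef⟩ : ∃ Z : Set G.U, Z = (W' : Set G.U)ᶜ := ⟨_, rfl⟩
  have hZc : IsClosed Z := by rw [hZdef]; exact W'.isOpen.isClosed_compl
  obtain ⟨T, hTdef⟩ : ∃ T : Set G.U, T = ⇑G.t '' (⇑G.s ⁻¹' Z) := ⟨_, rfl⟩
  have hZT : Z ⊆ T := by rw [hTdef]; exact hsat _
  have hTinv : ⇑G.s ⁻¹' T = ⇑G.t ⁻¹' T := by rw [hTdef]; exact Groth.Agent.S7456.inv_eq G _
  have hTE : ∀ y ∈ T, y ∉ E := by
    intro y hyT hyE
    rw [hTdef] at hyT
    obtain ⟨r, hr, rfl⟩ := hyT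
    have h1 : r ∈ ⇑G.t ⁻¹' E := hyE
    rw [← hEinv] at h1
    have h2 : G.s r ∈ (W' : Set G.U) := hEW' h1
    rw [hZdef] at hr
    exact hr h2
  have hsZc : IsClosed (⇑G.s ⁻¹' Z) := hZc.preimage G.s.continuous
  have hspec : ∀ y ∈ closure T, ∃ τ ∈ T, τ ⤳ y := by
    intro y hy
    rw [hTdef] at hy
    obtain ⟨x, hx, hxy⟩ := exists_specializes_of_mem_closure G.t _ hsZc y hy
    exact ⟨G.t x, by rw [hTdef]; exact ⟨x, hx, rfl⟩, hxy⟩
  have hclE : ∀ y ∈ closure T, y ∉ E := by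
    intro y hy hyE
    obtain ⟨τ, hτ, hτy⟩ := hspec y hy
    exact hTE τ hτ (hEg hτy hyE)
  have hs_sub : ⇑G.s ⁻¹' (closure T) ⊆ closure (⇑G.s ⁻¹' T) := by
    intro x hx
    obtain ⟨τ, hτ, hτx⟩ := hspec _ hx
    obtain ⟨x', hx', rfl⟩ := Flat.generalizingMap G.s hτx
    exact hx'.mem_closed isClosed_closure (subset_closure hτ)
  have ht_sub : ⇑G.t ⁻¹' (closure T) ⊆ closure (⇑G.t ⁻¹' T) := by
    intro x hx
    obtain ⟨τ, hτ, hτx⟩ := hspec _ hx
    obtain ⟨x', hx', rfl⟩ := Flat.generalizingMap G.t hτx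
    exact hx'.mem_closed isClosed_closure (subset_closure hτ)
  have hcl_inv : ⇑G.s ⁻¹' (closure T) = ⇑G.t ⁻¹' (closure T) := by
    apply Set.Subset.antisymm
    · refine hs_sub.trans ?_
      rw [hTinv]
      exact (isClosed_closure.preimage G.t.continuous).closure_subset_iff.mpr
        (Set.preimage_mono subset_closure)
    · refine ht_sub.trans ?_
      rw [← hTinv]
      exact (isClosed_closure.preimage G.s.continuous).closure_subset_iff.mpr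
        (Set.preimage_mono subset_closure)
  refine ⟨⟨(closure T)ᶜ, isClosed_closure.isOpen_compl⟩, W', ?_, hW'c, ?_, ?_⟩
  · ext x
    show G.s x ∈ (closure T)ᶜ ↔ G.t x ∈ (closure T)ᶜ
    have : x ∈ ⇑G.s ⁻¹' (closure T) ↔ x ∈ ⇑G.t ⁻¹' (closure T) := by rw [hcl_inv]
    exact not_congr this
  · intro x hx
    show x ∈ (closure T)ᶜ
    intro hxT
    exact hclE x hxT (hWE hx)
  · intro x hx
    by_contra hxW'
    have : x ∈ Z := by rw [hZdef]; exact hxW'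
    exact hx (subset_closure (hZT this))

end Groth.Agent.S1894
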