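import Groth.Statements.S18942
import Mathlib.RingTheory.WittVector.TeichmullerSeries
import Mathlib.RingTheory.WittVector.Complete
import Mathlib.NumberTheory.Basic


set_option autoImplicit false
universe u
open DPow

namespace Groth.Agent.S18942

theorem frobeniusEquiv_symm_pow_apply (p : ℕ) [Fact p.Prime] (k : Type u) [CommRing k] [CharP k p]
    [PerfectRing k p] (i : ℕ) (w : k) :
    ((frobeniusEquiv k p).symm ^ i) (w ^ p ^ i) = w := by
  induction i generalizing w with
  | zero => simp
  | succ i ih =>
    rw [pow_succ, RingAut.mul_apply]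
    have : w ^ p ^ (i + 1) = (w ^ p) ^ p ^ i := by rw [← pow_mul, pow_succ, mul_comm]
    rw [this]
    have h2 : (frobeniusEquiv k p).symm ((w ^ p) ^ p ^ i) = w ^ p ^ i := by
      rw [map_pow, frobeniusEquiv_symm_pow]
    rw [h2, ih]



/-- Let p be a prime, k a perfect field of characteristic p, n a natural number and x an element of
W_n(k), written here as the truncation of a Witt vector x over k. For any Witt vectors y_0, …,
y_{n−1} over k lifting the components of x under the map y ↦ (y_0)^(p^n) (that is, (y_i)_0^(p^n) =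
x_i), one has x = Σ_{i<n} p^i y_i^(p^(n−i)) in W_n(k). -/
theorem result (p : ℕ) [Fact p.Prime]
    (k : Type u) [Field k] [CharP k p] [PerfectRing k p] (n : ℕ) (x : WittVector p k)
    (y : Fin n → WittVector p k) (hy : ∀ i : Fin n, ((y i).coeff 0) ^ (p ^ n) = x.coeff i) :
    WittVector.truncate n x =
      WittVector.truncate n (∑ i : Fin n, (p : WittVector p k) ^ (i : ℕ) * (y i) ^ (p ^ (n - i))) := by
  rcases Nat.eq_zero_or_pos n with rfl | hn
  · ext i; exact i.elim0
  obtain ⟨m, rfl⟩ : ∃ m, n = m + 1 := ⟨n - 1, by omega⟩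
  rw [← sub_eq_zero, ← map_sub, ← RingHom.mem_ker, WittVector.mem_ker_truncate,
    ← WittVector.mem_span_p_pow_iff_le_coeff_eq_zero, Ideal.mem_span_singleton]
  have h1 := WittVector.dvd_sub_sum_teichmuller_iterateFrobeniusEquiv_coeff x m
  have h2 : (p : WittVector p k) ^ (m + 1) ∣
      ∑ i ∈ Finset.Iic m, (WittVector.teichmuller p (((frobeniusEquiv k p).symm ^ i) (x.coeff i)) *
        (p : WittVector p k) ^ i) -
      ∑ i : Fin (m + 1), (p : WittVector p k) ^ (i : ℕ) * (y i) ^ (p ^ (m + 1 - i)) := by
    have e : Finset.Iic m = Finset.range (m + 1) := by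
      ext i; simp
    rw [e, ← Fin.sum_univ_eq_sum_range (fun i => WittVector.teichmuller p
      (((frobeniusEquiv k p).symm ^ i) (x.coeff i)) * (p : WittVector p k) ^ i) (m + 1),
      ← Finset.sum_sub_distrib]
    refine Finset.dvd_sum fun i _ => ?_
    have hi : (i : ℕ) ≤ m + 1 := i.2.le
    set t := (y i).coeff 0 with ht
    have h3 : ((frobeniusEquiv k p).symm ^ (i : ℕ)) (x.coeff i) = t ^ p ^ (m + 1 - i) := by
      rw [← hy i]
      have : t ^ p ^ (m + 1) = (t ^ p ^ (m + 1 - i)) ^ p ^ (i : ℕ) := by
        rw [← pow_mul, ← pow_add, Nat.sub_add_cancel hi]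
      rw [this, frobeniusEquiv_symm_pow_apply]
    rw [h3, map_pow]
    have h4 : (p : WittVector p k) ∣ y i - WittVector.teichmuller p t := by
      rw [← Ideal.mem_span_singleton, ← pow_one (p : WittVector p k),
        WittVector.mem_span_p_pow_iff_le_coeff_eq_zero]
      intro j hj
      have : j = 0 := by omega
      subst this
      have := map_sub (WittVector.constantCoeff (p := p) (R := k)) (y i) (WittVector.teichmuller p t)
      change (y i - WittVector.teichmuller p t).coeff 0 = (y i).coeff 0 -
        (WittVector.teichmuller p t).coeff 0 at this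
      rw [this, WittVector.teichmuller_coeff_zero, sub_self]
    have h5 := dvd_sub_pow_of_dvd_sub h4 (m + 1 - i)
    have h6 : (p : WittVector p k) ^ (m + 1) ∣ (p : WittVector p k) ^ (i : ℕ) *
        ((y i) ^ p ^ (m + 1 - i) - (WittVector.teichmuller p t) ^ p ^ (m + 1 - i)) := by
      have : (p : WittVector p k) ^ (m + 1) ∣
          (p : WittVector p k) ^ (i : ℕ) * (p : WittVector p k) ^ (m + 1 - i + 1) := by
        rw [← pow_add]
        exact pow_dvd_pow _ (by omega)
      exact this.trans (mul_dvd_mul_left _ h5)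
    have h7 : WittVector.teichmuller p t ^ p ^ (m + 1 - ↑i) * (p : WittVector p k) ^ (i : ℕ) -
        (p : WittVector p k) ^ (i : ℕ) * y i ^ p ^ (m + 1 - ↑i) =
        - ((p : WittVector p k) ^ (i : ℕ) *
        ((y i) ^ p ^ (m + 1 - i) - (WittVector.teichmuller p t) ^ p ^ (m + 1 - i))) := by ring
    rw [h7]
    exact (dvd_neg).mpr h6
  have := dvd_add h1 h2
  rwa [sub_add_sub_cancel] at this

end Groth.Agent.S18942
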