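import Groth.Statements.S18943
import Mathlib.Analysis.Calculus.ParametricIntervalIntegral
import Mathlib.MeasureTheory.Integral.IntervalIntegral.FundThmCalculus
import Mathlib.Analysis.Calculus.ContDiff.Deriv

set_option autoImplicit false
open scoped ContDiff
open CInfGerm

namespace Groth.Agent.S18943

open MeasureTheory intervalIntegral Set Metric in
/-- the auxiliary parametric integral -/
noncomputable def G (φ : ℝ → ℝ) (k : ℕ) (x : ℝ) : ℝ := ∫ t in (0:ℝ)..1, t ^ k * φ (t * x)

open MeasureTheory intervalIntegral Set Metric in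
lemma hasDerivAt_G (φ : ℝ → ℝ) (hφ : ContDiff ℝ 1 φ) (k : ℕ) (x₀ : ℝ) :
    HasDerivAt (G φ k) (G (deriv φ) (k + 1) x₀) x₀ := by
  obtain ⟨hd, hc⟩ := contDiff_one_iff_deriv.mp hφ
  -- bound on the derivative
  obtain ⟨M, hM⟩ : ∃ M : ℝ, ∀ y ∈ Icc (-(|x₀| + 1)) (|x₀| + 1), ‖deriv φ y‖ ≤ M := by
    have := (isCompact_Icc (a := -(|x₀| + 1)) (b := |x₀| + 1)).exists_bound_of_continuousOn
      hc.continuousOn
    exact this
  have key := hasDerivAt_integral_of_dominated_loc_of_deriv_le (μ := volume) (a := (0:ℝ)) (b := 1)
    (F := fun x t => t ^ k * φ (t * x)) (F' := fun x t => t ^ (k + 1) * deriv φ (t * x))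
    (x₀ := x₀) (s := ball x₀ 1) (bound := fun _ => M) (ball_mem_nhds x₀ one_pos)
    (Filter.Eventually.of_forall fun x =>
      (Continuous.aestronglyMeasurable (by fun_prop)))
    (Continuous.intervalIntegrable (by fun_prop) _ _)
    (Continuous.aestronglyMeasurable (by fun_prop))
    (by
      refine Filter.Eventually.of_forall fun t ht x hx => ?_
      rw [uIoc_of_le zero_le_one] at ht
      have hx' : |x - x₀| < 1 := by simpa [Real.dist_eq] using hx
      have hxb : |x| ≤ |x₀| + 1 := by
        have := abs_sub_abs_le_abs_sub x x₀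
        linarith
      have htx : |t * x| ≤ |x₀| + 1 := by
        rw [abs_mul, abs_of_pos ht.1]
        calc t * |x| ≤ 1 * |x| := by gcongr; exact ht.2
          _ = |x| := one_mul _
          _ ≤ _ := hxb
      have h1 := hM (t * x) (abs_le.mp htx)
      rw [norm_mul, norm_pow, Real.norm_eq_abs, abs_of_pos ht.1]
      have ht1 : t ^ (k + 1) ≤ 1 := pow_le_one₀ ht.1.le ht.2
      have hM0 : 0 ≤ M := (norm_nonneg _).trans h1
      calc t ^ (k + 1) * ‖deriv φ (t * x)‖ ≤ 1 * M := by
            gcongr
        _ = M := one_mul _)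
    intervalIntegrable_const
    (by
      refine Filter.Eventually.of_forall fun t _ x _ => ?_
      have h1 : HasDerivAt (fun x => t * x) t x := by
        simpa using (hasDerivAt_id x).const_mul t
      have h2 : HasDerivAt φ (deriv φ (t * x)) (t * x) := (hd (t * x)).hasDerivAt
      have h3 := (h2.comp x h1).const_mul (t ^ k)
      have e : t ^ (k + 1) * deriv φ (t * x) = t ^ k * (deriv φ (t * x) * t) := by
        rw [pow_succ]; ring
      rw [e]
      exact h3)
  exact key.2

lemma contDiff_G (n : ℕ) : ∀ (φ : ℝ → ℝ) (_ : ContDiff ℝ ∞ φ) (k : ℕ), ContDiff ℝ n (G φ k) := by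
  induction n with
  | zero =>
    intro φ hφ k
    rw [Nat.cast_zero, contDiff_zero]
    have hd : Differentiable ℝ (G φ k) := fun x =>
      (hasDerivAt_G φ (hφ.of_le (by norm_cast)) k x).differentiableAt
    exact hd.continuous
  | succ n ih =>
    intro φ hφ k
    have h1 : ContDiff ℝ 1 φ := hφ.of_le (by norm_cast)
    rw [Nat.cast_succ, contDiff_succ_iff_deriv]
    refine ⟨fun x => (hasDerivAt_G φ h1 k x).differentiableAt, ?_, ?_⟩
    · intro h
      exact absurd h (by simp)
    · have : deriv (G φ k) = G (deriv φ) (k + 1) := funext fun x => (hasDerivAt_G φ h1 k x).deriv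
      rw [this]
      exact ih _ (contDiff_infty_iff_deriv.mp hφ).2 _


/-- Let f be an infinitely differentiable real-valued function on the real line with f(0) = 0. Then f(x)
= x·g(x) for an infinitely differentiable function g. (The source phrases this for germs at 0: the
maximal ideal of the local ring of germs of smooth functions at the origin is generated by the
coordinate t; the global form stated here is what its argument, smooth extension of f(x)/x across 0,
gives.) -/
theorem result (f : ℝ → ℝ) (hf : ContDiff ℝ ∞ f) (h0 : f 0 = 0) :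
    ∃ g : ℝ → ℝ, ContDiff ℝ ∞ g ∧ ∀ x : ℝ, f x = x * g x := by
  obtain ⟨hd, hd'⟩ := contDiff_infty_iff_deriv.mp hf
  refine ⟨G (deriv f) 0, contDiff_infty.mpr fun n => contDiff_G n _ hd' 0, fun x => ?_⟩
  have hc : Continuous (deriv f) := hd'.continuous
  have h1 : ∫ t in (0:ℝ)..1, x * deriv f (t * x) = f (1 * x) - f (0 * x) := by
    apply intervalIntegral.integral_eq_sub_of_hasDerivAt (f := fun t => f (t * x))
      (f' := fun t => x * deriv f (t * x))
    · intro t _
      have h1 : HasDerivAt (fun t => t * x) x t := by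
        simpa using (hasDerivAt_id t).mul_const x
      have h2 : HasDerivAt f (deriv f (t * x)) (t * x) := (hd (t * x)).hasDerivAt
      have := h2.comp t h1
      rw [mul_comm]
      exact this
    · exact Continuous.intervalIntegrable (by fun_prop) _ _
  rw [one_mul, zero_mul, h0, sub_zero] at h1
  rw [← h1, G, ← intervalIntegral.integral_const_mul]
  simp

end Groth.Agent.S18943
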