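import Groth.Statements.S18945
import Mathlib
import Groth.Agent.S18934
-- import your own Groth.Agent.* helpers here

set_option autoImplicit false
universe u
open CategoryTheory AlgebraicGeometry
open Synt

namespace Groth.Agent.S18945

section helpers

open TensorProduct

theorem isGlobalCI_of_algEquiv {k S S' : Type u} [Field k] [CommRing S] [CommRing S']
    [Algebra k S] [Algebra k S'] (e : S ≃ₐ[k] S') (h : Synt.IsGlobalCI k S) :
    Synt.IsGlobalCI k S' := by
  rcases h with h | ⟨n, c, hcn, φ, r, hsurj, hker, hdim⟩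
  · exact Or.inl e.symm.toEquiv.subsingleton
  · refine Or.inr ⟨n, c, hcn, e.toAlgHom.comp φ, r, e.surjective.comp hsurj, ?_, ?_⟩
    · rw [← hker]
      ext x
      simp only [RingHom.mem_ker, AlgHom.toRingHom_eq_coe, RingHom.coe_coe, AlgHom.comp_apply]
      constructor
      · intro hx
        have : e (φ x) = e 0 := by simpa using hx
        simpa using e.injective this
      · intro hx
        simp [hx]
    · rw [← ringKrullDim_eq_of_ringEquiv e.toRingEquiv, hdim]

theorem isLCIOver_of_algEquiv {k S S' : Type u} [Field k] [CommRing S] [CommRing S']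
    [Algebra k S] [Algebra k S'] (e : S ≃ₐ[k] S') (h : Synt.IsLCIOver k S) :
    Synt.IsLCIOver k S' := by
  haveI := h.1
  refine ⟨Algebra.FiniteType.equiv h.1 e, fun p' => ?_⟩
  obtain ⟨g, hg, hG⟩ := h.2 ⟨Ideal.comap (e : S →+* S') p'.asIdeal, inferInstance⟩
  refine ⟨e g, hg, isGlobalCI_of_algEquiv
    (IsLocalization.algEquivOfAlgEquiv (M := Submonoid.powers g) (T := Submonoid.powers (e g))
      (Localization.Away g) (Localization.Away (e g)) e ?_) hG⟩
  rw [Submonoid.map_powers]

theorem isSyntomic_of_algEquiv {R S S' : Type u} [CommRing R] [CommRing S] [CommRing S']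
    [Algebra R S] [Algebra R S'] (e : S ≃ₐ[R] S') (h : Synt.IsSyntomic R S) :
    Synt.IsSyntomic R S' := by
  obtain ⟨hflat, hfp, hfib⟩ := h
  refine ⟨Module.Flat.of_linearEquiv e.symm.toLinearEquiv, Algebra.FinitePresentation.equiv e,
    fun q => ?_⟩
  exact isLCIOver_of_algEquiv
    (Algebra.TensorProduct.congr (AlgEquiv.refl (R := q.asIdeal.ResidueField)
      (A₁ := q.asIdeal.ResidueField)) e) (hfib q)


section scheme

/-- the restriction of `a` to `U`. -/
noncomputable def aU {Z : Scheme.{u}} (a : Γ(Z, ⊤)) (U : Z.Opens) : Γ(Z, U) :=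
  (Z.presheaf.map (homOfLE le_top).op).hom a

/-- the ring `Γ(Z, U)[T]/(T^p - a)`. -/
abbrev BU {Z : Scheme.{u}} (p : ℕ) (a : Γ(Z, ⊤)) (U : Z.Opens) : Type u :=
  AdjoinRoot (Polynomial.X ^ p - Polynomial.C (aU a U) : Polynomial Γ(Z, U))

/-- the structure morphism of the piece of the covering over `U`. -/
noncomputable def fU {Z : Scheme.{u}} (p : ℕ) (a : Γ(Z, ⊤)) {U : Z.Opens} (hU : IsAffineOpen U) :
    Spec (CommRingCat.of (BU p a U)) ⟶ Z :=
  Spec.map (CommRingCat.ofHom (algebraMap Γ(Z, U) (BU p a U))) ≫ hU.fromSpec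

variable {Z : Scheme.{u}} (p : ℕ) (a : Γ(Z, ⊤)) {U : Z.Opens} (hU : IsAffineOpen U)

theorem fU_preimage : (⊤ : (Spec (CommRingCat.of (BU p a U))).Opens) ≤ fU p a hU ⁻¹ᵁ U := by
  rw [fU, Scheme.Hom.comp_preimage, hU.fromSpec_preimage_self]
  exact le_rfl

theorem fU_appLE :
    (fU p a hU).appLE U ⊤ (fU_preimage p a hU) =
      CommRingCat.ofHom (algebraMap Γ(Z, U) (BU p a U)) ≫
        (Scheme.ΓSpecIso (CommRingCat.of (BU p a U))).inv := by
  apply Spec.map_injective
  rw [← cancel_mono hU.fromSpec, IsAffineOpen.SpecMap_appLE_fromSpec (fU p a hU) hU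
    (isAffineOpen_top _) (fU_preimage p a hU), IsAffineOpen.fromSpec_top,
    Scheme.isoSpec_Spec_inv, Spec.map_comp, Category.assoc]
  rfl

theorem fU_isSyntomicMor (hp : p ≠ 0) : Synt.IsSyntomicMor (fU p a hU) := by
  intro y
  refine ⟨⟨⊤, isAffineOpen_top _⟩, ⟨U, hU⟩, fU_preimage p a hU, trivial, ?_⟩
  letI := ((fU p a hU).appLE U ⊤ (fU_preimage p a hU)).hom.toAlgebra
  have hsyn : Synt.IsSyntomic Γ(Z, U) (BU p a U) :=
    (Groth.Agent.S18934.isSyntomic_adjoinRoot Γ(Z, U) _ (Polynomial.monic_X_pow_sub_C _ hp)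
      (fun _ => by rw [Polynomial.natDegree_X_pow_sub_C]; exact Nat.pos_of_ne_zero hp)).1
  let e : BU p a U ≃ₐ[Γ(Z, U)] Γ(Spec (CommRingCat.of (BU p a U)), ⊤) :=
    { (Scheme.ΓSpecIso (CommRingCat.of (BU p a U))).symm.commRingCatIsoToRingEquiv with
      commutes' := fun r => by
        have h := fU_appLE p a hU
        have h2 := congrArg (fun φ => φ.hom r) h
        exact h2.symm }
  exact isSyntomic_of_algEquiv e hsyn

theorem fU_pow (hp : p ≠ 0) :
    ((Scheme.ΓSpecIso (CommRingCat.of (BU p a U))).inv.hom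
      (AdjoinRoot.root (Polynomial.X ^ p - Polynomial.C (aU a U) : Polynomial Γ(Z, U)))) ^ p =
      (fU p a hU).appTop.hom a := by
  have h1 : (AdjoinRoot.root (Polynomial.X ^ p - Polynomial.C (aU a U) : Polynomial Γ(Z, U))) ^ p =
      algebraMap Γ(Z, U) (BU p a U) (aU a U) := by
    have := AdjoinRoot.eval₂_root (Polynomial.X ^ p - Polynomial.C (aU a U) : Polynomial Γ(Z, U))
    simp only [Polynomial.eval₂_sub, Polynomial.eval₂_pow, Polynomial.eval₂_X,
      Polynomial.eval₂_C] at this
    exact sub_eq_zero.mp this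
  rw [← map_pow, h1]
  have h2 := congrArg (fun φ => φ.hom (aU a U)) (fU_appLE p a hU)
  have h3 : (fU p a hU).appTop =
      Z.presheaf.map (homOfLE le_top).op ≫ (fU p a hU).appLE U ⊤ (fU_preimage p a hU) := by
    rw [Scheme.Hom.map_appLE]
    rfl
  rw [h3]
  exact h2.symm

theorem fU_range (hp : p ≠ 0) (x : Z) (hx : x ∈ U) : ∃ y, fU p a hU y = x := by
  have hx' : x ∈ Set.range hU.fromSpec := by rw [hU.range_fromSpec]; exact hx
  obtain ⟨z, rfl⟩ := hx'
  haveI : Module.FaithfullyFlat Γ(Z, U) (BU p a U) :=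
    (Groth.Agent.S18934.isSyntomic_adjoinRoot Γ(Z, U) _ (Polynomial.monic_X_pow_sub_C _ hp)
      (fun _ => by rw [Polynomial.natDegree_X_pow_sub_C]; exact Nat.pos_of_ne_zero hp)).2
  obtain ⟨y, rfl⟩ := PrimeSpectrum.comap_surjective_of_faithfullyFlat (A := Γ(Z, U))
    (B := BU p a U) z
  exact ⟨y, rfl⟩

end scheme

end helpers

/-- Let p be a prime, X a scheme and a a global section of the structure sheaf of X. There is a covering
of X for the syntomic topology, that is a jointly surjective family of syntomic morphisms X_i → X,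
such that the restriction of a to each X_i is a p-th power. (The source states the surjectivity of
the p-th power map of the structure sheaf on the small syntomic site of a syntomic scheme over a
perfect field of characteristic p; the covering it uses elsewhere, adjoining a p-th root T^p = a
over affine pieces, gives the statement for every scheme, which is the form given here.) -/
theorem result (p : ℕ) [Fact p.Prime] (X : Scheme.{u}) (a : Γ(X, ⊤)) :
    ∃ 𝒰 : Scheme.Cover.{u} (Scheme.precoverage @Synt.IsSyntomicMor) X,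
      ∀ i : 𝒰.I₀, ∃ b : Γ(𝒰.X i, ⊤), b ^ p = (𝒰.f i).appTop a := by
  have hp : p ≠ 0 := (Fact.out : p.Prime).ne_zero
  refine ⟨Scheme.Cover.mkOfCovers X.affineOpens
    (fun U => Spec (CommRingCat.of (BU p a U.1))) (fun U => fU p a U.2) ?_
    (fun U => fU_isSyntomicMor p a U.2 hp), ?_⟩
  · intro x
    obtain ⟨_, ⟨U, hU, rfl⟩, hxU, -⟩ := X.isBasis_affineOpens.exists_subset_of_mem_open
      (Set.mem_univ x) isOpen_univ
    obtain ⟨y, hy⟩ := fU_range p a hU hp x hxU
    exact ⟨⟨U, hU⟩, y, hy⟩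
  · intro U
    exact ⟨_, fU_pow p a U.2 hp⟩

end Groth.Agent.S18945
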