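import Groth.Statements.S18946
-- import your own Groth.Agent.* helpers here

set_option autoImplicit false
universe u
open scoped BigOperators
open InvQ

namespace Groth.Agent.S18946

open MvPolynomial in
lemma L_monomial {k : Type u} [Field k] {ι : Type} [Fintype ι] [DecidableEq ι] (σ : ι → k)
    (s : ι →₀ ℕ) (a : k) :
    aeval (fun i => C (σ i) * X i) (monomial s a) =
      monomial s (a * ∏ i, σ i ^ s i) := by
  rw [aeval_monomial, monomial_eq (a := a * ∏ i, σ i ^ s i), Finsupp.prod_fintype _ _ (by simp),
    Finsupp.prod_fintype _ _ (by simp)]
  simp only [mul_pow, Finset.prod_mul_distrib, ← C_pow]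
  rw [C_mul, map_prod, algebraMap_eq, mul_assoc]

open MvPolynomial in
lemma coeff_L {k : Type u} [Field k] {ι : Type} [Fintype ι] [DecidableEq ι] (σ : ι → k)
    (f : MvPolynomial ι k) (m : ι →₀ ℕ) :
    coeff m (aeval (fun i => C (σ i) * X i) f) = coeff m f * ∏ i, σ i ^ m i := by
  induction f using MvPolynomial.induction_on' with
  | monomial s a =>
    rw [L_monomial, coeff_monomial, coeff_monomial]
    split_ifs with h
    · rw [h]
    · simp
  | add p q hp hq =>
    rw [map_add, coeff_add, coeff_add, hp, hq, add_mul]

open MvPolynomial in
lemma monomial_const_mem {k : Type u} [Field k] {ι : Type} [Fintype ι] [DecidableEq ι]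
    (s : ι →₀ ℕ) (d : ℕ) (hs : ∀ i, s i = d) (a : k) :
    monomial s a ∈ Algebra.adjoin k ({∏ i : ι, X i} : Set (MvPolynomial ι k)) := by
  rw [monomial_eq, Finsupp.prod_fintype _ _ (by simp)]
  simp only [hs, Finset.prod_pow]
  have hmem : (∏ i : ι, X i : MvPolynomial ι k) ∈
      Algebra.adjoin k ({∏ i : ι, X i} : Set (MvPolynomial ι k)) :=
    Algebra.subset_adjoin (Set.mem_singleton _)
  refine Subalgebra.mul_mem _ ?_ (Subalgebra.pow_mem _ hmem _)
  exact Subalgebra.algebraMap_mem _ a


/-- Let k be an algebraically closed field of characteristic zero and n a natural number, and let the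
torus of (n+1)-tuples of units of k with product 1 act on the polynomial ring k[t_0, ..., t_n] by
rescaling each variable t_i by the i-th unit. A polynomial is fixed by every such rescaling if and
only if it lies in the k-subalgebra generated by the product t_0 t_1 ... t_n. (This is the
computation of the ring of functions on affine (n+1)-space invariant under the maximal diagonal
torus of the special linear group, identified with the polynomial ring in the single coordinate t =
t_0 ... t_n of the line it maps to by the product map; invariance is tested on k-valued points of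
the torus, which over an infinite field is the same as invariance under the group scheme.) -/
theorem result
    (k : Type u) [Field k] [IsAlgClosed k] [CharZero k] (n : ℕ)
    (f : MvPolynomial (Fin (n + 1)) k) :
    (∀ σ : Fin (n + 1) → kˣ, ∏ i, (σ i : k) = 1 →
        MvPolynomial.aeval (fun i => MvPolynomial.C (σ i : k) * MvPolynomial.X i) f = f) ↔
      f ∈ Algebra.adjoin k ({∏ i : Fin (n + 1), MvPolynomial.X i} : Set (MvPolynomial (Fin (n + 1)) k)) := by
  constructor
  · intro h
    -- every exponent vector in the support is constant
    have key : ∀ m ∈ f.support, ∀ i j, m i = m j := by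
      intro m hm i j
      by_contra hij
      have hne : i ≠ j := fun h => hij (by rw [h])
      let u : kˣ := Units.mk0 (2 : k) two_ne_zero
      let σ : Fin (n + 1) → kˣ := fun l => (if l = i then u else 1) * (if l = j then u⁻¹ else 1)
      have hσ1 : ∏ l, (σ l : k) = 1 := by
        rw [← Units.coe_prod]
        simp only [σ, Finset.prod_mul_distrib, Finset.prod_ite_eq', Finset.mem_univ, if_true]
        simp
      have h1 := congrArg (MvPolynomial.coeff m) (h σ hσ1)
      rw [coeff_L] at h1
      have hc : MvPolynomial.coeff m f ≠ 0 := MvPolynomial.mem_support_iff.mp hm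
      have h2 : ∏ l, (σ l : k) ^ m l = 1 := by
        have := mul_left_cancel₀ hc (h1.trans (mul_one _).symm)
        exact this
      have h3 : ∏ l, (σ l : k) ^ m l = (u : k) ^ m i * ((u⁻¹ : kˣ) : k) ^ m j := by
        simp only [σ, Units.val_mul, mul_pow, Finset.prod_mul_distrib]
        congr 1
        · rw [Finset.prod_eq_single i]
          · simp
          · intro b _ hb; simp [hb]
          · simp
        · rw [Finset.prod_eq_single j]
          · simp
          · intro b _ hb; simp [hb]
          · simp
      rw [h3] at h2
      have h4 : (u : k) ^ m i = (u : k) ^ m j := by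
        have : ((u⁻¹ : kˣ) : k) ^ m j * (u : k) ^ m j = 1 := by
          rw [← mul_pow, Units.inv_mul, one_pow]
        calc (u : k) ^ m i = (u : k) ^ m i * (((u⁻¹ : kˣ) : k) ^ m j * (u : k) ^ m j) := by
              rw [this, mul_one]
          _ = ((u : k) ^ m i * ((u⁻¹ : kˣ) : k) ^ m j) * (u : k) ^ m j := by rw [mul_assoc]
          _ = (u : k) ^ m j := by rw [h2, one_mul]
      have h5 : ((2 ^ m i : ℕ) : k) = ((2 ^ m j : ℕ) : k) := by
        push_cast
        exact h4
      have h6 := Nat.cast_injective h5
      exact hij (Nat.pow_right_injective (le_refl 2) h6)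
    rw [← MvPolynomial.support_sum_monomial_coeff f]
    refine Subalgebra.sum_mem _ fun m hm => ?_
    exact monomial_const_mem m (m 0) (fun i => key m hm i 0) _
  · intro hf σ hσ
    induction hf using Algebra.adjoin_induction with
    | mem x hx =>
      rw [Set.mem_singleton_iff] at hx
      rw [hx, map_prod]
      simp only [MvPolynomial.aeval_X, Finset.prod_mul_distrib]
      rw [← map_prod, hσ, map_one, one_mul]
    | algebraMap r => simp
    | add x y _ _ hx hy => rw [map_add, hx, hy]
    | mul x y _ _ hx hy => rw [map_mul, hx, hy]

end Groth.Agent.S18946
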