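import Groth.Statements.S18948
-- import your own Groth.Agent.* helpers here

set_option autoImplicit false
universe u v
open CExt

namespace Groth.Agent.S18948

/-- Let f : E → G be a surjective homomorphism of groups whose kernel is central in E, and let x ∈ E.
Then f maps the conjugacy class of x bijectively onto the conjugacy class of f(x) if and only if
every element of G commuting with f(x) is the image of some element of E commuting with x. (In the
source E → G is the central extension, with kernel the roots of unity, attached to a Brauer class of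
the classifying stack of a finite tame étale group scheme, and a conjugacy class of E mapping
bijectively onto a given class of G is a marking; the equivalence is stated here for an arbitrary
central extension of abstract groups.) -/
theorem result {E : Type u} {G : Type v} [Group E] [Group G]
    (f : E →* G) (hf : Function.Surjective f) (hker : f.ker ≤ Subgroup.center E) (x : E) :
    Set.BijOn f (MulAction.orbit (ConjAct E) x) (MulAction.orbit (ConjAct G) (f x)) ↔
      ∀ g : G, g * f x = f x * g → ∃ e : E, f e = g ∧ e * x = x * e := by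
  have horbE : ∀ y : E, y ∈ MulAction.orbit (ConjAct E) x ↔ ∃ e : E, e * x * e⁻¹ = y := by
    intro y
    rw [MulAction.mem_orbit_iff]
    constructor
    · rintro ⟨c, rfl⟩
      exact ⟨ConjAct.ofConjAct c, (ConjAct.smul_def c x).symm⟩
    · rintro ⟨e, rfl⟩
      exact ⟨ConjAct.toConjAct e, by rw [ConjAct.smul_def]; simp⟩
  have horbG : ∀ y : G, y ∈ MulAction.orbit (ConjAct G) (f x) ↔ ∃ g : G, g * f x * g⁻¹ = y := by
    intro y
    rw [MulAction.mem_orbit_iff]
    constructor
    · rintro ⟨c, rfl⟩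
      exact ⟨ConjAct.ofConjAct c, (ConjAct.smul_def c (f x)).symm⟩
    · rintro ⟨e, rfl⟩
      exact ⟨ConjAct.toConjAct e, by rw [ConjAct.smul_def]; simp⟩
  have hmaps : Set.MapsTo f (MulAction.orbit (ConjAct E) x) (MulAction.orbit (ConjAct G) (f x)) := by
    intro y hy
    obtain ⟨e, rfl⟩ := (horbE y).mp hy
    exact (horbG _).mpr ⟨f e, by simp⟩
  have hsurj : Set.SurjOn f (MulAction.orbit (ConjAct E) x) (MulAction.orbit (ConjAct G) (f x)) := by
    intro y hy
    obtain ⟨g, rfl⟩ := (horbG y).mp hy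
    obtain ⟨e, rfl⟩ := hf g
    exact ⟨e * x * e⁻¹, (horbE _).mpr ⟨e, rfl⟩, by simp⟩
  constructor
  · intro h g hg
    obtain ⟨e, rfl⟩ := hf g
    refine ⟨e, rfl, ?_⟩
    have h1 : e * x * e⁻¹ ∈ MulAction.orbit (ConjAct E) x := (horbE _).mpr ⟨e, rfl⟩
    have h2 : x ∈ MulAction.orbit (ConjAct E) x := (horbE _).mpr ⟨1, by simp⟩
    have h3 : f (e * x * e⁻¹) = f x := by
      rw [map_mul, map_mul, map_inv, hg]; simp
    have h4 := h.injOn h1 h2 h3
    calc e * x = e * x * e⁻¹ * e := by simp
      _ = x * e := by rw [h4]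
  · intro h
    refine ⟨hmaps, ?_, hsurj⟩
    intro y hy z hz hyz
    obtain ⟨a, rfl⟩ := (horbE y).mp hy
    obtain ⟨b, rfl⟩ := (horbE z).mp hz
    -- e = b⁻¹ a
    have h1 : f (b⁻¹ * a) * f x = f x * f (b⁻¹ * a) := by
      simp only [map_mul, map_inv] at hyz ⊢
      calc (f b)⁻¹ * f a * f x = (f b)⁻¹ * (f a * f x * (f a)⁻¹) * f a := by simp [mul_assoc]
        _ = (f b)⁻¹ * (f b * f x * (f b)⁻¹) * f a := by rw [hyz]
        _ = f x * ((f b)⁻¹ * f a) := by simp [mul_assoc]
    obtain ⟨e', he', hcomm⟩ := h _ h1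
    -- b⁻¹ a = e' c with c central
    have hc : e'⁻¹ * (b⁻¹ * a) ∈ f.ker := by
      rw [MonoidHom.mem_ker, map_mul, map_inv, he']; simp
    have hc' := Subgroup.mem_center_iff.mp (hker hc) x
    -- (b⁻¹ a) x = x (b⁻¹ a)
    have h2 : (b⁻¹ * a) * x = x * (b⁻¹ * a) := by
      calc (b⁻¹ * a) * x = e' * ((e'⁻¹ * (b⁻¹ * a)) * x) := by simp [mul_assoc]
        _ = e' * (x * (e'⁻¹ * (b⁻¹ * a))) := by rw [← hc']
        _ = (e' * x) * (e'⁻¹ * (b⁻¹ * a)) := by simp [mul_assoc]
        _ = (x * e') * (e'⁻¹ * (b⁻¹ * a)) := by rw [hcomm]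
        _ = x * (b⁻¹ * a) := by simp [mul_assoc]
    calc a * x * a⁻¹ = b * ((b⁻¹ * a) * x) * a⁻¹ := by simp [mul_assoc]
      _ = b * (x * (b⁻¹ * a)) * a⁻¹ := by rw [h2]
      _ = b * x * b⁻¹ := by simp [mul_assoc]

end Groth.Agent.S18948
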