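import Groth.Statements.S18949
-- import your own Groth.Agent.* helpers here

set_option autoImplicit false
universe u v
open CExt

namespace Groth.Agent.S18949

/-- Automorphisms over the base: let f : E → G be a surjective homomorphism of groups with central
kernel A. For every homomorphism χ : G → A the map e ↦ χ(f(e)) · e is an endomorphism of E over G
which is the identity on A; and every endomorphism α of E with f ∘ α = f and α equal to the identity
on A is of this form for exactly one χ. (In the source this identifies the automorphisms of a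
central extension fixing its kernel with Hom(G, A), for extensions of profinite étale group schemes
over a field; stated here for abstract groups.) -/
theorem result {E : Type u} {G : Type v} [Group E] [Group G]
    (f : E →* G) (hf : Function.Surjective f) (hker : f.ker ≤ Subgroup.center E) :
    (∀ χ : G →* f.ker, ∃ α : E →* E, f.comp α = f ∧ (∀ a ∈ f.ker, α a = a) ∧
        ∀ e : E, α e = (χ (f e) : E) * e) ∧
      ∀ α : E →* E, f.comp α = f → (∀ a ∈ f.ker, α a = a) →
        ∃! χ : G →* f.ker, ∀ e : E, α e = (χ (f e) : E) * e := by
  have hcomm : ∀ (a : f.ker) (e : E), e * (a : E) = (a : E) * e := fun a e =>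
    (Subgroup.mem_center_iff.mp (hker a.2) e)
  refine ⟨?_, ?_⟩
  · intro χ
    refine ⟨{ toFun := fun e => (χ (f e) : E) * e, map_one' := by simp, map_mul' := ?_ }, ?_, ?_, ?_⟩
    · intro a b
      simp only [map_mul, Subgroup.coe_mul]
      rw [mul_assoc, mul_assoc, ← mul_assoc _ a b, ← hcomm (χ (f b)) a]
      simp [mul_assoc]
    · ext e
      simp only [MonoidHom.comp_apply, MonoidHom.coe_mk, OneHom.coe_mk, map_mul]
      have : f (χ (f e) : E) = 1 := (χ (f e)).2
      rw [this, one_mul]
    · intro a ha
      simp only [MonoidHom.coe_mk, OneHom.coe_mk]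
      rw [MonoidHom.mem_ker.mp ha]
      simp
    · intro e
      rfl
  · intro α hα hαA
    have hmem : ∀ e : E, α e * e⁻¹ ∈ f.ker := by
      intro e
      have : f (α e) = f e := by rw [← MonoidHom.comp_apply, hα]
      rw [MonoidHom.mem_ker, map_mul, map_inv, this, mul_inv_cancel]
    let φ : E →* f.ker :=
      { toFun := fun e => ⟨α e * e⁻¹, hmem e⟩
        map_one' := by ext; simp
        map_mul' := by
          intro a b
          ext
          simp only [map_mul, mul_inv_rev, Subgroup.coe_mul]
          have := hcomm ⟨α b * b⁻¹, hmem b⟩ a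
          simp only at this
          calc α a * α b * (b⁻¹ * a⁻¹) = α a * (a⁻¹ * (a * (α b * b⁻¹))) * a⁻¹ := by
                simp [mul_assoc]
            _ = α a * (a⁻¹ * ((α b * b⁻¹) * a)) * a⁻¹ := by rw [this]
            _ = α a * a⁻¹ * (α b * b⁻¹) := by simp [mul_assoc] }
    have hφ : f.ker ≤ φ.ker := by
      intro a ha
      rw [MonoidHom.mem_ker]
      ext
      simp [φ, hαA a ha]
    let χ : G →* f.ker := f.liftOfRightInverse (Function.surjInv hf)
      (Function.rightInverse_surjInv hf) ⟨φ, hφ⟩
    have hχ : ∀ e, χ (f e) = φ e := fun e =>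
      MonoidHom.liftOfRightInverse_comp_apply f _ (Function.rightInverse_surjInv hf) ⟨φ, hφ⟩ e
    refine ⟨χ, ?_, ?_⟩
    · intro e
      rw [hχ]
      simp [φ]
    · intro χ' hχ'
      ext g
      obtain ⟨e, rfl⟩ := hf g
      rw [hχ]
      have := hχ' e
      simp only [φ, MonoidHom.coe_mk, OneHom.coe_mk]
      rw [this]
      simp

end Groth.Agent.S18949
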