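import Groth.Statements.S1895
import Mathlib
import Groth.Agent.Lib.Helper20.KM10
import Groth.Agent.Lib.Helper20.HB8
import Groth.Agent.Lib.Helper14.EtSrcLocal

set_option autoImplicit false
universe u
open CategoryTheory CategoryTheory.Limits AlgebraicGeometry
open Grpd

namespace Groth.Agent.S1895


/-- Let f : (U', R', s', t', c') → (U, R, s, t, c) be a morphism of groupoid schemes over S with U, R,
U', R' affine, s, t, s', t' finite locally free, the squares for s and for t cartesian, the induced
square of stabilizer group schemes cartesian, and f : U' → U étale. Then the induced morphism Spec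
C' → Spec C on spectra of invariant rings (the unique one compatible with U' → U) is étale. (The
source's second conclusion, U' = Spec C' ×_{Spec C} U, is not stated.) (A groupoid scheme carries U,
R, s, t, c, e, i over S with the groupoid axioms on T-points; 'finite locally free' is finite, flat
and locally of finite presentation; C ⊂ Γ(U) is the ring of functions a with s♯(a) = t♯(a) and M =
Spec C.) -/
theorem result (S : Scheme.{u}) (G' G : Grpd.GroupoidScheme S) (f : Grpd.GroupoidScheme.Hom G' G) [IsAffine G.U] [IsAffine G.R] [IsAffine G'.U] [IsAffine G'.R] [IsFinite G.s] [Flat G.s] [LocallyOfFinitePresentation G.s] [IsFinite G.t] [Flat G.t] [LocallyOfFinitePresentation G.t] [IsFinite G'.s] [Flat G'.s] [LocallyOfFinitePresentation G'.s] [IsFinite G'.t] [Flat G'.t] [LocallyOfFinitePresentation G'.t] (hs : IsPullback f.fR G'.s G.s f.fU) (ht : IsPullback f.fR G'.t G.t f.fU) (hstab : ∃ g : G'.stabilizer ⟶ G.stabilizer, g ≫ pullback.fst G.j G.diag = pullback.fst G'.j G'.diag ≫ f.fR ∧ IsPullback g G'.stabilizerToU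 G.stabilizerToU f.fU) [Etale f.fU] : ∃ g : Spec (CommRingCat.of G'.invariants) ⟶ Spec (CommRingCat.of G.invariants), G'.toQuot ≫ g = f.fU ≫ G.toQuot ∧ Etale g := by

  refine ⟨Groth.Agent.Lib.Helper20.HB.specInv f.fU f.fR f.comm_s f.comm_t,
    Groth.Agent.Lib.Helper20.HB.toQuot_specInv f.fU f.fR f.comm_s f.comm_t, ?_⟩
  obtain ⟨-, hloc⟩ := Groth.Agent.Lib.Helper20.KM.km_ring f hs ht hstab
  set g := Groth.Agent.Lib.Helper20.HB.specInv f.fU f.fR f.comm_s f.comm_t with hg
  have key : ∀ x : Spec (CommRingCat.of G'.invariants),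
      ∃ W : (Spec (CommRingCat.of G'.invariants)).Opens, x ∈ W ∧ Etale (W.ι ≫ g) := by
    intro x
    obtain ⟨C₁, _, φ, ρ, q, hq, hφ, hρ, hcomp, hcomap⟩ := hloc x.asIdeal x.isPrime
    let π : Spec (CommRingCat.of C₁) ⟶ Spec (CommRingCat.of G'.invariants) :=
      Spec.map (CommRingCat.ofHom ρ)
    have hπ : Etale π := (HasRingHomProperty.Spec_iff (P := @Etale)).mpr hρ
    let W : (Spec (CommRingCat.of G'.invariants)).Opens :=
      ⟨Set.range π, π.isOpenMap.isOpen_range⟩
    have hxW : x ∈ W := ⟨⟨q, hq⟩, PrimeSpectrum.ext hcomap⟩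
    have hrange : Set.range π ⊆ Set.range W.ι := by
      rw [Scheme.Opens.range_ι]
      exact subset_rfl
    let π' : Spec (CommRingCat.of C₁) ⟶ W.toScheme := IsOpenImmersion.lift W.ι π hrange
    have hπ' : π' ≫ W.ι = π := IsOpenImmersion.lift_fac _ _ _
    have h1 : Etale π' := by
      have : Etale (π' ≫ W.ι) := by rw [hπ']; exact hπ
      exact Etale.of_comp π' W.ι
    have h2 : Surjective π' := by
      constructor
      intro w
      obtain ⟨z, hz⟩ : (W.ι w) ∈ Set.range π := by
        have : W.ι w ∈ Set.range W.ι := ⟨w, rfl⟩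
        rw [Scheme.Opens.range_ι] at this
        exact this
      refine ⟨z, W.ι.injective ?_⟩
      rw [← hz, ← hπ']
      rfl
    have h3 : Etale (π' ≫ (W.ι ≫ g)) := by
      rw [← Category.assoc, hπ', hg]
      unfold Groth.Agent.Lib.Helper20.HB.specInv
      rw [← Spec.map_comp, ← CommRingCat.ofHom_comp, hcomp]
      exact (HasRingHomProperty.Spec_iff (P := @Etale)).mpr hφ
    exact ⟨W, hxW, Groth.Agent.Lib.Helper14.ESL.srcLocal_etale π' (W.ι ≫ g) h1 h2 h3⟩
  choose W hxW hW using key
  have hloc' : IsZariskiLocalAtSource @Etale.{u} := HasRingHomProperty.instIsZariskiLocalAtSource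
  refine IsZariskiLocalAtSource.of_iSup_eq_top (P := @Etale) W ?_ hW
  rw [eq_top_iff]
  intro x _
  exact TopologicalSpace.Opens.mem_iSup.mpr ⟨x, hxW x⟩

end Groth.Agent.S1895
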