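import Groth.Statements.S18953
import Mathlib.Tactic.Abel
import Mathlib.Tactic.Group
-- import your own Groth.Agent.* helpers here

set_option autoImplicit false
universe u v
open OrbPic

namespace Groth.Agent.S18953

open W4c6brauerbgmalle

section helpers

variable {G₁ : Type u} {G₂ : Type v} [Group G₁] [Group G₂] (C₁ : Set G₁) (C₂ : Set G₂)

theorem mem_C (g₁ : G₁) (g₂ : G₂) :
    (g₁, g₂) ∈ ((fun g => (g, (1 : G₂))) '' C₁ ∪ (fun g => ((1 : G₁), g)) '' C₂) ↔
      (g₁ ∈ C₁ ∧ g₂ = 1) ∨ (g₁ = 1 ∧ g₂ ∈ C₂) := by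
  simp only [Set.mem_union, Set.mem_image, Prod.mk.injEq]
  constructor
  · rintro (⟨g, hg, rfl, rfl⟩ | ⟨g, hg, rfl, rfl⟩)
    · exact Or.inl ⟨hg, rfl⟩
    · exact Or.inr ⟨rfl, hg⟩
  · rintro (⟨hg, rfl⟩ | ⟨rfl, hg⟩)
    · exact Or.inl ⟨g₁, hg, rfl, rfl⟩
    · exact Or.inr ⟨g₂, hg, rfl, rfl⟩

end helpers

/-- Let G₁ and G₂ be groups with subsets C₁ ⊆ G₁ and C₂ ⊆ G₂, and let C ⊆ G₁ × G₂ be the union of C₁ ×
{1} and {1} × C₂. Restricting the character and the weight along the two inclusions G₁ → G₁ × G₂ and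
G₂ → G₁ × G₂ is a bijection from the geometric partial orbifold line bundles of G₁ × G₂ with respect
to C onto pairs of geometric partial orbifold line bundles of G₁ with respect to C₁ and of G₂ with
respect to C₂. (As in the source after a choice of roots of unity, each group stands for the
geometric points of a tame finite étale group scheme, characters are homomorphisms to ℚ/ℤ and
weights are class functions; the source states the Galois-equivariant version, which follows by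
taking invariants.) -/
theorem result (G₁ : Type u) (G₂ : Type v) [Group G₁] [Group G₂] (C₁ : Set G₁) (C₂ : Set G₂) :
    Set.BijOn
      (fun p : (Additive (G₁ × G₂) →+ W4c6brauerbgmalle.QmodZ) × (G₁ × G₂ → ℚ) =>
        ((p.1.comp (MonoidHom.toAdditive (MonoidHom.inl G₁ G₂)), fun g => p.2 (g, 1)),
          (p.1.comp (MonoidHom.toAdditive (MonoidHom.inr G₁ G₂)), fun g => p.2 (1, g))))
      (W4c6brauerbgmalle.picOrb (G₁ × G₂) ((fun g => (g, (1 : G₂))) '' C₁ ∪ (fun g => ((1 : G₁), g)) '' C₂))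
      ((W4c6brauerbgmalle.picOrb G₁ C₁ : Set _) ×ˢ (W4c6brauerbgmalle.picOrb G₂ C₂ : Set _)) := by
  classical
  refine ⟨?_, ?_, ?_⟩
  · -- MapsTo
    rintro ⟨χ, w⟩ ⟨h1, h2, h3, h4⟩
    refine ⟨⟨h1, ?_, ?_, ?_⟩, ⟨h1, ?_, ?_, ?_⟩⟩
    · intro g hg
      by_cases hm : (g, (1 : G₂)) ∈ ((fun g => (g, (1 : G₂))) '' C₁ ∪ (fun g => ((1 : G₁), g)) '' C₂)
      · rw [mem_C] at hm
        rcases hm with ⟨h, _⟩ | ⟨rfl, _⟩
        · exact absurd h hg
        · exact h1
      · exact h2 _ hm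
    · intro g h
      have := h3 (g, 1) (h, 1)
      simpa using this
    · intro g hg
      exact h4 (g, 1) ((mem_C C₁ C₂ g 1).mpr (Or.inl ⟨hg, rfl⟩))
    · intro g hg
      by_cases hm : ((1 : G₁), g) ∈ ((fun g => (g, (1 : G₂))) '' C₁ ∪ (fun g => ((1 : G₁), g)) '' C₂)
      · rw [mem_C] at hm
        rcases hm with ⟨_, rfl⟩ | ⟨_, h⟩
        · exact h1
        · exact absurd h hg
      · exact h2 _ hm
    · intro g h
      have := h3 (1, g) (1, h)
      simpa using this
    · intro g hg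
      exact h4 (1, g) ((mem_C C₁ C₂ 1 g).mpr (Or.inr ⟨rfl, hg⟩))
  · -- InjOn
    rintro ⟨χ, w⟩ ⟨h1, h2, h3, h4⟩ ⟨χ', w'⟩ ⟨h1', h2', h3', h4'⟩ heq
    simp only [Prod.mk.injEq] at heq
    obtain ⟨⟨e1, e2⟩, ⟨e3, e4⟩⟩ := heq
    have hχ : χ = χ' := by
      apply AddMonoidHom.ext
      intro g
      obtain ⟨g₁, g₂, rfl⟩ : ∃ (g₁ : G₁) (g₂ : G₂), g = Additive.ofMul ((g₁, g₂) : G₁ × G₂) :=
        ⟨(Additive.toMul g).1, (Additive.toMul g).2, rfl⟩
      have hdec : Additive.ofMul ((g₁, g₂) : G₁ × G₂) =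
          Additive.ofMul ((g₁, 1) : G₁ × G₂) + Additive.ofMul ((1, g₂) : G₁ × G₂) := by
        rw [← ofMul_mul]; simp
      have a1 := DFunLike.congr_fun e1 (Additive.ofMul g₁)
      have a2 := DFunLike.congr_fun e3 (Additive.ofMul g₂)
      show χ (Additive.ofMul ((g₁, g₂) : G₁ × G₂)) = χ' (Additive.ofMul ((g₁, g₂) : G₁ × G₂))
      rw [hdec, map_add, map_add]
      exact congrArg₂ (· + ·) a1 a2
    have hw : w = w' := by
      funext ⟨g₁, g₂⟩
      by_cases hm : (g₁, g₂) ∈ ((fun g => (g, (1 : G₂))) '' C₁ ∪ (fun g => ((1 : G₁), g)) '' C₂)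
      · have hm' := (mem_C C₁ C₂ g₁ g₂).mp hm
        rcases hm' with ⟨_, rfl⟩ | ⟨rfl, _⟩
        · exact congrFun e2 g₁
        · exact congrFun e4 g₂
      · rw [show w (g₁, g₂) = 0 from h2 _ hm, show w' (g₁, g₂) = 0 from h2' _ hm]
    rw [hχ, hw]
  · -- SurjOn
    rintro ⟨⟨χ₁, w₁⟩, ⟨χ₂, w₂⟩⟩ ⟨⟨a1, a2, a3, a4⟩, ⟨b1, b2, b3, b4⟩⟩
    dsimp only at a1 a2 a3 a4 b1 b2 b3 b4
    refine ⟨(χ₁.comp (MonoidHom.toAdditive (MonoidHom.fst G₁ G₂)) +
      χ₂.comp (MonoidHom.toAdditive (MonoidHom.snd G₁ G₂)),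
      fun g => if g.2 = 1 then w₁ g.1 else if g.1 = 1 then w₂ g.2 else 0), ⟨?_, ?_, ?_, ?_⟩, ?_⟩
    · simp only [Prod.snd_one, Prod.fst_one, if_true]; exact a1
    · rintro ⟨g₁, g₂⟩ hg
      rw [mem_C] at hg
      push Not at hg
      simp only
      split_ifs with hg2 hg1
      · exact a2 g₁ (fun h => hg.1 h hg2)
      · exact b2 g₂ (fun h => hg.2 hg1 h)
      · rfl
    · rintro ⟨g₁, g₂⟩ ⟨k₁, k₂⟩
      have e1 : ∀ (g h : G₂), h * g * h⁻¹ = 1 ↔ g = 1 := by
        intro g h
        constructor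
        · intro hg
          have : g = h⁻¹ * (h * g * h⁻¹) * h := by group
          rw [this, hg]; group
        · rintro rfl; group
      have e2 : ∀ (g h : G₁), h * g * h⁻¹ = 1 ↔ g = 1 := by
        intro g h
        constructor
        · intro hg
          have : g = h⁻¹ * (h * g * h⁻¹) * h := by group
          rw [this, hg]; group
        · rintro rfl; group
      simp only [Prod.mk_mul_mk, Prod.inv_mk, e1, e2, a3, b3]
    · rintro ⟨g₁, g₂⟩ hg
      rw [mem_C] at hg
      simp only [AddMonoidHom.add_apply, AddMonoidHom.coe_comp, Function.comp_apply]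
      rcases hg with ⟨hg1, rfl⟩ | ⟨rfl, hg2⟩
      · simp only [if_true]
        rw [a4 g₁ hg1]
        have : (MonoidHom.toAdditive (MonoidHom.snd G₁ G₂)) (Additive.ofMul ((g₁, 1) : G₁ × G₂)) = 0 := rfl
        rw [this, map_zero, add_zero]
        rfl
      · by_cases h2 : g₂ = 1
        · subst h2
          simp only [if_true]
          rw [a1]
          have : Additive.ofMul (((1 : G₁), (1 : G₂)) : G₁ × G₂) = 0 := rfl
          rw [this]
          simp
        · simp only [h2, if_false, if_true]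
          rw [b4 g₂ hg2]
          have : (MonoidHom.toAdditive (MonoidHom.fst G₁ G₂)) (Additive.ofMul (((1 : G₁), g₂) : G₁ × G₂)) = 0 := rfl
          rw [this, map_zero, zero_add]
          rfl
    · simp only [Prod.mk.injEq]
      refine ⟨⟨?_, ?_⟩, ⟨?_, ?_⟩⟩
      · apply AddMonoidHom.ext
        intro g
        simp only [AddMonoidHom.coe_comp, Function.comp_apply, AddMonoidHom.add_apply]
        have h1 : (MonoidHom.toAdditive (MonoidHom.snd G₁ G₂))
            ((MonoidHom.toAdditive (MonoidHom.inl G₁ G₂)) g) = 0 := rfl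
        have h2 : (MonoidHom.toAdditive (MonoidHom.fst G₁ G₂))
            ((MonoidHom.toAdditive (MonoidHom.inl G₁ G₂)) g) = g := rfl
        rw [h1, h2, map_zero, add_zero]
      · funext g
        simp
      · apply AddMonoidHom.ext
        intro g
        simp only [AddMonoidHom.coe_comp, Function.comp_apply, AddMonoidHom.add_apply]
        have h1 : (MonoidHom.toAdditive (MonoidHom.fst G₁ G₂))
            ((MonoidHom.toAdditive (MonoidHom.inr G₁ G₂)) g) = 0 := rfl
        have h2 : (MonoidHom.toAdditive (MonoidHom.snd G₁ G₂))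
            ((MonoidHom.toAdditive (MonoidHom.inr G₁ G₂)) g) = g := rfl
        rw [h1, h2, map_zero, zero_add]
      · funext g
        by_cases hg : g = 1
        · subst hg; simp [a1, b1]
        · simp [hg]

end Groth.Agent.S18953
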