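import Groth.Statements.S18954
import Mathlib.Tactic.FieldSimp
import Mathlib.Tactic.Ring

set_option autoImplicit false
universe u v w
open Classical
open BGCount

namespace Groth.Agent.S18954

/-- Let a finite group G act on a finite set X, let W be a finite set of orbits and f a function on
orbits with values in a field of characteristic zero. Then Σ_{O ∈ W} f(O)/|Stab(x_O)|, with x_O any
point of O, equals |G|⁻¹ · Σ f(orbit(x)) over the points x of X whose orbit lies in W. (In the
source X is the set of 1-cocycles of the absolute Galois group of a field in a finite étale group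
scheme G, acted on by the geometric points of G, the orbits are the isomorphism classes of G-torsors
and the stabilisers their automorphism groups; stated here for an arbitrary action of a finite group
on a finite set, the representative x_O being chosen by Quotient.out.) -/
theorem result {G : Type u} {X : Type v} (𝕜 : Type w)
    [Group G] [Fintype G] [MulAction G X] [Fintype X] [Field 𝕜] [CharZero 𝕜]
    (W : Finset (MulAction.orbitRel.Quotient G X)) (f : MulAction.orbitRel.Quotient G X → 𝕜) :
    (∑ O ∈ W, f O / (Nat.card (MulAction.stabilizer G O.out) : 𝕜)) =
      (Fintype.card G : 𝕜)⁻¹ *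
        ∑ x ∈ Finset.univ.filter (fun x : X => (Quotient.mk (MulAction.orbitRel G X) x) ∈ W),
          f (Quotient.mk (MulAction.orbitRel G X) x) := by
  rw [← Finset.sum_fiberwise_eq_sum_filter' Finset.univ W
    (fun x : X => Quotient.mk (MulAction.orbitRel G X) x) f, Finset.mul_sum]
  refine Finset.sum_congr rfl fun O _ => ?_
  rw [Finset.sum_const, nsmul_eq_mul]
  have hcard : (Finset.univ.filter (fun x : X => Quotient.mk (MulAction.orbitRel G X) x = O)).card
      * Nat.card (MulAction.stabilizer G O.out) = Fintype.card G := by
    have h1 := MulAction.card_orbit_mul_card_stabilizer_eq_card_group G O.out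
    rw [Nat.card_eq_fintype_card, ← h1]
    congr 1
    rw [Fintype.card_subtype]
    congr 1
    ext x
    simp only [Finset.mem_filter, Finset.mem_univ, true_and]
    rw [← MulAction.orbitRel_apply]
    conv_lhs => rw [← Quotient.out_eq O]
    exact Quotient.eq
  have hG : (Fintype.card G : 𝕜) ≠ 0 := by
    exact_mod_cast Fintype.card_ne_zero
  have hS : (Nat.card (MulAction.stabilizer G O.out) : 𝕜) ≠ 0 := by
    intro h
    apply hG
    rw [← hcard, Nat.cast_mul, h, mul_zero]
  have hC : ((Finset.univ.filter
      (fun x : X => Quotient.mk (MulAction.orbitRel G X) x = O)).card : 𝕜) ≠ 0 := by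
    intro h
    apply hG
    rw [← hcard, Nat.cast_mul, h, zero_mul]
  rw [← hcard, Nat.cast_mul]
  field_simp

end Groth.Agent.S18954
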