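import Groth.Statements.S18957
-- import your own Groth.Agent.* helpers here

set_option autoImplicit false
universe u
open CategoryTheory MonoidalCategory CartesianMonoidalCategory MonObj AlgebraicGeometry Opposite
open Magnet

namespace Groth.Agent.S18957

set_option backward.isDefEq.respectTransparency.types false in
set_option maxHeartbeats 1000000 in
/-- the square `G ⊗ Z → M ⊗ Z`, `G → M` is a pullback of schemes. -/
theorem isPullback_whisker {S₀ : Scheme.{u}} (M G Z : Over S₀) (i : G ⟶ M) :
    IsPullback (CartesianMonoidalCategory.fst G Z).left (i ▷ Z).left i.left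
      (CartesianMonoidalCategory.fst M Z).left := by
  have hR : IsPullback (CartesianMonoidalCategory.fst M Z).left
      (CartesianMonoidalCategory.snd M Z).left M.hom Z.hom :=
    IsPullback.of_hasPullback M.hom Z.hom
  have hO : IsPullback (CartesianMonoidalCategory.fst G Z).left
      (CartesianMonoidalCategory.snd G Z).left G.hom Z.hom :=
    IsPullback.of_hasPullback G.hom Z.hom
  have e1 : (i ▷ Z).left ≫ (CartesianMonoidalCategory.snd M Z).left =
      (CartesianMonoidalCategory.snd G Z).left := by
    rw [← Over.comp_left]
    congr 1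
    simp
  have e2 : (i ▷ Z).left ≫ (CartesianMonoidalCategory.fst M Z).left =
      (CartesianMonoidalCategory.fst G Z).left ≫ i.left := by
    rw [← Over.comp_left, ← Over.comp_left]
    congr 1
    simp
  have hO' : IsPullback (CartesianMonoidalCategory.fst G Z).left
      ((i ▷ Z).left ≫ (CartesianMonoidalCategory.snd M Z).left) (i.left ≫ M.hom) Z.hom := by
    rw [e1, Over.w i]
    exact hO
  exact IsPullback.of_bot hO' e2.symm hR

set_option backward.isDefEq.respectTransparency.types false in
set_option maxHeartbeats 1000000 in
theorem core (k : Type u) [Field k]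
    (M G X Z : Over (Spec (CommRingCat.of k))) [MonObj M] [GrpObj G]
    (i : G ⟶ M) [IsMonHom i] [IsOpenImmersion i.left] [QuasiCompact i.left]
    [IsSchemeTheoreticallyDominant i.left]
    (a : Magnet.MonAct M X) (b : AlgGrp.Action G Z) (j : Z ⟶ X) [IsClosedImmersion j.left]
    (hj : Magnet.MonAct.IsEquivariant (Magnet.MonAct.ofAction b) (a.restrict i) j) :
    ∃ c : Magnet.MonAct M Z, Magnet.MonAct.IsEquivariant c a j ∧ c.restrict i = Magnet.MonAct.ofAction b := by
  haveI : Mono j := by
    haveI : Mono j.left := inferInstance
    exact Over.mono_of_mono_left _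
  -- scheme-theoretic dominance of `i ▷ Z`
  haveI : Flat Z.hom := inferInstance
  haveI : Flat (CartesianMonoidalCategory.fst M Z).left := by
    have : (CartesianMonoidalCategory.fst M Z).left = Limits.pullback.fst M.hom Z.hom := rfl
    rw [this]
    infer_instance
  haveI hdom : IsSchemeTheoreticallyDominant (i ▷ Z).left :=
    IsSchemeTheoreticallyDominant.of_isPullback (isPullback_whisker M G Z i)
  -- the equivariance of `j`
  have hj' : b.act ≫ j = (G ◁ j) ≫ (i ▷ X) ≫ a.act := hj
  have hex : (i ▷ Z) ≫ (M ◁ j) = (G ◁ j) ≫ (i ▷ X) := by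
    apply CartesianMonoidalCategory.hom_ext <;> simp
  let φ : M ⊗ Z ⟶ X := (M ◁ j) ≫ a.act
  have hφ : (i ▷ Z) ≫ φ = b.act ≫ j := by
    rw [hj']
    change (i ▷ Z) ≫ (M ◁ j) ≫ a.act = _
    rw [← Category.assoc, hex, Category.assoc]
  have hker : j.left.ker ≤ φ.left.ker := by
    have h1 : j.left.ker ≤ (b.act.left ≫ j.left).ker := Scheme.Hom.le_ker_comp _ _
    have h2 : (b.act.left ≫ j.left).ker = φ.left.ker := by
      have : b.act.left ≫ j.left = (i ▷ Z).left ≫ φ.left := by
        rw [← Over.comp_left, ← Over.comp_left, hφ]
      rw [this, Scheme.Hom.ker_comp, Scheme.Hom.ker_eq_bot (i ▷ Z).left,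
        Scheme.IdealSheafData.map_bot]
    rw [h2] at h1
    exact h1
  let cl : (M ⊗ Z).left ⟶ Z.left := IsClosedImmersion.lift j.left φ.left hker
  have hcl : cl ≫ j.left = φ.left := IsClosedImmersion.lift_fac _ _ _
  let cact : M ⊗ Z ⟶ Z := Over.homMk cl (by
    rw [← Over.w j, ← Category.assoc, hcl, Over.w])
  have hc : cact ≫ j = (M ◁ j) ≫ a.act := Over.OverMorphism.ext hcl
  have hcp : ∀ (T : Over (Spec (CommRingCat.of k))) (g : T ⟶ M) (x : T ⟶ Z),
      CartesianMonoidalCategory.lift g x ≫ cact ≫ j =
        CartesianMonoidalCategory.lift g (x ≫ j) ≫ a.act := by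
    intro T g x
    rw [hc, CartesianMonoidalCategory.lift_whiskerLeft_assoc]
  let c : Magnet.MonAct M Z := Magnet.MonAct.mk' cact
    (fun T x => by
      rw [← cancel_mono j, Category.assoc, hcp, a.lift_one_act])
    (fun T g h x => by
      rw [← cancel_mono j, Category.assoc, hcp, Category.assoc, hcp, Category.assoc, hcp,
        a.lift_mul_act])
  refine ⟨c, hc, ?_⟩
  apply Magnet.MonAct.ext'
  rw [Magnet.MonAct.restrict_act, Magnet.MonAct.ofAction_act]
  change (i ▷ Z) ≫ cact = b.act
  rw [← cancel_mono j, Category.assoc, hc, hj', ← Category.assoc, hex, Category.assoc]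

/-- Let k be a field, M a monoid k-scheme with an action a on a k-scheme X, G a group k-scheme and i : G
→ M a homomorphism of monoids which is a quasi-compact open immersion with scheme-theoretically
dense image. Let j : Z → X be a closed immersion and b an action of G on Z for which j is
equivariant, G acting on X through i and a (a closed G-stable subscheme). Then the G-action on Z
extends to an M-action making j equivariant: there is an action c of M on Z such that j is
equivariant for c and a and the restriction of c along i is b. (The published statement takes G to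
be the group of units of M, schematically dense in M; here it is assumed only that i is a
homomorphism of monoids and a quasi-compact, scheme-theoretically dominant open immersion.) -/
theorem result (k : Type u) [Field k]
    (M G X Z : Over (Spec (CommRingCat.of k))) [MonObj M] [GrpObj G]
    (i : G ⟶ M) [IsMonHom i] [IsOpenImmersion i.left] [QuasiCompact i.left]
    [IsSchemeTheoreticallyDominant i.left]
    (a : Magnet.MonAct M X) (b : AlgGrp.Action G Z) (j : Z ⟶ X) [IsClosedImmersion j.left]
    (hj : Magnet.MonAct.IsEquivariant (Magnet.MonAct.ofAction b) (a.restrict i) j) :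
    ∃ c : Magnet.MonAct M Z, Magnet.MonAct.IsEquivariant c a j ∧ c.restrict i = Magnet.MonAct.ofAction b := by
  exact core k M G X Z i a b j hj

end Groth.Agent.S18957
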