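import Groth.Statements.S18959
-- import your own Groth.Agent.* helpers here
import Groth.Agent.Lib.Helper29.BB8

set_option autoImplicit false
universe u
open CategoryTheory MonoidalCategory CartesianMonoidalCategory MonObj AlgebraicGeometry Opposite
open Magnet

namespace Groth.Agent.S18959

open Groth.Agent.Lib.Helper29.BB in
theorem aux (k : Type u) [Field k]
    (X Y : Over (Spec (CommRingCat.of k))) (a : Magnet.MonAct (Magnet.AMonS (Spec (CommRingCat.of k)) ℕ) X) (b : Magnet.MonAct (Magnet.AMonS (Spec (CommRingCat.of k)) ℕ) Y)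
    (hX : ∀ x : X.left, ∃ U : X.left.Opens, x ∈ U ∧ IsAffineOpen U ∧
      (CartesianMonoidalCategory.snd (Magnet.AMonS (Spec (CommRingCat.of k)) ℕ) X).left ⁻¹ᵁ U ≤ a.act.left ⁻¹ᵁ U)
    (hY : ∀ y : Y.left, ∃ U : Y.left.Opens, y ∈ U ∧ IsAffineOpen U ∧
      (CartesianMonoidalCategory.snd (Magnet.AMonS (Spec (CommRingCat.of k)) ℕ) Y).left ⁻¹ᵁ U ≤ b.act.left ⁻¹ᵁ U)
    (f : X ⟶ Y) (hf : Magnet.MonAct.IsEquivariant a b f)
    (h1 : IsIso (Magnet.MonAct.fixedPsh.map f hf))
    (h2 : IsPullback (Magnet.MonAct.fixedPsh.map f hf) (Magnet.MonAct.fixedPshι a)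
      (Magnet.MonAct.fixedPshι b) (yoneda.map f))
    (V : X.left.Opens) [Etale (V.ι ≫ f.left)]
    (h3 : ∀ (T : Over (Spec (CommRingCat.of k))) (x : (Magnet.MonAct.fixedPsh a).obj (op T)), x.1.left ⁻¹ᵁ V = ⊤) :
    IsIso f := by
  haveI : IsAffine (Spec (CommRingCat.of k)) := inferInstance
  have hbij : ∀ T : Over (Spec (CommRingCat.of k)),
      Function.Bijective ((Magnet.MonAct.fixedPsh.map f hf).app (op T)) := by
    intro T
    haveI : IsIso ((Magnet.MonAct.fixedPsh.map f hf).app (op T)) := inferInstance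
    exact (CategoryTheory.isIso_iff_bijective _).mp inferInstance
  have G1 : ∀ (T : Over (Spec (CommRingCat.of k))) (y : T ⟶ Y), IsFix b y →
      ∃ x : T ⟶ X, IsFix a x ∧ x ≫ f = y := by
    intro T y hy
    obtain ⟨x, hx⟩ := (hbij T).2 ⟨y, hy⟩
    exact ⟨x.1, x.2, congrArg Subtype.val hx⟩
  have G2 : ∀ (T : Over (Spec (CommRingCat.of k))) (x x' : T ⟶ X), IsFix a x → IsFix a x' →
      x ≫ f = x' ≫ f → x = x' := by
    intro T x x' hx hx' hxx
    have h4 := (hbij T).1 (a₁ := ⟨x, hx⟩) (a₂ := ⟨x', hx'⟩) (Subtype.ext hxx)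
    exact congrArg Subtype.val h4
  have G3 : ∀ (T : Over (Spec (CommRingCat.of k))) (x : T ⟶ X), IsFix b (x ≫ f) → IsFix a x := by
    intro T x hx
    have hpb := h2.app (op T)
    obtain ⟨x₁, -, hx₁'⟩ := Limits.Types.exists_of_isPullback hpb
      (⟨x ≫ f, hx⟩ : (Magnet.MonAct.fixedPsh b).obj (op T)) (x : (yoneda.obj X).obj (op T)) rfl
    have h5 : x₁.1 = x := hx₁'
    rw [← h5]
    exact x₁.2
  have G4 : ∀ (T : Over (Spec (CommRingCat.of k))) (x : T ⟶ X), IsFix a x →
      ∀ q : T.left, x.left q ∈ V := by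
    intro T x hx q
    have h6 := h3 T ⟨x, hx⟩
    have h7 : q ∈ x.left ⁻¹ᵁ V := by
      rw [h6]
      trivial
    exact h7
  haveI : Flat (V.ι ≫ f.left) := (Etale.iff_flat_and_formallyUnramified.mp inferInstance).1
  exact main a b f hf G1 G2 G3 V G4 hX hY

/-- Let k be a field and let M be the affine line A^1_k with its multiplication (the diagonalizable
monoid scheme of the additive monoid of natural numbers; the published statement covers any Kempf
monoid over k), acting on k-schemes X and Y through a and b so that X and Y are locally linear, i.e.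
every point has an affine open neighbourhood stable under the action. Let Y be locally Noetherian
and f : X → Y an equivariant k-morphism such that: (1) the induced map of fixed-point subfunctors
X^M → Y^M is an isomorphism; (2) the square formed by X^M → Y^M, the inclusions X^M → X, Y^M → Y of
functors of points and f is cartesian; (3) there is an open subset V of X on which f is étale and
through which every fixed T-valued point of X factors. Then f is an isomorphism. -/
theorem result (k : Type u) [Field k]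
    (X Y : Over (Spec (CommRingCat.of k))) (a : Magnet.MonAct (Magnet.AMonS (Spec (CommRingCat.of k)) ℕ) X) (b : Magnet.MonAct (Magnet.AMonS (Spec (CommRingCat.of k)) ℕ) Y)
    (hX : ∀ x : X.left, ∃ U : X.left.Opens, x ∈ U ∧ IsAffineOpen U ∧
      (CartesianMonoidalCategory.snd (Magnet.AMonS (Spec (CommRingCat.of k)) ℕ) X).left ⁻¹ᵁ U ≤ a.act.left ⁻¹ᵁ U)
    (hY : ∀ y : Y.left, ∃ U : Y.left.Opens, y ∈ U ∧ IsAffineOpen U ∧
      (CartesianMonoidalCategory.snd (Magnet.AMonS (Spec (CommRingCat.of k)) ℕ) Y).left ⁻¹ᵁ U ≤ b.act.left ⁻¹ᵁ U)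
    [IsLocallyNoetherian Y.left] (f : X ⟶ Y) (hf : Magnet.MonAct.IsEquivariant a b f)
    (h1 : IsIso (Magnet.MonAct.fixedPsh.map f hf))
    (h2 : IsPullback (Magnet.MonAct.fixedPsh.map f hf) (Magnet.MonAct.fixedPshι a)
      (Magnet.MonAct.fixedPshι b) (yoneda.map f))
    (V : X.left.Opens) [Etale (V.ι ≫ f.left)]
    (h3 : ∀ (T : Over (Spec (CommRingCat.of k))) (x : (Magnet.MonAct.fixedPsh a).obj (op T)), x.1.left ⁻¹ᵁ V = ⊤) :
    IsIso f := by
  exact aux k X Y a b hX hY f hf h1 h2 V h3

end Groth.Agent.S18959
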