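import Groth.Statements.S1896
import Mathlib
import Groth.Agent.Lib.Helper18.JacDim7
import Groth.Agent.Lib.Helper29.QCohAss2
import Groth.Agent.Lib.Helper9.FinLenSupp

set_option autoImplicit false
universe u
open CategoryTheory AlgebraicGeometry
open Cyc

namespace Groth.Agent.S1896

/-- For a short exact sequence 0 → F → G → H → 0 of coherent O_X-modules (X locally Noetherian with
dimension function δ) whose supports have δ-dimension at most k, one has [G]_k = [F]_k + [H]_k
coefficientwise. Here (X, δ) satisfies Cyc.IsSetup (X locally Noetherian with universally catenary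
local rings, δ a dimension function). -/
theorem result (X : Scheme.{u}) (δ : X → ℤ) (hX : Cyc.IsSetup X δ) (k : ℤ) (T : ShortComplex X.Modules) (hT : T.ShortExact) (h₁ : Coh.IsCoh T.X₁) (h₂ : Coh.IsCoh T.X₂) (h₃ : Coh.IsCoh T.X₃) (hdim : ∀ x : X, Nontrivial (T.X₂.presheaf.stalk x) → δ x ≤ k) : Cyc.sheafFun δ k T.X₂ = Cyc.sheafFun δ k T.X₁ + Cyc.sheafFun δ k T.X₃ := by
  classical
  obtain ⟨hnoeth, huc, hdimfun⟩ := hX
  haveI := hnoeth
  funext x
  simp only [Cyc.sheafFun, Pi.add_apply]
  by_cases hδ : δ x = k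
  · rw [if_pos hδ, if_pos hδ, if_pos hδ]
    haveI := hT.mono_f
    haveI := hT.epi_g
    have hinj : Function.Injective (Groth.Agent.Lib.Helper29.QCoh.stalkMapₗ T.f x) :=
      (Groth.Agent.Lib.Helper29.QCoh.mono_iff_stalkMap_injective T.f).mp inferInstance x
    have hsurj : Function.Surjective (Groth.Agent.Lib.Helper29.QCoh.stalkMapₗ T.g x) :=
      (Groth.Agent.Lib.Helper29.QCoh.epi_iff_stalkMap_surjective T.g).mp inferInstance x
    have hex : Function.Exact (Groth.Agent.Lib.Helper29.QCoh.stalkMapₗ T.f x)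
        (Groth.Agent.Lib.Helper29.QCoh.stalkMapₗ T.g x) :=
      (Groth.Agent.Lib.Helper29.QCoh.exact_iff_stalk_function_exact T).mp hT.exact x
    have hlen := Module.length_eq_add_of_exact (Groth.Agent.Lib.Helper29.QCoh.stalkMapₗ T.f x)
      (Groth.Agent.Lib.Helper29.QCoh.stalkMapₗ T.g x) hinj hsurj hex
    have hfin : Module.length (X.presheaf.stalk x) (T.X₂.presheaf.stalk x) ≠ ⊤ := by
      rw [Module.length_ne_top_iff]
      haveI : T.X₂.IsQuasicoherent := h₂.1
      haveI : T.X₂.IsFiniteType := h₂.2
      haveI := Groth.Agent.Lib.Helper17.ZClosDepth.module_finite_stalk T.X₂ x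
      apply Groth.Agent.Lib.Helper9.FinLenSupp.isFiniteLength_of_support_subset
      intro q hq
      have hmem := (Groth.Agent.Lib.Helper18.JacDim.fromSpecStalk_mem_support_iff T.X₂ x q).2 hq
      have htx : (X.fromSpecStalk x) q ⤳ x := by
        have : (X.fromSpecStalk x) q ∈ Set.range (X.fromSpecStalk x) := ⟨q, rfl⟩
        rwa [Scheme.range_fromSpecStalk] at this
      have hnt : Nontrivial (T.X₂.presheaf.stalk ((X.fromSpecStalk x) q)) :=
        not_subsingleton_iff_nontrivial.mp hmem
      have hle := hdim _ hnt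
      have heq : (X.fromSpecStalk x) q = x := by
        by_contra hne
        have := (hdimfun _ _ htx hne).1
        omega
      have hq' : q = IsLocalRing.closedPoint (X.presheaf.stalk x) := by
        apply (X.fromSpecStalk x).isEmbedding.injective
        rw [heq, Scheme.fromSpecStalk_closedPoint]
      rw [hq']
      rfl
    rw [hlen] at hfin ⊢
    have h1 : Module.length (X.presheaf.stalk x) (T.X₁.presheaf.stalk x) ≠ ⊤ :=
      ne_top_of_le_ne_top hfin le_self_add
    have h3 : Module.length (X.presheaf.stalk x) (T.X₃.presheaf.stalk x) ≠ ⊤ :=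
      ne_top_of_le_ne_top hfin le_add_self
    rw [ENat.toNat_add h1 h3]
    push_cast
    rfl
  · rw [if_neg hδ, if_neg hδ, if_neg hδ, add_zero]

end Groth.Agent.S1896
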