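import Groth.Statements.S18960
-- import your own Groth.Agent.* helpers here

set_option autoImplicit false
universe w' w v u
open CategoryTheory Limits
open CatLim

namespace Groth.Agent.S18960

section
variable {C : Type u} [Category.{v} C] (T : C ⥤ C)

/-- The property of having invertible structure map. -/
abbrev P : ObjectProperty (Endofunctor.Algebra T) := fun A => IsIso A.str

/-- The forgetful functor. -/
abbrev Φ : (P T).FullSubcategory ⥤ C := (P T).ι ⋙ Endofunctor.Algebra.forget T

variable {T} {J : Type w} [Category.{w'} J]
  (K : J ⥤ (P T).FullSubcategory) (c : Cocone (K ⋙ Φ T)) (t : IsColimit c)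

/-- underlying objects -/
def a (j : J) : C := (K.obj j).obj.a

/-- structure maps -/
def s (j : J) : T.obj (a K j) ⟶ a K j := (K.obj j).obj.str

instance (j : J) : IsIso (s K j) := (K.obj j).property

/-- inverse structure maps -/
noncomputable def sInv (j : J) : a K j ⟶ T.obj (a K j) := inv (s K j)

@[reassoc (attr := simp)]
lemma s_sInv (j : J) : s K j ≫ sInv K j = 𝟙 _ := IsIso.hom_inv_id _

@[reassoc (attr := simp)]
lemma sInv_s (j : J) : sInv K j ≫ s K j = 𝟙 _ := IsIso.inv_hom_id _

/-- transition maps -/
def km {j j' : J} (φ : j ⟶ j') : a K j ⟶ a K j' := (K.map φ).hom.f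

/-- cocone legs -/
def ιc (j : J) : a K j ⟶ c.pt := c.ι.app j

lemma K_w {j j' : J} (φ : j ⟶ j') :
    T.map (km K φ) ≫ s K j' = s K j ≫ km K φ :=
  (K.map φ).hom.h

lemma c_w {j j' : J} (φ : j ⟶ j') :
    km K φ ≫ ιc K c j' = ιc K c j := c.w φ

/-- cocone with the structure maps -/
def strCocone : Cocone (K ⋙ Φ T ⋙ T) where
  pt := c.pt
  ι :=
    { app j := s K j ≫ ιc K c j
      naturality := by
        intro j j' φ
        change T.map (km K φ) ≫ s K j' ≫ ιc K c j' = (s K j ≫ ιc K c j) ≫ 𝟙 _
        rw [Category.comp_id, ← c_w K c φ, reassoc_of% (K_w K φ)] }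

/-- cocone with the inverse structure maps -/
noncomputable def invCocone : Cocone (K ⋙ Φ T) where
  pt := T.obj c.pt
  ι :=
    { app j := sInv K j ≫ T.map (ιc K c j)
      naturality := by
        intro j j' φ
        change km K φ ≫ sInv K j' ≫ T.map (ιc K c j') =
          (sInv K j ≫ T.map (ιc K c j)) ≫ 𝟙 _
        rw [Category.comp_id, ← c_w K c φ, T.map_comp]
        have h : km K φ ≫ sInv K j' = sInv K j ≫ T.map (km K φ) := by
          rw [← cancel_epi (s K j), ← reassoc_of% (K_w K φ)]
          simp
        rw [reassoc_of% h] }

variable [PreservesColimitsOfShape J T]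

/-- the structure map of the colimit -/
noncomputable def str : T.obj c.pt ⟶ c.pt :=
  (isColimitOfPreserves T t).desc (strCocone K c)

/-- inverse -/
noncomputable def strInv : c.pt ⟶ T.obj c.pt := t.desc (invCocone K c)

lemma ι_str (j : J) : T.map (ιc K c j) ≫ str K c t = s K j ≫ ιc K c j :=
  (isColimitOfPreserves T t).fac (strCocone K c) j

omit [PreservesColimitsOfShape J T] in
lemma ι_strInv (j : J) : ιc K c j ≫ strInv K c t = sInv K j ≫ T.map (ιc K c j) :=
  t.fac (invCocone K c) j

lemma str_strInv : str K c t ≫ strInv K c t = 𝟙 _ := by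
  apply (isColimitOfPreserves T t).hom_ext
  intro j
  change T.map (ιc K c j) ≫ _ = T.map (ιc K c j) ≫ _
  rw [reassoc_of% (ι_str K c t j), ι_strInv, s_sInv_assoc, Category.comp_id]

lemma strInv_str : strInv K c t ≫ str K c t = 𝟙 _ := by
  apply t.hom_ext
  intro j
  change ιc K c j ≫ _ = ιc K c j ≫ _
  rw [reassoc_of% (ι_strInv K c t j), ι_str, sInv_s_assoc, Category.comp_id]

instance : IsIso (str K c t) := ⟨strInv K c t, str_strInv K c t, strInv_str K c t⟩

/-- the lifted object -/
noncomputable def liftObj : (P T).FullSubcategory :=
  ⟨⟨c.pt, str K c t⟩, by change IsIso (str K c t); infer_instance⟩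

/-- The lifted cocone. -/
noncomputable def liftedCocone : Cocone K where
  pt := liftObj K c t
  ι :=
    { app j := ObjectProperty.homMk { f := ιc K c j, h := ι_str K c t j }
      naturality := by
        intro j j' φ
        ext
        exact c.ι.naturality φ }

/-- legs of a competing cocone -/
def dι (d : Cocone K) (j : J) : a K j ⟶ d.pt.obj.a := (d.ι.app j).hom.f

omit [PreservesColimitsOfShape J T] in
lemma dι_h (d : Cocone K) (j : J) : T.map (dι K d j) ≫ d.pt.obj.str = s K j ≫ dι K d j :=
  (d.ι.app j).hom.h

/-- the descended map on underlying objects -/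
noncomputable def descF (d : Cocone K) : c.pt ⟶ d.pt.obj.a := t.desc ((Φ T).mapCocone d)

omit [PreservesColimitsOfShape J T] in
lemma ι_descF (d : Cocone K) (j : J) : ιc K c j ≫ descF K c t d = dι K d j :=
  t.fac ((Φ T).mapCocone d) j

lemma descF_h (d : Cocone K) :
    T.map (descF K c t d) ≫ d.pt.obj.str = str K c t ≫ descF K c t d := by
  apply (isColimitOfPreserves T t).hom_ext
  intro j
  change T.map (ιc K c j) ≫ _ = T.map (ιc K c j) ≫ _
  rw [reassoc_of% (ι_str K c t j), ι_descF, ← T.map_comp_assoc, ι_descF, dι_h]

/-- The lifted cocone is a colimit. -/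
noncomputable def isColimitLifted : IsColimit (liftedCocone K c t) where
  desc d := ObjectProperty.homMk { f := descF K c t d, h := descF_h K c t d }
  fac d j := by
    ext
    exact ι_descF K c t d j
  uniq d m hm := by
    ext
    apply t.hom_ext
    intro j
    change ιc K c j ≫ m.hom.f = ιc K c j ≫ descF K c t d
    rw [ι_descF]
    have := congrArg (fun x => x.hom.f) (hm j)
    exact this

/-- The lift data. -/
noncomputable def liftsToColimit : LiftsToColimit K (Φ T) c t where
  liftedCocone := liftedCocone K c t
  validLift := Cocone.ext (Iso.refl _) (fun j => by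
    change ιc K c j ≫ 𝟙 _ = c.ι.app j
    rw [Category.comp_id]; rfl)
  makesColimit := isColimitLifted K c t

end


/-- Let C be a category and T an endofunctor of C; let C(T) be the category whose objects are pairs (X,
u) with u : T X → X an isomorphism and whose morphisms (X, u) → (Y, w) are the morphisms X → Y
compatible with u and w — the full subcategory of T-algebras with invertible structure map — and let
π : C(T) → C be the forgetful functor. If T preserves colimits of shape J then π creates colimits of
shape J. (The source assumes T preserves all small colimits and concludes for all small shapes; the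
argument is shape by shape.) -/
theorem result {C : Type u} [Category.{v} C] (T : C ⥤ C)
    (J : Type w) [Category.{w'} J] [PreservesColimitsOfShape J T] :
    Nonempty (CreatesColimitsOfShape J
      ((ObjectProperty.ι (fun A : Endofunctor.Algebra T => IsIso A.str)) ⋙ Endofunctor.Algebra.forget T)) := by
  refine ⟨⟨fun {K} => ?_⟩⟩
  exact createsColimitOfReflectsIso (fun c t => liftsToColimit K c t)

end Groth.Agent.S18960
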