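import Groth.Statements.S18961
import Mathlib
-- import your own Groth.Agent.* helpers here

set_option autoImplicit false
universe u
open BBDec

namespace Groth.Agent.S18961

open DirectSum

section helpers

variable {A B : Type u} [CommRing A] [CommRing B] [Algebra A B]
  (𝒜 : ℕ → Submodule A B) [GradedAlgebra 𝒜]

/-- projections compose -/
theorem proj_proj (d e : ℕ) (x : B) :
    GradedAlgebra.proj 𝒜 d (GradedAlgebra.proj 𝒜 e x) =
      if d = e then GradedAlgebra.proj 𝒜 e x else 0 := by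
  have hmem : GradedAlgebra.proj 𝒜 e x ∈ 𝒜 e := by
    rw [GradedAlgebra.proj_apply]; exact SetLike.coe_mem _
  rw [GradedAlgebra.proj_apply 𝒜 d]
  split_ifs with h
  · subst h
    exact DirectSum.decompose_of_mem_same 𝒜 hmem
  · exact DirectSum.decompose_of_mem_ne 𝒜 hmem (Ne.symm h)

theorem sum_proj_eq (D : ℕ) (x : B) (h : ∀ d, D ≤ d → GradedAlgebra.proj 𝒜 d x = 0) :
    ∑ d ∈ Finset.range D, GradedAlgebra.proj 𝒜 d x = x := by
  classical
  conv_rhs => rw [← DirectSum.sum_support_decompose 𝒜 x]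
  symm
  apply Finset.sum_subset
  · intro d hd
    rw [Finset.mem_range]
    by_contra hlt
    rw [DFinsupp.mem_support_iff] at hd
    apply hd
    have := h d (not_lt.mp hlt)
    rw [GradedAlgebra.proj_apply] at this
    exact Subtype.ext this
  · intro d _ hd
    rw [DFinsupp.mem_support_iff, not_not] at hd
    rw [hd]
    rfl

theorem exists_bound (x : B) : ∃ D : ℕ, ∀ d, D ≤ d → GradedAlgebra.proj 𝒜 d x = 0 := by
  classical
  refine ⟨(DirectSum.decompose 𝒜 x).support.sup id + 1, fun d hd => ?_⟩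
  rw [GradedAlgebra.proj_apply]
  by_contra h
  have hmem : d ∈ (DirectSum.decompose 𝒜 x).support := by
    rw [DFinsupp.mem_support_iff]
    intro h'
    apply h
    rw [h']; rfl
  have := Finset.le_sup (f := id) hmem
  simp only [id] at this
  omega

variable {𝒜}

/-- A graded section of `I → I/I²`: lifts of a basis whose `A`-span is stable under the
graded projections. -/
theorem exists_graded_lifts (I : Ideal B) (hI : I.IsHomogeneous 𝒜)
    {r : ℕ} (n : Module.Basis (Fin r) A I.Cotangent) :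
    ∃ b : Fin r → B, ∃ hb : ∀ i, b i ∈ I, (∀ i, I.toCotangent ⟨b i, hb i⟩ = n i) ∧
      ∀ d i, GradedAlgebra.proj 𝒜 d (b i) ∈ Submodule.span A (Set.range b) := by
  classical
  have hI2 : (I ^ 2).IsHomogeneous 𝒜 := by rw [pow_two]; exact hI.mul hI
  have F1 : ∀ d (x : B), x ∈ I → GradedAlgebra.proj 𝒜 d x ∈ I := fun d x hx => by
    rw [GradedAlgebra.proj_apply]; exact hI d hx
  have F2 : ∀ d (x : B), x ∈ I ^ 2 → GradedAlgebra.proj 𝒜 d x ∈ I ^ 2 := fun d x hx => by
    rw [GradedAlgebra.proj_apply]; exact hI2 d hx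
  -- A-linear versions
  obtain ⟨πI, hπI⟩ : ∃ πI : ℕ → (↥I →ₗ[A] ↥I), ∀ d (x : ↥I),
      ((πI d x : ↥I) : B) = GradedAlgebra.proj 𝒜 d (x : B) := by
    refine ⟨fun d =>
      { toFun := fun x => ⟨GradedAlgebra.proj 𝒜 d (x : B), F1 d _ x.2⟩
        map_add' := fun x y => Subtype.ext (by simp)
        map_smul' := fun a x => Subtype.ext (by simp) }, fun d x => rfl⟩
  obtain ⟨qA, hqA⟩ : ∃ qA : ↥I →ₗ[A] I.Cotangent, ∀ x, qA x = I.toCotangent x :=
    ⟨I.toCotangent.restrictScalars A, fun x => rfl⟩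
  have hqA0 : ∀ x : ↥I, qA x = 0 ↔ (x : B) ∈ I ^ 2 := fun x => by
    rw [hqA]; exact Ideal.toCotangent_eq_zero I x
  have hqAsurj : Function.Surjective qA := fun m => by
    obtain ⟨x, hx⟩ := Ideal.toCotangent_surjective I m
    exact ⟨x, by rw [hqA, hx]⟩
  choose b0 hb0 using fun i => hqAsurj (n i)
  obtain ⟨s, hs⟩ : ∃ s : I.Cotangent →ₗ[A] ↥I, ∀ i, s (n i) = b0 i :=
    ⟨n.constr A b0, fun i => n.constr_basis A b0 i⟩
  have hqs : ∀ m, qA (s m) = m := by
    intro m
    have : qA ∘ₗ s = LinearMap.id := by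
      apply n.ext
      intro i
      rw [LinearMap.comp_apply, hs, hb0, LinearMap.id_apply]
    exact LinearMap.congr_fun this m
  -- πI preserves the kernel of qA
  have hπker : ∀ d (x : ↥I), qA x = 0 → qA (πI d x) = 0 := by
    intro d x hx
    rw [hqA0] at hx ⊢
    rw [hπI]
    exact F2 d _ hx
  have hπeq : ∀ d (x y : ↥I), qA x = qA y → qA (πI d x) = qA (πI d y) := by
    intro d x y hxy
    have h1 : qA (x - y) = 0 := by rw [map_sub, hxy, sub_self]
    have h2 := hπker d _ h1
    rw [map_sub, map_sub, sub_eq_zero] at h2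
    exact h2
  obtain ⟨p, hp⟩ : ∃ p : ℕ → (I.Cotangent →ₗ[A] I.Cotangent), ∀ d m, p d m = qA (πI d (s m)) :=
    ⟨fun d => qA ∘ₗ πI d ∘ₗ s, fun d m => rfl⟩
  have F3 : ∀ d (x : ↥I), p d (qA x) = qA (πI d x) := by
    intro d x
    rw [hp]
    apply hπeq
    rw [hqs]
  have P1 : ∀ d e (x : ↥I), πI d (πI e x) = if d = e then πI e x else 0 := by
    intro d e x
    apply Subtype.ext
    rw [hπI, hπI, proj_proj]
    split_ifs
    · rw [hπI]
    · rfl
  have P2 : ∀ d e m, p d (p e m) = if d = e then p e m else 0 := by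
    intro d e m
    rw [hp e m, F3, P1]
    split_ifs
    · rfl
    · rw [map_zero]
  -- bound
  have hD : ∃ D : ℕ, ∀ d, D ≤ d → ∀ i, πI d (b0 i) = 0 := by
    choose Di hDi using fun i => exists_bound 𝒜 ((b0 i : ↥I) : B)
    refine ⟨Finset.univ.sup Di, fun d hd i => ?_⟩
    apply Subtype.ext
    rw [hπI]
    exact hDi i d (le_trans (Finset.le_sup (f := Di) (Finset.mem_univ i)) hd)
  obtain ⟨D, hD⟩ := hD
  have hsrepr : ∀ m, s m = ∑ i, (n.repr m i) • b0 i := by
    intro m
    conv_lhs => rw [← n.sum_repr m]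
    rw [map_sum]
    refine Finset.sum_congr rfl fun i _ => ?_
    rw [map_smul, hs]
  have P3 : ∀ d, D ≤ d → ∀ m, πI d (s m) = 0 := by
    intro d hd m
    rw [hsrepr, map_sum]
    refine Finset.sum_eq_zero fun i _ => ?_
    rw [map_smul, hD d hd, smul_zero]
  have P4 : ∀ m, ∑ d ∈ Finset.range D, p d m = m := by
    intro m
    have h1 : ∑ d ∈ Finset.range D, πI d (s m) = s m := by
      apply Subtype.ext
      rw [AddSubmonoidClass.coe_finsetSum]
      simp_rw [hπI]
      apply sum_proj_eq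
      intro d hd
      rw [← hπI, P3 d hd]
      rfl
    simp_rw [hp]
    rw [← map_sum, h1, hqs]
  obtain ⟨σ, hσ⟩ : ∃ σ : I.Cotangent →ₗ[A] ↥I,
      ∀ m, σ m = ∑ d ∈ Finset.range D, πI d (s (p d m)) := by
    refine ⟨∑ d ∈ Finset.range D, πI d ∘ₗ s ∘ₗ p d, fun m => ?_⟩
    rw [LinearMap.sum_apply]
    rfl
  have hqσ : ∀ m, qA (σ m) = m := by
    intro m
    rw [hσ, map_sum]
    conv_rhs => rw [← P4 m]
    refine Finset.sum_congr rfl fun d _ => ?_
    rw [← hp, P2, if_pos rfl]
  have hπσ : ∀ e m, πI e (σ m) = σ (p e m) := by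
    intro e m
    rw [hσ, hσ, map_sum]
    refine Finset.sum_congr rfl fun d _ => ?_
    rw [P1, P2]
    by_cases hde : e = d
    · subst hde
      rw [if_pos rfl, if_pos rfl]
    · rw [if_neg hde, if_neg (Ne.symm hde), map_zero, map_zero]
  refine ⟨fun i => ((σ (n i) : ↥I) : B), fun i => (σ (n i)).2, fun i => ?_, fun d i => ?_⟩
  · rw [← hqA]
    exact hqσ (n i)
  · rw [← hπI, hπσ]
    have h1 : σ (p d (n i)) = ∑ j, (n.repr (p d (n i)) j) • σ (n j) := by
      conv_lhs => rw [← n.sum_repr (p d (n i))]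
      rw [map_sum]
      refine Finset.sum_congr rfl fun j _ => ?_
      rw [map_smul]
    rw [h1, AddSubmonoidClass.coe_finsetSum]
    refine Submodule.sum_mem _ fun j _ => ?_
    rw [Submodule.coe_smul_of_tower]
    exact Submodule.smul_mem _ _ (Submodule.subset_span ⟨j, rfl⟩)

theorem proj_mem_range {r : ℕ} (b : Fin r → B)
    (h0 : ∀ x : B, x ∈ 𝒜 0 → x ∈ Set.range (algebraMap A B))
    (hq : ∀ x ∈ (HomogeneousIdeal.irrelevant 𝒜).toIdeal, ∃ v ∈ Submodule.span A (Set.range b),
      x - v ∈ (HomogeneousIdeal.irrelevant 𝒜).toIdeal ^ 2)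
    (hst : ∀ d i, GradedAlgebra.proj 𝒜 d (b i) ∈ Submodule.span A (Set.range b)) :
    ∀ (d : ℕ) (x : B), GradedAlgebra.proj 𝒜 d x ∈ (MvPolynomial.aeval b :
      MvPolynomial (Fin r) A →ₐ[A] B).range := by
  classical
  intro d
  induction d using Nat.strong_induction_on with
  | _ d ih =>
    intro x
    rcases Nat.eq_zero_or_pos d with hd | hd
    · subst hd
      have h1 : GradedAlgebra.proj 𝒜 0 x ∈ 𝒜 0 := by
        rw [GradedAlgebra.proj_apply]; exact SetLike.coe_mem _
      obtain ⟨a, ha⟩ := h0 _ h1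
      rw [← ha]
      exact Subalgebra.algebraMap_mem _ a
    · obtain ⟨y, hy⟩ : ∃ y, y = GradedAlgebra.proj 𝒜 d x := ⟨_, rfl⟩
      rw [← hy]
      have hyI : y ∈ (HomogeneousIdeal.irrelevant 𝒜).toIdeal := by
        change y ∈ HomogeneousIdeal.irrelevant 𝒜
        rw [HomogeneousIdeal.mem_irrelevant_iff]
        change GradedAlgebra.proj 𝒜 0 y = 0
        rw [hy, proj_proj, if_neg (by omega)]
      obtain ⟨v, hv, hyv⟩ := hq y hyI
      have hyd : GradedAlgebra.proj 𝒜 d y = y := by
        rw [hy, proj_proj, if_pos rfl]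
      have hsplit : y = GradedAlgebra.proj 𝒜 d v + GradedAlgebra.proj 𝒜 d (y - v) := by
        rw [← map_add, add_sub_cancel, hyd]
      rw [hsplit]
      refine Subalgebra.add_mem _ ?_ ?_
      · -- π d v ∈ span ⊆ range
        have h1 : (Submodule.span A (Set.range b)).map (GradedAlgebra.proj 𝒜 d) ≤
            Submodule.span A (Set.range b) := by
          rw [Submodule.map_span, Submodule.span_le]
          rintro _ ⟨_, ⟨i, rfl⟩, rfl⟩
          exact hst d i
        have h2 : Submodule.span A (Set.range b) ≤ Subalgebra.toSubmodule (MvPolynomial.aeval b :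
            MvPolynomial (Fin r) A →ₐ[A] B).range := by
          rw [Submodule.span_le]
          rintro _ ⟨i, rfl⟩
          exact ⟨MvPolynomial.X i, MvPolynomial.aeval_X b i⟩
        exact h2 (h1 (Submodule.mem_map_of_mem hv))
      · -- π d of an element of I²
        have hI2 : ∀ c ∈ (HomogeneousIdeal.irrelevant 𝒜).toIdeal ^ 2,
            GradedAlgebra.proj 𝒜 d c ∈ (MvPolynomial.aeval b :
              MvPolynomial (Fin r) A →ₐ[A] B).range := by
          intro c hc
          rw [pow_two] at hc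
          induction hc using Submodule.mul_induction_on' with
          | mem_mul_mem x₁ hx₁ x₂ hx₂ =>
            rw [GradedAlgebra.proj_apply, DirectSum.decompose_mul, DirectSum.coe_mul_apply]
            refine Subalgebra.sum_mem _ fun ij hij => ?_
            rw [Finset.mem_filter, Finset.mem_product, DFinsupp.mem_support_iff,
              DFinsupp.mem_support_iff] at hij
            obtain ⟨⟨h1, h2⟩, h3⟩ := hij
            have hne : ∀ (z : B), z ∈ (HomogeneousIdeal.irrelevant 𝒜).toIdeal → ∀ i,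
                (DirectSum.decompose 𝒜 z) i ≠ 0 → i ≠ 0 := by
              intro z hz i hi h0'
              apply hi
              subst h0'
              change z ∈ HomogeneousIdeal.irrelevant 𝒜 at hz
              rw [HomogeneousIdeal.mem_irrelevant_iff, GradedRing.proj_apply] at hz
              exact Subtype.ext hz
            have hi1 := hne x₁ hx₁ _ h1
            have hi2 := hne x₂ hx₂ _ h2
            refine Subalgebra.mul_mem _ ?_ ?_
            · rw [← GradedAlgebra.proj_apply]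
              exact ih ij.1 (by omega) x₁
            · rw [← GradedAlgebra.proj_apply]
              exact ih ij.2 (by omega) x₂
          | add x₁ _ x₂ _ h1 h2 =>
            rw [map_add]
            exact Subalgebra.add_mem _ h1 h2
        exact hI2 _ hyv

theorem aeval_surjective {r : ℕ} (b : Fin r → B)
    (h0 : ∀ x : B, x ∈ 𝒜 0 → x ∈ Set.range (algebraMap A B))
    (hq : ∀ x ∈ (HomogeneousIdeal.irrelevant 𝒜).toIdeal, ∃ v ∈ Submodule.span A (Set.range b),
      x - v ∈ (HomogeneousIdeal.irrelevant 𝒜).toIdeal ^ 2)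
    (hst : ∀ d i, GradedAlgebra.proj 𝒜 d (b i) ∈ Submodule.span A (Set.range b)) :
    Function.Surjective (MvPolynomial.aeval b : MvPolynomial (Fin r) A →ₐ[A] B) := by
  classical
  intro x
  rw [← AlgHom.mem_range, ← DirectSum.sum_support_decompose 𝒜 x]
  refine Subalgebra.sum_mem _ fun d _ => ?_
  rw [← GradedAlgebra.proj_apply]
  exact proj_mem_range b h0 hq hst d x

omit [GradedAlgebra 𝒜] in
theorem map_mem_of_two_lifts {P T : Type u} [CommRing P] [CommRing T] [Algebra A P] [Algebra A T]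
    (c ψ : P →ₐ[A] T) (J Pp : Ideal P) (hK : (Ideal.map c J) ^ 2 = ⊥)
    (hψ : ∀ f ∈ J, ψ f = 0) (hdiff : ∀ f, c f - ψ f ∈ Ideal.map c J) :
    ∀ f ∈ Pp ^ 2, f ∈ J → c f ∈ Ideal.map c (Pp * J) := by
  have key : ∀ f ∈ Pp * Pp, c f - ψ f ∈ Ideal.map c (Pp * J) := by
    intro f hf
    induction hf using Submodule.mul_induction_on' with
    | mem_mul_mem x hx y hy =>
      have h1 : c (x * y) - ψ (x * y) = c x * (c y - ψ y) + c y * (c x - ψ x)
          - (c x - ψ x) * (c y - ψ y) := by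
        rw [map_mul, map_mul]; ring
      rw [h1]
      have h2 : (c x - ψ x) * (c y - ψ y) = 0 := by
        have : (c x - ψ x) * (c y - ψ y) ∈ (Ideal.map c J) ^ 2 := by
          rw [pow_two]; exact Ideal.mul_mem_mul (hdiff x) (hdiff y)
        rw [hK] at this
        exact this
      rw [h2, sub_zero, Ideal.map_mul]
      refine Ideal.add_mem _ ?_ ?_
      · exact Ideal.mul_mem_mul (Ideal.mem_map_of_mem c hx) (hdiff y)
      · exact Ideal.mul_mem_mul (Ideal.mem_map_of_mem c hy) (hdiff x)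
    | add x _ y _ h1 h2 =>
      have : c (x + y) - ψ (x + y) = (c x - ψ x) + (c y - ψ y) := by
        rw [map_add, map_add]; ring
      rw [this]
      exact Ideal.add_mem _ h1 h2
  intro f hf hfJ
  rw [pow_two] at hf
  have := key f hf
  rw [hψ f hfJ, sub_zero] at this
  exact this

omit [GradedAlgebra 𝒜] in
theorem local_claim {P : Type u} [CommRing P] [Algebra A P] (φ : P →ₐ[A] B)
    (hφ : Function.Surjective φ) (Pp : Ideal P) (Q : Ideal B) [Q.IsPrime]
    [Algebra.FormallySmooth A (Localization.AtPrime Q)] :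
    ∀ f ∈ RingHom.ker φ.toRingHom, f ∈ Pp ^ 2 →
      ∃ s : P, φ s ∉ Q ∧ s * f ∈ Pp * RingHom.ker φ.toRingHom + RingHom.ker φ.toRingHom ^ 2 := by
  obtain ⟨J, hJ⟩ : ∃ J, J = RingHom.ker φ.toRingHom := ⟨_, rfl⟩
  rw [← hJ]
  have hJmem : ∀ x, x ∈ J ↔ φ x = 0 := fun x => by rw [hJ]; exact RingHom.mem_ker
  -- the square-zero extension
  obtain ⟨mk₂, hmk₂⟩ : ∃ mk₂ : P →ₐ[A] P ⧸ J ^ 2, mk₂ = Ideal.Quotient.mkₐ A (J ^ 2) := ⟨_, rfl⟩
  have hmk₂surj : Function.Surjective mk₂ := by
    rw [hmk₂]; exact Ideal.Quotient.mkₐ_surjective A _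
  have hmk₂eq : ∀ x y, mk₂ x = mk₂ y ↔ x - y ∈ J ^ 2 := by
    intro x y; rw [hmk₂]; exact Ideal.Quotient.eq
  have hJ2 : ∀ a ∈ J ^ 2, φ a = 0 := by
    intro a ha
    have : J ^ 2 ≤ J := Ideal.pow_le_self two_ne_zero
    exact (hJmem a).mp (this ha)
  obtain ⟨θ, hθ⟩ : ∃ θ : (P ⧸ J ^ 2) →ₐ[A] B, ∀ x, θ (mk₂ x) = φ x := by
    refine ⟨Ideal.Quotient.liftₐ (J ^ 2) φ hJ2, fun x => ?_⟩
    rw [hmk₂]
    rfl
  have hθsurj : Function.Surjective θ := fun y => by
    obtain ⟨x, rfl⟩ := hφ y
    exact ⟨mk₂ x, hθ x⟩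
  have hkerθ : RingHom.ker θ.toRingHom = Ideal.map mk₂ J := by
    apply le_antisymm
    · intro x hx
      obtain ⟨p, rfl⟩ := hmk₂surj x
      rw [RingHom.mem_ker] at hx
      have : φ p = 0 := by rw [← hθ]; exact hx
      exact Ideal.mem_map_of_mem _ ((hJmem p).mpr this)
    · rw [Ideal.map_le_iff_le_comap]
      intro p hp
      rw [Ideal.mem_comap, RingHom.mem_ker]
      change θ (mk₂ p) = 0
      rw [hθ]
      exact (hJmem p).mp hp
  have hmapJ2 : (Ideal.map mk₂ J) ^ 2 = ⊥ := by
    rw [← Ideal.map_pow, Ideal.map_eq_bot_iff_le_ker]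
    intro x hx
    rw [RingHom.mem_ker]
    have : mk₂ x = mk₂ 0 := by rw [hmk₂eq, sub_zero]; exact hx
    rw [this, map_zero]
  -- localization
  obtain ⟨M₂, hM₂⟩ : ∃ M₂ : Submonoid (P ⧸ J ^ 2), M₂ = Submonoid.comap θ Q.primeCompl := ⟨_, rfl⟩
  have hM₂map : Submonoid.map θ M₂ = Q.primeCompl := by
    rw [hM₂]
    exact Submonoid.map_comap_eq_of_surjective hθsurj _
  have hM₂le : M₂ ≤ Submonoid.comap θ.toRingHom Q.primeCompl := by rw [hM₂]; exact le_rfl
  haveI : IsLocalization (Submonoid.map θ.toRingHom M₂) (Localization.AtPrime Q) := by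
    have : Submonoid.map θ.toRingHom M₂ = Q.primeCompl := hM₂map
    rw [this]; infer_instance
  obtain ⟨θQ, hθQ⟩ : ∃ θQ : Localization M₂ →ₐ[A] Localization.AtPrime Q,
      θQ.toRingHom = IsLocalization.map (Localization.AtPrime Q) θ.toRingHom hM₂le := by
    refine ⟨⟨IsLocalization.map (Localization.AtPrime Q) θ.toRingHom hM₂le, fun a => ?_⟩, rfl⟩
    simp only [RingHom.toMonoidHom_eq_coe, OneHom.toFun_eq_coe, MonoidHom.toOneHom_coe,
      MonoidHom.coe_coe]
    rw [IsScalarTower.algebraMap_apply A (P ⧸ J ^ 2) (Localization M₂), IsLocalization.map_eq,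
      IsScalarTower.algebraMap_apply A B (Localization.AtPrime Q)]
    congr 1
    exact θ.commutes a
  have hθQalg : ∀ x : P ⧸ J ^ 2, θQ (algebraMap _ (Localization M₂) x) =
      algebraMap B (Localization.AtPrime Q) (θ x) := by
    intro x
    change θQ.toRingHom _ = _
    rw [hθQ, IsLocalization.map_eq]
    rfl
  have hθQsurj : Function.Surjective θQ := by
    have := IsLocalization.map_surjective_of_surjective (M := M₂) (S := Localization M₂)
      (Q := Localization.AtPrime Q) (g := θ.toRingHom) hθsurj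
    intro y
    obtain ⟨x, hx⟩ := this y
    refine ⟨x, ?_⟩
    change θQ.toRingHom x = y
    rw [hθQ]
    exact hx
  have hkerθQ : RingHom.ker θQ.toRingHom =
      Ideal.map (algebraMap (P ⧸ J ^ 2) (Localization M₂)) (Ideal.map mk₂ J) := by
    rw [hθQ, ← hkerθ]
    exact IsLocalization.ker_map (S := Localization M₂) (Localization.AtPrime Q) θ.toRingHom hM₂map
  have hnil : IsNilpotent (RingHom.ker θQ.toRingHom) := by
    refine ⟨2, ?_⟩
    rw [hkerθQ, ← Ideal.map_pow, hmapJ2, Ideal.map_bot]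
    rfl
  -- the section
  obtain ⟨sec, hsec⟩ : ∃ sec : Localization.AtPrime Q →ₐ[A] Localization M₂,
      θQ.comp sec = AlgHom.id A _ :=
    ⟨Algebra.FormallySmooth.liftOfSurjective (AlgHom.id A _) θQ hθQsurj hnil,
      Algebra.FormallySmooth.comp_liftOfSurjective _ _ _ _⟩
  obtain ⟨c, hc⟩ : ∃ c : P →ₐ[A] Localization M₂,
      ∀ x, c x = algebraMap (P ⧸ J ^ 2) (Localization M₂) (mk₂ x) :=
    ⟨(IsScalarTower.toAlgHom A (P ⧸ J ^ 2) (Localization M₂)).comp mk₂, fun x => rfl⟩
  obtain ⟨ψ, hψ⟩ : ∃ ψ : P →ₐ[A] Localization M₂,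
      ∀ x, ψ x = sec (algebraMap B (Localization.AtPrime Q) (φ x)) :=
    ⟨sec.comp ((IsScalarTower.toAlgHom A B (Localization.AtPrime Q)).comp φ), fun x => rfl⟩
  have hmapc : ∀ I : Ideal P, Ideal.map c I =
      Ideal.map (algebraMap (P ⧸ J ^ 2) (Localization M₂)) (Ideal.map mk₂ I) := by
    intro I
    change Ideal.map c.toRingHom I =
      Ideal.map (algebraMap (P ⧸ J ^ 2) (Localization M₂)) (Ideal.map mk₂.toRingHom I)
    rw [Ideal.map_map]
    congr 1
    ext x
    exact hc x
  have hK : (Ideal.map c J) ^ 2 = ⊥ := by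
    rw [hmapc, ← Ideal.map_pow, hmapJ2, Ideal.map_bot]
  have hψJ : ∀ f ∈ J, ψ f = 0 := by
    intro f hf
    rw [hψ, (hJmem f).mp hf, map_zero, map_zero]
  have hdiff : ∀ f, c f - ψ f ∈ Ideal.map c J := by
    intro f
    rw [hmapc, ← hkerθQ, RingHom.mem_ker]
    change θQ (c f - ψ f) = 0
    rw [map_sub, hc, hθQalg, hθ, hψ]
    have : θQ (sec (algebraMap B (Localization.AtPrime Q) (φ f))) =
        algebraMap B (Localization.AtPrime Q) (φ f) := by
      have := AlgHom.congr_fun hsec (algebraMap B (Localization.AtPrime Q) (φ f))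
      exact this
    rw [this, sub_self]
  intro f hfJ hfP
  have hmain := map_mem_of_two_lifts c ψ J Pp hK hψJ hdiff f hfP hfJ
  rw [hmapc, IsLocalization.mem_map_algebraMap_iff M₂] at hmain
  obtain ⟨⟨⟨a, ha⟩, ⟨m, hm⟩⟩, hmain⟩ := hmain
  simp only at hmain
  rw [hc, ← map_mul, IsLocalization.eq_iff_exists M₂] at hmain
  obtain ⟨⟨m', hm'⟩, hmain⟩ := hmain
  simp only at hmain
  obtain ⟨s, hs⟩ := hmk₂surj (m' * m)
  refine ⟨s, ?_, ?_⟩
  · have h1 : m' * m ∈ M₂ := M₂.mul_mem hm' hm
    rw [hM₂, Submonoid.mem_comap, ← hs, hθ] at h1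
    exact h1
  · have h2 : mk₂ (s * f) ∈ Ideal.map mk₂ (Pp * J) := by
      rw [map_mul, hs]
      have : m' * m * mk₂ f = m' * a := by
        rw [← hmain]; ring
      rw [this]
      exact Ideal.mul_mem_left _ _ ha
    rw [Ideal.mem_map_iff_of_surjective mk₂ hmk₂surj] at h2
    obtain ⟨y, hy, hy2⟩ := h2
    rw [hmk₂eq] at hy2
    have : s * f = y - (y - s * f) := by ring
    rw [this]
    exact Ideal.sub_mem _ (Ideal.mem_sup_left hy) (Ideal.mem_sup_right hy2)

omit [GradedAlgebra 𝒜] in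
theorem ker_le_mul {P : Type u} [CommRing P] [Algebra A P] (φ : P →ₐ[A] B)
    (hφ : Function.Surjective φ) (Pp : Ideal P) (I : Ideal B)
    (hI : I ≤ Ideal.map φ Pp)
    (hsm : ∀ (Q : Ideal B) [Q.IsPrime], I ≤ Q → Algebra.FormallySmooth A (Localization.AtPrime Q))
    (hJ : RingHom.ker φ.toRingHom ≤ Pp ^ 2) :
    RingHom.ker φ.toRingHom ≤ Pp * RingHom.ker φ.toRingHom := by
  obtain ⟨J, hJdef⟩ : ∃ J, J = RingHom.ker φ.toRingHom := ⟨_, rfl⟩
  rw [← hJdef] at hJ ⊢
  have hJPp : J ≤ Pp := hJ.trans (Ideal.pow_le_self two_ne_zero)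
  have hJ2 : J ^ 2 ≤ Pp * J := by
    rw [pow_two]; exact Ideal.mul_mono_left hJPp
  intro f hf
  obtain ⟨N', hN'⟩ : ∃ N' : Ideal P, N' = Pp * J + J ^ 2 := ⟨_, rfl⟩
  have hN'le : N' ≤ Pp * J := by
    rw [hN']; exact sup_le le_rfl hJ2
  have hJc : J ≤ N'.colon {f} := by
    intro s hs
    rw [Submodule.mem_colon_singleton, hN', smul_eq_mul]
    refine Ideal.mem_sup_right ?_
    rw [pow_two]
    exact Ideal.mul_mem_mul hs hf
  have htop : N'.colon {f} ⊔ Pp = ⊤ := by
    by_contra hne
    obtain ⟨𝔪, h𝔪, hle⟩ := Ideal.exists_le_maximal _ hne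
    have hker : RingHom.ker φ.toRingHom ≤ 𝔪 := by
      rw [← hJdef]; exact hJc.trans (le_sup_left.trans hle)
    haveI : (Ideal.map φ 𝔪).IsPrime :=
      Ideal.map_isPrime_of_surjective (f := φ.toRingHom) hφ hker
    have hIQ : I ≤ Ideal.map φ 𝔪 := hI.trans (Ideal.map_mono (le_sup_right.trans hle))
    haveI := hsm (Ideal.map φ 𝔪) hIQ
    obtain ⟨s, hs1, hs2⟩ := local_claim φ hφ Pp (Ideal.map φ 𝔪) f (hJdef ▸ hf) (hJ hf)
    apply hs1
    apply Ideal.mem_map_of_mem
    apply hle
    apply Ideal.mem_sup_left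
    rw [Submodule.mem_colon_singleton, hN', smul_eq_mul, hJdef]
    exact hs2
  have h1 : (1 : P) ∈ N'.colon {f} ⊔ Pp := by rw [htop]; trivial
  rw [Submodule.mem_sup] at h1
  obtain ⟨s, hs, t, ht, hst⟩ := h1
  have : f = s * f + t * f := by rw [← add_mul, hst, one_mul]
  rw [this]
  refine Ideal.add_mem _ ?_ ?_
  · rw [Submodule.mem_colon_singleton, smul_eq_mul] at hs
    exact hN'le hs
  · exact Ideal.mul_mem_mul ht hf

omit [GradedAlgebra 𝒜] in
theorem ker_eq_bot_of_le_mul {r : ℕ} (J : Ideal (MvPolynomial (Fin r) A))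
    (h : J ≤ MvPolynomial.idealOfVars (Fin r) A * J) : J = ⊥ := by
  have hpow : ∀ n : ℕ, J ≤ MvPolynomial.idealOfVars (Fin r) A ^ n := by
    intro n
    induction n with
    | zero => rw [pow_zero, Ideal.one_eq_top]; exact le_top
    | succ n ih =>
      rw [pow_succ']
      exact h.trans (Ideal.mul_mono_right ih)
  rw [eq_bot_iff]
  intro f hf
  rw [Ideal.mem_bot]
  by_contra hne
  obtain ⟨x, hx⟩ := MvPolynomial.support_nonempty.mpr hne
  have := (MvPolynomial.mem_pow_idealOfVars_iff (Finsupp.degree x + 1) f).mp (hpow _ hf) x hx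
  omega

end helpers

/-- Let k be a field, A a finitely generated k-algebra and B a finitely generated A-algebra graded by
the natural numbers as an A-algebra, with degree-zero part equal to the image of A and A → B
injective; let B₊ be the irrelevant ideal. So Spec B → Spec A is the retraction of an affine scheme
with an action of the multiplicative monoid of the affine line onto its fixed-point scheme, with
zero section cut out by B₊; this is the affine-local graded form, for that monoid, of the published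
statement, which covers any Kempf monoid M with unit group G and a k-scheme X locally of finite
type, and concludes that the retraction X⁺ → X^G is an affine-space bundle near a fixed point at
whose section value it is smooth. Assume that A → B is smooth at every prime ideal containing B₊ and
that B₊/B₊² is a free A-module of finite rank. Then B is isomorphic, as an A-algebra, to the
polynomial ring over A in (rank of B₊/B₊²) variables. (The published statement also makes the
isomorphism equivariant for a suitable linear action when G is linearly reductive; only the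
existence of an A-algebra isomorphism is stated here. Freeness of the conormal module holds after
shrinking the base, which is how the published proof reaches this situation.) -/
theorem result (k : Type u) [Field k]
    (A B : Type u) [CommRing A] [CommRing B] [Algebra k A] [Algebra k B] [Algebra A B] [IsScalarTower k A B]
    [Algebra.FiniteType k A] [Algebra.FiniteType A B] (𝒜 : ℕ → Submodule A B) [GradedAlgebra 𝒜]
    (h0 : ∀ b : B, b ∈ 𝒜 0 ↔ b ∈ Set.range (algebraMap A B)) (hinj : Function.Injective (algebraMap A B))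
    (hsm : ∀ (P : Ideal B) [P.IsPrime], (HomogeneousIdeal.irrelevant 𝒜).toIdeal ≤ P → Algebra.IsSmoothAt A P)
    [Module.Free A (HomogeneousIdeal.irrelevant 𝒜).toIdeal.Cotangent]
    [Module.Finite A (HomogeneousIdeal.irrelevant 𝒜).toIdeal.Cotangent] :
    Nonempty (B ≃ₐ[A]
      MvPolynomial (Fin (Module.finrank A (HomogeneousIdeal.irrelevant 𝒜).toIdeal.Cotangent)) A) := by
  classical
  rcases subsingleton_or_nontrivial A with hA | hA
  · haveI : Subsingleton B := by
      refine ⟨fun x y => ?_⟩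
      have h1 : (1 : B) = 0 := by
        rw [← map_one (algebraMap A B), Subsingleton.elim (1 : A) 0, map_zero]
      rw [← mul_one x, ← mul_one y, h1, mul_zero, mul_zero]
    exact ⟨{ toFun := fun _ => 0
             invFun := fun _ => 0
             left_inv := fun _ => Subsingleton.elim _ _
             right_inv := fun _ => Subsingleton.elim _ _
             map_mul' := fun _ _ => Subsingleton.elim _ _
             map_add' := fun _ _ => Subsingleton.elim _ _
             commutes' := fun _ => Subsingleton.elim _ _ }⟩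
  obtain ⟨I, hIdef⟩ : ∃ I, I = (HomogeneousIdeal.irrelevant 𝒜).toIdeal := ⟨_, rfl⟩
  have hIhom : I.IsHomogeneous 𝒜 := hIdef ▸ (HomogeneousIdeal.irrelevant 𝒜).isHomogeneous
  have hIproj : ∀ y ∈ I, GradedAlgebra.proj 𝒜 0 y = 0 := by
    intro y hy
    rw [hIdef] at hy
    exact (HomogeneousIdeal.mem_irrelevant_iff 𝒜 y).mp hy
  obtain ⟨n, -⟩ : ∃ n : Module.Basis (Fin (Module.finrank A
      (HomogeneousIdeal.irrelevant 𝒜).toIdeal.Cotangent)) A
      (HomogeneousIdeal.irrelevant 𝒜).toIdeal.Cotangent, True := ⟨Module.finBasis A _, trivial⟩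
  obtain ⟨r, hr⟩ : ∃ r, r = Module.finrank A (HomogeneousIdeal.irrelevant 𝒜).toIdeal.Cotangent :=
    ⟨_, rfl⟩
  rw [← hr] at n ⊢
  revert n
  rw [← hIdef] at hsm ⊢
  intro n
  obtain ⟨b, hb, hbn, hst⟩ := exists_graded_lifts I hIhom n
  have hcomb : ∀ a : Fin r → A,
      I.toCotangent (∑ i, a i • (⟨b i, hb i⟩ : ↥I)) = ∑ i, a i • n i := by
    intro a
    rw [map_sum]
    refine Finset.sum_congr rfl fun i _ => ?_
    rw [LinearMap.CompatibleSMul.map_smul, hbn]
  have hcoe : ∀ a : Fin r → A,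
      ((∑ i, a i • (⟨b i, hb i⟩ : ↥I) : ↥I) : B) = ∑ i, a i • b i := by
    intro a
    rw [AddSubmonoidClass.coe_finsetSum]
    refine Finset.sum_congr rfl fun i _ => ?_
    rfl
  have hq : ∀ x ∈ I, ∃ v ∈ Submodule.span A (Set.range b), x - v ∈ I ^ 2 := by
    intro x hx
    obtain ⟨m, hm⟩ : ∃ m, m = I.toCotangent ⟨x, hx⟩ := ⟨_, rfl⟩
    refine ⟨∑ i, (n.repr m i) • b i, ?_, ?_⟩
    · exact Submodule.sum_mem _ fun i _ =>
        Submodule.smul_mem _ _ (Submodule.subset_span ⟨i, rfl⟩)
    · have h1 : I.toCotangent (⟨x, hx⟩ - ∑ i, (n.repr m i) • (⟨b i, hb i⟩ : ↥I)) = 0 := by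
        rw [map_sub, hcomb, n.sum_repr, hm, sub_self]
      rw [Ideal.toCotangent_eq_zero] at h1
      rw [← hcoe]
      exact h1
  obtain ⟨φ, hφdef⟩ : ∃ φ : MvPolynomial (Fin r) A →ₐ[A] B, φ = MvPolynomial.aeval b := ⟨_, rfl⟩
  have hsurj : Function.Surjective φ := by
    rw [hφdef]
    refine aeval_surjective b (fun x hx => (h0 x).mp hx) ?_ hst
    rw [← hIdef]; exact hq
  obtain ⟨Pp, hPp⟩ : ∃ Pp, Pp = MvPolynomial.idealOfVars (Fin r) A := ⟨_, rfl⟩
  -- (i)
  have hi : Ideal.map φ Pp ≤ I := by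
    rw [hPp, Ideal.map_span, Ideal.span_le]
    rintro _ ⟨_, ⟨i, rfl⟩, rfl⟩
    rw [hφdef]
    change MvPolynomial.aeval b (MvPolynomial.X i) ∈ I
    rw [MvPolynomial.aeval_X]
    exact hb i
  have hC : ∀ f : MvPolynomial (Fin r) A,
      f - MvPolynomial.C (MvPolynomial.constantCoeff f) ∈ Pp := by
    intro f
    have := (MvPolynomial.mem_pow_idealOfVars_iff' 1
      (f - MvPolynomial.C (MvPolynomial.constantCoeff f))).mpr (fun x hx => by
        have hx0 : x = 0 := by
          rw [← Finsupp.degree_eq_zero_iff]; omega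
        rw [hx0, MvPolynomial.coeff_sub, MvPolynomial.coeff_C, if_pos rfl,
          MvPolynomial.constantCoeff_eq, sub_self])
    rw [pow_one] at this
    rw [hPp]; exact this
  have hcc : ∀ f, φ f ∈ I → MvPolynomial.constantCoeff f = 0 := by
    intro f hf
    have h1 : φ (f - MvPolynomial.C (MvPolynomial.constantCoeff f)) ∈ I :=
      hi (Ideal.mem_map_of_mem _ (hC f))
    have h2 : φ f = φ (f - MvPolynomial.C (MvPolynomial.constantCoeff f)) +
        algebraMap A B (MvPolynomial.constantCoeff f) := by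
      rw [map_sub, hφdef, MvPolynomial.aeval_C]; ring
    have h3 := congrArg (GradedAlgebra.proj 𝒜 0) h2
    rw [map_add, hIproj _ hf, hIproj _ h1, zero_add] at h3
    have h4 : algebraMap A B (MvPolynomial.constantCoeff f) ∈ 𝒜 0 := (h0 _).mpr ⟨_, rfl⟩
    rw [GradedAlgebra.proj_apply, DirectSum.decompose_of_mem_same 𝒜 h4] at h3
    apply hinj
    rw [← h3, map_zero]
  have hmemPp : ∀ f, φ f ∈ I → f ∈ Pp := by
    intro f hf
    have := hC f
    rw [hcc f hf, map_zero, sub_zero] at this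
    exact this
  -- (ii)
  have hii : I ≤ Ideal.map φ Pp := by
    intro y hy
    obtain ⟨f, rfl⟩ := hsurj y
    exact Ideal.mem_map_of_mem _ (hmemPp f hy)
  -- (iii)
  have hiii : RingHom.ker φ.toRingHom ≤ Pp ^ 2 := by
    intro f hf
    rw [RingHom.mem_ker] at hf
    have hf' : φ f = 0 := hf
    have hfPp : f ∈ Pp := hmemPp f (by rw [hf']; exact I.zero_mem)
    rw [hPp, MvPolynomial.idealOfVars, Ideal.mem_span_range_iff_exists_fun] at hfPp
    obtain ⟨g, hg⟩ := hfPp
    obtain ⟨a, ha⟩ : ∃ a : Fin r → A, a = fun i => MvPolynomial.constantCoeff (g i) := ⟨_, rfl⟩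
    obtain ⟨sec, hsec⟩ : ∃ sec, sec = ∑ i, (g i - MvPolynomial.C (a i)) * MvPolynomial.X i :=
      ⟨_, rfl⟩
    have hsecmem : sec ∈ Pp ^ 2 := by
      rw [hsec, pow_two]
      refine Ideal.sum_mem _ fun i _ => Ideal.mul_mem_mul ?_ ?_
      · rw [ha]; exact hC (g i)
      · rw [hPp]; exact Ideal.subset_span ⟨i, rfl⟩
    have hfsplit : f = ∑ i, MvPolynomial.C (a i) * MvPolynomial.X i + sec := by
      rw [hsec, ← Finset.sum_add_distrib, ← hg]
      refine Finset.sum_congr rfl fun i _ => ?_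
      ring
    have hφsec : φ sec ∈ I ^ 2 := by
      have h1 : Ideal.map φ (Pp ^ 2) ≤ I ^ 2 := by
        rw [Ideal.map_pow]; exact Ideal.pow_right_mono hi 2
      exact h1 (Ideal.mem_map_of_mem _ hsecmem)
    have hlin : ∑ i, a i • b i = - φ sec := by
      have h1 := congrArg φ hfsplit
      rw [hf', map_add, map_sum] at h1
      have h2 : ∀ i, φ (MvPolynomial.C (a i) * MvPolynomial.X i) = a i • b i := by
        intro i
        rw [map_mul, hφdef, MvPolynomial.aeval_C, MvPolynomial.aeval_X, Algebra.smul_def]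
      simp_rw [h2] at h1
      rw [eq_neg_iff_add_eq_zero, ← h1]
    have hzero : ∑ i, a i • n i = 0 := by
      rw [← hcomb, Ideal.toCotangent_eq_zero, hcoe, hlin]
      exact Ideal.neg_mem_iff _ |>.mpr hφsec
    have ha0 : ∀ i, a i = 0 := Fintype.linearIndependent_iff.mp n.linearIndependent a hzero
    have : f = sec := by
      rw [hfsplit]
      simp [ha0]
    rw [this]
    exact hsecmem
  have hsm' : ∀ (Q : Ideal B) [Q.IsPrime], I ≤ Q →
      Algebra.FormallySmooth A (Localization.AtPrime Q) := fun Q _ hQ => hsm Q hQ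
  have hkermul := ker_le_mul φ hsurj Pp I hii hsm' hiii
  rw [hPp] at hkermul
  have hker := ker_eq_bot_of_le_mul _ hkermul
  have hinjφ : Function.Injective φ := by
    rw [injective_iff_map_eq_zero]
    intro x hx
    have : x ∈ RingHom.ker φ.toRingHom := hx
    rw [hker] at this
    exact this
  exact ⟨(AlgEquiv.ofBijective φ ⟨hinjφ, hsurj⟩).symm⟩

end Groth.Agent.S18961
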