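import Groth.Statements.S18962
import Mathlib


set_option autoImplicit false
universe u
open BBDec

namespace Groth.Agent.S18962

open TensorProduct KaehlerDifferential

section sec

variable {A B : Type u} [CommRing A] [CommRing B] [Algebra A B] (σ : B →ₐ[A] A)

lemma sub_mem_ker (x : B) : x - algebraMap A B (σ x) ∈ RingHom.ker σ := by
  rw [RingHom.mem_ker, map_sub, AlgHom.commutes]
  simp

/-- class of `x - σ x` in the conormal module, as an `A`-linear map. -/
noncomputable def δ : B →ₗ[A] (RingHom.ker σ).Cotangent where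
  toFun x := (RingHom.ker σ).toCotangent ⟨x - algebraMap A B (σ x), sub_mem_ker σ x⟩
  map_add' x y := by
    rw [← map_add]
    congr 1
    apply Subtype.ext
    simp only [map_add, Submodule.coe_add]
    ring
  map_smul' a x := by
    rw [RingHom.id_apply, ← LinearMap.map_smul_of_tower]
    congr 1
    apply Subtype.ext
    change a • x - algebraMap A B (σ (a • x)) = a • (x - algebraMap A B (σ x))
    rw [map_smul, smul_eq_mul, map_mul, smul_sub, Algebra.smul_def a (algebraMap A B (σ x))]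

lemma δ_apply (x : B) :
    δ σ x = (RingHom.ker σ).toCotangent ⟨x - algebraMap A B (σ x), sub_mem_ker σ x⟩ := rfl

lemma δ_of_mem (x : B) (hx : x ∈ RingHom.ker σ) : δ σ x = (RingHom.ker σ).toCotangent ⟨x, hx⟩ := by
  rw [δ_apply]
  congr 1
  apply Subtype.ext
  have : σ x = 0 := hx
  simp [this]

lemma smul_cot (x : B) (z : (RingHom.ker σ).Cotangent) : x • z = σ x • z := by
  have h := Ideal.Cotangent.smul_eq_zero_of_mem (sub_mem_ker σ x) z
  rw [sub_smul, sub_eq_zero, algebraMap_smul] at h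
  exact h

lemma δ_mul (x y : B) : δ σ (x * y) = σ x • δ σ y + σ y • δ σ x := by
  rw [← smul_cot σ x, δ_apply, δ_apply, δ_apply, ← algebraMap_smul B (σ y), ← map_smul, ← map_smul,
    ← map_add]
  congr 1
  apply Subtype.ext
  simp only [map_mul, Submodule.coe_add, Submodule.coe_smul, smul_eq_mul]
  ring

end sec

section main

variable (A B₁ B₂ : Type u)
    [CommRing A] [CommRing B₁] [CommRing B₂] [Algebra A B₁] [Algebra A B₂] [Algebra B₂ B₁]
    [IsScalarTower A B₂ B₁]
    (σ₁ : B₁ →ₐ[A] A) (σ₂ : B₂ →ₐ[A] A) (hσ : σ₁.comp (IsScalarTower.toAlgHom A B₂ B₁) = σ₂)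
    (hle : RingHom.ker σ₂ ≤ (RingHom.ker σ₁).comap (IsScalarTower.toAlgHom A B₂ B₁))

include hσ in
lemma δ_nat (y : B₂) :
    δ σ₁ (algebraMap B₂ B₁ y) =
      Ideal.mapCotangent (RingHom.ker σ₂) (RingHom.ker σ₁) (IsScalarTower.toAlgHom A B₂ B₁) hle
        (δ σ₂ y) := by
  rw [δ_apply, δ_apply, Ideal.mapCotangent_toCotangent]
  congr 1
  apply Subtype.ext
  have : σ₁ (algebraMap B₂ B₁ y) = σ₂ y := AlgHom.congr_fun hσ y
  simp only [map_sub, this, IsScalarTower.coe_toAlgHom', AlgHom.commutes]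

variable {A B₁ B₂ σ₁ σ₂}

/-- Step 1: `Ω[B₁/B₂] = b₁ Ω[B₁/B₂]`. -/
lemma kaehler_le (hsurj : Function.Surjective
      (Ideal.mapCotangent (RingHom.ker σ₂) (RingHom.ker σ₁) (IsScalarTower.toAlgHom A B₂ B₁) hle)) :
    (⊤ : Submodule B₁ Ω[B₁⁄B₂]) ≤ (RingHom.ker σ₁ : Ideal B₁) • ⊤ := by
  intro ω _
  have hω : ω ∈ Submodule.span B₁ (Set.range (D B₂ B₁)) := by
    rw [KaehlerDifferential.span_range_derivation]
    trivial
  refine Submodule.span_le.mpr ?_ hω
  rintro _ ⟨x, rfl⟩
  -- elements of `b₁²`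
  have h2 : ∀ w ∈ (RingHom.ker σ₁ : Ideal B₁) ^ 2,
      D B₂ B₁ w ∈ (RingHom.ker σ₁ : Ideal B₁) • (⊤ : Submodule B₁ Ω[B₁⁄B₂]) := by
    intro w hw
    rw [pow_two] at hw
    refine Submodule.mul_induction_on hw ?_ ?_
    · intro u hu v hv
      rw [Derivation.leibniz]
      exact add_mem (Submodule.smul_mem_smul hu trivial) (Submodule.smul_mem_smul hv trivial)
    · intro u v hu hv
      rw [map_add]
      exact add_mem hu hv
  -- elements of `b₁`
  have h1 : ∀ z ∈ (RingHom.ker σ₁ : Ideal B₁),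
      D B₂ B₁ z ∈ (RingHom.ker σ₁ : Ideal B₁) • (⊤ : Submodule B₁ Ω[B₁⁄B₂]) := by
    intro z hz
    obtain ⟨y', hy'⟩ := hsurj ((RingHom.ker σ₁).toCotangent ⟨z, hz⟩)
    obtain ⟨y, rfl⟩ := Ideal.toCotangent_surjective _ y'
    rw [Ideal.mapCotangent_toCotangent, Ideal.toCotangent_eq] at hy'
    have := h2 _ hy'
    simp only [IsScalarTower.coe_toAlgHom', map_sub, Derivation.map_algebraMap, zero_sub] at this
    simpa using this
  have hx : x = algebraMap B₂ B₁ (algebraMap A B₂ (σ₁ x)) + (x - algebraMap A B₁ (σ₁ x)) := by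
    rw [← IsScalarTower.algebraMap_apply]
    ring
  rw [SetLike.mem_coe, hx, map_add, Derivation.map_algebraMap, zero_add]
  exact h1 _ (sub_mem_ker σ₁ x)

end main

section tlevel

variable {A B₁ B₂ : Type u}
    [CommRing A] [CommRing B₁] [CommRing B₂] [Algebra A B₁] [Algebra A B₂] [Algebra B₂ B₁]
    [IsScalarTower A B₂ B₁]
    (σ₁ : B₁ →ₐ[A] A) (σ₂ : B₂ →ₐ[A] A) (hσ : σ₁.comp (IsScalarTower.toAlgHom A B₂ B₁) = σ₂)
    (hle : RingHom.ker σ₂ ≤ (RingHom.ker σ₁).comap (IsScalarTower.toAlgHom A B₂ B₁))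
    (P : Ideal B₁) [P.IsPrime]

/-- `T ⊗ Ω[B₂/A]` -/
abbrev MT : Type u := (Localization.AtPrime P) ⊗[B₂] Ω[B₂⁄A]

/-- the image of `b₁` in `T` -/
abbrev bT : Ideal (Localization.AtPrime P) :=
  Ideal.map (algebraMap B₁ (Localization.AtPrime P)) (RingHom.ker σ₁)

/-- `b₁ M_T` -/
noncomputable abbrev NT : Submodule (Localization.AtPrime P) (MT (A := A) (B₂ := B₂) P) := bT σ₁ P • ⊤

/-- the quotient -/
abbrev QT : Type u := MT (A := A) (B₂ := B₂) P ⧸ NT (A := A) (B₂ := B₂) σ₁ P

/-- `y ↦ [1 ⊗ dy]` -/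
noncomputable def gA : B₂ →ₗ[A] QT (A := A) (B₂ := B₂) σ₁ P :=
  ((NT (A := A) (B₂ := B₂) σ₁ P).mkQ.restrictScalars A) ∘ₗ
    ((TensorProduct.mk B₂ (Localization.AtPrime P) Ω[B₂⁄A] 1).restrictScalars A) ∘ₗ
      (D A B₂).toLinearMap

lemma gA_apply (y : B₂) :
    gA σ₁ P y = Submodule.Quotient.mk ((1 : Localization.AtPrime P) ⊗ₜ[B₂] D A B₂ y) := rfl

include hle in
lemma gA_mul (a b : B₂) (ha : a ∈ RingHom.ker σ₂) (hb : b ∈ RingHom.ker σ₂) :
    gA (A := A) (B₂ := B₂) σ₁ P (a * b) = 0 := by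
  rw [gA_apply, Submodule.Quotient.mk_eq_zero, Derivation.leibniz, TensorProduct.tmul_add]
  have key : ∀ (u : B₂) (ω : Ω[B₂⁄A]), u ∈ RingHom.ker σ₂ →
      (1 : Localization.AtPrime P) ⊗ₜ[B₂] (u • ω) ∈ NT (A := A) (B₂ := B₂) σ₁ P := by
    intro u ω hu
    have : (1 : Localization.AtPrime P) ⊗ₜ[B₂] (u • ω) =
        (algebraMap B₁ (Localization.AtPrime P) (algebraMap B₂ B₁ u)) •
          ((1 : Localization.AtPrime P) ⊗ₜ[B₂] ω) := by
      rw [TensorProduct.tmul_smul, ← IsScalarTower.algebraMap_apply, TensorProduct.smul_tmul',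
        TensorProduct.smul_tmul', Algebra.smul_def, smul_eq_mul]
    rw [this]
    exact Submodule.smul_mem_smul (Ideal.mem_map_of_mem _ (hle hu)) trivial
  exact add_mem (key a _ ha) (key b _ hb)

/-- `[y] ↦ [1 ⊗ dy]` on the conormal module of `σ₂`. -/
noncomputable def E' : (RingHom.ker σ₂).Cotangent →ₗ[A] QT (A := A) (B₂ := B₂) σ₁ P := by
  refine Submodule.liftQ (((RingHom.ker σ₂ : Ideal B₂) • ⊤ :
    Submodule B₂ (RingHom.ker σ₂ : Ideal B₂)).restrictScalars A)
    ((gA σ₁ P) ∘ₗ ((Submodule.subtype (RingHom.ker σ₂ : Ideal B₂)).restrictScalars A)) ?_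
  intro w hw
  rw [Submodule.restrictScalars_mem] at hw
  rw [LinearMap.mem_ker]
  refine Submodule.smul_induction_on hw ?_ ?_
  · intro a ha b _
    exact gA_mul σ₁ σ₂ hle P a b ha b.2
  · intro u v hu hv
    rw [map_add, hu, hv, add_zero]

lemma E'_toCotangent (y : RingHom.ker σ₂) :
    E' σ₁ σ₂ hle P ((RingHom.ker σ₂).toCotangent y) = gA (A := A) (B₂ := B₂) σ₁ P (y : B₂) := rfl

lemma isUnit_end {R T M : Type*} [CommRing R] [CommRing T] [Algebra R T] [AddCommGroup M]
    [Module R M] [Module T M] [IsScalarTower R T M] (s : R) (hs : IsUnit (algebraMap R T s)) :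
    IsUnit (algebraMap R (Module.End R M) s) := by
  rw [Module.End.isUnit_iff]
  obtain ⟨u, hu⟩ := hs
  have h : ∀ m : M, algebraMap R (Module.End R M) s m = (u : T) • m := by
    intro m
    rw [hu, algebraMap_smul]
    rfl
  constructor
  · intro m m' hm
    rw [h, h] at hm
    have := congrArg (fun z => ((u⁻¹ : Tˣ) : T) • z) hm
    simpa [smul_smul] using this
  · intro m
    refine ⟨((u⁻¹ : Tˣ) : T) • m, ?_⟩
    rw [h, smul_smul]
    simp

lemma smul_QT (x : B₁) (q : QT (A := A) (B₂ := B₂) σ₁ P) : x • q = σ₁ x • q := by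
  obtain ⟨m, rfl⟩ := Submodule.Quotient.mk_surjective _ q
  rw [← Submodule.Quotient.mk_smul, ← Submodule.Quotient.mk_smul, ← sub_eq_zero,
    ← Submodule.Quotient.mk_sub, Submodule.Quotient.mk_eq_zero]
  have : x • m - σ₁ x • m =
      (algebraMap B₁ (Localization.AtPrime P) (x - algebraMap A B₁ (σ₁ x))) • m := by
    rw [algebraMap_smul, sub_smul, algebraMap_smul]
  rw [this]
  exact Submodule.smul_mem_smul (Ideal.mem_map_of_mem _ (sub_mem_ker σ₁ x)) trivial

variable (hcot : Function.Bijective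
      (Ideal.mapCotangent (RingHom.ker σ₂) (RingHom.ker σ₁) (IsScalarTower.toAlgHom A B₂ B₁) hle))

/-- the derivation `B₁ → M_T / b₁ M_T`. -/
noncomputable def D' : Derivation A B₁ (QT (A := A) (B₂ := B₂) σ₁ P) :=
  Derivation.mk' ((E' σ₁ σ₂ hle P) ∘ₗ (LinearEquiv.ofBijective _ hcot).symm.toLinearMap ∘ₗ δ σ₁)
    (by
      intro x y
      simp only [LinearMap.comp_apply, LinearEquiv.coe_coe]
      rw [δ_mul, map_add, map_add, map_smul, map_smul, map_smul, map_smul, smul_QT, smul_QT])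

include hσ in
lemma D'_algebraMap (y : B₂) :
    D' σ₁ σ₂ hle P hcot (algebraMap B₂ B₁ y) =
      Submodule.Quotient.mk ((1 : Localization.AtPrime P) ⊗ₜ[B₂] D A B₂ y) := by
  change E' σ₁ σ₂ hle P ((LinearEquiv.ofBijective _ hcot).symm (δ σ₁ (algebraMap B₂ B₁ y))) = _
  rw [δ_nat A B₁ B₂ σ₁ σ₂ hσ hle y]
  have : (LinearEquiv.ofBijective _ hcot).symm
      (Ideal.mapCotangent (RingHom.ker σ₂) (RingHom.ker σ₁) (IsScalarTower.toAlgHom A B₂ B₁) hle
        (δ σ₂ y)) = δ σ₂ y :=
    (LinearEquiv.ofBijective _ hcot).symm_apply_apply _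
  rw [this, δ_apply, E'_toCotangent, gA_apply]
  simp

/-- the retraction modulo `b₁`. -/
noncomputable def ρT : Ω[Localization.AtPrime P⁄A] →ₗ[Localization.AtPrime P]
    QT (A := A) (B₂ := B₂) σ₁ P :=
  (IsLocalizedModule.lift P.primeCompl (KaehlerDifferential.map A A B₁ (Localization.AtPrime P))
    (D' σ₁ σ₂ hle P hcot).liftKaehlerDifferential
    (fun s => isUnit_end (T := Localization.AtPrime P) (s : B₁)
      (IsLocalization.map_units _ s))).extendScalarsOfIsLocalization P.primeCompl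
        (Localization.AtPrime P)

include hσ in
lemma ρT_comp (m : MT (A := A) (B₂ := B₂) P) :
    ρT σ₁ σ₂ hle P hcot (KaehlerDifferential.mapBaseChange A B₂ (Localization.AtPrime P) m) =
      Submodule.Quotient.mk m := by
  induction m using TensorProduct.induction_on with
  | zero => simp
  | add a b ha hb => rw [map_add, map_add, ha, hb, Submodule.Quotient.mk_add]
  | tmul t ω =>
    have hω : ω ∈ Submodule.span B₂ (Set.range (D A B₂)) := by
      rw [KaehlerDifferential.span_range_derivation]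
      trivial
    induction hω using Submodule.span_induction generalizing t with
    | mem ω h =>
      obtain ⟨y, rfl⟩ := h
      rw [KaehlerDifferential.mapBaseChange_tmul, map_smul, KaehlerDifferential.map_D]
      have h1 : D A (Localization.AtPrime P) (algebraMap B₂ (Localization.AtPrime P) y) =
          KaehlerDifferential.map A A B₁ (Localization.AtPrime P) (D A B₁ (algebraMap B₂ B₁ y)) := by
        rw [KaehlerDifferential.map_D, ← IsScalarTower.algebraMap_apply]
      rw [h1]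
      unfold ρT
      rw [LinearMap.extendScalarsOfIsLocalization_apply', IsLocalizedModule.lift_apply,
        Derivation.liftKaehlerDifferential_comp_D, D'_algebraMap σ₁ σ₂ hσ hle P hcot,
        ← Submodule.Quotient.mk_smul, TensorProduct.smul_tmul', smul_eq_mul, mul_one]
    | zero => simp
    | add a b _ _ ha hb => rw [TensorProduct.tmul_add, map_add, map_add, ha, hb,
        Submodule.Quotient.mk_add]
    | smul r a _ ha =>
      rw [← TensorProduct.smul_tmul]
      exact ha _

end tlevel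

section final

theorem main (A B₁ B₂ : Type u)
    [CommRing A] [CommRing B₁] [CommRing B₂] [Algebra A B₁] [Algebra A B₂] [Algebra B₂ B₁]
    [IsScalarTower A B₂ B₁] [Algebra.FinitePresentation A B₁] [Algebra.FiniteType A B₂]
    (σ₁ : B₁ →ₐ[A] A) (σ₂ : B₂ →ₐ[A] A) (hσ : σ₁.comp (IsScalarTower.toAlgHom A B₂ B₁) = σ₂)
    (hle : RingHom.ker σ₂ ≤ (RingHom.ker σ₁).comap (IsScalarTower.toAlgHom A B₂ B₁))
    (hcot : Function.Bijective
      (Ideal.mapCotangent (RingHom.ker σ₂) (RingHom.ker σ₁) (IsScalarTower.toAlgHom A B₂ B₁) hle))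
    (hsm : ∀ (P : Ideal B₁) [P.IsPrime], RingHom.ker σ₁ ≤ P → Algebra.IsSmoothAt A P)
    (P : Ideal B₁) [P.IsPrime] (hP : RingHom.ker σ₁ ≤ P) : Algebra.IsEtaleAt B₂ P := by
  haveI : Algebra.FiniteType B₂ B₁ := Algebra.FiniteType.of_restrictScalars_finiteType A B₂ B₁
  -- Step 2: unramified at `P`
  have hunr : Algebra.IsUnramifiedAt B₂ P := by
    obtain ⟨r, hr1, hr2⟩ := Submodule.exists_sub_one_mem_and_smul_eq_zero_of_fg_of_le_smul
      (RingHom.ker σ₁ : Ideal B₁) (⊤ : Submodule B₁ Ω[B₁⁄B₂]) Module.Finite.fg_top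
      (kaehler_le hle hcot.2)
    have hrP : r ∉ P := by
      intro hr
      have h1 : (1 : B₁) ∈ P := by
        have := P.sub_mem hr (hP hr1)
        simpa using this
      exact (inferInstance : P.IsPrime).ne_top ((Ideal.eq_top_iff_one _).mpr h1)
    have : (⟨P, inferInstance⟩ : PrimeSpectrum B₁) ∈ Algebra.unramifiedLocus B₂ B₁ := by
      rw [Algebra.unramifiedLocus_eq_compl_support, Set.mem_compl_iff, Module.notMem_support_iff']
      intro ω
      exact ⟨r, hrP, hr2 ω trivial⟩
    exact this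
  haveI : Algebra.FormallyUnramified B₂ (Localization.AtPrime P) := hunr
  have hU : Subsingleton Ω[Localization.AtPrime P⁄B₂] := inferInstance
  -- Step 3
  haveI hsmooth : Algebra.FormallySmooth A (Localization.AtPrime P) := hsm P hP
  have hsurj : Function.Surjective
      (KaehlerDifferential.mapBaseChange A B₂ (Localization.AtPrime P)) := by
    intro ω
    have hex := KaehlerDifferential.exact_mapBaseChange_map A B₂ (Localization.AtPrime P)
    exact (hex ω).mp (Subsingleton.elim _ _)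
  obtain ⟨sec, hsec⟩ := Module.projective_lifting_property
    (KaehlerDifferential.mapBaseChange A B₂ (Localization.AtPrime P)) LinearMap.id hsurj
  have hsec' : ∀ ω, KaehlerDifferential.mapBaseChange A B₂ (Localization.AtPrime P) (sec ω) = ω :=
    fun ω => LinearMap.congr_fun hsec ω
  set ψ := KaehlerDifferential.mapBaseChange A B₂ (Localization.AtPrime P) with hψdef
  let π : MT (A := A) (B₂ := B₂) P →ₗ[Localization.AtPrime P] MT (A := A) (B₂ := B₂) P :=
    LinearMap.id - sec ∘ₗ ψ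
  have hπK : ∀ m, π m ∈ LinearMap.ker ψ := by
    intro m
    rw [LinearMap.mem_ker]
    change ψ (m - sec (ψ m)) = 0
    rw [map_sub, hsec', sub_self]
  have hKπ : ∀ k ∈ LinearMap.ker ψ, π k = k := by
    intro k hk
    change k - sec (ψ k) = k
    rw [LinearMap.mem_ker.mp hk, map_zero, sub_zero]
  have hKN : LinearMap.ker ψ ≤ NT (A := A) (B₂ := B₂) σ₁ P := by
    intro k hk
    have := ρT_comp σ₁ σ₂ hσ hle P hcot k
    rw [← hψdef, LinearMap.mem_ker.mp hk, map_zero, eq_comm, Submodule.Quotient.mk_eq_zero] at this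
    exact this
  have hrange : LinearMap.range π = LinearMap.ker ψ := by
    apply le_antisymm
    · rintro _ ⟨m, rfl⟩
      exact hπK m
    · intro k hk
      exact ⟨k, hKπ k hk⟩
  have hK : LinearMap.ker ψ = ⊥ := by
    apply Submodule.eq_bot_of_le_smul_of_le_jacobson_bot (bT σ₁ P)
    · rw [← hrange, LinearMap.range_eq_map]
      exact Submodule.FG.map _ Module.Finite.fg_top
    · intro k hk
      have h1 : π k ∈ Submodule.map π (bT σ₁ P • ⊤) := Submodule.mem_map_of_mem (hKN hk)
      rw [Submodule.map_smul'', Submodule.map_top, hrange, hKπ k hk] at h1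
      exact h1
    · rw [IsLocalRing.jacobson_eq_maximalIdeal ⊥ bot_ne_top,
        ← Localization.AtPrime.map_eq_maximalIdeal]
      exact Ideal.map_mono hP
  have hinj : Function.Injective ψ := LinearMap.ker_eq_bot.mp hK
  have hH1 : Subsingleton (Algebra.H1Cotangent B₂ (Localization.AtPrime P)) := by
    refine ⟨fun a b => ?_⟩
    have h0 : ∀ h : Algebra.H1Cotangent B₂ (Localization.AtPrime P), h = 0 := by
      intro h
      have h1 : Algebra.H1Cotangent.δ A B₂ (Localization.AtPrime P) h = 0 := by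
        apply hinj
        rw [map_zero]
        exact (Algebra.H1Cotangent.exact_δ_mapBaseChange A B₂ (Localization.AtPrime P)).apply_apply_eq_zero h
      obtain ⟨h', rfl⟩ :=
        (Algebra.H1Cotangent.exact_map_δ A B₂ (Localization.AtPrime P) h).mp h1
      rw [Subsingleton.elim h' 0, map_zero]
    rw [h0 a, h0 b]
  have hsm2 : Algebra.FormallySmooth B₂ (Localization.AtPrime P) :=
    ⟨Module.Projective.of_free, hH1⟩
  exact Algebra.FormallyEtale.iff_formallyUnramified_and_formallySmooth.mpr ⟨inferInstance, hsm2⟩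

end final


/-- Let A be a commutative ring (the base V = Spec A) and B₁, B₂ commutative A-algebras (V-schemes X₁,
X₂) with A-algebra maps σ₁ : B₁ → A and σ₂ : B₂ → A (sections s₁, s₂ of the structure maps, closed
immersions with ideals b₁ = ker σ₁, b₂ = ker σ₂), and let B₂ → B₁ be an A-algebra map (a V-morphism
f : X₁ → X₂) with σ₁ ∘ (B₂ → B₁) = σ₂ (f s₁ = s₂). Assume B₁ is finitely presented over A and smooth
over A at every prime containing b₁ (r₁ smooth along s₁(V)), B₂ is of finite type over A, and the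
induced map b₂/b₂² → b₁/b₁² of conormal modules is bijective. Then B₂ → B₁ is étale at every prime
of B₁ containing b₁ (f étale along s₁(V)). (The published statement puts no finiteness condition on
B₂ over A, and in that generality the conclusion fails: over a field k, the square-zero extension of
k[x] by k[x, 1/x] mapping onto k[y] by x ↦ y, with the zero sections, satisfies every other
hypothesis and is not étale at the origin. Here B₂ is assumed of finite type over A.) -/
theorem result (A B₁ B₂ : Type u)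
    [CommRing A] [CommRing B₁] [CommRing B₂] [Algebra A B₁] [Algebra A B₂] [Algebra B₂ B₁]
    [IsScalarTower A B₂ B₁] [Algebra.FinitePresentation A B₁] [Algebra.FiniteType A B₂]
    (σ₁ : B₁ →ₐ[A] A) (σ₂ : B₂ →ₐ[A] A) (hσ : σ₁.comp (IsScalarTower.toAlgHom A B₂ B₁) = σ₂)
    (hle : RingHom.ker σ₂ ≤ (RingHom.ker σ₁).comap (IsScalarTower.toAlgHom A B₂ B₁))
    (hcot : Function.Bijective
      (Ideal.mapCotangent (RingHom.ker σ₂) (RingHom.ker σ₁) (IsScalarTower.toAlgHom A B₂ B₁) hle))
    (hsm : ∀ (P : Ideal B₁) [P.IsPrime], RingHom.ker σ₁ ≤ P → Algebra.IsSmoothAt A P)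
    (P : Ideal B₁) [P.IsPrime] (hP : RingHom.ker σ₁ ≤ P) : Algebra.IsEtaleAt B₂ P := by
  exact main A B₁ B₂ σ₁ σ₂ hσ hle hcot hsm P hP

end Groth.Agent.S18962
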