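import Groth.Statements.S18974
import Mathlib.Tactic
import Mathlib.Algebra.Polynomial.Taylor
import Mathlib.LinearAlgebra.TensorProduct.Basic
import Mathlib.RingTheory.TensorProduct.Basic
-- import your own Groth.Agent.* helpers here

set_option autoImplicit false
universe u
open CAlg

namespace Groth.Agent.S18974

open Finset Polynomial TensorProduct

section helpers

variable {A : Type u} [CommRing A] [Algebra ℚ A] (D : Derivation ℚ A A)

/-- Leibniz for iterates -/
lemma leibniz_iter (n : ℕ) (x y : A) :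
    ((D : A →ₗ[ℚ] A) ^ n) (x * y) =
      ∑ m ∈ range (n + 1), (n.choose m : ℚ) • (((D : A →ₗ[ℚ] A) ^ m) x * ((D : A →ₗ[ℚ] A) ^ (n - m)) y) := by
  let Dl : A →ₗ[ℚ] A := (D : A →ₗ[ℚ] A)
  let μ : A ⊗[ℚ] A →ₗ[ℚ] A := LinearMap.mul' ℚ A
  let D₁ : Module.End ℚ (A ⊗[ℚ] A) := LinearMap.rTensor A Dl
  let D₂ : Module.End ℚ (A ⊗[ℚ] A) := LinearMap.lTensor A Dl
  have h1 : Dl ∘ₗ μ = μ ∘ₗ (D₁ + D₂) := by
    apply TensorProduct.ext'
    intro x y
    simp only [LinearMap.comp_apply, LinearMap.add_apply, μ, D₁, D₂, LinearMap.mul'_apply,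
      LinearMap.rTensor_tmul, LinearMap.lTensor_tmul, map_add, Dl]
    rw [Derivation.coeFn_coe, Derivation.leibniz]
    simp only [smul_eq_mul]
    ring
  have h2 : Commute D₁ D₂ := by
    show D₁ * D₂ = D₂ * D₁
    apply TensorProduct.ext'
    intro x y
    simp [D₁, D₂, Module.End.mul_apply]
  have h3 : ∀ n : ℕ, (Dl ^ n) ∘ₗ μ = μ ∘ₗ ((D₁ + D₂) ^ n) := by
    intro n
    induction n with
    | zero => simp [Module.End.one_eq_id]
    | succ n ih =>
      rw [pow_succ', pow_succ', Module.End.mul_eq_comp, Module.End.mul_eq_comp, LinearMap.comp_assoc, ih,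
        ← LinearMap.comp_assoc, h1, LinearMap.comp_assoc]
  have h4 := LinearMap.congr_fun (h3 n) (x ⊗ₜ y)
  rw [LinearMap.comp_apply, LinearMap.comp_apply] at h4
  simp only [μ, LinearMap.mul'_apply] at h4
  rw [h4, h2.add_pow, LinearMap.sum_apply, map_sum]
  apply Finset.sum_congr rfl
  intro m _
  simp only [D₁, D₂, LinearMap.rTensor_pow, LinearMap.lTensor_pow, Module.End.mul_apply]
  rw [Module.End.natCast_apply, map_nsmul, map_nsmul, map_nsmul, LinearMap.lTensor_tmul,
    LinearMap.rTensor_tmul, LinearMap.mul'_apply, Nat.cast_smul_eq_nsmul]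

/-- divided power -/
noncomputable def dp (n : ℕ) (x : A) : A := ((n.factorial : ℚ)⁻¹) • ((D : A →ₗ[ℚ] A) ^ n) x

lemma pow_zero_of_le {N n : ℕ} {x : A} (h : ((D : A →ₗ[ℚ] A) ^ N) x = 0) (hn : N ≤ n) :
    ((D : A →ₗ[ℚ] A) ^ n) x = 0 := by
  obtain ⟨k, rfl⟩ := Nat.exists_eq_add_of_le hn
  rw [add_comm, pow_add, Module.End.mul_apply, h, map_zero]

lemma dp_zero_of_le {N n : ℕ} {x : A} (h : ((D : A →ₗ[ℚ] A) ^ N) x = 0) (hn : N ≤ n) :
    dp D n x = 0 := by
  rw [dp, pow_zero_of_le D h hn, smul_zero]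

lemma dp_add (n : ℕ) (x y : A) : dp D n (x + y) = dp D n x + dp D n y := by
  rw [dp, map_add, smul_add]; rfl

lemma dp_zero_apply (x : A) : dp D 0 x = x := by
  simp [dp]

lemma dp_one (n : ℕ) : dp D n (1 : A) = if n = 0 then 1 else 0 := by
  cases n with
  | zero => simp [dp]
  | succ n =>
    rw [if_neg (Nat.succ_ne_zero n), dp, pow_succ, Module.End.mul_apply, Derivation.coeFn_coe,
      Derivation.map_one_eq_zero, map_zero, smul_zero]

lemma dp_mul (n : ℕ) (x y : A) :
    dp D n (x * y) = ∑ m ∈ range (n + 1), dp D m x * dp D (n - m) y := by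
  rw [dp, leibniz_iter, Finset.smul_sum]
  apply Finset.sum_congr rfl
  intro m hm
  rw [mem_range] at hm
  rw [dp, dp, smul_mul_smul_comm, smul_smul]
  congr 1
  have := Nat.choose_mul_factorial_mul_factorial (Nat.lt_succ_iff.mp hm)
  have h1 : (n.factorial : ℚ) ≠ 0 := by exact_mod_cast n.factorial_ne_zero
  have h2 : (m.factorial : ℚ) ≠ 0 := by exact_mod_cast m.factorial_ne_zero
  have h3 : ((n - m).factorial : ℚ) ≠ 0 := by exact_mod_cast (n - m).factorial_ne_zero
  have h4 : ((n.choose m : ℚ)) * m.factorial * (n - m).factorial = n.factorial := by exact_mod_cast this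
  field_simp
  linarith

variable (hnil : ∀ x : A, ∃ n : ℕ, ((D : A →ₗ[ℚ] A) ^ n) x = 0)

open Classical in
/-- the exponential map as a function -/
noncomputable def phiFun (x : A) : A[X] :=
  ∑ n ∈ range (Nat.find (hnil x)), monomial n (dp D n x)

lemma coeff_phiFun (x : A) (n : ℕ) : (phiFun D hnil x).coeff n = dp D n x := by
  classical
  rw [phiFun, finsetSum_coeff]
  simp only [coeff_monomial]
  rw [Finset.sum_ite_eq']
  split_ifs with h
  · rfl
  · rw [dp_zero_of_le D (Nat.find_spec (hnil x)) (by simpa using h)]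

/-- the exponential map `A → A[Y]` -/
noncomputable def phiT : A →+* A[X] where
  toFun := phiFun D hnil
  map_one' := by
    ext n
    rw [coeff_phiFun, dp_one, coeff_one]
  map_mul' x y := by
    ext n
    rw [coeff_phiFun, coeff_mul, Finset.Nat.sum_antidiagonal_eq_sum_range_succ_mk, dp_mul]
    apply Finset.sum_congr rfl
    intro m _
    rw [coeff_phiFun, coeff_phiFun]
  map_zero' := by
    ext n
    rw [coeff_phiFun, coeff_zero, dp, map_zero, smul_zero]
  map_add' x y := by
    ext n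
    rw [coeff_phiFun, coeff_add, coeff_phiFun, coeff_phiFun, dp_add]

lemma coeff_phiT (x : A) (n : ℕ) : (phiT D hnil x).coeff n = dp D n x := coeff_phiFun D hnil x n

lemma phiT_eq_sum (x : A) (N : ℕ) (h : ((D : A →ₗ[ℚ] A) ^ N) x = 0) :
    phiT D hnil x = ∑ n ∈ range N, monomial n (dp D n x) := by
  ext n
  rw [coeff_phiT, finsetSum_coeff]
  simp only [coeff_monomial]
  rw [Finset.sum_ite_eq']
  split_ifs with hn
  · rfl
  · rw [dp_zero_of_le D h (by simpa using hn)]


lemma dp_D (n : ℕ) (x : A) : dp D n (D x) = ((n + 1 : ℕ) : A) * dp D (n + 1) x := by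
  rw [dp, dp, ← Derivation.coeFn_coe, ← Module.End.mul_apply, ← pow_succ, ← nsmul_eq_mul,
    ← Nat.cast_smul_eq_nsmul ℚ, smul_smul]
  congr 1
  rw [Nat.factorial_succ]
  have h1 : (n.factorial : ℚ) ≠ 0 := by exact_mod_cast n.factorial_ne_zero
  push_cast
  field_simp

lemma D_dp (n : ℕ) (x : A) : D (dp D n x) = ((n + 1 : ℕ) : A) * dp D (n + 1) x := by
  rw [← dp_D, dp, dp, D.map_smul]
  congr 1
  rw [← Derivation.coeFn_coe, ← Module.End.mul_apply, ← Module.End.mul_apply, ← pow_succ, ← pow_succ']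

lemma phiT_D (x : A) : phiT D hnil (D x) = derivative (phiT D hnil x) := by
  ext n
  rw [coeff_phiT, coeff_derivative, coeff_phiT, dp_D]
  push_cast
  ring

lemma hasse_phiT (k : ℕ) (x : A) : hasseDeriv k (phiT D hnil x) = phiT D hnil (dp D k x) := by
  ext n
  rw [hasseDeriv_coeff, coeff_phiT, coeff_phiT]
  rw [dp, dp, dp, map_smul, smul_smul, ← Module.End.mul_apply, ← pow_add, ← nsmul_eq_mul,
    ← Nat.cast_smul_eq_nsmul ℚ, smul_smul]
  congr 1
  have := Nat.add_choose_mul_factorial_mul_factorial n k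
  have h4 : (((n + k).choose k : ℚ)) * n.factorial * k.factorial = (n + k).factorial := by
    exact_mod_cast this
  have h1 : (n.factorial : ℚ) ≠ 0 := by exact_mod_cast n.factorial_ne_zero
  have h2 : (k.factorial : ℚ) ≠ 0 := by exact_mod_cast k.factorial_ne_zero
  have h3 : ((n + k).factorial : ℚ) ≠ 0 := by exact_mod_cast (n + k).factorial_ne_zero
  field_simp
  linarith

/-- the retraction onto the kernel of `D` -/
noncomputable def piHom (a : A) : A →+* A := (Polynomial.evalRingHom (-a)).comp (phiT D hnil)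

lemma piHom_eq_sum (a x : A) (N : ℕ) (h : ((D : A →ₗ[ℚ] A) ^ N) x = 0) :
    piHom D hnil a x = ∑ n ∈ range N, dp D n x * (-a) ^ n := by
  rw [piHom, RingHom.comp_apply, phiT_eq_sum D hnil x N h, coe_evalRingHom, eval_finsetSum]
  simp only [eval_monomial]

lemma D_piHom (a : A) (ha : D a = 1) (x : A) : D (piHom D hnil a x) = 0 := by
  obtain ⟨N, hN⟩ := hnil x
  rw [piHom_eq_sum D hnil a x N hN, map_sum]
  obtain ⟨g, hg⟩ : ∃ g : ℕ → A, g = fun k : ℕ => (k : A) * dp D k x * (-a) ^ (k - 1) := ⟨_, rfl⟩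
  have key : ∀ n : ℕ, D (dp D n x * (-a) ^ n) = g (n + 1) - g n := by
    intro n
    rw [hg, Derivation.leibniz, Derivation.leibniz_pow, map_neg, ha, D_dp]
    simp only [smul_eq_mul, nsmul_eq_mul, Nat.add_sub_cancel]
    ring
  rw [Finset.sum_congr rfl (fun n _ => key n), Finset.sum_range_sub, hg]
  simp only [Nat.cast_zero, zero_mul, sub_zero]
  rw [dp_zero_of_le D hN le_rfl]
  ring

lemma mk_piHom (a x : A) :
    Ideal.Quotient.mk (Ideal.span ({a} : Set A)) (piHom D hnil a x) =
      Ideal.Quotient.mk (Ideal.span ({a} : Set A)) x := by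
  obtain ⟨N, hN⟩ := hnil x
  have hN' : ((D : A →ₗ[ℚ] A) ^ (N + 1)) x = 0 := pow_zero_of_le D hN (Nat.le_succ N)
  rw [piHom_eq_sum D hnil a x (N + 1) hN', map_sum, Finset.sum_range_succ']
  have hmk : Ideal.Quotient.mk (Ideal.span ({a} : Set A)) a = 0 :=
    Ideal.Quotient.eq_zero_iff_mem.mpr (Ideal.mem_span_singleton_self a)
  rw [Finset.sum_eq_zero, zero_add, pow_zero, mul_one, dp_zero_apply]
  intro n _
  rw [map_mul, map_pow, map_neg, hmk, neg_zero, pow_succ, mul_zero, mul_zero]

lemma piHom_a (a : A) (ha : D a = 1) : piHom D hnil a a = 0 := by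
  have h2 : ((D : A →ₗ[ℚ] A) ^ 2) a = 0 := by
    rw [pow_two, Module.End.mul_apply, Derivation.coeFn_coe, ha, Derivation.map_one_eq_zero]
  rw [piHom_eq_sum D hnil a a 2 h2, Finset.sum_range_succ, Finset.sum_range_one]
  simp [dp, ha]

/-- the induced map on the quotient -/
noncomputable def piBar (a : A) (ha : D a = 1) : A ⧸ Ideal.span ({a} : Set A) →+* A :=
  Ideal.Quotient.lift (Ideal.span ({a} : Set A)) (piHom D hnil a) (by
    intro x hx
    obtain ⟨c, rfl⟩ := Ideal.mem_span_singleton'.mp hx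
    rw [map_mul, piHom_a D hnil a ha, mul_zero])

lemma piBar_mk (a : A) (ha : D a = 1) (x : A) :
    piBar D hnil a ha (Ideal.Quotient.mk _ x) = piHom D hnil a x := by
  rw [piBar, Ideal.Quotient.lift_mk]


end helpers

/-- Let A be a commutative algebra over the rationals, D a locally nilpotent derivation of A and a an
element with D a = 1; write A' for the quotient of A by the ideal generated by a. Then there is a
ring isomorphism from A onto the polynomial ring A'[Y] which sends every x to the (finite) sum over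
n of (1/n!) (class of D^n x) Y^n; its inverse sends Y to a and the constant polynomial on the class
of x to the sum over n of ((-1)^n/n!) (D^n x) a^n, and under it D corresponds to the derivative
d/dY. (The source says only that A is a ring, in a setting over a field of characteristic zero; the
rational coefficients 1/n! require an algebra over the rationals, which is the hypothesis taken
here. Both sums are written over any range beyond which the iterates of D vanish at x.) -/
theorem result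
    (A : Type u) [CommRing A] [Algebra ℚ A] (D : Derivation ℚ A A)
    (hnil : ∀ x : A, ∃ n : ℕ, ((D : A →ₗ[ℚ] A) ^ n) x = 0) (a : A) (ha : D a = 1) :
    ∃ χ : A ≃+* Polynomial (A ⧸ Ideal.span ({a} : Set A)),
      (∀ (x : A) (N : ℕ), ((D : A →ₗ[ℚ] A) ^ N) x = 0 →
        χ x = ∑ n ∈ Finset.range N,
          ((n.factorial : ℚ)⁻¹ • Polynomial.C (Ideal.Quotient.mk (Ideal.span ({a} : Set A)) (((D : A →ₗ[ℚ] A) ^ n) x))) *
            Polynomial.X ^ n) ∧
      χ.symm Polynomial.X = a ∧
      (∀ (x : A) (N : ℕ), ((D : A →ₗ[ℚ] A) ^ N) x = 0 →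
        χ.symm (Polynomial.C (Ideal.Quotient.mk (Ideal.span ({a} : Set A)) x)) =
          ∑ n ∈ Finset.range N, (((-1 : ℚ) ^ n * (n.factorial : ℚ)⁻¹) • ((((D : A →ₗ[ℚ] A) ^ n) x) * a ^ n))) ∧
      ∀ p : Polynomial (A ⧸ Ideal.span ({a} : Set A)), χ (D (χ.symm p)) = Polynomial.derivative p := by
  have hmka : Ideal.Quotient.mk (Ideal.span ({a} : Set A)) a = 0 :=
    Ideal.Quotient.eq_zero_iff_mem.mpr (Ideal.mem_span_singleton_self a)
  have h2a : ((D : A →ₗ[ℚ] A) ^ 2) a = 0 := by
    rw [pow_two, Module.End.mul_apply, Derivation.coeFn_coe, ha, Derivation.map_one_eq_zero]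
  obtain ⟨φ, hφ⟩ : ∃ φ : A →+* Polynomial (A ⧸ Ideal.span ({a} : Set A)),
      φ = (Polynomial.mapRingHom (Ideal.Quotient.mk (Ideal.span ({a} : Set A)))).comp (phiT D hnil) :=
    ⟨_, rfl⟩
  obtain ⟨ψ, hψ⟩ : ∃ ψ : Polynomial (A ⧸ Ideal.span ({a} : Set A)) →+* A,
      ψ = Polynomial.eval₂RingHom (piBar D hnil a ha) a := ⟨_, rfl⟩
  have hφψ : φ.comp ψ = RingHom.id _ := by
    apply Polynomial.ringHom_ext
    · intro c
      obtain ⟨x, rfl⟩ := Ideal.Quotient.mk_surjective c
      rw [hφ, hψ]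
      simp only [RingHom.comp_apply, coe_eval₂RingHom, eval₂_C, piBar_mk, RingHom.id_apply]
      have h1 : ((D : A →ₗ[ℚ] A) ^ 1) (piHom D hnil a x) = 0 := by
        rw [pow_one]; exact D_piHom D hnil a ha x
      rw [phiT_eq_sum D hnil _ 1 h1, Finset.sum_range_one, dp_zero_apply, monomial_zero_left,
        coe_mapRingHom, map_C, mk_piHom]
    · rw [hφ, hψ]
      simp only [RingHom.comp_apply, coe_eval₂RingHom, eval₂_X, RingHom.id_apply]
      rw [phiT_eq_sum D hnil a 2 h2a, Finset.sum_range_succ, Finset.sum_range_one]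
      simp [dp, ha, hmka, monomial_one_one_eq_X]
  have hψφ : ψ.comp φ = RingHom.id _ := by
    ext x
    rw [hφ, hψ]
    simp only [RingHom.comp_apply, RingHom.id_apply, coe_eval₂RingHom, coe_mapRingHom]
    rw [eval₂_map]
    have hcomp : (piBar D hnil a ha).comp (Ideal.Quotient.mk (Ideal.span ({a} : Set A))) =
        piHom D hnil a := by
      ext y; exact piBar_mk D hnil a ha y
    rw [hcomp]
    obtain ⟨N, hN⟩ := hnil x
    have hdeg : (phiT D hnil x).natDegree < N + 1 := by
      rw [Nat.lt_succ_iff, natDegree_le_iff_coeff_eq_zero]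
      intro n hn
      rw [coeff_phiT, dp_zero_of_le D hN hn.le]
    rw [eval₂_eq_sum_range' _ hdeg]
    have hco : ∀ n, piHom D hnil a ((phiT D hnil x).coeff n) = (taylor (-a) (phiT D hnil x)).coeff n := by
      intro n
      rw [taylor_coeff, hasse_phiT, coeff_phiT]; rfl
    simp_rw [hco]
    rw [← eval_eq_sum_range' (by rw [natDegree_taylor]; exact hdeg), taylor_eval, add_neg_cancel,
      ← coeff_zero_eq_eval_zero, coeff_phiT, dp_zero_apply]
  refine ⟨RingEquiv.ofRingHom φ ψ hφψ hψφ, ?_, ?_, ?_, ?_⟩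
  · intro x N hN
    show φ x = _
    rw [hφ, RingHom.comp_apply, coe_mapRingHom, phiT_eq_sum D hnil x N hN, Polynomial.map_sum]
    apply Finset.sum_congr rfl
    intro n _
    rw [map_monomial, dp, smul_C, C_mul_X_pow_eq_monomial]
    congr 1
  · show ψ X = a
    rw [hψ, coe_eval₂RingHom, eval₂_X]
  · intro x N hN
    show ψ (C _) = _
    rw [hψ, coe_eval₂RingHom, eval₂_C, piBar_mk, piHom_eq_sum D hnil a x N hN]
    apply Finset.sum_congr rfl
    intro n _
    rw [dp, neg_pow, smul_mul_assoc, mul_smul, mul_left_comm]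
    rcases Nat.even_or_odd n with h | h
    · rw [h.neg_one_pow, h.neg_one_pow, one_mul, one_smul]
    · rw [h.neg_one_pow, h.neg_one_pow, neg_one_mul, neg_one_smul ℚ, smul_neg]
  · intro p
    obtain ⟨y, rfl⟩ := (RingEquiv.ofRingHom φ ψ hφψ hψφ).surjective p
    rw [RingEquiv.symm_apply_apply]
    show φ (D y) = derivative (φ y)
    rw [hφ, RingHom.comp_apply, RingHom.comp_apply, coe_mapRingHom, phiT_D, derivative_map]

end Groth.Agent.S18974
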