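import Groth.Statements.S18975
import Mathlib
import Groth.Agent.Lib.Helper10.TorsorLoc1
import Groth.Agent.Lib.Helper10.PBundle1
import Groth.Agent.S0082

set_option autoImplicit false
universe u
open CategoryTheory MonoidalCategory CartesianMonoidalCategory MonObj AlgebraicGeometry
open GIT

namespace Groth.Agent.S18975

/-- Over an algebraically closed field k of characteristic zero, let G be an affine group scheme of
finite type over k acting on a k-scheme X, and let φ : X → Y be a morphism of k-schemes which is a
G-torsor over Y: the square formed by the action G ×_k X → X, the second projection and φ (twice) is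
cartesian, and φ acquires sections on the members of some fpqc covering family of Y. Then φ is
affine and (Y, φ) is a geometric quotient: φ is invariant and surjective, G ×_k X → X ×_Y X is
surjective, φ is universally submersive, and over every open of Y the functions on Y are exactly the
invariant functions on its preimage. (The source defines a torsor by the existence of one fpqc
morphism to Y trivialising it and defines geometric quotients with φ affine and submersive;
universal submersiveness follows because every base change of a torsor is a torsor.) -/
theorem result
    (k : Type u) [Field k] [IsAlgClosed k] [CharZero k]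
    (G X Y : Over (Spec (CommRingCat.of k))) [GrpObj G] [IsAffine G.left] [LocallyOfFiniteType G.hom]
    (a : AlgGrp.Action G X) (φ : X ⟶ Y)
    (hcart : IsPullback a.act (snd G X) φ φ)
    (hloc : NonAbH1.IsLocallyTrivialFor Scheme.fpqcPrecoverage (Over.mk φ.left : Over Y.left)) :
    IsAffineHom φ.left ∧ GIT.IsGeomQuot a φ := by
  haveI hflatG : Flat G.hom := by
    haveI : Subsingleton ↥(Spec (CommRingCat.of k)) :=
      inferInstanceAs (Subsingleton (PrimeSpectrum k))
    infer_instance
  have hsurjG : Surjective G.hom := by
    refine ⟨fun z => ⟨(η[G] : 𝟙_ _ ⟶ G).left z, ?_⟩⟩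
    rw [← Scheme.Hom.comp_apply, Over.w]
    rfl
  have haffG : IsAffineHom G.hom := inferInstance
  haveI := Groth.Agent.S0082.result.{u}
  haveI := Groth.Agent.Lib.Helper14.Fpqc.flat_descendsAlong.{u}
  haveI haff : IsAffineHom φ.left :=
    Groth.Agent.Lib.Helper10.TorsorLoc.prop_of_locallyTrivial a φ @IsAffineHom hcart hloc haffG
  haveI hflat : Flat φ.left :=
    Groth.Agent.Lib.Helper10.TorsorLoc.prop_of_locallyTrivial a φ @Flat hcart hloc hflatG
  haveI hsurj : Surjective φ.left :=
    Groth.Agent.Lib.Helper10.TorsorLoc.prop_of_locallyTrivial a φ @Surjective hcart hloc hsurjG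
  haveI : QuasiCompact φ.left := inferInstance
  exact ⟨haff, Groth.Agent.Lib.Helper10.PBundle.isGeomQuot_of_principal a φ hcart.w
    (Groth.Agent.Lib.Helper10.TorsorLoc.isIso_PsiY a φ hcart)⟩

end Groth.Agent.S18975
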