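import Groth.Statements.S18987
import Groth.Agent.Lib.Helper7.HopfLieInv2

set_option autoImplicit false
universe u
open TensorProduct
open HopfRep

namespace Groth.Agent.S18987

open Groth.Agent.Lib.Helper7.LieInv Groth.Agent.Lib.Helper7.Comod Groth.Agent.Lib.Helper7.HopfCot


/-- In Hopf-algebra form, over an algebraically closed field k of characteristic zero, let A be a
finitely generated commutative Hopf algebra which is unipotent in the fixed-vector sense (the
coordinate ring of a unipotent group U), coacting multiplicatively on a finitely generated
commutative k-algebra R (an action of U on the affine scheme Spec R). Then an element f of R is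
invariant if and only if, for every ε-derivation ξ : A → k (every element of the Lie algebra of U),
applying ξ to the A-factor of the coaction of f gives zero (the infinitesimal action of ξ kills f). -/
theorem result
    (k : Type u) [Field k] [IsAlgClosed k] [CharZero k]
    (A : Type u) [CommRing A] [HopfAlgebra k A] [Algebra.FiniteType k A] (hU : HopfRep.IsUnipotent k A)
    (R : Type u) [CommRing R] [Algebra k R] [Algebra.FiniteType k R]
    [HopfRep.Comod k A R] [GLin.IsCoactAlg k A R] (f : R) :
    f ∈ GLin.invariants k A R ↔
      ∀ ξ : LieHopf.Lie k A,
        LinearMap.lTensor R (ξ.toLinearMap.restrictScalars k) (HopfRep.Comod.coact (k := k) (A := A) f) = 0 := by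
  constructor
  · intro hf ξ
    rw [GLin.mem_invariants_iff] at hf
    rw [hf, LinearMap.lTensor_tmul]
    have : (ξ.toLinearMap.restrictScalars k) (1 : A) = 0 := ξ.map_one_eq_zero
    rw [this, TensorProduct.tmul_zero]
  · intro h
    rw [GLin.mem_invariants_iff]
    have hinf : ∀ l : (augI k A).Cotangent →ₗ[k] k, inf l f = 0 := by
      intro l
      exact contr_eq_zero_of_lTensor l _ (h (lieOf l))
    set F : Set A := {a | Coalgebra.counit (R := k) a = 0 ∧
      ∀ l : (augI k A).Cotangent →ₗ[k] k, DOf l a = 0} with hF
    have key := eq_zero_of_stable hU F (fun a ha => ha.1)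
      (fun a ha l => by rw [ha.2 l]; exact ⟨map_zero _, fun l' => map_zero _⟩)
    rw [← sub_eq_zero]
    apply eq_zero_of_forall_contrL_eq_zero
    intro φ
    rw [map_sub, contrL_tmul]
    have hmem : coeffMap (C := A) φ f - φ f • (1 : A) ∈ F := by
      refine ⟨?_, fun l => ?_⟩
      · rw [map_sub, counit_coeffMap, map_smul, Bialgebra.counit_one, smul_eq_mul, mul_one,
          sub_self]
      · rw [map_sub, DOf_coeffMap, hinf l, map_zero, map_smul, DOf_one, smul_zero, sub_zero]
    exact key _ hmem

end Groth.Agent.S18987
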