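import Groth.Statements.S18988
import Groth.Agent.Lib.Helper7.HopfLieInv2

set_option autoImplicit false
universe u
open TensorProduct
open HopfRep

namespace Groth.Agent.S18988

open Groth.Agent.Lib.Helper7.LieInv Groth.Agent.Lib.Helper7.Comod Groth.Agent.Lib.Helper7.HopfCot


/-- In Hopf-algebra form, over an algebraically closed field k of characteristic zero, let A be a
finitely generated commutative Hopf algebra which is unipotent in the fixed-vector sense (the
coordinate ring of a unipotent group U), coacting multiplicatively on a finitely generated
commutative k-algebra R. Then a k-subspace V of R is a subcomodule (is invariant under U) if and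
only if it is stable under the infinitesimal action of every ε-derivation ξ : A → k: for every v in
V, applying ξ to the A-factor of the coaction of v gives an element of the image of V ⊗ k in R ⊗ k. -/
theorem result
    (k : Type u) [Field k] [IsAlgClosed k] [CharZero k]
    (A : Type u) [CommRing A] [HopfAlgebra k A] [Algebra.FiniteType k A] (hU : HopfRep.IsUnipotent k A)
    (R : Type u) [CommRing R] [Algebra k R] [Algebra.FiniteType k R]
    [HopfRep.Comod k A R] [GLin.IsCoactAlg k A R] (V : Submodule k R) :
    HopfRep.IsSubcomod (k := k) (A := A) V ↔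
      ∀ (ξ : LieHopf.Lie k A) (v : R), v ∈ V →
        LinearMap.lTensor R (ξ.toLinearMap.restrictScalars k) (HopfRep.Comod.coact (k := k) (A := A) v) ∈
          LinearMap.range (LinearMap.rTensor (LieHopf.K k A) V.subtype) := by
  constructor
  · intro hV ξ v hv
    obtain ⟨y, hy⟩ := hV v hv
    rw [← hy]
    refine ⟨LinearMap.lTensor V (ξ.toLinearMap.restrictScalars k) y, ?_⟩
    rw [← LinearMap.comp_apply, ← LinearMap.comp_apply, LinearMap.rTensor_comp_lTensor,
      LinearMap.lTensor_comp_rTensor]
  · intro h v hv
    rw [mem_range_rTensor_iff_contr]
    intro f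
    by_contra hne
    obtain ⟨φ, hφ, hle⟩ := Submodule.exists_le_ker_of_notMem hne
    set F : Set A := {a | ∃ w ∈ V, a = coeffMap (C := A) φ w} with hF
    have key := eq_zero_of_stable hU F
      (by
        rintro a ⟨w, hw, rfl⟩
        rw [counit_coeffMap]
        exact hle hw)
      (by
        rintro a ⟨w, hw, rfl⟩ l
        refine ⟨inf l w, ?_, DOf_coeffMap l φ w⟩
        exact contr_mem_of_lTensor l V _ (h (lieOf l) w hw))
    have h0 : coeffMap (C := A) φ v = 0 := key _ ⟨v, hv, rfl⟩
    apply hφ
    rw [← apply_contrL_eq, ← coeffMap_apply, h0, map_zero]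

end Groth.Agent.S18988
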