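import Groth.Statements.S1900
import Mathlib
import Groth.Agent.Lib.Helper18.PLF3

set_option autoImplicit false
universe u
open CategoryTheory AlgebraicGeometry
open CategoryTheory.Limits
open Cyc

namespace Groth.Agent.S1900

/-- Let W → P^1_X be a closed immersion with W integral of δ-dimension k + 1 (for the dimension function
on P^1_X induced from δ on X), whose generic point lies neither over the zero section nor over the
section at infinity. Let W_0, W_∞ → X be the pullbacks of W along the two sections X → P^1_X (closed
subschemes of X). Then [W_0]_k ∼_rat [W_∞]_k on X. A pair (X, δ) with Cyc.IsSetup plays the role of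
a scheme locally of finite type over a fixed base with a dimension function (X locally Noetherian
with universally catenary local rings, δ a dimension function), and Cyc.DeltaCompat records that the
dimension function upstairs is the induced one. -/
theorem result (X : Scheme.{u}) (δ : X → ℤ) (hX : Cyc.IsSetup X δ) (δP : ↥(CohB1.ProjSpaceOver 1 X) → ℤ) (hP : Cyc.DeltaCompat (CohB1.ProjSpaceOver.toBase 1 X) δP δ) (k : ℤ) (W : Scheme.{u}) [IsIntegral W] (ι : W ⟶ CohB1.ProjSpaceOver 1 X) [IsClosedImmersion ι] (hW : δP (ι (genericPoint W)) = k + 1) (h0 : ι (genericPoint W) ∉ Set.range ⇑(P1.sect X 0)) (h1 : ι (genericPoint W) ∉ Set.range ⇑(P1.sect X 1)) (α β : AlgebraicCycle X ℤ) (hα : ⇑α = Cyc.subschemeFun δ k (pullback.snd ι (P1.sect X 0))) (hβ : ⇑β = Cyc.subschemeFun δ k (pullback.snd ι (P1.sect X 1))) : Cyc.RatEquiv δ k α β := by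
  classical
  have hPs : Cyc.IsSetup (CohB1.ProjSpaceOver 1 X) δP :=
    Groth.Agent.Lib.Helper18.SetupLft.isSetup_of_locallyOfFiniteType
      (Groth.Agent.Lib.Helper18.PLD.π X) δ hX δP hP
  have hWs : Cyc.IsSetup W (fun w => δP (ι w)) :=
    Groth.Agent.Lib.Helper18.ClImm.isSetup ι δP hPs
  haveI : IsLocallyNoetherian W := hWs.1
  have hgen : ∀ z : W, genericPoint W ⤳ z := fun z => genericPoint_specializes z
  have hsp : ∀ z : W, ι (genericPoint W) ⤳ ι z := fun z => (hgen z).map ι.continuous
  have hmono : ∀ z : W, δP (ι z) ≤ k + 1 := by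
    intro z
    by_cases hne : ι (genericPoint W) = ι z
    · rw [← hne, hW]
    · have := (hPs.2.2 _ _ (hsp z) hne).1
      omega
  have hlt : ∀ z : W, z ≠ genericPoint W → δP (ι z) ≤ k := by
    intro z hz
    have hne : ι (genericPoint W) ≠ ι z :=
      fun h => hz (ι.isClosedEmbedding.injective h).symm
    have := (hPs.2.2 _ _ (hsp z) hne).1
    omega
  refine Groth.Agent.Lib.Helper18.PLF3.main δ hX δP hP k ι ?_ hmono ?_ α β hα hβ
  · intro z hz
    apply hlt
    rintro rfl
    rcases hz with h | h
    · exact h0 h
    · exact h1 h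
  · intro z hass
    left
    have hz : z = genericPoint W := by
      haveI : IsDomain (W.presheaf.stalk z) := inferInstance
      rw [isAssociatedPrime_iff] at hass
      obtain ⟨hp, x, hx⟩ := hass
      have hx0 : x ≠ 0 := by
        intro h0'
        apply hp.ne_top
        rw [hx, h0']
        ext r
        simp [Submodule.mem_colon_singleton]
      have hbot : IsLocalRing.maximalIdeal (W.presheaf.stalk z) = ⊥ := by
        rw [hx]
        ext r
        rw [Submodule.mem_colon_singleton, Submodule.mem_bot, Ideal.mem_bot, smul_eq_mul,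
          mul_eq_zero]
        exact ⟨fun h => h.resolve_right hx0, fun h => Or.inl h⟩
      have hmem : genericPoint W ∈ Set.range (W.fromSpecStalk z) := by
        rw [Scheme.range_fromSpecStalk]
        exact hgen z
      obtain ⟨q, hq⟩ := hmem
      have hq' : q = IsLocalRing.closedPoint (W.presheaf.stalk z) := by
        apply PrimeSpectrum.ext
        change q.asIdeal = IsLocalRing.maximalIdeal (W.presheaf.stalk z)
        rw [hbot, eq_bot_iff, ← hbot]
        exact IsLocalRing.le_maximalIdeal q.2.ne_top
      rw [hq', Scheme.fromSpecStalk_closedPoint] at hq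
      exact hq
    rw [hz]
    rintro (h | h)
    · exact h0 h
    · exact h1 h

end Groth.Agent.S1900
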