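import Groth.Statements.S19004
import Mathlib.Tactic
import Mathlib.LinearAlgebra.Vandermonde
-- import your own Groth.Agent.* helpers here

set_option autoImplicit false
open GIT

namespace Groth.Agent.S19004

open Finset MvPolynomial

lemma expo1 (n : ℕ) (σ : Equiv.Perm (Fin n)) (k : Fin n) :
    (∑ i : Fin n, Finsupp.single (σ i) (i : ℕ)) k = (σ.symm k : ℕ) := by
  rw [Finsupp.finsetSum_apply]
  rw [Finset.sum_eq_single (σ.symm k)]
  · simp
  · intro b _ hb
    rw [Finsupp.single_apply, if_neg]
    intro h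
    apply hb
    rw [← h]; simp
  · intro h; exact absurd (mem_univ _) h

lemma expo2 (n : ℕ) (τ : Equiv.Perm (Fin n)) (k : Fin n) :
    (∑ i : Fin n, Finsupp.single (τ i) (i.rev : ℕ)) k = ((τ.symm k).rev : ℕ) := by
  rw [Finsupp.finsetSum_apply]
  rw [Finset.sum_eq_single (τ.symm k)]
  · simp
  · intro b _ hb
    rw [Finsupp.single_apply, if_neg]
    intro h
    apply hb
    rw [← h]; simp
  · intro h; exact absurd (mem_univ _) h

lemma expo_iff (n : ℕ) (σ τ : Equiv.Perm (Fin n)) :
    (∑ i : Fin n, Finsupp.single (σ i) (i : ℕ)) + (∑ i : Fin n, Finsupp.single (τ i) (i.rev : ℕ))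
      = Finsupp.equivFunOnFinite.symm (fun _ : Fin n => n - 1) ↔ σ = τ := by
  constructor
  · intro h
    have h2 : σ.symm = τ.symm := by
      ext k
      have := DFunLike.congr_fun h k
      rw [Finsupp.add_apply, expo1, expo2] at this
      simp only [Finsupp.equivFunOnFinite_symm_apply_apply, Fin.val_rev] at this
      have h1 := (σ.symm k).2
      have h2 := (τ.symm k).2
      omega
    have := congrArg Equiv.symm h2
    simpa using this
  · rintro rfl
    ext k
    rw [Finsupp.add_apply, expo1, expo2]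
    simp only [Finsupp.equivFunOnFinite_symm_apply_apply, Fin.val_rev]
    have h1 := (σ.symm k).2
    omega

lemma term1 (n : ℕ) (σ : Equiv.Perm (Fin n)) :
    ∏ i : Fin n, (X (σ i) : MvPolynomial (Fin n) ℤ) ^ (i : ℕ) =
      monomial (∑ i : Fin n, Finsupp.single (σ i) (i : ℕ)) 1 := by
  rw [monomial_sum_one]
  apply Finset.prod_congr rfl
  intro i _
  rw [X_pow_eq_monomial]

lemma term2 (n : ℕ) (τ : Equiv.Perm (Fin n)) :
    ∏ i : Fin n, (X (τ i) : MvPolynomial (Fin n) ℤ) ^ (i.rev : ℕ) =
      monomial (∑ i : Fin n, Finsupp.single (τ i) (i.rev : ℕ)) 1 := by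
  rw [monomial_sum_one]
  apply Finset.prod_congr rfl
  intro i _
  rw [X_pow_eq_monomial]

lemma split (n : ℕ) :
    (∏ i : Fin n, ∏ j ∈ Finset.univ.erase i, (X i - X j : MvPolynomial (Fin n) ℤ)) =
      (Matrix.vandermonde (fun i => (X i : MvPolynomial (Fin n) ℤ))).det *
      (Matrix.projVandermonde 1 (fun i => (X i : MvPolynomial (Fin n) ℤ))).det := by
  rw [Matrix.det_vandermonde, Matrix.det_projVandermonde]
  have h1 : ∀ i : Fin n, Finset.univ.erase i = Finset.Iio i ∪ Finset.Ioi i := by
    intro i
    ext j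
    simp only [mem_erase, mem_univ, and_true, mem_union, mem_Iio, mem_Ioi]
    exact lt_or_lt_iff_ne.symm
  have h2 : ∀ i : Fin n, Disjoint (Finset.Iio i) (Finset.Ioi i) := by
    intro i
    rw [Finset.disjoint_left]
    intro j hj hj'
    rw [mem_Iio] at hj
    rw [mem_Ioi] at hj'
    exact lt_asymm hj hj'
  simp_rw [h1, Finset.prod_union (h2 _), Finset.prod_mul_distrib]
  congr 1
  · rw [Finset.prod_comm' (t' := Finset.univ) (s' := fun j => Finset.Ioi j)]
    intro i j
    simp
  · apply Finset.prod_congr rfl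
    intro i _
    apply Finset.prod_congr rfl
    intro j _
    simp

/-- For the group PGL(n) acting on the space of n × n matrices the T-quotient is (P^{n−1})^n with Chow
ring ℚ[t_1,…,t_n]/(t_1^n,…,t_n^n), the class c_top(g/t) is the product of all roots t_i − t_j (i ≠
j), and the computation in the proof shows that this product equals n!·t_1^{n−1}⋯t_n^{n−1} in that
ring. Stated here as the equivalent coefficient identity in ℤ[t_1,…,t_n]: the coefficient of
t_1^{n−1}⋯t_n^{n−1} in the product over ordered pairs i ≠ j of (t_i − t_j) is n!. -/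
theorem result (n : ℕ) :
    MvPolynomial.coeff (Finsupp.equivFunOnFinite.symm (fun _ : Fin n => n - 1))
      (∏ i : Fin n, ∏ j ∈ Finset.univ.erase i, (MvPolynomial.X i - MvPolynomial.X j : MvPolynomial (Fin n) ℤ)) = (n.factorial : ℤ) := by
  rw [split, Matrix.det_apply, Matrix.det_apply, Finset.sum_mul_sum]
  simp only [Matrix.vandermonde_apply, Matrix.projVandermonde_apply, Pi.one_apply, one_pow, one_mul,
    term1, term2]
  rw [MvPolynomial.coeff_sum]
  simp_rw [MvPolynomial.coeff_sum]
  have : ∀ σ τ : Equiv.Perm (Fin n),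
      coeff (Finsupp.equivFunOnFinite.symm (fun _ : Fin n => n - 1))
        ((Equiv.Perm.sign σ • (monomial (∑ i : Fin n, Finsupp.single (σ i) (i : ℕ))) (1 : ℤ)) *
          (Equiv.Perm.sign τ • (monomial (∑ i : Fin n, Finsupp.single (τ i) (i.rev : ℕ))) (1 : ℤ))) =
        if σ = τ then 1 else 0 := by
    intro σ τ
    rw [Units.smul_def, Units.smul_def, smul_mul_smul_comm, monomial_mul, coeff_smul, coeff_monomial]
    simp only [expo_iff]
    split_ifs with h
    · subst h
      rw [smul_eq_mul, mul_one, ← Units.val_mul, Int.units_mul_self]; rfl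
    · simp
  simp_rw [this]
  simp [Fintype.card_perm]

end Groth.Agent.S19004
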