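import Groth.Statements.S19006
import Mathlib.Tactic
-- import your own Groth.Agent.* helpers here

set_option autoImplicit false
universe u v w x
open RootD

namespace Groth.Agent.S19006

/-- For a root pairing over an integral domain of characteristic zero, a quadratic form Q on the
coweight module N with polar form B, and a root α with coroot α^∨, the form Q is invariant under the
reflection attached to α acting on N if and only if B(y, α^∨) = ⟨α, y⟩ Q(α^∨) for all y in N. (The
source states this for integer-valued forms on the cocharacter lattice of a split reductive group;
here the form takes values in the base ring of the pairing.) -/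
theorem result {ι : Type u} {R : Type v} {M : Type w} {N : Type x} [CommRing R] [IsDomain R] [CharZero R]
    [AddCommGroup M] [Module R M] [AddCommGroup N] [Module R N] (P : RootPairing ι R M N)
    (Q : QuadraticMap R N R) (j : ι) :
    (∀ y : N, Q (P.coreflection j y) = Q y) ↔
      ∀ y : N, QuadraticMap.polar Q y (P.coroot j) = P.root' j y * Q (P.coroot j) := by
  set α := P.coroot j with hα
  have key : ∀ y : N, Q (P.coreflection j y) =
      Q y + P.root' j y * P.root' j y * Q α - P.root' j y * QuadraticMap.polar Q y α := by
    intro y
    rw [RootPairing.coreflection_apply, sub_eq_add_neg, ← neg_smul, QuadraticMap.map_add (⇑Q),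
      QuadraticMap.map_smul, QuadraticMap.polar_smul_right]
    simp only [smul_eq_mul]
    ring
  have hcα : P.root' j α = 2 := by
    rw [hα, RootPairing.root'_coroot_eq_pairing, RootPairing.pairing_same]
  have hBαα : QuadraticMap.polar Q α α = 2 * Q α := by
    rw [QuadraticMap.polar_self]; simp
  constructor
  · intro hinv
    -- f y := polar Q y α - c_y * Q α
    have h1 : ∀ y : N, P.root' j y * (QuadraticMap.polar Q y α - P.root' j y * Q α) = 0 := by
      intro y
      have := hinv y
      rw [key] at this
      linear_combination (-1 : R) * this
    intro y
    have h2 := h1 (y + α)
    have h3 := h1 y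
    rw [map_add, hcα, QuadraticMap.polar_add_left, hBαα] at h2
    have h4 : (2 : R) * (QuadraticMap.polar Q y α - P.root' j y * Q α) = 0 := by
      linear_combination h2 - h3
    have h5 : (2 : R) ≠ 0 := two_ne_zero
    have := (mul_eq_zero.mp h4).resolve_left h5
    exact sub_eq_zero.mp this
  · intro h y
    rw [key, h y]
    ring

end Groth.Agent.S19006
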