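import Groth.Statements.S19007
import Mathlib.Tactic
-- import your own Groth.Agent.* helpers here

set_option autoImplicit false
universe u v w x
open RootD

namespace Groth.Agent.S19007

lemma coreflection_reflectionPerm' {ι : Type u} {R : Type v} {M : Type w} {N : Type x} [CommRing R]
    [AddCommGroup M] [Module R M] [AddCommGroup N] [Module R N] (P : RootPairing ι R M N) (i j : ι) (y : N) :
    P.coreflection (P.reflectionPerm j i) y = P.coreflection j (P.coreflection i (P.coreflection j y)) := by
  have := P.flip.reflection_reflectionPerm (i := i) (j := j)
  have h2 := DFunLike.congr_fun this y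
  exact h2

/-- local version of the reflection criterion on a submodule -/
lemma crit {ι : Type u} {R : Type v} {M : Type w} {N : Type x} [CommRing R] [IsDomain R] [CharZero R]
    [AddCommGroup M] [Module R M] [AddCommGroup N] [Module R N] (P : RootPairing ι R M N)
    (Q : QuadraticMap R N R) (j : ι) (D : Submodule R N) (hD : P.coroot j ∈ D) :
    (∀ y ∈ D, Q (P.coreflection j y) = Q y) ↔
      ∀ y ∈ D, QuadraticMap.polar Q y (P.coroot j) = P.root' j y * Q (P.coroot j) := by
  set α := P.coroot j with hα
  have key : ∀ y : N, Q (P.coreflection j y) =
      Q y + P.root' j y * P.root' j y * Q α - P.root' j y * QuadraticMap.polar Q y α := by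
    intro y
    rw [RootPairing.coreflection_apply, sub_eq_add_neg, ← neg_smul, QuadraticMap.map_add (⇑Q),
      QuadraticMap.map_smul, QuadraticMap.polar_smul_right]
    simp only [smul_eq_mul]
    ring
  have hcα : P.root' j α = 2 := by
    rw [hα, RootPairing.root'_coroot_eq_pairing, RootPairing.pairing_same]
  have hBαα : QuadraticMap.polar Q α α = 2 * Q α := by
    rw [QuadraticMap.polar_self]; simp
  constructor
  · intro hinv
    have h1 : ∀ y ∈ D, P.root' j y * (QuadraticMap.polar Q y α - P.root' j y * Q α) = 0 := by
      intro y hy
      have := hinv y hy
      rw [key] at this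
      linear_combination (-1 : R) * this
    intro y hy
    have h2 := h1 (y + α) (D.add_mem hy hD)
    have h3 := h1 y hy
    rw [map_add, hcα, QuadraticMap.polar_add_left, hBαα] at h2
    have h4 : (2 : R) * (QuadraticMap.polar Q y α - P.root' j y * Q α) = 0 := by
      linear_combination h2 - h3
    have h5 : (2 : R) ≠ 0 := two_ne_zero
    have := (mul_eq_zero.mp h4).resolve_left h5
    exact sub_eq_zero.mp this
  · intro h y hy
    rw [key, h y hy]
    ring

/-- Let P be a finite reduced crystallographic root pairing over an integral domain of characteristic
zero, b a base of P (a system of simple roots) and Q a quadratic form on the coweight module with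
polar form B. Then Q is invariant under all root reflections (equivalently under the Weyl group) on
the span of the coroots if and only if for all pairs of distinct simple roots α_i ≠ α_j one has
B(α_i^∨, α_j^∨) = ⟨α_j, α_i^∨⟩ Q(α_j^∨). (In the source the form is integer-valued on the lattice
spanned by the coroots and the condition says that the bilinear form lies in the kernel of the last
map of a three-term complex built from the Bruhat cells of codimension at most two; here the form
takes values in the base ring.) -/
theorem result {ι : Type u} {R : Type v} {M : Type w} {N : Type x} [CommRing R] [IsDomain R] [CharZero R]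
    [AddCommGroup M] [Module R M] [AddCommGroup N] [Module R N] (P : RootPairing ι R M N)
    [Finite ι] [P.IsCrystallographic] [P.IsReduced] (b : P.Base) (Q : QuadraticMap R N R) :
    (∀ i : ι, ∀ y ∈ Submodule.span R (Set.range P.coroot), Q (P.coreflection i y) = Q y) ↔
      ∀ i ∈ b.support, ∀ j ∈ b.support, i ≠ j →
        QuadraticMap.polar Q (P.coroot i) (P.coroot j) = P.pairing j i * Q (P.coroot j) := by
  have hmemD : ∀ i, P.coroot i ∈ Submodule.span R (Set.range P.coroot) :=
    fun i => Submodule.subset_span ⟨i, rfl⟩
  have hstab : ∀ i : ι, ∀ y ∈ Submodule.span R (Set.range P.coroot),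
      P.coreflection i y ∈ Submodule.span R (Set.range P.coroot) := by
    intro i y hy
    induction hy using Submodule.span_induction with
    | mem y hy =>
      obtain ⟨k, rfl⟩ := hy
      rw [← RootPairing.coroot_reflectionPerm]
      exact hmemD _
    | zero => rw [map_zero]; exact Submodule.zero_mem _
    | add y z _ _ hy hz => rw [map_add]; exact Submodule.add_mem _ hy hz
    | smul a y _ hy => rw [map_smul]; exact Submodule.smul_mem _ _ hy
  constructor
  · intro h i _ j _ _
    have := (crit P Q j _ (hmemD j)).mp (h j) (P.coroot i) (hmemD i)
    rw [this, RootPairing.root'_coroot_eq_pairing]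
  · intro h
    have hsimple : ∀ j ∈ b.support, ∀ y ∈ Submodule.span R (Set.range P.coroot),
        Q (P.coreflection j y) = Q y := by
      intro j hj
      rw [crit P Q j _ (hmemD j)]
      intro y hy
      have hspan : Submodule.span R (Set.range P.coroot) = Submodule.span R (P.coroot '' b.support) :=
        (b.span_coroot_support).symm
      rw [hspan] at hy
      induction hy using Submodule.span_induction with
      | mem y hy =>
        obtain ⟨i, hi, rfl⟩ := hy
        by_cases hij : i = j
        · subst hij
          rw [QuadraticMap.polar_self, RootPairing.root'_coroot_eq_pairing, RootPairing.pairing_same]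
          simp
        · rw [h i hi j hj hij, RootPairing.root'_coroot_eq_pairing]
      | zero => simp [QuadraticMap.polar]
      | add y z _ _ hy hz => rw [QuadraticMap.polar_add_left, hy, hz, map_add]; ring
      | smul a y _ hy => rw [QuadraticMap.polar_smul_left, hy, map_smul]; simp only [smul_eq_mul]; ring
    intro i
    refine b.induction_reflect i (p := fun i => ∀ y ∈ Submodule.span R (Set.range P.coroot),
      Q (P.coreflection i y) = Q y) ?_ hsimple ?_
    · intro i hi y hy
      rw [coreflection_reflectionPerm', RootPairing.coreflection_same]
      exact hi y hy
    · intro i j hi hj y hy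
      rw [coreflection_reflectionPerm']
      have hj' := hsimple j hj
      rw [hj' _ (hstab i _ (hstab j _ hy)), hi _ (hstab j _ hy), hj' _ hy]

end Groth.Agent.S19007
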