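import Groth.Statements.S19009
import Groth.Agent.S19006
import Groth.Agent.S19007
import Mathlib.Tactic
-- import your own Groth.Agent.* helpers here

set_option autoImplicit false
universe u v w x
open RootD

namespace Groth.Agent.S19009

/-- Let P be a root pairing over an integral domain R of characteristic zero (roots α acting on the
coweight module N through reflections y ↦ y − ⟨α, y⟩ α^∨), D ⊆ N a submodule containing every coroot
and such that every element of D has a positive integer multiple in the span of the coroots (the
derived part), and Y₀ a complement of D in N. Let Q_d be a quadratic form on N whose restriction to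
D is invariant under all root reflections. Then there is a quadratic form on N, invariant under all
root reflections and agreeing with Q_d on D, if and only if there is an R-bilinear form Φ on N with
Φ(y₀, α^∨) = ⟨α, y₀⟩ Q_d(α^∨) for all y₀ in Y₀ and all roots α. (In the source R = ℤ, N = Y₀ ⊕ Y_der
is the cocharacter lattice of a split reductive group, and the condition is phrased as integrality
on Y₀ × Y_der of the pairing y₀, y ↦ B(q(y₀), y) deduced from the polar form B of Q_d; that pairing
is characterised by the displayed values on coroots, only the values of Φ on Y₀ × D matter, and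
forms take values in R here.) -/
theorem result {ι : Type u} {R : Type v} {M : Type w} {N : Type x} [CommRing R] [IsDomain R] [CharZero R]
    [AddCommGroup M] [Module R M] [AddCommGroup N] [Module R N] (P : RootPairing ι R M N)
    (D Y₀ : Submodule R N) (hD : ∀ i : ι, P.coroot i ∈ D)
    (hDsat : ∀ y ∈ D, ∃ n : ℕ, 0 < n ∧ n • y ∈ Submodule.span R (Set.range P.coroot))
    (hc : IsCompl Y₀ D)
    (Qd : QuadraticMap R N R) (hQd : ∀ i : ι, ∀ y ∈ D, Qd (P.coreflection i y) = Qd y) :
    (∃ Q : QuadraticMap R N R, (∀ (i : ι) (y : N), Q (P.coreflection i y) = Q y) ∧ ∀ y ∈ D, Q y = Qd y) ↔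
      ∃ Φ : N →ₗ[R] N →ₗ[R] R, ∀ y₀ ∈ Y₀, ∀ i : ι,
        Φ y₀ (P.coroot i) = P.root' i y₀ * Qd (P.coroot i) := by
  constructor
  · rintro ⟨Q, hinv, hQD⟩
    refine ⟨Q.polarBilin, ?_⟩
    intro y₀ _ i
    rw [QuadraticMap.polarBilin_apply_apply, (Groth.Agent.S19006.result P Q i).mp (hinv i) y₀,
      hQD _ (hD i)]
  · rintro ⟨Φ, hΦ⟩
    let πD : N →ₗ[R] N := D.projection Y₀ hc.symm
    let π₀ : N →ₗ[R] N := Y₀.projection D hc
    have hsum : ∀ y, π₀ y + πD y = y := fun y => Submodule.projection_add_projection_eq_self hc y
    have hπD_mem : ∀ y, πD y ∈ D := fun y => Submodule.projection_apply_mem hc.symm y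
    have hπ₀_mem : ∀ y, π₀ y ∈ Y₀ := fun y => Submodule.projection_apply_mem hc y
    have hπD_D : ∀ y ∈ D, πD y = y := fun y hy => Submodule.projection_apply_of_mem_left hc.symm hy
    have hπ₀_D : ∀ y ∈ D, π₀ y = 0 := fun y hy => (Submodule.projection_apply_eq_zero_iff hc).mpr hy
    refine ⟨Qd.comp πD + LinearMap.BilinMap.toQuadraticMap (Φ.compl₁₂ π₀ πD), ?_, ?_⟩
    · intro i y
      simp only [add_apply, QuadraticMap.comp_apply, LinearMap.BilinMap.toQuadraticMap_apply,
        LinearMap.compl₁₂_apply]
      have hα := hD i
      have e1 : πD (P.coreflection i y) = πD y + (-(P.root' i y)) • P.coroot i := by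
        rw [RootPairing.coreflection_apply, map_sub, map_smul, hπD_D _ hα, neg_smul, sub_eq_add_neg]
      have e2 : π₀ (P.coreflection i y) = π₀ y := by
        rw [RootPairing.coreflection_apply, map_sub, map_smul, hπ₀_D _ hα, smul_zero, sub_zero]
      have hpol := (Groth.Agent.S19007.crit P Qd i D hα).mp (hQd i) (πD y) (hπD_mem y)
      have hΦ' := hΦ (π₀ y) (hπ₀_mem y) i
      have hc' : P.root' i y = P.root' i (π₀ y) + P.root' i (πD y) := by
        rw [← map_add, hsum]
      rw [e1, e2, QuadraticMap.map_add (⇑Qd), QuadraticMap.map_smul,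
        QuadraticMap.polar_smul_right, map_add, map_smul, hpol, hΦ', hc']
      simp only [smul_eq_mul]
      ring
    · intro y hy
      simp only [add_apply, QuadraticMap.comp_apply, LinearMap.BilinMap.toQuadraticMap_apply,
        LinearMap.compl₁₂_apply]
      rw [hπD_D y hy, hπ₀_D y hy, map_zero]
      simp

end Groth.Agent.S19009
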