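import Groth.Statements.S19010
import Groth.Agent.S19006
import Mathlib.Tactic
-- import your own Groth.Agent.* helpers here

set_option autoImplicit false
universe u v w x
open RootD

namespace Groth.Agent.S19010

/-- Let P be a root pairing over an integral domain R of characteristic zero (roots α acting on the
coweight module N through reflections y ↦ y − ⟨α, y⟩ α^∨), D ⊆ N a submodule containing every coroot
and such that every element of D has a positive integer multiple in the span of the coroots (the
derived part), and Y₀ a complement of D in N. Let Q' be a quadratic form on N invariant under all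
root reflections. Then restriction to Y₀ is a bijection from the set of quadratic forms on N that
are invariant under all root reflections and agree with Q' on D onto the set of all quadratic forms
on Y₀. (In the source R = ℤ and N = Y₀ ⊕ Y_der is the cocharacter lattice of a split reductive
group; forms take values in R here.) -/
theorem result {ι : Type u} {R : Type v} {M : Type w} {N : Type x} [CommRing R] [IsDomain R] [CharZero R]
    [AddCommGroup M] [Module R M] [AddCommGroup N] [Module R N] (P : RootPairing ι R M N)
    (D Y₀ : Submodule R N) (hD : ∀ i : ι, P.coroot i ∈ D)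
    (hDsat : ∀ y ∈ D, ∃ n : ℕ, 0 < n ∧ n • y ∈ Submodule.span R (Set.range P.coroot))
    (hc : IsCompl Y₀ D)
    (Q' : QuadraticMap R N R) (hQ' : ∀ (i : ι) (y : N), Q' (P.coreflection i y) = Q' y) :
    Set.BijOn (fun Q : QuadraticMap R N R => Q.comp Y₀.subtype)
      {Q | (∀ (i : ι) (y : N), Q (P.coreflection i y) = Q y) ∧ ∀ y ∈ D, Q y = Q' y} Set.univ := by
  refine ⟨fun _ _ => Set.mem_univ _, ?_, ?_⟩
  · rintro Q₁ ⟨h1inv, h1D⟩ Q₂ ⟨h2inv, h2D⟩ heq
    simp only at heq
    obtain ⟨E, hE⟩ : ∃ E : QuadraticMap R N R, E = Q₁ - Q₂ := ⟨_, rfl⟩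
    have hEinv : ∀ (i : ι) (y : N), E (P.coreflection i y) = E y := by
      intro i y
      rw [hE, sub_apply, sub_apply, h1inv, h2inv]
    have hED : ∀ y ∈ D, E y = 0 := by
      intro y hy
      rw [hE, sub_apply, h1D y hy, h2D y hy, sub_self]
    have hEY : ∀ y ∈ Y₀, E y = 0 := by
      intro y hy
      have := DFunLike.congr_fun heq ⟨y, hy⟩
      simp only [QuadraticMap.comp_apply, Submodule.subtype_apply] at this
      rw [hE, sub_apply, this, sub_self]
    have hpol1 : ∀ (y : N) (i : ι), QuadraticMap.polar E y (P.coroot i) = 0 := by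
      intro y i
      rw [(Groth.Agent.S19006.result P E i).mp (hEinv i) y, hED _ (hD i), mul_zero]
    have hpol2 : ∀ (y : N), ∀ c ∈ Submodule.span R (Set.range P.coroot), QuadraticMap.polar E y c = 0 := by
      intro y c hc
      induction hc using Submodule.span_induction with
      | mem c hc => obtain ⟨i, rfl⟩ := hc; exact hpol1 y i
      | zero => simp [QuadraticMap.polar]
      | add a b _ _ ha hb => rw [QuadraticMap.polar_add_right, ha, hb, add_zero]
      | smul r a _ ha => rw [QuadraticMap.polar_smul_right, ha, smul_zero]
    have hpol3 : ∀ (y : N), ∀ d ∈ D, QuadraticMap.polar E y d = 0 := by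
      intro y d hd
      obtain ⟨n, hn, hnd⟩ := hDsat d hd
      have := hpol2 y _ hnd
      rw [← Nat.cast_smul_eq_nsmul R, QuadraticMap.polar_smul_right, smul_eq_mul] at this
      rcases mul_eq_zero.mp this with h | h
      · exfalso; exact (Nat.cast_ne_zero.mpr hn.ne') h
      · exact h
    have hE0 : E = 0 := by
      ext y
      have hy : y ∈ Y₀ ⊔ D := by rw [hc.sup_eq_top]; trivial
      obtain ⟨y₀, hy₀, d, hd, rfl⟩ := Submodule.mem_sup.mp hy
      rw [QuadraticMap.map_add (⇑E), hEY y₀ hy₀, hED d hd, hpol3 y₀ d hd]
      simp
    rw [hE, sub_eq_zero] at hE0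
    exact hE0
  · intro q₀ _
    refine ⟨Q' + (q₀ - Q'.comp Y₀.subtype).comp (Y₀.projectionOnto D hc), ⟨?_, ?_⟩, ?_⟩
    · intro i y
      rw [add_apply, add_apply, hQ', QuadraticMap.comp_apply,
        QuadraticMap.comp_apply, RootPairing.coreflection_apply, map_sub, map_smul]
      have : (Y₀.projectionOnto D hc) (P.coroot i) = 0 := by
        rw [Submodule.projectionOnto_apply_eq_zero_iff]; exact hD i
      rw [this, smul_zero, sub_zero]
    · intro y hy
      have : (Y₀.projectionOnto D hc) y = 0 := by
        rw [Submodule.projectionOnto_apply_eq_zero_iff]; exact hy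
      rw [add_apply, QuadraticMap.comp_apply, this, QuadraticMap.map_zero, add_zero]
    · ext ⟨y, hy⟩
      simp only [QuadraticMap.comp_apply, add_apply, sub_apply,
        Submodule.subtype_apply]
      rw [Submodule.projectionOnto_apply_left hc ⟨y, hy⟩]
      simp

end Groth.Agent.S19010
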