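import Groth.Statements.S19012
import Groth.Agent.S19006
import Mathlib.Tactic
-- import your own Groth.Agent.* helpers here

set_option autoImplicit false
universe u v w x
open RootD

namespace Groth.Agent.S19012

/-- Let P be a finite reduced crystallographic root pairing over a field of characteristic zero which is
irreducible, and b a base. A quadratic form on the coweight module that is invariant under all root
reflections and vanishes on some simple coroot is zero; in other words an invariant form is
determined by its value on a single simple coroot. (The source proves, component by component of the
Dynkin diagram, that an invariant integer-valued form on the coroot lattice with prescribed value on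
the first simple coroot of each component is unique; here the system is irreducible, the coroots
span the coweight module, and forms take values in the base field.) -/
theorem result {ι : Type u} {K : Type v} {M : Type w} {N : Type x} [Field K] [CharZero K]
    [AddCommGroup M] [Module K M] [AddCommGroup N] [Module K N] (P : RootPairing ι K M N)
    [Finite ι] [P.IsCrystallographic] [P.IsReduced] [P.IsIrreducible] (b : P.Base)
    (Q : QuadraticMap K N K) (hQ : ∀ (i : ι) (y : N), Q (P.coreflection i y) = Q y)
    (i₀ : ι) (hi₀ : i₀ ∈ b.support) (h0 : Q (P.coroot i₀) = 0) : Q = 0 := by
  -- the radical of the polar form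
  let q : Submodule K N := LinearMap.ker (QuadraticMap.polarBilin Q)
  have hmem : ∀ y : N, y ∈ q ↔ ∀ z, QuadraticMap.polar Q y z = 0 := by
    intro y
    rw [LinearMap.mem_ker]
    constructor
    · intro h z
      have := LinearMap.congr_fun h z
      simpa using this
    · intro h
      ext z
      simpa using h z
  have hpolinv : ∀ (i : ι) (y z : N),
      QuadraticMap.polar Q (P.coreflection i y) (P.coreflection i z) = QuadraticMap.polar Q y z := by
    intro i y z
    simp only [QuadraticMap.polar, ← map_add, hQ]
  have hinv : ∀ i, q ∈ Module.End.invtSubmodule (P.coreflection i : N →ₗ[K] N) := by
    intro i
    rw [Module.End.mem_invtSubmodule]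
    intro y hy
    rw [Submodule.mem_comap, hmem]
    rw [hmem] at hy
    intro z
    have := hpolinv i y (P.coreflection i z)
    rw [RootPairing.coreflection_same] at this
    have h2 := hy (P.coreflection i z)
    rw [← this] at h2
    exact h2
  have hne : q ≠ ⊥ := by
    intro hq
    have h1 : P.coroot i₀ ∈ q := by
      rw [hmem]
      intro z
      have := (Groth.Agent.S19006.result P Q i₀).mp (hQ i₀) z
      rw [h0, mul_zero] at this
      rw [QuadraticMap.polar_comm]
      exact this
    rw [hq, Submodule.mem_bot] at h1
    exact P.ne_zero' i₀ h1
  have htop := RootPairing.IsIrreducible.eq_top_of_invtSubmodule_coreflection (P := P) q hinv hne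
  ext y
  have hy : y ∈ q := by rw [htop]; trivial
  have := (hmem y).mp hy y
  rw [QuadraticMap.polar_self] at this
  simpa using this

end Groth.Agent.S19012
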