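import Groth.Statements.S19013
import Groth.Agent.Lib.Helper15.MilKTame
open Groth.Agent.Lib.Helper15.MilKL
-- import your own Groth.Agent.* helpers here

set_option autoImplicit false
universe u v
open MilnorK

namespace Groth.Agent.S19013

/-- Let A ⊆ B be discrete valuation rings, the inclusion being a local homomorphism, with fraction
fields E ⊆ F compatibly, with the induced homomorphism of residue fields κ(A) → κ(B), and with
ramification index e, the natural number such that the maximal ideal of A generates the e-th power
of the maximal ideal of B. Let ∂_A : K_{n+1}(E) → K_n(κ(A)) and ∂_B : K_{n+1}(F) → K_n(κ(B)) be the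
residue maps (tame symbols) on Milnor K-groups. Then for every x in K_{n+1}(E) one has ∂_B(x_F) = e
· (∂_A x)_{κ(B)}, where the subscripts denote the change-of-fields maps along E → F and κ(A) → κ(B).
(The published statement concerns discrete valuations of geometric type on fields finitely generated
over a base field; it is stated here for an arbitrary pair of discrete valuation rings, which is all
the printed computation uses.) -/
theorem result
    (A B : Type u) [CommRing A] [IsDomain A] [IsDiscreteValuationRing A]
    [CommRing B] [IsDomain B] [IsDiscreteValuationRing B] [Algebra A B] [IsLocalHom (algebraMap A B)]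
    (E F : Type v) [Field E] [Field F] [Algebra A E] [IsFractionRing A E] [Algebra B F] [IsFractionRing B F]
    [Algebra E F] [Algebra A F] [IsScalarTower A E F] [IsScalarTower A B F]
    (e : ℕ) (he : Ideal.map (algebraMap A B) (IsLocalRing.maximalIdeal A) = IsLocalRing.maximalIdeal B ^ e)
    (n : ℕ) (dA : MilK.K E (n + 1) →+ MilK.K (IsLocalRing.ResidueField A) n) (hdA : MilK.IsTameSymbol A E n dA)
    (dB : MilK.K F (n + 1) →+ MilK.K (IsLocalRing.ResidueField B) n) (hdB : MilK.IsTameSymbol B F n dB)
    (x : MilK.K E (n + 1)) :
    dB (MilK.map (algebraMap E F) (n + 1) x) =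
      e • MilK.map (IsLocalRing.ResidueField.map (algebraMap A B)) n (dA x) := by
  obtain ⟨ϖB, hϖB⟩ := IsDiscreteValuationRing.exists_irreducible B
  have h1 : dB = tameMap B F ϖB hϖB n :=
    isTameSymbol_unique B F n dB _ hdB (isTameSymbol_tameMap B F ϖB hϖB n)
  subst h1
  -- both sides are additive in `x`
  let f1 : MilK.K E (n + 1) →+ MilK.K (IsLocalRing.ResidueField B) n :=
    (tameMap B F ϖB hϖB n).comp (MilK.map (algebraMap E F) (n + 1))
  let f2 : MilK.K E (n + 1) →+ MilK.K (IsLocalRing.ResidueField B) n :=
    e • ((MilK.map (IsLocalRing.ResidueField.map (algebraMap A B)) n).comp dA)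
  suffices h : f1 = f2 by
    have := DFunLike.congr_fun h x
    exact this
  refine AddMonoidHom.eq_of_eqOn_dense (closure_tameGen A E n) ?_
  rintro z ⟨ϖ', hϖ', u, rfl⟩
  show tameMap B F ϖB hϖB n (MilK.map (algebraMap E F) (n + 1) _) =
    e • MilK.map (IsLocalRing.ResidueField.map (algebraMap A B)) n (dA _)
  rw [hdA ϖ' hϖ' u, MilK.map_symbol, MilK.map_symbol]
  -- the uniformizer of `A` in `B`
  have hass : Associated (algebraMap A B ϖ') (ϖB ^ e) := by
    rw [← Ideal.span_singleton_eq_span_singleton, ← Ideal.span_singleton_pow,
      ← hϖB.maximalIdeal_eq, ← he, hϖ'.maximalIdeal_eq, Ideal.map_span, Set.image_singleton]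
  obtain ⟨w, hw⟩ := hass.symm
  have hcons : (fun i => Units.map ((algebraMap E F : E →+* F) : E →* F)
      ((Fin.cons (MilK.unitFrac A E ϖ' hϖ'.ne_zero) fun i => MilK.unitToFrac A E (u i) :
        Fin (n + 1) → Eˣ) i)) =
      Fin.cons (MilK.unitFrac B F ϖB hϖB.ne_zero ^ (e : ℤ) * MilK.unitToFrac B F w)
        (fun i => MilK.unitToFrac B F (Units.map ((algebraMap A B : A →+* B) : A →* B) (u i))) := by
    funext i
    refine Fin.cases ?_ (fun j => ?_) i
    · apply Units.ext
      simp only [Fin.cons_zero, Units.coe_map, MonoidHom.coe_coe, MilK.coe_unitFrac, Units.val_mul,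
        Units.val_zpow_eq_zpow_val, zpow_natCast]
      rw [← IsScalarTower.algebraMap_apply A E F, IsScalarTower.algebraMap_apply A B F, ← hw,
        map_mul, map_pow]
      rfl
    · apply Units.ext
      simp only [Fin.cons_succ, Units.coe_map, MonoidHom.coe_coe]
      show algebraMap E F (algebraMap A E (u j : A)) = algebraMap B F (algebraMap A B (u j : A))
      rw [← IsScalarTower.algebraMap_apply A E F, IsScalarTower.algebraMap_apply A B F]
  rw [hcons, tameMap_cons_units B F ϖB hϖB n _ _ (fun i => valZ_unitToFrac B F ϖB hϖB _),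
    valZ_zpow_mul, natCast_zsmul]
  congr 2
  funext i
  rw [ac_unitToFrac]
  apply Units.ext
  simp [MilK.unitResidue]

end Groth.Agent.S19013
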