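import Groth.Statements.S19018
import Mathlib.Tactic
-- import your own Groth.Agent.* helpers here

set_option autoImplicit false
universe u
open TensorProduct
open SymTen

namespace Groth.Agent.S19018

section helpers
variable (k R : Type u) [Field k] [NeZero (2 : k)] [CommRing R] [Algebra k R]

/-- the swap -/
noncomputable def sw : R ⊗[k] R →ₐ[k] R ⊗[k] R :=
  ((Algebra.TensorProduct.comm k R R : R ⊗[k] R ≃ₐ[k] R ⊗[k] R) : R ⊗[k] R →ₐ[k] R ⊗[k] R)

omit [NeZero (2 : k)] in
lemma sw_sw (t : R ⊗[k] R) : sw k R (sw k R t) = t := by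
  induction t using TensorProduct.induction_on with
  | zero => simp
  | tmul a b => simp [sw]
  | add x y hx hy => rw [map_add, map_add, hx, hy]

/-- the symmetric subalgebra -/
noncomputable def Sy : Subalgebra k (R ⊗[k] R) := AlgHom.equalizer (sw k R) (AlgHom.id k (R ⊗[k] R))

omit [NeZero (2 : k)] in
lemma mem_Sy (x : R ⊗[k] R) : x ∈ Sy k R ↔ sw k R x = x := by
  rw [Sy, AlgHom.mem_equalizer]; rfl

/-- Reynolds operator -/
noncomputable def rho (t : R ⊗[k] R) : Sy k R :=
  ⟨(2 : k)⁻¹ • (t + sw k R t), by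
    rw [mem_Sy, map_smul, map_add, sw_sw, add_comm]⟩

lemma rho_add (a b : R ⊗[k] R) : rho k R (a + b) = rho k R a + rho k R b := by
  apply Subtype.ext
  simp only [rho, map_add, Subalgebra.coe_add]
  rw [← smul_add]; congr 1; abel

lemma rho_mul_val (t : R ⊗[k] R) (y : Sy k R) : rho k R (t * (y : R ⊗[k] R)) = rho k R t * y := by
  apply Subtype.ext
  have hy : sw k R (y : R ⊗[k] R) = y := (mem_Sy k R _).mp y.2
  simp only [rho, map_mul, Subalgebra.coe_mul, hy]
  rw [smul_mul_assoc, add_mul]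

lemma rho_sym (x : R ⊗[k] R) (hx : x ∈ Sy k R) : rho k R x = ⟨x, hx⟩ := by
  apply Subtype.ext
  simp only [rho, (mem_Sy k R x).mp hx]
  rw [← two_smul k x, smul_smul, inv_mul_cancel₀ (NeZero.ne (2 : k)), one_smul]

lemma keyB (K : Ideal (Sy k R)) (x : R ⊗[k] R) (hx : x ∈ Ideal.map (Sy k R).val K) :
    ∀ t : R ⊗[k] R, rho k R (t * x) ∈ K := by
  rw [Ideal.map] at hx
  induction hx using Submodule.span_induction with
  | mem x hx =>
    obtain ⟨y, hy, rfl⟩ := hx
    intro t
    rw [Subalgebra.coe_val, rho_mul_val]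
    exact K.mul_mem_left _ hy
  | zero => intro t; rw [mul_zero]; convert K.zero_mem; apply Subtype.ext; simp [rho]
  | add x y _ _ hx hy => intro t; rw [mul_add, rho_add]; exact K.add_mem (hx t) (hy t)
  | smul a x _ hx => intro t; rw [smul_eq_mul, ← mul_assoc]; exact hx _

omit [NeZero (2 : k)] in
lemma sw_delta (a : R) : sw k R ((1 : R) ⊗ₜ[k] a - a ⊗ₜ[k] (1 : R)) = -((1 : R) ⊗ₜ[k] a - a ⊗ₜ[k] (1 : R)) := by
  simp [sw]

lemma keyA : KaehlerDifferential.ideal k R ^ 2 ≤
    Ideal.map (Sy k R).val (Ideal.comap (Sy k R).val (KaehlerDifferential.ideal k R ^ 2)) := by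
  conv_lhs => rw [← KaehlerDifferential.span_range_eq_ideal, sq, Ideal.span_mul_span']
  rw [Ideal.span_le]
  rintro _ ⟨_, ⟨a, rfl⟩, _, ⟨b, rfl⟩, rfl⟩
  simp only
  have hsym : ((1 : R) ⊗ₜ[k] a - a ⊗ₜ[k] (1 : R)) * ((1 : R) ⊗ₜ[k] b - b ⊗ₜ[k] (1 : R)) ∈ Sy k R := by
    rw [mem_Sy, map_mul, sw_delta, sw_delta, neg_mul_neg]
  have hmem : (⟨_, hsym⟩ : Sy k R) ∈ Ideal.comap (Sy k R).val (KaehlerDifferential.ideal k R ^ 2) := by
    rw [Ideal.mem_comap, Subalgebra.coe_val, sq]
    apply Ideal.mul_mem_mul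
    · rw [← KaehlerDifferential.span_range_eq_ideal]; exact Ideal.subset_span ⟨a, rfl⟩
    · rw [← KaehlerDifferential.span_range_eq_ideal]; exact Ideal.subset_span ⟨b, rfl⟩
  exact Ideal.mem_map_of_mem _ hmem

theorem main :
    Ideal.comap (Sy k R).val (KaehlerDifferential.ideal k R ^ 4) =
      (Ideal.comap (Sy k R).val (KaehlerDifferential.ideal k R ^ 2)) ^ 2 := by
  apply le_antisymm
  · rintro ⟨x, hx⟩ hmem
    rw [Ideal.mem_comap, Subalgebra.coe_val] at hmem
    have h4 : KaehlerDifferential.ideal k R ^ 4 ≤ Ideal.map (Sy k R).val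
        ((Ideal.comap (Sy k R).val (KaehlerDifferential.ideal k R ^ 2)) ^ 2) := by
      rw [Ideal.map_pow, show 4 = 2 * 2 from rfl, pow_mul]
      exact Ideal.pow_right_mono (keyA k R) 2
    have := keyB k R _ x (h4 hmem) 1
    rw [one_mul, rho_sym k R x hx] at this
    exact this
  · refine (Ideal.le_comap_pow _ 2).trans ?_
    rw [← pow_mul]

end helpers

/-- Suppose k is a field in which 2 ≠ 0 and R is a commutative k-algebra. Write I for the ideal of the
diagonal, i.e. the kernel of multiplication R ⊗_k R → R, and write S for the subalgebra of R ⊗_k R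
consisting of elements invariant under interchanging the two tensor factors. Then, viewed as ideals
of S, the swap-invariant elements of I^4 form precisely the square of the ideal of swap-invariant
elements of I^2. (The source is stated over the complex numbers; the proof needs only that 2 is
invertible.) -/
theorem result
    (k R : Type u) [Field k] [NeZero (2 : k)] [CommRing R] [Algebra k R] :
    Ideal.comap
        (AlgHom.equalizer ((Algebra.TensorProduct.comm k R R : R ⊗[k] R ≃ₐ[k] R ⊗[k] R) : R ⊗[k] R →ₐ[k] R ⊗[k] R)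
          (AlgHom.id k (R ⊗[k] R))).val
        (KaehlerDifferential.ideal k R ^ 4) =
      (Ideal.comap
        (AlgHom.equalizer ((Algebra.TensorProduct.comm k R R : R ⊗[k] R ≃ₐ[k] R ⊗[k] R) : R ⊗[k] R →ₐ[k] R ⊗[k] R)
          (AlgHom.id k (R ⊗[k] R))).val
        (KaehlerDifferential.ideal k R ^ 2)) ^ 2 := by
  exact main k R

end Groth.Agent.S19018
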