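import Groth.Statements.S19019
import Mathlib.Tactic
import Mathlib.RingTheory.RootsOfUnity.Complex
import Mathlib.Analysis.Real.Cardinality
import Mathlib.Analysis.Complex.Order
import Mathlib.Analysis.Matrix.Hermitian
import Mathlib.LinearAlgebra.Lagrange
-- import your own Groth.Agent.* helpers here

set_option autoImplicit false
open scoped ComplexOrder
open Toeplitz

namespace Groth.Agent.S19019

open Finset

lemma ortho (N : ℕ) (ζ : ℂ) (hζ : IsPrimitiveRoot ζ N) (w : ℂ) (hw : w ≠ 0) (d : ℤ)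
    (hd : |d| < N) :
    ∑ s ∈ range N, (w * ζ ^ s) ^ d = if d = 0 then (N : ℂ) else 0 := by
  split_ifs with h
  · subst h; simp
  · have hζd : ζ ^ d ≠ 1 := by
      rw [Ne, hζ.zpow_eq_one_iff_dvd]
      intro hdvd
      have := Int.le_of_dvd (abs_pos.mpr h) ((dvd_abs _ _).mpr hdvd)
      omega
    have : ∀ s : ℕ, (w * ζ ^ s) ^ d = w ^ d * (ζ ^ d) ^ s := by
      intro s
      rw [mul_zpow, ← zpow_natCast, ← zpow_mul, mul_comm (s : ℤ), zpow_mul, zpow_natCast]
    simp_rw [this, ← Finset.mul_sum]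
    rw [geom_sum_eq hζd N]
    have : (ζ ^ d) ^ N = 1 := by
      rw [← zpow_natCast, ← zpow_mul, mul_comm, zpow_mul, zpow_natCast, hζ.pow_eq_one, one_zpow]
    rw [this, sub_self, zero_div, mul_zero]

lemma expand (m : ℕ) (t : ℤ → ℂ) (x : Fin m → ℂ) (u : ℂ) (hu : u ≠ 0) :
    (∑ k ∈ Finset.Ioo (-(m : ℤ)) (m : ℤ), t k * u ^ k) *
      ((∑ i : Fin m, star (x i) * u ^ (i : ℕ)) * (∑ j : Fin m, x j * u ^ (-((j : ℕ) : ℤ)))) =
    ∑ i : Fin m, ∑ j : Fin m, ∑ k ∈ Finset.Ioo (-(m : ℤ)) (m : ℤ),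
      (star (x i) * x j * t k) * u ^ (k + ((i : ℕ) : ℤ) - ((j : ℕ) : ℤ)) := by
  rw [Finset.sum_mul_sum, Finset.mul_sum]
  apply Finset.sum_congr rfl; intro i _
  rw [Finset.mul_sum]
  apply Finset.sum_congr rfl; intro j _
  rw [Finset.sum_mul]
  apply Finset.sum_congr rfl; intro k _
  rw [sub_eq_add_neg, zpow_add₀ hu, zpow_add₀ hu, zpow_natCast]
  ring

lemma dft (m : ℕ) (t : ℤ → ℂ) (x : Fin m → ℂ) (N : ℕ) (hN : 2 * m ≤ N)
    (ζ : ℂ) (hζ : IsPrimitiveRoot ζ N) (w : ℂ) (hw : w ≠ 0) :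
    ∑ s ∈ range N, (∑ i : Fin m, ∑ j : Fin m, ∑ k ∈ Finset.Ioo (-(m : ℤ)) (m : ℤ),
      (star (x i) * x j * t k) * (w * ζ ^ s) ^ (k + ((i : ℕ) : ℤ) - ((j : ℕ) : ℤ))) =
    (N : ℂ) * ∑ i : Fin m, ∑ j : Fin m, star (x i) * (t (((j : ℕ) : ℤ) - ((i : ℕ) : ℤ)) * x j) := by
  rw [Finset.sum_comm, Finset.mul_sum]
  apply Finset.sum_congr rfl; intro i _
  rw [Finset.sum_comm, Finset.mul_sum]
  apply Finset.sum_congr rfl; intro j _
  rw [Finset.sum_comm]
  have key : ∀ k ∈ Finset.Ioo (-(m : ℤ)) (m : ℤ),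
      ∑ s ∈ range N, (star (x i) * x j * t k) * (w * ζ ^ s) ^ (k + ((i : ℕ) : ℤ) - ((j : ℕ) : ℤ)) =
        if k = ((j : ℕ) : ℤ) - ((i : ℕ) : ℤ) then (star (x i) * x j * t k) * N else 0 := by
    intro k hk
    rw [mem_Ioo] at hk
    have hi := i.2
    have hj := j.2
    rw [← Finset.mul_sum, ortho N ζ hζ w hw _ (by rw [abs_lt]; constructor <;> omega)]
    by_cases h : k = ((j : ℕ) : ℤ) - ((i : ℕ) : ℤ)
    · rw [if_pos h, if_pos (by omega)]
    · rw [if_neg h, if_neg (by omega), mul_zero]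
  rw [Finset.sum_congr rfl key, Finset.sum_ite_eq']
  have hi := i.2
  have hj := j.2
  rw [if_pos (by rw [mem_Ioo]; constructor <;> omega)]
  ring

lemma nonvanish (m : ℕ) (x : Fin m → ℂ) (hx : x ≠ 0) (N : ℕ) (hN : m ≤ N)
    (ζ : ℂ) (hζ : IsPrimitiveRoot ζ N) (w : ℂ) (hw : w ≠ 0) :
    ∃ s ∈ range N, (∑ i : Fin m, star (x i) * (w * ζ ^ s) ^ (i : ℕ)) ≠ 0 := by
  by_contra hcon
  push Not at hcon
  apply hx
  let p : Polynomial ℂ := ∑ i : Fin m, Polynomial.C (star (x i)) * Polynomial.X ^ (i : ℕ)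
  have hdeg : p.degree < m := Polynomial.degree_sum_fin_lt _
  let S : Finset ℂ := (range N).image (fun s => w * ζ ^ s)
  have hcard : S.card = N := by
    rw [Finset.card_image_of_injOn, Finset.card_range]
    intro a ha b hb hab
    simp only [coe_range, Set.mem_Iio] at ha hb
    exact hζ.pow_inj ha hb (mul_left_cancel₀ hw hab)
  have hp : p = 0 := by
    apply Polynomial.eq_zero_of_degree_lt_of_eval_finset_eq_zero S
    · rw [hcard]; exact lt_of_lt_of_le hdeg (by exact_mod_cast hN)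
    · intro z hz
      obtain ⟨s, hs, rfl⟩ := Finset.mem_image.mp hz
      have := hcon s hs
      simp only [p, Polynomial.eval_finsetSum, Polynomial.eval_mul, Polynomial.eval_C,
        Polynomial.eval_pow, Polynomial.eval_X]
      exact this
  ext i
  have hc : p.coeff (i : ℕ) = star (x i) := by
    simp only [p, Polynomial.finsetSum_coeff, Polynomial.coeff_C_mul_X_pow]
    rw [Finset.sum_eq_single i]
    · simp
    · intro b _ hb
      rw [if_neg]
      intro h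
      exact hb (Fin.ext h.symm)
    · intro h; exact absurd (mem_univ _) h
  rw [hp, Polynomial.coeff_zero] at hc
  simpa using hc.symm

/-- Let A be an m × m complex Hermitian Toeplitz matrix, with entries A i j = t (j - i) constant along
diagonals, and let f(y) = Σ_{-m < k < m} t k · exp(i k y) be the trigonometric polynomial attached
to it. If f has positive real part at every real y outside a countable set, then A is positive
definite (hence nondegenerate). (The source also states the mirror case: f negative off a countable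
set gives A negative definite, which is this statement for -A.) -/
theorem result
    (m : ℕ) (t : ℤ → ℂ) (A : Matrix (Fin m) (Fin m) ℂ)
    (hA : ∀ i j : Fin m, A i j = t ((j : ℤ) - (i : ℤ))) (hH : A.IsHermitian)
    (hpos : Set.Countable {y : ℝ | ¬ 0 < (∑ k ∈ Finset.Ioo (-(m : ℤ)) (m : ℤ),
        t k * Complex.exp (Complex.I * (k : ℂ) * (y : ℂ))).re}) :
    A.PosDef := by
  refine Matrix.PosDef.of_dotProduct_mulVec_pos hH ?_
  intro x hx
  have hz : star x ⬝ᵥ (A.mulVec x) =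
      ∑ i : Fin m, ∑ j : Fin m, star (x i) * (t (((j : ℕ) : ℤ) - ((i : ℕ) : ℤ)) * x j) := by
    simp only [dotProduct, Matrix.mulVec, Pi.star_apply, Finset.mul_sum, hA]
  have him : (star x ⬝ᵥ (A.mulVec x)).im = 0 := hH.im_star_dotProduct_mulVec_self x
  rw [Complex.pos_iff, him]
  refine ⟨?_, rfl⟩
  -- parameters
  obtain ⟨N, hNdef⟩ : ∃ N : ℕ, N = 2 * m + 1 := ⟨_, rfl⟩
  have hN0 : N ≠ 0 := by omega
  obtain ⟨ζ, hζdef⟩ : ∃ ζ : ℂ, ζ = Complex.exp (2 * Real.pi * Complex.I / N) := ⟨_, rfl⟩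
  have hζ : IsPrimitiveRoot ζ N := hζdef ▸ Complex.isPrimitiveRoot_exp N hN0
  -- choice of θ
  obtain ⟨bad, hbad⟩ : ∃ bad : Set ℝ, bad = {y : ℝ | ¬ 0 < (∑ k ∈ Finset.Ioo (-(m : ℤ)) (m : ℤ),
        t k * Complex.exp (Complex.I * (k : ℂ) * (y : ℂ))).re} := ⟨_, rfl⟩
  rw [← hbad] at hpos
  have hU : (⋃ s ∈ (range N : Set ℕ), (fun y : ℝ => y - 2 * Real.pi * s / N) '' bad).Countable :=
    Set.Countable.biUnion (Finset.countable_toSet _) (fun s _ => hpos.image _)
  obtain ⟨θ, hθ⟩ : ∃ θ : ℝ, θ ∉ (⋃ s ∈ (range N : Set ℕ), (fun y : ℝ => y - 2 * Real.pi * s / N) '' bad) := by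
    by_contra hcon
    push Not at hcon
    exact Cardinal.not_countable_real (hU.mono (fun θ _ => hcon θ))
  have hgood : ∀ s ∈ range N, 0 < (∑ k ∈ Finset.Ioo (-(m : ℤ)) (m : ℤ),
        t k * Complex.exp (Complex.I * (k : ℂ) * ((θ + 2 * Real.pi * s / N : ℝ) : ℂ))).re := by
    intro s hs
    by_contra hcon
    apply hθ
    simp only [Set.mem_iUnion, Set.mem_image]
    refine ⟨s, by simpa using hs, θ + 2 * Real.pi * s / N, ?_, by ring⟩
    rw [hbad]
    exact hcon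
  obtain ⟨w, hwdef⟩ : ∃ w : ℂ, w = Complex.exp (Complex.I * θ) := ⟨_, rfl⟩
  have hw : w ≠ 0 := hwdef ▸ Complex.exp_ne_zero _
  have hu : ∀ s : ℕ, w * ζ ^ s = Complex.exp (((θ + 2 * Real.pi * s / N : ℝ) : ℂ) * Complex.I) := by
    intro s
    rw [hwdef, hζdef, ← Complex.exp_nat_mul, ← Complex.exp_add]
    congr 1
    push_cast
    ring
  have hunorm : ∀ s : ℕ, ‖w * ζ ^ s‖ = 1 := by
    intro s
    rw [hu, Complex.norm_exp_ofReal_mul_I]
  have hune : ∀ s : ℕ, w * ζ ^ s ≠ 0 := by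
    intro s h
    have := hunorm s
    rw [h, norm_zero] at this
    exact zero_ne_one this
  have hF : ∀ s : ℕ, (∑ k ∈ Finset.Ioo (-(m : ℤ)) (m : ℤ),
        t k * Complex.exp (Complex.I * (k : ℂ) * ((θ + 2 * Real.pi * s / N : ℝ) : ℂ))) =
      ∑ k ∈ Finset.Ioo (-(m : ℤ)) (m : ℤ), t k * (w * ζ ^ s) ^ k := by
    intro s
    apply Finset.sum_congr rfl
    intro k _
    rw [hu, ← Complex.exp_int_mul]
    congr 2
    ring
  have hconj : ∀ s : ℕ, (∑ j : Fin m, x j * (w * ζ ^ s) ^ (-((j : ℕ) : ℤ))) =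
      (starRingEnd ℂ) (∑ i : Fin m, star (x i) * (w * ζ ^ s) ^ (i : ℕ)) := by
    intro s
    rw [map_sum]
    apply Finset.sum_congr rfl
    intro j _
    rw [map_mul, map_pow, ← Complex.inv_eq_conj (hunorm s), zpow_neg, zpow_natCast, inv_pow]
    simp
  have hmain := dft m t x N (by omega) ζ hζ w hw
  simp_rw [← expand m t x _ (hune _), hconj, Complex.mul_conj] at hmain
  rw [← hz] at hmain
  have hre := congrArg Complex.re hmain
  rw [Complex.re_sum] at hre
  simp_rw [Complex.re_mul_ofReal] at hre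
  rw [show ((N : ℂ) * (star x ⬝ᵥ A.mulVec x)).re = N * (star x ⬝ᵥ A.mulVec x).re by
    rw [← Complex.ofReal_natCast, Complex.re_ofReal_mul]] at hre
  have hsum_pos : 0 < ∑ s ∈ range N, (∑ k ∈ Finset.Ioo (-(m : ℤ)) (m : ℤ), t k * (w * ζ ^ s) ^ k).re *
      Complex.normSq (∑ i : Fin m, star (x i) * (w * ζ ^ s) ^ (i : ℕ)) := by
    obtain ⟨s₀, hs₀, hne⟩ := nonvanish m x hx N (by omega) ζ hζ w hw
    apply Finset.sum_pos'
    · intro s hs
      have := hgood s hs
      rw [hF] at this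
      exact mul_nonneg this.le (Complex.normSq_nonneg _)
    · refine ⟨s₀, hs₀, ?_⟩
      have := hgood s₀ hs₀
      rw [hF] at this
      exact mul_pos this (Complex.normSq_pos.mpr hne)
  rw [hre] at hsum_pos
  have hNpos : (0 : ℝ) < N := by exact_mod_cast Nat.pos_of_ne_zero hN0
  exact (mul_pos_iff_of_pos_left hNpos).mp hsum_pos

end Groth.Agent.S19019
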