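import Groth.Statements.S19020
import Mathlib.Data.Nat.Choose.Vandermonde
import Mathlib.Tactic
import Mathlib.Algebra.Order.Star.Real
-- import your own Groth.Agent.* helpers here

set_option autoImplicit false
open Toeplitz

namespace Groth.Agent.S19020

open Finset

lemma vand (n d : ℕ) :
    ∑ a ∈ range (n + 1), n.choose a * n.choose (a + d) = (2 * n).choose (n + d) := by
  by_cases hd : n < d
  · rw [Nat.choose_eq_zero_of_lt (by omega : 2 * n < n + d)]
    apply Finset.sum_eq_zero
    intro a _
    rw [Nat.choose_eq_zero_of_lt (by omega : n < a + d), mul_zero]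
  · push Not at hd
    have h1 : (2 * n).choose (n + d) = (2 * n).choose (n - d) :=
      Nat.choose_symm_of_eq_add (by omega)
    rw [h1, two_mul, Nat.add_choose_eq, Finset.Nat.sum_antidiagonal_eq_sum_range_succ
      (fun i j => n.choose i * n.choose j)]
    have hsub : range (n - d + 1) ⊆ range (n + 1) := by
      intro a ha; rw [mem_range] at ha ⊢; omega
    rw [← Finset.sum_subset hsub]
    · apply Finset.sum_congr rfl
      intro a ha
      rw [mem_range] at ha
      congr 1
      exact Nat.choose_symm_of_eq_add (by omega)
    · intro a ha hna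
      rw [mem_range] at ha hna
      rw [Nat.choose_eq_zero_of_lt (by omega : n < a + d), mul_zero]


/-- the entries of the band matrix of `(1 - X)^n` -/
noncomputable def ell (n k i : ℕ) : ℝ :=
  if i ≤ k then (-1 : ℝ) ^ (k - i) * (n.choose (k - i) : ℝ) else 0

lemma entry (n m i j : ℕ) (hij : i ≤ j) (hj : j < m) :
    ∑ k ∈ range (m + n), ell n k i * ell n k j =
      (-1 : ℝ) ^ (i + j) * ((2 * n).choose (n + (j - i)) : ℝ) := by
  have hsub : (range (n + 1)).image (fun a => j + a) ⊆ range (m + n) := by
    intro k hk
    rw [mem_image] at hk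
    obtain ⟨a, ha, rfl⟩ := hk
    rw [mem_range] at ha ⊢
    omega
  rw [← Finset.sum_subset hsub]
  · rw [Finset.sum_image (fun a _ b _ h => by omega)]
    rw [← vand n (j - i), Nat.cast_sum, Finset.mul_sum]
    apply Finset.sum_congr rfl
    intro a _
    unfold ell
    rw [if_pos (by omega : i ≤ j + a), if_pos (by omega : j ≤ j + a)]
    have e1 : j + a - i = a + (j - i) := by omega
    have e2 : j + a - j = a := by omega
    rw [e1, e2, Nat.cast_mul]
    have e3 : (-1 : ℝ) ^ (a + (j - i)) * (-1 : ℝ) ^ a = (-1 : ℝ) ^ (i + j) := by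
      rw [← pow_add]
      have : a + (j - i) + a + 2 * i = i + j + 2 * a := by omega
      have h1 : (-1 : ℝ) ^ (a + (j - i) + a) = (-1 : ℝ) ^ (a + (j - i) + a + 2 * i) := by
        rw [pow_add _ _ (2 * i), pow_mul]; simp
      rw [h1, this, pow_add, pow_mul]; simp
    calc (-1 : ℝ) ^ (a + (j - i)) * (n.choose (a + (j - i)) : ℝ) * ((-1 : ℝ) ^ a * (n.choose a : ℝ))
        = ((-1 : ℝ) ^ (a + (j - i)) * (-1 : ℝ) ^ a) * ((n.choose a : ℝ) * (n.choose (a + (j - i)) : ℝ)) := by ring
      _ = _ := by rw [e3]
  · intro k hk hnk
    rw [mem_range] at hk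
    unfold ell
    by_cases hjk : j ≤ k
    · have hbig : n < k - j := by
        by_contra hcon
        push Not at hcon
        apply hnk
        rw [mem_image]
        exact ⟨k - j, by rw [mem_range]; omega, by omega⟩
      rw [if_pos hjk, Nat.choose_eq_zero_of_lt hbig]
      simp
    · rw [if_neg hjk, mul_zero]

/-- For natural numbers n and m, the m × m real Toeplitz matrix with (i, j) entry (-1)^(i+j) · C(2n, n +
|i - j|), i.e. with t_k = (-1)^k C(2n, n + k) on the k-th diagonal for |k| ≤ n and zero beyond, is
positive definite; in particular it is nondegenerate, which is the printed assertion (positive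
definiteness is what the printed proof establishes; m = 0 is the empty matrix). -/
theorem result (n m : ℕ) :
    (Matrix.of fun i j : Fin m =>
        (-1 : ℝ) ^ ((i : ℕ) + (j : ℕ)) * (Nat.choose (2 * n) (n + Nat.dist i j) : ℝ)).PosDef := by
  let L : Matrix (Fin (m + n)) (Fin m) ℝ := Matrix.of fun k i => ell n (k : ℕ) (i : ℕ)
  have hinj : Function.Injective L.mulVec := by
    show Function.Injective (Matrix.mulVecLin L)
    rw [injective_iff_map_eq_zero]
    intro v hv
    have hv' : L.mulVec v = 0 := hv
    have key : ∀ i : ℕ, ∀ hi : i < m, v ⟨i, hi⟩ = 0 := by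
      intro i
      induction i using Nat.strong_induction_on with
      | _ i ih =>
        intro hi
        have h1 := congrFun hv' ⟨i, by omega⟩
        simp only [Matrix.mulVec, dotProduct, Pi.zero_apply] at h1
        rw [Finset.sum_eq_single ⟨i, hi⟩] at h1
        · simpa [L, ell] using h1
        · intro b _ hb
          by_cases hbi : (b : ℕ) < i
          · rw [ih b hbi b.2]; simp
          · have : i < (b : ℕ) := by
              rcases Nat.lt_or_ge i b with h | h
              · exact h
              · exfalso; apply hb; ext; simp; omega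
            simp [L, ell, Nat.not_le.mpr this]
        · intro h; exact absurd (Finset.mem_univ _) h
    ext ⟨i, hi⟩
    exact key i hi
  have hpd := Matrix.PosDef.conjTranspose_mul_self L hinj
  convert hpd using 1
  ext i j
  rw [Matrix.conjTranspose_eq_transpose_of_trivial, Matrix.mul_apply]
  simp only [Matrix.transpose_apply, Matrix.of_apply, L]
  rw [Fin.sum_univ_eq_sum_range (fun k => ell n k i * ell n k j) (m + n)]
  rcases le_total (i : ℕ) (j : ℕ) with hij | hij
  · rw [entry n m i j hij j.2, Nat.dist_eq_sub_of_le hij]
  · have := entry n m j i hij i.2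
    rw [Nat.dist_eq_sub_of_le_right hij, add_comm (i : ℕ), ← this]
    apply Finset.sum_congr rfl
    intro k _
    ring

end Groth.Agent.S19020
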