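import Groth.Statements.S19021
import Groth.Agent.S19020
import Mathlib.Tactic
import Mathlib.LinearAlgebra.Matrix.ToLinearEquiv
-- import your own Groth.Agent.* helpers here

set_option autoImplicit false
open Toeplitz

namespace Groth.Agent.S19021

lemma pascal1 (n d : ℕ) :
    (2 * n + 1).choose (n + 1 + d) + (2 * n + 1).choose (n + d) = (2 * (n + 1)).choose (n + 1 + d) := by
  have : 2 * (n + 1) = (2 * n + 1) + 1 := by ring
  rw [this, show n + 1 + d = (n + d) + 1 by ring, Nat.choose_succ_succ (2 * n + 1) (n + d), add_comm]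

lemma sym0 (n : ℕ) : (2 * n + 1).choose n = (2 * n + 1).choose (n + 1) := by
  exact Nat.choose_symm_of_eq_add (by ring)

/-- For natural numbers n and m, the m × m integer Toeplitz matrix with (i, j) entry (-1)^(i+j) ·
C(2n+1, n+1+i-j) (the binomial coefficient being 0 outside the range 0 ≤ n+1+i-j ≤ 2n+1;
equivalently s_k = (-1)^k C(2n+1, n+k+1) on the diagonal i - j = k for -n-1 ≤ k ≤ n and zero beyond)
is nondegenerate: its determinant is nonzero (m = 0 is the empty matrix, of determinant 1). -/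
theorem result (n m : ℕ) :
    (Matrix.of fun i j : Fin m =>
        (-1 : ℤ) ^ ((i : ℕ) + (j : ℕ)) *
          (if (j : ℕ) ≤ (i : ℕ) then (Nat.choose (2 * n + 1) (n + 1 + ((i : ℕ) - (j : ℕ))) : ℤ)
            else (Nat.choose (2 * n + 1) (n + ((j : ℕ) - (i : ℕ))) : ℤ))).det ≠ 0 := by
  intro hdet
  obtain ⟨A, hA⟩ : ∃ A : Matrix (Fin m) (Fin m) ℤ, A = (Matrix.of fun i j : Fin m =>
        (-1 : ℤ) ^ ((i : ℕ) + (j : ℕ)) *
          (if (j : ℕ) ≤ (i : ℕ) then (Nat.choose (2 * n + 1) (n + 1 + ((i : ℕ) - (j : ℕ))) : ℤ)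
            else (Nat.choose (2 * n + 1) (n + ((j : ℕ) - (i : ℕ))) : ℤ))) := ⟨_, rfl⟩
  rw [← hA] at hdet
  let B : Matrix (Fin m) (Fin m) ℝ := A.map (Int.castRingHom ℝ)
  have hB : B.det = 0 := by
    have := (RingHom.map_det (Int.castRingHom ℝ) A).symm
    rw [show B.det = ((Int.castRingHom ℝ).mapMatrix A).det from rfl, this, hdet]; simp
  obtain ⟨v, hv0, hv⟩ := Matrix.exists_mulVec_eq_zero_iff.mpr hB
  have hT := Groth.Agent.S19020.result (n + 1) m
  have hsum : B + B.transpose = (Matrix.of fun i j : Fin m =>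
        (-1 : ℝ) ^ ((i : ℕ) + (j : ℕ)) * (Nat.choose (2 * (n + 1)) (n + 1 + Nat.dist i j) : ℝ)) := by
    ext i j
    simp only [Matrix.add_apply, Matrix.transpose_apply, Matrix.of_apply, B, hA, Matrix.map_apply,
      Int.coe_castRingHom]
    rcases lt_trichotomy (i : ℕ) (j : ℕ) with h | h | h
    · rw [if_neg (by omega), if_pos (by omega), Nat.dist_eq_sub_of_le h.le]
      rw [← pascal1 n (j - i)]
      push_cast
      rw [add_comm (j : ℕ) (i : ℕ)]
      ring
    · rw [if_pos (by omega), if_pos (by omega), h, Nat.dist_self, Nat.sub_self]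
      rw [← pascal1 n 0, ← sym0 n]
      push_cast
      simp only [add_zero]
      rw [sym0 n]
      ring
    · rw [if_pos (by omega), if_neg (by omega), Nat.dist_eq_sub_of_le_right h.le]
      rw [← pascal1 n (i - j)]
      push_cast
      rw [add_comm (j : ℕ) (i : ℕ)]
      ring
  rw [← hsum] at hT
  have hpos := hT.dotProduct_mulVec_pos hv0
  simp only [star_trivial] at hpos
  rw [Matrix.add_mulVec, dotProduct_add, hv, dotProduct_zero, zero_add,
    Matrix.mulVec_transpose, dotProduct_comm, ← Matrix.dotProduct_mulVec, hv, dotProduct_zero] at hpos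
  exact lt_irrefl _ hpos

end Groth.Agent.S19021
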