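import Groth.Statements.S19022
-- import your own Groth.Agent.* helpers here
import Groth.Agent.Lib.Helper29.IntegInv

set_option autoImplicit false
universe u
open CategoryTheory AlgebraicGeometry
open PicF

namespace Groth.Agent.S19022

/-- Let X be a scheme, L an invertible O_X-module and T a finite set of closed points of X that lies in
some affine open of X. Then T lies in an affine open U of X on which L is trivial (L restricted to U
is isomorphic to the structure sheaf). (The source states this for a smooth quasi-projective complex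
surface, where every finite set of points lies in an affine open, and phrases it as: X^n and the
symmetric product S^n X are covered by the opens U^n and S^n U with U affine and L trivial on U; the
printed argument uses only that the finitely many points lie in one affine open, which is taken as
the hypothesis here.) -/
theorem result
    (X : Scheme.{u}) (L : X.Modules) (hL : PicF.IsInvertible L)
    (T : Finset X) (hT : ∀ x ∈ T, IsClosed ({x} : Set X))
    (hU : ∃ U : X.Opens, IsAffineOpen U ∧ ∀ x ∈ T, x ∈ U) :
    ∃ U : X.Opens, IsAffineOpen U ∧ (∀ x ∈ T, x ∈ U) ∧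
      Nonempty (L.restrict U.ι ≅ Coh.structureModule (↑U : Scheme.{u})) := by
  open Groth.Agent.Lib.Helper29.QCoh in
  obtain ⟨U₀, hU₀, hTU₀⟩ := hU
  have : IsAffine (U₀ : Scheme.{u}) := hU₀
  have hL₀ := isInvertible_restrict U₀.ι hL
  have hfin : (U₀.ι ⁻¹' (T : Set X)).Finite :=
    T.finite_toSet.preimage U₀.ι.isEmbedding.injective.injOn
  obtain ⟨s, hsaff, hTs, -⟩ := exists_affine_genLocus_of_isQuasiAffine hL₀ ⊤
    (U₀.ι ⁻¹' (T : Set X)) hfin (fun _ _ => trivial)
  refine ⟨U₀.ι ''ᵁ CohB1.genLocus _ s, hsaff.image_of_isOpenImmersion U₀.ι, fun x hx => ?_, ?_⟩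
  · exact ⟨⟨x, hTU₀ x hx⟩, hTs (show U₀.ι ⟨x, hTU₀ x hx⟩ ∈ (T : Set X) from hx), rfl⟩
  · exact nonempty_iso_unit_of_restrict_restrict U₀ (CohB1.genLocus _ s)
      ⟨restrictIsoUnitOfLeGenLocus s le_rfl⟩

end Groth.Agent.S19022
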