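import Groth.Statements.S19025
import Mathlib

set_option autoImplicit false
universe u
open HigherRestr

namespace Groth.Agent.S19025

theorem iter_congr {S : Type*} [CommRing S] (M : ℕ) : ∀ (f f' : ℕ → S) (n : ℕ),
    (∀ k ≤ M, f (n + k) = f' (n + k)) → (fwdDiff (1 : ℕ))^[M] f n = (fwdDiff (1 : ℕ))^[M] f' n := by
  induction M with
  | zero =>
    intro f f' n h
    simpa using h 0 le_rfl
  | succ M ih =>
    intro f f' n h
    rw [Function.iterate_succ_apply, Function.iterate_succ_apply]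
    apply ih
    intro k hk
    simp only [fwdDiff]
    rw [h k (by omega), show n + k + 1 = n + (k + 1) by ring, h (k + 1) (by omega)]

theorem rec_step {S : Type*} [CommRing S] (g₀ g₁ : S) (M : ℕ) (y : ℕ → S) :
    (fwdDiff (1 : ℕ))^[M + 1] (fun j : ℕ => g₀ ^ (M + 1 - j) * g₁ ^ j * y j) 0 =
      g₀ * (fwdDiff (1 : ℕ))^[M] (fun j : ℕ => g₀ ^ (M - j) * g₁ ^ j * (fwdDiff (1 : ℕ) y) j) 0 +
      (g₁ - g₀) * (fwdDiff (1 : ℕ))^[M] (fun j : ℕ => g₀ ^ (M - j) * g₁ ^ j * y (j + 1)) 0 := by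
  rw [Function.iterate_succ_apply]
  have h1 := iter_congr M
    (fwdDiff (1 : ℕ) (fun j : ℕ => g₀ ^ (M + 1 - j) * g₁ ^ j * y j))
    (g₀ • (fun j : ℕ => g₀ ^ (M - j) * g₁ ^ j * (fwdDiff (1 : ℕ) y) j) +
      (g₁ - g₀) • (fun j : ℕ => g₀ ^ (M - j) * g₁ ^ j * y (j + 1))) 0 (by
    intro k hk
    simp only [fwdDiff, zero_add, Pi.add_apply, Pi.smul_apply, smul_eq_mul]
    rw [show M + 1 - (k + 1) = M - k by omega, show M + 1 - k = (M - k) + 1 by omega]
    ring)
  rw [h1, fwdDiff_iter_add, fwdDiff_iter_const_smul, fwdDiff_iter_const_smul]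
  simp only [Pi.add_apply, Pi.smul_apply, smul_eq_mul]

theorem claim2 {S : Type*} [CommRing S] (I : Ideal S) (g₀ g₁ : S) (hg : g₁ - g₀ ∈ I) (N : ℕ) :
    ∀ (s : ℕ) (w : ℕ → S), (∀ i ≤ N, (fwdDiff (1 : ℕ))^[N - i] w i ∈ I ^ (N - i + s)) →
      (fwdDiff (1 : ℕ))^[N] (fun j : ℕ => g₀ ^ (N - j) * g₁ ^ j * w j) 0 ∈ I ^ (N + s) := by
  induction N with
  | zero =>
    intro s w h
    simpa using h 0 le_rfl
  | succ M ih =>
    intro s w h
    rw [rec_step]
    apply Ideal.add_mem
    · apply Ideal.mul_mem_left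
      have := ih (s + 1) (fwdDiff (1 : ℕ) w) (by
        intro i hi
        have := h i (by omega)
        rw [show M + 1 - i = (M - i) + 1 by omega, Function.iterate_succ_apply] at this
        rwa [show M - i + (s + 1) = M - i + 1 + s by ring])
      rwa [show M + (s + 1) = M + 1 + s by ring] at this
    · have := ih s (fun j => w (j + 1)) (by
        intro i hi
        have := h (i + 1) (by omega)
        rw [show M + 1 - (i + 1) = M - i by omega] at this
        rw [fwdDiff_iter_comp_add]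
        exact this)
      rw [show M + 1 + s = (M + s) + 1 by ring, pow_succ']
      exact Ideal.mul_mem_mul hg this

theorem claim1 {S : Type*} [CommRing S] (I : Ideal S) (g₀ g₁ : S) (hg : g₁ - g₀ ∈ I) (N : ℕ) :
    ∀ (s : ℕ) (y : ℕ → S), (∀ i, 1 ≤ i → i ≤ N → (fwdDiff (1 : ℕ))^[N - i] y i ∈ I ^ (N - i + s)) →
      g₀ ^ N * (fwdDiff (1 : ℕ))^[N] y 0 -
        (fwdDiff (1 : ℕ))^[N] (fun j : ℕ => g₀ ^ (N - j) * g₁ ^ j * y j) 0 ∈ I ^ (N + s) := by
  induction N with
  | zero =>
    intro s y _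
    simp
  | succ M ih =>
    intro s y h
    rw [rec_step]
    have e : g₀ ^ (M + 1) * (fwdDiff (1 : ℕ))^[M + 1] y 0 -
        (g₀ * (fwdDiff (1 : ℕ))^[M] (fun j : ℕ => g₀ ^ (M - j) * g₁ ^ j * (fwdDiff (1 : ℕ) y) j) 0 +
        (g₁ - g₀) * (fwdDiff (1 : ℕ))^[M] (fun j : ℕ => g₀ ^ (M - j) * g₁ ^ j * y (j + 1)) 0) =
        g₀ * (g₀ ^ M * (fwdDiff (1 : ℕ))^[M] (fwdDiff (1 : ℕ) y) 0 -
          (fwdDiff (1 : ℕ))^[M] (fun j : ℕ => g₀ ^ (M - j) * g₁ ^ j * (fwdDiff (1 : ℕ) y) j) 0) -
        (g₁ - g₀) * (fwdDiff (1 : ℕ))^[M] (fun j : ℕ => g₀ ^ (M - j) * g₁ ^ j * y (j + 1)) 0 := by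
      rw [Function.iterate_succ_apply]
      ring
    rw [e]
    apply Ideal.sub_mem
    · apply Ideal.mul_mem_left
      have := ih (s + 1) (fwdDiff (1 : ℕ) y) (by
        intro i hi1 hi
        have := h i hi1 (by omega)
        rw [show M + 1 - i = (M - i) + 1 by omega, Function.iterate_succ_apply] at this
        rwa [show M - i + (s + 1) = M - i + 1 + s by ring])
      rwa [show M + (s + 1) = M + 1 + s by ring] at this
    · have := claim2 I g₀ g₁ hg M s (fun j => y (j + 1)) (by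
        intro i hi
        have := h (i + 1) (by omega) (by omega)
        rw [show M + 1 - (i + 1) = M - i by omega] at this
        rw [fwdDiff_iter_comp_add]
        exact this)
      rw [show M + 1 + s = (M + s) + 1 by ring, pow_succ']
      exact Ideal.mul_mem_mul hg this

/-- In abstract form, the estimate its proof establishes. Let S be a commutative ring, I an ideal of S,
g₀ and g₁ elements with g₁ - g₀ ∈ I, N a natural number and y a sequence in S such that, for 1 ≤ i ≤
N, the (N-i)-fold unit-step forward difference of y taken at i lies in I^(N-i). Then g₀^N times the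
N-fold forward difference of y at 0, minus the N-fold forward difference at 0 of the twisted
sequence j ↦ g₀^(N-j) g₁^j y_j, lies in I^N. (In the source S is the ring of functions on an affine
chart of X^n, I the ideal of a pairwise diagonal, g₀ and g₁ the two pullbacks of a transition unit
of L, and y_j the components x_λ along the compositions a₀^(N-j) a₁^j μ; the estimate is what makes
the higher order restrictions D^l_L well defined on ker D^(l-1)_L independently of the
trivialisation.) -/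
theorem result
    (S : Type u) [CommRing S] (I : Ideal S) (g₀ g₁ : S) (hg : g₁ - g₀ ∈ I)
    (N : ℕ) (y : ℕ → S)
    (hy : ∀ i : ℕ, 1 ≤ i → i ≤ N → (fwdDiff (1 : ℕ))^[N - i] y i ∈ I ^ (N - i)) :
    g₀ ^ N * (fwdDiff (1 : ℕ))^[N] y 0 -
        (fwdDiff (1 : ℕ))^[N] (fun j : ℕ => g₀ ^ (N - j) * g₁ ^ j * y j) 0 ∈ I ^ N := by
  have := claim1 I g₀ g₁ hg N 0 y (by
    intro i hi1 hi
    simpa using hy i hi1 hi)
  simpa using this

end Groth.Agent.S19025
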