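import Groth.Statements.S19035
import Mathlib

set_option autoImplicit false
universe u v w x
open CAlg

namespace Groth.Agent.S19035

/-- Let p be a prime and k a perfect field of characteristic p. Let (A_i) be a directed system of
finitely generated commutative k-algebras, indexed by a nonempty directed preorder, with compatible
k-algebra transition maps, and let B be a finitely generated k-algebra with compatible k-algebra
maps A_i → B which present B as the direct limit of the system (every element of B is the image of
an element of some A_i, and two elements of some A_i with the same image in B have the same image in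
some A_j). Then the p-typical Witt vectors commute with this direct limit: every Witt vector over B
is the image of a Witt vector over some A_i, and two Witt vectors over some A_i with the same image
over B already have the same image over some A_j. (Both finiteness hypotheses matter: for an
arbitrary filtered direct limit of commutative rings either assertion can fail.) -/
theorem result
    (p : ℕ) [Fact p.Prime] (k : Type u) [Field k] [CharP k p] [PerfectRing k p]
    {ι : Type v} [Preorder ι] [IsDirected ι (· ≤ ·)] [Nonempty ι]
    (A : ι → Type w) [∀ i, CommRing (A i)] [∀ i, Algebra k (A i)]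
    [∀ i, Algebra.FiniteType k (A i)]
    (f : ∀ i j, i ≤ j → (A i →ₐ[k] A j))
    (hf : ∀ i j l (hij : i ≤ j) (hjl : j ≤ l) (x : A i),
      f j l hjl (f i j hij x) = f i l (hij.trans hjl) x)
    (B : Type x) [CommRing B] [Algebra k B] [Algebra.FiniteType k B]
    (g : ∀ i, A i →ₐ[k] B)
    (hfg : ∀ i j (hij : i ≤ j) (x : A i), g j (f i j hij x) = g i x)
    (hsurj : ∀ b : B, ∃ i, ∃ x : A i, g i x = b)
    (hinj : ∀ i (x y : A i), g i x = g i y → ∃ j, ∃ hij : i ≤ j, f i j hij x = f i j hij y) :
    (∀ w : WittVector p B, ∃ i, ∃ v : WittVector p (A i),
        WittVector.map (g i).toRingHom v = w) ∧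
    (∀ i (v v' : WittVector p (A i)),
        WittVector.map (g i).toRingHom v = WittVector.map (g i).toRingHom v' →
        ∃ j, ∃ hij : i ≤ j,
          WittVector.map (f i j hij).toRingHom v = WittVector.map (f i j hij).toRingHom v') := by
  classical
  -- directedness for finite families
  have hdir : ∀ (s : Finset ι), ∃ j, ∀ i ∈ s, i ≤ j := by
    intro s
    induction s using Finset.induction_on with
    | empty => exact ⟨Classical.arbitrary ι, by simp⟩
    | insert a s _ ih =>
      obtain ⟨j, hj⟩ := ih
      obtain ⟨l, hal, hjl⟩ := directed_of (· ≤ ·) a j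
      refine ⟨l, fun i hi => ?_⟩
      rcases Finset.mem_insert.mp hi with rfl | hi
      · exact hal
      · exact (hj i hi).trans hjl
  refine ⟨fun w => ?_, fun i v v' hvv => ?_⟩
  · -- surjectivity
    obtain ⟨s, hs⟩ := (Algebra.FiniteType.out : (⊤ : Subalgebra k B).FG)
    choose idx xs hxs using hsurj
    obtain ⟨j, hj⟩ := hdir (s.image idx)
    have hrange : (⊤ : Subalgebra k B) ≤ (g j).range := by
      rw [← hs]
      refine Algebra.adjoin_le ?_
      intro b hb
      have hle : idx b ≤ j := hj _ (Finset.mem_image_of_mem idx hb)
      exact ⟨f (idx b) j hle (xs b), by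
        show g j (f (idx b) j hle (xs b)) = b
        rw [hfg, hxs]⟩
    have hsj : Function.Surjective (g j).toRingHom := by
      intro b
      obtain ⟨a, ha⟩ := hrange (Algebra.mem_top : b ∈ (⊤ : Subalgebra k B))
      exact ⟨a, ha⟩
    obtain ⟨v, hv⟩ := WittVector.map_surjective (g j).toRingHom hsj w
    exact ⟨j, v, hv⟩
  · -- injectivity
    have hNoeth : IsNoetherianRing (A i) := Algebra.FiniteType.isNoetherianRing k (A i)
    obtain ⟨s, hs⟩ := (isNoetherianRing_iff_ideal_fg (A i)).mp hNoeth (RingHom.ker (g i).toRingHom)
    have hker : ∀ c ∈ s, ∃ j, ∃ hij : i ≤ j, f i j hij c = 0 := by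
      intro c hc
      have hc' : c ∈ RingHom.ker (g i).toRingHom := by
        rw [← hs]; exact Ideal.subset_span hc
      have h0 : g i c = g i 0 := by
        rw [map_zero]; exact hc'
      obtain ⟨j, hij, hj⟩ := hinj i c 0 h0
      exact ⟨j, hij, by rw [hj, map_zero]⟩
    choose! js hjs hfs using hker
    obtain ⟨j, hj⟩ := hdir (insert i (s.image js))
    have hij : i ≤ j := hj i (Finset.mem_insert_self _ _)
    have hkill : RingHom.ker (g i).toRingHom ≤ RingHom.ker (f i j hij).toRingHom := by
      rw [← hs, Ideal.span_le]
      intro c hc
      have hle : js c ≤ j := hj _ (Finset.mem_insert_of_mem (Finset.mem_image_of_mem js hc))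
      have h1 : f (js c) j hle (f i (js c) (hjs c hc) c) = f i j hij c := by
        rw [hf]
      show (f i j hij) c = 0
      rw [← h1, hfs c hc, map_zero]
    refine ⟨j, hij, ?_⟩
    ext n
    rw [WittVector.map_coeff, WittVector.map_coeff]
    have hn : g i (v.coeff n) = g i (v'.coeff n) := by
      have := congrArg (fun w => w.coeff n) hvv
      simpa [WittVector.map_coeff] using this
    have hmem : v.coeff n - v'.coeff n ∈ RingHom.ker (g i).toRingHom := by
      show g i (v.coeff n - v'.coeff n) = 0
      rw [map_sub, hn, sub_self]
    have := hkill hmem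
    have h2 : (f i j hij) (v.coeff n - v'.coeff n) = 0 := this
    rw [map_sub, sub_eq_zero] at h2
    exact h2

end Groth.Agent.S19035
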