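import Groth.Statements.S19037
import Mathlib

set_option autoImplicit false
universe u v
open scoped Polynomial LaurentPolynomial
open Instab

namespace Groth.Agent.S19037

theorem result
    {R : Type u} {A : Type v} [CommRing R] [CommRing A] [Algebra R A]
    (𝒜 : ℤ → Submodule R A) [GradedAlgebra 𝒜] (t : A) (ht : t ∈ 𝒜 (-1))
    (ψ : Localization.Away t →ₐ[R] R[T;T⁻¹])
    (hψt : ψ (algebraMap A (Localization.Away t) t) = LaurentPolynomial.T 1)
    (hψ : ∀ (n : ℤ) (a : A), a ∈ 𝒜 n →
      ∃ r : R, ψ (algebraMap A (Localization.Away t) a) = LaurentPolynomial.C r * LaurentPolynomial.T (-n)) :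
    (∃! χ : A →ₐ[R] R[X], ∀ a : A,
        ψ (algebraMap A (Localization.Away t) a) = Polynomial.toLaurentAlg (χ a)) ↔
      ∀ a ∈ 𝒜 1, ψ (algebraMap A (Localization.Away t) (t * a)) = 0 := by
  classical
  constructor
  · rintro ⟨χ, hχ, -⟩ a ha
    obtain ⟨r, hr⟩ := hψ 1 a ha
    rw [map_mul, map_mul, hψt, hr]
    have h1 : (Polynomial.toLaurent (χ a * Polynomial.X) : R[T;T⁻¹]) = Polynomial.toLaurent (Polynomial.C r) := by
      rw [map_mul, Polynomial.toLaurent_X, Polynomial.toLaurent_C, ← Polynomial.toLaurentAlg_apply,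
        ← hχ a, hr, mul_assoc, ← LaurentPolynomial.T_add]
      simp
    have h2 := Polynomial.toLaurent_injective h1
    have h3 : r = 0 := by
      have := congrArg (fun p => Polynomial.coeff p 0) h2
      simpa using this.symm
    rw [h3]; simp
  · intro H
    let f : A →ₐ[R] R[T;T⁻¹] := ψ.comp (IsScalarTower.toAlgHom R A (Localization.Away t))
    have hf : ∀ a, f a = ψ (algebraMap A (Localization.Away t) a) := fun a => rfl
    have hft : f t = LaurentPolynomial.T 1 := hψt
    -- positive degrees are killed
    have hpos : ∀ (n : ℤ), 1 ≤ n → ∀ a ∈ 𝒜 n, f a = 0 := by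
      intro n hn a ha
      have hk : t ^ (n - 1).toNat ∈ 𝒜 ((n - 1).toNat • (-1 : ℤ)) := SetLike.pow_mem_graded _ ht
      have hm : t ^ (n - 1).toNat * a ∈ 𝒜 ((n - 1).toNat • (-1 : ℤ) + n) := SetLike.mul_mem_graded hk ha
      have he : (n - 1).toNat • (-1 : ℤ) + n = 1 := by
        have : ((n - 1).toNat : ℤ) = n - 1 := Int.toNat_of_nonneg (by omega)
        rw [nsmul_eq_mul, this]; ring
      rw [he] at hm
      have h0 := H _ hm
      rw [← hf, map_mul, map_mul, map_pow, hft] at h0
      have hu : IsUnit (LaurentPolynomial.T 1 * LaurentPolynomial.T 1 ^ (n - 1).toNat : R[T;T⁻¹]) :=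
        (LaurentPolynomial.isUnit_T 1).mul ((LaurentPolynomial.isUnit_T 1).pow _)
      rw [← mul_assoc] at h0
      exact (hu.mul_right_eq_zero).mp h0
    -- all values are in the range of toLaurentAlg
    have hrange : ∀ a, f a ∈ (Polynomial.toLaurentAlg (R := R)).range := by
      intro a
      induction a using DirectSum.Decomposition.inductionOn 𝒜 with
      | zero => simp
      | homogeneous m =>
        rename_i i
        by_cases hi : 1 ≤ i
        · rw [hpos i hi _ m.2]; exact Subalgebra.zero_mem _
        · obtain ⟨r, hr⟩ := hψ i m m.2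
          refine ⟨Polynomial.monomial (-i).toNat r, ?_⟩
          show Polynomial.toLaurentAlg (Polynomial.monomial (-i).toNat r) = f m
          rw [Polynomial.toLaurentAlg_apply, Polynomial.toLaurent_C_mul_T, hf, hr]
          congr 2
          exact Int.toNat_of_nonneg (by omega)
      | add m m' h h' => rw [map_add]; exact Subalgebra.add_mem _ h h'
    have hinj : Function.Injective (Polynomial.toLaurentAlg (R := R)) := by
      intro p q h
      rw [Polynomial.toLaurentAlg_apply, Polynomial.toLaurentAlg_apply] at h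
      exact Polynomial.toLaurent_injective h
    let e := AlgEquiv.ofInjective (Polynomial.toLaurentAlg (R := R)) hinj
    let χ : A →ₐ[R] R[X] := (e.symm : _ →ₐ[R] R[X]).comp (f.codRestrict _ hrange)
    have hχ : ∀ a, f a = Polynomial.toLaurentAlg (χ a) := by
      intro a
      have h1 : (e (χ a) : R[T;T⁻¹]) = f a := by
        show (e (e.symm (f.codRestrict _ hrange a)) : R[T;T⁻¹]) = f a
        rw [AlgEquiv.apply_symm_apply]; rfl
      rw [← h1]; rfl
    refine ⟨χ, hχ, ?_⟩
    intro χ' h'
    apply AlgHom.ext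
    intro a
    apply hinj
    rw [← hχ a, ← h' a, hf]
end Groth.Agent.S19037
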