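import Groth.Statements.S19043
import Groth.Agent.Lib.Helper14.GcMod

set_option autoImplicit false
universe u
open Dieu

namespace Groth.Agent.S19043

open W4c6eohyperellchar2 Groth.Agent.Lib.Helper14.Gc

/-- Let `k` be a perfect field of characteristic `2` and `c` a natural number, and let `M` be the
explicit `2c`-dimensional `k`-space on `X_1, …, X_c, Y_1, …, Y_c` with its operators `F` and `V` (`F
Y_j = 0`; `F X_j = X_{j/2}` for `j` even and `Y_{c-(j-1)/2}` for `j` odd; `V Y_j = Y_{2j}` when `2j
≤ c`, else `0`; `V X_j = Y_{2c-2j+1}` when `2j > c`, else `0`). The classes of the `X_j` with `c <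
2j ≤ 2c` in the quotient of `M` by the `k`-span of `F(M) ∪ V(M)` are linearly independent and span
that quotient. (Stated over any perfect field of characteristic `2`; the source works over an
algebraically closed one.) -/
theorem result (c : ℕ) (k : Type u) [Field k] [CharP k 2] [PerfectRing k 2] :
    LinearIndependent k (fun j : {j : ℕ // c < 2 * j ∧ j ≤ c} =>
        Submodule.mkQ (Submodule.span k (Set.range (W4c6eohyperellchar2.F c k) ∪ Set.range (W4c6eohyperellchar2.V c k))) (W4c6eohyperellchar2.X c k j.1)) ∧
      Submodule.span k (Set.range (fun j : {j : ℕ // c < 2 * j ∧ j ≤ c} =>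
        Submodule.mkQ (Submodule.span k (Set.range (W4c6eohyperellchar2.F c k) ∪ Set.range (W4c6eohyperellchar2.V c k))) (W4c6eohyperellchar2.X c k j.1))) = ⊤ := by
  set W := Submodule.span k (Set.range (F c k) ∪ Set.range (V c k)) with hW
  constructor
  · apply LinearIndependent.of_comp (W.liftQ (topProj c k) (span_le_ker c k))
    let g : {j : ℕ // c < 2 * j ∧ j ≤ c} → Fin c := fun j => ⟨j.1 - 1, by have := j.2; omega⟩
    have hg : Function.Injective g := by
      intro a b hab
      have := congrArg Fin.val hab
      simp only [g] at this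
      have ha := a.2
      have hb := b.2
      exact Subtype.ext (by omega)
    have := ((Pi.basisFun k (Fin c)).linearIndependent).comp g hg
    have e : (⇑(W.liftQ (topProj c k) (span_le_ker c k)) ∘
        fun j : {j : ℕ // c < 2 * j ∧ j ≤ c} => W.mkQ (X c k j.1)) =
        ⇑(Pi.basisFun k (Fin c)) ∘ g := by
      ext j i
      simp only [Function.comp_apply, Submodule.mkQ_apply, Submodule.liftQ_apply, topProj_apply,
        Pi.basisFun_apply, X, g]
      have hj := j.2
      by_cases h : i.val + 1 = j.1
      · have : i = ⟨j.1 - 1, by omega⟩ := Fin.ext (by simp; omega)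
        rw [if_pos (by omega), if_pos h, Pi.single_apply, if_pos this]
      · have : i ≠ ⟨j.1 - 1, by omega⟩ := fun e => h (by rw [e]; simp; omega)
        rw [Pi.single_apply, if_neg this, if_neg h]
        simp
    rw [e]
    exact this
  · rw [eq_top_iff]
    rintro q -
    obtain ⟨v, rfl⟩ := W.mkQ_surjective q
    rw [eq_sum c k v, map_add, map_sum, map_sum]
    refine Submodule.add_mem _ (Submodule.sum_mem _ fun i _ => ?_) (Submodule.sum_mem _ fun i _ => ?_)
    · rw [map_smul]
      refine Submodule.smul_mem _ _ ?_
      by_cases h : c < 2 * (i.val + 1)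
      · exact Submodule.subset_span ⟨⟨i.val + 1, h, by omega⟩, rfl⟩
      · have : X c k (i.val + 1) ∈ W := by
          rw [← F_X_even c k (i.val + 1) (by omega)]
          exact Submodule.subset_span (Or.inl ⟨_, rfl⟩)
        rw [Submodule.mkQ_apply, (Submodule.Quotient.mk_eq_zero W).2 this]
        exact Submodule.zero_mem _
    · rw [map_smul]
      refine Submodule.smul_mem _ _ ?_
      have : Y c k (i.val + 1) ∈ W := by
        rcases Nat.even_or_odd' (i.val + 1) with ⟨t, ht | ht⟩
        · rw [ht, ← V_Y c k t (by omega) (by omega)]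
          exact Submodule.subset_span (Or.inr ⟨_, rfl⟩)
        · have e : 2 * c - 2 * (c - t) + 1 = i.val + 1 := by omega
          rw [← e, ← V_X c k (c - t) (by omega) (by omega)]
          exact Submodule.subset_span (Or.inr ⟨_, rfl⟩)
      rw [Submodule.mkQ_apply, (Submodule.Quotient.mk_eq_zero W).2 this]
      exact Submodule.zero_mem _

end Groth.Agent.S19043
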