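import Groth.Statements.S19044
import Mathlib
import Groth.Agent.Lib.Helper2.FunFld.HC7
import Groth.Agent.Lib.Helper2.FunFld.HY1
import Groth.Agent.Lib.Helper2.Tate.GD4

set_option autoImplicit false
universe u v w
open FunFld

namespace Groth.Agent.S19044
open Groth.Agent.Lib.Helper2.HY Groth.Agent.Lib.Helper2.Tate Groth.Agent.Lib.Helper2.FF Groth.Agent.Lib.Helper2.HC
open Groth.Agent.Lib.Helper2.ASG Groth.Agent.Lib.Helper26.FunFldRatPlace
open scoped KaehlerDifferential

/-- Let `k` be algebraically closed of characteristic `2` and `K = k(x, y)` with `y² + y = f(x)`, `K`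
separable of degree `2` over `k(x)`; let `B ⊆ k` be a finite set containing `0` such that `f` has a
pole of odd order `d_α` at `x = α` for every `α ∈ B` and is integral at all other places of `k(x)`
(so also at infinity), and put `c_α = (d_α - 1)/2`. Then the differentials `z dx` with `z = (x -
α)^{-(j+1)}` (`α ∈ B`, `1 ≤ j ≤ c_α`) and `z = α/(x(x-α))` (`α ∈ B`, `α ≠ 0`) are regular, this
family of `z` is linearly independent over `k`, and every `z` with `z dx` regular is a `k`-linear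
combination of them; regularity is read through Laurent expansions over `k` at every place of `K`.
(Up to sign these are the forms `x_α^{j-1} dx_α` and `x_α^{-1} dx_α - x_0^{-1} dx_0` with `x_α = (x
- α)^{-1}`.) -/
theorem result (k : Type u) (K : Type v)
    [Field k] [IsAlgClosed k] [CharP k 2] [Field K] [Algebra k K] [Algebra (RatFunc k) K] [IsScalarTower k (RatFunc k) K]
    (hK : FunFld.IsFunctionField k K) (hdeg : Module.finrank (RatFunc k) K = 2) [Algebra.IsSeparable (RatFunc k) K]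
    (y : K) (hy : y ∉ Set.range (algebraMap (RatFunc k) K)) (f : RatFunc k)
    (heq : y ^ 2 + y = algebraMap (RatFunc k) K f)
    (B : Finset k) (h0 : (0 : k) ∈ B) (d : k → ℕ) (hd : ∀ α ∈ B, Odd (d α))
    (hpole : ∀ (p : FunFld.Place k (RatFunc k)) (α : k), α ∈ B →
      p.1 ((RatFunc.X : RatFunc k) - RatFunc.C α) < 1 → p.ord f = -(d α : ℤ))
    (hint : ∀ p : FunFld.Place k (RatFunc k), (∀ α ∈ B, 1 ≤ p.1 ((RatFunc.X : RatFunc k) - RatFunc.C α)) → p.1 f ≤ 1)
    (F : FunFld.Place k K → Type w) [∀ P, Field (F P)] [∀ P, Algebra k (F P)] [∀ P, FiniteDimensional k (F P)]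
    (φ : ∀ P, K →ₐ[k] LaurentSeries (F P)) (hφ : ∀ P, LocRes.IsExpansionAt P.1 (φ P)) :
    (∀ i P, LocRes.vDiff (φ P) ((Sum.elim
        (fun a : {a : ↥B × ℕ // 1 ≤ a.2 ∧ 2 * a.2 + 1 ≤ d (a.1 : k)} => algebraMap (RatFunc k) K (((RatFunc.X : RatFunc k) - RatFunc.C (a.1.1 : k))⁻¹ ^ (a.1.2 + 1)))
        (fun b : {b : ↥B // (b : k) ≠ 0} => algebraMap (RatFunc k) K (RatFunc.C (b.1 : k) / ((RatFunc.X : RatFunc k) * ((RatFunc.X : RatFunc k) - RatFunc.C (b.1 : k)))))) i) (algebraMap (RatFunc k) K RatFunc.X) ≤ 1) ∧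
    LinearIndependent k (Sum.elim
        (fun a : {a : ↥B × ℕ // 1 ≤ a.2 ∧ 2 * a.2 + 1 ≤ d (a.1 : k)} => algebraMap (RatFunc k) K (((RatFunc.X : RatFunc k) - RatFunc.C (a.1.1 : k))⁻¹ ^ (a.1.2 + 1)))
        (fun b : {b : ↥B // (b : k) ≠ 0} => algebraMap (RatFunc k) K (RatFunc.C (b.1 : k) / ((RatFunc.X : RatFunc k) * ((RatFunc.X : RatFunc k) - RatFunc.C (b.1 : k)))))) ∧
    ∀ z : K, (∀ P, LocRes.vDiff (φ P) z (algebraMap (RatFunc k) K RatFunc.X) ≤ 1) →
      z ∈ Submodule.span k (Set.range (Sum.elim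
        (fun a : {a : ↥B × ℕ // 1 ≤ a.2 ∧ 2 * a.2 + 1 ≤ d (a.1 : k)} => algebraMap (RatFunc k) K (((RatFunc.X : RatFunc k) - RatFunc.C (a.1.1 : k))⁻¹ ^ (a.1.2 + 1)))
        (fun b : {b : ↥B // (b : k) ≠ 0} => algebraMap (RatFunc k) K (RatFunc.C (b.1 : k) / ((RatFunc.X : RatFunc k) * ((RatFunc.X : RatFunc k) - RatFunc.C (b.1 : k))))))) := by
  classical
  haveI : FiniteDimensional (RatFunc k) K := Module.finite_of_finrank_pos (by omega)
  have hK0 : IsFunctionField k (RatFunc k) := isFunctionField_ratFunc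
  set x : K := algebraMap (RatFunc k) K RatFunc.X with hx
  have hf0 : f ≠ 0 := f_ne_zero hy heq
  -- the family
  have hfam : (Sum.elim
        (fun a : {a : ↥B × ℕ // 1 ≤ a.2 ∧ 2 * a.2 + 1 ≤ d (a.1 : k)} => algebraMap (RatFunc k) K (((RatFunc.X : RatFunc k) - RatFunc.C (a.1.1 : k))⁻¹ ^ (a.1.2 + 1)))
        (fun b : {b : ↥B // (b : k) ≠ 0} => algebraMap (RatFunc k) K (RatFunc.C (b.1 : k) / ((RatFunc.X : RatFunc k) * ((RatFunc.X : RatFunc k) - RatFunc.C (b.1 : k)))))) =
      (algebraMap (RatFunc k) K) ∘ fam₀ B d := by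
    funext i
    rcases i with a | b <;> rfl
  rw [hfam]
  -- genus and canonical divisor
  have hodd' : ∀ p : FunFld.Place k (RatFunc k), p.ord f < 0 → Odd (p.ord f) := by
    intro p hp
    by_cases hex : ∃ α ∈ B, p.1 ((RatFunc.X : RatFunc k) - RatFunc.C α) < 1
    · obtain ⟨α, hα, hpα⟩ := hex
      rw [hpole p α hα hpα]
      exact (Odd.natCast (hd α hα)).neg
    · push Not at hex
      have := hint p hex
      rw [v_le_one_iff p hf0] at this
      omega
  have hgen := genus_artinSchreier (ringChar.eq k 2) hK hdeg hy heq hodd'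
  rw [deg_ramDiv_eq_sum hd hpole hint hf0] at hgen
  have hcard : Nat.card (I1 B d ⊕ I2 B) = genus k K := by
    have := card_index (d := d) h0 hd
    rw [← hgen] at this
    exact_mod_cast this
  have hfr : Module.finrank K (Ω[K⁄k]) = 1 := finrank_kaehler
  have hdx : KaehlerDifferential.D k K x ≠ 0 := D_X_ne_zero
  obtain ⟨C, -, hCcan, hCv⟩ := exists_divisor_dv hK hfr hφ hdx
  have hell : ell C = genus k K := ell_canonical hK hCcan
  have hreg : ∀ i P, LocRes.vDiff (φ P) ((algebraMap (RatFunc k) K ∘ fam₀ B d) i) x ≤ 1 := by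
    intro i P
    unfold LocRes.vDiff
    rw [map_mul, (hφ P).1]
    exact vDiff_fam_le_one hdeg hy heq h0 hd hpole hint (hφ P) i
  have hli : LinearIndependent k (algebraMap (RatFunc k) K ∘ fam₀ B d) := by
    have h1 := (linearIndependent_fam₀ B d).map' (IsScalarTower.toAlgHom k (RatFunc k) K).toLinearMap
      (LinearMap.ker_eq_bot.2 (algebraMap (RatFunc k) K).injective)
    exact h1
  refine ⟨hreg, hli, ?_⟩
  intro z hz
  have hset := setOf_vDiff_le_eq hφ hCv 0
  have hmemL : ∀ w : K, (∀ P, LocRes.vDiff (φ P) w x ≤ 1) → w ∈ L C := by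
    intro w hw
    have : w ∈ {y : K | ∀ P, LocRes.vDiff (φ P) y x ≤ WithZero.exp (-((0 : Divisor k K) P))} := by
      intro P
      simpa using hw P
    rw [hset, sub_zero] at this
    exact this
  have hzL : z ∈ L C := hmemL z hz
  haveI : FiniteDimensional k (L C) := finiteDimensional_L hK C
  haveI : Fintype (I1 B d ⊕ I2 B) := Fintype.ofFinite _
  let b : I1 B d ⊕ I2 B → L C := fun i => ⟨(algebraMap (RatFunc k) K ∘ fam₀ B d) i, hmemL _ (hreg i)⟩
  have hbli : LinearIndependent k b := by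
    apply LinearIndependent.of_comp (L C).subtype
    exact hli
  have hcard' : Fintype.card (I1 B d ⊕ I2 B) = Module.finrank k (L C) := by
    rw [← Nat.card_eq_fintype_card, hcard]
    exact hell.symm
  have hspan := hbli.span_eq_top_of_card_eq_finrank' hcard'
  have hzmem : (⟨z, hzL⟩ : L C) ∈ Submodule.span k (Set.range b) := by
    rw [hspan]; exact Submodule.mem_top
  have hmap := Submodule.mem_map_of_mem (f := (L C).subtype) hzmem
  rw [Submodule.map_span, ← Set.range_comp] at hmap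
  exact hmap

end Groth.Agent.S19044
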