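import Groth.Statements.S19045
import Mathlib
import Groth.Agent.Lib.Helper2.FunFld.HC1
import Groth.Agent.Lib.Helper2.FunFld.Exists

set_option autoImplicit false
universe u v
open FunFld

namespace Groth.Agent.S19045
open Groth.Agent.Lib.Helper2.HY Groth.Agent.Lib.Helper2.FF Groth.Agent.Lib.Helper2.HC
open Groth.Agent.Lib.Helper2.ASG Groth.Agent.Lib.Helper26.FunFldRatPlace

/-- Let `k` be algebraically closed of characteristic `2` and `K = k(x, y)` with `y² + y = f(x)`, `K`
separable of degree `2` over `k(x)`; let `B ⊆ k` be a finite set containing `0` such that `f` has a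
pole of odd order `d_β` at `x = β` for every `β ∈ B` and is integral at all other places of `k(x)`.
Then `y` is integral at the places of `K` above `x = ∞` and has order `0` at one of them, and for `α
∈ B` and `j ∈ ℤ` the divisor of poles of `y (x - α)^j` consists of: order `max(d_α - 2j, 0)` at the
place above `α`, order exactly `d_β` above every other `β ∈ B`, order `max(j - ord_P y, 0)` at each
place `P` above `∞`, and nothing elsewhere. -/
theorem result (k : Type u) (K : Type v)
    [Field k] [IsAlgClosed k] [CharP k 2] [Field K] [Algebra k K] [Algebra (RatFunc k) K] [IsScalarTower k (RatFunc k) K]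
    (hK : FunFld.IsFunctionField k K) (hdeg : Module.finrank (RatFunc k) K = 2) [Algebra.IsSeparable (RatFunc k) K]
    (y : K) (hy : y ∉ Set.range (algebraMap (RatFunc k) K)) (f : RatFunc k)
    (heq : y ^ 2 + y = algebraMap (RatFunc k) K f)
    (B : Finset k) (h0 : (0 : k) ∈ B) (d : k → ℕ) (hd : ∀ β ∈ B, Odd (d β))
    (hpole : ∀ (p : FunFld.Place k (RatFunc k)) (β : k), β ∈ B →
      p.1 ((RatFunc.X : RatFunc k) - RatFunc.C β) < 1 → p.ord f = -(d β : ℤ))
    (hint : ∀ p : FunFld.Place k (RatFunc k), (∀ β ∈ B, 1 ≤ p.1 ((RatFunc.X : RatFunc k) - RatFunc.C β)) → p.1 f ≤ 1) :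
    (∀ P : FunFld.Place k K, 1 < P.1 (algebraMap (RatFunc k) K RatFunc.X) → 0 ≤ P.ord y) ∧
    (∃ P : FunFld.Place k K, 1 < P.1 (algebraMap (RatFunc k) K RatFunc.X) ∧ P.ord y = 0) ∧
    ∀ (α : k), α ∈ B → ∀ (j : ℤ) (P : FunFld.Place k K),
      (P.1 ((algebraMap (RatFunc k) K RatFunc.X) - (algebraMap k K α)) < 1 →
        max (-(P.ord (y * ((algebraMap (RatFunc k) K RatFunc.X) - (algebraMap k K α)) ^ j))) 0 = max ((d α : ℤ) - 2 * j) 0) ∧
      (∀ β : k, β ∈ B → β ≠ α → P.1 ((algebraMap (RatFunc k) K RatFunc.X) - (algebraMap k K β)) < 1 →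
        P.ord (y * ((algebraMap (RatFunc k) K RatFunc.X) - (algebraMap k K α)) ^ j) = -(d β : ℤ)) ∧
      (1 < P.1 (algebraMap (RatFunc k) K RatFunc.X) → max (-(P.ord (y * ((algebraMap (RatFunc k) K RatFunc.X) - (algebraMap k K α)) ^ j))) 0 = max (j - P.ord y) 0) ∧
      (P.1 (algebraMap (RatFunc k) K RatFunc.X) ≤ 1 → (∀ β : k, β ∈ B → 1 ≤ P.1 ((algebraMap (RatFunc k) K RatFunc.X) - (algebraMap k K β))) → 0 ≤ P.ord (y * ((algebraMap (RatFunc k) K RatFunc.X) - (algebraMap k K α)) ^ j)) := by
  classical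
  haveI : FiniteDimensional (RatFunc k) K := Module.finite_of_finrank_pos (by omega)
  have hK0 : IsFunctionField k (RatFunc k) := isFunctionField_ratFunc
  haveI : CharP (RatFunc k) 2 :=
    charP_of_injective_algebraMap (algebraMap k (RatFunc k)).injective 2
  set x : K := algebraMap (RatFunc k) K RatFunc.X with hx
  have hX0 : (RatFunc.X : RatFunc k) ≠ 0 := RatFunc.X_ne_zero
  have hy0 : y ≠ 0 := by
    rintro rfl
    exact hy ⟨0, map_zero _⟩
  have hxt : Transcendental k x := transcendental_X
  -- valuation of x - α at a pole of x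
  have hinfv : ∀ (P : FunFld.Place k K) (α : k), 1 < P.1 x → P.1 (x - algebraMap k K α) = P.1 x := by
    intro P α hP
    rw [sub_eq_add_neg]
    apply Valuation.map_add_eq_of_lt_left
    rw [Valuation.map_neg]
    exact lt_of_le_of_lt (P.2.1 α) hP
  have hinf : ∀ P : FunFld.Place k K, 1 < P.1 x →
      ∀ β ∈ B, 1 ≤ P.1 (x - algebraMap k K β) := by
    intro P hP β _
    rw [hinfv P β hP]
    exact hP.le
  have hsub_ne : ∀ α : k, x - algebraMap k K α ≠ 0 := by
    intro α h0
    apply hxt
    rw [sub_eq_zero] at h0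
    rw [h0]
    exact isAlgebraic_algebraMap α
  refine ⟨?_, ?_, ?_⟩
  · intro P hP
    rw [← v_le_one_iff P hy0]
    exact (not_pole hdeg hy heq hint (hinf P hP)).1
  · obtain ⟨P₁, hP₁⟩ := exists_place_one_lt hK hxt
    have hle := (not_pole hdeg hy heq hint (hinf P₁ hP₁)).1
    rcases eq_or_lt_of_le hle with h1 | h1
    · refine ⟨P₁, hP₁, ?_⟩
      rw [ord_eq_iff P₁ hy0]
      simpa using h1
    · obtain ⟨σ, hσ⟩ := exists_conj hdeg hy heq
      refine ⟨comapPlace (σ.restrictScalars k) P₁, ?_, ?_⟩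
      · change 1 < P₁.1 (σ x)
        rw [hx, σ.commutes]
        exact hP₁
      · rw [ord_eq_iff _ hy0]
        change P₁.1 (σ y) = _
        rw [hσ, neg_zero, WithZero.exp_zero]
        have : P₁.1 (y + 1) = P₁.1 (1 : K) :=
          Valuation.map_add_eq_of_lt_right P₁.1 (show P₁.1 y < P₁.1 (1 : K) by rw [map_one]; exact h1)
        rw [this, map_one]
  · intro α hα j P
    have hpow_ne : (x - algebraMap k K α) ^ j ≠ 0 := zpow_ne_zero _ (hsub_ne α)
    have hord : P.ord (y * (x - algebraMap k K α) ^ j) =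
        P.ord y + j * P.ord (x - algebraMap k K α) := by
      rw [ord_mul P hy0 hpow_ne, ord_zpow]
    refine ⟨?_, ?_, ?_, ?_⟩
    · intro hP
      obtain ⟨p, he, hp, hpf, hvx, hvy⟩ := over_pole hdeg hy heq hd hpole hα hP
      have h1 : P.ord y = -(d α : ℤ) := by
        rw [ord_eq_iff P hy0, neg_neg]; exact hvy
      have h2 : P.ord (x - algebraMap k K α) = 2 := by
        rw [ord_eq_iff P (hsub_ne α)]; exact hvx
      rw [hord, h1, h2]
      congr 1
      ring
    · intro β hβ hβα hP
      obtain ⟨p, he, hp, hpf, hvx, hvy⟩ := over_pole hdeg hy heq hd hpole hβ hP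
      have h1 : P.ord y = -(d β : ℤ) := by
        rw [ord_eq_iff P hy0, neg_neg]; exact hvy
      have h2 : P.ord (x - algebraMap k K α) = 0 := by
        rw [ord_eq_iff P (hsub_ne α), neg_zero, WithZero.exp_zero]
        have h3 : x - algebraMap k K α = (x - algebraMap k K β) + algebraMap k K (β - α) := by
          rw [map_sub]; ring
        have h4 : P.1 (algebraMap k K (β - α)) = 1 := v_algebraMap P (sub_ne_zero.2 hβα)
        rw [h3, Valuation.map_add_eq_of_lt_right _ (by rw [h4]; exact hP), h4]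
      rw [hord, h1, h2]
      ring
    · intro hP
      obtain ⟨-, p, he⟩ := not_pole hdeg hy heq hint (hinf P hP)
      have hPx : P.1 x = p.1 RatFunc.X := by rw [hx, he, pow_one]
      have hp' : p.ord (RatFunc.X : RatFunc k) < 0 := by
        rw [← one_lt_v_iff p hX0, ← hPx]; exact hP
      have hpX : p.1 (RatFunc.X : RatFunc k) = WithZero.exp (1 : ℤ) := by
        rw [v_eq_exp_neg_ord p hX0, ord_X_inf p hp']; rfl
      have h2 : P.ord (x - algebraMap k K α) = -1 := by
        rw [ord_eq_iff P (hsub_ne α), hinfv P α hP, hPx, hpX]; rfl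
      rw [hord, h2]
      congr 1
      ring
    · intro hP1 hP2
      have hle := (not_pole hdeg hy heq hint hP2).1
      have h2 : P.ord (x - algebraMap k K α) = 0 := by
        rw [ord_eq_iff P (hsub_ne α), neg_zero, WithZero.exp_zero]
        refine le_antisymm ?_ (hP2 α hα)
        exact (Valuation.map_sub _ _ _).trans (max_le hP1 (P.2.1 α))
      rw [hord, h2, mul_zero, add_zero, ← v_le_one_iff P hy0]
      exact hle

end Groth.Agent.S19045
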