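import Groth.Statements.S19046
import Mathlib
import Groth.Agent.Lib.Helper2.FunFld.HC11
import Groth.Agent.Lib.Helper2.FunFld.HC7
import Groth.Agent.Lib.Helper2.FunFld.H1

set_option autoImplicit false
universe u v
open Classical
open FunFld

namespace Groth.Agent.S19046
open Groth.Agent.Lib.Helper2.HY Groth.Agent.Lib.Helper2.FF Groth.Agent.Lib.Helper2.HC
open Groth.Agent.Lib.Helper2.ASG Groth.Agent.Lib.Helper26.FunFldRatPlace Groth.Agent.Lib.Helper2.RelDim

/-- Let `k` be algebraically closed of characteristic `2`, `K = k(x, y)` with `y² + y = f(x)` separable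
of degree `2` over `k(x)`, `B ⊆ k` a finite set containing `0` with `f` having a pole of odd order
`d_β` at `x = β` for `β ∈ B` and integral elsewhere, `c_β = (d_β - 1)/2`, and `P_β` a place of `K`
above `x = β`. Identify `H¹(X, O)` of the smooth projective model with the repartitions (adeles with
components in `K`) modulo `W = A(0) + K` (everywhere-integral repartitions plus constants), a Čech
class with defining component `h` at `β` corresponding to the repartition with component `h` at
`P_β` and `0` elsewhere. Then the repartitions supported at `P_α` with value `y (x - α)^j` (`α ∈ B`,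
`1 ≤ j ≤ c_α`) and with value `y` (`α ∈ B`, `α ≠ 0`) are adeles whose classes modulo `W` are
linearly independent over `k` and, together with `W`, span the adeles: they give a basis of `H¹(X,
O)`. -/
theorem result (k : Type u) (K : Type v)
    [Field k] [IsAlgClosed k] [CharP k 2] [Field K] [Algebra k K] [Algebra (RatFunc k) K] [IsScalarTower k (RatFunc k) K]
    (hK : FunFld.IsFunctionField k K) (hdeg : Module.finrank (RatFunc k) K = 2) [Algebra.IsSeparable (RatFunc k) K]
    (y : K) (hy : y ∉ Set.range (algebraMap (RatFunc k) K)) (f : RatFunc k)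
    (heq : y ^ 2 + y = algebraMap (RatFunc k) K f)
    (B : Finset k) (h0 : (0 : k) ∈ B) (d : k → ℕ) (hd : ∀ β ∈ B, Odd (d β))
    (hpole : ∀ (p : FunFld.Place k (RatFunc k)) (β : k), β ∈ B →
      p.1 ((RatFunc.X : RatFunc k) - RatFunc.C β) < 1 → p.ord f = -(d β : ℤ))
    (hint : ∀ p : FunFld.Place k (RatFunc k), (∀ β ∈ B, 1 ≤ p.1 ((RatFunc.X : RatFunc k) - RatFunc.C β)) → p.1 f ≤ 1)
    (Pl : k → FunFld.Place k K) (hPl : ∀ β ∈ B, (Pl β).1 ((algebraMap (RatFunc k) K RatFunc.X) - (algebraMap k K β)) < 1) :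
    (∀ i, (Sum.elim
        (fun a : {a : ↥B × ℕ // 1 ≤ a.2 ∧ 2 * a.2 + 1 ≤ d (a.1 : k)} =>
          (Pi.single (Pl (a.1.1 : k)) (y * ((algebraMap (RatFunc k) K RatFunc.X) - (algebraMap k K (a.1.1 : k))) ^ a.1.2) : FunFld.Place k K → K))
        (fun b : {b : ↥B // (b : k) ≠ 0} => (Pi.single (Pl (b.1 : k)) y : FunFld.Place k K → K))) i ∈ FunFld.adele k K) ∧
    LinearIndependent k (fun i => Submodule.mkQ (FunFld.AD (0 : FunFld.Divisor k K) ⊔ LinearMap.range (FunFld.diag k K)) ((Sum.elim
        (fun a : {a : ↥B × ℕ // 1 ≤ a.2 ∧ 2 * a.2 + 1 ≤ d (a.1 : k)} =>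
          (Pi.single (Pl (a.1.1 : k)) (y * ((algebraMap (RatFunc k) K RatFunc.X) - (algebraMap k K (a.1.1 : k))) ^ a.1.2) : FunFld.Place k K → K))
        (fun b : {b : ↥B // (b : k) ≠ 0} => (Pi.single (Pl (b.1 : k)) y : FunFld.Place k K → K))) i)) ∧
    ∀ a : FunFld.Place k K → K, a ∈ FunFld.adele k K →
      a ∈ (FunFld.AD (0 : FunFld.Divisor k K) ⊔ LinearMap.range (FunFld.diag k K)) ⊔ Submodule.span k (Set.range (Sum.elim
        (fun a : {a : ↥B × ℕ // 1 ≤ a.2 ∧ 2 * a.2 + 1 ≤ d (a.1 : k)} =>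
          (Pi.single (Pl (a.1.1 : k)) (y * ((algebraMap (RatFunc k) K RatFunc.X) - (algebraMap k K (a.1.1 : k))) ^ a.1.2) : FunFld.Place k K → K))
        (fun b : {b : ↥B // (b : k) ≠ 0} => (Pi.single (Pl (b.1 : k)) y : FunFld.Place k K → K)))) := by
  haveI : FiniteDimensional (RatFunc k) K := Module.finite_of_finrank_pos (by omega)
  have hf0 : f ≠ 0 := f_ne_zero hy heq
  have hfam : (Sum.elim
        (fun a : {a : ↥B × ℕ // 1 ≤ a.2 ∧ 2 * a.2 + 1 ≤ d (a.1 : k)} =>
          (Pi.single (Pl (a.1.1 : k)) (y * ((algebraMap (RatFunc k) K RatFunc.X) - (algebraMap k K (a.1.1 : k))) ^ a.1.2) : FunFld.Place k K → K))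
        (fun b : {b : ↥B // (b : k) ≠ 0} => (Pi.single (Pl (b.1 : k)) y : FunFld.Place k K → K))) =
      famA y B d Pl := by
    funext i
    rcases i with a | b <;> rfl
  rw [hfam]
  have hmemA : ∀ i, famA y B d Pl i ∈ adele k K := by
    intro i
    rw [famA_eq]
    exact single_mem_adele _ _
  have hli : LinearIndependent k (fun i => Submodule.mkQ
      (FunFld.AD (0 : FunFld.Divisor k K) ⊔ LinearMap.range (FunFld.diag k K))
      (famA y B d Pl i)) := by
    rw [linearIndependent_iff']
    intro s c hsum i hi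
    have hmem : ∑ i ∈ s, c i • famA y B d Pl i ∈
        FunFld.AD (0 : FunFld.Divisor k K) ⊔ LinearMap.range (FunFld.diag k K) := by
      rw [← Submodule.Quotient.mk_eq_zero, ← Submodule.mkQ_apply, map_sum]
      simpa only [map_smul] using hsum
    exact coeff_eq_zero_of_mem hK hdeg hy heq h0 hd hpole hPl s c hmem i hi
  refine ⟨hmemA, hli, ?_⟩
  -- the dimension of the quotient
  obtain ⟨h1, h2⟩ := finIdx_adele hK (0 : Divisor k K)
  have hd0 : delta (0 : Divisor k K) = 0 := by
    unfold delta; rw [ell_zero hK, deg_zero]; simp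
  rw [hd0, sub_zero] at h2
  haveI hfd : FiniteDimensional k (↥(adele k K) ⧸ ADK (0 : Divisor k K)) := h1
  have hfr : Module.finrank k (↥(adele k K) ⧸ ADK (0 : Divisor k K)) = genus k K := by
    exact_mod_cast h2
  -- the genus
  have hodd' : ∀ p : FunFld.Place k (RatFunc k), p.ord f < 0 → Odd (p.ord f) := by
    intro p hp
    by_cases hex : ∃ α ∈ B, p.1 ((RatFunc.X : RatFunc k) - RatFunc.C α) < 1
    · obtain ⟨α, hα, hpα⟩ := hex
      rw [hpole p α hα hpα]
      exact (Odd.natCast (hd α hα)).neg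
    · push Not at hex
      have := hint p hex
      rw [v_le_one_iff p hf0] at this
      omega
  have hgen := genus_artinSchreier (ringChar.eq k 2) hK hdeg hy heq hodd'
  rw [deg_ramDiv_eq_sum hd hpole hint hf0] at hgen
  have hcard : Nat.card (I1 B d ⊕ I2 B) = genus k K := by
    have := card_index (d := d) h0 hd
    rw [← hgen] at this
    exact_mod_cast this
  haveI : Fintype (I1 B d ⊕ I2 B) := Fintype.ofFinite _
  let b : I1 B d ⊕ I2 B → (↥(adele k K) ⧸ ADK (0 : Divisor k K)) :=
    fun i => (ADK (0 : Divisor k K)).mkQ ⟨famA y B d Pl i, hmemA i⟩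
  have hbli : LinearIndependent k b := by
    rw [linearIndependent_iff']
    intro s c hsum i hi
    have h3 : (ADK (0 : Divisor k K)).mkQ
        (∑ i ∈ s, c i • (⟨famA y B d Pl i, hmemA i⟩ : adele k K)) = 0 := by
      rw [map_sum]
      simpa only [map_smul] using hsum
    rw [Submodule.mkQ_apply, Submodule.Quotient.mk_eq_zero] at h3
    have h4 : ((∑ i ∈ s, c i • (⟨famA y B d Pl i, hmemA i⟩ : adele k K) : adele k K) :
        Place k K → K) ∈
        FunFld.AD (0 : FunFld.Divisor k K) ⊔ LinearMap.range (FunFld.diag k K) := h3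
    have hmem : ∑ i ∈ s, c i • famA y B d Pl i ∈
        FunFld.AD (0 : FunFld.Divisor k K) ⊔ LinearMap.range (FunFld.diag k K) := by
      simpa only [Submodule.coe_sum, Submodule.coe_smul] using h4
    exact coeff_eq_zero_of_mem hK hdeg hy heq h0 hd hpole hPl s c hmem i hi
  have hcard' : Fintype.card (I1 B d ⊕ I2 B) =
      Module.finrank k (↥(adele k K) ⧸ ADK (0 : Divisor k K)) := by
    rw [← Nat.card_eq_fintype_card, hcard, hfr]
  have hspan := hbli.span_eq_top_of_card_eq_finrank' hcard'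
  intro a ha
  have hamem : (ADK (0 : Divisor k K)).mkQ ⟨a, ha⟩ ∈ Submodule.span k (Set.range b) := by
    rw [hspan]; exact Submodule.mem_top
  obtain ⟨c, hc⟩ := (Submodule.mem_span_range_iff_exists_fun k).1 hamem
  have h5 : (⟨a, ha⟩ : adele k K) - ∑ i, c i • (⟨famA y B d Pl i, hmemA i⟩ : adele k K) ∈
      ADK (0 : Divisor k K) := by
    rw [← Submodule.Quotient.mk_eq_zero, ← Submodule.mkQ_apply, map_sub, map_sum, sub_eq_zero,
      ← hc]
    refine Finset.sum_congr rfl fun i _ => ?_
    rw [map_smul]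
  have h6 : (((⟨a, ha⟩ : adele k K) - ∑ i, c i • (⟨famA y B d Pl i, hmemA i⟩ : adele k K) :
      adele k K) : Place k K → K) ∈
      FunFld.AD (0 : FunFld.Divisor k K) ⊔ LinearMap.range (FunFld.diag k K) := h5
  have h7 : a - ∑ i, c i • famA y B d Pl i ∈
      FunFld.AD (0 : FunFld.Divisor k K) ⊔ LinearMap.range (FunFld.diag k K) := by
    simpa only [Submodule.coe_sub, Submodule.coe_sum, Submodule.coe_smul] using h6
  rw [Submodule.mem_sup]
  refine ⟨a - ∑ i, c i • famA y B d Pl i, h7, ∑ i, c i • famA y B d Pl i, ?_, by abel⟩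
  exact Submodule.sum_mem _ fun i _ =>
    Submodule.smul_mem _ _ (Submodule.subset_span ⟨i, rfl⟩)

end Groth.Agent.S19046
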