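import Groth.Statements.S19047
import Mathlib
import Groth.Agent.Lib.Helper2.FunFld.HC2

set_option autoImplicit false
universe u v
open Classical
open FunFld

namespace Groth.Agent.S19047
open Groth.Agent.Lib.Helper2.HY Groth.Agent.Lib.Helper2.FF Groth.Agent.Lib.Helper2.HC
open Groth.Agent.Lib.Helper2.ASG Groth.Agent.Lib.Helper26.FunFldRatPlace

/-- Let `k` be algebraically closed of characteristic `2`, `K = k(x, y)` with `y² + y = f(x)` separable
of degree `2` over `k(x)`, `B ⊆ k` a finite set containing `0` with `f` having a pole of odd order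
`d_β` at `x = β` for `β ∈ B` and integral elsewhere, `c_β = (d_β - 1)/2`, and `P_β` a place of `K`
above `x = β`. With `H¹(X, O)` of the smooth projective model written as repartitions modulo `W =
A(0) + K` (everywhere-integral repartitions plus constants) and its Frobenius induced by
componentwise squaring, for `α ∈ B` and `j ≥ 0`: the Frobenius of the class of the repartition
supported at `P_α` with value `y (x - α)^j` is the class of the one with value `y (x - α)^{2j}` when
`2j ≤ c_α`, and is `0` when `2j > c_α`. -/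
theorem result (k : Type u) (K : Type v)
    [Field k] [IsAlgClosed k] [CharP k 2] [Field K] [Algebra k K] [Algebra (RatFunc k) K] [IsScalarTower k (RatFunc k) K]
    (hK : FunFld.IsFunctionField k K) (hdeg : Module.finrank (RatFunc k) K = 2) [Algebra.IsSeparable (RatFunc k) K]
    (y : K) (hy : y ∉ Set.range (algebraMap (RatFunc k) K)) (f : RatFunc k)
    (heq : y ^ 2 + y = algebraMap (RatFunc k) K f)
    (B : Finset k) (h0 : (0 : k) ∈ B) (d : k → ℕ) (hd : ∀ β ∈ B, Odd (d β))
    (hpole : ∀ (p : FunFld.Place k (RatFunc k)) (β : k), β ∈ B →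
      p.1 ((RatFunc.X : RatFunc k) - RatFunc.C β) < 1 → p.ord f = -(d β : ℤ))
    (hint : ∀ p : FunFld.Place k (RatFunc k), (∀ β ∈ B, 1 ≤ p.1 ((RatFunc.X : RatFunc k) - RatFunc.C β)) → p.1 f ≤ 1)
    (Pl : k → FunFld.Place k K) (hPl : ∀ β ∈ B, (Pl β).1 ((algebraMap (RatFunc k) K RatFunc.X) - (algebraMap k K β)) < 1)
    (α : k) (hα : α ∈ B) (j : ℕ) :
    (4 * j + 1 ≤ d α → (Pi.single (Pl α) ((y * ((algebraMap (RatFunc k) K RatFunc.X) - (algebraMap k K α)) ^ j) ^ 2) : FunFld.Place k K → K) - (Pi.single (Pl α) (y * ((algebraMap (RatFunc k) K RatFunc.X) - (algebraMap k K α)) ^ (2 * j)) : FunFld.Place k K → K) ∈ (FunFld.AD (0 : FunFld.Divisor k K) ⊔ LinearMap.range (FunFld.diag k K))) ∧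
    (d α < 4 * j + 1 → (Pi.single (Pl α) ((y * ((algebraMap (RatFunc k) K RatFunc.X) - (algebraMap k K α)) ^ j) ^ 2) : FunFld.Place k K → K) ∈ (FunFld.AD (0 : FunFld.Divisor k K) ⊔ LinearMap.range (FunFld.diag k K))) := by
  haveI : FiniteDimensional (RatFunc k) K := Module.finite_of_finrank_pos (by omega)
  have hK0 : IsFunctionField k (RatFunc k) := isFunctionField_ratFunc
  have hg0 : genus k (RatFunc k) = 0 :=
    ((genus_zero_iff hK0).2 ⟨RatFunc.X, RatFunc.adjoin_X⟩).1
  haveI : CharP K 2 := charP_of_injective_algebraMap (algebraMap k K).injective 2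
  set x : K := algebraMap (RatFunc k) K RatFunc.X with hx
  have hf0 : f ≠ 0 := f_ne_zero hy heq
  obtain ⟨p, he, hp, hpf, hvx, hvy⟩ := over_pole hdeg hy heq hd hpole hα (hPl α hα)
  have hdpos : 0 < d α := (hd α hα).pos
  have hneg : p.ord f < 0 := by rw [hpf]; omega
  have hoddf : Odd (p.ord f) := by
    rw [hpf]
    exact (Odd.natCast (hd α hα)).neg
  have huniq : ∀ Q : FunFld.Place k K, IsOver Q p → Q = Pl α := by
    obtain ⟨P₀, hP₀, hu⟩ := ((Groth.Agent.S12519.result k K (ringChar.eq k 2) hdeg y hy f heq p).1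
      ⟨hneg, hoddf⟩).1
    intro Q hQ
    rw [hu Q hQ, hu (Pl α) ⟨2, he⟩]
  have hsingle : ∀ r : RatFunc k, (Pi.single (Pl α) (algebraMap (RatFunc k) K r) :
      FunFld.Place k K → K) ∈ AD (0 : Divisor k K) ⊔ LinearMap.range (diag k K) :=
    fun r => single_mem_of_unique hK0 hg0 he huniq r
  set t : K := x - algebraMap k K α with ht
  have hid : (y * t ^ j) ^ 2 = y * t ^ (2 * j) +
      algebraMap (RatFunc k) K (f * ((RatFunc.X : RatFunc k) - RatFunc.C α) ^ (2 * j)) := by
    rw [map_mul, map_pow, algebraMap_X_sub_C, ← heq, ← hx, ← ht]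
    have h2 : (2 : K) = 0 := CharTwo.two_eq_zero
    have : (y * t ^ j) ^ 2 = y ^ 2 * t ^ (2 * j) := by ring
    rw [this]
    linear_combination (-(y * t ^ (2 * j))) * h2
  constructor
  · intro _
    rw [← Pi.single_sub, hid, add_sub_cancel_left]
    exact hsingle _
  · intro hj
    rw [hid, Pi.single_add]
    refine Submodule.add_mem _ (Submodule.mem_sup_left ?_) (hsingle _)
    intro Q
    rw [Finsupp.zero_apply, WithZero.exp_zero]
    by_cases hQ : Q = Pl α
    · subst hQ
      rw [Pi.single_eq_same, map_mul, map_pow, hvy, hvx, ← WithZero.exp_nsmul, ← WithZero.exp_add,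
        ← WithZero.exp_zero, WithZero.exp_le_exp]
      simp only [nsmul_eq_mul]
      push_cast
      omega
    · rw [Pi.single_eq_of_ne hQ, map_zero]
      exact zero_le

end Groth.Agent.S19047
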