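import Groth.Statements.S19048
import Mathlib

set_option autoImplicit false
universe u
open Dieu

namespace Groth.Agent.S19048
section Aux
open W4c6eohyperellchar2

variable {c : ℕ} {k : Type u} [Field k]

theorem coefY_eq (v : GcMod c k) (n : ℕ) (h1 : 1 ≤ n) (h2 : n ≤ c) :
    coefY v n = v.2 ⟨n - 1, by omega⟩ := dif_pos ⟨h1, h2⟩

theorem coefX_eq (v : GcMod c k) (n : ℕ) (h1 : 1 ≤ n) (h2 : n ≤ c) :
    coefX v n = v.1 ⟨n - 1, by omega⟩ := dif_pos ⟨h1, h2⟩

theorem decomp (v : GcMod c k) :
    v = ∑ j : Fin c, (v.1 j • X c k (j.val + 1) + v.2 j • Y c k (j.val + 1)) := by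
  ext j
  · simp [X, Y, Prod.fst_sum, Finset.sum_apply, Fin.val_inj]
  · simp [X, Y, Prod.snd_sum, Finset.sum_apply, Fin.val_inj]

theorem mem_Nfil_iff (i : ℕ) (v : GcMod c k) :
    v ∈ Nfil c k i ↔ (∀ j : Fin c, j.val + 1 ≤ 2 * c - i → v.1 j = 0) ∧
      (∀ j : Fin c, min i c < j.val + 1 → v.2 j = 0) := by
  constructor
  · intro hv
    let S : Submodule k (GcMod c k) :=
      { carrier := {v | (∀ j : Fin c, j.val + 1 ≤ 2 * c - i → v.1 j = 0) ∧
          (∀ j : Fin c, min i c < j.val + 1 → v.2 j = 0)}
        add_mem' := by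
          rintro x y ⟨hx1, hx2⟩ ⟨hy1, hy2⟩
          refine ⟨fun j hj => ?_, fun j hj => ?_⟩
          · simp [hx1 j hj, hy1 j hj]
          · simp [hx2 j hj, hy2 j hj]
        zero_mem' := by simp
        smul_mem' := by
          rintro r x ⟨hx1, hx2⟩
          refine ⟨fun j hj => ?_, fun j hj => ?_⟩
          · simp [hx1 j hj]
          · simp [hx2 j hj] }
    have hle : Nfil c k i ≤ S := by
      refine Submodule.span_le.2 ?_
      rintro _ (⟨n, hn, rfl⟩ | ⟨n, hn, rfl⟩)
      · simp only [Set.mem_Icc] at hn
        refine ⟨fun j hj => by simp [Y], fun j hj => ?_⟩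
        simp only [Y]
        rw [if_neg]
        omega
      · simp only [Set.mem_Ioc] at hn
        refine ⟨fun j hj => ?_, fun j hj => by simp [X]⟩
        simp only [X]
        rw [if_neg]
        omega
    exact hle hv
  · rintro ⟨h1, h2⟩
    rw [decomp v]
    refine Submodule.sum_mem _ fun j _ => Submodule.add_mem _ ?_ ?_
    · by_cases hj : j.val + 1 ≤ 2 * c - i
      · rw [h1 j hj, zero_smul]; exact Submodule.zero_mem _
      · refine Submodule.smul_mem _ _ (Submodule.subset_span (Or.inr ⟨j.val + 1, ?_, rfl⟩))
        simp only [Set.mem_Ioc]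
        omega
    · by_cases hj : min i c < j.val + 1
      · rw [h2 j hj, zero_smul]; exact Submodule.zero_mem _
      · refine Submodule.smul_mem _ _ (Submodule.subset_span (Or.inl ⟨j.val + 1, ?_, rfl⟩))
        simp only [Set.mem_Icc]
        omega

noncomputable def nfilEquiv (i : ℕ) : Nfil c k i ≃ₗ[k]
    ({j : Fin c // ¬ (j.val < 2 * c - i)} → k) × ({j : Fin c // j.val < min i c} → k) where
  toFun v := (fun j => v.1.1 j.1, fun j => v.1.2 j.1)
  map_add' x y := rfl
  map_smul' r x := rfl
  invFun w := ⟨(fun j => if h : ¬ (j.val < 2 * c - i) then w.1 ⟨j, h⟩ else 0,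
      fun j => if h : j.val < min i c then w.2 ⟨j, h⟩ else 0), by
    rw [mem_Nfil_iff]
    refine ⟨fun j hj => ?_, fun j hj => ?_⟩
    · show (if h : ¬ (j.val < 2 * c - i) then w.1 ⟨j, h⟩ else 0) = 0
      rw [dif_neg]; omega
    · show (if h : j.val < min i c then w.2 ⟨j, h⟩ else 0) = 0
      rw [dif_neg]; omega⟩
  left_inv v := by
    obtain ⟨h1, h2⟩ := (mem_Nfil_iff i v.1).1 v.2
    apply Subtype.ext
    apply Prod.ext
    · funext j
      show (if h : ¬ (j.val < 2 * c - i) then v.1.1 j else 0) = v.1.1 j
      by_cases h : ¬ (j.val < 2 * c - i)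
      · rw [dif_pos h]
      · rw [dif_neg h, h1 j (by omega)]
    · funext j
      show (if h : j.val < min i c then v.1.2 j else 0) = v.1.2 j
      by_cases h : j.val < min i c
      · rw [dif_pos h]
      · rw [dif_neg h, h2 j (by omega)]
  right_inv w := by
    apply Prod.ext
    · funext j
      show (if h : ¬ (j.1.val < 2 * c - i) then w.1 ⟨j.1, h⟩ else 0) = w.1 j
      rw [dif_pos j.2]
    · funext j
      show (if h : j.1.val < min i c then w.2 ⟨j.1, h⟩ else 0) = w.2 j
      rw [dif_pos j.2]

theorem finrank_Nfil (i : ℕ) (hi : i ≤ 2 * c) : Module.finrank k (Nfil c k i) = i := by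
  rw [LinearEquiv.finrank_eq (nfilEquiv i), Module.finrank_prod, Module.finrank_fintype_fun_eq_card,
    Module.finrank_fintype_fun_eq_card, Fintype.card_subtype, Fintype.card_subtype,
    Fin.card_filter_val_lt]
  have h2 := Finset.card_filter_add_card_filter_not (s := (Finset.univ : Finset (Fin c)))
    (fun j : Fin c => j.val < 2 * c - i)
  rw [Fin.card_filter_val_lt, Finset.card_univ, Fintype.card_fin] at h2
  omega

theorem tri (φ : k ≃+* k) (d : ℕ → ℕ → k) (hd : ∀ u, d u u ≠ 0) (b : ℕ → k) (t0 : ℕ) (N : ℕ) :
    ∃ x : ℕ → k, (∀ t, t < t0 → x t = 0) ∧ (∀ t, N ≤ t → x t = 0) ∧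
      ∀ u, t0 ≤ u → u < N → ∑ t ∈ Finset.range (u + 1), φ (x t * d u t) = b u := by
  induction N with
  | zero => exact ⟨0, by simp, by simp, by intro u _ h; omega⟩
  | succ N ih =>
    obtain ⟨x, hx0, hxN, hx⟩ := ih
    by_cases hN : t0 ≤ N
    · let y : k := φ.symm (b N - ∑ t ∈ Finset.range N, φ (x t * d N t)) / d N N
      refine ⟨Function.update x N y, ?_, ?_, ?_⟩
      · intro t ht
        rw [Function.update_of_ne (by omega)]
        exact hx0 t ht
      · intro t ht
        rw [Function.update_of_ne (by omega)]
        exact hxN t (by omega)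
      · intro u hu huN
        rcases Nat.lt_succ_iff_lt_or_eq.1 huN with h | rfl
        · rw [← hx u hu h]
          refine Finset.sum_congr rfl fun t ht => ?_
          rw [Function.update_of_ne]
          have := Finset.mem_range.1 ht; omega
        · rw [Finset.sum_range_succ, Function.update_self]
          have : ∀ t ∈ Finset.range u, φ (Function.update x u y t * d u t) = φ (x t * d u t) := by
            intro t ht; rw [Function.update_of_ne]; have := Finset.mem_range.1 ht; omega
          rw [Finset.sum_congr rfl this]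
          show _ + φ (φ.symm (b u - _) / d u u * d u u) = b u
          rw [div_mul_cancel₀ _ (hd u), φ.apply_symm_apply]; ring
    · refine ⟨x, hx0, fun t ht => hxN t (by omega), fun u hu hu' => ?_⟩
      omega

variable [CharP k 2] [PerfectRing k 2]

theorem NV_image (a : ℕ → k) (ha : a c ≠ 0) (i : ℕ) (hi : i ≤ 2 * c) :
    NV c k a '' (Nfil c k i : Set (GcMod c k)) = (Nfil c k (i / 2) : Set (GcMod c k)) := by
  apply Set.eq_of_subset_of_subset
  · rintro _ ⟨v, hv, rfl⟩
    rw [SetLike.mem_coe, mem_Nfil_iff] at hv ⊢
    obtain ⟨h1, h2⟩ := hv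
    refine ⟨fun j _ => rfl, fun m hm => ?_⟩
    show (frobeniusEquiv k 2).symm (coefY v (2 * (m.val + 1))) + ∑ j : Fin c, _ = 0
    have e1 : coefY v (2 * (m.val + 1)) = 0 := by
      unfold coefY
      split_ifs with h
      · exact h2 _ (by simp only; omega)
      · rfl
    rw [e1, map_zero, zero_add]
    refine Finset.sum_eq_zero fun j _ => ?_
    split_ifs with h
    · rw [h1 j (by omega), zero_mul, map_zero]
    · rfl
  · intro w hw
    rw [SetLike.mem_coe, mem_Nfil_iff] at hw
    obtain ⟨hw1, hw2⟩ := hw
    obtain ⟨x, hx0, hxN, hx⟩ := tri (frobeniusEquiv k 2).symm (fun u t => a (c + t - u))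
      (fun u => by simpa using ha) (fun u => coefY w (c - u)) (c - i / 2) c
    let v1 : Fin c → k := fun j => if j.val % 2 = 0 then x (j.val / 2) else 0
    let S : ℕ → k := fun m => ∑ j : Fin c, if (j.val + 1) % 2 = 1 ∧ m + j.val / 2 ≤ c then
      (frobeniusEquiv k 2).symm (v1 j * a (m + j.val / 2)) else 0
    let v2 : Fin c → k := fun n => if (n.val + 1) % 2 = 0 ∧ n.val + 1 ≤ min i c then
      (coefY w ((n.val + 1) / 2) - S ((n.val + 1) / 2)) ^ 2 else 0
    refine ⟨(v1, v2), ?_, ?_⟩
    · rw [SetLike.mem_coe, mem_Nfil_iff]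
      refine ⟨fun j hj => ?_, fun n hn => ?_⟩
      · show (if j.val % 2 = 0 then x (j.val / 2) else 0) = 0
        split_ifs with h
        · exact hx0 _ (by omega)
        · rfl
      · show (if (n.val + 1) % 2 = 0 ∧ n.val + 1 ≤ min i c then _ else 0) = 0
        rw [if_neg]; omega
    · apply Prod.ext
      · funext j
        exact (hw1 j (by omega)).symm
      · funext m
        show (frobeniusEquiv k 2).symm (coefY (v1, v2) (2 * (m.val + 1))) + S (m.val + 1) = w.2 m
        have hwm : coefY w (m.val + 1) = w.2 m := by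
          unfold coefY
          rw [dif_pos ⟨by omega, by omega⟩]
          rfl
        by_cases hA : 2 * (m.val + 1) ≤ min i c
        · have e1 : coefY (v1, v2) (2 * (m.val + 1)) =
              (coefY w (m.val + 1) - S (m.val + 1)) ^ 2 := by
            rw [coefY_eq (v1, v2) (2 * (m.val + 1)) (by omega) (by omega)]
            show (if (2 * (m.val + 1) - 1 + 1) % 2 = 0 ∧ 2 * (m.val + 1) - 1 + 1 ≤ min i c then
              (coefY w ((2 * (m.val + 1) - 1 + 1) / 2) - S ((2 * (m.val + 1) - 1 + 1) / 2)) ^ 2
              else 0) = _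
            have e : 2 * (m.val + 1) - 1 + 1 = 2 * (m.val + 1) := by omega
            rw [e, if_pos ⟨by omega, hA⟩]
            have e' : 2 * (m.val + 1) / 2 = m.val + 1 := by omega
            rw [e']
          rw [e1, frobeniusEquiv_symm_pow, hwm]; ring
        · have e1 : coefY (v1, v2) (2 * (m.val + 1)) = 0 := by
            unfold coefY
            split_ifs with h
            · show (if _ ∧ _ then _ else 0) = 0
              rw [if_neg]; simp only; omega
            · rfl
          rw [e1, map_zero, zero_add]
          by_cases hB : i / 2 < m.val + 1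
          · rw [hw2 m (by omega)]
            refine Finset.sum_eq_zero fun j _ => ?_
            split_ifs with h
            · have : v1 j = 0 := by
                show (if j.val % 2 = 0 then x (j.val / 2) else 0) = 0
                split_ifs
                · exact hx0 _ (by omega)
                · rfl
              rw [this, zero_mul, map_zero]
            · rfl
          · have hc : c < 2 * (m.val + 1) := by omega
            have hm := m.isLt
            have key := hx (c - (m.val + 1)) (by omega) (by omega)
            have e2 : c - (c - (m.val + 1)) = m.val + 1 := by omega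
            simp only [e2] at key
            rw [← hwm, ← key]
            show ∑ j : Fin c, (if (j.val + 1) % 2 = 1 ∧ m.val + 1 + j.val / 2 ≤ c then
              (frobeniusEquiv k 2).symm (v1 j * a (m.val + 1 + j.val / 2)) else 0) = _
            rw [← Finset.sum_filter]
            refine Finset.sum_bij' (fun j _ => j.val / 2) (fun t ht => ⟨2 * t, ?_⟩) ?_ ?_ ?_ ?_ ?_
            · have := Finset.mem_range.1 ht; omega
            · intro j hj
              have := (Finset.mem_filter.1 hj).2
              simp only [Finset.mem_range]; omega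
            · intro t ht
              have := Finset.mem_range.1 ht
              simp only [Finset.mem_filter, Finset.mem_univ, true_and]
              omega
            · intro j hj
              have := (Finset.mem_filter.1 hj).2
              apply Fin.ext
              simp only; omega
            · intro t ht
              simp only; omega
            · intro j hj
              have := (Finset.mem_filter.1 hj).2
              show (frobeniusEquiv k 2).symm ((if j.val % 2 = 0 then x (j.val / 2) else 0) * _) = _
              rw [if_pos (by omega)]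
              have e3 : c + j.val / 2 - (c - (m.val + 1)) = m.val + 1 + j.val / 2 := by omega
              rw [e3]

omit [CharP k 2] [PerfectRing k 2] in
theorem NF_preimage (a : ℕ → k) (ha : a c ≠ 0) (i : ℕ) (hi : i ≤ 2 * c) :
    NF c k a ⁻¹' (Nfil c k i : Set (GcMod c k)) =
      (Nfil c k (c + (i + 1) / 2) : Set (GcMod c k)) := by
  ext v
  rw [Set.mem_preimage, SetLike.mem_coe, SetLike.mem_coe, mem_Nfil_iff, mem_Nfil_iff]
  constructor
  · rintro ⟨h1, h2⟩
    refine ⟨?_, fun j hj => by have := j.isLt; omega⟩
    have key : ∀ n : ℕ, ∀ j : Fin c, j.val = n → j.val + 1 ≤ 2 * c - (c + (i + 1) / 2) →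
        v.1 j = 0 := by
      intro n
      induction n using Nat.strong_induction_on with
      | _ n ih =>
        intro j hjn hj
        have hjlt := j.isLt
        by_cases hc : 2 * (j.val + 1) ≤ c
        · have := h1 ⟨2 * (j.val + 1) - 1, by omega⟩ (by simp only; omega)
          have e : (NF c k a v).1 ⟨2 * (j.val + 1) - 1, by omega⟩ = v.1 j ^ 2 := by
            show (if (2 * (j.val + 1) - 1 + 1) % 2 = 0 then
              coefX v ((2 * (j.val + 1) - 1 + 1) / 2) ^ 2 else 0) = _
            rw [if_pos (by omega)]
            have e' : (2 * (j.val + 1) - 1 + 1) / 2 = j.val + 1 := by omega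
            rw [e', coefX_eq v (j.val + 1) (by omega) (by omega)]
            rfl
          rw [e] at this
          exact (pow_eq_zero_iff two_ne_zero).1 this
        · have := h2 ⟨2 * (c - (j.val + 1)), by omega⟩ (by simp only; omega)
          have e : (NF c k a v).2 ⟨2 * (c - (j.val + 1)), by omega⟩ = v.1 j ^ 2 * a c := by
            show (if (2 * (c - (j.val + 1)) + 1) % 2 = 1 then ∑ j2 : Fin c,
              (if c < 2 * (j2.val + 1) ∧ (j2.val + 1) + 2 * (c - (j.val + 1)) / 2 ≤ c then
                v.1 j2 ^ 2 * a ((j2.val + 1) + 2 * (c - (j.val + 1)) / 2) else 0) else 0) = _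
            rw [if_pos (by omega), Finset.sum_eq_single j]
            · rw [if_pos ⟨by omega, by omega⟩]
              have : j.val + 1 + 2 * (c - (j.val + 1)) / 2 = c := by omega
              rw [this]
            · intro j2 _ hne
              split_ifs with h
              · have hlt : j2.val < j.val := by
                  have : j2.val ≠ j.val := fun h => hne (Fin.ext h)
                  omega
                rw [ih j2.val (by omega) j2 rfl (by omega)]; ring
              · rfl
            · intro h; exact absurd (Finset.mem_univ j) h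
          rw [e] at this
          rcases mul_eq_zero.1 this with h | h
          · exact (pow_eq_zero_iff two_ne_zero).1 h
          · exact absurd h ha
    exact fun j hj => key j.val j rfl hj
  · rintro ⟨h1, -⟩
    refine ⟨fun j hj => ?_, fun n hn => ?_⟩
    · show (if (j.val + 1) % 2 = 0 then coefX v ((j.val + 1) / 2) ^ 2 else 0) = 0
      split_ifs with h
      · rw [coefX_eq v ((j.val + 1) / 2) (by omega) (by omega), h1 _ (by simp only; omega)]; ring
      · rfl
    · show (if (n.val + 1) % 2 = 1 then ∑ j : Fin c,
        (if c < 2 * (j.val + 1) ∧ (j.val + 1) + n.val / 2 ≤ c then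
          v.1 j ^ 2 * a ((j.val + 1) + n.val / 2) else 0) else 0) = 0
      split_ifs with h
      · refine Finset.sum_eq_zero fun j _ => ?_
        split_ifs with h'
        · rw [h1 j (by omega)]; ring
        · rfl
      · rfl

end Aux



/-- Let `k` be a perfect field of characteristic `2`, `c` a natural number and `a_1, …, a_c ∈ k` with
`a_c ≠ 0`. On the `2c`-dimensional `k`-space with basis `λ_1, …, λ_c, σ_1, …, σ_c` let `F` be
Frobenius-semilinear with `F λ_j = 0`, `F σ_j = σ_{2j}` for `2j ≤ c`, `F σ_j = Σ_{i=j}^{c} a_i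
λ_{2i-2j+1}` for `2j > c`, and `V` inverse-Frobenius-semilinear with `V λ_j = λ_{j/2}` (`j` even),
`0` (`j` odd), `V σ_j = 0` (`j` even), `V σ_j = Σ_{i=(j+1)/2}^{c} a_i^{1/2} λ_{i-(j-1)/2}` (`j` odd)
— the shape of `F` and `V` on the block of the first de Rham cohomology of `y² − y = f(x)` belonging
to a branch point with invariant `d = 2c + 1`, `a_i` the coefficients of the odd polynomial `f_α`.
Put `N_i = ⟨λ_1, …, λ_i⟩` for `i ≤ c` and `N_i = ⟨λ_1, …, λ_c, σ_{2c-i+1}, …, σ_c⟩` for `c ≤ i ≤
2c`. Then for `0 ≤ i ≤ 2c`: `dim N_i = i`, `V(N_i) = N_{⌊i/2⌋}` and `F⁻¹(N_i) = N_{c+⌈i/2⌉}`; so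
`(N_i)` is a final filtration with `dim V(N_i) = ⌊i/2⌋`. (The published statement adjoins the `σ_j`
starting from `σ_1`; then `V(N_{c+1})` contains `V σ_1`, whose `λ_c`-coefficient is a square root of
`a_c ≠ 0`, so it is not `N_{⌊(c+1)/2⌋}` once `c ≥ 2`; adjoining them from `σ_c` downward, as here,
makes both identities hold.) -/
theorem result (c : ℕ) (k : Type u) [Field k] [CharP k 2] [PerfectRing k 2]
    (a : ℕ → k) (ha : a c ≠ 0) (i : ℕ) (hi : i ≤ 2 * c) :
    Module.finrank k (W4c6eohyperellchar2.Nfil c k i) = i ∧
      W4c6eohyperellchar2.NV c k a '' (W4c6eohyperellchar2.Nfil c k i : Set (W4c6eohyperellchar2.GcMod c k)) = (W4c6eohyperellchar2.Nfil c k (i / 2) : Set (W4c6eohyperellchar2.GcMod c k)) ∧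
      W4c6eohyperellchar2.NF c k a ⁻¹' (W4c6eohyperellchar2.Nfil c k i : Set (W4c6eohyperellchar2.GcMod c k)) = (W4c6eohyperellchar2.Nfil c k (c + (i + 1) / 2) : Set (W4c6eohyperellchar2.GcMod c k)) := by
  classical
  exact ⟨finrank_Nfil i hi, NV_image a ha i hi, NF_preimage a ha i hi⟩

end Groth.Agent.S19048
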