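import Groth.Statements.S1905
import Mathlib
import Groth.Agent.Lib.Helper18.DivPull3
import Groth.Agent.Lib.Helper18.RelDimShift
import Groth.Agent.Lib.Helper18.FlatShift

set_option autoImplicit false
universe u
open CategoryTheory AlgebraicGeometry
open Cyc

namespace Groth.Agent.S1905

/-- Let f : X → Y be a flat morphism, locally of finite type, of relative dimension r between integral
schemes, and g a nonzero rational function on Y, taken in the residue field at f(η_X) (the generic
point of Y). Then f^*(div_Y g) = div_X(g ∘ f) coefficientwise, where g ∘ f is the image of g in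
κ(η_X). A pair (X, δ) with Cyc.IsSetup plays the role of a scheme locally of finite type over a
fixed base with a dimension function (X locally Noetherian with universally catenary local rings, δ
a dimension function), and Cyc.DeltaCompat records that the dimension function upstairs is the
induced one. -/
theorem result (X Y : Scheme.{u}) [IsIntegral X] [IsIntegral Y] (δX : X → ℤ) (δY : Y → ℤ) (hX : Cyc.IsSetup X δX) (hY : Cyc.IsSetup Y δY) (f : X ⟶ Y) [Flat f] [LocallyOfFiniteType f] (r : ℕ) (hr : Cyc.HasRelDim f r) (hδ : Cyc.DeltaCompat f δX δY) (g : Y.residueField (f (genericPoint X))) (hg : g ≠ 0) : Cyc.pullFun f δX δY r (Cyc.divFun δY (f (genericPoint X)) g) = Cyc.divFun δX (genericPoint X) (f.residueFieldMap (genericPoint X) g) := by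
  have hc : ∀ x : X, (∀ y, f y = f x → y ⤳ x → y = x) → δX x = δY (f x) + (r : ℤ) :=
    fun x hmax => Groth.Agent.Lib.Helper18.RelDimShift.shift_of_hasRelDim f δX δY r hr hδ x hmax
  have L3 := Groth.Agent.Lib.Helper18.FlatShift.delta_le_of_shift f δY δX hX.2.2 (r : ℤ) hc
  have hηmax : ∀ y, f y = f (genericPoint X) → y ⤳ genericPoint X → y = genericPoint X :=
    fun y _ hy => (hy.antisymm (genericPoint_specializes y)).eq
  have hδη : δX (genericPoint X) = δY (f (genericPoint X)) + (r : ℤ) := hc _ hηmax
  have hζ : f (genericPoint X) = genericPoint Y :=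
    Groth.Agent.Lib.Helper21.FibDim.map_genericPoint_of_flat f
  have dpos : ∀ {Z : Scheme.{u}} (δ : Z → ℤ) (ξ : Z) (φ : Z.residueField ξ) (z : Z)
      (h : ξ ⤳ z ∧ δ z + 1 = δ ξ), Cyc.divFun δ ξ φ z = Cyc.ordAt z ξ h.1 φ :=
    fun δ ξ φ z h => dif_pos h
  have dneg : ∀ {Z : Scheme.{u}} (δ : Z → ℤ) (ξ : Z) (φ : Z.residueField ξ) (z : Z)
      (h : ¬ (ξ ⤳ z ∧ δ z + 1 = δ ξ)), Cyc.divFun δ ξ φ z = 0 :=
    fun δ ξ φ z h => dif_neg h
  funext x
  have hx : genericPoint X ⤳ x := genericPoint_specializes x
  have hfx : f (genericPoint X) ⤳ f x := f.base.hom.map_specializes hx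
  unfold Cyc.pullFun
  beta_reduce
  by_cases hA : δX x + 1 = δX (genericPoint X)
  · rw [dpos δX (genericPoint X) _ x ⟨hx, hA⟩]
    by_cases hA1 : δX x = δY (f x) + (r : ℤ)
    · have h2 : δY (f x) + 1 = δY (f (genericPoint X)) := by omega
      rw [if_pos hA1, dpos δY (f (genericPoint X)) g (f x) ⟨hfx, h2⟩]
      exact (Groth.Agent.Lib.Helper18.DivPull.ordAt_map_of_flat δX δY hX hY f x (genericPoint X) hx hfx
        rfl hζ hA h2 g hg).symm
    · rw [if_neg hA1]
      have h3 := (L3 x).1
      have h4 : δY (f (genericPoint X)) ≤ δY (f x) := by omega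
      have hfxeq : f x = f (genericPoint X) := by
        by_contra hne
        have := (hY.2.2 (f (genericPoint X)) (f x) hfx (Ne.symm hne)).1
        omega
      exact (Groth.Agent.Lib.Helper18.DivPull.ordAt_map_eq_zero_of_map_eq f x (genericPoint X) hx
        hfxeq g hg).symm
  · rw [dneg δX (genericPoint X) _ x (fun h => hA h.2)]
    by_cases hA1 : δX x = δY (f x) + (r : ℤ)
    · rw [if_pos hA1]
      by_cases hB : f (genericPoint X) ⤳ f x ∧ δY (f x) + 1 = δY (f (genericPoint X))
      · exfalso
        apply hA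
        have := hB.2
        omega
      · rw [dneg δY (f (genericPoint X)) g (f x) hB, zero_mul]
    · rw [if_neg hA1]

end Groth.Agent.S1905
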