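import Groth.Statements.S19060
import Groth.Agent.Lib.Helper22.EGA7.FR5
import Groth.Agent.Lib.Helper22.EGA7.Bridge4
import Groth.Agent.Lib.Helper22.EGA7.GlobAlg
import Groth.Agent.S0458

set_option autoImplicit false
universe u
open CategoryTheory CategoryTheory.Limits AlgebraicGeometry Opposite
open Curves

namespace Groth.Agent.S19060


/-- Let R be a Noetherian ring and X a relative curve over Spec R (proper and smooth, with geometrically
connected fibres of dimension one, and projective: X carries an ample invertible module). Let F be a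
coherent O_X-module which is flat over Spec R (every stalk is a flat module over the local ring of
the base). If H^1(X, F) is a projective R-module, then H^0(X, F) is a projective R-module. (The
source says only that F is an O_X-module flat over the base; F is taken coherent here, as the
finiteness of its cohomology over R used there requires.) -/
theorem result (R : Type u) [CommRing R] [IsNoetherianRing R]
    (X : Scheme.{u}) [X.Over (Spec (CommRingCat.of R))] [IsProper (X ↘ Spec (CommRingCat.of R))]
    [Smooth (X ↘ Spec (CommRingCat.of R))] [GeometricallyConnected (X ↘ Spec (CommRingCat.of R))]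
    (hdim : ∀ s : Spec (CommRingCat.of R), topologicalKrullDim ↥((X ↘ Spec (CommRingCat.of R)).fiber s) = 1)
    (hproj : ∃ M : X.Modules, CohB1.IsAmple M)
    (F : X.Modules) (hF : Coh.IsCoh F) (hfl : FlatMod.IsFlatOver (X ↘ Spec (CommRingCat.of R)) F)
    (h1 : Module.Projective R (Coh.HH X F 1)) :
    Module.Projective R (Coh.HH X F 0) := by
  open Groth.Agent.Lib.Helper22.EGA7 Groth.Agent.Lib.Helper28.FlatCx in
  obtain ⟨Q, d, hQ, hd, hpos, hp⟩ := bridge2 R X F hF hfl
  haveI : X.IsSeparated := isSeparated_of_over (X ↘ Spec (CommRingCat.of R))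
  haveI : CompactSpace X :=
    QuasiCompact.compactSpace_of_compactSpace (X ↘ Spec (CommRingCat.of R))
  haveI : F.IsQuasicoherent := hF.1
  have hQ' : ∀ i, Module.Finite R (Q.X i) ∧ Module.Flat R (Q.X i) := fun i =>
    have := (hQ i).2
    ⟨(hQ i).1, inferInstance⟩
  have hPf : ∀ i, Module.Flat R (Q.X i) := fun i => (hQ' i).2
  -- vanishing of the fibre cohomology in degrees ≥ 2
  have hfib : ∀ (p : ℕ), 2 ≤ p → ∀ y, CohIII.dRank Q (-(p : ℤ)) y = 0 := by
    intro p hp2 y
    obtain ⟨e⟩ := hp p
    rw [← fiberRank_eq_dRank R X F Q _ p e y]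
    haveI : LocallyOfFiniteType
        ((X ↘ Spec (CommRingCat.of R)).fiberToSpecResidueField y) := by
      unfold Scheme.Hom.fiberToSpecResidueField
      exact MorphismProperty.pullback_snd (P := @LocallyOfFiniteType) _ _ inferInstance
    haveI : IsLocallyNoetherian ((X ↘ Spec (CommRingCat.of R)).fiber y) :=
      LocallyOfFiniteType.isLocallyNoetherian
        ((X ↘ Spec (CommRingCat.of R)).fiberToSpecResidueField y)
    haveI : IsNoetherian ((X ↘ Spec (CommRingCat.of R)).fiber y) := {}
    haveI : TopologicalSpace.NoetherianSpace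
        ↑((X ↘ Spec (CommRingCat.of R)).fiber y).toTopCat :=
      (inferInstance : TopologicalSpace.NoetherianSpace
        ↥((X ↘ Spec (CommRingCat.of R)).fiber y))
    have hd1 : topologicalKrullDim ↑((X ↘ Spec (CommRingCat.of R)).fiber y).toTopCat ≤
        ((1 : ℕ) : WithBot ℕ∞) := le_of_eq (hdim y)
    haveI : Subsingleton (CohIII.fiberH (X ↘ Spec (CommRingCat.of R)) F y p) :=
      Groth.Agent.S0458.result (X := ((X ↘ Spec (CommRingCat.of R)).fiber y).toTopCat) 1
        hd1 _ p (by omega)
    exact Module.finrank_zero_of_subsingleton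
  have hex2 := exact_of_dRank_eq_zero Q hQ' (-((2 : ℕ) : ℤ)) (-((2 : ℕ) : ℤ) - 1)
    (by change -((2 : ℕ) : ℤ) - 1 + 1 = _; ring) (hfib 2 le_rfl)
  have e2 : (-((2 : ℕ) : ℤ)) = -2 := by norm_num
  rw [e2] at hex2
  -- flat opcycles in degree -2
  have f2 : Module.Flat R (Q.opcycles (-2)) := (preservesMono_iff_flat_opcycles Q hPf (-2)).mp hex2.1
  -- H_{-1} is projective
  obtain ⟨e1⟩ := hp 1
  obtain ⟨e0⟩ := hp 0
  have c1 : (-((1 : ℕ) : ℤ)) = -1 := by norm_num
  have c0 : (-((0 : ℕ) : ℤ)) = 0 := by norm_num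
  rw [c1] at e1
  rw [c0] at e0
  let E1 := homologyEquivHH R X F Q (-1) 1 e1
  let E0 := homologyEquivHH R X F Q 0 0 e0
  haveI : Module.Projective R (Q.homology (-1)) := Module.Projective.of_equiv E1.symm
  haveI := hPf (-2)
  have r12 : (ComplexShape.down ℤ).Rel (-1) (-2) := by change (-2 : ℤ) + 1 = -1; norm_num
  have r01 : (ComplexShape.down ℤ).Rel 0 (-1) := by change (-1 : ℤ) + 1 = 0; norm_num
  have r10 : (ComplexShape.down ℤ).Rel 1 0 := by change (0 : ℤ) + 1 = 1; norm_num
  have f1 : Module.Flat R (Q.opcycles (-1)) := flat_opcycles_of_flat_homology Q (-1) (-2) r12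
  have m1 : (CohIII.TFun Q (-1)).PreservesMonomorphisms :=
    (preservesMono_iff_flat_opcycles Q hPf (-1)).mpr f1
  have ep0 : (CohIII.TFun Q 0).PreservesEpimorphisms :=
    (preservesEpi_iff_preservesMono_of_rel Q hPf 0 (-1) r01).mpr m1
  have ep1 : (CohIII.TFun Q 1).PreservesEpimorphisms :=
    ⟨fun f _ => ⟨fun a b _ => (hpos 1 one_pos _).eq_of_src a b⟩⟩
  have m0 : (CohIII.TFun Q 0).PreservesMonomorphisms :=
    (preservesEpi_iff_preservesMono_of_rel Q hPf 1 0 r10).mp ep1
  obtain ⟨h1', h2', -⟩ := homology_props_of_exact Q hQ' 0 (-1) r01 ⟨m0, ep0⟩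
  exact Module.Projective.of_equiv E0

end Groth.Agent.S19060
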