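import Groth.Statements.S1907
import Mathlib
import Groth.Agent.Lib.Helper18.FlatPullSum
import Groth.Agent.Lib.Helper18.RelDimShift
import Groth.Agent.Lib.Helper18.FlatShift

set_option autoImplicit false
universe u
open CategoryTheory AlgebraicGeometry
open Cyc

namespace Groth.Agent.S1907

/-- Let Y be integral with δY(η_Y) = k, f : X → Y flat, locally of finite type, of relative dimension r,
and g a nonzero rational function on Y. Then f^*(div_Y g) = Σ_j n_j · div_{X_j}(g|_{X_j}) as (k + r
− 1)-cycles on X, the sum over the irreducible components X_j of X (generic points ξ_j, which map to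
η_Y) with n_j the length of O_{X,ξ_j}, and g|_{X_j} the image of g in κ(ξ_j). A pair (X, δ) with
Cyc.IsSetup plays the role of a scheme locally of finite type over a fixed base with a dimension
function (X locally Noetherian with universally catenary local rings, δ a dimension function), and
Cyc.DeltaCompat records that the dimension function upstairs is the induced one. -/
theorem result (X Y : Scheme.{u}) [IsIntegral Y] (δX : X → ℤ) (δY : Y → ℤ) (hX : Cyc.IsSetup X δX) (hY : Cyc.IsSetup Y δY) (f : X ⟶ Y) [Flat f] [LocallyOfFiniteType f] (r : ℕ) (hr : Cyc.HasRelDim f r) (hδ : Cyc.DeltaCompat f δX δY) (k : ℤ) (hk : δY (genericPoint Y) = k) (g : Y.residueField (genericPoint Y)) (hg : g ≠ 0) (x : X) : Cyc.pullFun f δX δY r (Cyc.divFun δY (genericPoint Y) g) x = ∑ᶠ ξ : {ξ : X // (∀ x' : X, x' ⤳ ξ → x' = ξ) ∧ f ξ = genericPoint Y}, ((Module.length (X.presheaf.stalk ξ.1) (X.presheaf.stalk ξ.1)).toNat : ℤ) * Cyc.divFun δX ξ.1 (f.residueFieldMap ξ.1 ((Y.residueFieldCongr ξ.2.2.symm).hom g)) x :=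 by
  classical
  have hc : ∀ x : X, (∀ y, f y = f x → y ⤳ x → y = x) → δX x = δY (f x) + (r : ℤ) :=
    fun x hmax => Groth.Agent.Lib.Helper18.RelDimShift.shift_of_hasRelDim f δX δY r hr hδ x hmax
  have L3 := Groth.Agent.Lib.Helper18.FlatShift.delta_le_of_shift f δY δX hX.2.2 (r : ℤ) hc
  have hYle : ∀ y : Y, δY y ≤ k := by
    intro y
    by_cases he : genericPoint Y = y
    · rw [← he, hk]
    · have := (hY.2.2 (genericPoint Y) y (genericPoint_specializes y) he).1
      omega
  have hYeq : ∀ y : Y, k ≤ δY y → y = genericPoint Y := by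
    intro y hy
    by_contra hne
    have := (hY.2.2 (genericPoint Y) y (genericPoint_specializes y) (Ne.symm hne)).1
    omega
  have hXle : ∀ z : X, δX z ≤ k + (r : ℤ) := by
    intro z
    have := (L3 z).1
    have := hYle (f z)
    omega
  have hPδ : ∀ ξ : X, (∀ x' : X, x' ⤳ ξ → x' = ξ) → f ξ = genericPoint Y → δX ξ = k + (r : ℤ) := by
    intro ξ h1 h2
    have := hc ξ (fun y _ hy => h1 y hy)
    rw [h2, hk] at this
    exact this
  have hPof : ∀ ξ : X, δX ξ = k + (r : ℤ) →
      (∀ x' : X, x' ⤳ ξ → x' = ξ) ∧ f ξ = genericPoint Y := by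
    intro ξ hξ
    constructor
    · intro x' hx'
      by_contra hne
      have := (hX.2.2 x' ξ hx' hne).1
      have := hXle x'
      omega
    · apply hYeq
      have := (L3 ξ).1
      omega
  have specMap_congr : ∀ (y ζ ζ' : Y) (e : ζ = ζ') (h : ζ ⤳ y) (h' : ζ' ⤳ y)
      (a : Y.presheaf.stalk y),
      Cyc.specMap y ζ' h' a = (Y.residueFieldCongr e).hom (Cyc.specMap y ζ h a) := by
    intro y ζ ζ' e h h' a
    subst e
    rfl
  have dpos : ∀ {Z : Scheme.{u}} (δ : Z → ℤ) (ξ : Z) (φ : Z.residueField ξ) (z : Z)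
      (h : ξ ⤳ z ∧ δ z + 1 = δ ξ), Cyc.divFun δ ξ φ z = Cyc.ordAt z ξ h.1 φ :=
    fun δ ξ φ z h => dif_pos h
  have dneg : ∀ {Z : Scheme.{u}} (δ : Z → ℤ) (ξ : Z) (φ : Z.residueField ξ) (z : Z)
      (h : ¬ (ξ ⤳ z ∧ δ z + 1 = δ ξ)), Cyc.divFun δ ξ φ z = 0 :=
    fun δ ξ φ z h => dif_neg h
  -- rewrite the sum over the subtype as a sum over `X`
  set G : X → ℤ := fun ξ =>
    if hP : (∀ x' : X, x' ⤳ ξ → x' = ξ) ∧ f ξ = genericPoint Y then
      ((Module.length (X.presheaf.stalk ξ) (X.presheaf.stalk ξ)).toNat : ℤ) *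
        Cyc.divFun δX ξ (f.residueFieldMap ξ ((Y.residueFieldCongr hP.2.symm).hom g)) x
    else 0 with hGdef
  have hsum : (∑ᶠ ξ : {ξ : X // (∀ x' : X, x' ⤳ ξ → x' = ξ) ∧ f ξ = genericPoint Y},
      ((Module.length (X.presheaf.stalk ξ.1) (X.presheaf.stalk ξ.1)).toNat : ℤ) *
        Cyc.divFun δX ξ.1 (f.residueFieldMap ξ.1 ((Y.residueFieldCongr ξ.2.2.symm).hom g)) x) =
      ∑ᶠ ξ : X, G ξ := by
    have h1 : ∀ ξ : {ξ : X // (∀ x' : X, x' ⤳ ξ → x' = ξ) ∧ f ξ = genericPoint Y},
        ((Module.length (X.presheaf.stalk ξ.1) (X.presheaf.stalk ξ.1)).toNat : ℤ) *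
        Cyc.divFun δX ξ.1 (f.residueFieldMap ξ.1 ((Y.residueFieldCongr ξ.2.2.symm).hom g)) x =
        G ξ.1 := by
      intro ξ
      rw [hGdef]
      simp only
      rw [dif_pos ξ.2]
    rw [finsum_congr h1, finsum_subtype_eq_finsum_cond
      (fun ξ : X => (∀ x' : X, x' ⤳ ξ → x' = ξ) ∧ f ξ = genericPoint Y) (f := G)]
    apply finsum_congr
    intro ξ
    by_cases hP : (∀ x' : X, x' ⤳ ξ → x' = ξ) ∧ f ξ = genericPoint Y
    · rw [finsum_eq_if, if_pos hP]
    · rw [finsum_eq_if, if_neg hP, hGdef]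
      simp only
      rw [dif_neg hP]
  rw [hsum]
  unfold Cyc.pullFun
  beta_reduce
  have hspx : genericPoint Y ⤳ f x := genericPoint_specializes (f x)
  have hg' : ∀ (ξ : X) (e : f ξ = genericPoint Y), (Y.residueFieldCongr e.symm).hom g ≠ 0 := by
    intro ξ e
    exact (map_ne_zero (Y.residueFieldCongr e.symm).hom.hom).mpr hg
  by_cases hA : δX x + 1 = k + (r : ℤ)
  · by_cases hA1 : δX x = δY (f x) + (r : ℤ)
    · -- the main case
      have h2 : δY (f x) + 1 = δY (genericPoint Y) := by omega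
      rw [if_pos hA1, dpos δY (genericPoint Y) g (f x) ⟨hspx, h2⟩]
      obtain ⟨a, b, hab⟩ := Groth.Agent.Lib.Helper18.DivPull.specMap_surjective_frac
        (f x) (genericPoint Y) hspx rfl g
      have hinj := Groth.Agent.Lib.Helper18.DivPull.specMap_injective_of_generic
        (f x) (genericPoint Y) hspx rfl
      have hb0 : Cyc.specMap (f x) (genericPoint Y) hspx b ≠ 0 := by
        intro h0
        rw [h0, div_zero] at hab
        exact hg hab
      have ha0 : Cyc.specMap (f x) (genericPoint Y) hspx a ≠ 0 := by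
        intro h0
        rw [h0, zero_div] at hab
        exact hg hab
      have ha : a ≠ 0 := fun h => ha0 (by rw [h, map_zero])
      have hb : b ≠ 0 := fun h => hb0 (by rw [h, map_zero])
      have hdimx : ∀ ξ : X, ξ ⤳ x → δX ξ ≤ δX x + 1 := fun ξ _ => by
        have := hXle ξ; omega
      set G' : (ξ : X) → X.residueField ξ := fun ξ =>
        if hP : (∀ x' : X, x' ⤳ ξ → x' = ξ) ∧ f ξ = genericPoint Y then
          f.residueFieldMap ξ ((Y.residueFieldCongr hP.2.symm).hom g) else 0 with hG'def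
      have hG' : ∀ (ξ : X) (h : ξ ⤳ x), δX x + 1 = δX ξ →
          G' ξ = Cyc.specMap x ξ h ((f.stalkMap x).hom a) /
            Cyc.specMap x ξ h ((f.stalkMap x).hom b) ∧
          Cyc.specMap x ξ h ((f.stalkMap x).hom a) ≠ 0 ∧
          Cyc.specMap x ξ h ((f.stalkMap x).hom b) ≠ 0 := by
        intro ξ h hδξ
        have hP := hPof ξ (by omega)
        have h' : f ξ ⤳ f x := f.base.hom.map_specializes h
        have e1 := Groth.Agent.Lib.Helper18.DivPull.specMap_stalkMap f x ξ h h'
        have e2 := specMap_congr (f x) (genericPoint Y) (f ξ) hP.2.symm hspx h'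
        have hne : ∀ c : Y.presheaf.stalk (f x),
            Cyc.specMap (f x) (genericPoint Y) hspx c ≠ 0 →
            Cyc.specMap x ξ h ((f.stalkMap x).hom c) ≠ 0 := by
          intro c hc
          rw [e1, e2]
          exact (map_ne_zero (f.residueFieldMap ξ).hom).mpr
            ((map_ne_zero (Y.residueFieldCongr hP.2.symm).hom.hom).mpr hc)
        refine ⟨?_, hne a ha0, hne b hb0⟩
        rw [hG'def]
        simp only
        rw [dif_pos hP, e1, e1, e2, e2, hab, map_div₀, map_div₀]
      rw [hab, Groth.Agent.Lib.Helper18.FlatPullSum.ordAt_mul_length_eq_finsum δX δY hX hY f x hspx h2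
        hdimx G' a b ha hb hG']
      apply finsum_congr
      intro ξ
      rw [hGdef]
      simp only
      by_cases hcond : ξ ⤳ x ∧ δX x + 1 = δX ξ
      · have hP := hPof ξ (by omega)
        rw [dif_pos hcond, dif_pos hP, dpos δX ξ _ x hcond, hG'def]
        simp only
        rw [dif_pos hP]
      · rw [dif_neg hcond]
        by_cases hP : (∀ x' : X, x' ⤳ ξ → x' = ξ) ∧ f ξ = genericPoint Y
        · rw [dif_pos hP, dneg δX ξ _ x hcond, mul_zero]
        · rw [dif_neg hP]
    · -- `x` lies in the generic fibre but is not generic there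
      rw [if_neg hA1]
      have h3 := (L3 x).1
      have hfx : f x = genericPoint Y := by
        apply hYeq
        omega
      symm
      apply finsum_eq_zero_of_forall_eq_zero
      intro ξ
      rw [hGdef]
      simp only
      by_cases hP : (∀ x' : X, x' ⤳ ξ → x' = ξ) ∧ f ξ = genericPoint Y
      · rw [dif_pos hP]
        by_cases hcond : ξ ⤳ x ∧ δX x + 1 = δX ξ
        · rw [dpos δX ξ _ x hcond,
            Groth.Agent.Lib.Helper18.DivPull.ordAt_map_eq_zero_of_map_eq f x ξ hcond.1
              (hfx.trans hP.2.symm) _ (hg' ξ hP.2), mul_zero]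
        · rw [dneg δX ξ _ x hcond, mul_zero]
      · rw [dif_neg hP]
  · -- both sides vanish for dimension reasons
    have hL : (if δX x = δY (f x) + (r : ℤ) then
        Cyc.divFun δY (genericPoint Y) g (f x) *
          ((Module.length (X.presheaf.stalk x) (X.presheaf.stalk x ⧸
            Ideal.map (f.stalkMap x).hom
              (IsLocalRing.maximalIdeal (Y.presheaf.stalk (f x))))).toNat : ℤ)
        else 0) = 0 := by
      by_cases hA1 : δX x = δY (f x) + (r : ℤ)
      · rw [if_pos hA1, dneg δY (genericPoint Y) g (f x) (fun h => hA (by have := h.2; omega)),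
          zero_mul]
      · rw [if_neg hA1]
    rw [hL]
    symm
    apply finsum_eq_zero_of_forall_eq_zero
    intro ξ
    rw [hGdef]
    simp only
    by_cases hP : (∀ x' : X, x' ⤳ ξ → x' = ξ) ∧ f ξ = genericPoint Y
    · have := hPδ ξ hP.1 hP.2
      rw [dif_pos hP, dneg δX ξ _ x (fun h => hA (by have := h.2; omega)), mul_zero]
    · rw [dif_neg hP]

end Groth.Agent.S1907
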