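import Groth.Statements.S1908
import Mathlib
import Groth.Agent.Lib.Helper20.HG9

set_option autoImplicit false
universe u
open CategoryTheory CategoryTheory.Limits AlgebraicGeometry
open Grpd

namespace Groth.Agent.S1908



section helpers
open Groth.Agent.Lib.Helper20.HG

theorem main_aux (S : Scheme.{u}) (G : Grpd.GroupoidScheme S) [IsFinite G.s] [IsFinite G.t] :
    ∃ (Wn : ℕ → G.U.Opens), (∀ m k, m ≠ k → Disjoint (Wn m) (Wn k)) ∧
      (∀ m, G.s ⁻¹ᵁ Wn m = G.t ⁻¹ᵁ Wn m) ∧
      (∀ m, ((Wn m : G.U.Opens) : Set G.U) ⊆ (fit G.s m).support) ∧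
      (∀ m, Disjoint ((Wn m : G.U.Opens) : Set G.U) ((fit G.s (m + 1)).support : Set G.U)) ∧
      (∀ u : G.U, ∃ r : G.R, G.t r = u ∧ G.s r ∈ closure ((WW Wn : G.U.Opens) : Set G.U)) := by
  refine ⟨fun n => ⟨Wset G n, isOpen_Wset G n⟩, ?_, ?_, ?_, ?_, ?_⟩
  · intro m k h
    rw [disjoint_iff, eq_bot_iff]
    intro x hx
    exact Set.disjoint_left.mp (Wset_disjoint G h) hx.1 hx.2
  · intro m
    ext r
    exact inv_Wset G m r
  · exact fun m => Wset_subset_Zs G m
  · exact fun m => Wset_disjoint_Zs G m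
  · intro u
    obtain ⟨r, h1, h2⟩ := exists_mem_closure G u
    refine ⟨r, h1, ?_⟩
    have : ((WW (fun n => (⟨Wset G n, isOpen_Wset G n⟩ : G.U.Opens)) : G.U.Opens) : Set G.U) =
        ⋃ k, Wset G k := by
      unfold WW
      rw [TopologicalSpace.Opens.coe_iSup]
      rfl
    rw [this]
    exact h2

end helpers

/-- Let (U, R, s, t, c) be a groupoid scheme over S (with identity e and inverse i, the groupoid axioms
holding on T-valued points for every S-scheme T) whose morphisms s, t : R → U are finite. Then there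
are an open subscheme W ⊆ U and a closed subscheme W' ⊆ W with the same underlying set as W (so that
W is a thickening of W'), with inclusion ι' : W' → U, such that: W is R-invariant, that is s⁻¹W =
t⁻¹W as opens of R; W' is R-invariant, expressed as an isomorphism s⁻¹(W') ≅ t⁻¹(W') between the
pullbacks of ι' along s and along t which is compatible with their projections to R;
set-theoretically U = t(s⁻¹(closure of W)), that is, every point of U is t(r) for some point r of R
with s(r) in the closure of W; and the base changes s⁻¹(W') → W' and t⁻¹(W') → W' of s and t along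
ι' are finite locally free (finite, flat and locally of finite presentation). -/
theorem result (S : Scheme.{u}) (G : Grpd.GroupoidScheme S) [IsFinite G.s] [IsFinite G.t] : ∃ (W : G.U.Opens) (W' : (↑W : Scheme.{u}).IdealSheafData), G.s ⁻¹ᵁ W = G.t ⁻¹ᵁ W ∧ W'.support = ⊤ ∧ (∃ φ : pullback G.s (W'.subschemeι ≫ W.ι) ≅ pullback G.t (W'.subschemeι ≫ W.ι), φ.hom ≫ pullback.fst G.t (W'.subschemeι ≫ W.ι) = pullback.fst G.s (W'.subschemeι ≫ W.ι)) ∧ (∀ u : G.U, ∃ r : G.R, G.t r = u ∧ G.s r ∈ closure (W : Set G.U)) ∧ Mor2.IsFinLocFree (pullback.snd G.s (W'.subschemeι ≫ W.ι)) ∧ Mor2.IsFinLocFree (pullback.snd G.t (W'.subschemeι ≫ W.ι)) := by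

  classical
  open Groth.Agent.Lib.Helper20.HG in
  obtain ⟨Wn, hdisj, hinv, hsub, hsupp, hcl⟩ := main_aux S G
  open Groth.Agent.Lib.Helper20.HG in
  refine ⟨WW Wn, thick Wn (fun m => fit G.s m), ?_, ?_, ?_, hcl, ?_, ?_⟩
  · ext r
    constructor
    · intro hr
      obtain ⟨m, hm⟩ := TopologicalSpace.Opens.mem_iSup.mp (show G.s r ∈ ⨆ m, Wn m from hr)
      have h1 : r ∈ G.s ⁻¹ᵁ Wn m := hm
      rw [hinv m] at h1
      exact TopologicalSpace.Opens.mem_iSup.mpr ⟨m, h1⟩
    · intro hr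
      obtain ⟨m, hm⟩ := TopologicalSpace.Opens.mem_iSup.mp (show G.t r ∈ ⨆ m, Wn m from hr)
      have h1 : r ∈ G.t ⁻¹ᵁ Wn m := hm
      rw [← hinv m] at h1
      exact TopologicalSpace.Opens.mem_iSup.mpr ⟨m, h1⟩
  · exact Groth.Agent.Lib.Helper20.HG.support_thick Wn _ hdisj hsub
  · exact Groth.Agent.Lib.Helper20.HG.exists_iso_thick Wn _ hdisj G.s G.t hinv
      (fun m => Groth.Agent.Lib.Helper20.HG.comap_s_eq_comap_t G m)
  · exact Groth.Agent.Lib.Helper20.HG.isFinLocFree_thick Wn _ hdisj G.s (fun k => rfl) hsupp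
  · exact Groth.Agent.Lib.Helper20.HG.isFinLocFree_thick Wn _ hdisj G.t
      (fun k => Groth.Agent.Lib.Helper20.HG.fit_t_eq G k) hsupp

end Groth.Agent.S1908
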