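import Groth.Statements.S1909
import Mathlib
import Groth.Agent.Lib.Helper20.HG10

set_option autoImplicit false
universe u
open CategoryTheory CategoryTheory.Limits AlgebraicGeometry
open Grpd

namespace Groth.Agent.S1909



section helpers
open Groth.Agent.Lib.Helper20.HG

theorem main_aux (S : Scheme.{u}) (G : Grpd.GroupoidScheme S) [IsFinite G.s] [IsFinite G.t]
    [LocallyOfFinitePresentation G.s] :
    ∃ (Wn : ℕ → G.U.Opens), (∀ m k, m ≠ k → Disjoint (Wn m) (Wn k)) ∧
      (∀ m, G.s ⁻¹ᵁ Wn m = G.t ⁻¹ᵁ Wn m) ∧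
      (∀ m, ((Wn m : G.U.Opens) : Set G.U) ⊆ (fit G.s m).support) ∧
      (∀ m, Disjoint ((Wn m : G.U.Opens) : Set G.U) ((fit G.s (m + 1)).support : Set G.U)) ∧
      (∀ u : G.U, ∃ r : G.R, G.t r = u ∧ G.s r ∈ closure ((WW Wn : G.U.Opens) : Set G.U)) ∧
      (∀ u : G.U, (∀ r : G.R, G.s r = u → ∀ x : G.U, x ⤳ G.t r → x = G.t r) → u ∈ WW Wn) := by
  refine ⟨fun n => ⟨Wset G n, isOpen_Wset G n⟩, ?_, ?_, ?_, ?_, ?_, ?_⟩
  · intro m k h
    rw [disjoint_iff, eq_bot_iff]
    intro x hx
    exact Set.disjoint_left.mp (Wset_disjoint G h) hx.1 hx.2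
  · intro m
    ext r
    exact inv_Wset G m r
  · exact fun m => Wset_subset_Zs G m
  · exact fun m => Wset_disjoint_Zs G m
  · intro u
    obtain ⟨r, h1, h2⟩ := exists_mem_closure G u
    refine ⟨r, h1, ?_⟩
    have : ((WW (fun n => (⟨Wset G n, isOpen_Wset G n⟩ : G.U.Opens)) : G.U.Opens) : Set G.U) =
        ⋃ k, Wset G k := by
      unfold WW
      rw [TopologicalSpace.Opens.coe_iSup]
      rfl
    rw [this]
    exact h2
  · intro u hu
    obtain ⟨m, hm⟩ := mem_Wset_of_generic G u hu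
    exact TopologicalSpace.Opens.mem_iSup.mpr ⟨m, hm⟩

end helpers

/-- Let (U, R, s, t, c) be a groupoid scheme over S with s and t finite and locally of finite
presentation. Then there are an R-invariant open W ⊆ U (s⁻¹(W) = t⁻¹(W)) and an R-invariant closed
subscheme W' ⊆ W with the same underlying set (so W is a thickening of W') such that U =
t(s⁻¹(closure of W)) set-theoretically, the restrictions of s and t to W' are finite locally free,
the closed immersion W' → W is locally of finite presentation, and W contains every point u of U all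
of whose R-translates (the points t(r) for r ∈ R with s(r) = u) are generic points of irreducible
components of U. Here ι' : W' → U is the inclusion; R-invariance of W' is expressed as an
isomorphism s⁻¹(W') ≅ t⁻¹(W') of the two pullbacks along ι' compatible with the projections to R,
and the restricted source and target maps are the base changes of s and t along ι'. (A groupoid
scheme carries U, R, s, t, c, e, i over S with the groupoid axioms on T-points; 'finite locally
free' is finite, flat and locally of finite presentation.) -/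
theorem result (S : Scheme.{u}) (G : Grpd.GroupoidScheme S) [IsFinite G.s] [IsFinite G.t] [LocallyOfFinitePresentation G.s] [LocallyOfFinitePresentation G.t] : ∃ (W : G.U.Opens) (W' : (↑W : Scheme.{u}).IdealSheafData), G.s ⁻¹ᵁ W = G.t ⁻¹ᵁ W ∧ W'.support = ⊤ ∧ (∃ φ : pullback G.s (W'.subschemeι ≫ W.ι) ≅ pullback G.t (W'.subschemeι ≫ W.ι), φ.hom ≫ pullback.fst G.t (W'.subschemeι ≫ W.ι) = pullback.fst G.s (W'.subschemeι ≫ W.ι)) ∧ (∀ u : G.U, ∃ r : G.R, G.t r = u ∧ G.s r ∈ closure (W : Set G.U)) ∧ Mor2.IsFinLocFree (pullback.snd G.s (W'.subschemeι ≫ W.ι)) ∧ Mor2.IsFinLocFree (pullback.snd G.t (W'.subschemeι ≫ W.ι)) ∧ LocallyOfFinitePresentation W'.subschemeι ∧ ∀ u : G.U, (∀ r : G.R, G.s r = u → ∀ x : G.U, x ⤳ G.t r → x = G.t r) → u ∈ W := by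

  classical
  open Groth.Agent.Lib.Helper20.HG in
  obtain ⟨Wn, hdisj, hinv, hsub, hsupp, hcl, hgen⟩ := main_aux S G
  open Groth.Agent.Lib.Helper20.HG in
  refine ⟨WW Wn, thick Wn (fun m => fit G.s m), ?_, ?_, ?_, hcl, ?_, ?_, ?_, hgen⟩
  · ext r
    constructor
    · intro hr
      obtain ⟨m, hm⟩ := TopologicalSpace.Opens.mem_iSup.mp (show G.s r ∈ ⨆ m, Wn m from hr)
      have h1 : r ∈ G.s ⁻¹ᵁ Wn m := hm
      rw [hinv m] at h1
      exact TopologicalSpace.Opens.mem_iSup.mpr ⟨m, h1⟩
    · intro hr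
      obtain ⟨m, hm⟩ := TopologicalSpace.Opens.mem_iSup.mp (show G.t r ∈ ⨆ m, Wn m from hr)
      have h1 : r ∈ G.t ⁻¹ᵁ Wn m := hm
      rw [← hinv m] at h1
      exact TopologicalSpace.Opens.mem_iSup.mpr ⟨m, h1⟩
  · exact Groth.Agent.Lib.Helper20.HG.support_thick Wn _ hdisj hsub
  · exact Groth.Agent.Lib.Helper20.HG.exists_iso_thick Wn _ hdisj G.s G.t hinv
      (fun m => Groth.Agent.Lib.Helper20.HG.comap_s_eq_comap_t G m)
  · exact Groth.Agent.Lib.Helper20.HG.isFinLocFree_thick Wn _ hdisj G.s (fun k => rfl) hsupp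
  · exact Groth.Agent.Lib.Helper20.HG.isFinLocFree_thick Wn _ hdisj G.t
      (fun k => Groth.Agent.Lib.Helper20.HG.fit_t_eq G k) hsupp
  · exact Groth.Agent.Lib.Helper20.HG.lfp_thick Wn _ hdisj
      (fun m V => Groth.Agent.Lib.Helper20.HG.fit_ideal_fg G.s m V)

end Groth.Agent.S1909
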