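import Groth.Statements.S19106
import Mathlib

set_option autoImplicit false
open HilbD

namespace Groth.Agent.S19106

/-- Let μ be a non-empty Young diagram, V the number of its cells, E the number of unordered pairs of
cells sharing a side (a cell together with the cell immediately below it, or immediately to its
right, both in μ) and Q the number of 2 × 2 blocks of cells of μ (cells c such that the cell
diagonally below-right of c is in μ, the other two corners being in μ automatically). Then V − E + Q
− 1 = 0, stated as V + Q = E + 1 in the naturals. (The empty diagram, for which the count reads 0 −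
0 + 0 − 1, is excluded.) -/
theorem result (μ : YoungDiagram) (hμ : μ ≠ ⊥) :
    μ.cells.card + (μ.cells.filter (fun c => (c.1 + 1, c.2 + 1) ∈ μ)).card =
      (μ.cells.filter (fun c => (c.1 + 1, c.2) ∈ μ)).card + (μ.cells.filter (fun c => (c.1, c.2 + 1) ∈ μ)).card + 1 := by
  classical
  -- nonempty: (0,0) ∈ μ
  have h00 : (0, 0) ∈ μ := by
    have : μ.cells.Nonempty := by
      rw [Finset.nonempty_iff_ne_empty]
      intro h
      apply hμ
      ext c
      simp [h]
    obtain ⟨c, hc⟩ := this
    exact μ.up_left_mem (Nat.zero_le c.1) (Nat.zero_le c.2) ((YoungDiagram.mem_cells c).1 hc)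
  have hr : 0 < μ.rowLen 0 := YoungDiagram.mem_iff_lt_rowLen.1 h00
  set C := μ.cells with hC
  set Eh := C.filter (fun c => (c.1, c.2 + 1) ∈ μ) with hEh
  set L := C.filter (fun c => ¬ (c.1, c.2 + 1) ∈ μ) with hL
  set Ev := C.filter (fun c => (c.1 + 1, c.2) ∈ μ) with hEv
  set Q := C.filter (fun c => (c.1 + 1, c.2 + 1) ∈ μ) with hQ
  set D := C.filter (fun c => (c.1 + 1, c.2) ∈ μ ∧ ¬ (c.1 + 1, c.2 + 1) ∈ μ) with hD
  set L' := L.filter (fun c => 1 ≤ c.1) with hL'
  set L₀ := L.filter (fun c => ¬ 1 ≤ c.1) with hL₀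
  have h1 : Eh.card + L.card = C.card := Finset.card_filter_add_card_filter_not _
  have h2 : L'.card + L₀.card = L.card := Finset.card_filter_add_card_filter_not _
  have h3 : Q.card + D.card = Ev.card := by
    have hQ' : Q = Ev.filter (fun c => (c.1 + 1, c.2 + 1) ∈ μ) := by
      ext c
      simp only [hQ, hEv, Finset.mem_filter]
      constructor
      · rintro ⟨hc, h⟩
        exact ⟨⟨hc, μ.up_left_mem le_rfl (Nat.le_succ _) h⟩, h⟩
      · rintro ⟨⟨hc, -⟩, h⟩
        exact ⟨hc, h⟩
    have hD' : D = Ev.filter (fun c => ¬ (c.1 + 1, c.2 + 1) ∈ μ) := by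
      ext c
      simp only [hD, hEv, Finset.mem_filter]
      tauto
    rw [hQ', hD']
    exact Finset.card_filter_add_card_filter_not _
  have h4 : D.card = L'.card := by
    apply Finset.card_bij (fun c _ => (c.1 + 1, c.2))
    · intro c hc
      simp only [hD, Finset.mem_filter] at hc
      simp only [hL', hL, hC, Finset.mem_filter, YoungDiagram.mem_cells]
      exact ⟨⟨hc.2.1, hc.2.2⟩, Nat.le_add_left 1 c.1⟩
    · intro c _ c' _ h
      simp only [Prod.mk.injEq, add_left_inj] at h
      exact Prod.ext h.1 h.2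
    · intro c' hc'
      simp only [hL', hL, hC, Finset.mem_filter, YoungDiagram.mem_cells] at hc'
      obtain ⟨⟨hc'μ, hc'n⟩, hc'1⟩ := hc'
      refine ⟨(c'.1 - 1, c'.2), ?_, ?_⟩
      · simp only [hD, hC, Finset.mem_filter, YoungDiagram.mem_cells]
        have e : c'.1 - 1 + 1 = c'.1 := Nat.sub_add_cancel hc'1
        refine ⟨μ.up_left_mem (Nat.sub_le _ _) le_rfl hc'μ, ?_, ?_⟩
        · rw [e]; exact hc'μ
        · rw [e]; exact hc'n
      · simp only
        rw [Nat.sub_add_cancel hc'1]
  have h5 : L₀.card = 1 := by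
    rw [Finset.card_eq_one]
    refine ⟨(0, μ.rowLen 0 - 1), ?_⟩
    ext c
    obtain ⟨i, j⟩ := c
    simp only [hL₀, hL, hC, Finset.mem_filter, YoungDiagram.mem_cells, Finset.mem_singleton,
      Prod.mk.injEq, YoungDiagram.mem_iff_lt_rowLen]
    constructor
    · rintro ⟨⟨h1, h2⟩, h3⟩
      have hi : i = 0 := by omega
      subst hi
      exact ⟨rfl, by omega⟩
    · rintro ⟨rfl, rfl⟩
      exact ⟨⟨by omega, by omega⟩, by omega⟩
  omega

end Groth.Agent.S19106
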