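import Groth.Statements.S1914
import Mathlib
import Groth.Agent.Lib.Helper11.KzRes
import Groth.Agent.Lib.Helper11.KzRow

set_option autoImplicit false
universe u
open CategoryTheory
attribute [local instance] HasDerivedCategory.standard
open IntMult

namespace Groth.Agent.S1914

/-- Let A be a Noetherian local ring, I = (g₁, …, g_c) an ideal generated by a regular sequence and M a
finite A-module with Supp(M/IM) of dimension ≤ 0. Then c! · length_A(M/I^t M)/t^c tends, as t → ∞,
to Σ_i (−1)^i length_A Tor_i^A(A/I, M); that is, e_I(M, c) equals this alternating sum. -/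
theorem result (A : Type u) [CommRing A] [IsNoetherianRing A] [IsLocalRing A] (c : ℕ) (g : Fin c → A) (hreg : RingTheory.Sequence.IsRegular A (List.ofFn g)) (M : Type u) [AddCommGroup M] [Module A M] [Module.Finite A M] (h0 : Module.supportDim A (M ⧸ (Ideal.span (Set.range g) • (⊤ : Submodule A M))) ≤ 0) : Filter.Tendsto (fun t : ℕ => (c.factorial : ℝ) * ((Module.length A (M ⧸ (Ideal.span (Set.range g) ^ t • (⊤ : Submodule A M)))).toNat : ℝ) / (t : ℝ) ^ c) Filter.atTop (nhds (IntMult.chi A (A ⧸ Ideal.span (Set.range g)) M : ℝ)) := by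
  have hK := Groth.Agent.Lib.Helper11.Kz.koszulRegular_of_isWeaklyRegular (List.ofFn g)
    hreg.toIsWeaklyRegular
  have h1 := Groth.Agent.Lib.Helper11.Kz.intMult_chi_eq (List.ofFn g) hK M
  have hI := Groth.Agent.Lib.Helper11.Kz.ofList_ofFn g
  have h2 : IntMult.chi A (A ⧸ Ideal.span (Set.range g)) M =
      Groth.Agent.Lib.Helper11.Kz.chi (List.ofFn g) M := hI ▸ h1
  rw [h2]
  apply Groth.Agent.Lib.Helper11.Kz.serre_row g M
  exact Groth.Agent.Lib.Helper24.isFiniteLength_of_supportDim_le_zero h0

end Groth.Agent.S1914
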