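import Groth.Statements.S19144
import Groth.Agent.Lib.Helper10.TwCVal2

set_option autoImplicit false
open CategoryTheory MonoidalCategory CartesianMonoidalCategory MonObj GrpObj AlgebraicGeometry
universe u
open TwC

namespace Groth.Agent.S19144

/-- A quasi-isotrivial twisted constant S-scheme X (etale-locally on S isomorphic to a constant scheme)
is separated and etale over S, and its structure morphism satisfies the valuative criterion of
properness (every valuative square has exactly one lift; X ⟶ S need not be quasi-compact). -/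
theorem result {S : Scheme.{u}} (X : Over S)
    (hX : TwC.IsTwConst TwC.Topology.etale X) :
    IsSeparated X.hom ∧ Etale X.hom ∧ ValuativeCriterion X.hom := by
  have hchart : ∀ s : S, ∃ (S' : Scheme.{u}) (f : S' ⟶ S) (_ : Etale f) (I : Type u)
      (ε : Limits.pullback X.hom f ≅ ∐ fun _ : I => S')
      (_ : ε.hom ≫ Limits.Sigma.desc (fun _ : I => 𝟙 S') = Limits.pullback.snd X.hom f),
      s ∈ Set.range f := by
    intro s
    obtain ⟨S', g, hg, hmem, I, ⟨e⟩⟩ := hX s
    let ε : Limits.pullback X.hom g ≅ ∐ fun _ : I => S' := (Over.forget _).mapIso e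
    have hε : ε.hom ≫ Limits.Sigma.desc (fun _ : I => 𝟙 S') = Limits.pullback.snd X.hom g :=
      Over.w e.hom
    exact ⟨S', g, hg, I, ε, hε, hmem⟩
  exact ⟨Groth.Agent.Lib.Helper10.TwCVal.isSeparated_of_charts X.hom hchart,
    Groth.Agent.Lib.Helper10.TwCFin.etale_of_charts X.hom hchart,
    Groth.Agent.Lib.Helper10.TwCVal.valuativeCriterion_of_charts X.hom hchart⟩

end Groth.Agent.S19144
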