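import Groth.Statements.S1916
import Mathlib
import Groth.Agent.Lib.Helper18.CycLen

set_option autoImplicit false
universe u
open CategoryTheory AlgebraicGeometry
open Cyc

namespace Groth.Agent.S1916

/-- Let F be a coherent O_X-module on a locally Noetherian scheme X. The irreducible components of Supp
F form a locally finite family of subsets of X, and at every point ξ of Supp F admitting no proper
generalization inside Supp F the stalk F_ξ has finite length over O_{X,ξ}. -/
theorem result (X : Scheme.{u}) [IsLocallyNoetherian X] (F : X.Modules) (hF : Coh.IsCoh F) : LocallyFinite (fun Z : irreducibleComponents {x : X | Nontrivial (F.presheaf.stalk x)} => ((↑) '' (Z : Set {x : X | Nontrivial (F.presheaf.stalk x)}) : Set X)) ∧ ∀ ξ : X, Nontrivial (F.presheaf.stalk ξ) → (∀ x : X, Nontrivial (F.presheaf.stalk x) → x ⤳ ξ → x = ξ) → Module.length (X.presheaf.stalk ξ) (F.presheaf.stalk ξ) < ⊤ := by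
  obtain ⟨hqc, hft⟩ := hF
  haveI : F.IsQuasicoherent := hqc
  haveI : F.IsFiniteType := hft
  have hsupp := Groth.Agent.Lib.Helper18.CycLen.support_eq_setOf_nontrivial F
  have hcl : IsClosed {x : X | Nontrivial (F.presheaf.stalk x)} := by
    rw [← hsupp]
    exact Groth.Agent.Lib.Helper29.QCoh.isClosed_support_of_isFiniteType F
  refine ⟨?_, ?_⟩
  · exact Groth.Agent.Lib.Helper14.AS.locallyFinite_irreducibleComponents_subtype
      (X := X) Groth.Agent.Lib.Helper18.JacDim.exists_noetherianSpace_nhd _ hcl
  · intro ξ _ hmax
    apply Groth.Agent.Lib.Helper18.CycLen.length_stalk_lt_top_of_maximal F ξ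
    intro x hx hxξ
    rw [hsupp] at hx
    exact hmax x hx hxξ

end Groth.Agent.S1916
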