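import Groth.Statements.S19160
import Mathlib

set_option autoImplicit false
open scoped TensorProduct
universe u
open PureMod

namespace Groth.Agent.S19160

/-- (2) ⇒ (3): in affine form, let R be a commutative ring and i : A → B an R-linear map such that for
every commutative R-algebra R' the base change R' ⊗ A → R' ⊗ B is injective (the pull-back of i to
every affine scheme over Spec R is a monomorphism). Then F ⊗ A → F ⊗ B is injective for every
R-module F, i.e. i is universally injective (pure). (Modules and algebras are taken in the universe
of R.) -/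
theorem result (R : Type u) [CommRing R]
    (A B : Type u) [AddCommGroup A] [Module R A] [AddCommGroup B] [Module R B] (i : A →ₗ[R] B)
    (h : ∀ (R' : Type u) [CommRing R'] [Algebra R R'], Function.Injective (i.baseChange R'))
    (F : Type u) [AddCommGroup F] [Module R F] :
    Function.Injective (i.lTensor F) := by
  letI : Module Rᵐᵒᵖ F := Module.compHom F ((RingHom.id R).fromOpposite mul_comm)
  haveI : IsCentralScalar R F := ⟨fun r m => rfl⟩
  have hinj := h (TrivSqZeroExt R F)
  rw [LinearMap.baseChange_eq_ltensor] at hinj
  set j : F →ₗ[R] TrivSqZeroExt R F := TrivSqZeroExt.inrHom R F with hj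
  set q : TrivSqZeroExt R F →ₗ[R] F := TrivSqZeroExt.sndHom R F with hq
  have hqj : q.comp j = LinearMap.id := by
    ext m
    simp [hj, hq]
  rw [injective_iff_map_eq_zero]
  intro x hx
  have h1 : (i.lTensor (TrivSqZeroExt R F)) ((j.rTensor A) x) = 0 := by
    have : (i.lTensor (TrivSqZeroExt R F)).comp (j.rTensor A) = (j.rTensor B).comp (i.lTensor F) := by
      rw [LinearMap.lTensor_comp_rTensor, LinearMap.rTensor_comp_lTensor]
    have h2 := LinearMap.congr_fun this x
    simp only [LinearMap.comp_apply] at h2
    rw [h2, hx, map_zero]
  have h2 : (j.rTensor A) x = 0 := (injective_iff_map_eq_zero _).1 hinj _ h1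
  have h3 := congrArg (q.rTensor A) h2
  rw [map_zero, ← LinearMap.comp_apply, ← LinearMap.rTensor_comp, hqj, LinearMap.rTensor_id] at h3
  exact h3

end Groth.Agent.S19160
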