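import Groth.Statements.S19170
import Mathlib

set_option autoImplicit false
universe u
open ProCompl

namespace Groth.Agent.S19170

section helpers

open Set

theorem torsion_QZ (x : ℚ ⧸ AddSubgroup.zmultiples (1 : ℚ)) : ∃ n : ℕ, 0 < n ∧ n • x = 0 := by
  obtain ⟨r, rfl⟩ := QuotientAddGroup.mk_surjective x
  refine ⟨r.den, r.den_pos, ?_⟩
  rw [← QuotientAddGroup.mk_nsmul, QuotientAddGroup.eq_zero_iff]
  refine ⟨r.num, ?_⟩
  show r.num • (1 : ℚ) = r.den • r
  rw [nsmul_eq_mul, zsmul_eq_mul, mul_one]
  exact (Rat.den_mul_eq_num r).symm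

theorem main
    {B : Type u} [AddCommGroup B] [TopologicalSpace B] [IsTopologicalAddGroup B]
    (hcg : ∃ K : Set B, IsCompact K ∧ AddSubgroup.closure K = ⊤)
    (χ : B →+ ℚ ⧸ AddSubgroup.zmultiples (1 : ℚ)) (hχ : IsOpen (χ.ker : Set B)) : χ.ker.FiniteIndex := by
  obtain ⟨K, hK, hgen⟩ := hcg
  have hopen : ∀ c, IsOpen (χ ⁻¹' {c}) := by
    intro c
    rw [isOpen_iff_mem_nhds]
    intro b hb
    have h1 : IsOpen {x : B | x - b ∈ (χ.ker : Set B)} :=
      hχ.preimage (continuous_id.sub continuous_const)
    refine Filter.mem_of_superset (h1.mem_nhds (by simp)) ?_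
    intro x hx
    have : χ (x - b) = 0 := hx
    rw [map_sub, sub_eq_zero] at this
    rw [mem_preimage, mem_singleton_iff, this]
    exact hb
  have hfin : (χ '' K).Finite := by
    obtain ⟨t, ht⟩ := hK.elim_finite_subcover (fun c => χ ⁻¹' {c}) hopen
      (fun b _ => mem_iUnion.mpr ⟨χ b, rfl⟩)
    refine (t.finite_toSet).subset ?_
    rintro _ ⟨b, hb, rfl⟩
    obtain ⟨c, hc, hbc⟩ := mem_iUnion₂.mp (ht hb)
    have : χ b = c := hbc
    rw [this]
    exact hc
  have hrange : χ.range = AddSubgroup.closure (χ '' K) := by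
    rw [← AddMonoidHom.map_closure, hgen, AddMonoidHom.range_eq_map]
  have hfg : AddGroup.FG χ.range := by
    rw [AddGroup.fg_iff_addSubgroup_fg, hrange]
    exact ⟨hfin.toFinset, by simp⟩
  have htors : IsAddTorsion χ.range := by
    intro x
    obtain ⟨n, hn, hx⟩ := torsion_QZ (x : ℚ ⧸ AddSubgroup.zmultiples (1 : ℚ))
    rw [isOfFinAddOrder_iff_nsmul_eq_zero]
    refine ⟨n, hn, ?_⟩
    apply Subtype.ext
    simpa using hx
  have : Finite χ.range := AddCommGroup.finite_of_fg_isAddTorsion _ htors
  infer_instance

end helpers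

/-- Let B be a topological abelian group generated as a group by a compact subset. Then every character
χ : B → ℚ/ℤ with open kernel (a continuous character for discrete ℚ/ℤ) has kernel of finite index;
consequently each such character factors through B^∧, the completion of B taken along its
finite-index open subgroups, i.e. (B^∧)^D = B^D. (The published statement assumes moreover that B is
Hausdorff, locally compact and totally disconnected; only compact generation is needed for this
assertion, so those assumptions are dropped here.) -/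
theorem result
    {B : Type u} [AddCommGroup B] [TopologicalSpace B] [IsTopologicalAddGroup B]
    (hcg : ∃ K : Set B, IsCompact K ∧ AddSubgroup.closure K = ⊤)
    (χ : B →+ ℚ ⧸ AddSubgroup.zmultiples (1 : ℚ)) (hχ : IsOpen (χ.ker : Set B)) : χ.ker.FiniteIndex := by
  exact main hcg χ hχ

end Groth.Agent.S19170
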