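import Groth.Statements.S19173
import Mathlib
import Groth.Agent.Lib.Helper11.ProCompl

set_option autoImplicit false
universe u v
open ProCompl

namespace Groth.Agent.S19173

section helpers

open Topology Groth.Agent.Lib.Helper11.ProCompl W4c61motalbduality

/-- Every open subgroup of finite index of `A` contains the preimage of an open subgroup of finite
index of `B`. -/
theorem exists_openFI_comap_le
    {A : Type u} {B : Type v} [AddCommGroup A] [TopologicalSpace A] [IsTopologicalAddGroup A]
    [AddCommGroup B] [TopologicalSpace B] [IsTopologicalAddGroup B]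
    [T2Space B] [LocallyCompactSpace B] [TotallyDisconnectedSpace B]
    (hcg : ∃ K : Set B, IsCompact K ∧ AddSubgroup.closure K = ⊤)
    (i : A →+ B) (hi : Continuous i) (hind : IsInducing i) (U : OpenFI A) :
    ∃ V : OpenFI B, (V.comap i hi).toAddSubgroup ≤ U.toAddSubgroup := by
  classical
  have hfin : Finite (A ⧸ U.toAddSubgroup) := by
    have := U.finiteIndex'
    infer_instance
  -- characters of `A ⧸ U` separating points
  have hsep : ∀ y : A ⧸ U.toAddSubgroup, ∃ c : A ⧸ U.toAddSubgroup →+ ℚ ⧸ AddSubgroup.zmultiples (1 : ℚ),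
      y ≠ 0 → c y ≠ 0 := by
    intro y
    by_cases hy : y = 0
    · exact ⟨0, fun h => absurd hy h⟩
    · obtain ⟨c, hc⟩ := CharacterModule.exists_character_apply_ne_zero_of_ne_zero hy
      exact ⟨c, fun _ => hc⟩
  choose c hc using hsep
  -- the characters of `A`
  let χ : (A ⧸ U.toAddSubgroup) → (A →+ ℚ ⧸ AddSubgroup.zmultiples (1 : ℚ)) :=
    fun y => (c y).comp (QuotientAddGroup.mk' U.toAddSubgroup)
  have hχo : ∀ y, IsOpen ((χ y).ker : Set A) := by
    intro y
    refine AddSubgroup.isOpen_mono (H₁ := U.toAddSubgroup) ?_ U.isOpen'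
    intro u hu
    show c y ((u : A) : A ⧸ U.toAddSubgroup) = 0
    rw [(QuotientAddGroup.eq_zero_iff u).mpr hu, map_zero]
  -- extend to `B`
  have hext : ∀ y, ∃ ψ : B →+ ℚ ⧸ AddSubgroup.zmultiples (1 : ℚ),
      IsOpen (ψ.ker : Set B) ∧ ψ.comp i = χ y := by
    intro y
    obtain ⟨V, hVo, hVχ⟩ := hind.isOpen_iff.mp (hχo y)
    have h0V : (0 : B) ∈ V := by
      have : (0 : A) ∈ i ⁻¹' V := by rw [hVχ]; exact (χ y).ker.zero_mem
      simpa using this
    obtain ⟨U', hUo, hUV⟩ := exists_open_addSubgroup_subset (hVo.mem_nhds h0V)
    refine exists_character_extension U' hUo i (χ y) ?_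
    intro a ha
    have : a ∈ i ⁻¹' V := hUV ha
    rw [hVχ] at this
    exact this
  choose ψ hψo hψ using hext
  have hψfi : ∀ y, (ψ y).ker.FiniteIndex :=
    fun y => finiteIndex_ker_of_compactlyGenerated hcg (ψ y) (hψo y)
  let V : OpenFI B :=
    { toAddSubgroup := ⨅ y, (ψ y).ker
      isOpen' := by
        rw [AddSubgroup.coe_iInf]
        exact isOpen_iInter_of_finite hψo
      finiteIndex' := AddSubgroup.finiteIndex_iInf hψfi }
  refine ⟨V, ?_⟩
  intro a ha
  have ha' : ∀ y, ψ y (i a) = 0 := by
    intro y
    have : i a ∈ ⨅ y, (ψ y).ker := ha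
    rw [AddSubgroup.mem_iInf] at this
    exact this y
  by_contra hau
  have hne : ((a : A) : A ⧸ U.toAddSubgroup) ≠ 0 := by
    rwa [Ne, QuotientAddGroup.eq_zero_iff]
  apply hc _ hne
  have h1 := ha' ((a : A) : A ⧸ U.toAddSubgroup)
  have h2 : (ψ ((a : A) : A ⧸ U.toAddSubgroup)).comp i a = 0 := h1
  rw [hψ] at h2
  exact h2

theorem main
    {A : Type u} {B : Type v} [AddCommGroup A] [TopologicalSpace A] [IsTopologicalAddGroup A]
    [AddCommGroup B] [TopologicalSpace B] [IsTopologicalAddGroup B]
    [T2Space B] [LocallyCompactSpace B] [TotallyDisconnectedSpace B]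
    (hcg : ∃ K : Set B, IsCompact K ∧ AddSubgroup.closure K = ⊤)
    (i : A →+ B) (hi : Continuous i) (hinj : Function.Injective i) (hind : IsInducing i)
    (hcl : IsClosed (Set.range i)) :
    Function.Injective (FICompl.map i hi) := by
  rw [injective_iff_map_eq_zero]
  intro x hx
  apply Subtype.ext
  funext U
  show x.1 U = 0
  obtain ⟨V, hVU⟩ := exists_openFI_comap_le hcg i hi hind U
  -- component at `V` of `map x` vanishes
  have h1 : QuotientAddGroup.map (V.comap i hi).toAddSubgroup V.toAddSubgroup i
      (V.comap_le i) (x.1 (V.comap i hi)) = 0 := by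
    have := congrArg (fun z : FICompl B => z.1 V) hx
    exact this
  have h2 : x.1 (V.comap i hi) = 0 := by
    obtain ⟨a, ha⟩ := QuotientAddGroup.mk_surjective (x.1 (V.comap i hi))
    rw [← ha, QuotientAddGroup.map_mk, QuotientAddGroup.eq_zero_iff] at h1
    rw [← ha, QuotientAddGroup.eq_zero_iff]
    exact h1
  have h3 := x.2 (V.comap i hi) U hVU
  rw [h2, map_zero] at h3
  exact h3.symm

end helpers

open W4c61motalbduality Topology in
/-- Let B be a Hausdorff, locally compact, totally disconnected topological abelian group generated as a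
group by a compact subset, and let i : A → B be an injective continuous homomorphism inducing the
topology of A from that of B (a strict injection) with closed image. Then the map induced by i on
completions with respect to open subgroups of finite index is injective; together with right
exactness for open surjections this makes 0 → A^∧ → B^∧ → C^∧ → 0 exact for a topological exact
sequence 0 → A → B → C → 0 with such B, strict closed i and open p. -/
theorem result
    {A : Type u} {B : Type v} [AddCommGroup A] [TopologicalSpace A] [IsTopologicalAddGroup A]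
    [AddCommGroup B] [TopologicalSpace B] [IsTopologicalAddGroup B]
    [T2Space B] [LocallyCompactSpace B] [TotallyDisconnectedSpace B]
    (hcg : ∃ K : Set B, IsCompact K ∧ AddSubgroup.closure K = ⊤)
    (i : A →+ B) (hi : Continuous i) (hinj : Function.Injective i) (hind : IsInducing i)
    (hcl : IsClosed (Set.range i)) :
    Function.Injective (FICompl.map i hi) := by
  exact main hcg i hi hinj hind hcl

end Groth.Agent.S19173
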