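import Groth.Statements.S19176
import Mathlib
import Groth.Agent.Lib.Helper20.MonomialQuot

set_option autoImplicit false
universe u
open PlaneCurve

namespace Groth.Agent.S19176


open MvPolynomial
theorem span_eq_of_mem {P : Type*} [CommRing P] (a₁ a₂ a₃ b₁ b₂ : P)
    (h : ∀ I : Ideal P, b₁ ∈ I → b₂ ∈ I → a₁ ∈ I ∧ a₂ ∈ I ∧ a₃ ∈ I)
    (h' : ∀ I : Ideal P, a₁ ∈ I → a₂ ∈ I → a₃ ∈ I → b₁ ∈ I ∧ b₂ ∈ I) :
    Ideal.span ({a₁, a₂, a₃} : Set P) = Ideal.span ({b₁, b₂} : Set P) := by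
  apply le_antisymm
  · rw [Ideal.span_le]
    obtain ⟨h1, h2, h3⟩ := h (Ideal.span ({b₁, b₂} : Set P))
      (Ideal.subset_span (Set.mem_insert _ _))
      (Ideal.subset_span (Set.mem_insert_of_mem _ rfl))
    rintro q (rfl | rfl | rfl)
    · exact h1
    · exact h2
    · exact h3
  · rw [Ideal.span_le]
    obtain ⟨h1, h2⟩ := h' (Ideal.span ({a₁, a₂, a₃} : Set P))
      (Ideal.subset_span (Set.mem_insert _ _))
      (Ideal.subset_span (Set.mem_insert_of_mem _ (Set.mem_insert _ _)))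
      (Ideal.subset_span (Set.mem_insert_of_mem _ (Set.mem_insert_of_mem _ rfl)))
    rintro q (rfl | rfl)
    · exact h1
    · exact h2

open MvPolynomial in
/-- Let k be a field of characteristic p (p = 0 allowed) and F = y² − x³ in k[x, y] (x the variable of
index 0, y of index 1). The singular subscheme of the plane curve F = 0, cut out by F and its two
partial derivatives, is finite over k of degree 4 when p = 2, of degree 3 when p = 3, and of degree
2 otherwise: the k-dimension of k[x, y]/(F, ∂F/∂x, ∂F/∂y) is that number. (The source phrases this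
through the complete local ring of a cusp; the row is the computation for the standard cusp y² =
x³.) -/
theorem result (k : Type u) [Field k] (p : ℕ) [CharP k p] :
    Module.finrank k (MvPolynomial (Fin 2) k ⧸ Ideal.span
      ({X 1 ^ 2 - X 0 ^ 3, pderiv 0 (X 1 ^ 2 - X 0 ^ 3), pderiv 1 (X 1 ^ 2 - X 0 ^ 3)} :
        Set (MvPolynomial (Fin 2) k))) = (if p = 2 then 4 else if p = 3 then 3 else 2) := by

  classical
  have hp0 : pderiv (0 : Fin 2) ((X 1 ^ 2 - X 0 ^ 3 : MvPolynomial (Fin 2) k)) = - (3 * X 0 ^ 2) := by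
    simp [pderiv_X]
  have hp1 : pderiv (1 : Fin 2) ((X 1 ^ 2 - X 0 ^ 3 : MvPolynomial (Fin 2) k)) = 2 * X 1 := by
    simp [pderiv_X]
  rw [hp0, hp1]
  have h2C : (2 : MvPolynomial (Fin 2) k) = C (2 : k) := (map_ofNat C 2).symm
  have h3C : (3 : MvPolynomial (Fin 2) k) = C (3 : k) := (map_ofNat C 3).symm
  have hp1' : p ≠ 1 := CharP.char_ne_one k p
  have h2k : (2 : k) = 0 ↔ p ∣ 2 := by
    have := CharP.cast_eq_zero_iff k p 2
    simpa using this
  have h3k : (3 : k) = 0 ↔ p ∣ 3 := by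
    have := CharP.cast_eq_zero_iff k p 3
    simpa using this
  have hd2 : p ∣ 2 ↔ p = 2 := by
    constructor
    · intro h
      rcases (Nat.dvd_prime Nat.prime_two).mp h with h1 | h1
      · exact absurd h1 hp1'
      · exact h1
    · intro h; rw [h]
  have hd3 : p ∣ 3 ↔ p = 3 := by
    constructor
    · intro h
      rcases (Nat.dvd_prime Nat.prime_three).mp h with h1 | h1
      · exact absurd h1 hp1'
      · exact h1
    · intro h; rw [h]
  by_cases hp2 : p = 2
  · rw [if_pos hp2]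
    have h2z : (2 : k) = 0 := h2k.mpr (hd2.mpr hp2)
    have h3o : (3 : k) = 1 := by
      have : (3 : k) = 2 + 1 := by norm_num
      rw [this, h2z, zero_add]
    have hJ : Ideal.span ({X 1 ^ 2 - X 0 ^ 3, -(3 * X 0 ^ 2), 2 * X 1} :
        Set (MvPolynomial (Fin 2) k)) = Ideal.span ({X 0 ^ 2, X 1 ^ 2} :
        Set (MvPolynomial (Fin 2) k)) := by
      rw [h2C, h3C, h2z, h3o, C_0, C_1, zero_mul, one_mul]
      apply span_eq_of_mem
      · intro I hb1 hb2
        refine ⟨?_, neg_mem hb1, I.zero_mem⟩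
        have e : (X 1 ^ 2 - X 0 ^ 3 : MvPolynomial (Fin 2) k) = X 1 ^ 2 - X 0 * X 0 ^ 2 := by ring
        rw [e]
        exact I.sub_mem hb2 (I.mul_mem_left _ hb1)
      · intro I ha1 ha2 _
        have hx2 : (X 0 ^ 2 : MvPolynomial (Fin 2) k) ∈ I := by
          have := neg_mem ha2
          rwa [neg_neg] at this
        refine ⟨hx2, ?_⟩
        have e : (X 1 ^ 2 : MvPolynomial (Fin 2) k) = (X 1 ^ 2 - X 0 ^ 3) + X 0 * X 0 ^ 2 := by ring
        rw [e]
        exact I.add_mem ha1 (I.mul_mem_left _ hx2)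
    rw [hJ]
    exact Groth.Agent.Lib.Helper20.MonomialQuot.finrank_two 2 2
  rw [if_neg hp2]
  have h2nz : (2 : k) ≠ 0 := fun h => hp2 (hd2.mp (h2k.mp h))
  have hy : ∀ (I : Ideal (MvPolynomial (Fin 2) k)), (2 * X 1 : MvPolynomial (Fin 2) k) ∈ I →
      (X 1 : MvPolynomial (Fin 2) k) ∈ I := by
    intro I hT
    have := I.mul_mem_left (C ((2 : k)⁻¹)) hT
    rwa [h2C, ← mul_assoc, ← C_mul, inv_mul_cancel₀ h2nz, C_1, one_mul] at this
  by_cases hp3 : p = 3
  · rw [if_pos hp3]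
    have h3z : (3 : k) = 0 := h3k.mpr (hd3.mpr hp3)
    have hJ : Ideal.span ({X 1 ^ 2 - X 0 ^ 3, -(3 * X 0 ^ 2), 2 * X 1} :
        Set (MvPolynomial (Fin 2) k)) = Ideal.span ({X 0 ^ 3, X 1 ^ 1} :
        Set (MvPolynomial (Fin 2) k)) := by
      apply span_eq_of_mem
      · intro I hb1 hb2
        rw [pow_one] at hb2
        refine ⟨?_, ?_, I.mul_mem_left _ hb2⟩
        · have e : (X 1 ^ 2 - X 0 ^ 3 : MvPolynomial (Fin 2) k) = X 1 * X 1 - X 0 ^ 3 := by ring
          rw [e]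
          exact I.sub_mem (I.mul_mem_left _ hb2) hb1
        · rw [h3C, h3z, C_0, zero_mul, neg_zero]
          exact I.zero_mem
      · intro I ha1 _ ha3
        have hy' := hy I ha3
        refine ⟨?_, by rw [pow_one]; exact hy'⟩
        have e : (X 0 ^ 3 : MvPolynomial (Fin 2) k) = X 1 * X 1 - (X 1 ^ 2 - X 0 ^ 3) := by ring
        rw [e]
        exact I.sub_mem (I.mul_mem_left _ hy') ha1
    rw [hJ]
    exact Groth.Agent.Lib.Helper20.MonomialQuot.finrank_two 3 1
  · rw [if_neg hp3]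
    have h3nz : (3 : k) ≠ 0 := fun h => hp3 (hd3.mp (h3k.mp h))
    have hJ : Ideal.span ({X 1 ^ 2 - X 0 ^ 3, -(3 * X 0 ^ 2), 2 * X 1} :
        Set (MvPolynomial (Fin 2) k)) = Ideal.span ({X 0 ^ 2, X 1 ^ 1} :
        Set (MvPolynomial (Fin 2) k)) := by
      apply span_eq_of_mem
      · intro I hb1 hb2
        rw [pow_one] at hb2
        refine ⟨?_, neg_mem (I.mul_mem_left _ hb1), I.mul_mem_left _ hb2⟩
        have e : (X 1 ^ 2 - X 0 ^ 3 : MvPolynomial (Fin 2) k) = X 1 * X 1 - X 0 * X 0 ^ 2 := by ring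
        rw [e]
        exact I.sub_mem (I.mul_mem_left _ hb2) (I.mul_mem_left _ hb1)
      · intro I _ ha2 ha3
        have hy' := hy I ha3
        refine ⟨?_, by rw [pow_one]; exact hy'⟩
        have h1 := neg_mem ha2
        rw [neg_neg] at h1
        have h2 := I.mul_mem_left (C ((3 : k)⁻¹)) h1
        rwa [h3C, ← mul_assoc, ← C_mul, inv_mul_cancel₀ h3nz, C_1, one_mul] at h2
    rw [hJ]
    exact Groth.Agent.Lib.Helper20.MonomialQuot.finrank_two 2 1

end Groth.Agent.S19176
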