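import Groth.Statements.S19177
import Mathlib

set_option autoImplicit false
universe u
open CAlg

namespace Groth.Agent.S19177

open TensorProduct

/-- For a finite projective algebra of positive rank everywhere, the unit is unimodular. -/
theorem exists_dual_one_eq_one (S R : Type*) [CommRing S] [CommRing R] [Algebra S R]
    [Module.Finite S R] [Module.Projective S R]
    (hpos : ∀ p : PrimeSpectrum S, Module.rankAtStalk (R := S) R p ≠ 0) :
    ∃ φ : R →ₗ[S] S, φ 1 = 1 := by
  classical
  let ev : Module.Dual S R →ₗ[S] S := LinearMap.applyₗ (1 : R)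
  let J : Ideal S := LinearMap.range ev
  by_cases hJ : J = ⊤
  · have h1 : (1 : S) ∈ J := by rw [hJ]; trivial
    obtain ⟨φ, hφ⟩ := h1
    exact ⟨φ, hφ⟩
  · exfalso
    obtain ⟨m, hm, hJm⟩ := Ideal.exists_le_maximal J hJ
    have hmp : m.IsPrime := hm.isPrime
    obtain ⟨s, hs⟩ := (Module.projective_def' (R := S) (P := R)).mp inferInstance
    -- every element of R lies in m • ⊤
    have hone : ∀ x : m.ResidueField, ∀ r : R, x ⊗ₜ[S] r = (0 : m.ResidueField ⊗[S] R) := by
      intro x r
      have hr : r = Finsupp.linearCombination S id (s r) := by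
        have := LinearMap.congr_fun hs r
        simpa using this.symm
      have hcoef : ∀ i : R, (s r) i ∈ m := by
        intro i
        apply hJm
        -- functional t ↦ (s (t * r)) i
        refine ⟨(Finsupp.lapply i ∘ₗ s) ∘ₗ (LinearMap.mulRight S r), ?_⟩
        simp [ev]
      rw [hr, Finsupp.linearCombination_apply, Finsupp.sum, TensorProduct.tmul_sum]
      apply Finset.sum_eq_zero
      intro i _
      rw [TensorProduct.tmul_smul, TensorProduct.smul_tmul', Algebra.smul_def]
      have : algebraMap S m.ResidueField ((s r) i) = 0 :=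
        (Ideal.algebraMap_residueField_eq_zero).mpr (hcoef i)
      rw [id, this, zero_mul, TensorProduct.zero_tmul]
    have hsub : Subsingleton (m.ResidueField ⊗[S] R) := by
      refine ⟨fun a b => ?_⟩
      have h0 : ∀ z : m.ResidueField ⊗[S] R, z = 0 := by
        intro z
        induction z using TensorProduct.induction_on with
        | zero => rfl
        | tmul x r => exact hone x r
        | add a b ha hb => rw [ha, hb, add_zero]
      rw [h0 a, h0 b]
    have := Module.rankAtStalk_eq (R := S) (M := R) ⟨m, hmp⟩
    rw [Module.finrank_zero_of_subsingleton] at this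
    exact hpos _ this


/-- Let S → R be a homomorphism of commutative rings making R a finitely generated projective S-module
of rank 2 at every prime of S (the affine form of a finite locally free morphism of degree 2). Then
the cokernel of the (injective) structure map S → R, the S-module R/S, is a projective S-module of
rank 1 at every prime of S (locally free of rank 1). -/
theorem result
    (S R : Type u) [CommRing S] [CommRing R] [Algebra S R] [Module.Finite S R] [Module.Projective S R]
    (h2 : ∀ p : PrimeSpectrum S, Module.rankAtStalk (R := S) R p = 2) :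
    Module.Projective S (R ⧸ LinearMap.range (Algebra.linearMap S R)) ∧
      ∀ p : PrimeSpectrum S,
        Module.rankAtStalk (R := S) (R ⧸ LinearMap.range (Algebra.linearMap S R)) p = 1 := by
  classical
  have hpos : ∀ p : PrimeSpectrum S, Module.rankAtStalk (R := S) R p ≠ 0 := by
    intro p; rw [h2]; norm_num
  obtain ⟨φ, hφ⟩ := exists_dual_one_eq_one S R hpos
  have hφa : ∀ a : S, φ (algebraMap S R a) = a := by
    intro a
    rw [Algebra.algebraMap_eq_smul_one, map_smul, hφ, smul_eq_mul, mul_one]
  let g : R →ₗ[S] R := LinearMap.id - (Algebra.linearMap S R) ∘ₗ φ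
  have hg : LinearMap.range (Algebra.linearMap S R) ≤ LinearMap.ker g := by
    rintro _ ⟨a, rfl⟩
    rw [LinearMap.mem_ker]
    simp only [g, LinearMap.sub_apply, LinearMap.id_apply, LinearMap.comp_apply,
      Algebra.linearMap_apply, hφa, sub_self]
  let i : (R ⧸ LinearMap.range (Algebra.linearMap S R)) →ₗ[S] R := Submodule.liftQ _ g hg
  have hsplit : ∀ q, (Submodule.mkQ (LinearMap.range (Algebra.linearMap S R))) (i q) = q := by
    intro q
    obtain ⟨r, rfl⟩ := Submodule.mkQ_surjective _ q
    simp only [i, Submodule.mkQ_apply, Submodule.liftQ_apply, g, LinearMap.sub_apply,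
      LinearMap.id_apply, LinearMap.comp_apply, Algebra.linearMap_apply]
    rw [Submodule.Quotient.mk_sub, sub_eq_self, Submodule.Quotient.mk_eq_zero]
    exact ⟨φ r, rfl⟩
  have hproj : Module.Projective S (R ⧸ LinearMap.range (Algebra.linearMap S R)) :=
    Module.Projective.of_split i (Submodule.mkQ _) (LinearMap.ext hsplit)
  refine ⟨hproj, ?_⟩
  let Ψ : R →ₗ[S] S × (R ⧸ LinearMap.range (Algebra.linearMap S R)) :=
    LinearMap.prod φ (Submodule.mkQ _)
  have hΨ : Function.Bijective Ψ := by
    constructor
    · rw [injective_iff_map_eq_zero]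
      intro r hr
      have h1 : φ r = 0 := congrArg Prod.fst hr
      have h2 : Submodule.Quotient.mk r = (0 : R ⧸ LinearMap.range (Algebra.linearMap S R)) :=
        congrArg Prod.snd hr
      rw [Submodule.Quotient.mk_eq_zero] at h2
      obtain ⟨a, rfl⟩ := h2
      rw [Algebra.linearMap_apply, hφa] at h1
      rw [h1, map_zero]
    · rintro ⟨a, q⟩
      refine ⟨algebraMap S R a + i q, ?_⟩
      have hiq : φ (i q) = 0 := by
        obtain ⟨r, rfl⟩ := Submodule.mkQ_surjective _ q
        simp only [i, Submodule.mkQ_apply, Submodule.liftQ_apply, g, LinearMap.sub_apply,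
          LinearMap.id_apply, LinearMap.comp_apply, Algebra.linearMap_apply, map_sub, hφa, sub_self]
      have hq : Submodule.Quotient.mk (algebraMap S R a + i q) = q := by
        rw [Submodule.Quotient.mk_add]
        have : Submodule.Quotient.mk (algebraMap S R a) =
            (0 : R ⧸ LinearMap.range (Algebra.linearMap S R)) := by
          rw [Submodule.Quotient.mk_eq_zero]; exact ⟨a, rfl⟩
        rw [this, zero_add]
        exact hsplit q
      have hΨdef : Ψ (algebraMap S R a + i q) =
          (φ (algebraMap S R a + i q), Submodule.Quotient.mk (algebraMap S R a + i q)) := rfl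
      rw [hΨdef, hq, map_add, hφa, hiq, add_zero]
  let e := LinearEquiv.ofBijective Ψ hΨ
  intro p
  have hnt : Nontrivial S := p.nontrivial
  have h := Module.rankAtStalk_eq_of_equiv e
  rw [Module.rankAtStalk_prod, Module.rankAtStalk_self] at h
  have h' := congrFun h p
  rw [h2] at h'
  simp only [Pi.add_apply, Pi.one_apply] at h'
  omega

end Groth.Agent.S19177
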