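import Groth.Statements.S19178
import Mathlib

set_option autoImplicit false
universe u
open Curves

namespace Groth.Agent.S19178


/-- For every field k and every choice of coefficients a₁, a₂, a₃, a₄, a₆ in k, the homogeneous
Weierstrass cubic Y²Z + a₁XYZ + a₃YZ² − (X³ + a₂X²Z + a₄XZ² + a₆Z³) is an irreducible polynomial in
k[X, Y, Z]. Applied to all fields, this says every fibre of the Weierstrass family over the affine
space of coefficients is geometrically integral. -/
theorem result (k : Type u) [Field k]
    (W : WeierstrassCurve k) :
    Irreducible (WeierstrassCurve.Projective.polynomial W) := by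
  classical
  have hC : ∀ a : k, MvPolynomial.finSuccEquiv k 2 (MvPolynomial.C a) =
      Polynomial.C (MvPolynomial.C a) := by
    intro a
    simp only [MvPolynomial.finSuccEquiv_apply, MvPolynomial.eval₂Hom_C, RingHom.coe_comp,
      Function.comp_apply]
  set z : MvPolynomial (Fin 2) k := MvPolynomial.X 1 with hz
  set y : MvPolynomial (Fin 2) k := MvPolynomial.X 0 with hy
  set ca : MvPolynomial (Fin 2) k := MvPolynomial.C W.a₂ * z with hca
  set cb : MvPolynomial (Fin 2) k := (MvPolynomial.C W.a₄ * z - MvPolynomial.C W.a₁ * y) * z with hcb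
  set cw : MvPolynomial (Fin 2) k :=
    MvPolynomial.C W.a₆ * z ^ 2 - y ^ 2 - MvPolynomial.C W.a₃ * y * z with hcw
  set g : Polynomial (MvPolynomial (Fin 2) k) :=
    Polynomial.C 1 * Polynomial.X ^ 3 + Polynomial.C ca * Polynomial.X ^ 2 +
      Polynomial.C cb * Polynomial.X + Polynomial.C (cw * z) with hg
  have himg : MvPolynomial.finSuccEquiv k 2 (WeierstrassCurve.Projective.polynomial W) = - g := by
    rw [WeierstrassCurve.Projective.polynomial]
    have h1 : (1 : Fin 3) = Fin.succ 0 := rfl
    have h2 : (2 : Fin 3) = Fin.succ 1 := rfl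
    simp only [h1, h2, map_sub, map_add, map_mul, map_pow, MvPolynomial.finSuccEquiv_X_zero,
      MvPolynomial.finSuccEquiv_X_succ, hC, hg, hca, hcb, hcw, hz, hy]
    simp only [Polynomial.C_mul, Polynomial.C_sub, Polynomial.C_pow, map_one]
    ring
  have hirr : Irreducible g := by
    have hone : (1 : MvPolynomial (Fin 2) k) ≠ 0 := one_ne_zero
    have hdeg : g.degree = 3 := Polynomial.degree_cubic hone
    have hlead : g.leadingCoeff = 1 := Polynomial.leadingCoeff_cubic hone
    have hzprime : Prime z := MvPolynomial.X_prime
    have hP : (Ideal.span {z}).IsPrime := (Ideal.span_singleton_prime hzprime.ne_zero).mpr hzprime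
    have hznu : ¬ IsUnit z := hzprime.not_isUnit
    apply Polynomial.irreducible_of_eisenstein_criterion hP
    · rw [hlead]
      intro h1
      exact hP.ne_top ((Ideal.eq_top_iff_one _).mpr h1)
    · intro n hn
      rw [hdeg] at hn
      have hn' : n < 3 := by exact_mod_cast hn
      rw [Ideal.mem_span_singleton]
      interval_cases n
      · have : g.coeff 0 = cw * z := by
          simp [hg, Polynomial.coeff_X, Polynomial.coeff_C]
        rw [this]
        exact ⟨cw, mul_comm _ _⟩
      · have : g.coeff 1 = cb := by
          simp [hg, Polynomial.coeff_X, Polynomial.coeff_C]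
        rw [this, hcb]
        exact ⟨_, mul_comm _ _⟩
      · have : g.coeff 2 = ca := by
          simp [hg, Polynomial.coeff_X, Polynomial.coeff_C]
        rw [this, hca]
        exact ⟨_, mul_comm _ _⟩
    · rw [hdeg]; norm_num
    · have : g.coeff 0 = cw * z := by
        simp [hg, Polynomial.coeff_X, Polynomial.coeff_C]
      rw [this, Ideal.span_singleton_pow, Ideal.mem_span_singleton]
      rintro ⟨q, hq⟩
      have h3 : cw = z * q := by
        have h4 : z * cw = z * (z * q) := by rw [mul_comm z cw, hq]; ring
        exact mul_left_cancel₀ hzprime.ne_zero h4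
      -- evaluate at y = 1, z = 0
      have h5 := congrArg (MvPolynomial.eval (![1, 0] : Fin 2 → k)) h3
      simp [hcw, hz, hy] at h5
    · apply Polynomial.Monic.isPrimitive
      exact hlead
  have h6 : Irreducible (MvPolynomial.finSuccEquiv k 2 (WeierstrassCurve.Projective.polynomial W)) := by
    rw [himg]
    exact ((Associated.refl g).neg_right).irreducible hirr
  exact (MulEquiv.irreducible_iff (MvPolynomial.finSuccEquiv k 2)).mp h6

end Groth.Agent.S19178
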