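import Groth.Statements.S1918
import Mathlib
import Groth.Agent.Lib.Helper18.KF34

set_option autoImplicit false
universe u
open CategoryTheory AlgebraicGeometry
open CategoryTheory.Limits
open Cyc

namespace Groth.Agent.S1918

/-- Mayer–Vietoris for Chow groups, exactness in the middle: let i₁ : X₁ → X, i₂ : X₂ → X be closed
immersions covering X set-theoretically and X₁₂ = X₁ ×_X X₂ their scheme-theoretic intersection. If
k-cycles α₁ on X₁ and α₂ on X₂ have rationally equivalent pushforwards on X, then there is a k-cycle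
β on X₁₂ with α₁ ∼_rat (pr₁)_*β on X₁ and α₂ ∼_rat (pr₂)_*β on X₂. (The published statement also
asserts that CH_k(X₁) ⊕ CH_k(X₂) → CH_k(X) is surjective; that is not asserted here.) Here a pair
(X, δ) with Cyc.IsSetup plays the role of a scheme locally of finite type over a fixed base with a
dimension function (X locally Noetherian with universally catenary local rings, δ a dimension
function). -/
theorem result (X : Scheme.{u}) (δ : X → ℤ) (hX : Cyc.IsSetup X δ) (X₁ X₂ : Scheme.{u}) (i₁ : X₁ ⟶ X) (i₂ : X₂ ⟶ X) [IsClosedImmersion i₁] [IsClosedImmersion i₂] (hcov : Set.range ⇑i₁ ∪ Set.range ⇑i₂ = Set.univ) (k : ℤ) (α₁ : AlgebraicCycle X₁ ℤ) (α₂ : AlgebraicCycle X₂ ℤ) (h₁ : α₁ ∈ Cyc.Zk X₁ (fun x => δ (i₁ x)) k) (h₂ : α₂ ∈ Cyc.Zk X₂ (fun x => δ (i₂ x)) k) (h : Cyc.RatEquiv δ k (AlgebraicCycle.map i₁ (fun x => δ (i₁ x)) δ α₁) (AlgebraicCycle.map i₂ (fun x => δ (i₂ x)) δ α₂)) : ∃ β : AlgebraicCycle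 (pullback i₁ i₂) ℤ, β ∈ Cyc.Zk (pullback i₁ i₂) (fun z => δ (i₁ (pullback.fst i₁ i₂ z))) k ∧ Cyc.RatEquiv (fun x => δ (i₁ x)) k α₁ (AlgebraicCycle.map (pullback.fst i₁ i₂) (fun z => δ (i₁ (pullback.fst i₁ i₂ z))) (fun x => δ (i₁ x)) β) ∧ Cyc.RatEquiv (fun x => δ (i₂ x)) k α₂ (AlgebraicCycle.map (pullback.snd i₁ i₂) (fun z => δ (i₁ (pullback.fst i₁ i₂ z))) (fun x => δ (i₂ x)) β) := by
  classical
  have hP : IsPullback (pullback.fst i₁ i₂) (pullback.snd i₁ i₂) i₁ i₂ :=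
    IsPullback.of_hasPullback i₁ i₂
  haveI : IsClosedImmersion (pullback.fst i₁ i₂) :=
    Groth.Agent.Lib.Helper18.KF22.isClosedImmersion_fst hP
  haveI : IsClosedImmersion (pullback.snd i₁ i₂) :=
    Groth.Agent.Lib.Helper18.KF22.isClosedImmersion_fst hP.flip
  have hX₁ := Groth.Agent.Lib.Helper18.ClImm.isSetup i₁ δ hX
  have hX₂ := Groth.Agent.Lib.Helper18.ClImm.isSetup i₂ δ hX
  -- the family of divisors, on points of `X₁ ∪ X₂`
  have hIn : Groth.Agent.Lib.Helper18.KF16.RatEquivZeroIn (Set.range ⇑i₁ ∪ Set.range ⇑i₂) δ k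
      ⇑(AlgebraicCycle.map i₁ (fun x => δ (i₁ x)) δ α₁ -
        AlgebraicCycle.map i₂ (fun x => δ (i₂ x)) δ α₂) := by
    obtain ⟨ι, ξ, f, a1, a2, a3, a4⟩ := h
    exact ⟨ι, ξ, f, a1, a2, a3, a4, fun j => by rw [hcov]; trivial⟩
  obtain ⟨D₁, D₂, hsum, hD₁, hD₂⟩ := Groth.Agent.Lib.Helper18.KF34.RatEquivZeroIn.split hIn
  have hsum' : ∀ x, AlgebraicCycle.map i₁ (fun x => δ (i₁ x)) δ α₁ x -
      AlgebraicCycle.map i₂ (fun x => δ (i₂ x)) δ α₂ x = D₁ x + D₂ x := fun x => hsum x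
  let C₁ : AlgebraicCycle X ℤ := Groth.Agent.Lib.Helper18.KF34.RatEquivZeroIn.cycle hX hD₁
  let B : AlgebraicCycle X ℤ := AlgebraicCycle.map i₁ (fun x => δ (i₁ x)) δ α₁ - C₁
  have hB₁ : ∀ x, B x = AlgebraicCycle.map i₁ (fun x => δ (i₁ x)) δ α₁ x - D₁ x := fun x => rfl
  have hB₂ : ∀ x, B x = AlgebraicCycle.map i₂ (fun x => δ (i₂ x)) δ α₂ x + D₂ x := by
    intro x
    rw [hB₁]
    have := hsum' x
    omega
  have hc₁ : IsClosed (Set.range ⇑i₁) := i₁.isClosedEmbedding.isClosed_range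
  have hc₂ : IsClosed (Set.range ⇑i₂) := i₂.isClosedEmbedding.isClosed_range
  have hBr₁ : ∀ x, B x ≠ 0 → x ∈ Set.range ⇑i₁ := by
    intro x hx
    by_contra hn
    apply hx
    rw [hB₁, Groth.Agent.Lib.Helper18.PullSec.map_apply_of_notMem i₁ δ α₁ x hn]
    have : D₁ x = 0 := by
      by_contra hne
      exact hn (Groth.Agent.Lib.Helper18.KF34.RatEquivZeroIn.mem_of_ne_zero hc₁ hD₁ x hne)
    rw [this, sub_zero]
  have hBr₂ : ∀ x, B x ≠ 0 → x ∈ Set.range ⇑i₂ := by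
    intro x hx
    by_contra hn
    apply hx
    rw [hB₂, Groth.Agent.Lib.Helper18.PullSec.map_apply_of_notMem i₂ δ α₂ x hn]
    have : D₂ x = 0 := by
      by_contra hne
      exact hn (Groth.Agent.Lib.Helper18.KF34.RatEquivZeroIn.mem_of_ne_zero hc₂ hD₂ x hne)
    rw [this, add_zero]
  let B₁ : AlgebraicCycle X₁ ℤ := Groth.Agent.Lib.Helper18.SubCyc.comapCycle i₁ B
  let β : AlgebraicCycle (pullback i₁ i₂) ℤ :=
    Groth.Agent.Lib.Helper18.SubCyc.comapCycle (pullback.fst i₁ i₂) B₁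
  have hβ : ∀ z, β z = B (i₁ (pullback.fst i₁ i₂ z)) := fun z => rfl
  have hmapeq : ∀ z : ↥(pullback i₁ i₂), i₁ (pullback.fst i₁ i₂ z) = i₂ (pullback.snd i₁ i₂ z) :=
    fun z => Groth.Agent.Lib.Helper18.KF25.map_eq hP z
  refine ⟨β, ?_, ?_, ?_⟩
  · -- weight
    intro z hz
    by_contra hne
    apply hz
    have hne' : B (i₁ (pullback.fst i₁ i₂ z)) ≠ 0 := hne
    rw [hB₁, Groth.Agent.Lib.Helper18.PullSec.map_apply_of_mem i₁ δ α₁] at hne'
    by_cases hα0 : α₁ (pullback.fst i₁ i₂ z) = 0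
    · rw [hα0, zero_sub, neg_ne_zero] at hne'
      exact Groth.Agent.Lib.Helper18.KF34.RatEquivZeroIn.delta_eq hD₁ _ hne'
    · by_contra hk
      exact hα0 (h₁ (pullback.fst i₁ i₂ z) hk)
  · -- on `X₁`
    have hC := Groth.Agent.Lib.Helper18.KF18.ratEquivZeroIn_comap i₁ δ hX k D₁ hD₁
    refine Groth.Agent.Lib.Helper18.KF16.RatEquivZeroIn.ratEquivZero (S := Set.univ) ?_
    refine Groth.Agent.Lib.Helper18.KF18.RatEquivZeroIn.congr hC ?_
    intro x₁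
    have e0 : (α₁ - AlgebraicCycle.map (pullback.fst i₁ i₂)
        (fun z => δ (i₁ (pullback.fst i₁ i₂ z))) (fun x => δ (i₁ x)) β) x₁ =
        α₁ x₁ - AlgebraicCycle.map (pullback.fst i₁ i₂)
        (fun z => δ (i₁ (pullback.fst i₁ i₂ z))) (fun x => δ (i₁ x)) β x₁ := rfl
    rw [e0]
    by_cases hx₁ : x₁ ∈ Set.range ⇑(pullback.fst i₁ i₂)
    · obtain ⟨z, rfl⟩ := hx₁
      rw [Groth.Agent.Lib.Helper18.PullSec.map_apply_of_mem (pullback.fst i₁ i₂)
        (fun x => δ (i₁ x)) β z, hβ, hB₁,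
        Groth.Agent.Lib.Helper18.PullSec.map_apply_of_mem i₁ δ α₁]
      ring
    · rw [Groth.Agent.Lib.Helper18.PullSec.map_apply_of_notMem (pullback.fst i₁ i₂)
        (fun x => δ (i₁ x)) β x₁ hx₁, sub_zero]
      have hB0 : B (i₁ x₁) = 0 := by
        by_contra hne
        obtain ⟨x₂, hx₂⟩ := hBr₂ _ hne
        obtain ⟨z, hz, -⟩ := Groth.Agent.Lib.Helper18.KF25.exists_point hP x₁ x₂ hx₂.symm
        exact hx₁ ⟨z, hz⟩
      rw [hB₁, Groth.Agent.Lib.Helper18.PullSec.map_apply_of_mem i₁ δ α₁] at hB0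
      omega
  · -- on `X₂`
    have hδeq : (fun z => δ (i₁ (pullback.fst i₁ i₂ z))) =
        fun z => δ (i₂ (pullback.snd i₁ i₂ z)) := funext fun z => by rw [hmapeq z]
    rw [hδeq]
    have hC := Groth.Agent.Lib.Helper18.KF27.RatEquivZeroIn.neg hX₂
      (Groth.Agent.Lib.Helper18.KF18.ratEquivZeroIn_comap i₂ δ hX k D₂ hD₂)
    refine Groth.Agent.Lib.Helper18.KF16.RatEquivZeroIn.ratEquivZero (S := Set.univ) ?_
    refine Groth.Agent.Lib.Helper18.KF18.RatEquivZeroIn.congr hC ?_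
    intro x₂
    have e0 : (α₂ - AlgebraicCycle.map (pullback.snd i₁ i₂)
        (fun z => δ (i₂ (pullback.snd i₁ i₂ z))) (fun x => δ (i₂ x)) β) x₂ =
        α₂ x₂ - AlgebraicCycle.map (pullback.snd i₁ i₂)
        (fun z => δ (i₂ (pullback.snd i₁ i₂ z))) (fun x => δ (i₂ x)) β x₂ := rfl
    rw [e0]
    by_cases hx₂ : x₂ ∈ Set.range ⇑(pullback.snd i₁ i₂)
    · obtain ⟨z, rfl⟩ := hx₂
      rw [Groth.Agent.Lib.Helper18.PullSec.map_apply_of_mem (pullback.snd i₁ i₂)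
        (fun x => δ (i₂ x)) β z, hβ, hmapeq z, hB₂,
        Groth.Agent.Lib.Helper18.PullSec.map_apply_of_mem i₂ δ α₂]
      ring
    · rw [Groth.Agent.Lib.Helper18.PullSec.map_apply_of_notMem (pullback.snd i₁ i₂)
        (fun x => δ (i₂ x)) β x₂ hx₂, sub_zero]
      have hB0 : B (i₂ x₂) = 0 := by
        by_contra hne
        obtain ⟨x₁, hx₁⟩ := hBr₁ _ hne
        obtain ⟨z, -, hz⟩ := Groth.Agent.Lib.Helper18.KF25.exists_point hP x₁ x₂ hx₁
        exact hx₂ ⟨z, hz⟩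
      rw [hB₂, Groth.Agent.Lib.Helper18.PullSec.map_apply_of_mem i₂ δ α₂] at hB0
      omega

end Groth.Agent.S1918
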