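import Groth.Statements.S19180
import Groth.Agent.S0844
import Groth.Agent.Lib.Helper29.SH1
import Groth.Agent.Lib.Helper29.QCohGen

set_option autoImplicit false
universe u
open Coherent

namespace Groth.Agent.S19180

open CategoryTheory AlgebraicGeometry in
/-- Let R be a local ring and m ≥ 1, and consider the projective line P¹_R with its structure sheaf O
and twisting sheaf O(m). For every O-module F and every short exact sequence 0 → O(m) → F → O → 0 of
O-modules, the surjection F → O admits a section; consequently F is isomorphic to O(m) ⊕ O. -/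
theorem result (R : Type u) [CommRing R] [IsLocalRing R]
    (m : ℕ) (hm : 1 ≤ m) (F : (CohB1.ProjSpace 1 R).Modules)
    (i : Twist.twistProjSpace 1 R (m : ℤ) ⟶ F) (p : F ⟶ Coh.structureModule (CohB1.ProjSpace 1 R))
    (w : i ≫ p = 0) (hex : (ShortComplex.mk i p w).ShortExact) :
    ∃ s : Coh.structureModule (CohB1.ProjSpace 1 R) ⟶ F, s ≫ p = 𝟙 _ := by
  classical
  haveI hsub : Subsingleton (Coh.HH (CohB1.ProjSpace 1 R) (Twist.twistProjSpace 1 R (m : ℤ)) 1) :=
    Groth.Agent.S0844.result R 1 (m : ℤ) 1 (fun h => absurd h.1 (by norm_num))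
      (fun h => by have := h.2; push_cast at this; omega)
  let S : ShortComplex (CohB1.ProjSpace 1 R).Modules := ShortComplex.mk i p w
  haveI : Subsingleton (Coh.HH (CohB1.ProjSpace 1 R) S.X₁ 1) := hsub
  have hsurj := Groth.Agent.Lib.Helper29.QCoh.app_top_surjective_of_subsingleton_HH_one S hex
  obtain ⟨t, ht⟩ := hsurj
    (Groth.Agent.Lib.Helper29.QCoh.toUnit (X := CohB1.ProjSpace 1 R) (V := ⊤) 1)
  refine ⟨Groth.Agent.Lib.Helper29.QCoh.homOfSection F t, ?_⟩
  have h0 := SheafOfModules.unitHomEquiv_symm_comp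
    (Groth.Agent.Lib.Helper29.QCoh.sectionOfTop F t) p
  refine h0.trans ?_
  apply (SheafOfModules.unitHomEquiv _).injective
  rw [Equiv.apply_symm_apply]
  apply Subtype.ext
  funext U
  have h1 : p.app U.unop (Groth.Agent.Lib.Helper29.QCoh.res F (le_top : U.unop ≤ ⊤) t) =
      Groth.Agent.Lib.Helper29.QCoh.res _ (le_top : U.unop ≤ ⊤) (p.app ⊤ t) :=
    Groth.Agent.Lib.Helper29.QCoh.app_res p (le_top : U.unop ≤ ⊤) t
  have h2 : p.app ⊤ t =
      Groth.Agent.Lib.Helper29.QCoh.toUnit (X := CohB1.ProjSpace 1 R) (V := ⊤) 1 := ht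
  rw [h2] at h1
  refine h1.trans ?_
  exact map_one ((CohB1.ProjSpace 1 R).presheaf.map (homOfLE (le_top : U.unop ≤ ⊤)).op).hom

end Groth.Agent.S19180
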