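import Groth.Statements.S19181
import Mathlib

set_option autoImplicit false
universe u
open CAlg

namespace Groth.Agent.S19181

set_option linter.unusedSimpArgs false
section Helpers
open Polynomial
/-- Key lemma in `Q[T]`. -/
lemma key {Q : Type*} [CommRing Q] (g u : Q[X]) (hg : g.coeff 0 ∈ nonZeroDivisors Q)
    (h : X * u ∈ Ideal.span ({g} : Set Q[X])) : u ∈ Ideal.span ({g} : Set Q[X]) := by
  rw [Ideal.mem_span_singleton] at h ⊢
  obtain ⟨t, ht⟩ := h
  have h0 : g.coeff 0 * t.coeff 0 = 0 := by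
    have := congrArg (fun p => Polynomial.coeff p 0) ht
    simp only [Polynomial.mul_coeff_zero, Polynomial.coeff_X_zero, zero_mul] at this
    exact this.symm
  have ht0 : t.coeff 0 = 0 := (mul_left_mem_nonZeroDivisors_eq_zero_iff hg).mp h0
  obtain ⟨t', rfl⟩ := Polynomial.X_dvd_iff.mpr ht0
  refine ⟨t', ?_⟩
  have : X * u = X * (g * t') := by rw [ht]; ring
  exact (monic_X (R := Q)).isRegular.left this

lemma key_pow {Q : Type*} [CommRing Q] (g s : Q[X]) (hg : g.coeff 0 ∈ nonZeroDivisors Q) (n : ℕ)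
    (h : X ^ n * s ∈ Ideal.span ({g} : Set Q[X])) : s ∈ Ideal.span ({g} : Set Q[X]) := by
  induction n with
  | zero => simpa using h
  | succ n ih =>
    apply ih
    apply key g _ hg
    rw [← mul_assoc, ← pow_succ']
    exact h

/-- the saturation statement in `Q[T]` -/
lemma sat {Q : Type*} [CommRing Q] (g s : Q[X]) (hg : g.coeff 0 ∈ nonZeroDivisors Q) :
    (∃ n : ℕ, X ^ n * s ∈ Ideal.span ({X ^ 2 * g} : Set Q[X])) ↔ s ∈ Ideal.span ({g} : Set Q[X]) := by
  constructor
  · rintro ⟨n, hn⟩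
    apply key_pow g s hg n
    rw [Ideal.mem_span_singleton] at hn ⊢
    exact Dvd.dvd.trans (Dvd.intro_left _ rfl) hn
  · intro h
    refine ⟨2, ?_⟩
    rw [Ideal.mem_span_singleton] at h ⊢
    exact mul_dvd_mul_left _ h

/-- polynomials with constant coefficient `1` are nonzerodivisors -/
lemma nzd_of_coeff_zero_eq_one {R : Type*} [CommRing R] (p : R[X]) (hp : p.coeff 0 = 1) :
    p ∈ nonZeroDivisors R[X] := by
  rw [mem_nonZeroDivisors_iff_right]
  intro q hq
  rcases subsingleton_or_nontrivial R with hR | hR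
  · exact Subsingleton.elim _ _
  by_contra hq0
  have h1 := Polynomial.coeff_mul_natTrailingDegree_add_natTrailingDegree (p := q) (q := p)
  have hp0 : p.natTrailingDegree = 0 := by
    apply Nat.eq_zero_of_le_zero
    apply Polynomial.natTrailingDegree_le_of_ne_zero
    rw [hp]; exact one_ne_zero
  rw [hq, coeff_zero, Polynomial.trailingCoeff, Polynomial.trailingCoeff, hp0, hp, mul_one] at h1
  exact hq0 (Polynomial.trailingCoeff_eq_zero.mp h1.symm)

/-- transfer of nonzerodivisors along a ring equivalence -/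
lemma nzd_of_equiv {A B : Type*} [CommRing A] [CommRing B] (ε : A ≃+* B) (x : A)
    (hx : ε x ∈ nonZeroDivisors B) : x ∈ nonZeroDivisors A := by
  rw [mem_nonZeroDivisors_iff_right]
  intro y hy
  have : ε y * ε x = 0 := by rw [← map_mul, hy, map_zero]
  have := (mul_right_mem_nonZeroDivisors_eq_zero_iff hx).mp this
  exact (map_eq_zero_iff ε ε.injective).mp this

/-- transfer of the saturation statement along `finSuccEquiv`. -/
lemma sat_mv (R : Type*) [CommRing R] (g s : MvPolynomial (Fin 2) R)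
    (hg : (MvPolynomial.finSuccEquiv R 1 g).coeff 0 ∈ nonZeroDivisors (MvPolynomial (Fin 1) R)) :
    (∃ n : ℕ, MvPolynomial.X 0 ^ n * s ∈ Ideal.span ({MvPolynomial.X 0 ^ 2 * g} :
        Set (MvPolynomial (Fin 2) R))) ↔
      s ∈ Ideal.span ({g} : Set (MvPolynomial (Fin 2) R)) := by
  let e := MvPolynomial.finSuccEquiv R 1
  have h := sat (e g) (e s) hg
  have e1 : ∀ n : ℕ, (MvPolynomial.X 0 ^ n * s ∈ Ideal.span ({MvPolynomial.X 0 ^ 2 * g} :
        Set (MvPolynomial (Fin 2) R))) ↔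
      (X ^ n * e s ∈ Ideal.span ({X ^ 2 * e g} : Set (MvPolynomial (Fin 1) R)[X])) := by
    intro n
    rw [Ideal.mem_span_singleton, Ideal.mem_span_singleton, ← map_dvd_iff e]
    simp only [map_mul, map_pow, e, MvPolynomial.finSuccEquiv_X_zero]
  have e2 : s ∈ Ideal.span ({g} : Set (MvPolynomial (Fin 2) R)) ↔
      e s ∈ Ideal.span ({e g} : Set (MvPolynomial (Fin 1) R)[X]) := by
    rw [Ideal.mem_span_singleton, Ideal.mem_span_singleton, map_dvd_iff e]
  rw [e2, ← h]
  exact exists_congr e1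


lemma hg1 (R : Type*) [CommRing R] (a₁ a₂ : R) :
    (MvPolynomial.finSuccEquiv R 1 (1 + MvPolynomial.C a₁ * MvPolynomial.X 1 -
      MvPolynomial.X 0 * MvPolynomial.X 1 ^ 3 - MvPolynomial.C a₂ * MvPolynomial.X 1 ^ 2)).coeff 0 ∈
      nonZeroDivisors (MvPolynomial (Fin 1) R) := by
  have h1 : (1 : Fin 2) = Fin.succ 0 := rfl
  have h2 : (MvPolynomial.finSuccEquiv R 1 (1 + MvPolynomial.C a₁ * MvPolynomial.X 1 -
      MvPolynomial.X 0 * MvPolynomial.X 1 ^ 3 - MvPolynomial.C a₂ * MvPolynomial.X 1 ^ 2)).coeff 0 =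
      1 + MvPolynomial.C a₁ * MvPolynomial.X 0 - MvPolynomial.C a₂ * MvPolynomial.X 0 ^ 2 := by
    rw [h1]
    have hC : ∀ a : R, MvPolynomial.finSuccEquiv R 1 (MvPolynomial.C a) =
        Polynomial.C (MvPolynomial.C a) := by
      intro a; simp [MvPolynomial.finSuccEquiv_apply]
    rw [Polynomial.coeff_zero_eq_eval_zero]
    simp only [map_sub, map_add, map_mul, map_pow, map_one, MvPolynomial.finSuccEquiv_X_zero,
      MvPolynomial.finSuccEquiv_X_succ, hC, Polynomial.eval_sub, Polynomial.eval_add,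
      Polynomial.eval_mul, Polynomial.eval_pow, Polynomial.eval_C, Polynomial.eval_X,
      Polynomial.eval_one]
    ring
  rw [h2]
  apply nzd_of_equiv (MvPolynomial.uniqueAlgEquiv R (Fin 1)).toRingEquiv
  apply nzd_of_coeff_zero_eq_one
  simp [MvPolynomial.uniqueAlgEquiv]

lemma hg2 (R : Type*) [CommRing R] (a₁ a₂ : R) :
    (MvPolynomial.finSuccEquiv R 1 (MvPolynomial.X 1 ^ 2 + MvPolynomial.C a₁ * MvPolynomial.X 1 -
      MvPolynomial.X 0 - MvPolynomial.C a₂)).coeff 0 ∈
      nonZeroDivisors (MvPolynomial (Fin 1) R) := by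
  have h1 : (1 : Fin 2) = Fin.succ 0 := rfl
  have h2 : (MvPolynomial.finSuccEquiv R 1 (MvPolynomial.X 1 ^ 2 + MvPolynomial.C a₁ * MvPolynomial.X 1 -
      MvPolynomial.X 0 - MvPolynomial.C a₂)).coeff 0 =
      MvPolynomial.X 0 ^ 2 + MvPolynomial.C a₁ * MvPolynomial.X 0 - MvPolynomial.C a₂ := by
    rw [h1]
    have hC : ∀ a : R, MvPolynomial.finSuccEquiv R 1 (MvPolynomial.C a) =
        Polynomial.C (MvPolynomial.C a) := by
      intro a; simp [MvPolynomial.finSuccEquiv_apply]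
    rw [Polynomial.coeff_zero_eq_eval_zero]
    simp only [map_sub, map_add, map_mul, map_pow, map_one, MvPolynomial.finSuccEquiv_X_zero,
      MvPolynomial.finSuccEquiv_X_succ, hC, Polynomial.eval_sub, Polynomial.eval_add,
      Polynomial.eval_mul, Polynomial.eval_pow, Polynomial.eval_C, Polynomial.eval_X,
      Polynomial.eval_one]
    ring
  rw [h2]
  apply nzd_of_equiv (MvPolynomial.uniqueAlgEquiv R (Fin 1)).toRingEquiv
  apply Polynomial.Monic.mem_nonZeroDivisors
  have : (MvPolynomial.uniqueAlgEquiv R (Fin 1)).toRingEquiv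
      (MvPolynomial.X 0 ^ 2 + MvPolynomial.C a₁ * MvPolynomial.X 0 - MvPolynomial.C a₂) =
      X ^ 2 + (Polynomial.C a₁ * X - Polynomial.C a₂) := by
    simp [MvPolynomial.uniqueAlgEquiv]; ring
  rw [this]
  apply Polynomial.monic_X_pow_add
  refine lt_of_le_of_lt (Polynomial.degree_sub_le _ _) ?_
  refine max_lt ?_ ?_
  · exact lt_of_le_of_lt (Polynomial.degree_C_mul_X_le a₁) (by norm_num)
  · exact lt_of_le_of_lt Polynomial.degree_C_le (by norm_num)

end Helpers

open MvPolynomial in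
/-- Let R be a commutative ring, a₁, a₂ ∈ R, and C ⊂ A²_R the curve y² + a₁xy = x³ + a₂x², blown up at
the section x = y = 0. In the chart where x = yα (variables y = X 0, α = X 1) the equation of C
becomes y²·g₁ with g₁ = 1 + a₁α − yα³ − a₂α², and the y-saturation of the ideal (y²g₁) is (g₁): for
s ∈ R[y, α], some yⁿs lies in (y²g₁) if and only if s ∈ (g₁). In the chart where y = xβ (variables x
= X 0, β = X 1) the equation becomes x²·g₂ with g₂ = β² + a₁β − x − a₂, and some xⁿs lies in (x²g₂)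
if and only if s ∈ (g₂). In other words the strict transform of C is cut out by g₁, resp. g₂, in the
two charts. -/
theorem result (R : Type u) [CommRing R] (a₁ a₂ : R) :
    (∀ s : MvPolynomial (Fin 2) R,
      (∃ n : ℕ, X 0 ^ n * s ∈ Ideal.span ({X 0 ^ 2 * (1 + C a₁ * X 1 - X 0 * X 1 ^ 3 - C a₂ * X 1 ^ 2)} :
        Set (MvPolynomial (Fin 2) R))) ↔
      s ∈ Ideal.span ({1 + C a₁ * X 1 - X 0 * X 1 ^ 3 - C a₂ * X 1 ^ 2} : Set (MvPolynomial (Fin 2) R))) ∧
    (∀ s : MvPolynomial (Fin 2) R,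
      (∃ n : ℕ, X 0 ^ n * s ∈ Ideal.span ({X 0 ^ 2 * (X 1 ^ 2 + C a₁ * X 1 - X 0 - C a₂)} :
        Set (MvPolynomial (Fin 2) R))) ↔
      s ∈ Ideal.span ({X 1 ^ 2 + C a₁ * X 1 - X 0 - C a₂} : Set (MvPolynomial (Fin 2) R))) := by
  exact ⟨fun s => sat_mv R _ s (hg1 R a₁ a₂), fun s => sat_mv R _ s (hg2 R a₁ a₂)⟩

end Groth.Agent.S19181
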