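import Groth.Statements.S19182
import Mathlib

set_option autoImplicit false
universe u
open CAlg

namespace Groth.Agent.S19182
open MvPolynomial

section Aux

lemma smooth_hypersurface {R : Type u} [CommRing R] (g : MvPolynomial (Fin 2) R) (j : Fin 2)
    (hunit : IsUnit (Ideal.Quotient.mk (Ideal.span ({g} : Set (MvPolynomial (Fin 2) R)))
      (pderiv j g))) :
    Algebra.Smooth R (MvPolynomial (Fin 2) R ⧸ Ideal.span ({g} : Set (MvPolynomial (Fin 2) R))) := by
  classical
  let v : Unit → MvPolynomial (Fin 2) R := fun _ => g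
  have hrange : Set.range v = {g} := Set.range_const
  let Ppre := Algebra.PreSubmersivePresentation.naive (R := R) (v := v) (fun _ => j)
    (fun _ _ _ => Subsingleton.elim _ _)
  have hjac : IsUnit Ppre.jacobian := by
    rw [Algebra.PreSubmersivePresentation.jacobian_eq_jacobiMatrix_det, Matrix.det_unique,
      Algebra.PreSubmersivePresentation.jacobiMatrix_naive]
    have hI : Ideal.span (Set.range v) = Ideal.span ({g} : Set (MvPolynomial (Fin 2) R)) := by
      rw [hrange]
    have := hunit.map (Ideal.quotientEquivAlgOfEq R hI.symm)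
    rw [Ideal.quotientEquivAlgOfEq_mk] at this
    exact this
  let Psub : Algebra.SubmersivePresentation R _ (Fin 2) Unit := ⟨Ppre, hjac⟩
  have h1 : Algebra.IsStandardSmooth R (MvPolynomial (Fin 2) R ⧸ Ideal.span (Set.range v)) :=
    Psub.isStandardSmooth
  have hsm : Algebra.Smooth R (MvPolynomial (Fin 2) R ⧸ Ideal.span (Set.range v)) := inferInstance
  have hI' : Ideal.span (Set.range v) = Ideal.span ({g} : Set (MvPolynomial (Fin 2) R)) := by
    rw [hrange]
  exact Algebra.Smooth.of_equiv (Ideal.quotientEquivAlgOfEq R hI')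

end Aux


open MvPolynomial in
/-- Let R be a commutative ring and a₁, a₂ ∈ R. The two affine charts of the blow-up of the plane curve
y² + a₁xy = x³ + a₂x² at the section x = y = 0, with coordinate rings R[y, α]/(1 + a₁α − yα³ − a₂α²)
and R[x, β]/(β² + a₁β − x − a₂) (variables indexed 0 and 1 in this order), are smooth R-algebras
(formally smooth of finite presentation). This is the local computation behind the statement that
the blow-up of a Weierstrass curve along a section through its singular locus is a smooth proper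
curve of genus 0. -/
theorem result (R : Type u) [CommRing R] (a₁ a₂ : R) :
    Algebra.Smooth R (MvPolynomial (Fin 2) R ⧸
      Ideal.span ({1 + C a₁ * X 1 - X 0 * X 1 ^ 3 - C a₂ * X 1 ^ 2} : Set (MvPolynomial (Fin 2) R))) ∧
    Algebra.Smooth R (MvPolynomial (Fin 2) R ⧸
      Ideal.span ({X 1 ^ 2 + C a₁ * X 1 - X 0 - C a₂} : Set (MvPolynomial (Fin 2) R))) := by
  constructor
  · apply smooth_hypersurface _ 0
    have hd : pderiv (0 : Fin 2) (1 + C a₁ * X 1 - X 0 * X 1 ^ 3 - C a₂ * X 1 ^ 2 : MvPolynomial (Fin 2) R)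
        = - X 1 ^ 3 := by
      simp [Derivation.leibniz, Derivation.leibniz_pow]
    rw [hd]
    set I := Ideal.span ({1 + C a₁ * X 1 - X 0 * X 1 ^ 3 - C a₂ * X 1 ^ 2} : Set (MvPolynomial (Fin 2) R))
    -- X 1 is a unit mod I
    have hmem : Ideal.Quotient.mk I (1 + C a₁ * X 1 - X 0 * X 1 ^ 3 - C a₂ * X 1 ^ 2) = 0 :=
      Ideal.Quotient.eq_zero_iff_mem.mpr (Ideal.subset_span rfl)
    have hu : IsUnit (Ideal.Quotient.mk I (X 1)) := by
      refine IsUnit.of_mul_eq_one (Ideal.Quotient.mk I (X 0 * X 1 ^ 2 - C a₁ + C a₂ * X 1)) ?_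
      rw [← map_mul, ← sub_eq_zero, ← map_one (Ideal.Quotient.mk I), ← map_sub, ← neg_eq_zero,
        ← map_neg, ← hmem]
      congr 1
      ring
    rw [map_neg, map_pow]
    exact (hu.pow 3).neg
  · apply smooth_hypersurface _ 0
    have hd : pderiv (0 : Fin 2) (X 1 ^ 2 + C a₁ * X 1 - X 0 - C a₂ : MvPolynomial (Fin 2) R) = -1 := by
      simp [Derivation.leibniz, Derivation.leibniz_pow]
    rw [hd, map_neg, map_one]
    have h1 : IsUnit (1 : MvPolynomial (Fin 2) R ⧸
      Ideal.span ({X 1 ^ 2 + C a₁ * X 1 - X 0 - C a₂} : Set (MvPolynomial (Fin 2) R))) := isUnit_one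
    exact h1.neg

end Groth.Agent.S19182
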