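import Groth.Statements.S19183
import Mathlib

set_option autoImplicit false
universe u
open CAlg

namespace Groth.Agent.S19183

section helpers

theorem main (A : Type u) [CommRing A] [Nontrivial A]
    (f : A) (hf : f ∈ nonZeroDivisors A) :
    Module.Free A (Submodule.comap (LinearMap.fst A A A - LinearMap.snd A A A) (Ideal.span ({f} : Set A))) ∧
      Module.finrank A (Submodule.comap (LinearMap.fst A A A - LinearMap.snd A A A) (Ideal.span ({f} : Set A))) = 2 := by
  set M := Submodule.comap (LinearMap.fst A A A - LinearMap.snd A A A) (Ideal.span ({f} : Set A))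
  -- the map A × A → M, (u, c) ↦ (u + c f, u)
  let g₀ : A × A →ₗ[A] A × A :=
    { toFun := fun q => (q.1 + q.2 * f, q.1)
      map_add' := by intro x y; ext <;> simp <;> ring
      map_smul' := by intro r x; ext <;> simp <;> ring }
  have hg₀ : ∀ q, g₀ q ∈ M := by
    intro q
    show (LinearMap.fst A A A - LinearMap.snd A A A) (g₀ q) ∈ Ideal.span ({f} : Set A)
    have : (LinearMap.fst A A A - LinearMap.snd A A A) (g₀ q) = q.2 * f := by
      simp [g₀]
    rw [this]
    exact Ideal.mul_mem_left _ _ (Ideal.subset_span rfl)
  let g : A × A →ₗ[A] M := g₀.codRestrict M hg₀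
  have hinj : Function.Injective g := by
    rw [injective_iff_map_eq_zero]
    intro q hq
    have h0 : g₀ q = 0 := by
      have := congrArg Subtype.val hq
      simpa [g] using this
    have h1 : q.1 = 0 := by
      have := congrArg Prod.snd h0
      simpa [g₀] using this
    have h2 : q.2 * f = 0 := by
      have := congrArg Prod.fst h0
      simpa [g₀, h1] using this
    have h3 : q.2 = 0 := (mul_right_mem_nonZeroDivisors_eq_zero_iff hf).mp h2
    exact Prod.ext h1 h3
  have hsurj : Function.Surjective g := by
    rintro ⟨⟨x, y⟩, hxy⟩
    have hmem : x - y ∈ Ideal.span ({f} : Set A) := by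
      have := hxy
      simpa [M] using this
    obtain ⟨c, hc⟩ := Ideal.mem_span_singleton'.mp hmem
    refine ⟨(y, c), ?_⟩
    apply Subtype.ext
    show g₀ (y, c) = (x, y)
    simp only [g₀, LinearMap.coe_mk, AddHom.coe_mk]
    rw [hc]
    ext <;> simp
  let e : (A × A) ≃ₗ[A] M := LinearEquiv.ofBijective g ⟨hinj, hsurj⟩
  refine ⟨Module.Free.of_equiv e, ?_⟩
  rw [← e.finrank_eq, Module.finrank_prod, Module.finrank_self]

end helpers

/-- Let A be a non-zero commutative ring and f ∈ A a non-zero-divisor. The fibre product A ×_{A/(f)} A
of two copies of A over A/(f) — the A-submodule of A × A of pairs (x, y) with x − y ∈ (f), which is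
the coordinate ring of two copies of Spec A glued along the Cartier divisor f = 0 — is a free
A-module of rank 2. (This is what makes the gluing of two copies of a curve along an effective
Cartier divisor finite locally free of degree 2 over the curve.) -/
theorem result (A : Type u) [CommRing A] [Nontrivial A]
    (f : A) (hf : f ∈ nonZeroDivisors A) :
    Module.Free A (Submodule.comap (LinearMap.fst A A A - LinearMap.snd A A A) (Ideal.span ({f} : Set A))) ∧
      Module.finrank A (Submodule.comap (LinearMap.fst A A A - LinearMap.snd A A A) (Ideal.span ({f} : Set A))) = 2 := by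
  exact main A f hf

end Groth.Agent.S19183
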