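import Groth.Statements.S19184
import Mathlib

set_option autoImplicit false
universe u
open CAlg

namespace Groth.Agent.S19184

section helpers

open Polynomial

theorem main (S : Type u) [CommRing S] (a b : S) :
    Module.Free S ((⊥ : Subalgebra S (S[X] ⧸ Ideal.span ({X ^ 2 + C a * X + C b} : Set S[X]))).comap
        (Ideal.Quotient.mkₐ S (Ideal.span ({X ^ 2 + C a * X + C b} : Set S[X])))) ∧
      Module.Finite ((⊥ : Subalgebra S (S[X] ⧸ Ideal.span ({X ^ 2 + C a * X + C b} : Set S[X]))).comap
        (Ideal.Quotient.mkₐ S (Ideal.span ({X ^ 2 + C a * X + C b} : Set S[X])))) S[X] := by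
  set f : S[X] := X ^ 2 + C a * X + C b with hf
  set I : Ideal S[X] := Ideal.span ({f} : Set S[X]) with hI
  set A' : Subalgebra S S[X] := (⊥ : Subalgebra S (S[X] ⧸ I)).comap (Ideal.Quotient.mkₐ S I) with hA'
  have hfm : f.Monic := by
    rw [hf, add_assoc]
    apply monic_X_pow_add
    exact (degree_linear_le).trans_lt (by norm_num)
  have hfnat : ∀ [Nontrivial S], f.natDegree = 2 := by
    intro _
    have : f = C 1 * X ^ 2 + C a * X + C b := by simp [hf]
    rw [this]
    exact natDegree_quadratic one_ne_zero
  have hmem : ∀ g : S[X], g ∈ A' ↔ ∃ c : S, g - C c ∈ I := by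
    intro g
    rw [hA', Subalgebra.mem_comap, Algebra.mem_bot]
    constructor
    · rintro ⟨c, hc⟩
      refine ⟨c, ?_⟩
      rw [← Ideal.Quotient.eq_zero_iff_mem, map_sub, sub_eq_zero]
      exact hc.symm
    · rintro ⟨c, hc⟩
      refine ⟨c, ?_⟩
      rw [← Ideal.Quotient.eq_zero_iff_mem, map_sub, sub_eq_zero] at hc
      exact hc.symm
  have hfI : ∀ q : S[X], f * q ∈ I := fun q => Ideal.mul_mem_right _ _ (Ideal.subset_span rfl)
  have hmem1 : ∀ (c : S) (q : S[X]), C c + f * q ∈ A' := by
    intro c q
    rw [hmem]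
    exact ⟨c, by simpa using hfI q⟩
  -- the linear map
  let φ₀ : S × S[X] →ₗ[S] S[X] :=
    { toFun := fun p => C p.1 + f * p.2
      map_add' := by intro x y; simp only [Prod.fst_add, Prod.snd_add, map_add]; ring
      map_smul' := by
        intro r x
        show C (r * x.1) + f * (r • x.2) = r • (C x.1 + f * x.2)
        rw [smul_eq_C_mul, smul_eq_C_mul, C_mul]
        ring }
  let φ : S × S[X] →ₗ[S] A' := φ₀.codRestrict (Subalgebra.toSubmodule A') (fun p => hmem1 p.1 p.2)
  have hinj : Function.Injective φ := by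
    rcases subsingleton_or_nontrivial S with hS | hS
    · intro x y _
      exact Subsingleton.elim _ _
    rw [injective_iff_map_eq_zero]
    rintro ⟨c, q⟩ h
    have h0 : C c + f * q = 0 := by
      have := congrArg Subtype.val h
      exact this
    have hq : q = 0 := by
      by_contra hq
      have h1 : (f * q).natDegree = f.natDegree + q.natDegree := hfm.natDegree_mul' hq
      have h2 : f.natDegree = 2 := hfnat
      have h3 : f * q = - C c := eq_neg_of_add_eq_zero_right h0
      rw [h3, natDegree_neg, natDegree_C, h2] at h1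
      omega
    rw [hq, mul_zero, add_zero] at h0
    have hc : c = 0 := C_eq_zero.mp h0
    rw [hq, hc]
    rfl
  have hsurj : Function.Surjective φ := by
    rintro ⟨g, hg⟩
    obtain ⟨c, hc⟩ := (hmem g).mp hg
    obtain ⟨q, hq⟩ := Ideal.mem_span_singleton'.mp hc
    refine ⟨(c, q), ?_⟩
    apply Subtype.ext
    show C c + f * q = g
    rw [mul_comm, hq]
    ring
  let e : (S × S[X]) ≃ₗ[S] A' := LinearEquiv.ofBijective φ ⟨hinj, hsurj⟩
  refine ⟨Module.Free.of_equiv e, ?_⟩
  -- finiteness
  refine ⟨Submodule.fg_def.mpr ⟨{1, X}, by simp, ?_⟩⟩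
  rw [eq_top_iff]
  intro g _
  have hdecomp := modByMonic_add_div g f
  set r := g %ₘ f with hr
  have hrdeg : r.degree ≤ 1 := by
    rcases subsingleton_or_nontrivial S with hS | hS
    · rw [Subsingleton.elim r 0, degree_zero]; exact bot_le
    have hne1 : f ≠ 1 := by
      intro h
      have := hfnat
      rw [h, natDegree_one] at this
      omega
    have h1 : r.natDegree < f.natDegree := natDegree_modByMonic_lt g hfm hne1
    rw [hfnat] at h1
    exact degree_le_of_natDegree_le (show r.natDegree ≤ 1 by omega)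
  have hr' : r = C (r.coeff 1) * X + C (r.coeff 0) := eq_X_add_C_of_degree_le_one hrdeg
  have e1 : g = (⟨C (r.coeff 0) + f * (g /ₘ f), hmem1 _ _⟩ : A') • (1 : S[X]) +
      (⟨C (r.coeff 1) + f * 0, hmem1 _ _⟩ : A') • (X : S[X]) := by
    rw [Subalgebra.smul_def, Subalgebra.smul_def]
    simp only [mul_zero, add_zero, smul_eq_mul, mul_one]
    conv_lhs => rw [← hdecomp, hr']
    ring
  rw [e1]
  refine Submodule.add_mem _ (Submodule.smul_mem _ _ (Submodule.subset_span ?_))
    (Submodule.smul_mem _ _ (Submodule.subset_span ?_))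
  · simp
  · simp

end helpers

open Polynomial in
/-- Let S be a commutative ring, a, b ∈ S, f = x² + ax + b ∈ S[x] and R = S[x]/(f), a free S-algebra of
rank 2. Let A ⊂ S[x] be the S-subalgebra of polynomials whose class in R lies in the image of S → R;
it is the fibre product S[x] ×_R S, the coordinate ring of the affine line over S with the degree-2
subscheme Spec R collapsed onto Spec S. Then A is a free S-module and S[x] is a finitely generated
A-module. -/
theorem result (S : Type u) [CommRing S] (a b : S) :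
    Module.Free S ((⊥ : Subalgebra S (S[X] ⧸ Ideal.span ({X ^ 2 + C a * X + C b} : Set S[X]))).comap
        (Ideal.Quotient.mkₐ S (Ideal.span ({X ^ 2 + C a * X + C b} : Set S[X])))) ∧
      Module.Finite ((⊥ : Subalgebra S (S[X] ⧸ Ideal.span ({X ^ 2 + C a * X + C b} : Set S[X]))).comap
        (Ideal.Quotient.mkₐ S (Ideal.span ({X ^ 2 + C a * X + C b} : Set S[X])))) S[X] := by
  exact main S a b

end Groth.Agent.S19184
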