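import Groth.Statements.S19186
import Mathlib

set_option autoImplicit false
universe u
open OneMot

namespace Groth.Agent.S19186

section helpers

theorem main {A B : Type u} [AddCommGroup A] [AddCommGroup B] (f : A →+ B) (p ℓ r n : ℕ) (hp : p.Prime) (hl : ℓ.Prime) (hne : ℓ ≠ p) (hker : ∀ a : A, f a = 0 → p ^ r • a = 0) (hcoker : ∀ b : B, ∃ a : A, f a = p ^ r • b) : (∀ b : B, ℓ ^ n • b = 0 → ∃! a : A, ℓ ^ n • a = 0 ∧ f a = b) ∧ (∀ a : A, (∃ b' : B, f a = ℓ ^ n • b') → ∃ a' : A, a = ℓ ^ n • a') ∧ (∀ b : B, ∃ (a : A) (b' : B), b = f a + ℓ ^ n • b') := by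
  have bez : ∀ s : ℕ, ∃ u v : ℤ, u * ((p ^ s : ℕ) : ℤ) + v * ((ℓ ^ n : ℕ) : ℤ) = 1 := by
    intro s
    have hcop : Nat.Coprime (p ^ s) (ℓ ^ n) :=
      Nat.Coprime.pow _ _ ((Nat.coprime_primes hp hl).mpr (Ne.symm hne))
    obtain ⟨u, v, h⟩ := Nat.isCoprime_iff_coprime.mpr hcop
    exact ⟨u, v, h⟩
  have dec : ∀ {G : Type u} [AddCommGroup G] (s : ℕ) (u v : ℤ),
      u * ((p ^ s : ℕ) : ℤ) + v * ((ℓ ^ n : ℕ) : ℤ) = 1 →
      ∀ x : G, x = u • ((p ^ s) • x) + v • ((ℓ ^ n) • x) := by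
    intro G _ s u v h x
    have : (u * ((p ^ s : ℕ) : ℤ) + v * ((ℓ ^ n : ℕ) : ℤ)) • x = x := by rw [h, one_smul]
    rw [add_smul, mul_smul, mul_smul, natCast_zsmul, natCast_zsmul] at this
    exact this.symm
  obtain ⟨u, v, huv⟩ := bez r
  refine ⟨?_, ?_, ?_⟩
  · intro b hb
    obtain ⟨a₀, ha₀⟩ := hcoker b
    have hb' : b = u • (p ^ r • b) := by
      have := dec r u v huv b
      rw [hb, smul_zero, add_zero] at this
      exact this
    set a₁ := u • a₀ with ha₁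
    have hfa₁ : f a₁ = b := by
      rw [ha₁, map_zsmul, ha₀, ← hb']
    have h1 : p ^ r • (ℓ ^ n • a₁) = 0 := by
      apply hker
      rw [map_nsmul, hfa₁, hb]
    refine ⟨u • (p ^ r • a₁), ⟨?_, ?_⟩, ?_⟩
    · rw [smul_comm (ℓ ^ n) u, smul_comm (ℓ ^ n) (p ^ r), h1, smul_zero]
    · rw [map_zsmul, map_nsmul, hfa₁, ← hb']
    · rintro a' ⟨h1', h2'⟩
      have hd : f (a' - u • (p ^ r • a₁)) = 0 := by
        rw [map_sub, h2', map_zsmul, map_nsmul, hfa₁, ← hb', sub_self]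
      have hd1 := hker _ hd
      have hd2 : ℓ ^ n • (a' - u • (p ^ r • a₁)) = 0 := by
        rw [smul_sub, h1', smul_comm (ℓ ^ n) u, smul_comm (ℓ ^ n) (p ^ r), h1, smul_zero, sub_zero]
      have := dec r u v huv (a' - u • (p ^ r • a₁))
      rw [hd1, hd2, smul_zero, smul_zero, add_zero] at this
      exact sub_eq_zero.mp this
  · rintro a ⟨b', hb'⟩
    obtain ⟨a₀, ha₀⟩ := hcoker b'
    have h0 : f (p ^ r • a - ℓ ^ n • a₀) = 0 := by
      rw [map_sub, map_nsmul, map_nsmul, hb', ha₀, smul_comm, sub_self]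
    have h1 := hker _ h0
    rw [smul_sub, sub_eq_zero] at h1
    obtain ⟨u', v', huv'⟩ := bez (r + r)
    have h2 := dec (r + r) u' v' huv' a
    rw [pow_add, mul_smul, h1] at h2
    refine ⟨u' • (p ^ r • a₀) + v' • a, ?_⟩
    rw [smul_add, smul_comm (ℓ ^ n) u', smul_comm (ℓ ^ n) v', smul_comm (ℓ ^ n) (p ^ r)]
    exact h2
  · intro b
    obtain ⟨a₀, ha₀⟩ := hcoker b
    refine ⟨u • a₀, v • b, ?_⟩
    rw [map_zsmul, ha₀, smul_comm (ℓ ^ n) v]
    exact dec r u v huv b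

end helpers

/-- Let p and ℓ be distinct prime numbers, r and n natural numbers, and f : A → B a homomorphism of
abelian groups whose kernel and cokernel are annihilated by p^r (f a = 0 implies p^r • a = 0, and
every p^r • b lies in the image of f). Then f induces a bijection between the ℓ^n-torsion subgroups
of A and B and a bijection A/ℓ^n A → B/ℓ^n B. Spelled out without quotients: every ℓ^n-torsion
element of B has exactly one ℓ^n-torsion preimage; an element of A whose image is an ℓ^n-multiple is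
itself an ℓ^n-multiple; and every element of B is the sum of an image and an ℓ^n-multiple. -/
theorem result {A B : Type u} [AddCommGroup A] [AddCommGroup B] (f : A →+ B) (p ℓ r n : ℕ) (hp : p.Prime) (hl : ℓ.Prime) (hne : ℓ ≠ p) (hker : ∀ a : A, f a = 0 → p ^ r • a = 0) (hcoker : ∀ b : B, ∃ a : A, f a = p ^ r • b) : (∀ b : B, ℓ ^ n • b = 0 → ∃! a : A, ℓ ^ n • a = 0 ∧ f a = b) ∧ (∀ a : A, (∃ b' : B, f a = ℓ ^ n • b') → ∃ a' : A, a = ℓ ^ n • a') ∧ (∀ b : B, ∃ (a : A) (b' : B), b = f a + ℓ ^ n • b') := by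
  exact main f p ℓ r n hp hl hne hker hcoker

end Groth.Agent.S19186
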