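import Groth.Statements.S19187
import Mathlib

set_option autoImplicit false
universe u
open Cpct

namespace Groth.Agent.S19187

section helpers

open CategoryTheory AlgebraicGeometry Limits

theorem main {k : Type u} [Field k] {X Y Xb Yb : Scheme.{u}} (a : Xb ⟶ Spec (CommRingCat.of k)) (b : Yb ⟶ Spec (CommRingCat.of k)) [IsProper a] [IsProper b] (j : X ⟶ Xb) [IsOpenImmersion j] (hj : Dense (Set.range j.base)) (v : Y ⟶ Yb) [IsOpenImmersion v] (f : X ⟶ Y) [IsProper f] (fb : Xb ⟶ Yb) (hfb : fb ≫ b = a) (hsq : j ≫ fb = f ≫ v) : fb ⁻¹ᵁ v.opensRange = j.opensRange := by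
  haveI : IsSeparated fb := by
    haveI : IsSeparated (fb ≫ b) := by rw [hfb]; infer_instance
    exact IsSeparated.of_comp fb b
  let g : X ⟶ pullback fb v := pullback.lift j f hsq
  have hg1 : g ≫ pullback.fst fb v = j := pullback.lift_fst _ _ _
  have hg2 : g ≫ pullback.snd fb v = f := pullback.lift_snd _ _ _
  haveI : IsProper g := by
    haveI : IsProper (g ≫ pullback.snd fb v) := by rw [hg2]; infer_instance
    exact IsProper.of_comp g (pullback.snd fb v)
  have hclosed : IsClosed (Set.range g.base) := g.isClosedMap.isClosed_range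
  have hg1' : ∀ x, (pullback.fst fb v).base (g.base x) = j.base x := by
    intro x
    rw [← hg1]
    rfl
  have hdense : Dense (Set.range g.base) := by
    have h1 : Dense ((pullback.fst fb v).base ⁻¹' Set.range j.base) :=
      hj.preimage (pullback.fst fb v).isOpenEmbedding.isOpenMap
    have h2 : (pullback.fst fb v).base ⁻¹' Set.range j.base = Set.range g.base := by
      ext w
      constructor
      · rintro ⟨x, hx⟩
        refine ⟨x, (pullback.fst fb v).isOpenEmbedding.injective ?_⟩
        rw [← hx, hg1']
      · rintro ⟨x, rfl⟩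
        exact ⟨x, (hg1' x).symm⟩
    rwa [h2] at h1
  have hsurj : Set.range g.base = Set.univ := by
    rw [← hclosed.closure_eq]
    exact hdense.closure_eq
  apply TopologicalSpace.Opens.ext
  show fb.base ⁻¹' Set.range v.base = Set.range j.base
  ext xb
  constructor
  · intro hx
    rw [← Scheme.Pullback.range_fst] at hx
    obtain ⟨w, rfl⟩ := hx
    have hw : w ∈ Set.range g.base := by rw [hsurj]; trivial
    obtain ⟨x, rfl⟩ := hw
    exact ⟨x, (hg1' x).symm⟩
  · rintro ⟨x, rfl⟩
    refine ⟨f.base x, ?_⟩
    show (f ≫ v).base x = (j ≫ fb).base x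
    rw [hsq]

end helpers

open CategoryTheory AlgebraicGeometry in
/-- Let k be a field, X̄ and Ȳ schemes proper over Spec k, j : X → X̄ an open immersion with dense image
and v : Y → Ȳ an open immersion (compactifications of X and Y), f : X → Y a proper morphism and f̄ :
X̄ → Ȳ a morphism over Spec k with f̄ ∘ j = v ∘ f. Then the preimage under f̄ of the open v(Y) is
the open j(X); equivalently, the complement of X in X̄ is the preimage of the complement of Y in Ȳ.
(The base field k is arbitrary: no perfectness assumption is needed.) -/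
theorem result {k : Type u} [Field k] {X Y Xb Yb : Scheme.{u}} (a : Xb ⟶ Spec (CommRingCat.of k)) (b : Yb ⟶ Spec (CommRingCat.of k)) [IsProper a] [IsProper b] (j : X ⟶ Xb) [IsOpenImmersion j] (hj : Dense (Set.range j.base)) (v : Y ⟶ Yb) [IsOpenImmersion v] (f : X ⟶ Y) [IsProper f] (fb : Xb ⟶ Yb) (hfb : fb ≫ b = a) (hsq : j ≫ fb = f ≫ v) : fb ⁻¹ᵁ v.opensRange = j.opensRange := by
  exact main a b j hj v f fb hfb hsq

end Groth.Agent.S19187
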