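import Groth.Statements.S19190
-- import your own Groth.Agent.* helpers here

set_option autoImplicit false
universe w v u v' u'
open CategoryTheory CategoryTheory.Limits CategoryTheory.Pretriangulated CategoryTheory.Triangulated
open CohDer

namespace Groth.Agent.S19190

section aux
open ZeroObject

variable {A : Type w} [CommRing A] (S : Submonoid A)
    {T : Type u} [Category.{v} T] [Preadditive T] [Linear A T] [HasZeroObject T] [HasShift T ℤ]
    [∀ n : ℤ, (shiftFunctor T n).Additive] [∀ n : ℤ, (shiftFunctor T n).Linear A]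
    [Pretriangulated T]

/-- Objects killed by an element of `S`. -/
def Tors : ObjectProperty T := fun Z => ∃ f : A, f ∈ S ∧ f • 𝟙 Z = 0

instance : (Tors S (T := T)).IsClosedUnderIsomorphisms where
  of_iso {Z Z'} e h := by
    obtain ⟨f, hf, h0⟩ := h
    refine ⟨f, hf, ?_⟩
    have : f • 𝟙 Z' = e.inv ≫ (f • 𝟙 Z) ≫ e.hom := by
      rw [Linear.smul_comp, Linear.comp_smul, Category.id_comp, e.inv_hom_id]
    rw [this, h0, zero_comp, comp_zero]

instance : (Tors S (T := T)).IsStableUnderRetracts where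
  of_retract {Z' Z} r h := by
    obtain ⟨f, hf, h0⟩ := h
    refine ⟨f, hf, ?_⟩
    have : f • 𝟙 Z' = r.i ≫ (f • 𝟙 Z) ≫ r.r := by
      rw [Linear.smul_comp, Linear.comp_smul, Category.id_comp, r.retract]
    rw [this, h0, zero_comp, comp_zero]

instance : (Tors S (T := T)).ContainsZero where
  exists_zero := ⟨0, isZero_zero T, 1, S.one_mem, (isZero_zero T).eq_of_src _ _⟩

instance : (Tors S (T := T)).IsStableUnderShift ℤ where
  isStableUnderShiftBy n := ⟨fun Z h => by
    obtain ⟨f, hf, h0⟩ := h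
    refine ⟨f, hf, ?_⟩
    have : f • 𝟙 ((shiftFunctor T n).obj Z) = (shiftFunctor T n).map (f • 𝟙 Z) := by
      rw [Functor.map_smul, CategoryTheory.Functor.map_id]
    rw [this, h0, Functor.map_zero]⟩

instance : (Tors S (T := T)).IsTriangulatedClosed₂ :=
  .mk' (fun Tr hTr h₁ h₃ => by
    obtain ⟨f, hf, hf0⟩ := h₁
    obtain ⟨g, hg, hg0⟩ := h₃
    refine ⟨f * g, S.mul_mem hf hg, ?_⟩
    have e₁ : (g • 𝟙 Tr.obj₂) ≫ Tr.mor₂ = 0 := by
      have : (g • 𝟙 Tr.obj₂) ≫ Tr.mor₂ = Tr.mor₂ ≫ (g • 𝟙 Tr.obj₃) := by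
        rw [Linear.smul_comp, Linear.comp_smul, Category.id_comp, Category.comp_id]
      rw [this, hg0, comp_zero]
    obtain ⟨u, hu⟩ := Triangle.coyoneda_exact₂ _ hTr _ e₁
    have e₂ : (f * g) • 𝟙 Tr.obj₂ = u ≫ (f • 𝟙 Tr.obj₁) ≫ Tr.mor₁ := by
      rw [mul_smul, hu, Linear.smul_comp, Linear.comp_smul, Category.id_comp]
    rw [e₂, hf0, zero_comp, comp_zero])

instance : (Tors S (T := T)).IsTriangulated where

lemma cone_mem_tors {X Z : T} (f : A) (hf : f ∈ S) (g : X ⟶ Z)
    (h : Z ⟶ (shiftFunctor T (1 : ℤ)).obj X)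
    (hT : Triangle.mk (f • 𝟙 X) g h ∈ distTriang T) : Tors S Z := by
  refine ⟨f * f, S.mul_mem hf hf, ?_⟩
  have e₁ : g ≫ (f • 𝟙 Z) = 0 := by
    have : g ≫ (f • 𝟙 Z) = (f • 𝟙 X) ≫ g := by
      rw [Linear.smul_comp, Linear.comp_smul, Category.id_comp, Category.comp_id]
    rw [this]
    exact comp_distTriang_mor_zero₁₂ _ hT
  obtain ⟨v, hv⟩ : ∃ v : (shiftFunctor T (1 : ℤ)).obj X ⟶ Z, f • 𝟙 Z = h ≫ v :=
    Triangle.yoneda_exact₃ _ hT _ e₁
  have e₂ : h ≫ (shiftFunctor T (1 : ℤ)).map (f • 𝟙 X) = 0 := comp_distTriang_mor_zero₃₁ _ hT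
  have e₃ : (f * f) • 𝟙 Z = h ≫ (shiftFunctor T (1 : ℤ)).map (f • 𝟙 X) ≫ v := by
    rw [mul_smul, hv, Functor.map_smul, CategoryTheory.Functor.map_id, Linear.smul_comp,
      Linear.comp_smul, Category.id_comp]
  rw [e₃, ← Category.assoc, e₂, zero_comp]

end aux

/-- Let `A` be a commutative ring, `S` a multiplicative subset of `A` and `T` an `A`-linear triangulated
category (octahedron axiom included; the shift functors are `A`-linear). Call an object of `T`
`S`-torsion when it lies in the smallest thick subcategory `U` of `T` (a property of objects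
containing zero, stable under shifts, extensions, isomorphisms and direct factors) containing every
cone of an endomorphism `f • 𝟙 X` with `f ∈ S`. Let `Q : T ⥤ E` exhibit `E` as the localization of
`T` at the morphisms whose cone lies in `U` (the Verdier quotient `T/U`), where `E` is preadditive
and `A`-linear and `Q` is `A`-linear. Then for all objects `X`, `Y` of `T` the `A`-linear map
`Hom_T(X, Y) → Hom_E(Q X, Q Y)` given by `Q` exhibits its target as the localization of `Hom_T(X,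
Y)` at `S`. Since `Q` is essentially surjective, this says that the comparison functor from `T/U` to
the category having the objects of `T` and morphism modules `Hom_T(X, Y) ⊗_A S⁻¹A` is an
equivalence. -/
theorem result
    {A : Type w} [CommRing A] (S : Submonoid A)
    {T : Type u} [Category.{v} T] [Preadditive T] [Linear A T] [HasZeroObject T] [HasShift T ℤ]
    [∀ n : ℤ, (shiftFunctor T n).Additive] [∀ n : ℤ, (shiftFunctor T n).Linear A]
    [Pretriangulated T] [IsTriangulated T]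
    (U : ObjectProperty T) [U.IsTriangulated] [U.IsClosedUnderIsomorphisms] [U.IsStableUnderRetracts]
    (hU : ∀ (X : T) (f : A), f ∈ S → ∀ (Z : T) (g : X ⟶ Z) (h : Z ⟶ X⟦(1 : ℤ)⟧),
      Triangle.mk (f • 𝟙 X) g h ∈ distTriang T → U Z)
    (hmin : ∀ (U' : ObjectProperty T) [U'.IsTriangulated] [U'.IsClosedUnderIsomorphisms]
      [U'.IsStableUnderRetracts],
      (∀ (X : T) (f : A), f ∈ S → ∀ (Z : T) (g : X ⟶ Z) (h : Z ⟶ X⟦(1 : ℤ)⟧),
        Triangle.mk (f • 𝟙 X) g h ∈ distTriang T → U' Z) → U ≤ U')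
    {E : Type u'} [Category.{v'} E] [Preadditive E] [Linear A E]
    (Q : T ⥤ E) [Q.Additive] [Q.Linear A] [Q.IsLocalization U.trW] (X Y : T) :
    IsLocalizedModule S (Q.mapLinearMap A : (X ⟶ Y) →ₗ[A] (Q.obj X ⟶ Q.obj Y)) := by
  have hUT : U ≤ Tors S := hmin (Tors S) (fun X f hf Z g h hT => cone_mem_tors S f hf g h hT)
  -- factorization lemma
  have factor : ∀ {X' X : T} (s : X' ⟶ X), U.trW s →
      ∃ (f : A) (_ : f ∈ S) (t : X ⟶ X'), t ≫ s = f • 𝟙 X := by
    intro X' X s hs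
    rw [ObjectProperty.trW_iff] at hs
    obtain ⟨Z, g, h, hT, hZ⟩ := hs
    obtain ⟨f, hf, hf0⟩ := hUT Z hZ
    have e₁ : (f • 𝟙 X) ≫ g = 0 := by
      have : (f • 𝟙 X) ≫ g = g ≫ (f • 𝟙 Z) := by
        rw [Linear.smul_comp, Linear.comp_smul, Category.id_comp, Category.comp_id]
      rw [this, hf0, comp_zero]
    obtain ⟨t, ht⟩ : ∃ t : X ⟶ X', f • 𝟙 X = t ≫ s := Triangle.coyoneda_exact₂ _ hT _ e₁
    exact ⟨f, hf, t, ht.symm⟩
  have hQsmul : ∀ (f : A) (W : T), Q.map (f • 𝟙 W) = f • 𝟙 (Q.obj W) := by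
    intro f W
    rw [Functor.map_smul, CategoryTheory.Functor.map_id]
  refine ⟨?_, ?_, ?_⟩
  · intro x
    rw [Module.End.isUnit_iff]
    have hW : U.trW ((x : A) • 𝟙 Y) := by
      obtain ⟨Z, g, h, hT⟩ := distinguished_cocone_triangle ((x : A) • 𝟙 Y)
      rw [ObjectProperty.trW_iff]
      exact ⟨Z, g, h, hT, hU Y x x.2 Z g h hT⟩
    have hiso : IsIso ((x : A) • 𝟙 (Q.obj Y)) := by
      rw [← hQsmul]
      exact Localization.inverts Q U.trW _ hW
    have hform : ∀ m : Q.obj X ⟶ Q.obj Y,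
        (algebraMap A (Module.End A (Q.obj X ⟶ Q.obj Y)) x) m = m ≫ ((x : A) • 𝟙 (Q.obj Y)) := by
      intro m
      rw [Module.algebraMap_end_apply, Linear.comp_smul, Category.comp_id]
    constructor
    · intro m₁ m₂ h
      rw [hform, hform] at h
      exact (cancel_mono _).1 h
    · intro m
      refine ⟨m ≫ inv ((x : A) • 𝟙 (Q.obj Y)), ?_⟩
      rw [hform, Category.assoc, IsIso.inv_hom_id, Category.comp_id]
  · intro y
    obtain ⟨φ, hφ⟩ := Localization.exists_rightFraction Q U.trW y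
    obtain ⟨f, hf, t, ht⟩ := factor φ.s φ.hs
    refine ⟨(t ≫ φ.f, ⟨f, hf⟩), ?_⟩
    show (⟨f, hf⟩ : S) • y = Q.map (t ≫ φ.f)
    rw [Submonoid.smul_def]
    show f • y = Q.map (t ≫ φ.f)
    have e₁ : f • y = (f • 𝟙 (Q.obj X)) ≫ y := by
      rw [Linear.smul_comp, Category.id_comp]
    rw [e₁, ← hQsmul, ← ht, hφ, Functor.map_comp, Category.assoc,
      MorphismProperty.RightFraction.map_s_comp_map, ← Functor.map_comp]
  · intro x₁ x₂ h
    have h' : Q.map x₁ = Q.map x₂ := h
    obtain ⟨Z, s, hs, eq⟩ := (MorphismProperty.map_eq_iff_precomp Q U.trW x₁ x₂).1 h'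
    obtain ⟨f, hf, t, ht⟩ := factor s hs
    refine ⟨⟨f, hf⟩, ?_⟩
    rw [Submonoid.smul_def, Submonoid.smul_def]
    show f • x₁ = f • x₂
    have e₁ : ∀ x : X ⟶ Y, f • x = (f • 𝟙 X) ≫ x := by
      intro x
      rw [Linear.smul_comp, Category.id_comp]
    rw [e₁, e₁, ← ht, Category.assoc, Category.assoc, eq]

end Groth.Agent.S19190
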