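import Groth.Statements.S19191
import Mathlib

set_option autoImplicit false
universe w v u v' u'
open CategoryTheory CategoryTheory.Limits CategoryTheory.Pretriangulated CategoryTheory.Triangulated
open CohDer

namespace Groth.Agent.S19191

section helpers
open CategoryTheory CategoryTheory.Limits CategoryTheory.Pretriangulated CategoryTheory.Triangulated

open ZeroObject

theorem main
    {A : Type w} [CommRing A]
    {T : Type u} [Category.{v} T] [Preadditive T] [Linear A T] [HasZeroObject T] [HasShift T ℤ]
    [∀ n : ℤ, (shiftFunctor T n).Additive] [∀ n : ℤ, (shiftFunctor T n).Linear A]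
    [Pretriangulated T] [IsTriangulated T]
    (U : ObjectProperty T) [U.IsTriangulated] [U.IsClosedUnderIsomorphisms] [U.IsStableUnderRetracts]
    {E : Type u'} [Category.{v'} E] [Preadditive E] [Linear A E]
    (Q : T ⥤ E) [Q.Additive] [Q.Linear A] [Q.IsLocalization U.trW] (X : T) :
    U X ↔ ∀ m : Ideal A, m.IsMaximal → ∃ s : A, s ∉ m ∧ s • 𝟙 (Q.obj X) = 0 := by
  constructor
  · intro hX m hm
    refine ⟨1, fun h => hm.ne_top ((Ideal.eq_top_iff_one m).mpr h), ?_⟩
    rw [one_smul, ← Q.map_id, ← Q.map_zero X X, MorphismProperty.map_eq_iff_postcomp Q U.trW]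
    refine ⟨0, 0, ?_, by simp⟩
    rw [ObjectProperty.trW_iff']
    exact ⟨X, 𝟙 X, 0, contractible_distinguished X, hX⟩
  · intro h
    let I : Ideal A :=
      { carrier := {s | s • 𝟙 (Q.obj X) = 0}
        add_mem' := by
          intro a b ha hb
          show (a + b) • 𝟙 (Q.obj X) = 0
          rw [add_smul, show a • 𝟙 (Q.obj X) = 0 from ha, show b • 𝟙 (Q.obj X) = 0 from hb,
            add_zero]
        zero_mem' := by
          show (0 : A) • 𝟙 (Q.obj X) = 0
          rw [zero_smul]
        smul_mem' := by
          intro c a ha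
          show (c • a) • 𝟙 (Q.obj X) = 0
          rw [smul_assoc, show a • 𝟙 (Q.obj X) = 0 from ha, smul_zero] }
    have hI : I = ⊤ := by
      by_contra hne
      obtain ⟨m, hm, hIm⟩ := Ideal.exists_le_maximal I hne
      obtain ⟨s, hs, hs0⟩ := h m hm
      exact hs (hIm hs0)
    have h1 : (1 : A) ∈ I := by rw [hI]; trivial
    have h2 : 𝟙 (Q.obj X) = 0 := by
      have : (1 : A) • 𝟙 (Q.obj X) = 0 := h1
      rwa [one_smul] at this
    rw [← Q.map_id, ← Q.map_zero X X, MorphismProperty.map_eq_iff_postcomp Q U.trW] at h2
    obtain ⟨Z, s, hs, eq⟩ := h2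
    rw [Category.id_comp, zero_comp] at eq
    subst eq
    rw [ObjectProperty.trW_iff] at hs
    obtain ⟨W, g, hh, hT, hW⟩ := hs
    have hz : (𝟙 ((Triangle.mk (0 : X ⟶ Z) g hh).obj₁⟦(1 : ℤ)⟧)) ≫
        (Triangle.mk (0 : X ⟶ Z) g hh).mor₁⟦(1 : ℤ)⟧' = 0 := by
      show 𝟙 _ ≫ (shiftFunctor T (1 : ℤ)).map (0 : X ⟶ Z) = 0
      rw [Functor.map_zero, comp_zero]
    obtain ⟨r, hr⟩ := Triangle.coyoneda_exact₁ _ hT (𝟙 _) hz
    have h3 : U (X⟦(1 : ℤ)⟧) := U.prop_of_retract ⟨r, hh, hr.symm⟩ hW
    exact (U.prop_shift_iff_of_isStableUnderShift X (1 : ℤ)).mp h3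

end helpers

/-- Let `A` be a commutative ring, `T` an `A`-linear triangulated category (octahedron axiom included;
shift functors `A`-linear), `U` a thick subcategory of `T` (a property of objects containing zero,
stable under shifts, extensions, isomorphisms and direct factors), and `Q : T ⥤ E` a localization of
`T` at the morphisms whose cone lies in `U` (the Verdier quotient `T/U`), where `E` is preadditive
and `A`-linear and `Q` is `A`-linear. For an object `X` of `T` the following two conditions are
equivalent: (i) `X` lies in `U`; (ii) for every maximal ideal `m` of `A` the image of `X` in the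
category obtained from `T/U` by tensoring the morphism modules with `A_m` is zero, i.e. some element
of `A` outside `m` annihilates the identity of `Q X`. (The published statement also lists a third
equivalent condition, phrased with idempotent completions of the localized categories; it is not
asserted here.) -/
theorem result
    {A : Type w} [CommRing A]
    {T : Type u} [Category.{v} T] [Preadditive T] [Linear A T] [HasZeroObject T] [HasShift T ℤ]
    [∀ n : ℤ, (shiftFunctor T n).Additive] [∀ n : ℤ, (shiftFunctor T n).Linear A]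
    [Pretriangulated T] [IsTriangulated T]
    (U : ObjectProperty T) [U.IsTriangulated] [U.IsClosedUnderIsomorphisms] [U.IsStableUnderRetracts]
    {E : Type u'} [Category.{v'} E] [Preadditive E] [Linear A E]
    (Q : T ⥤ E) [Q.Additive] [Q.Linear A] [Q.IsLocalization U.trW] (X : T) :
    U X ↔ ∀ m : Ideal A, m.IsMaximal → ∃ s : A, s ∉ m ∧ s • 𝟙 (Q.obj X) = 0 := by
  exact main U Q X

end Groth.Agent.S19191
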