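import Groth.Statements.S19195
import Groth.Agent.Lib27.FibInj.AtPrime
import Groth.Agent.Lib.Helper26.FiberAss

set_option autoImplicit false
universe u
open TensorProduct
open RelS1

namespace Groth.Agent.S19195

/-- the fibre module `(B ⊗ κ(p)) ⊗_B M` is `M ⊗_A κ(p)` -/
noncomputable def fibEquiv (A B M : Type u) [CommRing A] [CommRing B] [Algebra A B]
    [AddCommGroup M] [Module B M] [Module A M] [IsScalarTower A B M] (p : Ideal A) [p.IsPrime] :
    (B ⊗[A] p.ResidueField) ⊗[B] M ≃ₗ[B] M ⊗[A] p.ResidueField :=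
  (TensorProduct.comm B (B ⊗[A] p.ResidueField) M) ≪≫ₗ
    (TensorProduct.AlgebraTensorModule.cancelBaseChange A B B M p.ResidueField)

theorem fibEquiv_one_tmul (A B M : Type u) [CommRing A] [CommRing B] [Algebra A B]
    [AddCommGroup M] [Module B M] [Module A M] [IsScalarTower A B M] (p : Ideal A) [p.IsPrime]
    (y : M) :
    fibEquiv A B M p ((1 : B ⊗[A] p.ResidueField) ⊗ₜ[B] y) = y ⊗ₜ[A] (1 : p.ResidueField) := by
  have h : fibEquiv A B M p (((1 : B) ⊗ₜ[A] (1 : p.ResidueField)) ⊗ₜ[B] y) =
      ((1 : B) • y) ⊗ₜ[A] (1 : p.ResidueField) := rfl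
  rw [one_smul] at h
  exact h

/-- Let A be a commutative ring, B a finitely presented A-algebra and M a finitely presented B-module
which is flat over A. Suppose that for every prime p of A, with residue field κ(p), the fibre module
(B ⊗_A κ(p)) ⊗_B M over the fibre ring B ⊗_A κ(p) satisfies Serre's condition (S_1) in the form:
each of its associated primes is a minimal prime of its annihilator. Let a be an element of B whose
image a ⊗ 1 in every fibre ring B ⊗_A κ(p) lies in no minimal prime of the annihilator of the fibre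
module. Then a is a non-zero-divisor on M. (Since all hypotheses are preserved by base change of A
and by passing to affine opens, this expresses that a flat finitely presented sheaf with (S_1)
fibres is pure relative to the base after every base change. The published statement is an
equivalence for sheaves on a locally finitely presented morphism, quantified over all base changes;
this row states its direct implication in affine form.) -/
theorem result (A B M : Type u) [CommRing A] [CommRing B] [Algebra A B]
    [Algebra.FinitePresentation A B] [AddCommGroup M] [Module B M] [Module A M]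
    [IsScalarTower A B M] [Module.FinitePresentation B M] [Module.Flat A M]
    (hS1 : ∀ (p : Ideal A) [p.IsPrime],
      associatedPrimes (B ⊗[A] p.ResidueField) ((B ⊗[A] p.ResidueField) ⊗[B] M) ⊆
        (Module.annihilator (B ⊗[A] p.ResidueField) ((B ⊗[A] p.ResidueField) ⊗[B] M)).minimalPrimes)
    (a : B)
    (ha : ∀ (p : Ideal A) [p.IsPrime],
      ∀ P ∈ (Module.annihilator (B ⊗[A] p.ResidueField) ((B ⊗[A] p.ResidueField) ⊗[B] M)).minimalPrimes,
        a ⊗ₜ[A] (1 : p.ResidueField) ∉ P) :
    IsSMulRegular M a := by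
  classical
  -- Step 1: `a ⊗ 1` is a nonzerodivisor on every fibre module
  have step1 : ∀ (p : Ideal A) [p.IsPrime] (z : (B ⊗[A] p.ResidueField) ⊗[B] M),
      (a ⊗ₜ[A] (1 : p.ResidueField)) • z = 0 → z = 0 := by
    intro p _ z hz
    haveI : IsNoetherianRing (p.ResidueField ⊗[A] B) :=
      Algebra.FiniteType.isNoetherianRing p.ResidueField _
    haveI : IsNoetherianRing (B ⊗[A] p.ResidueField) :=
      isNoetherianRing_of_ringEquiv _ (Algebra.TensorProduct.comm A p.ResidueField B).toRingEquiv
    by_contra hne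
    have hmem : (a ⊗ₜ[A] (1 : p.ResidueField)) ∈
        ⋃ P ∈ associatedPrimes (B ⊗[A] p.ResidueField) ((B ⊗[A] p.ResidueField) ⊗[B] M),
          (P : Set (B ⊗[A] p.ResidueField)) := by
      rw [biUnion_associatedPrimes_eq_zero_divisors]
      exact ⟨z, hne, hz⟩
    obtain ⟨P, hP, haP⟩ := Set.mem_iUnion₂.1 hmem
    exact ha p P (hS1 p hP) haP
  -- Step 2: kernel of `M → fibre module`
  have step2 : ∀ (p : Ideal A) [p.IsPrime] (y : M),
      (1 : B ⊗[A] p.ResidueField) ⊗ₜ[B] y = 0 ↔
        ∃ r ∉ p, r • y ∈ p • (⊤ : Submodule A M) := by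
    intro p _ y
    rw [← (fibEquiv A B M p).map_eq_zero_iff, fibEquiv_one_tmul,
      Groth.Agent.Lib.Helper26.FiberAss.tmul_one_eq_zero_iff]
  -- main argument
  intro m₁ m₂ h12
  obtain ⟨m, hm⟩ : ∃ m, m = m₁ - m₂ := ⟨_, rfl⟩
  have ham : a • m = 0 := by
    rw [hm, smul_sub]
    exact sub_eq_zero.2 h12
  suffices h0 : m = 0 by
    rw [hm] at h0
    exact sub_eq_zero.1 h0
  by_contra hne
  have hI : LinearMap.ker (LinearMap.toSpanSingleton B M m) ≠ ⊤ := by
    intro htop
    have : (1 : B) ∈ LinearMap.ker (LinearMap.toSpanSingleton B M m) := by rw [htop]; trivial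
    rw [LinearMap.mem_ker, LinearMap.toSpanSingleton_apply, one_smul] at this
    exact hne this
  obtain ⟨q, hqmax, hIq⟩ := Ideal.exists_le_maximal _ hI
  haveI : q.IsPrime := hqmax.isPrime
  haveI : Module.Flat A (LocalizedModule q.primeCompl M) :=
    Groth.Agent.Lib.Helper18.Fl.flat_localizedModule q.primeCompl
  have hu : ∀ x : M, (∃ s ∉ q, s • (LinearMap.lsmul B M a) x ∈
      (q.comap (algebraMap A B)) • (⊤ : Submodule A M)) →
      ∃ s ∉ q, s • x ∈ (q.comap (algebraMap A B)) • (⊤ : Submodule A M) := by
    rintro x ⟨s, hs, hmem⟩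
    have h1 : (1 : B ⊗[A] (q.comap (algebraMap A B)).ResidueField) ⊗ₜ[B] (s • a • x) = 0 := by
      rw [step2]
      exact ⟨1, fun h1 => (Ideal.IsPrime.ne_top inferInstance) ((Ideal.eq_top_iff_one _).2 h1),
        by rw [one_smul]; exact hmem⟩
    have h2 : (a ⊗ₜ[A] (1 : (q.comap (algebraMap A B)).ResidueField)) •
        ((1 : B ⊗[A] (q.comap (algebraMap A B)).ResidueField) ⊗ₜ[B] (s • x)) = 0 := by
      have e1 : (a ⊗ₜ[A] (1 : (q.comap (algebraMap A B)).ResidueField)) =
          a • (1 : B ⊗[A] (q.comap (algebraMap A B)).ResidueField) := by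
        rw [Algebra.TensorProduct.one_def, TensorProduct.smul_tmul', smul_eq_mul, mul_one]
      rw [TensorProduct.smul_tmul', smul_eq_mul, mul_one, e1, TensorProduct.smul_tmul,
        smul_comm a s x]
      exact h1
    have h3 := step1 _ _ h2
    rw [step2] at h3
    obtain ⟨r, hr, hmem'⟩ := h3
    refine ⟨algebraMap A B r * s, fun hmul => ?_, ?_⟩
    · rcases Ideal.IsPrime.mem_or_mem inferInstance hmul with h | h
      · exact hr h
      · exact hs h
    · rw [mul_smul, algebraMap_smul]
      exact hmem'
  have key := (Groth.Agent.Lib27.FibInj.fibInj_at_prime q (LinearMap.lsmul B M a) hu).1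
  have h0 : LocalizedModule.mk m (1 : q.primeCompl) = 0 := by
    apply key
    rw [LocalizedModule.map_mk, map_zero, LinearMap.lsmul_apply, ham, LocalizedModule.zero_mk]
  have h1 : LocalizedModule.mkLinearMap q.primeCompl M m = 0 := h0
  rw [IsLocalizedModule.eq_zero_iff q.primeCompl] at h1
  obtain ⟨s, hs⟩ := h1
  have : (s : B) ∈ LinearMap.ker (LinearMap.toSpanSingleton B M m) := by
    rw [LinearMap.mem_ker, LinearMap.toSpanSingleton_apply]
    exact hs
  exact s.2 (hIq this)

end Groth.Agent.S19195
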