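import Groth.Statements.S19196
import Mathlib

set_option autoImplicit false
universe u
open RelS1

namespace Groth.Agent.S19196

section helpers

theorem main (R N : Type u) [CommRing R] [IsNoetherianRing R]
    [AddCommGroup N] [Module R N] [Module.Finite R N]
    (h : ¬ associatedPrimes R N ⊆ (Module.annihilator R N).minimalPrimes) :
    ∃ (a : R) (b : N), (∀ P ∈ (Module.annihilator R N).minimalPrimes, a ∉ P) ∧ b ≠ 0 ∧ a • b = 0 := by
  rw [Set.not_subset] at h
  obtain ⟨P, hP, hPmin⟩ := h
  have hP' := (isAssociatedPrime_iff.mp hP)
  obtain ⟨hPprime, b, hb⟩ := hP'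
  have hann : Module.annihilator R N ≤ P := by
    have := hP.annihilator_le
    rwa [Submodule.annihilator_top] at this
  have hfin : (Module.annihilator R N).minimalPrimes.Finite :=
    Ideal.finite_minimalPrimes_of_isNoetherianRing R _
  have hnot : ¬ ((P : Set R) ⊆ ⋃ Q ∈ (hfin.toFinset : Set (Ideal R)), (Q : Set R)) := by
    intro hsub
    rw [Ideal.subset_union_prime (f := fun Q : Ideal R => Q) ⊥ ⊥] at hsub
    · obtain ⟨Q, hQ, hPQ⟩ := hsub
      rw [Set.Finite.mem_toFinset] at hQ
      apply hPmin
      have : P = Q := le_antisymm hPQ (hQ.2 ⟨hPprime, hann⟩ hPQ)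
      rw [this]
      exact hQ
    · intro Q hQ _ _
      rw [Set.Finite.mem_toFinset] at hQ
      exact hQ.1.1
  rw [Set.not_subset] at hnot
  obtain ⟨a, haP, hanot⟩ := hnot
  have hb0 : b ≠ 0 := by
    rintro rfl
    apply hPprime.ne_top
    rw [hb]
    ext r
    simp [Submodule.mem_colon_singleton]
  refine ⟨a, b, ?_, hb0, ?_⟩
  · intro Q hQ haQ
    apply hanot
    rw [Set.mem_iUnion₂]
    exact ⟨Q, by simpa using hQ, haQ⟩
  · have : a ∈ (⊥ : Submodule R N).colon {b} := by rw [← hb]; exact haP
    simpa [Submodule.mem_colon_singleton] using this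

end helpers

/-- Let R be a Noetherian commutative ring and N a finitely generated R-module which fails Serre's
condition (S_1), in the sense that some associated prime of N is not a minimal prime of the
annihilator of N. Then there exist an element a of R lying in no minimal prime of the annihilator of
N and a nonzero element b of N with a • b = 0; thus the basic open set D(a) meets the support of N
densely while restriction to it is not injective on N. -/
theorem result (R N : Type u) [CommRing R] [IsNoetherianRing R]
    [AddCommGroup N] [Module R N] [Module.Finite R N]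
    (h : ¬ associatedPrimes R N ⊆ (Module.annihilator R N).minimalPrimes) :
    ∃ (a : R) (b : N), (∀ P ∈ (Module.annihilator R N).minimalPrimes, a ∉ P) ∧ b ≠ 0 ∧ a • b = 0 := by
  exact main R N h

end Groth.Agent.S19196
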