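import Groth.Statements.S19202
import Mathlib

set_option autoImplicit false
universe u
open CategoryTheory AlgebraicGeometry
open FlatMor

namespace Groth.Agent.S19202



/-- sections become units when the morphism lands in the basic open -/
theorem isUnit_app_of_range_subset {T S : Scheme.{u}} (G : T ⟶ S) (r : Γ(S, ⊤))
    (hG : ∀ z : T, G z ∈ S.basicOpen r) : IsUnit (G.appTop r) := by
  apply RingedSpace.isUnit_of_isUnit_germ (X := T.toRingedSpace) ⊤
  intro z hz
  have h1 : z ∈ G ⁻¹ᵁ S.basicOpen r := hG z
  rw [Scheme.preimage_basicOpen_top] at h1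
  exact (Scheme.mem_basicOpen_top _ _ z).mp h1

theorem ker_le_of_flat (R : Type u) [CommRing R] [IsDomain R]
    {X Y : Scheme.{u}} (p : X ⟶ Spec (CommRingCat.of R)) (q : Y ⟶ Spec (CommRingCat.of R))
    (f : X ⟶ Y) (w : f ≫ q = p) [Flat p] (r : R) (hr : r ≠ 0) :
    let D := (Spec (CommRingCat.of R)).basicOpen ((Scheme.ΓSpecIso (CommRingCat.of R)).inv r)
    (Limits.pullback.fst (f.imageι ≫ q) D.ι ≫ f.imageι).ker ≤ f.ker := by
  intro D
  have hDaff : IsAffineOpen D := (isAffineOpen_top _).basicOpen _
  have : IsAffine D.toScheme := hDaff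
  have hDne : (D : Set (Spec (CommRingCat.of R))).Nonempty := by
    refine ⟨(⊥ : PrimeSpectrum R), ?_⟩
    show (⊥ : PrimeSpectrum R) ∈ (Spec (CommRingCat.of R)).basicOpen _
    rw [basicOpen_eq_of_affine]
    show r ∉ (⊥ : Ideal R)
    exact hr
  have hdom : IsDominant D.ι := by
    refine ⟨?_⟩
    rw [DenseRange, Scheme.Opens.range_ι]
    exact D.isOpen.dense hDne
  have hsd : IsSchemeTheoreticallyDominant D.ι := IsSchemeTheoreticallyDominant.of_isDominant _
  have hsdX : IsSchemeTheoreticallyDominant (Limits.pullback.fst p D.ι) := inferInstance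
  have e0 : f.toImage ≫ f.imageι ≫ q = p := by rw [← Category.assoc, f.toImage_imageι, w]
  let k : Limits.pullback p D.ι ⟶ Limits.pullback (f.imageι ≫ q) D.ι :=
    Limits.pullback.lift (Limits.pullback.fst p D.ι ≫ f.toImage) (Limits.pullback.snd p D.ι) (by
      rw [Category.assoc, e0, Limits.pullback.condition])
  have hk : k ≫ Limits.pullback.fst (f.imageι ≫ q) D.ι = Limits.pullback.fst p D.ι ≫ f.toImage :=
    Limits.pullback.lift_fst _ _ _
  calc (Limits.pullback.fst (f.imageι ≫ q) D.ι ≫ f.imageι).ker
      ≤ (k ≫ Limits.pullback.fst (f.imageι ≫ q) D.ι ≫ f.imageι).ker := Scheme.Hom.le_ker_comp _ _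
    _ = (Limits.pullback.fst p D.ι ≫ f).ker := by
        rw [← Category.assoc, hk, Category.assoc, f.toImage_imageι]
    _ = f.ker := by
        rw [Scheme.Hom.ker_comp, (Limits.pullback.fst p D.ι).ker_eq_bot,
          Scheme.IdealSheafData.map_bot]

/-- Let R be a Dedekind domain, X and Y schemes over Spec R with X flat over Spec R, and f : X → Y a
morphism over Spec R. Then the scheme-theoretic image of f, i.e. the closed subscheme of Y cut out
by the kernel ideal sheaf of f, is flat over Spec R. (The published statement takes the base to be a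
non-singular curve and f proper; this row takes the spectrum of any Dedekind domain and any morphism
f over it.) -/
theorem result (R : Type u) [CommRing R] [IsDedekindDomain R]
    {X Y : Scheme.{u}} (p : X ⟶ Spec (CommRingCat.of R)) (q : Y ⟶ Spec (CommRingCat.of R))
    (f : X ⟶ Y) (w : f ≫ q = p) [Flat p] : Flat (f.imageι ≫ q) := by

  refine HasRingHomProperty.of_iSup_eq_top (P := @Flat)
    (fun U : Y.affineOpens => (⟨f.imageι ⁻¹ᵁ (U : Y.Opens), U.2.preimage f.imageι⟩ :
      f.image.affineOpens)) ?_ ?_
  · show ⨆ U : Y.affineOpens, f.imageι ⁻¹ᵁ (U : Y.Opens) = ⊤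
    rw [← Scheme.Hom.preimage_iSup, iSup_affineOpens_eq_top, Scheme.Hom.preimage_top]
  · rintro ⟨U, hU⟩
    set V := f.imageι ⁻¹ᵁ U with hV
    set F := f.imageι ≫ q with hF
    show (F.appLE ⊤ V le_top).hom.Flat
    let ψ : R →+* Γ(f.image, V) :=
      (F.appLE ⊤ V le_top).hom.comp (Scheme.ΓSpecIso (CommRingCat.of R)).inv.hom
    have hψ : ψ.Flat := by
      algebraize [ψ]
      have htf : Module.IsTorsionFree R Γ(f.image, V) := by
        rw [Module.isTorsionFree_iff_smul_eq_zero]
        intro r b hab
        by_cases hr : r = 0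
        · exact Or.inl hr
        right
        let D := (Spec (CommRingCat.of R)).basicOpen ((Scheme.ΓSpecIso (CommRingCat.of R)).inv r)
        have hDaff : IsAffineOpen D := (isAffineOpen_top _).basicOpen _
        have : IsAffine D.toScheme := hDaff
        let j := Limits.pullback.fst F D.ι
        have hle := ker_le_of_flat R p q f w r hr
        have hqc : QuasiCompact (j ≫ f.imageι) := inferInstance
        obtain ⟨b', rfl⟩ := f.ker.subschemeι_app_surjective ⟨U, hU⟩ b
        have hu : IsUnit (j.app V (ψ r)) := by
          have h1 : IsUnit ((j ≫ F).appTop ((Scheme.ΓSpecIso (CommRingCat.of R)).inv r)) := by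
            apply isUnit_app_of_range_subset
            intro z
            have e : j ≫ F = Limits.pullback.snd F D.ι ≫ D.ι := Limits.pullback.condition
            rw [e]
            exact ((Limits.pullback.snd F D.ι) z).2
          rw [Scheme.Hom.comp_appTop, CommRingCat.comp_apply] at h1
          have nat := j.naturality (homOfLE (le_top : V ≤ F ⁻¹ᵁ ⊤)).op
          have h2 := congrArg (fun φ => φ.hom (F.appTop
            ((Scheme.ΓSpecIso (CommRingCat.of R)).inv r))) nat
          simp only [CommRingCat.hom_comp, RingHom.comp_apply] at h2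
          have h3 : j.app V (ψ r) = _ := h2
          rw [h3]
          exact h1.map _
        have h1 : b' ∈ (j ≫ f.imageι).ker.ideal ⟨U, hU⟩ := by
          rw [Scheme.Hom.ker_apply, RingHom.mem_ker]
          show (j ≫ f.imageι).app U b' = 0
          rw [Scheme.Hom.comp_app]
          show j.app V (f.imageι.app U b') = 0
          have h2 : j.app V (ψ r) * j.app V (f.imageι.app U b') = 0 := by
            rw [← map_mul]
            rw [Algebra.smul_def] at hab
            have : algebraMap R Γ(f.image, V) r = ψ r := rfl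
            rw [this] at hab
            rw [hab, map_zero]
          exact (hu.mul_right_eq_zero).mp h2
        have h3 : b' ∈ f.ker.ideal ⟨U, hU⟩ := hle ⟨U, hU⟩ h1
        rw [← f.ker.ker_subschemeι_app ⟨U, hU⟩] at h3
        exact h3
      show Module.Flat R Γ(f.image, V)
      infer_instance
    have e2 : (F.appLE ⊤ V le_top).hom =
        ψ.comp (Scheme.ΓSpecIso (CommRingCat.of R)).hom.hom := by
      ext x; simp [ψ]
    rw [e2]
    exact RingHom.Flat.comp
      (RingHom.Flat.of_bijective (ConcreteCategory.bijective_of_isIso _)) hψ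

end Groth.Agent.S19202
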