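import Groth.Statements.S19208
import Mathlib
import Groth.Agent.Lib.Helper11.HSMult

set_option autoImplicit false
universe u
open Filter
open LocAlg

namespace Groth.Agent.S19208

/-- Let O be a Noetherian local ring of Krull dimension r containing a field, with maximal ideal m. The
zeroth flat multiplicity e_0(O), the supremum over m-primary ideals I of e(I)/(r!·length(O/I)) with
e(I) the Samuel multiplicity, is at least 1: for every ε > 0 there is an m-primary ideal I (I ⊆ m,
m^N ⊆ I for some N) whose multiplicity e(I), the limit of r!·length(O/I^n)/n^r, satisfies e(I) ≥ (1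
− ε)·r!·length(O/I). (The same statement for the power-series rings O[[t_1, …, t_k]] is the bound
e_k(O) ≥ 1 for the k-th flat multiplicity.) -/
theorem result (O : Type u) [CommRing O] [IsNoetherianRing O]
    [IsLocalRing O] (K : Type u) [Field K] [Algebra K O] (r : ℕ) (hr : ringKrullDim O = r)
    (ε : ℝ) (hε : 0 < ε) :
    ∃ (I : Ideal O) (e : ℝ), I ≤ IsLocalRing.maximalIdeal O ∧
      (∃ N : ℕ, IsLocalRing.maximalIdeal O ^ N ≤ I) ∧
      Tendsto (fun n : ℕ => (r.factorial : ℝ) * ((Module.length O (O ⧸ I ^ n)).toNat : ℝ) / (n : ℝ) ^ r)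
        atTop (nhds e) ∧
      (1 - ε) * ((r.factorial : ℝ) * ((Module.length O (O ⧸ I)).toNat : ℝ)) ≤ e := by
  classical
  open Groth.Agent.Lib.Helper11.HS Polynomial in
  have hFL : FL (IsLocalRing.maximalIdeal O) O := FL_maximalIdeal
  have hne : samuelPoly (IsLocalRing.maximalIdeal O) O ≠ 0 :=
    samuelPoly_ne_zero _ O hFL maximalIdeal_le_ringJacobson
  have hnat := natDegree_samuelPoly_maximalIdeal (A := O) hr
  obtain ⟨N₀, hN₀⟩ := samuelPoly_spec (IsLocalRing.maximalIdeal O) O hFL
  set P := samuelPoly (IsLocalRing.maximalIdeal O) O with hP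
  -- values of the Samuel function
  have hval : ∀ n, N₀ ≤ n →
      ((Module.length O (O ⧸ IsLocalRing.maximalIdeal O ^ n)).toNat : ℝ) =
        ((P.eval (n : ℚ) : ℚ) : ℝ) := by
    intro n hn
    have := hN₀ n hn
    unfold samuel at this
    rw [length_Sq_self] at this
    rw [← this]
    push_cast
    rfl
  have hlc : 0 < P.leadingCoeff := by
    refine leadingCoeff_pos_of_eventually_nonneg P hne ⟨N₀, fun n hn => ?_⟩
    rw [← hN₀ n hn]
    exact_mod_cast samuel_nonneg _ n
  have hlcR : (0 : ℝ) < ((P.leadingCoeff : ℚ) : ℝ) := by exact_mod_cast hlc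
  have hlim := tendsto_eval_div_pow_leadingCoeff P r hnat
  have hlt : (1 - ε) * ((P.leadingCoeff : ℚ) : ℝ) < ((P.leadingCoeff : ℚ) : ℝ) := by nlinarith
  have hev := (hlim.const_mul (1 - ε)).eventually (eventually_lt_nhds hlt)
  obtain ⟨k, hk1, hk2⟩ := (hev.and (eventually_ge_atTop (max N₀ 1))).exists
  have hkN : N₀ ≤ k := le_trans (le_max_left _ _) hk2
  have hk0 : 1 ≤ k := le_trans (le_max_right _ _) hk2
  have hkR : (0 : ℝ) < (k : ℝ) ^ r := by
    have : (0 : ℝ) < k := by exact_mod_cast hk0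
    positivity
  refine ⟨IsLocalRing.maximalIdeal O ^ k,
    (r.factorial : ℝ) * (((P.leadingCoeff : ℚ) : ℝ) * (k : ℝ) ^ r),
    Ideal.pow_le_self (by omega), ⟨k, le_rfl⟩, ?_, ?_⟩
  · -- the limit
    have hmul : Tendsto (fun n : ℕ => k * n) atTop atTop :=
      tendsto_atTop_mono (fun n => Nat.le_mul_of_pos_left n hk0) tendsto_id
    have h1 := ((hlim.comp hmul).mul_const ((k : ℝ) ^ r)).const_mul (r.factorial : ℝ)
    refine h1.congr' ?_
    filter_upwards [eventually_ge_atTop (max N₀ 1)] with n hn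
    have hnN : N₀ ≤ n := le_trans (le_max_left _ _) hn
    have hn0 : 1 ≤ n := le_trans (le_max_right _ _) hn
    have hnR : (n : ℝ) ≠ 0 := by
      have : 0 < n := hn0
      exact_mod_cast this.ne'
    have hkn : N₀ ≤ k * n := le_trans hnN (Nat.le_mul_of_pos_left n hk0)
    simp only [Function.comp_apply]
    rw [← pow_mul, hval (k * n) hkn]
    push_cast
    rw [mul_pow]
    have hk' : (k : ℝ) ^ r ≠ 0 := hkR.ne'
    field_simp
  · -- the inequality
    rw [hval k hkN]
    have h2 : (1 - ε) * (((P.eval (k : ℚ) : ℚ) : ℝ) / (k : ℝ) ^ r) < ((P.leadingCoeff : ℚ) : ℝ) := hk1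
    have h3 : (1 - ε) * ((P.eval (k : ℚ) : ℚ) : ℝ) < ((P.leadingCoeff : ℚ) : ℝ) * (k : ℝ) ^ r := by
      rw [← mul_div_assoc, div_lt_iff₀ hkR] at h2
      exact h2
    have hfac : (0 : ℝ) < (r.factorial : ℝ) := by positivity
    nlinarith

end Groth.Agent.S19208
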