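import Groth.Statements.S19210
import Mathlib

set_option autoImplicit false
universe u
open LocAlg

namespace Groth.Agent.S19210



open Finset in
theorem base (p : ℕ) : ∃ C : ℝ, ∀ n : ℕ, 1 ≤ n →
    |(∑ i ∈ Finset.range n, (i : ℝ) ^ p) - (n : ℝ) ^ (p + 1) / ((p : ℝ) + 1)| ≤ C * (n : ℝ) ^ p := by
  refine ⟨∑ i ∈ Finset.range p,
    |((bernoulli (i + 1) * ((p + 1).choose (i + 1)) / ((p : ℚ) + 1) : ℚ) : ℝ)|, ?_⟩
  intro n hn
  have h1 : (∑ i ∈ Finset.range n, (i : ℝ) ^ p) =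
      ((∑ k ∈ Finset.range n, (k : ℚ) ^ p : ℚ) : ℝ) := by push_cast; rfl
  rw [h1, sum_range_pow, Finset.sum_range_succ']
  have h0 : (bernoulli 0 * ((p + 1).choose 0) * (n : ℚ) ^ (p + 1 - 0) / ((p : ℚ) + 1) : ℚ) =
      (n : ℚ) ^ (p + 1) / ((p : ℚ) + 1) := by
    rw [bernoulli_zero, Nat.choose_zero_right, Nat.cast_one, one_mul, one_mul, Nat.sub_zero]
  rw [h0]
  push_cast
  rw [add_sub_cancel_right]
  have hn1 : (1 : ℝ) ≤ (n : ℝ) := by exact_mod_cast hn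
  calc |∑ x ∈ Finset.range p, ((bernoulli (x + 1) : ℚ) : ℝ) * ((p + 1).choose (x + 1) : ℝ) *
          (n : ℝ) ^ (p - x) / ((p : ℝ) + 1)|
      ≤ ∑ x ∈ Finset.range p, |((bernoulli (x + 1) : ℚ) : ℝ) * ((p + 1).choose (x + 1) : ℝ) *
          (n : ℝ) ^ (p - x) / ((p : ℝ) + 1)| := Finset.abs_sum_le_sum_abs _ _
    _ ≤ ∑ x ∈ Finset.range p, |((bernoulli (x + 1) : ℚ) : ℝ) * ((p + 1).choose (x + 1) : ℝ) /
          ((p : ℝ) + 1)| * (n : ℝ) ^ p := by
        apply Finset.sum_le_sum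
        intro x hx
        have e : ((bernoulli (x + 1) : ℚ) : ℝ) * ((p + 1).choose (x + 1) : ℝ) *
            (n : ℝ) ^ (p - x) / ((p : ℝ) + 1) =
            (((bernoulli (x + 1) : ℚ) : ℝ) * ((p + 1).choose (x + 1) : ℝ) / ((p : ℝ) + 1)) *
              (n : ℝ) ^ (p - x) := by ring
        rw [e, abs_mul]
        apply mul_le_mul_of_nonneg_left _ (abs_nonneg _)
        rw [abs_of_nonneg (by positivity)]
        exact pow_le_pow_right₀ hn1 (by omega)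
    _ = (∑ x ∈ Finset.range p, |((bernoulli (x + 1) : ℚ) : ℝ) * ((p + 1).choose (x + 1) : ℝ) /
          ((p : ℝ) + 1)|) * (n : ℝ) ^ p := by rw [Finset.sum_mul]

theorem main : ∀ (a j : ℕ), ∃ C : ℝ, ∀ n : ℕ, 1 ≤ n →
    |(∑ i ∈ Finset.range n, ((n : ℝ) - (i : ℝ)) ^ a * (i : ℝ) ^ j) -
        (a.factorial : ℝ) * (j.factorial : ℝ) / ((a + j + 1).factorial : ℝ) * (n : ℝ) ^ (a + j + 1)| ≤
      C * (n : ℝ) ^ (a + j) := by
  intro a
  induction a with
  | zero =>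
    intro j
    obtain ⟨C, hC⟩ := base j
    refine ⟨C, fun n hn => ?_⟩
    have := hC n hn
    simp only [pow_zero, one_mul, Nat.factorial_zero, Nat.cast_one, zero_add]
    have e : (j.factorial : ℝ) / ((j + 1).factorial : ℝ) * (n : ℝ) ^ (j + 1) =
        (n : ℝ) ^ (j + 1) / ((j : ℝ) + 1) := by
      rw [Nat.factorial_succ]
      push_cast
      have h1 : (j.factorial : ℝ) ≠ 0 := by positivity
      have h2 : ((j : ℝ) + 1) ≠ 0 := by positivity
      field_simp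
    rw [e]
    exact this
  | succ a ih =>
    intro j
    obtain ⟨C₁, hC₁⟩ := ih j
    obtain ⟨C₂, hC₂⟩ := ih (j + 1)
    refine ⟨C₁ + C₂, fun n hn => ?_⟩
    have h1 := hC₁ n hn
    have h2 := hC₂ n hn
    have hn0 : (0 : ℝ) ≤ (n : ℝ) := by positivity
    have hsplit : (∑ i ∈ Finset.range n, ((n : ℝ) - (i : ℝ)) ^ (a + 1) * (i : ℝ) ^ j) =
        (n : ℝ) * (∑ i ∈ Finset.range n, ((n : ℝ) - (i : ℝ)) ^ a * (i : ℝ) ^ j) -
          ∑ i ∈ Finset.range n, ((n : ℝ) - (i : ℝ)) ^ a * (i : ℝ) ^ (j + 1) := by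
      rw [Finset.mul_sum, ← Finset.sum_sub_distrib]
      apply Finset.sum_congr rfl
      intro i _
      ring
    have hcoef : ((a + 1).factorial : ℝ) * (j.factorial : ℝ) / ((a + 1 + j + 1).factorial : ℝ) =
        (a.factorial : ℝ) * (j.factorial : ℝ) / ((a + j + 1).factorial : ℝ) -
          (a.factorial : ℝ) * ((j + 1).factorial : ℝ) / ((a + (j + 1) + 1).factorial : ℝ) := by
      have e1 : a + 1 + j + 1 = (a + j + 1) + 1 := by ring
      have e2 : a + (j + 1) + 1 = (a + j + 1) + 1 := by ring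
      rw [e1, e2, Nat.factorial_succ (a + j + 1), Nat.factorial_succ a, Nat.factorial_succ j]
      push_cast
      have h3 : ((a + j + 1).factorial : ℝ) ≠ 0 := by positivity
      have h4 : ((a : ℝ) + j + 1 + 1) ≠ 0 := by positivity
      field_simp
      ring
    rw [hsplit, hcoef]
    have e3 : (n : ℝ) * (∑ i ∈ Finset.range n, ((n : ℝ) - (i : ℝ)) ^ a * (i : ℝ) ^ j) -
        (∑ i ∈ Finset.range n, ((n : ℝ) - (i : ℝ)) ^ a * (i : ℝ) ^ (j + 1)) -
        ((a.factorial : ℝ) * (j.factorial : ℝ) / ((a + j + 1).factorial : ℝ) -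
          (a.factorial : ℝ) * ((j + 1).factorial : ℝ) / ((a + (j + 1) + 1).factorial : ℝ)) *
          (n : ℝ) ^ (a + 1 + j + 1) =
        (n : ℝ) * ((∑ i ∈ Finset.range n, ((n : ℝ) - (i : ℝ)) ^ a * (i : ℝ) ^ j) -
          (a.factorial : ℝ) * (j.factorial : ℝ) / ((a + j + 1).factorial : ℝ) *
            (n : ℝ) ^ (a + j + 1)) -
        ((∑ i ∈ Finset.range n, ((n : ℝ) - (i : ℝ)) ^ a * (i : ℝ) ^ (j + 1)) -
          (a.factorial : ℝ) * ((j + 1).factorial : ℝ) / ((a + (j + 1) + 1).factorial : ℝ) *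
            (n : ℝ) ^ (a + (j + 1) + 1)) := by
      have e4 : a + 1 + j + 1 = (a + j + 1) + 1 := by ring
      have e5 : a + (j + 1) + 1 = (a + j + 1) + 1 := by ring
      rw [e4, e5, pow_succ (n : ℝ) (a + j + 1)]
      ring
    rw [e3]
    calc |(n : ℝ) * ((∑ i ∈ Finset.range n, ((n : ℝ) - (i : ℝ)) ^ a * (i : ℝ) ^ j) -
          (a.factorial : ℝ) * (j.factorial : ℝ) / ((a + j + 1).factorial : ℝ) *
            (n : ℝ) ^ (a + j + 1)) -
        ((∑ i ∈ Finset.range n, ((n : ℝ) - (i : ℝ)) ^ a * (i : ℝ) ^ (j + 1)) -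
          (a.factorial : ℝ) * ((j + 1).factorial : ℝ) / ((a + (j + 1) + 1).factorial : ℝ) *
            (n : ℝ) ^ (a + (j + 1) + 1))|
        ≤ |(n : ℝ) * ((∑ i ∈ Finset.range n, ((n : ℝ) - (i : ℝ)) ^ a * (i : ℝ) ^ j) -
          (a.factorial : ℝ) * (j.factorial : ℝ) / ((a + j + 1).factorial : ℝ) *
            (n : ℝ) ^ (a + j + 1))| +
          |(∑ i ∈ Finset.range n, ((n : ℝ) - (i : ℝ)) ^ a * (i : ℝ) ^ (j + 1)) -
          (a.factorial : ℝ) * ((j + 1).factorial : ℝ) / ((a + (j + 1) + 1).factorial : ℝ) *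
            (n : ℝ) ^ (a + (j + 1) + 1)| := abs_sub _ _
      _ ≤ (n : ℝ) * (C₁ * (n : ℝ) ^ (a + j)) + C₂ * (n : ℝ) ^ (a + (j + 1)) := by
          rw [abs_mul, abs_of_nonneg hn0]
          exact add_le_add (mul_le_mul_of_nonneg_left h1 hn0) h2
      _ = (C₁ + C₂) * (n : ℝ) ^ (a + 1 + j) := by
          have e6 : a + 1 + j = (a + j) + 1 := by ring
          have e7 : a + (j + 1) = (a + j) + 1 := by ring
          rw [e6, e7, pow_succ]
          ring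

/-- For natural numbers j ≤ r, the sums Σ_{i=0}^{n−1} (n − i)^{r−j} i^j equal n^{r+1}·(r − j)!·j!/(r +
1)! up to O(n^r): there is a real constant C with |Σ_{i<n} (n − i)^{r−j} i^j − ((r − j)!·j!/(r +
1)!)·n^{r+1}| ≤ C·n^r for all n ≥ 1. -/
theorem result (r j : ℕ) (hj : j ≤ r) :
    ∃ C : ℝ, ∀ n : ℕ, 1 ≤ n →
      |(∑ i ∈ Finset.range n, ((n : ℝ) - (i : ℝ)) ^ (r - j) * (i : ℝ) ^ j) -
          ((r - j).factorial : ℝ) * (j.factorial : ℝ) / ((r + 1).factorial : ℝ) * (n : ℝ) ^ (r + 1)| ≤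
        C * (n : ℝ) ^ r := by

  obtain ⟨C, hC⟩ := main (r - j) j
  refine ⟨C, fun n hn => ?_⟩
  have := hC n hn
  have e : r - j + j = r := Nat.sub_add_cancel hj
  rw [e] at this
  exact this

end Groth.Agent.S19210
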