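import Groth.Statements.S19221
import Mathlib

set_option autoImplicit false
universe u
open SymRep

namespace Groth.Agent.S19221
section Aux

/-- signed incidence of the oriented edge `(a,b)` in the oriented triangle `(i,j,l)` -/
def incZ (i j l a b : Fin 4) : ℤ :=
  ((if a = i ∧ b = j then 1 else 0) + (if a = j ∧ b = l then 1 else 0) + (if a = l ∧ b = i then 1 else 0)
    - (if a = j ∧ b = i then 1 else 0) - (if a = l ∧ b = j then 1 else 0) - (if a = i ∧ b = l then 1 else 0))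

lemma incZ_rev (i j l a b : Fin 4) : incZ l j i a b = - incZ i j l a b := by
  unfold incZ; ring

lemma incZ_rot (i j l a b : Fin 4) : incZ j l i a b = incZ i j l a b := by
  unfold incZ; ring

variable {k : Type u} [Field k]
  (P : Equiv.Perm (Fin 4) → ((Fin 2 → Fin 4 → Fin 4 → k) →ₗ[k] (Fin 2 → Fin 4 → Fin 4 → k)))
  (hP : ∀ (σ : Equiv.Perm (Fin 4)) (f : Fin 2 → Fin 4 → Fin 4 → k) (c : Fin 2) (a b : Fin 4),
      P σ f c a b = f c (σ.symm a) (σ.symm b))
  (z : Fin 2 → Fin 4 → Fin 4 → Fin 4 → (Fin 2 → Fin 4 → Fin 4 → k))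
  (hz : ∀ (c : Fin 2) (i j l : Fin 4) (c' : Fin 2) (a b : Fin 4), z c i j l c' a b =
      if c' = c then
        ((if a = i ∧ b = j then 1 else 0) + (if a = j ∧ b = l then 1 else 0) + (if a = l ∧ b = i then 1 else 0)
          - (if a = j ∧ b = i then 1 else 0) - (if a = l ∧ b = j then 1 else 0) - (if a = i ∧ b = l then 1 else 0))
      else 0)

include hz in
lemma hz' (c : Fin 2) (i j l : Fin 4) (c' : Fin 2) (a b : Fin 4) :
    z c i j l c' a b = if c' = c then ((incZ i j l a b : ℤ) : k) else 0 := by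
  rw [hz]
  unfold incZ
  push_cast
  rfl

include hz in
lemma z_rev (c : Fin 2) (i j l : Fin 4) : z c l j i = - z c i j l := by
  funext c' a b
  rw [Pi.neg_apply, Pi.neg_apply, Pi.neg_apply, hz' z hz, hz' z hz, incZ_rev]
  split_ifs <;> simp

include hz in
lemma z_rot (c : Fin 2) (i j l : Fin 4) : z c j l i = z c i j l := by
  funext c' a b
  rw [hz' z hz, hz' z hz, incZ_rot]

include hP hz in
lemma P_z (σ : Equiv.Perm (Fin 4)) (c : Fin 2) (i j l : Fin 4) :
    P σ (z c i j l) = z c (σ i) (σ j) (σ l) := by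
  funext c' a b
  rw [hP, hz, hz]
  simp only [Equiv.symm_apply_eq]


lemma swap_calc {W : Type*} [Ring W] (a b c d : W) (h1 : d * a + a * d = 0) (h2 : c * a + a * c = 0)
    (h3 : d * b + b * d = 0) (h4 : c * b + b * c = 0) : c * d * a * b = a * b * c * d := by
  have : c * d * a * b - a * b * c * d =
      c * (d * a + a * d) * b - (c * a + a * c) * d * b + a * c * (d * b + b * d) - a * (c * b + b * c) * d := by
    noncomm_ring
  rw [h1, h2, h3, h4] at this
  simp only [mul_zero, zero_mul, sub_self, add_zero] at this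
  exact sub_eq_zero.mp this

include hP hz in
lemma claim1 :
    ExteriorAlgebra.map (P (Equiv.swap 0 2))
      (ExteriorAlgebra.ι k (z 0 0 1 2) * ExteriorAlgebra.ι k (z 1 0 1 2) *
        ExteriorAlgebra.ι k (z 0 0 2 3) * ExteriorAlgebra.ι k (z 1 0 2 3)) =
      ExteriorAlgebra.ι k (z 0 0 1 2) * ExteriorAlgebra.ι k (z 1 0 1 2) *
        ExteriorAlgebra.ι k (z 0 0 2 3) * ExteriorAlgebra.ι k (z 1 0 2 3) := by
  have e0 : (Equiv.swap (0 : Fin 4) 2) 0 = 2 := by decide
  have e1 : (Equiv.swap (0 : Fin 4) 2) 1 = 1 := by decide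
  have e2 : (Equiv.swap (0 : Fin 4) 2) 2 = 0 := by decide
  have e3 : (Equiv.swap (0 : Fin 4) 2) 3 = 3 := by decide
  have hA : ∀ c, P (Equiv.swap 0 2) (z c 0 1 2) = - z c 0 1 2 := by
    intro c
    rw [P_z P hP z hz, e0, e1, e2, z_rev z hz]
  have hB : ∀ c, P (Equiv.swap 0 2) (z c 0 2 3) = - z c 0 2 3 := by
    intro c
    rw [P_z P hP z hz, e0, e2, e3, z_rev z hz c 3 0 2, z_rot z hz c 2 3 0, z_rot z hz c 0 2 3]
  simp only [map_mul, ExteriorAlgebra.map_apply_ι, hA, hB, map_neg, neg_mul, mul_neg, neg_neg]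

include hP hz in
lemma claim2 :
    ExteriorAlgebra.map (P (Equiv.swap 1 3))
      (ExteriorAlgebra.ι k (z 0 0 1 2) * ExteriorAlgebra.ι k (z 1 0 1 2) *
        ExteriorAlgebra.ι k (z 0 0 2 3) * ExteriorAlgebra.ι k (z 1 0 2 3)) =
      ExteriorAlgebra.ι k (z 0 0 1 2) * ExteriorAlgebra.ι k (z 1 0 1 2) *
        ExteriorAlgebra.ι k (z 0 0 2 3) * ExteriorAlgebra.ι k (z 1 0 2 3) := by
  have e0 : (Equiv.swap (1 : Fin 4) 3) 0 = 0 := by decide
  have e1 : (Equiv.swap (1 : Fin 4) 3) 1 = 3 := by decide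
  have e2 : (Equiv.swap (1 : Fin 4) 3) 2 = 2 := by decide
  have e3 : (Equiv.swap (1 : Fin 4) 3) 3 = 1 := by decide
  have hA : ∀ c, P (Equiv.swap 1 3) (z c 0 1 2) = - z c 0 2 3 := by
    intro c
    rw [P_z P hP z hz, e0, e1, e2, z_rev z hz c 2 3 0, z_rot z hz c 0 2 3]
  have hB : ∀ c, P (Equiv.swap 1 3) (z c 0 2 3) = - z c 0 1 2 := by
    intro c
    rw [P_z P hP z hz, e0, e2, e3, z_rev z hz c 1 2 0, z_rot z hz c 0 1 2]
  simp only [map_mul, ExteriorAlgebra.map_apply_ι, hA, hB, map_neg, neg_mul, mul_neg, neg_neg]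
  exact swap_calc _ _ _ _ (ExteriorAlgebra.ι_add_mul_swap _ _) (ExteriorAlgebra.ι_add_mul_swap _ _)
    (ExteriorAlgebra.ι_add_mul_swap _ _) (ExteriorAlgebra.ι_add_mul_swap _ _)

lemma det4 (p q r s : k) : Matrix.det !![p,0,q,0; 0,p,0,q; r,0,s,0; 0,r,0,s] = (p*s - q*r)^2 := by
  simp [Matrix.det_succ_row_zero, Fin.sum_univ_succ, Fin.succAbove]
  ring

/-- four coordinate functionals -/
def Phi : (Fin 2 → Fin 4 → Fin 4 → k) →ₗ[k] (Fin 4 → k) where
  toFun f := ![f 0 0 1, f 1 0 1, f 0 2 3, f 1 2 3]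
  map_add' := by intro f g; ext i; fin_cases i <;> simp
  map_smul' := by intro c f; ext i; fin_cases i <;> simp

noncomputable def DD : (Fin 2 → Fin 4 → Fin 4 → k) [⋀^Fin 4]→ₗ[k] k :=
  (Matrix.detRowAlternating (n := Fin 4) (R := k)).compLinearMap Phi

noncomputable def fam : ∀ i, (Fin 2 → Fin 4 → Fin 4 → k) [⋀^Fin i]→ₗ[k] k
  | 4 => DD
  | _ => 0

noncomputable def Theta : ExteriorAlgebra k (Fin 2 → Fin 4 → Fin 4 → k) →ₗ[k] k :=
  ExteriorAlgebra.liftAlternating (R := k) (M := (Fin 2 → Fin 4 → Fin 4 → k)) (N := k) fam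

lemma Theta_mul (v0 v1 v2 v3 : Fin 2 → Fin 4 → Fin 4 → k) :
    Theta (ExteriorAlgebra.ι k v0 * ExteriorAlgebra.ι k v1 * ExteriorAlgebra.ι k v2 * ExteriorAlgebra.ι k v3) =
      Matrix.det (Matrix.of fun i => Phi (![v0, v1, v2, v3] i)) := by
  have h : ExteriorAlgebra.ι k v0 * ExteriorAlgebra.ι k v1 * ExteriorAlgebra.ι k v2 * ExteriorAlgebra.ι k v3 =
      ExteriorAlgebra.ιMulti k 4 ![v0, v1, v2, v3] := by
    rw [ExteriorAlgebra.ιMulti_apply]
    simp [List.ofFn_succ, mul_assoc]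
  rw [h, Theta, ExteriorAlgebra.liftAlternating_apply_ιMulti]
  show DD ![v0, v1, v2, v3] = _
  rfl

/-- the integer whose square is the value of `Theta` on the `σ`-translate of `ω` -/
def dZ (σ : Equiv.Perm (Fin 4)) : ℤ :=
  incZ 0 1 2 (σ.symm 0) (σ.symm 1) * incZ 0 2 3 (σ.symm 2) (σ.symm 3) -
    incZ 0 1 2 (σ.symm 2) (σ.symm 3) * incZ 0 2 3 (σ.symm 0) (σ.symm 1)

include hP hz in
lemma Theta_sigma (σ : Equiv.Perm (Fin 4)) :
    Theta (ExteriorAlgebra.map (P σ)
      (ExteriorAlgebra.ι k (z 0 0 1 2) * ExteriorAlgebra.ι k (z 1 0 1 2) *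
        ExteriorAlgebra.ι k (z 0 0 2 3) * ExteriorAlgebra.ι k (z 1 0 2 3))) = ((dZ σ : ℤ) : k) ^ 2 := by
  simp only [map_mul, ExteriorAlgebra.map_apply_ι]
  rw [Theta_mul]
  have hM : (Matrix.of fun i => Phi (![P σ (z 0 0 1 2), P σ (z 1 0 1 2), P σ (z 0 0 2 3), P σ (z 1 0 2 3)] i)) =
      !![((incZ 0 1 2 (σ.symm 0) (σ.symm 1) : ℤ) : k), 0, ((incZ 0 1 2 (σ.symm 2) (σ.symm 3) : ℤ) : k), 0;
         0, ((incZ 0 1 2 (σ.symm 0) (σ.symm 1) : ℤ) : k), 0, ((incZ 0 1 2 (σ.symm 2) (σ.symm 3) : ℤ) : k);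
         ((incZ 0 2 3 (σ.symm 0) (σ.symm 1) : ℤ) : k), 0, ((incZ 0 2 3 (σ.symm 2) (σ.symm 3) : ℤ) : k), 0;
         0, ((incZ 0 2 3 (σ.symm 0) (σ.symm 1) : ℤ) : k), 0, ((incZ 0 2 3 (σ.symm 2) (σ.symm 3) : ℤ) : k)] := by
    ext i j
    fin_cases i <;> fin_cases j <;> simp [Phi, hP, hz' z hz]
  rw [hM, det4]
  unfold dZ
  push_cast
  rfl

lemma dZ_one : dZ 1 = 1 := by
  decide

end Aux


/-- Let k be a field of characteristic zero and F the k-space of functions Fin 2 → Fin 4 → Fin 4 → k,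
with the symmetric group of Fin 4 acting through P σ f c a b = f c (σ⁻¹ a) (σ⁻¹ b). The signed edge
vectors of the complete graph on four vertices live in F as the functions antisymmetric in the two
vertex arguments, and for a colour c and an oriented 3-cycle i → j → l → i the cycle vector z c i j
l is the function equal, in colour c, to +1 at (i,j), (j,l), (l,i), to −1 at (j,i), (l,j), (i,l) and
to 0 elsewhere (and 0 in the other colour); these cycle vectors span k² ⊗ (cycle space), the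
representation written C² ⊗ q in the published text. Let Γ be the graph with edges 01, 02, 03, 12,
23 (a 4-cycle with one chord), whose cycle space is spanned by the cycles (0,1,2) and (0,2,3), and
let ω be the product in the exterior algebra of F of the four vectors z 0 0 1 2, z 1 0 1 2, z 0 0 2
3, z 1 0 2 3 (a generator of the top exterior power of k² ⊗ q_Γ). Then ω is fixed by the stabiliser
of Γ in the symmetric group (generated by the transpositions (0 2) and (1 3)), and the sum over all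
24 permutations σ of the images of ω under the maps induced by P σ is nonzero: the projection of ω
to the invariants of the fourth exterior power of k² ⊗ q_{K₄} does not vanish. (The published
statement is over the complex numbers; a field of characteristic zero is used here. The published
statement also asserts that this map is an isomorphism onto the one-dimensional space of
S₄-invariants of the fourth exterior power of k² ⊗ q_{K₄}; only its non-vanishing is stated here.) -/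
theorem result (k : Type u) [Field k] [CharZero k]
    (P : Equiv.Perm (Fin 4) → ((Fin 2 → Fin 4 → Fin 4 → k) →ₗ[k] (Fin 2 → Fin 4 → Fin 4 → k)))
    (hP : ∀ (σ : Equiv.Perm (Fin 4)) (f : Fin 2 → Fin 4 → Fin 4 → k) (c : Fin 2) (a b : Fin 4),
      P σ f c a b = f c (σ.symm a) (σ.symm b))
    (z : Fin 2 → Fin 4 → Fin 4 → Fin 4 → (Fin 2 → Fin 4 → Fin 4 → k))
    (hz : ∀ (c : Fin 2) (i j l : Fin 4) (c' : Fin 2) (a b : Fin 4), z c i j l c' a b =
      if c' = c then
        ((if a = i ∧ b = j then 1 else 0) + (if a = j ∧ b = l then 1 else 0) + (if a = l ∧ b = i then 1 else 0)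
          - (if a = j ∧ b = i then 1 else 0) - (if a = l ∧ b = j then 1 else 0) - (if a = i ∧ b = l then 1 else 0))
      else 0)
    (ω : ExteriorAlgebra k (Fin 2 → Fin 4 → Fin 4 → k))
    (hω : ω = ExteriorAlgebra.ι k (z 0 0 1 2) * ExteriorAlgebra.ι k (z 1 0 1 2) *
      ExteriorAlgebra.ι k (z 0 0 2 3) * ExteriorAlgebra.ι k (z 1 0 2 3)) :
    ExteriorAlgebra.map (P (Equiv.swap 0 2)) ω = ω ∧
    ExteriorAlgebra.map (P (Equiv.swap 1 3)) ω = ω ∧
    (∑ σ : Equiv.Perm (Fin 4), ExteriorAlgebra.map (P σ) ω) ≠ 0 := by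
  classical
  subst hω
  refine ⟨claim1 P hP z hz, claim2 P hP z hz, ?_⟩
  intro h0
  have h1 := congrArg Theta h0
  rw [map_sum, map_zero] at h1
  simp only [Theta_sigma P hP z hz] at h1
  have h2 : ((∑ σ : Equiv.Perm (Fin 4), dZ σ ^ 2 : ℤ) : k) = 0 := by
    push_cast
    exact h1
  have h3 : (∑ σ : Equiv.Perm (Fin 4), dZ σ ^ 2 : ℤ) = 0 := by exact_mod_cast h2
  have h4 : dZ 1 ^ 2 ≤ ∑ σ : Equiv.Perm (Fin 4), dZ σ ^ 2 :=
    Finset.single_le_sum (f := fun σ => dZ σ ^ 2) (fun σ _ => sq_nonneg _) (Finset.mem_univ 1)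
  rw [dZ_one, h3] at h4
  norm_num at h4

end Groth.Agent.S19221
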