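import Groth.Statements.S19222
import Groth.Agent.Lib.Helper22.EtStalk.StrictHensVanish
import Groth.Agent.Lib.Helper22.EtStalk.FinitePushExact

set_option autoImplicit false
universe u
open CategoryTheory AlgebraicGeometry
open EtBase

namespace Groth.Agent.S19222

open Opposite
open Groth.Agent.Lib.Helper22.EtStalk Groth.Agent.Lib.Helper22.EtLoc
open Groth.Agent.Lib.Helper22.CechU.Etale Groth.Agent.Lib.Helper22.DimShift

lemma lift_through_iso {C : Type*} [Category C] {P Q : Cᵒᵖ ⥤ AddCommGrpCat.{u + 1}} (φ : P ⟶ Q)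
    {A B : C} (e : A ≅ B) (t : Q.obj (op B)) (s' : P.obj (op A))
    (hs' : φ.app (op A) s' = Q.map e.hom.op t) : φ.app (op B) (P.map e.inv.op s') = t := by
  have n1 : φ.app (op B) (P.map e.inv.op s') = Q.map e.inv.op (φ.app (op A) s') :=
    congrArg (fun ψ : P.obj (op A) ⟶ Q.obj (op B) => (ConcreteCategory.hom ψ) s')
      (φ.naturality e.inv.op)
  rw [n1, hs']
  have n2 : Q.map e.hom.op ≫ Q.map e.inv.op = 𝟙 _ := by
    rw [← Q.map_comp, ← op_comp, e.inv_hom_id, op_id, Q.map_id]
  exact congrArg (fun ψ : Q.obj (op B) ⟶ Q.obj (op B) => (ConcreteCategory.hom ψ) t) n2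

set_option backward.isDefEq.respectTransparency.types false in
theorem H_succ_eq_zero_of_finite (R : Type u) [CommRing R] [HenselianLocalRing R]
    [IsSepClosed (IsLocalRing.ResidueField R)] (X : Scheme.{u}) (f : X ⟶ Spec (CommRingCat.of R))
    [IsFinite f] (F : EtCoh.Ab X) (n : ℕ) (x : EtCoh.H X F (n + 1)) : x = 0 := by
  refine ext_succ_eq_zero_of_class _ (fun _ : EtCoh.Ab X => True)
    ?_ (fun _ _ => trivial) n F trivial x
  intro G _ x₃
  have hS := injSC_shortExact G
  have : Epi (injSC G).g := hS.epi_g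
  have : Epi ((EtCoh.push f).map (injSC G).g) := FinitePush.epi_push_map f _
  let e := EtCore.bcTopIso f
  let t := Sheaf.H.equiv₀ _ (EtCore.topIsTerminal _) x₃
  obtain ⟨s', hs'⟩ := StrictHens.sections_surjective_of_epi R ((EtCoh.push f).map (injSC G).g)
    ((injSC G).X₃.obj.map e.hom.op t)
  let s := (injSC G).X₂.obj.map e.inv.op s'
  have hs : (injSC G).g.hom.app (op (EtCoh.top X)) s = t :=
    lift_through_iso (injSC G).g.hom e t s' hs'
  refine ⟨(Sheaf.H.equiv₀ _ (EtCore.topIsTerminal _)).symm s, ?_⟩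
  have h := Sheaf.H.equiv₀_symm_naturality (hT := EtCore.topIsTerminal _) (injSC G).g s
  rw [hs, AddEquiv.symm_apply_apply] at h
  exact h


/-- Let R be a strictly henselian local ring (henselian, with separably closed residue field), let X be
a scheme finite over Spec R and let F be an abelian étale sheaf on X. Then H^j(X_et, F) = 0 for
every j ≥ 1. (The source states this vanishing for the schemes X ×_R Y ×_R ⋯ ×_R Y with Y a further
finite R-scheme; these are again finite over R, so the present form is the whole content.) -/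
theorem result (R : Type u) [CommRing R] [HenselianLocalRing R]
    [IsSepClosed (IsLocalRing.ResidueField R)] (X : Scheme.{u}) (f : X ⟶ Spec (CommRingCat.of R)) [IsFinite f]
    (F : EtCoh.Ab X) (j : ℕ) (hj : 1 ≤ j) : Subsingleton (EtCoh.H X F j) := by
  obtain ⟨n, rfl⟩ : ∃ n, j = n + 1 := ⟨j - 1, by omega⟩
  exact ⟨fun a b => (H_succ_eq_zero_of_finite R X f F n a).trans
    (H_succ_eq_zero_of_finite R X f F n b).symm⟩

end Groth.Agent.S19222
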