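import Groth.Statements.S19229
import Mathlib


set_option autoImplicit false
universe u v
open SigmaLin

namespace Groth.Agent.S19229

/-- Let k be a field with a ring endomorphism σ, V a finite-dimensional k-vector space and T : V → V an
additive map with T (c • v) = σ c • T v. If some iterate of T sends v to 0 and v lies in the
k-linear span of the image of every iterate of T, then v = 0. In other words the union of the
kernels of the iterates of T and the intersection of the spans of their images meet only in 0. -/
theorem result
    (k : Type u) [Field k] (σ : k →+* k)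
    (V : Type v) [AddCommGroup V] [Module k V] [FiniteDimensional k V] (T : V →ₛₗ[σ] V) (v : V)
    (hnil : ∃ n : ℕ, (⇑T)^[n] v = 0)
    (hss : ∀ n : ℕ, v ∈ Submodule.span k (Set.range ((⇑T)^[n]))) : v = 0 := by
  classical
  set W : ℕ → Submodule k V := fun m => Submodule.span k (Set.range ((⇑T)^[m])) with hW
  have hanti : Antitone W := by
    apply antitone_nat_of_succ_le
    intro m
    apply Submodule.span_le.2
    rintro _ ⟨x, rfl⟩
    apply Submodule.subset_span
    exact ⟨T x, by rw [Function.iterate_succ_apply]⟩
  -- T maps W m into W (m+1)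
  have hT : ∀ m, ∀ x ∈ W m, T x ∈ W (m + 1) := by
    intro m x hx
    induction hx using Submodule.span_induction with
    | mem y hy =>
      obtain ⟨z, rfl⟩ := hy
      apply Submodule.subset_span
      exact ⟨z, by rw [Function.iterate_succ_apply']⟩
    | zero => rw [map_zero]; exact Submodule.zero_mem _
    | add a b _ _ ha hb => rw [map_add]; exact Submodule.add_mem _ ha hb
    | smul c a _ ha => rw [map_smulₛₗ]; exact Submodule.smul_mem _ _ ha
  obtain ⟨N, hN⟩ := IsArtinian.monotone_stabilizes (R := k) (M := V)
    ⟨fun m => OrderDual.toDual (W m), fun a b hab => hanti hab⟩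
  have hstab : ∀ m, N ≤ m → W m = W N := fun m hm => (congrArg OrderDual.ofDual (hN m hm)).symm
  have hTW : ∀ x ∈ W N, T x ∈ W N := fun x hx => by
    have := hT N x hx
    rwa [hstab (N + 1) (Nat.le_succ N)] at this
  -- basis of W N
  let b := Module.finBasis k (W N)
  have hspan_b : Submodule.span k (Set.range (fun i => (b i : V))) = W N := by
    have h1 := b.span_eq
    have h2 := congrArg (Submodule.map (W N).subtype) h1
    rw [Submodule.map_span, Submodule.map_top, Submodule.range_subtype, ← Set.range_comp] at h2
    exact h2
  -- images of basis span W N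
  have himg : ∀ x ∈ W N, T x ∈ Submodule.span k (Set.range (fun i => T (b i : V))) := by
    intro x hx
    rw [← hspan_b] at hx
    induction hx using Submodule.span_induction with
    | mem y hy =>
      obtain ⟨i, rfl⟩ := hy
      exact Submodule.subset_span ⟨i, rfl⟩
    | zero => rw [map_zero]; exact Submodule.zero_mem _
    | add a b' _ _ ha hb => rw [map_add]; exact Submodule.add_mem _ ha hb
    | smul c a _ ha => rw [map_smulₛₗ]; exact Submodule.smul_mem _ _ ha
  have hspan_T : Submodule.span k (Set.range (fun i => T (b i : V))) = W N := by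
    apply le_antisymm
    · apply Submodule.span_le.2
      rintro _ ⟨i, rfl⟩
      exact hTW _ (b i).2
    · refine (hstab (N + 1) (Nat.le_succ N)).symm.le.trans ?_
      apply Submodule.span_le.2
      rintro _ ⟨x, rfl⟩
      rw [Function.iterate_succ_apply']
      exact himg _ (Submodule.subset_span ⟨x, rfl⟩)
  have hli : LinearIndependent k (fun i => T (b i : V)) := by
    rw [linearIndependent_iff_card_eq_finrank_span, Set.finrank, hspan_T]
    simp
  have hinj : ∀ x ∈ W N, T x = 0 → x = 0 := by
    intro x hx hx0
    have hrepr := b.sum_repr ⟨x, hx⟩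
    have hx' : x = ∑ i, (b.repr ⟨x, hx⟩ i) • (b i : V) := by
      have := congrArg (W N).subtype hrepr
      simp only [map_sum, map_smul, Submodule.subtype_apply] at this
      exact this.symm
    have h0 : ∑ i, σ (b.repr ⟨x, hx⟩ i) • T (b i : V) = 0 := by
      rw [← hx0]
      conv_rhs => rw [hx']
      rw [map_sum]
      exact Finset.sum_congr rfl fun i _ => (map_smulₛₗ T _ _).symm
    have h1 := Fintype.linearIndependent_iff.1 hli _ h0
    have h2 : ∀ i, b.repr ⟨x, hx⟩ i = 0 := fun i =>
      (map_eq_zero_iff σ σ.injective).1 (h1 i)
    rw [hx']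
    exact Finset.sum_eq_zero fun i _ => by rw [h2 i, zero_smul]
  have hiter : ∀ n, ∀ x ∈ W N, (⇑T)^[n] x = 0 → x = 0 := by
    intro n
    induction n with
    | zero => intro x _ hx0; exact hx0
    | succ n ih =>
      intro x hx hx0
      rw [Function.iterate_succ_apply] at hx0
      exact hinj x hx (ih (T x) (hTW x hx) hx0)
  obtain ⟨n, hn⟩ := hnil
  exact hiter n v (hss N) hn

end Groth.Agent.S19229
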