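import Groth.Statements.S1923
import Mathlib
import Groth.Agent.Lib.Helper18.SecDiv

set_option autoImplicit false
universe u
open CategoryTheory AlgebraicGeometry
open Cyc

namespace Groth.Agent.S1923

/-- Let X be integral with δ(η) = n, L an invertible O_X-module and s a global section of L whose germ
at η is nonzero. Then div_L(s) = [Z(s)]_{n−1} as (n − 1)-cycles, where s is viewed as a rational
section through its image in L(η). Here L(ξ) = L_ξ/𝔪_ξ L_ξ is the space of rational sections of L on
the closure of ξ, div_{L|W}(s) and c_1(L) ∩ α are computed as coefficient functions from chosen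
nonzero rational sections (Cyc.secDivFun, Cyc.c1CapFun), and results are compared up to rational
equivalence for any cycles with those coefficients. A pair (X, δ) with Cyc.IsSetup plays the role of
a scheme locally of finite type over a fixed base with a dimension function (X locally Noetherian
with universally catenary local rings, δ a dimension function), and Cyc.DeltaCompat records that the
dimension function upstairs is the induced one. -/
theorem result (X : Scheme.{u}) [IsIntegral X] (δ : X → ℤ) (hX : Cyc.IsSetup X δ) (n : ℤ) (hn : δ (genericPoint X) = n) (L : X.Modules) (hL : PicF.IsInvertible L) (s : L.presheaf.obj (Opposite.op ⊤)) (hs : (L.presheaf.germ ⊤ (genericPoint X) trivial) s ≠ 0) : Cyc.secDivFun δ L (genericPoint X) (Submodule.Quotient.mk ((L.presheaf.germ ⊤ (genericPoint X) trivial) s)) = Cyc.zeroSectionFun δ (n - 1) L s := by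
  classical
  funext x
  have hsp : genericPoint X ⤳ x := genericPoint_specializes x
  unfold Cyc.secDivFun Cyc.zeroSectionFun
  by_cases hd : δ x = n - 1
  swap
  · rw [if_neg hd, dif_neg]
    rintro ⟨-, h1⟩
    omega
  have h1 : δ x + 1 = δ (genericPoint X) := by omega
  rw [if_pos hd, dif_pos ⟨hsp, h1⟩]
  unfold Cyc.secOrdAt
  by_cases ht : ∃ t : L.presheaf.stalk x, Submodule.span (X.presheaf.stalk x) {t} = ⊤
  swap
  · rw [dif_neg ht, dif_neg ht]
  rw [dif_pos ht, dif_pos ht]
  have htspan : Submodule.span (X.presheaf.stalk x) {Classical.choose ht} = ⊤ :=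
    Classical.choose_spec ht
  generalize Classical.choose ht = t at htspan ⊢
  have hf : ∃ f : X.presheaf.stalk x, (L.presheaf.germ ⊤ x trivial) s = f • t := by
    have : (L.presheaf.germ ⊤ x trivial) s ∈ Submodule.span (X.presheaf.stalk x) {t} := by
      rw [htspan]; trivial
    obtain ⟨f, hf⟩ := Submodule.mem_span_singleton.mp this
    exact ⟨f, hf.symm⟩
  rw [dif_pos hf]
  have hfs : (L.presheaf.germ ⊤ x trivial) s = Classical.choose hf • t := Classical.choose_spec hf
  generalize Classical.choose hf = f at hfs ⊢
  have hgen : L.presheaf.germ ⊤ (genericPoint X) trivial s =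
      X.presheaf.stalkSpecializes hsp f • L.presheaf.stalkSpecializes hsp t := by
    rw [← Groth.Agent.Lib.Helper18.SecDiv.stalkSpecializes_germ_top L hsp s, hfs,
      Groth.Agent.Lib.Helper18.SecDiv.stalkSpecializes_smul]
  have hφ : ∃ φ : X.presheaf.stalk (genericPoint X),
      (Submodule.Quotient.mk (L.presheaf.germ ⊤ (genericPoint X) trivial s) :
        Cyc.secFibre L (genericPoint X)) =
      φ • (Submodule.Quotient.mk (L.presheaf.stalkSpecializes hsp t) :
        Cyc.secFibre L (genericPoint X)) :=
    ⟨X.presheaf.stalkSpecializes hsp f, by rw [hgen]; rfl⟩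
  rw [dif_pos hφ]
  have hφs := Classical.choose_spec hφ
  generalize Classical.choose hφ = φ at hφs ⊢
  -- the maximal ideal at the generic point is zero
  have hm : IsLocalRing.maximalIdeal (X.presheaf.stalk (genericPoint X)) = ⊥ :=
    IsLocalRing.maximalIdeal_eq_bot (R := X.functionField)
  have hbot : (IsLocalRing.maximalIdeal (X.presheaf.stalk (genericPoint X)) •
      (⊤ : Submodule (X.presheaf.stalk (genericPoint X)) (L.presheaf.stalk (genericPoint X)))) =
      ⊥ := by
    rw [hm]; exact Submodule.bot_smul _
  have hres : (X.residue (genericPoint X)).hom φ = Cyc.specMap x (genericPoint X) hsp f := by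
    have e1 : L.presheaf.germ ⊤ (genericPoint X) trivial s =
        φ • L.presheaf.stalkSpecializes hsp t := by
      rw [← Submodule.Quotient.mk_smul, Submodule.Quotient.eq, hbot, Submodule.mem_bot,
        sub_eq_zero] at hφs
      exact hφs
    have e2 : (φ - X.presheaf.stalkSpecializes hsp f) • L.presheaf.stalkSpecializes hsp t = 0 := by
      rw [sub_smul, ← e1, ← hgen, sub_self]
    have hmem : φ - X.presheaf.stalkSpecializes hsp f ∈
        IsLocalRing.maximalIdeal (X.presheaf.stalk (genericPoint X)) := by
      rw [IsLocalRing.mem_maximalIdeal, mem_nonunits_iff]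
      intro hu
      have : L.presheaf.stalkSpecializes hsp t = 0 := by
        calc L.presheaf.stalkSpecializes hsp t
            = ((↑(hu.unit⁻¹) : X.presheaf.stalk (genericPoint X)) *
                (φ - X.presheaf.stalkSpecializes hsp f)) • L.presheaf.stalkSpecializes hsp t := by
              rw [IsUnit.val_inv_mul, one_smul]
          _ = 0 := by rw [mul_smul, e2, smul_zero]
      rw [this, smul_zero] at e1
      exact hs e1
    have := (IsLocalRing.residue_eq_zero_iff _).mpr hmem
    rw [map_sub, sub_eq_zero] at this
    exact this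
  rw [hres]
  -- now compute the order
  have hfne : f ≠ 0 := by
    rintro rfl
    rw [map_zero, zero_smul] at hgen
    exact hs hgen
  haveI : IsLocallyNoetherian X := hX.1
  haveI : (RingHom.ker (Cyc.specMap x (genericPoint X) hsp)).IsPrime := RingHom.ker_isPrime _
  haveI : IsDomain (Cyc.LocQuot x (genericPoint X) hsp) := Ideal.Quotient.isDomain _
  haveI : Ring.KrullDimLE 1 (Cyc.LocQuot x (genericPoint X) hsp) :=
    Groth.Agent.Lib.Helper18.DivPull.krullDimLE_one_locQuot δ hX.2.2 x (genericPoint X) hsp h1
  haveI : IsFractionRing (Cyc.LocQuot x (genericPoint X) hsp) (X.residueField (genericPoint X)) :=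
    Groth.Agent.Lib.Helper18.DivPull.isFractionRing_locQuot_of_generic x (genericPoint X) hsp rfl
  have hbij := Groth.Agent.Lib.Helper18.DivPull.mk_bijective_of_generic x (genericPoint X) hsp rfl
  have hne : Ideal.Quotient.mk (RingHom.ker (Cyc.specMap x (genericPoint X) hsp)) f ≠ 0 := by
    intro h0
    exact hfne (hbij.1 (h0.trans (map_zero _).symm))
  unfold Cyc.ordAt
  rw [← Groth.Agent.Lib.Helper18.DivPull.algebraMap_locQuot_mk,
    Groth.Agent.Lib.Helper26.OrdZ.ordFrac_algebraMap hne,
    Groth.Agent.Lib.Helper18.DivPull.ord_eq_of_bijective _ hbij]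
  rfl

end Groth.Agent.S1923
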