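import Groth.Statements.S19235
import Mathlib.RingTheory.LocalRing.ResidueField.Basic
import Mathlib.RingTheory.Finiteness.Basic
import Mathlib.Algebra.Module.Torsion.Basic
import Mathlib.RingTheory.Ideal.Quotient.Operations
import Mathlib.Algebra.Module.Submodule.Pointwise
import Groth.Agent.S19234

set_option autoImplicit false
universe u v
open SigmaLin

namespace Groth.Agent.S19235

section Aux
open IsLocalRing Pointwise

variable (R : Type u) [CommRing R] [IsLocalRing R] (M : Type v) [AddCommGroup M] [Module R M]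

/-- `M / 𝔪 M`. -/
abbrev Mbar := M ⧸ (maximalIdeal R • (⊤ : Submodule R M))

noncomputable instance : Module (ResidueField R) (Mbar R M) :=
  inferInstanceAs (Module (R ⧸ maximalIdeal R) (M ⧸ (maximalIdeal R • (⊤ : Submodule R M))))

instance : IsScalarTower R (ResidueField R) (Mbar R M) :=
  inferInstanceAs (IsScalarTower R (R ⧸ maximalIdeal R) (M ⧸ (maximalIdeal R • (⊤ : Submodule R M))))

instance [Module.Finite R M] : Module.Finite (ResidueField R) (Mbar R M) :=
  Module.Finite.of_restrictScalars_finite R _ _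

variable {R M}

lemma residue_smul_mk (r : R) (m : M) :
    (residue R r) • (Submodule.Quotient.mk m : Mbar R M) = Submodule.Quotient.mk (r • m) := rfl

/-- the induced semilinear map on `M / 𝔪 M`. -/
noncomputable def Tbar {σ : R →+* R} (σbar : ResidueField R →+* ResidueField R)
    (hσbar : ∀ r : R, σbar (residue R r) = residue R (σ r))
    (T : M →ₛₗ[σ] M)
    (hT : (maximalIdeal R • (⊤ : Submodule R M)) ≤ (maximalIdeal R • (⊤ : Submodule R M)).comap T) :
    Mbar R M →ₛₗ[σbar] Mbar R M where
  toFun := (maximalIdeal R • (⊤ : Submodule R M)).mapQ (maximalIdeal R • (⊤ : Submodule R M)) T hT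
  map_add' := map_add _
  map_smul' := by
    intro r x
    obtain ⟨r, rfl⟩ := residue_surjective r
    obtain ⟨m, rfl⟩ := Submodule.Quotient.mk_surjective _ x
    rw [residue_smul_mk]
    erw [Submodule.mapQ_apply, Submodule.mapQ_apply]
    rw [hσbar, map_smulₛₗ]
    rfl

lemma Tbar_mk {σ : R →+* R} (σbar : ResidueField R →+* ResidueField R)
    (hσbar : ∀ r : R, σbar (residue R r) = residue R (σ r))
    (T : M →ₛₗ[σ] M)
    (hT : (maximalIdeal R • (⊤ : Submodule R M)) ≤ (maximalIdeal R • (⊤ : Submodule R M)).comap T)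
    (m : M) : Tbar σbar hσbar T hT (Submodule.Quotient.mk m) = Submodule.Quotient.mk (T m) := rfl

end Aux

/-- Let p be a prime number and R a local ring whose maximal ideal is generated by p and in which p^n =
0 for some n. Let σ be a ring endomorphism of R and σ̄ the induced endomorphism of the residue field
k = R/(p); assume σ̄ is surjective, that for every m and every tuple (b_0, …, b_m) in k, not all
zero, the equation x = Σ_{i=0}^{m} σ̄^{i+1}(x) σ̄^{i}(b_{m-i}) has a nonzero solution x in k, and
that for every c in k there is y with σ̄(y) − y + c = 0. Let M be a finitely generated R-module and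
T : M → M additive with T (r • m) = σ r • T m. Then the map m ↦ m − T m is surjective on M. -/
theorem result
    (p : ℕ) [Fact p.Prime] (R : Type u) [CommRing R] [IsLocalRing R]
    (hmax : IsLocalRing.maximalIdeal R = Ideal.span {(p : R)}) (n : ℕ) (hn : (p : R) ^ n = 0)
    (σ : R →+* R) (σbar : IsLocalRing.ResidueField R →+* IsLocalRing.ResidueField R)
    (hσbar : ∀ r : R, σbar (IsLocalRing.residue R r) = IsLocalRing.residue R (σ r))
    (hsurj : Function.Surjective σbar)
    (h2 : ∀ (n : ℕ) (b : Fin (n + 1) → IsLocalRing.ResidueField R), b ≠ 0 →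
      ∃ x : IsLocalRing.ResidueField R, x ≠ 0 ∧ x = ∑ i : Fin (n + 1), (⇑σbar)^[i.val + 1] x * (⇑σbar)^[i.val] (b (Fin.rev i)))
    (h3 : ∀ c : IsLocalRing.ResidueField R, ∃ y : IsLocalRing.ResidueField R, σbar y - y + c = 0)
    (M : Type v) [AddCommGroup M] [Module R M] [Module.Finite R M] (T : M →ₛₗ[σ] M) :
    Function.Surjective (fun m : M => m - T m) := by
  classical
  open IsLocalRing Pointwise in
  have hσp : ∀ i : ℕ, σ ((p : R) ^ i) = (p : R) ^ i := fun i => by rw [map_pow, map_natCast]
  have hmem : ∀ x : M, x ∈ (maximalIdeal R • (⊤ : Submodule R M)) ↔ ∃ y : M, (p : R) • y = x := by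
    intro x
    rw [hmax, Submodule.ideal_span_singleton_smul, Submodule.mem_smul_pointwise_iff_exists]
    simp
  have hT : (maximalIdeal R • (⊤ : Submodule R M)) ≤
      (maximalIdeal R • (⊤ : Submodule R M)).comap T := by
    intro x hx
    rw [Submodule.mem_comap]
    obtain ⟨y, rfl⟩ := (hmem x).mp hx
    rw [map_smulₛₗ, map_natCast]
    exact (hmem _).mpr ⟨T y, rfl⟩
  have hbar := (Groth.Agent.S19234.result (ResidueField R) σbar hsurj (Mbar R M)
    (Tbar σbar hσbar T hT) h2 h3).1
  have key : ∀ i : ℕ, ∀ c : M, ∃ v m' : M, c - (v - T v) = (p : R) ^ i • m' := by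
    intro i
    induction i with
    | zero => intro c; exact ⟨0, c, by simp⟩
    | succ i ih =>
      intro c
      obtain ⟨v, m', hv⟩ := ih c
      obtain ⟨ū, hū⟩ := hbar (Submodule.Quotient.mk m')
      obtain ⟨u, rfl⟩ := Submodule.Quotient.mk_surjective _ ū
      simp only [Tbar_mk] at hū
      rw [← Submodule.Quotient.mk_sub, Submodule.Quotient.eq, hmem] at hū
      obtain ⟨m'', hm''⟩ := hū
      refine ⟨v + (p : R) ^ i • u, -m'', ?_⟩
      rw [map_add, map_smulₛₗ, hσp]
      have : c - (v + (p : R) ^ i • u - (T v + (p : R) ^ i • T u)) =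
          (c - (v - T v)) - (p : R) ^ i • (u - T u) := by
        rw [smul_sub]; abel
      rw [this, hv, ← smul_sub, pow_succ, mul_smul, smul_neg, hm'']
      congr 1
      abel
  intro c
  obtain ⟨v, m', hv⟩ := key n c
  refine ⟨v, ?_⟩
  rw [hn, zero_smul, sub_eq_zero] at hv
  exact hv.symm

end Groth.Agent.S19235
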