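import Groth.Statements.S19236
import Mathlib.LinearAlgebra.Finsupp.LinearCombination
import Mathlib.Algebra.Ring.Subring.Basic
import Mathlib.Algebra.Module.Submodule.RestrictScalars
import Groth.Agent.S19235

set_option autoImplicit false
universe u v
open SigmaLin

namespace Groth.Agent.S19236

section Aux6
open IsLocalRing Pointwise Groth.Agent.S19235

variable {R : Type u} [CommRing R]

/-- the subring of `σ`-fixed elements. -/
abbrev fixedRing (σ : R →+* R) : Subring R := RingHom.eqLocus σ (RingHom.id R)

lemma mem_fixedRing {σ : R →+* R} {r : R} : r ∈ fixedRing σ ↔ σ r = r := Iff.rfl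

variable [IsLocalRing R]

/-- fixed vectors of a semilinear endomorphism of a finite-dimensional vector space are combinations
of finitely many fixed vectors with fixed coefficients. -/
lemma field_case (k : Type u) [Field k] (σ : k →+* k) (hσ : Function.Surjective σ)
    (V : Type v) [AddCommGroup V] [Module k V] [FiniteDimensional k V] (T : V →ₛₗ[σ] V)
    (h2 : ∀ (n : ℕ) (b : Fin (n + 1) → k), b ≠ 0 →
      ∃ x : k, x ≠ 0 ∧ x = ∑ i : Fin (n + 1), (⇑σ)^[i.val + 1] x * (⇑σ)^[i.val] (b (Fin.rev i)))
    (h3 : ∀ c : k, ∃ y : k, σ y - y + c = 0) :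
    ∃ (r : ℕ) (b : Fin r → V), (∀ i, T (b i) = b i) ∧
      ∀ v : V, T v = v → ∃ c : Fin r → k, (∀ i, σ (c i) = c i) ∧ v = ∑ i, c i • b i := by
  classical
  obtain ⟨-, B, hB⟩ := Groth.Agent.S19234.result k σ hσ V T h2 h3
  refine ⟨_, fun i => (B i : V), hB, ?_⟩
  intro v hv
  have hmem : v ∈ (⨅ n : ℕ, Submodule.span k (Set.range ((⇑T)^[n]))) := by
    rw [Submodule.mem_iInf]
    intro n
    exact Submodule.subset_span ⟨v, Function.iterate_fixed hv n⟩
  have hrepr := B.sum_repr ⟨v, hmem⟩
  have hv' : v = ∑ i, B.repr ⟨v, hmem⟩ i • (B i : V) := by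
    have := congrArg Subtype.val hrepr
    simp only [Submodule.coe_sum, Submodule.coe_smul] at this
    exact this.symm
  refine ⟨fun i => B.repr ⟨v, hmem⟩ i, ?_, hv'⟩
  have hLI : LinearIndependent k (fun i => (B i : V)) :=
    B.linearIndependent.map' (Submodule.subtype _) (Submodule.ker_subtype _)
  have h0 : ∑ i, (σ (B.repr ⟨v, hmem⟩ i) - B.repr ⟨v, hmem⟩ i) • (B i : V) = 0 := by
    simp only [sub_smul, Finset.sum_sub_distrib]
    rw [← hv', sub_eq_zero]
    conv_rhs => rw [← hv, hv', map_sum]
    simp only [map_smulₛₗ, hB]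
  intro i
  have := Fintype.linearIndependent_iff.mp hLI _ h0 i
  exact sub_eq_zero.mp this

/-- the inductive statement over the exponent of `p` killing `M`. -/
theorem ind (p : ℕ) [Fact p.Prime] (hmax : maximalIdeal R = Ideal.span {(p : R)})
    (n₀ : ℕ) (hn₀ : (p : R) ^ n₀ = 0)
    (σ : R →+* R) (σbar : ResidueField R →+* ResidueField R)
    (hσbar : ∀ r : R, σbar (residue R r) = residue R (σ r))
    (hsurj : Function.Surjective σbar)
    (h2 : ∀ (n : ℕ) (b : Fin (n + 1) → ResidueField R), b ≠ 0 →
      ∃ x : ResidueField R, x ≠ 0 ∧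
        x = ∑ i : Fin (n + 1), (⇑σbar)^[i.val + 1] x * (⇑σbar)^[i.val] (b (Fin.rev i)))
    (h3 : ∀ c : ResidueField R, ∃ y : ResidueField R, σbar y - y + c = 0)
    (hlift : ∀ x : ResidueField R, σbar x = x → ∃ r : R, σ r = r ∧ residue R r = x) (n : ℕ) :
    ∀ (M : Type v) [AddCommGroup M] [Module R M] [Module.Finite R M] (T : M →ₛₗ[σ] M),
      (∀ m : M, (p : R) ^ n • m = 0) →
      ∃ s : Finset M, (∀ m ∈ s, T m = m) ∧
        ∀ m : M, T m = m → m ∈ Submodule.span (fixedRing σ) (s : Set M) := by
  classical
  induction n with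
  | zero =>
    intro M _ _ _ T hM
    refine ⟨∅, by simp, fun m _ => ?_⟩
    have : m = 0 := by simpa using hM m
    rw [this]; exact zero_mem _
  | succ n ih =>
    intro M _ _ _ T hM
    have hσp : σ (p : R) = (p : R) := map_natCast σ p
    -- the submodule `pM`
    set N : Submodule R M := (p : R) • (⊤ : Submodule R M) with hN
    have hmemN : ∀ x : M, x ∈ N ↔ ∃ y : M, (p : R) • y = x := by
      intro x
      rw [hN, Submodule.mem_smul_pointwise_iff_exists]
      simp
    have hNeq : maximalIdeal R • (⊤ : Submodule R M) = N := by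
      rw [hmax, Submodule.ideal_span_singleton_smul]
    have hTN : ∀ x ∈ N, T x ∈ N := by
      intro x hx
      obtain ⟨y, rfl⟩ := (hmemN x).mp hx
      rw [map_smulₛₗ, hσp]
      exact (hmemN _).mpr ⟨T y, rfl⟩
    have hNfin : Module.Finite R N := by
      rw [Module.Finite.iff_fg]
      exact (Module.Finite.fg_top (R := R) (M := M)).map _
    let TN : N →ₛₗ[σ] N := (T.domRestrict N).codRestrict N (fun x => hTN x x.2)
    have hTNval : ∀ x : N, ((TN x : N) : M) = T x := fun x => rfl
    have hNkill : ∀ x : N, (p : R) ^ n • x = 0 := by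
      rintro ⟨x, hx⟩
      obtain ⟨y, rfl⟩ := (hmemN x).mp hx
      apply Subtype.ext
      change (p : R) ^ n • (p : R) • y = 0
      rw [smul_smul, ← pow_succ]
      exact hM y
    obtain ⟨sN, hsNfix, hsNgen⟩ := ih N TN hNkill
    -- the quotient
    have hT : (maximalIdeal R • (⊤ : Submodule R M)) ≤
        (maximalIdeal R • (⊤ : Submodule R M)).comap T := by
      rw [hNeq]
      intro x hx
      exact hTN x hx
    obtain ⟨r, bbar, hbbar, hgen⟩ := field_case (ResidueField R) σbar hsurj (Mbar R M)
      (Tbar σbar hσbar T hT) h2 h3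
    -- lifting fixed vectors
    have hliftfix : ∀ ū : Mbar R M, Tbar σbar hσbar T hT ū = ū →
        ∃ u : M, T u = u ∧ (Submodule.Quotient.mk u : Mbar R M) = ū := by
      intro ū hū
      obtain ⟨u₀, rfl⟩ := Submodule.Quotient.mk_surjective _ ū
      rw [Tbar_mk, Submodule.Quotient.eq, hNeq] at hū
      obtain ⟨w, hw⟩ := Groth.Agent.S19235.result p R hmax n₀ hn₀ σ σbar hσbar hsurj h2 h3 N TN ⟨_, hū⟩
      have hw' : (w : M) - T w = T u₀ - u₀ := congrArg Subtype.val hw
      refine ⟨u₀ + w, ?_, ?_⟩
      · rw [map_add]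
        have : T (w : M) = w - (T u₀ - u₀) := by rw [← hw']; abel
        rw [this]; abel
      · rw [Submodule.Quotient.mk_add]
        have : (Submodule.Quotient.mk (w : M) : Mbar R M) = 0 := by
          rw [Submodule.Quotient.mk_eq_zero, hNeq]; exact w.2
        rw [this, add_zero]
    choose b hbfix hbmk using fun i => hliftfix (bbar i) (hbbar i)
    refine ⟨sN.image Subtype.val ∪ Finset.univ.image b, ?_, ?_⟩
    · intro m hm
      rcases Finset.mem_union.mp hm with h | h
      · obtain ⟨x, hx, rfl⟩ := Finset.mem_image.mp h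
        have := hsNfix x hx
        rw [← hTNval, this]
      · obtain ⟨i, -, rfl⟩ := Finset.mem_image.mp h
        exact hbfix i
    · intro m hm
      have hmbar : Tbar σbar hσbar T hT (Submodule.Quotient.mk m) = Submodule.Quotient.mk m := by
        rw [Tbar_mk, hm]
      obtain ⟨cbar, hcbar, hsum⟩ := hgen _ hmbar
      choose c hcfix hcres using fun i => hlift (cbar i) (hcbar i)
      set m' : M := m - ∑ i, c i • b i with hm'
      have hm'N : m' ∈ N := by
        rw [← hNeq, ← Submodule.Quotient.mk_eq_zero, hm', Submodule.Quotient.mk_sub, hsum,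
          sub_eq_zero]
        have : (Submodule.Quotient.mk (∑ i, c i • b i) : Mbar R M) =
            ∑ i, (Submodule.Quotient.mk (c i • b i) : Mbar R M) :=
          map_sum (Submodule.mkQ _) _ _
        rw [this]
        refine Finset.sum_congr rfl fun i _ => ?_
        rw [← hcres i, ← hbmk i]
        rfl
      have hm'fix : T m' = m' := by
        rw [hm', map_sub, hm, map_sum]
        congr 1
        refine Finset.sum_congr rfl fun i _ => ?_
        rw [map_smulₛₗ, hcfix, hbfix]
      have hspanN := hsNgen ⟨m', hm'N⟩ (Subtype.ext hm'fix)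
      have h1 : m' ∈ Submodule.span (fixedRing σ) ((sN.image Subtype.val : Finset M) : Set M) := by
        have := Submodule.apply_mem_span_image_of_mem_span
          ((N.subtype).restrictScalars (fixedRing σ)) hspanN
        simpa using this
      have hmeq : m = m' + ∑ i, c i • b i := by rw [hm']; abel
      rw [hmeq]
      refine add_mem (Submodule.span_mono (by simp) h1) (Submodule.sum_mem _ fun i _ => ?_)
      have : c i • b i = (⟨c i, hcfix i⟩ : fixedRing σ) • b i := rfl
      rw [this]
      exact Submodule.smul_mem _ _ (Submodule.subset_span (by simp))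

end Aux6

/-- Let p be a prime number and R a local ring whose maximal ideal is generated by p and in which p^n =
0 for some n. Let σ be a ring endomorphism of R and σ̄ the induced endomorphism of the residue field
k = R/(p); assume σ̄ is surjective, that for every m and every tuple (b_0, …, b_m) in k, not all
zero, the equation x = Σ_{i=0}^{m} σ̄^{i+1}(x) σ̄^{i}(b_{m-i}) has a nonzero solution x in k, that
for every c in k there is y with σ̄(y) − y + c = 0, and that every element of k fixed by σ̄ is the
residue of an element of R fixed by σ. Let M be a finitely generated R-module and T : M → M additive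
with T (r • m) = σ r • T m. Then the T-fixed elements of M form a finitely generated module over the
ring of σ-fixed elements of R: there are finitely many T-fixed elements such that every T-fixed
element is a linear combination of them with σ-fixed coefficients. -/
theorem result
    (p : ℕ) [Fact p.Prime] (R : Type u) [CommRing R] [IsLocalRing R]
    (hmax : IsLocalRing.maximalIdeal R = Ideal.span {(p : R)}) (n : ℕ) (hn : (p : R) ^ n = 0)
    (σ : R →+* R) (σbar : IsLocalRing.ResidueField R →+* IsLocalRing.ResidueField R)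
    (hσbar : ∀ r : R, σbar (IsLocalRing.residue R r) = IsLocalRing.residue R (σ r))
    (hsurj : Function.Surjective σbar)
    (h2 : ∀ (n : ℕ) (b : Fin (n + 1) → IsLocalRing.ResidueField R), b ≠ 0 →
      ∃ x : IsLocalRing.ResidueField R, x ≠ 0 ∧ x = ∑ i : Fin (n + 1), (⇑σbar)^[i.val + 1] x * (⇑σbar)^[i.val] (b (Fin.rev i)))
    (h3 : ∀ c : IsLocalRing.ResidueField R, ∃ y : IsLocalRing.ResidueField R, σbar y - y + c = 0)
    (M : Type v) [AddCommGroup M] [Module R M] [Module.Finite R M] (T : M →ₛₗ[σ] M)
    (hlift : ∀ x : IsLocalRing.ResidueField R, σbar x = x → ∃ r : R, σ r = r ∧ IsLocalRing.residue R r = x) :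
    ∃ s : Finset M, (∀ m ∈ s, T m = m) ∧
      ∀ m : M, T m = m → ∃ c : M → R, (∀ x ∈ s, σ (c x) = c x) ∧ m = ∑ x ∈ s, c x • x := by
  obtain ⟨s, hsfix, hsgen⟩ := ind p hmax n hn σ σbar hσbar hsurj h2 h3 hlift n M T
    (fun m => by rw [hn, zero_smul])
  refine ⟨s, hsfix, fun m hm => ?_⟩
  obtain ⟨f, -, hf⟩ := Submodule.mem_span_finset.mp (hsgen m hm)
  refine ⟨fun x => (f x : R), fun x _ => (f x).2, ?_⟩
  rw [← hf]
  rfl

end Groth.Agent.S19236
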