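import Groth.Statements.S19238
import Groth.Agent.Lib.Helper9.TruncWitt2
import Groth.Agent.S19236

set_option autoImplicit false
universe u v
open SigmaLin

namespace Groth.Agent.S19238

open Groth.Agent.Lib.Helper9.TruncWitt


/-- Let k be an algebraically closed field of characteristic p > 0 and n a natural number; let M be a
finitely generated module over the ring W_n(k) of truncated Witt vectors and T : M → M an additive
map with T (c • m) = σ(c) • T m, where σ is either the Frobenius endomorphism of W_n(k) or its
inverse. Then the set of T-fixed elements of M is finite. (The printed statement says that the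
T-fixed elements form a finitely generated module over the σ-fixed subring of W_n(k), which is the
finite ring of integers modulo p^n.) -/
theorem result
    (p : ℕ) [Fact p.Prime] (k : Type u) [Field k] [CharP k p] [IsAlgClosed k] (n : ℕ)
    (σ : TruncatedWittVector p n k →+* TruncatedWittVector p n k)
    (hσ : σ = WittGrp.truncMap p n (frobenius k p) ∨
      σ = WittGrp.truncMap p n (frobeniusEquiv k p).symm.toRingHom)
    (M : Type v) [AddCommGroup M] [Module (TruncatedWittVector p n k) M] [Module.Finite (TruncatedWittVector p n k) M]
    (T : M →ₛₗ[σ] M) :
    {m : M | T m = m}.Finite := by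
  cases n with
  | zero =>
    have hsub : Subsingleton (TruncatedWittVector p 0 k) :=
      ⟨fun a b => TruncatedWittVector.ext fun i => i.elim0⟩
    have hM : Subsingleton M := Module.subsingleton (TruncatedWittVector p 0 k) M
    exact Set.toFinite _
  | succ n =>
    obtain ⟨σbar, hσbar, hsurj, h2, h3, hfix⟩ := exists_sigmaBar p k n σ hσ
    have hlift : ∀ x : IsLocalRing.ResidueField (TruncatedWittVector p (n + 1) k), σbar x = x →
        ∃ r : TruncatedWittVector p (n + 1) k, σ r = r ∧ IsLocalRing.residue _ r = x := by
      intro x hx
      obtain ⟨j, rfl⟩ := exists_natCast_of_pow_eq p _ x (hfix x hx)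
      exact ⟨(j : TruncatedWittVector p (n + 1) k), map_natCast σ j, map_natCast _ j⟩
    obtain ⟨s, -, hs⟩ := Groth.Agent.S19236.result p (TruncatedWittVector p (n + 1) k)
      (maximalIdeal_eq p k n) (n + 1) (p_pow_eq_zero p k n) σ σbar hσbar hsurj h2 h3 M T hlift
    -- the fixed ring is finite
    have hfixfin : {r : TruncatedWittVector p (n + 1) k | σ r = r}.Finite := by
      have hF := finite_setOf_pow_eq p k
      have hpi : (Set.pi Set.univ (fun _ : Fin (n + 1) => {a : k | a ^ p = a})).Finite :=
        Set.Finite.pi fun _ => hF
      let coeffs : TruncatedWittVector p (n + 1) k → (Fin (n + 1) → k) := fun r i => r.coeff i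
      have hinj : Function.Injective coeffs := fun r r' h =>
        TruncatedWittVector.ext fun i => congrFun h i
      refine Set.Finite.of_finite_image (f := coeffs) (hpi.subset ?_) hinj.injOn
      rintro _ ⟨r, hr, rfl⟩
      intro i _
      change (r.coeff i) ^ p = r.coeff i
      have hr' : σ r = r := hr
      rcases hσ with rfl | rfl
      · have := congrArg (fun z => z.coeff i) hr'
        simp only [WittGrp.coeff_truncMap, frobenius_def] at this
        exact this
      · have := congrArg (fun z => z.coeff i) hr'
        simp only [WittGrp.coeff_truncMap] at this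
        change (frobeniusEquiv k p).symm (r.coeff i) = r.coeff i at this
        rw [RingEquiv.symm_apply_eq, _root_.frobeniusEquiv_apply, frobenius_def] at this
        exact this.symm
    have hfinT : Finite {r : TruncatedWittVector p (n + 1) k // σ r = r} := hfixfin.to_subtype
    let Φ : (s → {r : TruncatedWittVector p (n + 1) k // σ r = r}) → M :=
      fun c => ∑ x ∈ s.attach, (c x).1 • x.1
    refine Set.Finite.subset (Set.finite_range Φ) ?_
    intro m hm
    obtain ⟨c, hc, hmc⟩ := hs m hm
    refine ⟨fun x => ⟨c x.1, hc x.1 x.2⟩, ?_⟩
    change ∑ x ∈ s.attach, c x.1 • x.1 = m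
    rw [Finset.sum_attach s (fun x => c x • x), ← hmc]

end Groth.Agent.S19238
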