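import Groth.Statements.S1925
import Mathlib
import Groth.Agent.Lib.Helper18.SecDiv2
import Groth.Agent.Lib.Helper18.GenSum

set_option autoImplicit false
universe u
open CategoryTheory AlgebraicGeometry
open Cyc

namespace Groth.Agent.S1925

/-- Let L be an invertible O_Y-module and s a global section of L; assume δ ≤ k + 1 on Y, δ ≤ k on the
zero locus of s, and multiplication by the germ of s injective on O_{Y,ξ} at the points ξ of
δ-dimension k. Writing [Y]_{k+1} = Σ n_i[Y_i] over the irreducible components of δ-dimension k + 1,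
one has [Z(s)]_k = Σ n_i [Z(s|_{Y_i})]_k as k-cycles on Y; here the right side is computed as c_1(L)
∩ [Y]_{k+1} with the rational sections induced by s. Here L(ξ) = L_ξ/𝔪_ξ L_ξ is the space of
rational sections of L on the closure of ξ, div_{L|W}(s) and c_1(L) ∩ α are computed as coefficient
functions from chosen nonzero rational sections (Cyc.secDivFun, Cyc.c1CapFun), and results are
compared up to rational equivalence for any cycles with those coefficients. A pair (X, δ) with
Cyc.IsSetup plays the role of a scheme locally of finite type over a fixed base with a dimension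
function (X locally Noetherian with universally catenary local rings, δ a dimension function), and
Cyc.DeltaCompat records that the dimension function upstairs is the induced one. -/
theorem result (Y : Scheme.{u}) (δ : Y → ℤ) (hY : Cyc.IsSetup Y δ) (L : Y.Modules) (hL : PicF.IsInvertible L) (k : ℤ) (hdim : ∀ y : Y, δ y ≤ k + 1) (s : L.presheaf.obj (Opposite.op ⊤)) (hZ : ∀ y : Y, (L.presheaf.germ ⊤ y trivial) s ∈ IsLocalRing.maximalIdeal (Y.presheaf.stalk y) • (⊤ : Submodule (Y.presheaf.stalk y) (L.presheaf.stalk y)) → δ y ≤ k) (hreg : ∀ y : Y, δ y = k → Function.Injective (fun a : Y.presheaf.stalk y => a • (L.presheaf.germ ⊤ y trivial) s)) : Cyc.zeroSectionFun δ k L s = Cyc.c1CapFun δ L (Cyc.subschemeFun δ (k + 1) (𝟙 Y)) (fun ξ => Submodule.Quotient.mk ((L.presheaf.germ ⊤ ξ trivial) s)) := by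
  classical
  funext x
  unfold Cyc.zeroSectionFun Cyc.c1CapFun
  have hsub : ∀ ξ : Y, Cyc.subschemeFun δ (k + 1) (𝟙 Y) ξ =
      if δ ξ = k + 1 then
        ((Module.length (Y.presheaf.stalk ξ) (Y.presheaf.stalk ξ)).toNat : ℤ) else 0 := by
    intro ξ
    unfold Cyc.subschemeFun
    split_ifs with h
    · have : {z : Y | (𝟙 Y : Y ⟶ Y) z = ξ} = {ξ} := by
        ext z; simp
      rw [this, finsum_mem_singleton]
    · rfl
  by_cases hd : δ x = k
  swap
  · rw [if_neg hd]
    symm
    apply finsum_eq_zero_of_forall_eq_zero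
    intro ξ
    rw [hsub]
    unfold Cyc.secDivFun
    by_cases hc : ξ ⤳ x ∧ δ x + 1 = δ ξ
    · rw [if_neg (by omega), zero_mul]
    · rw [dif_neg hc, mul_zero]
  rw [if_pos hd]
  by_cases ht : ∃ t : L.presheaf.stalk x, Submodule.span (Y.presheaf.stalk x) {t} = ⊤
  swap
  · rw [dif_neg ht]
    symm
    apply finsum_eq_zero_of_forall_eq_zero
    intro ξ
    unfold Cyc.secDivFun Cyc.secOrdAt
    by_cases hc : ξ ⤳ x ∧ δ x + 1 = δ ξ
    · rw [dif_pos hc, dif_neg ht, mul_zero]
    · rw [dif_neg hc, mul_zero]
  rw [dif_pos ht]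
  have hf : ∃ f : Y.presheaf.stalk x, (L.presheaf.germ ⊤ x trivial) s = f • Classical.choose ht := by
    have : (L.presheaf.germ ⊤ x trivial) s ∈
        Submodule.span (Y.presheaf.stalk x) {Classical.choose ht} := by
      rw [Classical.choose_spec ht]; trivial
    obtain ⟨f, hf⟩ := Submodule.mem_span_singleton.mp this
    exact ⟨f, hf.symm⟩
  rw [dif_pos hf]
  have hfs : (L.presheaf.germ ⊤ x trivial) s = Classical.choose hf • Classical.choose ht :=
    Classical.choose_spec hf
  generalize Classical.choose hf = f at hfs ⊢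
  have hfnzd : f ∈ nonZeroDivisors (Y.presheaf.stalk x) := by
    rw [mem_nonZeroDivisors_iff_right]
    intro a ha
    apply hreg x hd
    change a • (L.presheaf.germ ⊤ x trivial) s = (0 : Y.presheaf.stalk x) • _
    rw [hfs, smul_smul, ha, zero_smul, zero_smul]
  rw [Groth.Agent.Lib.Helper18.GenSum.length_quot_eq_finsum_generizations δ hY x
    (fun ξ _ => by rw [hd]; exact hdim ξ) f hfnzd]
  apply finsum_congr
  intro ξ
  rw [hsub]
  unfold Cyc.secDivFun
  by_cases hc : ξ ⤳ x ∧ δ x + 1 = δ ξ
  · have hne : (Submodule.Quotient.mk ((L.presheaf.germ ⊤ ξ trivial) s) : Cyc.secFibre L ξ) ≠ 0 := by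
      intro h0
      have := hZ ξ ((Submodule.Quotient.mk_eq_zero _).mp h0)
      omega
    rw [dif_pos hc, dif_pos hc, if_pos (by omega),
      Groth.Agent.Lib.Helper18.SecDiv.secOrdAt_germ_eq δ hY L s x ξ hc.1 hc.2 ht f hfs hne]
  · rw [dif_neg hc, dif_neg hc, mul_zero]

end Groth.Agent.S1925
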