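import Groth.Statements.S1924
import Mathlib
import Groth.Agent.Lib.Helper18.SubCyc
import Groth.Agent.Lib.Helper18.C1Indep2
import Groth.Agent.S1925

set_option autoImplicit false
universe u
open CategoryTheory AlgebraicGeometry
open Cyc

namespace Groth.Agent.S1924

/-- Let L be invertible on X, ι : Y → X a closed immersion with δ ≤ k + 1 on Y, and s a global section
of L|_Y = ι^*L such that the points of its zero locus have δ ≤ k and, at every such point ξ with
δ(ξ) = k, multiplication by the germ of s is injective on O_{Y,ξ}. Then c_1(L) ∩ [Y]_{k+1} ∼_rat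
ι_*[Z(s)]_k as k-cycles on X (for any nonzero rational sections used to compute the left side and
any cycle on Y with the coefficients of [Z(s)]_k). Here L(ξ) = L_ξ/𝔪_ξ L_ξ is the space of rational
sections of L on the closure of ξ, div_{L|W}(s) and c_1(L) ∩ α are computed as coefficient functions
from chosen nonzero rational sections (Cyc.secDivFun, Cyc.c1CapFun), and results are compared up to
rational equivalence for any cycles with those coefficients. A pair (X, δ) with Cyc.IsSetup plays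
the role of a scheme locally of finite type over a fixed base with a dimension function (X locally
Noetherian with universally catenary local rings, δ a dimension function), and Cyc.DeltaCompat
records that the dimension function upstairs is the induced one. -/
theorem result (X Y : Scheme.{u}) (δ : X → ℤ) (hX : Cyc.IsSetup X δ) (L : X.Modules) (hL : PicF.IsInvertible L) (ι : Y ⟶ X) [IsClosedImmersion ι] (k : ℤ) (hY : ∀ y : Y, δ (ι y) ≤ k + 1) (s : ((Scheme.Modules.pullback ι).obj L).presheaf.obj (Opposite.op ⊤)) (hZ : ∀ y : Y, (((Scheme.Modules.pullback ι).obj L).presheaf.germ ⊤ y trivial) s ∈ IsLocalRing.maximalIdeal (Y.presheaf.stalk y) • (⊤ : Submodule (Y.presheaf.stalk y) (((Scheme.Modules.pullback ι).obj L).presheaf.stalk y)) → δ (ι y) ≤ k) (hreg : ∀ y : Y, δ (ι y) = k → Function.Injective (fun a : Y.presheaf.stalk y => a • (((Scheme.Modules.pullback ι).obj L).presheaf.germ ⊤ y trivial) s)) (v : (ξ : X) → Cyc.secFibre L ξ) (hv : ∀ ξ, v ξ ≠ 0) (γ : AlgebraicCycle X ℤ)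 (hγ : ⇑γ = Cyc.c1CapFun δ L (Cyc.subschemeFun δ (k + 1) ι) v) (ζ : AlgebraicCycle Y ℤ) (hζ : ⇑ζ = Cyc.zeroSectionFun (fun y => δ (ι y)) k ((Scheme.Modules.pullback ι).obj L) s) : Cyc.RatEquiv δ k γ (AlgebraicCycle.map ι (fun y => δ (ι y)) δ ζ) := by
  classical
  have hYset := Groth.Agent.Lib.Helper18.ClImm.isSetup ι δ hX
  haveI : IsLocallyNoetherian Y := hYset.1
  have hLY : PicF.IsInvertible ((Scheme.Modules.pullback ι).obj L) :=
    Groth.Agent.Lib.Helper29.QCoh.isInvertible_pullback ι hL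
  have hinj : Function.Injective (ι : Y → X) := ι.isClosedEmbedding.injective
  -- the fundamental cycle of Y
  have hβ0 : ∀ y, Cyc.subschemeFun (fun y => δ (ι y)) (k + 1) (𝟙 Y) y ≠ 0 → δ (ι y) = k + 1 := by
    intro y hy
    by_contra hne
    apply hy
    unfold Cyc.subschemeFun
    rw [if_neg hne]
  have hβmax : ∀ y, Cyc.subschemeFun (fun y => δ (ι y)) (k + 1) (𝟙 Y) y ≠ 0 →
      ∀ z : Y, z ⤳ y → z = y := by
    intro y hy z hz
    by_contra hne
    have h1 := (hYset.2.2 z y hz hne).1
    have h2 := hY z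
    have h3 := hβ0 y hy
    simp only at h1
    omega
  let B : AlgebraicCycle Y ℤ := Groth.Agent.Lib.Helper18.SubCyc.cycleOfMaximal
    (Cyc.subschemeFun (fun y => δ (ι y)) (k + 1) (𝟙 Y)) hβmax
  have hB : ⇑B = Cyc.subschemeFun (fun y => δ (ι y)) (k + 1) (𝟙 Y) := rfl
  have hBZ : B ∈ Cyc.Zk Y (fun y => δ (ι y)) (k + 1) := by
    intro y hy
    by_contra h
    exact hy (hβ0 y h)
  -- sections
  choose g hg using (fun y : Y => Groth.Agent.Lib.Helper18.InvStalk.exists_generator hLY y)
  have hfb : ∀ y : Y, (Submodule.Quotient.mk (g y) :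
      Cyc.secFibre ((Scheme.Modules.pullback ι).obj L) y) ≠ 0 := by
    intro y h0
    have h1 : (1 : Y.presheaf.stalk y) • (Submodule.Quotient.mk (g y) :
      Cyc.secFibre ((Scheme.Modules.pullback ι).obj L) y) = 0 := by rw [one_smul]; exact h0
    have := Groth.Agent.Lib.Helper18.InvStalk.mem_of_smul_mk_eq_zero _ _ (hg y)
      (Groth.Agent.Lib.Helper18.InvStalk.free_of_generator hLY y (g y) (hg y)) _ h1
    exact (IsLocalRing.maximalIdeal.isMaximal _).ne_top ((Ideal.eq_top_iff_one _).mpr this)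
  let s₂ : (y : Y) → Cyc.secFibre ((Scheme.Modules.pullback ι).obj L) y := fun y =>
    if (Submodule.Quotient.mk ((((Scheme.Modules.pullback ι).obj L).presheaf.germ ⊤ y trivial) s) :
      Cyc.secFibre ((Scheme.Modules.pullback ι).obj L) y) ≠ 0 then
      Submodule.Quotient.mk ((((Scheme.Modules.pullback ι).obj L).presheaf.germ ⊤ y trivial) s)
    else Submodule.Quotient.mk (g y)
  have hs₂ : ∀ y, s₂ y ≠ 0 := by
    intro y
    simp only [s₂]
    split_ifs with h
    · exact h
    · exact hfb y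
  have hc1 : Cyc.c1CapFun (fun y => δ (ι y)) ((Scheme.Modules.pullback ι).obj L)
      (Cyc.subschemeFun (fun y => δ (ι y)) (k + 1) (𝟙 Y))
      (fun ξ => Submodule.Quotient.mk
        ((((Scheme.Modules.pullback ι).obj L).presheaf.germ ⊤ ξ trivial) s)) =
      Cyc.c1CapFun (fun y => δ (ι y)) ((Scheme.Modules.pullback ι).obj L)
      (Cyc.subschemeFun (fun y => δ (ι y)) (k + 1) (𝟙 Y)) s₂ := by
    funext y₀
    unfold Cyc.c1CapFun
    apply finsum_congr
    intro y
    by_cases hb : Cyc.subschemeFun (fun y => δ (ι y)) (k + 1) (𝟙 Y) y = 0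
    · rw [hb, zero_mul, zero_mul]
    · have hne : (Submodule.Quotient.mk
          ((((Scheme.Modules.pullback ι).obj L).presheaf.germ ⊤ y trivial) s) :
          Cyc.secFibre ((Scheme.Modules.pullback ι).obj L) y) ≠ 0 := by
        intro h0
        have h1 := hZ y ((Submodule.Quotient.mk_eq_zero _).mp h0)
        have h2 := hβ0 y hb
        omega
      simp only [s₂, if_pos hne]
  have h1925 := Groth.Agent.S1925.result Y (fun y => δ (ι y)) hYset
    ((Scheme.Modules.pullback ι).obj L) hLY k hY s hZ hreg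
  have hζ' : ⇑ζ = Cyc.c1CapFun (fun y => δ (ι y)) ((Scheme.Modules.pullback ι).obj L) ⇑B s₂ := by
    rw [hζ, h1925, hB]; exact hc1
  -- pulled back sections
  let v' : (y : Y) → Cyc.secFibre ((Scheme.Modules.pullback ι).obj L) y := fun y =>
    Groth.Agent.Lib.Helper18.PullSec.pullFibre ι L y (v (ι y))
  have hv' : ∀ y, v' y ≠ 0 := fun y =>
    Groth.Agent.Lib.Helper18.PullSec.pullFibre_ne_zero ι L hL y _ (hv (ι y))
  let Γ' : AlgebraicCycle Y ℤ := Groth.Agent.Lib.Helper18.SubCyc.comapCycle ι γ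
  have hΓ'0 : ∀ y, Γ' y = γ (ι y) := fun y => rfl
  have hΓ' : ⇑Γ' = Cyc.c1CapFun (fun y => δ (ι y)) ((Scheme.Modules.pullback ι).obj L) ⇑B v' := by
    funext y₀
    rw [hΓ'0, hγ, hB]
    unfold Cyc.c1CapFun
    rw [Groth.Agent.Lib.Helper18.PullSec.finsum_eq_finsum_comp (ι : Y → X) hinj]
    · apply finsum_congr
      intro y
      rw [Groth.Agent.Lib.Helper18.SubCyc.subschemeFun_of_mem,
        Groth.Agent.Lib.Helper18.PullSec.secDivFun_pullFibre ι L δ hX hL y₀ y _ (hv (ι y))]
    · intro ξ hξ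
      by_contra hn
      apply hξ
      rw [Groth.Agent.Lib.Helper18.SubCyc.subschemeFun_of_notMem ι δ (k + 1) ξ hn, zero_mul]
  have hrat : Cyc.RatEquiv (fun y => δ (ι y)) k Γ' ζ :=
    Groth.Agent.Lib.Helper18.C1Indep.c1Cap_ratEquiv (fun y => δ (ι y)) hYset hLY k B hBZ v' s₂ hv' hs₂
      Γ' ζ hΓ' hζ'
  have hpush := Groth.Agent.Lib.Helper18.ClImm.ratEquivZero_map ι δ hX k (Γ' - ζ) hrat
  have heq : γ - AlgebraicCycle.map ι (fun y => δ (ι y)) δ ζ =
      AlgebraicCycle.map ι (fun y => δ (ι y)) δ (Γ' - ζ) := by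
    ext x
    by_cases hx : x ∈ Set.range (ι : Y → X)
    · obtain ⟨y, rfl⟩ := hx
      rw [Groth.Agent.Lib.Helper18.PullSec.map_apply_of_mem]
      change γ (ι y) - AlgebraicCycle.map ι (fun y => δ (ι y)) δ ζ (ι y) = Γ' y - ζ y
      rw [Groth.Agent.Lib.Helper18.PullSec.map_apply_of_mem, hΓ'0]
    · rw [Groth.Agent.Lib.Helper18.PullSec.map_apply_of_notMem ι δ _ x hx]
      change γ x - AlgebraicCycle.map ι (fun y => δ (ι y)) δ ζ x = 0
      rw [Groth.Agent.Lib.Helper18.PullSec.map_apply_of_notMem ι δ _ x hx, sub_zero, hγ]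
      unfold Cyc.c1CapFun
      apply finsum_eq_zero_of_forall_eq_zero
      intro ξ
      by_cases hξ : ξ ∈ Set.range (ι : Y → X)
      · obtain ⟨y, rfl⟩ := hξ
        rw [Groth.Agent.Lib.Helper18.SubCyc.secDivFun_eq_zero_of_notMem_range ι δ L y _ x hx,
          mul_zero]
      · rw [Groth.Agent.Lib.Helper18.SubCyc.subschemeFun_of_notMem ι δ (k + 1) ξ hξ, zero_mul]
  unfold Cyc.RatEquiv
  rw [heq]
  exact hpush

end Groth.Agent.S1924
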