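import Groth.Statements.S19244
import Mathlib.CategoryTheory.Abelian.SerreClass.Localization
import Mathlib.CategoryTheory.Localization.CalculusOfFractions
import Mathlib.CategoryTheory.Abelian.Basic

set_option autoImplicit false
universe v v' u u'
open HomAlg3

namespace Groth.Agent.S19244

section Aux
open CategoryTheory Limits

theorem main
    {A : Type u} [Category.{v} A] [Abelian A] {D : Type u'} [Category.{v'} D] [Preadditive D]
    (P : ObjectProperty A) (hP : ∀ X : A, P X ↔ ∃ n : ℤ, n ≠ 0 ∧ n • (𝟙 X) = 0) [P.IsSerreClass]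
    (L : A ⥤ D) [L.Additive] [L.IsLocalization P.isoModSerre] (X Y : A) :
    (∀ n : ℤ, n ≠ 0 → Function.Bijective (fun g : L.obj X ⟶ L.obj Y => n • g)) ∧
    (∀ f : X ⟶ Y, L.map f = 0 ↔ ∃ n : ℤ, n ≠ 0 ∧ n • f = 0) ∧
    (∀ g : L.obj X ⟶ L.obj Y, ∃ (n : ℤ) (f : X ⟶ Y), n ≠ 0 ∧ n • g = L.map f) := by
  have hW : ∀ (Z : A) (n : ℤ), n ≠ 0 → P.isoModSerre (n • 𝟙 Z) := by
    intro Z n hn
    rw [ObjectProperty.isoModSerre_iff, ObjectProperty.monoModSerre_iff,
      ObjectProperty.epiModSerre_iff]
    constructor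
    · rw [hP]
      refine ⟨n, hn, ?_⟩
      rw [← cancel_mono (kernel.ι (n • 𝟙 Z)), zero_comp, Preadditive.zsmul_comp, Category.id_comp]
      have := kernel.condition (n • 𝟙 Z)
      rwa [Preadditive.comp_zsmul, Category.comp_id] at this
    · rw [hP]
      refine ⟨n, hn, ?_⟩
      rw [← cancel_epi (cokernel.π (n • 𝟙 Z)), comp_zero, Preadditive.comp_zsmul, Category.comp_id]
      have := cokernel.condition (n • 𝟙 Z)
      rwa [Preadditive.zsmul_comp, Category.id_comp] at this
  have hiso : ∀ (Z : A) (n : ℤ), n ≠ 0 → IsIso (n • 𝟙 (L.obj Z)) := by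
    intro Z n hn
    have := Localization.inverts L P.isoModSerre _ (hW Z n hn)
    rwa [L.map_zsmul, L.map_id] at this
  refine ⟨?_, ?_, ?_⟩
  · intro n hn
    have := hiso Y n hn
    constructor
    · intro g₁ g₂ h
      simp only at h
      rw [← cancel_mono (n • 𝟙 (L.obj Y))]
      simpa [Preadditive.comp_zsmul] using h
    · intro g
      refine ⟨g ≫ inv (n • 𝟙 (L.obj Y)), ?_⟩
      simp only
      have : n • (g ≫ inv (n • 𝟙 (L.obj Y))) = (g ≫ inv (n • 𝟙 (L.obj Y))) ≫ (n • 𝟙 (L.obj Y)) := by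
        rw [Preadditive.comp_zsmul, Category.comp_id]
      rw [this, Category.assoc, IsIso.inv_hom_id, Category.comp_id]
  · intro f
    rw [ObjectProperty.SerreClassLocalization.map_eq_zero_iff L P f, hP]
    constructor
    · rintro ⟨n, hn, h⟩
      refine ⟨n, hn, ?_⟩
      have : n • f = Abelian.factorThruImage f ≫ (n • 𝟙 _) ≫ Abelian.image.ι f := by
        rw [Preadditive.zsmul_comp, Preadditive.comp_zsmul, Category.id_comp,
          Abelian.image.fac]
      rw [this, h, zero_comp, comp_zero]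
    · rintro ⟨n, hn, h⟩
      refine ⟨n, hn, ?_⟩
      rw [← cancel_mono (Abelian.image.ι f), ← cancel_epi (Abelian.factorThruImage f), zero_comp,
        comp_zero, Preadditive.zsmul_comp, Preadditive.comp_zsmul, Category.id_comp,
        Abelian.image.fac, h]
  · intro g
    obtain ⟨φ, rfl⟩ := Localization.exists_leftFraction L P.isoModSerre g
    have hs := φ.hs
    rw [ObjectProperty.isoModSerre_iff, ObjectProperty.monoModSerre_iff,
      ObjectProperty.epiModSerre_iff, hP, hP] at hs
    obtain ⟨⟨n₁, hn₁, h₁⟩, ⟨n₂, hn₂, h₂⟩⟩ := hs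
    let u : φ.Y' ⟶ Abelian.image φ.s := kernel.lift (cokernel.π φ.s) (n₂ • 𝟙 _) (by
      rw [Preadditive.zsmul_comp, Category.id_comp]
      have : n₂ • cokernel.π φ.s = cokernel.π φ.s ≫ (n₂ • 𝟙 _) := by
        rw [Preadditive.comp_zsmul, Category.comp_id]
      rw [this, h₂, comp_zero])
    let v : Abelian.coimage φ.s ⟶ Y := cokernel.desc (kernel.ι φ.s) (n₁ • 𝟙 _) (by
      rw [Preadditive.comp_zsmul, Category.comp_id]
      have : n₁ • kernel.ι φ.s = (n₁ • 𝟙 _) ≫ kernel.ι φ.s := by
        rw [Preadditive.zsmul_comp, Category.id_comp]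
      rw [this, h₁, zero_comp])
    let t : φ.Y' ⟶ Y := u ≫ (Abelian.coimageIsoImage φ.s).inv ≫ v
    have hu' : u ≫ Abelian.image.ι φ.s = n₂ • 𝟙 _ := kernel.lift_ι _ _ _
    have hu : Abelian.image.ι φ.s ≫ u = n₂ • 𝟙 _ := by
      rw [← cancel_mono (Abelian.image.ι φ.s), Category.assoc, hu', Preadditive.comp_zsmul,
        Category.comp_id, Preadditive.zsmul_comp, Category.id_comp]
    have hv : Abelian.coimage.π φ.s ≫ v = n₁ • 𝟙 _ := cokernel.π_desc _ _ _
    have hst : φ.s ≫ t = (n₂ * n₁) • 𝟙 Y := by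
      have hfac : φ.s = Abelian.coimage.π φ.s ≫ (Abelian.coimageIsoImage φ.s).hom ≫
          Abelian.image.ι φ.s := (Abelian.coimage_image_factorisation φ.s).symm
      calc φ.s ≫ t = Abelian.coimage.π φ.s ≫ (Abelian.coimageIsoImage φ.s).hom ≫
            (Abelian.image.ι φ.s ≫ u) ≫ (Abelian.coimageIsoImage φ.s).inv ≫ v := by
              conv_lhs => rw [hfac]
              simp only [t, Category.assoc]
        _ = n₂ • (Abelian.coimage.π φ.s ≫ v) := by
              rw [hu]
              simp only [Preadditive.zsmul_comp, Preadditive.comp_zsmul, Category.id_comp,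
                Iso.hom_inv_id_assoc]
        _ = (n₂ * n₁) • 𝟙 Y := by rw [hv, mul_smul]
    refine ⟨n₂ * n₁, φ.f ≫ t, mul_ne_zero hn₂ hn₁, ?_⟩
    have h1 := φ.map_comp_map_s L (Localization.inverts L P.isoModSerre)
    rw [L.map_comp, ← h1, Category.assoc, ← L.map_comp, hst, L.map_zsmul, L.map_id,
      Preadditive.comp_zsmul, Category.comp_id]

end Aux

open CategoryTheory in
/-- Let A be an abelian category and let P be the class of bounded-torsion objects of A, those X with n
• 𝟙_X = 0 for some nonzero integer n; assume P is a Serre class. Let L : A ⥤ D be an additive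
functor to a preadditive category exhibiting D as the localization of A at the morphisms whose
kernel and cokernel are in P (so D is the quotient category A_ℚ = A ⧸ A_{b-tor}; the source assumes
A well-powered, which guarantees that this quotient exists). Then for all objects X, Y of A: (1) for
every nonzero integer n, multiplication by n is bijective on Hom_D(L X, L Y), so that this group is
naturally a ℚ-vector space; (2) a morphism f : X ⟶ Y satisfies L f = 0 if and only if n • f = 0 for
some nonzero integer n; (3) for every g : L X ⟶ L Y there are a nonzero integer n and f : X ⟶ Y with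
n • g = L f. Equivalently, the natural map Hom_A(X, Y) ⊗_ℤ ℚ → Hom_D(L X, L Y) is an isomorphism. -/
theorem result
    {A : Type u} [Category.{v} A] [Abelian A] {D : Type u'} [Category.{v'} D] [Preadditive D]
    (P : ObjectProperty A) (hP : ∀ X : A, P X ↔ ∃ n : ℤ, n ≠ 0 ∧ n • (𝟙 X) = 0) [P.IsSerreClass]
    (L : A ⥤ D) [L.Additive] [L.IsLocalization P.isoModSerre] (X Y : A) :
    (∀ n : ℤ, n ≠ 0 → Function.Bijective (fun g : L.obj X ⟶ L.obj Y => n • g)) ∧
    (∀ f : X ⟶ Y, L.map f = 0 ↔ ∃ n : ℤ, n ≠ 0 ∧ n • f = 0) ∧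
    (∀ g : L.obj X ⟶ L.obj Y, ∃ (n : ℤ) (f : X ⟶ Y), n ≠ 0 ∧ n • g = L.map f) := by
  exact main P hP L X Y

end Groth.Agent.S19244
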