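import Groth.Statements.S19258
import Mathlib.Algebra.Module.CharacterModule
import Mathlib.Topology.Instances.AddCircle.Defs
import Mathlib.Topology.Order
import Mathlib.Tactic.FieldSimp
import Mathlib.Tactic.Linarith

set_option autoImplicit false
universe u
open PontDual

namespace Groth.Agent.S19258

/-- a set open for the weak topology and containing `0` contains a finite intersection of kernels. -/
lemma exists_finset_of_continuous (G : Type u) (G' : Type u) [AddCommGroup G] [AddCommGroup G']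
    (β : G' →+ (G →+ AddCircle (1 : ℚ))) (χ : G →+ AddCircle (1 : ℚ))
    (hχ : @Continuous G (AddCircle (1 : ℚ))
      (⨅ f' : G', TopologicalSpace.induced (fun x : G => β f' x) ⊥) ⊥ χ) :
    ∃ S : Finset G', ∀ g : G, (∀ f' ∈ S, β f' g = 0) → χ g = 0 := by
  classical
  have hdisc : @DiscreteTopology (AddCircle (1 : ℚ)) ⊥ := @DiscreteTopology.mk _ ⊥ rfl
  have hopen : @IsOpen G (⨅ f' : G', TopologicalSpace.induced (fun x : G => β f' x) ⊥)
      (χ ⁻¹' {0}) :=
    (@continuous_def _ _ (⨅ f' : G', TopologicalSpace.induced (fun x : G => β f' x) ⊥) ⊥ χ).mp hχ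
      {0} (@isOpen_discrete _ ⊥ hdisc _)
  have hnhds : χ ⁻¹' {0} ∈
      @nhds G (⨅ f' : G', TopologicalSpace.induced (fun x : G => β f' x) ⊥) 0 :=
    @IsOpen.mem_nhds _ (⨅ f' : G', TopologicalSpace.induced (fun x : G => β f' x) ⊥) _ _ hopen
      (by simp)
  rw [nhds_iInf] at hnhds
  have hn : ∀ f' : G', @nhds G (TopologicalSpace.induced (fun x : G => β f' x) ⊥) 0 =
      Filter.principal ((fun x : G => β f' x) ⁻¹' {0}) := by
    intro f'
    rw [@nhds_induced _ _ ⊥ (fun x : G => β f' x) 0, @nhds_discrete _ ⊥ hdisc, Filter.comap_pure]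
    simp
  simp only [hn] at hnhds
  obtain ⟨I, hI, V, hV, hU⟩ := Filter.mem_iInf.mp hnhds
  refine ⟨hI.toFinset, fun g hg => ?_⟩
  have : g ∈ χ ⁻¹' {0} := by
    rw [hU, Set.mem_iInter]
    intro i
    apply Filter.mem_principal.mp (hV i)
    exact hg i (hI.mem_toFinset.mpr i.2)
  exact this

/-- the `n`-torsion of `ℚ/ℤ` is generated by `1/n`. -/
lemma torsion_eq (n : ℕ) (hn : n ≠ 0) (u : AddCircle (1 : ℚ)) (h : n • u = 0) :
    ∃ z : ℤ, u = z • (((n : ℚ)⁻¹ : ℚ) : AddCircle (1 : ℚ)) := by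
  obtain ⟨x, rfl⟩ := QuotientAddGroup.mk_surjective u
  have h' : ((n • x : ℚ) : AddCircle (1 : ℚ)) = 0 := h
  rw [AddCircle.coe_eq_zero_iff] at h'
  obtain ⟨z, hz⟩ := h'
  refine ⟨z, ?_⟩
  have hn' : (n : ℚ) ≠ 0 := by exact_mod_cast hn
  have : x = z • ((n : ℚ)⁻¹ : ℚ) := by
    simp only [zsmul_eq_mul, mul_one, nsmul_eq_mul] at hz ⊢
    field_simp
    linarith
  rw [this]
  rfl

/-- an endomorphism of `ℚ/ℤ` acts on the `n`-torsion as an integer. -/
lemma endo_torsion (ψ : AddCircle (1 : ℚ) →+ AddCircle (1 : ℚ)) (n : ℕ) (hn : n ≠ 0) :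
    ∃ m : ℤ, ∀ u : AddCircle (1 : ℚ), n • u = 0 → ψ u = m • u := by
  have hn' : (n : ℚ) ≠ 0 := by exact_mod_cast hn
  have he : n • (((n : ℚ)⁻¹ : ℚ) : AddCircle (1 : ℚ)) = 0 := by
    have : n • (((n : ℚ)⁻¹ : ℚ) : AddCircle (1 : ℚ)) = ((n • (n : ℚ)⁻¹ : ℚ) : AddCircle (1 : ℚ)) :=
      rfl
    rw [this, AddCircle.coe_eq_zero_iff]
    exact ⟨1, by simp [hn']⟩
  obtain ⟨m, hm⟩ := torsion_eq n hn (ψ _) (by rw [← map_nsmul, he, map_zero])
  refine ⟨m, fun u hu => ?_⟩
  obtain ⟨z, rfl⟩ := torsion_eq n hn u hu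
  rw [map_zsmul, hm, smul_comm]

/-- Let G and G' be abelian groups such that every element of G' has finite order, and let β : G' →
Hom(G, ℚ/ℤ) be an injective homomorphism (equivalently a pairing G' × G → ℚ/ℤ with no left kernel).
Endow G with the weak topology defined by G': the coarsest topology for which every character β(f),
f ∈ G', is continuous when ℚ/ℤ carries the discrete topology. Then every homomorphism χ : G → ℚ/ℤ
that is continuous for this topology on G and the discrete topology on ℚ/ℤ equals β(f) for some f ∈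
G', so that β is a bijection from G' onto the group of continuous characters of G. -/
theorem result
    (G : Type u) (G' : Type u) [AddCommGroup G] [AddCommGroup G'] (hG' : IsAddTorsion G')
    (β : G' →+ (G →+ AddCircle (1 : ℚ))) (hβ : Function.Injective β)
    (χ : G →+ AddCircle (1 : ℚ))
    (hχ : @Continuous G (AddCircle (1 : ℚ)) (⨅ f' : G', TopologicalSpace.induced (fun x : G => β f' x) ⊥) ⊥ χ) :
    ∃ f' : G', β f' = χ := by
  classical
  obtain ⟨S, hS⟩ := exists_finset_of_continuous G G' β χ hχ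
  let Φ : G →+ (S → AddCircle (1 : ℚ)) := AddMonoidHom.pi (fun f : S => β f.1)
  have hker : Φ.ker ≤ χ.ker := by
    intro g hg
    rw [AddMonoidHom.mem_ker] at hg ⊢
    apply hS
    intro f' hf'
    exact congrFun hg ⟨f', hf'⟩
  let χt : G ⧸ Φ.ker →+ AddCircle (1 : ℚ) := QuotientAddGroup.lift Φ.ker χ hker
  obtain ⟨ψ, hψ⟩ := (Module.Baer.of_divisible (AddCircle (1 : ℚ))).extension_property_addMonoidHom
    (QuotientAddGroup.kerLift Φ) (QuotientAddGroup.kerLift_injective Φ) χt
  have hχΦ : ∀ g, χ g = ψ (Φ g) := by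
    intro g
    have := DFunLike.congr_fun hψ (QuotientAddGroup.mk g)
    simpa [χt] using this.symm
  have hord : ∀ f : S, ∃ n : ℕ, n ≠ 0 ∧ n • (f : G') = 0 := by
    intro f
    obtain ⟨n, hn, h⟩ := isOfFinAddOrder_iff_nsmul_eq_zero.mp (hG' f.1)
    exact ⟨n, hn.ne', h⟩
  choose n hn0 hn using hord
  have hm : ∀ f : S, ∃ m : ℤ, ∀ u : AddCircle (1 : ℚ), n f • u = 0 →
      (ψ.comp (AddMonoidHom.single (fun _ : S => AddCircle (1 : ℚ)) f)) u = m • u :=
    fun f => endo_torsion _ (n f) (hn0 f)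
  choose m hm using hm
  refine ⟨∑ f : S, m f • (f : G'), ?_⟩
  ext g
  rw [hχΦ, map_sum, AddMonoidHom.finsetSum_apply]
  have hΦg : Φ g = ∑ f : S, Pi.single f (β f.1 g) := by
    rw [Finset.univ_sum_single]
    rfl
  rw [hΦg, map_sum]
  refine Finset.sum_congr rfl fun f _ => ?_
  rw [map_zsmul, AddMonoidHom.zsmul_apply]
  have := hm f (β f.1 g) (by
    rw [← AddMonoidHom.nsmul_apply, ← map_nsmul, hn f, map_zero, AddMonoidHom.zero_apply])
  rw [← this]
  rfl

end Groth.Agent.S19258
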