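import Groth.Statements.S19264
import Groth.Agent.Lib.Helper21.WittFilLib
-- import your own Groth.Agent.* helpers here

set_option autoImplicit false
universe u
open WittFil

namespace Groth.Agent.S19264

open Groth.Agent.Lib.Helper21.WF in
theorem keyK (p : ℕ) [Fact p.Prime] {A B : Type u} [CommRing A] [IsDomain A]
    [UniqueFactorizationMonoid A] [CommRing B] [Algebra A B] {r : ℕ} (x : Fin r → A)
    (hx : ∀ i, Prime (x i)) (hxa : ∀ i j, Associated (x i) (x j) → i = j)
    [IsLocalization.Away (∏ i, x i) B] (u : Fin r → Bˣ)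
    (hu : ∀ i, (u i : B) = algebraMap A B (x i)) (n : Fin r → ℤ) (y : B) (q : ℕ) :
    y ^ (p * q) * WittFil.zmon u n ∈ (algebraMap A B).range ↔
      y ^ q * WittFil.zmon u (fun i => n i / (p : ℤ)) ∈ (algebraMap A B).range := by
  have hp : p ≠ 0 := (Fact.out : p.Prime).ne_zero
  have hpz : (0 : ℤ) < (p : ℤ) := by exact_mod_cast (Fact.out : p.Prime).pos
  set f : Fin r → ℤ := fun i => n i / (p : ℤ) with hf
  set ρ : Fin r → ℕ := fun i => (n i % (p : ℤ)).toNat with hρ
  have hρlt : ∀ i, ρ i < p := by
    intro i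
    have h1 := Int.emod_lt_of_pos (n i) hpz
    have h2 := Int.emod_nonneg (n i) hpz.ne'
    simp only [hρ]
    omega
  have hn : n = (p : ℤ) • f + fun i => ((ρ i : ℕ) : ℤ) := by
    ext i
    have h2 := Int.emod_nonneg (n i) hpz.ne'
    have h3 := Int.mul_ediv_add_emod (n i) (p : ℤ)
    simp only [Pi.add_apply, Pi.smul_apply, smul_eq_mul, hf, hρ]
    rw [Int.toNat_of_nonneg h2]
    exact h3.symm
  have hzn : WittFil.zmon u n = WittFil.zmon u f ^ p * algebraMap A B (∏ i, x i ^ ρ i) := by
    conv_lhs => rw [hn]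
    rw [zmon_add, zmon_nsmul, zmon_natCast u x hu]
  constructor
  · rintro ⟨β, hβ⟩
    -- w = y^q * zmon f
    set w : B := y ^ q * WittFil.zmon u f with hw
    have h1 : w ^ p * algebraMap A B (∏ i, x i ^ ρ i) = algebraMap A B β := by
      rw [hβ, hzn, hw, mul_pow, ← pow_mul, mul_comm q p, mul_assoc]
    have h2 : (w * algebraMap A B (∏ i, x i)) ^ p = algebraMap A B (β * ∏ i, x i ^ (p - ρ i)) := by
      have hprod : (∏ i, x i) ^ p = (∏ i, x i ^ ρ i) * ∏ i, x i ^ (p - ρ i) := by
        rw [← Finset.prod_pow (Finset.univ : Finset (Fin r)) p x, ← Finset.prod_mul_distrib]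
        refine Finset.prod_congr rfl fun i _ => ?_
        rw [← pow_add, Nat.add_sub_cancel' (hρlt i).le]
      rw [mul_pow, ← map_pow, hprod, map_mul, map_mul, ← h1, mul_assoc]
    obtain ⟨γ, hγ⟩ := mem_range_of_pow_mem_range x hx _ p hp ⟨_, h2.symm⟩
    have h3 : γ ^ p = β * ∏ i, x i ^ (p - ρ i) := by
      apply algebraMap_injective (B := B) x hx
      rw [map_pow, hγ, h2]
    have h4 : ∏ i, x i ∣ γ := by
      refine prod_dvd_of_forall_dvd_pow x hx hxa γ p fun i => ?_
      rw [h3]
      refine Dvd.dvd.mul_left ?_ _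
      exact (dvd_pow_self (x i) (by have := hρlt i; omega)).trans
        (Finset.dvd_prod_of_mem (fun i => x i ^ (p - ρ i)) (Finset.mem_univ i))
    obtain ⟨γ', rfl⟩ := h4
    refine ⟨γ', ?_⟩
    apply (isUnit_prod (B := B) x).mul_right_cancel
    rw [← hγ, map_mul, mul_comm]
  · rintro ⟨α, hα⟩
    refine ⟨α ^ p * ∏ i, x i ^ ρ i, ?_⟩
    rw [map_mul, map_pow, hα, hzn, mul_pow, ← pow_mul, mul_comm q p, mul_assoc]

/-- Let A be a unique factorisation domain of characteristic p, x_1, …, x_r pairwise non-associate prime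
elements of A, B = A[1/(x_1⋯x_r)] with u_i the unit of B defined by x_i, n ∈ ℤ^r and m ≥ 0. The
restriction map from truncated p-typical Witt vectors of length m+1 to those of length m over B
(forgetting the last coordinate) maps the filtered piece cut out by ∏ u_i ^ n_i onto the filtered
piece cut out by ∏ u_i ^ ⌊n_i / p⌋; that is, the image is exactly that piece. (The other parts of
the exact sequence, injectivity of the (m-fold) Verschiebung from the fractional ideal generated by
(∏ u_i ^ n_i)⁻¹ and exactness in the middle, are immediate from the definition and are not restated.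
The published setting is a regular local ring; only unique factorisation is used.) -/
theorem result (p : ℕ) [Fact p.Prime] {A B : Type u} [CommRing A] [IsDomain A]
    [UniqueFactorizationMonoid A] [CharP A p] [CommRing B] [Algebra A B] {r : ℕ} (x : Fin r → A)
    (hx : ∀ i, Prime (x i)) (hxa : ∀ i j, Associated (x i) (x j) → i = j)
    [IsLocalization.Away (∏ i, x i) B] (u : Fin r → Bˣ)
    (hu : ∀ i, (u i : B) = algebraMap A B (x i)) (n : Fin r → ℤ) (m : ℕ) :
    (TruncatedWittVector.truncate (Nat.le_succ m)) '' WittFil.fil p (m + 1) (A := A) (WittFil.zmon u n) =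
      WittFil.fil p m (A := A) (WittFil.zmon u (fun i => n i / (p : ℤ))) := by
  have hexp : ∀ j : Fin m, p ^ (m + 1 - 1 - (j : ℕ)) = p * p ^ (m - 1 - (j : ℕ)) := by
    intro j
    have := j.2
    rw [← pow_succ']
    congr 1
    omega
  ext b
  constructor
  · rintro ⟨a, ha, rfl⟩
    intro j
    rw [TruncatedWittVector.coeff_truncate]
    have h := ha (Fin.castLE (Nat.le_succ m) j)
    rw [Fin.val_castLE, hexp j, keyK p x hx hxa u hu] at h
    exact h
  · intro hb
    refine ⟨TruncatedWittVector.mk p (fun j : Fin (m + 1) =>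
      if h : (j : ℕ) < m then TruncatedWittVector.coeff ⟨j, h⟩ b else 0), ?_, ?_⟩
    · intro j
      rw [TruncatedWittVector.coeff_mk]
      by_cases h : (j : ℕ) < m
      · rw [dif_pos h]
        have := hb ⟨j, h⟩
        have he := hexp ⟨j, h⟩
        simp only at he this
        rw [he, keyK p x hx hxa u hu]
        exact this
      · rw [dif_neg h, zero_pow (pow_ne_zero _ (Fact.out : p.Prime).ne_zero), zero_mul]
        exact ⟨0, map_zero _⟩
    · apply TruncatedWittVector.ext
      intro i
      rw [TruncatedWittVector.coeff_truncate, TruncatedWittVector.coeff_mk, Fin.val_castLE,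
        dif_pos i.2]

end Groth.Agent.S19264
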