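import Groth.Statements.S19267
import Groth.Agent.Lib.Helper21.WittTeich
-- import your own Groth.Agent.* helpers here

set_option autoImplicit false
universe u
open WittFil

namespace Groth.Agent.S19267

theorem coeff_teich_mul (p : ℕ) [Fact p.Prime] {B : Type u} [CommRing B] (m : ℕ) (v : B)
    (a : TruncatedWittVector p m B) (j : Fin m) :
    TruncatedWittVector.coeff j (WittVector.truncate m (WittVector.teichmuller p v) * a) =
      v ^ p ^ (j : ℕ) * TruncatedWittVector.coeff j a := by
  obtain ⟨a', rfl⟩ := WittVector.truncate_surjective p m B a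
  rw [← map_mul, WittVector.coeff_truncate, WittVector.coeff_truncate,
    Groth.Agent.Lib.Helper21.WT.coeff_teichmuller_mul]

theorem key_iff (p : ℕ) [Fact p.Prime] {A B : Type u} [CommRing A] [CommRing B] [Algebra A B]
    (m : ℕ) (u : Bˣ) (n l : ℤ) (a : TruncatedWittVector p m B) :
    WittVector.truncate m (WittVector.teichmuller p ((u ^ l : Bˣ) : B)) * a ∈
        WittFil.fil p m (A := A) ((u ^ (n - (p : ℤ) ^ (m - 1) * l) : Bˣ) : B) ↔
      a ∈ WittFil.fil p m (A := A) ((u ^ n : Bˣ) : B) := by
  unfold WittFil.fil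
  simp only [Set.mem_ofPred_eq]
  refine forall_congr' fun j => ?_
  rw [coeff_teich_mul]
  have hj : (j : ℕ) + (m - 1 - (j : ℕ)) = m - 1 := by have := j.2; omega
  have hu : (((u ^ l : Bˣ) : B) ^ p ^ (j : ℕ) * TruncatedWittVector.coeff j a) ^ p ^ (m - 1 - (j : ℕ)) *
      ((u ^ (n - (p : ℤ) ^ (m - 1) * l) : Bˣ) : B) =
      TruncatedWittVector.coeff j a ^ p ^ (m - 1 - (j : ℕ)) * ((u ^ n : Bˣ) : B) := by
    rw [mul_pow, ← pow_mul, ← pow_add, hj]
    have h2 : ((u ^ n : Bˣ) : B) = ((u ^ l : Bˣ) : B) ^ p ^ (m - 1) *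
        ((u ^ (n - (p : ℤ) ^ (m - 1) * l) : Bˣ) : B) := by
      rw [← Units.val_pow_eq_pow_val, ← Units.val_mul, ← zpow_natCast, ← zpow_mul, ← zpow_add]
      congr 2
      push_cast
      ring
    rw [h2]
    ring
  rw [hu]

/-- Let A → B be a homomorphism of commutative rings, u a unit of B, m ≥ 0 and n, l integers. For an
element c of B call the filtered piece cut out by c the set of truncated p-typical Witt vectors of
length m over B whose j-th coordinate y_j satisfies: y_j ^ (p ^ (m-1-j)) · c lies in the image of A,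
for every j < m. Then the piece cut out by u ^ (n − p^(m−1)·l) is exactly the image of the piece cut
out by u ^ n under multiplication by the truncated Teichmüller representative [u ^ l]. (The
published case is B = S[[π]][1/π] over A = S[[π]] with u = π; the computation is the same in
general.) -/
theorem result (p : ℕ) [Fact p.Prime] {A B : Type u}
    [CommRing A] [CommRing B] [Algebra A B] (m : ℕ) (u : Bˣ) (n l : ℤ) :
    WittFil.fil p m (A := A) ((u ^ (n - (p : ℤ) ^ (m - 1) * l) : Bˣ) : B) =
      (fun a => WittVector.truncate m (WittVector.teichmuller p ((u ^ l : Bˣ) : B)) * a) ''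
        WittFil.fil p m (A := A) ((u ^ n : Bˣ) : B) := by
  have hinv : WittVector.truncate m (WittVector.teichmuller p ((u ^ l : Bˣ) : B)) *
      WittVector.truncate m (WittVector.teichmuller p ((u ^ (-l) : Bˣ) : B)) = 1 := by
    rw [← map_mul, ← map_mul, ← Units.val_mul, ← zpow_add, add_neg_cancel, zpow_zero, Units.val_one,
      map_one, map_one]
  ext a'
  constructor
  · intro ha'
    refine ⟨WittVector.truncate m (WittVector.teichmuller p ((u ^ (-l) : Bˣ) : B)) * a', ?_, ?_⟩
    · rw [← key_iff p m u n l, ← mul_assoc, hinv, one_mul]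
      exact ha'
    · change _ * (_ * a') = a'
      rw [← mul_assoc, hinv, one_mul]
  · rintro ⟨a, ha, rfl⟩
    exact (key_iff p m u n l a).mpr ha

end Groth.Agent.S19267
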