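import Groth.Statements.S19268
import Groth.Agent.Lib.Helper21.WittFilLib4
import Mathlib.RingTheory.PowerSeries.NoZeroDivisors
-- import your own Groth.Agent.* helpers here

set_option autoImplicit false
universe u
open WittFil

namespace Groth.Agent.S19268

/-- Let S be an integral domain of characteristic p, A = S[[π]] the power series ring, B = A[1/π] with u
the unit of B given by π, and let m > s ≥ 0 and i be an integer with s = 0 or p ∤ i; put n = p ^
(m−1−s) · i. For e in B write fil(e) for the set of truncated p-typical Witt vectors of length m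
over B whose j-th coordinate y_j satisfies y_j ^ (p ^ (m−1−j)) · e ∈ A for all j, and for a Witt
vector c over S let Φ(c) ∈ W_m(B) be the length-m truncation of V^s(c · [u ^ i]) (V the
Verschiebung, [ ] the Teichmüller map, c mapped to B). Then Φ induces a bijection from the
length-(m−s) truncated Witt vectors of S onto the graded piece fil(u^(−n)) / fil(u^(−n−1)): (1) Φ(c)
lies in fil(u^(−n)) for every c; (2) Φ(c) lies in fil(u^(−n−1)) exactly when the length-(m−s)
truncation of c is zero; (3) every element of fil(u^(−n)) is congruent to some Φ(c) modulo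
fil(u^(−n−1)). (Published for S a regular local Noetherian F-finite F_p-algebra; the argument uses
only that S is a domain.) -/
theorem result (p : ℕ) [Fact p.Prime] {S B : Type u} [CommRing S]
    [IsDomain S] [CharP S p] [CommRing B] [Algebra (PowerSeries S) B] [Algebra S B]
    [IsScalarTower S (PowerSeries S) B] [IsLocalization.Away (PowerSeries.X : PowerSeries S) B]
    (u : Bˣ) (hu : (u : B) = algebraMap (PowerSeries S) B PowerSeries.X) (m s : ℕ) (hs : s < m)
    (i : ℤ) (hsi : s = 0 ∨ ¬ ((p : ℤ) ∣ i)) :
    (∀ c : WittVector p S,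
        WittFil.vShiftTeich p m s ((u ^ i : Bˣ) : B) c ∈
          WittFil.fil p m (A := PowerSeries S) ((u ^ (-((p : ℤ) ^ (m - 1 - s) * i)) : Bˣ) : B)) ∧
      (∀ c : WittVector p S,
        WittFil.vShiftTeich p m s ((u ^ i : Bˣ) : B) c ∈
            WittFil.fil p m (A := PowerSeries S) ((u ^ (-((p : ℤ) ^ (m - 1 - s) * i) - 1) : Bˣ) : B) ↔
          WittVector.truncate (m - s) c = 0) ∧
      (∀ y ∈ WittFil.fil p m (A := PowerSeries S) ((u ^ (-((p : ℤ) ^ (m - 1 - s) * i)) : Bˣ) : B),
        ∃ c : WittVector p S,
          y - WittFil.vShiftTeich p m s ((u ^ i : Bˣ) : B) c ∈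
            WittFil.fil p m (A := PowerSeries S)
              ((u ^ (-((p : ℤ) ^ (m - 1 - s) * i) - 1) : Bˣ) : B)) := by
  have hπ : Prime (PowerSeries.X : PowerSeries S) := PowerSeries.X_prime
  have hinjA : Function.Injective (algebraMap (PowerSeries S) B) :=
    Groth.Agent.Lib.Helper21.WF.away_injective (B := B) PowerSeries.X hπ
  have hinjS : Function.Injective (algebraMap S B) := by
    rw [IsScalarTower.algebraMap_eq S (PowerSeries S) B]
    refine hinjA.comp ?_
    intro a b hab
    rw [PowerSeries.algebraMap_apply, PowerSeries.algebraMap_apply] at hab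
    exact PowerSeries.C_injective hab
  have : CharP B p := charP_of_injective_algebraMap hinjS p
  have hsec : ∀ a : PowerSeries S, ∃ c : S,
      (PowerSeries.X : PowerSeries S) ∣ a - algebraMap S (PowerSeries S) c := by
    intro a
    refine ⟨PowerSeries.constantCoeff a, ?_⟩
    rw [PowerSeries.X_dvd_iff, map_sub, PowerSeries.algebraMap_apply,
      PowerSeries.constantCoeff_C, Algebra.algebraMap_self, RingHom.id_apply, sub_self]
  have hinjS' : ∀ c : S, (PowerSeries.X : PowerSeries S) ∣ algebraMap S (PowerSeries S) c →
      c = 0 := by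
    intro c hc
    rw [PowerSeries.X_dvd_iff, PowerSeries.algebraMap_apply,
      PowerSeries.constantCoeff_C, Algebra.algebraMap_self, RingHom.id_apply] at hc
    exact hc
  refine ⟨fun c => ?_, fun c => ?_, fun y hy => ?_⟩
  · exact Groth.Agent.Lib.Helper21.WF.vShiftTeich_mem_fil u p m s hs i c
  · exact Groth.Agent.Lib.Helper21.WF.vShiftTeich_mem_fil_succ_iff PowerSeries.X hπ u hu p hinjS'
      m s hs i c
  · exact Groth.Agent.Lib.Helper21.WF.exists_sub_vShiftTeich_mem_fil PowerSeries.X hπ u hu p hsec
      m s hs i hsi y hy

end Groth.Agent.S19268
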