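import Groth.Statements.S19270
import Mathlib
import Groth.Agent.Lib.Helper20.CoeffFieldP

set_option autoImplicit false
universe u
open CAlg

namespace Groth.Agent.S19270


open IsLocalRing

open IsLocalRing in
/-- Let A be a regular local ring of prime characteristic p, of Krull dimension N, with maximal ideal
generated by x_1, …, x_N, and assume that the module Ω_A of absolute Kähler differentials of A
(differentials relative to ℤ, equivalently relative to the prime field) is a free A-module of finite
rank. Then dx_1, …, dx_N are part of a basis of Ω_A: there exist a basis b of Ω_A and an injection e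
of the indices 1, …, N into the index type of b with b (e i) = d(x_i) for all i. (In the published
statement A is a regular local F-finite algebra over the prime field and the freeness and finiteness
of Ω_A form the first assertion, taken there from the literature; here they are hypotheses.) -/
theorem result (p : ℕ) [Fact p.Prime]
    {A : Type u} [CommRing A] [IsRegularLocalRing A] [CharP A p]
    [Module.Free A (KaehlerDifferential ℤ A)] [Module.Finite A (KaehlerDifferential ℤ A)]
    {N : ℕ} (x : Fin N → A) (hx : Ideal.span (Set.range x) = maximalIdeal A)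
    (hN : ringKrullDim A = (N : WithBot ℕ∞)) :
    ∃ (ι : Type u) (b : Module.Basis ι A (KaehlerDifferential ℤ A)) (e : Fin N ↪ ι),
      ∀ i : Fin N, b (e i) = KaehlerDifferential.D ℤ A (x i) := by
  classical
  have hxm : ∀ i, x i ∈ maximalIdeal A := fun i => by
    rw [← hx]; exact Ideal.subset_span ⟨i, rfl⟩
  obtain ⟨D', hD'⟩ := Groth.Agent.Lib.Helper20.CoeffFieldP.exists_derivation_cotangent A p
  have hli0 := Groth.Agent.Lib.Helper20.CoeffFieldP.linearIndependent_toCotangent A x hx hN hxm
  let Ω := KaehlerDifferential ℤ A
  let k := ResidueField A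
  let L : Ω →ₗ[A] CotangentSpace A := D'.liftKaehlerDifferential
  let Lk : TensorProduct A k Ω →ₗ[k] CotangentSpace A := L.liftBaseChange k
  let w : Fin N → TensorProduct A k Ω := fun i => (1 : k) ⊗ₜ[A] KaehlerDifferential.D ℤ A (x i)
  have hLw : ∀ i, Lk (w i) = (maximalIdeal A).toCotangent ⟨x i, hxm i⟩ := by
    intro i
    simp only [Lk, w, LinearMap.liftBaseChange_tmul, one_smul, L]
    rw [Derivation.liftKaehlerDifferential_comp_D]
    exact hD' (x i) (hxm i)
  have hliw : LinearIndependent k w := by
    apply LinearIndependent.of_comp Lk
    have : (Lk ∘ w) = fun i => ((maximalIdeal A).toCotangent ⟨x i, hxm i⟩ : CotangentSpace A) :=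
      funext hLw
    rw [this]
    exact hli0
  have hwinj : Function.Injective w := hliw.injective
  have hli' : LinearIndepOn k id (Set.range w) := hliw.linearIndepOn_id
  let t : Set (TensorProduct A k Ω) := hli'.extend (Set.subset_univ _)
  let bk : Module.Basis t k (TensorProduct A k Ω) := Module.Basis.extend hli'
  have hbk : ∀ j : t, bk j = (j : TensorProduct A k Ω) := fun j => Module.Basis.extend_apply_self hli' j
  have hsub : Set.range w ⊆ t := Module.Basis.subset_extend hli'
  have hmks : Function.Surjective (TensorProduct.mk A k Ω 1) :=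
    TensorProduct.mk_surjective A Ω k residue_surjective
  let v : t → Ω := fun j =>
    if h : ∃ i, w i = (j : TensorProduct A k Ω) then KaehlerDifferential.D ℤ A (x h.choose)
    else Function.surjInv hmks (j : TensorProduct A k Ω)
  have hv : ∀ j : t, TensorProduct.mk A k Ω 1 (v j) = (j : TensorProduct A k Ω) := by
    intro j
    by_cases h : ∃ i, w i = (j : TensorProduct A k Ω)
    · simp only [v, dif_pos h]
      exact h.choose_spec
    · simp only [v, dif_neg h]
      exact Function.surjInv_eq hmks _
  have hcomp : (TensorProduct.mk A k Ω 1 ∘ v) = bk := by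
    funext j
    rw [Function.comp_apply, hv, hbk]
  have hli : LinearIndependent k (TensorProduct.mk A k Ω 1 ∘ v) := by
    rw [hcomp]; exact bk.linearIndependent
  have hsp : Submodule.span k (Set.range (TensorProduct.mk A k Ω 1 ∘ v)) = ⊤ := by
    rw [hcomp]; exact bk.span_eq
  have H : Function.Injective ((maximalIdeal A).subtype.rTensor Ω) :=
    Module.Flat.rTensor_preserves_injective_linearMap _ Subtype.val_injective
  have hfp : Module.FinitePresentation A Ω := Module.finitePresentation_of_projective A Ω
  obtain ⟨b, hb⟩ := Module.exists_basis_of_basis_baseChange v hli hsp H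
  refine ⟨t, b, ⟨fun i => ⟨w i, hsub ⟨i, rfl⟩⟩, ?_⟩, ?_⟩
  · intro i i' h
    exact hwinj (congrArg Subtype.val h)
  · intro i
    change b ⟨w i, hsub ⟨i, rfl⟩⟩ = _
    rw [hb]
    have h : ∃ i', w i' = ((⟨w i, hsub ⟨i, rfl⟩⟩ : t) : TensorProduct A k Ω) := ⟨i, rfl⟩
    simp only [v, dif_pos h]
    have : h.choose = i := hwinj h.choose_spec
    rw [this]

end Groth.Agent.S19270
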