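import Groth.Statements.S19272
import Groth.Agent.Lib.Helper21.WittFilLib
-- import your own Groth.Agent.* helpers here

set_option autoImplicit false
universe u
open WittFil

namespace Groth.Agent.S19272

/-- Let A be a unique factorisation domain of characteristic p, x_1, …, x_r pairwise non-associate prime
elements of A, B = A[1/(x_1⋯x_r)] with u_i the unit of B defined by x_i, m ≥ 0, and n ∈ ℤ^r with n_i
< 0 for every i. Then every truncated p-typical Witt vector of length m over B lying in the filtered
piece cut out by ∏ u_i ^ n_i (every coordinate y_j has y_j ^ (p ^ (m−1−j)) · ∏ u_i ^ n_i in the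
image of A) has all its coordinates in the image of the ideal (x_1⋯x_r)·A. (The published item,
stated for the filtered de Rham–Witt pieces in all degrees over a regular local ring, says only that
such vectors have all coordinates in A; this row states the divisibility of every coordinate by
x_1⋯x_r that its proof establishes, in degree zero, for a unique factorisation domain in place of a
regular local ring.) -/
theorem result (p : ℕ) [Fact p.Prime] {A B : Type u} [CommRing A] [IsDomain A]
    [UniqueFactorizationMonoid A] [CharP A p] [CommRing B] [Algebra A B] {r : ℕ} (x : Fin r → A)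
    (hx : ∀ i, Prime (x i)) (hxa : ∀ i j, Associated (x i) (x j) → i = j)
    [IsLocalization.Away (∏ i, x i) B] (u : Fin r → Bˣ)
    (hu : ∀ i, (u i : B) = algebraMap A B (x i)) (m : ℕ) (n : Fin r → ℤ) (hn : ∀ i, n i < 0)
    (a : TruncatedWittVector p m B) (ha : a ∈ WittFil.fil p m (A := A) (WittFil.zmon u n))
    (j : Fin m) :
    ∃ b : A, TruncatedWittVector.coeff j a = algebraMap A B ((∏ i, x i) * b) := by
  have hq : p ^ (m - 1 - (j : ℕ)) ≠ 0 := pow_ne_zero _ (Fact.out : p.Prime).ne_zero
  obtain ⟨α, hα⟩ := ha j
  -- exponents e i = -n i ≥ 1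
  set e : Fin r → ℕ := fun i => (-n i).toNat with he
  have he1 : ∀ i, 1 ≤ e i := by
    intro i
    have := hn i
    simp only [he]
    omega
  have hen : (fun i => ((e i : ℕ) : ℤ)) = -n := by
    ext i
    have := hn i
    simp only [he, Pi.neg_apply]
    omega
  have hz : WittFil.zmon u n * algebraMap A B (∏ i, x i ^ e i) = 1 := by
    rw [← Groth.Agent.Lib.Helper21.WF.zmon_natCast u x hu e, hen,
      Groth.Agent.Lib.Helper21.WF.zmon_mul_zmon_neg]
  have h1 : TruncatedWittVector.coeff j a ^ p ^ (m - 1 - (j : ℕ)) =
      algebraMap A B (α * ∏ i, x i ^ e i) := by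
    rw [map_mul, hα, mul_assoc, hz, mul_one]
  obtain ⟨γ, hγ⟩ := Groth.Agent.Lib.Helper21.WF.mem_range_of_pow_mem_range x hx _ _ hq ⟨_, h1.symm⟩
  have h2 : γ ^ p ^ (m - 1 - (j : ℕ)) = α * ∏ i, x i ^ e i := by
    apply Groth.Agent.Lib.Helper21.WF.algebraMap_injective (B := B) x hx
    rw [map_pow, hγ, h1]
  have h3 : ∏ i, x i ∣ γ := by
    refine Groth.Agent.Lib.Helper21.WF.prod_dvd_of_forall_dvd_pow x hx hxa γ (p ^ (m - 1 - (j : ℕ))) fun i => ?_
    rw [h2]
    refine Dvd.dvd.mul_left ?_ _
    exact (dvd_pow_self (x i) (by have := he1 i; omega)).trans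
      (Finset.dvd_prod_of_mem (fun i => x i ^ e i) (Finset.mem_univ i))
  obtain ⟨b, rfl⟩ := h3
  exact ⟨b, hγ.symm⟩

end Groth.Agent.S19272
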