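import Groth.Statements.S19273
import Mathlib.RingTheory.Etale.Kaehler
import Mathlib.LinearAlgebra.Basis.SMul
import Mathlib.RingTheory.TensorProduct.Free
-- import your own Groth.Agent.* helpers here

set_option autoImplicit false
universe u
open CAlg

namespace Groth.Agent.S19273

open KaehlerDifferential in
/-- Let A be an integral domain of prime characteristic p, x_1, …, x_N elements of A, r ≤ N, B =
A[1/(x_1⋯x_r)] with u_i the unit of B defined by x_i for i ≤ r, and suppose that the module Ω_A of
absolute Kähler differentials of A is free with a basis b indexed by {1, …, N} ⊔ ι whose i-th vector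
is d(x_i) for i ≤ N. Then the module of logarithmic 1-forms — the A-submodule of Ω_B spanned by the
image of Ω_A and the forms u_i⁻¹ · d(x_i), i ≤ r — is a free A-module: it has a basis indexed by {1,
…, N} ⊔ ι whose vector at i ≤ r is u_i⁻¹ · d(x_i), at r < i ≤ N is d(x_i), and at k ∈ ι is the image
of b_k. (In the published statement A is a regular local F-finite algebra over the prime field with
maximal ideal (x_1, …, x_N), the basis of Ω_A comes from the preceding lemma, and the assertion
covers the logarithmic q-forms for all q together with their identification with the log de Rham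
complex of the log ring; only the degree-one freeness is stated here, from the properties of A
actually used.) -/
theorem result (p : ℕ) [Fact p.Prime]
    {A B : Type u} [CommRing A] [IsDomain A] [CharP A p] [CommRing B] [Algebra A B] {r N : ℕ}
    (hr : r ≤ N) (x : Fin N → A) [IsLocalization.Away (∏ i : Fin r, x (Fin.castLE hr i)) B]
    (u : Fin r → Bˣ) (hu : ∀ i, (u i : B) = algebraMap A B (x (Fin.castLE hr i)))
    {ι : Type u} (b : Module.Basis (Fin N ⊕ ι) A (Ω[A⁄ℤ])) (hb : ∀ i, b (Sum.inl i) = D ℤ A (x i)) :
    ∃ e : Module.Basis (Fin N ⊕ ι) A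
        (W4c6katofilta.logForms1 (fun i : Fin r => x (Fin.castLE hr i)) u),
      (∀ i : Fin r, (e (Sum.inl (Fin.castLE hr i)) : Ω[B⁄ℤ]) =
          ((u i)⁻¹ : Bˣ) • KaehlerDifferential.map ℤ ℤ A B (D ℤ A (x (Fin.castLE hr i)))) ∧
      (∀ i : Fin N, r ≤ (i : ℕ) →
          (e (Sum.inl i) : Ω[B⁄ℤ]) = KaehlerDifferential.map ℤ ℤ A B (D ℤ A (x i))) ∧
      (∀ k : ι, (e (Sum.inr k) : Ω[B⁄ℤ]) = KaehlerDifferential.map ℤ ℤ A B (b (Sum.inr k))) := by
  classical
  have hx0 : ∀ i, x i ≠ 0 := by
    intro i h0
    have := b.ne_zero (Sum.inl i)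
    rw [hb, h0, map_zero] at this
    exact this rfl
  have hP0 : (∏ i : Fin r, x (Fin.castLE hr i)) ≠ 0 :=
    Finset.prod_ne_zero_iff.mpr fun i _ => hx0 _
  have hinj : Function.Injective (algebraMap A B) :=
    IsLocalization.injective B (M := Submonoid.powers (∏ i : Fin r, x (Fin.castLE hr i)))
      (powers_le_nonZeroDivisors_of_noZeroDivisors hP0)
  have hfe : Algebra.FormallyEtale A B :=
    Algebra.FormallyEtale.of_isLocalization (Rₘ := B)
      (Submonoid.powers (∏ i : Fin r, x (Fin.castLE hr i)))
  have hbc : IsBaseChange B (KaehlerDifferential.map ℤ ℤ A B) :=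
    KaehlerDifferential.isBaseChange_of_formallyEtale ℤ A B
  let β : Module.Basis (Fin N ⊕ ι) B (Ω[B⁄ℤ]) := (Algebra.TensorProduct.basis B b).map hbc.equiv
  have hβ : ∀ j, β j = KaehlerDifferential.map ℤ ℤ A B (b j) := by
    intro j
    rw [Module.Basis.map_apply, Algebra.TensorProduct.basis_apply, IsBaseChange.equiv_tmul,
      one_smul]
  let lam : Fin N ⊕ ι → Bˣ :=
    Sum.elim (fun i => if h : (i : ℕ) < r then (u ⟨i, h⟩)⁻¹ else 1) (fun _ => 1)
  let v : Fin N ⊕ ι → Ω[B⁄ℤ] := fun j => lam j • β j
  have hv1 : ∀ (i : Fin N) (h : (i : ℕ) < r), v (Sum.inl i) =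
      ((u ⟨i, h⟩)⁻¹ : Bˣ) • KaehlerDifferential.map ℤ ℤ A B (D ℤ A (x i)) := by
    intro i h
    change (if h : (i : ℕ) < r then (u ⟨i, h⟩)⁻¹ else 1) • β (Sum.inl i) = _
    rw [dif_pos h, hβ, hb]
  have hv2 : ∀ (i : Fin N), ¬ (i : ℕ) < r → v (Sum.inl i) =
      KaehlerDifferential.map ℤ ℤ A B (D ℤ A (x i)) := by
    intro i h
    change (if h : (i : ℕ) < r then (u ⟨i, h⟩)⁻¹ else 1) • β (Sum.inl i) = _
    rw [dif_neg h, one_smul, hβ, hb]
  have hv3 : ∀ k : ι, v (Sum.inr k) = KaehlerDifferential.map ℤ ℤ A B (b (Sum.inr k)) := by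
    intro k
    change (1 : Bˣ) • β (Sum.inr k) = _
    rw [one_smul, hβ]
  have hvB : LinearIndependent B v := by
    have h1 := (β.unitsSMul lam).linearIndependent
    have h2 : ⇑(β.unitsSMul lam) = v := by
      funext j
      rw [Module.Basis.unitsSMul_apply]
    rwa [h2] at h1
  have hvA : LinearIndependent A v := by
    refine hvB.restrict_scalars ?_
    intro a a' h
    apply hinj
    simpa [Algebra.smul_def] using h
  have hspan : Submodule.span A (Set.range v) =
      W4c6katofilta.logForms1 (fun i : Fin r => x (Fin.castLE hr i)) u := by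
    unfold W4c6katofilta.logForms1
    apply le_antisymm
    · rw [Submodule.span_le]
      rintro _ ⟨j, rfl⟩
      apply Submodule.subset_span
      rcases j with i | k
      · by_cases h : (i : ℕ) < r
        · right
          refine ⟨⟨i, h⟩, ?_⟩
          rw [hv1 i h]
          rfl
        · left
          rw [hv2 i h]
          exact ⟨_, rfl⟩
      · left
        rw [hv3]
        exact ⟨_, rfl⟩
    · rw [Submodule.span_le, Set.union_subset_iff]
      constructor
      · have hb' : ∀ j, KaehlerDifferential.map ℤ ℤ A B (b j) ∈ Submodule.span A (Set.range v) := by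
          intro j
          rcases j with i | k
          · by_cases h : (i : ℕ) < r
            · have : KaehlerDifferential.map ℤ ℤ A B (b (Sum.inl i)) =
                  x i • v (Sum.inl i) := by
                rw [hv1 i h, hb, Units.smul_def, ← algebraMap_smul B (x i), smul_smul]
                have : algebraMap A B (x i) * ((u ⟨i, h⟩)⁻¹ : Bˣ) = 1 := by
                  have h2 := hu ⟨i, h⟩
                  have h3 : Fin.castLE hr ⟨i, h⟩ = i := Fin.ext rfl
                  rw [h3] at h2
                  rw [← h2, Units.mul_inv]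
                rw [this, one_smul]
              rw [this]
              exact Submodule.smul_mem _ _ (Submodule.subset_span ⟨_, rfl⟩)
            · rw [hb, ← hv2 i h]
              exact Submodule.subset_span ⟨_, rfl⟩
          · rw [← hv3]
            exact Submodule.subset_span ⟨_, rfl⟩
        rintro _ ⟨ω, rfl⟩
        have hω : ω ∈ Submodule.span A (Set.range b) := by rw [b.span_eq]; trivial
        induction hω using Submodule.span_induction with
        | mem y hy =>
          obtain ⟨j, rfl⟩ := hy
          exact hb' j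
        | zero => rw [map_zero]; exact Submodule.zero_mem _
        | add y z _ _ hy hz => rw [map_add]; exact Submodule.add_mem _ hy hz
        | smul a y _ hy => rw [map_smul]; exact Submodule.smul_mem _ _ hy
      · rintro _ ⟨i, rfl⟩
        apply Submodule.subset_span
        refine ⟨Sum.inl (Fin.castLE hr i), ?_⟩
        rw [hv1 (Fin.castLE hr i) (by simp)]
        rfl
  let e := (Module.Basis.span hvA).map (LinearEquiv.ofEq _ _ hspan)
  have he : ∀ j, ((e j : W4c6katofilta.logForms1 (fun i : Fin r => x (Fin.castLE hr i)) u) :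
      Ω[B⁄ℤ]) = v j := by
    intro j
    change ((LinearEquiv.ofEq _ _ hspan (Module.Basis.span hvA j) : _) : Ω[B⁄ℤ]) = v j
    rw [LinearEquiv.coe_ofEq_apply, Module.Basis.coe_span_apply]
  refine ⟨e, fun i => ?_, fun i hi => ?_, fun k => ?_⟩
  · rw [he, hv1 (Fin.castLE hr i) (by simp)]
    rfl
  · rw [he, hv2 i (by omega)]
  · rw [he, hv3]

end Groth.Agent.S19273
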