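import Groth.Statements.S19274
import Groth.Agent.Lib.Helper21.WittFilLib
import Mathlib.RingTheory.WittVector.Domain
-- import your own Groth.Agent.* helpers here

set_option autoImplicit false
universe u
open WittFil

namespace Groth.Agent.S19274

theorem unit_zpow_natCast {A B : Type u} [CommRing A] [CommRing B] [Algebra A B] (x : A) (u : Bˣ)
    (hu : (u : B) = algebraMap A B x) (j : ℕ) : ((u ^ (j : ℤ) : Bˣ) : B) = algebraMap A B (x ^ j) := by
  rw [zpow_natCast, Units.val_pow_eq_pow_val, hu, map_pow]

theorem lemmaV {A B : Type u} [CommRing A] [IsDomain A] [UniqueFactorizationMonoid A]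
    [CommRing B] [Algebra A B] (x : A) (hx : Prime x) [IsLocalization.Away x B] (u : Bˣ)
    (hu : (u : B) = algebraMap A B x) (N : ℕ) (hN : N ≠ 0) (n : ℤ) (hn : ¬ ((N : ℤ) ∣ n)) (y0 : B)
    (h : y0 ^ N * ((u ^ n : Bˣ) : B) ∈ (algebraMap A B).range) :
    y0 ^ N * ((u ^ (n - 1) : Bˣ) : B) ∈ (algebraMap A B).range := by
  have hinj : Function.Injective (algebraMap A B) :=
    IsLocalization.injective B (M := Submonoid.powers x)
      (powers_le_nonZeroDivisors_of_noZeroDivisors hx.ne_zero)
  obtain ⟨k, c, hkc⟩ := IsLocalization.Away.surj x y0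
  rw [← map_pow, ← unit_zpow_natCast x u hu k] at hkc
  by_cases hc : c = 0
  · have hy0 : y0 = 0 := by
      rw [hc, map_zero] at hkc
      exact (Units.mul_left_eq_zero _).mp hkc
    rw [hy0, zero_pow hN, zero_mul]
    exact ⟨0, map_zero _⟩
  · obtain ⟨t, c', hc', rfl⟩ := WfDvdMonoid.max_power_factor hc hx.irreducible
    have hy0 : y0 = algebraMap A B c' * ((u ^ ((t : ℤ) - (k : ℤ)) : Bˣ) : B) := by
      apply (u ^ (k : ℤ)).isUnit.mul_right_cancel
      rw [hkc, mul_assoc, ← Units.val_mul, ← zpow_add, sub_add_cancel, map_mul,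
        unit_zpow_natCast x u hu t, mul_comm]
    set s : ℤ := (t : ℤ) - (k : ℤ) with hs
    have hpow : ∀ z : ℤ, y0 ^ N * ((u ^ z : Bˣ) : B) =
        algebraMap A B (c' ^ N) * ((u ^ (s * N + z) : Bˣ) : B) := by
      intro z
      rw [hy0, mul_pow, ← Units.val_pow_eq_pow_val, ← zpow_natCast, ← zpow_mul, mul_assoc,
        ← Units.val_mul, ← zpow_add, map_pow]
    obtain ⟨β, hβ⟩ := h
    have he0 : s * N + n ≠ 0 := by
      intro he
      apply hn
      exact ⟨-s, by linarith⟩
    rcases lt_or_gt_of_ne he0 with hneg | hpos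
    · exfalso
      apply hc'
      have h1 : algebraMap A B (β * x ^ (-(s * N + n)).toNat) = algebraMap A B (c' ^ N) := by
        rw [map_mul, hβ, hpow n, ← unit_zpow_natCast x u hu, Int.toNat_of_nonneg (by omega),
          mul_assoc, ← Units.val_mul, ← zpow_add, add_neg_cancel, zpow_zero, Units.val_one, mul_one]
      have h2 := hinj h1
      have h3 : x ∣ c' ^ N := by
        rw [← h2]
        refine Dvd.dvd.mul_left (dvd_pow_self x ?_) _
        omega
      exact hx.dvd_of_dvd_pow h3
    · refine ⟨c' ^ N * x ^ (s * N + n - 1).toNat, ?_⟩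
      rw [hpow (n - 1), map_mul, ← unit_zpow_natCast x u hu, Int.toNat_of_nonneg (by omega)]
      congr 3
      ring

/-- Let A be a unique factorisation domain of characteristic p, x a prime element of A, B = A[1/x] with
u the unit of B defined by x, m ≥ 1, and n an integer NOT divisible by p^m. For e in B and k ≥ 0
write fil_k(e) for the set of truncated p-typical Witt vectors of length k over B whose j-th
coordinate y_j satisfies y_j ^ (p ^ (k−1−j)) · e ∈ A for all j < k (the filtered piece; fil_k(u^n)
is the piece of index n). Then fil_{m+1}(u^n) is contained in fil_{m+1}(u^(n−1)) + V(fil_m(u^n))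
(the reverse inclusion is immediate): every a in fil_{m+1}(u^n) can be written a = b + V(y) with b
in fil_{m+1}(u^(n−1)) and y a Witt vector over B whose length-m truncation lies in fil_m(u^n), V(y)
being truncated to length m+1. (In the source A is a henselian discrete valuation ring, n = p^r·l >
1 with p not dividing l, and the condition reads m ≥ r + 1.) -/
theorem result (p : ℕ) [Fact p.Prime]
    {A B : Type u} [CommRing A] [IsDomain A] [UniqueFactorizationMonoid A] [CharP A p]
    [CommRing B] [Algebra A B] (x : A) (hx : Prime x) [IsLocalization.Away x B] (u : Bˣ)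
    (hu : (u : B) = algebraMap A B x) (m : ℕ) (hm : 0 < m) (n : ℤ) (hn : ¬ ((p : ℤ) ^ m ∣ n)) :
    ∀ a ∈ WittFil.fil p (m + 1) (A := A) ((u ^ n : Bˣ) : B),
      ∃ b ∈ WittFil.fil p (m + 1) (A := A) ((u ^ (n - 1) : Bˣ) : B),
        ∃ y : WittVector p B,
          WittVector.truncate m y ∈ WittFil.fil p m (A := A) ((u ^ n : Bˣ) : B) ∧
            a = b + WittVector.truncate (m + 1) (WittVector.verschiebung y) := by
  intro a ha
  obtain ⟨a', rfl⟩ := WittVector.truncate_surjective p (m + 1) B a
  have hdec : a' = WittVector.teichmuller p (a'.coeff 0) + WittVector.verschiebung (a'.shift 1) := by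
    ext k
    rw [WittVector.coeff_add_of_disjoint]
    · cases k with
      | zero => rw [WittVector.teichmuller_coeff_zero, WittVector.verschiebung_coeff_zero, add_zero]
      | succ k =>
        rw [WittVector.teichmuller_coeff_pos p _ _ (Nat.succ_pos k),
          WittVector.verschiebung_coeff_succ, WittVector.shift_coeff, zero_add, add_comm]
    · intro k
      cases k with
      | zero => right; exact WittVector.verschiebung_coeff_zero _
      | succ k => left; exact WittVector.teichmuller_coeff_pos p _ _ (Nat.succ_pos k)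
  refine ⟨WittVector.truncate (m + 1) (WittVector.teichmuller p (a'.coeff 0)), ?_, a'.shift 1, ?_, ?_⟩
  · intro j
    rw [WittVector.coeff_truncate]
    rcases j with ⟨_ | i, hj⟩
    · change (WittVector.teichmuller p (a'.coeff 0)).coeff 0 ^ p ^ (m + 1 - 1 - 0) * _ ∈ _
      rw [WittVector.teichmuller_coeff_zero]
      have h0 := ha ⟨0, Nat.succ_pos m⟩
      rw [WittVector.coeff_truncate] at h0
      change a'.coeff 0 ^ p ^ (m + 1 - 1 - 0) * _ ∈ _ at h0
      have hNm : m + 1 - 1 - 0 = m := by omega
      rw [hNm] at h0 ⊢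
      refine lemmaV x hx u hu (p ^ m) (pow_ne_zero _ (Fact.out : p.Prime).ne_zero) n ?_ _ h0
      rwa [Nat.cast_pow]
    · change (WittVector.teichmuller p (a'.coeff 0)).coeff (i + 1) ^ p ^ (m + 1 - 1 - (i + 1)) * _ ∈ _
      rw [WittVector.teichmuller_coeff_pos p _ _ (Nat.succ_pos i),
        zero_pow (pow_ne_zero _ (Fact.out : p.Prime).ne_zero), zero_mul]
      exact ⟨0, map_zero _⟩
  · intro j
    rw [WittVector.coeff_truncate, WittVector.shift_coeff]
    have hj : 1 + (j : ℕ) < m + 1 := by have := j.2; omega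
    have h1 := ha ⟨1 + (j : ℕ), hj⟩
    rw [WittVector.coeff_truncate] at h1
    have he : m + 1 - 1 - (1 + (j : ℕ)) = m - 1 - (j : ℕ) := by omega
    change a'.coeff (1 + (j : ℕ)) ^ p ^ (m + 1 - 1 - (1 + (j : ℕ))) * _ ∈ _ at h1
    rw [he] at h1
    exact h1
  · rw [← map_add, ← hdec]

end Groth.Agent.S19274
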