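import Groth.Statements.S19275
import Mathlib.RingTheory.Flat.Basic
import Mathlib.Algebra.Module.Projective
import Mathlib.LinearAlgebra.TensorProduct.RightExactness
-- import your own Groth.Agent.* helpers here

set_option autoImplicit false
universe u v w
open Hoch

namespace Groth.Agent.S19275

open TensorProduct

section abstract

variable {K : Type u} [CommRing K] {R : Type w} [CommRing R] [Algebra K R] [Module.Flat K R]
  {C C'' : Type v} [AddCommGroup C] [Module K C] [AddCommGroup C''] [Module K C'']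
  (d : C →ₗ[K] C'') (B : Submodule K C)
  {D D'' : Type (max w v)} [AddCommGroup D] [Module R D] [AddCommGroup D''] [Module R D'']
  (dR : D →ₗ[R] D'') (BR : Submodule R D)
  (φ : R ⊗[K] C ≃ₗ[R] D) (φ'' : R ⊗[K] C'' ≃ₗ[R] D'')

theorem bc_injective {M N : Type*} [AddCommGroup M] [Module K M] [AddCommGroup N] [Module K N]
    (f : M →ₗ[K] N) (hf : Function.Injective f) : Function.Injective (f.baseChange R) := by
  rw [LinearMap.baseChange_eq_ltensor]
  exact Module.Flat.lTensor_preserves_injective_linearMap f hf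

theorem bc_exact {M N P : Type*} [AddCommGroup M] [Module K M] [AddCommGroup N] [Module K N]
    [AddCommGroup P] [Module K P]
    (f : M →ₗ[K] N) (g : N →ₗ[K] P) (h : Function.Exact f g) :
    Function.Exact (f.baseChange R) (g.baseChange R) := by
  rw [LinearMap.baseChange_eq_ltensor, LinearMap.baseChange_eq_ltensor]
  exact Module.Flat.lTensor_exact R h

theorem bc_surjective {M N : Type*} [AddCommGroup M] [Module K M] [AddCommGroup N] [Module K N]
    (f : M →ₗ[K] N) (hf : Function.Surjective f) : Function.Surjective (f.baseChange R) := by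
  rw [LinearMap.baseChange_eq_ltensor]
  exact LinearMap.lTensor_surjective R hf

theorem mem_ker_of_bc (hd : ∀ x, φ'' (d.baseChange R x) = dR (φ x))
    (y : R ⊗[K] (LinearMap.ker d)) :
    φ ((LinearMap.ker d).subtype.baseChange R y) ∈ LinearMap.ker dR := by
  rw [LinearMap.mem_ker, ← hd, ← LinearMap.comp_apply, ← LinearMap.baseChange_comp]
  have : d ∘ₗ (LinearMap.ker d).subtype = 0 := by
    ext z; exact z.2
  rw [this, LinearMap.baseChange_zero, LinearMap.zero_apply, map_zero]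

/-- the comparison map on cocycles -/
noncomputable def g0 (hd : ∀ x, φ'' (d.baseChange R x) = dR (φ x)) :
    R ⊗[K] (LinearMap.ker d) →ₗ[R] LinearMap.ker dR :=
  LinearMap.codRestrict (LinearMap.ker dR) (φ.toLinearMap ∘ₗ (LinearMap.ker d).subtype.baseChange R)
    (mem_ker_of_bc d dR φ φ'' hd)

theorem g0_coe (hd : ∀ x, φ'' (d.baseChange R x) = dR (φ x)) (y : R ⊗[K] (LinearMap.ker d)) :
    ((g0 d dR φ φ'' hd y : LinearMap.ker dR) : D) = φ ((LinearMap.ker d).subtype.baseChange R y) := rfl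

theorem g0_surjective (hd : ∀ x, φ'' (d.baseChange R x) = dR (φ x)) :
    Function.Surjective (g0 d dR φ φ'' hd) := by
  intro z'
  have h1 : d.baseChange R (φ.symm z'.1) = 0 := by
    apply φ''.injective
    rw [hd, LinearEquiv.apply_symm_apply, map_zero]
    exact z'.2
  obtain ⟨y, hy⟩ := (bc_exact (R := R) _ _ (LinearMap.exact_subtype_ker_map d) _).1 h1
  refine ⟨y, Subtype.ext ?_⟩
  rw [g0_coe, hy, LinearEquiv.apply_symm_apply]

theorem H_baseChange (hd : ∀ x, φ'' (d.baseChange R x) = dR (φ x))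
    (hB : ∀ y, φ y ∈ BR ↔ B.mkQ.baseChange R y = 0) :
    ∃ e : R ⊗[K] (LinearMap.ker d ⧸ B.comap (LinearMap.ker d).subtype) ≃ₗ[R]
        (LinearMap.ker dR ⧸ BR.comap (LinearMap.ker dR).subtype),
      ∀ (r : R) (z : LinearMap.ker d) (hz : φ (r ⊗ₜ[K] (z : C)) ∈ LinearMap.ker dR),
        e (r ⊗ₜ[K] (B.comap (LinearMap.ker d).subtype).mkQ z) =
          (BR.comap (LinearMap.ker dR).subtype).mkQ ⟨φ (r ⊗ₜ[K] (z : C)), hz⟩ := by
  obtain ⟨Z, hZ⟩ : ∃ Z, Z = LinearMap.ker d := ⟨_, rfl⟩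
  obtain ⟨B', hB'⟩ : ∃ B' : Submodule K (LinearMap.ker d), B' = B.comap (LinearMap.ker d).subtype :=
    ⟨_, rfl⟩
  obtain ⟨BR', hBR'⟩ : ∃ BR' : Submodule R (LinearMap.ker dR),
    BR' = BR.comap (LinearMap.ker dR).subtype := ⟨_, rfl⟩
  rw [← hB', ← hBR']
  -- the two surjections
  obtain ⟨g, hg⟩ : ∃ g : R ⊗[K] (LinearMap.ker d) →ₗ[R] (LinearMap.ker dR ⧸ BR'),
    g = BR'.mkQ ∘ₗ g0 d dR φ φ'' hd := ⟨_, rfl⟩
  obtain ⟨h, hh⟩ : ∃ h : R ⊗[K] (LinearMap.ker d) →ₗ[R] R ⊗[K] (LinearMap.ker d ⧸ B'),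
    h = B'.mkQ.baseChange R := ⟨_, rfl⟩
  have hgs : Function.Surjective g := by
    rw [hg]
    exact (Submodule.mkQ_surjective _).comp (g0_surjective d dR φ φ'' hd)
  have hhs : Function.Surjective h := by
    rw [hh]
    exact bc_surjective _ (Submodule.mkQ_surjective _)
  -- the injection Z/B' → C/B
  have hle : B' ≤ LinearMap.ker (B.mkQ ∘ₗ (LinearMap.ker d).subtype) := by
    intro z hz
    rw [hB'] at hz
    rw [LinearMap.mem_ker, LinearMap.comp_apply, Submodule.mkQ_apply, Submodule.Quotient.mk_eq_zero]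
    exact hz
  obtain ⟨ibar, hibar⟩ : ∃ ibar : (LinearMap.ker d ⧸ B') →ₗ[K] (C ⧸ B),
    ibar = B'.liftQ (B.mkQ ∘ₗ (LinearMap.ker d).subtype) hle := ⟨_, rfl⟩
  have hibar_inj : Function.Injective ibar := by
    rw [← LinearMap.ker_eq_bot, hibar, Submodule.ker_liftQ]
    have : LinearMap.ker (B.mkQ ∘ₗ (LinearMap.ker d).subtype) = B' := by
      rw [hB', LinearMap.ker_comp, Submodule.ker_mkQ]
    rw [this, Submodule.mkQ_map_self]
  have hcomp : ibar ∘ₗ B'.mkQ = B.mkQ ∘ₗ (LinearMap.ker d).subtype := by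
    rw [hibar, Submodule.liftQ_mkQ]
  have hker : LinearMap.ker h = LinearMap.ker g := by
    ext y
    rw [LinearMap.mem_ker, LinearMap.mem_ker, hg, LinearMap.comp_apply, Submodule.mkQ_apply,
      Submodule.Quotient.mk_eq_zero, hBR', Submodule.mem_comap, Submodule.subtype_apply, g0_coe, hB,
      ← LinearMap.comp_apply, ← LinearMap.baseChange_comp, ← hcomp, LinearMap.baseChange_comp,
      LinearMap.comp_apply, hh]
    constructor
    · intro h0
      rw [h0, map_zero]
    · intro h0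
      exact bc_injective ibar hibar_inj (by rw [h0, map_zero])
  refine ⟨(h.quotKerEquivOfSurjective hhs).symm ≪≫ₗ Submodule.quotEquivOfEq _ _ hker ≪≫ₗ
    g.quotKerEquivOfSurjective hgs, ?_⟩
  intro r z hz
  have e1 : r ⊗ₜ[K] B'.mkQ z = h (r ⊗ₜ[K] z) := by rw [hh, LinearMap.baseChange_tmul]
  rw [e1, LinearEquiv.trans_apply, LinearEquiv.trans_apply,
    LinearMap.quotKerEquivOfSurjective_symm_apply, Submodule.quotEquivOfEq_mk,
    LinearMap.quotKerEquivOfSurjective_apply_mk, hg, LinearMap.comp_apply]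
  congr 1

end abstract

section helpers

variable (K : Type u) [Field K] (A : Type v) [CommRing A] [HopfAlgebra K A]
  (V : Type v) [AddCommGroup V] [Module K V] [HopfRep.Comod K A V]
  (R : Type w) [CommRing R] [Algebra K R]

/-- `θ_M : (R ⊗ C) ⊗[K] A ≃ ...`: the step equivalence. -/
noncomputable def stepEquiv (C : Type v) [AddCommGroup C] [Module K C]
    (M : Type (max w v)) [AddCommGroup M] [Module R M] (e : R ⊗[K] C ≃ₗ[R] M) :
    R ⊗[K] (C ⊗[K] A) ≃ₗ[R] M ⊗[R] (R ⊗[K] A) :=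
  (AlgebraTensorModule.assoc K K R R C A).symm ≪≫ₗ
    (AlgebraTensorModule.cancelBaseChange K R R (R ⊗[K] C) A).symm ≪≫ₗ
      TensorProduct.congr e (LinearEquiv.refl R (R ⊗[K] A))

theorem stepEquiv_tmul (C : Type v) [AddCommGroup C] [Module K C]
    (M : Type (max w v)) [AddCommGroup M] [Module R M] (e : R ⊗[K] C ≃ₗ[R] M)
    (r : R) (c : C) (a : A) :
    stepEquiv K A R C M e (r ⊗ₜ[K] (c ⊗ₜ[K] a)) = e (r ⊗ₜ[K] c) ⊗ₜ[R] ((1 : R) ⊗ₜ[K] a) := by
  simp [stepEquiv]

/-- the canonical comparison equivalences -/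
noncomputable def phiEquiv : (n : ℕ) →
    (R ⊗[K] (Hoch.cochain K A V n) ≃ₗ[R] (Hoch.cochain R (R ⊗[K] A) (R ⊗[K] V) n))
  | 0 => LinearEquiv.refl R (R ⊗[K] V)
  | n + 1 => stepEquiv K A R (Hoch.cochain K A V n) (Hoch.cochain R (R ⊗[K] A) (R ⊗[K] V) n)
      (phiEquiv n)

theorem phiEquiv_zero (x : R ⊗[K] V) : phiEquiv K A V R 0 x = x := rfl

theorem phiEquiv_succ (n : ℕ) (r : R) (c : Hoch.cochain K A V n) (a : A) :
    phiEquiv K A V R (n + 1) (r ⊗ₜ[K] (c ⊗ₜ[K] a)) =
      (phiEquiv K A V R n (r ⊗ₜ[K] c)) ⊗ₜ[R] ((1 : R) ⊗ₜ[K] a) :=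
  stepEquiv_tmul K A R _ _ _ r c a

theorem phi_eq
    (φ : ∀ n : ℕ, R ⊗[K] (Hoch.cochain K A V n) →ₗ[R] (Hoch.cochain R (R ⊗[K] A) (R ⊗[K] V) n))
    (hφ0 : ∀ x : R ⊗[K] V, φ 0 x = x)
    (hφs : ∀ (n : ℕ) (r : R) (c : Hoch.cochain K A V n) (a : A),
      φ (n + 1) (r ⊗ₜ[K] (c ⊗ₜ[K] a)) = (φ n (r ⊗ₜ[K] c)) ⊗ₜ[R] ((1 : R) ⊗ₜ[K] a)) (n : ℕ) :
    φ n = (phiEquiv K A V R n).toLinearMap := by
  induction n with
  | zero => exact LinearMap.ext fun x => by rw [hφ0]; rfl
  | succ n ih =>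
    refine LinearMap.ext fun x => ?_
    induction x using TensorProduct.induction_on with
    | zero => simp
    | tmul r y =>
      induction y using TensorProduct.induction_on with
      | zero => simp
      | tmul c a =>
        rw [hφs, ih]
        exact (phiEquiv_succ K A V R n r c a).symm
      | add y₁ y₂ h₁ h₂ => rw [tmul_add, map_add, map_add, h₁, h₂]
    | add x₁ x₂ h₁ h₂ => rw [map_add, map_add, h₁, h₂]

local instance bcInst : HopfRep.Comod R (R ⊗[K] A) (R ⊗[K] V) := CoactBr.Comod.baseChange K R A V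

theorem phiEquiv_one_coact (r : R) (z : V ⊗[K] A) :
    phiEquiv K A V R 1 (r ⊗ₜ[K] z) =
      AlgebraTensorModule.tensorTensorTensorComm K R K R R R V A (((1 : R) ⊗ₜ[R] r) ⊗ₜ[K] z) := by
  induction z using TensorProduct.induction_on with
  | zero => simp
  | tmul v a =>
    rw [phiEquiv_succ, phiEquiv_zero]
    simp only [AlgebraTensorModule.tensorTensorTensorComm_tmul]
    have e1 : r ⊗ₜ[K] v = r • ((1 : R) ⊗ₜ[K] v) := by rw [smul_tmul', smul_eq_mul, mul_one]
    have e2 : r ⊗ₜ[K] a = r • ((1 : R) ⊗ₜ[K] a) := by rw [smul_tmul', smul_eq_mul, mul_one]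
    rw [e1, e2, smul_tmul]
  | add z₁ z₂ h₁ h₂ => rw [tmul_add, tmul_add, map_add, map_add, h₁, h₂]

theorem chain_zero (x : R ⊗[K] V) :
    phiEquiv K A V R 1 ((Hoch.d K A V 0).baseChange R x) =
      Hoch.d R (R ⊗[K] A) (R ⊗[K] V) 0 (phiEquiv K A V R 0 x) := by
  induction x using TensorProduct.induction_on with
  | zero => simp
  | tmul r v =>
    rw [LinearMap.baseChange_tmul, Hoch.d_zero_apply, phiEquiv_zero, Hoch.d_zero_apply, tmul_sub,
      map_sub, phiEquiv_one_coact, phiEquiv_succ, phiEquiv_zero]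
    rfl
  | add x₁ x₂ h₁ h₂ => rw [map_add, map_add, map_add, map_add, h₁, h₂]

/-- `A ⊗ A → (R ⊗ A) ⊗[R] (R ⊗ A)` -/
noncomputable def iota2 : A ⊗[K] A →ₗ[K] (R ⊗[K] A) ⊗[R] (R ⊗[K] A) :=
  ((AlgebraTensorModule.tensorTensorTensorComm K R K R R R A A).toLinearMap.restrictScalars K) ∘ₗ
    (TensorProduct.mk K (R ⊗[R] R) (A ⊗[K] A) ((1 : R) ⊗ₜ[R] (1 : R)))

theorem iota2_tmul (a b : A) :
    iota2 K A R (a ⊗ₜ[K] b) = ((1 : R) ⊗ₜ[K] a) ⊗ₜ[R] ((1 : R) ⊗ₜ[K] b) := by
  simp [iota2]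

theorem redComul_bc (a : A) :
    Hoch.redComul R (R ⊗[K] A) ((1 : R) ⊗ₜ[K] a) = iota2 K A R (Hoch.redComul K A a) := by
  rw [Hoch.redComul_apply, Hoch.redComul_apply, map_sub, map_sub, iota2_tmul, iota2_tmul]
  rfl

theorem tail_lemma (n : ℕ) (r : R) (c : Hoch.cochain K A V n) (z : A ⊗[K] A) :
    phiEquiv K A V R (n + 2) (r ⊗ₜ[K] ((TensorProduct.assoc K (Hoch.cochain K A V n) A A).symm (c ⊗ₜ[K] z))) =
      (TensorProduct.assoc R (Hoch.cochain R (R ⊗[K] A) (R ⊗[K] V) n) (R ⊗[K] A) (R ⊗[K] A)).symm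
        ((phiEquiv K A V R n (r ⊗ₜ[K] c)) ⊗ₜ[R] iota2 K A R z) := by
  induction z using TensorProduct.induction_on with
  | zero => simp
  | tmul a b =>
    rw [TensorProduct.assoc_symm_tmul, phiEquiv_succ, phiEquiv_succ, iota2_tmul,
      TensorProduct.assoc_symm_tmul]
  | add z₁ z₂ h₁ h₂ =>
    rw [tmul_add, map_add, tmul_add, map_add, map_add, tmul_add, map_add, h₁, h₂]

theorem chain_succ (n : ℕ)
    (ih : ∀ x, phiEquiv K A V R (n + 1) ((Hoch.d K A V n).baseChange R x) =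
      Hoch.d R (R ⊗[K] A) (R ⊗[K] V) n (phiEquiv K A V R n x))
    (x : R ⊗[K] (Hoch.cochain K A V (n + 1))) :
    phiEquiv K A V R (n + 2) ((Hoch.d K A V (n + 1)).baseChange R x) =
      Hoch.d R (R ⊗[K] A) (R ⊗[K] V) (n + 1) (phiEquiv K A V R (n + 1) x) := by
  induction x using TensorProduct.induction_on with
  | zero => simp
  | tmul r y =>
    induction y using TensorProduct.induction_on with
    | zero => simp
    | tmul c a =>
      rw [LinearMap.baseChange_tmul, Hoch.d_succ, Hoch.d_succ, phiEquiv_succ]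
      simp only [LinearMap.add_apply, LinearMap.smul_apply, LinearMap.rTensor_tmul, Hoch.tail_tmul]
      rw [tmul_add, map_add, phiEquiv_succ, ← LinearMap.baseChange_tmul, ih]
      rw [← Hoch.redComul_apply, ← Hoch.redComul_apply, redComul_bc]
      congr 1
      rcases Nat.even_or_odd (n + 1) with h | h
      · rw [h.neg_one_pow, h.neg_one_pow, one_smul, one_smul, tail_lemma]
      · rw [h.neg_one_pow, h.neg_one_pow, neg_smul, neg_smul, one_smul, one_smul, tmul_neg, map_neg,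
          tail_lemma]
    | add y₁ y₂ h₁ h₂ => rw [tmul_add, map_add, map_add, map_add, map_add, h₁, h₂]
  | add x₁ x₂ h₁ h₂ => rw [map_add, map_add, map_add, map_add, h₁, h₂]


theorem chain (n : ℕ) (x : R ⊗[K] (Hoch.cochain K A V n)) :
    phiEquiv K A V R (n + 1) ((Hoch.d K A V n).baseChange R x) =
      Hoch.d R (R ⊗[K] A) (R ⊗[K] V) n (phiEquiv K A V R n x) := by
  induction n with
  | zero => exact chain_zero K A V R x
  | succ n ih => exact chain_succ K A V R n ih x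

theorem hB_zero (y : R ⊗[K] (Hoch.cochain K A V 0)) :
    phiEquiv K A V R 0 y ∈ Hoch.coboundaries R (R ⊗[K] A) (R ⊗[K] V) 0 ↔
      (Hoch.coboundaries K A V 0).mkQ.baseChange R y = 0 := by
  change phiEquiv K A V R 0 y ∈ (⊥ : Submodule R (R ⊗[K] V)) ↔
    (⊥ : Submodule K V).mkQ.baseChange R y = 0
  have hinj : Function.Injective ((⊥ : Submodule K V).mkQ.baseChange R) := by
    apply bc_injective
    rw [← LinearMap.ker_eq_bot, Submodule.ker_mkQ]
  rw [Submodule.mem_bot, LinearEquiv.map_eq_zero_iff]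
  constructor
  · intro h; rw [h, map_zero]
  · intro h; exact hinj (by rw [h, map_zero])

theorem hB_succ (m : ℕ) (y : R ⊗[K] (Hoch.cochain K A V (m + 1))) :
    phiEquiv K A V R (m + 1) y ∈ Hoch.coboundaries R (R ⊗[K] A) (R ⊗[K] V) (m + 1) ↔
      (Hoch.coboundaries K A V (m + 1)).mkQ.baseChange R y = 0 := by
  change phiEquiv K A V R (m + 1) y ∈ LinearMap.range (Hoch.d R (R ⊗[K] A) (R ⊗[K] V) m) ↔
    (LinearMap.range (Hoch.d K A V m)).mkQ.baseChange R y = 0
  have hex := bc_exact (R := R) _ _ (LinearMap.exact_map_mkQ_range (Hoch.d K A V m))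
  rw [hex y]
  constructor
  · rintro ⟨w, hw⟩
    refine ⟨(phiEquiv K A V R m).symm w, ?_⟩
    apply (phiEquiv K A V R (m + 1)).injective
    rw [chain, LinearEquiv.apply_symm_apply, hw]
  · rintro ⟨w', hw'⟩
    refine ⟨phiEquiv K A V R m w', ?_⟩
    rw [← chain, hw']

end helpers

open TensorProduct in

open TensorProduct in
/-- In the case of an affine group scheme over a field (a K-groupoid acting on Spec K itself),
cohomology commutes with arbitrary base change. Precisely: let K be a field, A a commutative Hopf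
algebra over K (the coordinate ring of an affine K-group scheme G), V a right A-comodule (a linear
representation of G) and R any commutative K-algebra. Give R ⊗ V the base-changed comodule structure
over the R-bialgebra R ⊗ A, whose coaction sends r ⊗ v to the image of r ⊗ ρ(v) under the canonical
identification of R ⊗ (V ⊗ A) with (R ⊗ V) ⊗_R (R ⊗ A), and let φ_n : R ⊗ C^n(A, V) → C^n(R ⊗ A, R ⊗
V) be the canonical R-linear maps between the Hochschild cochain modules, determined by φ_0 = id and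
φ_{n+1}(r ⊗ (c ⊗ a)) = φ_n(r ⊗ c) ⊗ (1 ⊗ a). Then every φ_n is bijective, the φ_n commute with the
Hochschild differentials, and for every n there is an R-linear isomorphism R ⊗ H^n(A, V) ≅ H^n(R ⊗
A, R ⊗ V) sending r ⊗ [z] to [φ_n(r ⊗ z)] for every n-cocycle z. (The published statement is for an
affine K-groupoid acting on the spectrum of a finite extension L of K and its coherent
representations, with K of characteristic 0; this is its case L = K, in which the cochain complex of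
a representation is the Hochschild complex of the comodule; V is not assumed finite-dimensional and
K may be any field.) -/
theorem result
    (K : Type u) [Field K] (A : Type v) [CommRing A] [HopfAlgebra K A]
    (V : Type v) [AddCommGroup V] [Module K V] [HopfRep.Comod K A V]
    (R : Type w) [CommRing R] [Algebra K R]
    (φ : ∀ n : ℕ, R ⊗[K] (Hoch.cochain K A V n) →ₗ[R] (Hoch.cochain R (R ⊗[K] A) (R ⊗[K] V) n))
    (hφ0 : ∀ x : R ⊗[K] V, φ 0 x = x)
    (hφs : ∀ (n : ℕ) (r : R) (c : Hoch.cochain K A V n) (a : A),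
      φ (n + 1) (r ⊗ₜ[K] (c ⊗ₜ[K] a)) = (φ n (r ⊗ₜ[K] c)) ⊗ₜ[R] ((1 : R) ⊗ₜ[K] a)) :
    letI := CoactBr.Comod.baseChange K R A V
    (∀ n : ℕ, Function.Bijective (φ n)) ∧
    (∀ (n : ℕ) (x : R ⊗[K] (Hoch.cochain K A V n)),
        φ (n + 1) ((Hoch.d K A V n).baseChange R x) = Hoch.d R (R ⊗[K] A) (R ⊗[K] V) n (φ n x)) ∧
      ∀ n : ℕ, ∃ e : R ⊗[K] Hoch.H K A V n ≃ₗ[R] Hoch.H R (R ⊗[K] A) (R ⊗[K] V) n,
        ∀ (r : R) (z : Hoch.cocycles K A V n)
          (hz : φ n (r ⊗ₜ[K] (z : Hoch.cochain K A V n)) ∈ Hoch.cocycles R (R ⊗[K] A) (R ⊗[K] V) n),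
          e (r ⊗ₜ[K] Hoch.H.mk K A V n z) = Hoch.H.mk R (R ⊗[K] A) (R ⊗[K] V) n ⟨φ n (r ⊗ₜ[K] (z : Hoch.cochain K A V n)), hz⟩ := by
  letI : HopfRep.Comod R (R ⊗[K] A) (R ⊗[K] V) := CoactBr.Comod.baseChange K R A V
  have hφ : ∀ n, φ n = (phiEquiv K A V R n).toLinearMap := phi_eq K A V R φ hφ0 hφs
  refine ⟨fun n => ?_, fun n x => ?_, fun n => ?_⟩
  · rw [hφ]
    exact (phiEquiv K A V R n).bijective
  · rw [hφ, hφ]
    exact chain K A V R n x
  · have hB : ∀ y, phiEquiv K A V R n y ∈ Hoch.coboundaries R (R ⊗[K] A) (R ⊗[K] V) n ↔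
        (Hoch.coboundaries K A V n).mkQ.baseChange R y = 0 := by
      cases n with
      | zero => exact hB_zero K A V R
      | succ m => exact hB_succ K A V R m
    obtain ⟨e, he⟩ := H_baseChange (Hoch.d K A V n) (Hoch.coboundaries K A V n)
      (Hoch.d R (R ⊗[K] A) (R ⊗[K] V) n) (Hoch.coboundaries R (R ⊗[K] A) (R ⊗[K] V) n)
      (phiEquiv K A V R n) (phiEquiv K A V R (n + 1)) (chain K A V R n) hB
    refine ⟨e, ?_⟩
    intro r z hz
    rw [hφ] at hz
    have := he r z hz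
    simp only [hφ]
    exact this

end Groth.Agent.S19275
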