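import Groth.Statements.S19276
import Groth.Agent.Lib.Helper21.GrpAlg3
-- import your own Groth.Agent.* helpers here

set_option autoImplicit false
universe u v
open GrpAlg

namespace Groth.Agent.S19276

/-- Let `A` be a finite commutative group and `Λ` a commutative ring in which the order of `A` is
invertible. Then the ring homomorphism from the group ring `Λ[A]` to the product, over the subgroups
`B` of `A` with cyclic quotient, of the cyclotomic quotients `Λ[A ⧸ B]/(Φ_{|A/B|})`, each component
induced by `A → A/B`, is bijective. (In terms of group schemes: `Λ[A]` is the representation ring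
with coefficients in `Λ` of the finite diagonalizable group with character group `A`, the factors
are indexed by its dual cyclic subgroups, i.e. those isomorphic to some `μ_n`, and the components
are restriction followed by the cyclotomic quotient. The published statement takes `Λ = ℤ[1/|A|]`;
here `Λ` is any commutative ring in which `|A|` is invertible.) -/
theorem result (Λ : Type u) [CommRing Λ] (A : Type v)
    [AddCommGroup A] [Finite A] (hA : IsUnit ((Nat.card A : ℕ) : Λ)) :
    Function.Bijective (RingHom.pi fun B : {B : AddSubgroup A // IsAddCyclic (A ⧸ B)} =>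
      W4c6equivkfinstab.cycQuotMap Λ A B.1) := by
  classical
  have hidx : ∀ B : AddSubgroup A, IsUnit ((B.index : ℕ) : Λ) := by
    intro B
    obtain ⟨c, hc⟩ := AddSubgroup.index_dvd_card B
    rw [hc, Nat.cast_mul] at hA
    exact isUnit_of_mul_isUnit_left hA
  constructor
  · rw [injective_iff_map_eq_zero]
    intro x hx
    have hbot : IsUnit (((⊥ : AddSubgroup A).index : ℕ) : Λ) := hidx ⊥
    have h0 := Groth.Agent.Lib.Helper21.GA.quotMap_eq_zero_of_forall (⊥ : AddSubgroup A) hbot x
      (fun B _ hB => congrFun hx ⟨B, hB⟩)
    have hinj : Function.Injective (W4c6equivkfinstab.quotMap Λ A (⊥ : AddSubgroup A)) := by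
      unfold W4c6equivkfinstab.quotMap
      intro a b hab
      rw [AddMonoidAlgebra.mapDomainRingHom_apply, AddMonoidAlgebra.mapDomainRingHom_apply] at hab
      refine AddMonoidAlgebra.mapDomain_injective ?_ hab
      intro a b hab
      have : (QuotientAddGroup.mk a : A ⧸ (⊥ : AddSubgroup A)) = QuotientAddGroup.mk b := hab
      rw [QuotientAddGroup.eq, AddSubgroup.mem_bot] at this
      exact (neg_add_eq_zero.mp this)
    exact hinj (h0.trans (map_zero _).symm)
  · intro y
    have hI : ∀ B : {B : AddSubgroup A // IsAddCyclic (A ⧸ B)}, IsAddCyclic (A ⧸ B.1) :=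
      fun B => B.2
    obtain ⟨x, hx⟩ := Groth.Agent.Lib.Helper21.GA.exists_cycQuotMap_eq
      (fun B : {B : AddSubgroup A // IsAddCyclic (A ⧸ B)} => B.1) Subtype.val_injective
      (fun B => hidx B.1) y
    exact ⟨x, funext hx⟩

end Groth.Agent.S19276
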