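import Groth.Statements.S19277
import Groth.Agent.Lib.Helper21.GrpAlg1
-- import your own Groth.Agent.* helpers here

set_option autoImplicit false
universe u v
open GrpAlg

namespace Groth.Agent.S19277

/-- Let `M` be a commutative group, `B ≠ B'` subgroups of finite index with `M ⧸ B` and `M ⧸ B'` cyclic,
and `Λ` a commutative ring in which both indices are invertible. Then the localization of the
`Λ[M]`-module `Λ[M ⧸ B]/(Φ_{|M/B|})` at the multiplicative subset of `Λ[M]` of elements with image
`1` in `Λ[M ⧸ B']/(Φ_{|M/B'|})` is zero. (In terms of group schemes: for two distinct dual cyclic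
subgroups σ, σ' of the diagonalizable group with character group `M`, the ring R̃(σ) with
coefficients in `Λ` vanishes after localization at σ'. The published statement has a split torus,
i.e. `M` free of finite rank, and `Λ = ℤ[1/N]` for `N` the order of the subgroup generated by σ and
σ'; here `M` is any commutative group and `Λ` any commutative ring in which the orders of σ and σ'
are invertible.) -/
theorem result (Λ : Type u) [CommRing Λ] (M : Type v)
    [AddCommGroup M] (B B' : AddSubgroup M) [B.FiniteIndex] [B'.FiniteIndex]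
    [IsAddCyclic (M ⧸ B)] [IsAddCyclic (M ⧸ B')] (hne : B ≠ B')
    (hu : IsUnit ((B.index * B'.index : ℕ) : Λ)) :
    Subsingleton (LocalizedModule (W4c6equivkfinstab.locSubmonoid Λ M B')
      (W4c6equivkfinstab.CycQuot Λ (M ⧸ B))) := by
  have huB : IsUnit ((B.index : ℕ) : Λ) := by
    rw [Nat.cast_mul] at hu
    exact isUnit_of_mul_isUnit_left hu
  have huB' : IsUnit ((B'.index : ℕ) : Λ) := by
    rw [Nat.cast_mul] at hu
    exact isUnit_of_mul_isUnit_right hu
  rw [LocalizedModule.subsingleton_iff]
  have key : ∃ s : AddMonoidAlgebra Λ M, W4c6equivkfinstab.cycQuotMap Λ M B' s = 1 ∧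
      W4c6equivkfinstab.cycQuotMap Λ M B s = 0 := by
    by_cases hle : B ≤ B'
    · have hle' : ¬ B' ≤ B := fun h => hne (le_antisymm hle h)
      obtain ⟨b, hb', hb⟩ := SetLike.not_le_iff_exists.mp hle'
      obtain ⟨w, hw⟩ := Groth.Agent.Lib.Helper21.GA.exists_mul_single_sub_one B huB b hb
      refine ⟨1 - w * (AddMonoidAlgebra.single b 1 - 1), ?_, ?_⟩
      · rw [map_sub, map_one, Groth.Agent.Lib.Helper21.GA.cycQuotMap_apply, map_mul,
          Groth.Agent.Lib.Helper21.GA.quotMap_single_sub_one_of_mem Λ M B' b hb', mul_zero,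
          map_zero, sub_zero]
      · rw [map_sub, map_one, hw, sub_self]
    · obtain ⟨b, hb, hb'⟩ := SetLike.not_le_iff_exists.mp hle
      obtain ⟨w, hw⟩ := Groth.Agent.Lib.Helper21.GA.exists_mul_single_sub_one B' huB' b hb'
      refine ⟨w * (AddMonoidAlgebra.single b 1 - 1), hw, ?_⟩
      rw [Groth.Agent.Lib.Helper21.GA.cycQuotMap_apply, map_mul,
        Groth.Agent.Lib.Helper21.GA.quotMap_single_sub_one_of_mem Λ M B b hb, mul_zero, map_zero]
  obtain ⟨s, hs1, hs0⟩ := key
  intro n
  refine ⟨s, hs1, ?_⟩
  obtain ⟨n', rfl⟩ := Ideal.Quotient.mk_surjective n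
  change Ideal.Quotient.mk (W4c6equivkfinstab.cycIdeal Λ (M ⧸ B))
    (W4c6equivkfinstab.quotMap Λ M B s * n') = 0
  rw [map_mul, ← Groth.Agent.Lib.Helper21.GA.cycQuotMap_apply, hs0, zero_mul]

end Groth.Agent.S19277
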