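import Groth.Statements.S19279
import Groth.Agent.Lib.Helper21.GrpAlg4
-- import your own Groth.Agent.* helpers here

set_option autoImplicit false
universe u v
open GrpAlg

namespace Groth.Agent.S19279

/-- Let `M` be a commutative group, `B₀` a subgroup of finite index and `Λ` a commutative ring in which
the index of `B₀` is invertible. Then the `Λ[M]`-linear map from `Λ[M ⧸ B₀]` to the product, over
the subgroups `B ⊇ B₀` with `M ⧸ B` cyclic, of the localizations of `Λ[M ⧸ B₀]` at the
multiplicative subsets of `Λ[M]` of elements with image `1` in `Λ[M ⧸ B]/(Φ_{|M/B|})`, with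
components the localization maps, is bijective. (In terms of group schemes: for a finite closed
subgroup T' = D(M/B₀) of the diagonalizable group with character group `M`, the representation ring
of T' with coefficients in `Λ` is the product of its localizations at the dual cyclic subgroups of
T'. The published statement has a split torus and `Λ = ℤ[1/|T'|]`; here `M` is any commutative group
and `Λ` any commutative ring in which the order of T' is invertible.) -/
theorem result (Λ : Type u) [CommRing Λ]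
    (M : Type v) [AddCommGroup M] (B₀ : AddSubgroup M) [B₀.FiniteIndex]
    (hu : IsUnit ((B₀.index : ℕ) : Λ)) :
    Function.Bijective (LinearMap.pi (R := AddMonoidAlgebra Λ M)
      fun B : {B : AddSubgroup M // B₀ ≤ B ∧ IsAddCyclic (M ⧸ B)} =>
        LocalizedModule.mkLinearMap (W4c6equivkfinstab.locSubmonoid Λ M B.1)
          (AddMonoidAlgebra Λ (M ⧸ B₀))) := by
  classical
  have hfinq : Finite (M ⧸ B₀) := AddSubgroup.finite_quotient_of_finiteIndex
  have hJfin : Finite {B : AddSubgroup M // B₀ ≤ B ∧ IsAddCyclic (M ⧸ B)} := by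
    refine Finite.of_injective
      (fun B : {B : AddSubgroup M // B₀ ≤ B ∧ IsAddCyclic (M ⧸ B)} =>
        B.1.map (QuotientAddGroup.mk' B₀)) ?_
    intro B B' h
    have h2 := congrArg (AddSubgroup.comap (QuotientAddGroup.mk' B₀)) h
    simp only [AddSubgroup.comap_map_eq, QuotientAddGroup.ker_mk'] at h2
    rw [sup_eq_left.mpr B.2.1, sup_eq_left.mpr B'.2.1] at h2
    exact Subtype.ext h2
  have hJ : Fintype {B : AddSubgroup M // B₀ ≤ B ∧ IsAddCyclic (M ⧸ B)} := Fintype.ofFinite _
  have hfi : ∀ B : {B : AddSubgroup M // B₀ ≤ B ∧ IsAddCyclic (M ⧸ B)}, (B.1).FiniteIndex :=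
    fun B => AddSubgroup.finiteIndex_of_le B.2.1
  have hcyc : ∀ B : {B : AddSubgroup M // B₀ ≤ B ∧ IsAddCyclic (M ⧸ B)},
      IsAddCyclic (M ⧸ B.1) := fun B => B.2.2
  have hunit : ∀ B : {B : AddSubgroup M // B₀ ≤ B ∧ IsAddCyclic (M ⧸ B)},
      IsUnit (((B.1).index : ℕ) : Λ) := by
    intro B
    obtain ⟨c, hc⟩ := AddSubgroup.index_dvd_of_le B.2.1
    rw [hc, Nat.cast_mul] at hu
    exact isUnit_of_mul_isUnit_left hu
  have hex : ∀ j : {B : AddSubgroup M // B₀ ≤ B ∧ IsAddCyclic (M ⧸ B)},
      ∃ x : AddMonoidAlgebra Λ M, ∀ i : {B : AddSubgroup M // B₀ ≤ B ∧ IsAddCyclic (M ⧸ B)},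
        W4c6equivkfinstab.cycQuotMap Λ M i.1 x = if i = j then 1 else 0 := fun j =>
    Groth.Agent.Lib.Helper21.GA.exists_cycQuotMap_eq
      (fun B : {B : AddSubgroup M // B₀ ≤ B ∧ IsAddCyclic (M ⧸ B)} => B.1) Subtype.val_injective
      hunit (fun i => if i = j then 1 else 0)
  choose e he using hex
  have hann : ∀ r : AddMonoidAlgebra Λ M,
      (∀ j : {B : AddSubgroup M // B₀ ≤ B ∧ IsAddCyclic (M ⧸ B)},
        W4c6equivkfinstab.cycQuotMap Λ M j.1 r = 0) →
      ∀ n : AddMonoidAlgebra Λ (M ⧸ B₀), r • n = 0 := by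
    intro r hr n
    have h0 := Groth.Agent.Lib.Helper21.GA.quotMap_eq_zero_of_forall B₀ hu r
      (fun B hB hc => hr ⟨B, hB, hc⟩)
    rw [Algebra.smul_def]
    change W4c6equivkfinstab.quotMap Λ M B₀ r * n = 0
    rw [h0, zero_mul]
  refine Groth.Agent.Lib.Helper21.GA.bijective_pi_mkLinearMap
    (fun B : {B : AddSubgroup M // B₀ ≤ B ∧ IsAddCyclic (M ⧸ B)} =>
      W4c6equivkfinstab.locSubmonoid Λ M B.1) e ?_ ?_ ?_ ?_
  · intro n
    have h := hann (∑ j, e j - 1) (fun i => by
      rw [map_sub, map_sum, map_one]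
      simp only [he]
      rw [Finset.sum_ite_eq, if_pos (Finset.mem_univ i), sub_self]) n
    rw [sub_smul, one_smul, sub_eq_zero] at h
    exact h
  · intro j
    change W4c6equivkfinstab.cycQuotMap Λ M j.1 (e j) = 1
    rw [he, if_pos rfl]
  · intro j j' hjj' n
    refine hann _ (fun i => ?_) n
    rw [map_mul, he, he]
    by_cases h1 : i = j
    · rw [if_pos h1, if_neg (fun h2 => hjj' (h1.symm.trans h2)), mul_zero]
    · rw [if_neg h1, zero_mul]
  · intro j s hs n
    have hs' : W4c6equivkfinstab.cycQuotMap Λ M j.1 s = 1 := hs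
    have h := hann (s * e j - e j) (fun i => by
      rw [map_sub, map_mul, he]
      by_cases h1 : i = j
      · rw [if_pos h1, h1, hs', mul_one, sub_self]
      · rw [if_neg h1, mul_zero, sub_self]) n
    rw [sub_smul, sub_eq_zero] at h
    exact h

end Groth.Agent.S19279
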