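import Groth.Statements.S19280
import Groth.Agent.Lib.Helper7.DC8
import Groth.Agent.Lib.Helper7.DC12


set_option autoImplicit false
universe u
open CategoryTheory MonoidalCategory CartesianMonoidalCategory MonObj GrpObj AlgebraicGeometry
open AlgGrp

namespace Groth.Agent.S19280

open Groth.Agent.Lib.Helper7.DC Groth.Agent.Lib.Helper7.GModComod CategoryTheory.Limits


/-- Let `k` be a field with an algebraic closure `K`, `m ≥ 0`, `n > 0`, and let `σ`, `τ` be closed
subgroup schemes of `GL_{m,k}`, each isomorphic as a `k`-group scheme to `μ_n = D(ℤ/n)`. If after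
base change to `K` there are a `K`-point `g` of `GL_m` and an isomorphism `σ_K ≅ τ_K` through which
conjugation by `g` carries the inclusion of `σ_K` to that of `τ_K`, then there are already a
`k`-rational point of `GL_{m,k}` and an isomorphism `σ ≅ τ` with the same property. (This is the
first of the two rationality conditions, stated for all dual cyclic subgroups rather than only for
those with a fixed point on a given algebraic space, which is what the printed argument establishes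
and which gives the printed statement for every action of `GL_m`.) -/
theorem result (k : Type u) [Field k]
    (K : Type u) [Field K] [Algebra k K] [IsAlgClosure k K] (m n : ℕ) (hn : 0 < n)
    (σ τ : Over (Spec (CommRingCat.of k))) [GrpObj σ] [GrpObj τ]
    (i : σ ⟶ CoactBr.sp k (CoordGrp.GLn m k)) (j : τ ⟶ CoactBr.sp k (CoordGrp.GLn m k))
    [IsMonHom i] [IsMonHom j] (hi : IsClosedImmersion i.left) (hj : IsClosedImmersion j.left)
    (hσ : Red.IsSplitTorusWith (ZMod n) σ) (hτ : Red.IsSplitTorusWith (ZMod n) τ)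
    (h : ∃ (g : 𝟙_ (Over (Spec (CommRingCat.of K))) ⟶
        Red.bc (Spec.map (CommRingCat.ofHom (algebraMap k K))) (CoactBr.sp k (CoordGrp.GLn m k)))
      (φ : Red.bc (Spec.map (CommRingCat.ofHom (algebraMap k K))) σ ≅
        Red.bc (Spec.map (CommRingCat.ofHom (algebraMap k K))) τ),
      AGF.conjBy g ((Over.pullback (Spec.map (CommRingCat.ofHom (algebraMap k K)))).map i) =
        φ.hom ≫ (Over.pullback (Spec.map (CommRingCat.ofHom (algebraMap k K)))).map j) :
    ∃ (g : 𝟙_ (Over (Spec (CommRingCat.of k))) ⟶ CoactBr.sp k (CoordGrp.GLn m k)) (φ : σ ≅ τ),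
      AGF.conjBy g i = φ.hom ≫ j := by
  classical
  haveI : NeZero n := ⟨hn.ne'⟩
  obtain ⟨g, φ, hconj⟩ := h
  obtain ⟨ek, hek⟩ := exists_ds_iso k (ZMod n)
  haveI := hek
  obtain ⟨εσ, hεσ1, hεσ2⟩ : ∃ e : σ ≅ Red.DS (Spec (CommRingCat.of k)) (ZMod n),
      IsMonHom e.hom ∧ IsMonHom e.inv := by
    refine ⟨(Grp.forget _).mapIso hσ.some, ?_, ?_⟩
    · change IsMonHom hσ.some.hom.hom.hom
      infer_instance
    · change IsMonHom hσ.some.inv.hom.hom
      infer_instance
  obtain ⟨ετ, hετ1, hετ2⟩ : ∃ e : τ ≅ Red.DS (Spec (CommRingCat.of k)) (ZMod n),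
      IsMonHom e.hom ∧ IsMonHom e.inv := by
    refine ⟨(Grp.forget _).mapIso hτ.some, ?_, ?_⟩
    · change IsMonHom hτ.some.hom.hom.hom
      infer_instance
    · change IsMonHom hτ.some.inv.hom.hom
      infer_instance
  haveI := hεσ2
  haveI := hετ2
  let ισ : σ ≅ CoactBr.sp k (MonoidAlgebra k (Multiplicative (ZMod n))) := εσ ≪≫ ek
  let ιτ : τ ≅ CoactBr.sp k (MonoidAlgebra k (Multiplicative (ZMod n))) := ετ ≪≫ ek
  haveI hισ : IsMonHom ισ.inv := by
    change IsMonHom (ek.inv ≫ εσ.inv)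
    infer_instance
  haveI hιτ : IsMonHom ιτ.inv := by
    change IsMonHom (ek.inv ≫ ετ.inv)
    infer_instance
  obtain ⟨Aσ, hAσ⟩ := Groth.Agent.Lib.Helper7.GH.exists_bialgHom (ισ.inv ≫ i)
  obtain ⟨Aτ, hAτ⟩ := Groth.Agent.Lib.Helper7.GH.exists_bialgHom (ιτ.inv ≫ j)
  haveI hmonoj : Mono j := by
    haveI : Mono j.left := inferInstance
    exact Over.mono_of_mono_left j
  haveI : Mono (pg (Aτ : CoordGrp.GLn m k →ₐ[k] MonoidAlgebra k (Multiplicative (ZMod n)))) := by
    rw [← hAτ]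
    infer_instance
  let Ψσ : CoactBr.sp K (MonoidAlgebra K (Multiplicative (ZMod n))) ≅ Red.bc (fk k K) σ :=
    asIso (φ₁ (k := k) (K := K) (Multiplicative (ZMod n))) ≪≫
      (Over.pullback (fk k K)).mapIso ισ.symm
  let Ψτ : CoactBr.sp K (MonoidAlgebra K (Multiplicative (ZMod n))) ≅ Red.bc (fk k K) τ :=
    asIso (φ₁ (k := k) (K := K) (Multiplicative (ZMod n))) ≪≫
      (Over.pullback (fk k K)).mapIso ιτ.symm
  let θ := Ψσ ≪≫ φ ≪≫ Ψτ.symm
  have hθ : AGF.conjBy g (φ₁ (k := k) (K := K) (Multiplicative (ZMod n)) ≫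
        (Over.pullback (fk k K)).map
          (pg (Aσ : CoordGrp.GLn m k →ₐ[k] MonoidAlgebra k (Multiplicative (ZMod n))))) =
      θ.hom ≫ φ₁ (k := k) (K := K) (Multiplicative (ZMod n)) ≫
        (Over.pullback (fk k K)).map
          (pg (Aτ : CoordGrp.GLn m k →ₐ[k] MonoidAlgebra k (Multiplicative (ZMod n)))) := by
    rw [← hAσ, ← hAτ, Functor.map_comp, Functor.map_comp]
    have e1 : φ₁ (k := k) (K := K) (Multiplicative (ZMod n)) ≫
        (Over.pullback (fk k K)).map ισ.inv ≫ (Over.pullback (fk k K)).map i =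
        Ψσ.hom ≫ (Over.pullback (fk k K)).map i := by
      simp [Ψσ]
    have e2 : φ₁ (k := k) (K := K) (Multiplicative (ZMod n)) ≫
        (Over.pullback (fk k K)).map ιτ.inv ≫ (Over.pullback (fk k K)).map j =
        Ψτ.hom ≫ (Over.pullback (fk k K)).map j := by
      simp [Ψτ]
    rw [e1, e2, ← comp_conjBy, hconj]
    simp only [θ, Iso.trans_hom, Iso.symm_hom, Category.assoc, Iso.inv_hom_id_assoc]
  obtain ⟨ψ, g₀, hfin⟩ := core280 (k := k) (K := K) (Multiplicative (ZMod n)) Aσ Aτ g θ hθ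
  refine ⟨g₀, ισ ≪≫ ψ ≪≫ ιτ.symm, ?_⟩
  have h1 : ισ.hom ≫ pg (Aσ : CoordGrp.GLn m k →ₐ[k] MonoidAlgebra k (Multiplicative (ZMod n))) =
      i := by rw [← hAσ, Iso.hom_inv_id_assoc]
  calc AGF.conjBy g₀ i = AGF.conjBy g₀ (ισ.hom ≫
        pg (Aσ : CoordGrp.GLn m k →ₐ[k] MonoidAlgebra k (Multiplicative (ZMod n)))) := by rw [h1]
    _ = ισ.hom ≫ AGF.conjBy g₀
        (pg (Aσ : CoordGrp.GLn m k →ₐ[k] MonoidAlgebra k (Multiplicative (ZMod n)))) :=
      (comp_conjBy _ _ _).symm
    _ = ισ.hom ≫ ψ.hom ≫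
        pg (Aτ : CoordGrp.GLn m k →ₐ[k] MonoidAlgebra k (Multiplicative (ZMod n))) := by rw [hfin]
    _ = (ισ ≪≫ ψ ≪≫ ιτ.symm).hom ≫ j := by
      rw [← hAτ]
      simp only [Iso.trans_hom, Iso.symm_hom, Category.assoc]

end Groth.Agent.S19280
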