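import Groth.Statements.S19281
import Groth.Agent.Lib.Helper7.DC8
import Groth.Agent.Lib.Helper7.DC10


set_option autoImplicit false
universe u
open CategoryTheory MonoidalCategory CartesianMonoidalCategory MonObj GrpObj AlgebraicGeometry
open AlgGrp

namespace Groth.Agent.S19281

open Groth.Agent.Lib.Helper7.DC Groth.Agent.Lib.Helper7.GModComod CategoryTheory.Limits


/-- Let `k` be a field with an algebraic closure `K`, `m ≥ 0`, `n > 0`, and let `σ'` be a closed
subgroup scheme of the base change of `GL_{m,k}` to `K` which is isomorphic as a `K`-group scheme to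
`μ_n = D(ℤ/n)`. Then there are a closed subgroup scheme `σ` of `GL_{m,k}` isomorphic to `μ_n` over
`k`, a `K`-point `g` of `GL_m` and an isomorphism `σ' ≅ σ_K` through which conjugation by `g`
carries the inclusion of `σ'` to the base change of the inclusion of `σ`. (This is the second
rationality condition, stated for all dual cyclic subgroups rather than only for those with a fixed
point on a given algebraic space, which is what the printed argument establishes and which gives the
printed statement for every action of `GL_m`.) -/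
theorem result (k : Type u) [Field k]
    (K : Type u) [Field K] [Algebra k K] [IsAlgClosure k K] (m n : ℕ) (hn : 0 < n)
    (σ' : Over (Spec (CommRingCat.of K))) [GrpObj σ']
    (i' : σ' ⟶ Red.bc (Spec.map (CommRingCat.ofHom (algebraMap k K))) (CoactBr.sp k (CoordGrp.GLn m k)))
    [IsMonHom i'] (hi' : IsClosedImmersion i'.left) (hσ' : Red.IsSplitTorusWith (ZMod n) σ') :
    ∃ (σ : Over (Spec (CommRingCat.of k))) (_ : GrpObj σ) (i : σ ⟶ CoactBr.sp k (CoordGrp.GLn m k))
      (_ : IsMonHom i), IsClosedImmersion i.left ∧ Red.IsSplitTorusWith (ZMod n) σ ∧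
      ∃ (g : 𝟙_ (Over (Spec (CommRingCat.of K))) ⟶
          Red.bc (Spec.map (CommRingCat.ofHom (algebraMap k K))) (CoactBr.sp k (CoordGrp.GLn m k)))
        (φ : σ' ≅ Red.bc (Spec.map (CommRingCat.ofHom (algebraMap k K))) σ),
        AGF.conjBy g i' = φ.hom ≫ (Over.pullback (Spec.map (CommRingCat.ofHom (algebraMap k K)))).map i := by
  classical
  haveI : NeZero n := ⟨hn.ne'⟩
  -- the dictionary over `K`
  obtain ⟨eK, heK⟩ := exists_ds_iso K (ZMod n)
  obtain ⟨ε', hε'1, hε'2⟩ : ∃ e : σ' ≅ Red.DS (Spec (CommRingCat.of K)) (ZMod n),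
      IsMonHom e.hom ∧ IsMonHom e.inv := by
    refine ⟨(Grp.forget _).mapIso hσ'.some, ?_, ?_⟩
    · change IsMonHom hσ'.some.hom.hom.hom
      infer_instance
    · change IsMonHom hσ'.some.inv.hom.hom
      infer_instance
  haveI := heK
  haveI := hε'1
  haveI := hε'2
  let ι' : σ' ≅ CoactBr.sp K (MonoidAlgebra K (Multiplicative (ZMod n))) := ε' ≪≫ eK
  haveI hι1 : IsMonHom ι'.hom := by
    change IsMonHom (ε'.hom ≫ eK.hom)
    infer_instance
  haveI hι2 : IsMonHom ι'.inv := by
    change IsMonHom (eK.inv ≫ ε'.inv)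
    infer_instance
  haveI hmono : Mono i' := by
    haveI : Mono i'.left := inferInstance
    exact Over.mono_of_mono_left i'
  obtain ⟨c, g, hgen, hconj⟩ := core281 (k := k) (K := K) (Multiplicative (ZMod n)) (ι'.inv ≫ i')
  -- the dictionary over `k`
  obtain ⟨ek, hek⟩ := exists_ds_iso k (ZMod n)
  haveI := hek
  haveI hr : IsMonHom (pg (r₀ (F := k) c)) :=
    Groth.Agent.Lib.Helper7.GH.isMonHom_pg (r₀B (F := k) c)
  have hcl : IsClosedImmersion (ek.hom ≫ pg (r₀ (F := k) c)).left := by
    rw [Over.comp_left]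
    haveI : IsClosedImmersion (pg (r₀ (F := k) c)).left :=
      IsClosedImmersion.spec_of_surjective _ (r₀_surjective c hgen)
    haveI : IsIso ek.hom.left := (Over.forget _).map_isIso ek.hom
    infer_instance
  refine ⟨Red.DS (Spec (CommRingCat.of k)) (ZMod n), inferInstance, ek.hom ≫ pg (r₀ (F := k) c),
    inferInstance, hcl, ⟨Iso.refl _⟩, g,
    ι' ≪≫ asIso (φ₁ (k := k) (K := K) (Multiplicative (ZMod n))) ≪≫
      ((Over.pullback (fk k K)).mapIso ek).symm, ?_⟩
  have h2 : AGF.conjBy g i' = ι'.hom ≫ AGF.conjBy g (ι'.inv ≫ i') := by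
    change _ = ι'.hom ≫ ((toUnit _ ≫ g) * (ι'.inv ≫ i') * (toUnit _ ≫ g)⁻¹)
    rw [MonObj.comp_mul, MonObj.comp_mul, GrpObj.comp_inv, Iso.hom_inv_id_assoc]
    have h3 : ι'.hom ≫ toUnit _ ≫ g = toUnit σ' ≫ g := by
      rw [← Category.assoc]
      congr 1
      exact toUnit_unique _ _
    rw [h3]
  rw [h2, hconj]
  simp only [Iso.trans_hom, Iso.symm_hom, Functor.mapIso_inv, asIso_hom, Category.assoc]
  rw [← Functor.map_comp, Iso.inv_hom_id_assoc]

end Groth.Agent.S19281
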