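import Groth.Statements.S19288
import Mathlib
import Groth.Agent.Lib.Helper10.EtTriv1

set_option autoImplicit false
universe u
open CategoryTheory CategoryTheory.Limits MonoidalCategory CartesianMonoidalCategory MonObj AlgebraicGeometry
open AbSch

namespace Groth.Agent.S19288

/-- Let S be a scheme, X a commutative S-group scheme which is etale and separated over S (hence locally
of finite presentation), and P a commutative S-group scheme of finite presentation over S all of
whose fibres are connected. Then every homomorphism of S-group schemes from P to X is trivial (it
factors through the unit section). -/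
theorem result {S : Scheme.{u}} (P X : Over S)
    [GrpObj P] [IsCommMonObj P] [GrpObj X] [IsCommMonObj X]
    [Etale X.hom] [IsSeparated X.hom]
    [QuasiCompact P.hom] [QuasiSeparated P.hom] [LocallyOfFinitePresentation P.hom]
    (hP : ∀ s : S, ConnectedSpace ↥(P.hom.fiber s))
    (f : P ⟶ X) [IsMonHom f] : f = 1 := by
  apply Groth.Agent.Lib.Helper10.EtTriv.eq_of_eq_on_section hP η[P] f 1
  rw [IsMonHom.one_hom, MonObj.comp_one, CategoryTheory.Hom.one_def]
  have : CartesianMonoidalCategory.toUnit (𝟙_ (Over S)) = 𝟙 _ :=
    CartesianMonoidalCategory.toUnit_unique _ _
  rw [this, Category.id_comp]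

end Groth.Agent.S19288
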