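import Groth.Statements.S1930
import Mathlib
import Groth.Agent.Lib.Helper18.KF20
import Groth.Agent.S1923

set_option autoImplicit false
universe u
open CategoryTheory AlgebraicGeometry
open Cyc

namespace Groth.Agent.S1930

/-- Let X be integral with generic point η and δ(η) = n, i : D → X an effective Cartier divisor given as
the zero scheme of a global section s of an invertible module L which is a nonzerodivisor at every
point, N an invertible O_X-module and t ∈ N(η) a nonzero rational section. Then i^*(div_N t) ∼_rat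
c_1(N|_D) ∩ [D]_{n−1} as (n − 2)-cycles on D, the right side computed with any nonzero rational
sections of i^*N on D. Here i : D → X is the zero scheme of a global section s of the invertible
module L (Cyc.IsZeroSchemeOf), the Gysin map i^* : Z_{k+1}(X) → CH_k(D) is computed on coefficient
functions as c_1(L) ∩ − with the rational sections taken to be s where it is nonzero
(Cyc.gysinChoice) and restricted to the points of D, and classes on D are compared up to rational
equivalence on D for the restricted dimension function. Here a pair (X, δ) satisfying Cyc.IsSetup (X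
locally Noetherian with universally catenary local rings, δ a dimension function) plays the role of
a scheme locally of finite type over a fixed base equipped with a dimension function. -/
theorem result (X D : Scheme.{u}) [IsIntegral X] (δ : X → ℤ) (hX : Cyc.IsSetup X δ) (n : ℤ) (hn : δ (genericPoint X) = n) (L : X.Modules) (hL : PicF.IsInvertible L) (s : L.presheaf.obj (Opposite.op ⊤)) (hreg : ∀ x : X, Function.Injective (fun a : X.presheaf.stalk x => a • (L.presheaf.germ ⊤ x trivial) s)) (i : D ⟶ X) [IsClosedImmersion i] (hD : Cyc.IsZeroSchemeOf i L s) (N : X.Modules) (hN : PicF.IsInvertible N) (t : Cyc.secFibre N (genericPoint X)) (ht : t ≠ 0) (w : (ξ : X) → Cyc.secFibre L ξ) (hw : ∀ ξ, w ξ ≠ 0) (u : (d : D) → Cyc.secFibre ((Scheme.Modules.pullback i).obj N) d) (hu : ∀ d, u d ≠ 0) (γ₁ γ₂ : AlgebraicCycle D ℤ) (h₁ : ∀ d : D, γ₁ d = Cyc.c1CapFun δ L (Cyc.secDivFun δ N (genericPoint X) t) (Cyc.gysinChoice L s w) (i d)) (h₂ : ⇑γ₂ = Cyc.c1CapFun (fun d => δ (i d)) ((Scheme.Modules.pullback i).obj N) (Cyc.subschemeFun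 (fun d => δ (i d)) (n - 1) (𝟙 D)) u) : Cyc.RatEquiv (fun d => δ (i d)) (n - 2) γ₁ γ₂ := by
  classical
  have hDset := Groth.Agent.Lib.Helper18.ClImm.isSetup i δ hX
  haveI : IsLocallyNoetherian D := hDset.1
  have hND : PicF.IsInvertible ((Scheme.Modules.pullback i).obj N) :=
    Groth.Agent.Lib.Helper29.QCoh.isInvertible_pullback i hN
  have hinj : Function.Injective (i : D → X) := i.isClosedEmbedding.injective
  -- the germ of `s` at the generic point is nonzero
  have hsη : (L.presheaf.germ ⊤ (genericPoint X) trivial) s ≠ 0 := by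
    intro h0
    have h1 := hreg (genericPoint X) (a₁ := 1) (a₂ := 0) (by
      show (1 : X.presheaf.stalk (genericPoint X)) • _ = (0 : X.presheaf.stalk (genericPoint X)) • _
      rw [h0, smul_zero, smul_zero])
    exact one_ne_zero h1
  have hm : IsLocalRing.maximalIdeal (X.presheaf.stalk (genericPoint X)) = ⊥ :=
    IsLocalRing.maximalIdeal_eq_bot (R := X.functionField)
  have hηD : genericPoint X ∉ Set.range ⇑i := by
    intro hmem
    rw [hD.1] at hmem
    have h0 : (Submodule.Quotient.mk ((L.presheaf.germ ⊤ (genericPoint X) trivial) s) :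
        Cyc.secFibre L (genericPoint X)) = 0 := hmem
    rw [Submodule.Quotient.mk_eq_zero, hm, Submodule.bot_smul, Submodule.mem_bot] at h0
    exact hsη h0
  -- sections of `N`
  choose g hg using (fun ξ : X => Groth.Agent.Lib.Helper18.InvStalk.exists_generator hN ξ)
  let u' : (ξ : X) → Cyc.secFibre N ξ := fun ξ => Submodule.Quotient.mk (g ξ)
  have hu' : ∀ ξ, u' ξ ≠ 0 := by
    intro ξ h0
    have h1 : (1 : X.presheaf.stalk ξ) • (Submodule.Quotient.mk (g ξ) : Cyc.secFibre N ξ) = 0 := by
      rw [one_smul]; exact h0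
    have := Groth.Agent.Lib.Helper18.InvStalk.mem_of_smul_mk_eq_zero _ _ (hg ξ)
      (Groth.Agent.Lib.Helper18.InvStalk.free_of_generator hN ξ (g ξ) (hg ξ)) _ h1
    exact (IsLocalRing.maximalIdeal.isMaximal _).ne_top ((Ideal.eq_top_iff_one _).mpr this)
  let u'' : (d : D) → Cyc.secFibre ((Scheme.Modules.pullback i).obj N) d := fun d =>
    Groth.Agent.Lib.Helper18.PullSec.pullFibre i N d (u' (i d))
  have hu'' : ∀ d, u'' d ≠ 0 := fun d =>
    Groth.Agent.Lib.Helper18.PullSec.pullFibre_ne_zero i N hN d _ (hu' (i d))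
  -- the fundamental cycle of `D`
  have hβ0 : ∀ d, Cyc.subschemeFun (fun d => δ (i d)) (n - 1) (𝟙 D) d ≠ 0 → δ (i d) = n - 1 := by
    intro d hd
    by_contra hne
    apply hd
    unfold Cyc.subschemeFun
    rw [if_neg hne]
  have hlt : ∀ d : D, δ (i d) < n := by
    intro d
    have hne : genericPoint X ≠ i d := fun h => hηD ⟨d, h.symm⟩
    have := (hX.2.2 (genericPoint X) (i d) (genericPoint_specializes _) hne).1
    omega
  have hβmax : ∀ d, Cyc.subschemeFun (fun d => δ (i d)) (n - 1) (𝟙 D) d ≠ 0 →
      ∀ z : D, z ⤳ d → z = d := by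
    intro d hd z hz
    by_contra hne
    have h1 := (hDset.2.2 z d hz hne).1
    have h2 := hlt z
    have h3 := hβ0 d hd
    simp only at h1
    omega
  let B : AlgebraicCycle D ℤ := Groth.Agent.Lib.Helper18.SubCyc.cycleOfMaximal
    (Cyc.subschemeFun (fun d => δ (i d)) (n - 1) (𝟙 D)) hβmax
  have hB : ⇑B = Cyc.subschemeFun (fun d => δ (i d)) (n - 1) (𝟙 D) := rfl
  have hBZ : B ∈ Cyc.Zk D (fun d => δ (i d)) (n - 2 + 1) := by
    intro d hd
    by_contra h
    apply hd
    have := hβ0 d h
    show δ (i d) = n - 2 + 1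
    omega
  -- the key formula on `X`, restricted to `D`
  have hA := Groth.Agent.Lib.Helper18.KF19.key_formula_in δ hX hL hN s i hD w hw n hn hηD t ht u' hu'
  have hA' := Groth.Agent.Lib.Helper18.KF18.ratEquivZeroIn_comap i δ hX (n - 2) _ hA
  -- independence of the sections on `D`
  have hC := Groth.Agent.Lib.Helper18.KF18.c1Cap_sections (fun d => δ (i d)) hDset hND (n - 2) B hBZ
    u'' u hu'' hu
  -- the comparison on `D`
  have hcmp : ∀ d₀ : D, Cyc.c1CapFun δ N (Cyc.secDivFun δ L (genericPoint X)
      (Submodule.Quotient.mk ((L.presheaf.germ ⊤ (genericPoint X) trivial) s) :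
        Cyc.secFibre L (genericPoint X))) u' (i d₀) =
      Cyc.c1CapFun (fun d => δ (i d)) ((Scheme.Modules.pullback i).obj N) ⇑B u'' d₀ := by
    intro d₀
    rw [Groth.Agent.S1923.result X δ hX n hn L hL s hsη, hB]
    unfold Cyc.c1CapFun
    rw [Groth.Agent.Lib.Helper18.PullSec.finsum_eq_finsum_comp (i : D → X) hinj]
    · apply finsum_congr
      intro d
      rw [Groth.Agent.Lib.Helper18.KF20.zeroSectionFun_of_mem δ hL s i hD,
        Groth.Agent.Lib.Helper18.PullSec.secDivFun_pullFibre i N δ hX hN d₀ d _ (hu' (i d))]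
    · intro ξ hξ
      by_contra hnm
      apply hξ
      rw [Groth.Agent.Lib.Helper18.KF20.zeroSectionFun_of_notMem δ s i hD (n - 1) ξ hnm, zero_mul]
  -- combine
  refine Groth.Agent.Lib.Helper18.KF16.RatEquivZeroIn.ratEquivZero (S := Set.univ) ?_
  refine Groth.Agent.Lib.Helper18.KF18.RatEquivZeroIn.congr
    (Groth.Agent.Lib.Helper18.KF18.RatEquivZeroIn.add hA' hC) ?_
  intro d
  have e0 : (γ₁ - γ₂) d = γ₁ d - γ₂ d := rfl
  rw [e0, h₁ d, h₂, ← hB]
  simp only []
  rw [hcmp d]
  ring

end Groth.Agent.S1930
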