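import Groth.Statements.S19307
import Groth.Agent.Lib.Helper10.PSTorsor3
import Groth.Agent.Lib.Helper6.TorsorProps

set_option autoImplicit false
universe u
open CategoryTheory MonoidalCategory CartesianMonoidalCategory MonObj GrpObj AlgebraicGeometry PowerSeries
open NonAbH1

namespace Groth.Agent.S19307

/-- Let R be a commutative ring, G an affine smooth group scheme over the power series ring R⟦X⟧ and P a
G-torsor over Spec R⟦X⟧ for the fpqc topology. Then there is an étale and faithfully flat R-algebra
R' such that P has a section over Spec R'⟦X⟧. (The published statement takes R an algebra over a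
field and G the base change to R⟦X⟧ of a smooth affine group scheme over the power series ring of
that field; the statement here allows any affine smooth group scheme over R⟦X⟧, to which the
published proof applies unchanged.) -/
theorem result
    (R : Type u) [CommRing R]
    (G : Over (Spec (CommRingCat.of R⟦X⟧))) [GrpObj G] [IsAffine G.left] [Smooth G.hom]
    (P : Over (Spec (CommRingCat.of R⟦X⟧))) (a : AlgGrp.Action G P)
    (hP : NonAbH1.IsTorsorFor Scheme.fpqcPrecoverage a) :
    ∃ (R' : Type u) (_ : CommRing R') (_ : Algebra R R'),
      Algebra.Etale R R' ∧ Module.FaithfullyFlat R R' ∧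
      NonAbH1.HasSectionOver P (Spec.map (CommRingCat.ofHom (PowerSeries.map (algebraMap R R')))) := by
  haveI : IsAffineHom G.hom := inferInstance
  haveI := Groth.Agent.Lib.Helper6.Torsor.surjective_hom_of_grpObj (G := G)
  haveI : IsAffineHom P.hom := Groth.Agent.Lib.Helper6.Torsor.isAffineHom_of_isTorsorFor_fpqc a hP
  haveI : Smooth P.hom := Groth.Agent.Lib.Helper6.Torsor.smooth_of_isTorsorFor_fpqc a hP
  haveI : Surjective P.hom := Groth.Agent.Lib.Helper6.Torsor.surjective_of_isTorsorFor_fpqc a hP
  haveI : IsAffine P.left := isAffine_of_isAffineHom P.hom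
  obtain ⟨R', hC, hA, hE, hFF, s, hs⟩ :=
    Groth.Agent.Lib.Helper10.PSTorsor.exists_section_powerSeries R P.hom
  exact ⟨R', hC, hA, hE, hFF, s, hs⟩

end Groth.Agent.S19307
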