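import Groth.Statements.S19308
import Mathlib.RingTheory.Spectrum.Prime.Topology
import Mathlib.RingTheory.Ideal.Operations
import Mathlib.RingTheory.LocalRing.ResidueField.Ideal
import Mathlib.RingTheory.Localization.Away.Basic
import Groth.Agent.Lib.Helper10.TensorRegular
import Groth.Agent.Lib.Helper21.TensorDomain

set_option autoImplicit false
universe u
open TensorProduct
open CAlg

namespace Groth.Agent.S19308

open Groth.Agent.Lib.Helper10.TensorRegular in
theorem main
    (k : Type u) [Field k] [IsAlgClosed k]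
    (A : Type u) [CommRing A] [Algebra k A] [IsDomain A] [Algebra.FiniteType k A]
    (Z : Finset (A →ₐ[k] k))
    (R : Type u) [CommRing R] [Algebra k R]
    (U : TopologicalSpace.Opens (PrimeSpectrum (TensorProduct k R A)))
    (hZ : ∀ z ∈ Z, ∀ q : PrimeSpectrum R,
      PrimeSpectrum.comap (Algebra.TensorProduct.lift (AlgHom.id k R) ((Algebra.ofId k R).comp z)
        (fun _ _ => Commute.all _ _)).toRingHom q ∈ U)
    (hsurj : ∀ q : PrimeSpectrum R, ∃ P ∈ U,
      PrimeSpectrum.comap (Algebra.TensorProduct.includeLeftRingHom : R →+* TensorProduct k R A) P = q)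
    (p : PrimeSpectrum R) :
    ∃ r : R, r ∉ p.asIdeal ∧
      ∃ f : TensorProduct k (Localization.Away r) A,
        f ∈ nonZeroDivisors (TensorProduct k (Localization.Away r) A) ∧
        Module.Flat (Localization.Away r)
          (TensorProduct k (Localization.Away r) A ⧸ Ideal.span {f}) ∧
        (∀ z ∈ Z, IsUnit (Algebra.TensorProduct.lift (AlgHom.id k (Localization.Away r))
          ((Algebra.ofId k (Localization.Away r)).comp z) (fun _ _ => Commute.all _ _) f)) ∧
        (∀ P : PrimeSpectrum (TensorProduct k (Localization.Away r) A), f ∉ P.asIdeal →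
          PrimeSpectrum.comap (Algebra.TensorProduct.map
            (IsScalarTower.toAlgHom k R (Localization.Away r)) (AlgHom.id k A)).toRingHom P ∈ U) := by
  classical
  -- a basis of `A` and the geometric integrality of `A`
  let b := Module.Basis.ofVectorSpace k A
  have hdom : ∀ (S : Type u) [CommRing S] [Algebra k S] (𝔮 : Ideal S), 𝔮.IsMaximal →
      NoZeroDivisors ((S ⧸ 𝔮) ⊗[k] A) := by
    intro S _ _ 𝔮 h𝔮
    let := Ideal.Quotient.field 𝔮
    have := Groth.Agent.Lib.Helper21.isDomain_tensor_of_isAlgClosed' k A (S ⧸ 𝔮)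
    exact inferInstance
  -- the ideal of the complement of `U`
  obtain ⟨J, hJdef⟩ : ∃ J : Ideal (R ⊗[k] A),
      J = PrimeSpectrum.vanishingIdeal ((U : Set (PrimeSpectrum (R ⊗[k] A)))ᶜ) := ⟨_, rfl⟩
  have hJ1 : ∀ P : PrimeSpectrum (R ⊗[k] A), (∃ j ∈ J, j ∉ P.asIdeal) → P ∈ U := by
    rintro P ⟨j, hj, hjP⟩
    by_contra hPU
    rw [hJdef, PrimeSpectrum.mem_vanishingIdeal] at hj
    exact hjP (hj P hPU)
  have hJ2 : ∀ P : PrimeSpectrum (R ⊗[k] A), P ∈ U → ¬ (J ≤ P.asIdeal) := by
    intro P hPU hle
    have hcl : IsClosed ((U : Set (PrimeSpectrum (R ⊗[k] A)))ᶜ) := U.isOpen.isClosed_compl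
    have : P ∈ PrimeSpectrum.zeroLocus (J : Set (R ⊗[k] A)) := by
      rw [PrimeSpectrum.mem_zeroLocus]
      exact hle
    rw [hJdef, PrimeSpectrum.zeroLocus_vanishingIdeal_eq_closure, hcl.closure_eq] at this
    exact this hPU
  -- the generic point of the fibre over `p`
  have hκdom : IsDomain (p.asIdeal.ResidueField ⊗[k] A) :=
    Groth.Agent.Lib.Helper21.isDomain_tensor_of_isAlgClosed' k A p.asIdeal.ResidueField
  obtain ⟨Φ, hΦdef⟩ : ∃ Φ : R ⊗[k] A →ₐ[k] p.asIdeal.ResidueField ⊗[k] A,
      Φ = Algebra.TensorProduct.map (IsScalarTower.toAlgHom k R p.asIdeal.ResidueField)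
        (AlgHom.id k A) := ⟨_, rfl⟩
  have hΦker : ∀ x : R ⊗[k] A, Φ x = 0 ↔ ∀ i, (cb b R).repr x i ∈ p.asIdeal := by
    intro x
    have h1 : ∀ i, (cb b p.asIdeal.ResidueField).repr (Φ x) i
        = algebraMap R p.asIdeal.ResidueField ((cb b R).repr x i) := by
      intro i
      rw [hΦdef, cb_repr_map]
      rfl
    constructor
    · intro h i
      have := h1 i
      rw [h] at this
      simp only [map_zero, Finsupp.coe_zero, Pi.zero_apply] at this
      exact Ideal.algebraMap_residueField_eq_zero.mp this.symm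
    · intro h
      apply (cb b p.asIdeal.ResidueField).repr.injective
      ext i
      rw [h1 i, Ideal.algebraMap_residueField_eq_zero.mpr (h i)]
      simp
  have hP0prime : (RingHom.ker (Φ : R ⊗[k] A →+* p.asIdeal.ResidueField ⊗[k] A)).IsPrime :=
    RingHom.ker_isPrime _
  have hP0 : ¬ (J ≤ RingHom.ker (Φ : R ⊗[k] A →+* p.asIdeal.ResidueField ⊗[k] A)) := by
    intro hle
    obtain ⟨P, hPU, hPp⟩ := hsurj p
    apply hJ2 P hPU
    refine hle.trans ?_
    intro x hx
    rw [RingHom.mem_ker] at hx
    have hx' : ∀ i, (cb b R).repr x i ∈ p.asIdeal := (hΦker x).mp hx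
    rw [eq_sum_repr b R x]
    refine Ideal.sum_mem _ fun i _ => ?_
    have h1 : ((cb b R).repr x i) ⊗ₜ[k] b i
        = (Algebra.TensorProduct.includeLeftRingHom ((cb b R).repr x i) : R ⊗[k] A)
          * ((1 : R) ⊗ₜ[k] b i) := by
      rw [Algebra.TensorProduct.includeLeftRingHom_apply, Algebra.TensorProduct.tmul_mul_tmul,
        mul_one, one_mul]
    rw [h1]
    apply Ideal.mul_mem_right
    have h2 := hx' i
    rw [← hPp] at h2
    exact h2
  -- the primes to avoid
  let F : Option (A →ₐ[k] k) → Ideal (R ⊗[k] A) := fun o =>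
    match o with
    | none => RingHom.ker (Φ : R ⊗[k] A →+* p.asIdeal.ResidueField ⊗[k] A)
    | some z => (PrimeSpectrum.comap (Algebra.TensorProduct.lift (AlgHom.id k R)
        ((Algebra.ofId k R).comp z) (fun _ _ => Commute.all _ _)).toRingHom p).asIdeal
  have hFprime : ∀ o, (F o).IsPrime := by
    intro o
    cases o with
    | none => exact hP0prime
    | some z => exact PrimeSpectrum.isPrime _
  have hFnot : ∀ o ∈ Finset.insertNone Z, ¬ (J ≤ F o) := by
    intro o ho
    cases o with
    | none => exact hP0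
    | some z =>
      have hz : z ∈ Z := Finset.mem_insertNone.mp ho z rfl
      exact hJ2 _ (hZ z hz p)
  obtain ⟨j, hjJ, hj⟩ : ∃ j ∈ J, ∀ o ∈ Finset.insertNone Z, j ∉ F o := by
    by_contra hcon
    push Not at hcon
    have hsub : (J : Set (R ⊗[k] A)) ⊆ ⋃ o ∈ (↑(Finset.insertNone Z) : Set _), (F o : Set _) := by
      intro x hx
      obtain ⟨o, ho, hxo⟩ := hcon x hx
      exact Set.mem_biUnion (Finset.mem_coe.mpr ho) hxo
    obtain ⟨o, ho, hle⟩ := (Ideal.subset_union_prime (none : Option (A →ₐ[k] k)) none
      (fun i _ _ _ => hFprime i)).mp hsub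
    exact hFnot o ho hle
  -- consequences for `j`
  have hj0 : ∃ i₀, (cb b R).repr j i₀ ∉ p.asIdeal := by
    by_contra hcon
    push Not at hcon
    have h0 : j ∉ F none := hj none (Finset.mem_insertNone.mpr (by simp))
    exact h0 (RingHom.mem_ker.mpr ((hΦker j).mpr hcon))
  obtain ⟨i₀, hi₀⟩ := hj0
  have hjz : ∀ z ∈ Z, Algebra.TensorProduct.lift (AlgHom.id k R)
      ((Algebra.ofId k R).comp z) (fun _ _ => Commute.all _ _) j ∉ p.asIdeal := by
    intro z hz
    have h0 : j ∉ F (some z) := hj (some z) (Finset.mem_insertNone.mpr (by simpa using hz))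
    exact h0
  -- the element `r`
  refine ⟨(cb b R).repr j i₀ * ∏ z ∈ Z, Algebra.TensorProduct.lift (AlgHom.id k R)
      ((Algebra.ofId k R).comp z) (fun _ _ => Commute.all _ _) j, ?_, ?_⟩
  · intro hmem
    rcases (Ideal.IsPrime.mul_mem_iff_mem_or_mem (PrimeSpectrum.isPrime p)).mp hmem with h | h
    · exact hi₀ h
    · obtain ⟨z, hz, hzmem⟩ := (Ideal.IsPrime.prod_mem_iff (hp := PrimeSpectrum.isPrime p)).mp h
      exact hjz z hz hzmem
  obtain ⟨r, hrdef⟩ : ∃ r : R, r = (cb b R).repr j i₀ * ∏ z ∈ Z, Algebra.TensorProduct.lift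
      (AlgHom.id k R) ((Algebra.ofId k R).comp z) (fun _ _ => Commute.all _ _) j := ⟨_, rfl⟩
  rw [← hrdef]
  have hrunit : IsUnit (algebraMap R (Localization.Away r) r) :=
    IsLocalization.Away.algebraMap_isUnit r
  have hdvd0 : (cb b R).repr j i₀ ∣ r := ⟨_, hrdef⟩
  have hdvdz : ∀ z ∈ Z, Algebra.TensorProduct.lift (AlgHom.id k R)
      ((Algebra.ofId k R).comp z) (fun _ _ => Commute.all _ _) j ∣ r := by
    intro z hz
    rw [hrdef]
    exact Dvd.dvd.mul_left (Finset.dvd_prod_of_mem _ hz) _
  obtain ⟨φ, hφdef⟩ : ∃ φ : R →ₐ[k] Localization.Away r,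
      φ = IsScalarTower.toAlgHom k R (Localization.Away r) := ⟨_, rfl⟩
  have hφ : ∀ x, φ x = algebraMap R (Localization.Away r) x := by
    intro x; rw [hφdef]; rfl
  refine ⟨Algebra.TensorProduct.map φ (AlgHom.id k A) j, ?_, ?_, ?_, ?_⟩
  · -- non-zero-divisor
    have hunit : ∃ i, IsUnit ((cb b (Localization.Away r)).repr
        (Algebra.TensorProduct.map φ (AlgHom.id k A) j) i) := by
      refine ⟨i₀, ?_⟩
      rw [cb_repr_map, hφ]
      exact isUnit_of_dvd_unit ((algebraMap R (Localization.Away r)).map_dvd hdvd0) hrunit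
    rw [mem_nonZeroDivisors_iff]
    refine ⟨fun x hx => ?_, fun x hx => ?_⟩
    · exact eq_zero_of_mul_eq_zero b (hdom (Localization.Away r)) _ x hunit hx
    · rw [mul_comm] at hx
      exact eq_zero_of_mul_eq_zero b (hdom (Localization.Away r)) _ x hunit hx
  · -- flatness
    refine flat_quotient_span_singleton b (fun I 𝔮 h𝔮 => hdom (Localization.Away r ⧸ I) 𝔮 h𝔮) _ ?_
    refine ⟨i₀, ?_⟩
    rw [cb_repr_map, hφ]
    exact isUnit_of_dvd_unit ((algebraMap R (Localization.Away r)).map_dvd hdvd0) hrunit
  · -- units at the points of `Z`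
    intro z hz
    have hnat : ∀ x : R ⊗[k] A,
        Algebra.TensorProduct.lift (AlgHom.id k (Localization.Away r))
          ((Algebra.ofId k (Localization.Away r)).comp z) (fun _ _ => Commute.all _ _)
          (Algebra.TensorProduct.map φ (AlgHom.id k A) x)
        = φ (Algebra.TensorProduct.lift (AlgHom.id k R)
          ((Algebra.ofId k R).comp z) (fun _ _ => Commute.all _ _) x) := by
      intro x
      induction x using TensorProduct.induction_on with
      | zero => simp
      | tmul s a =>
        simp only [Algebra.TensorProduct.map_tmul, Algebra.TensorProduct.lift_tmul,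
          AlgHom.id_apply, AlgHom.comp_apply, map_mul, Algebra.ofId_apply, AlgHom.commutes]
      | add x y hx hy => simp only [map_add, hx, hy]
    rw [hnat, hφ]
    exact isUnit_of_dvd_unit ((algebraMap R (Localization.Away r)).map_dvd (hdvdz z hz)) hrunit
  · -- the basic open set maps into `U`
    intro P hP
    apply hJ1
    refine ⟨j, hjJ, ?_⟩
    intro hmem
    apply hP
    rw [← hφdef] at hmem
    exact hmem

/-- Let k be an algebraically closed field, A a finitely generated k-algebra which is an integral domain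
(an affine variety X = Spec A), Z a finite (possibly empty) set of k-points of A, R a commutative
k-algebra and U an open dense subset of Spec (R ⊗_k A) = X_R containing every point of Z_R and
meeting every fibre of X_R → Spec R. Then locally on Spec R there is a principal relative effective
Cartier divisor missing Z_R whose complement lies in U: for every prime p of R there are r ∉ p and f
∈ R[1/r] ⊗_k A such that f is a non-zero-divisor, (R[1/r] ⊗_k A)/(f) is flat over R[1/r], f maps to
a unit under every point of Z, and the basic open set D(f) of X_{R[1/r]} maps into U. (The published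
statement is for a quasi-projective variety X and asks for relative Cartier divisors D_i over an
open cover of Spec R; this row is the affine case, to which the published proof reduces, where the
divisors produced are principal.) -/
theorem result
    (k : Type u) [Field k] [IsAlgClosed k]
    (A : Type u) [CommRing A] [Algebra k A] [IsDomain A] [Algebra.FiniteType k A]
    (Z : Finset (A →ₐ[k] k))
    (R : Type u) [CommRing R] [Algebra k R]
    (U : TopologicalSpace.Opens (PrimeSpectrum (TensorProduct k R A)))
    (hU : Dense (U : Set (PrimeSpectrum (TensorProduct k R A))))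
    (hZ : ∀ z ∈ Z, ∀ q : PrimeSpectrum R,
      PrimeSpectrum.comap (Algebra.TensorProduct.lift (AlgHom.id k R) ((Algebra.ofId k R).comp z)
        (fun _ _ => Commute.all _ _)).toRingHom q ∈ U)
    (hsurj : ∀ q : PrimeSpectrum R, ∃ P ∈ U,
      PrimeSpectrum.comap (Algebra.TensorProduct.includeLeftRingHom : R →+* TensorProduct k R A) P = q)
    (p : PrimeSpectrum R) :
    ∃ r : R, r ∉ p.asIdeal ∧
      ∃ f : TensorProduct k (Localization.Away r) A,
        f ∈ nonZeroDivisors (TensorProduct k (Localization.Away r) A) ∧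
        Module.Flat (Localization.Away r)
          (TensorProduct k (Localization.Away r) A ⧸ Ideal.span {f}) ∧
        (∀ z ∈ Z, IsUnit (Algebra.TensorProduct.lift (AlgHom.id k (Localization.Away r))
          ((Algebra.ofId k (Localization.Away r)).comp z) (fun _ _ => Commute.all _ _) f)) ∧
        (∀ P : PrimeSpectrum (TensorProduct k (Localization.Away r) A), f ∉ P.asIdeal →
          PrimeSpectrum.comap (Algebra.TensorProduct.map
            (IsScalarTower.toAlgHom k R (Localization.Away r)) (AlgHom.id k A)).toRingHom P ∈ U) := by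
  exact main k A Z R U hZ hsurj p

end Groth.Agent.S19308
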