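import Groth.Statements.S19309
import Mathlib.RingTheory.LaurentSeries

set_option autoImplicit false
universe u
open PowerSeries LaurentSeries
open CAlg

namespace Groth.Agent.S19309

section
open HahnSeries

variable {R R' : Type u} [CommRing R] [CommRing R']

/-- A ring map on Laurent series compatible with `PowerSeries.map φ` fixes the monomials. -/
theorem theta_single (φ : R →+* R') (θ : R⸨X⸩ →+* R'⸨X⸩)
    (hθ : θ.comp (algebraMap R⟦X⟧ R⸨X⸩) = (algebraMap R'⟦X⟧ R'⸨X⸩).comp (PowerSeries.map φ))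
    (a : ℤ) : θ (single a (1 : R)) = single a (1 : R') := by
  have h1 : θ (single (1 : ℤ) (1 : R)) = single (1 : ℤ) (1 : R') := by
    have := RingHom.congr_fun hθ (PowerSeries.X : R⟦X⟧)
    simpa [ofPowerSeries_X] using this
  have hnat : ∀ m : ℕ, θ (single (m : ℤ) (1 : R)) = single (m : ℤ) (1 : R') := by
    intro m
    have e1 : (single (m : ℤ) (1 : R)) = (single (1 : ℤ) (1 : R)) ^ m := by
      rw [single_pow]; simp
    have e2 : (single (m : ℤ) (1 : R')) = (single (1 : ℤ) (1 : R')) ^ m := by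
      rw [single_pow]; simp
    rw [e1, e2, map_pow, h1]
  obtain ⟨m, rfl | rfl⟩ := Int.eq_nat_or_neg a
  · exact hnat m
  · have e1 : (single (-(m : ℤ)) (1 : R)) * single (m : ℤ) (1 : R) = 1 := by
      rw [single_mul_single]; simp
    have e2 : (single (m : ℤ) (1 : R')) * single (-(m : ℤ)) (1 : R') = 1 := by
      rw [single_mul_single]; simp
    have e3 : θ (single (-(m : ℤ)) (1 : R)) * single (m : ℤ) (1 : R') = 1 := by
      rw [← hnat m, ← map_mul, e1, map_one]
    calc θ (single (-(m : ℤ)) (1 : R))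
        = θ (single (-(m : ℤ)) (1 : R)) * (single (m : ℤ) (1 : R') * single (-(m : ℤ)) (1 : R')) := by
          rw [e2, mul_one]
      _ = single (-(m : ℤ)) (1 : R') := by rw [← mul_assoc, e3, one_mul]

/-- A ring map on Laurent series compatible with `PowerSeries.map φ` acts coefficientwise. -/
theorem theta_coeff (φ : R →+* R') (θ : R⸨X⸩ →+* R'⸨X⸩)
    (hθ : θ.comp (algebraMap R⟦X⟧ R⸨X⸩) = (algebraMap R'⟦X⟧ R'⸨X⸩).comp (PowerSeries.map φ))
    (f : R⸨X⸩) (n : ℤ) : (θ f).coeff n = φ (f.coeff n) := by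
  have hf : f = (single f.order 1 : R⸨X⸩) * ofPowerSeries ℤ R f.powerSeriesPart :=
    (single_order_mul_powerSeriesPart f).symm
  have h2 : θ (ofPowerSeries ℤ R f.powerSeriesPart)
      = ofPowerSeries ℤ R' (PowerSeries.map φ f.powerSeriesPart) :=
    RingHom.congr_fun hθ f.powerSeriesPart
  have h3 : θ f = (single f.order 1 : R'⸨X⸩) *
      ofPowerSeries ℤ R' (PowerSeries.map φ f.powerSeriesPart) := by
    conv_lhs => rw [hf]
    rw [map_mul, theta_single φ θ hθ, h2]
  rw [h3]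
  conv_rhs => rw [hf]
  rw [coeff_single_mul, coeff_single_mul, one_mul, one_mul, PowerSeries.coeff_coe,
    PowerSeries.coeff_coe]
  split_ifs
  · simp
  · simp

theorem mem_range_of_coeff_neg (g : R'⸨X⸩) (hg : ∀ n : ℤ, n < 0 → g.coeff n = 0) :
    g ∈ (algebraMap R'⟦X⟧ R'⸨X⸩).range := by
  refine ⟨PowerSeries.mk fun n => g.coeff n, ?_⟩
  ext n
  rw [LaurentSeries.coe_algebraMap, PowerSeries.coeff_coe]
  split_ifs with h
  · exact (hg n h).symm
  · rw [PowerSeries.coeff_mk]
    congr 1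
    omega

theorem main (R : Type u) [CommRing R]
    (B : Type u) [CommRing B] [Algebra R⟦X⟧ B]
    (s : B →ₐ[R⟦X⟧] R⸨X⸩) :
    ∃ I : Ideal R, ∀ (R' : Type u) [CommRing R'] (φ : R →+* R') (θ : R⸨X⸩ →+* R'⸨X⸩),
      θ.comp (algebraMap R⟦X⟧ R⸨X⸩) = (algebraMap R'⟦X⟧ R'⸨X⸩).comp (PowerSeries.map φ) →
      ((∃ s' : B →+* R'⟦X⟧, s'.comp (algebraMap R⟦X⟧ B) = PowerSeries.map φ ∧
          (algebraMap R'⟦X⟧ R'⸨X⸩).comp s' = θ.comp s.toRingHom) ↔ I ≤ RingHom.ker φ) := by
  refine ⟨Ideal.span {r | ∃ (b : B) (n : ℤ), n < 0 ∧ (s b).coeff n = r}, ?_⟩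
  intro R' _ φ θ hθ
  have hinj : Function.Injective (algebraMap R'⟦X⟧ R'⸨X⸩) := ofPowerSeries_injective
  constructor
  · rintro ⟨s', _, h2⟩
    rw [Ideal.span_le]
    rintro r ⟨b, n, hn, rfl⟩
    rw [SetLike.mem_coe, RingHom.mem_ker, ← theta_coeff φ θ hθ]
    have := RingHom.congr_fun h2 b
    simp only [RingHom.comp_apply] at this
    have h3 : θ (s b) = ofPowerSeries ℤ R' (s' b) := this.symm
    rw [h3, PowerSeries.coeff_coe, if_pos hn]
  · intro hI
    have hmem : ∀ b : B, (θ.comp s.toRingHom) b ∈ (algebraMap R'⟦X⟧ R'⸨X⸩).range := by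
      intro b
      apply mem_range_of_coeff_neg
      intro n hn
      rw [RingHom.comp_apply, theta_coeff φ θ hθ]
      exact hI (Ideal.subset_span ⟨b, n, hn, rfl⟩)
    let e : R'⟦X⟧ ≃+* (algebraMap R'⟦X⟧ R'⸨X⸩).range :=
      RingEquiv.ofBijective (algebraMap R'⟦X⟧ R'⸨X⸩).rangeRestrict
        ⟨fun a b h => hinj (congrArg Subtype.val h),
          RingHom.rangeRestrict_surjective _⟩
    let s' : B →+* R'⟦X⟧ :=
      e.symm.toRingHom.comp ((θ.comp s.toRingHom).codRestrict _ hmem)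
    have hs' : ∀ b, algebraMap R'⟦X⟧ R'⸨X⸩ (s' b) = θ (s b) := by
      intro b
      have : (e (s' b) : R'⸨X⸩) = θ (s b) := by
        simp [s']
      rw [← this]
      rfl
    refine ⟨s', ?_, ?_⟩
    · ext1 g
      apply hinj
      rw [RingHom.comp_apply, hs', AlgHom.commutes]
      exact RingHom.congr_fun hθ g
    · ext1 b
      exact hs' b

end

/-- Let k be a field, R a commutative k-algebra, B a finitely presented R⟦X⟧-algebra (an affine scheme V
= Spec B of finite presentation over the disc D_R = Spec R⟦X⟧) and s : B → R((X)) an R⟦X⟧-algebra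
map (a section of V over the punctured disc). Then there is an ideal I of R such that for every ring
map φ : R → R', writing θ : R((X)) → R'((X)) for the ring map compatible with R⟦X⟧ → R'⟦X⟧, the
section s extends to a section over D_{R'} — an R⟦X⟧-algebra map s' : B → R'⟦X⟧ whose composite with
R'⟦X⟧ → R'((X)) is θ ∘ s — if and only if φ kills I. In other words the sub-presheaf of Spec R where
s extends over the disc is the closed subscheme defined by I. -/
theorem result
    (k : Type u) [Field k] (R : Type u) [CommRing R] [Algebra k R]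
    (B : Type u) [CommRing B] [Algebra R⟦X⟧ B] [Algebra.FinitePresentation R⟦X⟧ B]
    (s : B →ₐ[R⟦X⟧] R⸨X⸩) :
    ∃ I : Ideal R, ∀ (R' : Type u) [CommRing R'] (φ : R →+* R') (θ : R⸨X⸩ →+* R'⸨X⸩),
      θ.comp (algebraMap R⟦X⟧ R⸨X⸩) = (algebraMap R'⟦X⟧ R'⸨X⸩).comp (PowerSeries.map φ) →
      ((∃ s' : B →+* R'⟦X⟧, s'.comp (algebraMap R⟦X⟧ B) = PowerSeries.map φ ∧
          (algebraMap R'⟦X⟧ R'⸨X⸩).comp s' = θ.comp s.toRingHom) ↔ I ≤ RingHom.ker φ) := by
  exact main R B s

end Groth.Agent.S19309
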