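import Groth.Statements.S1931
import Mathlib
import Groth.Agent.Lib.Helper18.KF27

set_option autoImplicit false
universe u
open CategoryTheory AlgebraicGeometry
open CategoryTheory.Limits
open Cyc

namespace Groth.Agent.S1931

/-- Let (L, s, i : D → X) and (L', s', i' : D' → X) be two invertible modules with global sections and
their zero schemes, and D ∩ D' = D ×_X D' with projections j to D and j' to D' (the zero schemes of
the restricted sections). For a k-cycle α on X, (j')^*(i^*α) ∼_rat j^*((i')^*α) as (k − 2)-cycles on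
D ∩ D'. The Gysin maps on D and D' are computed from any global sections σ' of L'|_D and σ of
L|_{D'} whose zero schemes are j and j'. Here i : D → X is the zero scheme of a global section s of
the invertible module L (Cyc.IsZeroSchemeOf), the Gysin map i^* : Z_{k+1}(X) → CH_k(D) is computed
on coefficient functions as c_1(L) ∩ − with the rational sections taken to be s where it is nonzero
(Cyc.gysinChoice) and restricted to the points of D, and classes on D are compared up to rational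
equivalence on D for the restricted dimension function. A pair (X, δ) with Cyc.IsSetup plays the
role of a scheme locally of finite type over a base with a dimension function (X locally Noetherian
with universally catenary local rings, δ a dimension function), and Cyc.DeltaCompat records that the
dimension function upstairs is the induced one. -/
theorem result (X D D' : Scheme.{u}) (δ : X → ℤ) (hX : Cyc.IsSetup X δ) (L L' : X.Modules) (hL : PicF.IsInvertible L) (hL' : PicF.IsInvertible L') (s : L.presheaf.obj (Opposite.op ⊤)) (s' : L'.presheaf.obj (Opposite.op ⊤)) (i : D ⟶ X) (i' : D' ⟶ X) [IsClosedImmersion i] [IsClosedImmersion i'] (hD : Cyc.IsZeroSchemeOf i L s) (hD' : Cyc.IsZeroSchemeOf i' L' s') (σ' : ((Scheme.Modules.pullback i).obj L').presheaf.obj (Opposite.op ⊤)) (hσ' : Cyc.IsZeroSchemeOf (pullback.fst i i') ((Scheme.Modules.pullback i).obj L') σ') (σ : ((Scheme.Modules.pullback i').obj L).presheaf.obj (Opposite.op ⊤)) (hσ : Cyc.IsZeroSchemeOf (pullback.snd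 i i') ((Scheme.Modules.pullback i').obj L) σ) (k : ℤ) (α : AlgebraicCycle X ℤ) (hα : α ∈ Cyc.Zk X δ k) (w : (ξ : X) → Cyc.secFibre L ξ) (hw : ∀ ξ, w ξ ≠ 0) (w' : (ξ : X) → Cyc.secFibre L' ξ) (hw' : ∀ ξ, w' ξ ≠ 0) (w₁ : (d : D) → Cyc.secFibre ((Scheme.Modules.pullback i).obj L') d) (hw₁ : ∀ d, w₁ d ≠ 0) (w₂ : (d : D') → Cyc.secFibre ((Scheme.Modules.pullback i').obj L) d) (hw₂ : ∀ d, w₂ d ≠ 0) (γ : D → ℤ) (hγ : γ = fun d => Cyc.c1CapFun δ L ⇑α (Cyc.gysinChoice L s w) (i d)) (γ' : D' → ℤ) (hγ' : γ' = fun d => Cyc.c1CapFun δ L' ⇑α (Cyc.gysinChoice L' s' w') (i' d)) (ζ₁ ζ₂ : AlgebraicCycle (pullback i i') ℤ) (h₁ : ∀ z, ζ₁ z = Cyc.c1CapFun (fun d => δ (i d)) ((Scheme.Modules.pullback i).obj L') γ (Cyc.gysinChoice ((Scheme.Modules.pullback i).obj L') σ' w₁) (pullback.fst i i' z)) (h₂ : ∀ z, ζ₂ z = Cyc.c1CapFun (fun d => δ (i' d)) ((Scheme.Modules.pullback i').obj L) γ' (Cyc.gysinChoice ((Scheme.Modules.pullback i').obj L) σ w₂) (pullback.snd i i' z)) : Cyc.RatEquiv (fun z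 => δ (i (pullback.fst i i' z))) (k - 2) ζ₁ ζ₂ := by
  classical
  have hP : IsPullback (pullback.fst i i') (pullback.snd i i') i i' := IsPullback.of_hasPullback i i'
  haveI : IsClosedImmersion (pullback.fst i i') :=
    Groth.Agent.Lib.Helper18.KF22.isClosedImmersion_fst hP
  have hPset : Cyc.IsSetup (pullback i i') (fun z => δ (i (pullback.fst i i' z))) :=
    Groth.Agent.Lib.Helper18.ClImm.isSetup (pullback.fst i i' ≫ i) δ hX
  have hA := Groth.Agent.Lib.Helper18.KF27.gysin_gysin δ hX hL hL' s s' hD hD' hP σ' hσ' w w' w₁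
    hw hw' hw₁ k α hα
  have hB := Groth.Agent.Lib.Helper18.KF27.gysin_gysin δ hX hL' hL s' s hD' hD hP.flip σ hσ w' w w₂
    hw' hw hw₂ k α hα
  have hδeq : (fun z => δ (i' (pullback.snd i i' z))) = fun z => δ (i (pullback.fst i i' z)) :=
    funext fun z => by rw [Groth.Agent.Lib.Helper18.KF25.map_eq hP z]
  rw [hδeq] at hB
  have hC0 := Groth.Agent.Lib.Helper18.KF23.gysin_comm_in δ hX hL hL' s s' i i' hD hD' w w' hw hw' k
    α hα
  have hsub : Set.range ⇑i ∩ Set.range ⇑i' ⊆ Set.range ⇑(pullback.fst i i' ≫ i) := by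
    rintro x ⟨⟨d, hd⟩, ⟨d', hd'⟩⟩
    obtain ⟨z, hz, -⟩ := Groth.Agent.Lib.Helper18.KF25.exists_point hP d d' (hd.trans hd'.symm)
    exact ⟨z, by rw [Scheme.Hom.comp_apply, hz, hd]⟩
  have hC1 := Groth.Agent.Lib.Helper18.KF18.RatEquivZeroIn.mono hsub hC0
  have hC := Groth.Agent.Lib.Helper18.KF18.ratEquivZeroIn_comap (pullback.fst i i' ≫ i) δ hX (k - 2)
    _ hC1
  have hC' : Groth.Agent.Lib.Helper18.KF16.RatEquivZeroIn (Set.univ : Set ↥(pullback i i'))
      (fun z => δ (i (pullback.fst i i' z))) (k - 2) (fun z =>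
      Cyc.c1CapFun δ L' (Cyc.c1CapFun δ L ⇑α (Cyc.gysinChoice L s w)) (Cyc.gysinChoice L' s' w')
        (i (pullback.fst i i' z)) -
      Cyc.c1CapFun δ L (Cyc.c1CapFun δ L' ⇑α (Cyc.gysinChoice L' s' w')) (Cyc.gysinChoice L s w)
        (i (pullback.fst i i' z))) := hC
  refine Groth.Agent.Lib.Helper18.KF16.RatEquivZeroIn.ratEquivZero (S := Set.univ) ?_
  refine Groth.Agent.Lib.Helper18.KF18.RatEquivZeroIn.congr
    (Groth.Agent.Lib.Helper18.KF27.RatEquivZeroIn.sub hPset
      (Groth.Agent.Lib.Helper18.KF18.RatEquivZeroIn.add hA hC') hB) ?_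
  intro z
  have e0 : (ζ₁ - ζ₂) z = ζ₁ z - ζ₂ z := rfl
  rw [e0, h₁ z, h₂ z, hγ, hγ']
  simp only []
  have hz : i' (pullback.snd i i' z) = i (pullback.fst i i' z) :=
    (Groth.Agent.Lib.Helper18.KF25.map_eq hP z).symm
  rw [hz]
  ring

end Groth.Agent.S1931
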