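import Groth.Statements.S19310
import Groth.Agent.Lib.Helper21.TensorDomain
import Groth.Agent.Lib.Helper21.TensorAnn
import Mathlib.LinearAlgebra.TensorProduct.RightExactness
-- import your own Groth.Agent.* helpers here

set_option autoImplicit false
universe u
open TensorProduct
open CAlg

namespace Groth.Agent.S19310

/-- Let k be an algebraically closed field, A a finitely generated k-algebra which is an integral domain
(X = Spec A an affine variety), R a commutative k-algebra, possibly non-reduced, and U an open
subset of X_R = Spec (R ⊗_k A) meeting every fibre of X_R → Spec R (a very dense open subset). Then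
a regular function on X_R whose restriction to U vanishes is zero: if f ∈ R ⊗_k A maps to 0 in the
localisation (R ⊗_k A)[1/g] for every g with D(g) ⊆ U, then f = 0. (The published statement is that
automorphisms of a torsor under a smooth affine group scheme over X_R which are the identity over a
very dense open subset are the identity, for X a smooth projective curve; its proof reduces this to
the present assertion about functions, for quasi-projective X; this row is the affine case.) -/
theorem result
    (k : Type u) [Field k] [IsAlgClosed k]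
    (A : Type u) [CommRing A] [Algebra k A] [IsDomain A] [Algebra.FiniteType k A]
    (R : Type u) [CommRing R] [Algebra k R]
    (U : TopologicalSpace.Opens (PrimeSpectrum (TensorProduct k R A)))
    (hsurj : ∀ q : PrimeSpectrum R, ∃ P ∈ U,
      PrimeSpectrum.comap (Algebra.TensorProduct.includeLeftRingHom : R →+* TensorProduct k R A) P = q)
    (f : TensorProduct k R A)
    (hf : ∀ g : TensorProduct k R A, (PrimeSpectrum.basicOpen g : Set (PrimeSpectrum (TensorProduct k R A))) ⊆ U →
      algebraMap (TensorProduct k R A) (Localization.Away g) f = 0) :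
    f = 0 := by
  classical
  by_contra hf0
  -- the annihilator of f in R
  let Ann : Ideal R := LinearMap.ker (LinearMap.toSpanSingleton R (TensorProduct k R A) f)
  have hAnn : ∀ r : R, r ∈ Ann ↔ (r ⊗ₜ[k] (1 : A)) * f = 0 := by
    intro r
    simp only [Ann, LinearMap.mem_ker, LinearMap.toSpanSingleton_apply]
    rw [Algebra.smul_def, Algebra.TensorProduct.algebraMap_apply]
    rfl
  have hAnn_ne : Ann ≠ ⊤ := by
    intro htop
    have h1 : (1 : R) ∈ Ann := htop ▸ Submodule.mem_top
    rw [hAnn] at h1
    have : (1 : R) ⊗ₜ[k] (1 : A) = (1 : TensorProduct k R A) := rfl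
    rw [this, one_mul] at h1
    exact hf0 h1
  obtain ⟨q, hqmax, hAq⟩ := Ideal.exists_le_maximal Ann hAnn_ne
  obtain ⟨P, hPU, hPq⟩ := hsurj ⟨q, hqmax.isPrime⟩
  -- a basic open neighbourhood of P inside U
  obtain ⟨V, ⟨g, rfl⟩, hPg, hgU⟩ :=
    PrimeSpectrum.isTopologicalBasis_basic_opens.exists_subset_of_mem_open hPU U.isOpen
  have hfg := hf g hgU
  rw [IsLocalization.map_eq_zero_iff (Submonoid.powers g)] at hfg
  obtain ⟨⟨_, n, rfl⟩, hn⟩ := hfg
  change g ^ n * f = 0 at hn
  have hgP : g ∉ P.asIdeal := hPg
  have hhP : g ^ n ∉ P.asIdeal := fun h => hgP (P.isPrime.mem_of_pow_mem n h)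
  have hqP : q = Ideal.comap (Algebra.TensorProduct.includeLeftRingHom : R →+* TensorProduct k R A) P.asIdeal := by
    have := congrArg PrimeSpectrum.asIdeal hPq
    exact this.symm
  -- domain
  let _ : Field (R ⧸ q) := Ideal.Quotient.field q
  have hdom : IsDomain ((R ⧸ q) ⊗[k] A) :=
    Groth.Agent.Lib.Helper21.isDomain_tensor_of_isAlgClosed' k A (R ⧸ q)
  have hπ : Algebra.TensorProduct.map (Ideal.Quotient.mkₐ k q) (AlgHom.id k A) (g ^ n) ≠ 0 := by
    intro h0
    have hker : g ^ n ∈ RingHom.ker (Algebra.TensorProduct.map (Ideal.Quotient.mkₐ k q) (AlgHom.id k A)) := h0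
    rw [Algebra.TensorProduct.rTensor_ker _ (Ideal.Quotient.mkₐ_surjective k q)] at hker
    have hkq : RingHom.ker (Ideal.Quotient.mkₐ k q) = q := by
      ext x
      rw [RingHom.mem_ker, Ideal.Quotient.mkₐ_eq_mk, Ideal.Quotient.eq_zero_iff_mem]
    rw [hkq] at hker
    have hle : Ideal.map (Algebra.TensorProduct.includeLeft : R →ₐ[k] TensorProduct k R A) q ≤ P.asIdeal := by
      rw [Ideal.map_le_iff_le_comap, hqP]
      exact le_rfl
    exact hhP (hle hker)
  obtain ⟨r, hrq, hrf⟩ := Groth.Agent.Lib.Helper21.exists_notMem_tmul_mul_eq_zero q f (g ^ n) hn hπ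
  exact hrq (hAq ((hAnn r).mpr hrf))

end Groth.Agent.S19310
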