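import Groth.Statements.S8355
import Mathlib

set_option autoImplicit false
universe v u
open CategoryTheory CategoryTheory.Limits
open SpSeq

namespace Groth.Agent.S8355

variable {C : Type u} [Category.{v} C] [Abelian C] {r₀ : ℤ}

/-- a zero term stays zero on the next page -/
theorem isZero_succ (E : CohomologicalSpectralSequence C r₀) (k : ℤ) (hk : r₀ ≤ k) (pq : ℤ × ℤ)
    (h : IsZero ((E.page k hk).X pq)) : IsZero ((E.page (k + 1) (by lia)).X pq) := by
  have h1 : IsZero ((E.page k hk).homology pq) :=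
    ShortComplex.isZero_homology_of_isZero_X₂ ((E.page k hk).sc pq) h
  exact IsZero.of_iso h1 (E.iso k (k + 1) pq rfl hk).symm

/-- at a position where both differentials vanish the term is unchanged on the next page -/
theorem iso_succ_of_d_eq_zero (E : CohomologicalSpectralSequence C r₀) (k : ℤ) (hk : r₀ ≤ k)
    (pq : ℤ × ℤ) (h1 : (E.page k hk).d (pq - (k, 1 - k)) pq = 0)
    (h2 : (E.page k hk).d pq (pq + (k, 1 - k)) = 0) :
    Nonempty ((E.page k hk).X pq ≅ (E.page (k + 1) (by lia)).X pq) := by
  let K := E.page k hk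
  have hprev : (ComplexShape.up' ((k, 1 - k) : ℤ × ℤ)).prev pq = pq - (k, 1 - k) :=
    ComplexShape.prev_eq' _ (by simp [ComplexShape.up'])
  have hnext : (ComplexShape.up' ((k, 1 - k) : ℤ × ℤ)).next pq = pq + (k, 1 - k) :=
    ComplexShape.next_eq' _ (by simp [ComplexShape.up'])
  have hf : (K.sc pq).f = 0 := by
    change K.d ((ComplexShape.up' ((k, 1 - k) : ℤ × ℤ)).prev pq) pq = 0
    rw [hprev]; exact h1
  have hg : (K.sc pq).g = 0 := by
    change K.d pq ((ComplexShape.up' ((k, 1 - k) : ℤ × ℤ)).next pq) = 0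
    rw [hnext]; exact h2
  have := (K.sc pq).isIso_iCycles hg
  exact ⟨(asIso (K.sc pq).iCycles).symm ≪≫ (K.sc pq).asIsoHomologyπ hf ≪≫
    E.iso k (k + 1) pq rfl hk⟩

/-- Let E be a spectral sequence in an abelian category and suppose E_r^{p,q} = 0. Then E_k^{p,q} = 0
for every k ≥ r, and E_∞^{p,q} = 0: for any abutment data (H^n) of E, the graded piece gr^p H^{p+q},
identified by the abutment with the limit term at (p, q), is zero. -/
theorem result {C : Type u} [Category.{v} C] [Abelian C] {r₀ : ℤ}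
    (E : CohomologicalSpectralSequence C r₀) (r : ℤ) (hr : r₀ ≤ r) (pq : ℤ × ℤ)
    (h : IsZero ((E.page r hr).X pq)) :
    (∀ (k : ℤ) (hk : r ≤ k), IsZero ((E.page k (hr.trans hk)).X pq)) ∧
      ∀ (H : ℤ → C) (a : SpSeq.Abutment E H),
        IsZero (SpSeq.grPiece (a.fil (pq.1 + pq.2)) (a.anti (pq.1 + pq.2)) pq.1) := by
  have part1 : ∀ (k : ℤ) (hk : r ≤ k), IsZero ((E.page k (hr.trans hk)).X pq) := by
    intro k hk
    induction k, hk using Int.le_induction with
    | base => exact h
    | succ k hk ih => exact isZero_succ E k (hr.trans hk) pq ih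
  refine ⟨part1, ?_⟩
  intro H a
  refine IsZero.of_iso ?_ (a.β pq).symm
  obtain ⟨hs0, hs⟩ := a.stat pq
  -- descending induction from a large page
  have key : ∀ (j : ℕ), IsZero ((E.page (a.rk pq + j) (by lia)).X pq) →
      IsZero ((E.page (a.rk pq) hs0).X pq) := by
    intro j
    induction j with
    | zero =>
      intro hz
      exact IsZero.of_iso hz (E.pageXIsoOfEq pq _ _ (by simp) (by lia)).symm
    | succ j ih =>
      intro hz
      apply ih
      obtain ⟨hd1, hd2⟩ := hs (a.rk pq + j) (by lia) (by lia)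
      obtain ⟨e⟩ := iso_succ_of_d_eq_zero E (a.rk pq + j) (by lia) pq hd1 hd2
      refine IsZero.of_iso ?_ e
      exact IsZero.of_iso hz (E.pageXIsoOfEq pq _ _ (by push_cast; ring) (by lia))
  rcases le_total r (a.rk pq) with hle | hle
  · exact part1 _ hle
  · apply key (r - a.rk pq).toNat
    refine IsZero.of_iso h (E.pageXIsoOfEq pq _ _ ?_ (by lia))
    rw [Int.toNat_of_nonneg (by lia)]
    ring

end Groth.Agent.S8355
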