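import Groth.Statements.S19322
import Groth.Agent.Lib.Helper21.SpSeqFin
import Groth.Agent.S8355
-- import your own Groth.Agent.* helpers here

set_option autoImplicit false
universe v u
open CategoryTheory CategoryTheory.Limits
open SpSeq

namespace Groth.Agent.S19322

theorem finrank_gr_congr {K : Type u} [Field K] {r₀ : ℤ}
    {E : CohomologicalSpectralSequence (ModuleCat.{v} K) r₀} {H : ℤ → ModuleCat.{v} K}
    (a : SpSeq.Abutment E H) (n' n : ℤ) (h : n' = n) (p : ℤ) :
    Module.finrank K ((SpSeq.grPiece (a.fil n') (a.anti n') p : ModuleCat.{v} K)) =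
      Module.finrank K ((SpSeq.grPiece (a.fil n) (a.anti n) p : ModuleCat.{v} K)) := by
  subst h
  rfl

/-- Let K be a field and E a cohomological spectral sequence of K-vector spaces, pages from r₀,
concentrated in the first quadrant on page r₀ and with all terms of page r₀ finite-dimensional, and
let H be abutment data for E whose filtration in degree n is finite, H n finite-dimensional. If the
dimensions of the page-r₀ terms E^{s, n-s}, 0 ≤ s ≤ n, add up to the dimension of H n, then every
position of total degree n is stationary from page r₀ on: all differentials into and out of it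
vanish on every page. (The printed statement takes r₀ a positive integer and n ≥ 0; neither
restriction is needed.) -/
theorem result
    {K : Type u} [Field K] {r₀ : ℤ}
    (E : CohomologicalSpectralSequence (ModuleCat.{v} K) r₀) (H : ℤ → ModuleCat.{v} K)
    (a : SpSeq.Abutment E H) (n : ℤ) (hfin : a.IsFinite n)
    (hquad : ∀ pq : ℤ × ℤ, pq.1 < 0 ∨ pq.2 < 0 → IsZero ((E.page r₀ le_rfl).X pq))
    (hfd : ∀ pq : ℤ × ℤ, Module.Finite K ((E.page r₀ le_rfl).X pq))
    (hH : Module.Finite K (H n))
    (hsum : ∑ s ∈ Finset.Icc (0 : ℤ) n, Module.finrank K ((E.page r₀ le_rfl).X (s, n - s)) =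
      Module.finrank K (H n)) :
    ∀ s : ℤ, SpSeq.StationaryAt E (s, n - s) r₀ := by
  classical
  obtain ⟨⟨A, hA⟩, ⟨B, hB⟩⟩ := hfin
  change a.fil n A = ⊤ at hA
  change a.fil n B = ⊥ at hB
  set A' := min A 0 with hA'
  set B' := max (max B (n + 1)) A' with hB'
  have hAB : A' ≤ B' := le_max_right _ _
  have hA'top : a.fil n A' = ⊤ := top_le_iff.mp (hA ▸ a.anti n (min_le_left A 0))
  have hB'bot : a.fil n B' = ⊥ :=
    le_bot_iff.mp (hB ▸ a.anti n ((le_max_left B (n + 1)).trans (le_max_left _ _)))
  have hHn := Groth.Agent.Lib.Helper21.SSFin.finrank_eq_sum_gr (a.fil n) (a.anti n) A' B' hAB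
    hA'top hB'bot
  -- the limit term has the dimension of the graded piece
  have hβ : ∀ p : ℤ, Module.finrank K ((E.page (a.rk (p, n - p)) (a.stat (p, n - p)).1).X (p, n - p)) =
      Module.finrank K ((SpSeq.grPiece (a.fil n) (a.anti n) p : ModuleCat.{v} K)) := by
    intro p
    rw [(a.β (p, n - p)).toLinearEquiv.finrank_eq]
    exact finrank_gr_congr a (p + (n - p)) n (by ring) p
  have hle : ∀ p : ℤ, Module.finrank K ((SpSeq.grPiece (a.fil n) (a.anti n) p : ModuleCat.{v} K)) ≤
      Module.finrank K ((E.page r₀ le_rfl).X (p, n - p)) := by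
    intro p
    have := hfd (p, n - p)
    rw [← hβ p]
    exact (Groth.Agent.Lib.Helper21.SSFin.pages E (p, n - p) _ (a.stat (p, n - p)).1).2.1
  have hzero : ∀ p : ℤ, p ∉ Finset.Icc (0 : ℤ) n → IsZero ((E.page r₀ le_rfl).X (p, n - p)) := by
    intro p hp
    apply hquad
    rw [Finset.mem_Icc] at hp
    change p < 0 ∨ n - p < 0
    lia
  have hsub : Finset.Icc (0 : ℤ) n ⊆ Finset.Ico A' B' := by
    intro p hp
    rw [Finset.mem_Icc] at hp
    rw [Finset.mem_Ico]
    have h1 : A' ≤ 0 := min_le_right A 0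
    have h2 : n + 1 ≤ B' := (le_max_right B (n + 1)).trans (le_max_left _ _)
    lia
  have hsum2 : ∑ s ∈ Finset.Icc (0 : ℤ) n, Module.finrank K ((E.page r₀ le_rfl).X (s, n - s)) =
      ∑ s ∈ Finset.Ico A' B', Module.finrank K ((E.page r₀ le_rfl).X (s, n - s)) := by
    apply Finset.sum_subset hsub
    intro p _ hp
    have := ModuleCat.isZero_iff_subsingleton.mp (hzero p hp)
    exact Module.finrank_zero_of_subsingleton
  have heq := (Finset.sum_eq_sum_iff_of_le (fun p _ => hle p)).mp
    (by rw [← hHn, ← hsum2, hsum])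
  intro s
  refine ⟨le_rfl, fun r' h₀ _ => ?_⟩
  by_cases hs : s ∈ Finset.Icc (0 : ℤ) n
  · have h1 := heq s (hsub hs)
    rw [← hβ s] at h1
    have := hfd (s, n - s)
    have h2 := (Groth.Agent.Lib.Helper21.SSFin.pages E (s, n - s) _ (a.stat (s, n - s)).1).2.2 h1
    rcases lt_or_ge r' (a.rk (s, n - s)) with hlt | hge
    · exact h2 r' h₀ hlt
    · exact (a.stat (s, n - s)).2 r' h₀ hge
  · have hz : IsZero ((E.page r' h₀).X (s, n - s)) :=
      (Groth.Agent.S8355.result E r₀ le_rfl (s, n - s) (hzero s hs)).1 r' h₀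
    exact ⟨hz.eq_of_tgt _ _, hz.eq_of_src _ _⟩

end Groth.Agent.S19322
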