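import Groth.Statements.S19323
import Groth.Agent.S8355
-- import your own Groth.Agent.* helpers here

set_option autoImplicit false
universe v u
open CategoryTheory CategoryTheory.Limits
open SpSeq

namespace Groth.Agent.S19323

theorem mono_homologyMap_of {C : Type u} [Category.{v} C] [Abelian C] (S₁ S₂ : ShortComplex C)
    (ψ : S₁ ⟶ S₂) (h1 : S₁.f = 0) (h2 : S₂.f = 0) [Mono ψ.τ₂] :
    Mono (ShortComplex.homologyMap ψ) := by
  have i1 : IsIso S₁.homologyπ := S₁.isIso_homologyπ h1
  have i2 : IsIso S₂.homologyπ := S₂.isIso_homologyπ h2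
  have key : S₁.homologyπ ≫ ShortComplex.homologyMap ψ ≫ inv S₂.homologyπ ≫ S₂.iCycles =
      S₁.iCycles ≫ ψ.τ₂ := by
    rw [ShortComplex.homologyπ_naturality_assoc, IsIso.hom_inv_id_assoc,
      ShortComplex.cyclesMap_i]
  have m1 : Mono (S₁.homologyπ ≫ ShortComplex.homologyMap ψ ≫ inv S₂.homologyπ ≫ S₂.iCycles) := by
    rw [key]
    infer_instance
  have m2 : Mono (ShortComplex.homologyMap ψ ≫ inv S₂.homologyπ ≫ S₂.iCycles) := by
    have h : ShortComplex.homologyMap ψ ≫ inv S₂.homologyπ ≫ S₂.iCycles =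
        inv S₁.homologyπ ≫
          (S₁.homologyπ ≫ ShortComplex.homologyMap ψ ≫ inv S₂.homologyπ ≫ S₂.iCycles) := by
      rw [IsIso.inv_hom_id_assoc]
    rw [h]
    infer_instance
  exact mono_of_mono _ (inv S₂.homologyπ ≫ S₂.iCycles)

/-- In an abelian category let E and E' be first-quadrant E₂ cohomological spectral sequences and φ : E
⟶ E' a morphism of spectral sequences such that (i) every differential of E' leaving a position
whose first coordinate is nonzero vanishes, (ii) on every page the map φ at each position followed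
by the outgoing differential of E' is zero, and (iii) φ is a monomorphism at every position of page
2. Then E degenerates at page 2. -/
theorem result
    {C : Type u} [Category.{v} C] [Abelian C]
    (E E' : E₂CohomologicalSpectralSequence C) (φ : E ⟶ E')
    (hE : ∀ pq : ℤ × ℤ, pq.1 < 0 ∨ pq.2 < 0 → IsZero ((E.page 2 le_rfl).X pq))
    (hE' : ∀ pq : ℤ × ℤ, pq.1 < 0 ∨ pq.2 < 0 → IsZero ((E'.page 2 le_rfl).X pq))
    (hd' : ∀ (r : ℤ) (hr : 2 ≤ r) (pq : ℤ × ℤ), pq.1 ≠ 0 →
      (E'.page r hr).d pq (pq + (r, 1 - r)) = 0)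
    (hφd : ∀ (r : ℤ) (hr : 2 ≤ r) (pq : ℤ × ℤ),
      (φ.hom r hr).f pq ≫ (E'.page r hr).d pq (pq + (r, 1 - r)) = 0)
    (hmono : ∀ pq : ℤ × ℤ, Mono ((φ.hom 2 le_rfl).f pq)) :
    SpSeq.Degenerates E 2 := by
  have hP : ∀ (r : ℤ) (hr : 2 ≤ r) (a b : ℤ), r ≤ a → Mono ((φ.hom r hr).f (a, b)) := by
    intro r hr
    induction r, hr using Int.le_induction with
    | base =>
      intro a b _
      exact hmono (a, b)
    | succ r hr ih =>
      intro a b hab
      have hmono_r : Mono ((φ.hom r hr).f (a, b)) := ih a b (by lia)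
      have hsrc : ((a, b) : ℤ × ℤ) - (r, 1 - r) + (r, 1 - r) = (a, b) := sub_add_cancel _ _
      have hdE : (E.page r hr).d ((a, b) - (r, 1 - r)) (a, b) = 0 := by
        have hnat := (φ.hom r hr).comm ((a, b) - (r, 1 - r)) (a, b)
        have h0 := hφd r hr ((a, b) - (r, 1 - r))
        rw [hsrc] at h0
        rw [h0] at hnat
        rw [← cancel_mono ((φ.hom r hr).f (a, b)), zero_comp, ← hnat]
      have hdE' : (E'.page r hr).d ((a, b) - (r, 1 - r)) (a, b) = 0 := by
        have := hd' r hr ((a, b) - (r, 1 - r)) (by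
          change a - r ≠ 0
          lia)
        rwa [hsrc] at this
      have hprev : (ComplexShape.up' ((r, 1 - r) : ℤ × ℤ)).prev (a, b) = (a, b) - (r, 1 - r) :=
        ComplexShape.prev_eq' _ (by simp [ComplexShape.up'])
      have hf : ((E.page r hr).sc (a, b)).f = 0 := by
        change (E.page r hr).d ((ComplexShape.up' ((r, 1 - r) : ℤ × ℤ)).prev (a, b)) (a, b) = 0
        rw [hprev]; exact hdE
      have hf' : ((E'.page r hr).sc (a, b)).f = 0 := by
        change (E'.page r hr).d ((ComplexShape.up' ((r, 1 - r) : ℤ × ℤ)).prev (a, b)) (a, b) = 0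
        rw [hprev]; exact hdE'
      have hm : Mono (HomologicalComplex.homologyMap (φ.hom r hr) (a, b)) := by
        have : Mono ((HomologicalComplex.shortComplexFunctor C _ (a, b)).map (φ.hom r hr)).τ₂ :=
          hmono_r
        exact mono_homologyMap_of _ _
          ((HomologicalComplex.shortComplexFunctor C _ (a, b)).map (φ.hom r hr)) hf hf'
      have hcomm := φ.comm r (r + 1) (a, b) rfl hr
      have heq : (φ.hom (r + 1) (by lia)).f (a, b) =
          (E.iso r (r + 1) (a, b) rfl hr).inv ≫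
            HomologicalComplex.homologyMap (φ.hom r hr) (a, b) ≫
              (E'.iso r (r + 1) (a, b) rfl hr).hom := by
        rw [hcomm, Iso.inv_hom_id_assoc]
      rw [heq]
      infer_instance
  refine ⟨le_rfl, fun r' h₀ _ pq pq' => ?_⟩
  by_cases hrel : pq + (r', 1 - r') = pq'
  · subst hrel
    by_cases hneg : pq.1 < 0
    · have hz : IsZero ((E.page r' h₀).X pq) :=
        (Groth.Agent.S8355.result E 2 le_rfl pq (hE pq (Or.inl hneg))).1 r' h₀
      exact hz.eq_of_src _ _
    · have hm : Mono ((φ.hom r' h₀).f (pq + (r', 1 - r'))) := by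
        have := hP r' h₀ (pq.1 + r') (pq.2 + (1 - r')) (by lia)
        exact this
      have hnat := (φ.hom r' h₀).comm pq (pq + (r', 1 - r'))
      rw [hφd r' h₀ pq] at hnat
      rw [← cancel_mono ((φ.hom r' h₀).f (pq + (r', 1 - r'))), zero_comp, ← hnat]
  · exact (E.page r' h₀).shape pq pq' hrel

end Groth.Agent.S19323
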