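import Groth.Statements.S19328
import Mathlib.RingTheory.Polynomial.ScaleRoots
import Mathlib.RingTheory.AdjoinRoot
import Mathlib.RingTheory.Flat.FaithfullyFlat.Algebra
import Mathlib.RingTheory.Localization.Integer
import Mathlib.RingTheory.RingHom.Flat
import Mathlib.RingTheory.RingHom.FinitePresentation
import Mathlib.AlgebraicGeometry.GammaSpecAdjunction
-- import your own Groth.Agent.* helpers here

set_option autoImplicit false
universe u
open CategoryTheory CategoryTheory.Limits AlgebraicGeometry
open ModPair

namespace Groth.Agent.S19328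

open Polynomial

/-- common denominators in the residue field of a prime -/
theorem exists_denominator (A : Type u) [CommRing A] (p : Ideal A) [p.IsPrime]
    (T : Finset p.ResidueField) :
    ∃ s : A, s ∉ p ∧ ∀ c ∈ T, ∃ a : A, algebraMap A p.ResidueField s * c = algebraMap A p.ResidueField a := by
  classical
  obtain ⟨b, hb⟩ := IsLocalization.exist_integer_multiples_of_finset (nonZeroDivisors (A ⧸ p)) T
  obtain ⟨s, hs⟩ := Ideal.Quotient.mk_surjective (b : A ⧸ p)
  refine ⟨s, ?_, ?_⟩
  · intro hsp
    have : (b : A ⧸ p) = 0 := by rw [← hs]; exact Ideal.Quotient.eq_zero_iff_mem.mpr hsp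
    exact nonZeroDivisors.coe_ne_zero b this
  · intro c hc
    obtain ⟨a', ha'⟩ := hb c hc
    obtain ⟨a, rfl⟩ := Ideal.Quotient.mk_surjective a'
    refine ⟨a, ?_⟩
    rw [IsScalarTower.algebraMap_apply A (A ⧸ p) p.ResidueField,
      IsScalarTower.algebraMap_apply A (A ⧸ p) p.ResidueField a]
    rw [Ideal.Quotient.algebraMap_eq, hs, ha', Algebra.smul_def]

/-- A ring in which every monic polynomial of positive degree has a root has algebraically closed
residue fields. -/
theorem isAlgClosed_residueField_of_roots (A : Type u) [CommRing A]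
    (hroot : ∀ Q : A[X], Q.Monic → 0 < Q.natDegree → ∃ r : A, Q.eval r = 0)
    (p : Ideal A) [p.IsPrime] : IsAlgClosed p.ResidueField := by
  classical
  apply IsAlgClosed.of_exists_root
  intro P hPm hPirr
  set κ := p.ResidueField
  have hdeg : 0 < P.natDegree := hPirr.natDegree_pos
  obtain ⟨s, hsp, hs⟩ := exists_denominator A p (P.support.image P.coeff)
  set sb : κ := algebraMap A κ s with hsb
  have hsb0 : sb ≠ 0 := by
    rw [hsb, Ne, Ideal.algebraMap_residueField_eq_zero]
    exact hsp
  have hlifts : P.scaleRoots sb ∈ Polynomial.lifts (algebraMap A κ) := by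
    rw [Polynomial.lifts_iff_coeff_lifts]
    intro i
    rw [coeff_scaleRoots]
    rcases lt_trichotomy i P.natDegree with hi | hi | hi
    · by_cases hc : P.coeff i = 0
      · rw [hc, zero_mul]; exact ⟨0, map_zero _⟩
      · obtain ⟨a, ha⟩ := hs (P.coeff i) (Finset.mem_image_of_mem _ (Polynomial.mem_support_iff.mpr hc))
        refine ⟨a * s ^ (P.natDegree - i - 1), ?_⟩
        rw [map_mul, map_pow, ← ha, ← hsb]
        have : P.natDegree - i = (P.natDegree - i - 1) + 1 := by omega
        rw [this, pow_succ]
        have : P.natDegree - i - 1 + 1 - 1 = P.natDegree - i - 1 := by omega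
        rw [this]
        ring
    · subst hi
      rw [Nat.sub_self, pow_zero, mul_one, hPm.coeff_natDegree]
      exact ⟨1, map_one _⟩
    · rw [Polynomial.coeff_eq_zero_of_natDegree_lt hi, zero_mul]
      exact ⟨0, map_zero _⟩
  have hmonic : (P.scaleRoots sb).Monic := (monic_scaleRoots_iff sb).mpr hPm
  obtain ⟨Q, hQmap, hQdeg, hQm⟩ := Polynomial.lifts_and_natDegree_eq_and_monic hlifts hmonic
  have hQpos : 0 < Q.natDegree := by rw [hQdeg, natDegree_scaleRoots]; exact hdeg
  obtain ⟨r, hr⟩ := hroot Q hQm hQpos
  refine ⟨algebraMap A κ r / sb, ?_⟩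
  have h1 : (P.scaleRoots sb).eval (algebraMap A κ r) = 0 := by
    rw [← hQmap, Polynomial.eval_map_algebraMap, Polynomial.aeval_algebraMap_apply,
      Polynomial.coe_aeval_eq_eval, hr, map_zero]
  have h2 : (P.scaleRoots sb).eval (sb * (algebraMap A κ r / sb)) = sb ^ P.natDegree * P.eval (algebraMap A κ r / sb) :=
    scaleRoots_eval_mul P _ _
  rw [mul_div_cancel₀ _ hsb0, h1] at h2
  exact (mul_eq_zero.mp h2.symm).resolve_left (pow_ne_zero _ hsb0)

theorem roots_of_local (A : Type u) [CommRing A]
    (hloc : ∀ (X : Scheme.{u}) (R : Presieve X),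
      R ∈ Scheme.precoverage (@Flat ⊓ @LocallyOfFinitePresentation ⊓ @QuasiCompact ⊓ @QuasiSeparated) X →
      ∀ g : Spec (CommRingCat.of A) ⟶ X,
        ∃ (Y : Scheme.{u}) (v : Y ⟶ X) (h : Spec (CommRingCat.of A) ⟶ Y), R v ∧ h ≫ v = g)
    (Q : A[X]) (hQm : Q.Monic) (hQpos : 0 < Q.natDegree) : ∃ r : A, Q.eval r = 0 := by
  classical
  rcases subsingleton_or_nontrivial A with hA | hA
  · exact ⟨0, Subsingleton.elim _ _⟩
  let B := AdjoinRoot Q
  let φ : CommRingCat.of A ⟶ CommRingCat.of B := CommRingCat.ofHom (algebraMap A B)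
  let f : Spec (CommRingCat.of B) ⟶ Spec (CommRingCat.of A) := Spec.map φ
  have hfree : Module.Free A B := hQm.free_adjoinRoot
  have hfin : Module.Finite A B := hQm.finite_adjoinRoot
  have hnt : Nontrivial B := by
    apply Ideal.Quotient.nontrivial_iff.mpr
    rw [Ne, Ideal.span_singleton_eq_top, hQm.isUnit_iff]
    rintro rfl
    simp at hQpos
  have hff : Module.FaithfullyFlat A B := inferInstance
  have hsurj : Function.Surjective f.base := by
    exact PrimeSpectrum.comap_surjective_of_faithfullyFlat (A := A) (B := B)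
  have hflat : Flat f := by
    rw [HasRingHomProperty.Spec_iff (P := @Flat)]
    change (algebraMap A B).Flat
    rw [RingHom.flat_algebraMap_iff]
    infer_instance
  have hfp : LocallyOfFinitePresentation f := by
    rw [HasRingHomProperty.Spec_iff (P := @LocallyOfFinitePresentation)]
    change (algebraMap A B).FinitePresentation
    rw [RingHom.finitePresentation_algebraMap]
    infer_instance
  have hqc : QuasiCompact f := inferInstance
  have hqs : QuasiSeparated f := inferInstance
  have hmem : Presieve.singleton f ∈ Scheme.precoverage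
      (@Flat ⊓ @LocallyOfFinitePresentation ⊓ @QuasiCompact ⊓ @QuasiSeparated) (Spec (CommRingCat.of A)) := by
    rw [Scheme.singleton_mem_precoverage_iff]
    exact ⟨hsurj, ⟨⟨hflat, hfp⟩, hqc⟩, hqs⟩
  obtain ⟨Y, v, h, hv, hcomp⟩ := hloc _ _ hmem (𝟙 _)
  cases hv
  let ψ : CommRingCat.of B ⟶ CommRingCat.of A := Spec.preimage h
  have hψ : φ ≫ ψ = 𝟙 _ := by
    apply Spec.map_injective
    rw [Spec.map_comp, Spec.map_preimage, Spec.map_id]
    exact hcomp
  have hψ' : ∀ a : A, ψ.hom (algebraMap A B a) = a := by
    intro a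
    have := congrArg (fun g => g.hom a) hψ
    simp only [CommRingCat.hom_comp, RingHom.coe_comp, Function.comp_apply, CommRingCat.hom_id,
      RingHom.id_apply] at this
    exact this
  refine ⟨ψ.hom (AdjoinRoot.root Q), ?_⟩
  have h0 : Polynomial.eval₂ (algebraMap A B) (AdjoinRoot.root Q) Q = 0 := AdjoinRoot.eval₂_root Q
  have h1 := congrArg ψ.hom h0
  rw [Polynomial.hom_eval₂, map_zero] at h1
  have h2 : ψ.hom.comp (algebraMap A B) = RingHom.id A := RingHom.ext hψ'
  rw [h2] at h1
  simpa [Polynomial.eval₂_id] using h1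

/-- Let A be a commutative ring such that Spec A is local for fppf coverings, in the sense that for
every scheme X, every jointly surjective family of morphisms to X each of which is flat and of
finite presentation (locally of finite presentation, quasi-compact and quasi-separated), and every
morphism Spec A ⟶ X, the morphism factors through a member of the family. Then the residue field of
A at every prime ideal is algebraically closed. -/
theorem result (A : Type u) [CommRing A]
    (hloc : ∀ (X : Scheme.{u}) (R : Presieve X),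
      R ∈ Scheme.precoverage (@Flat ⊓ @LocallyOfFinitePresentation ⊓ @QuasiCompact ⊓ @QuasiSeparated) X →
      ∀ g : Spec (CommRingCat.of A) ⟶ X,
        ∃ (Y : Scheme.{u}) (v : Y ⟶ X) (h : Spec (CommRingCat.of A) ⟶ Y), R v ∧ h ≫ v = g)
    (p : Ideal A) [p.IsPrime] : IsAlgClosed p.ResidueField := by
  exact isAlgClosed_residueField_of_roots A (roots_of_local A hloc) p

end Groth.Agent.S19328
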