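import Groth.Statements.S19329
import Groth.Agent.Lib27.Sch.EqLocus

set_option autoImplicit false
universe u
open CategoryTheory CategoryTheory.Limits AlgebraicGeometry TopologicalSpace
open ModPair

namespace Groth.Agent.S19329

/-- Let (X, I), (Y, J), (Z, K) be modulus pairs, i.e. schemes with quasi-coherent ideal sheaves of
effective Cartier divisors, and let f : X ⟶ Y and g : Y ⟶ Z satisfy the modulus conditions I ≤
J.comap f and J ≤ K.comap g. Suppose the composite X ⟶ Z is minimal, I = K.comap (f ≫ g). Then f is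
minimal, and there is an open subset U of Y whose inclusion is quasi-compact, which contains the
image of f, and such that U ⟶ Z is minimal for the modulus of Y restricted to U. -/
theorem result {X Y Z : Scheme.{u}}
    (I : X.IdealSheafData) (J : Y.IdealSheafData) (K : Z.IdealSheafData)
    (hI : BlowUp.IsEffCartierIdeal I) (hJ : BlowUp.IsEffCartierIdeal J)
    (hK : BlowUp.IsEffCartierIdeal K) (f : X ⟶ Y) (g : Y ⟶ Z)
    (hf : ModPair.IsAmbient I J f) (hg : ModPair.IsAmbient J K g)
    (hfg : ModPair.IsMinimal I K (f ≫ g)) :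
    ModPair.IsMinimal I J f ∧
      ∃ U : Y.Opens, QuasiCompact U.ι ∧ Set.range f.base ⊆ (U : Set Y) ∧
        ModPair.IsMinimal (J.comap U.ι) K (U.ι ≫ g) := by
  have hf' : I ≤ J.comap f := hf
  have hg' : J ≤ K.comap g := hg
  have hfg' : I = K.comap (f ≫ g) := hfg
  have hcomp : K.comap (f ≫ g) = (K.comap g).comap f := Scheme.IdealSheafData.comap_comp K f g
  have hmin : I = J.comap f := by
    refine le_antisymm hf' ?_
    rw [hfg', hcomp]
    exact Scheme.IdealSheafData.comap_mono f hg'
  have hKg : BlowUp.IsEffCartierIdeal (K.comap g) :=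
    Groth.Agent.Lib27.EqLocus.isEffCartierIdeal_comap_of_le J K hJ hK g hg'
  refine ⟨hmin, Groth.Agent.Lib27.EqLocus.eqLocus J (K.comap g),
    Groth.Agent.Lib27.EqLocus.quasiCompact_eqLocus_ι J (K.comap g) hJ hKg hg',
    Groth.Agent.Lib27.EqLocus.range_subset_eqLocus J (K.comap g) hJ hKg hg' f I hI hmin
      (by rw [hfg', hcomp]), ?_⟩
  change J.comap (Groth.Agent.Lib27.EqLocus.eqLocus J (K.comap g)).ι =
    K.comap ((Groth.Agent.Lib27.EqLocus.eqLocus J (K.comap g)).ι ≫ g)
  rw [Scheme.IdealSheafData.comap_comp]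
  exact Groth.Agent.Lib27.EqLocus.comap_eqLocus_ι_eq J (K.comap g)

end Groth.Agent.S19329
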