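import Groth.Statements.S1933
import Mathlib
import Groth.Agent.Lib.Helper18.RelDimShift
import Groth.Agent.Lib.Helper18.KF33

set_option autoImplicit false
universe u
open CategoryTheory AlgebraicGeometry
open CategoryTheory.Limits
open Cyc

namespace Groth.Agent.S1933

/-- Gysin maps commute with flat pullback. Let f : X' → X be flat, locally of finite type, of relative
dimension r, (L, s, i : D → X) as in the Gysin construction and D' = X' ×_X D with i' : D' → X' (the
zero scheme of a section of f^*L) and g : D' → D. For a (k + 1)-cycle α on X, (i')^*(f^*α) ∼_rat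
g^*(i^*α) as (k + r)-cycles on D', flat pullbacks being taken coefficientwise. Here i : D → X is the
zero scheme of a global section s of the invertible module L (Cyc.IsZeroSchemeOf), the Gysin map i^*
: Z_{k+1}(X) → CH_k(D) is computed on coefficient functions as c_1(L) ∩ − with the rational sections
taken to be s where it is nonzero (Cyc.gysinChoice) and restricted to the points of D, and classes
on D are compared up to rational equivalence on D for the restricted dimension function. A pair (X,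
δ) with Cyc.IsSetup plays the role of a scheme locally of finite type over a base (S, δ) (X locally
Noetherian with universally catenary local rings, δ a dimension function), and Cyc.DeltaCompat
records that the dimension function upstairs is the induced one. -/
theorem result (X X' D : Scheme.{u}) (δ : X → ℤ) (δ' : X' → ℤ) (hX : Cyc.IsSetup X δ) (hX' : Cyc.IsSetup X' δ') (f : X' ⟶ X) [Flat f] [LocallyOfFiniteType f] (r : ℕ) (hr : Cyc.HasRelDim f r) (hδ : Cyc.DeltaCompat f δ' δ) (L : X.Modules) (hL : PicF.IsInvertible L) (s : L.presheaf.obj (Opposite.op ⊤)) (i : D ⟶ X) [IsClosedImmersion i] (hD : Cyc.IsZeroSchemeOf i L s) (s' : ((Scheme.Modules.pullback f).obj L).presheaf.obj (Opposite.op ⊤)) (hD' : Cyc.IsZeroSchemeOf (pullback.fst f i) ((Scheme.Modules.pullback f).obj L) s') (k : ℤ) (α : AlgebraicCycle X ℤ) (hα : α ∈ Cyc.Zk X δ (k + 1)) (w : (ξ : X) → Cyc.secFibre L ξ) (hw : ∀ ξ, w ξ ≠ 0) (w' : (ξ : X') → Cyc.secFibre ((Scheme.Modules.pullback f).obj L) ξ) (hw' : ∀ ξ, w' ξ ≠ 0) (ζ₁ ζ₂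 : AlgebraicCycle (pullback f i) ℤ) (h₁ : ∀ z, ζ₁ z = Cyc.c1CapFun δ' ((Scheme.Modules.pullback f).obj L) (Cyc.pullFun f δ' δ r ⇑α) (Cyc.gysinChoice ((Scheme.Modules.pullback f).obj L) s' w') (pullback.fst f i z)) (h₂ : ⇑ζ₂ = Cyc.pullFun (pullback.snd f i) (fun z => δ' (pullback.fst f i z)) (fun d => δ (i d)) r (fun d => Cyc.c1CapFun δ L ⇑α (Cyc.gysinChoice L s w) (i d))) : Cyc.RatEquiv (fun z => δ' (pullback.fst f i z)) (k + r) ζ₁ ζ₂ := by
  classical
  have hc : IsPullback (pullback.fst f i) (pullback.snd f i) f i := IsPullback.of_hasPullback f i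
  haveI : IsClosedImmersion (pullback.fst f i) :=
    Groth.Agent.Lib.Helper18.KF30.isClosedImmersion_fst hc
  have hsh : ∀ x' : X', (∀ y, f y = f x' → y ⤳ x' → y = x') → δ' x' = δ (f x') + (r : ℤ) :=
    fun x' hmax => Groth.Agent.Lib.Helper18.RelDimShift.shift_of_hasRelDim f δ' δ r hr hδ x' hmax
  have hvL := Groth.Agent.Lib.Helper18.KF17.gysinChoice_ne_zero s w hw
  have hA := Groth.Agent.Lib.Helper18.KF32.gysin_pull_in δ δ' hX' hL s hD hc s' hD' w w' hw hw'
    (r : ℤ) hsh k α hα
  have hB := Groth.Agent.Lib.Helper18.KF18.ratEquivZeroIn_comap (pullback.fst f i) δ' hX' (k + r)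
    _ hA
  refine Groth.Agent.Lib.Helper18.KF16.RatEquivZeroIn.ratEquivZero (S := Set.univ) ?_
  refine Groth.Agent.Lib.Helper18.KF18.RatEquivZeroIn.congr hB ?_
  intro z
  have e0 : (ζ₁ - ζ₂) z = ζ₁ z - ζ₂ z := rfl
  rw [e0, h₁ z, h₂]
  simp only []
  rw [Groth.Agent.Lib.Helper18.KF33.pullFun_restrict hc δ δ' (r : ℤ)
    (Cyc.c1CapFun δ L ⇑α (Cyc.gysinChoice L s w)) z,
    Groth.Agent.Lib.Helper18.KF28.pullFun_c1Cap f δ δ' hX hX' (r : ℤ) hsh L hL α
      (Cyc.gysinChoice L s w) hvL]

end Groth.Agent.S1933
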