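import Groth.Statements.S19333
import Mathlib.RingTheory.Valuation.LocalSubring
import Mathlib.Algebra.Polynomial.Lifts
import Mathlib.RingTheory.Localization.FractionRing
import Mathlib.RingTheory.Ideal.Maximal
-- import your own Groth.Agent.* helpers here

set_option autoImplicit false
universe u
open ModPair

namespace Groth.Agent.S19333

/-- Let A → B be any homomorphism of commutative rings. An element x of B is integral over A if and only
if for every field K, every valuation subring R of K and every ring homomorphism φ : B → K which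
sends the image of A into R, the element φ(x) lies in R. In other words the integral closure of A in
B is the intersection of the subrings R ×_K B taken over all commutative squares A → R ⊆ K ← B with
R a valuation ring of the field K. -/
theorem result {A B : Type u} [CommRing A]
    [CommRing B] [Algebra A B] (x : B) :
    x ∈ integralClosure A B ↔
      ∀ (K : Type u) [Field K] (R : ValuationSubring K) (φ : B →+* K),
        (∀ a : A, φ (algebraMap A B a) ∈ R) → φ x ∈ R := by
  constructor
  · intro hx K _ R φ hφ
    obtain ⟨p, hpm, hp⟩ := hx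
    let ψ : A →+* R := (φ.comp (algebraMap A B)).codRestrict R.toSubring hφ
    have hint : IsIntegral R (φ x) := by
      refine ⟨p.map ψ, hpm.map ψ, ?_⟩
      rw [Polynomial.eval₂_map]
      have : (algebraMap R K).comp ψ = φ.comp (algebraMap A B) := by
        ext a; rfl
      rw [this, ← Polynomial.hom_eval₂, hp, map_zero]
    obtain ⟨y, hy⟩ := (IsIntegrallyClosed.isIntegral_iff (R := R) (K := K)).mp hint
    rw [← hy]
    exact y.2
  · intro h
    by_contra hx
    -- the multiplicative set of monic evaluations
    let S : Submonoid B :=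
      { carrier := {b | ∃ p : Polynomial A, p.Monic ∧ Polynomial.eval₂ (algebraMap A B) x p = b}
        mul_mem' := by
          rintro _ _ ⟨p, hp, rfl⟩ ⟨q, hq, rfl⟩
          exact ⟨p * q, hp.mul hq, Polynomial.eval₂_mul _ _⟩
        one_mem' := ⟨1, Polynomial.monic_one, Polynomial.eval₂_one _ _⟩ }
    have hdisj : Disjoint ((⊥ : Ideal B) : Set B) S := by
      rw [Set.disjoint_left]
      rintro b hb ⟨p, hp, rfl⟩
      exact hx ⟨p, hp, hb⟩
    obtain ⟨Q, hQ, -, hQS⟩ := Ideal.exists_le_prime_disjoint ⊥ S hdisj
    let K := FractionRing (B ⧸ Q)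
    let φ : B →+* K := (algebraMap (B ⧸ Q) K).comp (Ideal.Quotient.mk Q)
    have hker : ∀ b : B, φ b = 0 → b ∈ Q := by
      intro b hb
      have : Ideal.Quotient.mk Q b = 0 :=
        (IsFractionRing.injective (B ⧸ Q) K) (by rw [map_zero]; exact hb)
      exact Ideal.Quotient.eq_zero_iff_mem.mp this
    set ψ : A →+* K := φ.comp (algebraMap A B) with hψ
    set s : Set K := Set.range ψ with hs
    have hmem : φ x ∈ (⨅ V : {V : ValuationSubring K // s ⊆ V.toSubring}, V.1.toSubring) := by
      rw [Subring.mem_iInf]
      rintro ⟨V, hV⟩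
      exact h K V φ fun a => hV ⟨a, rfl⟩
    rw [iInf_valuationSubring_superset] at hmem
    have hcl : Subring.closure s = ψ.range := by
      rw [hs, ← RingHom.coe_range, Subring.closure_eq]
    obtain ⟨q, hqm, hq⟩ : IsIntegral (Subring.closure s) (φ x) := hmem
    let ψ' : A →+* Subring.closure s := ψ.codRestrict (Subring.closure s)
      (fun a => Subring.subset_closure ⟨a, rfl⟩)
    have hsurj : Function.Surjective ψ' := by
      rintro ⟨y, hy⟩
      rw [hcl] at hy
      obtain ⟨a, rfl⟩ := hy
      exact ⟨a, rfl⟩
    have hlifts : q ∈ Polynomial.lifts ψ' :=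
      (Polynomial.lifts_iff_coeff_lifts q).mpr fun n => hsurj _
    obtain ⟨p, hpq, -, hpm⟩ := Polynomial.lifts_and_natDegree_eq_and_monic hlifts hqm
    have h0 : φ (Polynomial.eval₂ (algebraMap A B) x p) = 0 := by
      rw [Polynomial.hom_eval₂, ← hq, ← hpq, Polynomial.eval₂_map]
      rfl
    exact Set.disjoint_left.mp hQS (hker _ h0) ⟨p, hpm, rfl⟩

end Groth.Agent.S19333
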