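import Groth.Statements.S19334
import Groth.Agent.Lib27.Sch.ValTest

set_option autoImplicit false
universe u
open CategoryTheory CategoryTheory.Limits AlgebraicGeometry TopologicalSpace
open ModPair

namespace Groth.Agent.S19334

/-- Let (X, I) be a modulus pair, i.e. a scheme X with the quasi-coherent ideal sheaf I of an effective
Cartier divisor. Suppose that for every valuation ring R and every morphism p : Spec R ⟶ X along
which the divisor of I pulls back to an effective Cartier divisor on Spec R (so that p is a minimal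
morphism of modulus pairs for the pulled-back modulus), the pulled-back divisor is empty, I.comap p
= ⊤. Then the divisor of I is empty: I = ⊤. -/
theorem result {X : Scheme.{u}}
    (I : X.IdealSheafData) (hI : BlowUp.IsEffCartierIdeal I)
    (h : ∀ (R : Type u) [CommRing R] [IsDomain R] [ValuationRing R]
      (p : Spec (CommRingCat.of R) ⟶ X), BlowUp.IsEffCartierIdeal (I.comap p) → I.comap p = ⊤) :
    I = ⊤ := by
  rw [← Scheme.IdealSheafData.support_eq_bot_iff]
  by_contra hne
  obtain ⟨x, hx⟩ : ∃ x : X, x ∈ I.support := by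
    by_contra hno
    apply hne
    ext x
    simp only [TopologicalSpace.Closeds.coe_bot, Set.mem_empty_iff_false, iff_false]
    exact fun hx => hno ⟨x, hx⟩
  obtain ⟨V, hxV, t, ht, hIV⟩ := hI x
  have ht𝔭 := Groth.Agent.Lib27.ValTest.mem_primeIdealOf_of_mem_support I V t hIV x hxV hx
  obtain ⟨R, _, _, _, φ, hφ1, hφ2⟩ :=
    Groth.Agent.Lib27.ValTest.exists_valuationRing_test (V.2.primeIdealOf ⟨x, hxV⟩).asIdeal
  have h1 := Groth.Agent.Lib27.ValTest.isEffCartierIdeal_comap_chartMap I V t hIV
    (R := CommRingCat.of R) (CommRingCat.ofHom φ) (hφ2 t ht)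
  have h2 := h R (Groth.Agent.Lib27.ValTest.chartMap V (CommRingCat.ofHom φ)) h1
  exact hφ1 t ht𝔭 (Groth.Agent.Lib27.ValTest.isUnit_of_comap_chartMap_eq_top I V t hIV _ h2)

end Groth.Agent.S19334
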