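import Groth.Statements.S19335
import Groth.Agent.Lib27.Sch.ValTest

set_option autoImplicit false
universe u
open CategoryTheory CategoryTheory.Limits AlgebraicGeometry TopologicalSpace
open ModPair

namespace Groth.Agent.S19335

/-- Let X be a scheme and I, J quasi-coherent ideal sheaves of effective Cartier divisors D_I ≤ D_J on
X, i.e. J ≤ I. Suppose that for every valuation ring R and every morphism p : Spec R ⟶ X such that
I.comap p is the ideal sheaf of an effective Cartier divisor on Spec R (so p is a minimal morphism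
of modulus pairs for (X, I)) whose open complement consists of the generic point of Spec R only, the
two divisors agree after pull-back, I.comap p = J.comap p. Then I = J. -/
theorem result {X : Scheme.{u}} (I J : X.IdealSheafData)
    (hI : BlowUp.IsEffCartierIdeal I) (hJ : BlowUp.IsEffCartierIdeal J) (hJI : J ≤ I)
    (h : ∀ (R : Type u) [CommRing R] [IsDomain R] [ValuationRing R]
      (p : Spec (CommRingCat.of R) ⟶ X), BlowUp.IsEffCartierIdeal (I.comap p) →
        (∀ x : Spec (CommRingCat.of R),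
          x ∈ (ModPair.interior (I.comap p) : Set (Spec (CommRingCat.of R))) ↔ x.asIdeal = ⊥) →
        I.comap p = J.comap p) :
    I = J := by
  refine le_antisymm ?_ hJI
  have key : ∀ x : X, ∃ W : X.affineOpens, x ∈ W.1 ∧ I.ideal W ≤ J.ideal W := by
    intro x
    obtain ⟨V₁, hxV₁, s₁, hs₁, hIV₁⟩ := hI x
    obtain ⟨V₂, hxV₂, t₂, ht₂, hJV₂⟩ := hJ x
    obtain ⟨V, hxV, hVV₁, hVV₂⟩ :=
      Groth.Agent.Lib.Helper25.BlowUpUP.exists_affineOpens_le_preimage (𝟙 X) x V₁.1 hxV₁ V₂.1 hxV₂
    obtain ⟨s, hs, hIV⟩ : ∃ s : Γ(X, V.1), s ∈ nonZeroDivisors Γ(X, V.1) ∧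
        I.ideal V = Ideal.span {s} :=
      ⟨_, Groth.Agent.Lib.Helper25.BlowUpUP.principal_of_le I
        (show V ≤ V₁ from hVV₁) s₁ hs₁ hIV₁⟩
    obtain ⟨t, ht, hJV⟩ : ∃ t : Γ(X, V.1), t ∈ nonZeroDivisors Γ(X, V.1) ∧
        J.ideal V = Ideal.span {t} :=
      ⟨_, Groth.Agent.Lib.Helper25.BlowUpUP.principal_of_le J
        (show V ≤ V₂ from hVV₂) t₂ ht₂ hJV₂⟩
    have htI : t ∈ I.ideal V := hJI V (by rw [hJV]; exact Ideal.mem_span_singleton_self t)
    rw [hIV, Ideal.mem_span_singleton'] at htI
    obtain ⟨a, ha⟩ := htI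
    have ha𝔭 : a ∉ (V.2.primeIdealOf ⟨x, hxV⟩).asIdeal := by
      intro ha𝔭
      obtain ⟨R, _, _, _, φ, hφ1, hφ2, hφ3⟩ :=
        Groth.Agent.Lib27.ValTest.exists_valuationRing_test'
          (V.2.primeIdealOf ⟨x, hxV⟩).asIdeal s hs
      have h1 := Groth.Agent.Lib27.ValTest.isEffCartierIdeal_comap_chartMap I V s hIV
        (R := CommRingCat.of R) (CommRingCat.ofHom φ) hφ2
      have h2 : ∀ z : Spec (CommRingCat.of R),
          z ∈ (ModPair.interior (I.comap (Groth.Agent.Lib27.ValTest.chartMap V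
            (CommRingCat.ofHom φ))) : Set (Spec (CommRingCat.of R))) ↔ z.asIdeal = ⊥ := by
        intro z
        have h3 := Groth.Agent.Lib27.ValTest.notMem_support_comap_chartMap_iff I V s hIV
          (R := CommRingCat.of R) (CommRingCat.ofHom φ) z
        change z ∉ (I.comap (Groth.Agent.Lib27.ValTest.chartMap V
            (CommRingCat.ofHom φ))).support ↔ _
        rw [h3]
        constructor
        · intro hz
          by_contra hne
          exact hz (hφ3 z.asIdeal z.isPrime hne)
        · intro hz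
          rw [hz]
          exact hφ2
      have h4 := h R _ h1 h2
      have h5 := Groth.Agent.Lib27.ValTest.dvd_of_comap_chartMap_le I J V s t hIV hJV
        (R := CommRingCat.of R) (CommRingCat.ofHom φ) (le_of_eq h4)
      obtain ⟨c, hc⟩ := h5
      change φ s = φ t * c at hc
      rw [← ha, map_mul] at hc
      have h6 : φ s * (1 - φ a * c) = 0 := by
        rw [mul_sub, mul_one, sub_eq_zero]
        calc φ s = φ a * φ s * c := hc
          _ = φ s * (φ a * c) := by ring
      have h7 : 1 - φ a * c = 0 := (mul_eq_zero.mp h6).resolve_left hφ2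
      exact hφ1 a ha𝔭 (IsUnit.of_mul_eq_one c (sub_eq_zero.mp h7).symm)
    have hxa : x ∈ X.basicOpen a :=
      (Groth.Agent.Lib27.ValTest.mem_basicOpen_iff_notMem_primeIdealOf V a x hxV).mpr ha𝔭
    refine ⟨X.affineBasicOpen a, hxa, ?_⟩
    have hle : X.affineBasicOpen a ≤ V := X.basicOpen_le a
    set r : Γ(X, V.1) →+* Γ(X, (X.affineBasicOpen a).1) :=
      (X.presheaf.map (homOfLE hle).op).hom with hr
    have hIW : I.ideal (X.affineBasicOpen a) = Ideal.span {r s} :=
      (Groth.Agent.Lib.Helper25.BlowUpUP.principal_of_le I hle s hs hIV).2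
    have hJW : J.ideal (X.affineBasicOpen a) = Ideal.span {r t} :=
      (Groth.Agent.Lib.Helper25.BlowUpUP.principal_of_le J hle t ht hJV).2
    have hu : IsUnit (r a) := RingedSpace.isUnit_res_basicOpen X.toRingedSpace a
    rw [hIW, hJW, Ideal.span_singleton_le_span_singleton]
    obtain ⟨b, hb⟩ := hu.exists_left_inv
    refine ⟨b, ?_⟩
    rw [← ha, map_mul]
    calc r s = (b * r a) * r s := by rw [hb, one_mul]
      _ = r a * r s * b := by ring
  choose W hxW hW using key
  exact Scheme.IdealSheafData.le_of_iSup_eq_top W (by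
    rw [eq_top_iff]
    intro x _
    exact TopologicalSpace.Opens.mem_iSup.mpr ⟨x, hxW x⟩) hW

end Groth.Agent.S19335
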