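import Groth.Statements.S1934
import Mathlib
import Groth.Agent.Lib.Helper20.HP5
import Groth.Agent.Lib.Helper6.EtLocScheme4

set_option autoImplicit false
universe u
open CategoryTheory CategoryTheory.Limits AlgebraicGeometry
open Grpd

namespace Groth.Agent.S1934


/-- Let (U, R, s, t, c) be a groupoid scheme over S, p ∈ S and u ∈ U over p, with U → S locally of
finite type, quasi-finite at u (u is isolated in its fibre) and separated, R → S separated, s and t
flat and locally of finite presentation, and s⁻¹{u} finite. Then there are an étale neighbourhood g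
: (S', p') → (S, p) inducing an isomorphism on residue fields and open-and-closed subsets U' ⊆
U_{S'} = U ×_S S', R' ⊆ R_{S'} such that: some point u' of U' lies over u and over p'; for such u'
the fibre of U' over p' is t'(s'⁻¹{u'}) and the fibre of R' over p' is s'⁻¹ of the fibre of U'; U'
and R' are finite over S'; and s', t' (the base changes of s, t) map R' into U'. (Parts (f), (g) —
closure of R' under composition, so that (U', R') is a groupoid scheme — are not restated.) (A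
groupoid scheme carries U, R, s, t, c, e, i over S with the groupoid axioms on T-points; 'finite
locally free' is finite, flat and locally of finite presentation; C ⊂ Γ(U) is the ring of functions
a with s♯(a) = t♯(a) and M = Spec C.) -/
theorem result (S : Scheme.{u}) (G : Grpd.GroupoidScheme S) (p : S) (u : G.U) (hu : G.pU u = p) [LocallyOfFiniteType G.pU] [IsSeparated G.pU] [IsSeparated G.pR] [Flat G.s] [LocallyOfFinitePresentation G.s] [Flat G.t] [LocallyOfFinitePresentation G.t] (hqf : ∃ V : G.U.Opens, u ∈ V ∧ ∀ x ∈ V, G.pU x = p → x = u) (hfin : (⇑G.s ⁻¹' {u}).Finite) : ∃ (S' : Scheme.{u}) (g : S' ⟶ S) (p' : S') (_ : Hens2.IsEtaleNbhd g p' p) (U' : (pullback G.pU g).Opens) (R' : (pullback G.pR g).Opens), IsClosed (U' : Set ↥(pullback G.pU g)) ∧ IsClosed (R' : Set ↥(pullback G.pR g)) ∧ (∃ u' : ↥(pullback G.pU g), u' ∈ U' ∧ pullback.fst G.pU g u' = u ∧ pullback.snd G.pU g u' = p') ∧ (∀ u' : ↥(pullback G.pU g), u' ∈ U' → pullback.fst G.pU g u'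 = u → pullback.snd G.pU g u' = p' → {x : ↥(pullback G.pU g) | x ∈ U' ∧ pullback.snd G.pU g x = p'} = ⇑(pullback.map G.pR g G.pU g G.t (𝟙 S') (𝟙 S) ((Category.comp_id _).trans G.t_over.symm) ((Category.comp_id _).trans (Category.id_comp _).symm)) '' (⇑(pullback.map G.pR g G.pU g G.s (𝟙 S') (𝟙 S) ((Category.comp_id _).trans G.s_over.symm) ((Category.comp_id _).trans (Category.id_comp _).symm)) ⁻¹' {u'})) ∧ {r : ↥(pullback G.pR g) | r ∈ R' ∧ pullback.snd G.pR g r = p'} = ⇑(pullback.map G.pR g G.pU g G.s (𝟙 S') (𝟙 S) ((Category.comp_id _).trans G.s_over.symm) ((Category.comp_id _).trans (Category.id_comp _).symm)) ⁻¹' {x | x ∈ U' ∧ pullback.snd G.pU g x = p'} ∧ IsFinite (U'.ι ≫ pullback.snd G.pU g) ∧ IsFinite (R'.ι ≫ pullback.snd G.pR g) ∧ ⇑(pullback.map G.pR g G.pU g G.s (𝟙 S') (𝟙 S) ((Category.comp_id _).trans G.s_over.symm) ((Category.comp_id _).trans (Category.id_comp _).symm)) '' (R' : Set ↥(pullback G.pR g)) ⊆ U' ∧ ⇑(pullback.map G.pR g G.pU g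 G.t (𝟙 S') (𝟙 S) ((Category.comp_id _).trans G.t_over.symm) ((Category.comp_id _).trans (Category.id_comp _).symm)) '' (R' : Set ↥(pullback G.pR g)) ⊆ U' := by

  classical
  subst hu
  open Groth.Agent.Lib.Helper20.HP in
  have hqf' : G.pU.QuasiFiniteAt u := by
    rw [quasiFiniteAt_iff_exists_opens]
    obtain ⟨V, huV, hV⟩ := hqf
    exact ⟨V, huV, fun y hy hyu => hV y hy hyu⟩
  have hfinF : (Groth.Agent.Lib.Helper20.HP.Fall G u).Finite :=
    Groth.Agent.Lib.Helper20.HP.finite_Fall G u hfin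
  haveI : Finite ↥(Groth.Agent.Lib.Helper20.HP.Fall G u) := hfinF.to_subtype
  haveI : LocallyOfFiniteType G.pR := by
    rw [← G.s_over]; infer_instance
  obtain ⟨S', g, p', -, hEt, hgp, hbij, V, v, hdisj, hV, hclopen, hfinR⟩ :=
    Groth.Agent.Lib.Helper6.EtLoc.exists_etale_nbhd_family_separated G.pR (G.pU u)
      (fun i : ↥(Groth.Agent.Lib.Helper20.HP.Fall G u) => (i : G.R))
      Subtype.val_injective
      (fun i => Groth.Agent.Lib.Helper20.HP.pR_of_mem_Fall G u i.1 i.2)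
      (fun i => Groth.Agent.Lib.Helper20.HP.quasiFiniteAt_pR_of_mem_Fall G u hqf' hfin i.1 i.2)
  set R₁ : (pullback G.pR g).Opens := ⨆ i, V i with hR₁
  have hF1 : ∀ r' : ↑(pullback G.pR g), pullback.snd G.pR g r' = p' →
      pullback.fst G.pR g r' ∈ Groth.Agent.Lib.Helper20.HP.Fall G u → r' ∈ R₁ := by
    intro r' h1 h2
    obtain ⟨i, hi⟩ : ∃ i : ↥(Groth.Agent.Lib.Helper20.HP.Fall G u),
        (i : G.R) = pullback.fst G.pR g r' := ⟨⟨_, h2⟩, rfl⟩
    have h3 : r' = v i := (hV i).2.2.2.2.2.2.2 r' h1 hi.symm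
    have h4 : v i ∈ V i := (hV i).2.1
    rw [hR₁, TopologicalSpace.Opens.mem_iSup]
    exact ⟨i, h3.symm ▸ h4⟩
  have hF2 : ∀ r' ∈ R₁, pullback.snd G.pR g r' = p' →
      pullback.fst G.pR g r' ∈ Groth.Agent.Lib.Helper20.HP.Fall G u := by
    intro r' hr' h1
    rw [hR₁, TopologicalSpace.Opens.mem_iSup] at hr'
    obtain ⟨i, hi⟩ := hr'
    have h3 := (hV i).2.2.2.2.1 r' hi h1
    rw [h3, (hV i).2.2.2.2.2.1]
    exact i.2
  haveI : IsFinite (R₁.ι ≫ pullback.snd G.pR g) := hfinR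
  obtain ⟨hclRB, hfinRB⟩ := Groth.Agent.Lib.Helper20.HP.isFinite_RB G g R₁ hclopen.1
  refine ⟨S', g, p', ⟨hEt, hgp, hbij⟩, Groth.Agent.Lib.Helper20.HP.UB G g R₁,
    Groth.Agent.Lib.Helper20.HP.RB G g R₁, Groth.Agent.Lib.Helper20.HP.isClosed_UB G g R₁,
    hclRB, ?_, ?_, ?_, Groth.Agent.Lib.Helper20.HP.isFinite_UB G g R₁, hfinRB,
    Groth.Agent.Lib.Helper20.HP.sB_image_RB G g R₁, Groth.Agent.Lib.Helper20.HP.tB_image_RB G g R₁⟩
  · exact Groth.Agent.Lib.Helper20.HP.exists_point_UB G g R₁ u p' hgp hbij hF1 hF2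
  · intro u' _ h1 h2
    exact Groth.Agent.Lib.Helper20.HP.fibre_UB_eq G g R₁ u p' hgp hbij hF1 hF2 u' h1 h2
  · exact Groth.Agent.Lib.Helper20.HP.fibre_RB_eq G g R₁ u p' hgp hbij hF1 hF2

end Groth.Agent.S1934
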