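import Groth.Statements.S19340
-- import your own Groth.Agent.* helpers here

set_option autoImplicit false
universe v v' u u'
open CategoryTheory
open ModPair

namespace Groth.Agent.S19340

/-- Let C be a category, S a class of morphisms of C containing the identities, closed under composition
and admitting a right calculus of fractions, and L : C ⥤ D a localization functor for S. Then for
every object X of C the comma category of L under X, whose objects are pairs (Y, L(X) ⟶ L(Y)) and
whose morphisms are morphisms Y ⟶ Y' of C compatible with the structure maps, is cofiltered. The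
published statement calls this category filtered; its proof verifies, and this row states,
cofilteredness. -/
theorem result {C : Type u}
    [Category.{v} C] {D : Type u'} [Category.{v'} D] (S : MorphismProperty C)
    [S.HasRightCalculusOfFractions] (L : C ⥤ D) [L.IsLocalization S] (X : C) :
    IsCofiltered (StructuredArrow (L.obj X) L) := by
  have hinv := Localization.inverts L S
  have : Nonempty (StructuredArrow (L.obj X) L) := ⟨StructuredArrow.mk (𝟙 (L.obj X))⟩
  refine { cone_objs := ?_, cone_maps := ?_ }
  · intro A₁ A₂
    obtain ⟨φ₁, h₁⟩ := Localization.exists_rightFraction L S A₁.hom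
    obtain ⟨φ₂, h₂⟩ := Localization.exists_rightFraction L S A₂.hom
    obtain ⟨ψ, hψ⟩ := (MorphismProperty.LeftFraction.mk φ₁.s φ₂.s φ₂.hs).exists_rightFraction
    dsimp at hψ
    have ht : S (ψ.s ≫ φ₁.s) := S.comp_mem _ _ ψ.hs φ₁.hs
    have : IsIso (L.map (ψ.s ≫ φ₁.s)) := hinv _ ht
    have : IsIso (L.map φ₁.s) := hinv _ φ₁.hs
    have : IsIso (L.map φ₂.s) := hinv _ φ₂.hs
    refine ⟨StructuredArrow.mk (inv (L.map (ψ.s ≫ φ₁.s))),
      StructuredArrow.homMk (ψ.s ≫ φ₁.f) ?_, StructuredArrow.homMk (ψ.f ≫ φ₂.f) ?_, trivial⟩
    · dsimp
      rw [IsIso.inv_comp_eq, h₁, MorphismProperty.RightFraction.map]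
      simp only [Functor.map_comp, Category.assoc, IsIso.hom_inv_id_assoc]
    · dsimp
      rw [IsIso.inv_comp_eq, h₂, MorphismProperty.RightFraction.map, hψ]
      simp only [Functor.map_comp, Category.assoc, IsIso.hom_inv_id_assoc]
  · intro A B u v
    obtain ⟨φ, h⟩ := Localization.exists_rightFraction L S A.hom
    have : IsIso (L.map φ.s) := hinv _ φ.hs
    have hu := StructuredArrow.w u
    have hv := StructuredArrow.w v
    have heq : L.map (φ.f ≫ u.right) = L.map (φ.f ≫ v.right) := by
      rw [h, MorphismProperty.RightFraction.map] at hu hv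
      rw [← cancel_epi (inv (L.map φ.s))]
      simp only [Functor.map_comp]
      simp only [Category.assoc] at hu hv
      rw [hu, hv]
    obtain ⟨X₂, t, ht, hteq⟩ := (MorphismProperty.map_eq_iff_precomp L S _ _).mp heq
    have hts : S (t ≫ φ.s) := S.comp_mem _ _ ht φ.hs
    have : IsIso (L.map (t ≫ φ.s)) := hinv _ hts
    refine ⟨StructuredArrow.mk (inv (L.map (t ≫ φ.s))),
      StructuredArrow.homMk (t ≫ φ.f) ?_, ?_⟩
    · dsimp
      rw [IsIso.inv_comp_eq, h, MorphismProperty.RightFraction.map]
      simp only [Functor.map_comp, Category.assoc, IsIso.hom_inv_id_assoc]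
    · ext
      simp only [StructuredArrow.comp_right, StructuredArrow.homMk_right, Category.assoc]
      exact hteq

end Groth.Agent.S19340
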