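import Groth.Statements.S19348
-- import your own Groth.Agent.* helpers here

set_option autoImplicit false
universe u
open RigCh

namespace Groth.Agent.S19348

/-- Let p be a prime and m a natural number, P a commutative ring complete and separated for the p-adic
topology, and I an ideal of P with a divided power structure of level m, that is a sub-ideal J of I
endowed with divided powers such that x ^ (p ^ m) and p * x lie in J for all x in I. Then an element
of P whose class in P / I is invertible is invertible in P. (The source states this for a lift of a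
unit to the p-adically completed level-m divided power envelope of a closed immersion; the statement
here keeps exactly what its argument uses: completeness for p and the level-m divided powers on the
kernel.) -/
theorem result (p : ℕ) [Fact p.Prime] (m : ℕ)
    (P : Type u) [CommRing P] [IsAdicComplete (Ideal.span {(p : P)}) P]
    (I J : Ideal P) (hJ : DividedPowers J) (hJI : J ≤ I)
    (hpow : ∀ x ∈ I, x ^ (p ^ m) ∈ J) (hmul : ∀ x ∈ I, (p : P) * x ∈ J)
    (u : P) (hu : IsUnit (Ideal.Quotient.mk I u)) : IsUnit u := by
  classical
  obtain ⟨v', hv'⟩ := hu.exists_right_inv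
  obtain ⟨v, rfl⟩ := Ideal.Quotient.mk_surjective v'
  -- x := 1 - u * v ∈ I
  have hx : (1 - u * v) ∈ I := by
    rw [← Ideal.Quotient.eq_zero_iff_mem, map_sub, map_one, map_mul, hv', sub_self]
  set x := 1 - u * v with hxdef
  have hy : x ^ (p ^ m) ∈ J := hpow x hx
  have hp : (x ^ (p ^ m)) ^ p ∈ Ideal.span {(p : P)} := by
    have h := hJ.factorial_mul_dpow_eq_pow (n := p) hy
    rw [← h]
    have hdvd : (p : P) ∣ ((p.factorial : ℕ) : P) := by
      have : p ∣ p.factorial := Nat.dvd_factorial (Fact.out : p.Prime).pos le_rfl
      exact_mod_cast (Nat.cast_dvd_cast (α := P) this)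
    exact Ideal.mul_mem_right _ _ (Ideal.mem_span_singleton.mpr hdvd)
  have hjac : Ideal.span {(p : P)} ≤ Ideal.jacobson (⊥ : Ideal P) :=
    IsAdicComplete.le_jacobson_bot _
  have hxj : x ∈ Ideal.jacobson (⊥ : Ideal P) := by
    have hrad : (Ideal.jacobson (⊥ : Ideal P)).IsRadical := Ideal.isRadical_jacobson _
    apply hrad
    refine ⟨p ^ m * p, ?_⟩
    rw [pow_mul]
    exact hjac hp
  have hunit : IsUnit (u * v) := by
    have := (Ideal.mem_jacobson_bot.mp hxj) (-1)
    have h2 : x * -1 + 1 = u * v := by rw [hxdef]; ring
    rwa [h2] at this
  exact isUnit_of_mul_isUnit_left hunit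

end Groth.Agent.S19348
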