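import Groth.Statements.S1935
import Mathlib
import Groth.Agent.Lib.Helper20.HP7
import Groth.Agent.Lib.Helper6.EtLocScheme4

set_option autoImplicit false
universe u
open CategoryTheory CategoryTheory.Limits AlgebraicGeometry
open Grpd

namespace Groth.Agent.S1935


/-- Let (U, R, s, t, c) be a groupoid scheme over S, p a point of S and u a point of U over p. Assume U
→ S is locally of finite type, separated and quasi-finite at u (u has an open neighbourhood meeting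
the fibre over p only in u), R → S is separated, s and t are flat and locally of finite
presentation, s⁻¹{u} is finite, and j = (t, s) : R → U ×_S U is universally closed. Then there are
an étale neighbourhood g : (S', p') → (S, p) inducing an isomorphism of residue fields κ(p) ≅ κ(p')
and open-and-closed subsets U' ⊆ U_{S'} = U ×_S S' and R' ⊆ R_{S'} = R ×_S S' such that, writing s',
t' : R_{S'} → U_{S'} for the base changes of s and t: some point u' of U' lies over u and over p';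
for every such u' the fibre of U' over p' is t'(s'⁻¹{u'}); the fibre of R' over p' is s'⁻¹ of the
fibre of U' over p'; U' and R' are finite over S'; s' and t' map R' into U'; and R' is the full
restriction of R_{S'} to U', i.e. R' = s'⁻¹(U') ∩ t'⁻¹(U'). The published statement obtains all
conclusions but the last without assuming j universally closed and adds the last one under that
assumption; here j universally closed is assumed throughout. The published statement also has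
further conclusions, which are not stated here. (A groupoid scheme carries U, R, s, t, c, e, i over
S with the groupoid axioms on T-points.) -/
theorem result (S : Scheme.{u}) (G : Grpd.GroupoidScheme S) (p : S) (u : G.U) (hu : G.pU u = p) [UniversallyClosed G.j] [LocallyOfFiniteType G.pU] [IsSeparated G.pU] [IsSeparated G.pR] [Flat G.s] [LocallyOfFinitePresentation G.s] [Flat G.t] [LocallyOfFinitePresentation G.t] (hqf : ∃ V : G.U.Opens, u ∈ V ∧ ∀ x ∈ V, G.pU x = p → x = u) (hfin : (⇑G.s ⁻¹' {u}).Finite) : ∃ (S' : Scheme.{u}) (g : S' ⟶ S) (p' : S') (_ : Hens2.IsEtaleNbhd g p' p) (U' : (pullback G.pU g).Opens) (R' : (pullback G.pR g).Opens), IsClosed (U' : Set ↥(pullback G.pU g)) ∧ IsClosed (R' : Set ↥(pullback G.pR g)) ∧ (∃ u' : ↥(pullback G.pU g), u' ∈ U' ∧ pullback.fst G.pU g u' = u ∧ pullback.snd G.pU g u' = p') ∧ (∀ u' : ↥(pullback G.pU g), u' ∈ U' → pullback.fst G.pU g u' = u → pullback.snd G.pU g u' = p' →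 {x : ↥(pullback G.pU g) | x ∈ U' ∧ pullback.snd G.pU g x = p'} = ⇑(pullback.map G.pR g G.pU g G.t (𝟙 S') (𝟙 S) ((Category.comp_id _).trans G.t_over.symm) ((Category.comp_id _).trans (Category.id_comp _).symm)) '' (⇑(pullback.map G.pR g G.pU g G.s (𝟙 S') (𝟙 S) ((Category.comp_id _).trans G.s_over.symm) ((Category.comp_id _).trans (Category.id_comp _).symm)) ⁻¹' {u'})) ∧ {r : ↥(pullback G.pR g) | r ∈ R' ∧ pullback.snd G.pR g r = p'} = ⇑(pullback.map G.pR g G.pU g G.s (𝟙 S') (𝟙 S) ((Category.comp_id _).trans G.s_over.symm) ((Category.comp_id _).trans (Category.id_comp _).symm)) ⁻¹' {x | x ∈ U' ∧ pullback.snd G.pU g x = p'} ∧ IsFinite (U'.ι ≫ pullback.snd G.pU g) ∧ IsFinite (R'.ι ≫ pullback.snd G.pR g) ∧ ⇑(pullback.map G.pR g G.pU g G.s (𝟙 S') (𝟙 S) ((Category.comp_id _).trans G.s_over.symm) ((Category.comp_id _).trans (Category.id_comp _).symm)) '' (R' : Set ↥(pullback G.pR g)) ⊆ U' ∧ ⇑(pullback.map G.pR g G.pU g G.t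 (𝟙 S') (𝟙 S) ((Category.comp_id _).trans G.t_over.symm) ((Category.comp_id _).trans (Category.id_comp _).symm)) '' (R' : Set ↥(pullback G.pR g)) ⊆ U' ∧ (R' : Set ↥(pullback G.pR g)) = ⇑(pullback.map G.pR g G.pU g G.s (𝟙 S') (𝟙 S) ((Category.comp_id _).trans G.s_over.symm) ((Category.comp_id _).trans (Category.id_comp _).symm)) ⁻¹' (U' : Set ↥(pullback G.pU g)) ∩ ⇑(pullback.map G.pR g G.pU g G.t (𝟙 S') (𝟙 S) ((Category.comp_id _).trans G.t_over.symm) ((Category.comp_id _).trans (Category.id_comp _).symm)) ⁻¹' (U' : Set ↥(pullback G.pU g)) := by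

  classical
  subst hu
  open Groth.Agent.Lib.Helper20.HP in
  have hqf' : G.pU.QuasiFiniteAt u := by
    rw [quasiFiniteAt_iff_exists_opens]
    obtain ⟨V, huV, hV⟩ := hqf
    exact ⟨V, huV, fun y hy hyu => hV y hy hyu⟩
  have hfinF : (Groth.Agent.Lib.Helper20.HP.Fall G u).Finite :=
    Groth.Agent.Lib.Helper20.HP.finite_Fall G u hfin
  haveI : Finite ↥(Groth.Agent.Lib.Helper20.HP.Fall G u) := hfinF.to_subtype
  haveI : LocallyOfFiniteType G.pR := by
    rw [← G.s_over]; infer_instance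
  obtain ⟨S₁, g₁, p₁, -, hEt, hgp, hbij, V, v, hdisj, hV, hclopen, hfinR⟩ :=
    Groth.Agent.Lib.Helper6.EtLoc.exists_etale_nbhd_family_separated G.pR (G.pU u)
      (fun i : ↥(Groth.Agent.Lib.Helper20.HP.Fall G u) => (i : G.R))
      Subtype.val_injective
      (fun i => Groth.Agent.Lib.Helper20.HP.pR_of_mem_Fall G u i.1 i.2)
      (fun i => Groth.Agent.Lib.Helper20.HP.quasiFiniteAt_pR_of_mem_Fall G u hqf' hfin i.1 i.2)
  set R₁ : (pullback G.pR g₁).Opens := ⨆ i, V i with hR₁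
  have hF1 : ∀ r' : ↑(pullback G.pR g₁), pullback.snd G.pR g₁ r' = p₁ →
      pullback.fst G.pR g₁ r' ∈ Groth.Agent.Lib.Helper20.HP.Fall G u → r' ∈ R₁ := by
    intro r' h1 h2
    obtain ⟨i, hi⟩ : ∃ i : ↥(Groth.Agent.Lib.Helper20.HP.Fall G u),
        (i : G.R) = pullback.fst G.pR g₁ r' := ⟨⟨_, h2⟩, rfl⟩
    have h3 : r' = v i := (hV i).2.2.2.2.2.2.2 r' h1 hi.symm
    have h4 : v i ∈ V i := (hV i).2.1
    rw [hR₁, TopologicalSpace.Opens.mem_iSup]
    exact ⟨i, h3.symm ▸ h4⟩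
  have hF2 : ∀ r' ∈ R₁, pullback.snd G.pR g₁ r' = p₁ →
      pullback.fst G.pR g₁ r' ∈ Groth.Agent.Lib.Helper20.HP.Fall G u := by
    intro r' hr' h1
    rw [hR₁, TopologicalSpace.Opens.mem_iSup] at hr'
    obtain ⟨i, hi⟩ := hr'
    have h3 := (hV i).2.2.2.2.1 r' hi h1
    rw [h3, (hV i).2.2.2.2.2.1]
    exact i.2
  haveI : IsFinite (R₁.ι ≫ pullback.snd G.pR g₁) := hfinR
  -- the bad set
  have hUBcl := Groth.Agent.Lib.Helper20.HP.isClosed_UB G g₁ R₁
  set E : Set ↑(pullback G.pR g₁) :=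
    (Groth.Agent.Lib.Helper20.HP.sB G g₁ ⁻¹'
        (Groth.Agent.Lib.Helper20.HP.UB G g₁ R₁ : Set ↑(pullback G.pU g₁)) ∩
      Groth.Agent.Lib.Helper20.HP.tB G g₁ ⁻¹'
        (Groth.Agent.Lib.Helper20.HP.UB G g₁ R₁ : Set ↑(pullback G.pU g₁))) \
      (R₁ : Set ↑(pullback G.pR g₁)) with hE
  have hEcl : IsClosed E :=
    ((hUBcl.preimage (Groth.Agent.Lib.Helper20.HP.sB G g₁).continuous).inter
      (hUBcl.preimage (Groth.Agent.Lib.Helper20.HP.tB G g₁).continuous)).sdiff R₁.2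
  have hEimg : IsClosed (pullback.snd G.pR g₁ '' E) :=
    Groth.Agent.Lib.Helper20.HP.isClosed_image_snd G g₁ R₁ E hEcl
      (fun r hr => hr.1.1) (fun r hr => hr.1.2)
  have hp₁ : p₁ ∉ pullback.snd G.pR g₁ '' E := by
    rintro ⟨r, ⟨⟨hs, ht⟩, hnot⟩, hr⟩
    have h1 : r ∈ {r : ↑(pullback G.pR g₁) | r ∈ Groth.Agent.Lib.Helper20.HP.RB G g₁ R₁ ∧
        pullback.snd G.pR g₁ r = p₁} := by
      rw [Groth.Agent.Lib.Helper20.HP.fibre_RB_eq G g₁ R₁ u p₁ hgp hbij hF1 hF2]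
      exact ⟨hs, by rw [Groth.Agent.Lib.Helper20.HP.sB_snd_apply]; exact hr⟩
    exact hnot h1.1.1
  let S'' : S₁.Opens := ⟨(pullback.snd G.pR g₁ '' E)ᶜ, hEimg.isOpen_compl⟩
  let p'' : ↥(S'' : Scheme.{u}) := ⟨p₁, hp₁⟩
  have hk : S''.ι p'' = p₁ := rfl
  have hgp'' : (S''.ι ≫ g₁) p'' = G.pU u := hgp
  have hbij'' : Function.Bijective ((S''.ι ≫ g₁).residueFieldMap p'') :=
    Groth.Agent.Lib.Helper20.HP.bijective_residueFieldMap_comp g₁ S''.ι p'' hbij
  set R₂ := Groth.Agent.Lib.Helper20.HP.R₁T G g₁ S''.ι R₁ with hR₂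
  have hF1' := Groth.Agent.Lib.Helper20.HP.hF1_R₁T G g₁ S''.ι R₁ u p₁ p'' hk hF1
  have hF2' := Groth.Agent.Lib.Helper20.HP.hF2_R₁T G g₁ S''.ι R₁ u p₁ p'' hk hF2
  haveI : IsFinite (R₂.ι ≫ pullback.snd G.pR (S''.ι ≫ g₁)) :=
    Groth.Agent.Lib.Helper20.HP.isFinite_R₁T G g₁ S''.ι R₁
  have hclR₂ : IsClosed (R₂ : Set ↑(pullback G.pR (S''.ι ≫ g₁))) :=
    Groth.Agent.Lib.Helper20.HP.isClosed_R₁T G g₁ S''.ι R₁ hclopen.1
  obtain ⟨hclRB, hfinRB⟩ := Groth.Agent.Lib.Helper20.HP.isFinite_RB G (S''.ι ≫ g₁) R₂ hclR₂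
  have hfull := Groth.Agent.Lib.Helper20.HP.RB_eq_of_disjoint G g₁ S''.ι R₁ (by
    intro r hs ht hnot hrange
    rw [Scheme.Opens.range_ι] at hrange
    exact hrange ⟨r, ⟨⟨hs, ht⟩, hnot⟩, rfl⟩)
  haveI := hEt
  refine ⟨S'', S''.ι ≫ g₁, p'', ⟨inferInstance, hgp'', hbij''⟩,
    Groth.Agent.Lib.Helper20.HP.UB G (S''.ι ≫ g₁) R₂,
    Groth.Agent.Lib.Helper20.HP.RB G (S''.ι ≫ g₁) R₂,
    Groth.Agent.Lib.Helper20.HP.isClosed_UB G (S''.ι ≫ g₁) R₂,
    hclRB, ?_, ?_, ?_, Groth.Agent.Lib.Helper20.HP.isFinite_UB G (S''.ι ≫ g₁) R₂, hfinRB,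
    Groth.Agent.Lib.Helper20.HP.sB_image_RB G (S''.ι ≫ g₁) R₂,
    Groth.Agent.Lib.Helper20.HP.tB_image_RB G (S''.ι ≫ g₁) R₂, hfull⟩
  · exact Groth.Agent.Lib.Helper20.HP.exists_point_UB G (S''.ι ≫ g₁) R₂ u p'' hgp'' hbij''
      hF1' hF2'
  · intro u' _ h1 h2
    exact Groth.Agent.Lib.Helper20.HP.fibre_UB_eq G (S''.ι ≫ g₁) R₂ u p'' hgp'' hbij'' hF1' hF2'
      u' h1 h2
  · exact Groth.Agent.Lib.Helper20.HP.fibre_RB_eq G (S''.ι ≫ g₁) R₂ u p'' hgp'' hbij'' hF1' hF2'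

end Groth.Agent.S1935
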