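import Groth.Statements.S19356
import Mathlib.LinearAlgebra.Matrix.Charpoly.Basic
import Mathlib.LinearAlgebra.Matrix.ToLinearEquiv
import Mathlib.LinearAlgebra.QuadraticForm.Basic
import Mathlib.LinearAlgebra.Charpoly.ToMatrix
import Mathlib.Analysis.Complex.Norm
import Mathlib.RingTheory.Artinian.Module
import Mathlib.RingTheory.Artinian.Ring
-- import your own Groth.Agent.* helpers here

set_option autoImplicit false
universe u
open AbVar

namespace Groth.Agent.S19356

open scoped ComplexConjugate
open Matrix Module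

theorem normSq_eq_of_isometry {n : Type*} [Fintype n] [DecidableEq n]
    (M : Matrix n n ℚ) (c : n → ℚ) (hc : ∀ i, 0 < c i) (q : ℚ)
    (hM : ∀ j l, ∑ i, M i j * c i * M i l = if j = l then q * c j else 0)
    (lam : ℂ) (hlam : (M.charpoly).eval₂ (algebraMap ℚ ℂ) lam = 0) : lam * conj lam = (q : ℂ) := by
  classical
  set Mc : Matrix n n ℂ := M.map (algebraMap ℚ ℂ) with hMc
  have hdet : (Matrix.scalar n lam - Mc).det = 0 := by
    rw [← Matrix.eval_charpoly, hMc, Matrix.charpoly_map, Polynomial.eval_map]
    exact hlam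
  obtain ⟨z, hz0, hz⟩ := Matrix.exists_mulVec_eq_zero_iff.mpr hdet
  have hz' : ∀ i, ∑ j, (M i j : ℂ) * z j = lam * z i := by
    intro i
    have := congrFun hz i
    rw [Matrix.sub_mulVec, Pi.sub_apply, Pi.zero_apply, sub_eq_zero] at this
    rw [Matrix.scalar_apply, Matrix.mulVec_diagonal] at this
    rw [this]
    simp [Matrix.mulVec, dotProduct, hMc]
  -- the norm
  set N : ℂ := ∑ i, (c i : ℂ) * (z i * conj (z i)) with hN
  have hNpos : N ≠ 0 := by
    have h1 : N = ((∑ i, (c i : ℝ) * Complex.normSq (z i) : ℝ) : ℂ) := by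
      rw [hN]
      push_cast
      refine Finset.sum_congr rfl fun i _ => ?_
      rw [Complex.mul_conj]
    rw [h1]
    have hpos : 0 < ∑ i, (c i : ℝ) * Complex.normSq (z i) := by
      obtain ⟨i0, hi0⟩ : ∃ i, z i ≠ 0 := by
        by_contra h
        push Not at h
        exact hz0 (funext h)
      apply Finset.sum_pos'
      · intro i _
        exact mul_nonneg (by exact_mod_cast (hc i).le) (Complex.normSq_nonneg _)
      · exact ⟨i0, Finset.mem_univ _, mul_pos (by exact_mod_cast hc i0) (Complex.normSq_pos.mpr hi0)⟩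
    exact_mod_cast hpos.ne'
  have h1 : ∑ i, (c i : ℂ) * ((∑ j, (M i j : ℂ) * z j) * conj (∑ l, (M i l : ℂ) * z l)) =
      lam * conj lam * N := by
    rw [hN, Finset.mul_sum]
    refine Finset.sum_congr rfl fun i _ => ?_
    rw [hz' i, map_mul]
    ring
  have h2 : ∑ i, (c i : ℂ) * ((∑ j, (M i j : ℂ) * z j) * conj (∑ l, (M i l : ℂ) * z l)) =
      (q : ℂ) * N := by
    have : ∀ i, (c i : ℂ) * ((∑ j, (M i j : ℂ) * z j) * conj (∑ l, (M i l : ℂ) * z l)) =
        ∑ j, ∑ l, ((M i j * c i * M i l : ℚ) : ℂ) * (z j * conj (z l)) := by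
      intro i
      rw [map_sum, Finset.sum_mul_sum, Finset.mul_sum]
      refine Finset.sum_congr rfl fun j _ => ?_
      rw [Finset.mul_sum]
      refine Finset.sum_congr rfl fun l _ => ?_
      rw [map_mul]
      have : conj ((M i l : ℚ) : ℂ) = ((M i l : ℚ) : ℂ) := by
        simp
      rw [this]
      push_cast
      ring
    simp_rw [this]
    rw [Finset.sum_comm, hN, Finset.mul_sum]
    refine Finset.sum_congr rfl fun j _ => ?_
    rw [Finset.sum_comm]
    have hl : ∀ l, ∑ i, ((M i j * c i * M i l : ℚ) : ℂ) * (z j * conj (z l)) =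
        ((if j = l then q * c j else 0 : ℚ) : ℂ) * (z j * conj (z l)) := by
      intro l
      rw [← Finset.sum_mul, ← hM j l]
      push_cast
      rfl
    simp_rw [hl]
    rw [Finset.sum_eq_single j]
    · simp only [if_true]
      push_cast
      ring
    · intro l _ hlj
      rw [if_neg (Ne.symm hlj)]
      simp
    · intro h; exact absurd (Finset.mem_univ j) h
  have := h1.symm.trans h2
  exact mul_right_cancel₀ hNpos this

theorem exists_matrix_data (R : Type*) [Ring R] [Algebra ℚ R] [Module.Finite ℚ R] [StarRing R]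
    [StarModule ℚ R] (σ : R →ₗ[ℚ] ℚ) (hpos : ∀ x : R, x ≠ 0 → 0 < σ (x * star x)) (α : R) (q : ℚ)
    (hα' : star α * α = algebraMap ℚ R q) :
    ∃ (n : ℕ) (M : Matrix (Fin n) (Fin n) ℚ) (c : Fin n → ℚ), (∀ i, 0 < c i) ∧
      (∀ j l, ∑ i, M i j * c i * M i l = if j = l then q * c j else 0) ∧
      Polynomial.aeval α M.charpoly = 0 := by
  classical
  -- the symmetric bilinear form
  let B : LinearMap.BilinForm ℚ R := LinearMap.mk₂ ℚ (fun x y => σ (star x * y) + σ (star y * x))
    (by intro x x' y; simp only [star_add, add_mul, mul_add, map_add]; ring)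
    (by intro c x y; simp only [star_smul, star_trivial, smul_mul_assoc, mul_smul_comm, map_smul,
          smul_eq_mul]; ring)
    (by intro x y y'; simp only [star_add, add_mul, mul_add, map_add]; ring)
    (by intro c x y; simp only [star_smul, star_trivial, smul_mul_assoc, mul_smul_comm, map_smul,
          smul_eq_mul]; ring)
  have hB : ∀ x y, B x y = σ (star x * y) + σ (star y * x) := fun x y => rfl
  have hsymm : B.IsSymm := ⟨fun x y => by rw [hB, hB, add_comm]; rfl⟩
  have hBpos : ∀ x, x ≠ 0 → 0 < B x x := by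
    intro x hx
    rw [hB]
    have h1 : 0 < σ (star x * star (star x)) := hpos (star x) (by simpa using hx)
    rw [star_star] at h1
    linarith
  let T : R →ₗ[ℚ] R := Algebra.lmul ℚ R α
  have hT : ∀ x, T x = α * x := fun x => rfl
  have hiso : ∀ x y, B (T x) (T y) = q * B x y := by
    intro x y
    rw [hB, hB, hT, hT, star_mul, star_mul]
    have e1 : star x * star α * (α * y) = q • (star x * y) := by
      rw [mul_assoc, ← mul_assoc (star α), hα', Algebra.algebraMap_eq_smul_one, smul_mul_assoc, one_mul,
        mul_smul_comm]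
    have e2 : star y * star α * (α * x) = q • (star y * x) := by
      rw [mul_assoc, ← mul_assoc (star α), hα', Algebra.algebraMap_eq_smul_one, smul_mul_assoc, one_mul,
        mul_smul_comm]
    rw [e1, e2, map_smul, map_smul, smul_eq_mul, smul_eq_mul]
    ring
  obtain ⟨v, hv⟩ := LinearMap.BilinForm.exists_orthogonal_basis hsymm
  rw [LinearMap.isOrthoᵢ_def] at hv
  refine ⟨finrank ℚ R, LinearMap.toMatrix v v T, fun i => B (v i) (v i), ?_, ?_, ?_⟩
  · intro i
    exact hBpos _ (v.ne_zero i)
  · intro j l
    set M := LinearMap.toMatrix v v T with hM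
    have hTv : ∀ j, T (v j) = ∑ i, M i j • v i := by
      intro j
      conv_lhs => rw [← v.sum_repr (T (v j))]
      refine Finset.sum_congr rfl fun i _ => ?_
      rw [hM, LinearMap.toMatrix_apply]
    have h1 : B (T (v j)) (T (v l)) = ∑ i, M i j * B (v i) (v i) * M i l := by
      rw [hTv j, hTv l]
      simp only [map_sum, map_smul, LinearMap.sum_apply, LinearMap.smul_apply, smul_eq_mul]
      refine Finset.sum_congr rfl fun i _ => ?_
      rw [Finset.sum_eq_single i]
      · ring
      · intro i' _ hi'
        rw [hv i' i hi']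
        ring
      · intro h; exact absurd (Finset.mem_univ i) h
    rw [← h1, hiso]
    split_ifs with hjl
    · rw [hjl]
    · rw [hv j l hjl, mul_zero]
  · have h1 : (LinearMap.toMatrix v v T).charpoly = T.charpoly := LinearMap.charpoly_toMatrix T v
    rw [h1]
    have h2 : Polynomial.aeval T T.charpoly = 0 := LinearMap.aeval_self_charpoly T
    have h3 : Polynomial.aeval T T.charpoly = Algebra.lmul ℚ R (Polynomial.aeval α T.charpoly) := by
      rw [← Polynomial.aeval_algHom_apply]
    rw [h3] at h2
    have := congrArg (fun f => f 1) h2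
    simpa using this

theorem star_mem_adjoin (R : Type*) [Ring R] [Algebra ℚ R] [Module.Finite ℚ R] [StarRing R]
    [StarModule ℚ R] (σ : R →ₗ[ℚ] ℚ) (hpos : ∀ x : R, x ≠ 0 → 0 < σ (x * star x)) (α : R) (q : ℚ)
    (hα : α * star α = algebraMap ℚ R q) (hα0 : α ≠ 0) :
    q ≠ 0 ∧ star α * α = algebraMap ℚ R q ∧ star α ∈ Algebra.adjoin ℚ ({α} : Set R) := by
  classical
  have hq0 : q ≠ 0 := by
    rintro rfl
    have := hpos α hα0
    rw [hα, map_zero, map_zero] at this
    exact lt_irrefl _ this
  have hart : IsArtinianRing R := IsArtinianRing.of_finite ℚ R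
  set β : R := q⁻¹ • star α with hβ
  have hαβ : α * β = 1 := by
    rw [hβ, mul_smul_comm, hα, Algebra.algebraMap_eq_smul_one, smul_smul, inv_mul_cancel₀ hq0, one_smul]
  have hβα : β * α = 1 := mul_eq_one_comm.mp hαβ
  have hstar : star α = q • β := by
    rw [hβ, smul_smul, mul_inv_cancel₀ hq0, one_smul]
  have hα' : star α * α = algebraMap ℚ R q := by
    rw [hstar, smul_mul_assoc, hβα, Algebra.algebraMap_eq_smul_one]
  refine ⟨hq0, hα', ?_⟩
  -- β ∈ L
  set L := Algebra.adjoin ℚ ({α} : Set R) with hL
  let a : L := ⟨α, Algebra.self_mem_adjoin_singleton ℚ α⟩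
  have hfin : FiniteDimensional ℚ L := Module.Finite.of_injective L.val.toLinearMap Subtype.val_injective
  let f : L →ₗ[ℚ] L := LinearMap.mulLeft ℚ a
  have hinj : Function.Injective f := by
    rw [injective_iff_map_eq_zero]
    intro x hx
    have h1 : α * (x : R) = 0 := congrArg Subtype.val hx
    have h2 : (x : R) = 0 := by
      rw [← one_mul (x : R), ← hβα, mul_assoc, h1, mul_zero]
    exact Subtype.ext h2
  obtain ⟨y, hy⟩ := LinearMap.surjective_of_injective hinj 1
  have h1 : α * (y : R) = 1 := congrArg Subtype.val hy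
  have h2 : (y : R) = β := by
    rw [← one_mul (y : R), ← hβα, mul_assoc, h1, mul_one]
  rw [hstar, ← h2]
  exact Subalgebra.smul_mem _ y.2 q

/-- Let R be a finite-dimensional ℚ-algebra with a ℚ-linear involution x ↦ x† (an anti-automorphism of
order two) and a ℚ-linear functional σ with σ(x x†) > 0 for every x ≠ 0; this is the positivity of
the involution, σ being the trace of R over ℚ in the case of the endomorphism algebra of an abelian
variety with a Rosati involution, and the trace on a cohomology group in the case of an algebra of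
correspondences with the adjoint for a Weil form. Let α ∈ R with α α† = q for a rational number q.
Then α† lies in the subalgebra ℚ[α], and for every ℚ-algebra homomorphism ρ : ℚ[α] → ℂ one has ρ(α†)
= the complex conjugate of ρ(α) and |ρ(α)|² = q. (The published statement is for the endomorphism
algebra of an abelian variety with a Rosati involution, with σ its trace over ℚ and q an integer;
the form given here, for an arbitrary ℚ-linear functional σ positive on every x x† with x ≠ 0 and
rational q, is what its proof establishes.) -/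
theorem result (R : Type u) [Ring R] [Algebra ℚ R]
    [Module.Finite ℚ R] [StarRing R] [StarModule ℚ R]
    (σ : R →ₗ[ℚ] ℚ) (hpos : ∀ x : R, x ≠ 0 → 0 < σ (x * star x))
    (α : R) (q : ℚ) (hα : α * star α = algebraMap ℚ R q) :
    ∃ hmem : star α ∈ Algebra.adjoin ℚ ({α} : Set R),
      ∀ ρ : Algebra.adjoin ℚ ({α} : Set R) →ₐ[ℚ] ℂ,
        ρ ⟨star α, hmem⟩ = starRingEnd ℂ (ρ ⟨α, Algebra.self_mem_adjoin_singleton ℚ α⟩) ∧
          ‖ρ ⟨α, Algebra.self_mem_adjoin_singleton ℚ α⟩‖ ^ 2 = (q : ℝ) := by
  classical
  by_cases hα0 : α = 0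
  · subst hα0
    have hmem : star (0 : R) ∈ Algebra.adjoin ℚ ({(0 : R)} : Set R) := by
      rw [star_zero]; exact Subalgebra.zero_mem _
    refine ⟨hmem, fun ρ => ?_⟩
    have hnt : Nontrivial R := by
      by_contra hnt
      rw [not_nontrivial_iff_subsingleton] at hnt
      have h01 : (0 : Algebra.adjoin ℚ ({(0 : R)} : Set R)) = 1 := Subtype.ext (Subsingleton.elim _ _)
      have := congrArg ρ h01
      rw [map_zero, map_one] at this
      exact zero_ne_one this
    have hq : q = 0 := by
      rw [zero_mul] at hα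
      have : algebraMap ℚ R q = algebraMap ℚ R 0 := by rw [← hα, map_zero]
      exact (algebraMap ℚ R).injective this
    have e1 : (⟨star (0 : R), hmem⟩ : Algebra.adjoin ℚ ({(0 : R)} : Set R)) = 0 :=
      Subtype.ext (star_zero R)
    have e2 : (⟨(0 : R), Algebra.self_mem_adjoin_singleton ℚ (0 : R)⟩ :
        Algebra.adjoin ℚ ({(0 : R)} : Set R)) = 0 := rfl
    rw [e1, e2, map_zero, hq]
    simp
  · obtain ⟨hq0, hα', hmem⟩ := star_mem_adjoin R σ hpos α q hα hα0
    obtain ⟨n, M, c, hc, hM, hP⟩ := exists_matrix_data R σ hpos α q hα'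
    refine ⟨hmem, ?_⟩
    set L := Algebra.adjoin ℚ ({α} : Set R) with hL
    set a : L := ⟨α, Algebra.self_mem_adjoin_singleton ℚ α⟩ with ha
    intro ρ
    set lam := ρ a with hlam
    have haP : Polynomial.aeval a M.charpoly = 0 := by
      apply Subtype.val_injective
      have : L.val (Polynomial.aeval a M.charpoly) = Polynomial.aeval (L.val a) M.charpoly :=
        (Polynomial.aeval_algHom_apply L.val a M.charpoly).symm
      change L.val (Polynomial.aeval a M.charpoly) = L.val 0
      rw [this, map_zero]
      exact hP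
    have hroot : (M.charpoly).eval₂ (algebraMap ℚ ℂ) lam = 0 := by
      have := congrArg ρ haP
      rw [← Polynomial.aeval_algHom_apply, map_zero] at this
      exact this
    have hnorm : lam * conj lam = (q : ℂ) := normSq_eq_of_isometry M c hc q hM lam hroot
    have hlam0 : lam ≠ 0 := by
      intro h0
      rw [h0, zero_mul] at hnorm
      exact hq0 (by exact_mod_cast hnorm.symm)
    constructor
    · have h1 : ρ ⟨star α, hmem⟩ * lam = (q : ℂ) := by
        rw [hlam, ← map_mul]
        have : (⟨star α, hmem⟩ * a : L) = algebraMap ℚ L q := Subtype.ext hα'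
        rw [this, AlgHom.commutes]
        rfl
      have h2 : (starRingEnd ℂ) lam * lam = (q : ℂ) := by rw [mul_comm]; exact hnorm
      exact mul_right_cancel₀ hlam0 (h1.trans h2.symm)
    · rw [Complex.sq_norm]
      rw [Complex.mul_conj] at hnorm
      exact_mod_cast hnorm

end Groth.Agent.S19356
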