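import Groth.Statements.S19368
-- import your own Groth.Agent.* helpers here
import Groth.Agent.Lib27.Fan.Realiz

set_option autoImplicit false
universe u
open CategoryTheory Opposite Instab
open Instab Instab.Fan

namespace Groth.Agent.S19368

/-- Let F be a formal fan; a subset of P F is realizable when it is the image of the projective
realization of some sub-fan of F. The intersection of two realizable subsets is realizable, and the
union of an arbitrary family of realizable subsets is realizable. -/
theorem result (F : Fan.{u}) :
    (∀ U V : Set (Fan.P F), Fan.IsRealizable U → Fan.IsRealizable V → Fan.IsRealizable (U ∩ V)) ∧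
    ∀ (ι : Type u) (U : ι → Set (Fan.P F)), (∀ i, Fan.IsRealizable (U i)) →
      Fan.IsRealizable (Set.iUnion U) := by
  exact ⟨Groth.Agent.Lib27.Fan.isRealizable_inter, Groth.Agent.Lib27.Fan.isRealizable_iUnion⟩

end Groth.Agent.S19368
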