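import Groth.Statements.S1937
import Mathlib
import Groth.Agent.Helper19.OmegaGrp
-- import your own Groth.Agent.* helpers here

set_option autoImplicit false
universe u v
open CategoryTheory MonoidalCategory CartesianMonoidalCategory MonObj GrpObj AlgebraicGeometry
open GrpSch

namespace Groth.Agent.S1937

section helpers

open CategoryTheory.Limits Groth.Agent.Lib.Helper29.QCoh

variable {S : Scheme.{u}} (G : Over S) [GrpObj G]

/-- `(g, h) ↦ g⁻¹h`. -/
noncomputable def delO : G ⊗ G ⟶ G := lift (fst G G ≫ ι[G]) (snd G G) ≫ μ[G]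

theorem inv_mul_mul {A : Over S} (a b : A ⟶ G) :
    lift (a ≫ ι[G]) (lift a b ≫ μ[G]) ≫ μ[G] = b := by
  rw [← lift_lift_assoc, lift_comp_inv_left, lift_comp_one_left]

theorem mul_inv_mul {A : Over S} (a b : A ⟶ G) :
    lift a (lift (a ≫ ι[G]) b ≫ μ[G]) ≫ μ[G] = b := by
  rw [← lift_lift_assoc, lift_comp_inv_right, lift_comp_one_left]

noncomputable def thetaIso : G ⊗ G ≅ G ⊗ G where
  hom := lift (delO G) (fst G G)
  inv := lift (snd G G) (lift (snd G G) (fst G G) ≫ μ[G])
  hom_inv_id := by
    apply CartesianMonoidalCategory.hom_ext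
    · rw [Category.assoc, lift_fst, lift_snd, Category.id_comp]
    · rw [Category.assoc, lift_snd, comp_lift_assoc, lift_snd, lift_fst, Category.id_comp]
      unfold delO
      exact mul_inv_mul G _ _
  inv_hom_id := by
    apply CartesianMonoidalCategory.hom_ext
    · rw [Category.assoc, lift_fst, Category.id_comp]
      unfold delO
      rw [comp_lift_assoc, ← Category.assoc, lift_fst, lift_snd]
      exact inv_mul_mul G _ _
    · rw [Category.assoc, lift_snd, lift_fst, Category.id_comp]

theorem delO_w : (delO G).left ≫ G.hom = pullback.fst G.hom G.hom ≫ G.hom := Over.w (delO G)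

theorem isPullback_delO :
    IsPullback (delO G).left (pullback.fst G.hom G.hom) G.hom G.hom := by
  refine IsPullback.of_iso_pullback ⟨delO_w G⟩ ((Over.forget S).mapIso (thetaIso G)) ?_ ?_
  · exact congrArg (fun k => k.left) (lift_fst (delO G) (fst G G))
  · exact congrArg (fun k => k.left) (lift_snd (delO G) (fst G G))

theorem diagonal_delO :
    pullback.diagonal G.hom ≫ (delO G).left = G.hom ≫ η[G].left := by
  have h : lift (𝟙 G) (𝟙 G) ≫ delO G = toUnit G ≫ η[G] := by
    unfold delO
    rw [comp_lift_assoc, ← Category.assoc, lift_fst, lift_snd, Category.id_comp]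
    exact GrpObj.left_inv G
  exact congrArg (fun k => k.left) h

theorem unit_hom : (η[G].left : S ⟶ G.left) ≫ G.hom = 𝟙 S := Over.w η[G]

end helpers

section free

open CategoryTheory.Limits Groth.Agent.Lib.Helper29.QCoh

theorem exists_iso_free_of_field (K : Type u) [Field K]
    (M : (Spec (CommRingCat.of K)).Modules) [M.IsQuasicoherent] :
    ∃ I : Type u, Nonempty (M ≅ SheafOfModules.free I) := by
  let V : ModuleCat.{u} (CommRingCat.of K) := (modulesSpecToSheaf.obj M).presheaf.obj (.op ⊤)
  letI : Module K V := inferInstanceAs (Module (CommRingCat.of K) V)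
  let I := Module.Free.ChooseBasisIndex K V
  let b : Module.Basis I K V := Module.Free.chooseBasis K V
  let e : V ≅ ModuleCat.of (CommRingCat.of K) (I →₀ K) := b.repr.toModuleIso
  haveI : IsIso (Scheme.Modules.fromTildeΓ (R := CommRingCat.of K) M) :=
    Scheme.Modules.isIso_fromTildeΓ_of_isQuasicoherent (R := CommRingCat.of K) M
  have e1 : tilde V ≅ M := asIso (Scheme.Modules.fromTildeΓ (R := CommRingCat.of K) M)
  have e2 : tilde V ≅ tilde (ModuleCat.of (CommRingCat.of K) (I →₀ K)) :=
    (tilde.functor (CommRingCat.of K)).mapIso e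
  have e3 : tilde (ModuleCat.of (CommRingCat.of K) (I →₀ K)) ≅ SheafOfModules.free I :=
    tildeFinsupp (R := CommRingCat.of K) I
  exact ⟨I, ⟨e1.symm ≪≫ e2 ≪≫ e3⟩⟩

theorem exists_pullback_iso_free {X S : Scheme.{u}} (f : X ⟶ S) (K : Type u) [Field K]
    (ψ : S ≅ Spec (CommRingCat.of K)) (M : S.Modules) [M.IsQuasicoherent] :
    ∃ I : Type u, Nonempty ((Scheme.Modules.pullback f).obj M ≅
      ∐ fun _ : I => Coh.structureModule X) := by
  obtain ⟨I, ⟨e⟩⟩ := exists_iso_free_of_field K ((Scheme.Modules.pullback ψ.inv).obj M)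
  refine ⟨I, ⟨?_⟩⟩
  exact (Scheme.Modules.pullback f).mapIso ((Scheme.Modules.pullbackId S).symm.app M ≪≫
    (Scheme.Modules.pullbackCongr ψ.hom_inv_id.symm).app M ≪≫
    (Scheme.Modules.pullbackComp ψ.hom ψ.inv).symm.app M ≪≫
    (Scheme.Modules.pullback ψ.hom).mapIso e ≪≫ pullbackFreeIso ψ.hom I) ≪≫ pullbackFreeIso f I

end free

theorem part1 (S : Scheme.{u}) (G : Over S) [GrpObj G] [QuasiSeparated G.hom] :
    Nonempty (Omega.sheaf G.hom ≅ (Scheme.Modules.pullback G.hom).obj (Omega.conormal η[G].left)) :=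
  Groth.Agent.Helper19.OmegaGrp.nonempty_omega_iso_pullback_conormal G.hom G.hom
    (η[G].left : S ⟶ G.left) (unit_hom G) (delO G).left (isPullback_delO G) (diagonal_delO G)

/-- Let G be a group scheme over S with structure morphism f and unit section e : S → G. Then Ω_{G/S} ≅
f^* C_{S/G}, the pullback of the conormal sheaf of the immersion e; and when S is the spectrum of a
field, Ω_{G/S} is a free O_G-module (a coproduct of copies of O_G). Stated for G → S
quasi-separated, where the shared prelude's Ω (conormal sheaf of the diagonal through Mathlib's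
kernel ideal sheaf) and conormal sheaf of e are the usual ones. -/
theorem result (S : Scheme.{u}) (G : Over S) [GrpObj G] [QuasiSeparated G.hom] : Nonempty (Omega.sheaf G.hom ≅ (Scheme.Modules.pullback G.hom).obj (Omega.conormal η[G].left)) ∧ ∀ (K : Type u) [Field K], Nonempty (S ≅ Spec (CommRingCat.of K)) → ∃ I : Type u, Nonempty (Omega.sheaf G.hom ≅ ∐ fun _ : I => Coh.structureModule G.left) := by
  obtain ⟨e1⟩ := part1 S G
  refine ⟨⟨e1⟩, ?_⟩
  intro K _ ⟨ψ⟩
  haveI : (Omega.conormal (η[G].left : S ⟶ G.left)).IsQuasicoherent :=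
    Groth.Agent.Helper19.Conormal.isQuasicoherent_conormal _
  obtain ⟨I, ⟨e2⟩⟩ := exists_pullback_iso_free G.hom K ψ (Omega.conormal (η[G].left : S ⟶ G.left))
  exact ⟨I, ⟨e1 ≪≫ e2⟩⟩

end Groth.Agent.S1937
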