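import Groth.Statements.S19375
import Mathlib
import Groth.Agent.Lib.Helper18.OnePlus2

set_option autoImplicit false
universe u
open EGA4

namespace Groth.Agent.S19375

/-- Let A be a Noetherian ring, J a proper ideal of A, Â the J-adic completion of A and A_T the
localization of A at the multiplicative set T = 1 + J (the elements congruent to 1 modulo J). Assume
that the canonical map A → Â is a normal homomorphism (flat, with geometrically normal fibres), as
happens when A is excellent. Then Â is an integrally closed domain if and only if A_T is an
integrally closed domain and the spectrum of A/J is connected. (The published statement asserts the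
equivalence of the first two conditions alone; for A = ℤ and J = 6ℤ the localization A_T is an
integrally closed domain while Â ≅ ℤ_2 × ℤ_3 is not a domain, and the published proof tacitly uses
that Spec Â, whose connected components correspond to those of Spec(A/J), is connected. The case of
the henselization of the pair and of the weak completion is not stated here.) -/
theorem result
    (A : Type u) [CommRing A] [IsNoetherianRing A] (J : Ideal A) (hJ : J ≠ ⊤)
    (hf : EGA4.IsNormalHom A (AdicCompletion J A))
    (T : Submonoid A) (hT : T = MonoidHom.mker (Ideal.Quotient.mk J)) :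
    (IsDomain (AdicCompletion J A) ∧ IsIntegrallyClosed (AdicCompletion J A)) ↔
      ((IsDomain (Localization T) ∧ IsIntegrallyClosed (Localization T)) ∧
        ConnectedSpace (PrimeSpectrum (A ⧸ J))) := by
  subst hT
  have hn := Groth.Agent.Lib.Helper18.OnePlus.isNormalHom_loc A J hf
  haveI := Groth.Agent.Lib.Helper18.OnePlus.flat_loc A J
  haveI := Groth.Agent.Lib.Helper18.OnePlus.faithfullyFlat_loc A J
  haveI : Nontrivial (A ⧸ J) := Ideal.Quotient.nontrivial_iff.mpr hJ
  constructor
  · rintro ⟨hd, hic⟩
    haveI := hd
    haveI := hic
    haveI : IsDomain (Localization (Groth.Agent.Lib.Helper18.OnePlus.T A J)) :=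
      Groth.Agent.Lib.Helper18.ICFlat.isDomain_of_faithfullyFlat _ (AdicCompletion J A)
    refine ⟨⟨inferInstance,
      Groth.Agent.Lib.Helper18.ICFlat.isIntegrallyClosed_of_faithfullyFlat _ (AdicCompletion J A)⟩, ?_⟩
    exact Groth.Agent.Lib.Helper18.OnePlus.connected_of_idempotent_trivial
      (Groth.Agent.Lib.Helper18.OnePlus.idempotent_trivial_quot_of_isDomain A J)
  · rintro ⟨⟨hd, hic⟩, hconn⟩
    haveI := hd
    haveI := hic
    haveI := hconn
    have hNT : EGA4.IsNormalRing (Localization (Groth.Agent.Lib.Helper18.OnePlus.T A J)) := by
      intro p _
      exact ⟨inferInstance, isIntegrallyClosed_of_isLocalization (Localization.AtPrime p)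
        p.primeCompl p.primeCompl_le_nonZeroDivisors⟩
    have hN : EGA4.IsNormalRing (AdicCompletion J A) :=
      Groth.Agent.Lib.Helper18.PMor.isNormalRing_of_flat_of_fibres
        (Localization (Groth.Agent.Lib.Helper18.OnePlus.T A J)) (AdicCompletion J A) hNT
        (fun q' _ => Groth.Agent.Lib.Helper18.FormFib.isNormalRing_of_isGeomNormal (hn.2 q'))
    haveI : Nontrivial (AdicCompletion J A) :=
      (AdicCompletion.evalOneₐ_surjective J).nontrivial
    haveI : IsDomain (AdicCompletion J A) :=
      Groth.Agent.Lib.Helper18.OnePlus.isDomain_of_local_of_idempotent_trivial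
        (fun m _ => (hN m).1)
        (Groth.Agent.Lib.Helper18.OnePlus.idempotent_trivial_cpl A J
          (fun e he => Groth.Agent.Lib.Helper18.OnePlus.idempotent_trivial_of_connected he))
    exact ⟨inferInstance, IsIntegrallyClosed.of_localization_maximal (fun p _ _ => (hN p).2)⟩

end Groth.Agent.S19375
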