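import Groth.Statements.S19378
import Mathlib
import Groth.Agent.Lib.Helper18.OnePlus

set_option autoImplicit false
universe u
open EGA4

namespace Groth.Agent.S19378

/-- Let A be a Noetherian ring, J a proper ideal of A, Â the J-adic completion and A_T the localization
of A at T = 1 + J. If the canonical map A → Â is a normal homomorphism (flat with geometrically
normal fibres), then A_T is a normal ring (all local rings integrally closed domains) if and only if
Â is. (The case of the henselization of the pair and of the weak completion is not stated here.) -/
theorem result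
    (A : Type u) [CommRing A] [IsNoetherianRing A] (J : Ideal A) (hJ : J ≠ ⊤)
    (hf : EGA4.IsNormalHom A (AdicCompletion J A))
    (T : Submonoid A) (hT : T = MonoidHom.mker (Ideal.Quotient.mk J)) :
    EGA4.IsNormalRing (Localization T) ↔ EGA4.IsNormalRing (AdicCompletion J A) := by
  subst hT
  have hn := Groth.Agent.Lib.Helper18.OnePlus.isNormalHom_loc A J hf
  haveI := Groth.Agent.Lib.Helper18.OnePlus.flat_loc A J
  haveI := Groth.Agent.Lib.Helper18.OnePlus.faithfullyFlat_loc A J
  constructor
  · intro h
    exact Groth.Agent.Lib.Helper18.PMor.isNormalRing_of_flat_of_fibres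
      (Localization (Groth.Agent.Lib.Helper18.OnePlus.T A J)) (AdicCompletion J A) h
      (fun q' _ => Groth.Agent.Lib.Helper18.FormFib.isNormalRing_of_isGeomNormal (hn.2 q'))
  · intro h
    exact Groth.Agent.Lib.Helper18.PMor.isNormalRing_of_faithfullyFlat
      (Localization (Groth.Agent.Lib.Helper18.OnePlus.T A J)) (AdicCompletion J A) h

end Groth.Agent.S19378
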