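import Groth.Statements.S19379
import Mathlib
import Groth.Agent.Lib.Helper23.FSmoothFlat
-- import your own Groth.Agent.* helpers here

set_option autoImplicit false
universe u
open CAlg

namespace Groth.Agent.S19379

open CAlg Groth.Agent.Lib.Helper23.FSmoothFlat


/-- Let A and B be Noetherian rings and let B be an A-algebra which is formally smooth for the discrete
topologies. Then A → B is a regular homomorphism, that is, flat with (Noetherian) geometrically
regular fibres. -/
theorem result
    (A B : Type u) [CommRing A] [CommRing B] [Algebra A B]
    [IsNoetherianRing A] [IsNoetherianRing B] [Algebra.FormallySmooth A B] :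
    CAlg.IsRegularHom A B := by
  refine ⟨flat_of_formallySmooth A B, fun p _ => ⟨inferInstance, ?_⟩⟩
  exact geomRegular_of_formallySmooth p.ResidueField (p.Fiber B)

end Groth.Agent.S19379
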