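import Groth.Statements.S1938
import Mathlib
import Groth.Agent.Helper19.OmegaGrp
-- import your own Groth.Agent.* helpers here

set_option autoImplicit false
universe u
open CategoryTheory CategoryTheory.Limits AlgebraicGeometry
open Grpd

namespace Groth.Agent.S1938

section helpers

variable {S : Scheme.{u}} (G : Grpd.GroupoidScheme S)

/-- Composition of `T`-points. -/
noncomputable def cmp {T : Scheme.{u}} (α β : T ⟶ G.R) (h : α ≫ G.s = β ≫ G.t) : T ⟶ G.R :=
  pullback.lift α β h ≫ G.c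

theorem cmp_congr {T : Scheme.{u}} {α α' β β' : T ⟶ G.R} (h : α ≫ G.s = β ≫ G.t)
    (ha : α = α') (hb : β = β') :
    cmp G α β h = cmp G α' β' (by rw [← ha, ← hb]; exact h) := by
  subst ha hb; rfl

theorem precomp_cmp {T T' : Scheme.{u}} (k : T' ⟶ T) (α β : T ⟶ G.R) (h : α ≫ G.s = β ≫ G.t) :
    k ≫ cmp G α β h = cmp G (k ≫ α) (k ≫ β) (by rw [Category.assoc, Category.assoc, h]) := by
  unfold cmp
  rw [← Category.assoc]
  congr 1
  apply pullback.hom_ext
  · rw [Category.assoc, pullback.lift_fst, pullback.lift_fst]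
  · rw [Category.assoc, pullback.lift_snd, pullback.lift_snd]

theorem cmp_s {T : Scheme.{u}} (α β : T ⟶ G.R) (h : α ≫ G.s = β ≫ G.t) :
    cmp G α β h ≫ G.s = β ≫ G.s := G.comp_s α β h

theorem cmp_t {T : Scheme.{u}} (α β : T ⟶ G.R) (h : α ≫ G.s = β ≫ G.t) :
    cmp G α β h ≫ G.t = α ≫ G.t := G.comp_t α β h

theorem cmp_assoc {T : Scheme.{u}} (α β γ : T ⟶ G.R) (h₁ : α ≫ G.s = β ≫ G.t)
    (h₂ : β ≫ G.s = γ ≫ G.t) :
    cmp G (cmp G α β h₁) γ ((cmp_s G α β h₁).trans h₂) =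
      cmp G α (cmp G β γ h₂) (h₁.trans (cmp_t G β γ h₂).symm) := G.assoc α β γ h₁ h₂

theorem e_cmp {T : Scheme.{u}} (α : T ⟶ G.R) :
    cmp G (α ≫ G.t ≫ G.e) α (by rw [Category.assoc, Category.assoc, G.e_s, Category.comp_id]) = α :=
  G.e_comp α

theorem i_cmp {T : Scheme.{u}} (α : T ⟶ G.R) :
    cmp G (α ≫ G.i) α (by rw [Category.assoc, G.i_s]) = α ≫ G.s ≫ G.e := G.i_comp α

theorem cmp_i {T : Scheme.{u}} (α : T ⟶ G.R) :
    cmp G α (α ≫ G.i) (by rw [Category.assoc, G.i_t]) = α ≫ G.t ≫ G.e := G.comp_i α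

/-- `α⁻¹ ∘ (α ∘ β) = β`-type cancellation: `α⁻¹ ∘ (α ∘ β)`. -/
theorem inv_cmp_cmp {T : Scheme.{u}} (α β : T ⟶ G.R) (h : α ≫ G.s = β ≫ G.t) :
    cmp G (α ≫ G.i) (cmp G α β h)
      (by rw [Category.assoc, G.i_s, cmp_t]) = β := by
  have h1 : (α ≫ G.i) ≫ G.s = α ≫ G.t := by rw [Category.assoc, G.i_s]
  rw [← cmp_assoc G (α ≫ G.i) α β h1 h]
  rw [cmp_congr G _ (i_cmp G α) rfl]
  rw [cmp_congr G _ (show α ≫ G.s ≫ G.e = β ≫ G.t ≫ G.e by rw [← Category.assoc, h, Category.assoc]) rfl]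
  exact e_cmp G β

/-- `α ∘ (α⁻¹ ∘ β) = β`. -/
theorem cmp_inv_cmp {T : Scheme.{u}} (α β : T ⟶ G.R) (h : α ≫ G.t = β ≫ G.t) :
    cmp G α (cmp G (α ≫ G.i) β (by rw [Category.assoc, G.i_s, h]))
      (by rw [cmp_t, Category.assoc, G.i_t]) = β := by
  have h1 : α ≫ G.s = (α ≫ G.i) ≫ G.t := by rw [Category.assoc, G.i_t]
  have h2 : (α ≫ G.i) ≫ G.s = β ≫ G.t := by rw [Category.assoc, G.i_s, h]
  rw [← cmp_assoc G α (α ≫ G.i) β h1 h2]
  rw [cmp_congr G _ (cmp_i G α) rfl]
  rw [cmp_congr G _ (show α ≫ G.t ≫ G.e = β ≫ G.t ≫ G.e by rw [← Category.assoc, h, Category.assoc]) rfl]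
  exact e_cmp G β

/-- The map `(α, β) ↦ α⁻¹ ∘ β` on `R ×_{t,U,t} R`. -/
noncomputable def del : pullback G.t G.t ⟶ G.R :=
  cmp G (pullback.fst G.t G.t ≫ G.i) (pullback.snd G.t G.t)
    (by rw [Category.assoc, G.i_s, pullback.condition])

theorem del_t : del G ≫ G.t = pullback.fst G.t G.t ≫ G.s := by
  unfold del
  rw [cmp_t, Category.assoc, G.i_t]

theorem diagonal_del : pullback.diagonal G.t ≫ del G = G.s ≫ G.e := by
  unfold del
  rw [precomp_cmp]
  have h1 : pullback.diagonal G.t ≫ pullback.fst G.t G.t ≫ G.i = 𝟙 G.R ≫ G.i := by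
    rw [← Category.assoc, pullback.diagonal_fst]
  have h2 : pullback.diagonal G.t ≫ pullback.snd G.t G.t = 𝟙 G.R := pullback.diagonal_snd G.t
  rw [cmp_congr G _ h1 h2, i_cmp, Category.id_comp]

theorem isPullback_del : IsPullback (del G) (pullback.fst G.t G.t) G.t G.s := by
  have hw : del G ≫ G.t = pullback.fst G.t G.t ≫ G.s := del_t G
  let q1 : pullback G.t G.s ⟶ G.R := pullback.fst G.t G.s
  let q2 : pullback G.t G.s ⟶ G.R := pullback.snd G.t G.s
  have hq : q2 ≫ G.s = q1 ≫ G.t := pullback.condition.symm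
  let Θ : pullback G.t G.t ⟶ pullback G.t G.s := pullback.lift (del G) (pullback.fst G.t G.t) hw
  let Θ' : pullback G.t G.s ⟶ pullback G.t G.t :=
    pullback.lift q2 (cmp G q2 q1 hq) (by rw [cmp_t])
  have hΘ1 : Θ ≫ q1 = del G := pullback.lift_fst _ _ _
  have hΘ2 : Θ ≫ q2 = pullback.fst G.t G.t := pullback.lift_snd _ _ _
  have hΘ'1 : Θ' ≫ pullback.fst G.t G.t = q2 := pullback.lift_fst _ _ _
  have hΘ'2 : Θ' ≫ pullback.snd G.t G.t = cmp G q2 q1 hq := pullback.lift_snd _ _ _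
  have h12 : Θ ≫ Θ' = 𝟙 _ := by
    apply pullback.hom_ext
    · rw [Category.assoc, hΘ'1, hΘ2, Category.id_comp]
    · rw [Category.assoc, hΘ'2, precomp_cmp, Category.id_comp]
      rw [cmp_congr G _ hΘ2 hΘ1]
      unfold del
      exact cmp_inv_cmp G (pullback.fst G.t G.t) (pullback.snd G.t G.t) pullback.condition
  have h21 : Θ' ≫ Θ = 𝟙 _ := by
    apply pullback.hom_ext
    · rw [Category.assoc, hΘ1, Category.id_comp]
      unfold del
      rw [precomp_cmp]
      have ha : Θ' ≫ pullback.fst G.t G.t ≫ G.i = q2 ≫ G.i := by rw [← Category.assoc, hΘ'1]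
      rw [cmp_congr G _ ha hΘ'2]
      exact inv_cmp_cmp G q2 q1 hq
    · rw [Category.assoc, hΘ2, hΘ'1, Category.id_comp]
  exact IsPullback.of_iso_pullback ⟨hw⟩ ⟨Θ, Θ', h12, h21⟩ hΘ1 hΘ2

end helpers

/-- Let (U, R, s, t, c) be a groupoid scheme over S, e : U → R its identity and C_{U/R} the conormal
sheaf of the immersion e. View R as a scheme over U via t. Then there is an epimorphism of
O_R-modules s^*C_{U/R} → Ω_{R/U}, and if s is flat there is an isomorphism s^*C_{U/R} ≅ Ω_{R/U}.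
(The published statement has t^*C_{U/R} here; with R over U via t that version is false — for the
pair groupoid of the disjoint union of a point and the affine line over ℚ the two sheaves have
different supports — and the statement given here has s^*C_{U/R} instead.) Stated for t
quasi-separated, where the shared prelude's Ω_{R/U} (conormal sheaf of the diagonal of t through
Mathlib's kernel ideal sheaf) and conormal sheaf of the section e are the usual ones. (A groupoid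
scheme carries U, R, s, t, c, e, i over S with the groupoid axioms on T-points.) -/
theorem result (S : Scheme.{u}) (G : Grpd.GroupoidScheme S) [QuasiSeparated G.t] : (∃ φ : (Scheme.Modules.pullback G.s).obj (Omega.conormal G.e) ⟶ Omega.sheaf G.t, Epi φ) ∧ (Flat G.s → Nonempty ((Scheme.Modules.pullback G.s).obj (Omega.conormal G.e) ≅ Omega.sheaf G.t)) := by
  obtain ⟨e1⟩ := Groth.Agent.Helper19.OmegaGrp.nonempty_omega_iso_pullback_conormal G.t G.s G.e G.e_t
    (del G) (isPullback_del G) (diagonal_del G)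
  exact ⟨⟨e1.inv, inferInstance⟩, fun _ => ⟨e1.symm⟩⟩

end Groth.Agent.S1938
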