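import Groth.Statements.S19383
import Mathlib.RingTheory.AdicCompletion.AsTensorProduct
import Mathlib.RingTheory.Flat.TorsionFree
import Mathlib.RingTheory.Filtration
-- import your own Groth.Agent.* helpers here

set_option autoImplicit false
universe u
open CAlg

namespace Groth.Agent.S19383

/-- Over a discrete valuation ring, let V be a henselian discrete valuation ring with maximal ideal 𝔪
and B a Noetherian V-algebra, B̂ its 𝔪B-adic completion. Then B is flat over V if and only if B̂ is
flat over V. (The published lemma takes V an excellent normal ring with an ideal I such that (V,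
V/I) is a henselian pair and B of finite type; in that generality it fails: for V = ℤ_p[[x]], I =
(p) and B = V[y]/(x, py − 1) ≅ ℚ_p one has IB = B, so B̂ = 0 is flat while B is not flat over V.
Over a discrete valuation ring flatness is torsion-freeness and the statement holds for every
Noetherian B.) -/
theorem result
    (V : Type u) [CommRing V] [IsDomain V] [IsDiscreteValuationRing V] [HenselianLocalRing V]
    (B : Type u) [CommRing B] [Algebra V B] [IsNoetherianRing B] :
    Module.Flat V B ↔
      Module.Flat V (AdicCompletion ((IsLocalRing.maximalIdeal V).map (algebraMap V B)) B) := by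
  classical
  set I : Ideal B := (IsLocalRing.maximalIdeal V).map (algebraMap V B) with hI
  constructor
  · intro hflat
    exact Module.Flat.trans V B (AdicCompletion I B)
  · intro hflat
    rw [Module.Flat.flat_iff_torsion_eq_bot_of_isBezout, eq_bot_iff]
    rintro x ⟨⟨v, hv⟩, hvx⟩
    have hv0 : v ≠ 0 := nonZeroDivisors.ne_zero hv
    change v • x = 0 at hvx
    rw [Submodule.mem_bot]
    -- image of x in the completion is torsion hence zero
    have h1 : AdicCompletion.of I B x = 0 := by
      have htors : AdicCompletion.of I B x ∈ Submodule.torsion V (AdicCompletion I B) := by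
        refine ⟨⟨v, hv⟩, ?_⟩
        change v • AdicCompletion.of I B x = 0
        have : v • AdicCompletion.of I B x = AdicCompletion.of I B (v • x) := by
          rw [← algebraMap_smul B v x, map_smul, algebraMap_smul]
        rw [this, hvx, map_zero]
      rw [Module.Flat.torsion_eq_bot] at htors
      exact htors
    have h2 : x ∈ (⨅ i : ℕ, I ^ i • ⊤ : Submodule B B) := by
      rw [Submodule.mem_iInf]
      intro n
      have := congrArg (AdicCompletion.eval I B n) h1
      rw [AdicCompletion.eval_of, map_zero, Submodule.mkQ_apply, Submodule.Quotient.mk_eq_zero] at this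
      exact this
    obtain ⟨⟨r, hr⟩, hrx⟩ := (I.mem_iInf_smul_pow_eq_bot_iff x).mp h2
    change r • x = x at hrx
    obtain ⟨ϖ, hϖ⟩ := IsDiscreteValuationRing.exists_irreducible V
    obtain ⟨n, hn⟩ := IsDiscreteValuationRing.associated_pow_irreducible hv0 hϖ
    have hIspan : I = Ideal.span {algebraMap V B ϖ} := by
      rw [hI, hϖ.maximalIdeal_eq, Ideal.map_span, Set.image_singleton]
    rw [hIspan, Ideal.mem_span_singleton'] at hr
    obtain ⟨b, rfl⟩ := hr
    have hpow : ∀ m : ℕ, (b * algebraMap V B ϖ) ^ m • x = x := by
      intro m
      induction m with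
      | zero => simp
      | succ m ih => rw [pow_succ, mul_smul, hrx, ih]
    have hϖx : algebraMap V B (ϖ ^ n) * x = 0 := by
      obtain ⟨u, hu⟩ := hn
      -- v * u = ϖ ^ n
      rw [← hu, map_mul, mul_comm (algebraMap V B v), mul_assoc, ← Algebra.smul_def v x, hvx, mul_zero]
    rw [← hpow n, mul_pow, smul_eq_mul, mul_assoc, ← map_pow, hϖx, mul_zero]

end Groth.Agent.S19383
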