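import Groth.Statements.S1939
import Groth.Agent.Lib.Helper21.DimFun3
-- import your own Groth.Agent.* helpers here

set_option autoImplicit false
universe u
open CategoryTheory AlgebraicGeometry
open CategoryTheory.Limits
open Cyc

namespace Groth.Agent.S1939

/-- Let (S, δS) and (S', δS') be two pairs satisfying Cyc.IsSetup, g : S' → S flat with δS'(s') = δS(g
s') + c for every s' generic in an irreducible component of its fibre g⁻¹(g s'), a : X → S locally
of finite type with X integral of δ-dimension k (δX induced from δS), and X' = X ×_S S' with δX'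
induced from δS'. Then every generic point x' of an irreducible component of X' has δX'(x') = k + c.
A pair (X, δ) with Cyc.IsSetup plays the role of a scheme locally of finite type over a fixed base
with a dimension function (X locally Noetherian with universally catenary local rings, δ a dimension
function), and Cyc.DeltaCompat records that the dimension function upstairs is the induced one. -/
theorem result (S S' X : Scheme.{u}) (δS : S → ℤ) (δS' : S' → ℤ) (hS : Cyc.IsSetup S δS) (hS' : Cyc.IsSetup S' δS') (g : S' ⟶ S) [Flat g] (c : ℤ) (hc : ∀ s' : S', (∀ y, g y = g s' → y ⤳ s' → y = s') → δS' s' = δS (g s') + c) (a : X ⟶ S) [LocallyOfFiniteType a] [IsIntegral X] (δX : X → ℤ) (hX : Cyc.DeltaCompat a δX δS) (δX' : ↥(pullback a g) → ℤ) (hX' : Cyc.DeltaCompat (pullback.snd a g) δX' δS') (k : ℤ) (hk : δX (genericPoint X) = k) (x' : ↥(pullback a g)) (hx' : ∀ y : ↥(pullback a g), y ⤳ x' → y = x') : δX' x' = k + c := by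
  have hsq : IsPullback (pullback.fst a g) (pullback.snd a g) a g := IsPullback.of_hasPullback a g
  -- the image of `x'` in `X` is the generic point
  have hgen : genericPoint X = pullback.fst a g x' :=
    Groth.Agent.Lib.Helper21.FibDim.eq_of_specializes_map_of_flat (pullback.fst a g) x' hx'
      (genericPoint X) (genericPoint_specializes _)
  have hmaxX : ∀ z : X, z ⤳ pullback.fst a g x' → z = pullback.fst a g x' := by
    intro z hz
    rw [← hgen] at hz ⊢
    exact (hz.antisymm (genericPoint_specializes z)).eq
  -- the image of `x'` in `S'` is maximal in its fibre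
  have hmaxS' : ∀ y, g y = g (pullback.snd a g x') → y ⤳ pullback.snd a g x' →
      y = pullback.snd a g x' := by
    intro y hg hy
    obtain ⟨y', hy'1, hy'2⟩ :=
      Groth.Agent.Lib.Helper21.DimFun.exists_specializes_lift_in_fibre hsq x' y hy hg
    rw [← hy'2, hx' y' hy'1]
  have h3 := hc _ hmaxS'
  obtain ⟨n', hn'1, hn'2⟩ := hX' x'
  obtain ⟨n, hn1, hn2⟩ := hX (pullback.fst a g x')
  obtain ⟨m', hm'1, hm'2⟩ :=
    Groth.Agent.Lib.Helper21.FibDim.fibreDimAt_eq_trdeg_of_maximal' (pullback.snd a g) x' hx'
  obtain ⟨m, hm1, hm2⟩ :=
    Groth.Agent.Lib.Helper21.FibDim.fibreDimAt_eq_trdeg_of_maximal' a (pullback.fst a g x') hmaxX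
  have e1 : n' = m' := by
    have := hn'1.symm.trans hm'2
    exact_mod_cast this
  have e2 : n = m := by
    have := hn1.symm.trans hm2
    exact_mod_cast this
  have e3 : m' = m := by
    have := Groth.Agent.Lib.Helper21.BaseChg.fibreDimAt_eq_of_isPullback hsq x'
    rw [hm'1, hm1] at this
    exact_mod_cast this
  have hcond : a (pullback.fst a g x') = g (pullback.snd a g x') := by
    have h4 := congrArg (fun φ : pullback a g ⟶ S => φ x') (pullback.condition (f := a) (g := g))
    simp only [Scheme.Hom.comp_apply] at h4
    exact h4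
  rw [hn'2, h3, ← hcond, ← hk, hgen, hn2, e1, e2, e3]
  ring

end Groth.Agent.S1939
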