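import Groth.Statements.S19390
import Mathlib.Data.Finset.Max
import Mathlib.Data.Finset.Card
import Mathlib.Tactic.Abel
import Mathlib.Tactic.Linarith
import Mathlib.Data.List.OfFn
import Mathlib.Data.Fintype.Basic
-- import your own Groth.Agent.* helpers here

set_option autoImplicit false
universe u
open GIT

namespace Groth.Agent.S19390

theorem exists_edges {ι α : Type*} [DecidableEq ι] [DecidableEq α] (x : ι → α) (e : ℕ) (he : 1 ≤ e) :
    ∀ T : Finset ι, T.card = 2 * e + 1 → (∀ a, (T.filter fun t => x t = a).card ≤ e) →
    ∃ (a b c : ι) (rest : List (ι × ι)), rest.length + 3 = 2 * e + 1 ∧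
      x a ≠ x b ∧ x b ≠ x c ∧ x c ≠ x a ∧ (∀ p ∈ rest, x p.1 ≠ x p.2) ∧
      (({a} + {b} + {c} + (↑(rest.map Prod.fst) : Multiset ι)) +
        ({b} + {c} + {a} + (↑(rest.map Prod.snd) : Multiset ι)) = T.val + T.val) := by
  induction e, he using Nat.le_induction with
  | base =>
    intro T hT hmult
    obtain ⟨a, b, c, hab, hac, hbc, rfl⟩ := Finset.card_eq_three.mp hT
    have hne : ∀ s t : ι, s ∈ ({a, b, c} : Finset ι) → t ∈ ({a, b, c} : Finset ι) → s ≠ t → x s ≠ x t := by
      intro s t hs ht hst hx
      have h2 : ({s, t} : Finset ι) ⊆ ({a, b, c} : Finset ι).filter fun u => x u = x s := by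
        intro u hu
        rw [Finset.mem_insert, Finset.mem_singleton] at hu
        rw [Finset.mem_filter]
        rcases hu with rfl | rfl
        · exact ⟨hs, rfl⟩
        · exact ⟨ht, hx.symm⟩
      have := (Finset.card_le_card h2).trans (hmult (x s))
      rw [Finset.card_pair hst] at this
      omega
    refine ⟨a, b, c, [], by simp, hne a b (by simp) (by simp) hab, hne b c (by simp) (by simp) hbc,
      hne c a (by simp) (by simp) hac.symm, by simp, ?_⟩
    have hval : ({a, b, c} : Finset ι).val = {a} + {b} + {c} := by
      rw [Finset.insert_val_of_notMem (by simp [hab, hac]), Finset.insert_val_of_notMem (by simp [hbc])]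
      simp [← Multiset.singleton_add, add_assoc]
    rw [hval]
    simp only [List.map_nil, Multiset.coe_nil, add_zero]
    abel
  | succ e he ih =>
    intro T hT hmult
    have hTne : T.Nonempty := by
      rw [← Finset.card_pos]; omega
    set mult : α → ℕ := fun a => (T.filter fun t => x t = a).card with hmultdef
    obtain ⟨u, huT, humax⟩ := Finset.exists_max_image T (fun t => mult (x t)) hTne
    have hT2ne : (T.filter fun t => ¬ x t = x u).Nonempty := by
      rw [← Finset.card_pos]
      have h1 := Finset.card_filter_add_card_filter_not (s := T) (fun t => x t = x u)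
      have h2 := hmult (x u)
      omega
    obtain ⟨v, hvT2, hvmax⟩ := Finset.exists_max_image (T.filter fun t => ¬ x t = x u) (fun t => mult (x t)) hT2ne
    rw [Finset.mem_filter] at hvT2
    obtain ⟨hvT, hvu⟩ := hvT2
    have huv : u ≠ v := fun h => hvu (by rw [h])
    set T'' := (T.erase u).erase v with hT''
    have hvTu : v ∈ T.erase u := Finset.mem_erase.mpr ⟨huv.symm, hvT⟩
    have hcard'' : T''.card = 2 * e + 1 := by
      rw [hT'', Finset.card_erase_of_mem hvTu, Finset.card_erase_of_mem huT, hT]
      omega
    have hsub : T'' ⊆ T := (Finset.erase_subset _ _).trans (Finset.erase_subset _ _)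
    have hmult'' : ∀ a, (T''.filter fun t => x t = a).card ≤ e := by
      intro a
      by_cases hau : a = x u
      · subst hau
        have hss : (T''.filter fun t => x t = x u) ⊆ (T.filter fun t => x t = x u).erase u := by
          intro t ht
          rw [Finset.mem_filter] at ht
          rw [Finset.mem_erase, Finset.mem_filter]
          have htT'' := ht.1
          rw [hT'', Finset.mem_erase, Finset.mem_erase] at htT''
          exact ⟨htT''.2.1, htT''.2.2, ht.2⟩
        have h1 := Finset.card_le_card hss
        rw [Finset.card_erase_of_mem (Finset.mem_filter.mpr ⟨huT, rfl⟩ : u ∈ T.filter fun t => x t = x u)] at h1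
        have h2 := hmult (x u)
        omega
      by_cases hav : a = x v
      · subst hav
        have hss : (T''.filter fun t => x t = x v) ⊆ (T.filter fun t => x t = x v).erase v := by
          intro t ht
          rw [Finset.mem_filter] at ht
          rw [Finset.mem_erase, Finset.mem_filter]
          have htT'' := ht.1
          rw [hT'', Finset.mem_erase, Finset.mem_erase] at htT''
          exact ⟨htT''.1, htT''.2.2, ht.2⟩
        have h1 := Finset.card_le_card hss
        rw [Finset.card_erase_of_mem (Finset.mem_filter.mpr ⟨hvT, rfl⟩ : v ∈ T.filter fun t => x t = x v)] at h1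
        have h2 := hmult (x v)
        omega
      · -- third value
        by_contra hgt
        push Not at hgt
        have h1 : (T''.filter fun t => x t = a).card ≤ mult a :=
          Finset.card_le_card (Finset.filter_subset_filter _ hsub)
        have hma : e + 1 ≤ mult a := by omega
        have hane : (T.filter fun t => x t = a).Nonempty := by
          rw [← Finset.card_pos]; change 0 < mult a; omega
        obtain ⟨t₀, ht₀⟩ := hane
        rw [Finset.mem_filter] at ht₀
        have ht₀2 : t₀ ∈ T.filter fun t => ¬ x t = x u := by
          rw [Finset.mem_filter]; exact ⟨ht₀.1, by rw [ht₀.2]; exact hau⟩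
        have hmv : mult a ≤ mult (x v) := by
          have := hvmax t₀ ht₀2
          simpa [ht₀.2] using this
        have hmu : mult (x v) ≤ mult (x u) := humax v hvT
        -- three disjoint filters
        have hd1 : Disjoint (T.filter fun t => x t = x u) (T.filter fun t => x t = x v) := by
          rw [Finset.disjoint_filter]; intro t _ h1 h2; exact hvu (h2.symm.trans h1)
        have hd2 : Disjoint ((T.filter fun t => x t = x u) ∪ (T.filter fun t => x t = x v))
            (T.filter fun t => x t = a) := by
          rw [Finset.disjoint_union_left]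
          constructor
          · rw [Finset.disjoint_filter]; intro t _ h1 h2; exact hau (h2.symm.trans h1)
          · rw [Finset.disjoint_filter]; intro t _ h1 h2; exact hav (h2.symm.trans h1)
        have hunion : ((T.filter fun t => x t = x u) ∪ (T.filter fun t => x t = x v)) ∪
            (T.filter fun t => x t = a) ⊆ T := by
          intro t ht
          simp only [Finset.mem_union, Finset.mem_filter] at ht
          rcases ht with (h | h) | h <;> exact h.1
        have hc := Finset.card_le_card hunion
        rw [Finset.card_union_of_disjoint hd2, Finset.card_union_of_disjoint hd1, hT] at hc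
        change mult (x u) + mult (x v) + mult a ≤ _ at hc
        omega
    obtain ⟨a, b, c, rest, hlen, hab, hbc, hca, hrest, hms⟩ := ih T'' hcard'' hmult''
    refine ⟨a, b, c, (u, v) :: (u, v) :: rest, by simp; omega, hab, hbc, hca, ?_, ?_⟩
    · intro p hp
      rw [List.mem_cons, List.mem_cons] at hp
      rcases hp with rfl | rfl | hp
      · exact fun h => hvu h.symm
      · exact fun h => hvu h.symm
      · exact hrest p hp
    · have hTval : T.val = {u} + {v} + T''.val := by
        have h1 : T = insert u (insert v T'') := by
          rw [hT'', Finset.insert_erase hvTu, Finset.insert_erase huT]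
        have hv'' : v ∉ T'' := by rw [hT'']; exact Finset.notMem_erase v _
        have hu'' : u ∉ insert v T'' := by
          rw [Finset.mem_insert, not_or]
          refine ⟨huv, ?_⟩
          rw [hT'']
          intro h
          exact Finset.notMem_erase u T (Finset.mem_of_mem_erase h)
        conv_lhs => rw [h1]
        rw [Finset.insert_val_of_notMem hu'', Finset.insert_val_of_notMem hv'']
        simp [← Multiset.singleton_add, add_assoc]
      rw [hTval]
      simp only [List.map_cons, ← Multiset.cons_coe, ← Multiset.singleton_add]
      have := hms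
      calc _ = ({u} + {u} + {v} + {v} : Multiset ι) + (({a} + {b} + {c} + (↑(rest.map Prod.fst) : Multiset ι)) +
            ({b} + {c} + {a} + (↑(rest.map Prod.snd) : Multiset ι))) := by abel
        _ = ({u} + {u} + {v} + {v} : Multiset ι) + (T''.val + T''.val) := by rw [hms]
        _ = _ := by abel

theorem card_filter_eq_count {n : ℕ} {β : Type*} [DecidableEq β] (L : List β) (h : L.length = n) (m : β) :
    (Finset.univ.filter fun k : Fin n => L[(k : ℕ)]'(by rw [h]; exact k.2) = m).card = L.count m := by
  subst h
  have h1 : (Finset.univ : Finset (Fin L.length)).val.map (fun k : Fin L.length => L[(k : ℕ)]) = (L : Multiset β) := by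
    rw [Fin.univ_val_map]
    have := List.ofFn_getElem_eq_map L id
    simp only [id_eq, List.map_id] at this
    rw [this]
  have h2 := Multiset.count_map (fun k : Fin L.length => L[(k : ℕ)]) (Finset.univ : Finset (Fin L.length)).val m
  rw [h1, Multiset.coe_count] at h2
  rw [h2, Finset.card_def, Finset.filter_val]
  congr 1
  apply Multiset.filter_congr
  intro k _
  exact eq_comm

/-- Let e ≥ 1, n = 2e + 1, and let x_1, …, x_n be points such that no point occurs more than e times
among them (the stability condition for n ordered points on a line, n odd). Then there are index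
sequences i_1, …, i_n and j_1, …, j_n in which every index between 1 and n occurs exactly twice in
total, such that x_{i_k} ≠ x_{j_k} for every k and (i_1, i_2, i_3) = (j_3, j_1, j_2). Indices are
written 0, …, n − 1 here. -/
theorem result {α : Type u} [DecidableEq α] (e : ℕ) (he : 1 ≤ e)
    (x : Fin (2 * e + 1) → α)
    (hx : ∀ a : α, (Finset.univ.filter fun k => x k = a).card ≤ e) :
    ∃ i j : Fin (2 * e + 1) → Fin (2 * e + 1),
      (∀ m : Fin (2 * e + 1),
        (Finset.univ.filter fun k => i k = m).card + (Finset.univ.filter fun k => j k = m).card = 2) ∧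
      (∀ k, x (i k) ≠ x (j k)) ∧
      i 0 = j 2 ∧ i 1 = j 0 ∧ i 2 = j 1 := by
  classical
  obtain ⟨a, b, c, rest, hlen, hab, hbc, hca, hrest, hms⟩ :=
    exists_edges x e he Finset.univ (by simp) (by intro a; exact hx a)
  obtain ⟨L, hL⟩ : ∃ L : List (Fin (2 * e + 1) × Fin (2 * e + 1)), L = (a, b) :: (b, c) :: (c, a) :: rest :=
    ⟨_, rfl⟩
  have hLlen : L.length = 2 * e + 1 := by rw [hL]; simp only [List.length_cons]; omega
  have hLpair : ∀ p ∈ L, x p.1 ≠ x p.2 := by
    intro p hp
    rw [hL, List.mem_cons, List.mem_cons, List.mem_cons] at hp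
    rcases hp with rfl | rfl | rfl | hp
    · exact hab
    · exact hbc
    · exact hca
    · exact hrest p hp
  have hLms : ((↑(L.map Prod.fst) : Multiset (Fin (2 * e + 1))) +
      (↑(L.map Prod.snd) : Multiset (Fin (2 * e + 1)))) =
      (Finset.univ : Finset (Fin (2 * e + 1))).val + Finset.univ.val := by
    rw [← hms, hL]
    simp only [List.map_cons, ← Multiset.cons_coe, ← Multiset.singleton_add]
    abel
  have hidx : ∀ k : Fin (2 * e + 1), (k : ℕ) < L.length := fun k => by rw [hLlen]; exact k.2
  refine ⟨fun k => (L[(k : ℕ)]'(hidx k)).1, fun k => (L[(k : ℕ)]'(hidx k)).2, ?_, ?_, ?_, ?_, ?_⟩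
  · intro m
    have h1 := card_filter_eq_count (L.map Prod.fst) (by rw [List.length_map, hLlen]) m
    have h2 := card_filter_eq_count (L.map Prod.snd) (by rw [List.length_map, hLlen]) m
    simp only [List.getElem_map] at h1 h2
    rw [h1, h2]
    have h3 := congrArg (Multiset.count m) hLms
    rw [Multiset.count_add, Multiset.count_add, Multiset.coe_count, Multiset.coe_count] at h3
    rw [h3]
    have : Multiset.count m (Finset.univ : Finset (Fin (2 * e + 1))).val = 1 :=
      Multiset.count_eq_one_of_mem Finset.univ.nodup (Finset.mem_univ m)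
    rw [this]
  · intro k
    exact hLpair _ (List.getElem_mem _)
  · have h0 : ((0 : Fin (2 * e + 1)) : ℕ) = 0 := rfl
    have h2 : ((2 : Fin (2 * e + 1)) : ℕ) = 2 := by
      rw [Fin.coe_ofNat_eq_mod]; exact Nat.mod_eq_of_lt (by omega)
    simp only [h0, h2, hL]
    rfl
  · have h0 : ((0 : Fin (2 * e + 1)) : ℕ) = 0 := rfl
    have h1 : ((1 : Fin (2 * e + 1)) : ℕ) = 1 := by
      rw [Fin.coe_ofNat_eq_mod]; exact Nat.mod_eq_of_lt (by omega)
    simp only [h0, h1, hL]
    rfl
  · have h1 : ((1 : Fin (2 * e + 1)) : ℕ) = 1 := by
      rw [Fin.coe_ofNat_eq_mod]; exact Nat.mod_eq_of_lt (by omega)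
    have h2 : ((2 : Fin (2 * e + 1)) : ℕ) = 2 := by
      rw [Fin.coe_ofNat_eq_mod]; exact Nat.mod_eq_of_lt (by omega)
    simp only [h1, h2, hL]
    rfl

end Groth.Agent.S19390
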