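import Groth.Statements.S19391
import Mathlib

set_option autoImplicit false
universe u
open InvQ

namespace Groth.Agent.S19391


open Polynomial in
theorem rootPoly_eq {R : Type u} [CommRing R] (la mu : Fin 4 → R) :
    W4c6intromoduli.rootPoly la mu =
      C (mu 0 * mu 1 * mu 2 * mu 3)
      + C (-(la 0 * mu 1 * mu 2 * mu 3 + mu 0 * la 1 * mu 2 * mu 3 + mu 0 * mu 1 * la 2 * mu 3
            + mu 0 * mu 1 * mu 2 * la 3)) * X
      + C (la 0 * la 1 * mu 2 * mu 3 + la 0 * mu 1 * la 2 * mu 3 + la 0 * mu 1 * mu 2 * la 3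
            + mu 0 * la 1 * la 2 * mu 3 + mu 0 * la 1 * mu 2 * la 3 + mu 0 * mu 1 * la 2 * la 3) * X ^ 2
      + C (-(la 0 * la 1 * la 2 * mu 3 + la 0 * la 1 * mu 2 * la 3 + la 0 * mu 1 * la 2 * la 3
            + mu 0 * la 1 * la 2 * la 3)) * X ^ 3
      + C (la 0 * la 1 * la 2 * la 3) * X ^ 4 := by
  unfold W4c6intromoduli.rootPoly
  rw [Fin.prod_univ_four]
  simp only [map_add, map_mul, map_neg]
  ring

open Polynomial in
theorem coeff_quartic {R : Type u} [CommRing R] (c0 c1 c2 c3 c4 : R) :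
    (C c0 + C c1 * X + C c2 * X ^ 2 + C c3 * X ^ 3 + C c4 * X ^ 4 : R[X]).coeff 0 = c0 ∧
    (C c0 + C c1 * X + C c2 * X ^ 2 + C c3 * X ^ 3 + C c4 * X ^ 4 : R[X]).coeff 1 = c1 ∧
    (C c0 + C c1 * X + C c2 * X ^ 2 + C c3 * X ^ 3 + C c4 * X ^ 4 : R[X]).coeff 2 = c2 ∧
    (C c0 + C c1 * X + C c2 * X ^ 2 + C c3 * X ^ 3 + C c4 * X ^ 4 : R[X]).coeff 3 = c3 ∧
    (C c0 + C c1 * X + C c2 * X ^ 2 + C c3 * X ^ 3 + C c4 * X ^ 4 : R[X]).coeff 4 = c4 := by
  refine ⟨?_, ?_, ?_, ?_, ?_⟩ <;>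
    simp [Polynomial.coeff_X, Polynomial.coeff_X_pow, Polynomial.coeff_C]

/-- For a binary quartic written as a product of four linear forms μ_i X₀ − λ_i X₁, with coefficients
a_0, …, a_4, the discriminant D = ∏_{i<j} (λ_j μ_i − λ_i μ_j)² is a constant multiple of P³ − 6Q²
for the two basic invariants P, Q. With the integral normalisation I = 6P = 12a₀a₄ − 3a₁a₃ + a₂², J
= 72Q = 72a₀a₂a₄ + 9a₁a₂a₃ − 27a₀a₃² − 27a₁²a₄ − 2a₂³ used here, the identity reads 27 D = 4 I³ − J²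
(so the constant is 32: D = 32 (P³ − 6Q²)); it is stated over an arbitrary commutative ring. -/
theorem result (R : Type u) [CommRing R] (la mu : Fin 4 → R) :
    27 * W4c6intromoduli.disc la mu =
      4 * W4c6intromoduli.invI (W4c6intromoduli.coef la mu) ^ 3
        - W4c6intromoduli.invJ (W4c6intromoduli.coef la mu) ^ 2 := by
  have h0 : W4c6intromoduli.coef la mu 0 = mu 0 * mu 1 * mu 2 * mu 3 := by
    unfold W4c6intromoduli.coef; rw [rootPoly_eq]; exact (coeff_quartic _ _ _ _ _).1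
  have h1 : W4c6intromoduli.coef la mu 1 = -(la 0 * mu 1 * mu 2 * mu 3 + mu 0 * la 1 * mu 2 * mu 3 + mu 0 * mu 1 * la 2 * mu 3
            + mu 0 * mu 1 * mu 2 * la 3) := by
    unfold W4c6intromoduli.coef; rw [rootPoly_eq]; exact (coeff_quartic _ _ _ _ _).2.1
  have h2 : W4c6intromoduli.coef la mu 2 = la 0 * la 1 * mu 2 * mu 3 + la 0 * mu 1 * la 2 * mu 3 + la 0 * mu 1 * mu 2 * la 3
            + mu 0 * la 1 * la 2 * mu 3 + mu 0 * la 1 * mu 2 * la 3 + mu 0 * mu 1 * la 2 * la 3 := by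
    unfold W4c6intromoduli.coef; rw [rootPoly_eq]; exact (coeff_quartic _ _ _ _ _).2.2.1
  have h3 : W4c6intromoduli.coef la mu 3 = -(la 0 * la 1 * la 2 * mu 3 + la 0 * la 1 * mu 2 * la 3 + la 0 * mu 1 * la 2 * la 3
            + mu 0 * la 1 * la 2 * la 3) := by
    unfold W4c6intromoduli.coef; rw [rootPoly_eq]; exact (coeff_quartic _ _ _ _ _).2.2.2.1
  have h4 : W4c6intromoduli.coef la mu 4 = la 0 * la 1 * la 2 * la 3 := by
    unfold W4c6intromoduli.coef; rw [rootPoly_eq]; exact (coeff_quartic _ _ _ _ _).2.2.2.2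
  have hD : W4c6intromoduli.disc la mu =
      (la 1 * mu 0 - la 0 * mu 1) ^ 2 * (la 2 * mu 0 - la 0 * mu 2) ^ 2 * (la 3 * mu 0 - la 0 * mu 3) ^ 2
      * (la 2 * mu 1 - la 1 * mu 2) ^ 2 * (la 3 * mu 1 - la 1 * mu 3) ^ 2 * (la 3 * mu 2 - la 2 * mu 3) ^ 2 := by
    unfold W4c6intromoduli.disc
    have : (Finset.univ.filter fun p : Fin 4 × Fin 4 => p.1 < p.2) =
        {(0,1),(0,2),(0,3),(1,2),(1,3),(2,3)} := by decide
    rw [this]
    simp [Finset.prod_insert]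
    ring
  unfold W4c6intromoduli.invI W4c6intromoduli.invJ
  rw [h0, h1, h2, h3, h4, hD]
  ring

end Groth.Agent.S19391
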