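import Groth.Statements.S19392
import Mathlib

set_option autoImplicit false
universe u
open InvQ

namespace Groth.Agent.S19392


open Polynomial in
theorem rootPoly_eq {R : Type u} [CommRing R] (la mu : Fin 4 → R) :
    W4c6intromoduli.rootPoly la mu =
      C (mu 0 * mu 1 * mu 2 * mu 3)
      + C (-(la 0 * mu 1 * mu 2 * mu 3 + mu 0 * la 1 * mu 2 * mu 3 + mu 0 * mu 1 * la 2 * mu 3
            + mu 0 * mu 1 * mu 2 * la 3)) * X
      + C (la 0 * la 1 * mu 2 * mu 3 + la 0 * mu 1 * la 2 * mu 3 + la 0 * mu 1 * mu 2 * la 3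
            + mu 0 * la 1 * la 2 * mu 3 + mu 0 * la 1 * mu 2 * la 3 + mu 0 * mu 1 * la 2 * la 3) * X ^ 2
      + C (-(la 0 * la 1 * la 2 * mu 3 + la 0 * la 1 * mu 2 * la 3 + la 0 * mu 1 * la 2 * la 3
            + mu 0 * la 1 * la 2 * la 3)) * X ^ 3
      + C (la 0 * la 1 * la 2 * la 3) * X ^ 4 := by
  unfold W4c6intromoduli.rootPoly
  rw [Fin.prod_univ_four]
  simp only [map_add, map_mul, map_neg]
  ring

open Polynomial in
theorem coeff_quartic {R : Type u} [CommRing R] (c0 c1 c2 c3 c4 : R) :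
    (C c0 + C c1 * X + C c2 * X ^ 2 + C c3 * X ^ 3 + C c4 * X ^ 4 : R[X]).coeff 0 = c0 ∧
    (C c0 + C c1 * X + C c2 * X ^ 2 + C c3 * X ^ 3 + C c4 * X ^ 4 : R[X]).coeff 1 = c1 ∧
    (C c0 + C c1 * X + C c2 * X ^ 2 + C c3 * X ^ 3 + C c4 * X ^ 4 : R[X]).coeff 2 = c2 ∧
    (C c0 + C c1 * X + C c2 * X ^ 2 + C c3 * X ^ 3 + C c4 * X ^ 4 : R[X]).coeff 3 = c3 ∧
    (C c0 + C c1 * X + C c2 * X ^ 2 + C c3 * X ^ 3 + C c4 * X ^ 4 : R[X]).coeff 4 = c4 := by
  refine ⟨?_, ?_, ?_, ?_, ?_⟩ <;>
    simp [Polynomial.coeff_X, Polynomial.coeff_X_pow, Polynomial.coeff_C]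

theorem coef_eq {R : Type u} [CommRing R] (la mu : Fin 4 → R) :
    W4c6intromoduli.coef la mu 0 = mu 0 * mu 1 * mu 2 * mu 3 ∧
    W4c6intromoduli.coef la mu 1 = -(la 0 * mu 1 * mu 2 * mu 3 + mu 0 * la 1 * mu 2 * mu 3 + mu 0 * mu 1 * la 2 * mu 3
            + mu 0 * mu 1 * mu 2 * la 3) ∧
    W4c6intromoduli.coef la mu 2 = la 0 * la 1 * mu 2 * mu 3 + la 0 * mu 1 * la 2 * mu 3 + la 0 * mu 1 * mu 2 * la 3
            + mu 0 * la 1 * la 2 * mu 3 + mu 0 * la 1 * mu 2 * la 3 + mu 0 * mu 1 * la 2 * la 3 ∧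
    W4c6intromoduli.coef la mu 3 = -(la 0 * la 1 * la 2 * mu 3 + la 0 * la 1 * mu 2 * la 3 + la 0 * mu 1 * la 2 * la 3
            + mu 0 * la 1 * la 2 * la 3) ∧
    W4c6intromoduli.coef la mu 4 = la 0 * la 1 * la 2 * la 3 := by
  unfold W4c6intromoduli.coef
  rw [rootPoly_eq]
  exact coeff_quartic _ _ _ _ _

/-- the cross products -/
def dd {R : Type u} [CommRing R] (la mu : Fin 4 → R) (a b : Fin 4) : R := la b * mu a - la a * mu b

theorem invI_eq {R : Type u} [CommRing R] (la mu : Fin 4 → R) :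
    2 * W4c6intromoduli.invI (W4c6intromoduli.coef la mu) =
      (dd la mu 0 1 * dd la mu 2 3) ^ 2 + (- dd la mu 0 2 * dd la mu 1 3) ^ 2 +
        (dd la mu 0 3 * dd la mu 1 2) ^ 2 := by
  obtain ⟨h0, h1, h2, h3, h4⟩ := coef_eq la mu
  unfold W4c6intromoduli.invI dd
  rw [h0, h1, h2, h3, h4]
  ring

theorem invJ_eq {R : Type u} [CommRing R] (la mu : Fin 4 → R) :
    W4c6intromoduli.invJ (W4c6intromoduli.coef la mu) =
      (dd la mu 0 1 * dd la mu 2 3 - (- dd la mu 0 2 * dd la mu 1 3)) *
      ((- dd la mu 0 2 * dd la mu 1 3) - dd la mu 0 3 * dd la mu 1 2) *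
      (dd la mu 0 3 * dd la mu 1 2 - dd la mu 0 1 * dd la mu 2 3) := by
  obtain ⟨h0, h1, h2, h3, h4⟩ := coef_eq la mu
  unfold W4c6intromoduli.invJ dd
  rw [h0, h1, h2, h3, h4]
  ring

theorem plucker {R : Type u} [CommRing R] (la mu : Fin 4 → R) :
    dd la mu 0 1 * dd la mu 2 3 + (- dd la mu 0 2 * dd la mu 1 3) + dd la mu 0 3 * dd la mu 1 2 = 0 := by
  unfold dd; ring

/-- combinatorics: a function vanishing on all pairs from a 3-element subset of `Fin 4` kills
one factor of each of the three matchings. -/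
theorem comb {R : Type u} (d : Fin 4 → Fin 4 → R) [Zero R] (i j l : Fin 4) (hij : i ≠ j) (hjl : j ≠ l)
    (hil : i ≠ l) (h1 : d i j = 0) (h1' : d j i = 0) (h2 : d j l = 0) (h2' : d l j = 0)
    (h3 : d i l = 0) (h3' : d l i = 0) :
    (d 0 1 = 0 ∨ d 2 3 = 0) ∧ (d 0 2 = 0 ∨ d 1 3 = 0) ∧ (d 0 3 = 0 ∨ d 1 2 = 0) := by
  fin_cases i <;> fin_cases j <;> fin_cases l <;> simp_all

theorem alg_lemma {k : Type u} [Field k] (h2 : (2 : k) ≠ 0) (h3 : (3 : k) ≠ 0) (U V W : k)
    (hP : U + V + W = 0) (hI : U ^ 2 + V ^ 2 + W ^ 2 = 0) (hJ : (U - V) * (V - W) * (W - U) = 0) :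
    U = 0 ∧ V = 0 := by
  have hWeq : W = -U - V := by linear_combination hP
  subst hWeq
  have h6 : (6 : k) ≠ 0 := by
    have : (6 : k) = 2 * 3 := by norm_num
    rw [this]; exact mul_ne_zero h2 h3
  have sq0 : ∀ x : k, 6 * x ^ 2 = 0 → x = 0 := fun x hx =>
    (pow_eq_zero_iff two_ne_zero).mp ((mul_eq_zero.mp hx).resolve_left h6)
  rcases mul_eq_zero.mp hJ with h | h
  · rcases mul_eq_zero.mp h with h | h
    · have hUV : U = V := by linear_combination h
      subst hUV
      have hU0 := sq0 U (by linear_combination hI)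
      exact ⟨hU0, hU0⟩
    · have hU2 : U = -2 * V := by linear_combination h
      subst hU2
      have hV0 := sq0 V (by linear_combination hI)
      exact ⟨by rw [hV0]; ring, hV0⟩
  · have hV2 : V = -2 * U := by linear_combination -h
    subst hV2
    have hU0 := sq0 U (by linear_combination hI)
    exact ⟨hU0, by rw [hU0]; ring⟩

/-- Over a field of characteristic different from 2 and 3, a nonzero binary quartic f has P(f) = Q(f) =
0 for the two basic invariants P, Q if and only if f has a triple zero. Stated for f = ∏_i (μ_i X₀ −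
λ_i X₁) given by four root points (λ_i, μ_i) ≠ (0, 0) (over an algebraically closed field every
nonzero quartic form is of this shape), with the integral invariants I = 6P and J = 72Q of the
coefficients of f; a triple zero means that three of the four root points are pairwise proportional. -/
theorem result (k : Type u) [Field k]
    (h2 : (2 : k) ≠ 0) (h3 : (3 : k) ≠ 0) (la mu : Fin 4 → k) (hne : ∀ i, la i ≠ 0 ∨ mu i ≠ 0) :
    (W4c6intromoduli.invI (W4c6intromoduli.coef la mu) = 0 ∧
        W4c6intromoduli.invJ (W4c6intromoduli.coef la mu) = 0) ↔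
      ∃ i j l : Fin 4, i ≠ j ∧ j ≠ l ∧ i ≠ l ∧
        la i * mu j = la j * mu i ∧ la j * mu l = la l * mu j := by
  have hI := invI_eq la mu
  have hJ := invJ_eq la mu
  have hP := plucker la mu
  constructor
  · rintro ⟨hI0, hJ0⟩
    rw [hI0, mul_zero] at hI
    rw [hJ0] at hJ
    obtain ⟨hU0, hV0⟩ := alg_lemma h2 h3 _ _ _ hP hI.symm hJ.symm
    have hV0' : dd la mu 0 2 * dd la mu 1 3 = 0 := by linear_combination -hV0
    unfold dd at hU0 hV0'
    rcases mul_eq_zero.mp hU0 with ha | ha <;> rcases mul_eq_zero.mp hV0' with hb | hb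
    · exact ⟨1, 0, 2, by decide, by decide, by decide, by linear_combination ha,
        by linear_combination -hb⟩
    · exact ⟨0, 1, 3, by decide, by decide, by decide, by linear_combination -ha,
        by linear_combination -hb⟩
    · exact ⟨3, 2, 0, by decide, by decide, by decide, by linear_combination ha,
        by linear_combination hb⟩
    · exact ⟨2, 3, 1, by decide, by decide, by decide, by linear_combination -ha,
        by linear_combination hb⟩
  · rintro ⟨i, j, l, hij, hjl, hil, h1, h2'⟩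
    -- transitivity
    have h3' : la i * mu l = la l * mu i := by
      rcases hne j with hj | hj
      · have : la j * (la i * mu l - la l * mu i) = 0 := by
          linear_combination (la l) * h1 + (la i) * h2'
        have := (mul_eq_zero.mp this).resolve_left hj
        linear_combination this
      · have : mu j * (la i * mu l - la l * mu i) = 0 := by
          linear_combination (mu l) * h1 + (mu i) * h2'
        have := (mul_eq_zero.mp this).resolve_left hj
        linear_combination this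
    have hc := comb (dd la mu) i j l hij hjl hil (by unfold dd; linear_combination -h1)
      (by unfold dd; linear_combination h1) (by unfold dd; linear_combination -h2')
      (by unfold dd; linear_combination h2') (by unfold dd; linear_combination -h3')
      (by unfold dd; linear_combination h3')
    obtain ⟨hc1, hc2, hc3⟩ := hc
    have hU0 : dd la mu 0 1 * dd la mu 2 3 = 0 := by
      rcases hc1 with h | h <;> rw [h] <;> ring
    have hV0 : - dd la mu 0 2 * dd la mu 1 3 = 0 := by
      rcases hc2 with h | h <;> rw [h] <;> ring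
    have hW0 : dd la mu 0 3 * dd la mu 1 2 = 0 := by
      rcases hc3 with h | h <;> rw [h] <;> ring
    rw [hU0, hV0, hW0] at hI hJ
    constructor
    · have : 2 * W4c6intromoduli.invI (W4c6intromoduli.coef la mu) = 0 := by
        rw [hI]; ring
      exact (mul_eq_zero.mp this).resolve_left h2
    · rw [hJ]; ring

end Groth.Agent.S19392
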