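import Groth.Statements.S19395
import Groth.Agent.Lib.Helper21.OrbitClosure
import Groth.Agent.Lib.Helper21.SemisimpleConj
-- import your own Groth.Agent.* helpers here

set_option autoImplicit false
universe u
open InvQ

namespace Groth.Agent.S19395

/-- Over an algebraically closed field, the Zariski closures of the conjugation orbits of two square
matrices B₁, B₂ meet if and only if their semisimple parts lie in one orbit. The semisimple parts
are given as S_i with B_i = S_i + N_i, S_i semisimple, N_i nilpotent, S_i N_i = N_i S_i; a common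
point of the two closures is a matrix C at which every polynomial in the matrix entries vanishing on
the whole orbit of B₁, and every one vanishing on the whole orbit of B₂, vanishes. -/
theorem result (k : Type u) [Field k] [IsAlgClosed k]
    (n : ℕ) (B₁ S₁ N₁ B₂ S₂ N₂ : Matrix (Fin n) (Fin n) k)
    (hS₁ : Module.End.IsSemisimple (Matrix.toLin' S₁)) (hN₁ : IsNilpotent N₁) (hc₁ : Commute S₁ N₁)
    (hB₁ : B₁ = S₁ + N₁)
    (hS₂ : Module.End.IsSemisimple (Matrix.toLin' S₂)) (hN₂ : IsNilpotent N₂) (hc₂ : Commute S₂ N₂)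
    (hB₂ : B₂ = S₂ + N₂) :
    (∃ C : Matrix (Fin n) (Fin n) k,
        (∀ F : MvPolynomial (Fin n × Fin n) k,
          (∀ A : Matrix (Fin n) (Fin n) k, IsUnit A.det →
            MvPolynomial.eval (fun p => (A * B₁ * A⁻¹) p.1 p.2) F = 0) →
          MvPolynomial.eval (fun p => C p.1 p.2) F = 0) ∧
        (∀ F : MvPolynomial (Fin n × Fin n) k,
          (∀ A : Matrix (Fin n) (Fin n) k, IsUnit A.det →
            MvPolynomial.eval (fun p => (A * B₂ * A⁻¹) p.1 p.2) F = 0) →
          MvPolynomial.eval (fun p => C p.1 p.2) F = 0)) ↔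
      ∃ A : Matrix (Fin n) (Fin n) k, IsUnit A.det ∧ A * S₁ * A⁻¹ = S₂ := by
  classical
  have hinf : Infinite k := inferInstance
  obtain ⟨m₁, hm₁⟩ := hN₁
  obtain ⟨m₂, hm₂⟩ := hN₂
  have hm₁' : N₁ ^ (m₁ + 1) = 0 := by rw [pow_succ, hm₁, zero_mul]
  have hm₂' : N₂ ^ (m₂ + 1) = 0 := by rw [pow_succ, hm₂, zero_mul]
  -- F vanishing on orbit of B_i vanishes on orbit of S_i
  have key₁ : ∀ F : MvPolynomial (Fin n × Fin n) k,
      (∀ A : Matrix (Fin n) (Fin n) k, IsUnit A.det →
        MvPolynomial.eval (fun p => (A * B₁ * A⁻¹) p.1 p.2) F = 0) →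
      ∀ A : Matrix (Fin n) (Fin n) k, IsUnit A.det →
        MvPolynomial.eval (fun p => (A * S₁ * A⁻¹) p.1 p.2) F = 0 := by
    intro F hF
    exact Groth.Agent.Lib.Helper21.orbit_closure_semisimple S₁ hS₁ F m₁ N₁ hm₁' hc₁
      (by intro A hA; rw [← hB₁]; exact hF A hA)
  have key₂ : ∀ F : MvPolynomial (Fin n × Fin n) k,
      (∀ A : Matrix (Fin n) (Fin n) k, IsUnit A.det →
        MvPolynomial.eval (fun p => (A * B₂ * A⁻¹) p.1 p.2) F = 0) →
      ∀ A : Matrix (Fin n) (Fin n) k, IsUnit A.det →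
        MvPolynomial.eval (fun p => (A * S₂ * A⁻¹) p.1 p.2) F = 0 := by
    intro F hF
    exact Groth.Agent.Lib.Helper21.orbit_closure_semisimple S₂ hS₂ F m₂ N₂ hm₂' hc₂
      (by intro A hA; rw [← hB₂]; exact hF A hA)
  constructor
  · rintro ⟨C, hC₁, hC₂⟩
    have e1 : C.charpoly = B₁.charpoly := Groth.Agent.Lib.Helper21.charpoly_eq_of_mem_closure B₁ C hC₁
    have e2 : C.charpoly = B₂.charpoly := Groth.Agent.Lib.Helper21.charpoly_eq_of_mem_closure B₂ C hC₂
    have e3 : S₁.charpoly = B₁.charpoly := by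
      apply Groth.Agent.Lib.Helper21.charpoly_eq_of_mem_closure B₁ S₁
      intro F hF
      have := key₁ F hF 1 (by simp)
      simpa using this
    have e4 : S₂.charpoly = B₂.charpoly := by
      apply Groth.Agent.Lib.Helper21.charpoly_eq_of_mem_closure B₂ S₂
      intro F hF
      have := key₂ F hF 1 (by simp)
      simpa using this
    exact Groth.Agent.Lib.Helper21.exists_conj_of_charpoly_eq S₁ S₂ hS₁ hS₂
      (by rw [e3, ← e1, e2, ← e4])
  · rintro ⟨A, hA, hAS⟩
    refine ⟨S₂, ?_, ?_⟩
    · intro F hF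
      have := key₁ F hF A hA
      rwa [hAS] at this
    · intro F hF
      have := key₂ F hF 1 (by simp)
      simpa using this

end Groth.Agent.S19395
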