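import Groth.Statements.S19414
import Mathlib
import Groth.Agent.Lib.Helper20.WeilCohCorr
import Groth.Agent.Lib.Helper29.VA7
import Groth.Agent.Lib.Helper10.OrbitDim2
import Groth.Agent.Lib.Lead.BMDim

set_option autoImplicit false
universe u v
open CategoryTheory AlgebraicGeometry
open WeilCoh

namespace Groth.Agent.S19414



open CategoryTheory AlgebraicGeometry CategoryTheory.Limits
open WeilCoh
open Groth.Agent.Lib.Helper20.WeilCohLib

section aux
variable {k : Type u} [Field k]

theorem quasiCompact_hom (X : Var k) : QuasiCompact X.obj.hom := by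
  obtain ⟨n, i, hi, hcomp⟩ := X.property.2.1
  rw [← hcomp]
  infer_instance

theorem locallyOfFiniteType_hom (X : Var k) : LocallyOfFiniteType X.obj.hom := by
  have : Smooth X.obj.hom := X.property.1
  infer_instance

theorem pdim_le_dim (X : Var k) (η : X.obj.left) : pdim X.obj.left η ≤ dim X.obj.left := by
  haveI := quasiCompact_hom X
  haveI := locallyOfFiniteType_hom X
  exact Groth.Agent.Lib.Lead.BMDim.natDim_set_le _
    (Groth.Agent.Lib.Helper10.OrbitDim.dim_lt_top X.obj.hom)

theorem pdim_closedEmbedding {X Y : Scheme.{u}} (f : X ⟶ Y) [IsClosedImmersion f] (η : X) :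
    pdim Y (f η) = pdim X η := by
  have hce : Topology.IsClosedEmbedding f := f.isClosedEmbedding
  have hcl : closure ({f η} : Set Y) = f '' closure ({η} : Set X) := by
    rw [← hce.closure_image_eq, Set.image_singleton]
  unfold pdim
  rw [hcl]
  exact (natDim_congr (hce.isEmbedding.homeomorphImage _)).symm

end aux

/-- Let H be a Weil cohomology theory with coefficients in a field K of characteristic zero on
nonsingular connected projective varieties over an algebraically closed field k, X such a variety, P
= X × X with its projections p and q, and d : X → P the diagonal (the section of p and of q). For a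
closed irreducible subset Z ⊆ X with generic point η and a class α ∈ H^i(X), the cohomological
correspondence given by the class of the diagonal image d(Z) ⊆ P acts on α as cup product with the
class of Z: q_*(p^*(α) · cl_P(d(Z))) = α · cl_X(Z) in the total cohomology ring of X. The
push-forward q_* (Gysin map, defined through Poincaré duality) is taken on the homogeneous component
of degree i + 2 codim_P(d(Z)) that contains p^*(α) · cl_P(d(Z)). The published statement takes Z to
be a smooth hyperplane section, in which case cup product with cl_X(Z) is the Lefschetz operator L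
and the identity says that L is given by an algebraic correspondence; it is stated here for every
closed irreducible Z, which is what the argument establishes. -/
theorem result (k : Type u) [Field k] [IsAlgClosed k]
    (K : Type v) [Field K] [CharZero K] (T : WeilCoh.Theory k K) (X P : WeilCoh.Var k)
    (p q : P ⟶ X) (hP : WeilCoh.IsProd p q) (d : X ⟶ P) (hdp : d ≫ p = 𝟙 X) (hdq : d ≫ q = 𝟙 X)
    (η : ↥X.obj.left) (i : ℤ) (a : ↥(T.gr X i)) :
    (T.push q (i + 2 * (WeilCoh.codim P.obj.left (WeilCoh.sm d η) : ℤ))
        ⟨T.pull p (a : T.H X) * T.cl P (WeilCoh.sm d η),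
          SetLike.mul_mem_graded (T.pull_mem p i a a.2) (T.cl_mem P (WeilCoh.sm d η))⟩ : T.H X) =
      (a : T.H X) * T.cl X η := by

  classical
  haveI : IrreducibleSpace X.obj.left := X.property.2.2
  have hcn : pdim X.obj.left η ≤ dim X.obj.left := pdim_le_dim X η
  haveI := isClosedImmersion_of_section d p hdp
  have hpd : pdim P.obj.left (sm d η) = pdim X.obj.left η := pdim_closedEmbedding (sm d) η
  have hdP : dim P.obj.left = dim X.obj.left + dim X.obj.left := dim_prod T p q hP
  have hdP' : (dim P.obj.left : ℤ) = dim X.obj.left + dim X.obj.left := by exact_mod_cast hdP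
  have hcodP : (codim P.obj.left (sm d η) : ℤ) =
      2 * (dim X.obj.left : ℤ) - (pdim X.obj.left η : ℤ) := by
    unfold codim
    rw [hpd, hdP]
    omega
  have hcodX : (codim X.obj.left η : ℤ) = (dim X.obj.left : ℤ) - (pdim X.obj.left η : ℤ) := by
    unfold codim
    omega
  have hclP : T.cl P (sm d η) ∈
      T.gr P (2 * (2 * (dim X.obj.left : ℤ) - (pdim X.obj.left η : ℤ))) := by
    have := T.cl_mem P (sm d η)
    rwa [hcodP] at this
  have hclX : T.cl X η ∈ T.gr X (2 * ((dim X.obj.left : ℤ) - (pdim X.obj.left η : ℤ))) := by
    have := T.cl_mem X η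
    rwa [hcodX] at this
  refine eq_of_forall_tr_mul T (i + 2 * ((dim X.obj.left : ℤ) - (pdim X.obj.left η : ℤ)))
    (2 * (pdim X.obj.left η : ℤ) - i) (by ring) _ _ ?_ ?_ ?_
  · have h := (T.push q (i + 2 * (codim P.obj.left (sm d η) : ℤ))
      ⟨T.pull p (a : T.H X) * T.cl P (sm d η),
        SetLike.mul_mem_graded (T.pull_mem p i a a.2) (T.cl_mem P (sm d η))⟩).2
    convert h using 2
    rw [hcodP, hdP']; ring
  · exact SetLike.mul_mem_graded a.2 hclX
  · intro t ht
    rw [tr_push_mul' T q _ (2 * (pdim X.obj.left η : ℤ) - i) _ t ht (by rw [hcodP, hdP']; ring)]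
    show T.tr P (T.pull p (a : T.H X) * T.cl P (sm d η) * T.pull q t) = _
    rw [mul_comm_of_even T _ _ _ _ (T.pull_mem p i a a.2) hclP (Or.inr (even_two_mul _)), mul_assoc]
    have hA : T.pull p (a : T.H X) * T.pull q t ∈ T.gr P (2 * (pdim X.obj.left η : ℤ)) := by
      have h := SetLike.mul_mem_graded (T.pull_mem p i a a.2) (T.pull_mem q _ t ht)
      convert h using 2
      ring
    have h1 := T.cl_push d η _ hA
    have h' : sm d ≫ sm p = 𝟙 X.obj.left := by rw [← sm_comp, hdp, sm_id]
    rw [residueDegree_eq_one_of_comp_eq_id (sm d) (sm p) h', Nat.cast_one, one_mul] at h1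
    rw [← h1, map_mul (T.pull d), ← AlgHom.comp_apply, ← AlgHom.comp_apply, ← T.pull_comp, ← T.pull_comp,
      hdp, hdq, T.pull_id]
    rw [mul_comm_of_even T _ _ _ _ a.2 hclX (Or.inr (even_two_mul _)), mul_assoc]
    rfl

end Groth.Agent.S19414
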