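import Groth.Statements.S19415
import Mathlib
import Groth.Agent.Lib.Helper20.WeilCohCorr

set_option autoImplicit false
universe u v
open CategoryTheory AlgebraicGeometry
open WeilCoh

namespace Groth.Agent.S19415


open Groth.Agent.Lib.Helper20.WeilCohLib

/-- iterates of an endomorphism -/
noncomputable def Fpow {C : Type*} [Category C] {X : C} (F : X ⟶ X) : ℕ → (X ⟶ X)
  | 0 => 𝟙 X
  | (m + 1) => F ≫ Fpow F m

theorem pull_Fpow {k : Type u} [Field k] {K : Type v} [Field K]
    (T : WeilCoh.TheoryOn.{u, v, max u v} k (IsVar k) K) (X : WeilCoh.Var k) (F : X ⟶ X) (j : ℤ)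
    (m : ℕ) (b : T.gr X j) :
    T.pull (Fpow F m) (b : T.H X) = (((T.pullDeg F j) ^ m) b : T.H X) := by
  induction m with
  | zero => simp [Fpow, T.pull_id]
  | succ m ih =>
    show T.pull (F ≫ Fpow F m) (b : T.H X) = _
    rw [T.pull_comp, AlgHom.comp_apply, ih, pow_succ', Module.End.mul_apply]
    rfl

/-- The polynomial algebra: a polynomial acting as `δ_{ij}` on finitely many pairwise coprime
"blocks". -/
theorem exists_poly {K : Type v} [Field K] (S : Finset ℤ) (c : ℤ → Polynomial K)
    (hc : ∀ i j : ℤ, i ≠ j → IsCoprime (c i) (c j)) (i : ℤ) :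
    ∃ g : Polynomial K, (∃ a, g = 1 - a * c i) ∧ ∀ j ∈ S, j ≠ i → c j ∣ g := by
  have hcop : IsCoprime (c i) (∏ j ∈ S.erase i, c j) :=
    IsCoprime.prod_right fun j hj => hc i j (Finset.ne_of_mem_erase hj).symm
  obtain ⟨a, b, hab⟩ := hcop
  refine ⟨b * ∏ j ∈ S.erase i, c j, ⟨a, by rw [← hab]; ring⟩, fun j hj hji => ?_⟩
  exact Dvd.dvd.mul_left (Finset.dvd_prod_of_mem _ (Finset.mem_erase.mpr ⟨hji, hj⟩)) b

/-- Let H be a Weil cohomology theory with coefficients in a field K of characteristic zero on
nonsingular connected projective varieties over an algebraically closed field k, X such a variety of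
dimension n, P = X × X with its projections p, q, and F : X → X an endomorphism such that the
characteristic polynomials of F^* on the cohomology groups H^i(X), i ∈ ℤ, are pairwise coprime in
K[T]. Then for every i the i-th Künneth projector of X is given by an algebraic correspondence with
coefficients in K: there is a class u in H^{2n}(P), lying in the K-linear span of the classes of
closed irreducible subsets of P, whose action β ↦ q_*(p^*(β) · u) is the identity on H^i(X) and zero
on H^j(X) for every j ≠ i (push-forward q_* taken on the homogeneous piece of degree j + 2n). The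
published statement has rational coefficients, X defined over a finite field and F its Frobenius
endomorphism, the coprimality of the characteristic polynomials being deduced there from the Riemann
hypothesis over finite fields and from the independence of these polynomials of the cohomology
theory; here that coprimality is the hypothesis and F is any endomorphism. -/
theorem result (k : Type u) [Field k]
    [IsAlgClosed k] (K : Type v) [Field K] [CharZero K] (T : WeilCoh.Theory k K)
    (X P : WeilCoh.Var k) (p q : P ⟶ X) (hP : WeilCoh.IsProd p q) (F : X ⟶ X)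
    (hF : ∀ i j : ℤ, i ≠ j → IsCoprime (T.pullDeg F i).charpoly (T.pullDeg F j).charpoly)
    (i : ℤ) :
    ∃ u : ↥(T.gr P (2 * (WeilCoh.dim X.obj.left : ℤ))),
      (u : T.H P) ∈ Submodule.span K (Set.range (T.cl P)) ∧
        ∀ (j : ℤ) (b : ↥(T.gr X j)),
          (T.push q (j + 2 * (WeilCoh.dim X.obj.left : ℤ))
              ⟨T.pull p (b : T.H X) * (u : T.H P),
                SetLike.mul_mem_graded (T.pull_mem p j b b.2) u.2⟩ : T.H X) =
            if j = i then (b : T.H X) else 0 := by
  haveI : IrreducibleSpace X.obj.left := X.property.2.2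
  have hd := dim_prod T p q hP
  -- graphs of the iterates
  have hgr : ∀ m : ℕ, ∃ g : X ⟶ P, g ≫ p = Fpow F m ∧ g ≫ q = 𝟙 X :=
    fun m => exists_lift p q hP (Fpow F m) (𝟙 X)
  choose G hGp hGq using hgr
  have hΓmem : ∀ m, T.cl P (sm (G m) (genericPoint X.obj.left)) ∈
      T.gr P (2 * (dim X.obj.left : ℤ)) := by
    intro m
    have hcod : (codim P.obj.left (sm (G m) (genericPoint ↥X.obj.left)) : ℤ) = dim X.obj.left := by
      unfold codim
      rw [pdim_section (G m) q (hGq m), hd]
      simp
    have := T.cl_mem P (sm (G m) (genericPoint ↥X.obj.left))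
    rwa [hcod] at this
  -- the polynomial
  obtain ⟨g, ⟨a, hga⟩, hgdvd⟩ := exists_poly (Finset.Icc (0 : ℤ) (2 * (dim X.obj.left : ℤ)))
    (fun j => (T.pullDeg F j).charpoly) hF i
  -- the class
  let u0 : T.H P := ∑ m ∈ Finset.range (g.natDegree + 1),
    g.coeff m • T.cl P (sm (G m) (genericPoint X.obj.left))
  have hu0mem : u0 ∈ T.gr P (2 * (dim X.obj.left : ℤ)) :=
    Submodule.sum_mem _ fun m _ => Submodule.smul_mem _ _ (hΓmem m)
  have hu0span : u0 ∈ Submodule.span K (Set.range (T.cl P)) :=
    Submodule.sum_mem _ fun m _ => Submodule.smul_mem _ _ (Submodule.subset_span ⟨_, rfl⟩)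
  refine ⟨⟨u0, hu0mem⟩, hu0span, ?_⟩
  intro j b
  -- the action is linear in `u`
  let L : T.gr P (2 * (dim X.obj.left : ℤ)) →ₗ[K] T.H X :=
    (T.gr X _).subtype ∘ₗ (T.push q (j + 2 * (dim X.obj.left : ℤ))) ∘ₗ
      ((LinearMap.mulLeft K (T.pull p (b : T.H X))).restrict (p := T.gr P (2 * (dim X.obj.left : ℤ)))
        (q := T.gr P (j + 2 * (dim X.obj.left : ℤ)))
        (fun x hx => SetLike.mul_mem_graded (T.pull_mem p j b b.2) hx))
  have hL : ∀ w : T.gr P (2 * (dim X.obj.left : ℤ)),
      L w = (T.push q (j + 2 * (dim X.obj.left : ℤ))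
        ⟨T.pull p (b : T.H X) * (w : T.H P),
          SetLike.mul_mem_graded (T.pull_mem p j b b.2) w.2⟩ : T.H X) := fun w => rfl
  rw [← hL]
  have hu0eq : (⟨u0, hu0mem⟩ : T.gr P (2 * (dim X.obj.left : ℤ))) =
      ∑ m ∈ Finset.range (g.natDegree + 1),
        g.coeff m • (⟨T.cl P (sm (G m) (genericPoint X.obj.left)), hΓmem m⟩ :
          T.gr P (2 * (dim X.obj.left : ℤ))) := by
    apply Subtype.ext
    simp [u0, AddSubmonoidClass.coe_finsetSum]
  rw [hu0eq, map_sum]
  simp_rw [map_smul, hL]
  have hact : ∀ m : ℕ, (T.push q (j + 2 * (dim X.obj.left : ℤ))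
      ⟨T.pull p (b : T.H X) * T.cl P (sm (G m) (genericPoint X.obj.left)),
        SetLike.mul_mem_graded (T.pull_mem p j b b.2) (hΓmem m)⟩ : T.H X) =
      (((T.pullDeg F j) ^ m) b : T.H X) := by
    intro m
    rw [push_pull_mul_cl_section T p q hP (G m) (hGq m) j b b.2, hGp m, pull_Fpow]
  simp_rw [hact]
  -- now `∑ coeff m • A^m b = (aeval A g) b`
  have hsum : ∑ m ∈ Finset.range (g.natDegree + 1), g.coeff m • (((T.pullDeg F j) ^ m) b : T.H X) =
      ((Polynomial.aeval (T.pullDeg F j) g) b : T.H X) := by
    rw [Polynomial.aeval_eq_sum_range, LinearMap.sum_apply, AddSubmonoidClass.coe_finsetSum]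
    rfl
  rw [hsum]
  by_cases hji : j = i
  · subst hji
    rw [if_pos rfl, hga]
    simp [LinearMap.aeval_self_charpoly]
  · rw [if_neg hji]
    by_cases hjS : j ∈ Finset.Icc (0 : ℤ) (2 * (dim X.obj.left : ℤ))
    · obtain ⟨c, hc⟩ := hgdvd j hjS hji
      rw [hc, map_mul, LinearMap.aeval_self_charpoly, zero_mul]
      rfl
    · -- `H^j = 0`
      have hbot : T.gr X j = ⊥ := by
        apply T.vanish
        rw [Finset.mem_Icc] at hjS
        by_contra hcon
        push Not at hcon
        exact hjS ⟨hcon.1, hcon.2⟩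
      have hb0 : b = 0 := by
        apply Subtype.ext
        have h1 : (b : T.H X) ∈ (⊥ : Submodule K (T.H X)) := hbot ▸ b.2
        exact (Submodule.mem_bot K).mp h1
      rw [hb0, map_zero]
      rfl

end Groth.Agent.S19415
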