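import Groth.Statements.S19418
import Mathlib
import Groth.Agent.Lib.Helper20.WeilCohTrace
import Groth.Agent.Lib.Helper20.WeilCohIso

set_option autoImplicit false
universe u v
open CategoryTheory AlgebraicGeometry
open WeilCoh

namespace Groth.Agent.S19418


open Groth.Agent.Lib.Helper20.WeilCohLib

/-- Key step, cohomological form: let H be a Weil cohomology theory with coefficients in a field K of
characteristic zero on nonsingular connected projective varieties over an algebraically closed field
k, X such a variety of dimension n, P = X × X with projections p, q and the swap automorphism σ (σ p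
= q, σ q = p); the identity dim P = 2n is carried as the arithmetic hypothesis hdim. A class u ∈
H^{2n}(P) acts as a degree-0 correspondence on each H^j(X), 0 ≤ j ≤ 2n, by β ↦ q_*(p^*(β) · u); call
u algebraic when it lies in the K-linear span of the classes of closed irreducible subsets of P, and
let A be the K-subalgebra of ∏_j End_K(H^j(X)) generated by the actions of the algebraic classes in
H^{2n}(P). If u is algebraic and ψ ∘ (action of u) is nilpotent for every ψ ∈ A — that is, the
action of u lies in the Jacobson radical of the finite-dimensional algebra A — then u is numerically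
trivial against algebraic classes: Tr_P(u · v) = 0 for every algebraic v ∈ H^{2n}(P). In the
published argument this is the step showing that the algebra of degree-0 algebraic correspondences
modulo numerical equivalence has zero Jacobson radical, hence is semisimple; it is stated here on
the cohomological side, with the algebra generated by the correspondence actions in place of the
algebra of cycle classes. -/
theorem result (k : Type u) [Field k] [IsAlgClosed k]
    (K : Type v) [Field K] [CharZero K] (T : WeilCoh.Theory k K) (X P : WeilCoh.Var k)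
    (p q : P ⟶ X) (hP : WeilCoh.IsProd p q) (σ : P ⟶ P) (hσp : σ ≫ p = q) (hσq : σ ≫ q = p)
    (hdim : ∀ j : ℤ, j + 2 * (WeilCoh.dim X.obj.left : ℤ) + 2 * (WeilCoh.dim X.obj.left : ℤ) - 2 * (WeilCoh.dim P.obj.left : ℤ) = j)
    (u : ↥(T.gr P (2 * (WeilCoh.dim X.obj.left : ℤ)))) (hu : (u : T.H P) ∈ Submodule.span K (Set.range (T.cl P)))
    (hJ : ∀ ψ ∈ Algebra.adjoin K
          (Set.range (fun w : {w : ↥(T.gr P (2 * (WeilCoh.dim X.obj.left : ℤ))) // (w : T.H P) ∈ Submodule.span K (Set.range (T.cl P))} =>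
            fun j : Fin (2 * WeilCoh.dim X.obj.left + 1) =>
              ((LinearEquiv.ofEq (T.gr X (((j : ℕ) : ℤ) + 2 * (WeilCoh.dim X.obj.left : ℤ) + 2 * (WeilCoh.dim X.obj.left : ℤ) - 2 * (WeilCoh.dim P.obj.left : ℤ))) (T.gr X ((j : ℕ) : ℤ)) (congrArg (T.gr X) (hdim ((j : ℕ) : ℤ)))).toLinearMap ∘ₗ
              ((T.push q (((j : ℕ) : ℤ) + 2 * (WeilCoh.dim X.obj.left : ℤ))) ∘ₗ
                (((LinearMap.mulRight K (w.1 : T.H P)).restrict (p := T.gr P ((j : ℕ) : ℤ))
                    (q := T.gr P (((j : ℕ) : ℤ) + 2 * (WeilCoh.dim X.obj.left : ℤ))) (fun x hx => SetLike.mul_mem_graded hx w.1.2)) ∘ₗ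
                  T.pullDeg p ((j : ℕ) : ℤ)))))),
        IsNilpotent (ψ * fun j : Fin (2 * WeilCoh.dim X.obj.left + 1) =>
          ((LinearEquiv.ofEq (T.gr X (((j : ℕ) : ℤ) + 2 * (WeilCoh.dim X.obj.left : ℤ) + 2 * (WeilCoh.dim X.obj.left : ℤ) - 2 * (WeilCoh.dim P.obj.left : ℤ))) (T.gr X ((j : ℕ) : ℤ)) (congrArg (T.gr X) (hdim ((j : ℕ) : ℤ)))).toLinearMap ∘ₗ
              ((T.push q (((j : ℕ) : ℤ) + 2 * (WeilCoh.dim X.obj.left : ℤ))) ∘ₗ
                (((LinearMap.mulRight K (u : T.H P)).restrict (p := T.gr P ((j : ℕ) : ℤ))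
                    (q := T.gr P (((j : ℕ) : ℤ) + 2 * (WeilCoh.dim X.obj.left : ℤ))) (fun x hx => SetLike.mul_mem_graded hx u.2)) ∘ₗ
                  T.pullDeg p ((j : ℕ) : ℤ))))))
    (v : ↥(T.gr P (2 * (WeilCoh.dim X.obj.left : ℤ)))) (hv : (v : T.H P) ∈ Submodule.span K (Set.range (T.cl P))) :
    T.tr P ((u : T.H P) * (v : T.H P)) = 0 := by
  classical
  -- 1. `σ` is an involution
  have hσσ : σ ≫ σ = 𝟙 P := by
    apply ObjectProperty.hom_ext
    apply Over.OverMorphism.ext
    apply hP.hom_ext
    · show sm (σ ≫ σ) ≫ sm p = sm (𝟙 P) ≫ sm p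
      rw [← sm_comp, ← sm_comp, Category.assoc, hσp, hσq, Category.id_comp]
    · show sm (σ ≫ σ) ≫ sm q = sm (𝟙 P) ≫ sm q
      rw [← sm_comp, ← sm_comp, Category.assoc, hσq, hσp, Category.id_comp]
  -- 2. pull-back along `σ` preserves algebraic classes
  have halg : ∀ z : T.H P, z ∈ Submodule.span K (Set.range (T.cl P)) →
      T.pull σ z ∈ Submodule.span K (Set.range (T.cl P)) := by
    intro z hz
    induction hz using Submodule.span_induction with
    | mem z hz =>
      obtain ⟨ξ, rfl⟩ := hz
      have h := pull_cl_of_iso T σ σ hσσ hσσ (sm σ ξ)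
      have hξ : sm σ (sm σ ξ) = ξ := by
        have : sm σ ≫ sm σ = 𝟙 P.obj.left := by rw [← sm_comp, hσσ, sm_id]
        have h2 := congrArg (fun f => f ξ) this
        simpa using h2
      rw [hξ] at h
      rw [h]
      exact Submodule.subset_span ⟨_, rfl⟩
    | zero => rw [map_zero]; exact Submodule.zero_mem _
    | add x y _ _ hx hy => rw [map_add]; exact Submodule.add_mem _ hx hy
    | smul a x _ hx => rw [map_smul]; exact Submodule.smul_mem _ _ hx
  -- 3. the transposed class
  let v' : T.gr P (2 * (dim X.obj.left : ℤ)) := ⟨T.pull σ (v : T.H P), T.pull_mem σ _ _ v.2⟩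
  have hv' : (v' : T.H P) ∈ Submodule.span K (Set.range (T.cl P)) := halg _ hv
  have hvv' : T.pull σ (v' : T.H P) = (v : T.H P) := by
    show T.pull σ (T.pull σ (v : T.H P)) = _
    rw [← AlgHom.comp_apply, ← T.pull_comp, hσσ, T.pull_id]
    rfl
  -- 4. the trace formula
  have htr := tr_mul_pull_swap_eq_sum T p q hP p q hP σ hσp hσq (2 * (dim X.obj.left : ℤ))
    (2 * (dim X.obj.left : ℤ)) (fun i => (i : ℤ)) (fun i => hdim i) (fun i => hdim i) u v'
  rw [hvv'] at htr
  rw [htr]
  refine Finset.sum_eq_zero fun i hi => ?_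
  have hi' : i < 2 * dim X.obj.left + 1 := Finset.mem_range.mp hi
  -- 5. nilpotency
  have hnil := hJ _ (Algebra.subset_adjoin ⟨⟨v', hv'⟩, rfl⟩)
  obtain ⟨N, hN⟩ := hnil
  have hNi := congrFun hN ⟨i, hi'⟩
  rw [Pi.pow_apply, Pi.mul_apply] at hNi
  have hnil' : IsNilpotent (LinearMap.trace K _
      (((LinearEquiv.ofEq _ _ (congrArg (T.gr X) (hdim (i : ℤ)))).toLinearMap ∘ₗ
              corrAct T p q (2 * (dim X.obj.left : ℤ)) v' (i : ℤ)) ∘ₗ
            ((LinearEquiv.ofEq _ _ (congrArg (T.gr X) (hdim (i : ℤ)))).toLinearMap ∘ₗ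
              corrAct T p q (2 * (dim X.obj.left : ℤ)) u (i : ℤ)))) :=
    LinearMap.isNilpotent_trace_of_isNilpotent ⟨N, hNi⟩
  rw [hnil'.eq_zero, mul_zero]

end Groth.Agent.S19418
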