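import Groth.Statements.S1942
import Mathlib
import Groth.Agent.Lib.Helper18.GysinSheaf

set_option autoImplicit false
universe u
open CategoryTheory AlgebraicGeometry
open CategoryTheory.Limits
open Cyc

namespace Groth.Agent.S1942

/-- Let (L, s, i : D → X) be an invertible module, a global section and its zero scheme, and F a
coherent O_X-module with δ ≤ k + 1 on its support such that s : F → F ⊗ L is injective (at each
point, writing s = f·t on a generator t of L_x, multiplication by f is injective on F_x). Then
i^*[F]_{k+1} ∼_rat [i^*F]_k as k-cycles on D. Here i : D → X is the zero scheme of a global section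
s of the invertible module L (Cyc.IsZeroSchemeOf), the Gysin map i^* : Z_{k+1}(X) → CH_k(D) is
computed on coefficient functions as c_1(L) ∩ − with the rational sections taken to be s where it is
nonzero (Cyc.gysinChoice) and restricted to the points of D, and classes on D are compared up to
rational equivalence on D for the restricted dimension function. Here a pair (X, δ) satisfying
Cyc.IsSetup (X locally Noetherian with universally catenary local rings, δ a dimension function)
plays the role of a scheme locally of finite type over a fixed base equipped with a dimension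
function. -/
theorem result (X D : Scheme.{u}) (δ : X → ℤ) (hX : Cyc.IsSetup X δ) (L : X.Modules) (hL : PicF.IsInvertible L) (s : L.presheaf.obj (Opposite.op ⊤)) (i : D ⟶ X) [IsClosedImmersion i] (hD : Cyc.IsZeroSchemeOf i L s) (k : ℤ) (F : X.Modules) (hF : Coh.IsCoh F) (hdim : ∀ x : X, Nontrivial (F.presheaf.stalk x) → δ x ≤ k + 1) (hreg : ∀ (x : X) (t : L.presheaf.stalk x) (f : X.presheaf.stalk x), Submodule.span (X.presheaf.stalk x) {t} = ⊤ → (L.presheaf.germ ⊤ x trivial) s = f • t → Function.Injective (fun m : F.presheaf.stalk x => f • m)) (w : (ξ : X) → Cyc.secFibre L ξ) (hw : ∀ ξ, w ξ ≠ 0) (γ : AlgebraicCycle D ℤ) (hγ : ∀ d, γ d = Cyc.c1CapFun δ L (Cyc.sheafFun δ (k + 1) F) (Cyc.gysinChoice L s w) (i d)) (ζ : AlgebraicCycle D ℤ) (hζ : ⇑ζ = Cyc.sheafFun (fun d => δ (i d)) k ((Scheme.Modules.pullback i).obj F)) : Cyc.RatEquiv (fun d => δ (i d)) k γ ζ := by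
  classical
  have hpt : ∀ d, γ d = ζ d := by
    intro d
    rw [hγ d, hζ]
    by_cases hk : δ (i d) = k
    · obtain ⟨t', f', ht', hf', hker⟩ := hD.2 d
      have ht : ∃ t : L.presheaf.stalk (i d), Submodule.span (X.presheaf.stalk (i d)) {t} = ⊤ :=
        ⟨t', ht'⟩
      have hts := Classical.choose_spec ht
      have hmem : (L.presheaf.germ ⊤ (i d) trivial) s ∈
          Submodule.span (X.presheaf.stalk (i d)) {Classical.choose ht} := by
        rw [hts]; trivial
      obtain ⟨f, hf⟩ := Submodule.mem_span_singleton.mp hmem
      rw [Groth.Agent.Lib.Helper18.GysinSheaf.c1CapFun_sheafFun δ hX L hL s k F hF hdim hreg w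
        (i d) hk ht f hf.symm]
      generalize Classical.choose ht = t at hts hf
      have hspan : Ideal.span {f'} = Ideal.span {f} := by
        have h1 : t' ∈ Submodule.span (X.presheaf.stalk (i d)) {t} := by rw [hts]; trivial
        have h2 : t ∈ Submodule.span (X.presheaf.stalk (i d)) {t'} := by rw [ht']; trivial
        obtain ⟨u, hu⟩ := Submodule.mem_span_singleton.mp h1
        obtain ⟨v, hv⟩ := Submodule.mem_span_singleton.mp h2
        have e1 : f = f' * u := by
          have : (f - f' * u) • t = 0 := by
            rw [sub_smul, mul_smul, hu, hf, hf', sub_self]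
          have := Groth.Agent.Lib.Helper18.InvStalk.free_of_generator hL (i d) t hts _ this
          exact sub_eq_zero.mp this
        have e2 : f' = f * v := by
          have : (f' - f * v) • t' = 0 := by
            rw [sub_smul, mul_smul, hv, hf, hf', sub_self]
          have := Groth.Agent.Lib.Helper18.InvStalk.free_of_generator hL (i d) t' ht' _ this
          exact sub_eq_zero.mp this
        apply le_antisymm
        · rw [Ideal.span_singleton_le_span_singleton]
          exact ⟨v, e2⟩
        · rw [Ideal.span_singleton_le_span_singleton]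
          exact ⟨u, e1⟩
      have hlen := Groth.Agent.Lib.Helper18.ClImmStalk.length_stalk_pullback i F d f
        (hker.trans hspan)
      unfold Cyc.sheafFun
      rw [if_pos hk, hlen]
    · have hz : Cyc.sheafFun (fun d => δ (i d)) k ((Scheme.Modules.pullback i).obj F) d = 0 := by
        unfold Cyc.sheafFun
        rw [if_neg hk]
      rw [hz]
      unfold Cyc.c1CapFun
      apply finsum_eq_zero_of_forall_eq_zero
      intro ξ
      unfold Cyc.secDivFun
      by_cases hc : ξ ⤳ i d ∧ δ (i d) + 1 = δ ξ
      · have hne : ¬ δ ξ = k + 1 := by omega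
        unfold Cyc.sheafFun
        rw [if_neg hne, zero_mul]
      · rw [dif_neg hc, mul_zero]
  have heq : γ - ζ = 0 := by
    ext d
    change γ d - ζ d = 0
    rw [hpt d, sub_self]
  unfold Cyc.RatEquiv
  rw [heq]
  refine ⟨PEmpty, PEmpty.elim, fun j => j.elim, fun j => j.elim, fun j => j.elim, fun x => ?_,
    fun x => ?_⟩
  · refine ⟨Set.univ, isOpen_univ, trivial, ?_⟩
    exact Set.toFinite _
  · rw [finsum_of_isEmpty]
    rfl

end Groth.Agent.S1942
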