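import Groth.Statements.S19422
import Groth.Agent.Lib27.GmWeights
-- import your own Groth.Agent.* helpers here

set_option autoImplicit false
universe u
open TensorProduct LaurentPolynomial
open GIT

namespace Groth.Agent.S19422

/-- Over an algebraically closed field k, let the multiplicative group, whose coordinate Hopf algebra is
the Laurent polynomial ring, act diagonally on affine ι-space, ι finite: the coaction on the
polynomial ring is multiplicative and sends the coordinate function X_i to X_i ⊗ T^(r_i) for
integers r_i. Then a vector v is semistable (some invariant homogeneous polynomial of positive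
degree does not vanish at v) if and only if there are indices i and j, possibly equal, with v_i ≠ 0,
v_j ≠ 0 and r_i ≤ 0 ≤ r_j, i.e. the origin lies in the convex hull of the weights of v. (Stated for
the ambient projective space on its affine cone; the published statement is for a point of a closed
invariant subvariety, whose semistability is that of the point in the ambient space.) -/
theorem result (k : Type u) [Field k] [IsAlgClosed k]
    (ι : Type u) [Fintype ι] [HopfRep.Comod k k[T;T⁻¹] (MvPolynomial ι k)] [GLin.IsCoactAlg k k[T;T⁻¹] (MvPolynomial ι k)]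
    (r : ι → ℤ)
    (hr : ∀ i : ι, HopfRep.Comod.coact (k := k) (A := k[T;T⁻¹]) (MvPolynomial.X i : MvPolynomial ι k) =
      (MvPolynomial.X i : MvPolynomial ι k) ⊗ₜ[k] (T (r i) : k[T;T⁻¹]))
    (v : ι → k) :
    GLin.IsSemistableVec k k[T;T⁻¹] v ↔ ∃ i j : ι, v i ≠ 0 ∧ v j ≠ 0 ∧ r i ≤ 0 ∧ 0 ≤ r j := by
  classical
  unfold GLin.IsSemistableVec GLin.IsNullform
  push Not
  constructor
  · rintro ⟨F, hF, d, hd, hhom, hne⟩
    -- some monomial of `F` does not vanish at `v`
    have hex : ∃ s ∈ F.support, (s.prod fun i n => v i ^ n) ≠ 0 := by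
      by_contra hcon
      push Not at hcon
      apply hne
      rw [MvPolynomial.eval_eq]
      refine Finset.sum_eq_zero fun s hs => ?_
      have := hcon s hs
      rw [Finsupp.prod] at this
      rw [this, mul_zero]
    obtain ⟨s, hs, hsv⟩ := hex
    have hw := Groth.Agent.Lib27.GmWeights.wt_eq_zero_of_mem_invariants r hr F hF s hs
    have hdeg : s.degree = d := by
      have := hhom (MvPolynomial.mem_support_iff.mp hs)
      rwa [Finsupp.degree_eq_weight_one]
    have hvi : ∀ i ∈ s.support, v i ≠ 0 := by
      intro i hi h0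
      apply hsv
      rw [Finsupp.prod]
      refine Finset.prod_eq_zero hi ?_
      rw [h0, zero_pow (Finsupp.mem_support_iff.mp hi)]
    have hsne : s.support.Nonempty := by
      rw [Finset.nonempty_iff_ne_empty]
      intro h
      rw [Finsupp.support_eq_empty] at h
      rw [h] at hdeg
      simp at hdeg
      omega
    unfold Groth.Agent.Lib27.GmWeights.wt at hw
    rw [Finsupp.sum] at hw
    have hpos : ∀ i ∈ s.support, (0 : ℤ) < (s i : ℤ) := fun i hi =>
      Int.natCast_pos.mpr (Nat.pos_of_ne_zero (Finsupp.mem_support_iff.mp hi))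
    have h1 : ∃ i ∈ s.support, r i ≤ 0 := by
      by_contra hcon
      push Not at hcon
      have : 0 < ∑ i ∈ s.support, (s i : ℤ) * r i :=
        Finset.sum_pos (fun i hi => mul_pos (hpos i hi) (hcon i hi)) hsne
      omega
    have h2 : ∃ j ∈ s.support, 0 ≤ r j := by
      by_contra hcon
      push Not at hcon
      have : ∑ i ∈ s.support, (s i : ℤ) * r i < 0 :=
        Finset.sum_neg (fun i hi => mul_neg_of_pos_of_neg (hpos i hi) (hcon i hi)) hsne
      omega
    obtain ⟨i, hi, hri⟩ := h1
    obtain ⟨j, hj, hrj⟩ := h2
    exact ⟨i, j, hvi i hi, hvi j hj, hri, hrj⟩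
  · rintro ⟨i, j, hvi, hvj, hri, hrj⟩
    by_cases h0 : r i = 0
    · refine ⟨MvPolynomial.X i, ?_, 1, one_pos, MvPolynomial.isHomogeneous_X k i, ?_⟩
      · change HopfRep.Comod.coact (k := k) (A := k[T;T⁻¹]) (MvPolynomial.X i : MvPolynomial ι k) =
          (MvPolynomial.X i : MvPolynomial ι k) ⊗ₜ[k] (1 : k[T;T⁻¹])
        rw [hr, h0, T_zero]
      · rw [MvPolynomial.eval_X]; exact hvi
    · have hlt : r i < 0 := lt_of_le_of_ne hri h0
      refine ⟨MvPolynomial.X i ^ (r j).toNat * MvPolynomial.X j ^ (-r i).toNat, ?_,
        (r j).toNat + (-r i).toNat, ?_, ?_, ?_⟩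
      · change HopfRep.Comod.coact (k := k) (A := k[T;T⁻¹])
          (MvPolynomial.X i ^ (r j).toNat * MvPolynomial.X j ^ (-r i).toNat : MvPolynomial ι k) =
          (MvPolynomial.X i ^ (r j).toNat * MvPolynomial.X j ^ (-r i).toNat : MvPolynomial ι k) ⊗ₜ[k]
            (1 : k[T;T⁻¹])
        rw [GLin.IsCoactAlg.coact_mul, ← GLin.coactAlgHom_apply, ← GLin.coactAlgHom_apply, map_pow,
          map_pow, GLin.coactAlgHom_apply, GLin.coactAlgHom_apply, hr, hr,
          Algebra.TensorProduct.tmul_pow, Algebra.TensorProduct.tmul_pow,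
          Algebra.TensorProduct.tmul_mul_tmul, T_pow, T_pow, ← T_add, ← T_zero]
        congr 2
        rw [Int.toNat_of_nonneg hrj, Int.toNat_of_nonneg (by omega)]
        ring
      · have : 0 < (-r i).toNat := by omega
        omega
      · have := ((MvPolynomial.isHomogeneous_X k i).pow (r j).toNat).mul
          ((MvPolynomial.isHomogeneous_X k j).pow (-r i).toNat)
        simpa using this
      · rw [map_mul, map_pow, map_pow, MvPolynomial.eval_X, MvPolynomial.eval_X]
        exact mul_ne_zero (pow_ne_zero _ hvi) (pow_ne_zero _ hvj)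

end Groth.Agent.S19422
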