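import Groth.Statements.S19423
import Groth.Agent.Lib27.GmWeights
-- import your own Groth.Agent.* helpers here

set_option autoImplicit false
universe u
open TensorProduct LaurentPolynomial
open GIT

namespace Groth.Agent.S19423

/-- Over an algebraically closed field k, let the multiplicative group, whose coordinate Hopf algebra is
the Laurent polynomial ring, act diagonally on affine ι-space, ι finite: the coaction on the
polynomial ring is multiplicative and sends the coordinate function X_i to X_i ⊗ T^(r_i) for
integers r_i. Then a vector v is stable (the orbit of the point v of affine space is closed and its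
stabiliser is a finite group scheme) if and only if there are indices i and j with v_i ≠ 0, v_j ≠ 0
and r_i < 0 < r_j, i.e. the origin is an interior point of the convex hull of the weights of v.
(Stated for the ambient projective space on its affine cone, where stability means a closed orbit
with finite stabiliser in the cone.) -/
theorem result (k : Type u) [Field k] [IsAlgClosed k]
    (ι : Type u) [Fintype ι] [HopfRep.Comod k k[T;T⁻¹] (MvPolynomial ι k)] [GLin.IsCoactAlg k k[T;T⁻¹] (MvPolynomial ι k)]
    (r : ι → ℤ)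
    (hr : ∀ i : ι, HopfRep.Comod.coact (k := k) (A := k[T;T⁻¹]) (MvPolynomial.X i : MvPolynomial ι k) =
      (MvPolynomial.X i : MvPolynomial ι k) ⊗ₜ[k] (T (r i) : k[T;T⁻¹]))
    (v : ι → k) :
    GLin.IsStableVec k k[T;T⁻¹] v ↔ ∃ i j : ι, v i ≠ 0 ∧ v j ≠ 0 ∧ r i < 0 ∧ 0 < r j := by
  open Groth.Agent.Lib27.GmWeights in
  classical
  have hφ := orbitHom_eq (k := k) r hr v
  constructor
  · rintro ⟨hcl, hfin⟩
    by_contra hne
    push Not at hne
    have hcl' : IsClosed (Set.range (PrimeSpectrum.comap
        (GLin.orbitHom k k[T;T⁻¹] (GLin.vecPt k ι v)).toRingHom)) := hcl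
    have hfin' : Module.Finite k (k[T;T⁻¹] ⧸ GLin.stabIdeal k k[T;T⁻¹] (GLin.vecPt k ι v)) := hfin
    by_cases hneg : ∃ i₀, v i₀ ≠ 0 ∧ r i₀ < 0
    · obtain ⟨i₀, hv₀, hr₀⟩ := hneg
      have hall : ∀ j, v j ≠ 0 → 0 ≤ -r j := fun j hj => by
        have := hne i₀ j hv₀ hj hr₀
        omega
      refine not_isClosed_range_orbit (k := k) (fun i => -r i) v hall hv₀ (by omega) ?_
      have : (MvPolynomial.aeval fun i => (v i) • (T (-r i) : k[T;T⁻¹]) :
          MvPolynomial ι k →ₐ[k] k[T;T⁻¹]) =
          (LaurentPolynomial.invert (R := k)).toAlgHom.comp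
            (GLin.orbitHom k k[T;T⁻¹] (GLin.vecPt k ι v)) := by
        apply MvPolynomial.algHom_ext
        intro i
        rw [AlgHom.comp_apply, hφ, MvPolynomial.aeval_X, MvPolynomial.aeval_X]
        change _ = LaurentPolynomial.invert _
        rw [map_smul, LaurentPolynomial.invert_T]
      rw [this, range_comap_invert]
      exact hcl'
    · push Not at hneg
      by_cases hpos : ∃ i₀, v i₀ ≠ 0 ∧ 0 < r i₀
      · obtain ⟨i₀, hv₀, hr₀⟩ := hpos
        refine not_isClosed_range_orbit (k := k) r v hneg hv₀ hr₀ ?_
        rw [← hφ]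
        exact hcl'
      · push Not at hpos
        have hzero : ∀ i, v i ≠ 0 → r i = 0 := fun i hi => le_antisymm (hpos i hi) (hneg i hi)
        have hconst : GLin.orbitHom k k[T;T⁻¹] (GLin.vecPt k ι v) =
            (Algebra.ofId k k[T;T⁻¹]).comp (GLin.vecPt k ι v) := by
          rw [hφ]
          apply MvPolynomial.algHom_ext
          intro i
          rw [MvPolynomial.aeval_X, AlgHom.comp_apply]
          have : GLin.vecPt k ι v (MvPolynomial.X i) = v i := by simp [GLin.vecPt]
          rw [this, Algebra.ofId_apply, Algebra.algebraMap_eq_smul_one]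
          by_cases hi : v i = 0
          · rw [hi, zero_smul, zero_smul]
          · rw [hzero i hi, T_zero]
        have hbot : GLin.stabIdeal k k[T;T⁻¹] (GLin.vecPt k ι v) = ⊥ := by
          rw [GLin.stabIdeal, hconst, eq_bot_iff, Ideal.map_le_iff_le_comap]
          intro F hF
          have hF' : GLin.vecPt k ι v F = 0 := hF
          change (Algebra.ofId k k[T;T⁻¹]).comp (GLin.vecPt k ι v) F ∈ (⊥ : Ideal _)
          rw [AlgHom.comp_apply, hF', map_zero]
          exact Ideal.zero_mem _
        rw [hbot] at hfin'
        apply not_finite_laurent (k := k)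
        exact Module.Finite.equiv (AlgEquiv.quotientBot k k[T;T⁻¹]).toLinearEquiv
  · rintro ⟨i, j, hvi, hvj, hri, hrj⟩
    refine ⟨?_, ?_⟩
    · change IsClosed (Set.range (PrimeSpectrum.comap
        (GLin.orbitHom k k[T;T⁻¹] (GLin.vecPt k ι v)).toRingHom))
      rw [hφ]
      exact isClosed_range_orbit r v hvi hvj hri hrj
    · change Module.Finite k (k[T;T⁻¹] ⧸ GLin.stabIdeal k k[T;T⁻¹] (GLin.vecPt k ι v))
      refine finite_quotient_of_T_sub_one_mem _ (n := r j) (by omega) ?_
      have hmem : (MvPolynomial.C (v j)⁻¹ * (MvPolynomial.X j - MvPolynomial.C (v j)) : MvPolynomial ι k) ∈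
          RingHom.ker (GLin.vecPt k ι v) := by
        refine Ideal.mul_mem_left _ _ ?_
        rw [RingHom.mem_ker, map_sub]
        simp [GLin.vecPt]
      have := Ideal.mem_map_of_mem (GLin.orbitHom k k[T;T⁻¹] (GLin.vecPt k ι v)) hmem
      rw [hφ, map_mul, map_sub, MvPolynomial.aeval_X, MvPolynomial.aeval_C, MvPolynomial.aeval_C,
        Algebra.algebraMap_eq_smul_one, Algebra.algebraMap_eq_smul_one, smul_mul_assoc, _root_.one_mul,
        smul_sub, smul_smul, smul_smul, inv_mul_cancel₀ hvj, one_smul, one_smul] at this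
      rw [GLin.stabIdeal, hφ]
      exact this

end Groth.Agent.S19423
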