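import Groth.Statements.S19434
import Groth.Agent.Lib.Helper15.HY2
-- import your own Groth.Agent.* helpers here

set_option autoImplicit false
universe u
open Coherent

namespace Groth.Agent.S19434

open CategoryTheory CategoryTheory.Limits AlgebraicGeometry in
/-- Let F be a field, d ≥ 1, k ≥ 1, P = P^{d+1}_F, and X ⊆ P a hypersurface of degree k: a closed
subscheme (ideal sheaf I) whose ideal sheaf is isomorphic, as an O_P-module, to O_P(-k) —
equivalently X is cut out by one nonzero form q of degree k, with homogeneous coordinate ring A =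
F[x_0, …, x_{d+1}]/(q), whose degree-m piece has dimension a(m) = C(m+d+1, d+1) - C(m-k+d+1, d+1) (a
binomial coefficient with a negative upper entry read as 0). For an integer n let O_X(n) denote the
O_P-module O_X ⊗ O_P(n). Then H^p(P, O_X(n)) vanishes for every p different from 0 and d, H^0(P,
O_X(n)) is a finite-dimensional F-vector space of dimension a(n), and H^d(P, O_X(n)) is
finite-dimensional of dimension a(k-2-d-n). Only the vanishing, the finiteness and the dimensions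
are stated here; the identifications of H^0(P, O_X(n)) with A_n and of H^d(P, O_X(n)) with the dual
of A_{k-2-d-n} are not. -/
theorem result (F : Type u) [Field F] (d k : ℕ)
    (hd : 1 ≤ d) (hk : 1 ≤ k) (I : (CohB1.ProjSpace (d + 1) F).IdealSheafData)
    (hI : Nonempty (ClSub.idealMod I ≅ Twist.twistProjSpace (d + 1) F (-(k : ℤ)))) (n : ℤ) :
    (∀ p : ℕ, p ≠ 0 → p ≠ d →
      Subsingleton (Coh.HH (CohB1.ProjSpace (d + 1) F)
        (CohB1.tensorMod (ClSub.quotMod I) (Twist.twistProjSpace (d + 1) F n)) p)) ∧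
    (Module.Finite F (Coh.HH (CohB1.ProjSpace (d + 1) F)
        (CohB1.tensorMod (ClSub.quotMod I) (Twist.twistProjSpace (d + 1) F n)) 0) ∧
      Module.finrank F (Coh.HH (CohB1.ProjSpace (d + 1) F)
        (CohB1.tensorMod (ClSub.quotMod I) (Twist.twistProjSpace (d + 1) F n)) 0) =
        (Nat.choose (n + ((d : ℤ) + 1)).toNat (d + 1) - Nat.choose (n - (k : ℤ) + ((d : ℤ) + 1)).toNat (d + 1))) ∧
    (Module.Finite F (Coh.HH (CohB1.ProjSpace (d + 1) F)
        (CohB1.tensorMod (ClSub.quotMod I) (Twist.twistProjSpace (d + 1) F n)) d) ∧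
      Module.finrank F (Coh.HH (CohB1.ProjSpace (d + 1) F)
        (CohB1.tensorMod (ClSub.quotMod I) (Twist.twistProjSpace (d + 1) F n)) d) =
        (Nat.choose (((k : ℤ) - 2 - (d : ℤ) - n) + ((d : ℤ) + 1)).toNat (d + 1) - Nat.choose (((k : ℤ) - 2 - (d : ℤ) - n) - (k : ℤ) + ((d : ℤ) + 1)).toNat (d + 1))) := by
  classical
  obtain ⟨φ⟩ := hI
  have hS₀ := Groth.Agent.Lib.Helper25.HypTwist.shortExact_idealSeq I
  have hS : ((Groth.Agent.Lib.Helper25.HypTwist.idealSeq I).map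
      (Groth.Agent.Lib.Lead.TwistExact.tensorRight (Twist.twistProjSpace (d + 1) F n))).ShortExact :=
    Groth.Agent.Lib.Lead.Pn.shortExact_map_tw (d + 1) F _ hS₀ n
  generalize hSdef : (Groth.Agent.Lib.Helper25.HypTwist.idealSeq I).map
      (Groth.Agent.Lib.Lead.TwistExact.tensorRight (Twist.twistProjSpace (d + 1) F n)) = S at hS
  have hX₁ : S.X₁ = CohB1.tensorMod (ClSub.idealMod I) (Twist.twistProjSpace (d + 1) F n) := by
    rw [← hSdef]; rfl
  have hX₂ : S.X₂ = CohB1.tensorMod (Coh.structureModule (CohB1.ProjSpace (d + 1) F))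
      (Twist.twistProjSpace (d + 1) F n) := by
    rw [← hSdef]; rfl
  have hX₃ : S.X₃ = CohB1.tensorMod (ClSub.quotMod I) (Twist.twistProjSpace (d + 1) F n) := by
    rw [← hSdef]; rfl
  obtain ⟨τ⟩ := Groth.Agent.Lib.Lead.Pn.nonempty_twist_tensor_iso (d + 1) F (-(k : ℤ)) n
  let e₁ : S.X₁ ≅ Twist.twistProjSpace (d + 1) F (-(k : ℤ) + n) :=
    eqToIso hX₁ ≪≫ Groth.Agent.Lib.Helper29.QCoh.tensorCongr φ (Iso.refl _) ≪≫ τ
  let e₂ : S.X₂ ≅ Twist.twistProjSpace (d + 1) F n :=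
    eqToIso hX₂ ≪≫ Groth.Agent.Lib.Helper29.QCoh.tensorUnitL _
  -- the ideal sheaf is nonzero
  have hInz : ¬ IsZero (ClSub.idealMod I) := by
    intro hz
    have hz' : IsZero (Twist.twistProjSpace (d + 1) F (-(k : ℤ))) := hz.of_iso φ.symm
    obtain ⟨τ'⟩ := Groth.Agent.Lib.Lead.Pn.nonempty_twist_tensor_iso (d + 1) F (-(k : ℤ)) (k : ℤ)
    have hz'' : IsZero (Twist.twistProjSpace (d + 1) F (-(k : ℤ) + k)) :=
      ((Groth.Agent.Lib.Lead.TwistExact.tensorRight
        (Twist.twistProjSpace (d + 1) F (k : ℤ))).map_isZero hz').of_iso τ'.symm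
    have hsub : Subsingleton (Coh.HH (CohB1.ProjSpace (d + 1) F)
        (Twist.twistProjSpace (d + 1) F (-(k : ℤ) + k)) 0) :=
      Groth.Agent.Lib.Helper18.CZ1.subsingleton_HH_of_isZero hz'' 0
    have hfr := Groth.Agent.Lib.Helper15.HY2.finrank_HH_zero_twist F (d + 1) (by omega)
      (-(k : ℤ) + k)
    rw [Module.finrank_zero_of_subsingleton] at hfr
    have h1 : (-(k : ℤ) + k + ((d + 1 : ℕ) : ℤ)).toNat = d + 1 := by omega
    rw [h1, Nat.choose_self] at hfr
    exact absurd hfr (by norm_num)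
  have hC_top : ∀ j, d + 1 ≤ j → Subsingleton (Coh.HH (CohB1.ProjSpace (d + 1) F) S.X₃ j) := by
    intro j hj
    rw [hX₃]
    exact Groth.Agent.Lib.Helper15.HY1.subsingleton_HH_quot_tw F (d + 1) (by omega) I hInz n j hj
  have hAv : ∀ q, q ≠ 0 → q ≠ d + 1 →
      Subsingleton (Coh.HH (CohB1.ProjSpace (d + 1) F) S.X₁ q) := by
    intro q h0 h1
    haveI : Subsingleton (Coh.HH (CohB1.ProjSpace (d + 1) F)
        (Twist.twistProjSpace (d + 1) F (-(k : ℤ) + n)) q) :=
      Groth.Agent.S0844.result F (d + 1) _ q (fun h => h0 h.1) (fun h => h1 h.1)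
    exact (Groth.Agent.Lib.Helper15.HY2.HHlinEquiv F e₁ q).toEquiv.subsingleton
  have hBv : ∀ q, q ≠ 0 → q ≠ d + 1 →
      Subsingleton (Coh.HH (CohB1.ProjSpace (d + 1) F) S.X₂ q) := by
    intro q h0 h1
    haveI : Subsingleton (Coh.HH (CohB1.ProjSpace (d + 1) F)
        (Twist.twistProjSpace (d + 1) F n) q) :=
      Groth.Agent.S0844.result F (d + 1) _ q (fun h => h0 h.1) (fun h => h1 h.1)
    exact (Groth.Agent.Lib.Helper15.HY2.HHlinEquiv F e₂ q).toEquiv.subsingleton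
  rw [← hX₃]
  refine ⟨fun p hp0 hpd => ?_, ?_, ?_⟩
  · rcases Nat.lt_or_ge p (d + 1) with hlt | hge
    · have hB : Subsingleton (Coh.HH (CohB1.ProjSpace (d + 1) F) S.X₂ p) :=
        hBv p hp0 (by omega)
      have hA' : Subsingleton (Coh.HH (CohB1.ProjSpace (d + 1) F) S.X₁ (p + 1)) :=
        hAv (p + 1) (by omega) (by omega)
      exact Groth.Agent.Lib.Lead.Pn.subsingleton_HH_X₃ S hS p hB hA'
    · exact hC_top p hge
  · haveI : Module.Finite F (Coh.HH (CohB1.ProjSpace (d + 1) F)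
        (Twist.twistProjSpace (d + 1) F n) 0) :=
      Groth.Agent.Lib.Lead.Pn.module_finite_HH_twist (d + 1) F n 0
    haveI : Module.Finite F (Coh.HH (CohB1.ProjSpace (d + 1) F) S.X₂ 0) :=
      Module.Finite.equiv (Groth.Agent.Lib.Helper15.HY2.HHlinEquiv F e₂ 0).symm
    have hA1 : Subsingleton (Coh.HH (CohB1.ProjSpace (d + 1) F) S.X₁ (0 + 1)) :=
      hAv 1 (by omega) (by omega)
    obtain ⟨hfin, hrk⟩ := Groth.Agent.Lib.Helper15.HY2.finrank_HH_zero_X₃ F S hS hA1
    refine ⟨hfin, ?_⟩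
    rw [hrk, (Groth.Agent.Lib.Helper15.HY2.HHlinEquiv F e₂ 0).finrank_eq,
      (Groth.Agent.Lib.Helper15.HY2.HHlinEquiv F e₁ 0).finrank_eq,
      Groth.Agent.Lib.Helper15.HY2.finrank_HH_zero_twist F (d + 1) (by omega),
      Groth.Agent.Lib.Helper15.HY2.finrank_HH_zero_twist F (d + 1) (by omega)]
    have a1 : n + ((d + 1 : ℕ) : ℤ) = n + ((d : ℤ) + 1) := by push_cast; ring
    have a2 : -(k : ℤ) + n + ((d + 1 : ℕ) : ℤ) = n - (k : ℤ) + ((d : ℤ) + 1) := by
      push_cast; ring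
    rw [a1, a2]
  · haveI : Module.Finite F (Coh.HH (CohB1.ProjSpace (d + 1) F)
        (Twist.twistProjSpace (d + 1) F (-(k : ℤ) + n)) (d + 1)) :=
      Groth.Agent.Lib.Lead.Pn.module_finite_HH_twist (d + 1) F _ (d + 1)
    haveI : Module.Finite F (Coh.HH (CohB1.ProjSpace (d + 1) F) S.X₁ (d + 1)) :=
      Module.Finite.equiv (Groth.Agent.Lib.Helper15.HY2.HHlinEquiv F e₁ (d + 1)).symm
    have hB : Subsingleton (Coh.HH (CohB1.ProjSpace (d + 1) F) S.X₂ d) :=
      hBv d (by omega) (by omega)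
    obtain ⟨hfin, hrk⟩ := Groth.Agent.Lib.Helper15.HY2.finrank_HH_X₃_of_top F S hS d hB
      (hC_top (d + 1) le_rfl)
    refine ⟨hfin, ?_⟩
    rw [hrk, (Groth.Agent.Lib.Helper15.HY2.HHlinEquiv F e₁ (d + 1)).finrank_eq,
      (Groth.Agent.Lib.Helper15.HY2.HHlinEquiv F e₂ (d + 1)).finrank_eq,
      Groth.Agent.Lib.Helper15.HY2.finrank_HH_top_twist F (d + 1) (by omega),
      Groth.Agent.Lib.Helper15.HY2.finrank_HH_top_twist F (d + 1) (by omega)]
    have a1 : -(-(k : ℤ) + n) - 1 = ((k : ℤ) - 2 - (d : ℤ) - n) + ((d : ℤ) + 1) := by ring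
    have a2 : -n - 1 = ((k : ℤ) - 2 - (d : ℤ) - n) - (k : ℤ) + ((d : ℤ) + 1) := by ring
    rw [a1, a2]


end Groth.Agent.S19434
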