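import Groth.Statements.S19436
import Mathlib.RingTheory.Nakayama
import Mathlib.LinearAlgebra.FiniteDimensional.Lemmas
import Mathlib.RingTheory.Ideal.Quotient.Operations
import Mathlib.RingTheory.Jacobson.Ideal
-- import your own Groth.Agent.* helpers here

set_option autoImplicit false
universe u
open CAlg

namespace Groth.Agent.S19436

section aux
variable {k : Type*} [Field k] {R : Type*} [CommRing R] [Algebra k R]

theorem finite_quotient_of_le {J J' : Ideal R} (h : J ≤ J') [Module.Finite k (R ⧸ J)] :
    Module.Finite k (R ⧸ J') :=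
  Module.Finite.of_surjective (Ideal.Quotient.factorₐ k h).toLinearMap
    (Ideal.Quotient.factor_surjective h)

theorem finrank_quotient_le {J J' : Ideal R} (h : J ≤ J') [Module.Finite k (R ⧸ J)] :
    Module.finrank k (R ⧸ J') ≤ Module.finrank k (R ⧸ J) :=
  LinearMap.finrank_le_finrank_of_surjective (f := (Ideal.Quotient.factorₐ k h).toLinearMap)
    (Ideal.Quotient.factor_surjective h)

theorem finrank_quotient_lt {J J' : Ideal R} (h : J < J') [Module.Finite k (R ⧸ J)] :
    Module.finrank k (R ⧸ J') < Module.finrank k (R ⧸ J) := by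
  have hfin : Module.Finite k (R ⧸ J') := finite_quotient_of_le h.le
  set f := (Ideal.Quotient.factorₐ k h.le).toLinearMap with hf
  have hsurj : Function.Surjective f := Ideal.Quotient.factor_surjective h.le
  have h1 := LinearMap.finrank_range_add_finrank_ker f
  rw [LinearMap.range_eq_top.mpr hsurj, finrank_top] at h1
  obtain ⟨x, hxJ', hxJ⟩ := Set.exists_of_ssubset h
  have hker : 0 < Module.finrank k (LinearMap.ker f) := by
    rw [Module.finrank_pos_iff_exists_ne_zero]
    refine ⟨⟨Ideal.Quotient.mk J x, ?_⟩, ?_⟩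
    · rw [LinearMap.mem_ker]
      change Ideal.Quotient.factor h.le (Ideal.Quotient.mk J x) = 0
      rw [Ideal.Quotient.factor_mk, Ideal.Quotient.eq_zero_iff_mem]
      exact hxJ'
    · intro h0
      have := congrArg Subtype.val h0
      simp only [ZeroMemClass.coe_zero] at this
      exact hxJ (Ideal.Quotient.eq_zero_iff_mem.mp this)
  omega

end aux

/-- For a Noetherian local commutative algebra R over a field k, with maximal ideal M, and an ideal I of
R whose quotient R/I is finite-dimensional over k of dimension n, the power M^n lies in I. -/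
theorem result (k : Type u) [Field k] (R : Type u) [CommRing R]
    [Algebra k R] [IsNoetherianRing R] [IsLocalRing R] (I : Ideal R) [Module.Finite k (R ⧸ I)] (n : ℕ)
    (hn : Module.finrank k (R ⧸ I) = n) : IsLocalRing.maximalIdeal R ^ n ≤ I := by
  set M := IsLocalRing.maximalIdeal R with hM
  by_contra hcon
  have hfinJ : ∀ j : ℕ, Module.Finite k (R ⧸ (I ⊔ M ^ j)) := fun j =>
    finite_quotient_of_le (k := k) (le_sup_left : I ≤ I ⊔ M ^ j)
  have hstrict : ∀ j : ℕ, ¬ M ^ j ≤ I →
      Module.finrank k (R ⧸ (I ⊔ M ^ j)) < Module.finrank k (R ⧸ (I ⊔ M ^ (j + 1))) := by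
    intro j hj
    have hle : I ⊔ M ^ (j + 1) ≤ I ⊔ M ^ j :=
      sup_le_sup_left (Ideal.pow_le_pow_right (Nat.le_succ j)) I
    have hne : I ⊔ M ^ (j + 1) ≠ I ⊔ M ^ j := by
      intro heq
      apply hj
      apply Submodule.le_of_le_smul_of_le_jacobson_bot (IsNoetherian.noetherian (M ^ j))
        (IsLocalRing.maximalIdeal_le_jacobson ⊥)
      rw [smul_eq_mul, ← pow_succ', ← hM, heq]
      exact le_sup_right
    have := hfinJ (j + 1)
    exact finrank_quotient_lt (k := k) (lt_of_le_of_ne hle hne)
  have hind : ∀ j : ℕ, ¬ M ^ j ≤ I → j + 1 ≤ Module.finrank k (R ⧸ (I ⊔ M ^ (j + 1))) := by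
    intro j
    induction j with
    | zero => intro h0; have := hstrict 0 h0; omega
    | succ j ih =>
      intro hj
      have hj' : ¬ M ^ j ≤ I := fun h => hj ((Ideal.pow_le_pow_right (Nat.le_succ j)).trans h)
      have h1 := ih hj'
      have h2 := hstrict (j + 1) hj
      omega
  have h1 := hind n hcon
  have h2 : Module.finrank k (R ⧸ (I ⊔ M ^ (n + 1))) ≤ Module.finrank k (R ⧸ I) :=
    finrank_quotient_le (k := k) le_sup_left
  omega

end Groth.Agent.S19436
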