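import Groth.Statements.S19438
-- import your own Groth.Agent.* helpers here

set_option autoImplicit false
universe u
open CAlg

namespace Groth.Agent.S19438

/-- First assertion: let A be a Noetherian local commutative algebra over a field k with maximal ideal
M, residue field k (the map from k to A/M is onto) and embedding dimension dim M/M^2 at least 2, and
let I be a proper ideal with A/I finite-dimensional over k. If A/I is generated as a k-algebra by
one element, then some element of I does not lie in M^2; that is, the finite closed subscheme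
defined by I lies on a smooth hypersurface germ (it is curvilinear). (The published statement is for
the local ring of a smooth surface at a closed point; only a Noetherian local algebra with residue
field k and embedding dimension at least 2 is assumed here, which is what the published argument
uses.) -/
theorem result (k : Type u) [Field k]
    (A : Type u) [CommRing A] [Algebra k A] [IsNoetherianRing A] [IsLocalRing A]
    (hres : Function.Surjective (algebraMap k (IsLocalRing.ResidueField A)))
    (hemb : 2 ≤ Module.finrank (IsLocalRing.ResidueField A) (IsLocalRing.CotangentSpace A))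
    (I : Ideal A) (hI : I ≠ ⊤) [Module.Finite k (A ⧸ I)]
    (f : A ⧸ I) (hf : Algebra.adjoin k {f} = ⊤) :
    ∃ g ∈ I, g ∉ IsLocalRing.maximalIdeal A ^ 2 := by
  by_contra hcon
  push Not at hcon
  set M := IsLocalRing.maximalIdeal A with hM
  obtain ⟨a, rfl⟩ := Ideal.Quotient.mk_surjective f
  obtain ⟨c, hc⟩ := hres (IsLocalRing.residue A a)
  set m : A := a - algebraMap k A c with hm
  have hmM : m ∈ M := by
    rw [hM, ← IsLocalRing.residue_eq_zero_iff, hm, map_sub, ← hc]
    rw [IsScalarTower.algebraMap_apply k A (IsLocalRing.ResidueField A)]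
    exact sub_self _
  have hm2 : m * m ∈ M ^ 2 := by rw [pow_two]; exact Ideal.mul_mem_mul hmM hmM
  let T : A → Prop := fun b => ∃ α β : k, b - algebraMap k A α - algebraMap k A β * m ∈ M ^ 2
  have hTquot : ∀ x : A ⧸ I, ∃ b, T b ∧ Ideal.Quotient.mk I b = x := by
    intro x
    have hx : x ∈ Algebra.adjoin k {Ideal.Quotient.mk I a} := by rw [hf]; trivial
    induction hx using Algebra.adjoin_induction with
    | mem x hx =>
      rw [Set.mem_singleton_iff] at hx
      subst hx
      refine ⟨a, ⟨c, 1, ?_⟩, rfl⟩
      have : a - algebraMap k A c - algebraMap k A 1 * m = 0 := by rw [map_one, hm]; ring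
      rw [this]; exact zero_mem _
    | algebraMap r =>
      refine ⟨algebraMap k A r, ⟨r, 0, ?_⟩, rfl⟩
      simp
    | add x y _ _ hx hy =>
      obtain ⟨b1, ⟨α1, β1, h1⟩, rfl⟩ := hx
      obtain ⟨b2, ⟨α2, β2, h2⟩, rfl⟩ := hy
      refine ⟨b1 + b2, ⟨α1 + α2, β1 + β2, ?_⟩, map_add _ _ _⟩
      have : b1 + b2 - algebraMap k A (α1 + α2) - algebraMap k A (β1 + β2) * m
          = (b1 - algebraMap k A α1 - algebraMap k A β1 * m)
            + (b2 - algebraMap k A α2 - algebraMap k A β2 * m) := by
        simp only [map_add]; ring
      rw [this]; exact add_mem h1 h2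
    | mul x y _ _ hx hy =>
      obtain ⟨b1, ⟨α1, β1, h1⟩, rfl⟩ := hx
      obtain ⟨b2, ⟨α2, β2, h2⟩, rfl⟩ := hy
      refine ⟨b1 * b2, ⟨α1 * α2, α1 * β2 + α2 * β1, ?_⟩, map_mul _ _ _⟩
      have : b1 * b2 - algebraMap k A (α1 * α2) - algebraMap k A (α1 * β2 + α2 * β1) * m
          = (b1 - algebraMap k A α1 - algebraMap k A β1 * m) * b2
            + (algebraMap k A α1 + algebraMap k A β1 * m)
              * (b2 - algebraMap k A α2 - algebraMap k A β2 * m)
            + algebraMap k A β1 * algebraMap k A β2 * (m * m) := by
        simp only [map_add, map_mul]; ring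
      rw [this]
      exact add_mem (add_mem (Ideal.mul_mem_right _ _ h1) (Ideal.mul_mem_left _ _ h2))
        (Ideal.mul_mem_left _ _ hm2)
  have hTall : ∀ b : A, T b := by
    intro b
    obtain ⟨b', ⟨α, β, h1⟩, h2⟩ := hTquot (Ideal.Quotient.mk I b)
    refine ⟨α, β, ?_⟩
    have h3 : b - b' ∈ M ^ 2 := by
      apply hcon
      rw [← Ideal.Quotient.eq]
      exact h2.symm
    have : b - algebraMap k A α - algebraMap k A β * m
        = (b' - algebraMap k A α - algebraMap k A β * m) + (b - b') := by ring
    rw [this]; exact add_mem h1 h3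
  have hM2le : M ^ 2 ≤ M := Ideal.pow_le_self (by norm_num)
  have hMdecomp : ∀ b ∈ M, ∃ β : k, b - algebraMap k A β * m ∈ M ^ 2 := by
    intro b hb
    obtain ⟨α, β, h⟩ := hTall b
    refine ⟨β, ?_⟩
    have hαM : algebraMap k A α ∈ M := by
      have h1 : b - algebraMap k A α - algebraMap k A β * m ∈ M := hM2le h
      have h2 : algebraMap k A α = b - algebraMap k A β * m
          - (b - algebraMap k A α - algebraMap k A β * m) := by ring
      rw [h2]
      exact sub_mem (sub_mem hb (Ideal.mul_mem_left _ _ hmM)) h1
    have hα0 : α = 0 := by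
      by_contra hne
      have hu : IsUnit (algebraMap k A α) := (IsUnit.mk0 α hne).map _
      exact (IsLocalRing.mem_maximalIdeal _).mp hαM hu
    rw [hα0, map_zero, sub_zero] at h
    exact h
  have hle : Module.finrank (IsLocalRing.ResidueField A) (IsLocalRing.CotangentSpace A) ≤ 1 := by
    apply finrank_le_one (M.toCotangent ⟨m, hmM⟩)
    intro w
    obtain ⟨⟨b, hb⟩, rfl⟩ := M.toCotangent_surjective w
    obtain ⟨β, hβ⟩ := hMdecomp b hb
    refine ⟨IsLocalRing.residue A (algebraMap k A β), ?_⟩
    rw [← IsLocalRing.ResidueField.algebraMap_eq, algebraMap_smul, ← map_smul,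
      Ideal.toCotangent_eq]
    have : (((algebraMap k A β) • (⟨m, hmM⟩ : M) : M) : A) - b = -(b - algebraMap k A β * m) := by
      simp only [Submodule.coe_smul_of_tower, smul_eq_mul]; ring
    rw [this]
    exact neg_mem hβ
  omega

end Groth.Agent.S19438
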