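import Groth.Statements.S19439
-- import your own Groth.Agent.* helpers here

set_option autoImplicit false
universe u
open CAlg

namespace Groth.Agent.S19439

/-- Affine form: for all n and N there is an integer d, that depends only on n and N, such that for
every algebraically closed field k and every ideal I of the polynomial ring in N variables over k
whose quotient has finite dimension n over k, the polynomials of total degree at most d map onto the
quotient. -/
theorem result (n N : ℕ) :
    ∃ d : ℕ, ∀ (k : Type u) [Field k] [IsAlgClosed k] (I : Ideal (MvPolynomial (Fin N) k))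
      [Module.Finite k (MvPolynomial (Fin N) k ⧸ I)],
      Module.finrank k (MvPolynomial (Fin N) k ⧸ I) = n →
      Submodule.map (Ideal.Quotient.mkₐ k I).toLinearMap (MvPolynomial.restrictTotalDegree (Fin N) k d) = ⊤ := by
  refine ⟨n, ?_⟩
  intro k _ _ I _ hfin
  set φ := (Ideal.Quotient.mkₐ k I).toLinearMap with hφ
  let V : ℕ → Submodule k (MvPolynomial (Fin N) k ⧸ I) := fun d =>
    Submodule.map φ (MvPolynomial.restrictTotalDegree (Fin N) k d)
  have hmono : ∀ d e, d ≤ e → V d ≤ V e := by
    intro d e hde
    apply Submodule.map_mono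
    intro p hp
    rw [MvPolynomial.mem_restrictTotalDegree] at hp ⊢
    exact hp.trans hde
  have hone : ∀ d, (1 : MvPolynomial (Fin N) k ⧸ I) ∈ V d := by
    intro d
    refine ⟨1, ?_, ?_⟩
    · rw [SetLike.mem_coe, MvPolynomial.mem_restrictTotalDegree, MvPolynomial.totalDegree_one]
      exact Nat.zero_le _
    · simp [hφ]
  have hX : ∀ d (i : Fin N), ∀ y ∈ V d,
      Ideal.Quotient.mk I (MvPolynomial.X i) * y ∈ V (d + 1) := by
    rintro d i _ ⟨p, hp, rfl⟩
    refine ⟨MvPolynomial.X i * p, ?_, ?_⟩
    · rw [SetLike.mem_coe, MvPolynomial.mem_restrictTotalDegree] at hp ⊢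
      calc (MvPolynomial.X i * p).totalDegree
          ≤ (MvPolynomial.X i : MvPolynomial (Fin N) k).totalDegree + p.totalDegree :=
            MvPolynomial.totalDegree_mul _ _
        _ ≤ 1 + d := by
            gcongr
            exact (MvPolynomial.totalDegree_X i).le
        _ = d + 1 := add_comm _ _
    · simp [hφ]
  have hstab : ∀ d, V d = V (d + 1) → V d = ⊤ := by
    intro d hd
    rw [eq_top_iff]
    rintro y -
    obtain ⟨p, rfl⟩ := Ideal.Quotient.mk_surjective y
    induction p using MvPolynomial.induction_on with
    | C a =>
      have : Ideal.Quotient.mk I (MvPolynomial.C a) = a • (1 : MvPolynomial (Fin N) k ⧸ I) := by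
        rw [← map_one (Ideal.Quotient.mk I), ← Ideal.Quotient.mkₐ_eq_mk k, ← map_smul,
          MvPolynomial.smul_eq_C_mul, mul_one]
      rw [this]
      exact Submodule.smul_mem _ _ (hone d)
    | add p q hp hq =>
      rw [map_add]; exact add_mem hp hq
    | mul_X p i hp =>
      rw [map_mul, mul_comm, hd]
      exact hX d i _ hp
  -- dimension argument
  by_contra hne
  have hne' : ∀ d, d ≤ n → V d ≠ V (d + 1) := by
    intro d hd h
    apply hne
    rw [eq_top_iff, ← hstab d h]
    exact hmono d n hd
  have hdim : ∀ d, d ≤ n + 1 → d ≤ Module.finrank k (V d) := by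
    intro d
    induction d with
    | zero => intro _; exact Nat.zero_le _
    | succ d ih =>
      intro hd
      have hlt : V d < V (d + 1) := lt_of_le_of_ne (hmono d (d + 1) (Nat.le_succ d)) (hne' d (by omega))
      have := Submodule.finrank_lt_finrank_of_lt hlt
      have := ih (by omega)
      omega
  have h1 := hdim (n + 1) le_rfl
  have h2 := Submodule.finrank_le (V (n + 1))
  omega

end Groth.Agent.S19439
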