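import Groth.Statements.S19443
-- import your own Groth.Agent.* helpers here

set_option autoImplicit false
universe u
open LinAlg

namespace Groth.Agent.S19443

/-- Algebraic form: let G be a finite group with order invertible in the field k, ρ a linear
representation of G on a k-vector space V, and ω a nondegenerate bilinear form on V invariant under
G. Then ω restricted to the fixed subspace V^G is nondegenerate (for a finite group of symplectic
automorphisms, the fixed subspace is a symplectic subspace). -/
theorem result (k : Type u) [Field k]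
    (G : Type u) [Group G] [Finite G] (hG : (Nat.card G : k) ≠ 0)
    (V : Type u) [AddCommGroup V] [Module k V] (ρ : Representation k G V)
    (ω : LinearMap.BilinForm k V) (hω : ω.Nondegenerate)
    (hinv : ∀ (g : G) (v w : V), ω (ρ g v) (ρ g w) = ω v w) :
    (ω.restrict ρ.invariants).Nondegenerate := by
  classical
  haveI : Fintype G := Fintype.ofFinite G
  have hcard : (Fintype.card G : k) ≠ 0 := by rwa [← Nat.card_eq_fintype_card]
  -- the sum over the group is invariant
  have hsum_inv : ∀ w : V, (∑ g : G, ρ g w) ∈ ρ.invariants := by
    intro w h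
    rw [map_sum]
    simp_rw [← Module.End.mul_apply, ← map_mul]
    exact Fintype.sum_equiv (Equiv.mulLeft h) _ _ (fun g => rfl)
  have hmove : ∀ (g : G) (v w : V), ω v (ρ g w) = ω (ρ g⁻¹ v) w := by
    intro g v w
    rw [← hinv g⁻¹ v (ρ g w), ← Module.End.mul_apply, ← map_mul, inv_mul_cancel, map_one,
      Module.End.one_apply]
  have hmove' : ∀ (g : G) (v w : V), ω (ρ g v) w = ω v (ρ g⁻¹ w) := by
    intro g v w
    rw [hmove, inv_inv]
  constructor
  · rintro ⟨v, hv⟩ h
    have hv0 : v = 0 := by
      apply hω.1 v
      intro w
      have h1 := h ⟨∑ g : G, ρ g w, hsum_inv w⟩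
      simp only [LinearMap.BilinForm.restrict_apply, LinearMap.domRestrict_apply] at h1
      change ω v (∑ g : G, ρ g w) = 0 at h1
      rw [map_sum] at h1
      have h2 : ∀ g : G, ω v (ρ g w) = ω v w := by
        intro g
        rw [hmove, hv g⁻¹]
      simp_rw [h2] at h1
      rw [Finset.sum_const, Finset.card_univ, nsmul_eq_mul] at h1
      exact (mul_eq_zero.mp h1).resolve_left hcard
    exact Subtype.ext hv0
  · rintro ⟨v, hv⟩ h
    have hv0 : v = 0 := by
      apply hω.2 v
      intro w
      have h1 := h ⟨∑ g : G, ρ g w, hsum_inv w⟩
      simp only [LinearMap.BilinForm.restrict_apply, LinearMap.domRestrict_apply] at h1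
      change ω (∑ g : G, ρ g w) v = 0 at h1
      rw [map_sum, LinearMap.sum_apply] at h1
      have h2 : ∀ g : G, ω (ρ g w) v = ω w v := by
        intro g
        rw [hmove', hv g⁻¹]
      simp_rw [h2] at h1
      rw [Finset.sum_const, Finset.card_univ, nsmul_eq_mul] at h1
      exact (mul_eq_zero.mp h1).resolve_left hcard
    exact Subtype.ext hv0

end Groth.Agent.S19443
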