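import Groth.Statements.S19444
import Groth.Agent.Lib.Helper15.Polarization
import Groth.Agent.Lib.Helper15.AltSpanDet
-- import your own Groth.Agent.* helpers here

set_option autoImplicit false
universe u
open SymTen

namespace Groth.Agent.S19444

/-- Linearised norm: let A be a commutative ring in which n! is invertible and R a commutative
A-algebra, free of rank n as an A-module. There is a unique A-algebra homomorphism from the
symmetric tensors TS^n_A(R) to A taking r ⊗ ⋯ ⊗ r to the norm of r for every r in R. (The published
corollary is stated for any free algebra of rank n; the construction printed for it divides by n!,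
and n! invertible is assumed here.) -/
theorem result (A : Type u) [CommRing A] (R : Type u) [CommRing R]
    [Algebra A R] [Module.Free A R] [Module.Finite A R] (n : ℕ) (hn : Module.finrank A R = n)
    (hfact : IsUnit ((Nat.factorial n : ℕ) : A)) :
    ∃! φ : SymTen.TS A R n →ₐ[A] A, ∀ r : R, φ (SymTen.tpow A R n r) = Algebra.norm A r := by
  classical
  -- Step 1: the diagonal tensors span `TS`
  have hspan : ∀ t : SymTen.TS A R n,
      t ∈ Submodule.span A (Set.range fun r : R => SymTen.tpow A R n r) := by
    intro t
    obtain ⟨u, hu⟩ := hfact.exists_left_inv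
    have h1 : Groth.Agent.Lib.Helper15.Polarization.symm (A := A) (M := R) (n := n) t.1 =
        ((Nat.factorial n : ℕ) : A) • t.1 := by
      rw [Groth.Agent.Lib.Helper15.Polarization.symm_apply]
      have : ∀ σ : Equiv.Perm (Fin n),
          PiTensorProduct.reindex A (fun _ : Fin n => R) σ t.1 = t.1 := fun σ => t.2 σ
      simp_rw [this]
      rw [Finset.sum_const, Finset.card_univ, Fintype.card_perm, Fintype.card_fin,
        Nat.cast_smul_eq_nsmul]
    have h2 : t.1 = u • Groth.Agent.Lib.Helper15.Polarization.symm (A := A) (M := R) (n := n) t.1 := by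
      rw [h1, smul_smul, hu, one_smul]
    have h3 : t.1 ∈ Submodule.span A
        (Set.range fun m : R => PiTensorProduct.tprod A (fun _ : Fin n => m)) := by
      rw [h2]
      exact Submodule.smul_mem _ _ (Groth.Agent.Lib.Helper15.Polarization.symm_mem_span _)
    have h4 : (Set.range fun m : R => PiTensorProduct.tprod A (fun _ : Fin n => m)) =
        (SymTen.TS A R n).val.toLinearMap '' (Set.range fun r : R => SymTen.tpow A R n r) := by
      ext y
      constructor
      · rintro ⟨m, rfl⟩
        exact ⟨SymTen.tpow A R n m, ⟨m, rfl⟩, rfl⟩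
      · rintro ⟨_, ⟨m, rfl⟩, rfl⟩
        exact ⟨m, rfl⟩
    rw [h4, ← Submodule.map_span] at h3
    obtain ⟨t', ht', ht't⟩ := h3
    have : t' = t := Subtype.ext ht't
    rw [← this]
    exact ht'
  -- uniqueness from the span
  have huniq : ∀ φ ψ : SymTen.TS A R n →ₐ[A] A,
      (∀ r : R, φ (SymTen.tpow A R n r) = Algebra.norm A r) →
      (∀ r : R, ψ (SymTen.tpow A R n r) = Algebra.norm A r) → φ = ψ := by
    intro φ ψ hφ hψ
    apply AlgHom.toLinearMap_injective
    apply LinearMap.ext
    intro t
    have hE : Set.EqOn φ.toLinearMap ψ.toLinearMap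
        (Set.range fun r : R => SymTen.tpow A R n r) := by
      rintro _ ⟨r, rfl⟩
      simp only [AlgHom.toLinearMap_apply]
      rw [hφ, hψ]
    exact LinearMap.eqOn_span hE (hspan t)
  rcases subsingleton_or_nontrivial A with hA | hA
  · -- trivial base ring
    have hsub : Subsingleton (SymTen.TS A R n →ₐ[A] A) :=
      ⟨fun φ ψ => AlgHom.ext fun t => Subsingleton.elim _ _⟩
    let φ : SymTen.TS A R n →ₐ[A] A :=
      AlgHom.ofLinearMap 0 (Subsingleton.elim _ _) (fun _ _ => Subsingleton.elim _ _)
    exact ⟨φ, fun r => Subsingleton.elim _ _, fun ψ _ => Subsingleton.elim _ _⟩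
  · -- existence
    let b : Module.Basis (Fin n) A R := Module.finBasisOfFinrankEq A R hn
    let φ₀ : (PiTensorProduct A (fun _ : Fin n => R)) →ₗ[A] A :=
      (Groth.Agent.Lib.Helper15.AltSpanDet.detFun b) ∘ₗ
        (LinearMap.mulRight A (PiTensorProduct.tprod A (fun j => b j)))
    let ℓ : SymTen.TS A R n →ₗ[A] A := φ₀ ∘ₗ (SymTen.TS A R n).val.toLinearMap
    have hℓ : ∀ r : R, ℓ (SymTen.tpow A R n r) = Algebra.norm A r := by
      intro r
      show Groth.Agent.Lib.Helper15.AltSpanDet.detFun b
        (PiTensorProduct.tprod A (fun _ : Fin n => r) * PiTensorProduct.tprod A (fun j => b j)) = _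
      rw [PiTensorProduct.tprod_mul_tprod, Groth.Agent.Lib.Helper15.AltSpanDet.detFun_tprod]
      have : ((fun _ : Fin n => r) * fun j => b j) = (Algebra.lmul A R r) ∘ (fun j => b j) := by
        funext j; rfl
      rw [this, Module.Basis.det_comp, Algebra.norm_apply]
      have hself : b.det (fun j => b j) = 1 := b.det_self
      rw [hself, mul_one]
    have hone : ℓ 1 = 1 := by
      have := hℓ 1
      rw [map_one (SymTen.tpow A R n), map_one (Algebra.norm A)] at this
      exact this
    have hmul : ∀ s t : SymTen.TS A R n, ℓ (s * t) = ℓ s * ℓ t := by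
      intro s t
      have hs := hspan s
      induction hs using Submodule.span_induction with
      | mem s hs =>
        obtain ⟨r, rfl⟩ := hs
        have ht := hspan t
        induction ht using Submodule.span_induction with
        | mem t ht =>
          obtain ⟨r', rfl⟩ := ht
          show ℓ (SymTen.tpow A R n r * SymTen.tpow A R n r') = _
          rw [← map_mul, hℓ, hℓ, hℓ, map_mul]
        | zero => simp
        | add x y _ _ hx hy => rw [mul_add, map_add, map_add, hx, hy, mul_add]
        | smul a x _ hx => rw [mul_smul_comm, map_smul, map_smul, hx, smul_eq_mul, smul_eq_mul]; ring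
      | zero => simp
      | add x y _ _ hx hy => rw [add_mul, map_add, map_add, hx, hy, add_mul]
      | smul a x _ hx => rw [smul_mul_assoc, map_smul, map_smul, hx, smul_eq_mul, smul_eq_mul]; ring
    let φ : SymTen.TS A R n →ₐ[A] A := AlgHom.ofLinearMap ℓ hone hmul
    refine ⟨φ, fun r => hℓ r, fun ψ hψ => huniq ψ φ hψ (fun r => hℓ r)⟩

end Groth.Agent.S19444
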