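import Groth.Statements.S19445
import Mathlib
import Groth.Agent.Lib.Helper12.RegularSeqQuot

set_option autoImplicit false
universe u
open CAlg

namespace Groth.Agent.S19445
open IsLocalRing

section
variable (k : Type u) [Field k] (A : Type u) [CommRing A] [Algebra k A]
  (G : Type u) [Group G] [Fintype G] [MulSemiringAction G A] [SMulCommClass G k A]

/-- averaging operator -/
noncomputable def avg : A →ₗ[k] A :=
  ((Fintype.card G : k)⁻¹) • ∑ g : G, DistribSMul.toLinearMap k A g

/-- the ideal of coinvariants -/
def JJ : Ideal A := Ideal.span {x : A | ∃ (g : G) (a : A), x = g • a - a}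

variable {k A G}

omit [Fintype G] in
lemma JJ_stable (g : G) {x : A} (hx : x ∈ JJ A G) : g • x ∈ JJ A G := by
  have : JJ A G ≤ (JJ A G).comap (MulSemiringAction.toRingHom G A g) := by
    refine Ideal.span_le.mpr ?_
    rintro _ ⟨h, a, rfl⟩
    change g • (h • a - a) ∈ JJ A G
    have : g • (h • a - a) = ((g * h) • a - a) - (g • a - a) := by
      rw [smul_sub, mul_smul]; ring
    rw [this]
    exact sub_mem (Ideal.subset_span ⟨_, _, rfl⟩) (Ideal.subset_span ⟨_, _, rfl⟩)
  exact this hx

lemma avg_apply (a : A) : avg k A G a = ((Fintype.card G : k)⁻¹) • ∑ g : G, g • a := by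
  simp only [avg, LinearMap.smul_apply, LinearMap.sum_apply]
  rfl

lemma smul_avg (g : G) (a : A) : g • avg k A G a = avg k A G a := by
  rw [avg_apply, smul_comm, Finset.smul_sum]
  congr 1
  simp_rw [← mul_smul]
  exact Fintype.sum_equiv (Equiv.mulLeft g) _ _ (fun h => rfl)

lemma avg_smul (g : G) (a : A) : avg k A G (g • a) = avg k A G a := by
  rw [avg_apply, avg_apply]
  congr 1
  simp_rw [← mul_smul]
  exact Fintype.sum_equiv (Equiv.mulRight g) _ _ (fun h => rfl)

lemma avg_mem (L : Ideal A) (hL : ∀ (g : G) (x : A), x ∈ L → g • x ∈ L) {x : A} (hx : x ∈ L) :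
    avg k A G x ∈ L := by
  rw [avg_apply]
  exact Submodule.smul_of_tower_mem _ _ (Ideal.sum_mem _ fun g _ => hL g x hx)

lemma avg_avg_mul (a b : A) : avg k A G (avg k A G a * b) = avg k A G a * avg k A G b := by
  conv_lhs => rw [avg_apply]
  simp_rw [smul_mul', smul_avg]
  rw [← Finset.mul_sum, ← mul_smul_comm, ← avg_apply]

variable (hN : (Fintype.card G : k) ≠ 0)
include hN

lemma sub_avg_mem (a : A) : a - avg k A G a ∈ JJ A G := by
  have : a - avg k A G a = ((Fintype.card G : k)⁻¹) • ∑ g : G, (a - g • a) := by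
    rw [Finset.sum_sub_distrib, smul_sub, ← avg_apply, Finset.sum_const, Finset.card_univ,
      ← Nat.cast_smul_eq_nsmul k, smul_smul, inv_mul_cancel₀ hN, one_smul]
  rw [this]
  refine Submodule.smul_of_tower_mem _ _ (Ideal.sum_mem _ fun g _ => ?_)
  rw [← neg_sub]
  exact neg_mem (Ideal.subset_span ⟨_, _, rfl⟩)

lemma avg_avg (a : A) : avg k A G (avg k A G a) = avg k A G a := by
  conv_lhs => rw [avg_apply]
  simp_rw [smul_avg]
  rw [Finset.sum_const, Finset.card_univ,
      ← Nat.cast_smul_eq_nsmul k, smul_smul, inv_mul_cancel₀ hN, one_smul]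

end

section
variable {k : Type u} [Field k] {A : Type u} [CommRing A] [Algebra k A] [IsLocalRing A]
  {G : Type u} [Group G] [Fintype G] [MulSemiringAction G A] [SMulCommClass G k A]

omit [Fintype G] in
lemma max_stable (g : G) {x : A} (hx : x ∈ maximalIdeal A) : g • x ∈ maximalIdeal A := by
  rw [mem_maximalIdeal, mem_nonunits_iff] at hx ⊢
  intro h
  apply hx
  have := h.map (MulSemiringAction.toRingHom G A g⁻¹)
  simpa using this

omit [Fintype G] in
lemma JJ_le_max (hres : Function.Surjective (algebraMap k (ResidueField A))) :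
    JJ A G ≤ maximalIdeal A := by
  refine Ideal.span_le.mpr ?_
  rintro _ ⟨g, a, rfl⟩
  obtain ⟨c, hc⟩ := hres (residue A a)
  have h1 : a - algebraMap k A c ∈ maximalIdeal A := by
    rw [← residue_eq_zero_iff, map_sub, ← hc, IsScalarTower.algebraMap_apply k A (ResidueField A)]
    exact sub_self _
  have h2 : g • a - a = g • (a - algebraMap k A c) - (a - algebraMap k A c) := by
    rw [smul_sub, Algebra.algebraMap_eq_smul_one, smul_comm, smul_one]; ring
  rw [SetLike.mem_coe, h2]
  exact sub_mem (max_stable g h1) h1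

lemma sub_avg_mem_mul (hN : (Fintype.card G : k) ≠ 0) {u : A} (hu : u ∈ maximalIdeal A ^ 2) :
    u - avg k A G u ∈ maximalIdeal A * JJ A G := by
  rw [pow_two] at hu
  refine Submodule.mul_induction_on hu ?_ ?_
  · intro a ha b hb
    set a0 := avg k A G a with ha0
    set b0 := avg k A G b with hb0
    have hst : ∀ (g : G) (x : A), x ∈ maximalIdeal A * JJ A G →
        g • x ∈ maximalIdeal A * JJ A G := by
      intro g x hx
      have : maximalIdeal A * JJ A G ≤
          (maximalIdeal A * JJ A G).comap (MulSemiringAction.toRingHom G A g) := by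
        refine Ideal.mul_le.mpr fun m hm j hj => ?_
        change g • (m * j) ∈ maximalIdeal A * JJ A G
        rw [smul_mul']
        exact Ideal.mul_mem_mul (max_stable g hm) (JJ_stable g hj)
      exact this hx
    have ht : a * b - a0 * b0 ∈ maximalIdeal A * JJ A G := by
      have : a * b - a0 * b0 = a0 * (b - b0) + b * (a - a0) := by ring
      rw [this]
      exact add_mem (Ideal.mul_mem_mul (avg_mem _ (fun g x => max_stable g) ha)
        (sub_avg_mem hN b)) (Ideal.mul_mem_mul hb (sub_avg_mem hN a))
    have h2 : avg k A G (a * b - a0 * b0) = avg k A G (a * b) - a0 * b0 := by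
      rw [map_sub, ha0, avg_avg_mul, hb0, avg_avg hN]
    have h3 := avg_mem (k := k) _ hst ht
    rw [h2] at h3
    have : a * b - avg k A G (a * b) = (a * b - a0 * b0) - (avg k A G (a * b) - a0 * b0) := by
      ring
    rw [this]; exact sub_mem ht h3
  · intro x y hx hy
    have : x + y - avg k A G (x + y) = (x - avg k A G x) + (y - avg k A G y) := by
      rw [map_add]; ring
    rw [this]; exact add_mem hx hy

omit [Algebra k A] in
lemma toCotangent_sum_mul {ι : Type*} [Fintype ι] (a y : ι → A)
    (hy : ∀ i, y i ∈ maximalIdeal A) (h : ∑ j, a j * y j ∈ maximalIdeal A) :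
    (maximalIdeal A).toCotangent ⟨∑ j, a j * y j, h⟩ =
      ∑ j, residue A (a j) • (maximalIdeal A).toCotangent ⟨y j, hy j⟩ := by
  have : (⟨∑ j, a j * y j, h⟩ : maximalIdeal A) = ∑ j, a j • (⟨y j, hy j⟩ : maximalIdeal A) := by
    apply Subtype.ext
    simp
  rw [this, map_sum]
  refine Finset.sum_congr rfl fun j _ => ?_
  rw [map_smul]
  exact (algebraMap_smul (ResidueField A) (a j) _).symm

end

theorem main (k : Type u) [Field k] (A : Type u) [CommRing A]
    [Algebra k A] [IsRegularLocalRing A]
    (hres : Function.Surjective (algebraMap k (IsLocalRing.ResidueField A)))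
    (G : Type u) [Group G] [Finite G] [MulSemiringAction G A] [SMulCommClass G k A]
    (hG : (Nat.card G : k) ≠ 0) :
    IsRegularLocalRing (A ⧸ Ideal.span {x : A | ∃ (g : G) (a : A), x = g • a - a}) := by
  classical
  letI : Fintype G := Fintype.ofFinite G
  have hN : (Fintype.card G : k) ≠ 0 := by rwa [← Nat.card_eq_fintype_card]
  change IsRegularLocalRing (A ⧸ JJ A G)
  have hJM : JJ A G ≤ maximalIdeal A := JJ_le_max hres
  let T : Set (CotangentSpace A) := {v | ∃ (u : A) (hu : u ∈ maximalIdeal A),
    avg k A G u = 0 ∧ (maximalIdeal A).toCotangent ⟨u, hu⟩ = v}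
  obtain ⟨b, hbT, hbspan, hbli⟩ := exists_linearIndependent (ResidueField A) T
  have hbfin : b.Finite := hbli.setFinite
  have : Finite b := hbfin
  let r := Nat.card b
  let e : Fin r ≃ b := (Finite.equivFin b).symm
  have hy : ∀ i : Fin r, ∃ (u : A) (hu : u ∈ maximalIdeal A), avg k A G u = 0 ∧
      (maximalIdeal A).toCotangent ⟨u, hu⟩ = (e i : CotangentSpace A) := fun i => hbT (e i).2
  choose y hyM hy0 hyc using hy
  have hyJ : ∀ i, y i ∈ JJ A G := fun i => by
    have := sub_avg_mem (G := G) hN (y i)
    rwa [hy0, sub_zero] at this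
  have hli : LinearIndependent (ResidueField A) (fun i : Fin r => ((e i : b) : CotangentSpace A)) :=
    hbli.comp e e.injective
  -- independence
  have hind : ∀ a : Fin r → A, ∑ j, a j * y j ∈ maximalIdeal A ^ 2 →
      ∀ j, a j ∈ maximalIdeal A := by
    intro a ha
    have hmem : ∑ j, a j * y j ∈ maximalIdeal A :=
      sum_mem fun j _ => Ideal.mul_mem_left _ _ (hyM j)
    have h1 : (maximalIdeal A).toCotangent ⟨∑ j, a j * y j, hmem⟩ = 0 :=
      (Ideal.toCotangent_eq_zero _ _).mpr ha
    rw [toCotangent_sum_mul a y hyM hmem] at h1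
    simp_rw [hyc] at h1
    have h3 := Fintype.linearIndependent_iff.mp hli (fun j => residue A (a j)) h1
    intro j; exact (residue_eq_zero_iff _).mp (h3 j)
  have hreg := (Groth.Agent.Lib.Helper12.isRegularLocalRing_quotient_and_isRegular_of_indep
    r A y hyM hind).1
  have hIJ : Ideal.span (Set.range y) ≤ JJ A G :=
    Ideal.span_le.mpr (by rintro _ ⟨i, rfl⟩; exact hyJ i)
  have hJI : JJ A G ≤ Ideal.span (Set.range y) := by
    apply Submodule.le_of_le_smul_of_le_jacobson_bot (I := maximalIdeal A)
      (IsNoetherian.noetherian _) (maximalIdeal_le_jacobson _)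
    refine Ideal.span_le.mpr ?_
    rintro _ ⟨g, a, rfl⟩
    set u := g • a - a with hu
    have hu0 : avg k A G u = 0 := by rw [hu, map_sub, avg_smul, sub_self]
    have huJ : u ∈ JJ A G := Ideal.subset_span ⟨g, a, rfl⟩
    have huM : u ∈ maximalIdeal A := hJM huJ
    have hT : (maximalIdeal A).toCotangent ⟨u, huM⟩ ∈ T := ⟨u, huM, hu0, rfl⟩
    have hsp : (maximalIdeal A).toCotangent ⟨u, huM⟩ ∈ Submodule.span (ResidueField A) b :=
      hbspan ▸ Submodule.subset_span hT
    have hb : b = Set.range (fun i => ((e i : b) : CotangentSpace A)) := by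
      ext v; constructor
      · intro hv; exact ⟨e.symm ⟨v, hv⟩, by simp⟩
      · rintro ⟨i, rfl⟩; exact (e i).2
    rw [hb] at hsp
    obtain ⟨cbar, hcbar⟩ := (Submodule.mem_span_range_iff_exists_fun _).mp hsp
    choose c hc using fun i => hres (cbar i)
    have hsM : ∑ i, algebraMap k A (c i) * y i ∈ maximalIdeal A :=
      sum_mem fun i _ => Ideal.mul_mem_left _ _ (hyM i)
    set u' := u - ∑ i, algebraMap k A (c i) * y i with hu'
    have hu'0 : avg k A G u' = 0 := by
      rw [hu', map_sub, map_sum, hu0, zero_sub, neg_eq_zero]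
      refine Finset.sum_eq_zero fun i _ => ?_
      rw [← Algebra.smul_def, map_smul, hy0, smul_zero]
    have hu'M : u' ∈ maximalIdeal A := sub_mem huM hsM
    have hu'M2 : u' ∈ maximalIdeal A ^ 2 := by
      rw [← Ideal.toCotangent_eq_zero (maximalIdeal A) ⟨u', hu'M⟩]
      have : (⟨u', hu'M⟩ : maximalIdeal A) = ⟨u, huM⟩ - ⟨_, hsM⟩ := rfl
      rw [this, map_sub, toCotangent_sum_mul _ y hyM hsM, sub_eq_zero, ← hcbar]
      refine Finset.sum_congr rfl fun i _ => ?_
      rw [hyc, ← hc i, IsScalarTower.algebraMap_apply k A (ResidueField A)]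
      rfl
    have h5 := sub_avg_mem_mul (G := G) hN hu'M2
    rw [hu'0, sub_zero] at h5
    have h6 : u = ∑ i, algebraMap k A (c i) * y i + u' := by rw [hu']; ring
    rw [SetLike.mem_coe, h6]
    exact Submodule.add_mem_sup (sum_mem fun i _ => Ideal.mul_mem_left _ _
      (Ideal.subset_span ⟨i, rfl⟩)) (by rwa [smul_eq_mul])
  have hfin : JJ A G = Ideal.span (Set.range y) := le_antisymm hJI hIJ
  rw [hfin]; exact hreg


/-- Local form: let k be a field and A a regular local k-algebra with maximal ideal M and residue field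
k (k maps onto A/M); let a finite group G whose order is invertible in k act on A by k-algebra
automorphisms. Then A/J is a regular local ring, where J is the ideal generated by the elements g·a
− a (J defines the fixed-point subscheme, so the fixed locus of G is smooth at the point). The
accompanying identification of its tangent space with the G-invariants of the tangent space of A is
not restated here. -/
theorem result (k : Type u) [Field k] (A : Type u) [CommRing A]
    [Algebra k A] [IsRegularLocalRing A]
    (hres : Function.Surjective (algebraMap k (IsLocalRing.ResidueField A)))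
    (G : Type u) [Group G] [Finite G] [MulSemiringAction G A] [SMulCommClass G k A]
    (hG : (Nat.card G : k) ≠ 0) :
    IsRegularLocalRing (A ⧸ Ideal.span {x : A | ∃ (g : G) (a : A), x = g • a - a}) := by
  exact main k A hres G hG

end Groth.Agent.S19445
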