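import Groth.Statements.S19448
import Mathlib.RingTheory.Filtration
-- import your own Groth.Agent.* helpers here

set_option autoImplicit false
universe u
open CAlg

namespace Groth.Agent.S19448

/-- Let k be a field, A a Noetherian local k-algebra with maximal ideal M and residue field k, and G a
finite group with |G| ≠ 0 in k acting on A by k-algebra automorphisms. An element of G which acts
trivially on M/M^2 acts trivially on A; in other words the stabilizer acts faithfully on the
cotangent space whenever it acts faithfully on the local ring. -/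
theorem result (k : Type u) [Field k] (A : Type u) [CommRing A]
    [Algebra k A] [IsLocalRing A] [IsNoetherianRing A]
    (hres : Function.Surjective (algebraMap k (IsLocalRing.ResidueField A)))
    (G : Type u) [Group G] [Finite G] [MulSemiringAction G A] [SMulCommClass G k A]
    (hG : (Nat.card G : k) ≠ 0) (g : G)
    (hg : ∀ a ∈ IsLocalRing.maximalIdeal A, g • a - a ∈ IsLocalRing.maximalIdeal A ^ 2) (a : A) :
    g • a = a := by
  set M := IsLocalRing.maximalIdeal A with hM
  have hM2le : M ^ 2 ≤ M := Ideal.pow_le_self (by norm_num)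
  -- g preserves M
  have hgM : ∀ y ∈ M, g • y ∈ M := by
    intro y hy
    have : g • y = (g • y - y) + y := by ring
    rw [this]
    exact add_mem (hM2le (hg y hy)) hy
  -- Step 1
  have h1 : ∀ a : A, g • a - a ∈ M := by
    intro a
    obtain ⟨c, hc⟩ := hres (IsLocalRing.residue A a)
    have hmM : a - algebraMap k A c ∈ M := by
      rw [hM, ← IsLocalRing.residue_eq_zero_iff, map_sub, ← hc,
        IsScalarTower.algebraMap_apply k A (IsLocalRing.ResidueField A)]
      exact sub_self _
    have hgc : g • algebraMap k A c = algebraMap k A c := by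
      rw [Algebra.algebraMap_eq_smul_one, smul_comm, smul_one]
    have : g • a - a = g • (a - algebraMap k A c) - (a - algebraMap k A c) := by
      rw [smul_sub, hgc]; ring
    rw [this]
    exact hM2le (hg _ hmM)
  -- Step 2
  have h2 : ∀ j : ℕ, ∀ a ∈ M ^ j, g • a - a ∈ M ^ (j + 1) := by
    intro j
    induction j with
    | zero => intro a _; rw [zero_add, pow_one]; exact h1 a
    | succ j ih =>
      intro a ha
      rw [pow_succ] at ha
      refine Submodule.mul_induction_on ha ?_ ?_
      · intro x hx y hy
        have : g • (x * y) - x * y = (g • x - x) * (g • y) + x * (g • y - y) := by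
          rw [smul_mul']; ring
        rw [this]
        apply add_mem
        · rw [pow_succ (M) (j + 1)]
          exact Ideal.mul_mem_mul (ih x hx) (hgM y hy)
        · have : M ^ (j + 1 + 1) = M ^ j * M ^ 2 := by rw [← pow_add]
          rw [this]
          exact Ideal.mul_mem_mul hx (hg y hy)
      · intro x y hx hy
        have : g • (x + y) - (x + y) = (g • x - x) + (g • y - y) := by
          rw [smul_add]; ring
        rw [this]
        exact add_mem hx hy
  -- powers of g
  have h2' : ∀ j : ℕ, ∀ x ∈ M ^ j, ∀ i : ℕ, g ^ i • x ∈ M ^ j ∧ g ^ i • x - x ∈ M ^ (j + 1) := by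
    intro j x hx i
    induction i with
    | zero => simp [hx]
    | succ i ih =>
      have hle : M ^ (j + 1) ≤ M ^ j := Ideal.pow_le_pow_right (Nat.le_succ j)
      have h3 : g ^ (i + 1) • x - x = (g • (g ^ i • x) - g ^ i • x) + (g ^ i • x - x) := by
        rw [pow_succ', mul_smul]; ring
      have h4 : g ^ (i + 1) • x - x ∈ M ^ (j + 1) := by
        rw [h3]; exact add_mem (h2 j _ ih.1) ih.2
      refine ⟨?_, h4⟩
      have : g ^ (i + 1) • x = (g ^ (i + 1) • x - x) + x := by ring
      rw [this]
      exact add_mem (hle h4) hx
  -- telescoping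
  have htel : ∀ (n : ℕ) (a : A), ∑ i ∈ Finset.range n, g ^ i • (g • a - a) = g ^ n • a - a := by
    intro n a
    induction n with
    | zero => simp
    | succ n ih =>
      rw [Finset.sum_range_succ, ih, smul_sub, ← mul_smul, ← pow_succ]; ring
  set n := Nat.card G with hn
  have hgn : g ^ n = 1 := by
    haveI := Fintype.ofFinite G
    rw [hn, Nat.card_eq_fintype_card]; exact pow_card_eq_one
  have hunit : IsUnit ((n : ℕ) : A) := by
    have : ((n : ℕ) : A) = algebraMap k A (n : k) := by simp
    rw [this]
    exact (IsUnit.mk0 _ hG).map _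
  -- Step 3
  have h3 : ∀ j : ℕ, ∀ a : A, g • a - a ∈ M ^ j := by
    intro j
    induction j with
    | zero => intro a; simp
    | succ j ih =>
      intro a
      have hsum : ∑ i ∈ Finset.range n, (g ^ i • (g • a - a) - (g • a - a)) ∈ M ^ (j + 1) :=
        Submodule.sum_mem _ fun i _ => (h2' j _ (ih a) i).2
      rw [Finset.sum_sub_distrib, htel, hgn, one_smul, sub_self, zero_sub, Finset.sum_const,
        Finset.card_range, nsmul_eq_mul] at hsum
      have hmem : (n : A) * (g • a - a) ∈ M ^ (j + 1) := by
        have := neg_mem hsum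
        rwa [neg_neg] at this
      obtain ⟨u, hu⟩ := hunit
      have : g • a - a = ((u⁻¹ : Aˣ) : A) * ((n : A) * (g • a - a)) := by
        rw [← mul_assoc, ← hu, Units.inv_mul, one_mul]
      rw [this]
      exact Ideal.mul_mem_left _ _ hmem
  have h4 : g • a - a ∈ (⨅ j : ℕ, M ^ j) := by
    rw [Ideal.mem_iInf]; exact fun j => h3 j a
  rw [Ideal.iInf_pow_eq_bot_of_isLocalRing M (Ideal.IsMaximal.ne_top inferInstance)] at h4
  exact sub_eq_zero.mp h4

end Groth.Agent.S19448
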