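import Groth.Statements.S19453
import Mathlib

set_option autoImplicit false
universe u
open CAlg

namespace Groth.Agent.S19453



open Polynomial in
theorem nonempty_algEquiv_truncPoly (k D : Type u) [Field k] [CommRing D] [Algebra k D] (t : D)
    (ht : IsNilpotent t)
    (hres : ∀ c : D, ∃ a : k, c - algebraMap k D a ∈ Ideal.span {t}) :
    Nonempty (D ≃ₐ[k] (Polynomial k ⧸ Ideal.span {(X : Polynomial k) ^ Module.finrank k D})) := by
  obtain ⟨N, hN⟩ := ht
  let φ : k[X] →ₐ[k] D := aeval t
  have hsurj : Function.Surjective φ := by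
    have key : ∀ j : ℕ, ∀ b : D, ∃ p : k[X], ∃ b' : D, b = φ p + t ^ j * b' := by
      intro j
      induction j with
      | zero => intro b; exact ⟨0, b, by simp⟩
      | succ j ih =>
        intro b
        obtain ⟨p, b', hb⟩ := ih b
        obtain ⟨c, hc⟩ := hres b'
        rw [Ideal.mem_span_singleton'] at hc
        obtain ⟨b'', hb''⟩ := hc
        refine ⟨p + C c * X ^ j, b'', ?_⟩
        have : b' = algebraMap k D c + b'' * t := by rw [hb'']; ring
        rw [hb, this]
        simp only [φ, map_add, map_mul, aeval_C, map_pow, aeval_X]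
        ring
    intro b
    obtain ⟨p, b', hb⟩ := key N b
    exact ⟨p, by rw [hb, hN, zero_mul, add_zero]⟩
  have hXN : X ^ N ∈ RingHom.ker φ := by
    rw [RingHom.mem_ker]
    simp only [φ, map_pow, aeval_X, hN]
  obtain ⟨g, hg⟩ : ∃ g, RingHom.ker φ = Ideal.span {g} :=
    (IsPrincipalIdealRing.principal (RingHom.ker φ)).principal
  have hgdvd : g ∣ X ^ N := by rw [← Ideal.mem_span_singleton, ← hg]; exact hXN
  obtain ⟨n, hn, hassoc⟩ := (dvd_prime_pow Polynomial.prime_X N).mp hgdvd
  have hker : RingHom.ker φ = Ideal.span {X ^ n} := by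
    rw [hg]; exact Ideal.span_singleton_eq_span_singleton.mpr hassoc
  let e : (k[X] ⧸ Ideal.span {(X : k[X]) ^ n}) ≃ₐ[k] D :=
    (Ideal.quotientEquivAlgOfEq k hker.symm).trans (Ideal.quotientKerAlgEquivOfSurjective hsurj)
  have hfin : Module.finrank k D = n := by
    rw [← LinearEquiv.finrank_eq e.toLinearEquiv, finrank_quotient_span_eq_natDegree,
      natDegree_X_pow]
  rw [hfin]
  exact ⟨e.symm⟩

theorem core (k : Type u) [Field k]
    (A : Type u) [CommRing A] [Algebra k A] [IsLocalRing A]
    (hres : Function.Surjective (algebraMap k (IsLocalRing.ResidueField A)))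
    (I : Ideal A) [Module.Finite k (A ⧸ I)] (hI : I ≠ ⊤)
    (g b : A) (hgI : g ∈ I) (hM : IsLocalRing.maximalIdeal A = Ideal.span {g, b}) :
    Nonempty ((A ⧸ I) ≃ₐ[k]
      (Polynomial k ⧸ Ideal.span {(Polynomial.X : Polynomial k) ^ Module.finrank k (A ⧸ I)})) := by
  have hIM : I ≤ IsLocalRing.maximalIdeal A := IsLocalRing.le_maximalIdeal hI
  haveI : Nontrivial (A ⧸ I) := Ideal.Quotient.nontrivial_iff.mpr hI
  haveI : IsLocalRing (A ⧸ I) :=
    IsLocalRing.of_surjective' (Ideal.Quotient.mk I) Ideal.Quotient.mk_surjective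
  haveI : IsArtinianRing (A ⧸ I) := IsArtinianRing.of_finite k (A ⧸ I)
  have hb : b ∈ IsLocalRing.maximalIdeal A := by
    rw [hM]; exact Ideal.subset_span (by simp)
  apply nonempty_algEquiv_truncPoly k (A ⧸ I) (Ideal.Quotient.mk I b)
  · obtain ⟨N, hN⟩ := IsArtinianRing.isNilpotent_jacobson_bot (R := A ⧸ I)
    rw [IsLocalRing.jacobson_eq_maximalIdeal ⊥ bot_ne_top] at hN
    refine ⟨N, ?_⟩
    have hmem : Ideal.Quotient.mk I b ∈ IsLocalRing.maximalIdeal (A ⧸ I) := by
      rw [IsLocalRing.mem_maximalIdeal, mem_nonunits_iff]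
      intro hu
      obtain ⟨c, hc⟩ := hu.exists_right_inv
      obtain ⟨c', rfl⟩ := Ideal.Quotient.mk_surjective c
      rw [← map_mul, ← map_one (Ideal.Quotient.mk I), Ideal.Quotient.eq] at hc
      have h1 : b * c' - 1 ∈ IsLocalRing.maximalIdeal A := hIM hc
      have h2 : b * c' ∈ IsLocalRing.maximalIdeal A := Ideal.mul_mem_right _ _ hb
      have h3 : (1 : A) ∈ IsLocalRing.maximalIdeal A := by
        have := Ideal.sub_mem _ h2 h1
        simpa using this
      exact (Ideal.ne_top_iff_one _).mp (IsLocalRing.maximalIdeal.isMaximal A).ne_top h3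
    have := Ideal.pow_mem_pow hmem N
    rw [hN] at this
    simpa using this
  · intro c
    obtain ⟨c₀, rfl⟩ := Ideal.Quotient.mk_surjective c
    obtain ⟨α, hα⟩ := hres (IsLocalRing.residue A c₀)
    refine ⟨α, ?_⟩
    have h1 : algebraMap k (IsLocalRing.ResidueField A) α =
        IsLocalRing.residue A (algebraMap k A α) :=
      IsScalarTower.algebraMap_apply k A (IsLocalRing.ResidueField A) α
    rw [h1] at hα
    have h2 : c₀ - algebraMap k A α ∈ IsLocalRing.maximalIdeal A := by
      rw [← Ideal.Quotient.eq_zero_iff_mem]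
      change IsLocalRing.residue A (c₀ - algebraMap k A α) = 0
      rw [map_sub, hα, sub_self]
    rw [hM, Ideal.mem_span_pair] at h2
    obtain ⟨u, v, huv⟩ := h2
    rw [Ideal.mem_span_singleton']
    refine ⟨Ideal.Quotient.mk I v, ?_⟩
    have h3 : Ideal.Quotient.mk I g = 0 := Ideal.Quotient.eq_zero_iff_mem.mpr hgI
    have h4 : algebraMap k (A ⧸ I) α = Ideal.Quotient.mk I (algebraMap k A α) := rfl
    rw [h4, ← map_sub, ← huv, map_add, map_mul, map_mul, h3, mul_zero, zero_add]

/-- Converse direction: let k be a field, A a regular local k-algebra of Krull dimension 2 with maximal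
ideal M and residue field k, and I an ideal with A/I of finite dimension n ≥ 1 over k. If some
element of I does not lie in M^2, then A/I is isomorphic as a k-algebra to k[x]/(x^n): a cluster
lying on a smooth curve germ of a smooth surface is curvilinear, with coordinate ring generated by
one element. -/
theorem result (k : Type u) [Field k]
    (A : Type u) [CommRing A] [Algebra k A] [IsRegularLocalRing A] (hdim : ringKrullDim A = 2)
    (hres : Function.Surjective (algebraMap k (IsLocalRing.ResidueField A)))
    (I : Ideal A) [Module.Finite k (A ⧸ I)] (n : ℕ) (hn : Module.finrank k (A ⧸ I) = n) (h1 : 1 ≤ n)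
    (g : A) (hgI : g ∈ I) (hg : g ∉ IsLocalRing.maximalIdeal A ^ 2) :
    Nonempty ((A ⧸ I) ≃ₐ[k] (Polynomial k ⧸ Ideal.span {(Polynomial.X : Polynomial k) ^ n})) := by

  classical
  have hI : I ≠ ⊤ := by
    rintro rfl
    have : Subsingleton (A ⧸ (⊤ : Ideal A)) := Ideal.Quotient.subsingleton_iff.mpr rfl
    have h0 : Module.finrank k (A ⧸ (⊤ : Ideal A)) = 0 := Module.finrank_zero_of_subsingleton
    omega
  have hgM : g ∈ IsLocalRing.maximalIdeal A := IsLocalRing.le_maximalIdeal hI hgI
  have hfg : (IsLocalRing.maximalIdeal A).FG := IsNoetherian.noetherian _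
  have hsr : (IsLocalRing.maximalIdeal A).spanFinrank = 2 := by
    have h1 := IsRegularLocalRing.spanFinrank_maximalIdeal (R := A)
    rw [hdim] at h1
    exact_mod_cast h1
  have hnc : (Submodule.generators (IsLocalRing.maximalIdeal A)).ncard = 2 := by
    rw [Submodule.FG.generators_ncard hfg, hsr]
  obtain ⟨a, b, hab, hS⟩ := Set.ncard_eq_two.mp hnc
  have hspan : IsLocalRing.maximalIdeal A = Ideal.span {a, b} := by
    rw [← hS]
    exact (Submodule.span_generators (IsLocalRing.maximalIdeal A)).symm
  have haM : a ∈ IsLocalRing.maximalIdeal A := by rw [hspan]; exact Ideal.subset_span (by simp)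
  have hbM : b ∈ IsLocalRing.maximalIdeal A := by rw [hspan]; exact Ideal.subset_span (by simp)
  have hg' := hgM
  rw [hspan, Ideal.mem_span_pair] at hg'
  obtain ⟨x, y, hxy⟩ := hg'
  have hunit : IsUnit x ∨ IsUnit y := by
    by_contra hcon
    push_neg at hcon
    apply hg
    have hx : x ∈ IsLocalRing.maximalIdeal A := hcon.1
    have hy : y ∈ IsLocalRing.maximalIdeal A := hcon.2
    rw [← hxy, pow_two]
    exact Ideal.add_mem _ (Ideal.mul_mem_mul hx haM) (Ideal.mul_mem_mul hy hbM)
  rw [← hn]
  rcases hunit with hx | hy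
  · refine core k A hres I hI g b hgI ?_
    apply le_antisymm
    · rw [hspan, Ideal.span_le]
      rintro z (rfl | rfl)
      · obtain ⟨x', hx'⟩ := hx.exists_left_inv
        have : z = x' * g - x' * y * b := by
          rw [← hxy]
          linear_combination (-z) * hx'
        rw [this]
        exact Ideal.sub_mem _ (Ideal.mul_mem_left _ _ (Ideal.subset_span (by simp)))
          (Ideal.mul_mem_left _ _ (Ideal.subset_span (by simp)))
      · exact Ideal.subset_span (by simp)
    · rw [Ideal.span_le]
      rintro z (rfl | rfl)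
      · exact hgM
      · exact hbM
  · refine core k A hres I hI g a hgI ?_
    apply le_antisymm
    · rw [hspan, Ideal.span_le]
      rintro z (rfl | rfl)
      · exact Ideal.subset_span (by simp)
      · obtain ⟨y', hy'⟩ := hy.exists_left_inv
        have : z = y' * g - y' * x * a := by
          rw [← hxy]
          linear_combination (-z) * hy'
        rw [this]
        exact Ideal.sub_mem _ (Ideal.mul_mem_left _ _ (Ideal.subset_span (by simp)))
          (Ideal.mul_mem_left _ _ (Ideal.subset_span (by simp)))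
    · rw [Ideal.span_le]
      rintro z (rfl | rfl)
      · exact hgM
      · exact haM

end Groth.Agent.S19453
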