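import Groth.Statements.S19460
import Groth.Agent.Lib.Helper25.FibreDimRank4
import Groth.Agent.Lib.Helper25.CotangentSmooth
import Groth.Agent.Lib.Helper25.SmoothFibreComp
import Groth.Agent.Lib.Helper13.SurjectiveDescent

set_option autoImplicit false
universe u
open CategoryTheory CategoryTheory.Limits AlgebraicGeometry
open Variety

namespace Groth.Agent.S19460

/-- Let k be an algebraically closed field, X and Y smooth irreducible varieties over k (integral,
separated, of finite type and smooth over k) of dimensions dX and dY, and f : X → Y a k-morphism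
which is smooth in the sense that at every closed point x of X the tangent map T_x X → T_{f(x)} Y is
surjective, equivalently the cotangent map m_{f(x)}/m_{f(x)}² → m_x/m_x² of the local rings is
injective. Then f is dominant, dY ≤ dX, and for every closed point y of Y in the image of f the
scheme-theoretic fibre X_y is smooth over the residue field κ(y) (which is k) and each of its
irreducible components has dimension dX − dY. (The published statement is for varieties in the
classical sense, with the fibre carrying its reduced structure, and it also identifies the tangent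
space of the fibre at each point with the kernel of the tangent map; that identification is not part
of this row.) -/
theorem result (k : Type u) [Field k] [IsAlgClosed k]
    {X Y : Scheme.{u}} (qX : X ⟶ Spec (CommRingCat.of k)) (qY : Y ⟶ Spec (CommRingCat.of k))
    [AlgebraicGeometry.IsIntegral X] [IsSeparated qX] [LocallyOfFiniteType qX] [QuasiCompact qX] [Smooth qX]
    [AlgebraicGeometry.IsIntegral Y] [IsSeparated qY] [LocallyOfFiniteType qY] [QuasiCompact qY] [Smooth qY]
    (f : X ⟶ Y) (hf : f ≫ qY = qX) (dX dY : ℕ) (hX : topologicalKrullDim ↥X = dX)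
    (hY : topologicalKrullDim ↥Y = dY)
    (hT : ∀ x : X, IsClosed ({x} : Set ↥X) → Function.Injective (FixPt.cotangentMapAt f x (f.base x) rfl)) :
    DenseRange f.base ∧ dY ≤ dX ∧
      ∀ y : Y, IsClosed ({y} : Set ↥Y) → y ∈ Set.range f.base →
        Smooth (f.fiberToSpecResidueField y) ∧
          ∀ Z ∈ irreducibleComponents ↥(f.fiber y),
            topologicalKrullDim ↥Z = ((dX - dY : ℕ) : WithBot ℕ∞) := by
  subst hf
  haveI : LocallyOfFinitePresentation f :=
    Groth.Agent.Lib.Helper13.locallyOfFinitePresentation_of_comp f qY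
  haveI hsY : SmoothOfRelativeDimension dY qY :=
    Groth.Agent.Lib.Helper25.SmoothRelDimRank.smoothOfRelativeDimension_of_isIntegral qY dY hY
  haveI hsX : SmoothOfRelativeDimension dX (f ≫ qY) :=
    Groth.Agent.Lib.Helper25.SmoothRelDimRank.smoothOfRelativeDimension_of_isIntegral (f ≫ qY)
      dX hX
  haveI : Smooth f := by
    rw [← Scheme.Hom.smoothLocus_eq_top_iff, ← TopologicalSpace.Opens.coe_eq_univ,
      ← not_ne_iff, ← Set.nonempty_compl]
    intro H
    haveI : JacobsonSpace ↥X := LocallyOfFiniteType.jacobsonSpace (f ≫ qY)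
    obtain ⟨g, hg, hgc⟩ := nonempty_inter_closedPoints H
      f.smoothLocus.2.isClosed_compl.isLocallyClosed
    exact hg ((Groth.Agent.Lib.Helper25.CotangentSmooth.mem_smoothLocus_iff_cotangentMapAt_injective
      f qY g hgc).mpr (hT g hgc))
  have hdim : ∀ x : X, FlatMor.fibreDimAt f x + (dY : WithBot ℕ∞) = dX := by
    intro x
    have e1 := Groth.Agent.Lib.Helper25.FibreDimRank.fibreDimAt_comp_of_smooth f qY x
    rw [Groth.Agent.Lib.Helper25.FibreDimRank.fibreDimAt_eq_of_smoothOfRelativeDimension dX
      (f ≫ qY),
      Groth.Agent.Lib.Helper25.FibreDimRank.fibreDimAt_eq_of_smoothOfRelativeDimension dY qY] at e1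
    exact e1.symm
  have hdim' : ∀ x : X, dY ≤ dX ∧ FlatMor.fibreDimAt f x = ((dX - dY : ℕ) : WithBot ℕ∞) := by
    intro x
    obtain ⟨m, V, hxV, hm⟩ :=
      Groth.Agent.Lib.Helper25.FibreDimRank.exists_opens_smoothOfRelativeDimension f x
    let x' : V.toScheme := ⟨x, hxV⟩
    have e2 := Groth.Agent.Lib.Helper6.EtaleSq.fibreDimAt_etale_square f (V.ι ≫ f) V.ι (𝟙 Y)
      (by rw [Category.comp_id]) x'
    have e3 : V.ι x' = x := rfl
    rw [e3, Groth.Agent.Lib.Helper25.FibreDimRank.fibreDimAt_eq_of_smoothOfRelativeDimension m
      (V.ι ≫ f)] at e2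
    have e1 := hdim x
    rw [e2] at e1 ⊢
    have : m + dY = dX := by exact_mod_cast e1
    refine ⟨by omega, ?_⟩
    have : m = dX - dY := by omega
    rw [this]
  haveI hsf : SmoothOfRelativeDimension (dX - dY) f :=
    Groth.Agent.Lib.Helper25.FibreDimRank.smoothOfRelativeDimension_of_fibreDimAt_eq f (dX - dY)
      (fun x => (hdim' x).2)
  refine ⟨?_, ?_, ?_⟩
  · have hopen : IsOpen (Set.range f.base) := f.isOpenMap.isOpen_range
    exact hopen.dense (Set.range_nonempty _)
  · obtain ⟨x⟩ : Nonempty X := inferInstance
    exact (hdim' x).1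
  · intro y hy hyr
    haveI := smoothOfRelativeDimension_isStableUnderBaseChange (dX - dY)
    haveI h2 : SmoothOfRelativeDimension (dX - dY) (f.fiberToSpecResidueField y) :=
      MorphismProperty.pullback_snd (P := @SmoothOfRelativeDimension (dX - dY)) _ _ inferInstance
    refine ⟨SmoothOfRelativeDimension.smooth (dX - dY) _, ?_⟩
    intro Z hZ
    exact Groth.Agent.Lib.Helper25.SmoothFibreComp.topologicalKrullDim_irreducibleComponent
      (K := Y.residueField y) (f.fiberToSpecResidueField y) (dX - dY) Z hZ


end Groth.Agent.S19460
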