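import Groth.Statements.S19461
import Mathlib
import Groth.Agent.Lib.Helper9.FFDescent

set_option autoImplicit false
universe u
open CAlg

namespace Groth.Agent.S19461

/-- The implication from isomorphic completions to flat and unramified. Let A → B be a local
homomorphism of Noetherian local rings and ψ a ring map from the completion of A at its maximal
ideal to that of B whose composite with A → A^ is A → B → B^. If ψ is bijective, then A → B is flat
and the maximal ideal of A generates the maximal ideal of B. (The published statement is the
implication, for a morphism of algebraic varieties over an algebraically closed field, from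
isomorphic induced maps of completed local rings at every point to flat and unramified; its proof is
this local-ring argument, valid for any Noetherian local rings. The converse implication is a
separate result.) -/
theorem result (A B : Type u) [CommRing A]
    [CommRing B] [IsLocalRing A] [IsLocalRing B] [IsNoetherianRing A] [IsNoetherianRing B]
    [Algebra A B] [IsLocalHom (algebraMap A B)]
    (ψ : AdicCompletion (IsLocalRing.maximalIdeal A) A →+* AdicCompletion (IsLocalRing.maximalIdeal B) B)
    (hψ : ψ.comp (algebraMap A (AdicCompletion (IsLocalRing.maximalIdeal A) A)) =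
      (algebraMap B (AdicCompletion (IsLocalRing.maximalIdeal B) B)).comp (algebraMap A B))
    (hbij : Function.Bijective ψ) :
    Module.Flat A B ∧
      Ideal.map (algebraMap A B) (IsLocalRing.maximalIdeal A) = IsLocalRing.maximalIdeal B := by
  classical
  let e' : AdicCompletion (IsLocalRing.maximalIdeal A) A ≃+*
      AdicCompletion (IsLocalRing.maximalIdeal B) B := RingEquiv.ofBijective ψ hbij
  have hψ' : ∀ a : A, ψ (algebraMap A _ a) = algebraMap A (AdicCompletion (IsLocalRing.maximalIdeal B) B) a :=
    fun a => by
      rw [IsScalarTower.algebraMap_eq A B (AdicCompletion (IsLocalRing.maximalIdeal B) B)]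
      exact RingHom.congr_fun hψ a
  let e : AdicCompletion (IsLocalRing.maximalIdeal A) A ≃ₗ[A]
      AdicCompletion (IsLocalRing.maximalIdeal B) B :=
    { e'.toAddEquiv with
      map_smul' := fun a x => by
        show ψ (a • x) = a • ψ x
        rw [Algebra.smul_def, Algebra.smul_def, map_mul, hψ'] }
  have flatABh : Module.Flat A (AdicCompletion (IsLocalRing.maximalIdeal B) B) :=
    Module.Flat.of_linearEquiv e.symm
  have ffBBh : Module.FaithfullyFlat B (AdicCompletion (IsLocalRing.maximalIdeal B) B) :=
    Module.FaithfullyFlat.of_flat_of_isLocalHom
  have flatAB : Module.Flat A B :=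
    Groth.Agent.Lib.Helper9.FFDescent.flat_of_faithfullyFlat_comp A B (AdicCompletion (IsLocalRing.maximalIdeal B) B)
  refine ⟨flatAB, ?_⟩
  have h1 : Ideal.map (algebraMap B (AdicCompletion (IsLocalRing.maximalIdeal B) B))
      (Ideal.map (algebraMap A B) (IsLocalRing.maximalIdeal A)) =
      IsLocalRing.maximalIdeal (AdicCompletion (IsLocalRing.maximalIdeal B) B) := by
    rw [Ideal.map_map, ← hψ, ← Ideal.map_map, ← AdicCompletion.maximalIdeal_eq_map]
    have : (Ideal.map e' (IsLocalRing.maximalIdeal (AdicCompletion (IsLocalRing.maximalIdeal A) A))).IsMaximal :=
      inferInstance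
    exact IsLocalRing.eq_maximalIdeal this
  have h2 : Ideal.map (algebraMap B (AdicCompletion (IsLocalRing.maximalIdeal B) B))
      (IsLocalRing.maximalIdeal B) =
      IsLocalRing.maximalIdeal (AdicCompletion (IsLocalRing.maximalIdeal B) B) :=
    (AdicCompletion.maximalIdeal_eq_map).symm
  rw [← Ideal.comap_map_eq_self_of_faithfullyFlat (B := AdicCompletion (IsLocalRing.maximalIdeal B) B)
    (Ideal.map (algebraMap A B) (IsLocalRing.maximalIdeal A)), h1, ← h2,
    Ideal.comap_map_eq_self_of_faithfullyFlat]

end Groth.Agent.S19461
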