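import Groth.Statements.S19465
import Mathlib
import Groth.Agent.Lib.Helper10.MonoFibre

set_option autoImplicit false
universe u
open CategoryTheory CategoryTheory.Limits MonoidalCategory CartesianMonoidalCategory MonObj GrpObj AlgebraicGeometry
open AlgGrp

namespace Groth.Agent.S19465

/-- Let S be a scheme and G an S-group scheme whose structure morphism G → S is locally of finite type.
Then G → S is an isomorphism (G is the trivial group scheme over S) if and only if every fibre G_s →
Spec κ(s), s ∈ S, is an isomorphism. -/
theorem result (S : Scheme.{u}) (G : Over S)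
    [GrpObj G] [LocallyOfFiniteType G.hom] :
    IsIso G.hom ↔ ∀ s : S, IsIso (G.hom.fiberToSpecResidueField s) := by
  constructor
  · intro h s
    show IsIso (Limits.pullback.snd G.hom (S.fromSpecResidueField s))
    infer_instance
  · intro h
    haveI hmono : Mono G.hom := by
      refine Groth.Agent.Lib.Helper10.MonoFibre.mono_of_fiber _ (fun s => ?_)
      haveI := h s
      infer_instance
    have e1 : (η[G] : 𝟙_ (Over S) ⟶ G).left ≫ G.hom = 𝟙 S := Over.w η[G]
    have e2 : G.hom ≫ (η[G] : 𝟙_ (Over S) ⟶ G).left = 𝟙 G.left := by
      rw [← cancel_mono G.hom, Category.assoc, e1, Category.comp_id, Category.id_comp]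
    exact ⟨⟨(η[G] : 𝟙_ (Over S) ⟶ G).left, e2, e1⟩⟩

end Groth.Agent.S19465
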