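import Groth.Statements.S19473
import Mathlib
import Groth.Agent.Lib.Helper10.UnitSec1

set_option autoImplicit false
universe u
open CategoryTheory CategoryTheory.Limits MonoidalCategory CartesianMonoidalCategory MonObj GrpObj AlgebraicGeometry
open AlgGrp

namespace Groth.Agent.S19473

/-- Let S be a scheme and G an S-group scheme whose structure morphism G → S is locally of finite type.
Then G → S is unramified — formally unramified, since it is locally of finite type — if and only if
the identity section S → G is an open immersion. (The separated and quasi-separated clauses of the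
published item are separate results.) -/
theorem result (S : Scheme.{u})
    (G : Over S) [GrpObj G] [LocallyOfFiniteType G.hom] :
    FormallyUnramified G.hom ↔ IsOpenImmersion η[G].left := by
  have hdiag : (CartesianMonoidalCategory.lift (𝟙 G) (𝟙 G)).left = Limits.pullback.diagonal G.hom := by
    rw [Over.lift_left]
    rfl
  constructor
  · intro h
    haveI : IsOpenImmersion (Limits.pullback.diagonal G.hom) := inferInstance
    have sq := (Groth.Agent.Lib.Helper10.UnitSec.isPullback_unit_diag G).map (Over.forget S)
    have sq' : IsPullback (η[G] : 𝟙_ (Over S) ⟶ G).left (η[G] : 𝟙_ (Over S) ⟶ G).left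
        (CartesianMonoidalCategory.lift (CartesianMonoidalCategory.toUnit G ≫ η[G]) (𝟙 G)).left
        (CartesianMonoidalCategory.lift (𝟙 G) (𝟙 G)).left := sq
    rw [hdiag] at sq'
    exact MorphismProperty.of_isPullback (P := @IsOpenImmersion) sq'.flip inferInstance
  · intro h
    have sq := (Groth.Agent.Lib.Helper10.UnitSec.isPullback_diag_unit G).map (Over.forget S)
    have sq' : IsPullback (CartesianMonoidalCategory.toUnit G).left
        (CartesianMonoidalCategory.lift (𝟙 G) (𝟙 G)).left
        (η[G] : 𝟙_ (Over S) ⟶ G).left
        ((CartesianMonoidalCategory.fst G G)⁻¹ * CartesianMonoidalCategory.snd G G).left := sq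
    rw [hdiag] at sq'
    haveI : IsOpenImmersion (Limits.pullback.diagonal G.hom) :=
      MorphismProperty.of_isPullback (P := @IsOpenImmersion) sq' h
    infer_instance

end Groth.Agent.S19473
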