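import Groth.Statements.S19475
import Mathlib

set_option autoImplicit false
universe u
open CAlg

namespace Groth.Agent.S19475


open IsLocalRing
open TensorProduct in
theorem move_smul {A : Type u} [CommRing A] {Ap Bq : Type u} [CommRing Ap] [CommRing Bq]
    [Algebra A Ap] [Algebra A Bq] [IsLocalRing Ap]
    (φ : Ap →+* Bq) (hφ : ∀ a : A, φ (algebraMap A Ap a) = algebraMap A Bq a)
    (S : Submonoid A) [IsLocalization S Ap] (a' : Ap) (b : Bq)
    (x : AdicCompletion (IsLocalRing.maximalIdeal Ap) Ap) :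
    b ⊗ₜ[A] (algebraMap Ap (AdicCompletion (IsLocalRing.maximalIdeal Ap) Ap) a' * x) =
      (φ a' * b) ⊗ₜ[A] x := by
  obtain ⟨a, s, rfl⟩ := IsLocalization.exists_mk'_eq S a'
  have hu : IsUnit (algebraMap A Bq (s : A)) := by
    rw [← hφ]
    exact (IsLocalization.map_units Ap s).map φ
  obtain ⟨u, hu'⟩ := hu
  have hsmul : ∀ (c : A) (y : AdicCompletion (IsLocalRing.maximalIdeal Ap) Ap),
      c • y = algebraMap Ap (AdicCompletion (IsLocalRing.maximalIdeal Ap) Ap)
        (algebraMap A Ap c) * y := by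
    intro c y
    rw [Algebra.smul_def]
    rfl
  have h1 : b = (s : A) • ((↑u⁻¹ : Bq) * b) := by
    rw [Algebra.smul_def, ← hu', ← mul_assoc, Units.mul_inv, one_mul]
  have h2 : φ (IsLocalization.mk' Ap a s) = algebraMap A Bq a * (↑u⁻¹ : Bq) := by
    have h3 : φ (IsLocalization.mk' Ap a s) * algebraMap A Bq (s : A) = algebraMap A Bq a := by
      rw [← hφ, ← hφ, ← map_mul, IsLocalization.mk'_spec]
    rw [← h3, ← hu', mul_assoc, Units.mul_inv, mul_one]
  conv_lhs => rw [h1]
  rw [TensorProduct.smul_tmul, hsmul, ← mul_assoc, ← map_mul, mul_comm (algebraMap A Ap (s : A)),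
    IsLocalization.mk'_spec, ← hsmul, ← TensorProduct.smul_tmul, Algebra.smul_def, h2, mul_assoc]

open TensorProduct in
theorem key {A : Type u} [CommRing A] {Ap Bq : Type u} [CommRing Ap] [CommRing Bq]
    [Algebra A Ap] [Algebra A Bq] [IsLocalRing Ap] [IsLocalRing Bq]
    (φ : Ap →+* Bq) [IsLocalHom φ] (hφ : ∀ a : A, φ (algebraMap A Ap a) = algebraMap A Bq a)
    (S : Submonoid A) [IsLocalization S Ap] (hfg : (IsLocalRing.maximalIdeal Ap).FG) :
    ((IsLocalRing.maximalIdeal Bq).map
      (Algebra.TensorProduct.includeLeftRingHom :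
        Bq →+* Bq ⊗[A] AdicCompletion (IsLocalRing.maximalIdeal Ap) Ap)).IsMaximal := by
  -- the map to the residue field
  have hφm : ∀ a ∈ IsLocalRing.maximalIdeal Ap, (IsLocalRing.residue Bq) (φ a) = 0 := by
    intro a ha
    rw [IsLocalRing.residue_eq_zero_iff]
    exact (IsLocalRing.mem_maximalIdeal _).mpr
      (fun hu => ((IsLocalRing.mem_maximalIdeal _).mp ha) (isUnit_of_map_unit φ a hu))
  let g₀ : AdicCompletion (IsLocalRing.maximalIdeal Ap) Ap →+* IsLocalRing.ResidueField Bq :=
    (Ideal.Quotient.lift (IsLocalRing.maximalIdeal Ap) ((IsLocalRing.residue Bq).comp φ)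
      hφm).comp (AdicCompletion.evalOneₐ (IsLocalRing.maximalIdeal Ap)).toRingHom
  have hg₀ : ∀ a' : Ap, g₀ (algebraMap Ap _ a') = IsLocalRing.residue Bq (φ a') := by
    intro a'
    simp only [g₀, RingHom.comp_apply]
    have h1 : (AdicCompletion.evalOneₐ (IsLocalRing.maximalIdeal Ap)).toRingHom
        (algebraMap Ap (AdicCompletion (IsLocalRing.maximalIdeal Ap) Ap) a') =
        Ideal.Quotient.mk (IsLocalRing.maximalIdeal Ap) a' := rfl
    rw [h1, Ideal.Quotient.lift_mk]
    rfl
  let g : AdicCompletion (IsLocalRing.maximalIdeal Ap) Ap →ₐ[A] IsLocalRing.ResidueField Bq :=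
    { g₀ with
      commutes' := by
        intro a
        have h1 : algebraMap A (AdicCompletion (IsLocalRing.maximalIdeal Ap) Ap) a =
            algebraMap Ap (AdicCompletion (IsLocalRing.maximalIdeal Ap) Ap)
              (algebraMap A Ap a) := rfl
        show g₀ _ = _
        rw [h1, hg₀, hφ]
        rfl }
  let Ψ : Bq ⊗[A] AdicCompletion (IsLocalRing.maximalIdeal Ap) Ap →ₐ[A]
      IsLocalRing.ResidueField Bq :=
    Algebra.TensorProduct.lift (IsScalarTower.toAlgHom A Bq (IsLocalRing.ResidueField Bq)) g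
      (fun _ _ => Commute.all _ _)
  have hΨ1 : ∀ b : Bq, Ψ (b ⊗ₜ 1) = IsLocalRing.residue Bq b := by
    intro b
    simp only [Ψ, Algebra.TensorProduct.lift_tmul, map_one, mul_one]
    rfl
  have hsurj : Function.Surjective Ψ := by
    intro c
    obtain ⟨b, rfl⟩ := IsLocalRing.residue_surjective c
    exact ⟨b ⊗ₜ 1, hΨ1 b⟩
  have hJle : (IsLocalRing.maximalIdeal Bq).map
      (Algebra.TensorProduct.includeLeftRingHom :
        Bq →+* Bq ⊗[A] AdicCompletion (IsLocalRing.maximalIdeal Ap) Ap) ≤
      RingHom.ker Ψ.toRingHom := by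
    rw [Ideal.map_le_iff_le_comap]
    intro b hb
    rw [Ideal.mem_comap, RingHom.mem_ker]
    show Ψ (b ⊗ₜ 1) = 0
    rw [hΨ1, IsLocalRing.residue_eq_zero_iff]
    exact hb
  -- tensors with second factor in the extended maximal ideal lie in J
  have hmJ : ∀ z ∈ (IsLocalRing.maximalIdeal Ap).map
      (algebraMap Ap (AdicCompletion (IsLocalRing.maximalIdeal Ap) Ap)), ∀ b : Bq,
      b ⊗ₜ[A] z ∈ (IsLocalRing.maximalIdeal Bq).map
        (Algebra.TensorProduct.includeLeftRingHom :
          Bq →+* Bq ⊗[A] AdicCompletion (IsLocalRing.maximalIdeal Ap) Ap) := by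
    intro z hz
    induction hz using Submodule.span_induction with
    | mem z hz =>
      obtain ⟨m, hm, rfl⟩ := hz
      intro b
      have h1 := move_smul φ hφ S m b 1
      rw [mul_one] at h1
      rw [h1]
      refine Ideal.mem_map_of_mem _ (Ideal.mul_mem_right _ _ ?_)
      exact (IsLocalRing.mem_maximalIdeal _).mpr
        (fun hu => ((IsLocalRing.mem_maximalIdeal _).mp hm) (isUnit_of_map_unit φ m hu))
    | zero =>
      intro b
      rw [TensorProduct.tmul_zero]
      exact Ideal.zero_mem _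
    | add z w _ _ hz hw =>
      intro b
      rw [TensorProduct.tmul_add]
      exact Ideal.add_mem _ (hz b) (hw b)
    | smul x z _ hz =>
      intro b
      have h1 : b ⊗ₜ[A] (x • z) = ((1 : Bq) ⊗ₜ[A] x) * (b ⊗ₜ[A] z) := by
        rw [Algebra.TensorProduct.tmul_mul_tmul, one_mul, smul_eq_mul]
      rw [h1]
      exact Ideal.mul_mem_left _ _ (hz b)
  have hrep : ∀ t : Bq ⊗[A] AdicCompletion (IsLocalRing.maximalIdeal Ap) Ap, ∃ b : Bq,
      t - b ⊗ₜ 1 ∈ (IsLocalRing.maximalIdeal Bq).map
        (Algebra.TensorProduct.includeLeftRingHom :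
          Bq →+* Bq ⊗[A] AdicCompletion (IsLocalRing.maximalIdeal Ap) Ap) := by
    intro t
    induction t using TensorProduct.induction_on with
    | zero => exact ⟨0, by simp⟩
    | tmul b x =>
      obtain ⟨a', ha'⟩ := Ideal.Quotient.mk_surjective
        (AdicCompletion.evalOneₐ (IsLocalRing.maximalIdeal Ap) x)
      have h1 : x - algebraMap Ap _ a' ∈ (IsLocalRing.maximalIdeal Ap).map
          (algebraMap Ap (AdicCompletion (IsLocalRing.maximalIdeal Ap) Ap)) := by
        rw [← AdicCompletion.ker_evalOneₐ_eq_map _ hfg, RingHom.mem_ker]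
        show AdicCompletion.evalOneₐ (IsLocalRing.maximalIdeal Ap) (x - algebraMap Ap _ a') = 0
        rw [map_sub, ← ha']
        have h2 : AdicCompletion.evalOneₐ (IsLocalRing.maximalIdeal Ap)
            (algebraMap Ap (AdicCompletion (IsLocalRing.maximalIdeal Ap) Ap) a') =
            Ideal.Quotient.mk (IsLocalRing.maximalIdeal Ap) a' := rfl
        rw [h2, sub_self]
      refine ⟨φ a' * b, ?_⟩
      have h3 := move_smul φ hφ S a' b 1
      rw [mul_one] at h3
      rw [← h3, ← TensorProduct.tmul_sub]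
      exact hmJ _ h1 b
    | add t₁ t₂ h₁ h₂ =>
      obtain ⟨b₁, hb₁⟩ := h₁
      obtain ⟨b₂, hb₂⟩ := h₂
      refine ⟨b₁ + b₂, ?_⟩
      have h1 : t₁ + t₂ - (b₁ + b₂) ⊗ₜ[A] (1 : AdicCompletion (IsLocalRing.maximalIdeal Ap) Ap) =
          (t₁ - b₁ ⊗ₜ 1) + (t₂ - b₂ ⊗ₜ 1) := by
        rw [TensorProduct.add_tmul]; ring
      rw [h1]
      exact Ideal.add_mem _ hb₁ hb₂
  have hJeq : (IsLocalRing.maximalIdeal Bq).map
      (Algebra.TensorProduct.includeLeftRingHom :
        Bq →+* Bq ⊗[A] AdicCompletion (IsLocalRing.maximalIdeal Ap) Ap) =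
      RingHom.ker Ψ.toRingHom := by
    apply le_antisymm hJle
    intro t ht
    obtain ⟨b, hb⟩ := hrep t
    have h1 : Ψ (b ⊗ₜ 1) = 0 := by
      have h2 : Ψ (t - b ⊗ₜ 1) = 0 := hJle hb
      have h3 : Ψ t = 0 := ht
      rw [map_sub, h3, zero_sub, neg_eq_zero] at h2
      exact h2
    rw [hΨ1, IsLocalRing.residue_eq_zero_iff] at h1
    have h4 : b ⊗ₜ[A] (1 : AdicCompletion (IsLocalRing.maximalIdeal Ap) Ap) ∈
        (IsLocalRing.maximalIdeal Bq).map
        (Algebra.TensorProduct.includeLeftRingHom :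
          Bq →+* Bq ⊗[A] AdicCompletion (IsLocalRing.maximalIdeal Ap) Ap) :=
      Ideal.mem_map_of_mem _ h1
    have h5 : t = (t - b ⊗ₜ 1) + b ⊗ₜ 1 := by ring
    rw [h5]
    exact Ideal.add_mem _ hb h4
  rw [hJeq]
  exact RingHom.ker_isMaximal_of_surjective Ψ.toRingHom hsurj

open IsLocalRing in
/-- Let A be a Noetherian ring, B an A-algebra, q a prime ideal of B and p its preimage in A; let A_p
and B_q be the local rings at p and q and Â_p the completion of A_p at its maximal ideal pA_p. Then
the ideal generated by qB_q in B_q ⊗ Â_p is maximal. (The tensor product is formed over A; since A_p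
is a localization of A it agrees with the tensor product over A_p used in the published statement.) -/
theorem result (A B : Type u) [CommRing A] [CommRing B]
    [Algebra A B] [IsNoetherianRing A] (q : Ideal B) [q.IsPrime] :
    ((maximalIdeal (Localization.AtPrime q)).map
      (Algebra.TensorProduct.includeLeftRingHom :
        Localization.AtPrime q →+* TensorProduct A (Localization.AtPrime q)
          (AdicCompletion (maximalIdeal (Localization.AtPrime (q.under A)))
            (Localization.AtPrime (q.under A))))).IsMaximal := by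

  haveI : IsNoetherianRing (Localization.AtPrime (q.under A)) :=
    IsLocalization.isNoetherianRing (q.under A).primeCompl _ inferInstance
  have hfg : (maximalIdeal (Localization.AtPrime (q.under A))).FG :=
    (isNoetherianRing_iff_ideal_fg _).mp inferInstance _
  exact key (Localization.localRingHom (q.under A) q (algebraMap A B) rfl)
    (fun a => by
      rw [Localization.localRingHom_to_map]
      exact (IsScalarTower.algebraMap_apply A B _ a).symm)
    (q.under A).primeCompl hfg

end Groth.Agent.S19475
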