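import Groth.Statements.S19477
import Mathlib


set_option autoImplicit false
universe u
open Variety

namespace Groth.Agent.S19477

open TensorProduct

section act

variable (K F L : Type u) [Field K] [Field F] [Algebra K F] [Field L] [Algebra K L]

/-- the action of `Gal(L/K)` on `F ⊗[K] L` through the second factor -/
noncomputable def actHom : (L ≃ₐ[K] L) →* ((F ⊗[K] L) ≃ₐ[F] (F ⊗[K] L)) where
  toFun γ := Algebra.TensorProduct.congr AlgEquiv.refl γ
  map_one' := by
    apply AlgEquiv.ext
    intro x
    induction x using TensorProduct.induction_on with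
    | zero => simp
    | tmul a b => simp
    | add x y hx hy => simp only [map_add, hx, hy]
  map_mul' γ₁ γ₂ := by
    apply AlgEquiv.ext
    intro x
    induction x using TensorProduct.induction_on with
    | zero => simp
    | tmul a b => simp
    | add x y hx hy => simp only [map_add, hx, hy]

noncomputable instance : MulSemiringAction (L ≃ₐ[K] L) (F ⊗[K] L) :=
  MulSemiringAction.compHom _ (actHom K F L)

theorem smul_def (γ : L ≃ₐ[K] L) (x : F ⊗[K] L) :
    γ • x = Algebra.TensorProduct.map (AlgHom.id K F) (γ : L →ₐ[K] L) x := by
  change Algebra.TensorProduct.congr AlgEquiv.refl γ x = _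
  induction x using TensorProduct.induction_on with
  | zero => simp
  | tmul a b => simp
  | add x y hx hy => simp only [map_add, hx, hy]

theorem smul_tmul (γ : L ≃ₐ[K] L) (a : F) (b : L) :
    γ • (a ⊗ₜ[K] b) = a ⊗ₜ[K] γ b := by
  rw [smul_def]; simp

instance : SMulCommClass (L ≃ₐ[K] L) F (F ⊗[K] L) where
  smul_comm γ a x := by
    change Algebra.TensorProduct.congr AlgEquiv.refl γ (a • x) =
      a • Algebra.TensorProduct.congr AlgEquiv.refl γ x
    exact map_smul _ a x

theorem stabilizer_isOpen [Algebra.IsIntegral K L] (x : F ⊗[K] L) :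
    IsOpen (MulAction.stabilizer (L ≃ₐ[K] L) x : Set (L ≃ₐ[K] L)) := by
  induction x using TensorProduct.induction_on with
  | zero =>
    have : MulAction.stabilizer (L ≃ₐ[K] L) (0 : F ⊗[K] L) = ⊤ := by
      ext g; simp
    rw [this]; exact isOpen_univ
  | tmul a b =>
    apply Subgroup.isOpen_mono (H₁ := MulAction.stabilizer (L ≃ₐ[K] L) b) ?_
      (stabilizer_isOpen_of_isIntegral b)
    intro g hg
    rw [MulAction.mem_stabilizer_iff] at hg ⊢
    rw [smul_tmul]
    congr 1
  | add x y hx hy =>
    apply Subgroup.isOpen_mono
      (H₁ := MulAction.stabilizer (L ≃ₐ[K] L) x ⊓ MulAction.stabilizer (L ≃ₐ[K] L) y) ?_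
      (by
        rw [Subgroup.coe_inf]
        exact hx.inter hy)
    intro g hg
    rw [Subgroup.mem_inf, MulAction.mem_stabilizer_iff, MulAction.mem_stabilizer_iff] at hg
    rw [MulAction.mem_stabilizer_iff, smul_add, hg.1, hg.2]

/-- invariants of the Galois action -/
theorem isInvariant [IsGalois K L] : Algebra.IsInvariant F (F ⊗[K] L) (L ≃ₐ[K] L) := by
  constructor
  intro x hx
  classical
  -- a basis of `F` over `K`, giving a basis of `L ⊗ F` over `L`
  let b := Module.Free.chooseBasis K F
  let bL : Module.Basis _ L (L ⊗[K] F) := Algebra.TensorProduct.basis L b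
  let y : L ⊗[K] F := Algebra.TensorProduct.comm K F L x
  -- the semilinear action on `L ⊗ F`
  have hrepr : ∀ (γ : L ≃ₐ[K] L) (z : L ⊗[K] F) i,
      bL.repr (Algebra.TensorProduct.map (γ : L →ₐ[K] L) (AlgHom.id K F) z) i = γ (bL.repr z i) := by
    intro γ z i
    induction z using TensorProduct.induction_on with
    | zero => simp
    | tmul l f =>
      rw [Algebra.TensorProduct.map_tmul]
      simp only [bL, Algebra.TensorProduct.basis_repr_tmul, Finsupp.smul_apply,
        Finsupp.mapRange_apply, smul_eq_mul, map_mul, AlgHom.coe_id, id_eq,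
        AlgEquiv.commutes]
      rfl
    | add z w hz hw => simp only [map_add, Finsupp.coe_add, Pi.add_apply, hz, hw]
  have hy : ∀ γ : L ≃ₐ[K] L,
      Algebra.TensorProduct.map (γ : L →ₐ[K] L) (AlgHom.id K F) y = y := by
    intro γ
    have h1 := hx γ
    rw [smul_def] at h1
    have h2 : ∀ w : F ⊗[K] L, Algebra.TensorProduct.map (γ : L →ₐ[K] L) (AlgHom.id K F)
        (Algebra.TensorProduct.comm K F L w) = Algebra.TensorProduct.comm K F L
          (Algebra.TensorProduct.map (AlgHom.id K F) (γ : L →ₐ[K] L) w) := by
      intro w
      induction w using TensorProduct.induction_on with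
      | zero => simp
      | tmul a c => simp
      | add z w hz hw => simp only [map_add, hz, hw]
    rw [h2, h1]
  have hcoef : ∀ i, bL.repr y i ∈ Set.range (algebraMap K L) := by
    intro i
    rw [InfiniteGalois.mem_range_algebraMap_iff_fixed]
    intro γ
    rw [← hrepr, hy]
  choose c hc using hcoef
  refine ⟨(bL.repr y).sum (fun i _ => c i • b i), ?_⟩
  apply (Algebra.TensorProduct.comm K F L).injective
  change _ = y
  rw [Algebra.TensorProduct.algebraMap_apply, Algebra.TensorProduct.comm_tmul]
  apply bL.repr.injective
  ext i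
  simp only [bL, Algebra.TensorProduct.basis_repr_tmul, Finsupp.smul_apply,
    Finsupp.mapRange_apply, smul_eq_mul, Algebra.algebraMap_self, RingHom.id_apply, one_mul]
  rw [Finsupp.sum, map_sum, Finsupp.coe_finsetSum, Finset.sum_apply, map_sum]
  simp only [map_smul, Module.Basis.repr_self, Finsupp.smul_apply, Finsupp.single_apply,
    smul_eq_mul, mul_ite, mul_one, mul_zero]
  simp only [apply_ite (algebraMap K L), map_zero]
  rw [Finset.sum_ite_eq']
  split_ifs with hi
  · exact hc i
  · exact (Finsupp.notMem_support_iff.mp hi).symm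

end act

theorem main (K B L : Type u) [Field K]
    [CommRing B] [IsDomain B] [Algebra K B] [Algebra.FiniteType K B] [Field L] [Algebra K L]
    [IsGalois K L] :
    Finite (PrimeSpectrum (TensorProduct K (FractionRing B) L)) ∧
      ∀ P Q : PrimeSpectrum (TensorProduct K (FractionRing B) L), ∃ γ : L ≃ₐ[K] L,
        Q.asIdeal = P.asIdeal.comap
          (Algebra.TensorProduct.map (AlgHom.id K (FractionRing B)) (γ : L →ₐ[K] L)) := by
  haveI : Algebra.IsIntegral K L := inferInstance
  haveI : Algebra.IsIntegral (FractionRing B) (FractionRing B ⊗[K] L) := inferInstance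
  have hunder : ∀ (I : Ideal (FractionRing B ⊗[K] L)) [I.IsPrime],
      I.under (FractionRing B) = ⊥ := by
    intro I hI
    have hp : (I.under (FractionRing B)).IsPrime := Ideal.comap_isPrime _ _
    rcases Ideal.eq_bot_or_top (I.under (FractionRing B)) with h | h
    · exact h
    · exact absurd h hp.ne_top
  constructor
  · haveI : Algebra.EssFiniteType B (FractionRing B) :=
      Algebra.EssFiniteType.of_isLocalization (FractionRing B) (nonZeroDivisors B)
    haveI : Algebra.EssFiniteType K (FractionRing B) :=
      Algebra.EssFiniteType.comp K B (FractionRing B)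
    haveI : IsNoetherianRing (L ⊗[K] FractionRing B) :=
      Algebra.EssFiniteType.isNoetherianRing L (L ⊗[K] FractionRing B)
    haveI : IsNoetherianRing (FractionRing B ⊗[K] L) :=
      isNoetherianRing_of_ringEquiv _ (Algebra.TensorProduct.comm K L (FractionRing B)).toRingEquiv
    haveI : Ring.KrullDimLE 0 (FractionRing B ⊗[K] L) := by
      apply Ring.KrullDimLE.mk₀
      intro I hI
      apply Ideal.isMaximal_of_isIntegral_of_isMaximal_comap (R := FractionRing B) I
      have := hunder I
      rw [Ideal.under] at this
      rw [this]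
      exact Ideal.bot_isMaximal
    haveI : IsArtinianRing (FractionRing B ⊗[K] L) :=
      isArtinianRing_iff_isNoetherianRing_krullDimLE_zero.mpr ⟨inferInstance, inferInstance⟩
    infer_instance
  · intro P Q
    letI : TopologicalSpace (FractionRing B ⊗[K] L) := ⊥
    haveI : DiscreteTopology (FractionRing B ⊗[K] L) := ⟨rfl⟩
    haveI : ContinuousSMul (L ≃ₐ[K] L) (FractionRing B ⊗[K] L) :=
      continuousSMul_iff_stabilizer_isOpen.mpr (stabilizer_isOpen K (FractionRing B) L)
    haveI := isInvariant K (FractionRing B) L
    obtain ⟨g, hg⟩ := Algebra.IsInvariant.exists_smul_of_under_eq_of_profinite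
      (A := FractionRing B) (G := L ≃ₐ[K] L) P.asIdeal Q.asIdeal
      ((hunder P.asIdeal).trans (hunder Q.asIdeal).symm)
    refine ⟨g⁻¹, ?_⟩
    rw [hg, Ideal.pointwise_smul_eq_comap]
    ext x
    rw [Ideal.mem_comap, Ideal.mem_comap]
    have : (RingEquiv.symm ((MulSemiringAction.toRingAut (L ≃ₐ[K] L) (FractionRing B ⊗[K] L)) g)) x =
        Algebra.TensorProduct.map (AlgHom.id K (FractionRing B))
          ((g⁻¹ : L ≃ₐ[K] L) : L →ₐ[K] L) x := by
      rw [← smul_def]
      rfl
    rw [this]


/-- Let K be a field, B an integral K-algebra of finite type with fraction field F, and L a Galois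
extension of K with group Γ = Aut_K(L). Then F ⊗_K L has only finitely many prime ideals and Γ,
acting through the second factor, permutes them transitively: for prime ideals P, Q there is γ ∈ Γ
with Q the preimage of P under id ⊗ γ. (The published statement is the geometric one, that the
points of an algebraic K-scheme X correspond to the Γ-orbits of points of X_L and that these orbits
are finite; it reduces to this algebraic statement by passing to the fibre over a point, and the
algebraic statement is what is proved.) -/
theorem result (K B L : Type u) [Field K]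
    [CommRing B] [IsDomain B] [Algebra K B] [Algebra.FiniteType K B] [Field L] [Algebra K L] [IsGalois K L] :
    Finite (PrimeSpectrum (TensorProduct K (FractionRing B) L)) ∧
      ∀ P Q : PrimeSpectrum (TensorProduct K (FractionRing B) L), ∃ γ : L ≃ₐ[K] L,
        Q.asIdeal = P.asIdeal.comap
          (Algebra.TensorProduct.map (AlgHom.id K (FractionRing B)) (γ : L →ₐ[K] L)) := by
  exact main K B L

end Groth.Agent.S19477
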