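import Groth.Statements.S19485
import Mathlib
import Groth.Agent.Lib.Helper2.RootDisk

set_option autoImplicit false
universe u
open Crimp

namespace Groth.Agent.S19485
open W4c1hurwitzcpt Groth.Agent.Lib.Helper2.RootDisk

/-- The criterion for closedness under multiplication on which the description of the stratum rests.
Over R = k⟦t⟧ with k an algebraically closed field of characteristic zero, let S̃ = k⟦x⟧ regarded as
an R-algebra through t ↦ x ^ 3, that is S̃ = R[x] / (x ^ 3 - t). Let m, n be natural numbers with m
not divisible by 3, and let g be a power series with nonzero constant term. Then the R-submodule of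
S̃ spanned by 1 and x ^ m g together with the ideal x ^ n S̃ is closed under multiplication if and
only if n ≤ 2m. (The published proposition goes on to describe the stratum of crimps with these
invariants as irreducible of dimension ⌊(n - m)/3⌋ with a normal form for g; only the closedness
criterion is stated here.) -/
theorem result {k : Type u} [Field k] [IsAlgClosed k] [CharZero k]
    (m n : ℕ) (hm : ¬ 3 ∣ m) (x g : W4c1hurwitzcpt.RootDisk 3 k)
    (hx : W4c1hurwitzcpt.RootDisk.val x = PowerSeries.X) (hg : PowerSeries.order (W4c1hurwitzcpt.RootDisk.val g) = 0)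
    (M : Submodule (PowerSeries k) (W4c1hurwitzcpt.RootDisk 3 k))
    (hM : M = Submodule.span (PowerSeries k) {1, x ^ m * g} ⊔
      (Ideal.span {x ^ n} : Ideal (W4c1hurwitzcpt.RootDisk 3 k)).restrictScalars (PowerSeries k)) :
    (∀ a ∈ M, ∀ b ∈ M, a * b ∈ M) ↔ n ≤ 2 * m := by
  classical
  set y : RootDisk 3 k := x ^ m * g with hy
  set I : Ideal (RootDisk 3 k) := Ideal.span {x ^ n} with hI
  have hIM : ∀ w ∈ I, w ∈ M := by
    intro w hw
    rw [hM]
    exact Submodule.mem_sup_right hw
  have h1M : (1 : RootDisk 3 k) ∈ M := by
    rw [hM]; exact Submodule.mem_sup_left (Submodule.subset_span (by simp))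
  have hyM : y ∈ M := by
    rw [hM]; exact Submodule.mem_sup_left (Submodule.subset_span (by simp))
  have hvy : PowerSeries.order (RootDisk.val (y * y)) = ((2 * m : ℕ) : ℕ∞) := by
    rw [hy]
    simp only [map_mul, map_pow, hx, PowerSeries.order_mul, PowerSeries.order_X_pow, hg, add_zero]
    push_cast
    ring
  constructor
  · intro hcl
    by_contra hlt
    rw [not_le] at hlt
    have hyy := hcl y hyM y hyM
    rw [hM, Submodule.mem_sup] at hyy
    obtain ⟨u, hu, w, hw, huw⟩ := hyy
    rw [Submodule.mem_span_pair] at hu
    obtain ⟨α, β, hu⟩ := hu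
    have hw' : w ∈ I := hw
    rw [hI, Ideal.mem_span_singleton'] at hw'
    obtain ⟨c, hc⟩ := hw'
    -- order of w
    have hvw : ((n : ℕ) : ℕ∞) ≤ PowerSeries.order (RootDisk.val w) := by
      rw [← hc]
      simp only [map_mul, map_pow, hx, PowerSeries.order_mul, PowerSeries.order_X_pow]
      exact le_add_self
    -- order of u
    have hu' : u = y * y + -w := by rw [← huw]; ring
    have hvu : PowerSeries.order (RootDisk.val u) = ((2 * m : ℕ) : ℕ∞) := by
      rw [hu', map_add, map_neg]
      have hlt' : PowerSeries.order (RootDisk.val (y * y)) < PowerSeries.order (-RootDisk.val w) := by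
        rw [PowerSeries.order_neg, hvy]
        exact lt_of_lt_of_le (by exact_mod_cast hlt) hvw
      rw [PowerSeries.order_add_of_order_ne _ _ hlt'.ne, min_eq_left hlt'.le, hvy]
    have hvy1 : PowerSeries.order (RootDisk.val y) = ((m : ℕ) : ℕ∞) := by
      rw [hy]
      simp only [map_mul, map_pow, hx, PowerSeries.order_mul, PowerSeries.order_X_pow, hg, add_zero]
    have hA : ∀ a : ℕ, PowerSeries.order α = a →
        PowerSeries.order (RootDisk.val (α • (1 : RootDisk 3 k))) = ((3 * a : ℕ) : ℕ∞) := by
      intro a ha
      rw [order_val_smul, ha, map_one, PowerSeries.order_one, add_zero]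
      push_cast
      simp
    have hB : ∀ b : ℕ, PowerSeries.order β = b →
        PowerSeries.order (RootDisk.val (β • y)) = ((3 * b + m : ℕ) : ℕ∞) := by
      intro b hb
      rw [order_val_smul, hb, hvy1]
      push_cast
      simp
    rw [← hu, map_add] at hvu
    by_cases hα : α = 0
    · by_cases hβ : β = 0
      · rw [hα, hβ, zero_smul, zero_smul, map_zero, add_zero, PowerSeries.order_zero] at hvu
        exact absurd hvu (ENat.top_ne_coe _)
      · obtain ⟨b, hb⟩ := exists_order_eq hβ
        rw [hα, zero_smul, map_zero, zero_add, hB b hb] at hvu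
        have : 3 * b + m = 2 * m := by exact_mod_cast hvu
        omega
    · obtain ⟨a, ha⟩ := exists_order_eq hα
      by_cases hβ : β = 0
      · rw [hβ, zero_smul, map_zero, add_zero, hA a ha] at hvu
        have : 3 * a = 2 * m := by exact_mod_cast hvu
        omega
      · obtain ⟨b, hb⟩ := exists_order_eq hβ
        have hne : PowerSeries.order (RootDisk.val (α • (1 : RootDisk 3 k))) ≠
            PowerSeries.order (RootDisk.val (β • y)) := by
          rw [hA a ha, hB b hb]
          intro h
          have : 3 * a = 3 * b + m := by exact_mod_cast h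
          omega
        rw [PowerSeries.order_add_of_order_ne _ _ hne, hA a ha, hB b hb] at hvu
        rcases min_choice (((3 * a : ℕ) : ℕ∞)) (((3 * b + m : ℕ) : ℕ∞)) with h | h
        · rw [h] at hvu
          have : 3 * a = 2 * m := by exact_mod_cast hvu
          omega
        · rw [h] at hvu
          have : 3 * b + m = 2 * m := by exact_mod_cast hvu
          omega
  · intro hnm
    have hMspan : M = Submodule.span (PowerSeries k) ({1, y} ∪ (I : Set (RootDisk 3 k))) := by
      rw [hM, Submodule.span_union]
      congr 1
      exact (Submodule.span_eq (I.restrictScalars (PowerSeries k))).symm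
    apply mul_mem_of_span _ M hMspan
    intro a ha b hb
    rcases ha with ha | ha
    · rcases hb with hb | hb
      · rcases ha with rfl | rfl
        · rw [one_mul]
          rcases hb with rfl | rfl
          · exact h1M
          · exact hyM
        · rcases hb with rfl | rfl
          · rw [mul_one]; exact hyM
          · apply hIM
            rw [hI, Ideal.mem_span_singleton']
            refine ⟨x ^ (2 * m - n) * (g * g), ?_⟩
            rw [hy]
            have : x ^ (2 * m) = x ^ (2 * m - n) * x ^ n := by
              rw [← pow_add]; congr 1; omega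
            calc x ^ (2 * m - n) * (g * g) * x ^ n = (x ^ (2 * m - n) * x ^ n) * (g * g) := by ring
              _ = x ^ (2 * m) * (g * g) := by rw [← this]
              _ = x ^ m * g * (x ^ m * g) := by ring
      · exact hIM _ (I.mul_mem_left a hb)
    · exact hIM _ (I.mul_mem_right b ha)

end Groth.Agent.S19485
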