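import Groth.Statements.S19486
import Mathlib
import Groth.Agent.Lib.Helper2.RootDisk

set_option autoImplicit false
universe u
open Crimp

namespace Groth.Agent.S19486
open W4c1hurwitzcpt Groth.Agent.Lib.Helper2.RootDisk

/-- The emptiness of the stratum rests on the following computation. Over R = k⟦t⟧ with k an
algebraically closed field of characteristic zero, let S̃ = S̃₁ × R where S̃₁ = k⟦x⟧ is regarded as
an R-algebra through t ↦ x ^ 2, that is S̃₁ = R[x] / (x ^ 2 - t), with R embedded diagonally in the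
product. Let m be odd, n > 2m, and let g be a power series with nonzero constant term. Then the
R-submodule of S̃ spanned by 1 = (1, 1) and (x ^ m g, 0) together with the ideal x ^ n S̃₁ × 0 is
not closed under multiplication. (The published item concludes that the corresponding stratum of
crimps is empty; only this computation is stated here, with the ideal read as x ^ n S̃₁ × 0.) -/
theorem result {k : Type u} [Field k] [IsAlgClosed k] [CharZero k]
    (m n : ℕ) (hm : Odd m) (hmn : 2 * m < n) (x g : W4c1hurwitzcpt.RootDisk 2 k)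
    (hx : W4c1hurwitzcpt.RootDisk.val x = PowerSeries.X) (hg : PowerSeries.order (W4c1hurwitzcpt.RootDisk.val g) = 0)
    (M : Submodule (PowerSeries k) (W4c1hurwitzcpt.RootDisk 2 k × PowerSeries k))
    (hM : M = Submodule.span (PowerSeries k) {(1 : W4c1hurwitzcpt.RootDisk 2 k × PowerSeries k), (x ^ m * g, 0)} ⊔
      ((Ideal.span {x ^ n} : Ideal (W4c1hurwitzcpt.RootDisk 2 k)).restrictScalars (PowerSeries k)).prod ⊥) :
    ∃ a ∈ M, ∃ b ∈ M, a * b ∉ M := by
  classical
  set y : RootDisk 2 k := x ^ m * g with hy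
  have hyM : ((y, 0) : RootDisk 2 k × PowerSeries k) ∈ M := by
    rw [hM]; exact Submodule.mem_sup_left (Submodule.subset_span (by simp))
  refine ⟨(y, 0), hyM, (y, 0), hyM, ?_⟩
  intro hyy
  rw [hM, Submodule.mem_sup] at hyy
  obtain ⟨u, hu, w, hw, huw⟩ := hyy
  rw [Submodule.mem_span_pair] at hu
  obtain ⟨α, β, hu⟩ := hu
  rw [Submodule.mem_prod] at hw
  obtain ⟨hw1, hw2⟩ := hw
  have hw2' : w.2 = 0 := by simpa using hw2
  have hw1' : w.1 ∈ (Ideal.span {x ^ n} : Ideal (RootDisk 2 k)) := hw1
  rw [Ideal.mem_span_singleton'] at hw1'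
  obtain ⟨c, hc⟩ := hw1'
  -- components
  have e2 := congrArg Prod.snd huw
  have e1 := congrArg Prod.fst huw
  rw [← hu] at e1 e2
  simp only [Prod.snd_add, Prod.smul_snd, Prod.snd_one, smul_zero, add_zero, hw2', Prod.snd_mul,
    mul_zero, smul_eq_mul, mul_one] at e2
  simp only [Prod.fst_add, Prod.smul_fst, Prod.fst_one, Prod.fst_mul] at e1
  rw [e2, zero_smul, zero_add] at e1
  have hvy : PowerSeries.order (RootDisk.val (y * y)) = ((2 * m : ℕ) : ℕ∞) := by
    rw [hy]
    simp only [map_mul, map_pow, hx, PowerSeries.order_mul, PowerSeries.order_X_pow, hg, add_zero]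
    push_cast
    ring
  have hvy1 : PowerSeries.order (RootDisk.val y) = ((m : ℕ) : ℕ∞) := by
    rw [hy]
    simp only [map_mul, map_pow, hx, PowerSeries.order_mul, PowerSeries.order_X_pow, hg, add_zero]
  have hvw : ((n : ℕ) : ℕ∞) ≤ PowerSeries.order (RootDisk.val w.1) := by
    rw [← hc]
    simp only [map_mul, map_pow, hx, PowerSeries.order_mul, PowerSeries.order_X_pow]
    exact le_add_self
  have hu' : β • y = y * y + -w.1 := by rw [← sub_eq_add_neg]; exact eq_sub_of_add_eq e1
  have hvu : PowerSeries.order (RootDisk.val (β • y)) = ((2 * m : ℕ) : ℕ∞) := by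
    rw [hu', map_add, map_neg]
    have hlt' : PowerSeries.order (RootDisk.val (y * y)) < PowerSeries.order (-RootDisk.val w.1) := by
      rw [PowerSeries.order_neg, hvy]
      exact lt_of_lt_of_le (by exact_mod_cast hmn) hvw
    rw [PowerSeries.order_add_of_order_ne _ _ hlt'.ne, min_eq_left hlt'.le, hvy]
  by_cases hβ : β = 0
  · rw [hβ, zero_smul, map_zero, PowerSeries.order_zero] at hvu
    exact absurd hvu (ENat.top_ne_coe _)
  · obtain ⟨b, hb⟩ := exists_order_eq hβ
    rw [order_val_smul, hb, hvy1] at hvu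
    have : 2 * b + m = 2 * m := by
      have h2 : (2 • ((b : ℕ) : ℕ∞) + (m : ℕ∞)) = ((2 * b + m : ℕ) : ℕ∞) := by
        push_cast; simp
      rw [h2] at hvu
      exact_mod_cast hvu
    obtain ⟨j, hj⟩ := hm
    omega

end Groth.Agent.S19486
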