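import Groth.Statements.S19489
import Groth.Agent.Lib.Helper15.FrobLaw
-- import your own Groth.Agent.* helpers here

set_option autoImplicit false
open scoped TensorProduct
open ZeroCyc

namespace Groth.Agent.S19489

/-- Let p be a prime, k = F_p(t_0, t_1, …) the field of rational functions over F_p in countably many
variables, and K = k^{1/p} = F_p(t_0^{1/p}, t_1^{1/p}, …), modelled here as a copy of k made into a
k-algebra through the Frobenius b ↦ b ^ p (under a ↦ a ^ p the extension k ⊆ k^{1/p} becomes this
algebra). Then a ↦ a ^ p is a multiplicative polynomial law from K to k over k, homogeneous of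
degree p: there is such a law sending s ⊗ a to s ^ p ⊗ a ^ p on every test algebra S, where a ^ p is
read in k. Every such law has zero kernel, so the support of the corresponding family of zero-cycles
of degree p on Spec K over Spec k is all of Spec K; and K is not finite over k. Thus the support of
a family of zero-cycles need not be finite over the base. -/
theorem result (p : ℕ) [Fact p.Prime] :
    (∃ F : PolLaw.MulLaw (FractionRing (MvPolynomial ℕ (ZMod p))) (FrobAlg.Twist p (FractionRing (MvPolynomial ℕ (ZMod p)))) (FractionRing (MvPolynomial ℕ (ZMod p))) p,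
      ∀ (S : Type) [CommSemiring S] [Algebra (FractionRing (MvPolynomial ℕ (ZMod p))) S] (s : S) (a : FrobAlg.Twist p (FractionRing (MvPolynomial ℕ (ZMod p)))),
        F.law.toFun' S (s ⊗ₜ[FractionRing (MvPolynomial ℕ (ZMod p))] a) =
          (s ^ p) ⊗ₜ[FractionRing (MvPolynomial ℕ (ZMod p))] (FrobAlg.toTwist p (FractionRing (MvPolynomial ℕ (ZMod p)))).symm a) ∧
    (∀ F : PolLaw.MulLaw (FractionRing (MvPolynomial ℕ (ZMod p))) (FrobAlg.Twist p (FractionRing (MvPolynomial ℕ (ZMod p)))) (FractionRing (MvPolynomial ℕ (ZMod p))) p,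
      (∀ (S : Type) [CommSemiring S] [Algebra (FractionRing (MvPolynomial ℕ (ZMod p))) S] (s : S) (a : FrobAlg.Twist p (FractionRing (MvPolynomial ℕ (ZMod p)))),
        F.law.toFun' S (s ⊗ₜ[FractionRing (MvPolynomial ℕ (ZMod p))] a) =
          (s ^ p) ⊗ₜ[FractionRing (MvPolynomial ℕ (ZMod p))] (FrobAlg.toTwist p (FractionRing (MvPolynomial ℕ (ZMod p)))).symm a) →
      PolLaw.ker F.law = ⊥) ∧
    ¬ Module.Finite (FractionRing (MvPolynomial ℕ (ZMod p))) (FrobAlg.Twist p (FractionRing (MvPolynomial ℕ (ZMod p)))) := by
  refine ⟨⟨Groth.Agent.Lib.Helper15.FrobLaw.frobMulLaw p _, fun S _ _ s a => rfl⟩, ?_, ?_⟩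
  · intro F hF
    exact Groth.Agent.Lib.Helper15.FrobLaw.ker_eq_bot p _ F.law (fun s a => hF _ s a)
  · intro hfin
    have hli : LinearIndependent (FractionRing (MvPolynomial ℕ (ZMod p)))
        (fun i : ℕ => FrobAlg.toTwist p (FractionRing (MvPolynomial ℕ (ZMod p)))
          (algebraMap (MvPolynomial ℕ (ZMod p)) (FractionRing (MvPolynomial ℕ (ZMod p)))
            (MvPolynomial.X i))) := by
      classical
      rw [linearIndependent_iff']
      intro s g hg j hj
      have h1 : ∀ i, g i • FrobAlg.toTwist p (FractionRing (MvPolynomial ℕ (ZMod p)))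
          (algebraMap (MvPolynomial ℕ (ZMod p)) (FractionRing (MvPolynomial ℕ (ZMod p)))
            (MvPolynomial.X i)) =
          FrobAlg.toTwist p (FractionRing (MvPolynomial ℕ (ZMod p))) ((g i) ^ p *
            algebraMap (MvPolynomial ℕ (ZMod p)) (FractionRing (MvPolynomial ℕ (ZMod p)))
              (MvPolynomial.X i)) := fun i => by
        rw [Algebra.smul_def, FrobAlg.algebraMap_twist, ← map_mul]
      have h2 : ∑ i ∈ s, (g i) ^ p *
          algebraMap (MvPolynomial ℕ (ZMod p)) (FractionRing (MvPolynomial ℕ (ZMod p)))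
            (MvPolynomial.X i) = 0 := by
        have h := congrArg (FrobAlg.toTwist p (FractionRing (MvPolynomial ℕ (ZMod p)))).symm hg
        rw [Finset.sum_congr rfl (fun i _ => h1 i), ← map_sum, RingEquiv.symm_apply_apply,
          map_zero] at h
        exact h
      obtain ⟨b, hb⟩ := IsLocalization.exist_integer_multiples_of_finset
        (nonZeroDivisors (MvPolynomial ℕ (ZMod p))) (s.image g)
      have hb' : ∀ i, i ∈ s → ∃ r : MvPolynomial ℕ (ZMod p),
          algebraMap (MvPolynomial ℕ (ZMod p)) (FractionRing (MvPolynomial ℕ (ZMod p))) r =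
            (b : MvPolynomial ℕ (ZMod p)) • g i := fun i hi =>
        hb (g i) (Finset.mem_image_of_mem g hi)
      choose! f hf using hb'
      have h3 : ∑ i ∈ s, (f i) ^ p * MvPolynomial.X i = 0 := by
        apply IsFractionRing.injective (MvPolynomial ℕ (ZMod p))
          (FractionRing (MvPolynomial ℕ (ZMod p)))
        rw [map_sum, map_zero]
        have h4 : ∀ i ∈ s, algebraMap (MvPolynomial ℕ (ZMod p))
            (FractionRing (MvPolynomial ℕ (ZMod p))) (f i ^ p * MvPolynomial.X i) =
            (algebraMap (MvPolynomial ℕ (ZMod p)) (FractionRing (MvPolynomial ℕ (ZMod p)))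
              (b : MvPolynomial ℕ (ZMod p))) ^ p * ((g i) ^ p *
              algebraMap (MvPolynomial ℕ (ZMod p)) (FractionRing (MvPolynomial ℕ (ZMod p)))
                (MvPolynomial.X i)) := by
          intro i hi
          rw [map_mul, map_pow, hf i hi, Algebra.smul_def, mul_pow, mul_assoc]
        rw [Finset.sum_congr rfl h4, ← Finset.mul_sum, h2, mul_zero]
      have h5 := Groth.Agent.Lib.Helper15.FrobLaw.poly_indep p s f h3 j hj
      have h6 := hf j hj
      rw [h5, map_zero, Algebra.smul_def] at h6
      rcases mul_eq_zero.mp h6.symm with h7 | h7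
      · exfalso
        have h8 : (b : MvPolynomial ℕ (ZMod p)) = 0 :=
          IsFractionRing.injective (MvPolynomial ℕ (ZMod p))
            (FractionRing (MvPolynomial ℕ (ZMod p))) (h7.trans (map_zero _).symm)
        exact nonZeroDivisors.coe_ne_zero b h8
      · exact h7
    haveI := hli.finite
    exact not_finite ℕ

end Groth.Agent.S19489
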