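import Groth.Statements.S19498
import Groth.Agent.Lib.Helper22.EGA7.PushUnitLoc
import Groth.Agent.Lib.Helper22.Canon.ExtPowInv
import Groth.Agent.Lib.Helper22.Canon.LocProj
import Groth.Agent.Lib.Helper25.FibreDimRank3
import Groth.Agent.S5005
import Groth.Agent.S2388
import Groth.Agent.Lib.Helper14.ReducedEtale
import Groth.Agent.Lib.Helper21.PropH0

set_option autoImplicit false
universe u
open CategoryTheory CategoryTheory.Limits AlgebraicGeometry
open Canon

namespace Groth.Agent.S19498


/-- Let S be a locally Noetherian scheme and f : X ⟶ S a locally projective morphism, smooth of relative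
dimension n, whose fibres are non-empty and geometrically connected; let ω be an n-th exterior power
of the sheaf of relative differentials of f (the relative canonical sheaf K_{X/S}) and m ≥ 1 an
integer such that K^{⊗m} is trivial on fibres: for every point s of S the restriction of K^{⊗m} to
the fibre X_s is isomorphic to O_{X_s}. Assume H^1(X_s, O_{X_s}) = 0 for every point s of S. Then
the evaluation map f^* f_* K^{⊗m} ⟶ K^{⊗m}, the counit of the adjunction between pullback and
pushforward of modules, is an isomorphism. (The published statement has f projective and smooth of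
possibly varying relative dimension; here f is taken locally projective of constant relative
dimension n.) -/
theorem result
    {X S : Scheme.{u}} [IsLocallyNoetherian S] (f : X ⟶ S)
    (hproj : RedSub.IsLocallyProjective (Over.mk f))
    (n : ℕ) [SmoothOfRelativeDimension n f] [GeometricallyConnected f]
    (ω : X.Modules) (hω : Canon.IsTopDiff f n ω) (m : ℕ) (hm : 1 ≤ m)
    (htriv : ∀ s : ↥S, Nonempty ((Scheme.Modules.pullback (f.fiberι s)).obj (CohB1.tensorPow ω m) ≅
      Coh.structureModule (f.fiber s)))
    (hH1 : ∀ s : ↥S, Subsingleton (Coh.HH (f.fiber s) (Coh.structureModule (f.fiber s)) 1)) :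
    IsIso ((Scheme.Modules.pullbackPushforwardAdjunction f).counit.app (CohB1.tensorPow ω m)) := by
  open Groth.Agent.Lib.Helper22.EGA7 Groth.Agent.Lib.Helper22.Canon
    Groth.Agent.Lib.Helper29.QCoh in
  haveI : IsProper f := isProper_of_isLocallyProjective f hproj
  haveI : Smooth f := SmoothOfRelativeDimension.smooth n f
  haveI : Flat f := inferInstance
  -- `Ω_{X/S}` is locally free of rank `n`
  have hd : OmegaSh.IsUniversal (OmegaSh.dOmega f) := Groth.Agent.S5005.result f
  haveI : (Omega.sheaf f).IsQuasicoherent :=
    Groth.Agent.Helper19.OmegaD.isQuasicoherent_of_universal f _ hd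
  have hE : FlatMod.IsFinLocFreeOfRank n (Omega.sheaf f) := by
    intro x
    obtain ⟨U, m', hxU, hiso, hm'⟩ :=
      Groth.Agent.Lib.Helper25.FibreDimRank.exists_free_of_universal f _ _ hd x
    rw [Groth.Agent.Lib.Helper25.FibreDimRank.fibreDimAt_eq_of_smoothOfRelativeDimension n f x]
      at hm'
    have hnm : n = m' := by exact_mod_cast hm'
    subst hnm
    exact ⟨U, hxU, hiso⟩
  have hωinv : PicF.IsInvertible ω := isInvertible_of_isExtPow (Omega.sheaf f) ω n hE hω
  have hL : PicF.IsInvertible (CohB1.tensorPow ω m) := isInvertible_tensorPow hωinv m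
  haveI : (CohB1.tensorPow ω m).IsQuasicoherent := isQuasicoherent_of_isInvertible hL
  -- the fibres are geometrically reduced
  haveI : GeometricallyReduced f :=
    ⟨fun K _ y Z fst snd H => by
      haveI : Smooth snd := MorphismProperty.of_isPullback (P := @Smooth) H inferInstance
      exact Groth.Agent.Lib.Helper14.isReduced_of_smooth_scheme snd⟩
  -- `O_S → f_* O_X` is an isomorphism
  have hfib : ∀ y : S,
      Function.Bijective ((Scheme.ΓSpecIso (CommRingCat.of ↑(S.residueField y))).inv ≫
        (f.fiberToSpecResidueField y).appTop).hom := by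
    intro y
    haveI : IsProper (f.fiberToSpecResidueField y) :=
      MorphismProperty.pullback_snd (P := @IsProper) f (S.fromSpecResidueField y) inferInstance
    exact Groth.Agent.Lib.Helper21.PropH0.bijective_toGlobal_of_proper (S.residueField y)
      (f.fiber y) (f.fiberToSpecResidueField y)
  have hG : ∀ W : S.Opens, Function.Bijective (f.app W).hom := app_bijective_of_fibres f hfib
  -- `ω^m` is trivial near every fibre
  have hloc : ∀ y : S, ∃ U : S.Opens, y ∈ U ∧
      ∃ e : Γ(CohB1.tensorPow ω m, f ⁻¹ᵁ U), IsTriv (CohB1.tensorPow ω m) (f ⁻¹ᵁ U) e := by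
    intro y
    obtain ⟨φy⟩ := htriv y
    obtain ⟨U, hyU, ⟨ε⟩⟩ := Groth.Agent.S2388.result f y (hH1 y) (CohB1.tensorPow ω m) (unitM X) hL
      (isInvertible_unit X) ⟨φy ≪≫ (pullbackUnitIso (f.fiberι y)).symm⟩
    refine ⟨U, hyU, ?_⟩
    exact exists_isTriv_of_iso (f ⁻¹ᵁ U) (ε ≪≫ restrictIsoPullback (f ⁻¹ᵁ U).ι (unitM X) ≪≫
      pullbackUnitIso (f ⁻¹ᵁ U).ι)
  exact (seesaw_of_local f hG _ hloc).2

end Groth.Agent.S19498
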