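import Groth.Statements.S19502
import Mathlib

set_option autoImplicit false
universe u
open W4c3ghconstell

namespace Groth.Agent.S19502

/-- Let ι index the irreducible representations, θ : ι → ℚ a weight which is negative exactly on the
finite set D₋, h h' : ι → ℕ with h' ≤ h pointwise (the isotypic dimensions of an object and of a
sub-object) and Σ_i θ_i h_i summable. For a finite set D of indices put S_D = Σ_{i ∉ D} θ_i h_i, d =
#(D ∖ D₋) and θ̃_D = Σ_{i ∈ D} θ_i h'_i + (S_D / d) · Σ_{i ∈ D ∖ D₋} h'_i / h_i, the modified weight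
attached to the parameters chosen for D (a quotient by zero is read as zero). Then for finite sets
D₋ ⊆ D ⊆ D̃ contained in the locus θ ≠ 0: (first error term) θ̃_{D̃} − θ̃_D = Σ_{τ ∈ D̃ ∖ D} (θ_τ
h_τ + S_{D̃}/d̃) · (h'_τ/h_τ − (1/d) Σ_{σ ∈ D ∖ D₋} h'_σ/h_σ); (second error term) Σ_i θ_i h'_i −
θ̃_D = Σ_{τ ∉ D} θ_τ h_τ · (h'_τ/h_τ − (1/d) Σ_{σ ∈ D ∖ D₋} h'_σ/h_σ). -/
theorem result {ι : Type u} [DecidableEq ι]
    (θ : ι → ℚ) (h h' : ι → ℕ) (hle : ∀ i, h' i ≤ h i) (hfin : {i | θ i < 0}.Finite)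
    (hsum : Summable (fun i => (θ i : ℝ) * (h i : ℝ))) (D D' : Finset ι)
    (hDm : hfin.toFinset ⊆ D) (hDD' : D ⊆ D') (hsupp : ∀ i ∈ D', θ i ≠ 0) :
    (((∑ i ∈ D', (θ i : ℝ) * (h' i : ℝ)) + ((∑' i, if i ∈ D' then (0 : ℝ) else (θ i : ℝ) * (h i : ℝ)) / ((D' \ hfin.toFinset).card : ℝ)) * (∑ σ ∈ D' \ hfin.toFinset, ((h' σ : ℝ) / (h σ : ℝ)))) - ((∑ i ∈ D, (θ i : ℝ) * (h' i : ℝ)) + ((∑' i, if i ∈ D then (0 : ℝ) else (θ i : ℝ) * (h i : ℝ)) / ((D \ hfin.toFinset).card : ℝ)) * (∑ σ ∈ D \ hfin.toFinset, ((h' σ : ℝ) / (h σ : ℝ)))) =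
      ∑ τ ∈ D' \ D, ((θ τ : ℝ) * (h τ : ℝ) + (∑' i, if i ∈ D' then (0 : ℝ) else (θ i : ℝ) * (h i : ℝ)) / ((D' \ hfin.toFinset).card : ℝ)) *
        (((h' τ : ℝ) / (h τ : ℝ)) - (1 / ((D \ hfin.toFinset).card : ℝ)) * (∑ σ ∈ D \ hfin.toFinset, ((h' σ : ℝ) / (h σ : ℝ))))) ∧
    ((∑' i, (θ i : ℝ) * (h' i : ℝ)) - ((∑ i ∈ D, (θ i : ℝ) * (h' i : ℝ)) + ((∑' i, if i ∈ D then (0 : ℝ) else (θ i : ℝ) * (h i : ℝ)) / ((D \ hfin.toFinset).card : ℝ)) * (∑ σ ∈ D \ hfin.toFinset, ((h' σ : ℝ) / (h σ : ℝ)))) =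
      ∑' τ, if τ ∈ D then (0 : ℝ) else (θ τ : ℝ) * (h τ : ℝ) *
        (((h' τ : ℝ) / (h τ : ℝ)) - (1 / ((D \ hfin.toFinset).card : ℝ)) * (∑ σ ∈ D \ hfin.toFinset, ((h' σ : ℝ) / (h σ : ℝ))))) := by
  classical
  set M := hfin.toFinset with hM
  have hr : ∀ i, (θ i : ℝ) * (h i : ℝ) * ((h' i : ℝ) / (h i : ℝ)) = (θ i : ℝ) * (h' i : ℝ) := by
    intro i
    by_cases h0 : h i = 0
    · have : h' i = 0 := Nat.le_zero.mp (h0 ▸ hle i)
      simp [h0, this]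
    · have : (h i : ℝ) ≠ 0 := by exact_mod_cast h0
      field_simp
  have hsum' : Summable (fun i => (θ i : ℝ) * (h' i : ℝ)) := by
    refine Summable.of_norm_bounded (g := fun i => |(θ i : ℝ) * (h i : ℝ)|) hsum.abs ?_
    intro i
    rw [Real.norm_eq_abs, abs_mul, abs_mul]
    apply mul_le_mul_of_nonneg_left _ (abs_nonneg _)
    rw [abs_of_nonneg (Nat.cast_nonneg _), abs_of_nonneg (Nat.cast_nonneg _)]
    exact_mod_cast hle i
  have key : ∀ (f : ι → ℝ), Summable f → ∀ D : Finset ι,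
      HasSum (fun i => if i ∈ D then (0:ℝ) else f i) (∑' i, f i - ∑ i ∈ D, f i) := by
    intro f hf D
    have h1 : HasSum (fun i => if i ∈ D then f i else 0) (∑ i ∈ D, f i) := by
      have : HasSum (fun i => if i ∈ D then f i else 0)
          (∑ b ∈ D, (fun i => if i ∈ D then f i else 0) b) :=
        hasSum_sum_of_ne_finset_zero (s := D) (f := fun i => if i ∈ D then f i else 0)
          (fun b hb => if_neg hb)
      rwa [Finset.sum_congr rfl (fun i hi => if_pos hi)] at this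
    have h2 := hf.hasSum.sub h1
    have hfe : (fun i => if i ∈ D then (0:ℝ) else f i) = fun b => f b - if b ∈ D then f b else 0 := by
      funext i
      by_cases hi : i ∈ D <;> simp [hi]
    rw [hfe]
    exact h2
  have hS : (∑' i, if i ∈ D then (0 : ℝ) else (θ i : ℝ) * (h i : ℝ))
      = (∑' i, (θ i : ℝ) * (h i : ℝ)) - ∑ i ∈ D, (θ i : ℝ) * (h i : ℝ) := (key _ hsum D).tsum_eq
  have hS' : (∑' i, if i ∈ D' then (0 : ℝ) else (θ i : ℝ) * (h i : ℝ))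
      = (∑' i, (θ i : ℝ) * (h i : ℝ)) - ∑ i ∈ D', (θ i : ℝ) * (h i : ℝ) := (key _ hsum D').tsum_eq
  have hPP' : D \ M ⊆ D' \ M := Finset.sdiff_subset_sdiff hDD' le_rfl
  have hE : (D' \ M) \ (D \ M) = D' \ D := by
    ext x
    simp only [Finset.mem_sdiff]
    constructor
    · rintro ⟨⟨h1, h2⟩, h3⟩
      exact ⟨h1, fun hx => h3 ⟨hx, h2⟩⟩
    · rintro ⟨h1, h2⟩
      exact ⟨⟨h1, fun hx => h2 (hDm hx)⟩, fun hx => h2 hx.1⟩
  have hcard : ((D' \ M).card : ℝ) = ((D \ M).card : ℝ) + ((D' \ D).card : ℝ) := by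
    rw [← Finset.card_sdiff_add_card_eq_card hPP', hE]; push_cast; ring
  have hT' : ∑ σ ∈ D' \ M, ((h' σ : ℝ) / (h σ : ℝ))
      = ∑ σ ∈ D \ M, ((h' σ : ℝ) / (h σ : ℝ)) + ∑ σ ∈ D' \ D, ((h' σ : ℝ) / (h σ : ℝ)) := by
    rw [← Finset.sum_sdiff hPP', hE]; ring
  have hA' : ∑ i ∈ D', (θ i : ℝ) * (h' i : ℝ)
      = ∑ i ∈ D, (θ i : ℝ) * (h' i : ℝ) + ∑ i ∈ D' \ D, (θ i : ℝ) * (h' i : ℝ) := by
    rw [← Finset.sum_sdiff hDD']; ring
  have hF' : ∑ i ∈ D', (θ i : ℝ) * (h i : ℝ)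
      = ∑ i ∈ D, (θ i : ℝ) * (h i : ℝ) + ∑ i ∈ D' \ D, (θ i : ℝ) * (h i : ℝ) := by
    rw [← Finset.sum_sdiff hDD']; ring
  have hexp : ∀ s c : ℝ,
      ∑ τ ∈ D' \ D, ((θ τ : ℝ) * (h τ : ℝ) + s) * (((h' τ : ℝ) / (h τ : ℝ)) - c)
      = ∑ τ ∈ D' \ D, (θ τ : ℝ) * (h' τ : ℝ) + s * ∑ τ ∈ D' \ D, ((h' τ : ℝ) / (h τ : ℝ))
        - c * ∑ τ ∈ D' \ D, (θ τ : ℝ) * (h τ : ℝ) - ((D' \ D).card : ℝ) * (s * c) := by
    intro s c
    rw [Finset.mul_sum, Finset.mul_sum, ← Finset.sum_add_distrib, ← Finset.sum_sub_distrib]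
    rw [← nsmul_eq_mul, ← Finset.sum_const, ← Finset.sum_sub_distrib]
    refine Finset.sum_congr rfl fun τ _ => ?_
    have := hr τ
    linear_combination this
  constructor
  · rw [hS, hS', hexp, hA', hT', hF', hcard]
    by_cases hd : ((D \ M).card : ℝ) = 0
    · have hT0 : ∑ σ ∈ D \ M, ((h' σ : ℝ) / (h σ : ℝ)) = 0 := by
        have : D \ M = ∅ := Finset.card_eq_zero.mp (by exact_mod_cast hd)
        rw [this, Finset.sum_empty]
      rw [hT0, hd]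
      simp only [zero_add, div_zero, mul_zero, add_zero, zero_mul, sub_zero]
      ring
    · have hdpos : 0 < ((D \ M).card : ℝ) := lt_of_le_of_ne (Nat.cast_nonneg _) (Ne.symm hd)
      have hd' : ((D \ M).card : ℝ) + ((D' \ D).card : ℝ) ≠ 0 := by positivity
      generalize (∑' i, (θ i : ℝ) * (h i : ℝ)) = F
      generalize ∑ i ∈ D, (θ i : ℝ) * (h' i : ℝ) = A
      generalize ∑ i ∈ D, (θ i : ℝ) * (h i : ℝ) = fD
      generalize ∑ i ∈ D' \ D, (θ i : ℝ) * (h i : ℝ) = fE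
      generalize ∑ i ∈ D' \ D, (θ i : ℝ) * (h' i : ℝ) = V
      generalize ∑ σ ∈ D \ M, ((h' σ : ℝ) / (h σ : ℝ)) = T
      generalize ∑ σ ∈ D' \ D, ((h' σ : ℝ) / (h σ : ℝ)) = U
      generalize ((D \ M).card : ℝ) = d at *
      generalize ((D' \ D).card : ℝ) = e at *
      field_simp
      ring
  · rw [hS]
    set c : ℝ := (1 / ((D \ M).card : ℝ)) * (∑ σ ∈ D \ M, ((h' σ : ℝ) / (h σ : ℝ))) with hc
    have h2 := (key _ hsum' D).sub ((key _ hsum D).mul_left c)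
    have hfun : (fun τ => if τ ∈ D then (0 : ℝ) else (θ τ : ℝ) * (h τ : ℝ) * (((h' τ : ℝ) / (h τ : ℝ)) - c))
        = fun τ => (if τ ∈ D then (0 : ℝ) else (θ τ : ℝ) * (h' τ : ℝ))
          - c * (if τ ∈ D then (0 : ℝ) else (θ τ : ℝ) * (h τ : ℝ)) := by
      funext τ
      by_cases hτ : τ ∈ D
      · simp [hτ]
      · simp only [if_neg hτ]
        linear_combination hr τ
    rw [hfun, h2.tsum_eq, hc]
    ring

end Groth.Agent.S19502
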