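import Groth.Statements.S19506
import Mathlib
import Groth.Agent.Lib.Helper23.CohenEq2
import Groth.Agent.Lib.Helper1.ArtFunAdicSmooth

set_option autoImplicit false
universe u
open CAlg

namespace Groth.Agent.S19506



open IsLocalRing Groth.Agent.Lib.Helper1.ArtFunLib ArtFun ArtFun.Art CategoryTheory in
theorem isGeometricallyReduced_of_bijective' {K κ : Type u} [Field K] [Field κ] [Algebra K κ]
    (h : Function.Bijective (algebraMap K κ)) : Algebra.IsGeometricallyReduced K κ := by
  have : Algebra.IsGeometricallyReduced K K := by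
    rw [Algebra.isGeometricallyReduced_field_iff]
    exact isReduced_of_injective (Algebra.TensorProduct.rid K K (AlgebraicClosure K)).toRingEquiv
      (Algebra.TensorProduct.rid K K (AlgebraicClosure K)).injective
  let e : K ≃ₐ[K] κ := AlgEquiv.ofBijective (Algebra.ofId K _) h
  exact Algebra.IsGeometricallyReduced.of_injective e.symm.toAlgHom e.symm.injective

open IsLocalRing Groth.Agent.Lib.Helper1.ArtFunLib ArtFun ArtFun.Art CategoryTheory in
theorem isSmoothFunctor_of_crit {k : Type u} [Field k] (R : CRing k k)
    (h : ∀ (B : Type u) [CommRing B] [Algebra k B] [IsArtinianRing B] [IsLocalRing B] (J : Ideal B),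
        J ^ 2 = ⊥ → ∀ f : R.carrier →ₐ[k] B ⧸ J, IsLocalHom (f : R.carrier →+* B ⧸ J) →
          ∃ g : R.carrier →ₐ[k] B, (Ideal.Quotient.mkₐ k J).comp g = f) :
    IsSmoothFunctor (hR R.carrier R.res) := by
  intro B A μ hμ
  refine surjective_induction (fun A B μ => Function.Surjective ((hR R.carrier R.res).map μ))
    ?_ ?_ ?_ μ hμ
  · intro A B e he (φ : HomSet R.carrier R.res A)
    refine ⟨HomSet.map (inv e) φ, ?_⟩
    change HomSet.map e (HomSet.map (inv e) φ) = φ
    rw [← homSet_map_comp, IsIso.inv_hom_id, homSet_map_id]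
  · intro A B p hp (φ : HomSet R.carrier R.res A)
    set J := RingHom.ker p.toAlgHom with hJdef
    have hJ : J ^ 2 = ⊥ := by
      rw [eq_bot_iff, pow_two]
      calc J * J ≤ IsLocalRing.maximalIdeal B * J := Ideal.mul_mono_left (ker_le_maximalIdeal p)
        _ = ⊥ := hp.2.2.2
    let e : (B ⧸ J) ≃ₐ[k] A := Ideal.quotientKerAlgEquivOfSurjective (f := p.toAlgHom) hp.1
    have he : ∀ b : B, e (Ideal.Quotient.mk J b) = p b := fun b => rfl
    let ψ : R.carrier →ₐ[k] B ⧸ J := (e.symm : A →ₐ[k] B ⧸ J).comp φ.1
    have hloc : IsLocalHom (ψ : R.carrier →+* B ⧸ J) := by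
      refine ⟨fun a ha => ?_⟩
      have h0 : IsUnit (ψ a) := ha
      have h1 : IsUnit (φ.1 a) := by
        have h2 := h0.map e
        have h3 : e (ψ a) = φ.1 a := e.apply_symm_apply (φ.1 a)
        rwa [h3] at h2
      have h2 : IsUnit (A.res (φ.1 a)) := h1.map A.res
      rw [res_homSet] at h2
      by_contra hna
      have hmem : a ∈ IsLocalRing.maximalIdeal R.carrier := hna
      have hmax : (RingHom.ker (R.res : R.carrier →+* k)).IsMaximal :=
        RingHom.ker_isMaximal_of_surjective (R.res : R.carrier →+* k) R.res_surjective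
      rw [← IsLocalRing.eq_maximalIdeal hmax, RingHom.mem_ker] at hmem
      have hmem' : R.res a = 0 := hmem
      rw [hmem'] at h2
      exact not_isUnit_zero h2
    obtain ⟨χ, hχ⟩ := h B J hJ ψ hloc
    have hχ' : ∀ r, p (χ r) = φ.1 r := by
      intro r
      have := congrArg (fun w : R.carrier →ₐ[k] B ⧸ J => e (w r)) hχ
      change e (Ideal.Quotient.mk J (χ r)) = e (e.symm (φ.1 r)) at this
      rw [he, AlgEquiv.apply_symm_apply] at this
      exact this
    refine ⟨⟨χ, ?_⟩, ?_⟩
    · apply AlgHom.ext
      intro r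
      change B.res (χ r) = R.res r
      rw [← res_app p, hχ', res_homSet]
    · apply homSet_ext
      intro r
      exact hχ' r
  · intro A B C p q hp hq (φ : HomSet R.carrier R.res A)
    obtain ⟨(ψ₁ : HomSet R.carrier R.res B), h1⟩ := hq φ
    obtain ⟨(ψ₂ : HomSet R.carrier R.res C), h2⟩ := hp ψ₁
    refine ⟨ψ₂, ?_⟩
    change HomSet.map (p ≫ q) ψ₂ = φ
    rw [homSet_map_comp]
    have h2' : HomSet.map p ψ₂ = ψ₁ := h2
    have h1' : HomSet.map q ψ₁ = φ := h1
    rw [h2', h1']

/-- (i) ⇔ (iii): let k be a field and A a complete local Noetherian k-algebra with residue field k (a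
k-algebra map π : A → k with kernel the maximal ideal; A complete for the adic topology of its
maximal ideal). Then A is regular if and only if A satisfies the infinitesimal lifting criterion:
for every Artinian local k-algebra R and every ideal J of R of square zero, every local k-algebra
homomorphism A → R/J (one carrying non-units to non-units) lifts to a k-algebra homomorphism A → R.
(The test algebras R range over one universe, that of A. The published criterion is worded for
arbitrary k-algebra homomorphisms A → R/J; it is stated here for local ones, the case the argument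
establishes and the form in which the text itself restates the criterion afterwards. The published
statement lists a third equivalent condition, A ≅ k[[x_1, …, x_d]].) -/
theorem result (k A : Type u) [Field k]
    [CommRing A] [Algebra k A] [IsLocalRing A] [IsNoetherianRing A]
    [IsAdicComplete (IsLocalRing.maximalIdeal A) A]
    (π : A →ₐ[k] k) (hπ : RingHom.ker π = IsLocalRing.maximalIdeal A) :
    IsRegularLocalRing A ↔
      ∀ (R : Type u) [CommRing R] [Algebra k R] [IsArtinianRing R] [IsLocalRing R] (J : Ideal R),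
        J ^ 2 = ⊥ → ∀ f : A →ₐ[k] R ⧸ J, IsLocalHom (f : A →+* R ⧸ J) →
          ∃ g : A →ₐ[k] R, (Ideal.Quotient.mkₐ k J).comp g = f := by

  have hsurjπ : Function.Surjective π := fun c => ⟨algebraMap k A c, by
    rw [AlgHom.commutes]; rfl⟩
  have hbij : Function.Bijective (algebraMap k (IsLocalRing.ResidueField A)) := by
    refine ⟨(algebraMap k (IsLocalRing.ResidueField A)).injective, fun x => ?_⟩
    obtain ⟨a, rfl⟩ := IsLocalRing.residue_surjective x
    refine ⟨π a, ?_⟩
    rw [IsScalarTower.algebraMap_apply k A (IsLocalRing.ResidueField A),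
      IsLocalRing.ResidueField.algebraMap_eq]
    symm
    rw [← sub_eq_zero, ← map_sub, IsLocalRing.residue_eq_zero_iff, ← hπ, RingHom.mem_ker, map_sub,
      sub_eq_zero]
    change π a = π (algebraMap k A (π a))
    rw [AlgHom.commutes]
    rfl
  have : Algebra.IsGeometricallyReduced k (IsLocalRing.ResidueField A) :=
    isGeometricallyReduced_of_bijective' hbij
  have hT : CAlgX.IsAdicFormallySmooth k A (IsLocalRing.maximalIdeal A) ↔ IsRegularLocalRing A :=
    (Groth.Agent.Lib.Helper23.CohenEq2.t2453main (k := k) (A := A)).out 0 3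
  rw [← hT]
  constructor
  · intro h R _ _ _ _ J hJ f hf
    apply h R J hJ f
    have hJne : J ≠ ⊤ := by
      intro hJt
      rw [hJt, Ideal.top_pow] at hJ
      exact top_ne_bot hJ
    haveI : Nontrivial (R ⧸ J) := Ideal.Quotient.nontrivial_iff.mpr hJne
    haveI : IsLocalRing (R ⧸ J) :=
      IsLocalRing.of_surjective' (Ideal.Quotient.mk J) Ideal.Quotient.mk_surjective
    obtain ⟨N, hN⟩ : ∃ N : ℕ, IsLocalRing.maximalIdeal (R ⧸ J) ^ N = ⊥ := by
      have h1 := IsArtinianRing.isNilpotent_jacobson_bot (R := R ⧸ J)
      rw [IsLocalRing.jacobson_eq_maximalIdeal ⊥ bot_ne_top] at h1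
      exact h1
    refine ⟨N, fun x hx => ?_⟩
    have hle : (IsLocalRing.maximalIdeal A).map (f : A →+* R ⧸ J) ≤ IsLocalRing.maximalIdeal (R ⧸ J) := by
      rw [Ideal.map_le_iff_le_comap]
      intro a ha
      rw [Ideal.mem_comap, IsLocalRing.mem_maximalIdeal, mem_nonunits_iff]
      intro hu
      exact (IsLocalRing.mem_maximalIdeal a).mp ha (hf.map_nonunit a hu)
    have h2 : (f : A →+* R ⧸ J) x ∈ IsLocalRing.maximalIdeal (R ⧸ J) ^ N := by
      apply Ideal.pow_right_mono hle N
      rw [← Ideal.map_pow]
      exact Ideal.mem_map_of_mem _ hx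
    rw [hN] at h2
    exact h2
  · intro h
    let S : ArtFun.CRing k k :=
      { carrier := A
        res := π
        res_surjective := hsurjπ
        isAdicComplete := inferInstance }
    have hsm : ArtFun.IsSmoothFunctor (ArtFun.hR S.carrier S.res) :=
      isSmoothFunctor_of_crit S (fun B _ _ _ _ J hJ f hf => h B J hJ f hf)
    exact Groth.Agent.Lib.Helper1.ArtFunLib.isAdicFormallySmooth_of_isSmoothFunctor S hsm

end Groth.Agent.S19506
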