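import Groth.Statements.S19507
import Groth.Agent.Lib.Helper25.RegularSepSmooth
import Groth.Agent.Lib.Helper25.GrpSmoothNonempty

set_option autoImplicit false
universe u
open CategoryTheory MonoidalCategory CartesianMonoidalCategory MonObj GrpObj AlgebraicGeometry
open AlgGrp

namespace Groth.Agent.S19507

/-- (iv) ⇒ (i): let k be a field, G a k-group scheme of finite type and e ∈ G the identity point (the
image of the unit section Spec k → G). If the local ring of G at e is regular, then G is smooth over
k. (The corollary lists six equivalent conditions; (i) ⇒ (iv) is the standard fact that smooth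
schemes over a field have regular local rings, and the remaining conditions concern the base change
to an algebraic closure and the completed local ring.) -/
theorem result (k : Type u) [Field k]
    (G : Over (Spec (CommRingCat.of k))) [GrpObj G] [LocallyOfFiniteType G.hom] [QuasiCompact G.hom]
    (e : G.left) (he : e ∈ Set.range (η[G]).left.base)
    (hreg : IsRegularLocalRing (G.left.presheaf.stalk e)) : Smooth G.hom := by
  obtain ⟨t, rfl⟩ := he
  have ht : t = IsLocalRing.closedPoint k :=
    Subsingleton.elim (α := PrimeSpectrum k) t (IsLocalRing.closedPoint k)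
  subst ht
  apply Groth.Agent.Lib.Helper25.GrpSmoothNonempty.smooth_of_nonempty_smoothLocus
  refine ⟨Groth.Agent.Lib.Helper25.GrpTangent.e G, ?_⟩
  have reg : IsRegularLocalRing (Groth.Agent.Lib.Helper25.GrpTangent.A G) := hreg
  let _ := Groth.Agent.Lib.Helper25.GrpTangent.algA G
  have hgr : Algebra.IsGeometricallyReduced k
      (IsLocalRing.ResidueField (Groth.Agent.Lib.Helper25.GrpTangent.A G)) :=
    Groth.Agent.Lib.Helper25.GrpTangent.isGeometricallyReduced_of_bijective
      (Groth.Agent.Lib.Helper25.DualPoint.algebraMap_residueField_bijective
        (Groth.Agent.Lib.Helper25.GrpTangent.augAlg G))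
  exact Groth.Agent.Lib.Helper25.RegularSepSmooth.mem_smoothLocus_of_regular G.hom
    (Groth.Agent.Lib.Helper25.GrpTangent.e G)
    (congrArg (fun g => g.hom) (Groth.Agent.Lib.Helper25.GrpTangent.str_eq G))


end Groth.Agent.S19507
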