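import Groth.Statements.S19514
-- import your own Groth.Agent.* helpers here

set_option autoImplicit false
universe u
open CategoryTheory CategoryTheory.Limits AlgebraicGeometry
open Variety

namespace Groth.Agent.S19514

/-- Let k be a field and f : X → Y a k-morphism between proper k-schemes which is a fibration, i.e. O_Y
→ f_*O_X is an isomorphism (Γ(V, O_Y) → Γ(f⁻¹V, O_X) bijective for every open V ⊆ Y). If X is
geometrically integral over k, then so is Y. (The assertion of (iii) for geometric normality is not
stated here.) -/
theorem result (k : Type u) [Field k] (X Y : Scheme.{u})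
    [X.Over (Spec (CommRingCat.of k))] [Y.Over (Spec (CommRingCat.of k))] [IsProper (X ↘ Spec (CommRingCat.of k))] [IsProper (Y ↘ Spec (CommRingCat.of k))]
    (f : X ⟶ Y) (hf : f ≫ (Y ↘ Spec (CommRingCat.of k)) = X ↘ Spec (CommRingCat.of k)) (hfib : ∀ V : Y.Opens, IsIso (f.app V))
    [GeometricallyIntegral (X ↘ Spec (CommRingCat.of k))] : GeometricallyIntegral (Y ↘ Spec (CommRingCat.of k)) := by
  refine ⟨fun K _ y Z fst snd h => ?_⟩
  haveI : QuasiCompact (f ≫ (Y ↘ Spec (CommRingCat.of k))) := by rw [hf]; infer_instance
  haveI : QuasiCompact f := QuasiCompact.of_comp f (Y ↘ Spec (CommRingCat.of k))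
  haveI : IsSchemeTheoreticallyDominant f := by
    rw [isSchemeTheoreticallyDominant_iff]
    refine Scheme.IdealSheafData.ext (funext fun U => ?_)
    rw [Scheme.Hom.ker_apply, Scheme.IdealSheafData.ideal_bot, Pi.bot_apply,
      ← RingHom.injective_iff_ker_eq_bot]
    haveI := hfib U.1
    exact (ConcreteCategory.bijective_of_isIso (f.app U.1)).1
  have H1 : IsPullback (Limits.pullback.fst f fst) (Limits.pullback.snd f fst) f fst :=
    .of_hasPullback _ _
  have H2 : IsPullback (Limits.pullback.fst f fst) (Limits.pullback.snd f fst ≫ snd)
      (X ↘ Spec (CommRingCat.of k)) y := by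
    rw [← hf]; exact H1.paste_vert h
  haveI : IsIntegral (Limits.pullback f fst) :=
    GeometricallyIntegral.geometrically_isIntegral (f := X ↘ Spec (CommRingCat.of k)) y _ _ H2
  haveI : Flat y := by
    haveI : Subsingleton ↥(Spec (CommRingCat.of k)) :=
      inferInstanceAs (Subsingleton (PrimeSpectrum k))
    infer_instance
  haveI : Flat fst := MorphismProperty.of_isPullback h.flip ‹Flat y›
  haveI : IsSchemeTheoreticallyDominant (Limits.pullback.snd f fst) := .of_isPullback H1
  haveI : IsReduced Z := IsSchemeTheoreticallyDominant.isReduced (Limits.pullback.snd f fst)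
  haveI : IsDominant (Limits.pullback.snd f fst) := inferInstance
  haveI : IrreducibleSpace Z := by
    rw [irreducibleSpace_def]
    have h1 : IsIrreducible (Set.univ : Set ↥(Limits.pullback f fst)) :=
      (irreducibleSpace_def _).mp inferInstance
    have h2 := (h1.image (Limits.pullback.snd f fst).base
      (Limits.pullback.snd f fst).continuous.continuousOn).closure
    rw [Set.image_univ, (Limits.pullback.snd f fst).denseRange.closure_eq] at h2
    exact h2
  exact isIntegral_of_irreducibleSpace_of_isReduced Z

end Groth.Agent.S19514
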