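import Groth.Statements.S19515
import Groth.Agent.Lib.Helper21.FibBC
import Groth.Agent.S19513
-- import your own Groth.Agent.* helpers here

set_option autoImplicit false
universe u
open CategoryTheory CategoryTheory.Limits AlgebraicGeometry
open Variety

namespace Groth.Agent.S19515

/-- Let k be a field and f : X → Y a k-morphism between proper k-schemes which is a fibration, i.e. O_Y
→ f_*O_X is an isomorphism (Γ(V, O_Y) → Γ(f⁻¹V, O_X) bijective for every open V ⊆ Y). If X is
geometrically normal, i.e. its base change to every algebraic closure of k has all local rings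
integrally closed domains, then Y is geometrically normal in the same sense. -/
theorem result (k : Type u) [Field k] (X Y : Scheme.{u})
    [X.Over (Spec (CommRingCat.of k))] [Y.Over (Spec (CommRingCat.of k))] [IsProper (X ↘ Spec (CommRingCat.of k))] [IsProper (Y ↘ Spec (CommRingCat.of k))]
    (f : X ⟶ Y) (hf : f ≫ (Y ↘ Spec (CommRingCat.of k)) = X ↘ Spec (CommRingCat.of k)) (hfib : ∀ V : Y.Opens, IsIso (f.app V))
    (hX : ∀ (K : Type u) [Field K] [Algebra k K] [IsAlgClosure k K],
      Pi1.IsNormalScheme (pullback (X ↘ Spec (CommRingCat.of k)) (Spec.map (CommRingCat.ofHom (algebraMap k K)))))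
    (K : Type u) [Field K] [Algebra k K] [IsAlgClosure k K] :
    Pi1.IsNormalScheme (pullback (Y ↘ Spec (CommRingCat.of k)) (Spec.map (CommRingCat.ofHom (algebraMap k K)))) := by
  let y : Spec (CommRingCat.of K) ⟶ Spec (CommRingCat.of k) :=
    Spec.map (CommRingCat.ofHom (algebraMap k K))
  let XK := pullback (X ↘ Spec (CommRingCat.of k)) y
  let YK := pullback (Y ↘ Spec (CommRingCat.of k)) y
  letI : XK.Over (Spec (CommRingCat.of K)) := ⟨pullback.snd _ _⟩
  letI : YK.Over (Spec (CommRingCat.of K)) := ⟨pullback.snd _ _⟩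
  haveI : IsProper (XK ↘ Spec (CommRingCat.of K)) :=
    inferInstanceAs (IsProper (pullback.snd (X ↘ Spec (CommRingCat.of k)) y))
  haveI : IsProper (YK ↘ Spec (CommRingCat.of K)) :=
    inferInstanceAs (IsProper (pullback.snd (Y ↘ Spec (CommRingCat.of k)) y))
  let fK : XK ⟶ YK := pullback.map (X ↘ Spec (CommRingCat.of k)) y (Y ↘ Spec (CommRingCat.of k)) y
    f (𝟙 _) (𝟙 _) (by rw [Category.comp_id, hf]) (by simp)
  have hfK : fK ≫ (YK ↘ Spec (CommRingCat.of K)) = XK ↘ Spec (CommRingCat.of K) := by
    change fK ≫ pullback.snd _ _ = pullback.snd _ _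
    simp only [fK, pullback.map, pullback.lift_snd, Category.comp_id]
  have hfst : fK ≫ pullback.fst (Y ↘ Spec (CommRingCat.of k)) y =
      pullback.fst (X ↘ Spec (CommRingCat.of k)) y ≫ f := by
    simp only [fK, pullback.map, pullback.lift_fst]
  have Hright : IsPullback (pullback.snd (Y ↘ Spec (CommRingCat.of k)) y)
      (pullback.fst (Y ↘ Spec (CommRingCat.of k)) y) y (Y ↘ Spec (CommRingCat.of k)) :=
    (IsPullback.of_hasPullback _ _).flip
  have Hbig : IsPullback (fK ≫ pullback.snd (Y ↘ Spec (CommRingCat.of k)) y)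
      (pullback.fst (X ↘ Spec (CommRingCat.of k)) y) y (f ≫ (Y ↘ Spec (CommRingCat.of k))) := by
    have h1 : fK ≫ pullback.snd (Y ↘ Spec (CommRingCat.of k)) y =
        pullback.snd (X ↘ Spec (CommRingCat.of k)) y := by
      simp only [fK, pullback.map, pullback.lift_snd, Category.comp_id]
    rw [h1, hf]
    exact (IsPullback.of_hasPullback _ _).flip
  have H : IsPullback (pullback.fst (X ↘ Spec (CommRingCat.of k)) y) fK f
      (pullback.fst (Y ↘ Spec (CommRingCat.of k)) y) :=
    (IsPullback.of_right Hbig hfst Hright).flip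
  haveI : QuasiCompact (f ≫ (Y ↘ Spec (CommRingCat.of k))) := by rw [hf]; infer_instance
  haveI : QuasiCompact f := QuasiCompact.of_comp f (Y ↘ Spec (CommRingCat.of k))
  haveI : IsSeparated (f ≫ (Y ↘ Spec (CommRingCat.of k))) := by rw [hf]; infer_instance
  haveI : IsSeparated f := IsSeparated.of_comp f (Y ↘ Spec (CommRingCat.of k))
  haveI : Flat y := by
    haveI : Subsingleton ↥(Spec (CommRingCat.of k)) :=
      inferInstanceAs (Subsingleton (PrimeSpectrum k))
    infer_instance
  haveI : Flat (pullback.fst (Y ↘ Spec (CommRingCat.of k)) y) := inferInstance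
  have hfibK : ∀ W : YK.Opens, IsIso (fK.app W) :=
    fun W => Groth.Agent.Lib.Helper21.FibBC.isIso_app_of_isPullback_of_flat H hfib W
  exact Groth.Agent.S19513.result K XK YK fK hfK hfibK (hX K)

end Groth.Agent.S19515
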