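import Groth.Statements.S19519
import Mathlib
import Groth.Agent.Lib.Helper10.OrbitDim1
import Groth.Agent.Lib.Helper10.OrbitDim3

set_option autoImplicit false
universe u
open CategoryTheory MonoidalCategory CartesianMonoidalCategory MonObj GrpObj AlgebraicGeometry
open AlgGrp

namespace Groth.Agent.S19519

/-- Let k be an algebraically closed field, G a smooth k-group scheme of finite type acting on a
k-scheme X of finite type, and x a rational point of X. If the orbit of x — the image of the orbit
map G → X, g ↦ g · x, with its subspace topology — has Krull dimension at most that of the orbit of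
every rational point of X, then the orbit of x is closed in X. (The first assertions of the lemma,
local closedness and smoothness of orbits over any field, are not restated here.) -/
theorem result (k : Type u) [Field k] [IsAlgClosed k]
    (G X : Over (Spec (CommRingCat.of k))) [GrpObj G] [Smooth G.hom] [QuasiCompact G.hom]
    [LocallyOfFiniteType X.hom] [QuasiCompact X.hom] (a : AlgGrp.Action G X)
    (x : 𝟙_ (Over (Spec (CommRingCat.of k))) ⟶ X)
    (hmin : ∀ y : 𝟙_ (Over (Spec (CommRingCat.of k))) ⟶ X,
      topologicalKrullDim (Set.range (a.orbitMap x).left.base) ≤ topologicalKrullDim (Set.range (a.orbitMap y).left.base)) :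
    IsClosed (Set.range (a.orbitMap x).left.base) := by
  haveI : LocallyOfFiniteType G.hom := inferInstance
  obtain ⟨U, hU, hO⟩ := Groth.Agent.Lib.Helper10.OrbitDim.exists_isOpen_closure_inter_eq a x
  let pt : ↥(𝟙_ (Over (Spec (CommRingCat.of k)))).left := IsLocalRing.closedPoint k
  set O : Set ↥X.left := Set.range ⇑(a.orbitMap x).left.base with hOdef
  have hOne : O.Nonempty := ⟨_, ⟨η[G].left pt, rfl⟩⟩
  have hlt := Groth.Agent.Lib.Helper10.OrbitDim.dim_boundary_lt X.hom O U hU hO hOne
  have hOst : Groth.Agent.Lib.Helper10.ClosedOrb.Stable a O :=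
    Groth.Agent.Lib.Helper10.ClosedOrb.stable_range_orbitMap a x
  have hBst : Groth.Agent.Lib.Helper10.ClosedOrb.Stable a (closure O \ O) :=
    hOst.closure.diff hOst
  have hBeq : closure O \ O = closure O ∩ Uᶜ := by
    ext y
    constructor
    · rintro ⟨h1, h2⟩
      refine ⟨h1, fun h3 => h2 ?_⟩
      rw [← hO]
      exact ⟨h1, h3⟩
    · rintro ⟨h1, h2⟩
      refine ⟨h1, fun h3 => h2 ?_⟩
      rw [← hO] at h3
      exact h3.2
  have hBcl : IsClosed (closure O \ O) := by
    rw [hBeq]
    exact isClosed_closure.inter hU.isClosed_compl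
  by_cases hB : (closure O \ O).Nonempty
  · exfalso
    obtain ⟨y, hy⟩ := Groth.Agent.Lib.Helper10.OrbConn.exists_point_mem_of_isClosed X
      (closure O \ O) hBcl hB
    have hsub : Set.range ⇑(a.orbitMap y).left.base ⊆ closure O \ O :=
      Groth.Agent.Lib.Helper10.ClosedOrb.range_orbitMap_subset hBst y hy
    have h1 : topologicalKrullDim ↥(Set.range ⇑(a.orbitMap y).left.base) ≤
        topologicalKrullDim ↥(closure O \ O) :=
      (Topology.IsEmbedding.inclusion hsub).isInducing.topologicalKrullDim_le
    exact absurd (lt_of_le_of_lt ((hmin y).trans h1) hlt) (lt_irrefl _)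
  · rw [Set.not_nonempty_iff_eq_empty, Set.diff_eq_empty] at hB
    exact closure_subset_iff_isClosed.mp hB

end Groth.Agent.S19519
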