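import Groth.Statements.S19524
import Groth.Agent.Lib.Helper25.ExtPowSection

set_option autoImplicit false
universe u
open CategoryTheory CategoryTheory.Limits AlgebraicGeometry
open OmegaSh

namespace Groth.Agent.S19524

/-- Let k be a field and f : X → Z a k-morphism between integral proper k-schemes, where X is
geometrically normal (its base change to an algebraic closure of k has integrally closed local
domains) and Z is smooth over k; let Y ⊆ Z be the closure of the image of f, m its dimension, and
assume the fibre of f over the generic point of Y is geometrically reduced over the residue field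
there (the function field extension K(Y) ⊆ K(X) is separable). Let d_Z : O_Z → Ω_Z and d_X : O_X →
Ω_X be universal k-derivations and c : f^*Ω_Z → Ω_X the O_X-linear map compatible with them, and let
U ⊆ X be the largest open subscheme smooth over k. If f^*Ω_Z is a free O_X-module of finite rank and
Ω^m_X is an m-th exterior power of Ω_X (affine-locally the exterior power of the sections), then
Ω^m_X has a nonzero section over U: h⁰(U, Ω^m) ≥ 1. -/
theorem result (k : Type u) [Field k]
    (X Z : Scheme.{u}) [X.Over (Spec (CommRingCat.of k))] [Z.Over (Spec (CommRingCat.of k))]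
    [IsProper (X ↘ Spec (CommRingCat.of k))] [IsProper (Z ↘ Spec (CommRingCat.of k))] [IsIntegral X] [IsIntegral Z]
    [Smooth (Z ↘ Spec (CommRingCat.of k))]
    (hgn : ∀ (K : Type u) [Field K] [Algebra k K] [IsAlgClosure k K],
      Pi1.IsNormalScheme (pullback (X ↘ Spec (CommRingCat.of k)) (Spec.map (CommRingCat.ofHom (algebraMap k K)))))
    (f : X ⟶ Z) (hf : f ≫ (Z ↘ Spec (CommRingCat.of k)) = X ↘ Spec (CommRingCat.of k))
    (η : Z) (hη : closure {η} = closure (Set.range f.base)) (m : ℕ)
    (hm : topologicalKrullDim (closure (Set.range f.base)) = m)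
    (hsep : GeometricallyReduced (pullback.snd f (Z.fromSpecResidueField η)))
    (ΩZ : Z.Modules) (dZ : OmegaSh.Der (Z ↘ Spec (CommRingCat.of k)) ΩZ) (hdZ : OmegaSh.IsUniversal dZ)
    (ΩX : X.Modules) (dX : OmegaSh.Der (X ↘ Spec (CommRingCat.of k)) ΩX) (hdX : OmegaSh.IsUniversal dX)
    (c : (Scheme.Modules.pullback f).obj ΩZ ⟶ ΩX) (hc : OmegaSh.IsDiffCompat f dZ dX c)
    (hfree : ∃ d : ℕ, Nonempty ((Scheme.Modules.pullback f).obj ΩZ ≅ FlatMod.freeMod X d))
    (U : X.Opens) (hU : Smooth (U.ι ≫ (X ↘ Spec (CommRingCat.of k))))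
    (hUmax : ∀ V : X.Opens, Smooth (V.ι ≫ (X ↘ Spec (CommRingCat.of k))) → V ≤ U)
    (Ωm : X.Modules) (hΩm : ExtPow.IsExtPow m ΩX Ωm) :
    ∃ s : Ωm.val.obj (Opposite.op U), s ≠ 0 := by
  obtain ⟨d, ⟨θ⟩⟩ := hfree
  -- the generic point lies in `U`
  haveI : LocallyOfFinitePresentation (X ↘ Spec (CommRingCat.of k)) :=
    LocallyOfFinitePresentation.iff_locallyOfFiniteType.mpr inferInstance
  have hξs : genericPoint X ∈ (X ↘ Spec (CommRingCat.of k)).smoothLocus :=
    Groth.Agent.Lib.Helper25.GenFibreRed.genericPoint_mem_smoothLocus_of_isReduced_algClosure k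
      (X ↘ Spec (CommRingCat.of k))
      (fun K _ _ _ => Groth.Agent.Lib.Helper25.ExtPowSection.isReduced_of_isNormalScheme (hgn K))
  have hξU : genericPoint X ∈ U := by
    refine hUmax (X ↘ Spec (CommRingCat.of k)).smoothLocus ?_ hξs
    rw [← Scheme.Hom.smoothLocus_eq_top_iff, ← Scheme.Hom.preimage_smoothLocus_eq]
    ext x
    simp only [Scheme.Hom.mem_preimage, TopologicalSpace.Opens.coe_top, Set.mem_univ, iff_true]
    exact x.2
  clear hgn hU hUmax hξs
  -- the image of the generic point is `η`
  have hcl : closure ({f.base (genericPoint X)} : Set Z) = closure (Set.range f.base) := by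
    apply subset_antisymm
    · exact closure_mono (s := {f.base (genericPoint X)}) (t := Set.range f.base)
        (Set.singleton_subset_iff.mpr ⟨_, rfl⟩)
    · apply closure_minimal _ isClosed_closure
      rintro _ ⟨x, rfl⟩
      have hx : x ∈ closure ({genericPoint X} : Set X) := by
        rw [genericPoint_spec X]; trivial
      have := image_closure_subset_closure_image f.base.hom.continuous (s := {genericPoint X})
        ⟨x, hx, rfl⟩
      simpa using this
  have hfη : f.base (genericPoint X) = η :=
    ((inseparable_iff_closure_eq).mpr (hcl.trans hη.symm)).eq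
  subst hfη
  rw [← hcl] at hm
  haveI : LocallyOfFiniteType (f ≫ (Z ↘ Spec (CommRingCat.of k))) := by
    rw [hf]; infer_instance
  haveI : LocallyOfFiniteType f := locallyOfFiniteType_of_comp f (Z ↘ Spec (CommRingCat.of k))
  generalize (X ↘ Spec (CommRingCat.of k)) = q at *
  subst hf
  exact Groth.Agent.Lib.Helper25.ExtPowSection.exists_ne_zero_section_extPow k
    (Z ↘ Spec (CommRingCat.of k)) f m hm hsep ΩZ dZ hdZ ΩX dX hdX c hc θ U hξU Ωm hΩm


end Groth.Agent.S19524
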