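import Groth.Statements.S19530
import Groth.Agent.Lib27.ValChain
import Groth.Agent.S14769

set_option autoImplicit false
universe u
open CategoryTheory CategoryTheory.Limits AlgebraicGeometry
open Subtr

namespace Groth.Agent.S19530

/-- Let f : X ⟶ Y be a morphism of schemes such that every base change of f has the lifting property for
ordered pairs of points (every point together with a specialization of it is the image of such a
pair). Then every finite chain of points y_0, y_1, …, y_n of Y, in which y_j is a specialization of
y_i whenever i ≤ j, lifts to a chain in X: there are points x_0, …, x_n of X with x_j a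
specialization of x_i for i ≤ j and f(x_i) = y_i for every i. (The published statement is for
universally subtrusive f, which adds submersiveness for the constructible topologies, and for
arbitrary chains having a lower bound in Y; this row keeps the pair-lifting property alone and
finite chains, whose most special member is a lower bound.) -/
theorem result {X Y : Scheme.{u}} (f : X ⟶ Y)
    (hf : Subtr.UnivSSubtrusive f) (n : ℕ) (y : Fin (n + 1) → Y)
    (hy : ∀ i j : Fin (n + 1), i ≤ j → y i ⤳ y j) :
    ∃ x : Fin (n + 1) → X, (∀ i j : Fin (n + 1), i ≤ j → x i ⤳ x j) ∧ ∀ i, f (x i) = y i := by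
  classical
  let z : ℕ → Y := fun i => y ⟨min i n, by omega⟩
  have hz : ∀ i, z i ⤳ z (i + 1) := fun i => hy _ _ (by
    rw [Fin.le_def]
    show min i n ≤ min (i + 1) n
    omega)
  obtain ⟨V, _, _, _, g, q, hq1, hq2⟩ :=
    Groth.Agent.Lib27.ValChain.exists_valuationRing_of_chain z hz n
  obtain ⟨V', _, _, _, a, b, hb, hab⟩ := (Groth.Agent.S14769.result f).mp hf V g
  have hbs : Function.Surjective b := hb.surj
  choose s hs using hbs
  have htot : ∀ p p' : ↥(Spec (CommRingCat.of V')), p ⤳ p' ∨ p' ⤳ p := by
    intro p p'
    have h := (ValuationRing.le_total_ideal (A := V')).total p.asIdeal p'.asIdeal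
    rcases h with h | h
    · exact Or.inl ((PrimeSpectrum.le_iff_specializes p p').mp h)
    · exact Or.inr ((PrimeSpectrum.le_iff_specializes p' p).mp h)
  have hv : ∀ j k, j ≤ k → k ≤ n → s (q j) ⤳ s (q k) := by
    intro j k hjk hk
    rcases htot (s (q j)) (s (q k)) with h | h
    · exact h
    · have h1 : q k ⤳ q j := by
        have := h.map b.continuous
        rwa [hs, hs] at this
      have h2 : q j = q k := ((hq1 j k hjk hk).antisymm h1).eq
      rw [h2]
  refine ⟨fun i => a (s (q i)), ?_, ?_⟩
  · intro i j hij
    exact (hv i j (Fin.le_def.mp hij) (by omega)).map a.continuous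
  · intro i
    have hi : (i : ℕ) ≤ n := by omega
    show (a ≫ f) (s (q i)) = y i
    rw [hab, Scheme.Hom.comp_apply, hs, hq2 i hi]
    show y ⟨min (i : ℕ) n, _⟩ = y i
    congr 1
    apply Fin.ext
    show min (i : ℕ) n = i
    omega

end Groth.Agent.S19530
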