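import Groth.Statements.S19533
import Groth.Agent.Lib.Helper10.FibComp1

set_option autoImplicit false
universe u
open CategoryTheory CategoryTheory.Limits MonoidalCategory CartesianMonoidalCategory MonObj GrpObj AlgebraicGeometry
open AbVar

namespace Groth.Agent.S19533

/-- Let k be an algebraically closed field, A an abelian variety over k (a k-group scheme whose
structure morphism is proper, smooth and geometrically connected) with unit point e, Y a scheme
separated over k and f : A → Y a morphism over k. Write F₀ for the connected component of e in the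
fibre f⁻¹(f(e)). Then the k-rational points of F₀ are stable under the group law: if k-points x and
y of A lie in F₀ then so do the product point x·y and the inverse point x⁻¹. (The published
statement is for Y a k-variety and concludes that F₀ with its reduced structure is an abelian
subvariety, together with the translation formula F_a = a + F₀; this row records the closure of
F₀(k) under multiplication and inversion, for Y merely separated over k.) -/
theorem result (k : Type u) [Field k] [IsAlgClosed k]
    (A : Over (Spec (CommRingCat.of k))) [GrpObj A] [IsProper A.hom] [Smooth A.hom] [GeometricallyConnected A.hom]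
    {Y : Scheme.{u}} (q : Y ⟶ Spec (CommRingCat.of k)) [IsSeparated q] (f : A.left ⟶ Y) (hf : f ≫ q = A.hom)
    (x y : 𝟙_ (Over (Spec (CommRingCat.of k))) ⟶ A)
    (hx : x.left (IsLocalRing.closedPoint k) ∈
      connectedComponentIn (f ⁻¹' {f (η[A].left (IsLocalRing.closedPoint k))}) (η[A].left (IsLocalRing.closedPoint k)))
    (hy : y.left (IsLocalRing.closedPoint k) ∈
      connectedComponentIn (f ⁻¹' {f (η[A].left (IsLocalRing.closedPoint k))}) (η[A].left (IsLocalRing.closedPoint k))) :
    (lift x y ≫ μ[A]).left (IsLocalRing.closedPoint k) ∈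
        connectedComponentIn (f ⁻¹' {f (η[A].left (IsLocalRing.closedPoint k))}) (η[A].left (IsLocalRing.closedPoint k)) ∧
      (x ≫ ι[A]).left (IsLocalRing.closedPoint k) ∈
        connectedComponentIn (f ⁻¹' {f (η[A].left (IsLocalRing.closedPoint k))}) (η[A].left (IsLocalRing.closedPoint k)) := by
  haveI : Subsingleton ↥(Spec (CommRingCat.of k)) :=
    inferInstanceAs (Subsingleton (PrimeSpectrum k))
  haveI : ConnectedSpace ↥A.left := GeometricallyConnected.connectedSpace_of_subsingleton A.hom
  set pt : (𝟙_ (Over (Spec (CommRingCat.of k)))).left := IsLocalRing.closedPoint k with hpt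
  set F : Set A.left := f ⁻¹' {f (η[A].left pt)} with hF
  have hone : toUnit (𝟙_ (Over (Spec (CommRingCat.of k)))) = 𝟙 _ := toUnit_unique _ _
  have hxF : x.left pt ∈ F := connectedComponentIn_subset _ _ hx
  have hfx : f (x.left pt) = f (η[A].left pt) := hxF
  have hcc : connectedComponentIn F (η[A].left pt) = connectedComponentIn F (x.left pt) :=
    connectedComponentIn_eq hx
  constructor
  · have h1 := Groth.Agent.Lib.Helper10.FibComp.image_tr_subset q f hf η[A] x
    have h2 : η[A] ≫ Groth.Agent.Lib.Helper10.FibComp.tr A x = x := by
      rw [Groth.Agent.Lib.Helper10.FibComp.comp_tr, MonObj.one_eq_one A, _root_.mul_one, hone,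
        Category.id_comp]
    rw [h2, hfx] at h1
    have h3 : (Groth.Agent.Lib.Helper10.FibComp.tr A x).left (y.left pt) ∈
        connectedComponentIn F (x.left pt) := h1 ⟨y.left pt, hy, rfl⟩
    rw [← hcc] at h3
    have h4 : y ≫ Groth.Agent.Lib.Helper10.FibComp.tr A x = lift x y ≫ μ[A] := by
      rw [Groth.Agent.Lib.Helper10.FibComp.comp_tr, hone, Category.id_comp, Hom.mul_def]
    rw [← h4]
    exact h3
  · have h1 := Groth.Agent.Lib.Helper10.FibComp.image_tr_subset q f hf x x⁻¹
    have h2 : x ≫ Groth.Agent.Lib.Helper10.FibComp.tr A x⁻¹ = η[A] := by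
      rw [Groth.Agent.Lib.Helper10.FibComp.comp_tr, MonObj.one_eq_one A, hone, Category.id_comp,
        inv_mul_cancel]
    rw [h2, hfx] at h1
    have hη : η[A].left pt ∈ connectedComponentIn F (x.left pt) := by
      rw [← hcc]; exact mem_connectedComponentIn rfl
    have h3 : (Groth.Agent.Lib.Helper10.FibComp.tr A x⁻¹).left (η[A].left pt) ∈
        connectedComponentIn F (η[A].left pt) := h1 ⟨η[A].left pt, hη, rfl⟩
    have h4 : η[A] ≫ Groth.Agent.Lib.Helper10.FibComp.tr A x⁻¹ = x ≫ ι[A] := by
      rw [Groth.Agent.Lib.Helper10.FibComp.comp_tr, MonObj.one_eq_one A, _root_.mul_one, hone,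
        Category.id_comp, Hom.inv_def]
    rw [← h4]
    exact h3

end Groth.Agent.S19533
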