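import Groth.Statements.S19541
import Groth.Agent.Lib.Helper25.GenEtale
import Groth.Agent.Lib.Helper25.CurveEtale
import Groth.Agent.Lib.Helper25.LocalFlatUnram

set_option autoImplicit false
universe u
open CategoryTheory CategoryTheory.Limits AlgebraicGeometry TopologicalSpace
open Curves

namespace Groth.Agent.S19541

/-- Pointwise criterion for a map of smooth curves to be étale: let k be an algebraically closed field,
X and Y integral schemes each smooth, separated and quasi-compact over Spec k and of dimension one,
φ : X → Y a morphism over k and x a closed point of X. Then φ is étale at x (the restriction of φ to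
some open neighbourhood of x is étale) if and only if the induced homomorphism of stalks O_{Y,φ(x)}
→ O_{X,x} carries the maximal ideal of the discrete valuation ring O_{Y,φ(x)} to an ideal generating
the maximal ideal of O_{X,x}; equivalently a uniformiser at φ(x) pulls back to a uniformiser at x.
(The published statement is for smooth curves, which are in addition geometrically connected;
integrality is what is used. For a constant φ both sides fail.) -/
theorem result (k : Type u) [Field k] [IsAlgClosed k] {X Y : Scheme.{u}}
    (pX : X ⟶ Spec (CommRingCat.of k)) (pY : Y ⟶ Spec (CommRingCat.of k)) (φ : X ⟶ Y) (w : φ ≫ pY = pX)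
    [IsIntegral X] [Smooth pX] [IsSeparated pX] [QuasiCompact pX] (hdX : topologicalKrullDim X = 1)
    [IsIntegral Y] [Smooth pY] [IsSeparated pY] [QuasiCompact pY] (hdY : topologicalKrullDim Y = 1)
    (x : X) (hx : IsClosed ({x} : Set X)) :
    (∃ U : X.Opens, x ∈ U ∧ Etale (U.ι ≫ φ)) ↔
      Ideal.map (φ.stalkMap x).hom (IsLocalRing.maximalIdeal (Y.presheaf.stalk (φ.base x))) =
        IsLocalRing.maximalIdeal (X.presheaf.stalk x) := by
  have hYn : IsLocallyNoetherian Y := LocallyOfFiniteType.isLocallyNoetherian pY
  have hlft : LocallyOfFiniteType φ := by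
    have : LocallyOfFiniteType (φ ≫ pY) := by rw [w]; infer_instance
    exact locallyOfFiniteType_of_comp φ pY
  have hlfp : LocallyOfFinitePresentation φ := inferInstance
  algebraize [(φ.stalkMap x).hom]
  have hess : Algebra.EssFiniteType (Y.presheaf.stalk (φ.base x)) (X.presheaf.stalk x) :=
    LocallyOfFiniteType.stalkMap φ x
  have hlocal : IsLocalHom (algebraMap (Y.presheaf.stalk (φ.base x)) (X.presheaf.stalk x)) :=
    inferInstanceAs (IsLocalHom (φ.stalkMap x).hom)
  constructor
  · rintro ⟨U, hxU, hE⟩
    have h1 : ((U.ι ≫ φ).stalkMap ⟨x, hxU⟩).hom.FormallyUnramified :=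
      FormallyUnramified.stalkMap (U.ι ≫ φ) ⟨x, hxU⟩
    have h2 : (φ.stalkMap x).hom.FormallyUnramified := by
      rw [Scheme.Hom.stalkMap_comp] at h1
      exact (RingHom.FormallyUnramified.respectsIso.cancel_right_isIso _
        (U.ι.stalkMap ⟨x, hxU⟩)).mp h1
    have h3 : Algebra.FormallyUnramified (Y.presheaf.stalk (φ.base x)) (X.presheaf.stalk x) := h2
    exact Algebra.FormallyUnramified.map_maximalIdeal
  · intro H
    have H' : (IsLocalRing.maximalIdeal (Y.presheaf.stalk (φ.base x))).map
        (algebraMap (Y.presheaf.stalk (φ.base x)) (X.presheaf.stalk x)) =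
        IsLocalRing.maximalIdeal (X.presheaf.stalk x) := H
    have hSnf : ¬ IsField (X.presheaf.stalk x) :=
      Groth.Agent.Lib.Helper25.CurveEtale.not_isField_stalk_of_isClosed hdX x hx
    have hmS : IsLocalRing.maximalIdeal (X.presheaf.stalk x) ≠ ⊥ :=
      IsLocalRing.isField_iff_maximalIdeal_eq.not.mp hSnf
    have hmR : IsLocalRing.maximalIdeal (Y.presheaf.stalk (φ.base x)) ≠ ⊥ := by
      intro h
      rw [h, Ideal.map_bot] at H'
      exact hmS H'.symm
    have hRnf : ¬ IsField (Y.presheaf.stalk (φ.base x)) :=
      IsLocalRing.isField_iff_maximalIdeal_eq.not.mpr hmR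
    have hreg : IsRegularLocalRing (Y.presheaf.stalk (φ.base x)) :=
      Groth.Agent.Lib.Helper25.CurveEtale.isRegularLocalRing_stalk_of_smooth pY _
    have hdimR : ringKrullDim (Y.presheaf.stalk (φ.base x)) ≤ 1 := by
      rw [← hdY, Groth.Agent.Lib.Helper14.AS.topologicalKrullDim_eq_iSup_stalk]
      exact le_iSup (fun y => ringKrullDim (Y.presheaf.stalk y)) _
    have hfr : Module.finrank (IsLocalRing.ResidueField (Y.presheaf.stalk (φ.base x)))
        (IsLocalRing.CotangentSpace (Y.presheaf.stalk (φ.base x))) = 1 := by
      have h1 := (IsRegularLocalRing.iff_finrank_cotangentSpace (Y.presheaf.stalk (φ.base x))).mp hreg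
      have h2 : ((Module.finrank (IsLocalRing.ResidueField (Y.presheaf.stalk (φ.base x)))
          (IsLocalRing.CotangentSpace (Y.presheaf.stalk (φ.base x))) : ℕ) : WithBot ℕ∞) ≤ 1 := by
        rw [h1]; exact hdimR
      have h3 : Module.finrank (IsLocalRing.ResidueField (Y.presheaf.stalk (φ.base x)))
          (IsLocalRing.CotangentSpace (Y.presheaf.stalk (φ.base x))) ≤ 1 := by exact_mod_cast h2
      have h4 : Module.finrank (IsLocalRing.ResidueField (Y.presheaf.stalk (φ.base x)))
          (IsLocalRing.CotangentSpace (Y.presheaf.stalk (φ.base x))) ≠ 0 :=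
        fun h => hRnf (IsLocalRing.finrank_cotangentSpace_eq_zero_iff.mp h)
      omega
    have hdvr : IsDiscreteValuationRing (Y.presheaf.stalk (φ.base x)) :=
      IsLocalRing.finrank_CotangentSpace_eq_one_iff.mp hfr
    have hinj : Function.Injective
        (algebraMap (Y.presheaf.stalk (φ.base x)) (X.presheaf.stalk x)) := by
      rw [RingHom.injective_iff_ker_eq_bot]
      by_contra hker
      have hp : (RingHom.ker (algebraMap (Y.presheaf.stalk (φ.base x))
          (X.presheaf.stalk x))).IsPrime := RingHom.ker_isPrime _
      have hmax := hp.isMaximal hker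
      have hk := IsLocalRing.eq_maximalIdeal hmax
      apply hmS
      rw [← H', ← hk]
      exact (Ideal.map_eq_bot_iff_le_ker _).mpr le_rfl
    have hfaith : FaithfulSMul (Y.presheaf.stalk (φ.base x)) (X.presheaf.stalk x) :=
      (faithfulSMul_iff_algebraMap_injective _ _).mpr hinj
    have hflat : Module.Flat (Y.presheaf.stalk (φ.base x)) (X.presheaf.stalk x) := inferInstance
    have hsurj := Groth.Agent.Lib.Helper25.CurveEtale.surjective_residueFieldMap_of_isClosed
      pX pY φ w x hx
    have hsep : Algebra.IsSeparable (IsLocalRing.ResidueField (Y.presheaf.stalk (φ.base x)))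
        (IsLocalRing.ResidueField (X.presheaf.stalk x)) := by
      refine ⟨fun a => ?_⟩
      obtain ⟨b, rfl⟩ := hsurj a
      exact isSeparable_algebraMap (F := IsLocalRing.ResidueField (Y.presheaf.stalk (φ.base x)))
        (K := IsLocalRing.ResidueField (X.presheaf.stalk x)) b
    have hunr : Algebra.FormallyUnramified (Y.presheaf.stalk (φ.base x)) (X.presheaf.stalk x) :=
      Algebra.FormallyUnramified.of_map_maximalIdeal H'
    have hsm : Algebra.FormallySmooth (Y.presheaf.stalk (φ.base x)) (X.presheaf.stalk x) :=
      Groth.Agent.Lib.Helper25.LocalFlatUnram.formallySmooth_of_flat_of_formallyUnramified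
    exact Groth.Agent.Lib.Helper25.GenEtale.exists_etale_open_of_stalkMap φ x hsm hunr


end Groth.Agent.S19541
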