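import Groth.Statements.S19547
import Groth.Agent.Lib.Helper24.DescRing

set_option autoImplicit false
universe u
open TensorProduct
open Desc

namespace Groth.Agent.S19547

open TensorProduct
open Desc
open Groth.Agent.Lib.Helper24.DescRing


/-- Let A → A' be a faithfully flat homomorphism of commutative rings, M' an A'-module and φ : M' ⊗_A A'
→ A' ⊗_A M' an isomorphism of (A' ⊗_A A')-modules for the diagonal actions (x ⊗ y)(u ⊗ z) = xu ⊗ yz
and (x ⊗ y)(z ⊗ u) = xz ⊗ yu, satisfying the cocycle condition φ_13 = φ_23 ∘ φ_12 between the three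
pullbacks to A' ⊗_A A' ⊗_A A'. Here linearity over A' ⊗_A A' is stated on the generators x ⊗ 1 and 1
⊗ y, and the cocycle condition on pure tensors u ⊗ a ⊗ b: writing φ(u ⊗ a) = Σ a_i ⊗ u_i, it says Σ
a_i ⊗ φ(u_i ⊗ b) = Σ b_j ⊗ a ⊗ u'_j where φ(u ⊗ b) = Σ b_j ⊗ u'_j. Let M = {u ∈ M' : φ(u ⊗ 1) = 1 ⊗
u}, an A-submodule of M'. Then the canonical map λ : A' ⊗_A M → M', x ⊗ u ↦ xu, is an isomorphism. -/
theorem result (A A' : Type u) [CommRing A] [CommRing A']
    [Algebra A A'] [Module.FaithfullyFlat A A'] (M' : Type u) [AddCommGroup M'] [Module A M']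
    [Module A' M'] [IsScalarTower A A' M']
    (φ : M' ⊗[A] A' →ₗ[A] A' ⊗[A] M') (hφ : Function.Bijective φ)
    (h1 : ∀ (x : A') (u : M') (z : A'),
      φ ((x • u) ⊗ₜ[A] z) = LinearMap.rTensor M' (LinearMap.mulLeft A x) (φ (u ⊗ₜ[A] z)))
    (h2 : ∀ (y : A') (u : M') (z : A'),
      φ (u ⊗ₜ[A] (y * z)) = LinearMap.lTensor A' (Algebra.lsmul A A M' y) (φ (u ⊗ₜ[A] z)))
    (hcoc : ∀ (u : M') (a b : A'),
      LinearMap.lTensor A' φ (TensorProduct.assoc A A' M' A' (LinearMap.rTensor A' φ ((u ⊗ₜ[A] a) ⊗ₜ[A] b))) =
        LinearMap.lTensor A' (TensorProduct.mk A A' M' a) (φ (u ⊗ₜ[A] b)))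
    (M : Submodule A M') (hM : ∀ u : M', u ∈ M ↔ φ (u ⊗ₜ[A] (1 : A')) = (1 : A') ⊗ₜ[A] u) :
    Function.Bijective
      ((TensorProduct.lift (Algebra.lsmul A A M').toLinearMap) ∘ₗ (LinearMap.lTensor A' M.subtype)) := by
  -- the coaction
  have hsmul : ∀ (x : A') (t : A' ⊗[A] M'),
      LinearMap.rTensor M' (LinearMap.mulLeft A x) t = x • t := by
    intro x t
    induction t using TensorProduct.induction_on with
    | zero => simp
    | tmul a n => simp [TensorProduct.smul_tmul']
    | add t t' h h' => simp [h, h']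
  let ψ : M' →ₗ[A'] A' ⊗[A] M' :=
    { toFun := fun u => φ (u ⊗ₜ[A] (1 : A'))
      map_add' := fun u v => by rw [TensorProduct.add_tmul, map_add]
      map_smul' := fun x u => by
        rw [h1 x u 1, hsmul]
        rfl }
  have hψ : ∀ u, ψ u = φ (u ⊗ₜ[A] (1 : A')) := fun u => rfl
  -- φ in terms of ψ
  have hφψ : ∀ (u : M') (z : A'), φ (u ⊗ₜ[A] z) =
      LinearMap.lTensor A' (Algebra.lsmul A A M' z) (ψ u) := by
    intro u z
    have := h2 z u 1
    rwa [mul_one] at this
  -- coassociativity
  have hcoassoc : ∀ n, (ψ.restrictScalars A).lTensor A' (ψ n) = (eta A A' M').lTensor A' (ψ n) := by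
    intro n
    have h := hcoc n 1 1
    have e1 : LinearMap.lTensor A' φ (TensorProduct.assoc A A' M' A'
        (LinearMap.rTensor A' φ ((n ⊗ₜ[A] (1 : A')) ⊗ₜ[A] (1 : A')))) =
        (ψ.restrictScalars A).lTensor A' (ψ n) := by
      rw [LinearMap.rTensor_tmul, ← hψ]
      generalize ψ n = t
      induction t using TensorProduct.induction_on with
      | zero => simp
      | tmul a m => simp [hψ]
      | add t t' h h' => simp only [TensorProduct.add_tmul, map_add, h, h']
    rw [e1] at h
    rw [h]
    rfl
  -- counit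
  have hcounit : ∀ n, mu A A' M' (ψ n) = n := by
    let e : M' →ₗ[A] M' := (mu A A' M').restrictScalars A ∘ₗ ψ.restrictScalars A
    have he1 : ∀ u, LinearMap.lTensor A' e (ψ u) = ψ u := by
      intro u
      have h := congrArg (LinearMap.lTensor A' ((mu A A' M').restrictScalars A)) (hcoassoc u)
      have e1 : LinearMap.lTensor A' ((mu A A' M').restrictScalars A)
          ((ψ.restrictScalars A).lTensor A' (ψ u)) = LinearMap.lTensor A' e (ψ u) := by
        rw [← LinearMap.comp_apply, ← LinearMap.lTensor_comp]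
      have e2 : LinearMap.lTensor A' ((mu A A' M').restrictScalars A)
          ((eta A A' M').lTensor A' (ψ u)) = ψ u := by
        rw [← LinearMap.comp_apply, ← LinearMap.lTensor_comp]
        have : (mu A A' M').restrictScalars A ∘ₗ eta A A' M' = LinearMap.id := by
          ext n
          simp [eta]
        rw [this, LinearMap.lTensor_id, LinearMap.id_apply]
      rw [e1, e2] at h
      exact h
    have he_lin : ∀ (z : A') (m : M'), e (z • m) = z • e m := by
      intro z m
      change mu A A' M' (ψ (z • m)) = z • mu A A' M' (ψ m)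
      rw [map_smul, map_smul]
    have he2 : ∀ t, LinearMap.lTensor A' e (φ t) = φ t := by
      intro t
      induction t using TensorProduct.induction_on with
      | zero => simp
      | tmul u z =>
        rw [hφψ u z]
        have hc : LinearMap.lTensor A' e ∘ₗ LinearMap.lTensor A' (Algebra.lsmul A A M' z) =
            LinearMap.lTensor A' (Algebra.lsmul A A M' z) ∘ₗ LinearMap.lTensor A' e := by
          rw [← LinearMap.lTensor_comp, ← LinearMap.lTensor_comp]
          congr 1
          ext m
          simp [he_lin]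
        have := LinearMap.congr_fun hc (ψ u)
        simp only [LinearMap.comp_apply] at this
        rw [this, he1]
      | add t t' h h' => simp only [map_add, h, h']
    have he3 : ∀ t : A' ⊗[A] M', LinearMap.lTensor A' e t = t := by
      intro t
      obtain ⟨s, rfl⟩ := hφ.2 t
      exact he2 s
    intro n
    have h := he3 ((1 : A') ⊗ₜ[A] n)
    rw [LinearMap.lTensor_tmul] at h
    have hinj : Function.Injective (TensorProduct.mk A A' M' 1) :=
      Module.FaithfullyFlat.tensorProduct_mk_injective (A := A) (B := A') M'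
    exact hinj h
  have hbij := comparison_bijective ψ hcounit hcoassoc
  have hMeq : M = coinv ψ := by
    ext u
    rw [hM, mem_coinv, hψ]
  subst hMeq
  convert hbij using 1
  ext x
  induction x using TensorProduct.induction_on with
  | zero => simp
  | tmul a n => simp
  | add t t' h h' => simp only [map_add, h, h']

end Groth.Agent.S19547
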