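import Groth.Statements.S19548
import Mathlib
import Groth.Agent.S15245

set_option autoImplicit false
universe u
open CategoryTheory AlgebraicGeometry
open RedSub

namespace Groth.Agent.S19548



section Helpers
open RootPairing Groth.Agent.S15245

variable {idx M N : Type} [AddCommGroup M] [AddCommGroup N] [Finite idx]
  (P : RootPairing idx ℤ M N) [P.IsReduced] (b : P.Base)

theorem conj_word (l : List idx) (a : idx) :
    P.reflectionPerm (RedSub.wordPerm P l a) =
      RedSub.wordPerm P l * P.reflectionPerm a * (RedSub.wordPerm P l)⁻¹ := by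
  induction l with
  | nil => simp [RedSub.wordPerm]
  | cons i l ih =>
    rw [wordPerm_cons, Equiv.Perm.mul_apply, reflectionPerm_conj, ih, mul_inv_rev,
      P.reflectionPerm_inv]
    simp only [mul_assoc]

theorem exists_switch (p : ℕ → Prop) (n : ℕ) (h0 : p 0) (hn : ¬ p n) :
    ∃ k, k < n ∧ p k ∧ ¬ p (k + 1) := by
  induction n with
  | zero => exact absurd h0 hn
  | succ n ih =>
    by_cases h : p n
    · exact ⟨n, Nat.lt_succ_self n, h, hn⟩
    · obtain ⟨k, hk, h1, h2⟩ := ih h
      exact ⟨k, Nat.lt_succ_of_lt hk, h1, h2⟩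

theorem main_exchange (l : List idx) (hl : ∀ a ∈ l, a ∈ b.support)
    (c : idx) (hc : c ∈ RedSub.posRoots P b)
    (hneg : (RedSub.wordPerm P l).symm c ∈ RedSub.negRoots P b) :
    ∃ i : ℕ, i < l.length ∧
      P.reflectionPerm c * RedSub.wordPerm P (l.take (i + 1)) = RedSub.wordPerm P (l.take i) := by
  classical
  have hcpos : b.IsPos c := (posRoots_iff P b c).mp hc
  have hneg' : ¬ b.IsPos ((RedSub.wordPerm P l)⁻¹ c) := (negRoots_iff P b _).mp hneg
  obtain ⟨k, hk, hpk, hnk⟩ := exists_switch
    (fun k => b.IsPos ((RedSub.wordPerm P (l.take k))⁻¹ c)) l.length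
    (by simpa [RedSub.wordPerm] using hcpos)
    (by simpa [List.take_length] using hneg')
  refine ⟨k, hk, ?_⟩
  have htake : l.take (k + 1) = l.take k ++ [l[k]] := by
    rw [List.take_succ_eq_append_getElem hk]
  have hjs : l[k] ∈ b.support := hl _ (List.getElem_mem hk)
  have hw : RedSub.wordPerm P (l.take (k + 1)) =
      RedSub.wordPerm P (l.take k) * P.reflectionPerm l[k] := by
    rw [htake, wordPerm_append, wordPerm_cons]
    simp [RedSub.wordPerm]
  -- β_{k+1} = σ_j β_k
  have hβ : (RedSub.wordPerm P (l.take (k + 1)))⁻¹ c =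
      P.reflectionPerm l[k] ((RedSub.wordPerm P (l.take k))⁻¹ c) := by
    rw [hw, mul_inv_rev, P.reflectionPerm_inv, Equiv.Perm.mul_apply]
  have hβeq : (RedSub.wordPerm P (l.take k))⁻¹ c = l[k] := by
    by_contra hne
    apply hnk
    show b.IsPos ((RedSub.wordPerm P (l.take (k + 1)))⁻¹ c)
    rw [hβ]
    exact Base.IsPos.reflectionPerm hpk hjs hne
  have hc_eq : c = RedSub.wordPerm P (l.take k) l[k] := by
    rw [← hβeq]; simp
  rw [hw, hc_eq, conj_word]
  simp only [mul_assoc]
  rw [inv_mul_cancel_left, reflectionPerm_mul_self, mul_one]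

end Helpers

/-- Let Φ be a finite reduced root system (a reduced root pairing over ℤ on a finite index set) with a
base b, let w = σ_{α_1} ⋯ σ_{α_ℓ} be a reduced decomposition of a Weyl group element into simple
reflections (every α_j in the base, and no shorter word in the simple reflections gives the same
permutation of the roots), and let γ be a positive root with w⁻¹(γ) negative. Then for some i with 1
≤ i ≤ ℓ one has σ_γ σ_{α_1} ⋯ σ_{α_i} = σ_{α_1} ⋯ σ_{α_{i-1}}. (Indices are shifted by one below:
the word is a list and the prefixes are its first i + 1 and first i letters.) -/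
theorem result {idx M N : Type}
    [AddCommGroup M] [AddCommGroup N] [Finite idx]
    (P : RootPairing idx ℤ M N) [P.IsReduced] (b : P.Base) (l : List idx)
    (hl : ∀ a ∈ l, a ∈ b.support)
    (hred : ∀ l' : List idx, (∀ a ∈ l', a ∈ b.support) →
      RedSub.wordPerm P l' = RedSub.wordPerm P l → l.length ≤ l'.length)
    (c : idx) (hc : c ∈ RedSub.posRoots P b) (hneg : (RedSub.wordPerm P l).symm c ∈ RedSub.negRoots P b) :
    ∃ i : ℕ, i < l.length ∧
      P.reflectionPerm c * RedSub.wordPerm P (l.take (i + 1)) = RedSub.wordPerm P (l.take i) := by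

  exact main_exchange P b l hl c hc hneg

end Groth.Agent.S19548
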