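import Groth.Statements.S19550
import Groth.Agent.Lib.Helper3.SpecConnected
import Groth.Agent.S15610

set_option autoImplicit false
universe u
open SchFin SchFin.RSpace

namespace Groth.Agent.S19550

theorem aux_pt {R : Type*} [CommRing R] (hnt : Nontrivial R)
    (hid : ∀ a : R, IsIdempotentElem a → a = 0 ∨ a = 1)
    {F : Type} [Fintype F] [DecidableEq F] (ψ : (F → R) →ₐ[R] R) :
    ∃! i : F, ψ (Pi.single i 1) = 1 := by
  have hu : ∀ i, ψ (Pi.single i 1) = 0 ∨ ψ (Pi.single i 1) = 1 := by
    intro i
    apply hid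
    unfold IsIdempotentElem
    rw [← map_mul, ← Pi.single_mul, mul_one]
  have hsum : ∑ i, ψ (Pi.single i 1) = 1 := by
    rw [← map_sum, Finset.univ_sum_single]
    exact map_one ψ
  have hex : ∃ i, ψ (Pi.single i 1) = 1 := by
    by_contra hno
    push Not at hno
    have : ∀ i, ψ (Pi.single i 1) = 0 := fun i => (hu i).resolve_right (hno i)
    rw [Finset.sum_eq_zero (fun i _ => this i)] at hsum
    exact zero_ne_one hsum
  obtain ⟨i, hi⟩ := hex
  refine ⟨i, hi, ?_⟩
  intro j hj
  by_contra hne
  have hmul : ψ (Pi.single j 1) * ψ (Pi.single i 1) = 0 := by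
    rw [← map_mul]
    have : (Pi.single j (1 : R) : F → R) * Pi.single i 1 = 0 := by
      funext k
      simp only [Pi.mul_apply, Pi.zero_apply]
      by_cases hk : k = j
      · subst hk
        rw [Pi.single_eq_of_ne hne, mul_zero]
      · rw [Pi.single_eq_of_ne hk, zero_mul]
    rw [this, map_zero]
  rw [hi, hj, mul_one] at hmul
  exact one_ne_zero hmul

theorem aux_eval {R : Type*} [CommRing R]
    {F : Type} [Fintype F] [DecidableEq F] (ψ : (F → R) →ₐ[R] R) (i : F)
    (hi : ψ (Pi.single i 1) = 1) (huniq : ∀ j, ψ (Pi.single j 1) = 1 → j = i)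
    (hu : ∀ j, ψ (Pi.single j 1) = 0 ∨ ψ (Pi.single j 1) = 1) (g : F → R) : ψ g = g i := by
  have hg : g = ∑ j, g j • (Pi.single j (1 : R) : F → R) := by
    funext k
    rw [Finset.sum_apply]
    simp only [Pi.smul_apply, smul_eq_mul]
    rw [Finset.sum_eq_single k]
    · simp
    · intro b _ hb
      rw [Pi.single_eq_of_ne (Ne.symm hb), mul_zero]
    · intro h; exact absurd (Finset.mem_univ k) h
  conv_lhs => rw [hg]
  rw [map_sum]
  simp only [map_smul, smul_eq_mul]
  rw [Finset.sum_eq_single i]
  · rw [hi, mul_one]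
  · intro j _ hj
    have : ψ (Pi.single j 1) = 0 := (hu j).resolve_right (fun h => hj (huniq j h))
    rw [this, mul_zero]
  · intro h; exact absurd (Finset.mem_univ i) h

theorem aux (X : RSpace.{u})
    (hW : X.IsWellConnected) (F E : Type) [Finite F] [Finite E]
    (f : ∀ p : X.pt, (F → X.ring p) →ₐ[X.ring p] (E → X.ring p))
    (hf : ∀ (p q : X.pt) (h : p ≤ q) (g : F → X.ring p) (e : E),
      X.res h (f p g e) = f q (fun i => X.res h (g i)) e) :
    ∃ φ : E → F, ∀ (p : X.pt) (g : F → X.ring p) (e : E), f p g e = g (φ e) := by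
  classical
  cases nonempty_fintype F
  have hpw := hW.2
  have htop : X.IsTopConnected := ((Groth.Agent.S15610.aux X hpw).1 hW.1)
  have hnt : ∀ p : X.pt, Nontrivial (X.ring p) := fun p =>
    (Groth.Agent.Lib.Helper3.SpecConnected.connectedSpace_iff.1 (hpw p)).1
  have hid : ∀ (p : X.pt) (a : X.ring p), IsIdempotentElem a → a = 0 ∨ a = 1 :=
    fun p => (Groth.Agent.Lib.Helper3.SpecConnected.connectedSpace_iff.1 (hpw p)).2
  -- evaluation homs
  let ψ : ∀ (p : X.pt) (e : E), (F → X.ring p) →ₐ[X.ring p] X.ring p :=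
    fun p e => (Pi.evalAlgHom (X.ring p) (fun _ : E => X.ring p) e).comp (f p)
  have hψ : ∀ p e g, ψ p e g = f p g e := fun p e g => rfl
  have hex : ∀ p e, ∃! i : F, ψ p e (Pi.single i 1) = 1 := fun p e => aux_pt (hnt p) (hid p) (ψ p e)
  choose φ hφ1 hφ2 using hex
  have hu : ∀ p e j, ψ p e (Pi.single j 1) = 0 ∨ ψ p e (Pi.single j 1) = 1 := by
    intro p e j
    apply hid
    unfold IsIdempotentElem
    rw [← map_mul, ← Pi.single_mul, mul_one]
  have hle : ∀ p q : X.pt, p ≤ q → φ p = φ q := by
    intro p q h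
    funext e
    apply hφ2 q e
    have h1 := hf p q h (Pi.single (φ p e) 1) e
    have h2 : (fun i => X.res h ((Pi.single (φ p e) (1 : X.ring p) : F → X.ring p) i)) =
        Pi.single (φ p e) 1 := by
      funext i
      by_cases hi : i = φ p e
      · subst hi
        simp
      · rw [Pi.single_eq_of_ne hi, Pi.single_eq_of_ne hi, map_zero]
    rw [h2] at h1
    rw [hψ, ← h1, ← hψ, hφ1, map_one]
  have hall : ∀ p q : X.pt, Relation.EqvGen (fun a b : X.pt => a ≤ b) p q → φ p = φ q := by
    intro p q hpq
    induction hpq with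
    | rel a b h => exact hle a b h
    | refl a => rfl
    | symm a b _ ih => exact ih.symm
    | trans a b c _ _ ih1 ih2 => exact ih1.trans ih2
  obtain ⟨⟨p₀⟩, hconn⟩ := htop
  refine ⟨φ p₀, ?_⟩
  intro p g e
  rw [hall p₀ p (hconn p₀ p), ← hψ]
  exact aux_eval (ψ p e) (φ p e) (hφ1 p e) (hφ2 p e) (hu p e) g



open SchFin in
/-- Let X be a well-connected schematic finite space and f : A → B a morphism of quasi-coherent algebras
between trivial étale covers A ≅ O_X^F and B ≅ O_X^E, F and E finite sets. Then f is induced by a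
map of finite sets φ : E → F. Here the trivial algebras are written out: f is a family of
O_p-algebra maps (F → O_p) → (E → O_p), one for each point p, compatible with the restriction maps,
and the conclusion says f_p(g) = g ∘ φ for every p and g. (The published statement names a map F →
E; a map of algebras of functions O^F → O^E is composition with a map E → F, which is what this row
states.) -/
theorem result (X : RSpace.{u})
    (hX : X.IsSchematic) (hW : X.IsWellConnected) (F E : Type) [Finite F] [Finite E]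
    (f : ∀ p : X.pt, (F → X.ring p) →ₐ[X.ring p] (E → X.ring p))
    (hf : ∀ (p q : X.pt) (h : p ≤ q) (g : F → X.ring p) (e : E),
      X.res h (f p g e) = f q (fun i => X.res h (g i)) e) :
    ∃ φ : E → F, ∀ (p : X.pt) (g : F → X.ring p) (e : E), f p g e = g (φ e) := by
  exact aux X hW F E f hf

end Groth.Agent.S19550
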