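import Groth.Statements.S19556
import Mathlib.AlgebraicGeometry.Morphisms.Finite
import Mathlib.AlgebraicGeometry.Morphisms.Immersion
import Mathlib.AlgebraicGeometry.Morphisms.Separated

set_option autoImplicit false
universe u
open CategoryTheory AlgebraicGeometry
open Mor

namespace Groth.Agent.S19556

section helpers

open Limits in
theorem result_aux {S X Y : Scheme.{u}} (p : X ⟶ S) (q : Y ⟶ S)
    (π : X ⟶ Y) (hπ : π ≫ q = p) [IsFinite π] [Surjective π] [IsSeparated p] :
    IsSeparated q := by
  have e : p = π ≫ q := hπ.symm
  let ππ : pullback p p ⟶ pullback q q :=
    pullback.map p p q q π π (𝟙 S) ((Category.comp_id _).trans e) ((Category.comp_id _).trans e)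
  have hfin : IsFinite ππ :=
    MorphismProperty.pullbackMap (P := @IsFinite) (inferInstance : IsFinite π)
      (inferInstance : IsFinite π) e e
  have hsq : pullback.diagonal p ≫ ππ = π ≫ pullback.diagonal q := by
    apply pullback.hom_ext
    · simp only [ππ, pullback.map, Category.assoc]
      rw [pullback.lift_fst, pullback.diagonal_fst, ← Category.assoc, pullback.diagonal_fst,
        Category.id_comp, Category.comp_id]
    · simp only [ππ, pullback.map, Category.assoc]
      rw [pullback.lift_snd, pullback.diagonal_snd, ← Category.assoc, pullback.diagonal_snd,
        Category.id_comp, Category.comp_id]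
  refine ⟨IsClosedImmersion.of_isPreimmersion _ ?_⟩
  have h1 : Set.range (pullback.diagonal q) = ππ '' Set.range (pullback.diagonal p) := by
    have hs : Function.Surjective π := π.surjective
    rw [← Set.range_comp, ← hs.range_comp]
    have : (pullback.diagonal q : Y → ↥(pullback q q)) ∘ (π : X → Y) =
        (ππ : ↥(pullback p p) → ↥(pullback q q)) ∘ (pullback.diagonal p : X → ↥(pullback p p)) := by
      funext x
      change (π ≫ pullback.diagonal q) x = (pullback.diagonal p ≫ ππ) x
      rw [hsq]
    rw [this]
  rw [h1]
  exact ππ.isClosedMap _ (pullback.diagonal p).isClosedEmbedding.isClosed_range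

end helpers

/-- Let S be a scheme, p : X → S and q : Y → S schemes over S, and π : X → Y a finite surjective
morphism over S (π ≫ q = p). If X is separated over S then Y is separated over S. (The published
statement is about the quotient map X → X/G of a scheme by an action of a finite group scheme,
assumed to exist and then finite and surjective; this row keeps of it only a finite surjective
S-morphism π, which is all the argument uses.) -/
theorem result {S X Y : Scheme.{u}} (p : X ⟶ S) (q : Y ⟶ S)
    (π : X ⟶ Y) (hπ : π ≫ q = p) [IsFinite π] [Surjective π] [IsSeparated p] :
    IsSeparated q := by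
  exact result_aux p q π hπ

end Groth.Agent.S19556
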