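import Groth.Statements.S19562
import Mathlib

set_option autoImplicit false
universe u
open W4c1limliniiii

namespace Groth.Agent.S19562
open TensorProduct
section Aux
variable {k : Type u} [Field k] {E : Type u} [AddCommGroup E] [Module k E] [FiniteDimensional k E]

theorem rank_nullity_sub (F : E →ₗ[k] E) (A : Submodule k E) :
    Module.finrank k ↥(A.map F) + Module.finrank k ↥(LinearMap.ker F ⊓ A) = Module.finrank k A := by
  have h := LinearMap.finrank_range_add_finrank_ker (F.domRestrict A)
  rw [LinearMap.range_domRestrict, LinearMap.ker_domRestrict] at h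
  have e : Module.finrank k ↥(Submodule.comap A.subtype (LinearMap.ker F)) =
      Module.finrank k ↥(LinearMap.ker F ⊓ A) := by
    rw [(Submodule.equivSubtypeMap A (Submodule.comap A.subtype (LinearMap.ker F))).finrank_eq,
      Submodule.map_comap_subtype, inf_comm]
  rw [e] at h
  exact h

theorem exact_iff (F G : E →ₗ[k] E) (hFG : F.comp G = 0) (hGF : G.comp F = 0)
    (A B : Submodule k E) (r : ℕ) (hA : Module.finrank k A = r) (hB : Module.finrank k B = r)
    (hFA : A.map F ≤ B) (hGB : B.map G ≤ A) :
    ((LinearMap.ker G ⊓ B ≤ A.map F) ∧ (LinearMap.ker F ⊓ A ≤ B.map G)) ↔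
      Module.finrank k ↥(A.map F) + Module.finrank k ↥(B.map G) = r := by
  have h1 : B.map G ≤ LinearMap.ker F ⊓ A := by
    refine le_inf ?_ hGB
    rintro _ ⟨b, _, rfl⟩
    exact LinearMap.congr_fun hFG b
  have h2 : A.map F ≤ LinearMap.ker G ⊓ B := by
    refine le_inf ?_ hFA
    rintro _ ⟨a, _, rfl⟩
    exact LinearMap.congr_fun hGF a
  have r1 := rank_nullity_sub F A
  have r2 := rank_nullity_sub G B
  rw [hA] at r1
  rw [hB] at r2
  constructor
  · rintro ⟨-, e2⟩
    have : B.map G = LinearMap.ker F ⊓ A := le_antisymm h1 e2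
    rw [this]
    exact r1
  · intro h
    have e1 : B.map G = LinearMap.ker F ⊓ A :=
      Submodule.eq_of_le_of_finrank_eq h1 (by omega)
    have e2 : A.map F = LinearMap.ker G ⊓ B :=
      Submodule.eq_of_le_of_finrank_eq h2 (by omega)
    exact ⟨e2.ge, e1.ge⟩

theorem finrank_grass {d r : ℕ} (hrd : r < d)
    (N : Module.Grassmannian k (k ⊗[k] (Fin d → k)) (d - r)) :
    Module.finrank k N.toSubmodule = r := by
  have h1 := Submodule.finrank_quotient_add_finrank N.toSubmodule
  have h2 : Module.finrank k (k ⊗[k] (Fin d → k)) = d := by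
    rw [Module.finrank_tensorProduct, Module.finrank_self, Module.finrank_fin_fun, one_mul]
  have h3 := N.rankAtStalk_eq ⊥
  rw [Module.rankAtStalk_eq_finrank_of_free] at h3
  simp only [Pi.natCast_apply, Nat.cast_id] at h3
  omega

end Aux

open TensorProduct in
/-- Let k be a field, 0 < r < d, and f_i, g_i (i < n) linear maps forward and backward between
consecutive ones of n + 1 copies of k^d, forming a linked Grassmannian over Spec k whose scalar s is
zero: every composite f_i ∘ g_i and g_i ∘ f_i vanishes, rank f_i + rank g_i ≥ d, and for consecutive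
indices im f_i ∩ ker f_{i+1} = 0 and im g_{i+1} ∩ ker g_i = 0. Let (V_i) be a k-valued point of the
linked Grassmannian of rank-r sub-bundles (subspaces V_i of k ⊗ k^d with quotient of rank d − r,
with f_i(V_i) ⊆ V_{i+1} and g_i(V_{i+1}) ⊆ V_i). Then (V_i) is exact, meaning ker g_i ∩ V_{i+1} ⊆
f_i(V_i) and ker f_i ∩ V_i ⊆ g_i(V_{i+1}) for all i, if and only if dim f_i(V_i) + dim g_i(V_{i+1})
= r for all i. (The published assertion is for points with values in an arbitrary scheme and also
says that f_i(V_i) and g_i(V_{i+1}) are then sub-bundles; this row is the case of a field, where the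
last clause is empty.) -/
theorem result (k : Type u) [Field k]
    (d r n : ℕ) (hr : 0 < r) (hrd : r < d) (f g : Fin n → ((Fin d → k) →ₗ[k] (Fin d → k)))
    (hI : ∀ i, (f i).comp (g i) = 0 ∧ (g i).comp (f i) = 0)
    (hII : ∀ i, d ≤ Module.finrank k (LinearMap.range (f i)) + Module.finrank k (LinearMap.range (g i)))
    (hIII : ∀ i j : Fin n, i.val + 1 = j.val →
      LinearMap.range (f i) ⊓ LinearMap.ker (f j) = ⊥ ∧
        LinearMap.range (g j) ⊓ LinearMap.ker (g i) = ⊥)
    (V : Fin (n + 1) → Module.Grassmannian k (k ⊗[k] (Fin d → k)) (d - r))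
    (hV : V ∈ W4c1limliniiii.LGPoints k d r n f g k) :
    W4c1limliniiii.IsExact k d r n f g k V ↔
      ∀ i : Fin n,
        Module.finrank k ↥(Submodule.map ((f i).baseChange k) (V i.castSucc).toSubmodule) +
          Module.finrank k ↥(Submodule.map ((g i).baseChange k) (V i.succ).toSubmodule) = r := by
  classical
  unfold W4c1limliniiii.IsExact
  refine forall_congr' fun i => ?_
  have hFG : ((f i).baseChange k).comp ((g i).baseChange k) = 0 := by
    rw [← LinearMap.baseChange_comp, (hI i).1, LinearMap.baseChange_zero]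
  have hGF : ((g i).baseChange k).comp ((f i).baseChange k) = 0 := by
    rw [← LinearMap.baseChange_comp, (hI i).2, LinearMap.baseChange_zero]
  exact exact_iff _ _ hFG hGF _ _ r (finrank_grass hrd _) (finrank_grass hrd _) (hV i).1 (hV i).2

end Groth.Agent.S19562
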