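import Groth.Statements.S19564
import Mathlib
import Groth.Agent.Lib.Helper9.FrobLift
import Groth.Agent.S13146

set_option autoImplicit false
set_option linter.unusedSectionVars false
universe u
open scoped BigOperators
open FrobAlg

namespace Groth.Agent.S19564

open Groth.Agent.Lib.Helper9.FrobLift Groth.Agent.S13146

section functional

variable (p : ℕ) [hp : Fact p.Prime] (k : Type u) [Field k] [CharP k p] (n : ℕ)

theorem cc_pow_add (w : Zr k) :
    cc p k ((Polynomial.C Polynomial.X + Polynomial.X) ^ p * w) = 0 := by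
  rw [add_pow_char, add_mul, cc_add, cc_a, cc_b, add_zero]

theorem Qp_neg {R : Type*} [CommRing R] (u : R) :
    Qp p u (-u) = u ^ p * (∑ j ∈ Finset.Ioo 0 p, (-1) ^ (p - j) * ((p.choose j / p : ℕ) : R)) := by
  unfold Qp
  rw [Finset.mul_sum, Finset.mul_sum]
  refine Finset.sum_congr rfl fun j hj => ?_
  rw [Finset.mem_Ioo] at hj
  obtain ⟨j', rfl⟩ : ∃ j', j = j' + 1 := ⟨j - 1, by omega⟩
  obtain ⟨m, hm⟩ : ∃ m, p = j' + 1 + (m + 1) := ⟨p - (j' + 1) - 1, by omega⟩
  have e1 : p - (j' + 1) - 1 = m := by omega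
  have e2 : p - (j' + 1) = m + 1 := by omega
  rw [e1, e2, Nat.add_sub_cancel, neg_pow u m]
  generalize ((p.choose (j' + 1) / p : ℕ) : R) = c
  have hup : u ^ p = u ^ (j' + 1 + (m + 1)) := by rw [← hm]
  rw [hup]
  ring

theorem cc_Qp_neg : cc p k (Qp p (zeta k 0 + zeta k 1) (zeta k 2)) = 0 := by
  have h2 : zeta k 2 = -(zeta k 0 + zeta k 1) := rfl
  have h01 : zeta k 0 + zeta k 1 = Polynomial.C Polynomial.X + Polynomial.X := rfl
  rw [h2, Qp_neg, h01]
  exact cc_pow_add p k _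

theorem Lam_zero : Lam p k n 0 = 0 := Lam_of_psi_eq_zero p k n 0 (map_zero _)

/-- `Λ ∘ ψ` as an additive map -/
noncomputable def LamHom : MvPolynomial (Fin n × Fin 2) k →+ k where
  toFun := Lam p k n
  map_zero' := Lam_zero p k n
  map_add' := Lam_add p k n

theorem LamHom_apply (f : MvPolynomial (Fin n × Fin 2) k) : LamHom p k n f = Lam p k n f := rfl

theorem Lam_sum {J : Type*} (s : Finset J) (f : J → MvPolynomial (Fin n × Fin 2) k) :
    Lam p k n (∑ i ∈ s, f i) = ∑ i ∈ s, Lam p k n (f i) := by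
  rw [← LamHom_apply, map_sum]
  rfl

theorem Lam_C (c : k) : Lam p k n (MvPolynomial.C c) = 0 := by
  unfold Lam
  simp only [psi, MvPolynomial.eval₂Hom_C, AddMonoidAlgebra.coe_algebraMap, Function.comp_apply]
  rw [AddMonoidAlgebra.coeff_single, Finsupp.single_eq_same]
  unfold cc
  rw [Polynomial.algebraMap_apply, Polynomial.coeff_C, if_neg, Polynomial.coeff_zero]
  have := hp.out.two_le
  omega

theorem Lam_pow_p (η : MvPolynomial (Fin n × Fin 2) k) : Lam p k n (η ^ p) = 0 := by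
  induction η using MvPolynomial.induction_on with
  | C c =>
    rw [← map_pow]
    exact Lam_C p k n _
  | add f g hf hg =>
    rw [add_pow_char, Lam_add, hf, hg, add_zero]
  | mul_X f v _ =>
    rw [mul_pow]
    obtain ⟨i, e⟩ := v
    fin_cases e
    · exact Lam_mul_X0 p k n _ i
    · exact Lam_mul_X1 p k n _ i

theorem Lam_Qp01 (hn : 3 ≤ n) :
    Lam p k n (Qp p
      (MvPolynomial.X ((⟨0, by omega⟩ : Fin n), (0 : Fin 2)) * MvPolynomial.X ((⟨0, by omega⟩ : Fin n), (1 : Fin 2)))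
      (MvPolynomial.X ((⟨1, by omega⟩ : Fin n), (0 : Fin 2)) * MvPolynomial.X ((⟨1, by omega⟩ : Fin n), (1 : Fin 2)))) = 1 := by
  unfold Lam
  have hQ := map_Qp (R := MvPolynomial (Fin n × Fin 2) k) (S := GA k) p (psi k n)
      (MvPolynomial.X ((⟨0, by omega⟩ : Fin n), (0 : Fin 2)) * MvPolynomial.X ((⟨0, by omega⟩ : Fin n), (1 : Fin 2)))
      (MvPolynomial.X ((⟨1, by omega⟩ : Fin n), (0 : Fin 2)) * MvPolynomial.X ((⟨1, by omega⟩ : Fin n), (1 : Fin 2)))
  rw [hQ, psi_zhat, psi_zhat, dif_pos (by simp), dif_pos (by simp)]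
  have e0 : (AddMonoidAlgebra.single 0 (zeta k ⟨0, by simp⟩) : GA k)
      = AddMonoidAlgebra.singleZeroRingHom (zeta k 0) := rfl
  have e1 : (AddMonoidAlgebra.single 0 (zeta k ⟨1, by simp⟩) : GA k)
      = AddMonoidAlgebra.singleZeroRingHom (zeta k 1) := rfl
  rw [e0, e1, ← map_Qp]
  change cc p k ((AddMonoidAlgebra.single (0 : Gr) (Qp p (zeta k 0) (zeta k 1)) : GA k).coeff 0) = 1
  rw [AddMonoidAlgebra.coeff_single, Finsupp.single_eq_same, cc_Qp]

theorem Lam_Qp_neg (hn : 3 ≤ n) (r : MvPolynomial (Fin n × Fin 2) k) (hr : psi k n r = 0) :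
    Lam p k n (Qp p
      (MvPolynomial.X ((⟨0, by omega⟩ : Fin n), (0 : Fin 2)) * MvPolynomial.X ((⟨0, by omega⟩ : Fin n), (1 : Fin 2)) +
       MvPolynomial.X ((⟨1, by omega⟩ : Fin n), (0 : Fin 2)) * MvPolynomial.X ((⟨1, by omega⟩ : Fin n), (1 : Fin 2)))
      (MvPolynomial.X ((⟨2, by omega⟩ : Fin n), (0 : Fin 2)) * MvPolynomial.X ((⟨2, by omega⟩ : Fin n), (1 : Fin 2)) + r)) = 0 := by
  unfold Lam
  have hQ := map_Qp (R := MvPolynomial (Fin n × Fin 2) k) (S := GA k) p (psi k n)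
      (MvPolynomial.X ((⟨0, by omega⟩ : Fin n), (0 : Fin 2)) * MvPolynomial.X ((⟨0, by omega⟩ : Fin n), (1 : Fin 2)) +
       MvPolynomial.X ((⟨1, by omega⟩ : Fin n), (0 : Fin 2)) * MvPolynomial.X ((⟨1, by omega⟩ : Fin n), (1 : Fin 2)))
      (MvPolynomial.X ((⟨2, by omega⟩ : Fin n), (0 : Fin 2)) * MvPolynomial.X ((⟨2, by omega⟩ : Fin n), (1 : Fin 2)) + r)
  rw [hQ, map_add, map_add, hr, add_zero, psi_zhat, psi_zhat, psi_zhat, dif_pos (by simp),
    dif_pos (by simp), dif_pos (by simp)]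
  have e0 : (AddMonoidAlgebra.single 0 (zeta k ⟨0, by simp⟩) : GA k)
      = AddMonoidAlgebra.singleZeroRingHom (zeta k 0) := rfl
  have e1 : (AddMonoidAlgebra.single 0 (zeta k ⟨1, by simp⟩) : GA k)
      = AddMonoidAlgebra.singleZeroRingHom (zeta k 1) := rfl
  have e2 : (AddMonoidAlgebra.single 0 (zeta k ⟨2, by simp⟩) : GA k)
      = AddMonoidAlgebra.singleZeroRingHom (zeta k 2) := rfl
  rw [e0, e1, e2, ← map_add, ← map_Qp]
  change cc p k ((AddMonoidAlgebra.single (0 : Gr)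
    (Qp p (zeta k 0 + zeta k 1) (zeta k 2)) : GA k).coeff 0) = 0
  rw [AddMonoidAlgebra.coeff_single, Finsupp.single_eq_same, cc_Qp_neg]

theorem Lam_Qp_zero (x r : MvPolynomial (Fin n × Fin 2) k) (hr : psi k n r = 0) :
    Lam p k n (Qp p x r) = 0 := by
  apply Lam_of_psi_eq_zero
  have hQ := map_Qp (R := MvPolynomial (Fin n × Fin 2) k) (S := GA k) p (psi k n) x r
  rw [hQ, hr]
  unfold Qp
  rw [mul_zero, zero_mul]

end functional

section mainsec

/-- the ideal `(q)` -/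
noncomputable abbrev JJ (k : Type u) [Field k] (n : ℕ) : Ideal (MvPolynomial (Fin n × Fin 2) k) :=
  Ideal.span {(∑ i : Fin n, MvPolynomial.X (i, (0 : Fin 2)) * MvPolynomial.X (i, (1 : Fin 2)) : MvPolynomial (Fin n × Fin 2) k)}

theorem main
    (p : ℕ) [hp : Fact p.Prime] (k : Type u) [Field k] [CharP k p] [PerfectRing k p]
    (n : ℕ) (hn : 3 ≤ n) :
    ¬ FrobAlg.IsFLiftable p k (MvPolynomial (Fin n × Fin 2) k ⧸ JJ k n) := by
  rintro ⟨B, _, ι, π, Φ, hΦ⟩
  have hB := hΦ.toIsLift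
  let mk := Ideal.Quotient.mk (JJ k n)
  have hsurj := hB.surj
  choose Xb hXb using fun v : Fin n × Fin 2 => hsurj (mk (MvPolynomial.X v))
  let Zb : Fin n → B := fun i => Xb (i, 0) * Xb (i, 1)
  have hpp := pp hB
  have hp2 := hp.out.two_le
  have hppow : (p : B) ^ p = 0 := by
    obtain ⟨m, hm⟩ : ∃ m, p = 2 + m := ⟨p - 2, by omega⟩
    rw [show (p : B) ^ p = (p : B) ^ (2 + m) by rw [← hm], pow_add, pow_two, hpp, zero_mul]
  have hΦx : ∀ x : B, ∃ a : B, Φ x = x ^ p + (p : B) * a := by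
    intro x
    have h0 : π (Φ x - x ^ p) = 0 := by rw [map_sub, hΦ.red, map_pow, sub_self]
    obtain ⟨a, ha⟩ := exists_of_pi_eq_zero hB _ h0
    exact ⟨a, by rw [← ha]; ring⟩
  choose a ha using fun v => hΦx (Xb v)
  have hπZ : ∀ i, π (Zb i) = mk (MvPolynomial.X (i, 0) * MvPolynomial.X (i, 1)) := by
    intro i
    change π (Xb (i, 0) * Xb (i, 1)) = _
    rw [map_mul, hXb, hXb, map_mul]
  have hsum : π (∑ i, Zb i) = 0 := by
    rw [map_sum]
    simp only [hπZ]
    rw [← map_sum]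
    apply Ideal.Quotient.eq_zero_iff_mem.mpr
    exact Ideal.subset_span rfl
  obtain ⟨h, hh⟩ := exists_of_pi_eq_zero hB _ hsum
  obtain ⟨c, hc⟩ := hΦx h
  have hΦp : Φ (p : B) = p := map_natCast Φ p
  have hΦQ1 : Φ (∑ i, Zb i) = (p : B) * h ^ p := by
    rw [hh, map_mul, hΦp, hc, mul_add, ← mul_assoc, hpp, zero_mul, add_zero]
  have hΦQ2 : Φ (∑ i, Zb i) = ∑ i, Zb i ^ p +
      (p : B) * ∑ i, (a (i, 0) * Xb (i, 1) ^ p + a (i, 1) * Xb (i, 0) ^ p) := by
    rw [map_sum, Finset.mul_sum, ← Finset.sum_add_distrib]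
    refine Finset.sum_congr rfl fun i _ => ?_
    change Φ (Xb (i, 0) * Xb (i, 1)) = (Xb (i, 0) * Xb (i, 1)) ^ p + _
    rw [map_mul, ha, ha, mul_pow]
    linear_combination (a (i, 0) * a (i, 1)) * hpp
  have hQp : (∑ i, Zb i) ^ p = 0 := by rw [hh, mul_pow, hppow, zero_mul]
  -- the decomposition
  have h01 : (⟨0, by omega⟩ : Fin n) ≠ ⟨1, by omega⟩ := by
    intro h
    simpa using congrArg Fin.val h
  have h02 : (⟨0, by omega⟩ : Fin n) ≠ ⟨2, by omega⟩ := by
    intro h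
    simpa using congrArg Fin.val h
  have h12 : (⟨1, by omega⟩ : Fin n) ≠ ⟨2, by omega⟩ := by
    intro h
    simpa using congrArg Fin.val h
  set i0 : Fin n := ⟨0, by omega⟩ with hi0
  set i1 : Fin n := ⟨1, by omega⟩ with hi1
  set i2 : Fin n := ⟨2, by omega⟩ with hi2
  set s := (((Finset.univ : Finset (Fin n)).erase i0).erase i1).erase i2 with hs
  have hsplit : ∀ f : Fin n → B, ∑ i, f i = (f i0 + f i1) + (f i2 + ∑ i ∈ s, f i) := by
    intro f
    rw [hs, Finset.add_sum_erase _ _ (Finset.mem_erase.mpr ⟨h12.symm,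
        Finset.mem_erase.mpr ⟨h02.symm, Finset.mem_univ _⟩⟩), add_assoc,
      Finset.add_sum_erase _ _ (Finset.mem_erase.mpr ⟨h01.symm, Finset.mem_univ _⟩),
      Finset.add_sum_erase _ _ (Finset.mem_univ _)]
  obtain ⟨G, hG, hGs⟩ := sum_pow_mem p Zb s
  have hexp : (∑ i, Zb i) ^ p = ∑ i, Zb i ^ p + (p : B) * (Qp p (Zb i0) (Zb i1) +
      Qp p (Zb i2) (∑ i ∈ s, Zb i) + Qp p (Zb i0 + Zb i1) (Zb i2 + ∑ i ∈ s, Zb i) + G) := by
    rw [hsplit Zb, hsplit (fun i => Zb i ^ p), add_pow_eq, add_pow_eq p (Zb i0) (Zb i1),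
      add_pow_eq p (Zb i2) (∑ i ∈ s, Zb i), hGs]
    ring
  have hzero : (p : B) * (h ^ p + (Qp p (Zb i0) (Zb i1) +
      Qp p (Zb i2) (∑ i ∈ s, Zb i) + Qp p (Zb i0 + Zb i1) (Zb i2 + ∑ i ∈ s, Zb i) + G)
      - ∑ i, (a (i, 0) * Xb (i, 1) ^ p + a (i, 1) * Xb (i, 0) ^ p)) = 0 := by
    have e1 := hΦQ1.symm.trans hΦQ2
    have e2 := hQp.symm.trans hexp
    linear_combination e1 - e2
  have hπ := pi_eq_zero_of_p_mul hB _ hzero
  -- lift everything to the polynomial ring
  obtain ⟨η, hη⟩ := Ideal.Quotient.mk_surjective (I := JJ k n) (π h)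
  choose α hα using fun v => Ideal.Quotient.mk_surjective (I := JJ k n) (π (a v))
  have hGmem : π G ∈ Ideal.map mk (Ideal.span {x : MvPolynomial (Fin n × Fin 2) k |
      ∃ i ∈ s, ∃ j ∈ s, i ≠ j ∧
        x = (MvPolynomial.X (i, 0) * MvPolynomial.X (i, 1)) *
          (MvPolynomial.X (j, 0) * MvPolynomial.X (j, 1))}) := by
    have hmem := Ideal.mem_map_of_mem π hG
    rw [Ideal.map_span] at hmem ⊢
    refine Ideal.span_mono ?_ hmem
    rintro x ⟨y, ⟨i, hi, j, hj, hij, rfl⟩, rfl⟩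
    refine ⟨_, ⟨i, hi, j, hj, hij, rfl⟩, ?_⟩
    rw [map_mul π (Zb i) (Zb j), hπZ, hπZ, ← map_mul]
  obtain ⟨g, hg, hgG⟩ := (Ideal.mem_map_iff_of_surjective mk Ideal.Quotient.mk_surjective).mp hGmem
  have hψg : psi k n g = 0 := by
    have hle : Ideal.span {x : MvPolynomial (Fin n × Fin 2) k |
        ∃ i ∈ s, ∃ j ∈ s, i ≠ j ∧
          x = (MvPolynomial.X (i, 0) * MvPolynomial.X (i, 1)) *
            (MvPolynomial.X (j, 0) * MvPolynomial.X (j, 1))} ≤ RingHom.ker (psi k n) := by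
      rw [Ideal.span_le]
      rintro x ⟨i, hi, j, hj, hij, rfl⟩
      rw [SetLike.mem_coe, RingHom.mem_ker, map_mul, psi_zhat]
      simp only [hs, hi0, hi1, hi2, Finset.mem_erase, Finset.mem_univ, and_true, ne_eq,
        Fin.ext_iff] at hi
      rw [dif_neg (by omega), zero_mul]
    exact hle hg
  set r : MvPolynomial (Fin n × Fin 2) k :=
    ∑ i ∈ s, MvPolynomial.X (i, 0) * MvPolynomial.X (i, 1) with hr
  have hψr : psi k n r = 0 := by
    rw [hr, map_sum]
    apply Finset.sum_eq_zero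
    intro i hi
    simp only [hs, hi0, hi1, hi2, Finset.mem_erase, Finset.mem_univ, and_true, ne_eq,
      Fin.ext_iff] at hi
    rw [psi_zhat, dif_neg (by omega)]
  have hπr : π (∑ i ∈ s, Zb i) = mk r := by
    rw [map_sum, hr, map_sum]
    exact Finset.sum_congr rfl fun i _ => hπZ i
  set D : MvPolynomial (Fin n × Fin 2) k := η ^ p +
      (Qp p (MvPolynomial.X (i0, 0) * MvPolynomial.X (i0, 1))
        (MvPolynomial.X (i1, 0) * MvPolynomial.X (i1, 1)) +
      Qp p (MvPolynomial.X (i2, 0) * MvPolynomial.X (i2, 1)) r +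
      Qp p (MvPolynomial.X (i0, 0) * MvPolynomial.X (i0, 1) +
        MvPolynomial.X (i1, 0) * MvPolynomial.X (i1, 1))
        (MvPolynomial.X (i2, 0) * MvPolynomial.X (i2, 1) + r) + g)
      - ∑ i, (α (i, 0) * MvPolynomial.X (i, 1) ^ p + α (i, 1) * MvPolynomial.X (i, 0) ^ p) with hD
  have hDJ : D ∈ JJ k n := by
    apply Ideal.Quotient.eq_zero_iff_mem.mp
    rw [← hπ, hD]
    simp only [map_sub, map_add, map_mul, map_pow, map_sum, map_Qp, hη, hα, hπZ, hπr, hXb]
    rw [show (Ideal.Quotient.mk (JJ k n)) g = π G from hgG]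
  have hDI : D ∈ II p k n := by
    refine Ideal.span_mono ?_ hDJ
    intro x hx
    rw [Set.mem_singleton_iff] at hx
    rw [hx]
    exact Set.mem_insert _ _
  have hΛ := Lam_I p k n hn D hDI
  rw [hD, Lam_sub, Lam_add, Lam_add, Lam_add, Lam_add, Lam_pow_p, Lam_Qp01 p k n hn,
    Lam_Qp_zero p k n _ r hψr, Lam_Qp_neg p k n hn r hψr, Lam_of_psi_eq_zero p k n g hψg,
    Lam_sum] at hΛ
  have hΛ0 : ∑ i, Lam p k n (α (i, 0) * MvPolynomial.X (i, 1) ^ p +
      α (i, 1) * MvPolynomial.X (i, 0) ^ p) = 0 := by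
    apply Finset.sum_eq_zero
    intro i _
    rw [Lam_add, Lam_mul_X0, Lam_mul_X1, add_zero]
  rw [hΛ0] at hΛ
  simp at hΛ

end mainsec



/-- Let k be a perfect field of characteristic p ≥ 3 and n ≥ 3. Then the ordinary double point k[x_1,
y_1, …, x_n, y_n]/(x_1y_1 + ⋯ + x_ny_n), the affine cone over the split quadric in 2n ≥ 6 variables,
admits no flat lifting over W₂(k) compatible with Frobenius (no flat W₂(k)-algebra reducing to it
that carries a ring endomorphism which is σ₂-semilinear and reduces to the p-th power map). (The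
published statement is for any number N ≥ 5 of variables and allows arbitrary terms of degree ≥ 3 to
be added to a non-degenerate quadratic form; this row is the case of the split form in an even
number of variables with nothing added, the case in which the argument is a pure comparison of
homogeneous components.) -/
theorem result
    (p : ℕ) [Fact p.Prime] (hp : 3 ≤ p) (k : Type u) [Field k] [CharP k p] [PerfectRing k p]
    (n : ℕ) (hn : 3 ≤ n) :
    ¬ FrobAlg.IsFLiftable p k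
      (MvPolynomial (Fin n × Fin 2) k ⧸ Ideal.span
        {(∑ i : Fin n, MvPolynomial.X (i, (0 : Fin 2)) * MvPolynomial.X (i, (1 : Fin 2)) : MvPolynomial (Fin n × Fin 2) k)}) := by
  exact main p k n hn

end Groth.Agent.S19564
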