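import Groth.Statements.S19569
import Mathlib
import Groth.Agent.Lib.Helper20.HandColimProps

set_option autoImplicit false
universe u
open CAlg

namespace Groth.Agent.S19569


open TensorProduct
theorem aux2 (Gk A B : Type u) [CommRing Gk] [CommRing A] [CommRing B] [Algebra A B]
    (gk : Gk →+* A) (B₀ : Type) [CommRing B₀] [Algebra B₀ Gk] [Algebra B₀ A]
    (hcompat : ∀ p, gk (algebraMap B₀ Gk p) = algebraMap B₀ A p)
    (C₀ : Type) [CommRing C₀] [Algebra B₀ C₀] (e : A ⊗[B₀] C₀ ≃ₐ[A] B)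
    (het : Algebra.Etale Gk (Gk ⊗[B₀] C₀)) :
    ∃ (Bi : Type u) (_ : CommRing Bi) (_ : Algebra Gk Bi), Algebra.Etale Gk Bi ∧
      letI : Algebra Gk A := gk.toAlgebra
      Nonempty (B ≃ₐ[A] A ⊗[Gk] Bi) := by
  letI : Algebra Gk A := gk.toAlgebra
  haveI : IsScalarTower B₀ Gk A := IsScalarTower.of_algebraMap_eq (fun p => (hcompat p).symm)
  exact ⟨Gk ⊗[B₀] C₀, inferInstance, inferInstance, het,
    ⟨e.symm.trans (Algebra.TensorProduct.cancelBaseChange B₀ Gk A A C₀).symm⟩⟩

open Groth.Agent.Lib.Helper20.HandColim Groth.Agent.Lib.Helper20.HandColimProps in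
theorem aux {ι : Type u} {G : ι → Type u} [∀ i, CommRing (G i)]
    {A : Type u} [CommRing A] {g : ∀ i, G i →ₐ[ℤ] A} {Tr : ∀ i j, (G i →ₐ[ℤ] G j) → Prop}
    (hc : HC ℤ G A g Tr)
    (B : Type u) [CommRing B] [Algebra A B] [Algebra.Etale A B] :
    ∃ (i : ι) (Bi : Type u) (_ : CommRing Bi) (_ : Algebra (G i) Bi), Algebra.Etale (G i) Bi ∧
      letI : Algebra (G i) A := (g i : G i →+* A).toAlgebra
      Nonempty (B ≃ₐ[A] A ⊗[G i] Bi) := by
  classical
  let P := Algebra.Presentation.ofFinitePresentation A B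
  have hfin : P.coeffs.Finite := P.finite_coeffs
  obtain ⟨N, a, ha⟩ : ∃ N : ℕ, ∃ a : Fin N → A, Set.range a = P.coeffs := by
    haveI := hfin.fintype
    refine ⟨Fintype.card P.coeffs, fun l => ((Fintype.equivFin P.coeffs).symm l).1, ?_⟩
    ext x
    constructor
    · rintro ⟨l, rfl⟩
      exact ((Fintype.equivFin P.coeffs).symm l).2
    · intro hx
      exact ⟨Fintype.equivFin P.coeffs ⟨x, hx⟩, by simp⟩
  have hcP := hc.pointed a
  -- `B` as an algebra over `Pt a` and over `ℤ[Y]`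
  letI : Algebra (Pt a) B := inferInstanceAs (Algebra A B)
  letI : Algebra (MvPolynomial (Fin N) ℤ) B :=
    ((algebraMap (Pt a) B).comp (algebraMap (MvPolynomial (Fin N) ℤ) (Pt a))).toAlgebra
  haveI : IsScalarTower (MvPolynomial (Fin N) ℤ) (Pt a) B :=
    IsScalarTower.of_algebraMap_eq (fun _ => rfl)
  let P' : Algebra.Presentation (Pt a) B _ _ := P
  haveI : P'.HasCoeffs (MvPolynomial (Fin N) ℤ) := by
    refine ⟨?_⟩
    intro x hx
    have hx' : x ∈ Set.range a := by rw [ha]; exact hx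
    obtain ⟨l, rfl⟩ := hx'
    exact ⟨MvPolynomial.X l, by rw [Pt.algebraMap_apply, MvPolynomial.aeval_X]⟩
  let C₀ := P'.ModelOfHasCoeffs (MvPolynomial (Fin N) ℤ)
  let e : (Pt a) ⊗[MvPolynomial (Fin N) ℤ] C₀ ≃ₐ[Pt a] B :=
    P'.tensorModelOfHasCoeffsEquiv (MvPolynomial (Fin N) ℤ)
  haveI : Algebra.Etale (Pt a) B := inferInstanceAs (Algebra.Etale A B)
  have het : Algebra.Etale (Pt a) ((Pt a) ⊗[MvPolynomial (Fin N) ℤ] C₀) :=
    Algebra.Etale.of_equiv e.symm
  have hfe := het.formallyEtale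
  rw [Algebra.FormallyEtale.iff_formallyUnramified_and_formallySmooth] at hfe
  obtain ⟨i₁, hi₁⟩ := descent_formallySmooth
    (Algebra.Presentation.ofFinitePresentation (MvPolynomial (Fin N) ℤ) C₀) hcP hfe.2
  obtain ⟨i₂, hi₂⟩ := descent_formallyUnramified
    (Algebra.Presentation.ofFinitePresentation (MvPolynomial (Fin N) ℤ) C₀) hcP hfe.1
  obtain ⟨⟨k, c, hck⟩, τ₁, τ₂, h₁, h₂⟩ := hcP.dir i₁ i₂
  have hsm := hi₁ _ τ₁ h₁
  have hun := hi₂ _ τ₂ h₂
  have hetk : Algebra.Etale (Pt c) ((Pt c) ⊗[MvPolynomial (Fin N) ℤ] C₀) := by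
    refine ⟨?_, inferInstance⟩
    rw [Algebra.FormallyEtale.iff_formallyUnramified_and_formallySmooth]
    exact ⟨hun, hsm⟩
  exact ⟨k, aux2 (Pt c) (Pt a) B (g k : G k →+* A) (MvPolynomial (Fin N) ℤ)
    (fun p => (Pt.algHom c a (g k : G k →+* A) hck).commutes p) C₀ e hetk⟩

open TensorProduct in
/-- Let A be the colimit of a directed system of rings (A_i), given by compatible ring maps A_i → A
which are jointly surjective and such that an element of some A_i mapping to zero in A already maps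
to zero in some later A_j, and let B be an étale A-algebra. Then for some index i there is an étale
A_i-algebra B_i such that B is isomorphic, as an A-algebra, to the base change A ⊗_{A_i} B_i
(existence of an isomorphism). (Stated for a system indexed by a directed preordered set.) -/
theorem result {ι : Type u} [Preorder ι] [IsDirected ι (· ≤ ·)] [Nonempty ι]
    (G : ι → Type u) [∀ i, CommRing (G i)] (f : ∀ i j, i ≤ j → (G i →+* G j))
    (A : Type u) [CommRing A] (g : ∀ i, G i →+* A) (hg : ∀ i j (h : i ≤ j), (g j).comp (f i j h) = g i)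
    (hsurj : ∀ a : A, ∃ i, ∃ x : G i, g i x = a)
    (hker : ∀ i (x : G i), g i x = 0 → ∃ j, ∃ h : i ≤ j, f i j h x = 0)
    (B : Type u) [CommRing B] [Algebra A B] [Algebra.Etale A B] :
    ∃ (i : ι) (Bi : Type u) (_ : CommRing Bi) (_ : Algebra (G i) Bi), Algebra.Etale (G i) Bi ∧
      letI : Algebra (G i) A := (g i).toAlgebra
      Nonempty (B ≃ₐ[A] A ⊗[G i] Bi) := by

  have hcZ := Groth.Agent.Lib.Helper20.HandColim.HC.of_directed ℤ G
    (fun i j h => (f i j h).toIntAlgHom) A (fun i => (g i).toIntAlgHom)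
    (by intro i j h; ext x; exact RingHom.congr_fun (hg i j h) x) hsurj hker
  exact aux hcZ B

end Groth.Agent.S19569
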