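import Groth.Statements.S19571
import Mathlib.AlgebraicGeometry.Morphisms.UniversallyOpen
import Mathlib.AlgebraicGeometry.Morphisms.Flat

set_option autoImplicit false
universe u
open CategoryTheory AlgebraicGeometry
open EtaPt

namespace Groth.Agent.S19571

section helpers

theorem result_aux
    {X Y : Scheme.{u}} (f : Y ⟶ X) [Flat f] [Surjective f] [LocallyOfFinitePresentation f]
    (U : X.affineOpens) (x : X) (hx : x ∈ (U : X.Opens)) :
    ∃ V : X.affineOpens, x ∈ (V : X.Opens) ∧ (V : X.Opens) ≤ (U : X.Opens) ∧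
      ∃ W : Y.affineOpens, f.base '' ((W : Y.Opens) : Set Y) = ((V : X.Opens) : Set X) := by
  obtain ⟨y, rfl⟩ := f.surjective x
  obtain ⟨_, ⟨W0, hW0, rfl⟩, hyW0, hW0U⟩ :=
    Y.isBasis_affineOpens.exists_subset_of_mem_open (show y ∈ (f ⁻¹ᵁ (U : X.Opens) : Set Y) from hx)
      (f ⁻¹ᵁ (U : X.Opens)).isOpen
  have hopen : IsOpen (f '' (W0 : Set Y)) := f.isOpenMap _ W0.isOpen
  let O : X.Opens := ⟨f '' (W0 : Set Y), hopen⟩
  have hxO : f y ∈ O := ⟨y, hyW0, rfl⟩
  obtain ⟨g, hgO, hxg⟩ := U.2.exists_basicOpen_le (⟨f y, hxO⟩ : O) hx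
  have e : W0 ≤ f ⁻¹ᵁ (U : X.Opens) := hW0U
  refine ⟨⟨X.basicOpen g, U.2.basicOpen g⟩, hxg, X.basicOpen_le g,
    ⟨Y.basicOpen (f.appLE (U : X.Opens) W0 e g), hW0.basicOpen _⟩, ?_⟩
  change f '' ((Y.basicOpen (f.appLE (U : X.Opens) W0 e g) : Y.Opens) : Set Y) =
    ((X.basicOpen g : X.Opens) : Set X)
  rw [Scheme.basicOpen_appLE]
  apply Set.Subset.antisymm
  · rintro _ ⟨w, ⟨-, hw⟩, rfl⟩
    exact hw
  · intro v hv
    obtain ⟨w, hw, rfl⟩ := hgO hv
    exact ⟨w, ⟨hw, hv⟩, rfl⟩

end helpers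

/-- Let f : Y → X be a morphism of schemes which is flat, surjective and locally of finite presentation.
Then every affine open U of X is covered by affine opens V each of which is the image f(W) of some
affine open W of Y; stated pointwise: for every x ∈ U there are an affine open V of X with x ∈ V ≤ U
and an affine open W of Y with f(W) = V as sets. (For such V and W the induced ring map Γ(V) → Γ(W)
is then faithfully flat.) -/
theorem result
    {X Y : Scheme.{u}} (f : Y ⟶ X) [Flat f] [Surjective f] [LocallyOfFinitePresentation f]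
    (U : X.affineOpens) (x : X) (hx : x ∈ (U : X.Opens)) :
    ∃ V : X.affineOpens, x ∈ (V : X.Opens) ∧ (V : X.Opens) ≤ (U : X.Opens) ∧
      ∃ W : Y.affineOpens, f.base '' ((W : Y.Opens) : Set Y) = ((V : X.Opens) : Set X) := by
  exact result_aux f U x hx

end Groth.Agent.S19571
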