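import Groth.Statements.S19574
import Mathlib

set_option autoImplicit false
universe u
open CategoryTheory MonoidalCategory
open Lie3Mod
open TensorProduct

namespace Groth.Agent.S19574

theorem flat_of_exact_mod {R : Type u} [CommRing R] {P3 P2 P1 M : Type u}
    [AddCommGroup P3] [Module R P3] [AddCommGroup P2] [Module R P2]
    [AddCommGroup P1] [Module R P1] [AddCommGroup M] [Module R M]
    (e : P3 →ₗ[R] P2) (f : P2 →ₗ[R] P1) (g : P1 →ₗ[R] M)
    (hef : ∀ x, f (e x) = 0)
    (hfg : Function.Exact f g) (hg : Function.Surjective g) [Module.Flat R P1]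
    (hI : ∀ I : Ideal R, Function.Exact (e.lTensor (R ⧸ I)) (f.lTensor (R ⧸ I))) :
    Module.Flat R M := by
  rw [Module.Flat.iff_rTensor_injective']
  intro I
  rw [injective_iff_map_eq_zero]
  intro x hx
  -- notation
  have hIex : Function.Exact I.subtype (Submodule.mkQ I) := by
    intro r
    rw [Submodule.mkQ_apply, Submodule.Quotient.mk_eq_zero]
    constructor
    · intro h; exact ⟨⟨r, h⟩, rfl⟩
    · rintro ⟨y, rfl⟩; exact y.2
  have hmkQ : Function.Surjective (Submodule.mkQ I) := Submodule.mkQ_surjective I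
  -- step 1
  obtain ⟨y, rfl⟩ := LinearMap.lTensor_surjective I hg x
  -- step 2
  have h2 : (g.lTensor R) ((I.subtype.rTensor P1) y) = 0 := by
    rw [← LinearMap.comp_apply, LinearMap.lTensor_comp_rTensor, ← LinearMap.rTensor_comp_lTensor,
      LinearMap.comp_apply, hx]
  obtain ⟨q, hq⟩ := (lTensor_exact R hfg hg _).1 h2
  -- step 3
  have h3 : ((Submodule.mkQ I).rTensor P1) ((I.subtype.rTensor P1) y) = 0 :=
    (rTensor_exact P1 hIex hmkQ _).2 ⟨y, rfl⟩
  have h3' : (f.lTensor (R ⧸ I)) (((Submodule.mkQ I).rTensor P2) q) = 0 := by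
    rw [← LinearMap.comp_apply, LinearMap.lTensor_comp_rTensor, ← LinearMap.rTensor_comp_lTensor,
      LinearMap.comp_apply, hq, h3]
  obtain ⟨t, ht⟩ := (hI I _).1 h3'
  obtain ⟨p3, rfl⟩ := LinearMap.rTensor_surjective P3 hmkQ t
  have h4 : ((Submodule.mkQ I).rTensor P2) (q - (e.lTensor R) p3) = 0 := by
    rw [map_sub, ← ht, ← LinearMap.comp_apply, ← LinearMap.comp_apply,
      LinearMap.lTensor_comp_rTensor, LinearMap.rTensor_comp_lTensor, sub_self]
  obtain ⟨w, hw⟩ := (rTensor_exact P2 hIex hmkQ _).1 h4
  -- step 4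
  have hfe : (f.lTensor R) ((e.lTensor R) p3) = 0 := by
    rw [← LinearMap.comp_apply, ← LinearMap.lTensor_comp]
    have : f ∘ₗ e = 0 := LinearMap.ext hef
    rw [this, LinearMap.lTensor_zero, LinearMap.zero_apply]
  have h5 : (I.subtype.rTensor P1) ((f.lTensor I) w) = (I.subtype.rTensor P1) y := by
    rw [← LinearMap.comp_apply, LinearMap.rTensor_comp_lTensor, ← LinearMap.lTensor_comp_rTensor,
      LinearMap.comp_apply, hw, map_sub, hq, hfe, sub_zero]
  have hinj : Function.Injective (I.subtype.rTensor P1) :=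
    Module.Flat.rTensor_preserves_injective_linearMap _ Subtype.val_injective
  have h6 := hinj h5
  rw [← h6, ← LinearMap.comp_apply, ← LinearMap.lTensor_comp]
  have : g ∘ₗ f = 0 := LinearMap.ext (fun x => hfg.apply_apply_eq_zero x)
  rw [this, LinearMap.lTensor_zero, LinearMap.zero_apply]

/-- Let R be a commutative ring and d ≥ 1. Let K be a chain complex of R-modules concentrated in degrees
0, …, d + 1, written … → 0 → P_{d+1} → P_d → … → P_1 → M with M = K_0, which is exact (so 0 →
P_{d+1} → … → P_1 → M → 0 is an exact sequence), such that P_1, …, P_d are flat R-modules and such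
that for every ideal I of R the complex obtained by applying (R/I) ⊗_R − termwise is again exact.
Then M is a flat R-module. (No flatness is assumed for P_{d+1}. The published lemma adds that for R
Noetherian it suffices to test prime ideals I; that refinement is not part of this statement.) -/
theorem result (R : Type u) [CommRing R]
    (d : ℕ) (hd : 1 ≤ d) (K : ChainComplex (ModuleCat.{u} R) ℕ)
    (hzero : ∀ i : ℕ, d + 1 < i → Limits.IsZero (K.X i))
    (hflat : ∀ i : ℕ, 1 ≤ i → i ≤ d → Module.Flat R (K.X i))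
    (hK : K.Acyclic)
    (hbc : ∀ I : Ideal R,
      (((tensorLeft (ModuleCat.of R (R ⧸ I))).mapHomologicalComplex (ComplexShape.down ℕ)).obj K).Acyclic) :
    Module.Flat R (K.X 0) := by
  have hP1 : Module.Flat R (K.X 1) := hflat 1 le_rfl hd
  -- exactness at 0: surjectivity
  have hsurj : Function.Surjective (K.d 1 0).hom := by
    have h0 := hK 0
    rw [HomologicalComplex.exactAt_iff' K 1 0 0 (by simp) (by simp),
      ShortComplex.moduleCat_exact_iff] at h0
    intro x
    obtain ⟨y, hy⟩ := h0 x (by
      change (K.d 0 0).hom x = 0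
      rw [K.shape 0 0 (by simp)]
      rfl)
    exact ⟨y, hy⟩
  -- exactness at 1
  have hex1 : Function.Exact (K.d 2 1).hom (K.d 1 0).hom := by
    have h1 := hK 1
    rw [HomologicalComplex.exactAt_iff' K 2 1 0 (by simp) (by simp),
      ShortComplex.moduleCat_exact_iff] at h1
    intro x
    constructor
    · intro hx
      exact h1 x hx
    · rintro ⟨y, rfl⟩
      have := K.d_comp_d 2 1 0
      exact congrArg (fun φ => φ.hom y) this
  have hef : ∀ x, (K.d 2 1).hom ((K.d 3 2).hom x) = 0 := by
    intro x
    have := K.d_comp_d 3 2 1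
    exact congrArg (fun φ => φ.hom x) this
  refine flat_of_exact_mod (K.d 3 2).hom (K.d 2 1).hom (K.d 1 0).hom hef hex1 hsurj ?_
  intro I
  have h2 := hbc I 2
  rw [HomologicalComplex.exactAt_iff' _ 3 2 1 (by simp) (by simp),
    ShortComplex.moduleCat_exact_iff] at h2
  intro x
  constructor
  · intro hx
    exact h2 x hx
  · rintro ⟨y, rfl⟩
    rw [← LinearMap.comp_apply, ← LinearMap.lTensor_comp]
    have : (K.d 2 1).hom ∘ₗ (K.d 3 2).hom = 0 := LinearMap.ext hef
    rw [this, LinearMap.lTensor_zero, LinearMap.zero_apply]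

end Groth.Agent.S19574
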