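import Groth.Statements.S1959
import Mathlib.RingTheory.IntegralClosure.Algebra.Ideal
-- import your own Groth.Agent.* helpers here

set_option autoImplicit false
universe u
open Polynomial
open EtAlg

namespace Groth.Agent.S1959

/-- Let I be an ideal of a ring A, A -> B an integral ring map and b an element of B whose image in B/IB
is idempotent. Then there are d ≥ 1 and a monic polynomial f over A with f(b) = 0 whose reduction
modulo I is x^d (x - 1)^d. -/
theorem result (A B : Type u) [CommRing A] [CommRing B] [Algebra A B]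
    [Algebra.IsIntegral A B] (I : Ideal A) (b : B)
    (hb : IsIdempotentElem (Ideal.Quotient.mk (I.map (algebraMap A B)) b)) :
    ∃ (f : A[X]) (d : ℕ), f.Monic ∧ 1 ≤ d ∧ aeval b f = 0 ∧
      f.map (Ideal.Quotient.mk I) = X ^ d * (X - 1) ^ d := by
  cases subsingleton_or_nontrivial A with
  | inl hA =>
    have : Subsingleton B := Module.subsingleton A B
    exact ⟨1, 1, monic_one, le_rfl, Subsingleton.elim _ _, Subsingleton.elim _ _⟩
  | inr hA =>
  have hx : b ^ 2 - b ∈ I.map (algebraMap A B) := by
    rw [← Ideal.Quotient.eq_zero_iff_mem, map_sub, map_pow, pow_two, hb.eq, sub_self]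
  obtain ⟨p, hp, e, h⟩ := Polynomial.exists_monic_aeval_eq_zero_forall_mem_of_mem_map hx
  have hq : (X ^ 2 - X : A[X]).Monic := by
    apply Polynomial.monic_X_pow_sub
    simp
  have hqd : (X ^ 2 - X : A[X]).natDegree ≠ 0 := by
    rw [Polynomial.natDegree_sub_eq_left_of_natDegree_lt] <;> simp
  have hpm : p.map (Ideal.Quotient.mk I) = X ^ p.natDegree := by
    ext i
    rw [Polynomial.coeff_map, Polynomial.coeff_X_pow]
    split_ifs with hi
    · rw [hi, hp.coeff_natDegree, map_one]
    · exact Ideal.Quotient.eq_zero_iff_mem.mpr (h i hi)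
  refine ⟨(p * X).comp (X ^ 2 - X), p.natDegree + 1, (hp.mul monic_X).comp hq hqd, by omega, ?_, ?_⟩
  · rw [Polynomial.aeval_comp]
    simp [e]
  · rw [Polynomial.map_comp, Polynomial.map_mul, hpm]
    simp only [Polynomial.map_X, Polynomial.map_sub, Polynomial.map_pow, Polynomial.mul_comp,
      Polynomial.X_comp, Polynomial.X_pow_comp]
    have : (X ^ 2 - X : (A ⧸ I)[X]) = X * (X - 1) := by ring
    rw [this, mul_pow]
    ring

end Groth.Agent.S1959
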