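import Groth.Statements.S19590
import Groth.Agent.Lib.Helper17.Minkowski

set_option autoImplicit false
open BddFin

namespace Groth.Agent.S19590

/-- For every n, the orders of the finite subgroups of GL_n(ℤ) are bounded: there is B such that every
finite subgroup of GL_n(ℤ) has at most B elements. -/
theorem result (n : ℕ) :
    ∃ B : ℕ, ∀ H : Subgroup (Matrix.GeneralLinearGroup (Fin n) ℤ), Finite H → Nat.card H ≤ B := by
  refine ⟨Nat.card (Matrix.GeneralLinearGroup (Fin n) (ZMod 3)), ?_⟩
  intro H hH
  let φ : Matrix.GeneralLinearGroup (Fin n) ℤ →* Matrix.GeneralLinearGroup (Fin n) (ZMod 3) :=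
    Matrix.GeneralLinearGroup.map (Int.castRingHom (ZMod 3))
  let ψ : H →* Matrix.GeneralLinearGroup (Fin n) (ZMod 3) := φ.comp H.subtype
  have hinj : Function.Injective ψ := by
    rw [injective_iff_map_eq_one]
    intro h hh
    have hmat : ((h : Matrix.GeneralLinearGroup (Fin n) ℤ) : Matrix (Fin n) (Fin n) ℤ).map
        (Int.castRingHom (ZMod 3)) = 1 := by
      have := congrArg (fun u : Matrix.GeneralLinearGroup (Fin n) (ZMod 3) =>
        (u : Matrix (Fin n) (Fin n) (ZMod 3))) hh
      simpa [ψ, φ] using this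
    set g : Matrix (Fin n) (Fin n) ℤ := ((h : Matrix.GeneralLinearGroup (Fin n) ℤ) :
      Matrix (Fin n) (Fin n) ℤ) with hgdef
    have hg : ∃ X : Matrix (Fin n) (Fin n) ℤ, g = 1 + ((3 : ℕ) : Matrix (Fin n) (Fin n) ℤ) * X := by
      have hdvd : ∀ i j, (3 : ℤ) ∣ g i j - (1 : Matrix (Fin n) (Fin n) ℤ) i j := by
        intro i j
        have := congrFun (congrFun hmat i) j
        rw [Matrix.map_apply] at this
        have h1 : ((g i j - (1 : Matrix (Fin n) (Fin n) ℤ) i j : ℤ) : ZMod 3) = 0 := by
          have this' : ((g i j : ℤ) : ZMod 3) = (1 : Matrix (Fin n) (Fin n) (ZMod 3)) i j := this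
          push_cast
          rw [sub_eq_zero, this']
          by_cases hij : i = j
          · subst hij; simp
          · simp [hij]
        exact (ZMod.intCast_zmod_eq_zero_iff_dvd _ 3).mp h1
      choose X hX using hdvd
      refine ⟨Matrix.of X, ?_⟩
      ext i j
      rw [Matrix.add_apply, ← nsmul_eq_mul, Matrix.smul_apply, nsmul_eq_mul, Matrix.of_apply]
      have := hX i j
      push_cast
      linarith
    have hpow : g ^ Nat.card H = 1 := by
      have h1 : h ^ Nat.card H = 1 := pow_card_eq_one'
      have h2 : (((h ^ Nat.card H : H) : Matrix.GeneralLinearGroup (Fin n) ℤ) :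
          Matrix (Fin n) (Fin n) ℤ) = 1 := by rw [h1]; rfl
      rw [Subgroup.coe_pow, Units.val_pow_eq_pow_val] at h2
      exact h2
    have hg1 := Groth.Agent.Lib.Helper17.Minkowski.finite_order_case 3 Nat.prime_three (by norm_num) (Nat.card H) Nat.card_pos g hg hpow
    apply Subtype.ext
    apply Units.ext
    exact hg1
  exact Nat.card_le_card_of_injective ψ hinj

end Groth.Agent.S19590
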