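import Groth.Statements.S19591
-- import your own Groth.Agent.* helpers here

set_option autoImplicit false
universe u v
open BddFin

namespace Groth.Agent.S19591

/-- Let K be a perfect field of characteristic 2, V a finite-dimensional K-vector space with dim V > 2
and q a quadratic form on V whose polar bilinear form is non-degenerate. Then q represents zero
non-trivially. (Non-degeneracy of the polar form, which is alternating in characteristic 2, forces
dim V to be even, as the published lemma notes.) -/
theorem result
    (K : Type u) [Field K] [CharP K 2] [PerfectField K]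
    (V : Type v) [AddCommGroup V] [Module K V] [FiniteDimensional K V]
    (hV : 2 < Module.finrank K V) (q : QuadraticForm K V)
    (hq : (QuadraticMap.polarBilin q).Nondegenerate) :
    ∃ v : V, v ≠ 0 ∧ q v = 0 := by
  have hnt : Nontrivial V := Module.nontrivial_of_finrank_pos (R := K) (by omega)
  obtain ⟨v, hv⟩ := exists_ne (0 : V)
  by_cases hqv : q v = 0
  · exact ⟨v, hv, hqv⟩
  -- the functional b(v, -)
  set φ : V →ₗ[K] K := QuadraticMap.polarBilin q v with hφ
  have hker : 2 ≤ Module.finrank K (LinearMap.ker φ) := by
    have h1 := LinearMap.finrank_range_add_finrank_ker φ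
    have h2 : Module.finrank K (LinearMap.range φ) ≤ 1 := by
      have := Submodule.finrank_le (LinearMap.range φ)
      simpa using this
    omega
  have hex : ∃ w ∈ LinearMap.ker φ, w ∉ Submodule.span K {v} := by
    by_contra hcon
    push Not at hcon
    have hle : LinearMap.ker φ ≤ Submodule.span K {v} := hcon
    have h3 := Submodule.finrank_mono hle
    have h4 : Module.finrank K (Submodule.span K {v}) = 1 := finrank_span_singleton hv
    omega
  obtain ⟨w, hw, hwv⟩ := hex
  have hpol : QuadraticMap.polar q v w = 0 := by
    have : φ w = 0 := hw
    simpa [hφ] using this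
  have : PerfectRing K 2 := inferInstance
  obtain ⟨c, hc⟩ := surjective_frobenius K 2 (q w / q v)
  rw [frobenius_def] at hc
  refine ⟨c • v + w, ?_, ?_⟩
  · intro h0
    apply hwv
    have : w = (-c) • v := by
      rw [neg_smul]; exact (eq_neg_of_add_eq_zero_right h0)
    rw [this]
    exact Submodule.smul_mem _ _ (Submodule.mem_span_singleton_self v)
  · have h2 : (2 : K) = 0 := CharP.ofNat_eq_zero K 2
    have e1 : q (c • v + w) = q (c • v) + q w + QuadraticMap.polar q (c • v) w := by
      simp [QuadraticMap.polar]
    rw [e1, QuadraticMap.polar_smul_left, hpol, QuadraticMap.map_smul, smul_eq_mul, smul_eq_mul, mul_zero, add_zero,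
      ← pow_two, hc, div_mul_cancel₀ _ hqv]
    linear_combination (q w) * h2

end Groth.Agent.S19591
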