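import Groth.Statements.S19599
import Mathlib
import Groth.Agent.Lib.Helper10.WeilClosed6

set_option autoImplicit false
open CategoryTheory MonoidalCategory CartesianMonoidalCategory MonObj GrpObj AlgebraicGeometry
universe u
open SGA3x

namespace Groth.Agent.S19599

set_option backward.isDefEq.respectTransparency.types false
set_option maxHeartbeats 4000000
set_option synthInstance.maxHeartbeats 400000

open CategoryTheory.Limits Groth.Agent.Lib.Helper10.ClosedSubF Groth.Agent.Lib.Helper10.WeilClosed
  Groth.Agent.Lib.Helper10.FixLocus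

/-- `Spec` of a ring map with projective target is `AffLocProj`. -/
theorem affLocProj_SpecMap {R B : CommRingCat.{u}} (φ : R ⟶ B)
    (h : letI := φ.hom.toAlgebra; Module.Projective R B) : AffLocProj (Spec.map φ) := by
  refine affLocProj_of_app _ (fun s => ⟨⊤, isAffineOpen_top _, trivial, ?_, ?_⟩)
  · exact isAffineOpen_top _
  · exact projective_of_iso (α := φ) (Scheme.ΓSpecIso R).inv (Scheme.ΓSpecIso B).inv
      (Scheme.ΓSpecIso_inv_naturality φ) h

theorem affLocProj_diag (R : Type u) [CommRing R] (M : Type) [AddCommGroup M] :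
    AffLocProj (Red.diag R M).hom := by
  change AffLocProj (Spec.map (CommRingCat.ofHom
    (algebraMap R (MonoidAlgebra R (Multiplicative M)))))
  refine affLocProj_SpecMap _ ?_
  have e : (CommRingCat.ofHom (algebraMap R (MonoidAlgebra R (Multiplicative M)))).hom.toAlgebra =
      (inferInstance : Algebra R (MonoidAlgebra R (Multiplicative M))) :=
    Algebra.algebra_ext _ _ (fun r => rfl)
  rw [e]
  exact Module.Projective.of_free

theorem affLocProj_DS (U : Scheme.{u}) (M : Type) [AddCommGroup M] :
    AffLocProj (Red.DS U M).hom :=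
  affLocProj_of_isPullback (affLocProj_diag (ULift.{u} ℤ) M) (IsPullback.of_hasPullback _ _)

/-- groups of multiplicative type are, fpqc locally, affine with locally projective coordinate
ring. -/
theorem affLocProj_of_multType {S S' : Scheme.{u}} (H : Over S) [GrpObj H] (f : S' ⟶ S)
    (h : ∀ s' : S', ∃ U : S'.Opens, s' ∈ U ∧ ∃ (M : Type) (_ : AddCommGroup M), AddGroup.FG M ∧
      Nonempty (Grp.mk (Red.bc (U.ι ≫ f) H) ≅ Grp.mk (Red.DS (U : Scheme.{u}) M))) :
    AffLocProj (pullback.snd H.hom f) := by
  refine affLocProj_of_local _ (fun s' => ?_)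
  obtain ⟨U, hs', M, _, -, ⟨φ⟩⟩ := h s'
  let ψ : Red.bc (U.ι ≫ f) H ≅ Red.DS (U : Scheme.{u}) M := (Grp.forget _).mapIso φ
  obtain ⟨l, h0⟩ : ∃ l, IsPullback l (pullback.snd H.hom (U.ι ≫ f)) (pullback.snd H.hom f) U.ι :=
    ⟨_, IsPullback.of_right' (IsPullback.of_hasPullback H.hom (U.ι ≫ f))
      (IsPullback.of_hasPullback H.hom f)⟩
  refine ⟨U, hs', (Red.DS (U : Scheme.{u}) M).left, ψ.inv.left ≫ l, (Red.DS (U : Scheme.{u}) M).hom,
    ?_, affLocProj_DS _ M⟩
  refine IsPullback.of_iso h0 ((Over.forget _).mapIso ψ) (Iso.refl _) (Iso.refl _) (Iso.refl _)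
    ?_ ?_ (by simp) (by simp)
  · simp only [Iso.refl_hom, Category.comp_id, Functor.mapIso_hom, Over.forget_map]
    rw [← Category.assoc, ← Over.comp_left, Iso.hom_inv_id, Over.id_left]
    exact (Category.id_comp _).symm
  · simp only [Iso.refl_hom, Category.comp_id, Functor.mapIso_hom, Over.forget_map]
    exact (Over.w ψ.hom).symm

/-- Let G be an affine group scheme of finite presentation over a scheme S and H ⊆ G a closed subgroup
scheme of finite presentation over S which is of multiplicative type (of finite type). Then the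
centralizer of H in G (points of G commuting with every point of H after any base change) is
representable by a closed subscheme of G. Here G is not assumed smooth, and smoothness of the
centralizer is not asserted. -/
theorem result {S : Scheme.{u}} (G H : Over S) [GrpObj G] [GrpObj H]
    (hGa : IsAffineHom G.hom) (hGfp : LocallyOfFinitePresentation G.hom)
    (i : H ⟶ G) [IsMonHom i] (hi : IsClosedImmersion i.left) (hHfp : LocallyOfFinitePresentation H.hom)
    (hH : SGA3x.IsMultTypeFT H) :
    ∃ (C : Over S) (c : C ⟶ G), IsClosedImmersion c.left ∧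
      ∀ (X : Over S) (g : X ⟶ G), (∃ z : X ⟶ C, z ≫ c = g) ↔
        ∀ (X' : Over S) (x : X' ⟶ X) (a : X' ⟶ H), (x ≫ g) * (a ≫ i) = (a ≫ i) * (x ≫ g) := by
  obtain ⟨S', f, hflat, -, hfpqc, hloc⟩ := hH
  haveI := hflat
  haveI := hGa
  haveI : IsSeparated G.hom := inferInstance
  let conj : H ⊗ G ⟶ G := (fst H G ≫ i) * snd H G * (fst H G ≫ i)⁻¹
  obtain ⟨T₀, t, ht, hrep⟩ : ∃ (T₀ : Scheme.{u}) (t : T₀ ⟶ G.left), IsClosedImmersion t ∧
      (fixSub conj).RepBy t :=
    exists_repBy_of_affLocProj_of_fpqc (IsPullback.of_hasPullback H.hom G.hom)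
      (equalizer.ι conj (snd H G)).left hfpqc (IsPullback.of_hasPullback H.hom f)
      (affLocProj_of_multType H f hloc)
  obtain ⟨C, c, hc, -, huniv⟩ := exists_fix_of_repBy conj t hrep
  refine ⟨C, c, hc, fun X g => ?_⟩
  rw [← huniv X g, fix_iff_points conj g]
  refine forall_congr' fun X' => forall_congr' fun x => forall_congr' fun a => ?_
  rw [MonObj.comp_mul, MonObj.comp_mul, GrpObj.comp_inv, lift_fst_assoc, lift_snd,
    mul_inv_eq_iff_eq_mul, eq_comm]

end Groth.Agent.S19599
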