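import Groth.Statements.S19606
import Groth.Agent.Lib.Helper25.IdealCRT

set_option autoImplicit false
universe u
open CategoryTheory CategoryTheory.Limits AlgebraicGeometry
open ClSub

namespace Groth.Agent.S19606

/-- Let X be a scheme and I₁, I₂ quasi-coherent ideal sheaves with I₁ ⊓ I₂ = 0, cutting out closed
subschemes X₁, X₂ and X₁ ∩ X₂ (ideal I₁ + I₂). Then 0 → O_X → O_X/I₁ ⊕ O_X/I₂ → O_X/(I₁ + I₂) → 0 is
an exact sequence of O_X-modules, the maps being the two restrictions and the difference of the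
restrictions q₁, q₂ (the module maps compatible with the quotient maps from O_X). The published
statement is for a locally free sheaf E on a reduced scheme with two irreducible components X₁, X₂
(whose ideals meet in zero); this row is the case E = O_X for any two ideals with zero intersection,
which is what the local argument uses. -/
theorem result (X : Scheme.{u}) (I₁ I₂ : X.IdealSheafData)
    (h : I₁ ⊓ I₂ = ⊥)
    (q₁ : ClSub.quotMod I₁ ⟶ ClSub.quotMod (I₁ ⊔ I₂)) (q₂ : ClSub.quotMod I₂ ⟶ ClSub.quotMod (I₁ ⊔ I₂))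
    (hq₁ : ClSub.toSubscheme I₁ ≫ q₁ = ClSub.toSubscheme (I₁ ⊔ I₂))
    (hq₂ : ClSub.toSubscheme I₂ ≫ q₂ = ClSub.toSubscheme (I₁ ⊔ I₂)) :
    Epi (biprod.desc q₁ (-q₂)) ∧
      ∃ w : biprod.lift (ClSub.toSubscheme I₁) (ClSub.toSubscheme I₂) ≫ biprod.desc q₁ (-q₂) = 0,
        Nonempty (IsLimit (KernelFork.ofι (biprod.lift (ClSub.toSubscheme I₁) (ClSub.toSubscheme I₂)) w)) := by
  open Groth.Agent.Lib.Helper25.HypTwist in
  have hepi₁ : Epi (ClSub.toSubscheme I₁ ≫ q₁) := by rw [hq₁]; exact epi_toSubscheme _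
  have hq₁epi : Epi q₁ := epi_of_epi (ClSub.toSubscheme I₁) q₁
  have hdesc : Epi (biprod.desc q₁ (-q₂)) := by
    have e : biprod.inl ≫ biprod.desc q₁ (-q₂) = q₁ := biprod.inl_desc _ _
    exact epi_of_epi_fac e
  have w : biprod.lift (ClSub.toSubscheme I₁) (ClSub.toSubscheme I₂) ≫ biprod.desc q₁ (-q₂) = 0 := by
    rw [biprod.lift_desc, hq₁, Preadditive.comp_neg, hq₂, add_neg_cancel]
  refine ⟨hdesc, w, ?_⟩
  haveI := mono_lift_toSubscheme I₁ I₂ h
  exact ⟨(exact_crt q₁ q₂ hq₁ hq₂ w).fIsKernel⟩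

end Groth.Agent.S19606
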