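import Groth.Statements.S19609
import Mathlib.RingTheory.AdicCompletion.Basic
import Mathlib.Algebra.Regular.Pow
import Mathlib.Tactic.Ring
import Mathlib.Tactic.LinearCombination

set_option autoImplicit false
universe u
open CartMod

namespace Groth.Agent.S19609

theorem smodEq_iff_exists {R : Type*} [CommRing R] (x : R) (n : ℕ) (a b : R) :
    a ≡ b [SMOD ((Ideal.span {x}) ^ n • ⊤ : Submodule R R)] ↔ ∃ y, a - b = x ^ n * y := by
  rw [SModEq.sub_mem, smul_eq_mul, Ideal.mul_top, Ideal.span_singleton_pow,
    Ideal.mem_span_singleton']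
  constructor
  · rintro ⟨y, hy⟩; exact ⟨y, by rw [← hy, mul_comm]⟩
  · rintro ⟨y, hy⟩; exact ⟨y, by rw [hy, mul_comm]⟩

/-- Let p be a prime and u : A → B a ring homomorphism between commutative rings which are complete and
separated for the p-adic topology and have no p-torsion (flat over the p-adic base). If u induces a
bijection A/pA → B/pB (injectivity: u a ∈ pB forces a ∈ pA; surjectivity: every b ∈ B is congruent
to some u a modulo pB), then u is bijective. (The published statement is for a morphism of flat
p-adic formal schemes over the Witt vectors of a perfect field: if its special fibre is an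
isomorphism, so is the morphism; this row is its affine, ring-level case.) -/
theorem result (p : ℕ) [Fact p.Prime]
    {A B : Type u} [CommRing A] [CommRing B]
    [IsAdicComplete (Ideal.span {(p : A)}) A] [IsAdicComplete (Ideal.span {(p : B)}) B]
    (hA : IsSMulRegular A (p : A)) (hB : IsSMulRegular B (p : B)) (u : A →+* B)
    (hinj : ∀ a : A, u a ∈ Ideal.span {(p : B)} → a ∈ Ideal.span {(p : A)})
    (hsurj : ∀ b : B, ∃ a : A, b - u a ∈ Ideal.span {(p : B)}) :
    Function.Bijective u := by
  have hHA : IsHausdorff (Ideal.span {(p : A)}) A := inferInstance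
  have hHB : IsHausdorff (Ideal.span {(p : B)}) B := inferInstance
  have hPA : IsPrecomplete (Ideal.span {(p : A)}) A := inferInstance
  have hup : u (p : A) = (p : B) := map_natCast u p
  have hregB : ∀ n : ℕ, ∀ y : B, (p : B) ^ n * y = 0 → y = 0 := by
    intro n y hy
    have hreg : IsSMulRegular B ((p : B) ^ n) := hB.pow n
    exact hreg (by simpa using hy)
  constructor
  · -- injective
    rw [injective_iff_map_eq_zero]
    intro a ha
    have key : ∀ n : ℕ, ∃ y : A, a = (p : A) ^ n * y := by
      intro n
      induction n with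
      | zero => exact ⟨a, by rw [pow_zero, one_mul]⟩
      | succ n ih =>
        obtain ⟨y, hy⟩ := ih
        have h1 : (p : B) ^ n * u y = 0 := by
          rw [← hup, ← map_pow, ← map_mul, ← hy, ha]
        have h2 : u y = 0 := hregB n _ h1
        have h3 : y ∈ Ideal.span {(p : A)} := hinj y (by rw [h2]; exact Ideal.zero_mem _)
        obtain ⟨y', hy'⟩ := Ideal.mem_span_singleton'.mp h3
        exact ⟨y', by rw [hy, ← hy']; ring⟩
    apply hHA.haus
    intro n
    rw [smodEq_iff_exists]
    obtain ⟨y, hy⟩ := key n
    exact ⟨y, by rw [sub_zero, hy]⟩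
  · -- surjective
    intro b
    have hstep : ∀ b : B, ∃ a : A, ∃ b' : B, b = u a + (p : B) * b' := by
      intro b
      obtain ⟨a, ha⟩ := hsurj b
      obtain ⟨b', hb'⟩ := Ideal.mem_span_singleton'.mp ha
      exact ⟨a, b', by linear_combination -hb'⟩
    choose fa fb hfab using hstep
    -- sequences
    let bs : ℕ → B := fun n => Nat.rec b (fun _ x => fb x) n
    let as : ℕ → A := fun n => fa (bs n)
    have hbs : ∀ n, bs n = u (as n) + (p : B) * bs (n + 1) := fun n => hfab (bs n)
    let S : ℕ → A := fun n => ∑ i ∈ Finset.range n, (p : A) ^ i * as i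
    have hS : ∀ n, b = u (S n) + (p : B) ^ n * bs n := by
      intro n
      induction n with
      | zero => simp [S, bs]
      | succ n ih =>
        have : S (n + 1) = S n + (p : A) ^ n * as n := Finset.sum_range_succ _ n
        rw [this, map_add, map_mul, map_pow, hup]
        rw [ih] at *
        have h1 := hbs n
        linear_combination (p : B) ^ n * h1
    have hcauchy : ∀ {m n : ℕ}, m ≤ n →
        S m ≡ S n [SMOD ((Ideal.span {(p : A)}) ^ m • ⊤ : Submodule A A)] := by
      intro m n hmn
      rw [smodEq_iff_exists]
      obtain ⟨d, rfl⟩ := Nat.exists_eq_add_of_le hmn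
      refine ⟨-∑ i ∈ Finset.range d, (p : A) ^ i * as (m + i), ?_⟩
      simp only [S]
      rw [Finset.sum_range_add, mul_neg, Finset.mul_sum]
      have : ∀ i, (p : A) ^ (m + i) * as (m + i) = (p : A) ^ m * ((p : A) ^ i * as (m + i)) := by
        intro i; rw [pow_add]; ring
      simp_rw [this]
      ring
    obtain ⟨L, hL⟩ := hPA.prec hcauchy
    refine ⟨L, ?_⟩
    have hsub : b - u L = 0 := by
      apply hHB.haus
      intro n
      rw [smodEq_iff_exists]
      obtain ⟨y, hy⟩ := (smodEq_iff_exists (p : A) n (S n) L).mp (hL n)
      refine ⟨bs n + u y, ?_⟩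
      have h1 := hS n
      have h2 : u (S n) - u L = (p : B) ^ n * u y := by
        rw [← map_sub, hy, map_mul, map_pow, hup]
      linear_combination h1 + h2
    exact (sub_eq_zero.mp hsub).symm

end Groth.Agent.S19609
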