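import Groth.Statements.S19610
import Groth.Agent.Lib.Helper9.FlatCrit

set_option autoImplicit false
universe u
open scoped TensorProduct
open CartMod

namespace Groth.Agent.S19610

open TensorProduct

theorem flat_quot_quot {A : Type u} [CommRing A] (J K : Ideal A) (B : Type u)
    [AddCommGroup B] [Module A B]
    (h : Module.Flat (A ⧸ K) ((A ⧸ K) ⊗[A] B)) :
    Module.Flat ((A ⧸ J) ⧸ K.map (Ideal.Quotient.mk J))
      (((A ⧸ J) ⧸ K.map (Ideal.Quotient.mk J)) ⊗[A ⧸ J] ((A ⧸ J) ⊗[A] B)) := by
  set R := A ⧸ J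
  set I := K.map (Ideal.Quotient.mk J)
  let φ : A ⧸ K →+* R ⧸ I :=
    Ideal.Quotient.lift K ((Ideal.Quotient.mk I).comp (Ideal.Quotient.mk J)) (by
      intro a ha
      rw [RingHom.comp_apply, Ideal.Quotient.eq_zero_iff_mem]
      exact Ideal.mem_map_of_mem _ ha)
  let _ : Algebra (A ⧸ K) (R ⧸ I) := φ.toAlgebra
  have : IsScalarTower A (A ⧸ K) (R ⧸ I) := IsScalarTower.of_algebraMap_eq (fun a => rfl)
  let e1 := AlgebraTensorModule.cancelBaseChange A (A ⧸ K) (R ⧸ I) (R ⧸ I) B
  let e2 := AlgebraTensorModule.cancelBaseChange A R (R ⧸ I) (R ⧸ I) B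
  exact Module.Flat.of_linearEquiv (e2.trans e1.symm)

/-- In `(A/(q^n)) ⊗ B` with `q` regular on `B`, an element killed by `q` is a multiple of `q^(n-1)`. -/
theorem exists_pow_smul_of_smul_eq_zero {A : Type u} [CommRing A] (q : A) (B : Type u)
    [AddCommGroup B] [Module A B] (hB : IsSMulRegular B q) (n : ℕ) (hn : 1 ≤ n)
    (m : (A ⧸ (Ideal.span {q} ^ n)) ⊗[A] B) (hm : q • m = 0) :
    ∃ m' : (A ⧸ (Ideal.span {q} ^ n)) ⊗[A] B, m = q ^ (n - 1) • m' := by
  let e := TensorProduct.quotTensorEquivQuotSMul B (Ideal.span {q} ^ n)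
  obtain ⟨b, hb⟩ := Submodule.Quotient.mk_surjective _ (e m)
  have h1 : q • b ∈ ((Ideal.span {q} ^ n) • ⊤ : Submodule A B) := by
    rw [← Submodule.Quotient.mk_eq_zero, Submodule.Quotient.mk_smul, hb, ← map_smul, hm, map_zero]
  rw [Ideal.span_singleton_pow, Submodule.ideal_span_singleton_smul,
    Submodule.mem_smul_pointwise_iff_exists] at h1
  obtain ⟨b', -, hb'⟩ := h1
  have h2 : b = q ^ (n - 1) • b' := by
    apply hB
    show q • b = q • (q ^ (n - 1) • b')
    rw [← hb', smul_smul, ← pow_succ', Nat.sub_add_cancel hn]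
  refine ⟨e.symm (Submodule.Quotient.mk b'), ?_⟩
  apply e.injective
  rw [map_smul, LinearEquiv.apply_symm_apply, ← hb, h2, Submodule.Quotient.mk_smul]


/-- Let p be a prime and B a commutative algebra over the commutative ring A, both complete and
separated for the p-adic topology and both without p-torsion (flat over the p-adic base). If B/pB is
flat over A/pA, then B/p^nB is flat over A/p^nA for every n ≥ 1 (the quotients are written as base
changes (A/p^n) ⊗_A B). (The published statement is for a morphism of flat p-adic formal schemes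
over the Witt vectors of a perfect field: if its special fibre is flat, so are the induced morphisms
of schemes modulo every power of p; this row is its affine, ring-level case.) -/
theorem result (p : ℕ) [Fact p.Prime]
    {A B : Type u} [CommRing A] [CommRing B] [Algebra A B]
    [IsAdicComplete (Ideal.span {(p : A)}) A] [IsAdicComplete (Ideal.span {(p : B)}) B]
    (hA : IsSMulRegular A (p : A)) (hB : IsSMulRegular B (p : B))
    (h : Module.Flat (A ⧸ Ideal.span {(p : A)}) ((A ⧸ Ideal.span {(p : A)}) ⊗[A] B))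
    (n : ℕ) (hn : 1 ≤ n) :
    Module.Flat (A ⧸ (Ideal.span {(p : A)} ^ n)) ((A ⧸ (Ideal.span {(p : A)} ^ n)) ⊗[A] B) := by
  set q : A := (p : A) with hq
  set J : Ideal A := Ideal.span {q} ^ n with hJ
  set R := A ⧸ J with hR
  set I : Ideal R := (Ideal.span {q}).map (Ideal.Quotient.mk J) with hI
  set M := R ⊗[A] B with hM
  have hBq : IsSMulRegular B q := by
    intro x y hxy
    apply hB
    simpa [hq, Algebra.smul_def] using hxy
  have hflat : Module.Flat (R ⧸ I) ((R ⧸ I) ⊗[R] M) := flat_quot_quot J (Ideal.span {q}) B h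
  have hnil : IsNilpotent I := by
    refine ⟨n, ?_⟩
    rw [hI, ← Ideal.map_pow, Ideal.zero_eq_bot, Ideal.map_quotient_self]
  refine Groth.Agent.Lib.Helper9.flat_of_isNilpotent_of_rTensor_injective I hnil ?_
  have hqI : (Ideal.Quotient.mk J q) ∈ I := Ideal.mem_map_of_mem _ (Ideal.mem_span_singleton_self q)
  set g : I := ⟨Ideal.Quotient.mk J q, hqI⟩ with hg
  have hIspan : I = Ideal.span {Ideal.Quotient.mk J q} := by
    rw [hI, Ideal.map_span, Set.image_singleton]
  have hgen : ∀ x : I ⊗[R] M, ∃ m : M, x = g ⊗ₜ m := by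
    intro x
    induction x using TensorProduct.induction_on with
    | zero => exact ⟨0, (tmul_zero _ _).symm⟩
    | tmul i m =>
      obtain ⟨i, hi⟩ := i
      have hi' : i ∈ Ideal.span {Ideal.Quotient.mk J q} := hIspan ▸ hi
      obtain ⟨r, hr⟩ := Ideal.mem_span_singleton'.mp hi'
      refine ⟨r • m, ?_⟩
      rw [← smul_tmul]
      congr 1
      exact Subtype.ext hr.symm
    | add x y hx hy =>
      obtain ⟨m1, rfl⟩ := hx
      obtain ⟨m2, rfl⟩ := hy
      exact ⟨m1 + m2, (tmul_add _ _ _).symm⟩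
  rw [injective_iff_map_eq_zero]
  intro x hx
  obtain ⟨m, rfl⟩ := hgen x
  rw [LinearMap.rTensor_tmul] at hx
  have h1 : (Ideal.Quotient.mk J q) • m = 0 := by
    have := congrArg (TensorProduct.lid R M) hx
    rw [map_zero, Submodule.subtype_apply, TensorProduct.lid_tmul] at this
    exact this
  have hsm : ∀ (a : A) (y : M), a • y = (Ideal.Quotient.mk J a) • y := by
    intro a y
    exact (algebraMap_smul R a y).symm
  have h2 : q • m = 0 := by rw [hsm, h1]
  obtain ⟨m', rfl⟩ := exists_pow_smul_of_smul_eq_zero q B hBq n hn m h2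
  rw [hsm, ← smul_tmul]
  have h3 : (Ideal.Quotient.mk J (q ^ (n - 1))) • g = 0 := by
    apply Subtype.ext
    show Ideal.Quotient.mk J (q ^ (n - 1)) * Ideal.Quotient.mk J q = 0
    rw [← map_mul, ← pow_succ, Nat.sub_add_cancel hn, Ideal.Quotient.eq_zero_iff_mem]
    exact Ideal.pow_mem_pow (Ideal.mem_span_singleton_self q) n
  rw [h3, zero_tmul]

end Groth.Agent.S19610
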