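import Groth.Statements.S19611
import Mathlib
import Groth.Agent.Lib.Lead.ToImageDominant
import Groth.Agent.Helper19.SchDomEpi

set_option autoImplicit false
universe u
open CategoryTheory AlgebraicGeometry
open CartMod

namespace Groth.Agent.S19611

/-- For a prime p and a scheme Y of characteristic p, write Y♭ for the scheme-theoretic image of the
absolute Frobenius F_Y : Y → Y, i.e. the closed subscheme of Y defined by the sections of O_Y whose
p-th power vanishes, and Y → Y♭ for the canonical morphism through which F_Y factors. Then Y → Y♭ is
an epimorphism of schemes: two morphisms g₁, g₂ from Y♭ to a scheme Z with equal composites Y → Y♭ →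
Z are equal. (The published statement is for k-morphisms g₁, g₂ from Y♭ to a k-scheme Z over a
perfect field k of characteristic p, compared after Frobenius twist through Y → (Y♭)'; this row asks
right-cancellation against morphisms to every scheme Z, which is equivalent to it for k-morphisms.) -/
theorem result (p : ℕ) [Fact p.Prime] (Y : Scheme.{u}) [FrobSch.IsCharP Y p] :
    Epi (FrobSch.frob Y p).toImage := by
  haveI hqc : QuasiCompact (FrobSch.frob Y p) := by
    constructor
    intro U hU hc
    exact hc
  haveI := Groth.Agent.Lib.Lead.ToImageDominant.isSchemeTheoreticallyDominant_toImage (FrobSch.frob Y p)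
  have hsurj : Function.Surjective (FrobSch.frob Y p).toImage.base := by
    intro z
    refine ⟨(FrobSch.frob Y p).imageι z, ?_⟩
    apply (FrobSch.frob Y p).imageι.isEmbedding.injective
    have h := congrArg (fun t : Y ⟶ Y => t ((FrobSch.frob Y p).imageι z)) (FrobSch.frob Y p).toImage_imageι
    exact h
  exact ⟨fun g g' h => Groth.Agent.Helper19.SchDomEpi.eq_of_comp_eq _ hsurj g g' h⟩

end Groth.Agent.S19611
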