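import Groth.Statements.S19612
import Groth.Agent.Lib.Helper21.CompleteFlat
import Mathlib.RingTheory.WittVector.DiscreteValuationRing
import Mathlib.RingTheory.Flat.Stability

set_option autoImplicit false
universe u
open scoped TensorProduct
open CartMod

namespace Groth.Agent.S19612

/-- Let k be a perfect field of characteristic p, W = W(k) the ring of Witt vectors of k, and A a
commutative W-algebra which is complete and separated for the p-adic topology (an adic W-algebra).
Then flatness of A over W is equivalent to flatness of A/p^nA = (W/p^nW) ⊗_W A over W/p^nW for every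
n ≥ 1. -/
theorem result (p : ℕ) [Fact p.Prime] (k : Type u) [Field k]
    [CharP k p] [PerfectRing k p] (A : Type u) [CommRing A] [Algebra (WittVector p k) A]
    [IsAdicComplete (Ideal.span {(p : WittVector p k)}) A] :
    Module.Flat (WittVector p k) A ↔
      ∀ n : ℕ, 1 ≤ n →
        Module.Flat (WittVector p k ⧸ (Ideal.span {(p : WittVector p k)} ^ n))
          ((WittVector p k ⧸ (Ideal.span {(p : WittVector p k)} ^ n)) ⊗[WittVector p k] A) := by
  constructor
  · intro hflat n _
    infer_instance
  · intro h
    have : IsNoetherianRing (WittVector p k) := inferInstance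
    apply Groth.Agent.Lib.Helper21.flat_of_isAdicComplete_of_quotFlat
      (Ideal.span {(p : WittVector p k)})
    intro m
    rcases Nat.eq_zero_or_pos m with rfl | hm
    · -- trivial ideal
      intro ι _ g x _
      refine ⟨0, fun _ => Fin.elim0, Fin.elim0, ?_, fun j => Fin.elim0 j⟩
      intro s
      rw [pow_zero, Ideal.one_eq_top, Submodule.top_smul]
      trivial
    · have hfl := h m hm
      have : Module.Flat (WittVector p k ⧸ (Ideal.span {(p : WittVector p k)} ^ m))
          (A ⧸ ((Ideal.span {(p : WittVector p k)} ^ m) • ⊤ : Submodule (WittVector p k) A)) :=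
        Module.Flat.of_linearEquiv
          ((TensorProduct.quotTensorEquivQuotSMul A
            (Ideal.span {(p : WittVector p k)} ^ m)).extendScalarsOfSurjective
              Ideal.Quotient.mk_surjective).symm
      exact Groth.Agent.Lib.Helper21.quotFlat_of_flat_quotient _

end Groth.Agent.S19612
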