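import Groth.Statements.S19613
-- import your own Groth.Agent.* helpers here
import Groth.Agent.Lib.Helper29.CartM1

set_option autoImplicit false
universe u
open CategoryTheory AlgebraicGeometry TopologicalSpace
open CartMod

namespace Groth.Agent.S19613

/-- Let u : T → U be an affine morphism of schemes and i : T → T♮ a nilpotent closed immersion (its
ideal has a vanishing power), so that |T♮| = |T|; let g : |T♮| → |U| be the continuous map
underlying u, and v : (T♮, O_{T♮}) → (U, g_*O_{T♮}) the induced morphism of ringed spaces (identity
on structure rings), with direct image v_* (sections over g⁻¹ of an open) and inverse image v^* its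
left adjoint. Then the restriction of v_* to quasi-coherent O_{T♮}-modules is exact; since v_* is a
right adjoint, the content is that v_* of an epimorphism between quasi-coherent O_{T♮}-modules is an
epimorphism of sheaves of g_*O_{T♮}-modules on U, which is what is stated. -/
theorem result
    {T Tc U : Scheme.{u}} (i : T ⟶ Tc) [IsClosedImmersion i]
    (hnil : ∃ n : ℕ, ∀ V : Tc.affineOpens, i.ker.ideal V ^ n = ⊥)
    (u : T ⟶ U) [IsAffineHom u] (g : Tc.carrier ⟶ U.carrier) (hg : i.base ≫ g = u.base)
    (M N : Tc.Modules) [M.IsQuasicoherent] [N.IsQuasicoherent] (φ : M ⟶ N) [Epi φ] :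
    Epi ((SheafOfModules.pushforward (F := Opens.map g) (R := Tc.ringCatSheaf)
      (𝟙 (((Opens.map g).sheafPushforwardContinuous RingCat.{u} (Opens.grothendieckTopology U)
        (Opens.grothendieckTopology Tc)).obj Tc.ringCatSheaf))).map φ) := by
  have hsurj : Function.Surjective i := Groth.Agent.Lib.Helper29.CartM.surjective_of_nilpotent i hnil
  refine Groth.Agent.Lib.Helper29.CartM.epi_pushforward_map g ?_ M N φ
  intro V hV
  apply Groth.Agent.Lib.Helper29.CartM.isAffineOpen_of_preimage i hsurj
  have h1 : i ⁻¹ᵁ ((Opens.map g).obj V) = u ⁻¹ᵁ V := by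
    change (Opens.map (i.base ≫ g)).obj V = (Opens.map u.base).obj V
    rw [hg]
  rw [h1]
  exact hV.preimage u

end Groth.Agent.S19613
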