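import Groth.Statements.S19618
import Groth.Agent.Lib27.Sch.CartierDim
import Mathlib.RingTheory.Ideal.KrullsHeightTheorem
import Mathlib.AlgebraicGeometry.Noetherian

set_option autoImplicit false
universe u
open CategoryTheory CategoryTheory.Limits AlgebraicGeometry Opposite TopologicalSpace
open BlowUp

namespace Groth.Agent.S19618

/-- Let X be a locally Noetherian scheme, Y an effective Cartier divisor on X (a quasi-coherent ideal
sheaf which, near every point, is generated on some affine open by one nonzerodivisor; Y is its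
support) and Z a closed integral subscheme (a closed immersion i from an integral scheme with
generic point ξ). If Y and Z intersect properly — every point ζ of Y ∩ Z which is maximal under
generization inside Y ∩ Z satisfies dim O_{X,ζ} = codim(Y,X) + codim(Z,X), where codim(Y,X) is the
infimum over y ∈ Y of dim O_{X,y} and codim(Z,X) = dim O_{X,i(ξ)} — then Z is not contained in Y. -/
theorem result {X Z : Scheme.{u}}
    [IsLocallyNoetherian X] (𝓘 : X.IdealSheafData) (hY : BlowUp.IsEffCartierIdeal 𝓘)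
    (i : Z ⟶ X) [IsClosedImmersion i] [IsIntegral Z]
    (hprop : ∀ ζ : ↥X, ζ ∈ (𝓘.support : Set ↥X) ∩ Set.range i.base →
        (∀ ζ' : ↥X, ζ' ∈ (𝓘.support : Set ↥X) ∩ Set.range i.base → ζ' ⤳ ζ → ζ' = ζ) →
        ringKrullDim ↑(X.presheaf.stalk ζ) =
          (⨅ y : (𝓘.support : Set ↥X), ringKrullDim ↑(X.presheaf.stalk y.1)) +
            ringKrullDim ↑(X.presheaf.stalk (i (genericPoint ↥Z)))) :
    ¬ Set.range i.base ⊆ (𝓘.support : Set ↥X) := by
  intro hsub
  have hζY : i.base (genericPoint ↥Z) ∈ (𝓘.support : Set ↥X) := hsub ⟨genericPoint ↥Z, rfl⟩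
  have hζ : i.base (genericPoint ↥Z) ∈ (𝓘.support : Set ↥X) ∩ Set.range i.base :=
    ⟨hζY, genericPoint ↥Z, rfl⟩
  have hmax : ∀ ζ' : ↥X, ζ' ∈ (𝓘.support : Set ↥X) ∩ Set.range i.base →
      ζ' ⤳ i.base (genericPoint ↥Z) → ζ' = i.base (genericPoint ↥Z) := by
    rintro ζ' ⟨-, z', rfl⟩ hsp
    have h1 : genericPoint ↥Z ⤳ z' := genericPoint_specializes z'
    exact (hsp.antisymm (h1.map i.continuous)).eq
  have heq := hprop _ hζ hmax
  have hc : 1 ≤ ⨅ y : (𝓘.support : Set ↥X), ringKrullDim ↑(X.presheaf.stalk y.1) :=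
    le_iInf fun y => Groth.Agent.Lib27.CartierDim.one_le_dim_stalk 𝓘 hY y.1 y.2
  obtain ⟨n, hn⟩ : ∃ n : ℕ, ringKrullDim ↑(X.presheaf.stalk (i.base (genericPoint ↥Z))) = n := by
    have h1 := ringKrullDim_nonneg_of_nontrivial
      (R := ↑(X.presheaf.stalk (i.base (genericPoint ↥Z))))
    have h2 := ringKrullDim_lt_top (R := ↑(X.presheaf.stalk (i.base (genericPoint ↥Z))))
    cases hd : ringKrullDim ↑(X.presheaf.stalk (i.base (genericPoint ↥Z))) with
    | bot => rw [hd] at h1; exact absurd h1 (by simp)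
    | coe e =>
      rw [hd] at h2
      have h3 : e ≠ ⊤ := by
        rintro rfl
        exact absurd h2 (lt_irrefl _)
      obtain ⟨m, rfl⟩ := ENat.ne_top_iff_exists.mp h3
      exact ⟨m, rfl⟩
  have hn' : ringKrullDim ↑(X.presheaf.stalk (i (genericPoint ↥Z))) = n := hn
  rw [hn] at heq
  have h4 : (1 : WithBot ℕ∞) + (n : WithBot ℕ∞) ≤
      (⨅ y : (𝓘.support : Set ↥X), ringKrullDim ↑(X.presheaf.stalk y.1)) + (n : WithBot ℕ∞) :=
    add_le_add_left hc _
  rw [← heq] at h4
  have h5 : ((1 + n : ℕ) : WithBot ℕ∞) ≤ ((n : ℕ) : WithBot ℕ∞) := by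
    push_cast
    exact h4
  have h6 : 1 + n ≤ n := by exact_mod_cast h5
  omega

end Groth.Agent.S19618
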