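import Groth.Statements.S19624
import Groth.Agent.Lib.Helper17.LengthDet

set_option autoImplicit false
universe u v
open IntTh

namespace Groth.Agent.S19624

/-- Let B be a discrete valuation ring with its normalised additive valuation v (so v(0) = ∞) and ω a
ring automorphism of B. For each i in a finite index set let M_i and N_i be free B-modules with
chosen bases indexed by one and the same finite type, and χ_i : M_i → N_i an additive map which is
ω-semilinear, χ_i(b·x) = ω(b)·χ_i(x); write A_i for the matrix of χ_i in the chosen bases. Then the
length over B of the cokernel of the direct sum χ = ⊕_i χ_i : ⊕_i M_i → ⊕_i N_i (the quotient of ⊕_i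
N_i by the submodule generated by the image of χ) equals v(∏_i det A_i); in particular both sides
are infinite exactly when some det A_i is zero. -/
theorem result {B : Type u} [CommRing B] [IsDomain B]
    [IsDiscreteValuationRing B] (ω : B ≃+* B) {n : ℕ} (r : Fin n → ℕ)
    (M N : Fin n → Type v) [∀ i, AddCommGroup (M i)] [∀ i, Module B (M i)]
    [∀ i, AddCommGroup (N i)] [∀ i, Module B (N i)]
    (bM : ∀ i, Module.Basis (Fin (r i)) B (M i)) (bN : ∀ i, Module.Basis (Fin (r i)) B (N i))
    (χ : ∀ i, M i →+ N i) (hχ : ∀ i (b : B) (x : M i), χ i (b • x) = ω b • χ i x) :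
    Module.length B ((∀ i, N i) ⧸ Submodule.span B (Set.range (fun (x : ∀ i, M i) (i : Fin n) => χ i (x i)))) =
      IsDiscreteValuationRing.addVal B (∏ i, Matrix.det
        (Matrix.of fun (a c : Fin (r i)) => (bN i).repr (χ i (bM i c)) a)) := by
  -- linear endomorphisms
  let f : ∀ i, N i →ₗ[B] N i := fun i => (bN i).constr B (fun c => χ i (bM i c))
  have hfdet : ∀ i, LinearMap.det (f i) =
      Matrix.det (Matrix.of fun (a c : Fin (r i)) => (bN i).repr (χ i (bM i c)) a) := by
    intro i
    rw [← LinearMap.det_toMatrix (bN i)]
    congr 1
    ext a c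
    rw [LinearMap.toMatrix_apply, Matrix.of_apply, Module.Basis.constr_basis]
  have hfrange : ∀ i, LinearMap.range (f i) = Submodule.span B (Set.range (χ i)) := by
    intro i
    rw [Module.Basis.constr_range]
    apply le_antisymm
    · apply Submodule.span_mono
      rintro _ ⟨c, rfl⟩
      exact ⟨bM i c, rfl⟩
    · rw [Submodule.span_le]
      rintro _ ⟨x, rfl⟩
      have hx : x = ∑ c, (bM i).repr x c • bM i c := ((bM i).sum_repr x).symm
      rw [hx, map_sum]
      apply Submodule.sum_mem
      intro c _
      rw [hχ]
      exact Submodule.smul_mem _ _ (Submodule.subset_span ⟨c, rfl⟩)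
  have hP : Submodule.span B (Set.range (fun (x : ∀ i, M i) (i : Fin n) => χ i (x i))) =
      Submodule.pi Set.univ (fun i => LinearMap.range (f i)) := by
    apply le_antisymm
    · rw [Submodule.span_le]
      rintro _ ⟨x, rfl⟩ i _
      show χ i (x i) ∈ LinearMap.range (f i)
      rw [hfrange]
      exact Submodule.subset_span ⟨x i, rfl⟩
    · intro y hy
      have hy' : y = ∑ i, Pi.single i (y i) := by
        ext j
        rw [Finset.sum_apply]
        simp
      rw [hy']
      apply Submodule.sum_mem
      intro i _
      have hyi : y i ∈ Submodule.span B (Set.range (χ i)) := by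
        rw [← hfrange]; exact hy i (Set.mem_univ i)
      have hsingle : ∀ z ∈ Submodule.span B (Set.range (χ i)),
          (Pi.single i z : ∀ i, N i) ∈ Submodule.span B
            (Set.range (fun (x : ∀ i, M i) (i : Fin n) => χ i (x i))) := by
        intro z hz
        induction hz using Submodule.span_induction with
        | mem z hz =>
          obtain ⟨m, rfl⟩ := hz
          apply Submodule.subset_span
          refine ⟨Pi.single i m, ?_⟩
          ext j
          by_cases hji : j = i
          · subst hji; simp
          · simp [hji]
        | zero => simp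
        | add z w _ _ hz hw => rw [Pi.single_add]; exact Submodule.add_mem _ hz hw
        | smul c z _ hz => rw [Pi.single_smul]; exact Submodule.smul_mem _ c hz
      exact hsingle _ hyi
  rw [(Submodule.quotEquivOfEq _ _ hP).length_eq,
    (Submodule.quotientPi (fun i => LinearMap.range (f i))).length_eq,
    Module.length_pi_of_fintype, Groth.Agent.Lib.Helper17.LengthDet.addVal_prod]
  apply Finset.sum_congr rfl
  intro i _
  rw [Groth.Agent.Lib.Helper17.LengthDet.length_quot_range_eq_addVal_det (bN i) (f i), hfdet]

end Groth.Agent.S19624
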