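import Groth.Statements.S19630
-- import your own Groth.Agent.* helpers here
import Mathlib
import Groth.Agent.Lib.Helper5.DeRhamGen

set_option autoImplicit false
universe u
open DeRham

namespace Groth.Agent.S19630

open exteriorPower in
/-- In the affine case, at ring level, let k ⊆ K be a finite extension of fields of characteristic zero
and B a smooth K-algebra, so that Y = Spec B is a smooth affine variety over K which may also be
regarded over k. Let ψ be the map of de Rham complexes from Ω•_{B/k} to Ω•_{B/K} induced by the
identity of B. Then ψ is bijective in every degree: the de Rham complex of Y over k and over K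
coincide, and hence the natural map H^i_dR(Y/k) → H^i_dR(Y/K) is an isomorphism. (The source states
the isomorphism on de Rham cohomology for any smooth variety Y over K, through the equality of the
two de Rham complexes; this row is that equality for affine Y.) -/
theorem result
    (k K : Type u) [Field k] [Field K] [CharZero k] [Algebra k K] [Module.Finite k K]
    (B : Type u) [CommRing B] [Algebra K B] [Algebra k B] [IsScalarTower k K B] [Algebra.Smooth K B]
    (ψ : ∀ p : ℕ, ↥(⋀[B]^p (Ω[B⁄k])) →+ ↥(⋀[B]^p (Ω[B⁄K])))
    (hψ : DeRham.IsCxMap (KaehlerDifferential.D k B) (KaehlerDifferential.D K B) (RingHom.id B) ψ)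
    (p : ℕ) :
    Function.Bijective (ψ p) := by
  classical
  haveI : Algebra.IsSeparable k K := inferInstance
  haveI : Algebra.FormallyUnramified k K := Algebra.FormallyUnramified.of_isSeparable k K
  haveI : Subsingleton (Ω[K⁄k]) := inferInstance
  let f : Ω[B⁄k] →ₗ[B] Ω[B⁄K] := KaehlerDifferential.map k K B B
  have hfs : Function.Surjective f := KaehlerDifferential.map_surjective k K B
  have hfi : Function.Injective f := by
    rw [← LinearMap.ker_eq_bot, eq_bot_iff]
    intro x hx
    have hex := KaehlerDifferential.exact_mapBaseChange_map k K B
    obtain ⟨y, rfl⟩ := (hex x).1 hx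
    have : y = 0 := Subsingleton.elim _ _
    rw [this, map_zero]
    exact Submodule.zero_mem _
  let fe : Ω[B⁄k] ≃ₗ[B] Ω[B⁄K] := LinearEquiv.ofBijective f ⟨hfi, hfs⟩
  have hψp : ψ p = (exteriorPower.map p f).toAddMonoidHom := by
    apply Groth.Agent.Lib.Helper5.DeRhamGen.ext_gen (KaehlerDifferential.D k B)
      (KaehlerDifferential.span_range_derivation k B) p
    intro b₀ b
    rw [hψ p b₀ b]
    show _ = exteriorPower.map p f (DeRham.gen (KaehlerDifferential.D k B) p b₀ b)
    rw [DeRham.gen, DeRham.gen, map_smul, exteriorPower.map_apply_ιMulti]
    simp only [RingHom.id_apply]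
    congr 2
    funext i
    show _ = f (KaehlerDifferential.D k B (b i))
    simp [f]
  rw [hψp]
  refine ⟨?_, ?_⟩
  · exact exteriorPower.map_injective (f := f) fe.symm.toLinearMap (by
      apply LinearMap.ext
      intro x
      exact fe.symm_apply_apply x)
  · exact exteriorPower.map_surjective hfs

end Groth.Agent.S19630
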