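import Groth.Statements.S19632
-- import your own Groth.Agent.* helpers here

set_option autoImplicit false
universe u
open DeRham

namespace Groth.Agent.S19632

section helpers
open LaurentPolynomial

noncomputable def tD (k : Type u) [Field k] : LaurentPolynomial k →ₗ[k] LaurentPolynomial k :=
  (AddMonoidAlgebra.coeffLinearEquiv k).symm.toLinearMap ∘ₗ
    (Finsupp.lsum k (fun n : ℤ => (n : k) • Finsupp.lsingle (M := k) n)) ∘ₗ
    (AddMonoidAlgebra.coeffLinearEquiv k).toLinearMap

lemma tD_single (k : Type u) [Field k] (n : ℤ) (r : k) :
    tD k (AddMonoidAlgebra.single n r) = AddMonoidAlgebra.single n ((n : k) * r) := by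
  have : (AddMonoidAlgebra.coeffLinearEquiv k) (AddMonoidAlgebra.single n r : AddMonoidAlgebra k ℤ)
      = Finsupp.single n r := rfl
  simp only [tD, LinearMap.comp_apply, LinearEquiv.coe_coe, this, Finsupp.lsum_single,
    LinearMap.smul_apply, Finsupp.lsingle_apply, Finsupp.smul_single, smul_eq_mul]
  rfl

noncomputable def tDer (k : Type u) [Field k] : Derivation k (LaurentPolynomial k) (LaurentPolynomial k) :=
  Derivation.mk' (tD k) (by
    intro a b
    induction a using AddMonoidAlgebra.induction_linear with
    | zero => simp
    | add x y hx hy => rw [add_mul, map_add, hx, hy, map_add, add_smul, smul_add]; abel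
    | single m r =>
      induction b using AddMonoidAlgebra.induction_linear with
      | zero => simp
      | add x y hx hy => rw [mul_add, map_add, hx, hy, map_add, add_smul, smul_add]; abel
      | single n s =>
        rw [AddMonoidAlgebra.single_mul_single, tD_single, tD_single, tD_single, smul_eq_mul,
          smul_eq_mul, AddMonoidAlgebra.single_mul_single, AddMonoidAlgebra.single_mul_single,
          add_comm n m, ← AddMonoidAlgebra.single_add]
        congr 1
        push_cast; ring)

lemma tD_coeff (k : Type u) [Field k] (f : LaurentPolynomial k) (n : ℤ) :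
    (tD k f).coeff n = (n : k) * f.coeff n := by
  induction f using AddMonoidAlgebra.induction_linear with
  | zero => simp
  | add x y hx hy => rw [map_add, AddMonoidAlgebra.coeff_add, Finsupp.add_apply, hx, hy, AddMonoidAlgebra.coeff_add, Finsupp.add_apply, mul_add]
  | single m r =>
    rw [tD_single, AddMonoidAlgebra.coeff_single, AddMonoidAlgebra.coeff_single, Finsupp.single_apply, Finsupp.single_apply]
    split_ifs with h
    · rw [h]
    · simp


end helpers

/-- Let k be a field of characteristic zero and G_m = Spec k[t, t⁻¹] the multiplicative group. The
kernel of the differential d : k[t, t⁻¹] → Ω¹ of the de Rham complex of G_m consists of the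
constants: for a Laurent polynomial f, df = 0 if and only if f lies in the image of k. Equivalently
H^0_dR(G_m/k) = k. (Characteristic zero is used: in characteristic p the element t^p is closed.) -/
theorem result (k : Type u) [Field k] [CharZero k]
    (f : LaurentPolynomial k) :
    KaehlerDifferential.D k (LaurentPolynomial k) f = 0 ↔ f ∈ Set.range (algebraMap k (LaurentPolynomial k)) := by
  constructor
  · intro h
    have h1 : tDer k f = 0 := by
      have := (tDer k).liftKaehlerDifferential_comp_D f
      rw [← this, h, map_zero]
    have h2 : ∀ n : ℤ, n ≠ 0 → f.coeff n = 0 := by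
      intro n hn
      have h3 := tD_coeff k f n
      have h4 : tD k f = 0 := h1
      rw [h4] at h3
      simp only [AddMonoidAlgebra.coeff_zero, Finsupp.coe_zero, Pi.zero_apply] at h3
      rcases mul_eq_zero.mp h3.symm with h5 | h5
      · exact absurd (by exact_mod_cast h5) hn
      · exact h5
    refine ⟨f.coeff 0, ?_⟩
    rw [LaurentPolynomial.algebraMap_apply, Algebra.algebraMap_self, RingHom.id_apply]
    apply AddMonoidAlgebra.coeff_injective
    ext n
    by_cases hn : n = 0
    · subst hn; simp
    · rw [h2 n hn]
      simp [hn]
  · rintro ⟨c, rfl⟩
    exact Derivation.map_algebraMap _ c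


end Groth.Agent.S19632
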