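import Groth.Statements.S1965
import Groth.Agent.Lib.Helper18.HenselComplete

set_option autoImplicit false
universe u
open Polynomial
open EtAlg

namespace Groth.Agent.S1965

open IsLocalRing

/-- evaluating a polynomial with coefficients in an ideal lands in the ideal -/
lemma eval_mem_of_coeff_mem {A : Type*} [CommRing A] (I : Ideal A) (Q : A[X])
    (hQ : ∀ i, Q.coeff i ∈ I) (a : A) : Q.eval a ∈ I := by
  rw [Polynomial.eval_eq_sum_range]
  exact Ideal.sum_mem _ fun i _ => Ideal.mul_mem_right _ _ (hQ i)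

lemma derivative_coeff_mem {A : Type*} [CommRing A] (I : Ideal A) (Q : A[X])
    (hQ : ∀ i, Q.coeff i ∈ I) (i : ℕ) : (derivative Q).coeff i ∈ I := by
  rw [Polynomial.coeff_derivative]
  exact Ideal.mul_mem_right _ _ (hQ _)

/-- The rescaled Taylor polynomial. -/
noncomputable def resc {A : Type*} [CommRing A] (T : A[X]) (d h₀ u : A) : A[X] :=
  C h₀ + C u * X + X ^ 2 * ∑ j ∈ Finset.range (T.natDegree + 1), C (T.coeff (j + 2) * d ^ j) * X ^ j

lemma resc_eval {A : Type*} [CommRing A] (T : A[X]) (d h₀ u : A) (h0 : T.coeff 0 = d ^ 2 * h₀)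
    (h1 : T.coeff 1 = d * u) (y : A) :
    d ^ 2 * (resc T d h₀ u).eval y = T.eval (d * y) := by
  have hT : T.eval (d * y) = ∑ j ∈ Finset.range (T.natDegree + 1 + 1 + 1), T.coeff j * (d * y) ^ j :=
    Polynomial.eval_eq_sum_range' (by omega) _
  rw [hT, Finset.sum_range_succ', Finset.sum_range_succ', h0, h1]
  simp only [resc, eval_add, eval_mul, eval_C, eval_X, eval_pow, eval_finsetSum]
  have hsum : ∀ j, d ^ 2 * (y ^ 2 * (T.coeff (j + 2) * d ^ j * y ^ j)) =
      T.coeff (j + 1 + 1) * (d * y) ^ (j + 1 + 1) := by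
    intro j
    ring
  rw [mul_add, mul_add, Finset.mul_sum, Finset.mul_sum, Finset.sum_congr rfl fun j _ => hsum j]
  ring

lemma resc_eval_zero {A : Type*} [CommRing A] (T : A[X]) (d h₀ u : A) :
    (resc T d h₀ u).eval 0 = h₀ := by
  simp [resc]

lemma resc_derivative_eval_zero {A : Type*} [CommRing A] (T : A[X]) (d h₀ u : A) :
    (derivative (resc T d h₀ u)).eval 0 = u := by
  simp [resc, derivative_mul]


/-- Let A be a complete Noetherian local domain of Krull dimension 1 with maximal ideal m, P a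
polynomial over A and α a root of P which is not a root of the derivative P'. Then for every c there
is an n such that for every polynomial Q all of whose coefficients lie in m^n, the polynomial P + Q
has a root β with β - α in m^c. -/
theorem result (A : Type u) [CommRing A] [IsDomain A] [IsLocalRing A] [IsNoetherianRing A]
    [IsAdicComplete (IsLocalRing.maximalIdeal A) A] (hdim : ringKrullDim A = 1) (P : A[X]) (α : A)
    (hα : P.eval α = 0) (hα' : (derivative P).eval α ≠ 0) (c : ℕ) :
    ∃ n : ℕ, ∀ Q : A[X], (∀ i, Q.coeff i ∈ IsLocalRing.maximalIdeal A ^ n) →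
      ∃ β : A, (P + Q).eval β = 0 ∧ β - α ∈ IsLocalRing.maximalIdeal A ^ c := by
  set m := maximalIdeal A with hm
  set d := (derivative P).eval α with hd
  have hKD : Ring.KrullDimLE 1 A := Ring.krullDimLE_iff.mpr (by simp [hdim])
  -- Step 1: some power of `m` lies in `(d)`
  obtain ⟨k, hk⟩ : ∃ k, m ^ k ≤ Ideal.span {d} := by
    apply Ideal.exists_pow_le_of_le_radical_of_fg _ (IsNoetherian.noetherian m)
    rw [Ideal.radical_eq_sInf]
    refine le_sInf ?_
    rintro p ⟨hdp, hp⟩
    have hpne : p ≠ ⊥ := by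
      intro h
      rw [h] at hdp
      exact hα' (by simpa using hdp (Ideal.subset_span (Set.mem_singleton d)))
    have hpmax : p.IsMaximal := hp.isMaximal_of_ne_bot hpne
    rw [IsLocalRing.eq_maximalIdeal hpmax]
  set c' := max c 1 with hc'
  refine ⟨k + k + c', fun Q hQ => ?_⟩
  set F := P + Q with hF
  -- decompositions
  have hsplit : ∀ (j : ℕ) (x : A), x ∈ m ^ (k + j) → ∃ e ∈ m ^ j, x = d * e := by
    intro j x hx
    rw [add_comm, pow_add] at hx
    have : x ∈ m ^ j * Ideal.span {d} := Ideal.mul_mono_right hk hx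
    obtain ⟨z, hz, rfl⟩ := Ideal.mem_mul_span_singleton.mp this
    exact ⟨z, hz, mul_comm _ _⟩
  have hFα : F.eval α ∈ m ^ (k + k + c') := by
    rw [hF, eval_add, hα, zero_add]
    exact eval_mem_of_coeff_mem _ Q hQ α
  have hF'α : (derivative Q).eval α ∈ m ^ (k + k + c') :=
    eval_mem_of_coeff_mem _ _ (derivative_coeff_mem _ Q hQ) α
  obtain ⟨h₁, hh₁, hFα1⟩ := hsplit (k + c') (F.eval α) (by rwa [← add_assoc])
  obtain ⟨h₀, hh₀, hh₁0⟩ := hsplit c' h₁ hh₁
  obtain ⟨e, he, hQe⟩ := hsplit (k + c') ((derivative Q).eval α) (by rwa [← add_assoc])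
  have hc'1 : 1 ≤ c' := le_max_right _ _
  have hc'c : c ≤ c' := le_max_left _ _
  have hem : e ∈ m := Ideal.pow_le_self (by omega) he
  have hh₀m : h₀ ∈ m := Ideal.pow_le_self (by omega) hh₀
  have hh₀c : h₀ ∈ m ^ c := Ideal.pow_le_pow_right hc'c hh₀
  set u := 1 + e with hu
  have huunit : IsUnit u := by
    by_contra hnu
    have hum : u ∈ m := (IsLocalRing.mem_maximalIdeal u).mpr hnu
    have : (1 : A) ∈ m := by
      have := Ideal.sub_mem _ hum hem
      rwa [hu, add_sub_cancel_right] at this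
    exact (Ideal.ne_top_iff_one m).mp (IsLocalRing.maximalIdeal.isMaximal A).ne_top this
  set T := taylor α F with hT
  have hT0 : T.coeff 0 = d ^ 2 * h₀ := by
    rw [hT, taylor_coeff_zero, hFα1, hh₁0]
    ring
  have hT1 : T.coeff 1 = d * u := by
    rw [hT, taylor_coeff_one, hF, derivative_add, eval_add, ← hd, hQe, hu]
    ring
  set H := resc T d h₀ u with hH
  have hH0 : H.eval 0 ∈ m := by
    rw [hH, resc_eval_zero]
    exact hh₀m
  have hH1 : IsUnit (Ideal.Quotient.mk m ((derivative H).eval 0)) := by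
    rw [hH, resc_derivative_eval_zero]
    exact huunit.map _
  obtain ⟨y, hy, hym⟩ := Groth.Agent.Lib.Helper18.hensel_exists_of_isAdicComplete m H 0 hH0 hH1
  rw [sub_zero] at hym
  have hroot : F.eval (d * y + α) = 0 := by
    rw [← taylor_eval, ← hT, ← resc_eval T d h₀ u hT0 hT1 y, ← hH, hy, mul_zero]
  refine ⟨d * y + α, hroot, ?_⟩
  rw [add_sub_cancel_right]
  apply Ideal.mul_mem_left
  -- `y ∈ m ^ c` from the equation `H(y) = 0`
  have hyeq : H.eval y = h₀ + y * (u + y * (∑ j ∈ Finset.range (T.natDegree + 1),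
      C (T.coeff (j + 2) * d ^ j) * X ^ j).eval y) := by
    rw [hH]
    simp only [resc, eval_add, eval_mul, eval_C, eval_X, eval_pow]
    ring
  set g := (∑ j ∈ Finset.range (T.natDegree + 1),
      C (T.coeff (j + 2) * d ^ j) * X ^ j).eval y with hg
  set w := u + y * g with hw
  have hwunit : IsUnit w := by
    by_contra hnw
    have hwm : w ∈ m := (IsLocalRing.mem_maximalIdeal w).mpr hnw
    have hum : u ∈ m := by
      have : w - y * g ∈ m := Ideal.sub_mem _ hwm (Ideal.mul_mem_right g m hym)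
      rwa [hw, add_sub_cancel_right] at this
    exact (IsLocalRing.mem_maximalIdeal u).mp hum huunit
  have hyw : y * w = -h₀ := by
    have : H.eval y = 0 := hy
    rw [hyeq] at this
    linear_combination this
  obtain ⟨w', hw'⟩ := hwunit.exists_right_inv
  have : y = -h₀ * w' := by
    calc y = y * (w * w') := by rw [hw', mul_one]
      _ = (y * w) * w' := by ring
      _ = -h₀ * w' := by rw [hyw]
  rw [this]
  exact Ideal.mul_mem_right _ _ (Ideal.neg_mem_iff _ |>.mpr hh₀c)

end Groth.Agent.S1965
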