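import Groth.Statements.S19651
import Groth.Agent.Lib.Helper17.BilinReverse

set_option autoImplicit false
universe u v
open AbVar

namespace Groth.Agent.S19651

open Polynomial in
/-- Stated for an arbitrary invariant bilinear form, as the argument there allows. Let k be a field, V a
k-vector space with a bilinear form B and M a linear automorphism of V with B(Mx, My) = B(x, y) for
all x, y. If Q₁ and Q₂ are polynomials such that the reciprocal polynomial of Q₁ (its coefficient
list reversed) is coprime to Q₂, then every vector killed by a power of Q₁(M) is B-orthogonal to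
every vector killed by a power of Q₂(M). With Q₁ = Q₂ = Q this says that the generalized kernel of
Q(M) is totally isotropic whenever Q is coprime to its reciprocal polynomial, which for an
irreducible Q means that Q is not self-reciprocal. (The published statement takes M symplectic and
Q₁, Q₂ irreducible factors of the characteristic polynomial, with Q not self-reciprocal in the first
clause; its second clause asks Q₁ and Q₂ to be distinct and not reciprocal, which holds as proved
when this is read as saying that Q₂ is not the reciprocal of Q₁, but fails if it only means that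
neither is self-reciprocal, as the diagonal matrix with entries 2 and 1/2 preserving the standard
alternating form on k² shows; the coprimality of the reciprocal of Q₁ with Q₂, which is what the
published proof uses, is imposed here and covers both clauses.) -/
theorem result
    {k : Type u} [Field k] {V : Type v} [AddCommGroup V] [Module k V]
    (B : LinearMap.BilinForm k V) (M : V ≃ₗ[k] V)
    (hM : ∀ x y : V, B (M x) (M y) = B x y)
    (Q₁ Q₂ : k[X]) (h : IsCoprime Q₁.reverse Q₂)
    (x y : V)
    (hx : ∃ n : ℕ, (Polynomial.aeval (M : V →ₗ[k] V) Q₁ ^ n) x = 0)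
    (hy : ∃ n : ℕ, (Polynomial.aeval (M : V →ₗ[k] V) Q₂ ^ n) y = 0) :
    B x y = 0 := by
  obtain ⟨n, hn⟩ := hx
  obtain ⟨m, hm⟩ := hy
  obtain ⟨u, v, huv⟩ := (h.pow (m := n) (n := m))
  have hy' : y = (aeval (M : V →ₗ[k] V) Q₁.reverse ^ n) (aeval (M : V →ₗ[k] V) u y) := by
    have h1 := congrArg (fun P => aeval (M : V →ₗ[k] V) P y) huv
    simp only [map_add, map_mul, map_pow, map_one, LinearMap.add_apply, Module.End.mul_apply,
      Module.End.one_apply, hm, map_zero, add_zero] at h1
    have h2 : aeval (M : V →ₗ[k] V) Q₁.reverse ^ n = aeval (M : V →ₗ[k] V) (Q₁.reverse ^ n) := by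
      simp
    have h3 : Commute (aeval (M : V →ₗ[k] V) u) (aeval (M : V →ₗ[k] V) (Q₁.reverse ^ n)) :=
      (Commute.all u (Q₁.reverse ^ n)).map (aeval (M : V →ₗ[k] V))
    rw [h2, ← Module.End.mul_apply, ← h3.eq, Module.End.mul_apply, ← h2]
    exact h1.symm
  rw [hy', ← Groth.Agent.Lib.Helper17.BilinReverse.adj_iter B (M : V →ₗ[k] V) hM Q₁ n, hn]
  simp

end Groth.Agent.S19651
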