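import Groth.Statements.S19652
import Groth.Agent.Lib.Helper17.BilinReverse

set_option autoImplicit false
universe u v
open AbVar

namespace Groth.Agent.S19652

open Polynomial in
/-- Stated for an arbitrary invariant nondegenerate bilinear form, as the argument there allows. Let k
be a field, V a finite-dimensional k-vector space with a nondegenerate bilinear form B and M a
linear automorphism of V with B(Mx, My) = B(x, y) for all x, y. If Q is a polynomial associated to
its own reciprocal polynomial (its coefficient list reversed), then B restricted to the generalized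
kernel of Q(M), the union of the kernels of the powers Q(M)^n, is nondegenerate. (The published
statement takes M symplectic and Q a self-reciprocal divisor of the characteristic polynomial;
divisibility plays no role and is not assumed.) -/
theorem result
    {k : Type u} [Field k] {V : Type v} [AddCommGroup V] [Module k V] [FiniteDimensional k V]
    (B : LinearMap.BilinForm k V) (hB : B.Nondegenerate) (M : V ≃ₗ[k] V)
    (hM : ∀ x y : V, B (M x) (M y) = B x y)
    (Q : k[X]) (hQ : Associated Q Q.reverse) :
    (B.restrict (⨆ n : ℕ, LinearMap.ker (Polynomial.aeval (M : V →ₗ[k] V) Q ^ n))).Nondegenerate := by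
  set Me : V →ₗ[k] V := (M : V →ₗ[k] V) with hMe
  set f : V →ₗ[k] V := Polynomial.aeval Me Q with hf
  obtain ⟨K, hK⟩ := Filter.eventually_atTop.mp <| f.eventually_isCompl_ker_pow_range_pow.and <|
    f.eventually_iSup_ker_pow_eq
  obtain ⟨hcompl, hsup⟩ := hK K le_rfl
  rw [hsup]
  obtain ⟨u, hu⟩ := hQ
  set d := Q.natDegree with hd
  -- powers of the reversed polynomial
  have hR : (aeval Me Q.reverse) ^ K = f ^ K * (aeval Me (u : k[X])) ^ K := by
    rw [hf, ← map_pow, ← map_pow, ← map_pow, ← map_mul, ← mul_pow, hu]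
  have hR' : f ^ K = (aeval Me Q.reverse) ^ K * (aeval Me ((u⁻¹ : k[X]ˣ) : k[X])) ^ K := by
    rw [hf, ← map_pow, ← map_pow, ← map_pow, ← map_mul, ← mul_pow, ← hu, mul_assoc, Units.mul_inv,
      mul_one]
  have hcomm : ∀ (P : k[X]) (N : ℕ), Commute ((aeval Me P) ^ K) (Me ^ N) := by
    intro P N
    have h1 : Me ^ N = aeval Me (X ^ N : k[X]) := by simp
    have h2 : aeval Me P ^ K = aeval Me (P ^ K) := by simp
    rw [h1, h2]
    exact (Commute.all _ _).map (aeval Me)
  have hdecomp : ∀ y : V, ∃ g ∈ LinearMap.ker (f ^ K), ∃ z : V, y = g + (f ^ K) z := by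
    intro y
    have : y ∈ LinearMap.ker (f ^ K) ⊔ LinearMap.range (f ^ K) := by
      rw [hcompl.sup_eq_top]; trivial
    obtain ⟨g, hg, h, ⟨z, rfl⟩, rfl⟩ := Submodule.mem_sup.mp this
    exact ⟨g, hg, z, rfl⟩
  have hMsurj : ∀ N : ℕ, Function.Surjective (Me ^ N) := by
    intro N
    rw [Module.End.coe_pow]
    exact M.surjective.iterate N
  have hMinj : ∀ N : ℕ, Function.Injective (Me ^ N) := by
    intro N
    rw [Module.End.coe_pow]
    exact M.injective.iterate N
  -- orthogonality of ker and range
  have orth1 : ∀ x ∈ LinearMap.ker (f ^ K), ∀ z : V, B x ((f ^ K) z) = 0 := by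
    intro x hx z
    rw [hR', Module.End.mul_apply, ← Groth.Agent.Lib.Helper17.BilinReverse.adj_iter B Me hM Q K]
    have : (f ^ K) x = 0 := hx
    rw [this]; simp
  have orth2 : ∀ y ∈ LinearMap.ker (f ^ K), ∀ z : V, B ((f ^ K) z) y = 0 := by
    intro y hy z
    obtain ⟨y', rfl⟩ := hMsurj (d * K) y
    rw [Groth.Agent.Lib.Helper17.BilinReverse.adj_iter B Me hM Q K]
    have h0 : (aeval Me Q.reverse ^ K) y' = 0 := by
      apply hMinj (d * K)
      rw [map_zero, ← Module.End.mul_apply, ← (hcomm Q.reverse (d * K)).eq, Module.End.mul_apply,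
        hR, Module.End.mul_apply]
      have hc2 : Commute (f ^ K) ((aeval Me (u : k[X])) ^ K) := by
        rw [hf, ← map_pow, ← map_pow]
        exact (Commute.all _ _).map (aeval Me)
      rw [← Module.End.mul_apply, hc2.eq, Module.End.mul_apply]
      have : (f ^ K) ((Me ^ (d * K)) y') = 0 := hy
      rw [this, map_zero]
    rw [h0, map_zero]
  refine ⟨fun x hx => ?_, fun y hy => ?_⟩
  · apply Subtype.ext
    apply hB.1 x.1
    intro y
    obtain ⟨g, hg, z, rfl⟩ := hdecomp y
    rw [map_add, orth1 x.1 x.2 z, add_zero]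
    exact hx ⟨g, hg⟩
  · apply Subtype.ext
    apply hB.2 y.1
    intro x
    obtain ⟨g, hg, z, rfl⟩ := hdecomp x
    rw [map_add, LinearMap.add_apply, orth2 y.1 y.2 z, add_zero]
    exact hy ⟨g, hg⟩

end Groth.Agent.S19652
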