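import Groth.Statements.S1966
import Mathlib.Dynamics.Newton
-- import your own Groth.Agent.* helpers here

set_option autoImplicit false
universe u
open EtAlg

namespace Groth.Agent.S1966

/-- Towers indexed by the natural numbers: let (A_k) be rings with surjective transition maps A_{k+1} ->
A_k whose kernels consist of nilpotent elements, and let A be a ring with compatible projections p_k
: A -> A_k identifying A with the set of compatible sequences (p is jointly injective and every
compatible sequence comes from an element of A). Then for every k the pair (A, ker p_k) is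
henselian. -/
theorem result (A : Type u) [CommRing A] (As : ℕ → Type u) [∀ k, CommRing (As k)]
    (t : ∀ k, As (k + 1) →+* As k) (ht : ∀ k, Function.Surjective (t k))
    (hnil : ∀ k (x : As (k + 1)), t k x = 0 → IsNilpotent x)
    (p : ∀ k, A →+* As k) (hp : ∀ k, (t k).comp (p (k + 1)) = p k)
    (hinj : ∀ a b : A, (∀ k, p k a = p k b) → a = b)
    (hsurj : ∀ x : ∀ k, As k, (∀ k, t k (x (k + 1)) = x k) → ∃ a : A, ∀ k, p k a = x k) (k : ℕ) :
    HenselianRing A (RingHom.ker (p k)) := by
  classical
  have hpa : ∀ k (a : A), t k (p (k + 1) a) = p k a := fun k a => by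
    rw [← hp k]; rfl
  -- nilpotency of `p j x` does not depend on `j`
  have hstep : ∀ j (x : A), IsNilpotent (p j x) ↔ IsNilpotent (p (j + 1) x) := by
    intro j x
    constructor
    · rintro ⟨n, hn⟩
      have h0 : t j ((p (j + 1) x) ^ n) = 0 := by rw [map_pow, hpa, hn]
      obtain ⟨m, hm⟩ := hnil j _ h0
      exact ⟨n * m, by rw [pow_mul, hm]⟩
    · intro h
      rw [← hpa]
      exact h.map (t j)
  have hall : ∀ j (x : A), IsNilpotent (p j x) ↔ IsNilpotent (p 0 x) := by
    intro j x
    induction j with
    | zero => rfl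
    | succ j ih => rw [← hstep, ih]
  have hnilk : ∀ x : A, p k x = 0 → ∀ j, IsNilpotent (p j x) := by
    intro x hx j
    rw [hall, ← hall k, hx]
    exact IsNilpotent.zero
  -- units are detected levelwise
  have hunit : ∀ z : A, (∀ j, IsUnit (p j z)) → IsUnit z := by
    intro z hz
    choose w hw using fun j => isUnit_iff_exists_inv.mp (hz j)
    have hcompat : ∀ j, t j (w (j + 1)) = w j := by
      intro j
      calc t j (w (j + 1)) = t j (w (j + 1)) * (p j z * w j) := by rw [hw, mul_one]
        _ = t j (p (j + 1) z * w (j + 1)) * w j := by rw [map_mul, hpa]; ring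
        _ = w j := by rw [hw, map_one, one_mul]
    obtain ⟨v, hv⟩ := hsurj w hcompat
    refine isUnit_iff_exists_inv.mpr ⟨v, hinj _ _ fun j => ?_⟩
    rw [map_mul, hv, hw, map_one]
  have hjac : RingHom.ker (p k) ≤ Ideal.jacobson ⊥ := by
    intro x hx
    rw [Ideal.mem_jacobson_bot]
    intro y
    apply hunit
    intro j
    rw [map_add, map_mul, map_one]
    exact ((Commute.all _ _).isNilpotent_mul_right (hnilk x hx j)).isUnit_add_one
  refine ⟨hjac, ?_⟩
  intro f _ a₀ h₁ h₂
  -- the derivative is a unit in `A`
  have hder : IsUnit (f.derivative.eval a₀) := by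
    obtain ⟨c, hc⟩ := isUnit_iff_exists_inv.mp h₂
    obtain ⟨c, rfl⟩ := Ideal.Quotient.mk_surjective c
    rw [← map_mul, ← map_one (Ideal.Quotient.mk _), Ideal.Quotient.eq] at hc
    have h3 := Ideal.mem_jacobson_bot.mp (hjac hc) 1
    rw [mul_one, sub_add_cancel] at h3
    exact isUnit_of_mul_isUnit_left h3
  have key : ∀ j, ∃! r : As j, IsNilpotent (p j a₀ - r) ∧
      Polynomial.aeval r (f.map (p j)) = 0 := by
    intro j
    apply Polynomial.existsUnique_nilpotent_sub_and_aeval_eq_zero
    · rw [Polynomial.coe_aeval_eq_eval, Polynomial.eval_map, Polynomial.eval₂_hom]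
      exact hnilk _ h₁ j
    · rw [Polynomial.coe_aeval_eq_eval, Polynomial.derivative_map, Polynomial.eval_map,
        Polynomial.eval₂_hom]
      exact hder.map (p j)
  choose b hb hbuniq using key
  have hcompat : ∀ j, t j (b (j + 1)) = b j := by
    intro j
    apply hbuniq
    refine ⟨?_, ?_⟩
    · rw [← hpa, ← map_sub]
      exact (hb (j + 1)).1.map (t j)
    · have h4 := (hb (j + 1)).2
      rw [Polynomial.coe_aeval_eq_eval] at h4 ⊢
      rw [← hp j, ← Polynomial.map_map, Polynomial.eval_map, Polynomial.eval₂_hom, h4, map_zero]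
  obtain ⟨a, ha⟩ := hsurj b hcompat
  refine ⟨a, ?_, ?_⟩
  · apply hinj
    intro j
    have h4 := (hb j).2
    rw [Polynomial.coe_aeval_eq_eval, Polynomial.eval_map, ← ha j, Polynomial.eval₂_hom] at h4
    rw [h4, map_zero]
  · rw [RingHom.mem_ker, map_sub, ha, sub_eq_zero]
    symm
    apply hbuniq
    refine ⟨by simp, ?_⟩
    rw [Polynomial.coe_aeval_eq_eval, Polynomial.eval_map, Polynomial.eval₂_hom]
    rw [RingHom.mem_ker] at h₁
    rw [h₁]

end Groth.Agent.S1966
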