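import Mathlib
import Groth.Statements.S19660
-- import your own Groth.Agent.* helpers here

set_option autoImplicit false
universe u v
open AbVar

namespace Groth.Agent.S19660

section aux

variable {k : Type u} [Field k] {V : Type v} [AddCommGroup V] [Module k V]
  (B : LinearMap.BilinForm k V) (q : k) (T : Module.End k V)
  (hM : ∀ x y : V, B (T x) (T y) = q * B x y)

include hM in
/-- Generalized eigenspaces for `a`, `b` with `a * b ≠ q` are orthogonal. -/
theorem orth (a b : k) (hab : a * b ≠ q) :
    ∀ (n m : ℕ) (x y : V), ((T - a • 1) ^ n) x = 0 → ((T - b • 1) ^ m) y = 0 → B x y = 0 := by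
  intro n
  induction n with
  | zero => intro m x y hx _; simp only [pow_zero, Module.End.one_apply] at hx; simp [hx]
  | succ n ihn =>
    intro m
    induction m with
    | zero => intro x y _ hy; simp only [pow_zero, Module.End.one_apply] at hy; simp [hy]
    | succ m ihm =>
      intro x y hx hy
      set x' := (T - a • 1) x with hx'
      set y' := (T - b • 1) y with hy'
      have hx'n : ((T - a • 1) ^ n) x' = 0 := by
        rw [hx', ← Module.End.mul_apply, ← pow_succ]; exact hx
      have hy'm : ((T - b • 1) ^ m) y' = 0 := by
        rw [hy', ← Module.End.mul_apply, ← pow_succ]; exact hy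
      have hTx : T x = a • x + x' := by
        simp [hx', LinearMap.sub_apply]
      have hTy : T y = b • y + y' := by
        simp [hy', LinearMap.sub_apply]
      have h1 : B x y' = 0 := ihm x y' hx hy'm
      have h2 : B x' y = 0 := ihn (m + 1) x' y hx'n hy
      have h3 : B x' y' = 0 := ihn m x' y' hx'n hy'm
      have h4 := hM x y
      rw [hTx, hTy] at h4
      simp only [map_add, map_smul, LinearMap.add_apply, LinearMap.smul_apply, smul_eq_mul, h1, h2,
        h3, mul_zero, add_zero] at h4
      have h5 : (a * b - q) * B x y = 0 := by linear_combination h4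
      rcases mul_eq_zero.mp h5 with h6 | h6
      · exact absurd (sub_eq_zero.mp h6) hab
      · exact h6

end aux

/-- The text applies this to the Frobenius acting on the points of prime order of a principally
polarised abelian variety over a finite field with q elements and to their Weil pairing. Let k be a
field, V a finite-dimensional k-vector space with a nondegenerate bilinear form B, q a nonzero
element of k and M a linear automorphism of V with B(Mx, My) = q·B(x, y) for all x, y. Write V₁ and
V_q for the generalized eigenspaces of M at 1 and at q. Then every vector of V₁ that is B-orthogonal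
to all of V_q is zero, every vector of V_q that is B-orthogonal (on the right) to all of V₁ is zero,
and when q ≠ 1 the form B vanishes identically on V₁ × V₁ and on V_q × V_q. (The text asserts this
as the evident adaptation, to a form scaled by q, of the orthogonality and nondegeneracy facts for
generalized kernels of an automorphism preserving a form; the abstract statement is recorded here,
the application to the Weil pairing needing that pairing's formalism.) -/
theorem result
    {k : Type u} [Field k] {V : Type v} [AddCommGroup V] [Module k V] [FiniteDimensional k V]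
    (B : LinearMap.BilinForm k V) (hB : B.Nondegenerate) (q : k) (hq : q ≠ 0)
    (M : V ≃ₗ[k] V) (hM : ∀ x y : V, B (M x) (M y) = q * B x y) :
    (∀ x ∈ Module.End.maxGenEigenspace (M : Module.End k V) 1,
        (∀ y ∈ Module.End.maxGenEigenspace (M : Module.End k V) q, B x y = 0) → x = 0) ∧
      (∀ y ∈ Module.End.maxGenEigenspace (M : Module.End k V) q,
        (∀ x ∈ Module.End.maxGenEigenspace (M : Module.End k V) 1, B x y = 0) → y = 0) ∧
      (q ≠ 1 → ∀ x ∈ Module.End.maxGenEigenspace (M : Module.End k V) 1,
        ∀ x' ∈ Module.End.maxGenEigenspace (M : Module.End k V) 1, B x x' = 0) ∧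
      (q ≠ 1 → ∀ y ∈ Module.End.maxGenEigenspace (M : Module.End k V) q,
        ∀ y' ∈ Module.End.maxGenEigenspace (M : Module.End k V) q, B y y' = 0) := by
  set T : Module.End k V := (M : Module.End k V) with hT
  have hM' : ∀ x y : V, B (T x) (T y) = q * B x y := hM
  -- Fitting decomposition for an endomorphism `f`
  have fitting : ∀ f : Module.End k V, ∃ N : ℕ,
      IsCompl (LinearMap.ker (f ^ N)) (LinearMap.range (f ^ N)) ∧
        LinearMap.range (f ^ N) = LinearMap.range (f ^ (N + 1)) := by
    intro f
    obtain ⟨N, hN⟩ := Filter.eventually_atTop.mp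
      (f.eventually_isCompl_ker_pow_range_pow.and f.eventually_iInf_range_pow_eq)
    refine ⟨N, (hN N le_rfl).1, ?_⟩
    rw [← (hN N le_rfl).2, ← (hN (N + 1) (Nat.le_succ N)).2]
  refine ⟨?_, ?_, ?_, ?_⟩
  · -- (1)
    intro x hx hxq
    rw [Module.End.mem_maxGenEigenspace] at hx
    obtain ⟨n, hn⟩ := hx
    obtain ⟨N, hcompl, hrange⟩ := fitting (T - q • 1)
    set f : Module.End k V := T - q • 1 with hf
    -- properties of `W = range (f ^ N)`
    have hWsurj : ∀ w ∈ LinearMap.range (f ^ N), ∃ w₁ ∈ LinearMap.range (f ^ N), f w₁ = w := by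
      intro w hw
      rw [hrange] at hw
      obtain ⟨v, rfl⟩ := hw
      exact ⟨(f ^ N) v, LinearMap.mem_range_self _ _, by rw [pow_succ', Module.End.mul_apply]⟩
    have hWT : ∀ w ∈ LinearMap.range (f ^ N), T w ∈ LinearMap.range (f ^ N) := by
      intro w hw
      have h1 : T w = f w + q • w := by simp [hf, LinearMap.sub_apply]
      rw [h1]
      refine Submodule.add_mem _ ?_ (Submodule.smul_mem _ _ hw)
      rw [hrange]
      obtain ⟨v, rfl⟩ := hw
      exact ⟨v, by rw [pow_succ', Module.End.mul_apply]⟩
    have key : ∀ (n : ℕ) (x : V), ((T - (1 : k) • 1) ^ n) x = 0 →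
        ∀ w ∈ LinearMap.range (f ^ N), B x w = 0 := by
      intro n
      induction n with
      | zero => intro x hx w _; simp only [pow_zero, Module.End.one_apply] at hx; simp [hx]
      | succ n ih =>
        intro x hx w hw
        obtain ⟨w₁, hw₁, rfl⟩ := hWsurj w hw
        have hx'n : ((T - (1 : k) • 1) ^ n) ((T - (1 : k) • 1) x) = 0 := by
          rw [← Module.End.mul_apply, ← pow_succ]; exact hx
        have h1 := ih _ hx'n (T w₁) (hWT w₁ hw₁)
        have h2 := hM' x w₁
        simp only [LinearMap.sub_apply, LinearMap.smul_apply, Module.End.one_apply, one_smul,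
          map_sub, hf, map_smul, smul_eq_mul] at h1 ⊢
        linear_combination h2 - h1
    apply hB.1
    intro y
    obtain ⟨v₁, hv₁, w, hw, rfl⟩ := Submodule.mem_sup.mp
      (show y ∈ LinearMap.ker (f ^ N) ⊔ LinearMap.range (f ^ N) by
        rw [hcompl.sup_eq_top]; trivial)
    rw [map_add, key n x hn w hw, add_zero]
    apply hxq
    rw [Module.End.mem_maxGenEigenspace]
    exact ⟨N, hv₁⟩
  · -- (2)
    intro y hy hy1
    rw [Module.End.mem_maxGenEigenspace] at hy
    obtain ⟨m, hm⟩ := hy
    obtain ⟨N, hcompl, hrange⟩ := fitting (T - (1 : k) • 1)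
    set f : Module.End k V := T - (1 : k) • 1 with hf
    have hWsurj : ∀ w ∈ LinearMap.range (f ^ N), ∃ w₁ ∈ LinearMap.range (f ^ N), f w₁ = w := by
      intro w hw
      rw [hrange] at hw
      obtain ⟨v, rfl⟩ := hw
      exact ⟨(f ^ N) v, LinearMap.mem_range_self _ _, by rw [pow_succ', Module.End.mul_apply]⟩
    have hWT : ∀ w ∈ LinearMap.range (f ^ N), T w ∈ LinearMap.range (f ^ N) := by
      intro w hw
      have h1 : T w = f w + w := by simp [hf, LinearMap.sub_apply]
      rw [h1]
      refine Submodule.add_mem _ ?_ hw
      rw [hrange]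
      obtain ⟨v, rfl⟩ := hw
      exact ⟨v, by rw [pow_succ', Module.End.mul_apply]⟩
    have key : ∀ (m : ℕ) (y : V), ((T - q • 1) ^ m) y = 0 →
        ∀ w ∈ LinearMap.range (f ^ N), B w y = 0 := by
      intro m
      induction m with
      | zero => intro y hy w _; simp only [pow_zero, Module.End.one_apply] at hy; simp [hy]
      | succ m ih =>
        intro y hy w hw
        obtain ⟨w₁, hw₁, rfl⟩ := hWsurj w hw
        have hy'm : ((T - q • 1) ^ m) ((T - q • 1) y) = 0 := by
          rw [← Module.End.mul_apply, ← pow_succ]; exact hy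
        have h1 := ih _ hy'm (T w₁) (hWT w₁ hw₁)
        have h2 := hM' w₁ y
        simp only [LinearMap.sub_apply, LinearMap.smul_apply, Module.End.one_apply, one_smul,
          map_sub, hf, map_smul, smul_eq_mul] at h1 ⊢
        have h3 : q * (B (T w₁) y - B w₁ y) = 0 := by linear_combination (-1 : k) * h1 + h2
        rcases mul_eq_zero.mp h3 with h4 | h4
        · exact absurd h4 hq
        · exact h4
    apply hB.2
    intro x
    obtain ⟨v₁, hv₁, w, hw, rfl⟩ := Submodule.mem_sup.mp
      (show x ∈ LinearMap.ker (f ^ N) ⊔ LinearMap.range (f ^ N) by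
        rw [hcompl.sup_eq_top]; trivial)
    rw [map_add, LinearMap.add_apply, key m y hm w hw, add_zero]
    apply hy1
    rw [Module.End.mem_maxGenEigenspace]
    exact ⟨N, hv₁⟩
  · intro hq1 x hx x' hx'
    rw [Module.End.mem_maxGenEigenspace] at hx hx'
    obtain ⟨n, hn⟩ := hx
    obtain ⟨m, hm⟩ := hx'
    exact orth B q T hM' 1 1 (by rw [one_mul]; exact fun h => hq1 h.symm) n m x x' hn hm
  · intro hq1 y hy y' hy'
    rw [Module.End.mem_maxGenEigenspace] at hy hy'
    obtain ⟨n, hn⟩ := hy
    obtain ⟨m, hm⟩ := hy'
    refine orth B q T hM' q q ?_ n m y y' hn hm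
    intro h
    apply hq1
    have : q * (q - 1) = 0 := by linear_combination h
    rcases mul_eq_zero.mp this with h1 | h1
    · exact absurd h1 hq
    · exact sub_eq_zero.mp h1

end Groth.Agent.S19660
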