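import Groth.Statements.S1968
-- import your own Groth.Agent.* helpers here
import Groth.Agent.Lib.Helper12.ProdVal

set_option autoImplicit false
universe u
open EtAlg

namespace Groth.Agent.S1968

/-- Let (A_j) be a family of valuation rings with fraction fields K_j. Then every ideal of the product
ring Π A_j is a flat Π A_j-module (that is, Π A_j has weak dimension at most 1), and Π K_j is the
localization of Π A_j at its non-zero-divisors. -/
theorem result {J : Type u} (A : J → Type u) [∀ j, CommRing (A j)] [∀ j, IsDomain (A j)]
    [∀ j, ValuationRing (A j)] (K : J → Type u) [∀ j, Field (K j)] [∀ j, Algebra (A j) (K j)]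
    [∀ j, IsFractionRing (A j) (K j)] :
    (∀ I : Ideal (∀ j, A j), Module.Flat (∀ j, A j) I) ∧
      IsLocalization (nonZeroDivisors (∀ j, A j)) (∀ j, K j) := by
  classical
  refine ⟨fun I => Groth.Agent.Lib.Helper12.ProdVal.flat_ideal I, ?_⟩
  have hinj : ∀ j, Function.Injective (algebraMap (A j) (K j)) :=
    fun j => IsFractionRing.injective (A j) (K j)
  refine ⟨?_, ?_, ?_⟩
  · rintro ⟨s, hs⟩
    rw [Pi.isUnit_iff]
    intro j
    show IsUnit (algebraMap (A j) (K j) (s j))
    rw [isUnit_iff_ne_zero, Ne, map_eq_zero_iff _ (hinj j)]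
    intro hsj
    have h1 : (Pi.single j 1 : ∀ j, A j) * s = 0 := by
      funext i
      by_cases hij : i = j
      · subst hij; simp [hsj]
      · simp [Pi.single_eq_of_ne hij]
    have h2 := (mem_nonZeroDivisors_iff_right.1 hs) _ h1
    have h3 := congrFun h2 j
    simp at h3
  · intro z
    have h : ∀ j, ∃ x : A j × nonZeroDivisors (A j),
        z j * algebraMap (A j) (K j) x.2 = algebraMap (A j) (K j) x.1 :=
      fun j => IsLocalization.surj (nonZeroDivisors (A j)) (z j)
    choose x hx using h
    have hs : (fun j => ((x j).2 : A j)) ∈ nonZeroDivisors (∀ j, A j) := by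
      rw [mem_nonZeroDivisors_iff_right]
      intro v hv
      funext j
      have := congrFun hv j
      exact (mem_nonZeroDivisors_iff_right.1 (x j).2.2) _ this
    refine ⟨(fun j => (x j).1, ⟨_, hs⟩), ?_⟩
    funext j
    exact hx j
  · intro a b hab
    refine ⟨1, ?_⟩
    have : a = b := by
      funext j
      exact hinj j (congrFun hab j)
    rw [this]

end Groth.Agent.S1968
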