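import Groth.Statements.S1969
import Mathlib

set_option autoImplicit false
universe u
open EtAlg

namespace Groth.Agent.S1969



theorem step_zero {A : Type u} [CommRing A] (p : Ideal A) [p.IsPrime]
    (h : ∀ I : Ideal A, I.FG → Module.Flat A I) (a b : A) (hab : b * a = 0) :
    (∃ s, s ∉ p ∧ s * a = 0) ∨ (∃ s, s ∉ p ∧ s * b = 0) := by
  have hI : (Ideal.span {a}).FG := Submodule.fg_span (Set.toFinite {a})
  haveI := h _ hI
  let x : Fin 1 → (Ideal.span {a} : Ideal A) := fun _ => ⟨a, Ideal.mem_span_singleton_self a⟩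
  let f : Fin 1 → A := fun _ => b
  have hrel : ∑ i, f i • x i = 0 := by
    rw [Fin.sum_univ_one]
    ext
    simp [f, x, hab]
  obtain ⟨k, c, y, hxy, hfc⟩ := Module.Flat.isTrivialRelation_of_sum_smul_eq_zero hrel
  have hy : ∀ j, ∃ u, u * a = (y j : A) := fun j => Ideal.mem_span_singleton'.mp (y j).2
  choose u hu using hy
  have h1 : a = (∑ j, c 0 j * u j) * a := by
    have h2 := congrArg Subtype.val (hxy 0)
    simp only [x] at h2
    rw [Finset.sum_mul]
    conv_lhs => rw [h2]
    simp only [Submodule.coe_sum, Submodule.coe_smul, smul_eq_mul]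
    refine Finset.sum_congr rfl fun j _ => ?_
    rw [← hu j]; ring
  by_cases hp : (1 - ∑ j, c 0 j * u j) ∈ p
  · right
    have h3 : ∑ j, c 0 j * u j ∉ p := fun h' =>
      (Ideal.IsPrime.ne_top ‹_›) ((Ideal.eq_top_iff_one _).mpr (by simpa using p.add_mem hp h'))
    have h4 : ∃ j, c 0 j ∉ p := by
      by_contra hcon
      push Not at hcon
      exact h3 (p.sum_mem fun j _ => p.mul_mem_right _ (hcon j))
    obtain ⟨j, hj⟩ := h4
    refine ⟨c 0 j, hj, ?_⟩
    have h5 := hfc j
    rw [Fin.sum_univ_one] at h5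
    simpa [f, mul_comm] using h5
  · left
    refine ⟨_, hp, ?_⟩
    rw [sub_mul, one_mul, ← h1, sub_self]

theorem step_pair {A : Type u} [CommRing A] (p : Ideal A) [p.IsPrime]
    (h : ∀ I : Ideal A, I.FG → Module.Flat A I) (a b : A) :
    ∃ s t, s ∉ p ∧ (s * a = t * b ∨ s * b = t * a) := by
  have hI : (Ideal.span {a, b}).FG := Submodule.fg_span (Set.toFinite {a, b})
  haveI := h _ hI
  let x : Fin 2 → (Ideal.span {a, b} : Ideal A) :=
    ![⟨a, Ideal.subset_span (by simp)⟩, ⟨b, Ideal.subset_span (by simp)⟩]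
  let f : Fin 2 → A := ![b, -a]
  have hrel : ∑ i, f i • x i = 0 := by
    rw [Fin.sum_univ_two]
    ext
    simp [f, x]
    ring
  obtain ⟨k, c, y, hxy, hfc⟩ := Module.Flat.isTrivialRelation_of_sum_smul_eq_zero hrel
  have hy : ∀ j, ∃ u v, u * a + v * b = (y j : A) := fun j => Ideal.mem_span_pair.mp (y j).2
  choose u v huv using hy
  have h1 : a = (∑ j, c 0 j * u j) * a + (∑ j, c 0 j * v j) * b := by
    have h2 := congrArg Subtype.val (hxy 0)
    simp only [x, Matrix.cons_val_zero] at h2
    rw [Finset.sum_mul, Finset.sum_mul, ← Finset.sum_add_distrib]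
    conv_lhs => rw [h2]
    simp only [Submodule.coe_sum, Submodule.coe_smul, smul_eq_mul]
    refine Finset.sum_congr rfl fun j _ => ?_
    rw [← huv j]; ring
  by_cases hp : (1 - ∑ j, c 0 j * u j) ∈ p
  · have h3 : ∑ j, c 0 j * u j ∉ p := fun h' =>
      (Ideal.IsPrime.ne_top ‹_›) ((Ideal.eq_top_iff_one _).mpr (by simpa using p.add_mem hp h'))
    have h4 : ∃ j, c 0 j ∉ p := by
      by_contra hcon
      push Not at hcon
      exact h3 (p.sum_mem fun j _ => p.mul_mem_right _ (hcon j))
    obtain ⟨j, hj⟩ := h4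
    refine ⟨c 0 j, c 1 j, hj, Or.inr ?_⟩
    have h5 := hfc j
    rw [Fin.sum_univ_two] at h5
    simp only [f, Matrix.cons_val_zero, Matrix.cons_val_one] at h5
    linear_combination h5
  · refine ⟨1 - ∑ j, c 0 j * u j, ∑ j, c 0 j * v j, hp, Or.inl ?_⟩
    linear_combination h1

theorem two_to_four {A : Type u} [CommRing A] (h : ∀ I : Ideal A, I.FG → Module.Flat A I)
    (p : Ideal A) [p.IsPrime] :
    ∃ _ : IsDomain (Localization.AtPrime p), ValuationRing (Localization.AtPrime p) := by
  have hdom : IsDomain (Localization.AtPrime p) := by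
    haveI : NoZeroDivisors (Localization.AtPrime p) := ⟨by
      intro x y hxy
      obtain ⟨a, s, rfl⟩ := IsLocalization.exists_mk'_eq p.primeCompl x
      obtain ⟨b, t, rfl⟩ := IsLocalization.exists_mk'_eq p.primeCompl y
      rw [← IsLocalization.mk'_mul, IsLocalization.mk'_eq_zero_iff] at hxy
      obtain ⟨r, hr⟩ := hxy
      rcases step_zero p h ((r : A) * a) b (by rw [← hr]; ring) with ⟨s', hs', h'⟩ | ⟨s', hs', h'⟩
      · left
        rw [IsLocalization.mk'_eq_zero_iff]
        refine ⟨⟨s', hs'⟩ * r, ?_⟩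
        simp only [Submonoid.coe_mul]
        rw [← h']; ring
      · right
        rw [IsLocalization.mk'_eq_zero_iff]
        exact ⟨⟨s', hs'⟩, h'⟩⟩
    exact NoZeroDivisors.to_isDomain _
  refine ⟨hdom, { toPreValuationRing := ⟨?_⟩ }⟩
  intro x y
  obtain ⟨a, s, rfl⟩ := IsLocalization.exists_mk'_eq p.primeCompl x
  obtain ⟨b, t, rfl⟩ := IsLocalization.exists_mk'_eq p.primeCompl y
  obtain ⟨s', t', hs', h'⟩ := step_pair p h a b
  rcases h' with h' | h'
  · refine ⟨IsLocalization.mk' _ (t' * t) ((⟨s', hs'⟩ : p.primeCompl) * s), Or.inr ?_⟩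
    rw [← IsLocalization.mk'_mul]
    apply IsLocalization.mk'_eq_of_eq
    simp only [Submonoid.coe_mul]
    linear_combination ((t : A) * (s : A)) * h'
  · refine ⟨IsLocalization.mk' _ (t' * s) ((⟨s', hs'⟩ : p.primeCompl) * t), Or.inl ?_⟩
    rw [← IsLocalization.mk'_mul]
    apply IsLocalization.mk'_eq_of_eq
    simp only [Submonoid.coe_mul]
    linear_combination ((t : A) * (s : A)) * h'

theorem four_to_three {A : Type u} [CommRing A]
    (h4 : ∀ (p : Ideal A) [p.IsPrime],
      ∃ _ : IsDomain (Localization.AtPrime p), ValuationRing (Localization.AtPrime p))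
    (M : Type u) [AddCommGroup M] [Module A M] (hM : Module.Flat A M) (N : Submodule A M) :
    Module.Flat A N := by
  apply Module.flat_of_localized_maximal
  intro P hP
  obtain ⟨hd, hv⟩ := h4 P
  rw [← Module.flat_iff_of_isLocalization (Localization.AtPrime P) P.primeCompl]
  rw [Module.Flat.flat_iff_torsion_eq_bot_of_isBezout,
    ← Submodule.isTorsionFree_iff_torsion_eq_bot]
  let ι := (IsLocalizedModule.map P.primeCompl (LocalizedModule.mkLinearMap P.primeCompl N)
    (LocalizedModule.mkLinearMap P.primeCompl M) N.subtype).extendScalarsOfIsLocalization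
      P.primeCompl (Localization.AtPrime P)
  have hι : Function.Injective ι :=
    IsLocalizedModule.map_injective _ _ _ _ N.subtype_injective
  haveI : Module.Flat (Localization.AtPrime P) (LocalizedModule P.primeCompl M) := inferInstance
  exact hι.moduleIsTorsionFree ι (fun r m => map_smul ι r m)

/-- For a commutative ring A these are equivalent — all ideals are flat A-modules; all finitely
generated ideals are flat; flatness passes to submodules of flat modules; each localization at a
prime is a valuation ring (in particular a domain). Condition (1), weak dimension at most one, is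
not stated. -/
theorem result (A : Type u) [CommRing A] :
    List.TFAE [∀ I : Ideal A, Module.Flat A I,
      ∀ I : Ideal A, I.FG → Module.Flat A I,
      ∀ (M : Type u) [AddCommGroup M] [Module A M], Module.Flat A M → ∀ N : Submodule A M, Module.Flat A N,
      ∀ (p : Ideal A) [p.IsPrime], ∃ _ : IsDomain (Localization.AtPrime p), ValuationRing (Localization.AtPrime p)] := by

  tfae_have 1 → 2 := fun h I _ => h I
  tfae_have 2 → 4 := fun h p _ => two_to_four h p
  tfae_have 4 → 3 := fun h M _ _ hM N => four_to_three h M hM N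
  tfae_have 3 → 1 := fun h I => h A inferInstance I
  tfae_finish

end Groth.Agent.S1969
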