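import Groth.Statements.S19703
import Mathlib
import Groth.Agent.Lib.Helper10.RigidAA5
import Groth.Agent.S3024

set_option autoImplicit false
universe u
open CategoryTheory MonoidalCategory CartesianMonoidalCategory MonObj GrpObj AlgebraicGeometry CategoryTheory.Limits
open AlgGrp

namespace Groth.Agent.S19703

/-- Let k be a field, G an anti-affine algebraic group over k (smooth, of finite type, with O(G) = k), H
a connected k-group scheme of finite type and j : M → H its largest anti-affine closed subgroup
scheme H_ant (O(M) = k and every anti-affine closed subgroup scheme of H factors through M). Then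
every morphism of k-schemes f : G → H with f(e_G) = e_H factors through H_ant. -/
theorem result (k : Type u) [Field k]
    (G H : Over (Spec (CommRingCat.of k))) [GrpObj G] [Smooth G.hom] [QuasiCompact G.hom]
    (hG : Function.Bijective ((Scheme.ΓSpecIso (CommRingCat.of k)).inv ≫ G.hom.appTop).hom)
    [GrpObj H] [LocallyOfFiniteType H.hom] [QuasiCompact H.hom] [ConnectedSpace ↥H.left]
    (M : Over (Spec (CommRingCat.of k))) [GrpObj M] [LocallyOfFiniteType M.hom] [QuasiCompact M.hom] (j : M ⟶ H) [IsMonHom j] [IsClosedImmersion j.left]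
    (hM : Function.Bijective ((Scheme.ΓSpecIso (CommRingCat.of k)).inv ≫ M.hom.appTop).hom)
    (hMmax : ∀ (M₁ : Over (Spec (CommRingCat.of k))) [GrpObj M₁] [LocallyOfFiniteType M₁.hom] [QuasiCompact M₁.hom] (j₁ : M₁ ⟶ H) [IsMonHom j₁] [IsClosedImmersion j₁.left],
      Function.Bijective ((Scheme.ΓSpecIso (CommRingCat.of k)).inv ≫ M₁.hom.appTop).hom → ∃ g : M₁ ⟶ M, g ≫ j = j₁)
    (f : G ⟶ H) (hf : η[G] ≫ f = η[H]) :
    ∃ g : G ⟶ M, g ≫ j = f := by
  haveI : LocallyOfFiniteType G.hom := inferInstance
  haveI hmon : IsMonHom f := Groth.Agent.Lib.Helper10.RigidAA.isMonHom_of_antiAffine G H hG f hf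
  haveI := Groth.Agent.Lib.Helper10.RigidAA.quasiSeparated_of_lft H
  haveI : QuasiCompact f.left := by
    haveI : QuasiCompact (f.left ≫ H.hom) := by rw [Over.w]; infer_instance
    exact QuasiCompact.of_comp f.left H.hom
  obtain ⟨H', hH', i, f', hi, hf', hfi, hcl, hker, hqc, hsurj⟩ := Groth.Agent.S3024.result k G H f
  haveI : LocallyOfFiniteType H'.hom := by
    rw [← Over.w i]
    infer_instance
  haveI : QuasiCompact H'.hom := by
    haveI : CompactSpace ↥G.left := QuasiCompact.compactSpace_of_compactSpace G.hom
    haveI : CompactSpace ↥H'.left := by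
      constructor
      rw [← Set.range_eq_univ.mpr f'.left.surjective]
      exact isCompact_range f'.left.continuous
    exact (HasAffineProperty.iff_of_isAffine (P := @QuasiCompact)).mpr inferInstance
  haveI : IsSchemeTheoreticallyDominant f'.left := ⟨hker⟩
  have hO := Groth.Agent.Lib.Helper10.RigidAA.bijective_of_dominant f' hG
  obtain ⟨g₁, hg₁⟩ := hMmax H' i hO
  exact ⟨f' ≫ g₁, by rw [Category.assoc, hg₁, hfi]⟩

end Groth.Agent.S19703
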