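import Groth.Statements.S1971
-- import your own Groth.Agent.* helpers here
import Groth.Agent.Lib.Helper12.HensRad

set_option autoImplicit false
universe u
open EtAlg

namespace Groth.Agent.S1971


open Groth.Agent.Lib.Helper12.HensRad in
theorem aux (A : Type u) [CommRing A] (I J : Ideal A) (hrad : I.radical = J.radical)
    (B : Type u) [CommRing B] [Algebra A B] (hB : Hens2.IsPairHenselization A I B) :
    Hens2.IsPairHenselization A J B := by
  obtain ⟨h1, h2⟩ := hB
  have key : ∀ {C : Type u} [CommRing C] (f : A →+* C), J.map f ≤ (I.map f).radical := by
    intro C _ f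
    calc J.map f ≤ (J.radical).map f := Ideal.map_mono Ideal.le_radical
      _ = (I.radical).map f := by rw [hrad]
      _ ≤ (I.map f).radical := Ideal.map_radical_le f
  have key' : ∀ {C : Type u} [CommRing C] (f : A →+* C), I.map f ≤ (J.map f).radical := by
    intro C _ f
    calc I.map f ≤ (I.radical).map f := Ideal.map_mono Ideal.le_radical
      _ = (J.radical).map f := by rw [hrad]
      _ ≤ (J.map f).radical := Ideal.map_radical_le f
  refine ⟨?_, ?_⟩
  · haveI := h1
    exact henselianRing_of_le_radical (I.map (algebraMap A B)) _ (key _)
  · intro C _ J' f hC hJ'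
    haveI := hC
    have hr : HenselianRing C J'.radical := henselianRing_radical J'
    exact h2 C J'.radical f hr ((key' f).trans (Ideal.radical_mono hJ'))

/-- Let A be a ring with ideals I and J having the same zero locus in Spec A. Then an A-algebra is a
henselization of the pair (A, I) if and only if it is a henselization of the pair (A, J). -/
theorem result (A : Type u) [CommRing A] (I J : Ideal A)
    (h : PrimeSpectrum.zeroLocus (I : Set A) = PrimeSpectrum.zeroLocus (J : Set A)) (B : Type u) [CommRing B] [Algebra A B] :
    Hens2.IsPairHenselization A I B ↔ Hens2.IsPairHenselization A J B := by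
  have hrad : I.radical = J.radical := by
    rw [← PrimeSpectrum.vanishingIdeal_zeroLocus_eq_radical, ← PrimeSpectrum.vanishingIdeal_zeroLocus_eq_radical, h]
  exact ⟨aux A I J hrad B, aux A J I hrad.symm B⟩

end Groth.Agent.S1971
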