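import Groth.Statements.S19710
import Mathlib
import Groth.Agent.Lib.Helper26.FunFldCusp

set_option autoImplicit false
open FunFld

namespace Groth.Agent.S19710

open Groth.Agent.Lib.Helper26.FunFldAlgClosed Groth.Agent.Lib.Helper26.FunFldSeries Groth.Agent.Lib.Helper2.FF Groth.Agent.Lib.Helper26.FunFldCusp

/-- Let `k` be an algebraically closed field of characteristic zero. A `g^r_d` on a function field `K/k`
of one variable is a divisor `D` of degree `d` with a subspace `V ⊆ L(D)` of dimension `r + 1`;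
`V(-nP) = V ∩ L(D - nP)`, and the `i`-th vanishing order `m_i(V, P)` (`m_0 < ⋯ < m_r`) equals `m`
exactly when `dim V(-mP) = r + 1 - i` and `dim V(-(m+1)P) = r - i`. Let `K_Y` have genus `0` and
carry a `g^r_d` `(D_Y, V_Y)` with at least a cusp at a place `Q_Y` (`dim V_Y(-2Q_Y) ≥ r`); let
`(D_Z, V_Z)` be a `g^r_d` on a second function field `K_Z`, compatible with `(D_Y, V_Y)` at a node
formed by a place `P ≠ Q_Y` of `K_Y` and a place `Q` of `K_Z` (`dim V_Y(-nP) + dim V_Z(-(d+1-n)Q) =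
r + 1` for `0 ≤ n ≤ d + 1`), and let `P'` be a place of `K_Y` different from `P` and from `Q_Y`.
Then `m_i(V_Y, P') < m_i(V_Z, Q)` for all but at most one index: the set of `i ≤ r` for which the
`i`-th vanishing order of `V_Y` at `P'` equals the `i`-th vanishing order of `V_Z` at `Q` has at
most one element. (In the source `Q_Y` is the point where the rational component `Y` meets a chain
of curves ending in a curve of positive genus, which forces the cusp condition assumed here; the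
source works over the complex numbers.) -/
theorem result
    (k : Type*) [Field k] [IsAlgClosed k] [CharZero k]
    (KY : Type*) [Field KY] [Algebra k KY] (hKY : FunFld.IsFunctionField k KY) (hg0 : FunFld.genus k KY = 0)
    (KZ : Type*) [Field KZ] [Algebra k KZ] (hKZ : FunFld.IsFunctionField k KZ)
    (d r : ℕ) (DY : FunFld.Divisor k KY) (hDY : DY.deg = d) (DZ : FunFld.Divisor k KZ) (hDZ : DZ.deg = d)
    (VY : Submodule k KY) (hVY : VY ≤ FunFld.L DY) (hVYr : Module.finrank k ↥VY = r + 1)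
    (VZ : Submodule k KZ) (hVZ : VZ ≤ FunFld.L DZ) (hVZr : Module.finrank k ↥VZ = r + 1)
    (QY : FunFld.Place k KY) (hcusp : r ≤ Module.finrank k ↥(VY ⊓ FunFld.L (DY - Finsupp.single QY ((2 : ℤ)))))
    (P : FunFld.Place k KY) (hP : P ≠ QY) (Q : FunFld.Place k KZ)
    (hcomp : ∀ n : ℕ, n ≤ d + 1 →
      Module.finrank k ↥(VY ⊓ FunFld.L (DY - Finsupp.single P ((n : ℤ)))) + Module.finrank k ↥(VZ ⊓ FunFld.L (DZ - Finsupp.single Q ((d : ℤ) + 1 - n))) = r + 1)
    (P' : FunFld.Place k KY) (hP'P : P' ≠ P) (hP'Q : P' ≠ QY) :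
    {i : ℕ | i ≤ r ∧ ∃ m : ℕ,
        Module.finrank k ↥(VY ⊓ FunFld.L (DY - Finsupp.single P' ((m : ℤ)))) = r + 1 - i ∧
        Module.finrank k ↥(VY ⊓ FunFld.L (DY - Finsupp.single P' ((m : ℤ) + 1))) = r - i ∧
        Module.finrank k ↥(VZ ⊓ FunFld.L (DZ - Finsupp.single Q ((m : ℤ)))) = r + 1 - i ∧
        Module.finrank k ↥(VZ ⊓ FunFld.L (DZ - Finsupp.single Q ((m : ℤ) + 1))) = r - i}.Subsingleton := by
  classical
  have hVfin : Module.Finite k VY := Module.finite_of_finrank_pos (by omega)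
  have key : ∀ i m : ℕ, i ≤ r →
      Module.finrank k ↥(VY ⊓ FunFld.L (DY - Finsupp.single P' ((m : ℤ)))) = r + 1 - i →
      Module.finrank k ↥(VZ ⊓ FunFld.L (DZ - Finsupp.single Q ((m : ℤ) + 1))) = r - i →
      m ≤ d ∧ ∃ s : KY, s ≠ 0 ∧ s ∈ VY ∧
        FunFld.div k s + DY = Finsupp.single P' (m : ℤ) + Finsupp.single P ((d : ℤ) - m) := by
    intro i m hi h1 h2
    have hmd : m ≤ d := by
      by_contra hcon
      have hdeg : (DY - Finsupp.single P' (m : ℤ)).deg < 0 := by
        rw [deg_sub, deg_single, deg_eq_one hKY P', hDY]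
        push_cast
        omega
      rw [inf_L_eq_bot_of_deg_neg hKY VY hdeg, finrank_bot] at h1
      omega
    refine ⟨hmd, ?_⟩
    have h3 := hcomp (d - m) (by omega)
    have e : (d : ℤ) + 1 - ((d - m : ℕ) : ℤ) = (m : ℤ) + 1 := by omega
    rw [e, h2] at h3
    obtain ⟨s, hs0, hsV, hs⟩ := (finrank_add_finrank_le_succ hKY DY VY P' P hP'P (m : ℤ)
      ((d - m : ℕ) : ℤ) (by rw [hDY]; omega)).2 (by rw [hVYr, h1]; omega)
    refine ⟨s, hs0, hsV, ?_⟩
    have hdeg : (DY - Finsupp.single P' (m : ℤ) - Finsupp.single P ((d - m : ℕ) : ℤ)).deg = 0 := by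
      rw [deg_sub, deg_sub, deg_single, deg_single, deg_eq_one hKY P, deg_eq_one hKY P', hDY]
      have : ((d - m : ℕ) : ℤ) = (d : ℤ) - m := by omega
      rw [this]; push_cast; ring
    have hd := div_eq_neg_of_mem_L hKY hdeg hs0 hs
    have e1 : ((d - m : ℕ) : ℤ) = (d : ℤ) - m := by omega
    rw [hd, e1]; abel
  rintro i ⟨hi, m, h1, -, -, h4⟩ j ⟨hj, m', h1', -, -, h4'⟩
  obtain ⟨hm, s, hs0, hsV, hs⟩ := key i m hi h1 h4
  obtain ⟨hm', s', hs'0, hs'V, hs'⟩ := key j m' hj h1' h4'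
  have hsupp : ∀ (s : KY) (n : ℕ), FunFld.div k s + DY =
      Finsupp.single P' (n : ℤ) + Finsupp.single P ((d : ℤ) - n) →
      ∀ R : FunFld.Place k KY, R ≠ P' → R ≠ P → (FunFld.div k s + DY) R = 0 := by
    intro s n hs R h1 h2
    rw [hs]
    simp [Finsupp.single_apply, Ne.symm h1, Ne.symm h2]
  obtain ⟨c, hc⟩ := Groth.Agent.S18175.result k KY hKY hg0 d r DY hDY VY hVY hVYr QY hcusp P' P hP'Q hP
    s s' hsV hs'V hs0 hs'0 (hsupp s m hs) (hsupp s' m' hs')
  have hc0 : c ≠ 0 := by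
    rintro rfl
    rw [zero_smul] at hc
    exact hs'0 hc
  have hdiv : FunFld.div k s' = FunFld.div k s := by
    ext R
    rw [div_apply hKY, div_apply hKY, hc, ord_def, ord_def, v_smul R c s hc0]
  have h3 : (Finsupp.single P' (m : ℤ) + Finsupp.single P ((d : ℤ) - m) : Divisor k KY) =
      Finsupp.single P' (m' : ℤ) + Finsupp.single P ((d : ℤ) - m') := by
    rw [← hs, ← hs', hdiv]
  have h4 := DFunLike.congr_fun h3 P'
  simp [Finsupp.single_apply, hP'P.symm] at h4
  subst h4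
  rw [h1] at h1'
  omega

end Groth.Agent.S19710
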