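import Mathlib
import Groth.Statements.S19711
import Groth.Agent.Lib.Helper4.PureQuot
-- import your own Groth.Agent.* helpers here

set_option autoImplicit false
universe u
open CategoryTheory
open Coh

namespace Groth.Agent.S19711

open Groth.Agent.Lib.Helper4 in
theorem result {A : Type u} [CommRing A] [IsNoetherianRing A] [IsDomain A]
    (F K : ModuleCat.{u} A ⥤ ModuleCat.{u} A) [F.Additive] [F.Linear A] [K.Additive] [K.Linear A]
    (ι : K ⟶ F) (hι : ∀ X : ModuleCat.{u} A, Function.Injective (ι.app X).hom)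
    (hfin : Module.Finite A (F.obj (ModuleCat.of A A)))
    (hGI : ∃ U : Set (PrimeSpectrum A), IsOpen U ∧ Dense U ∧ ∀ u ∈ U, Algebra.FiniteType A u.asIdeal.ResidueField →
        ∀ m : F.obj (ModuleCat.of A A),
          (F.map (ModuleCat.ofHom (Algebra.linearMap A u.asIdeal.ResidueField))).hom m = 0 →
            ∃ s ∉ u.asIdeal, s • m ∈ u.asIdeal • (⊤ : Submodule A (F.obj (ModuleCat.of A A)))) :
    ∃ U : Set (PrimeSpectrum A), IsOpen U ∧ Dense U ∧ ∀ u ∈ U, Algebra.FiniteType A u.asIdeal.ResidueField →
        ∀ m : K.obj (ModuleCat.of A A),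
          (K.map (ModuleCat.ofHom (Algebra.linearMap A u.asIdeal.ResidueField))).hom m = 0 →
            ∃ s ∉ u.asIdeal, s • m ∈ u.asIdeal • (⊤ : Submodule A (K.obj (ModuleCat.of A A))) := by
  classical
  obtain ⟨U, hUo, hUd, hU⟩ := hGI
  have hιA : Function.Injective (ι.app (ModuleCat.of A A)).hom := hι _
  haveI : Module.Finite A (F.obj (ModuleCat.of A A)) := hfin
  haveI : Module.FinitePresentation A
      ((F.obj (ModuleCat.of A A)) ⧸ LinearMap.range (ι.app (ModuleCat.of A A)).hom) :=
    Module.finitePresentation_of_finite A _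
  refine ⟨U ∩ Module.freeLocus A
    ((F.obj (ModuleCat.of A A)) ⧸ LinearMap.range (ι.app (ModuleCat.of A A)).hom),
    hUo.inter Module.isOpen_freeLocus, ?_, ?_⟩
  · refine hUd.inter_of_isOpen_left
      (IsOpen.dense Module.isOpen_freeLocus ⟨⟨⊥, Ideal.isPrime_bot⟩, ?_⟩) hUo
    change Module.Free (Localization.AtPrime (⊥ : Ideal A))
      (LocalizedModule (⊥ : Ideal A).primeCompl
        ((F.obj (ModuleCat.of A A)) ⧸ LinearMap.range (ι.app (ModuleCat.of A A)).hom))
    have : IsFractionRing A (Localization.AtPrime (⊥ : Ideal A)) := by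
      simpa [Ideal.primeCompl_bot] using
        Localization.isLocalization (M := (⊥ : Ideal A).primeCompl)
    let _ : Field (Localization.AtPrime (⊥ : Ideal A)) := IsFractionRing.toField A
    exact Module.Free.of_divisionRing _ _
  · rintro u ⟨huU, hufree⟩ hft m hm
    have h1 : (F.map (ModuleCat.ofHom (Algebra.linearMap A u.asIdeal.ResidueField))).hom
        ((ι.app (ModuleCat.of A A)).hom m) = 0 := by
      have hnat := congrArg (fun g => g.hom m)
        (ι.naturality (ModuleCat.ofHom (Algebra.linearMap A u.asIdeal.ResidueField)))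
      simp only [ModuleCat.hom_comp, LinearMap.comp_apply] at hnat
      rw [← hnat, hm, map_zero]
    obtain ⟨s, hs, hsm⟩ := hU u huU hft _ h1
    haveI : Module.Free (Localization.AtPrime u.asIdeal)
        (LocalizedModule u.asIdeal.primeCompl
          ((F.obj (ModuleCat.of A A)) ⧸ LinearMap.range (ι.app (ModuleCat.of A A)).hom)) := hufree
    haveI : Module.Flat A (LocalizedModule u.asIdeal.primeCompl
          ((F.obj (ModuleCat.of A A)) ⧸ LinearMap.range (ι.app (ModuleCat.of A A)).hom)) :=
      Module.Flat.trans A (Localization.AtPrime u.asIdeal) _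
    obtain ⟨t, ht, htm⟩ := exists_smul_mem_smul_top_of_flat_localizedModule_quotient
      (ι.app (ModuleCat.of A A)).hom hιA u.asIdeal.primeCompl u.asIdeal (s • m)
      (by rw [map_smul]; exact hsm)
    exact ⟨t * s, u.asIdeal.primeCompl.mul_mem ht hs, by rw [mul_smul]; exact htm⟩

end Groth.Agent.S19711
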