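import Groth.Statements.S1974
-- import your own Groth.Agent.* helpers here
import Groth.Agent.Lib.Helper12.WEtField

set_option autoImplicit false
universe u
open EtAlg

namespace Groth.Agent.S1974

open Groth.Agent.Lib.Helper12.WEtField TensorProduct

/-- Let A -> B be weakly etale and q a prime of B lying over the prime p of A. Then the residue field of
q is a separable algebraic extension of the residue field of p. -/
theorem result (A B : Type u) [CommRing A] [CommRing B] [Algebra A B]
    [Algebra.WeaklyEtale A B] (p : Ideal A) [p.IsPrime] (q : Ideal B) [q.IsPrime] [q.LiesOver p]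
    [Algebra (Localization.AtPrime p) (Localization.AtPrime q)] [Localization.AtPrime.IsLiesOverAlgebra p q] :
    Algebra.IsSeparable p.ResidueField q.ResidueField := by
  classical
  let κp := p.ResidueField
  let κq := q.ResidueField
  have hWE : Algebra.WeaklyEtale κp (κp ⊗[A] B) := inferInstance
  let φ : κp ⊗[A] B →ₐ[κp] κq :=
    Algebra.TensorProduct.lift (Algebra.ofId κp κq) (IsScalarTower.toAlgHom A B κq)
      (fun _ _ => Commute.all _ _)
  let E : Subalgebra κp κq := φ.range
  have hE : Algebra.WeaklyEtale κp E :=
    weaklyEtale_of_surjective φ.rangeRestrict φ.rangeRestrict_surjective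
  have hsepE : ∀ y : E, IsSepElt κp y := weaklyEtale_iff_forall_isSepElt.1 hE
  have hB : ∀ b : B, algebraMap B κq b ∈ E := by
    intro b
    refine ⟨(1 : κp) ⊗ₜ[A] b, ?_⟩
    simp [φ]
  have hall : ∀ x : κq, x ∈ E := by
    intro x
    obtain ⟨y, rfl⟩ := IsLocalRing.residue_surjective x
    obtain ⟨b, s, rfl⟩ := IsLocalization.exists_mk'_eq q.primeCompl y
    have hs0 : algebraMap B κq s ≠ 0 := by
      rw [Ne, Ideal.algebraMap_residueField_eq_zero]
      exact s.2
    have hspec : IsLocalRing.residue _ (IsLocalization.mk' (Localization.AtPrime q) b s) *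
        algebraMap B κq s = algebraMap B κq b := by
      have := IsLocalization.mk'_spec (Localization.AtPrime q) b s
      have h2 := congrArg (IsLocalRing.residue (Localization.AtPrime q)) this
      rw [map_mul] at h2
      exact h2
    have hx : IsLocalRing.residue _ (IsLocalization.mk' (Localization.AtPrime q) b s) =
        algebraMap B κq b * (algebraMap B κq s)⁻¹ := by
      rw [eq_mul_inv_iff_mul_eq₀ hs0]
      exact hspec
    rw [hx]
    refine Subalgebra.mul_mem _ (hB b) ?_
    refine Subalgebra.inv_mem_of_algebraic (A := E) (x := (⟨algebraMap B κq s, hB s⟩ : E)) ?_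
    have h1 := hsepE ⟨_, hB s⟩
    have h2 := isSepElt_iff_isSeparable.1 (h1.map E.val)
    exact h2.isIntegral.isAlgebraic
  refine ⟨fun x => ?_⟩
  exact isSepElt_iff_isSeparable.1 ((hsepE ⟨x, hall x⟩).map E.val)

end Groth.Agent.S1974
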