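import Groth.Statements.S19753
import Mathlib
import Groth.Agent.Lib.Helper11.GrParC
import Groth.Agent.Lib.Helper16.LocCohArtinian

set_option autoImplicit false
universe u
open scoped TensorProduct
open GrSegre

namespace Groth.Agent.S19753

/-- Let R and S be graded rings defined over a field k, both generated over k by their degree-one parts
and of positive Krull dimension, T = R # S, and let M and N be finitely generated graded modules
over R and S respectively, neither of them Artinian. Then dim (M # N) = dim M + dim N − 1,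
dimensions being Krull dimensions of supports. Here a graded ring defined over k is a commutative
k-algebra of finite type, graded in nonnegative degrees by k-subspaces with degree-zero part k·1;
the Segre product T = R # S = ⊕_n R_n ⊗_k S_n is presented abstractly as a graded k-algebra T with
an injective k-algebra homomorphism ψ : T → R ⊗_k S carrying T_n onto the k-span of the elementary
tensors a ⊗ b with a ∈ R_n, b ∈ S_n; the Segre product M # N = ⊕_n M_n ⊗_k N_n of a graded R-module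
M and a graded S-module N is presented abstractly as a graded T-module P with an injective k-linear
map φ : P → M ⊗_k N carrying P_n onto the k-span of the tensors x ⊗ y with x ∈ M_n, y ∈ N_n and
turning the action of t ∈ T into that of ψ(t) (acting factorwise on M ⊗_k N). -/
theorem result (k : Type u) [Field k] (R : Type u) [CommRing R] [Algebra k R] (𝒜 : ℤ → Submodule k R) [GradedAlgebra 𝒜] (hposR : ∀ n : ℤ, n < 0 → 𝒜 n = ⊥) (h0R : 𝒜 0 = Submodule.span k {(1 : R)}) [Algebra.FiniteType k R] (S : Type u) [CommRing S] [Algebra k S] (ℬ : ℤ → Submodule k S) [GradedAlgebra ℬ] (hposS : ∀ n : ℤ, n < 0 → ℬ n = ⊥) (h0S : ℬ 0 = Submodule.span k {(1 : S)}) [Algebra.FiniteType k S] (T : Type u) [CommRing T] [Algebra k T] (𝒯 : ℤ → Submodule k T) [GradedAlgebra 𝒯] (ψ : T →ₐ[k] TensorProduct k R S) (hT : GrSeg.IsSegreRing 𝒜 ℬ 𝒯 ψ) (hstdR : Ideal.span (⋃ n ∈ Set.Ioi (0 : ℤ), (𝒜 n : Set R)) = Ideal.span ((𝒜 1 : Submodule k R) : Set R)) (hstdS : Ideal.span (⋃ n ∈ Set.Ioi (0 : ℤ),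 (ℬ n : Set S)) = Ideal.span ((ℬ 1 : Submodule k S) : Set S)) (hr1 : 1 ≤ ringKrullDim R) (hs1 : 1 ≤ ringKrullDim S) (M : Type u) [AddCommGroup M] [Module R M] [Module k M] [IsScalarTower k R M] (ℳ : ℤ → AddSubgroup M) [DirectSum.Decomposition ℳ] [SetLike.GradedSMul 𝒜 ℳ] [Module.Finite R M] (N : Type u) [AddCommGroup N] [Module S N] [Module k N] [IsScalarTower k S N] (𝒩 : ℤ → AddSubgroup N) [DirectSum.Decomposition 𝒩] [SetLike.GradedSMul ℬ 𝒩] [Module.Finite S N] (P : Type u) [AddCommGroup P] [Module T P] [Module k P] [IsScalarTower k T P] (𝒬 : ℤ → AddSubgroup P) [DirectSum.Decomposition 𝒬] (φ : P →ₗ[k] TensorProduct k M N) (hP : GrSeg.IsSegreMod ψ ℳ 𝒩 𝒬 φ) (dM dN : ℕ) (hdM : Module.supportDim R M = dM) (hdN : Module.supportDim S N = dN) (hMA : ¬ IsArtinian R M) (hNA : ¬ IsArtinian S N) : Module.supportDim T P = ((dM + dN - 1 : ℕ) : WithBot ℕ∞) := by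
  haveI : IsNoetherianRing R := Algebra.FiniteType.isNoetherianRing k R
  haveI : IsNoetherianRing S := Algebra.FiniteType.isNoetherianRing k S
  letI : GradedRing (Groth.Agent.Lib.Helper11.GrConv.conv 𝒜) :=
    Groth.Agent.Lib.Helper11.GrConv.convGradedRing 𝒜
  letI : GradedRing (Groth.Agent.Lib.Helper11.GrConv.conv ℬ) :=
    Groth.Agent.Lib.Helper11.GrConv.convGradedRing ℬ
  letI : SetLike.GradedSMul (Groth.Agent.Lib.Helper11.GrConv.conv 𝒜) ℳ :=
    Groth.Agent.Lib.Helper11.GrConv.convGradedSMul_left 𝒜 ℳ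
  letI : SetLike.GradedSMul (Groth.Agent.Lib.Helper11.GrConv.conv ℬ) 𝒩 :=
    Groth.Agent.Lib.Helper11.GrConv.convGradedSMul_left ℬ 𝒩
  haveI : Nontrivial M := Groth.Agent.Lib.Helper11.Seg.nontrivial_of_supportDim dM hdM
  haveI : Nontrivial N := Groth.Agent.Lib.Helper11.Seg.nontrivial_of_supportDim dN hdN
  haveI : Nontrivial R := Module.nontrivial R M
  haveI : Nontrivial S := Module.nontrivial S N
  have h1M : 1 ≤ dM := by
    by_contra hcon
    have h0 : dM = 0 := by omega
    apply hMA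
    let a : HomogeneousIdeal (Groth.Agent.Lib.Helper11.GrConv.conv 𝒜) :=
      Groth.Agent.Lib.Helper11.GrField.irrelevant (Groth.Agent.Lib.Helper11.GrConv.conv 𝒜)
    have hloc : GrLC.IsStarLocal (Groth.Agent.Lib.Helper11.GrConv.conv 𝒜) a :=
      Groth.Agent.Lib.Helper11.Seg.isStarLocal_conv_irr 𝒜 hposR h0R a rfl
    have hdim : Module.supportDim R M ≤ 0 := by rw [hdM, h0]; rfl
    have hgam := Groth.Agent.Lib.Helper11.GrMod.gam_eq_top_of_supportDim_le_zero
      (Groth.Agent.Lib.Helper11.GrConv.conv 𝒜) ℳ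
      (Groth.Agent.Lib.Helper11.Seg.hpos_conv 𝒜 hposR) hloc hdim
    haveI hmax : a.toIdeal.IsMaximal :=
      Groth.Agent.Lib.Helper11.GrLes.isMaximal_of_isCoatom
        (Groth.Agent.Lib.Helper11.GrConv.conv 𝒜)
        (Groth.Agent.Lib.Helper11.Seg.hpos_conv 𝒜 hposR) hloc.1
    apply Groth.Agent.Lib.Helper16.LC.isArtinian_of_isPowerTorsion_maximal a.toIdeal M
    intro x
    have hx : x ∈ GrLC.gam a.toIdeal M := by rw [hgam]; trivial
    exact hx
  have h1N : 1 ≤ dN := by
    by_contra hcon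
    have h0 : dN = 0 := by omega
    apply hNA
    let b : HomogeneousIdeal (Groth.Agent.Lib.Helper11.GrConv.conv ℬ) :=
      Groth.Agent.Lib.Helper11.GrField.irrelevant (Groth.Agent.Lib.Helper11.GrConv.conv ℬ)
    have hloc : GrLC.IsStarLocal (Groth.Agent.Lib.Helper11.GrConv.conv ℬ) b :=
      Groth.Agent.Lib.Helper11.Seg.isStarLocal_conv_irr ℬ hposS h0S b rfl
    have hdim : Module.supportDim S N ≤ 0 := by rw [hdN, h0]; rfl
    have hgam := Groth.Agent.Lib.Helper11.GrMod.gam_eq_top_of_supportDim_le_zero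
      (Groth.Agent.Lib.Helper11.GrConv.conv ℬ) 𝒩
      (Groth.Agent.Lib.Helper11.Seg.hpos_conv ℬ hposS) hloc hdim
    haveI hmax : b.toIdeal.IsMaximal :=
      Groth.Agent.Lib.Helper11.GrLes.isMaximal_of_isCoatom
        (Groth.Agent.Lib.Helper11.GrConv.conv ℬ)
        (Groth.Agent.Lib.Helper11.Seg.hpos_conv ℬ hposS) hloc.1
    apply Groth.Agent.Lib.Helper16.LC.isArtinian_of_isPowerTorsion_maximal b.toIdeal N
    intro x
    have hx : x ∈ GrLC.gam b.toIdeal N := by rw [hgam]; trivial
    exact hx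
  exact Groth.Agent.Lib.Helper11.Seg.segreMod_dim k R 𝒜 hposR h0R S ℬ hposS h0S T 𝒯 ψ hT hstdR hstdS
    M ℳ N 𝒩 P 𝒬 φ hP dM dN h1M h1N hdM hdN

end Groth.Agent.S19753
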