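import Groth.Statements.S19754
import Mathlib
import Groth.Agent.Lib.Helper11.GrSegModB

set_option autoImplicit false
universe u
open scoped TensorProduct
open GrSegre

namespace Groth.Agent.S19754

/-- Let R and S be graded rings defined over a field k, T = R # S, M a finitely generated graded
Cohen–Macaulay R-module of dimension r ≥ 1 and N a finitely generated graded Cohen–Macaulay S-module
of dimension s ≥ 1. Then either M # N = 0 or dim (M # N) = r + s − 1. The letters r and s stand here
for the dimensions of the modules M and N themselves and are not assumed to equal dim R and dim S;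
the proof by homogeneous parameter systems of M and N establishes this general form. Here a graded
ring defined over k is a commutative k-algebra of finite type, graded in nonnegative degrees by
k-subspaces with degree-zero part k·1; the Segre product T = R # S = ⊕_n R_n ⊗_k S_n is presented
abstractly as a graded k-algebra T with an injective k-algebra homomorphism ψ : T → R ⊗_k S carrying
T_n onto the k-span of the elementary tensors a ⊗ b with a ∈ R_n, b ∈ S_n; the Segre product M # N =
⊕_n M_n ⊗_k N_n of a graded R-module M and a graded S-module N is presented abstractly as a graded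
T-module P with an injective k-linear map φ : P → M ⊗_k N carrying P_n onto the k-span of the
tensors x ⊗ y with x ∈ M_n, y ∈ N_n and turning the action of t ∈ T into that of ψ(t) (acting
factorwise on M ⊗_k N); a module over a ring is called Cohen–Macaulay when each of its localizations
at a prime ideal is zero or a Cohen–Macaulay module over the local ring (dimension of the support
equal to the depth), and the dimension of a module is the Krull dimension of its support. -/
theorem result (k : Type u) [Field k] (R : Type u) [CommRing R] [Algebra k R] (𝒜 : ℤ → Submodule k R) [GradedAlgebra 𝒜] (hposR : ∀ n : ℤ, n < 0 → 𝒜 n = ⊥) (h0R : 𝒜 0 = Submodule.span k {(1 : R)}) [Algebra.FiniteType k R] (S : Type u) [CommRing S] [Algebra k S] (ℬ : ℤ → Submodule k S) [GradedAlgebra ℬ] (hposS : ∀ n : ℤ, n < 0 → ℬ n = ⊥) (h0S : ℬ 0 = Submodule.span k {(1 : S)}) [Algebra.FiniteType k S] (T : Type u) [CommRing T] [Algebra k T] (𝒯 : ℤ → Submodule k T) [GradedAlgebra 𝒯] (ψ : T →ₐ[k] TensorProduct k R S) (hT : GrSeg.IsSegreRing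 𝒜 ℬ 𝒯 ψ) (M : Type u) [AddCommGroup M] [Module R M] [Module k M] [IsScalarTower k R M] (ℳ : ℤ → AddSubgroup M) [DirectSum.Decomposition ℳ] [SetLike.GradedSMul 𝒜 ℳ] [Module.Finite R M] (N : Type u) [AddCommGroup N] [Module S N] [Module k N] [IsScalarTower k S N] (𝒩 : ℤ → AddSubgroup N) [DirectSum.Decomposition 𝒩] [SetLike.GradedSMul ℬ 𝒩] [Module.Finite S N] (P : Type u) [AddCommGroup P] [Module T P] [Module k P] [IsScalarTower k T P] (𝒬 : ℤ → AddSubgroup P) [DirectSum.Decomposition 𝒬] (φ : P →ₗ[k] TensorProduct k M N) (hP : GrSeg.IsSegreMod ψ ℳ 𝒩 𝒬 φ) (r s : ℕ) (h1r : 1 ≤ r) (h1s : 1 ≤ s) (hdM : Module.supportDim R M = r) (hdN : Module.supportDim S N = s) (hMcm : (∀ (q : Ideal R) [q.IsPrime], Subsingleton (LocalizedModule q.primeCompl M) ∨ LocCoh.IsCohenMacaulayModule (Localization.AtPrime q) (LocalizedModule q.primeCompl M))) (hNcm : (∀ (q : Ideal S) [q.IsPrime], Subsingleton (LocalizedModule q.primeCompl N) ∨ LocCoh.IsCohenMacaulayModule (Localization.AtPrime q) (LocalizedModule q.primeCompl N))) : Module.supportDim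 T P = ((r + s - 1 : ℕ) : WithBot ℕ∞) ∨ Subsingleton P := by
  haveI : IsNoetherianRing R := Algebra.FiniteType.isNoetherianRing k R
  haveI : IsNoetherianRing S := Algebra.FiniteType.isNoetherianRing k S
  letI : GradedRing (Groth.Agent.Lib.Helper11.GrConv.conv 𝒜) :=
    Groth.Agent.Lib.Helper11.GrConv.convGradedRing 𝒜
  letI : GradedRing (Groth.Agent.Lib.Helper11.GrConv.conv ℬ) :=
    Groth.Agent.Lib.Helper11.GrConv.convGradedRing ℬ
  haveI : SetLike.GradedSMul (Groth.Agent.Lib.Helper11.GrConv.conv 𝒜) ℳ :=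
    Groth.Agent.Lib.Helper11.GrConv.convGradedSMul_left 𝒜 ℳ
  haveI : SetLike.GradedSMul (Groth.Agent.Lib.Helper11.GrConv.conv ℬ) 𝒩 :=
    Groth.Agent.Lib.Helper11.GrConv.convGradedSMul_left ℬ 𝒩
  let a : HomogeneousIdeal (Groth.Agent.Lib.Helper11.GrConv.conv 𝒜) :=
    Groth.Agent.Lib.Helper11.GrField.irrelevant (Groth.Agent.Lib.Helper11.GrConv.conv 𝒜)
  let b : HomogeneousIdeal (Groth.Agent.Lib.Helper11.GrConv.conv ℬ) :=
    Groth.Agent.Lib.Helper11.GrField.irrelevant (Groth.Agent.Lib.Helper11.GrConv.conv ℬ)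
  obtain ⟨EM⟩ := Groth.Agent.Lib.Helper11.GrLCLib.nonempty_starInjRes
    (Groth.Agent.Lib.Helper11.GrConv.conv 𝒜) ℳ
  obtain ⟨EN⟩ := Groth.Agent.Lib.Helper11.GrLCLib.nonempty_starInjRes
    (Groth.Agent.Lib.Helper11.GrConv.conv ℬ) 𝒩
  obtain ⟨-, -, h⟩ := Groth.Agent.Lib.Helper11.Seg.segreMod_core k R 𝒜 hposR h0R S ℬ hposS h0S T 𝒯 ψ hT
    M ℳ N 𝒩 P 𝒬 φ hP r s h1r h1s hdM hdN hMcm hNcm a rfl b rfl EM EN
  rcases h with h | ⟨h, -⟩
  · exact Or.inr h
  · exact Or.inl h

end Groth.Agent.S19754
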