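import Groth.Statements.S19755
import Mathlib
import Groth.Agent.Lib.Helper11.GrSegModB

set_option autoImplicit false
universe u
open scoped TensorProduct
open GrSegre

namespace Groth.Agent.S19755

/-- Let R and S be graded rings defined over a field k with m = R_+, n = S_+ and T = R # S, let M be a
finitely generated graded Cohen–Macaulay R-module of dimension r ≥ 2 and N a finitely generated
graded Cohen–Macaulay S-module of dimension s ≥ 2, and assume M # N ≠ 0. Then M # N is a
Cohen–Macaulay T-module if and only if M # H^s_n(N) = 0 and H^r_m(M) # N = 0, that is, for every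
degree d, M_d = 0 or H^s_n(N)_d = 0, and H^r_m(M)_d = 0 or N_d = 0. The letters r and s stand here
for the dimensions of the modules M and N themselves and are not assumed to equal dim R and dim S.
Here a graded ring defined over k is a commutative k-algebra of finite type, graded in nonnegative
degrees by k-subspaces with degree-zero part k·1; the Segre product T = R # S = ⊕_n R_n ⊗_k S_n is
presented abstractly as a graded k-algebra T with an injective k-algebra homomorphism ψ : T → R ⊗_k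
S carrying T_n onto the k-span of the elementary tensors a ⊗ b with a ∈ R_n, b ∈ S_n; the Segre
product M # N = ⊕_n M_n ⊗_k N_n of a graded R-module M and a graded S-module N is presented
abstractly as a graded T-module P with an injective k-linear map φ : P → M ⊗_k N carrying P_n onto
the k-span of the tensors x ⊗ y with x ∈ M_n, y ∈ N_n and turning the action of t ∈ T into that of
ψ(t) (acting factorwise on M ⊗_k N); a module over a ring is called Cohen–Macaulay when each of its
localizations at a prime ideal is zero or a Cohen–Macaulay module over the local ring (dimension of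
the support equal to the depth), and the dimension of a module is the Krull dimension of its
support; the graded local cohomology pieces are computed from *injective resolutions of M and N in
the graded categories. -/
theorem result (k : Type u) [Field k] (R : Type u) [CommRing R] [Algebra k R] (𝒜 : ℤ → Submodule k R) [GradedAlgebra 𝒜] (hposR : ∀ n : ℤ, n < 0 → 𝒜 n = ⊥) (h0R : 𝒜 0 = Submodule.span k {(1 : R)}) [Algebra.FiniteType k R] (S : Type u) [CommRing S] [Algebra k S] (ℬ : ℤ → Submodule k S) [GradedAlgebra ℬ] (hposS : ∀ n : ℤ, n < 0 → ℬ n = ⊥) (h0S : ℬ 0 = Submodule.span k {(1 : S)}) [Algebra.FiniteType k S] (T : Type u) [CommRing T] [Algebra k T] (𝒯 : ℤ → Submodule k T) [GradedAlgebra 𝒯] (ψ : T →ₐ[k] TensorProduct k R S) (hT : GrSeg.IsSegreRing 𝒜 ℬ 𝒯 ψ) (mR : HomogeneousIdeal 𝒜) (hmR : mR.toIdeal = Ideal.span (⋃ n ∈ Set.Ioi (0 : ℤ), (𝒜 n : Set R))) (mS : HomogeneousIdeal ℬ) (hmS : mS.toIdeal = Ideal.span (⋃ n ∈ Set.Ioi (0 : ℤ), (ℬ n : Set S))) (M : Type u) [AddCommGroup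 M] [Module R M] [Module k M] [IsScalarTower k R M] (ℳ : ℤ → AddSubgroup M) [DirectSum.Decomposition ℳ] [SetLike.GradedSMul 𝒜 ℳ] [Module.Finite R M] (EM : GrLC.StarInjRes 𝒜 ℳ) (N : Type u) [AddCommGroup N] [Module S N] [Module k N] [IsScalarTower k S N] (𝒩 : ℤ → AddSubgroup N) [DirectSum.Decomposition 𝒩] [SetLike.GradedSMul ℬ 𝒩] [Module.Finite S N] (EN : GrLC.StarInjRes ℬ 𝒩) (P : Type u) [AddCommGroup P] [Module T P] [Module k P] [IsScalarTower k T P] (𝒬 : ℤ → AddSubgroup P) [DirectSum.Decomposition 𝒬] (φ : P →ₗ[k] TensorProduct k M N) (hP : GrSeg.IsSegreMod ψ ℳ 𝒩 𝒬 φ) [Nontrivial P] (r s : ℕ) (h2r : 2 ≤ r) (h2s : 2 ≤ s) (hdM : Module.supportDim R M = r) (hdN : Module.supportDim S N = s) (hMcm : (∀ (q : Ideal R) [q.IsPrime], Subsingleton (LocalizedModule q.primeCompl M) ∨ LocCoh.IsCohenMacaulayModule (Localization.AtPrime q) (LocalizedModule q.primeCompl M))) (hNcm : (∀ (q : Ideal S) [q.IsPrime], Subsingleton (LocalizedModule q.primeCompl N) ∨ LocCoh.IsCohenMacaulayModule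 (Localization.AtPrime q) (LocalizedModule q.primeCompl N))) : (∀ (q : Ideal T) [q.IsPrime], Subsingleton (LocalizedModule q.primeCompl P) ∨ LocCoh.IsCohenMacaulayModule (Localization.AtPrime q) (LocalizedModule q.primeCompl P)) ↔ (∀ d : ℤ, ℳ d = ⊥ ∨ EN.Hcomp mS s d = ⊥) ∧ (∀ d : ℤ, EM.Hcomp mR r d = ⊥ ∨ 𝒩 d = ⊥) := by
  haveI : IsNoetherianRing R := Algebra.FiniteType.isNoetherianRing k R
  haveI : IsNoetherianRing S := Algebra.FiniteType.isNoetherianRing k S
  letI : GradedRing (Groth.Agent.Lib.Helper11.GrConv.conv 𝒜) :=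
    Groth.Agent.Lib.Helper11.GrConv.convGradedRing 𝒜
  letI : GradedRing (Groth.Agent.Lib.Helper11.GrConv.conv ℬ) :=
    Groth.Agent.Lib.Helper11.GrConv.convGradedRing ℬ
  haveI : SetLike.GradedSMul (Groth.Agent.Lib.Helper11.GrConv.conv 𝒜) ℳ :=
    Groth.Agent.Lib.Helper11.GrConv.convGradedSMul_left 𝒜 ℳ
  haveI : SetLike.GradedSMul (Groth.Agent.Lib.Helper11.GrConv.conv ℬ) 𝒩 :=
    Groth.Agent.Lib.Helper11.GrConv.convGradedSMul_left ℬ 𝒩
  let a := Groth.Agent.Lib.Helper11.GrConv.hidealConv 𝒜 mR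
  let b := Groth.Agent.Lib.Helper11.GrConv.hidealConv ℬ mS
  let EM' : GrLC.StarInjRes (Groth.Agent.Lib.Helper11.GrConv.conv 𝒜) ℳ :=
    Groth.Agent.Lib.Helper11.GrConv.resConvL 𝒜 ℳ EM
  let EN' : GrLC.StarInjRes (Groth.Agent.Lib.Helper11.GrConv.conv ℬ) 𝒩 :=
    Groth.Agent.Lib.Helper11.GrConv.resConvL ℬ 𝒩 EN
  obtain ⟨hM, hN, h⟩ := Groth.Agent.Lib.Helper11.Seg.segreMod_core k R 𝒜 hposR h0R S ℬ hposS h0S T 𝒯 ψ
    hT M ℳ N 𝒩 P 𝒬 φ hP r s (by omega) (by omega) hdM hdN hMcm hNcm a hmR b hmS EM' EN'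
  rcases h with h | ⟨hdim, hiff⟩
  · exact absurd h (not_subsingleton P)
  have eM : ∀ q d, EM'.Hcomp a q d = ⊥ ↔ EM.Hcomp mR q d = ⊥ := fun q d =>
    Groth.Agent.Lib.Helper11.Seg.Hcomp_resConvL_eq_bot_iff 𝒜 ℳ EM mR q d
  have eN : ∀ q d, EN'.Hcomp b q d = ⊥ ↔ EN.Hcomp mS q d = ⊥ := fun q d =>
    Groth.Agent.Lib.Helper11.Seg.Hcomp_resConvL_eq_bot_iff ℬ 𝒩 EN mS q d
  refine Iff.trans hiff ?_
  constructor
  · intro h
    refine ⟨fun d => ?_, fun d => ?_⟩
    · rcases (h s (by omega) d).2 with h1 | h1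
      · exact Or.inl h1
      · exact Or.inr ((eN s d).mp h1)
    · rcases (h r (by omega) d).1 with h1 | h1
      · exact Or.inl ((eM r d).mp h1)
      · exact Or.inr h1
  · rintro ⟨h1, h2⟩ q hq d
    refine ⟨?_, ?_⟩
    · by_cases hqr : q = r
      · subst hqr
        rcases h2 d with h | h
        · exact Or.inl ((eM q d).mpr h)
        · exact Or.inr h
      · exact Or.inl ((Groth.Agent.Lib.Helper11.Seg.subsingleton_H_iff EM' a q).mp (hM q hqr) d)
    · by_cases hqs : q = s
      · subst hqs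
        rcases h1 d with h | h
        · exact Or.inl h
        · exact Or.inr ((eN q d).mpr h)
      · exact Or.inr ((Groth.Agent.Lib.Helper11.Seg.subsingleton_H_iff EN' b q).mp (hN q hqs) d)

end Groth.Agent.S19755
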