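import Groth.Statements.S1976
-- import your own Groth.Agent.* helpers here
import Groth.Agent.Lib.Helper12.WEtField
import Groth.Agent.Lib.Helper12.IndFG
import Groth.Agent.Lib.Helper10.IndEtale
import Groth.Agent.Lib.Helper26.WeaklyEtale

set_option autoImplicit false
universe u
open CategoryTheory
open EtAlg

namespace Groth.Agent.S1976

open Groth.Agent.Lib.Helper12.WEtField

/-- (2) ⇔ (3): a K-algebra B over a field K is weakly etale exactly when it can be written as a filtered
colimit of etale K-algebras, and in that case its finitely generated K-subalgebras are etale. -/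
theorem result (K : Type u) [Field K] (B : Type u) [CommRing B] [Algebra K B] :
    (Algebra.WeaklyEtale K B ↔ EtPBC.IsIndEtale K B) ∧
    (Algebra.WeaklyEtale K B → ∀ S : Subalgebra K B, S.FG → Algebra.Etale K S) := by
  have hfg : Algebra.WeaklyEtale K B → ∀ S : Subalgebra K B, S.FG → Algebra.Etale K S := by
    intro hWE S hS
    have h1 : Algebra.WeaklyEtale K S := weaklyEtale_subalgebra S
    have h2 : Algebra.FormallyUnramified K S :=
      Groth.Agent.Lib.Helper26.formallyUnramified_of_weaklyEtale K S
    have h3 : Algebra.FiniteType K S := (Subalgebra.fg_iff_finiteType S).1 hS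
    have h4 : Algebra.FinitePresentation K S := Algebra.FinitePresentation.of_finiteType.1 h3
    exact Algebra.Etale.of_formallyUnramified_of_flat
  refine ⟨⟨fun hWE => ?_, fun hind => ?_⟩, hfg⟩
  · exact Groth.Agent.Lib.Helper12.IndFG.isIndEtale_of_forall_fg_etale K B (hfg hWE)
  · obtain ⟨J, hJ1, hJ2, D, c, hc, hD, ⟨e⟩⟩ := hind
    exact Groth.Agent.Lib.Helper10.IndEtale.weaklyEtale_of_data D c hc e hD

end Groth.Agent.S1976
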