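import Groth.Statements.S19762
import Mathlib
import Groth.Agent.Lib.Helper11.GrDualF

set_option autoImplicit false
universe u
open GrDual

namespace Groth.Agent.S19762

/-- Let R = ⊕_{n ≥ 0} R_n be a Noetherian graded ring with R_0 = k a field. The graded k-dual is an
equivalence between Noetherian graded R-modules and the opposite category of Artinian graded
R-modules; on morphisms: for finitely generated graded R-modules F and M, every homomorphism of
graded R-modules g : M^* → F^* is f^* for a unique homomorphism of graded R-modules f : F → M. Here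
a graded ring defined over k is a commutative k-algebra of finite type, graded in nonnegative
degrees by k-subspaces with degree-zero part k·1, and R_+ is the ideal spanned by the R_n with n > 0
(a Noetherian such ring is the same as one of finite type over k); the graded k-dual M^* = ⊕_n
Hom_k(M_{−n}, k) of a graded R-module M (with r ∈ R acting by (r f)(x) = f(r x)) is presented
abstractly as a graded R-module D with a k-bilinear pairing β : D × M → k compatible with the
R-actions, under which D_n pairs to zero with M_m for m ≠ −n and is identified with the full dual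
space of M_{−n}; f^* = g means β_F(g d, x) = β_M(d, f x) for all d and x. -/
theorem result (k : Type u) [Field k] (R : Type u) [CommRing R] [Algebra k R] (𝒜 : ℤ → Submodule k R) [GradedAlgebra 𝒜] (hposR : ∀ n : ℤ, n < 0 → 𝒜 n = ⊥) (h0R : 𝒜 0 = Submodule.span k {(1 : R)}) [Algebra.FiniteType k R] (F : Type u) [AddCommGroup F] [Module R F] [Module k F] [IsScalarTower k R F] (ℱ : ℤ → AddSubgroup F) [DirectSum.Decomposition ℱ] [SetLike.GradedSMul 𝒜 ℱ] [Module.Finite R F] (M : Type u) [AddCommGroup M] [Module R M] [Module k M] [IsScalarTower k R M] (ℳ : ℤ → AddSubgroup M) [DirectSum.Decomposition ℳ] [SetLike.GradedSMul 𝒜 ℳ] [Module.Finite R M] (DM : Type u) [AddCommGroup DM] [Module R DM] [Module k DM] [IsScalarTower k R DM] (𝒟M : ℤ → AddSubgroup DM) [DirectSum.Decomposition 𝒟M] [SetLike.GradedSMul 𝒜 𝒟M] (βM : DM →ₗ[k] M →ₗ[k] k) (hDM : GrSeg.IsGDual R ℳ 𝒟M βM) (DF : Type u) [AddCommGroup DF] [Module R DF] [Module k DF] [IsScalarTower k R DF] (𝒟F : ℤ → AddSubgroup DF) [DirectSum.Decomposition 𝒟F] [SetLike.GradedSMul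 𝒜 𝒟F] (βF : DF →ₗ[k] F →ₗ[k] k) (hDF : GrSeg.IsGDual R ℱ 𝒟F βF) (g : DM →ₗ[R] DF) (hg : GrLC.IsGrHom 𝒟M 𝒟F g) : ∃! f : F →ₗ[R] M, GrLC.IsGrHom ℱ ℳ f ∧ GrSeg.IsGDualMap βM βF f g := by
  haveI : IsNoetherianRing R := Algebra.FiniteType.isNoetherianRing k R
  haveI : IsNoetherian R M := isNoetherian_of_isNoetherianRing_of_finite R M
  have hflip := Groth.Agent.Lib.Helper11.GrDual.isGDual_flip 𝒜 hDM
    (fun n => Groth.Agent.Lib.Helper11.GrDual.finite_compK_of_isNoetherian 𝒜 ℳ hposR h0R n)
  obtain ⟨f, hf, hfg⟩ := Groth.Agent.Lib.Helper11.GrDual.exists_transpose (ℳ := 𝒟M) (𝒟 := ℳ)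
    (β := βM.flip) (ℳ' := 𝒟F) (𝒟' := ℱ) (β' := βF.flip) hflip
    (fun r x d => by
      rw [LinearMap.flip_apply, LinearMap.flip_apply]
      exact (hDF.map_smul r d x).symm) 0
    (fun n x hx m hm d hd => by
      rw [LinearMap.flip_apply]
      exact hDF.vanish m d hd n (fun e => hm (by rw [e, add_zero, neg_neg])) x hx)
    g hg
  refine ⟨f, ⟨fun n x hx => ?_, fun d x => ?_⟩, ?_⟩
  · have := hfg n x hx
    rwa [add_zero] at this
  · have := hf x d
    rw [LinearMap.flip_apply, LinearMap.flip_apply] at this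
    exact this.symm
  · rintro f' ⟨_, hf'⟩
    ext x
    rw [← sub_eq_zero]
    apply Groth.Agent.Lib.Helper11.GrDual.eq_zero_of_forall hflip
    intro d
    rw [map_sub, LinearMap.sub_apply, LinearMap.flip_apply, LinearMap.flip_apply, sub_eq_zero]
    have h1 := hf x d
    rw [LinearMap.flip_apply, LinearMap.flip_apply] at h1
    rw [h1, ← hf' d x]

end Groth.Agent.S19762
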