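import Mathlib
import Groth.Statements.S19799
import Groth.Agent.Lib.Helper6.GeomReduced

set_option autoImplicit false
universe u v w
open scoped TensorProduct
open CAlg

namespace Groth.Agent.S19799

/-- Let k be an algebraically closed field and A, B commutative k-algebras, each finite-dimensional as a
k-vector space. Then reduction commutes with tensor products: the kernel of the canonical surjection
A ⊗_k B ⟶ (A/nilradical A) ⊗_k (B/nilradical B) equals the nilradical of A ⊗_k B, so that this
surjection induces an isomorphism (A ⊗_k B)_red ≅ A_red ⊗_k B_red and in particular A_red ⊗_k B_red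
is reduced. -/
theorem result (k : Type u) [Field k]
    [IsAlgClosed k] (A : Type v) [CommRing A] [Algebra k A] [Module.Finite k A]
    (B : Type w) [CommRing B] [Algebra k B] [Module.Finite k B] :
    RingHom.ker (Algebra.TensorProduct.map (Ideal.Quotient.mkₐ k (nilradical A))
      (Ideal.Quotient.mkₐ k (nilradical B))).toRingHom = nilradical (A ⊗[k] B) := by
  have hredA : IsReduced (A ⧸ nilradical A) :=
    (Ideal.isRadical_iff_quotient_reduced _).mp (Ideal.radical_isRadical _)
  have hredB : IsReduced (B ⧸ nilradical B) :=
    (Ideal.isRadical_iff_quotient_reduced _).mp (Ideal.radical_isRadical _)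
  have hred : IsReduced ((A ⧸ nilradical A) ⊗[k] (B ⧸ nilradical B)) := by
    apply Groth.Agent.Lib.Helper6.isReduced_tensor_of_forall_residueField
    intro p _
    have h1 : IsReduced (p.ResidueField ⊗[k] (A ⧸ nilradical A)) :=
      Groth.Agent.Lib.Helper6.isReduced_tensor_of_isAlgClosed
    exact isReduced_of_injective (Algebra.TensorProduct.comm k _ _).toAlgHom
      (Algebra.TensorProduct.comm k _ _).injective
  have hsA : Function.Surjective (Ideal.Quotient.mkₐ k (nilradical A)) :=
    Ideal.Quotient.mkₐ_surjective k _
  have hsB : Function.Surjective (Ideal.Quotient.mkₐ k (nilradical B)) :=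
    Ideal.Quotient.mkₐ_surjective k _
  apply le_antisymm
  · change RingHom.ker (Algebra.TensorProduct.map (Ideal.Quotient.mkₐ k (nilradical A))
      (Ideal.Quotient.mkₐ k (nilradical B))) ≤ _
    rw [Algebra.TensorProduct.map_ker _ _ hsA hsB]
    apply sup_le
    · rw [Ideal.map_le_iff_le_comap]
      intro x hx
      have hx' : IsNilpotent x := by
        have : x ∈ nilradical A := by
          rw [← Ideal.Quotient.eq_zero_iff_mem]; simpa using hx
        exact this
      exact hx'.map _
    · rw [Ideal.map_le_iff_le_comap]
      intro x hx
      have hx' : IsNilpotent x := by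
        have : x ∈ nilradical B := by
          rw [← Ideal.Quotient.eq_zero_iff_mem]; simpa using hx
        exact this
      exact hx'.map _
  · intro x hx
    rw [RingHom.mem_ker]
    have hx' : IsNilpotent x := hx
    exact (hx'.map _).eq_zero

end Groth.Agent.S19799
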