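import Mathlib
import Groth.Statements.S19804
-- import your own Groth.Agent.* helpers here

set_option autoImplicit false
open scoped TensorProduct
universe u v w
open Brauer

namespace Groth.Agent.S19804

attribute [local instance] Module.finitePresentation_of_projective in
theorem key {R : Type u} [CommRing R]
    [ConnectedSpace (PrimeSpectrum R)] {A : Type v} [Ring A] [Algebra R A] [IsAzumaya R A]
    (e : A) (he : IsIdempotentElem e) (R' : Type w) [CommRing R'] [Nontrivial R'] [Algebra R R']
    (h0 : (1 : R') ⊗ₜ[R] e = (0 : R' ⊗[R] A)) : e = 0 := by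
  let f : A →ₗ[R] A := LinearMap.mulLeft R e
  have hff : ∀ a, f (f a) = f a := by
    intro a
    simp only [f, LinearMap.mulLeft_apply, ← mul_assoc, he.eq]
  let M := LinearMap.range f
  have hsplit : f.rangeRestrict ∘ₗ M.subtype = LinearMap.id := by
    ext ⟨_, a, rfl⟩
    simp only [LinearMap.coe_comp, Submodule.coe_subtype, Function.comp_apply,
      LinearMap.codRestrict_apply, LinearMap.id_coe, id_eq, LinearMap.rangeRestrict]
    exact hff a
  have hproj : Module.Projective R M := Module.Projective.of_split M.subtype f.rangeRestrict hsplit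
  have hfin : Module.Finite R M := Module.Finite.range f
  have hsub : Subsingleton (R' ⊗[R] M) := by
    have hzero : ∀ x : R' ⊗[R] M, (M.subtype.lTensor R') x = 0 := by
      intro x
      induction x using TensorProduct.induction_on with
      | zero => simp
      | add a b ha hb => rw [map_add, ha, hb, add_zero]
      | tmul r m =>
        obtain ⟨_, a, rfl⟩ := m
        simp only [LinearMap.lTensor_tmul, Submodule.coe_subtype]
        have : r ⊗ₜ[R] (f a) = ((1 : R') ⊗ₜ[R] e) * (r ⊗ₜ[R] a) := by
          rw [Algebra.TensorProduct.tmul_mul_tmul, one_mul]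
          rfl
        rw [this, h0, zero_mul]
    refine ⟨fun x y => ?_⟩
    have hret : ∀ x : R' ⊗[R] M, (f.rangeRestrict.lTensor R') ((M.subtype.lTensor R') x) = x := by
      intro x
      rw [← LinearMap.comp_apply, ← LinearMap.lTensor_comp, hsplit, LinearMap.lTensor_id,
        LinearMap.id_apply]
    rw [← hret x, ← hret y, hzero x, hzero y]
  obtain ⟨p'⟩ : Nonempty (PrimeSpectrum R') := inferInstance
  have h1 : Module.rankAtStalk (R' ⊗[R] M) p' = 0 := by
    rw [Module.rankAtStalk_eq_zero_of_subsingleton]; rfl
  rw [Module.rankAtStalk_baseChange] at h1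
  have hlc : IsLocallyConstant (Module.rankAtStalk (R := R) M) :=
    Module.isLocallyConstant_rankAtStalk
  have hconst : ∀ p, Module.rankAtStalk M p = 0 := fun p =>
    (hlc.apply_eq_of_isPreconnected isPreconnected_univ trivial trivial).trans h1
  have hM : Subsingleton M := Module.rankAtStalk_eq_zero_iff_subsingleton.mp (funext hconst)
  have he' : (⟨e, 1, by simp [f]⟩ : M) = 0 := Subsingleton.elim _ _
  exact congrArg Subtype.val he'

/-- Let R be a commutative ring with Spec R connected, A an Azumaya R-algebra and e an idempotent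
element of A. If for some nonzero commutative R-algebra R' the element 1 ⊗ e of R' ⊗_R A is 0, then
e = 0; and if 1 ⊗ e = 1 in R' ⊗_R A, then e = 1. (The published statement is for an Azumaya algebra
over a connected scheme S and base change to an arbitrary nonempty S-scheme T; this row takes S and
T affine.) -/
theorem result {R : Type u} [CommRing R]
    [ConnectedSpace (PrimeSpectrum R)] {A : Type v} [Ring A] [Algebra R A] [IsAzumaya R A]
    (e : A) (he : IsIdempotentElem e) (R' : Type w) [CommRing R'] [Nontrivial R'] [Algebra R R'] :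
    ((1 : R') ⊗ₜ[R] e = (0 : R' ⊗[R] A) → e = 0) ∧ ((1 : R') ⊗ₜ[R] e = (1 : R' ⊗[R] A) → e = 1) := by
  refine ⟨key e he R', fun h1 => ?_⟩
  have h2 : (1 : R') ⊗ₜ[R] (1 - e) = (0 : R' ⊗[R] A) := by
    rw [TensorProduct.tmul_sub, h1, ← Algebra.TensorProduct.one_def, sub_self]
  have := key (1 - e) he.one_sub R' h2
  exact (sub_eq_zero.mp this).symm

end Groth.Agent.S19804
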