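import Groth.Statements.S19805
import Mathlib
import Groth.Agent.Lib.Helper26.VolScale
import Groth.Agent.Lib.Helper26.VolGeom

set_option autoImplicit false
universe u
open CategoryTheory CategoryTheory.Limits AlgebraicGeometry
open scoped ENNReal
open Variety

namespace Groth.Agent.S19805

/-- Let X be a projective variety of dimension d over a field k (a geometrically integral scheme, proper
over k, admitting an ample invertible module, with dim X = d) and L an invertible O_X-module; write
vol(L) for the upper limit of dim_k H^0(X, L^m) / m^d as m → ∞, taken in the extended non-negative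
reals (the volume of L up to the factor d!). Then for every integer a ≥ 1 the volume is homogeneous
of degree d: vol(L^a) = a^d · vol(L). -/
theorem result (k : Type u) [Field k] (X : Scheme.{u})
    [X.Over (Spec (CommRingCat.of k))] [IsIntegral X] [GeometricallyIntegral (X ↘ Spec (CommRingCat.of k))]
    [IsProper (X ↘ Spec (CommRingCat.of k))]
    (hproj : ∃ A : X.Modules, CohB1.IsAmple A) (d : ℕ) (hd : topologicalKrullDim X = d)
    (L : X.Modules) (hL : PicF.IsInvertible L) (a : ℕ) (ha : 0 < a) :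
    Filter.limsup (fun m : ℕ => (Module.finrank k (Coh.HH X (CohB1.tensorPow (CohB1.tensorPow L a) m) 0) : ℝ≥0∞) /
        (m : ℝ≥0∞) ^ d) Filter.atTop =
      (a : ℝ≥0∞) ^ d * Filter.limsup (fun m : ℕ => (Module.finrank k (Coh.HH X (CohB1.tensorPow L m) 0) : ℝ≥0∞) /
        (m : ℝ≥0∞) ^ d) Filter.atTop := by
  open Groth.Agent.Lib.Helper29.QCoh Groth.Agent.Lib.Helper26.BigExp Groth.Agent.Lib.Helper26.VolGeom
    Groth.Agent.Lib.Helper26.VolScale in
  classical
  set v : ℕ → ℕ := fun n => Module.finrank k (Coh.HH X (CohB1.tensorPow L n) 0) with hv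
  have hLa : PicF.IsInvertible (CohB1.tensorPow L a) := isInvertible_tensorPow hL a
  have hiso : ∀ m : ℕ, Module.finrank k (Coh.HH X (CohB1.tensorPow (CohB1.tensorPow L a) m) 0) =
      v (a * m) := fun m =>
    finrank_iso k (isInvertible_tensorPow hLa m) (isInvertible_tensorPow hL (a * m)) (tensorPowMul L a m)
  have hfun : (fun m : ℕ => (Module.finrank k
      (Coh.HH X (CohB1.tensorPow (CohB1.tensorPow L a) m) 0) : ℝ≥0∞) / (m : ℝ≥0∞) ^ d) =
      fun m : ℕ => (v (a * m) : ℝ≥0∞) / (m : ℝ≥0∞) ^ d := by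
    funext m
    rw [hiso m]
  rw [hfun]
  change Filter.limsup (fun m : ℕ => (v (a * m) : ℝ≥0∞) / (m : ℝ≥0∞) ^ d) Filter.atTop =
    (a : ℝ≥0∞) ^ d * Filter.limsup (fun n : ℕ => (v n : ℝ≥0∞) / (n : ℝ≥0∞) ^ d) Filter.atTop
  refine le_antisymm (analytic_le v a d ha) ?_
  by_cases hex : ∃ r0 : ℕ, 0 < r0 ∧ HasSec L r0
  · obtain ⟨r0, hr0pos, hr0⟩ := hex
    obtain ⟨C, q, hq0, hqa, hqC, hle, hE⟩ := numeric {r | HasSec L r}
      (fun x y hx hy => hasSec_add hL hx hy) r0 hr0 hr0pos a ha
    refine analytic v a d C ha q hq0 hqa hqC fun n => ?_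
    by_cases hn : HasSec L n
    · exact finrank_mono k hL (Nat.add_sub_of_le (hle n)) (hE n hn)
    · have h0 : v n = 0 := finrank_eq_zero_of_not_hasSec k n hn
      rw [h0]
      exact Nat.zero_le _
  · have h0 : ∀ n, 1 ≤ n → v n = 0 := fun n hn =>
      finrank_eq_zero_of_not_hasSec k n fun h => hex ⟨n, hn, h⟩
    rw [limsup_eq_zero_of_eventually v d h0, mul_zero]
    exact bot_le

end Groth.Agent.S19805
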