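import Groth.Statements.S19807
import Mathlib
import Groth.Agent.Lib.Helper21.CDeg4
import Groth.Agent.Lib.Helper29.TensorIso
import Groth.Agent.Lib.Helper29.IntegInv
import Groth.Agent.S0002

set_option autoImplicit false
universe u
open CategoryTheory CategoryTheory.Limits AlgebraicGeometry
open scoped ENNReal
open Variety

namespace Groth.Agent.S19807

/-- Let X be a projective variety of dimension d over a field k (a geometrically integral scheme, proper
over k, admitting an ample invertible module, with dim X = d) and L an invertible O_X-module; write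
vol(L) for the upper limit of dim_k H^0(X, L^m) / m^d as m → ∞, taken in the extended non-negative
reals (the volume of L up to the factor d!). If E is an invertible O_X-module admitting a nonzero
global section (an effective Cartier divisor), then vol(L) ≤ vol(L ⊗ E): the volume increases in
effective directions. -/
theorem result (k : Type u) [Field k] (X : Scheme.{u})
    [X.Over (Spec (CommRingCat.of k))] [IsIntegral X] [GeometricallyIntegral (X ↘ Spec (CommRingCat.of k))]
    [IsProper (X ↘ Spec (CommRingCat.of k))]
    (hproj : ∃ A : X.Modules, CohB1.IsAmple A) (d : ℕ) (hd : topologicalKrullDim X = d)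
    (L : X.Modules) (hL : PicF.IsInvertible L)
    (E : X.Modules) (hE : PicF.IsInvertible E) (s : Coh.structureModule X ⟶ E) (hs : s ≠ 0) :
    Filter.limsup (fun m : ℕ => (Module.finrank k (Coh.HH X (CohB1.tensorPow L m) 0) : ℝ≥0∞) /
        (m : ℝ≥0∞) ^ d) Filter.atTop ≤
      Filter.limsup (fun m : ℕ => (Module.finrank k (Coh.HH X (CohB1.tensorPow (CohB1.tensorMod L E) m) 0) : ℝ≥0∞) /
        (m : ℝ≥0∞) ^ d) Filter.atTop := by
  open Groth.Agent.Lib.Helper29.QCoh Groth.Agent.Lib.Helper21.CDeg in
  classical
  have key : ∀ m : ℕ, Module.finrank k (Coh.HH X (CohB1.tensorPow L m) 0) ≤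
      Module.finrank k (Coh.HH X (CohB1.tensorPow (CohB1.tensorMod L E) m) 0) := by
    intro m
    have hLm : PicF.IsInvertible (CohB1.tensorPow L m) := isInvertible_tensorPow hL m
    have hEm : PicF.IsInvertible (CohB1.tensorPow E m) := isInvertible_tensorPow hE m
    have hLEm : PicF.IsInvertible (CohB1.tensorPow (CohB1.tensorMod L E) m) :=
      isInvertible_tensorPow (isInvertible_tensorMod hL hE) m
    have ht : SecTwist.powHom s m ≠ 0 := powHom_ne_zero hE s hs m
    let φ : CohB1.tensorPow L m ⟶ CohB1.tensorPow (CohB1.tensorMod L E) m :=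
      tmulRightHom (CohB1.tensorPow L m) (SecTwist.powHom s m) ≫ (tensorPowTensor L E m).inv
    have hφ : φ ≠ 0 := by
      intro h0
      apply tmulRightHom_ne_zero hLm hEm (SecTwist.powHom s m) ht
      rw [← cancel_mono (tensorPowTensor L E m).inv, zero_comp]
      exact h0
    have hmono : Mono φ := mono_of_ne_zero hLm hLEm φ hφ
    have : Module.Finite k (Coh.HH X (CohB1.tensorPow (CohB1.tensorMod L E) m) 0) :=
      Groth.Agent.S0002.result k X _
        ⟨isQuasicoherent_of_isInvertible hLEm, isFiniteType_of_isInvertible hLEm⟩ 0
    have hinj : Function.Injective (Canon.HHlin k φ 0) := by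
      have happ := (mono_iff_app_injective φ).mp hmono ⊤
      intro x y hxy
      apply (hh0 _).injective
      apply happ
      rw [← hh0_map k φ, ← hh0_map k φ, hxy]
    exact LinearMap.finrank_le_finrank_of_injective hinj
  exact Filter.limsup_le_limsup (Filter.Eventually.of_forall fun m =>
    ENNReal.div_le_div_right (Nat.cast_le.mpr (key m)) _)

end Groth.Agent.S19807
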