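import Mathlib
import Groth.Statements.S19856
-- import your own Groth.Agent.* helpers here

set_option autoImplicit false
universe u v
open CAlg

namespace Groth.Agent.S19856

open IsLocalRing

/-- Ring-level form: let O be a discrete valuation ring and G a finite group acting faithfully on O by
ring automorphisms, such that every element of G acts trivially on the residue field of O (that is,
g • a - a lies in the maximal ideal for all a) and such that the order of G is nonzero in the
residue field of O. Then G is cyclic. (The source states this for a finite group of order invertible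
in an algebraically closed field k acting faithfully on a smooth connected k-variety and the
subgroup of elements fixing pointwise a codimension-one irreducible component of the ramification
locus, applied to the local ring at the generic point of that component; it is stated here for an
arbitrary discrete valuation ring with a faithful action. The source also shows that this subgroup
is nontrivial; that geometric part is not stated.) -/
theorem result
    (O : Type u) [CommRing O] [IsDomain O] [IsDiscreteValuationRing O]
    (G : Type v) [Group G] [Finite G] [MulSemiringAction G O] [FaithfulSMul G O]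
    (htriv : ∀ (g : G) (a : O), g • a - a ∈ IsLocalRing.maximalIdeal O)
    (hcard : ((Nat.card G : ℕ) : IsLocalRing.ResidueField O) ≠ 0) :
    IsCyclic G := by
  obtain ⟨π, hπ⟩ := IsDiscreteValuationRing.exists_irreducible O
  have hm : maximalIdeal O = Ideal.span {π} := hπ.maximalIdeal_eq
  have hπ0 : π ≠ 0 := hπ.ne_zero
  have hres : ∀ (g : G) (a : O), residue O (g • a) = residue O a := by
    intro g a
    have := htriv g a
    rw [← residue_eq_zero_iff, map_sub, sub_eq_zero] at this
    exact this
  -- the multiplier `u g`
  have hu : ∀ g : G, ∃ u : O, g • π = u * π := by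
    intro g
    have h1 : g • π ∈ maximalIdeal O := by
      have h2 := htriv g π
      have h3 : π ∈ maximalIdeal O := by rw [hm]; exact Ideal.mem_span_singleton_self π
      have : g • π = (g • π - π) + π := by ring
      rw [this]; exact Ideal.add_mem _ h2 h3
    rw [hm, Ideal.mem_span_singleton'] at h1
    obtain ⟨u, hu⟩ := h1
    exact ⟨u, hu.symm⟩
  choose u hu using hu
  have hu1 : u 1 = 1 := by
    have := hu 1
    rw [one_smul] at this
    exact (mul_right_cancel₀ hπ0 (by rw [one_mul]; exact this)).symm
  have humul : ∀ g h : G, u (g * h) = (g • u h) * u g := by
    intro g h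
    apply mul_right_cancel₀ hπ0
    rw [← hu, mul_smul, hu h, smul_mul', hu g, mul_assoc]
  let χ : G →* ResidueField O :=
    { toFun := fun g => residue O (u g)
      map_one' := by rw [hu1, map_one]
      map_mul' := by
        intro g h
        rw [humul, map_mul, hres, mul_comm] }
  -- Claim C
  have claimC : ∀ h : G, χ h = 1 → ∀ (n : ℕ) (x : O), x ∈ maximalIdeal O ^ n →
      h • x - x ∈ maximalIdeal O ^ (n + 1) := by
    intro h hh n x hx
    rw [hm, Ideal.span_singleton_pow, Ideal.mem_span_singleton'] at hx
    obtain ⟨w, rfl⟩ := hx
    have h1 : h • (w * π ^ n) - w * π ^ n = ((h • w) * u h ^ n - w) * π ^ n := by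
      rw [smul_mul', smul_pow', hu h]; ring
    rw [h1, pow_succ']
    refine Ideal.mul_mem_mul ?_ ?_
    · rw [← residue_eq_zero_iff, map_sub, map_mul, map_pow, hres]
      have : residue O (u h) = 1 := hh
      rw [this, one_pow, mul_one, sub_self]
    · rw [hm, Ideal.span_singleton_pow]; exact Ideal.mem_span_singleton_self _
  -- kernel is trivial
  have hker : ∀ g : G, χ g = 1 → g = 1 := by
    intro g hg
    have hgj : ∀ j : ℕ, χ (g ^ j) = 1 := fun j => by rw [map_pow, hg, one_pow]
    have hN : IsUnit ((Nat.card G : ℕ) : O) := by
      apply IsLocalRing.notMem_maximalIdeal.mp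
      rw [← residue_eq_zero_iff, map_natCast]
      exact hcard
    have hall : ∀ n : ℕ, ∀ a : O, g • a - a ∈ maximalIdeal O ^ n := by
      intro n
      induction n with
      | zero => intro a; simp
      | succ n ih =>
        intro a
        have claimD : ∀ j : ℕ, g ^ j • a - a - j • (g • a - a) ∈ maximalIdeal O ^ (n + 1) := by
          intro j
          induction j with
          | zero => simp
          | succ j ihj =>
            have e1 : g ^ (j + 1) • a - a - (j + 1) • (g • a - a) =
                (g ^ j • a - a - j • (g • a - a)) + (g ^ j • (g • a - a) - (g • a - a)) := by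
              have e2 : g ^ j • (g • a - a) = g ^ j • g • a - g ^ j • a := smul_sub _ _ _
              rw [pow_succ, mul_smul, e2]
              simp only [nsmul_eq_mul, Nat.cast_succ]
              ring
            rw [e1]
            exact Ideal.add_mem _ ihj (claimC (g ^ j) (hgj j) n _ (ih a))
        have h2 := claimD (Nat.card G)
        rw [pow_card_eq_one', one_smul, sub_self, zero_sub, neg_mem_iff, nsmul_eq_mul] at h2
        exact (Ideal.unit_mul_mem_iff_mem _ hN).mp h2
    apply eq_of_smul_eq_smul (α := O)
    intro a
    rw [one_smul]
    have h3 : g • a - a ∈ ⨅ n, maximalIdeal O ^ n := by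
      rw [Ideal.mem_iInf]; exact fun n => hall n a
    rw [Ideal.iInf_pow_eq_bot_of_isLocalRing _ (IsLocalRing.maximalIdeal.isMaximal O).ne_top] at h3
    exact sub_eq_zero.mp h3
  have hinj : Function.Injective χ := by
    intro g h hgh
    have h1 : χ (h⁻¹ * g) = 1 := by
      rw [map_mul, hgh, ← map_mul, inv_mul_cancel, map_one]
    have h2 := hker _ h1
    exact (inv_mul_eq_one.mp h2).symm
  exact isCyclic_of_injective_ringHom χ hinj

end Groth.Agent.S19856
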