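import Groth.Statements.S19857
import Mathlib
import Groth.Agent.Lib.Helper16.SyntMor
import Groth.Agent.Helper19.LciCancel

set_option autoImplicit false
universe u
open Synt

namespace Groth.Agent.S19857

section helpers
open Synt

open CategoryTheory AlgebraicGeometry

theorem result_aux {X Y S : Scheme.{u}}
    (p : X ⟶ S) (q : Y ⟶ S) [Smooth p] [Smooth q] (f : X ⟶ Y) (hf : f ≫ q = p) [Flat f] :
    Synt.IsSyntomicMor f := by
  have h1 : Groth.Agent.Lib.Helper16.KzComp.LCIMor (f ≫ q) := by
    rw [hf]
    exact Groth.Agent.Helper19.LciMor.lciMor_of_smooth p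
  have h2 : Groth.Agent.Lib.Helper16.KzComp.LCIMor f :=
    Groth.Agent.Helper19.LciCancel.lciMor_of_comp_smooth f q h1
  exact Groth.Agent.Lib.Helper16.SyntMor.isSyntomicMor_of_flat_of_koszul f inferInstance
    ((Groth.Agent.Helper19.LciMor.forall_isKoszulAt_iff f).mpr h2)

end helpers

open CategoryTheory AlgebraicGeometry in
/-- Let S be a scheme, p : X ⟶ S and q : Y ⟶ S smooth morphisms and f : X ⟶ Y a morphism over S (f ≫ q =
p) which is flat. Then f is syntomic (affine-locally given by flat ring maps of finite presentation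
whose fibres are local complete intersections). -/
theorem result {X Y S : Scheme.{u}}
    (p : X ⟶ S) (q : Y ⟶ S) [Smooth p] [Smooth q] (f : X ⟶ Y) (hf : f ≫ q = p) [Flat f] :
    Synt.IsSyntomicMor f := by
  exact result_aux p q f hf

end Groth.Agent.S19857
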