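import Groth.Statements.S19866
import Groth.Agent.Lib.Helper24.CleavageTransport

set_option autoImplicit false
universe v₁ v₂ u₁ u₂
open CategoryTheory
open FibCat

namespace Groth.Agent.S19866

open CategoryTheory CategoryTheory.Functor

set_option backward.isDefEq.respectTransparency false
set_option backward.isDefEq.respectTransparency.types false
open Groth.Agent.Lib.Helper24.ClvTransport Opposite

section
open Pseudofunctor CoGrothendieck
variable {𝒮 : Type u₁} [Category.{v₁} 𝒮] (F : 𝒮ᵒᵖ ⥤ Cat.{v₂, u₂})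

lemma map_id_obj (S : 𝒮) (x : F.obj (op S)) :
    (F.toPseudofunctor'.map (𝟙 S).op.toLoc).toFunctor.obj x = x := by
  change (F.map (𝟙 (op S))).toFunctor.obj x = x
  rw [F.map_id]; rfl

lemma map_comp_obj {S T U : 𝒮} (f : T ⟶ S) (g : U ⟶ T) (x : F.obj (op S)) :
    (F.toPseudofunctor'.map g.op.toLoc).toFunctor.obj
      ((F.toPseudofunctor'.map f.op.toLoc).toFunctor.obj x) =
    (F.toPseudofunctor'.map (g ≫ f).op.toLoc).toFunctor.obj x := by
  change (F.map g.op).toFunctor.obj ((F.map f.op).toFunctor.obj x) = (F.map (g ≫ f).op).toFunctor.obj x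
  rw [op_comp, F.map_comp]; rfl

lemma eqToHom_base' {X Y : ∫ᶜ F.toPseudofunctor'} (h : X = Y) :
    (eqToHom h).base = eqToHom (congrArg CoGrothendieck.base h) := by
  subst h; rfl

lemma eqToHom_fiber' {X Y : ∫ᶜ F.toPseudofunctor'} (h : X = Y) :
    (eqToHom h).fiber = eqToHom (by subst h; exact (map_id_obj F _ _).symm) := by
  subst h
  simp

lemma ofCoGrothendieck_isSplitting :
    (FibCat.Cleavage.ofCoGrothendieck F.toPseudofunctor').IsSplitting := by
  constructor
  · intro S a ha
    obtain ⟨S', x⟩ := a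
    change S' = S at ha
    subst ha
    have h : (FibCat.Cleavage.ofCoGrothendieck F.toPseudofunctor').obj (a := ⟨S', x⟩) rfl (𝟙 S') = ⟨S', x⟩ := by
      change (⟨S', _⟩ : ∫ᶜ F.toPseudofunctor') = ⟨S', x⟩
      congr 1
      rw [eqToHom_refl, Category.comp_id]
      exact map_id_obj F S' x
    refine ⟨h, ?_⟩
    apply Hom.ext
    · rw [eqToHom_fiber']
      simp
      rfl
    · rw [eqToHom_base']
      simp
      change 𝟙 S' ≫ eqToHom _ = 𝟙 S'
      simp
  · intro S T U f g a ha
    obtain ⟨S', x⟩ := a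
    change S' = S at ha
    subst ha
    have h : (FibCat.Cleavage.ofCoGrothendieck F.toPseudofunctor').obj
        ((FibCat.Cleavage.ofCoGrothendieck F.toPseudofunctor').obj_proj (a := ⟨S', x⟩) rfl f) g =
        (FibCat.Cleavage.ofCoGrothendieck F.toPseudofunctor').obj (a := ⟨S', x⟩) rfl (g ≫ f) := by
      change (⟨U, _⟩ : ∫ᶜ F.toPseudofunctor') = ⟨U, _⟩
      congr 1
      simp only [eqToHom_refl, Category.comp_id]
      exact (map_comp_obj F (f ≫ 𝟙 _) g x).trans (by simp)
    refine ⟨h, ?_⟩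
    apply Hom.ext
    · simp [eqToHom_fiber', eqToHom_base']
      change 𝟙 _ ≫ (F.toPseudofunctor'.map _).toFunctor.map (𝟙 _) ≫ eqToHom _ =
        eqToHom _ ≫ (F.toPseudofunctor'.map _).toFunctor.map (𝟙 _) ≫ eqToHom _
      simp
    · simp [eqToHom_base']
      change (g ≫ eqToHom _) ≫ (f ≫ eqToHom _) = (g ≫ f) ≫ eqToHom _
      simp

end


/-- Let p : 𝒳 → 𝒮 be a functor, F : 𝒮ᵒᵖ → Cat a strict functor, and suppose 𝒳 is isomorphic over 𝒮 to
the category of pairs (U, x), x an object of F(U), built from F: there are functors Φ : 𝒳 → ∫F and Ψ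
: ∫F → 𝒳 inverse to each other on the nose with Φ followed by the projection equal to p. Then 𝒳 has
a cleavage over 𝒮 which is a splitting: the chosen transport morphism over each identity is the
identity, and the chosen transport morphism of g at f^* a followed by that of f at a is the chosen
transport morphism of g ≫ f at a. In particular the inverse-image functors of that cleavage satisfy
(fg)^* = g^* f^* on the nose, which is the published conclusion; no fibredness hypothesis is needed,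
𝒳 being fibred as a consequence. -/
theorem result {𝒮 : Type u₁} [Category.{v₁} 𝒮] {𝒳 : Type u₂} [Category.{v₂} 𝒳]
    (p : 𝒳 ⥤ 𝒮) (F : 𝒮ᵒᵖ ⥤ Cat.{v₂, u₂})
    (Φ : 𝒳 ⥤ Pseudofunctor.CoGrothendieck F.toPseudofunctor')
    (Ψ : Pseudofunctor.CoGrothendieck F.toPseudofunctor' ⥤ 𝒳)
    (h₁ : Φ ⋙ Ψ = 𝟭 𝒳) (h₂ : Ψ ⋙ Φ = 𝟭 _)
    (h₃ : Φ ⋙ Pseudofunctor.CoGrothendieck.forget F.toPseudofunctor' = p) :
    ∃ K : FibCat.Cleavage p, K.IsSplitting := by
  exact ⟨transportClv (FibCat.Cleavage.ofCoGrothendieck F.toPseudofunctor') Φ Ψ h₁ h₂ h₃,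
    transportClv_isSplitting _ Φ Ψ h₁ h₂ h₃ (ofCoGrothendieck_isSplitting F)⟩

end Groth.Agent.S19866
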