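import Groth.Statements.S19871
import Mathlib
import Groth.Agent.Lib.Helper20.WeilCohCorr

set_option autoImplicit false
universe u v
open CategoryTheory AlgebraicGeometry
open WeilCoh

namespace Groth.Agent.S19871


open Groth.Agent.Lib.Helper20.WeilCohLib

/-- dual family to a basis of `H^i(X)` inside `H^{2 dim X - i}(X)`. -/
theorem exists_dual_family {k : Type u} [Field k] {K : Type v} [Field K]
    (T : WeilCoh.TheoryOn.{u, v, max u v} k (IsVar k) K) (X : WeilCoh.Var k) (i : ℤ) {ι : Type}
    [Fintype ι] [DecidableEq ι] (e : Module.Basis ι K (T.gr X i)) :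
    ∃ f : ι → T.gr X (2 * (dim X.obj.left : ℤ) - i), ∀ a b : ι,
      T.tr X ((f b : T.H X) * (e a : T.H X)) = if a = b then 1 else 0 := by
  haveI hperf : (pairing K (T.gr X (2 * (dim X.obj.left : ℤ) - i)) (T.gr X i)
      (T.tr X)).IsPerfPair := T.duality X _ _ (by ring)
  refine ⟨fun l => (pairing K (T.gr X (2 * (dim X.obj.left : ℤ) - i)) (T.gr X i)
      (T.tr X)).toPerfPair.symm (e.coord l), fun a b => ?_⟩
  have h := LinearMap.apply_symm_toPerfPair_self
    (pairing K (T.gr X (2 * (dim X.obj.left : ℤ) - i)) (T.gr X i) (T.tr X)) (e.coord b)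
  have h2 := LinearMap.congr_fun h (e a)
  have h3 : T.tr X ((((pairing K (T.gr X (2 * (dim X.obj.left : ℤ) - i)) (T.gr X i)
      (T.tr X)).toPerfPair.symm (e.coord b) : T.gr X (2 * (dim X.obj.left : ℤ) - i)) : T.H X) *
      (e a : T.H X)) = e.coord b (e a) := h2
  rw [h3, Module.Basis.coord_apply, Module.Basis.repr_self, Finsupp.single_apply]

/-- Let `H` be a Weil cohomology theory with coefficients in a field `K` of characteristic zero on
nonsingular connected projective varieties over an algebraically closed field `k`; let `X`, `Y` be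
such varieties and `P` a product `X × Y` with projections `p`, `q`, of dimension `dim X + dim Y`.
For an integer `r`, sending a class `φ ∈ H^{2 dim X + r}(P)` to the family, indexed by all integers
`i`, of the `K`-linear maps `H^i(X) → H^{i+r}(Y)`, `x ↦ q_*(p^* x ∪ φ)`, is a bijection from `H^{2
dim X + r}(P)` onto the families of linear maps `(H^i(X) → H^{i+r}(Y))_i`, i.e. onto the degree-`r`
homomorphisms of graded vector spaces from `H•(X)` to `H•(Y)` (the factors with `i` outside `[0, 2
dim X]` are zero). The target degree is written `i + (2 dim X + r) + 2 dim Y − 2 dim P`, the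
indexing of the push-forward; it equals `i + r` by the dimension hypothesis. (The published lemma
states a canonical isomorphism `Hom^r(H•X, H•Y) ≅ H^{2 dim X + r}(X × Y)(dim X)` obtained from
Poincaré duality on `X` and the Künneth formula, for smooth projective varieties over an arbitrary
field with Tate twists; this row is its case of connected varieties over an algebraically closed
field, without twists, with the isomorphism written as the action of a class by pull-back, cup
product and push-forward.) -/
theorem result (k : Type u) [Field k] [IsAlgClosed k] (K : Type v) [Field K] [CharZero K]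
    (T : WeilCoh.Theory k K) (X Y P : WeilCoh.Var k) (p : P ⟶ X) (q : P ⟶ Y) (hP : WeilCoh.IsProd p q)
    (hdim : WeilCoh.dim P.obj.left = WeilCoh.dim X.obj.left + WeilCoh.dim Y.obj.left) (r : ℤ) :
    Function.Bijective (fun φ : ↥(T.gr P (2 * (WeilCoh.dim X.obj.left : ℤ) + r)) => fun i : ℤ =>
      (T.push q (i + (2 * (WeilCoh.dim X.obj.left : ℤ) + r))) ∘ₗ
        ((LinearMap.mulRight K (φ : T.H P)).restrict (p := T.gr P i) (q := T.gr P (i + (2 * (WeilCoh.dim X.obj.left : ℤ) + r)))
          (fun x hx => SetLike.mul_mem_graded hx φ.2)) ∘ₗ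
        (T.pullDeg p i)) := by
  classical
  have hd' : (dim P.obj.left : ℤ) = dim X.obj.left + dim Y.obj.left := by exact_mod_cast hdim
  constructor
  · -- injectivity
    intro φ φ' h
    apply Subtype.ext
    refine eq_of_forall_tr_mul_left T (2 * (dim P.obj.left : ℤ) - (2 * (dim X.obj.left : ℤ) + r))
      (2 * (dim X.obj.left : ℤ) + r) (by ring) _ _ φ.2 φ'.2 ?_
    intro c _
    refine kunneth_induction T p q hP (fun c => T.tr P (c * (φ : T.H P)) = T.tr P (c * (φ' : T.H P)))
      (by simp) (fun x y hx hy => by simp only [add_mul, map_add, hx, hy]) ?_ c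
    intro s t x y hx hy
    by_cases hst : s + t + (2 * (dim X.obj.left : ℤ) + r) = 2 * (dim P.obj.left : ℤ)
    · -- use the hypothesis
      have h1 := LinearMap.congr_fun (congrFun h s) ⟨x, hx⟩
      have h2 : (T.push q (s + (2 * (dim X.obj.left : ℤ) + r))
          ⟨T.pull p x * (φ : T.H P), SetLike.mul_mem_graded (T.pull_mem p s x hx) φ.2⟩ : T.H Y) =
          (T.push q (s + (2 * (dim X.obj.left : ℤ) + r))
          ⟨T.pull p x * (φ' : T.H P), SetLike.mul_mem_graded (T.pull_mem p s x hx) φ'.2⟩ : T.H Y) :=
        congrArg Subtype.val h1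
      have h3 := congrArg (fun z => T.tr Y (z * y)) h2
      rw [tr_push_mul' T q _ t _ y hy (by omega), tr_push_mul' T q _ t _ y hy (by omega)] at h3
      -- move `q^* y` across `φ`
      have hc1 := T.gradedComm P t (2 * (dim X.obj.left : ℤ) + r) _ _ (T.pull_mem q t y hy) φ.2
      have hc2 := T.gradedComm P t (2 * (dim X.obj.left : ℤ) + r) _ _ (T.pull_mem q t y hy) φ'.2
      rw [mul_assoc, hc1, mul_assoc, hc2, mul_smul_comm, mul_smul_comm, map_smul, map_smul, ← mul_assoc,
        ← mul_assoc]
      exact congrArg _ h3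
    · have hv : ∀ ψ : T.H P, ψ ∈ T.gr P (2 * (dim X.obj.left : ℤ) + r) →
          T.tr P (T.pull p x * T.pull q y * ψ) = 0 := by
        intro ψ hψ
        refine T.tr_vanish P (s + t + (2 * (dim X.obj.left : ℤ) + r)) _
          (SetLike.mul_mem_graded (SetLike.mul_mem_graded (T.pull_mem p s x hx) (T.pull_mem q t y hy)) hψ)
          hst
      rw [hv _ φ.2, hv _ φ'.2]
  · -- surjectivity
    intro L
    let ι : ℕ → Type := fun i => Fin (Module.finrank K (T.gr X (i : ℤ)))
    let e : (i : ℕ) → Module.Basis (ι i) K ↥(T.gr X (i : ℤ)) := fun i => Module.finBasis K _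
    choose f hf using fun i : ℕ => exists_dual_family T X (i : ℤ) (e i)
    let φ0 : T.H P := ∑ i ∈ Finset.range (2 * dim X.obj.left + 1), ∑ a : ι i,
      ((-1 : K) ^ i) • (T.pull p (f i a : T.H X) * T.pull q (L (i : ℤ) (e i a) : T.H Y))
    have hterm : ∀ (i : ℕ) (a : ι i),
        T.pull p (f i a : T.H X) * T.pull q (L (i : ℤ) (e i a) : T.H Y) ∈
          T.gr P (2 * (dim X.obj.left : ℤ) + r) := by
      intro i a
      have h := SetLike.mul_mem_graded (T.pull_mem p _ _ (f i a).2)
        (T.pull_mem q _ _ (L (i : ℤ) (e i a)).2)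
      convert h using 2
      rw [hd']; ring
    have hφ0 : φ0 ∈ T.gr P (2 * (dim X.obj.left : ℤ) + r) :=
      Submodule.sum_mem _ fun i _ => Submodule.sum_mem _ fun a _ =>
        Submodule.smul_mem _ _ (hterm i a)
    refine ⟨⟨φ0, hφ0⟩, ?_⟩
    funext j
    apply LinearMap.ext
    intro x
    -- out of range: `x = 0`
    by_cases hj0 : j < 0 ∨ 2 * (dim X.obj.left : ℤ) < j
    · have hbot := T.vanish X j hj0
      have hx0 : x = 0 := by
        apply Subtype.ext
        have h1 : (x : T.H X) ∈ (⊥ : Submodule K (T.H X)) := hbot ▸ x.2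
        exact (Submodule.mem_bot K).mp h1
      rw [hx0, map_zero, map_zero]
    push Not at hj0
    obtain ⟨hj1, hj2⟩ := hj0
    obtain ⟨j', rfl⟩ := Int.eq_ofNat_of_zero_le hj1
    have hj'le : j' ≤ 2 * dim X.obj.left := by exact_mod_cast hj2
    obtain ⟨x, hx⟩ := x
    apply Subtype.ext
    show (T.push q ((j' : ℤ) + (2 * (dim X.obj.left : ℤ) + r))
      ⟨T.pull p x * φ0, SetLike.mul_mem_graded (T.pull_mem p _ x hx) hφ0⟩ : T.H Y) =
      (L (j' : ℤ) ⟨x, hx⟩ : T.H Y)
    refine eq_of_forall_tr_mul T
      ((j' : ℤ) + (2 * (dim X.obj.left : ℤ) + r) + 2 * (dim Y.obj.left : ℤ) - 2 * (dim P.obj.left : ℤ))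
      (2 * (dim P.obj.left : ℤ) - ((j' : ℤ) + (2 * (dim X.obj.left : ℤ) + r))) (by ring) _ _
      (Subtype.mem _) (Subtype.mem _) ?_
    intro y hy
    rw [tr_push_mul T q _ _ y hy]
    show T.tr P (T.pull p x * φ0 * T.pull q y) = _
    -- expand
    have hexp : T.pull p x * φ0 * T.pull q y =
        ∑ i ∈ Finset.range (2 * dim X.obj.left + 1), ∑ a : ι i,
          ((-1 : K) ^ i) • (T.pull p (x * (f i a : T.H X)) *
            T.pull q ((L (i : ℤ) (e i a) : T.H Y) * y)) := by
      simp only [φ0, Finset.mul_sum, Finset.sum_mul, mul_smul_comm, smul_mul_assoc, map_mul]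
      refine Finset.sum_congr rfl fun i _ => Finset.sum_congr rfl fun a _ => ?_
      congr 1
      simp only [mul_assoc]
    rw [hexp, map_sum]
    simp_rw [map_sum, map_smul, smul_eq_mul]
    rw [Finset.sum_eq_single j']
    · -- the main term
      have hsum : ∀ a : ι j',
          T.tr P (T.pull p (x * (f j' a : T.H X)) * T.pull q ((L (j' : ℤ) (e j' a) : T.H Y) * y)) =
          T.tr X (x * (f j' a : T.H X)) * T.tr Y ((L (j' : ℤ) (e j' a) : T.H Y) * y) := by
        intro a
        refine T.tr_prod p q hP _ _ ?_ ?_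
        · have h := SetLike.mul_mem_graded hx (f j' a).2
          convert h using 2
          ring
        · have h := SetLike.mul_mem_graded (L (j' : ℤ) (e j' a)).2 hy
          convert h using 2
          ring
      simp_rw [hsum]
      -- expand `x` in the basis
      have hxexp : x = ∑ c : ι j', ((e j').repr ⟨x, hx⟩ c) • (e j' c : T.H X) := by
        have h := (e j').sum_repr ⟨x, hx⟩
        have h2 := congrArg (Subtype.val) h
        simp only [AddSubmonoidClass.coe_finsetSum, SetLike.val_smul] at h2
        exact h2.symm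
      have hcoef : ∀ a : ι j', T.tr X (x * (f j' a : T.H X)) =
          (-1 : K) ^ j' * (e j').repr ⟨x, hx⟩ a := by
        intro a
        have hc := T.gradedComm X (j' : ℤ) (2 * (dim X.obj.left : ℤ) - j') x (f j' a : T.H X) hx
          (f j' a).2
        rw [hc, map_smul, smul_eq_mul]
        have hsgn : ((-1 : K) ^ ((j' : ℤ).natAbs * (2 * (dim X.obj.left : ℤ) - j').natAbs)) =
            (-1 : K) ^ j' := by
          have h1 : ((j' : ℤ)).natAbs = j' := Int.natAbs_natCast j'
          have h2 : (2 * (dim X.obj.left : ℤ) - j').natAbs = 2 * dim X.obj.left - j' := by omega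
          rw [h1, h2]
          rcases Nat.even_or_odd j' with hev | hodd
          · rw [hev.neg_one_pow, (hev.mul_right _).neg_one_pow]
          · have : Odd (2 * dim X.obj.left - j') := by
              obtain ⟨m, hm⟩ := hodd
              exact ⟨dim X.obj.left - m - 1, by omega⟩
            rw [hodd.neg_one_pow, (hodd.mul this).neg_one_pow]
        rw [hsgn]
        congr 1
        conv_lhs => rw [hxexp]
        rw [Finset.mul_sum, map_sum]
        simp_rw [mul_smul_comm, map_smul, smul_eq_mul, hf j']
        rw [Finset.sum_eq_single a]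
        · simp
        · intro c _ hca
          simp [hca]
        · intro h
          exact absurd (Finset.mem_univ a) h
      simp_rw [hcoef]
      -- the right-hand side
      have hLx : (L (j' : ℤ) ⟨x, hx⟩ : T.H Y) =
          ∑ a : ι j', ((e j').repr ⟨x, hx⟩ a) • (L (j' : ℤ) (e j' a) : T.H Y) := by
        conv_lhs => rw [← (e j').sum_repr ⟨x, hx⟩]
        rw [map_sum, AddSubmonoidClass.coe_finsetSum]
        refine Finset.sum_congr rfl fun a _ => ?_
        rw [map_smul]; rfl
      rw [hLx, Finset.sum_mul, map_sum]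
      refine Finset.sum_congr rfl fun a _ => ?_
      rw [smul_mul_assoc, map_smul, smul_eq_mul, ← mul_assoc, ← mul_assoc, ← pow_add]
      have : Even (j' + j') := ⟨j', rfl⟩
      rw [this.neg_one_pow, one_mul]
    · intro i _ hij
      refine Finset.sum_eq_zero fun a _ => ?_
      rw [tr_pull_mul_pull_eq_zero T p q hP ((j' : ℤ) + (2 * (dim X.obj.left : ℤ) - i)) _ _ _
        (SetLike.mul_mem_graded hx (f i a).2)
        (SetLike.mul_mem_graded (L (i : ℤ) (e i a)).2 hy) (by
          left
          intro h
          apply hij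
          have : (i : ℤ) = j' := by omega
          exact_mod_cast this), mul_zero]
    · intro h
      exact absurd (Finset.mem_range.mpr (by omega)) h

end Groth.Agent.S19871
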