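import Mathlib
import Groth.Statements.S19890
-- import your own Groth.Agent.* helpers here

set_option autoImplicit false
universe u
open CAlg

namespace Groth.Agent.S19890

open IsLocalRing

/-- Flatness and colon ideals: if `p = {r | a ∣ r * b}` then `p R' = {r' | φ a ∣ r' * φ b}`. -/
theorem mem_map_iff_of_flat {R R' : Type u} [CommRing R] [CommRing R'] [Algebra R R']
    [Module.Flat R R'] (p : Ideal R) (a b : R) (hb : ∀ r, r ∈ p ↔ a ∣ r * b) (r' : R') :
    r' ∈ p.map (algebraMap R R') ↔ algebraMap R R' a ∣ r' * algebraMap R R' b := by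
  constructor
  · intro h
    induction h using Submodule.span_induction with
    | mem x hx =>
      obtain ⟨r, hr, rfl⟩ := hx
      obtain ⟨c, hc⟩ := (hb r).mp hr
      exact ⟨algebraMap R R' c, by rw [← map_mul, ← map_mul, hc]⟩
    | zero => simp
    | add x y _ _ hx hy => rw [add_mul]; exact dvd_add hx hy
    | smul c x _ hx => rw [smul_eq_mul, mul_assoc]; exact Dvd.dvd.mul_left hx c
  · rintro ⟨s', hs'⟩
    -- relation `b • r' - a • s' = 0`
    obtain ⟨k, α, y, hxy, hα⟩ := Module.Flat.isTrivialRelation_of_sum_smul_eq_zero (R := R)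
      (M := R') (f := ![b, -a]) (x := ![r', s']) (by
        simp only [Fin.sum_univ_two, Matrix.cons_val_zero, Matrix.cons_val_one, Algebra.smul_def,
          map_neg]
        rw [mul_comm, hs']; ring)
    have h0 := hxy 0
    simp only [Matrix.cons_val_zero] at h0
    rw [h0]
    refine Ideal.sum_mem _ fun j _ => ?_
    rw [Algebra.smul_def]
    refine Ideal.mul_mem_right _ _ (Ideal.mem_map_of_mem _ ?_)
    rw [hb]
    have := hα j
    simp only [Fin.sum_univ_two, Matrix.cons_val_zero, Matrix.cons_val_one] at this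
    exact ⟨α 1 j, by linear_combination this⟩

/-- Let R → R' be a faithfully flat ring map between Noetherian integrally closed local domains. Then
unique factorization descends along this map: when R' is a UFD, so is R. (The first assertion of the
lemma, descent of principality for an ideal whose extension to R' is principal, is a separate
statement.) -/
theorem result
    (R R' : Type u) [CommRing R] [CommRing R'] [IsDomain R] [IsDomain R']
    [IsNoetherianRing R] [IsNoetherianRing R'] [IsLocalRing R] [IsLocalRing R']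
    [IsIntegrallyClosed R] [IsIntegrallyClosed R']
    [Algebra R R'] [Module.FaithfullyFlat R R'] [UniqueFactorizationMonoid R'] :
    UniqueFactorizationMonoid R := by
  rw [UniqueFactorizationMonoid.iff_exists_prime_mem_of_isPrime]
  intro P hP0 hPprime
  obtain ⟨a, haP, ha0⟩ := Submodule.exists_mem_ne_zero_of_ne_bot hP0
  obtain ⟨p, hpmin, hpP⟩ := Ideal.exists_minimalPrimes_le
    (show Ideal.span {a} ≤ P from (Ideal.span_singleton_le_iff_mem _).mpr haP)
  have hpprime : p.IsPrime := hpmin.1.1
  have hap : a ∈ p := hpmin.1.2 (Ideal.mem_span_singleton_self a)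
  have hass : p ∈ associatedPrimes R (R ⧸ Ideal.span {a}) := by
    apply Module.associatedPrimes.minimalPrimes_annihilator_subset_associatedPrimes
    rwa [Ideal.annihilator_quotient]
  obtain ⟨-, x0, hx0⟩ := isAssociatedPrime_iff.mp hass
  obtain ⟨b, rfl⟩ := Ideal.Quotient.mk_surjective x0
  have hb : ∀ r, r ∈ p ↔ a ∣ r * b := by
    intro r
    rw [hx0, Submodule.mem_colon_singleton, Submodule.mem_bot, Algebra.smul_def,
      Ideal.Quotient.algebraMap_eq, ← map_mul, Ideal.Quotient.eq_zero_iff_mem,
      Ideal.mem_span_singleton]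
  set φ := algebraMap R R' with hφ
  have hφinj : Function.Injective φ := FaithfulSMul.algebraMap_injective R R'
  have hpR' := mem_map_iff_of_flat (R' := R') p a b hb
  -- gcd computation in `R'`
  let _ : GCDMonoid R' := UniqueFactorizationMonoid.toGCDMonoid R'
  have ha'0 : φ a ≠ 0 := fun h => ha0 (hφinj (by rw [h, map_zero]))
  set g := gcd (φ a) (φ b) with hg
  obtain ⟨a₁, ha₁⟩ : g ∣ φ a := gcd_dvd_left _ _
  obtain ⟨b₁, hb₁⟩ : g ∣ φ b := gcd_dvd_right _ _
  have hg0 : g ≠ 0 := fun h => ha'0 (by rw [ha₁, h, zero_mul])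
  have ha₁0 : a₁ ≠ 0 := fun h => ha'0 (by rw [ha₁, h, mul_zero])
  have hrel : IsRelPrime a₁ b₁ := by
    rw [← gcd_isUnit_iff_isRelPrime]
    exact isUnit_gcd_of_eq_mul_gcd ha₁ hb₁ hg0
  have hJ : p.map φ = Ideal.span {a₁} := by
    ext r'
    rw [hpR', Ideal.mem_span_singleton]
    conv_lhs => rw [ha₁, hb₁, mul_left_comm, mul_dvd_mul_iff_left hg0]
    exact ⟨fun h => hrel.dvd_of_dvd_mul_right h, fun h => Dvd.dvd.mul_right h b₁⟩
  -- find a generator coming from `p`
  obtain ⟨x, hxp, t, ht, hxt⟩ : ∃ x ∈ p, ∃ t, IsUnit t ∧ φ x = a₁ * t := by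
    by_contra hcon
    push Not at hcon
    have hle : p.map φ ≤ maximalIdeal R' * Ideal.span {a₁} := by
      rw [Ideal.map_le_iff_le_comap]
      intro x hx
      have h1 : φ x ∈ p.map φ := Ideal.mem_map_of_mem _ hx
      rw [hJ, Ideal.mem_span_singleton] at h1
      obtain ⟨t, ht⟩ := h1
      have h2 : t ∈ maximalIdeal R' := by
        rw [mem_maximalIdeal, mem_nonunits_iff]
        exact fun hu => hcon x hx t hu ht
      rw [Ideal.mem_comap, ht, mul_comm a₁ t]
      exact Ideal.mul_mem_mul h2 (Ideal.mem_span_singleton_self a₁)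
    have h3 : a₁ ∈ maximalIdeal R' * Ideal.span {a₁} :=
      hle (hJ ▸ Ideal.mem_span_singleton_self a₁)
    rw [Ideal.mem_mul_span_singleton] at h3
    obtain ⟨z, hz, hza⟩ := h3
    have h4 : (1 - z) * a₁ = 0 := by rw [sub_mul, one_mul, hza, sub_self]
    rcases mul_eq_zero.mp h4 with h5 | h5
    · have : IsUnit (1 - z) := by
        have hz' : ¬ IsUnit z := hz
        exact (IsLocalRing.isUnit_or_isUnit_one_sub_self z).resolve_left hz'
      rw [h5] at this
      exact not_isUnit_zero this
    · exact ha₁0 h5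
  have hx : p.map φ = Ideal.span {φ x} := by
    rw [hJ, hxt]
    exact (Ideal.span_singleton_mul_right_unit ht a₁).symm
  have hpx : p = Ideal.span {x} := by
    have h1 : (Ideal.span {x}).map φ = p.map φ := by
      rw [Ideal.map_span, Set.image_singleton, hx]
    have h2 := congrArg (Ideal.comap φ) h1
    rw [Ideal.comap_map_eq_self_of_faithfullyFlat, Ideal.comap_map_eq_self_of_faithfullyFlat] at h2
    exact h2.symm
  have hx0' : x ≠ 0 := by
    rintro rfl
    apply ha0
    have : a ∈ Ideal.span {(0 : R)} := hpx ▸ hap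
    simpa using this
  refine ⟨x, hpP hxp, ?_⟩
  rw [← Ideal.span_singleton_prime hx0', ← hpx]
  exact hpprime

end Groth.Agent.S19890
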