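import Mathlib
import Groth.Statements.S19891
import Groth.Agent.Lib.Helper12.QCSpecialization
-- import your own Groth.Agent.* helpers here

set_option autoImplicit false
universe u
open CategoryTheory AlgebraicGeometry
open ValCrit

namespace Groth.Agent.S19891

open IsLocalRing CategoryTheory.Limits in
set_option backward.isDefEq.respectTransparency.types false in
/-- the image of the diagonal is stable under specialization, given the refined criterion -/
theorem specializingMap_diagonal {X Y Z : Scheme.{u}} (h : Z ⟶ Y) (f : Y ⟶ X) [QuasiCompact h]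
    (hd : DenseRange h.base)
    (H : ∀ (z : ↥Z) (R : ValuationSubring ↑(Z.residueField z)) (φ : Spec (CommRingCat.of ↥R) ⟶ X),
        Spec.map (CommRingCat.ofHom R.subtype) ≫ φ = Z.fromSpecResidueField z ≫ h ≫ f →
        ∀ φ₁ φ₂ : Spec (CommRingCat.of ↥R) ⟶ Y,
          Spec.map (CommRingCat.ofHom R.subtype) ≫ φ₁ = Z.fromSpecResidueField z ≫ h → φ₁ ≫ f = φ →
          Spec.map (CommRingCat.ofHom R.subtype) ≫ φ₂ = Z.fromSpecResidueField z ≫ h → φ₂ ≫ f = φ →
          φ₁ = φ₂) :
    SpecializingMap (pullback.diagonal f) := by
  intro y w hyw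
  obtain ⟨z, -, hz⟩ := Groth.Agent.Lib.Helper12.exists_specializes_of_mem_closure_image h Set.univ
    isClosed_univ y (by rw [Set.image_univ, hd.closure_range]; trivial)
  have hgw : (h ≫ pullback.diagonal f) z ⤳ w := by
    rw [Scheme.Hom.comp_apply]
    exact (hz.map (pullback.diagonal f).continuous).trans hyw
  let st : (pullback f f).presheaf.stalk w ⟶ Z.residueField z :=
    (pullback f f).presheaf.stalkSpecializes hgw ≫ (h ≫ pullback.diagonal f).stalkMap z ≫
      Z.residue z
  obtain ⟨A, hA, hA_local⟩ := exists_factor_valuationRing st.hom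
  let stA : (pullback f f).presheaf.stalk w ⟶ .of A :=
    CommRingCat.ofHom (st.hom.codRestrict _ hA)
  have hw' : Z.fromSpecResidueField z ≫ (h ≫ pullback.diagonal f) =
      Spec.map (CommRingCat.ofHom (algebraMap A (Z.residueField z))) ≫
        Spec.map stA ≫ (pullback f f).fromSpecStalk w := by
    rw [Scheme.fromSpecResidueField, Category.assoc, ← Scheme.SpecMap_stalkMap_fromSpecStalk,
      ← Scheme.SpecMap_stalkSpecializes_fromSpecStalk hgw]
    simp_rw [← Spec.map_comp_assoc]
    rfl
  let ψ : Spec (.of A) ⟶ pullback f f := Spec.map stA ≫ (pullback f f).fromSpecStalk w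
  have hψgen : Spec.map (CommRingCat.ofHom A.subtype) ≫ ψ =
      Z.fromSpecResidueField z ≫ h ≫ pullback.diagonal f := hw'.symm
  have key := H z A (ψ ≫ pullback.fst f f ≫ f)
    (by rw [reassoc_of% hψgen]; simp)
    (ψ ≫ pullback.fst f f) (ψ ≫ pullback.snd f f)
    (by rw [reassoc_of% hψgen]; simp) (by simp)
    (by rw [reassoc_of% hψgen]; simp) (by simp [pullback.condition])
  have hψ : ψ = (ψ ≫ pullback.fst f f) ≫ pullback.diagonal f := by
    apply pullback.hom_ext
    · simp
    · simp only [Category.assoc, pullback.diagonal_snd, Category.comp_id]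
      exact key.symm
  have hcl : ψ (closedPoint A) = w := by
    change (Spec.map stA ≫ (pullback f f).fromSpecStalk w) (closedPoint A) = w
    rw [Scheme.Hom.comp_apply]
    have : Spec.map stA (closedPoint A) = closedPoint ((pullback f f).presheaf.stalk w) :=
      comap_closedPoint (S := A) (st.hom.codRestrict A.toSubring hA)
    rw [this, (pullback f f).fromSpecStalk_closedPoint]
  have hΔ : pullback.diagonal f ((ψ ≫ pullback.fst f f) (closedPoint A)) = w := by
    rw [← Scheme.Hom.comp_apply, ← hψ, hcl]
  refine ⟨(ψ ≫ pullback.fst f f) (closedPoint A), ?_, hΔ⟩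
  change y ⤳ (ψ ≫ pullback.fst f f) (closedPoint A)
  rw [← (pullback.diagonal f).isEmbedding.isInducing.specializes_iff, hΔ]
  exact hyw

open CategoryTheory.Limits in
/-- Let h : Z → Y and f : Y → X be morphisms of quasi-compact quasi-separated schemes, with h dominant.
Then f is separated if and only if the following refined uniqueness criterion holds: for every point
z of Z, every valuation ring R of the residue field κ(z) and every morphism φ : Spec R → X whose
restriction to Spec κ(z) is the canonical morphism Spec κ(z) → Z → Y → X, any two morphisms Spec R →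
Y lying over φ and restricting to Spec κ(z) → Z → Y on the generic point coincide. (The published
statement does not require h to be dominant; its proof uses that every point of Y generalises to a
point of h(Z), and for Z empty the criterion holds whatever f is, so dominance of h is assumed
here.) -/
theorem result {X Y Z : Scheme.{u}} (h : Z ⟶ Y) (f : Y ⟶ X)
    [CompactSpace ↥Z] [QuasiSeparatedSpace ↥Z] [CompactSpace ↥Y] [QuasiSeparatedSpace ↥Y]
    [CompactSpace ↥X] [QuasiSeparatedSpace ↥X] (hd : DenseRange h.base) :
    IsSeparated f ↔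
      ∀ (z : ↥Z) (R : ValuationSubring ↑(Z.residueField z)) (φ : Spec (CommRingCat.of ↥R) ⟶ X),
        Spec.map (CommRingCat.ofHom R.subtype) ≫ φ = Z.fromSpecResidueField z ≫ h ≫ f →
        ∀ φ₁ φ₂ : Spec (CommRingCat.of ↥R) ⟶ Y,
          Spec.map (CommRingCat.ofHom R.subtype) ≫ φ₁ = Z.fromSpecResidueField z ≫ h → φ₁ ≫ f = φ →
          Spec.map (CommRingCat.ofHom R.subtype) ≫ φ₂ = Z.fromSpecResidueField z ≫ h → φ₂ ≫ f = φ →
          φ₁ = φ₂ := by
  constructor
  · intro hsep z R φ hφ φ₁ φ₂ h₁ h₁' h₂ h₂'
    let S : ValuativeCommSq f :=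
      { R := ↥R
        K := Z.residueField z
        i₁ := Z.fromSpecResidueField z ≫ h
        i₂ := φ
        commSq := ⟨by rw [Category.assoc]; exact hφ.symm⟩ }
    have hsub := IsSeparated.valuativeCriterion f S
    have : (⟨φ₁, h₁, h₁'⟩ : S.commSq.LiftStruct) = ⟨φ₂, h₂, h₂'⟩ := Subsingleton.elim _ _
    exact congrArg CommSq.LiftStruct.l this
  · intro H
    haveI : QuasiSeparated f := by
      have : QuasiSeparated (f ≫ terminal.from X) := by
        rw [terminal.comp_from]
        exact (quasiSeparatedSpace_iff_quasiSeparated Y).mp inferInstance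
      exact QuasiSeparated.of_comp f (terminal.from X)
    haveI : QuasiCompact h := by
      have : QuasiCompact (h ≫ terminal.from Y) := by
        rw [terminal.comp_from]
        exact (compactSpace_iff_quasiCompact Z).mp inferInstance
      haveI : QuasiSeparated (terminal.from Y) :=
        (quasiSeparatedSpace_iff_quasiSeparated Y).mp inferInstance
      exact QuasiCompact.of_comp h (terminal.from Y)
    refine ⟨?_⟩
    have hcl : IsClosedMap (pullback.diagonal f) :=
      (isClosedMap_iff_specializingMap (pullback.diagonal f)).mpr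
        (specializingMap_diagonal h f hd H)
    exact .of_isPreimmersion _ hcl.isClosed_range

end Groth.Agent.S19891
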