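import Groth.Statements.S19892
import Groth.Agent.S19891
import Groth.Agent.Lib.Helper10.ValCritRed

set_option autoImplicit false
universe u
open CategoryTheory AlgebraicGeometry
open ValCrit

namespace Groth.Agent.S19892

/-- Let h : Z → Y and f : Y → X be morphisms of quasi-compact quasi-separated schemes, with h dominant
and f locally of finite type. Then f is proper if and only if the following refined valuative
criterion holds: for every point z of Z, every valuation ring R of the residue field κ(z) and every
morphism φ : Spec R → X whose restriction to Spec κ(z) is the canonical morphism Spec κ(z) → Z → Y →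
X, there is exactly one morphism Spec R → Y lying over φ and restricting to Spec κ(z) → Z → Y on the
generic point. (The published statement does not require h to be dominant; its proof uses that every
point of Y generalises to a point of h(Z), and for Z empty the criterion holds whatever f is, so
dominance of h is assumed here.) -/
theorem result {X Y Z : Scheme.{u}} (h : Z ⟶ Y) (f : Y ⟶ X)
    [CompactSpace ↥Z] [QuasiSeparatedSpace ↥Z] [CompactSpace ↥Y] [QuasiSeparatedSpace ↥Y]
    [CompactSpace ↥X] [QuasiSeparatedSpace ↥X] (hd : DenseRange h.base)
    [LocallyOfFiniteType f] :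
    IsProper f ↔
      ∀ (z : ↥Z) (R : ValuationSubring ↑(Z.residueField z)) (φ : Spec (CommRingCat.of ↥R) ⟶ X),
        Spec.map (CommRingCat.ofHom R.subtype) ≫ φ = Z.fromSpecResidueField z ≫ h ≫ f →
        ∃! φ' : Spec (CommRingCat.of ↥R) ⟶ Y,
          Spec.map (CommRingCat.ofHom R.subtype) ≫ φ' = Z.fromSpecResidueField z ≫ h ∧ φ' ≫ f = φ := by
  haveI : QuasiCompact f := by
    have : QuasiCompact (f ≫ Limits.terminal.from X) := by
      rw [Limits.terminal.comp_from]
      exact (compactSpace_iff_quasiCompact Y).mp inferInstance
    haveI : QuasiSeparated (Limits.terminal.from X) :=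
      (quasiSeparatedSpace_iff_quasiSeparated X).mp inferInstance
    exact QuasiCompact.of_comp f (Limits.terminal.from X)
  haveI : QuasiCompact h := by
    have : QuasiCompact (h ≫ Limits.terminal.from Y) := by
      rw [Limits.terminal.comp_from]
      exact (compactSpace_iff_quasiCompact Z).mp inferInstance
    haveI : QuasiSeparated (Limits.terminal.from Y) :=
      (quasiSeparatedSpace_iff_quasiSeparated Y).mp inferInstance
    exact QuasiCompact.of_comp h (Limits.terminal.from Y)
  constructor
  · intro hprop z R φ hφ
    let S : ValuativeCommSq f :=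
      { R := ↥R
        K := Z.residueField z
        i₁ := Z.fromSpecResidueField z ≫ h
        i₂ := φ
        commSq := ⟨by rw [Category.assoc]; exact hφ.symm⟩ }
    have hvc : ValuativeCriterion f := by
      have := IsProper.eq_valuativeCriterion
      have h2 : (@IsProper : MorphismProperty Scheme.{u}) f := hprop
      rw [this] at h2
      exact h2.1.1.1
    obtain ⟨hu⟩ := hvc S
    refine ⟨hu.default.l, ⟨hu.default.fac_left, hu.default.fac_right⟩, ?_⟩
    rintro φ₂ ⟨h1, h2⟩
    exact congrArg CommSq.LiftStruct.l (hu.uniq ⟨φ₂, h1, h2⟩)
  · intro H
    haveI hsep : IsSeparated f := by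
      refine (Groth.Agent.S19891.result h f hd).mpr ?_
      intro z R φ hφ φ₁ φ₂ h1 h1' h2 h2'
      obtain ⟨φ', -, huniq⟩ := H z R φ hφ
      exact (huniq φ₁ ⟨h1, h1'⟩).trans (huniq φ₂ ⟨h2, h2'⟩).symm
    haveI huc : UniversallyClosed f :=
      UniversallyClosed.of_valuativeCriterion f
        (Groth.Agent.Lib.Helper10.ValCrit.existence_of_refined h f hd H)
    exact { }

end Groth.Agent.S19892
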