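import Mathlib
import Groth.Statements.S19895
import Groth.Agent.Lib.Helper4.VerlindeSchur
-- import your own Groth.Agent.* helpers here

set_option autoImplicit false
open Complex
open VerlindeComb

namespace Groth.Agent.S19895

open Groth.Agent.Lib.Helper4.Verlinde in
/-- Fix integers r ≥ 2 and k ≥ 1, and two partitions λ, λ' with k ≥ λ_1 ≥ ⋯ ≥ λ_{r-1} ≥ λ_r = 0 and k ≥
λ'_1 ≥ ⋯ ≥ λ'_{r-1} ≥ λ'_r = 0 such that λ is not equivalent to the dual partition λ'* = (k − λ'_r,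
…, k − λ'_1), two integer vectors being equivalent when their difference is a constant vector (a, …,
a). For an integer vector v with r + k > v_1 > ⋯ > v_{r-1} > v_r = 0 put z(v)_j = exp(2πi v_j / (r +
k)), let S_μ(v) = det(z(v)_j^{μ_i + r − i}) / det(z(v)_j^{r − i}) be the Schur value and P(v) =
∏_{i<j} (2 sin(π (v_i − v_j)/(r + k)))². Then the sum over all such v of exp(−2πi (|λ| + |λ'|) (v_1
+ ⋯ + v_r) / (r (r + k))) · S_λ(v) · S_{λ'}(v) · P(v) vanishes; that is, the genus-zero Verlinde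
number of rank r, degree 0 and level k with two parabolic points of types λ, λ' is zero. (Only the
vanishing case is stated; the complementary case, where the number equals 1, is not part of this
statement. The source allows r = 1, where the non-equivalence hypothesis cannot hold.) Indices are
0-based below: lam i stands for λ_{i+1}. -/
theorem result (r k : ℕ) (hr : 2 ≤ r)
    (hk : 1 ≤ k) (lam lam' : Fin r → ℕ) (hlam : Antitone lam) (hlamk : ∀ i, lam i ≤ k)
    (hlam0 : ∀ i : Fin r, (i : ℕ) = r - 1 → lam i = 0)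
    (hlam' : Antitone lam') (hlam'k : ∀ i, lam' i ≤ k) (hlam'0 : ∀ i : Fin r, (i : ℕ) = r - 1 → lam' i = 0)
    (hne : ¬ ∃ a : ℤ, ∀ i, (lam i : ℤ) - ((k - lam' (Fin.rev i) : ℕ) : ℤ) = a)
    (z : (Fin r → ℕ) → Fin r → ℂ)
    (hz : ∀ v j, z v j = Complex.exp (2 * Real.pi * Complex.I * (v j : ℂ) / ((r : ℂ) + k)))
    (S : (Fin r → ℕ) → (Fin r → ℕ) → ℂ)
    (hS : ∀ μ v, S μ v = (Matrix.of fun i j : Fin r => z v j ^ (μ i + (r - 1 - (i : ℕ)))).det /
        (Matrix.of fun i j : Fin r => z v j ^ (r - 1 - (i : ℕ))).det)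
    (P : (Fin r → ℕ) → ℝ)
    (hP : ∀ v, P v = ∏ p ∈ (Finset.univ : Finset (Fin r × Fin r)).filter (fun p => p.1 < p.2),
        ((2 : ℝ) * Real.sin (Real.pi * ((v p.1 : ℝ) - (v p.2 : ℝ)) / ((r : ℝ) + k))) ^ 2) :
    (∑ v ∈ (Finset.univ : Finset (Fin r → Fin (r + k))).filter
        (fun v : Fin r → Fin (r + k) => StrictAnti v ∧ ∀ i : Fin r, (i : ℕ) = r - 1 → (v i : ℕ) = 0),
      Complex.exp (-(2 * Real.pi * Complex.I * (((∑ i, lam i) + (∑ i, lam' i) : ℕ) : ℂ) *
          ((∑ j, (v j : ℕ) : ℕ) : ℂ) / ((r : ℂ) * ((r : ℂ) + k)))) *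
        S lam (fun j => (v j : ℕ)) * S lam' (fun j => (v j : ℕ)) * (P (fun j => (v j : ℕ)) : ℂ)) = 0 := by
  classical
  haveI : NeZero (r + k) := ⟨by omega⟩
  -- the exponents
  obtain ⟨l, hl⟩ : ∃ l : Fin r → ℕ, l = fun i => lam i + delta r i := ⟨_, rfl⟩
  obtain ⟨l', hl'⟩ : ∃ l' : Fin r → ℕ, l' = fun i => lam' i + delta r i := ⟨_, rfl⟩
  have hl'le : ∀ i, l' i ≤ r + k - 1 := by
    intro i
    have h1 := hlam'k i
    have h2 := delta_le i
    simp only [hl']
    omega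
  have hlle : ∀ i, l i ≤ r + k - 1 := by
    intro i
    have h1 := hlamk i
    have h2 := delta_le i
    simp only [hl]
    omega
  obtain ⟨p', hp'⟩ : ∃ p' : Fin r → ℕ, p' = fun i => (r + k - 1) - l' (Fin.rev i) := ⟨_, rfl⟩
  have hlanti : StrictAnti l := by rw [hl]; exact strictAnti_add_delta lam hlam
  have hl'anti : StrictAnti l' := by rw [hl']; exact strictAnti_add_delta lam' hlam'
  have hp'anti : StrictAnti p' := by
    intro a b hab
    have h1 : l' (Fin.rev a) < l' (Fin.rev b) := hl'anti (Fin.rev_lt_rev.mpr hab)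
    have h2 := hl'le (Fin.rev b)
    simp only [hp']
    omega
  have hp'cast : ∀ i, (p' i : ℤ) = ((r : ℤ) + k - 1) - (lam' (Fin.rev i) : ℤ) - (i : ℤ) := by
    intro i
    have h1 := hl'le (Fin.rev i)
    have h2 := delta_rev i
    have h3 := hlam'k (Fin.rev i)
    have h4 := i.isLt
    simp only [hp'] 
    simp only [hl'] at h1 ⊢
    rw [h2] at h1 ⊢
    omega
  have hlcast : ∀ i, (l i : ℤ) = (lam i : ℤ) + ((r : ℤ) - 1 - (i : ℤ)) := by
    intro i
    simp only [hl, delta]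
    have := i.isLt
    omega
  have hne' : ¬ ∃ a : ℤ, ∀ i, (l i : ℤ) - (p' i : ℤ) = a := by
    rintro ⟨a, ha⟩
    apply hne
    refine ⟨a, fun i => ?_⟩
    rw [← ha i, hp'cast, hlcast, Nat.cast_sub (hlam'k _)]
    ring
  -- the twist
  set c : ℤ := ((∑ i, lam i : ℕ) : ℤ) + ((∑ i, lam' i : ℕ) : ℤ) - (r : ℤ) * (k : ℤ) with hc
  have hcsum : c = ((∑ i, l i : ℕ) : ℤ) - ((∑ i, p' i : ℕ) : ℤ) := by
    push_cast
    simp only [hp'cast, hlcast]
    rw [hc]
    push_cast
    simp only [Finset.sum_add_distrib, Finset.sum_sub_distrib, Finset.sum_const, Finset.card_univ,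
      Fintype.card_fin, nsmul_eq_mul]
    have hrev : ∑ x : Fin r, (lam' (Fin.rev x) : ℤ) = ∑ x, (lam' x : ℤ) :=
      Equiv.sum_comp Fin.revPerm (fun i => (lam' i : ℤ))
    rw [hrev]
    ring
  have hcore := core (N := r + k) l p' hlanti hp'anti (fun i => by have := hlle i; omega)
    (fun i => by simp only [hp']; omega) hne' c hcsum
  refine Eq.trans (Finset.sum_congr rfl (fun v hv => ?_)) hcore
  simp only [Finset.mem_filter, Finset.mem_univ, true_and] at hv
  set vv : Fin r → ℕ := fun j => (v j : ℕ) with hvv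
  have hzv : ∀ j, z vv j = chi (r + k) (vv j : ℤ) := by
    intro j
    rw [hz]
    unfold chi
    congr 1
    push_cast
    ring
  have hvinj : Function.Injective vv := by
    intro a b hab
    exact hv.1.injective (Fin.ext hab)
  have hD0 : D (r + k) (delta r) vv ≠ 0 := D_delta_ne_zero vv hvinj (fun i => (v i).isLt)
  have hSl : ∀ μ : Fin r → ℕ, S μ vv = D (r + k) (fun i => μ i + delta r i) vv /
      D (r + k) (delta r) vv := by
    intro μ
    rw [hS, det_eq_D (z vv) vv hzv, det_eq_D_delta (z vv) vv hzv]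
  have hPv : ((P vv : ℝ) : ℂ) = D (r + k) (delta r) vv *
      (starRingEnd ℂ) (D (r + k) (delta r) vv) := by
    rw [hP, ← prod_sin_eq (N := r + k) vv]
    push_cast
    rfl
  have hdual := D_dual (N := r + k) l' vv (r + k - 1) hl'le
  have hdual' : (starRingEnd ℂ) (D (r + k) p' vv) =
      (Equiv.Perm.sign (Fin.revPerm : Equiv.Perm (Fin r)) : ℂ) *
        chi (r + k) (-(((r + k - 1 : ℕ) : ℤ) * ((∑ j, vv j : ℕ) : ℤ))) * D (r + k) l' vv := by
    rw [hp', hdual, map_mul, map_mul, conj_chi, Complex.conj_conj]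
    congr 2
    rcases Int.units_eq_one_or (Equiv.Perm.sign (Fin.revPerm : Equiv.Perm (Fin r))) with h | h <;>
      simp [h]
  have hSl1 : S lam vv = D (r + k) l vv / D (r + k) (delta r) vv := by rw [hl]; exact hSl lam
  have hSl2 : S lam' vv = D (r + k) l' vv / D (r + k) (delta r) vv := by rw [hl']; exact hSl lam'
  rw [hSl1, hSl2, hPv, conj_D_delta]
  unfold G0
  rw [hdual']
  have hkey : Complex.exp (-(2 * Real.pi * Complex.I * (((∑ i, lam i) + (∑ i, lam' i) : ℕ) : ℂ) *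
          ((∑ j, (v j : ℕ) : ℕ) : ℂ) / ((r : ℂ) * ((r : ℂ) + k)))) *
      chi (r + k) (-(((r - 1 : ℕ) : ℤ) * ((∑ j, vv j : ℕ) : ℤ))) =
      E (r + k) r c (∑ j, (v j : ℕ)) *
        chi (r + k) (-(((r + k - 1 : ℕ) : ℤ) * ((∑ j, vv j : ℕ) : ℤ))) := by
    unfold E chi
    rw [← Complex.exp_add, ← Complex.exp_add]
    congr 1
    have hr0 : (r : ℂ) ≠ 0 := Nat.cast_ne_zero.mpr (by omega)
    have hN0 : ((r : ℂ) + k) ≠ 0 := by
      have : ((r + k : ℕ) : ℂ) ≠ 0 := Nat.cast_ne_zero.mpr (by omega)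
      simpa using this
    rw [hc, Nat.cast_sub (by omega : 1 ≤ r), Nat.cast_sub (by omega : 1 ≤ r + k)]
    simp only [hvv]
    push_cast
    field_simp
    ring
  have e1 : ∀ (a b d x : ℂ), d ≠ 0 → a / d * (b / d) * (d * (x * d)) = a * b * x := by
    intro a b d x hd
    field_simp
  linear_combination
    Complex.exp (-(2 * Real.pi * Complex.I * (((∑ i, lam i) + (∑ i, lam' i) : ℕ) : ℂ) *
          ((∑ j, (v j : ℕ) : ℕ) : ℂ) / ((r : ℂ) * ((r : ℂ) + k)))) *
      (e1 (D (r + k) l vv) (D (r + k) l' vv) (D (r + k) (delta r) vv)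
        (((Equiv.Perm.sign (Fin.revPerm : Equiv.Perm (Fin r)) : ℤˣ) : ℂ) *
          chi (r + k) (-(((r - 1 : ℕ) : ℤ) * ((∑ j, vv j : ℕ) : ℤ)))) hD0) +
    (D (r + k) l vv * D (r + k) l' vv *
    ((Equiv.Perm.sign (Fin.revPerm : Equiv.Perm (Fin r)) : ℤˣ) : ℂ)) * hkey

end Groth.Agent.S19895
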