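import Groth.Statements.S19901
import Groth.Agent.Lib.Helper24.LciSmLocal
import Groth.Agent.Lib.Helper24.SmLocus2

set_option autoImplicit false
universe u
open CategoryTheory AlgebraicGeometry
open AlgSt

namespace Groth.Agent.S19901

open CategoryTheory AlgebraicGeometry
open AlgSt
open CategoryTheory AlgebraicGeometry Opposite
open Groth.Agent.Lib.Helper24.SmLocus1 Groth.Agent.Lib.Helper24.SmLocus2
open Groth.Agent.Lib.Helper24.AlgStLocQ3 Groth.Agent.Lib.Helper24.AlgStLocQ9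
open Groth.Agent.Lib.Helper24.AlgStLocQ7 Groth.Agent.Lib.Helper24.AlgStLocQ6
open Groth.Agent.Lib.Helper24.LciSmLocal Groth.Agent.Lib.Helper24.AlgSpSmLocal
open Groth.Agent.Helper19.AlgSpLci

set_option backward.isDefEq.respectTransparency false in
set_option backward.isDefEq.respectTransparency.types false in

/-- Let f : 𝒳 → 𝒴, q : 𝒴 → 𝒵 and p : 𝒳 → 𝒵 be morphisms of algebraic stacks forming a 2-commutative
triangle (a 2-isomorphism between q ∘ f and p is given). If q is smooth and p is a local complete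
intersection morphism (Koszul), then f is a local complete intersection morphism. Smooth and local
complete intersection morphisms of algebraic stacks are read on one square of smooth scheme charts. -/
theorem result
    (S : Scheme.{u}) (𝒳 : AlgSt.Cat S) (𝒴 : AlgSt.Cat S) (𝒵 : AlgSt.Cat S)
    (h𝒳 : AlgSt.IsAlgStack Scheme.fppfPrecoverage 𝒳)
    (h𝒴 : AlgSt.IsAlgStack Scheme.fppfPrecoverage 𝒴)
    (h𝒵 : AlgSt.IsAlgStack Scheme.fppfPrecoverage 𝒵)
    (f : 𝒳 ⥤ᵇ 𝒴) (q : 𝒴 ⥤ᵇ 𝒵) (p : 𝒳 ⥤ᵇ 𝒵) (e : BasedFunctor.comp f q ≅ p)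
    (hq : AlgSt.LocQ (AlgSp.LocP @Smooth) q) (hp : AlgSt.LocQ AlgSp.IsLCIMor p) :
    AlgSt.LocQ AlgSp.IsLCIMor f := by
  obtain ⟨U, V, W, x, y, z, h, k, α, β, ⟨hx1, hx2⟩, ⟨hy1, hy2⟩, ⟨hz1, hz2⟩, ⟨hℓf, -⟩, ⟨hℓq, -⟩⟩ :=
    exists_two_squares h𝒳 h𝒴 h𝒵 f q
  have hk : Smooth k.left := AlgSp.locP_yon_map
    ((locQ_iff_forall h𝒴 h𝒵 q isSmoothLocalST_smooth).1 hq V W y z k β hy1 hz1 hℓq)
  have hp' : AlgSt.LocQ AlgSp.IsLCIMor (BasedFunctor.comp f q) := locQ_of_iso e.symm hp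
  have h1 := P_comp_of_locQ h𝒳 h𝒴 h𝒵 f q isSmoothLocalST_isLCIMor hp' x y z h k α β hz1 hℓf hℓq
  have h2 : AlgSp.lci (h ≫ k).left := AlgSp.locP_yon_map h1
  have h3 : AlgSp.lci h.left := lci_of_comp_smooth h.left k.left h2 hk
  exact ⟨U, V, x, y, h, α, hx1, hx2, hy1, locP_yon_map_of etLocal_lci h3⟩

end Groth.Agent.S19901
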