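import Groth.Statements.S19902
import Groth.Agent.Lib.Helper24.SmLocus2

set_option autoImplicit false
universe u
open CategoryTheory AlgebraicGeometry
open AlgSt

namespace Groth.Agent.S19902

open CategoryTheory AlgebraicGeometry Opposite
open Groth.Agent.Lib.Helper24.SmLocus1 Groth.Agent.Lib.Helper24.SmLocus2
open Groth.Agent.Lib.Helper24.AlgStOpenSub2
open Groth.Agent.Lib.Helper24.AlgStOpenSub3 Groth.Agent.Lib.Helper24.AlgStLocQ3
open Groth.Agent.Lib.Helper24.AlgStPts4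

set_option backward.isDefEq.respectTransparency false in
set_option backward.isDefEq.respectTransparency.types false in

/-- Let f : 𝒳 → 𝒴 be a morphism of algebraic stacks and 𝒰 ⊂ 𝒳 the largest open substack on which f is
smooth. Formation of 𝒰 commutes with precomposing by smooth morphisms: for a smooth g : 𝒳' → 𝒳, the
inverse image of 𝒰 in 𝒳' is the largest open substack of 𝒳' on which f ∘ g is smooth. Open substacks
are given by their object predicates, the inverse image by composing the predicate with g on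
objects, and smoothness is read on one square of smooth scheme charts. -/
theorem result
    (S : Scheme.{u}) (𝒳' : AlgSt.Cat S) (𝒳 : AlgSt.Cat S) (𝒴 : AlgSt.Cat S)
    (h𝒳' : AlgSt.IsAlgStack Scheme.fppfPrecoverage 𝒳')
    (h𝒳 : AlgSt.IsAlgStack Scheme.fppfPrecoverage 𝒳)
    (h𝒴 : AlgSt.IsAlgStack Scheme.fppfPrecoverage 𝒴)
    (g : 𝒳' ⥤ᵇ 𝒳) (hg : AlgSt.LocQ (AlgSp.LocP @Smooth) g) (f : 𝒳 ⥤ᵇ 𝒴)
    (Q : 𝒳.obj → Prop) (hQ₁ : AlgSt.IsOpenSubstack 𝒳 Q Scheme.fppfPrecoverage)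
    (hQ₂ : AlgSt.LocQ (AlgSp.LocP @Smooth) (BasedFunctor.comp (AlgSt.subIncl 𝒳 Q) f))
    (hQ₃ : ∀ Q' : 𝒳.obj → Prop, AlgSt.IsOpenSubstack 𝒳 Q' Scheme.fppfPrecoverage →
      AlgSt.LocQ (AlgSp.LocP @Smooth) (BasedFunctor.comp (AlgSt.subIncl 𝒳 Q') f) → ∀ a, Q' a → Q a) :
    AlgSt.IsOpenSubstack 𝒳' (fun a ↦ Q (g.obj a)) Scheme.fppfPrecoverage ∧
      AlgSt.LocQ (AlgSp.LocP @Smooth)
        (BasedFunctor.comp (AlgSt.subIncl 𝒳' (fun a ↦ Q (g.obj a))) (BasedFunctor.comp g f)) ∧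
      ∀ Q' : 𝒳'.obj → Prop, AlgSt.IsOpenSubstack 𝒳' Q' Scheme.fppfPrecoverage →
        AlgSt.LocQ (AlgSp.LocP @Smooth) (BasedFunctor.comp (AlgSt.subIncl 𝒳' Q') (BasedFunctor.comp g f)) →
        ∀ a, Q' a → Q (g.obj a) := by
  have hW := isOpen_range_of_isOpenSubstack h𝒳 hQ₁
  have e := eq_qW_range h𝒳 hQ₁
  generalize hWdef : Set.range (AlgSt.Points.map (AlgSt.subIncl 𝒳 Q)) = W at hW e
  have Hmax : ∀ W₁ : Set (AlgSt.Points 𝒳), IsOpen W₁ →
      AlgSt.LocQ (AlgSp.LocP @Smooth) (BasedFunctor.comp (AlgSt.subIncl 𝒳 (QW W₁)) f) → W₁ ⊆ W := by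
    intro W₁ hW₁ H₁
    have h1 := hQ₃ (QW W₁) (isOpenSubstack_qW h𝒳 hW₁) H₁
    rw [← range_map_subIncl_qW W₁, ← hWdef]
    rintro _ ⟨z, rfl⟩
    obtain ⟨q, rfl⟩ := AlgSt.Points.mk_surjective z
    exact ⟨AlgSt.Points.mk ⟨q.K, q.str, ⟨q.obj.obj, h1 _ q.obj.property⟩, q.lies⟩, rfl⟩
  subst e
  obtain ⟨hb, hc⟩ := precomp_core h𝒳' h𝒳 h𝒴 g f hg hW hQ₂ Hmax
  have hW' : IsOpen (AlgSt.Points.map g ⁻¹' W) := hW.preimage (continuous_map h𝒳 g)
  have eQ : (fun a => QW W (g.obj a)) = QW (AlgSt.Points.map g ⁻¹' W) := by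
    funext a
    exact propext (qW_preimage_iff h𝒳'.isStack.1 h𝒳.isStack.1 g W a)
  refine ⟨?_, ?_, ?_⟩
  · rw [eQ]
    exact isOpenSubstack_qW h𝒳' hW'
  · rw [eQ]
    exact hb
  · intro Q' hQ' H' a ha
    have e' := eq_qW_range h𝒳' hQ'
    have hW'' := isOpen_range_of_isOpenSubstack h𝒳' hQ'
    have H'' : AlgSt.LocQ (AlgSp.LocP @Smooth) (BasedFunctor.comp (AlgSt.subIncl 𝒳'
        (QW (Set.range (AlgSt.Points.map (AlgSt.subIncl 𝒳' Q'))))) (BasedFunctor.comp g f)) := by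
      rw [← e']
      exact H'
    have hsub := hc _ hW'' H''
    rw [e'] at ha
    exact (qW_preimage_iff h𝒳'.isStack.1 h𝒳.isStack.1 g W a).2 (qW_mono hsub ha)

end Groth.Agent.S19902
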