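import Groth.Statements.S19903
import Groth.Agent.Lib.Helper24.AlgStInertia2

set_option autoImplicit false
universe u
open CategoryTheory AlgebraicGeometry
open AlgSt

namespace Groth.Agent.S19903

open CategoryTheory CategoryTheory.Limits AlgebraicGeometry Opposite
open AlgSp Groth.Agent.Lib.Helper14.AS
open Groth.Agent.Lib.Helper24.AlgStSchLocal Groth.Agent.Lib.Helper24.AlgStRepS
open Groth.Agent.Lib.Helper24.AlgStProps Groth.Agent.Lib.Helper24.AlgStGC
open Groth.Agent.Lib.Helper24.AlgStSepDiag Groth.Agent.Lib.Helper24.AlgStSep2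
open Groth.Agent.Lib.Helper24.AlgStRep Groth.Agent.Lib.Helper24.AlgStSmLoc
open Groth.Agent.Lib.Helper24.FibCatInertiaFp Groth.Agent.Lib.Helper24.AlgStBoot
open Groth.Agent.Lib.Helper24.AlgStInertia Groth.Agent.Lib.Helper24.AlgStDiagLft
open Groth.Agent.Lib.Helper24.AlgStMono Groth.Agent.Lib.Helper24.AlgStIso

set_option backward.isDefEq.respectTransparency false in
set_option backward.isDefEq.respectTransparency.types false in

/-- For a morphism f : 𝒳 → 𝒴 of algebraic stacks, if the relative inertia 𝓘_{𝒳/𝒴} → 𝒳 is locally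
separated then the neutral section e : 𝒳 → 𝓘_{𝒳/𝒴} (the second diagonal of f) is an immersion, and
likewise if the diagonal of f is locally separated. The inertia and the diagonal are representable
by algebraic spaces and local separatedness is the property of such morphisms. (The published
statement asserts the equivalence of the three conditions: inertia locally separated, diagonal
locally separated, neutral section an immersion; only the two implications towards the last
condition are stated here.) -/
theorem result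
    (S : Scheme.{u}) (𝒳 : AlgSt.Cat S) (𝒴 : AlgSt.Cat S)
    (h𝒳 : AlgSt.IsAlgStack Scheme.fppfPrecoverage 𝒳)
    (h𝒴 : AlgSt.IsAlgStack Scheme.fppfPrecoverage 𝒴)
    (f : 𝒳 ⥤ᵇ 𝒴) :
    (AlgSt.RepByAlgSpWith AlgSp.IsLocallySeparatedMor (FibCat.inertiaToBase f) →
        AlgSt.IsImm (FibCat.inertiaNeutral f)) ∧
      (AlgSt.RepByAlgSpWith AlgSp.IsLocallySeparatedMor (FibCat.diag f) →
        AlgSt.IsImm (FibCat.inertiaNeutral f)) := by
  have hΔ := repByAlgSp1_diag h𝒳 h𝒴 f
  refine ⟨fun h => ?_, fun h => ?_⟩
  · have h1 : AlgSt.RepByAlgSpWith (RepWith @IsImmersion)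
        (FibCat.diag (FibCat.inertiaToBase f)) :=
      (repByAlgSpWith_diag_iff_diagonal (RepWith @IsImmersion) (nice_repWith _) _
        (repByAlgSp1_inertiaToBase h𝒳 h𝒴 f)).2 h
    exact repByAlgSpWith_inertiaNeutral_of_diag h𝒳 h𝒴 f _ (nice_repWith _)
      (stableComp_repWith _) (hasIsos_repWith _) h1
  · have h1 : AlgSt.RepByAlgSpWith (RepWith @IsImmersion) (FibCat.diag (FibCat.diag f)) :=
      (repByAlgSpWith_diag_iff_diagonal (RepWith @IsImmersion) (nice_repWith _) _ hΔ).2 h
    exact (repByAlgSpWith_inertiaNeutral_iff _ f).2 h1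

end Groth.Agent.S19903
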