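import Groth.Statements.S19907
import Mathlib

set_option autoImplicit false
universe u
open CategoryTheory TensorProduct
open ArtFun

namespace Groth.Agent.S19907


section Part2

variable {Λ K' K Q : Type u} [CommRing Λ] [CommRing K'] [CommRing K] [Algebra Λ K'] [Algebra Λ K]
  [Algebra K' K] [IsScalarTower Λ K' K] [CommRing Q] [Algebra Λ Q]

/-- `P₀ = (Λ → K')` -/
noncomputable abbrev P0 (hsurj : Function.Surjective (algebraMap Λ K')) : Algebra.Extension.{u} Λ K' where
  Ring := Λ
  σ x := (hsurj x).choose
  algebraMap_σ x := (hsurj x).choose_spec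

/-- `Q₁ = (Q → K)` -/
noncomputable abbrev Q1 (π : Q →ₐ[Λ] K) (hπ : Function.Surjective π) : Algebra.Extension.{u} Λ K where
  Ring := Q
  algebra₂ := π.toAlgebra
  isScalarTower := letI := π.toAlgebra; IsScalarTower.of_algebraMap_eq' π.comp_algebraMap.symm
  σ x := (hπ x).choose
  algebraMap_σ x := (hπ x).choose_spec

noncomputable def fHom (hsurj : Function.Surjective (algebraMap Λ K'))
    (π : Q →ₐ[Λ] K) (hπ : Function.Surjective π) : (P0 hsurj).Hom (Q1 π hπ) where
  toRingHom := algebraMap Λ Q
  toRingHom_algebraMap x := rfl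
  algebraMap_toRingHom := by
    intro (x : Λ)
    change π (algebraMap Λ Q x) = algebraMap K' K (algebraMap Λ K' x)
    rw [π.commutes, ← IsScalarTower.algebraMap_apply]

theorem halg (hsurj : Function.Surjective (algebraMap Λ K'))
    (π : Q →ₐ[Λ] K) (hπ : Function.Surjective π) :
    algebraMap (P0 hsurj).Ring (Q1 π hπ).Ring = (fHom hsurj π hπ).toRingHom := rfl

theorem bij_mapKer (hsurj : Function.Surjective (algebraMap Λ K'))
    (π : Q →ₐ[Λ] K) (hπ : Function.Surjective π) [Module.Flat Λ Q]
    (hker : RingHom.ker π ≤ (RingHom.ker (algebraMap Λ K')).map (algebraMap Λ Q)) :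
    Function.Bijective
      (((fHom hsurj π hπ).mapKer (halg hsurj π hπ)).liftBaseChange (Q1 π hπ).Ring) := by
  set M := (((fHom hsurj π hπ).mapKer (halg hsurj π hπ)).liftBaseChange (Q1 π hπ).Ring) with hM
  have htmul : ∀ (q : Q) (x : (P0 hsurj).ker),
      ((M (q ⊗ₜ x) : (Q1 π hπ).ker) : Q) = q * algebraMap Λ Q (x : Λ) := by
    intro q x
    rw [hM, LinearMap.liftBaseChange_tmul]
    rfl
  constructor
  · have hinj : Function.Injective
        (LinearMap.lTensor Q (Submodule.subtype (RingHom.ker (algebraMap Λ K')))) :=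
      Module.Flat.lTensor_preserves_injective_linearMap _ Subtype.val_injective
    have key : ∀ z : Q ⊗[Λ] (RingHom.ker (algebraMap Λ K')),
        (TensorProduct.rid Λ Q) (LinearMap.lTensor Q (Submodule.subtype _) z) =
          ((M z : (Q1 π hπ).ker) : Q) := by
      intro z
      induction z with
      | zero => simp
      | add a b ha hb =>
        rw [map_add, map_add, ha, hb, map_add]
        rfl
      | tmul q x =>
        rw [htmul]
        simp [Algebra.smul_def, mul_comm]
    intro z w hzw
    apply hinj
    apply (TensorProduct.rid Λ Q).injective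
    rw [key, key, hzw]
  · intro y
    have hy : (y : Q) ∈ (RingHom.ker (algebraMap Λ K')).map (algebraMap Λ Q) := hker y.2
    suffices h : ∃ z, ((M z : (Q1 π hπ).ker) : Q) = (y : Q) by
      obtain ⟨z, hz⟩ := h
      exact ⟨z, Subtype.ext hz⟩
    have gen : ∀ a : Q, a ∈ Ideal.span (algebraMap Λ Q '' (RingHom.ker (algebraMap Λ K'))) →
        ∃ z, ((M z : (Q1 π hπ).ker) : Q) = a := by
      intro a ha
      induction ha using Submodule.span_induction with
      | mem a ha =>
        obtain ⟨x, hx, rfl⟩ := ha
        refine ⟨(1 : Q) ⊗ₜ (⟨x, hx⟩ : (P0 hsurj).ker), ?_⟩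
        rw [htmul, one_mul]
      | zero => exact ⟨0, by simp⟩
      | add a b _ _ ha hb =>
        obtain ⟨z, hz⟩ := ha
        obtain ⟨w, hw⟩ := hb
        refine ⟨z + w, ?_⟩
        rw [map_add, ← hz, ← hw]
        rfl
      | smul c a _ ha =>
        obtain ⟨z, hz⟩ := ha
        refine ⟨c • z, ?_⟩
        rw [map_smul, ← hz]
        rfl
    exact gen _ hy

theorem bij_ext [Algebra.FormallyEtale Λ Q] [Module.Flat Λ Q] [Module.Flat K' K]
    (hsurj : Function.Surjective (algebraMap Λ K'))
    (π : Q →ₐ[Λ] K) (hπ : Function.Surjective π)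
    (hker : RingHom.ker π ≤ (RingHom.ker (algebraMap Λ K')).map (algebraMap Λ Q)) :
    Function.Bijective ((Algebra.Extension.H1Cotangent.map (fHom hsurj π hπ)).liftBaseChange K) := by
  have H₁ : (fHom hsurj π hπ).toRingHom.FormallyEtale :=
    RingHom.formallyEtale_algebraMap.mpr inferInstance
  exact (Algebra.Extension.tensorH1CotangentOfFormallyEtale (fHom hsurj π hπ) (halg hsurj π hπ) H₁
    (bij_mapKer hsurj π hπ hker)).bijective

theorem bij_defaultHom {R S : Type u} [CommRing R] [CommRing S] [Algebra R S]
    (P : Algebra.Extension.{u} R S) [Algebra.FormallySmooth R P.Ring] :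
    Function.Bijective (Algebra.Extension.H1Cotangent.map (Algebra.Extension.defaultHom R S P)) := by
  have : Algebra.FormallySmooth R (Algebra.Generators.self R S).toExtension.Ring :=
    inferInstanceAs (Algebra.FormallySmooth R (MvPolynomial S R))
  have h := Algebra.Extension.H1Cotangent.equivOfFormallySmooth_toLinearMap (Algebra.Extension.defaultHom R S P)
  rw [← h]
  exact LinearEquiv.bijective _

theorem main2 [Algebra.FormallyEtale Λ Q] [Module.Flat Λ Q] [Module.Flat K' K]
    (hsurj : Function.Surjective (algebraMap Λ K'))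
    (π : Q →ₐ[Λ] K) (hπ : Function.Surjective π)
    (hker : RingHom.ker π ≤ (RingHom.ker (algebraMap Λ K')).map (algebraMap Λ Q)) :
    Function.Bijective ((Algebra.H1Cotangent.map Λ Λ K' K).liftBaseChange K) := by
  have hf := bij_ext hsurj π hπ hker
  have : Algebra.FormallySmooth Λ (P0 hsurj).Ring := (inferInstance : Algebra.FormallySmooth Λ Λ)
  have : Algebra.FormallySmooth Λ (Q1 π hπ).Ring := (inferInstance : Algebra.FormallySmooth Λ Q)
  have ha := bij_defaultHom (P0 hsurj)
  have hb := bij_defaultHom (Q1 π hπ)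
  have key : ∀ x : Algebra.H1Cotangent Λ K',
      Algebra.Extension.H1Cotangent.map (Algebra.Extension.defaultHom Λ K (Q1 π hπ))
        (Algebra.H1Cotangent.map Λ Λ K' K x) =
      Algebra.Extension.H1Cotangent.map (fHom hsurj π hπ)
        (Algebra.Extension.H1Cotangent.map (Algebra.Extension.defaultHom Λ K' (P0 hsurj)) x) := by
    intro x
    have h1 := Algebra.Extension.H1Cotangent.map_comp_apply
      (Algebra.Generators.defaultHom (Algebra.Generators.self Λ K')
        (Algebra.Generators.self Λ K)).toExtensionHom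
      (Algebra.Extension.defaultHom Λ K (Q1 π hπ)) x
    have h2 := Algebra.Extension.H1Cotangent.map_comp_apply
      (Algebra.Extension.defaultHom Λ K' (P0 hsurj)) (fHom hsurj π hπ) x
    refine h1.symm.trans (Eq.trans ?_ h2)
    exact congrArg (fun m => m x) (Algebra.Extension.H1Cotangent.map_eq
      ((Algebra.Extension.defaultHom Λ K (Q1 π hπ)).comp
        (Algebra.Generators.defaultHom (Algebra.Generators.self Λ K')
          (Algebra.Generators.self Λ K)).toExtensionHom)
      ((fHom hsurj π hπ).comp (Algebra.Extension.defaultHom Λ K' (P0 hsurj))))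
  have hA : Function.Bijective (LinearMap.baseChange K
      (Algebra.Extension.H1Cotangent.map (Algebra.Extension.defaultHom Λ K' (P0 hsurj)))) := by
    rw [LinearMap.baseChange_eq_ltensor]
    exact (LinearEquiv.lTensor K (LinearEquiv.ofBijective _ ha)).bijective
  have hcomp : (Algebra.Extension.H1Cotangent.map (Algebra.Extension.defaultHom Λ K (Q1 π hπ))) ∘
      ((Algebra.H1Cotangent.map Λ Λ K' K).liftBaseChange K) =
      ((Algebra.Extension.H1Cotangent.map (fHom hsurj π hπ)).liftBaseChange K) ∘
      (LinearMap.baseChange K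
        (Algebra.Extension.H1Cotangent.map (Algebra.Extension.defaultHom Λ K' (P0 hsurj)))) := by
    funext z
    simp only [Function.comp_apply]
    induction z with
    | zero => simp only [map_zero]
    | add z w hz hw => simp only [map_add, hz, hw]
    | tmul c x =>
      rw [LinearMap.liftBaseChange_tmul, LinearMap.baseChange_tmul, LinearMap.liftBaseChange_tmul,
        map_smul, key]
  rw [← Function.Bijective.of_comp_iff' hb, hcomp]
  exact hf.comp hA

end Part2

section Part1
open Polynomial IntermediateField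

variable {Λ K' K : Type u} [CommRing Λ] [Field K'] [Field K] [Algebra Λ K'] [Algebra Λ K]
  [Algebra K' K] [IsScalarTower Λ K' K]

theorem part1 (hsurj : Function.Surjective (algebraMap Λ K'))
    [FiniteDimensional K' K] [Algebra.IsSeparable K' K] :
    ∃ (P : StandardEtalePair Λ) (π : P.Ring →ₐ[Λ] K), Function.Surjective π ∧
      RingHom.ker π ≤ (RingHom.ker (algebraMap Λ K')).map (algebraMap Λ P.Ring) := by
  obtain ⟨θ, hθ⟩ := Field.exists_primitive_element K' K
  have hint : IsIntegral K' θ := Algebra.IsIntegral.isIntegral θ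
  have hsep : (minpoly K' θ).Separable := Algebra.IsSeparable.isSeparable K' θ
  obtain ⟨F, hFmap, hFdeg, hFmonic⟩ := Polynomial.lifts_and_natDegree_eq_and_monic
    ((Polynomial.mem_lifts _).mpr (Polynomial.map_surjective _ hsurj (minpoly K' θ)))
    (minpoly.monic hint)
  have haevalF : ∀ p : Λ[X], aeval θ p = aeval θ (p.map (algebraMap Λ K')) := fun p =>
    (Polynomial.aeval_map_algebraMap K' θ p).symm
  let P : StandardEtalePair Λ := ⟨F, hFmonic, derivative F, ⟨1, 0, 1, by simp⟩⟩
  have hmap : P.HasMap θ := by
    refine ⟨?_, ?_⟩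
    · change aeval θ F = 0
      rw [haevalF, hFmap, minpoly.aeval]
    · change IsUnit (aeval θ (derivative F))
      rw [haevalF, ← Polynomial.derivative_map, hFmap]
      exact (hsep.aeval_derivative_ne_zero (minpoly.aeval K' θ)).isUnit
  -- α surjective
  have hα : Function.Surjective (aeval θ : Λ[X] →ₐ[Λ] K) := by
    intro y
    have hy : y ∈ (K'⟮θ⟯).toSubalgebra := by
      rw [hθ]; trivial
    rw [IntermediateField.adjoin_simple_toSubalgebra_of_isAlgebraic hint.isAlgebraic,
      Algebra.adjoin_singleton_eq_range_aeval] at hy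
    obtain ⟨p, rfl⟩ := hy
    obtain ⟨q, rfl⟩ := Polynomial.map_surjective _ hsurj p
    exact ⟨q, haevalF q⟩
  refine ⟨P, P.lift θ hmap, ?_, ?_⟩
  · intro y
    obtain ⟨q, rfl⟩ := hα y
    refine ⟨aeval P.X q, ?_⟩
    rw [← Polynomial.aeval_algHom_apply, StandardEtalePair.lift_X]
  · have : Nontrivial Λ := (algebraMap Λ K').domain_nontrivial
    set I := (RingHom.ker (algebraMap Λ K')).map (algebraMap Λ P.Ring) with hI
    let mk : P.Ring →ₐ[Λ] (P.Ring ⧸ I) := Ideal.Quotient.mkₐ Λ I
    let α : Λ[X] →ₐ[Λ] K := aeval θ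
    let β : Λ[X] →ₐ[Λ] (P.Ring ⧸ I) := aeval (mk P.X)
    have hβF : β F = 0 := by
      change aeval (mk P.X) F = 0
      rw [Polynomial.aeval_algHom_apply, (StandardEtalePair.hasMap_X (P := P)).1, map_zero]
    have hβm : ∀ r : Λ[X], r.map (algebraMap Λ K') = 0 → β r = 0 := by
      intro r hr
      change aeval (mk P.X) r = 0
      rw [Polynomial.aeval_eq_sum_range]
      refine Finset.sum_eq_zero fun i _ => ?_
      have hc : algebraMap Λ K' (r.coeff i) = 0 := by
        have := congrArg (fun p => p.coeff i) hr
        simpa using this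
      have h0 : algebraMap Λ (P.Ring ⧸ I) (r.coeff i) = 0 := by
        rw [IsScalarTower.algebraMap_apply Λ P.Ring (P.Ring ⧸ I)]
        exact Ideal.Quotient.eq_zero_iff_mem.mpr (Ideal.mem_map_of_mem _ hc)
      rw [Algebra.smul_def, h0, zero_mul]
    have hker : ∀ p : Λ[X], α p = 0 → β p = 0 := by
      intro p hp
      have hdiv := Polynomial.modByMonic_add_div p F
      set r := p %ₘ F with hr
      have hαr : α r = 0 := by
        have h1 : α p = α r + α F * α (p /ₘ F) := by rw [← map_mul, ← map_add, hdiv]
        rw [hp, show α F = 0 from hmap.1, zero_mul, add_zero] at h1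
        exact h1.symm
      have hr0 : r.map (algebraMap Λ K') = 0 := by
        by_contra hne
        have h1 := minpoly.degree_le_of_ne_zero K' θ hne (by rw [← haevalF]; exact hαr)
        have h2 : (r.map (algebraMap Λ K')).degree < (minpoly K' θ).degree := by
          calc _ ≤ r.degree := Polynomial.degree_map_le
            _ < F.degree := Polynomial.degree_modByMonic_lt p hFmonic
            _ = (minpoly K' θ).degree := by
              rw [Polynomial.degree_eq_natDegree hFmonic.ne_zero, hFdeg,
                Polynomial.degree_eq_natDegree (minpoly.ne_zero hint)]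
        exact absurd h1 (not_le.mpr h2)
      rw [← hdiv, map_add, map_mul, hβm r hr0, hβF, zero_mul, add_zero]
    let e := Ideal.quotientKerAlgEquivOfSurjective hα
    let ρ₀ : (Λ[X] ⧸ RingHom.ker α) →ₐ[Λ] (P.Ring ⧸ I) :=
      Ideal.Quotient.liftₐ (RingHom.ker α) β (fun a ha => hker a ha)
    let ρ : K →ₐ[Λ] (P.Ring ⧸ I) := ρ₀.comp e.symm.toAlgHom
    have hρ : ∀ p, ρ (α p) = β p := by
      intro p
      have h1 : e.symm (α p) = Ideal.Quotient.mk _ p := by
        rw [AlgEquiv.symm_apply_eq]; rfl
      change ρ₀ (e.symm (α p)) = β p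
      rw [h1]; rfl
    have hcomp : ρ.comp (P.lift θ hmap) = mk := by
      apply StandardEtalePair.hom_ext
      change ρ (P.lift θ hmap P.X) = mk P.X
      rw [StandardEtalePair.lift_X]
      have h1 : θ = α X := (aeval_X θ).symm
      rw [h1, hρ]
      exact aeval_X _
    intro z hz
    have h0 : mk z = 0 := by
      rw [← hcomp]
      change ρ (P.lift θ hmap z) = 0
      rw [RingHom.mem_ker.mp hz, map_zero]
    exact Ideal.Quotient.eq_zero_iff_mem.mp h0

end Part1

theorem main {Λ K' K : Type u} [CommRing Λ] [Field K'] [Field K] [Algebra Λ K'] [Algebra Λ K]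
    [Algebra K' K] [IsScalarTower Λ K' K] (hsurj : Function.Surjective (algebraMap Λ K'))
    [FiniteDimensional K' K] [Algebra.IsSeparable K' K] :
    Function.Bijective ((Algebra.H1Cotangent.map Λ Λ K' K).liftBaseChange K) := by
  obtain ⟨P, π, hπ, hker⟩ := part1 (K := K) hsurj
  exact main2 (Q := P.Ring) hsurj π hπ hker

/-- Let Λ be a Noetherian ring with a finite ring map to a field k, let k' ⊂ k be the image of Λ and m_Λ
the kernel, so that m_Λ/m_Λ² = H₁(L_{k'/Λ}) (Λ → k' being surjective with kernel m_Λ). If k is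
separable over k', the canonical map m_Λ/m_Λ² ⊗_{k'} k → H₁(L_{k/Λ}) is an isomorphism. Stated for
H₁(L_{k'/Λ}) in place of m_Λ/m_Λ²: the k-linear base change of the functoriality map H₁(L_{k'/Λ}) →
H₁(L_{k/Λ}) is bijective. (The general construction of the map and the case k = k' are the other
assertions of the source; only the separable case is stated here.) -/
theorem result {Λ : Type u} {k : Type u} [CommRing Λ] [Field k] [Algebra Λ k]
    [IsNoetherianRing Λ] [Module.Finite Λ k]
    [Algebra.IsSeparable (↥(algebraMap Λ k).range) k] :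
    letI : Algebra Λ (↥(algebraMap Λ k).range) := (algebraMap Λ k).rangeRestrict.toAlgebra
    letI : IsScalarTower Λ (↥(algebraMap Λ k).range) k := IsScalarTower.of_algebraMap_eq (fun _ ↦ rfl)
    Function.Bijective ((Algebra.H1Cotangent.map Λ Λ (↥(algebraMap Λ k).range) k).liftBaseChange k) := by
  letI : Algebra Λ (↥(algebraMap Λ k).range) := (algebraMap Λ k).rangeRestrict.toAlgebra
  letI : IsScalarTower Λ (↥(algebraMap Λ k).range) k := IsScalarTower.of_algebraMap_eq (fun _ ↦ rfl)
  have hsurj : Function.Surjective (algebraMap Λ (↥(algebraMap Λ k).range)) :=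
    (algebraMap Λ k).rangeRestrict_surjective
  have hfin : Module.Finite (↥(algebraMap Λ k).range) k :=
    Module.Finite.of_restrictScalars_finite Λ _ k
  have hint : Algebra.IsIntegral (↥(algebraMap Λ k).range) k := inferInstance
  have hfield : IsField (↥(algebraMap Λ k).range) :=
    isField_of_isIntegral_of_isField (S := k) Subtype.val_injective (Field.toIsField k)
  letI : Field (↥(algebraMap Λ k).range) := hfield.toField
  exact main hsurj

end Groth.Agent.S19907
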