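import Groth.Statements.S19909
import Groth.Agent.Lib.Helper24.SmLocus3

set_option autoImplicit false
universe u
open CategoryTheory AlgebraicGeometry
open AlgSt

namespace Groth.Agent.S19909

open CategoryTheory AlgebraicGeometry
open AlgSt
open CategoryTheory AlgebraicGeometry Opposite
open Groth.Agent.Lib.Helper24.SmLocus1 Groth.Agent.Lib.Helper24.SmLocus2
open Groth.Agent.Lib.Helper24.SmLocus3
open Groth.Agent.Lib.Helper24.AlgStOpenSub2
open Groth.Agent.Lib.Helper24.AlgStOpenSub3 Groth.Agent.Lib.Helper24.AlgStLocQ3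
open Groth.Agent.Lib.Helper24.AlgStPts4 Groth.Agent.Lib.Helper24.AlgStFpAlg

set_option backward.isDefEq.respectTransparency false in
set_option backward.isDefEq.respectTransparency.types false in


/-- Let f : 𝒳 → 𝒴 be a morphism of algebraic stacks and 𝒰 ⊂ 𝒳 the largest open substack on which f is
smooth. Formation of 𝒰 commutes with base change along y : 𝒴' → 𝒴 when y is flat and locally of
finite presentation, or when y is flat and f is locally of finite presentation: the inverse image of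
𝒰 in 𝒴' ×_𝒴 𝒳 is the largest open substack on which the projection to 𝒴' is smooth. Open substacks
are given by their object predicates, the inverse image by reading the predicate on the second
component, and flat, locally of finite presentation and smooth are read on one square of smooth
scheme charts. -/
theorem result
    (S : Scheme.{u}) (𝒳 : AlgSt.Cat S) (𝒴 : AlgSt.Cat S) (𝒴' : AlgSt.Cat S)
    (h𝒳 : AlgSt.IsAlgStack Scheme.fppfPrecoverage 𝒳)
    (h𝒴 : AlgSt.IsAlgStack Scheme.fppfPrecoverage 𝒴)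
    (h𝒴' : AlgSt.IsAlgStack Scheme.fppfPrecoverage 𝒴')
    (f : 𝒳 ⥤ᵇ 𝒴) (y : 𝒴' ⥤ᵇ 𝒴) (hy : AlgSt.LocQ (AlgSp.LocP @Flat) y)
    (hfp : AlgSt.LocQ (AlgSp.LocP @LocallyOfFinitePresentation) y ∨
      AlgSt.LocQ (AlgSp.LocP @LocallyOfFinitePresentation) f)
    (Q : 𝒳.obj → Prop) (hQ₁ : AlgSt.IsOpenSubstack 𝒳 Q Scheme.fppfPrecoverage)
    (hQ₂ : AlgSt.LocQ (AlgSp.LocP @Smooth) (BasedFunctor.comp (AlgSt.subIncl 𝒳 Q) f))
    (hQ₃ : ∀ Q' : 𝒳.obj → Prop, AlgSt.IsOpenSubstack 𝒳 Q' Scheme.fppfPrecoverage →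
      AlgSt.LocQ (AlgSp.LocP @Smooth) (BasedFunctor.comp (AlgSt.subIncl 𝒳 Q') f) → ∀ a, Q' a → Q a) :
    AlgSt.IsOpenSubstack (FibCat.fp y f) (fun b ↦ Q b.obj.snd) Scheme.fppfPrecoverage ∧
      AlgSt.LocQ (AlgSp.LocP @Smooth)
        (BasedFunctor.comp (AlgSt.subIncl (FibCat.fp y f) fun b ↦ Q b.obj.snd) (FibCat.fpFst y f)) ∧
      ∀ Q' : (FibCat.fp y f).obj → Prop, AlgSt.IsOpenSubstack (FibCat.fp y f) Q' Scheme.fppfPrecoverage →
        AlgSt.LocQ (AlgSp.LocP @Smooth) (BasedFunctor.comp (AlgSt.subIncl (FibCat.fp y f) Q') (FibCat.fpFst y f)) →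
        ∀ b, Q' b → Q b.obj.snd := by
  have h𝒳' : AlgSt.IsAlgStack Scheme.fppfPrecoverage (FibCat.fp y f) :=
    isAlgStack_fp h𝒴.isStack h𝒴.diag h𝒴' h𝒳 y f
  have hW := isOpen_range_of_isOpenSubstack h𝒳 hQ₁
  have e := eq_qW_range h𝒳 hQ₁
  generalize hWdef : Set.range (AlgSt.Points.map (AlgSt.subIncl 𝒳 Q)) = W at hW e
  have Hmax : ∀ W₁ : Set (AlgSt.Points 𝒳), IsOpen W₁ →
      AlgSt.LocQ (AlgSp.LocP @Smooth) (BasedFunctor.comp (AlgSt.subIncl 𝒳 (QW W₁)) f) → W₁ ⊆ W := by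
    intro W₁ hW₁ H₁
    have h1 := hQ₃ (QW W₁) (isOpenSubstack_qW h𝒳 hW₁) H₁
    rw [← range_map_subIncl_qW W₁, ← hWdef]
    rintro _ ⟨z, rfl⟩
    obtain ⟨q, rfl⟩ := AlgSt.Points.mk_surjective z
    exact ⟨AlgSt.Points.mk ⟨q.K, q.str, ⟨q.obj.obj, h1 _ q.obj.property⟩, q.lies⟩, rfl⟩
  subst e
  obtain ⟨hb, hc⟩ := bc_core h𝒳 h𝒴 h𝒴' f y hy hfp hW hQ₂ Hmax
  have hW' : IsOpen (AlgSt.Points.map (FibCat.fpSnd y f) ⁻¹' W) :=
    hW.preimage (continuous_map h𝒳 (FibCat.fpSnd y f))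
  have eQ : (fun b : (FibCat.fp y f).obj => QW W b.obj.snd) =
      QW (AlgSt.Points.map (FibCat.fpSnd y f) ⁻¹' W) := by
    funext a
    exact propext (qW_preimage_iff h𝒳'.isStack.1 h𝒳.isStack.1 (FibCat.fpSnd y f) W a)
  refine ⟨?_, ?_, ?_⟩
  · rw [eQ]
    exact isOpenSubstack_qW h𝒳' hW'
  · rw [eQ]
    exact hb
  · intro Q' hQ' H' a ha
    have e' := eq_qW_range h𝒳' hQ'
    have hW'' := isOpen_range_of_isOpenSubstack h𝒳' hQ'
    have H'' : AlgSt.LocQ (AlgSp.LocP @Smooth) (BasedFunctor.comp (AlgSt.subIncl (FibCat.fp y f)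
        (QW (Set.range (AlgSt.Points.map (AlgSt.subIncl (FibCat.fp y f) Q'))))) (FibCat.fpFst y f)) := by
      rw [← e']
      exact H'
    have hsub := hc _ hW'' H''
    rw [e'] at ha
    exact (qW_preimage_iff h𝒳'.isStack.1 h𝒳.isStack.1 (FibCat.fpSnd y f) W a).2 (qW_mono hsub ha)


end Groth.Agent.S19909
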