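import Groth.Statements.S19912
import Mathlib
import Groth.Agent.Lib.Helper20.RegularQuotient

set_option autoImplicit false
universe u
open CategoryTheory CategoryTheory.Limits AlgebraicGeometry
open Models

namespace Groth.Agent.S19912


open IsLocalRing in
/-- In a DVR, a generator of the maximal ideal is not in its square. -/
theorem notMem_sq_of_span_eq {V : Type u} [CommRing V] [IsDomain V] [IsDiscreteValuationRing V]
    (w : V) (hw : Ideal.span {w} = maximalIdeal V) : w ∉ maximalIdeal V ^ 2 := by
  intro h
  rw [← hw, Ideal.span_singleton_pow, Ideal.mem_span_singleton] at h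
  obtain ⟨c, hc⟩ := h
  have hw0 : w ≠ 0 := by
    rintro rfl
    have : maximalIdeal V = ⊥ := by rw [← hw]; simp
    exact IsDiscreteValuationRing.not_a_field V this
  have h1 : w * (w * c) = w * 1 := by rw [mul_one, ← mul_assoc, ← pow_two]; exact hc.symm
  have h2 : w * c = 1 := mul_left_cancel₀ hw0 h1
  have hunit : IsUnit w := IsUnit.of_mul_eq_one _ h2
  have hmem : w ∈ maximalIdeal V := by rw [← hw]; exact Ideal.subset_span rfl
  exact (mem_maximalIdeal _).mp hmem hunit

/-- the stalk of `Spec V` at the closed point, for `V` local -/
theorem bijective_toStalk_closedPoint (V : Type u) [CommRing V] [IsLocalRing V] :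
    Function.Bijective (((Spec (CommRingCat.of V)).presheaf.germ ⊤ (IsLocalRing.closedPoint V) trivial).hom.comp
      (Scheme.ΓSpecIso (CommRingCat.of V)).inv.hom) := by
  letI : Algebra V ((Spec (CommRingCat.of V)).presheaf.stalk (IsLocalRing.closedPoint V)) :=
    StructureSheaf.stalkAlgebra V (IsLocalRing.closedPoint V)
  haveI : IsLocalization.AtPrime ((Spec (CommRingCat.of V)).presheaf.stalk (IsLocalRing.closedPoint V))
      (IsLocalRing.closedPoint V).asIdeal :=
    StructureSheaf.IsLocalization.to_stalk V (IsLocalRing.closedPoint V)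
  have hu : ∀ m ∈ (IsLocalRing.closedPoint V).asIdeal.primeCompl, IsUnit m := by
    intro m hm
    by_contra hnu
    exact hm ((IsLocalRing.mem_maximalIdeal m).mpr hnu)
  exact (IsLocalization.atUnits V (IsLocalRing.closedPoint V).asIdeal.primeCompl hu
    (S := (Spec (CommRingCat.of V)).presheaf.stalk (IsLocalRing.closedPoint V))).bijective

/-- Let R be a discrete valuation ring with fraction field K and YR a scheme over Spec R. Let V be a
discrete valuation ring which is an R-algebra in such a way that the maximal ideal of R generates
the maximal ideal of V (ramification index one), and let σ : Spec V -> YR be a morphism over Spec R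
sending the closed point of Spec V to y. If the local ring of YR at y is regular, then the local
ring at y of the special fibre of YR, namely O_{YR,y}/𝔪_R O_{YR,y}, is regular. (The published
statement takes YR a normal projective flat model of a smooth projective geometrically connected
curve Y over K and phrases the hypothesis through a point Q of Y rational over an extension L of K
unramified over K with y in the closure of Q: by the valuative criterion such a point yields a
morphism as above from the spectrum of the localization of the integral closure of R in L at a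
maximal ideal over y, which is the form used here.) -/
theorem result
    (R : Type u) [CommRing R] [IsDomain R] [IsDiscreteValuationRing R]
    (YR : Over (Spec (CommRingCat.of R)))
    (V : Type u) [CommRing V] [IsDomain V] [IsDiscreteValuationRing V] [Algebra R V]
    (hV : Ideal.map (algebraMap R V) (IsLocalRing.maximalIdeal R) = IsLocalRing.maximalIdeal V)
    (σ : Spec (CommRingCat.of V) ⟶ YR.left)
    (hσ : σ ≫ YR.hom = Spec.map (CommRingCat.ofHom (algebraMap R V)))
    (y : YR.left) (hy : σ.base (IsLocalRing.closedPoint V) = y)
    (hreg : IsRegularLocalRing (YR.left.presheaf.stalk y)) :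
    IsRegularLocalRing (YR.left.presheaf.stalk y ⧸
      Ideal.map (Models.stalkHom R YR y) (IsLocalRing.maximalIdeal R)) := by
  subst hy
  obtain ⟨ϖ, hϖ⟩ := IsDiscreteValuationRing.exists_irreducible R
  have hmR : IsLocalRing.maximalIdeal R = Ideal.span {ϖ} := hϖ.maximalIdeal_eq
  rw [hmR, Ideal.map_span, Set.image_singleton]
  rw [hmR, Ideal.map_span, Set.image_singleton] at hV
  -- the ring maps
  set cp := IsLocalRing.closedPoint V with hcp
  let τ : V →+* (Spec (CommRingCat.of V)).presheaf.stalk cp :=
    ((Spec (CommRingCat.of V)).presheaf.germ ⊤ cp trivial).hom.comp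
      (Scheme.ΓSpecIso (CommRingCat.of V)).inv.hom
  have hτ : Function.Bijective τ := bijective_toStalk_closedPoint V
  let e : V ≃+* (Spec (CommRingCat.of V)).presheaf.stalk cp := RingEquiv.ofBijective τ hτ
  let ψ : YR.left.presheaf.stalk (σ.base cp) →+* (Spec (CommRingCat.of V)).presheaf.stalk cp :=
    (σ.stalkMap cp).hom
  haveI : IsLocalHom ψ := inferInstanceAs (IsLocalHom (σ.stalkMap cp).hom)
  let χ : YR.left.presheaf.stalk (σ.base cp) →+* V := (e.symm : _ →+* V).comp ψ
  haveI : IsLocalHom χ := RingHom.isLocalHom_comp _ _
  have hkey : ∀ r : R, ψ (Models.stalkHom R YR (σ.base cp) r) = τ (algebraMap R V r) := by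
    intro r
    show (σ.stalkMap cp).hom ((YR.left.presheaf.germ ⊤ (σ.base cp) trivial).hom
      ((YR.hom.appTop).hom ((Scheme.ΓSpecIso (CommRingCat.of R)).inv.hom r))) = _
    have h1 := Scheme.Hom.germ_stalkMap_apply σ ⊤ cp trivial
      ((YR.hom.appTop).hom ((Scheme.ΓSpecIso (CommRingCat.of R)).inv.hom r))
    refine h1.trans ?_
    have h2 : (σ.app ⊤).hom ((YR.hom.appTop).hom ((Scheme.ΓSpecIso (CommRingCat.of R)).inv.hom r)) =
        ((Scheme.ΓSpecIso (CommRingCat.of V)).inv.hom (algebraMap R V r)) := by
      have h3 := Scheme.ΓSpecIso_inv_naturality (CommRingCat.ofHom (algebraMap R V))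
      rw [← hσ] at h3
      have h4 := congrArg (fun f => f.hom r) h3
      simp only [CommRingCat.hom_comp, RingHom.comp_apply, CommRingCat.hom_ofHom] at h4
      rw [h4]
      rfl
    rw [h2]
    rfl
  have hχ : χ (Models.stalkHom R YR (σ.base cp) ϖ) = algebraMap R V ϖ := by
    show e.symm (ψ _) = _
    rw [hkey, RingEquiv.symm_apply_eq]
    rfl
  have hnot := notMem_sq_of_span_eq _ hV
  have hmemV : algebraMap R V ϖ ∈ IsLocalRing.maximalIdeal V := by
    rw [← hV]; exact Ideal.subset_span rfl
  refine Groth.Agent.Lib.Helper20.RegularQuotient.isRegularLocalRing_quotient_span_singleton _ ?_ ?_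
  · rw [IsLocalRing.mem_maximalIdeal]
    intro hunit
    have := hunit.map χ
    rw [hχ] at this
    exact (IsLocalRing.mem_maximalIdeal _).mp hmemV this
  · intro hmem
    apply hnot
    have h1 : χ (Models.stalkHom R YR (σ.base cp) ϖ) ∈
        Ideal.map χ (IsLocalRing.maximalIdeal _ ^ 2) := Ideal.mem_map_of_mem χ hmem
    rw [hχ, Ideal.map_pow] at h1
    exact Ideal.pow_right_mono (IsLocalRing.map_maximalIdeal_le χ) 2 h1

end Groth.Agent.S19912
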