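import Mathlib
import Groth.Statements.S19919
-- import your own Groth.Agent.* helpers here

set_option autoImplicit false
universe u v w
open DPow

namespace Groth.Agent.S19919

/-- Let R be a commutative ring and P = R⟨X_1, …, X_N⟩ the divided power polynomial algebra over R,
presented concretely as an R-algebra P with elements x i n = X_i^[n] (i < N, n ≥ 0) such that
X_i^[0] = 1, X_i^[n] · X_i^[m] = C(n+m, n) X_i^[n+m], and the monomials ∏_i X_i^[e_i] form an
R-basis of P; let P_+ be the ideal generated by the X_i^[n] with n ≥ 1 and γ the divided power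
structure on P_+ with γ_n(X_i^[1]) = X_i^[n]. Then (P, P_+, γ) is the free divided power R-algebra
on N variables: for every commutative R-algebra S, every ideal J of S with a divided power structure
δ and every family s_1, …, s_N of elements of J there is exactly one R-algebra homomorphism φ : P →
S that is a divided power morphism from (P_+, γ) to (J, δ) and satisfies φ(X_i^[1]) = s_i for all i. -/
theorem result (R : Type u) [CommRing R] (N : ℕ)
    (P : Type v) [CommRing P] [Algebra R P] (x : Fin N → ℕ → P)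
    (hx0 : ∀ i, x i 0 = 1)
    (hxmul : ∀ i n m, x i n * x i m = ((n + m).choose n : P) * x i (n + m))
    (b : Module.Basis (Fin N →₀ ℕ) R P) (hb : ∀ e : Fin N →₀ ℕ, b e = e.prod (fun i k => x i k))
    (γ : DividedPowers (Ideal.span {y : P | ∃ (i : Fin N) (n : ℕ), 1 ≤ n ∧ y = x i n}))
    (hγ : ∀ (i : Fin N) (n : ℕ), γ.dpow n (x i 1) = x i n)
    (S : Type w) [CommRing S] [Algebra R S] (J : Ideal S) (δ : DividedPowers J)
    (s : Fin N → S) (hs : ∀ i, s i ∈ J) :
    ∃! φ : P →ₐ[R] S, γ.IsDPMorphism δ φ.toRingHom ∧ ∀ i, φ (x i 1) = s i := by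
  classical
  -- basis elements as full products
  have hbprod : ∀ e : Fin N →₀ ℕ, b e = ∏ i, x i (e i) := by
    intro e
    rw [hb, Finsupp.prod_fintype _ _ (fun i => hx0 i)]
  have hx1mem : ∀ i, x i 1 ∈ Ideal.span {y : P | ∃ (i : Fin N) (n : ℕ), 1 ≤ n ∧ y = x i n} :=
    fun i => Ideal.subset_span ⟨i, 1, le_rfl, rfl⟩
  have hd0 : ∀ i, δ.dpow 0 (s i) = 1 := fun i => δ.dpow_zero (hs i)
  -- the linear map
  set φ₀ : P →ₗ[R] S := b.constr R (fun e : Fin N →₀ ℕ => ∏ i, δ.dpow (e i) (s i)) with hφ₀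
  have hφ₀b : ∀ e : Fin N →₀ ℕ, φ₀ (b e) = ∏ i, δ.dpow (e i) (s i) := by
    intro e
    rw [hφ₀, Module.Basis.constr_basis]
  have hone : φ₀ 1 = 1 := by
    have h1 : (1 : P) = b 0 := by
      rw [hbprod]
      simp [hx0]
    rw [h1, hφ₀b]
    simp [hd0]
  have hbmul : ∀ e e' : Fin N →₀ ℕ,
      b e * b e' = ((∏ i, ((e i + e' i).choose (e i)) : ℕ) : P) * b (e + e') := by
    intro e e'
    rw [hbprod, hbprod, hbprod, ← Finset.prod_mul_distrib]
    push_cast
    rw [← Finset.prod_mul_distrib]
    refine Finset.prod_congr rfl (fun i _ => ?_)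
    rw [hxmul]
    rfl
  have hmul : ∀ p q : P, φ₀ (p * q) = φ₀ p * φ₀ q := by
    have h2 : (LinearMap.mul R P).compr₂ φ₀ = ((LinearMap.mul R S).comp φ₀).compl₂ φ₀ := by
      refine b.ext (fun e => b.ext (fun e' => ?_))
      simp only [LinearMap.compr₂_apply, LinearMap.mul_apply', LinearMap.compl₂_apply,
        LinearMap.comp_apply]
      rw [hbmul, ← nsmul_eq_mul, map_nsmul, hφ₀b, hφ₀b, hφ₀b, ← Finset.prod_mul_distrib,
        nsmul_eq_mul]
      push_cast
      rw [← Finset.prod_mul_distrib]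
      refine Finset.prod_congr rfl (fun i _ => ?_)
      rw [δ.mul_dpow (hs i)]
      rfl
    intro p q
    have := LinearMap.congr_fun (LinearMap.congr_fun h2 p) q
    simpa using this
  set φ : P →ₐ[R] S := AlgHom.ofLinearMap φ₀ hone hmul with hφ
  have hφapp : ∀ p, φ p = φ₀ p := fun p => rfl
  -- values on the generators
  have hxb : ∀ i n, x i n = b (Finsupp.single i n) := by
    intro i n
    rw [hb, Finsupp.prod_single_index (hx0 i)]
  have hφx : ∀ i n, φ (x i n) = δ.dpow n (s i) := by
    intro i n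
    rw [hφapp, hxb, hφ₀b]
    rw [Finset.prod_eq_single i]
    · simp
    · intro j _ hj
      rw [Finsupp.single_eq_of_ne hj, hd0]
    · intro h
      exact absurd (Finset.mem_univ i) h
  -- `γ` on the generators
  have hγx : ∀ i n m, n ≠ 0 → γ.dpow m (x i n) = (Nat.uniformBell m n : P) * x i (m * n) := by
    intro i n m hn
    rw [← hγ i n, γ.dpow_comp hn (hx1mem i), hγ]
  refine ⟨φ, ⟨?_, ?_⟩, ?_⟩
  · refine DividedPowers.IsDPMorphism.on_span γ δ rfl ?_ ?_
    · rintro y ⟨i, n, hn, rfl⟩
      change φ (x i n) ∈ J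
      rw [hφx]
      exact δ.dpow_mem (by omega) (hs i)
    · rintro m y ⟨i, n, hn, rfl⟩
      change φ (γ.dpow m (x i n)) = δ.dpow m (φ (x i n))
      rw [hγx i n m (by omega), map_mul, map_natCast, hφx, hφx, δ.dpow_comp (by omega) (hs i)]
  · intro i
    rw [hφx, δ.dpow_one (hs i)]
  · rintro ψ ⟨hψ1, hψ2⟩
    have hψx : ∀ i n, ψ (x i n) = δ.dpow n (s i) := by
      intro i n
      rw [← hγ i n]
      have := hψ1.dpow_comp (n := n) (x i 1) (hx1mem i)
      rw [← hψ2 i]
      exact this.symm
    apply AlgHom.toLinearMap_injective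
    refine b.ext (fun e => ?_)
    change ψ (b e) = φ (b e)
    rw [hbprod, map_prod, map_prod]
    refine Finset.prod_congr rfl (fun i _ => ?_)
    rw [hψx, hφx]

end Groth.Agent.S19919
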