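import Groth.Statements.S1992
-- import your own Groth.Agent.* helpers here
import Mathlib

set_option autoImplicit false
universe u
open Polynomial
open EtAlg

namespace Groth.Agent.S1992

theorem exists_root_of_aic (A : Type*) [CommRing A]
    (hA : ∀ f : A[X], f.Monic → ∃ s : Multiset A, f = (s.map fun a => X - C a).prod)
    (M : Submonoid A) (R : Type*) [CommRing R] [Algebra A R] [IsLocalization M R]
    (F : R[X]) (hF : F.Monic) (hdeg : 0 < F.natDegree) : ∃ x : R, F.IsRoot x := by
  classical
  have hntR : Nontrivial R := by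
    by_contra h
    rw [not_nontrivial_iff_subsingleton] at h
    have : F = 0 := Subsingleton.elim _ _
    rw [this, natDegree_zero] at hdeg
    exact lt_irrefl _ hdeg
  have hntA : Nontrivial A := by
    by_contra h
    rw [not_nontrivial_iff_subsingleton] at h
    have h01 : (0 : A) = 1 := Subsingleton.elim _ _
    have := congrArg (algebraMap A R) h01
    rw [map_zero, map_one] at this
    exact zero_ne_one this
  obtain ⟨b, hb⟩ := IsLocalization.exist_integer_multiples_of_finset M
    ((Finset.range F.natDegree).image F.coeff)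
  set bR : R := algebraMap A R b with hbR
  have hbu : IsUnit bR := IsLocalization.map_units R b
  have hG'monic : (scaleRoots F bR).Monic := (monic_scaleRoots_iff bR).2 hF
  have hlift : scaleRoots F bR ∈ Polynomial.lifts (algebraMap A R) := by
    rw [Polynomial.lifts_iff_coeff_lifts]
    intro i
    rw [coeff_scaleRoots]
    rcases lt_trichotomy i F.natDegree with hi | hi | hi
    · obtain ⟨a, ha⟩ := hb (F.coeff i) (Finset.mem_image.2 ⟨i, Finset.mem_range.2 hi, rfl⟩)
      refine ⟨a * (b : A) ^ (F.natDegree - i - 1), ?_⟩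
      rw [map_mul, map_pow, ha, Algebra.smul_def, ← hbR]
      have : F.natDegree - i = (F.natDegree - i - 1) + 1 := by omega
      rw [this, pow_succ, Nat.add_sub_cancel]
      ring
    · subst hi
      refine ⟨1, ?_⟩
      rw [map_one, Nat.sub_self, pow_zero, mul_one]
      exact hF.coeff_natDegree.symm
    · refine ⟨0, ?_⟩
      rw [map_zero, coeff_eq_zero_of_natDegree_lt hi, zero_mul]
  obtain ⟨G, hGmap, hGdeg, hGmonic⟩ := Polynomial.lifts_and_natDegree_eq_and_monic hlift hG'monic
  rw [natDegree_scaleRoots] at hGdeg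
  obtain ⟨s, hs⟩ := hA G hGmonic
  have hcard : Multiset.card s = G.natDegree := by
    rw [hs, natDegree_multiset_prod_X_sub_C_eq_card]
  have hne : s ≠ 0 := by
    intro h
    rw [h, Multiset.card_zero] at hcard
    omega
  obtain ⟨c, hc⟩ := Multiset.exists_mem_of_ne_zero hne
  have hGc : G.eval c = 0 := by
    rw [hs, eval_multiset_prod]
    apply Multiset.prod_eq_zero
    rw [Multiset.mem_map]
    refine ⟨X - C c, Multiset.mem_map.2 ⟨c, hc, rfl⟩, by simp⟩
  have hG'c : (scaleRoots F bR).eval (algebraMap A R c) = 0 := by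
    rw [← hGmap, eval_map, eval₂_hom, hGc, map_zero]
  obtain ⟨u, hu⟩ := hbu
  refine ⟨↑u⁻¹ * algebraMap A R c, ?_⟩
  have h1 := scaleRoots_eval_mul F (↑u⁻¹ * algebraMap A R c) bR
  rw [← hu, ← mul_assoc, Units.mul_inv, one_mul, hu, hG'c] at h1
  have h2 : IsUnit (bR ^ F.natDegree) := (hu ▸ u.isUnit).pow _
  exact (h2.mul_right_eq_zero.1 h1.symm)

theorem exists_root_near (R : Type*) [CommRing R] [IsLocalRing R]
    (hroot : ∀ F : R[X], F.Monic → 0 < F.natDegree → ∃ x : R, F.IsRoot x) :
    ∀ (n : ℕ) (f : R[X]), f.natDegree = n → f.Monic → ∀ a₀ : R,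
      f.eval a₀ ∈ IsLocalRing.maximalIdeal R →
      ∃ a : R, f.IsRoot a ∧ a - a₀ ∈ IsLocalRing.maximalIdeal R := by
  intro n
  induction n with
  | zero =>
    intro f hn hf a₀ h₀
    exfalso
    have : f = 1 := Polynomial.eq_one_of_monic_natDegree_zero hf hn
    rw [this, eval_one] at h₀
    exact (IsLocalRing.maximalIdeal.isMaximal R).ne_top ((Ideal.eq_top_iff_one _).2 h₀)
  | succ n ih =>
    intro f hn hf a₀ h₀
    obtain ⟨r, hr⟩ := hroot f hf (by omega)
    have hdiv : (X - C r) * (f /ₘ (X - C r)) = f := mul_divByMonic_eq_iff_isRoot.2 hr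
    have hmonic : (f /ₘ (X - C r)).Monic :=
      Polynomial.Monic.of_mul_monic_left (monic_X_sub_C r) (hdiv.symm ▸ hf)
    have hdeg : (f /ₘ (X - C r)).natDegree = n := by
      rw [natDegree_divByMonic _ (monic_X_sub_C r), natDegree_X_sub_C, hn]
      rfl
    have h1 : (a₀ - r) * (f /ₘ (X - C r)).eval a₀ ∈ IsLocalRing.maximalIdeal R := by
      have := congrArg (eval a₀) hdiv
      rw [eval_mul, eval_sub, eval_X, eval_C] at this
      rw [this]
      exact h₀
    rcases (IsLocalRing.maximalIdeal.isMaximal R).isPrime.mem_or_mem h1 with h2 | h2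
    · refine ⟨r, hr, ?_⟩
      have : r - a₀ = -(a₀ - r) := by ring
      rw [this]
      exact Ideal.neg_mem_iff _ |>.2 h2
    · obtain ⟨a, ha1, ha2⟩ := ih _ hdeg hmonic a₀ h2
      refine ⟨a, ?_, ha2⟩
      rw [IsRoot.def, ← hdiv, eval_mul, ha1.eq_zero, mul_zero]

/-- Let A be an absolutely integrally closed ring, i.e. every monic polynomial over A is a product of
linear factors X - a. Then for every prime p of A the localization A_p is a strictly henselian local
ring (henselian with separably closed residue field). -/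
theorem result (A : Type u) [CommRing A]
    (hA : ∀ f : A[X], f.Monic → ∃ s : Multiset A, f = (s.map fun a => X - C a).prod)
    (p : Ideal A) [p.IsPrime] :
    EtCoh.IsStrictlyHenselianLocalRing (Localization.AtPrime p) := by
  classical
  have hroot := fun F hF hdeg => exists_root_of_aic A hA p.primeCompl (Localization.AtPrime p) F hF hdeg
  have hhens : HenselianLocalRing (Localization.AtPrime p) := by
    refine { is_henselian := ?_ }
    intro f hf a₀ h₀ _
    obtain ⟨a, ha1, ha2⟩ := exists_root_near (Localization.AtPrime p) hroot f.natDegree f rfl hf a₀ h₀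
    exact ⟨a, ha1, ha2⟩
  refine ⟨hhens, ?_⟩
  -- the residue field is algebraically closed
  have hac : IsAlgClosed (IsLocalRing.ResidueField (Localization.AtPrime p)) := by
    refine IsAlgClosed.of_exists_root _ ?_
    intro q hq hirr
    have hlift : q ∈ Polynomial.lifts (IsLocalRing.residue (Localization.AtPrime p)) := by
      rw [Polynomial.lifts_iff_coeff_lifts]
      intro n
      exact IsLocalRing.residue_surjective _
    obtain ⟨F, hFq, hFdeg, hFmonic⟩ := Polynomial.lifts_and_natDegree_eq_and_monic hlift hq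
    have hdeg : 0 < F.natDegree := by
      rw [hFdeg]
      exact hirr.natDegree_pos
    obtain ⟨x, hx⟩ := hroot F hFmonic hdeg
    refine ⟨IsLocalRing.residue _ x, ?_⟩
    rw [← hFq, Polynomial.eval_map, Polynomial.eval₂_hom, hx.eq_zero, map_zero]
  infer_instance

end Groth.Agent.S1992
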