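import Groth.Statements.S19957
import Mathlib
import Groth.Agent.Lib.Helper20.HR19
import Groth.Agent.Lib.Helper20.HR21

set_option autoImplicit false
universe u
open CategoryTheory CategoryTheory.Limits AlgebraicGeometry
open Grpd

namespace Groth.Agent.S19957


/-- Let (U, R, s, t, c) be a groupoid scheme over S with U affine and s, t separated, flat and locally
of finite presentation, and let u ∈ U be a point such that the set of points of the stabilizer G → U
(the base change of j = (t, s) : R → U ×_S U along the diagonal of U) lying over u is finite and s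
is quasi-finite at the image in R of each of these points. Then there exist an etale morphism U' → U
with U' affine and a point u' of U' lying over u with trivial residue field extension κ(u) = κ(u'),
such that the restriction R' of R to U' (the groupoid scheme on U' whose arrows form the base change
of j along U' ×_S U' → U ×_S U) is split over u': there is an open subscheme P ⊂ R' which is a
subgroupoid (the identity of U', the inverse of P and the composition of composable pairs of P land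
in P), with s'|_P and t'|_P finite, and containing the image in R' of every point of the stabilizer
G' → U' of R' lying over u'. -/
theorem result (S : Scheme.{u}) (G : Grpd.GroupoidScheme S) [IsAffine G.U]
    [IsSeparated G.s] [IsSeparated G.t] [Flat G.s] [Flat G.t]
    [LocallyOfFinitePresentation G.s] [LocallyOfFinitePresentation G.t]
    (u : ↥G.U) (hfin : Set.Finite {g : ↥G.stabilizer | G.stabilizerToU g = u})
    (hqf : ∀ g : ↥G.stabilizer, G.stabilizerToU g = u →
      Dual3.QuasiFiniteAt G.s ((pullback.fst G.j G.diag : G.stabilizer ⟶ G.R) g)) :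
    ∃ (G' : Grpd.GroupoidScheme S) (φ : Grpd.GroupoidScheme.Hom G' G) (u' : ↥G'.U),
      IsAffine G'.U ∧ Etale φ.fU ∧ φ.fU u' = u ∧ IsIso (φ.fU.residueFieldMap u') ∧
      IsPullback φ.fR G'.j G.j
        (pullback.map G'.pU G'.pU G.pU G.pU φ.fU φ.fU (𝟙 S)
          ((Category.comp_id _).trans φ.fU_over.symm) ((Category.comp_id _).trans φ.fU_over.symm)) ∧
      ∃ (P : Scheme.{u}) (ιP : P ⟶ G'.R), IsOpenImmersion ιP ∧
        (∃ eP : G'.U ⟶ P, eP ≫ ιP = G'.e) ∧ (∃ iP : P ⟶ P, iP ≫ ιP = ιP ≫ G'.i) ∧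
        (∃ cP : pullback (ιP ≫ G'.s) (ιP ≫ G'.t) ⟶ P,
          cP ≫ ιP = pullback.map (ιP ≫ G'.s) (ιP ≫ G'.t) G'.s G'.t ιP ιP (𝟙 G'.U)
            (Category.comp_id _) (Category.comp_id _) ≫ G'.c) ∧
        IsFinite (ιP ≫ G'.s) ∧ IsFinite (ιP ≫ G'.t) ∧
        ∀ g' : ↥G'.stabilizer, G'.stabilizerToU g' = u' →
          ∃ p : ↥P, ιP p = (pullback.fst G'.j G'.diag : G'.stabilizer ⟶ G'.R) g' := by

  classical
  obtain ⟨Sig, hSig⟩ : ∃ Sig : Set ↥G.R, Sig = (fun g : ↥G.stabilizer =>
      Groth.Agent.Lib.Helper20.HR.stabR G g) '' {g : ↥G.stabilizer | G.stabilizerToU g = u} :=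
    ⟨_, rfl⟩
  have hmem : ∀ r : ↥G.R, r ∈ Sig ↔ ∃ g : ↥G.stabilizer, G.stabilizerToU g = u ∧
      Groth.Agent.Lib.Helper20.HR.stabR G g = r := by
    intro r
    rw [hSig]
    exact Iff.rfl
  have hSfin : Sig.Finite := by
    rw [hSig]
    exact hfin.image _
  obtain ⟨G', φ, u', h1, h2, h3, h4, h5, P, ιP, h6, h7, h8, h9, h10, h11, h12⟩ :=
    Groth.Agent.Lib.Helper20.HR.core G u Sig hSfin
      (by
        intro r hr
        obtain ⟨g, hg, rfl⟩ := (hmem r).mp hr
        change (Groth.Agent.Lib.Helper20.HR.stabR G ≫ G.s) g = u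
        rw [Groth.Agent.Lib.Helper20.HR.stabR_s]; exact hg)
      (by
        intro r hr
        obtain ⟨g, hg, rfl⟩ := (hmem r).mp hr
        change (Groth.Agent.Lib.Helper20.HR.stabR G ≫ G.t) g = u
        rw [Groth.Agent.Lib.Helper20.HR.stabR_t]; exact hg)
      (by
        intro r hr
        obtain ⟨g, hg, rfl⟩ := (hmem r).mp hr
        exact Scheme.Hom.quasiFiniteAt_iff_isOpen_singleton_asFiber.mpr (hqf g hg))
      (by
        obtain ⟨g, hg1, hg2⟩ := Groth.Agent.Lib.Helper20.HR.stab_unit_mem G u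
        exact (hmem _).mpr ⟨g, hg1, hg2⟩)
      (by
        intro r hr
        obtain ⟨g, hg, rfl⟩ := (hmem r).mp hr
        obtain ⟨g', hg'1, hg'2⟩ := Groth.Agent.Lib.Helper20.HR.stab_inv_mem G g
        exact (hmem _).mpr ⟨g', hg'1.trans hg, hg'2⟩)
      (by
        intro z hz1 hz2
        obtain ⟨g₁, hg₁, hg₁'⟩ := (hmem _).mp hz1
        obtain ⟨g₂, hg₂, hg₂'⟩ := (hmem _).mp hz2
        obtain ⟨g₃, hg₃1, hg₃2⟩ := Groth.Agent.Lib.Helper20.HR.stab_mul_mem G z g₁ g₂
          hg₁'.symm hg₂'.symm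
        exact (hmem _).mpr ⟨g₃, hg₃1.trans hg₁, hg₃2⟩)
  refine ⟨G', φ, u', h1, h2, h3, h4, h5, P, ιP, h6, h7, h8, h9, h10, h11, ?_⟩
  intro g' hg'
  apply h12
  · change (Groth.Agent.Lib.Helper20.HR.stabR G' ≫ G'.s) g' = u'
    rw [Groth.Agent.Lib.Helper20.HR.stabR_s]; exact hg'
  · change (Groth.Agent.Lib.Helper20.HR.stabR G' ≫ G'.t) g' = u'
    rw [Groth.Agent.Lib.Helper20.HR.stabR_t]; exact hg'
  · obtain ⟨g, hg1, hg2⟩ := Groth.Agent.Lib.Helper20.HR.stab_map_mem φ g'
    refine (hmem _).mpr ⟨g, ?_, hg2⟩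
    rw [hg1, hg', h3]

end Groth.Agent.S19957
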