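import Groth.Statements.S19974
import Groth.Agent.Lib.Helper15.OreDer

-- import your own Groth.Agent.* helpers here

set_option autoImplicit false
universe u v w x
open scoped BigOperators
open DefMod

namespace Groth.Agent.S19974

/-- Let K be a field of characteristic 0, O a commutative K-algebra with a K-linear derivation δ, and D
the ring of differential operators O[∂], presented abstractly as a K-algebra D with an algebra map ι
: O → D and an element ∂ of D such that ∂ ι(f) = ι(f) ∂ + ι(δ f) for every f in O and such that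
every element of D is in a unique way a finite sum of terms ι(f_i) ∂^i. Let E be a left D-module,
given as a K-vector space with a K-algebra map ρ : D → End_K(E), which is finite free as an
O-module. A K-derivation of D with values in the D-bimodule End_K(E) is a K-linear map s with s(PQ)
= s(P) ρ(Q) + ρ(P) s(Q); a K-derivation of O with values in End_K(E) is a K-linear map r with r(fg)
= r(f) ρ(ι g) + ρ(ι f) r(g). Then: (a) for every K-derivation s of D into End_K(E), the pair (r, v)
= (s ∘ ι, s(∂)) satisfies the identity [r(f), ρ(∂)] + [ρ(ι f), v] + r(δ f) = 0 for all f in O; (b)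
conversely, for every K-derivation r of O into End_K(E) and every v in End_K(E) satisfying that
identity for all f, there is exactly one K-derivation s of D into End_K(E) with s ∘ ι = r and s(∂) =
v. In other words s ↦ (s ∘ ι, s(∂)) maps the K-derivations of D injectively onto the pairs
satisfying the identity. -/
theorem result
    (K : Type u) [Field K] [CharZero K]
    (O : Type v) [CommRing O] [Algebra K O] (δ : Derivation K O O)
    (D : Type w) [Ring D] [Algebra K D] (ι : O →ₐ[K] D) (d : D)
    (hd : ∀ f : O, d * ι f = ι f * d + ι (δ f))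
    (hbasis : Function.Bijective (fun c : ℕ →₀ O => c.sum (fun i f => ι f * d ^ i)))
    (E : Type x) [AddCommGroup E] [Module K E] (ρ : D →ₐ[K] Module.End K E)
    (hE : ∃ (n : ℕ) (b : Fin n → E), Function.Bijective (fun c : Fin n → O => ∑ i, ρ (ι (c i)) (b i))) :
    (∀ s : D →ₗ[K] Module.End K E, (∀ P Q : D, s (P * Q) = s P * ρ Q + ρ P * s Q) →
      ∀ f : O, (s (ι f) * ρ d - ρ d * s (ι f)) + (ρ (ι f) * s d - s d * ρ (ι f)) + s (ι (δ f)) = 0) ∧
    ∀ (r : O →ₗ[K] Module.End K E) (v : Module.End K E),
      (∀ f g : O, r (f * g) = r f * ρ (ι g) + ρ (ι f) * r g) →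
      (∀ f : O, (r f * ρ d - ρ d * r f) + (ρ (ι f) * v - v * ρ (ι f)) + r (δ f) = 0) →
      ∃! s : D →ₗ[K] Module.End K E,
        (∀ P Q : D, s (P * Q) = s P * ρ Q + ρ P * s Q) ∧ s ∘ₗ ι.toLinearMap = r ∧ s d = v := by
  refine ⟨?_, ?_⟩
  · intro s hs f
    have h := congrArg s (hd f)
    rw [hs, map_add, hs] at h
    have h2 : (s (ι f) * ρ d - ρ d * s (ι f)) + (ρ (ι f) * s d - s d * ρ (ι f)) + s (ι (δ f)) =
        (s (ι f) * ρ d + ρ (ι f) * s d + s (ι (δ f))) - (s d * ρ (ι f) + ρ d * s (ι f)) := by
      abel
    rw [h2, ← h, sub_self]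
  · intro r v hr hI
    have hr1 : r 1 = 0 := by
      have := hr 1 1
      rw [mul_one, map_one ι, map_one ρ, mul_one, one_mul] at this
      have h2 : r 1 + 0 = r 1 + r 1 := by rw [add_zero]; exact this
      exact (add_left_cancel h2).symm
    refine ⟨Groth.Agent.Lib.Helper15.OreDer.s ι d ρ r v hbasis, ⟨?_, ?_, ?_⟩, ?_⟩
    · exact Groth.Agent.Lib.Helper15.OreDer.s_leibniz δ ι d ρ r v hbasis hd hr hI
    · ext f : 1
      show Groth.Agent.Lib.Helper15.OreDer.s ι d ρ r v hbasis (ι f) = r f
      have := Groth.Agent.Lib.Helper15.OreDer.s_single ι d ρ r v hbasis 0 f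
      rw [pow_zero, mul_one, pow_zero, mul_one] at this
      rw [this]
      show r f + ρ (ι f) * 0 = r f
      rw [mul_zero, add_zero]
    · have := Groth.Agent.Lib.Helper15.OreDer.s_single ι d ρ r v hbasis 1 1
      rw [map_one ι, one_mul, pow_one, hr1, zero_mul, zero_add, map_one ρ, one_mul] at this
      rw [this]
      show v * ρ d ^ 0 + ρ d * 0 = v
      rw [pow_zero, mul_one, mul_zero, add_zero]
    · intro s' ⟨hs', hs'ι, hs'd⟩
      set s₀ := Groth.Agent.Lib.Helper15.OreDer.s ι d ρ r v hbasis with hs₀
      have hs₀L := Groth.Agent.Lib.Helper15.OreDer.s_leibniz δ ι d ρ r v hbasis hd hr hI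
      rw [← hs₀] at hs₀L
      have hs₀ι : ∀ f, s₀ (ι f) = r f := by
        intro f
        have := Groth.Agent.Lib.Helper15.OreDer.s_single ι d ρ r v hbasis 0 f
        rw [pow_zero, mul_one, pow_zero, mul_one] at this
        rw [hs₀, this]
        show r f + ρ (ι f) * 0 = r f
        rw [mul_zero, add_zero]
      have hs₀d : s₀ d = v := by
        have := Groth.Agent.Lib.Helper15.OreDer.s_single ι d ρ r v hbasis 1 1
        rw [map_one ι, one_mul, pow_one, hr1, zero_mul, zero_add, map_one ρ, one_mul] at this
        rw [hs₀, this]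
        show v * ρ d ^ 0 + ρ d * 0 = v
        rw [pow_zero, mul_one, mul_zero, add_zero]
      have hs'ι' : ∀ f, s' (ι f) = r f := fun f => LinearMap.congr_fun hs'ι f
      have hpow : ∀ i : ℕ, s' (d ^ i) = s₀ (d ^ i) := by
        intro i
        induction i with
        | zero =>
          rw [pow_zero]
          have h1 := hs'ι' 1
          have h2 := hs₀ι 1
          rw [map_one ι] at h1 h2
          rw [h1, h2]
        | succ i ih =>
          rw [pow_succ, hs', hs₀L, ih, hs'd, hs₀d]
      apply LinearMap.ext
      intro P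
      induction P using Groth.Agent.Lib.Helper15.OreDer.induction_D ι d hbasis with
      | h0 => rw [map_zero, map_zero]
      | hadd a b ha hb => rw [map_add, map_add, ha, hb]
      | hsingle i f => rw [hs', hs₀L, hs'ι', hs₀ι, hpow]


end Groth.Agent.S19974
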