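import Groth.Statements.S1998
import Mathlib.Algebra.Polynomial.Lifts
-- import your own Groth.Agent.* helpers here

set_option autoImplicit false
universe u
open EtAlg

namespace Groth.Agent.S1998

/-- Let (A_j, I_j) be a directed system of henselian pairs (ring maps A_j -> A_k for j ≤ k carrying I_j
into I_k). Then the direct limit A of the A_j together with the ideal generated by the images of the
I_j is a henselian pair. -/
theorem result {ι : Type u} [Preorder ι] [IsDirected ι (· ≤ ·)] [Nonempty ι]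
    (G : ι → Type u) [∀ i, CommRing (G i)] (f : ∀ i j, i ≤ j → G i →+* G j)
    [DirectedSystem G fun i j h => f i j h] (I : ∀ i, Ideal (G i))
    (hI : ∀ i j (h : i ≤ j), (I i).map (f i j h) ≤ I j) (hh : ∀ i, HenselianRing (G i) (I i)) :
    HenselianRing (Ring.DirectLimit G fun i j h => f i j h)
      (⨆ i, (I i).map (Ring.DirectLimit.of G (fun i j h => f i j h) i)) := by
  classical
  set L := Ring.DirectLimit G fun i j h => f i j h with hL
  set ofR : ∀ i, G i →+* L := fun i => Ring.DirectLimit.of G (fun i j h => f i j h) i with hofR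
  set J : Ideal L := ⨆ i, (I i).map (ofR i) with hJ
  have hof : ∀ i j (h : i ≤ j) (x : G i), ofR j (f i j h x) = ofR i x :=
    fun i j h x => Ring.DirectLimit.of_f h x
  have hmm : ∀ i j k (hij : i ≤ j) (hjk : j ≤ k) (x : G i),
      f j k hjk (f i j hij x) = f i k (hij.trans hjk) x :=
    fun i j k hij hjk x => DirectedSystem.map_map' f hij hjk x
  have hIf : ∀ i j (h : i ≤ j) (x : G i), x ∈ I i → f i j h x ∈ I j :=
    fun i j h x hx => hI i j h (Ideal.mem_map_of_mem _ hx)
  have hJmem : ∀ i (z : G i), z ∈ I i → ofR i z ∈ J := fun i z hz =>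
    (le_iSup (fun i => (I i).map (ofR i)) i) (Ideal.mem_map_of_mem _ hz)
  -- Lemma A
  have hA : ∀ x ∈ J, ∃ k z, z ∈ I k ∧ ofR k z = x := by
    let S : Ideal L :=
      { carrier := {x | ∃ k z, z ∈ I k ∧ ofR k z = x}
        zero_mem' := ⟨Classical.arbitrary ι, 0, zero_mem _, map_zero _⟩
        add_mem' := by
          rintro _ _ ⟨k, z, hz, rfl⟩ ⟨k', z', hz', rfl⟩
          obtain ⟨n, hkn, hk'n⟩ := exists_ge_ge k k'
          refine ⟨n, f k n hkn z + f k' n hk'n z', add_mem (hIf _ _ _ _ hz) (hIf _ _ _ _ hz'), ?_⟩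
          rw [map_add, hof, hof]
        smul_mem' := by
          rintro c _ ⟨k, z, hz, rfl⟩
          obtain ⟨l, w, rfl⟩ := Ring.DirectLimit.exists_of c
          obtain ⟨n, hln, hkn⟩ := exists_ge_ge l k
          refine ⟨n, f l n hln w * f k n hkn z, Ideal.mul_mem_left _ _ (hIf _ _ _ _ hz), ?_⟩
          rw [map_mul, hof, hof]
          rfl }
    have hJS : J ≤ S := iSup_le fun i => Ideal.map_le_iff_le_comap.2 fun z hz => ⟨i, z, hz, rfl⟩
    exact fun x hx => hJS hx
  -- Lemma B
  have hB : ∀ m (y : G m), ofR m y ∈ J → ∃ n, ∃ h : m ≤ n, f m n h y ∈ I n := by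
    intro m y hy
    obtain ⟨k, z, hz, hzy⟩ := hA _ hy
    obtain ⟨n0, hmn0, hkn0⟩ := exists_ge_ge m k
    have h0 : ofR n0 (f m n0 hmn0 y - f k n0 hkn0 z) = 0 := by
      rw [map_sub, hof, hof, hzy, sub_self]
    obtain ⟨n, hn0n, hn⟩ := Ring.DirectLimit.of.zero_exact h0
    refine ⟨n, hmn0.trans hn0n, ?_⟩
    rw [map_sub, sub_eq_zero, hmm, hmm] at hn
    rw [hn]
    exact hIf _ _ _ _ hz
  refine ⟨?_, ?_⟩
  · intro x hx
    rw [Ideal.mem_jacobson_bot]
    intro y
    obtain ⟨k, z, hz, rfl⟩ := hA x hx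
    obtain ⟨l, w, rfl⟩ := Ring.DirectLimit.exists_of y
    obtain ⟨n, hkn, hln⟩ := exists_ge_ge k l
    have hu : IsUnit (f k n hkn z * f l n hln w + 1) :=
      Ideal.mem_jacobson_bot.1 ((hh n).jac (hIf _ _ _ _ hz)) _
    have := hu.map (ofR n)
    rwa [map_add, map_mul, hof, hof, map_one] at this
  · intro F hF a₀ h1 h2
    -- lift F to a monic polynomial
    obtain ⟨i, p0, hp0⟩ := Ring.DirectLimit.Polynomial.exists_of F
    obtain ⟨p, hpF, -, hpm⟩ :=
      Polynomial.lifts_and_natDegree_eq_and_monic ((Polynomial.mem_lifts F).2 ⟨p0, hp0⟩) hF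
    obtain ⟨j, b₀, rfl⟩ := Ring.DirectLimit.exists_of a₀
    obtain ⟨u', hu'⟩ := h2.exists_right_inv
    obtain ⟨u, rfl⟩ := Ideal.Quotient.mk_surjective u'
    obtain ⟨l, v, rfl⟩ := Ring.DirectLimit.exists_of u
    rw [← map_mul, ← map_one (Ideal.Quotient.mk J), Ideal.Quotient.eq] at hu'
    obtain ⟨m0, him0, hjm0⟩ := exists_ge_ge i j
    obtain ⟨m, hm0m, hlm⟩ := exists_ge_ge m0 l
    have him : i ≤ m := him0.trans hm0m
    have hjm : j ≤ m := hjm0.trans hm0m
    -- everything at level m
    have hFm : F = (p.map (f i m him)).map (ofR m) := by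
      rw [Polynomial.map_map, ← hpF]
      congr 1
      ext x
      exact (hof _ _ _ _).symm
    have hev : ∀ (n : ι) (q : Polynomial (G n)) (c : G n),
        ((q.map (ofR n))).eval (ofR n c) = ofR n (q.eval c) := by
      intro n q c
      rw [Polynomial.eval_map, Polynomial.eval₂_at_apply]
    have hev' : ∀ (n n' : ι) (h : n ≤ n') (q : Polynomial (G n)) (c : G n),
        ((q.map (f n n' h))).eval (f n n' h c) = f n n' h (q.eval c) := by
      intro n n' h q c
      rw [Polynomial.eval_map, Polynomial.eval₂_at_apply]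
    set pm := p.map (f i m him) with hpm_def
    set b := f j m hjm b₀ with hb
    set vm := f l m hlm v with hvm
    have hb0 : ofR j b₀ = ofR m b := (hof _ _ _ _).symm
    have hv0 : ofR l v = ofR m vm := (hof _ _ _ _).symm
    have e1 : F.eval (ofR j b₀) = ofR m (pm.eval b) := by
      rw [hFm, hb0, hev]
    have e2 : F.derivative.eval (ofR j b₀) * ofR l v - 1 =
        ofR m (pm.derivative.eval b * vm - 1) := by
      rw [hFm, hb0, hv0, Polynomial.derivative_map, hev, map_sub, map_mul, map_one]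
    rw [e1] at h1
    rw [e2] at hu'
    obtain ⟨m1, hmm1, h1'⟩ := hB _ _ h1
    obtain ⟨m2, hmm2, h2'⟩ := hB _ _ hu'
    obtain ⟨n, hm1n, hm2n⟩ := exists_ge_ge m1 m2
    have hmn : m ≤ n := hmm1.trans hm1n
    have h1n : f m n hmn (pm.eval b) ∈ I n := by
      have := hIf _ _ hm1n _ h1'
      rwa [hmm] at this
    have h2n : f m n hmn (pm.derivative.eval b * vm - 1) ∈ I n := by
      have := hIf _ _ hm2n _ h2'
      rwa [hmm] at this
    set pn := pm.map (f m n hmn) with hpn
    set bn := f m n hmn b with hbn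
    have hpn_monic : pn.Monic := (hpm.map _).map _
    have hr1 : pn.eval bn ∈ I n := by
      rw [hpn, hbn, hev']; exact h1n
    have hr2 : IsUnit (Ideal.Quotient.mk (I n) (pn.derivative.eval bn)) := by
      refine IsUnit.of_mul_eq_one (Ideal.Quotient.mk (I n) (f m n hmn vm)) ?_
      rw [← map_mul, ← map_one (Ideal.Quotient.mk (I n)), Ideal.Quotient.eq, hpn, hbn,
        Polynomial.derivative_map, hev']
      rw [map_sub, map_mul, map_one] at h2n
      exact h2n
    obtain ⟨a, ha, hab⟩ := (hh n).is_henselian pn hpn_monic bn hr1 hr2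
    refine ⟨ofR n a, ?_, ?_⟩
    · have hcomp : (ofR n).comp (f m n hmn) = ofR m := by
        ext x
        exact hof _ _ _ _
      have hFn : F = pn.map (ofR n) := by
        rw [hpn, Polynomial.map_map, hcomp]
        exact hFm
      rw [Polynomial.IsRoot.def, hFn, hev, ha.eq_zero, map_zero]
    · have : ofR n a - ofR j b₀ = ofR n (a - bn) := by
        rw [map_sub, hb0, hbn, hof m n hmn b]
      rw [this]
      exact hJmem _ _ hab

end Groth.Agent.S1998
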