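import Groth.Statements.S2000
-- import your own Groth.Agent.* helpers here
import Mathlib
import Groth.Agent.Lib.Helper12.BL6

set_option autoImplicit false
universe u
open TensorProduct
open EtAlg

namespace Groth.Agent.S2000

/-- Beauville–Laszlo, essential surjectivity with glueability: take a glueing pair (R -> R', f). Fix an
R'-module M', an R-module M₁ on which multiplication by f is bijective (i.e. an R_f-module), and α
an R'-linear isomorphism from the localization of M' at f to R' ⊗_R M₁ (an isomorphism of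
R'_f-modules). Then there is an R-module M, glueable for (R -> R', f), with an R'-isomorphism R' ⊗_R
M ≅ M' and an R-isomorphism M_f ≅ M₁ under which α becomes the canonical identification (R' ⊗_R M)_f
= R' ⊗_R M_f. -/
theorem result (R R' : Type u) [CommRing R] [CommRing R'] [Algebra R R'] (f : R)
    (hRR : EtGlue.IsGlueingPair R R' f) (M' : Type u) [AddCommGroup M'] [Module R' M'] (M₁ : Type u) [AddCommGroup M₁]
    [Module R M₁] (hf : Function.Bijective fun x : M₁ => f • x)
    (α : LocalizedModule (Submonoid.powers (algebraMap R R' f)) M' ≃ₗ[R'] R' ⊗[R] M₁) :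
    ∃ (M : Type u) (_ : AddCommGroup M) (_ : Module R M) (_ : EtGlue.IsGlueable R R' f M)
      (e' : R' ⊗[R] M ≃ₗ[R'] M') (e₁ : LocalizedModule (Submonoid.powers f) M ≃ₗ[R] M₁),
      ∀ m : M, α (LocalizedModule.mkLinearMap (Submonoid.powers (algebraMap R R' f)) M' (e' ((1 : R') ⊗ₜ[R] m))) =
        (1 : R') ⊗ₜ[R] e₁ (LocalizedModule.mkLinearMap (Submonoid.powers f) M m) := by
  classical
  let _ : Module R M' := Module.compHom M' (algebraMap R R')
  have : IsScalarTower R R' M' := IsScalarTower.of_algebraMap_smul (fun r x => rfl)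
  let a : M' →ₗ[R'] R' ⊗[R] M₁ :=
    α.toLinearMap ∘ₗ LocalizedModule.mkLinearMap (Submonoid.powers (algebraMap R R' f)) M'
  let b : M₁ →ₗ[R] R' ⊗[R] M₁ := TensorProduct.mk R R' M₁ 1
  let g : M' × M₁ →ₗ[R] R' ⊗[R] M₁ := (a.restrictScalars R).coprod (-b)
  let Mk : Submodule R (M' × M₁) := LinearMap.ker g
  let p' : Mk →ₗ[R] M' := (LinearMap.fst R M' M₁) ∘ₗ Mk.subtype
  let p₁ : Mk →ₗ[R] M₁ := (LinearMap.snd R M' M₁) ∘ₗ Mk.subtype
  have hmem : ∀ z : M' × M₁, z ∈ Mk ↔ a z.1 = (1 : R') ⊗ₜ[R] z.2 := by
    intro z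
    change g z = 0 ↔ _
    simp only [g, b, LinearMap.coprod_apply, LinearMap.neg_apply, LinearMap.coe_restrictScalars,
      TensorProduct.mk_apply]
    rw [← sub_eq_add_neg, sub_eq_zero]
  have hpow : ∀ (n : ℕ) (l : R' ⊗[R] M₁), (algebraMap R R' f) ^ n • l = f ^ n • l := by
    intro n l
    rw [← map_pow, algebraMap_smul]
  have hpow' : ∀ (n : ℕ) (x : M'), (algebraMap R R' f) ^ n • x = f ^ n • x := by
    intro n x
    rw [← map_pow, algebraMap_smul]
  have hG : Groth.Agent.Lib.Helper12.BL.GlueData f a p' p₁ :=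
    { bij := hf
      surj := by
        intro l
        obtain ⟨⟨x, ⟨_, n, rfl⟩⟩, hx⟩ := IsLocalizedModule.surj
          (Submonoid.powers (algebraMap R R' f))
          (LocalizedModule.mkLinearMap (Submonoid.powers (algebraMap R R' f)) M') (α.symm l)
        refine ⟨n, x, ?_⟩
        have := congrArg α hx
        rw [Submonoid.smul_def, map_smul, LinearEquiv.apply_symm_apply] at this
        rw [← hpow]
        exact this
      ker := by
        intro x hx
        have h0 : LocalizedModule.mkLinearMap (Submonoid.powers (algebraMap R R' f)) M' x = 0 := by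
          apply α.injective
          rw [map_zero]
          exact hx
        rw [IsLocalizedModule.eq_zero_iff (Submonoid.powers (algebraMap R R' f))] at h0
        obtain ⟨⟨_, n, rfl⟩, hn⟩ := h0
        refine ⟨n, ?_⟩
        rw [← hpow']
        exact hn
      inj := by
        rintro ⟨⟨x, y⟩, hm⟩ h1 h2
        change x = 0 at h1
        change y = 0 at h2
        subst h1 h2
        rfl
      comm := by
        rintro ⟨⟨x, y⟩, hm⟩
        exact (hmem _).mp hm
      ex := by
        intro x y hxy
        exact ⟨⟨(x, y), (hmem _).mpr hxy⟩, rfl, rfl⟩ }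
  have := hG.isLocalizedModule
  refine ⟨Mk, inferInstance, inferInstance, hG.isGlueable hRR,
    LinearEquiv.ofBijective (p'.liftBaseChange R')
      ⟨hG.lift_injective hRR, hG.lift_surjective hRR.1⟩,
    IsLocalizedModule.iso (Submonoid.powers f) p₁, ?_⟩
  intro m
  rw [LinearEquiv.ofBijective_apply, LinearMap.liftBaseChange_tmul, one_smul,
    LocalizedModule.mkLinearMap_apply (S := Submonoid.powers f), IsLocalizedModule.iso_mk_one]
  exact hG.comm m

end Groth.Agent.S2000
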