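import Groth.Statements.S20006
import Groth.Agent.Lib.Helper1.PC2
import Groth.Agent.Lib.Helper1.FPB11

set_option autoImplicit false
universe u
open Pinch

namespace Groth.Agent.S20006

section Helpers

open CategoryTheory AlgebraicGeometry CategoryTheory.Limits

/-- global sections turn pushouts of schemes into pullbacks of rings -/
lemma Γ_isPullback {Z X T P : Scheme.{u}} {i : Z ⟶ X} {j : Z ⟶ T} {a : X ⟶ P} {b : T ⟶ P}
    (h : IsPushout i j a b) : IsPullback a.appTop b.appTop i.appTop j.appTop := by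
  haveI := ΓSpec.adjunction.leftAdjoint_preservesColimits
  exact (h.map Scheme.Γ.rightOp).unop.flip

lemma exists_of_isPullback_ring {P A B C : CommRingCat.{u}} {t : P ⟶ A} {l : P ⟶ B} {r : A ⟶ C}
    {b : B ⟶ C} (h : IsPullback t l r b) (x : A) (y : B) (hxy : r.hom x = b.hom y) :
    ∃ p : P, t.hom p = x ∧ l.hom p = y :=
  Limits.Types.exists_of_isPullback (h.map (forget CommRingCat)) x y hxy

lemma ext_of_isPullback_ring {P A B C : CommRingCat.{u}} {t : P ⟶ A} {l : P ⟶ B} {r : A ⟶ C}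
    {b : B ⟶ C} (h : IsPullback t l r b) (p p' : P) (h1 : t.hom p = t.hom p')
    (h2 : l.hom p = l.hom p') : p = p' :=
  Limits.Types.ext_of_isPullback (h.map (forget CommRingCat)) h1 h2

lemma affine_pushout {W Y Y' : Scheme.{u}} [IsAffine W] [IsAffine Y] [IsAffine Y'] (w : W ⟶ Y)
    (g₀ : Y' ⟶ Y) {A' : CommRingCat.{u}} (e : Γ(Y', ⊤) ≅ A') (φ' : Γ(Y, ⊤) ⟶ A')
    (hg : g₀.appTop = φ' ≫ e.inv) :
    IsPushout w.appTop φ' (pullback.fst w g₀).appTop (e.inv ≫ (pullback.snd w g₀).appTop) := by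
  have h := isPushout_appTop_of_isPullback (IsPullback.of_hasPullback w g₀)
  refine h.of_iso (Iso.refl _) (Iso.refl _) e (Iso.refl _) ?_ ?_ ?_ ?_
  · simp
  · rw [hg]; simp
  · simp
  · simp

end Helpers

open CategoryTheory AlgebraicGeometry in
/-- Let Y be an affine scheme whose ring of functions R = Γ(Y, O_Y) is a Dedekind domain, f : X → Y a
proper flat morphism, t : T → Y a finite morphism, ξ : Z → T a finite faithfully flat morphism with
ξ ≫ t finite, and ι : Z → X a closed immersion over Y; assume every point of Y has an affine open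
neighbourhood U together with an affine open V of X inside f⁻¹(U) containing the image under ι of
the part of Z over U, and that over every affine open U of Y the cokernel of the map from functions
on t⁻¹(U) to functions on the part of Z over U is a projective module over the functions on U; let X
→ P ← T be a push-out of ι and ξ in the category of schemes and p : P → Y the induced morphism.
Suppose that f is cohomologically flat in dimension zero, rendered over the affine base as: for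
every commutative ring A and ring map φ : R → A, with Spec A → Y the corresponding morphism, the
square formed by R → Γ(X, O_X), φ, Γ(X, O_X) → Γ(X ×_Y Spec A, O) and A → Γ(X ×_Y Spec A, O) is a
push-out of commutative rings (Γ(X_A, O) = Γ(X, O) ⊗_R A). Suppose moreover that R → Γ(P, O_P) is an
isomorphism (p_* O_P = O_Y) and that Γ(X, O_X) is an étale R-algebra. Then p is cohomologically flat
in dimension zero in the same sense. (The published statement is over an arbitrary Dedekind scheme Y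
with the same local hypotheses; this row takes Y affine so that cohomological flatness can be
written through global sections.) -/
theorem result {X Y T Z : Scheme.{u}} [IsAffine Y]
    (hR : IsDedekindDomain Γ(Y, ⊤))
    (f : X ⟶ Y) (t : T ⟶ Y) (ξ : Z ⟶ T) (ι : Z ⟶ X)
    [IsProper f] [Flat f] [IsFinite t] [IsFinite (ξ ≫ t)] [IsClosedImmersion ι] (hsq : ι ≫ f = ξ ≫ t)
    (hstd : ∀ y : Y, ∃ U : Y.Opens, IsAffineOpen U ∧ y ∈ U ∧ ∃ V : X.Opens, IsAffineOpen V ∧
      V ≤ f ⁻¹ᵁ U ∧ ∀ z : Z, (ξ ≫ t).base z ∈ U → ι.base z ∈ V)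
    [IsFinite ξ] [Flat ξ] [Surjective ξ]
    {P : Scheme.{u}} (a : X ⟶ P) (b : T ⟶ P) (hP : IsPushout ι ξ a b)
    (hv : ∀ U : Y.affineOpens, @Pinch.CokerProjective Γ(Y, U) Γ(Z, (ξ ≫ t) ⁻¹ᵁ U) Γ(T, t ⁻¹ᵁ U) _ _ _
      ((ξ ≫ t).app U).hom.toAlgebra (ξ.app (t ⁻¹ᵁ U)).hom)
    (p : P ⟶ Y) (hap : a ≫ p = f) (hbp : b ≫ p = t)
    (hcf : ∀ (A : Type u) [CommRing A] (φ : Γ(Y, ⊤) →+* A),
      IsPushout f.appTop (CommRingCat.ofHom φ)
        (Limits.pullback.fst f (Spec.map (CommRingCat.ofHom φ) ≫ Y.isoSpec.inv)).appTop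
        ((Scheme.ΓSpecIso (CommRingCat.of A)).inv ≫
          (Limits.pullback.snd f (Spec.map (CommRingCat.ofHom φ) ≫ Y.isoSpec.inv)).appTop))
    (hpO : IsIso p.appTop)
    (het : @Algebra.Etale Γ(Y, ⊤) Γ(X, ⊤) _ _ f.appTop.hom.toAlgebra)
    (A : Type u) [CommRing A] (φ : Γ(Y, ⊤) →+* A) :
    IsPushout p.appTop (CommRingCat.ofHom φ)
      (Limits.pullback.fst p (Spec.map (CommRingCat.ofHom φ) ≫ Y.isoSpec.inv)).appTop
      ((Scheme.ΓSpecIso (CommRingCat.of A)).inv ≫
        (Limits.pullback.snd p (Spec.map (CommRingCat.ofHom φ) ≫ Y.isoSpec.inv)).appTop) := by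
  classical
  have hX := hcf A φ
  have hg₀top : (Spec.map (CommRingCat.ofHom φ) ≫ Y.isoSpec.inv).appTop =
      CommRingCat.ofHom φ ≫ (Scheme.ΓSpecIso (CommRingCat.of A)).inv := by
    have h0 : Y.isoSpec.hom.appTop = (Scheme.ΓSpecIso Γ(Y, ⊤)).hom := by
      simp [Scheme.isoSpec]
    have h1 : Y.isoSpec.inv.appTop = (Scheme.ΓSpecIso Γ(Y, ⊤)).inv := by
      have h2 : Y.isoSpec.inv.appTop ≫ Y.isoSpec.hom.appTop = 𝟙 _ := by
        rw [← Scheme.Hom.comp_appTop, Iso.hom_inv_id]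
        simp
      rw [h0] at h2
      exact (Iso.comp_hom_eq_id _).mp h2
    rw [Scheme.Hom.comp_appTop, h1, ← Scheme.ΓSpecIso_inv_naturality]
  generalize Spec.map (CommRingCat.ofHom φ) ≫ Y.isoSpec.inv = g₀ at hX hg₀top ⊢
  haveI : IsAffine T := isAffine_of_isAffineHom t
  haveI : IsAffine Z := isAffine_of_isAffineHom (ξ ≫ t)
  have hPA := Groth.Agent.Lib.Helper1.FP.BC.isPushout_pinch_baseChange f t ξ ι hsq hstd a b hP hv
    p hap hbp g₀
  have hΓP := Γ_isPullback hP
  have hΓPA := Γ_isPullback hPA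
  -- the global fibre square
  have hfa : f.appTop = p.appTop ≫ a.appTop := by rw [← Scheme.Hom.comp_appTop, hap]
  have htb : t.appTop = p.appTop ≫ b.appTop := by rw [← Scheme.Hom.comp_appTop, hbp]
  have := hpO
  have hpbij : Function.Bijective p.appTop.hom := ConcreteCategory.bijective_of_isIso p.appTop
  have hex0 : ∀ x y, ι.appTop.hom x = ξ.appTop.hom y →
      ∃ r, f.appTop.hom r = x ∧ t.appTop.hom r = y := by
    intro x y hxy
    obtain ⟨π, hπ1, hπ2⟩ := exists_of_isPullback_ring hΓP x y hxy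
    obtain ⟨r, rfl⟩ := hpbij.2 π
    exact ⟨r, by rw [hfa]; exact hπ1, by rw [htb]; exact hπ2⟩
  have hinj0 : ∀ r, f.appTop.hom r = 0 → t.appTop.hom r = 0 → r = 0 := by
    intro r h1 h2
    rw [hfa] at h1
    rw [htb] at h2
    have h3 : p.appTop.hom r = 0 :=
      ext_of_isPullback_ring hΓP _ 0 (h1.trans (map_zero _).symm) (h2.trans (map_zero _).symm)
    exact hpbij.1 (h3.trans (map_zero _).symm)
  -- the hypotheses of the abstract theorem
  have hf : ι.appTop.hom.comp f.appTop.hom = ξ.appTop.hom.comp t.appTop.hom := by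
    rw [← CommRingCat.hom_comp, ← CommRingCat.hom_comp, ← Scheme.Hom.comp_appTop,
      ← Scheme.Hom.comp_appTop, hsq]
  have hfC : (ξ ≫ t).appTop.hom = ι.appTop.hom.comp f.appTop.hom := by
    rw [← hsq, Scheme.Hom.comp_appTop, CommRingCat.hom_comp]
  have hfin : (ξ ≫ t).appTop.hom.Finite := IsFinite.finite_app (ξ ≫ t) ⊤ (isAffineOpen_top Y)
  have hψ : Function.Injective ξ.appTop.hom :=
    Groth.Agent.Lib.Helper1.FP.app_injective_of_flat_of_surjective ξ ⊤
  have hvtop : @Pinch.CokerProjective Γ(Y, ⊤) Γ(Z, ⊤) Γ(T, ⊤) _ _ _ (ξ ≫ t).appTop.hom.toAlgebra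
      ξ.appTop.hom := hv ⟨⊤, isAffineOpen_top Y⟩
  have hT := affine_pushout t g₀ (Scheme.ΓSpecIso (CommRingCat.of A)) (CommRingCat.ofHom φ) hg₀top
  have hZ := affine_pushout (ξ ≫ t) g₀ (Scheme.ΓSpecIso (CommRingCat.of A)) (CommRingCat.ofHom φ)
    hg₀top
  -- the base-changed maps
  have eι1 : ((Over.pullback g₀).map (Over.homMk ι hsq : Over.mk (ξ ≫ t) ⟶ Over.mk f)).left ≫
      Limits.pullback.fst f g₀ = Limits.pullback.fst (ξ ≫ t) g₀ ≫ ι := Limits.pullback.lift_fst _ _ _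
  have eι2 : ((Over.pullback g₀).map (Over.homMk ι hsq : Over.mk (ξ ≫ t) ⟶ Over.mk f)).left ≫
      Limits.pullback.snd f g₀ = Limits.pullback.snd (ξ ≫ t) g₀ := Limits.pullback.lift_snd _ _ _
  have eξ1 : ((Over.pullback g₀).map (Over.homMk ξ rfl : Over.mk (ξ ≫ t) ⟶ Over.mk t)).left ≫
      Limits.pullback.fst t g₀ = Limits.pullback.fst (ξ ≫ t) g₀ ≫ ξ := Limits.pullback.lift_fst _ _ _
  have eξ2 : ((Over.pullback g₀).map (Over.homMk ξ rfl : Over.mk (ξ ≫ t) ⟶ Over.mk t)).left ≫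
      Limits.pullback.snd t g₀ = Limits.pullback.snd (ξ ≫ t) g₀ := Limits.pullback.lift_snd _ _ _
  have ea2 : ((Over.pullback g₀).map (Over.homMk a hap : Over.mk f ⟶ Over.mk p)).left ≫
      Limits.pullback.snd p g₀ = Limits.pullback.snd f g₀ := Limits.pullback.lift_snd _ _ _
  have eb2 : ((Over.pullback g₀).map (Over.homMk b hbp : Over.mk t ⟶ Over.mk p)).left ≫
      Limits.pullback.snd p g₀ = Limits.pullback.snd t g₀ := Limits.pullback.lift_snd _ _ _
  generalize ((Over.pullback g₀).map (Over.homMk ι hsq : Over.mk (ξ ≫ t) ⟶ Over.mk f)).left = ιA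
    at hPA hΓPA eι1 eι2
  generalize ((Over.pullback g₀).map (Over.homMk ξ rfl : Over.mk (ξ ≫ t) ⟶ Over.mk t)).left = ξA
    at hPA hΓPA eξ1 eξ2
  generalize ((Over.pullback g₀).map (Over.homMk a hap : Over.mk f ⟶ Over.mk p)).left = aA
    at hPA hΓPA ea2
  generalize ((Over.pullback g₀).map (Over.homMk b hbp : Over.mk t ⟶ Over.mk p)).left = bA
    at hPA hΓPA eb2
  change Limits.pullback (ξ ≫ t) g₀ ⟶ Limits.pullback f g₀ at ιA
  change Limits.pullback (ξ ≫ t) g₀ ⟶ Limits.pullback t g₀ at ξA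
  change Limits.pullback f g₀ ⟶ Limits.pullback p g₀ at aA
  change Limits.pullback t g₀ ⟶ Limits.pullback p g₀ at bA
  have h1 : ιA.appTop.hom.comp (Limits.pullback.fst f g₀).appTop.hom =
      (Limits.pullback.fst (ξ ≫ t) g₀).appTop.hom.comp ι.appTop.hom := by
    rw [← CommRingCat.hom_comp, ← CommRingCat.hom_comp, ← Scheme.Hom.comp_appTop,
      ← Scheme.Hom.comp_appTop, eι1]
  have h2 : ιA.appTop.hom.comp
      ((Scheme.ΓSpecIso (CommRingCat.of A)).inv ≫ (Limits.pullback.snd f g₀).appTop).hom =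
      ((Scheme.ΓSpecIso (CommRingCat.of A)).inv ≫ (Limits.pullback.snd (ξ ≫ t) g₀).appTop).hom := by
    rw [← CommRingCat.hom_comp, Category.assoc, ← Scheme.Hom.comp_appTop, eι2]
  have h3 : ξA.appTop.hom.comp (Limits.pullback.fst t g₀).appTop.hom =
      (Limits.pullback.fst (ξ ≫ t) g₀).appTop.hom.comp ξ.appTop.hom := by
    rw [← CommRingCat.hom_comp, ← CommRingCat.hom_comp, ← Scheme.Hom.comp_appTop,
      ← Scheme.Hom.comp_appTop, eξ1]
  have h4 : ξA.appTop.hom.comp
      ((Scheme.ΓSpecIso (CommRingCat.of A)).inv ≫ (Limits.pullback.snd t g₀).appTop).hom =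
      ((Scheme.ΓSpecIso (CommRingCat.of A)).inv ≫ (Limits.pullback.snd (ξ ≫ t) g₀).appTop).hom := by
    rw [← CommRingCat.hom_comp, Category.assoc, ← Scheme.Hom.comp_appTop, eξ2]
  obtain ⟨hinj', hex'⟩ := Groth.Agent.Lib.Helper1.PC.fibProd_of_cert
    (R := Γ(Y, ⊤)) (A := Γ(X, ⊤)) (B := Γ(T, ⊤)) (C := Γ(Z, ⊤)) (D := A)
    ι.appTop.hom ξ.appTop.hom f.appTop.hom t.appTop.hom hf het (ξ ≫ t).appTop.hom hfC hfin hψ
    hvtop hex0 hinj0 φ
    (Limits.pullback.fst f g₀).appTop.hom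
    ((Scheme.ΓSpecIso (CommRingCat.of A)).inv ≫ (Limits.pullback.snd f g₀).appTop).hom hX
    (Limits.pullback.fst t g₀).appTop.hom
    ((Scheme.ΓSpecIso (CommRingCat.of A)).inv ≫ (Limits.pullback.snd t g₀).appTop).hom hT
    (Limits.pullback.fst (ξ ≫ t) g₀).appTop.hom
    ((Scheme.ΓSpecIso (CommRingCat.of A)).inv ≫ (Limits.pullback.snd (ξ ≫ t) g₀).appTop).hom hZ
    ιA.appTop.hom ξA.appTop.hom h1 h2 h3 h4
  -- bijectivity of `A → Γ(P_A)`
  have hσa : ∀ d : A, aA.appTop.hom
      (((Scheme.ΓSpecIso (CommRingCat.of A)).inv ≫ (Limits.pullback.snd p g₀).appTop).hom d) =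
      ((Scheme.ΓSpecIso (CommRingCat.of A)).inv ≫ (Limits.pullback.snd f g₀).appTop).hom d := by
    intro d
    have : ((Scheme.ΓSpecIso (CommRingCat.of A)).inv ≫ (Limits.pullback.snd p g₀).appTop) ≫ aA.appTop =
        (Scheme.ΓSpecIso (CommRingCat.of A)).inv ≫ (Limits.pullback.snd f g₀).appTop := by
      rw [Category.assoc, ← Scheme.Hom.comp_appTop, ea2]
    exact congr($(this).hom d)
  have hσb : ∀ d : A, bA.appTop.hom
      (((Scheme.ΓSpecIso (CommRingCat.of A)).inv ≫ (Limits.pullback.snd p g₀).appTop).hom d) =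
      ((Scheme.ΓSpecIso (CommRingCat.of A)).inv ≫ (Limits.pullback.snd t g₀).appTop).hom d := by
    intro d
    have : ((Scheme.ΓSpecIso (CommRingCat.of A)).inv ≫ (Limits.pullback.snd p g₀).appTop) ≫ bA.appTop =
        (Scheme.ΓSpecIso (CommRingCat.of A)).inv ≫ (Limits.pullback.snd t g₀).appTop := by
      rw [Category.assoc, ← Scheme.Hom.comp_appTop, eb2]
    exact congr($(this).hom d)
  have hbij : Function.Bijective
      ((Scheme.ΓSpecIso (CommRingCat.of A)).inv ≫ (Limits.pullback.snd p g₀).appTop).hom := by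
    constructor
    · rw [injective_iff_map_eq_zero]
      intro d hd
      apply hinj' d
      rw [← hσa, hd, map_zero]
    · intro π'
      have hw : ιA.appTop.hom (aA.appTop.hom π') = ξA.appTop.hom (bA.appTop.hom π') :=
        congr($(hΓPA.w).hom π')
      obtain ⟨d, hd1, hd2⟩ := hex' _ _ hw
      refine ⟨d, ext_of_isPullback_ring hΓPA _ _ ?_ ?_⟩
      · rw [hσa, hd1]
      · rw [hσb, hd2]
  haveI : IsIso ((Scheme.ΓSpecIso (CommRingCat.of A)).inv ≫ (Limits.pullback.snd p g₀).appTop) :=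
    (ConcreteCategory.isIso_iff_bijective _).mpr hbij
  refine IsPushout.of_horiz_isIso ⟨?_⟩
  rw [← Category.assoc, ← hg₀top, ← Scheme.Hom.comp_appTop, ← Scheme.Hom.comp_appTop,
    Limits.pullback.condition]

end Groth.Agent.S20006
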