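import Groth.Statements.S20010
import Mathlib.AlgebraicGeometry.AffineTransitionLimit
-- import your own Groth.Agent.* helpers here

set_option autoImplicit false
universe u
open CategoryTheory CategoryTheory.Limits AlgebraicGeometry TopologicalSpace
open ModPair

namespace Groth.Agent.S20010

section helpers

theorem core {I : Type u} [SmallCategory I] [IsCofiltered I]
    (D : I ⥤ Scheme.{u}) (c : Cone D) (hc : IsLimit c)
    [∀ {i j : I} (t : i ⟶ j), IsAffineHom (D.map t)] [∀ i, CompactSpace (D.obj i)]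
    {ι : Type u} (U : ι → Scheme.{u}) (u : ∀ a, U a ⟶ c.pt)
    [∀ a, IsOpenImmersion (u a)] [∀ a, QuasiCompact (u a)]
    (hcov : ∀ x : c.pt, ∃ (a : ι) (y : U a), (u a).base y = x) :
    ∃ (i : I) (n : ℕ) (a : Fin n → ι) (W : Fin n → (D.obj i).Opens),
      (∀ j, IsCompact (W j : Set (D.obj i))) ∧ (⨆ j, W j = ⊤) ∧
        ∀ j, c.π.app i ⁻¹ᵁ W j = (u (a j)).opensRange := by
  classical
  haveI : CompactSpace c.pt := Scheme.compactSpace_of_isLimit D c hc
  -- each range is compact
  have hcpt : ∀ a, IsCompact ((u a).opensRange : Set c.pt) := by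
    intro a
    haveI : CompactSpace (U a) := QuasiCompact.compactSpace_of_compactSpace (u a)
    exact isCompact_range (u a).continuous
  -- finite subcover
  obtain ⟨t, ht⟩ := isCompact_univ.elim_finite_subcover
    (fun a => ((u a).opensRange : Set c.pt)) (fun a => (u a).opensRange.isOpen)
    (by
      intro x _
      obtain ⟨a, y, hy⟩ := hcov x
      exact Set.mem_iUnion.mpr ⟨a, y, hy⟩)
  choose i V hV hVi using fun a => exists_preimage_eq D c hc (u a).opensRange (hcpt a)
  obtain ⟨k, hk⟩ := IsCofiltered.inf_objs_exists (t.image i)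
  have f : ∀ b : ↥t, k ⟶ i b.1 := fun b => (hk (Finset.mem_image_of_mem i b.2)).some
  have hW₀ : ∀ b : ↥t, c.π.app k ⁻¹ᵁ (D.map (f b) ⁻¹ᵁ V b.1) = (u b.1).opensRange := by
    intro b
    rw [← Scheme.Hom.comp_preimage, c.w, hVi]
  have htop : c.π.app k ⁻¹ᵁ (⨆ b : ↥t, D.map (f b) ⁻¹ᵁ V b.1) = ⊤ := by
    rw [Scheme.Hom.preimage_iSup]
    simp only [hW₀]
    rw [eq_top_iff]
    intro x _
    have := ht (Set.mem_univ x)
    simp only [Set.mem_iUnion] at this
    obtain ⟨a, ha, hx⟩ := this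
    exact Opens.mem_iSup.mpr ⟨⟨a, ha⟩, hx⟩
  obtain ⟨m, g, hg⟩ := exists_map_eq_top D c hc _ htop
  refine ⟨m, t.card, fun j => (t.equivFin.symm j).1,
    fun j => D.map g ⁻¹ᵁ (D.map (f (t.equivFin.symm j)) ⁻¹ᵁ V (t.equivFin.symm j).1), ?_, ?_, ?_⟩
  · intro j
    exact (D.map g).isCompact_preimage ((D.map (f _)).isCompact_preimage (hV _))
  · rw [← hg, Scheme.Hom.preimage_iSup]
    exact (t.equivFin.symm.iSup_comp (g := fun b : ↥t => D.map g ⁻¹ᵁ (D.map (f b) ⁻¹ᵁ V b.1)))
  · intro j
    rw [← Scheme.Hom.comp_preimage, c.w, hW₀]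

theorem quasiCompact_ι_of_isCompact {X : Scheme.{u}} [QuasiSeparatedSpace X] (W : X.Opens)
    (hW : IsCompact (W : Set X)) : QuasiCompact W.ι := by
  constructor
  intro V hVo hVc
  have hemb : Topology.IsEmbedding W.ι := W.ι.isEmbedding
  rw [hemb.isCompact_iff, Set.image_preimage_eq_inter_range]
  have : Set.range W.ι = (W : Set X) := by
    simp
  rw [this]
  exact QuasiSeparatedSpace.inter_isCompact V W hVo hVc W.isOpen hW

end helpers

/-- Let (X_i) be a cofiltered system of schemes with affine transition morphisms such that X_{i₀} is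
quasi-compact and quasi-separated for some index i₀, let X be its limit, and let {U_a ⟶ X} be a
family of quasi-compact open immersions (open immersions of finite presentation) which is jointly
surjective (a covering family for the Zariski class). Then the covering descends: for some index i
there is a finite jointly surjective family {V_j ⟶ X_i}_{j < n} of quasi-compact open immersions
such that every V_j ×_{X_i} X is one of the U_a, i.e. for each j some U_{a_j} ⟶ X is the base change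
of V_j ⟶ X_i along X ⟶ X_i. -/
theorem result {I : Type u} [SmallCategory I] [IsCofiltered I]
    (D : I ⥤ Scheme.{u}) (c : Cone D) (hc : IsLimit c)
    [∀ (i j : I) (t : i ⟶ j), IsAffineHom (D.map t)] (i₀ : I) [CompactSpace (D.obj i₀)]
    [QuasiSeparatedSpace (D.obj i₀)] {ι : Type u} (U : ι → Scheme.{u}) (u : ∀ a, U a ⟶ c.pt)
    [∀ a, IsOpenImmersion (u a)] [∀ a, QuasiCompact (u a)] (hcov : ∀ x : c.pt, ∃ (a : ι) (y : U a), (u a).base y = x) :
    ∃ (i : I) (n : ℕ) (V : Fin n → Scheme.{u}) (v : ∀ j, V j ⟶ D.obj i) (a : Fin n → ι)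
      (e : ∀ j, U (a j) ⟶ V j),
      (∀ j, IsOpenImmersion (v j) ∧ QuasiCompact (v j)) ∧
      (∀ x : D.obj i, ∃ (j : Fin n) (y : V j), (v j).base y = x) ∧
      ∀ j, IsPullback (e j) (u (a j)) (v j) (c.π.app i) := by
  haveI hAff : ∀ {i j : I} (t : i ⟶ j), IsAffineHom (D.map t) := fun t => inferInstance
  haveI : ∀ i : Over i₀, CompactSpace ((Over.forget i₀ ⋙ D).obj i) := fun i =>
    QuasiCompact.compactSpace_of_compactSpace (D.map i.hom)
  haveI : ∀ {i j : Over i₀} (t : i ⟶ j), IsAffineHom ((Over.forget i₀ ⋙ D).map t) := fun t => by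
    dsimp; infer_instance
  obtain ⟨i, n, a, W, hWc, hWtop, hW⟩ : ∃ (i : Over i₀) (n : ℕ) (a : Fin n → ι)
      (W : Fin n → (D.obj i.left).Opens), (∀ j, IsCompact (W j : Set (D.obj i.left))) ∧
        (⨆ j, W j = ⊤) ∧ ∀ j, c.π.app i.left ⁻¹ᵁ W j = (u (a j)).opensRange :=
    core (Over.forget i₀ ⋙ D) (c.whisker (Over.forget i₀))
      ((Functor.Initial.isLimitWhiskerEquiv (Over.forget i₀) c).symm hc) U u hcov
  haveI : QuasiSeparatedSpace (D.obj i.left) :=
    quasiSeparatedSpace_of_quasiSeparated (D.map i.hom)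
  have hW' : ∀ j, c.π.app i.left ⁻¹ᵁ W j = (u (a j)).opensRange := hW
  have hrange : ∀ j, Set.range (u (a j)) = Set.range (c.π.app i.left ⁻¹ᵁ W j).ι := by
    intro j
    rw [hW' j]
    simp
  refine ⟨i.left, n, fun j => (W j).toScheme, fun j => (W j).ι, a,
    fun j => (IsOpenImmersion.isoOfRangeEq (u (a j)) (c.π.app i.left ⁻¹ᵁ W j).ι (hrange j)).hom ≫
      (c.π.app i.left ∣_ W j), ?_, ?_, ?_⟩
  · intro j
    exact ⟨inferInstance, quasiCompact_ι_of_isCompact (W j) (hWc j)⟩
  · intro x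
    have hx : x ∈ (⨆ j, W j : (D.obj i.left).Opens) := by rw [hWtop]; trivial
    obtain ⟨j, hj⟩ := Opens.mem_iSup.mp hx
    exact ⟨j, ⟨x, hj⟩, rfl⟩
  · intro j
    refine (isPullback_morphismRestrict (c.π.app i.left) (W j)).of_iso
      (IsOpenImmersion.isoOfRangeEq (u (a j)) (c.π.app i.left ⁻¹ᵁ W j).ι (hrange j)).symm
      (Iso.refl _) (Iso.refl _) (Iso.refl _) ?_ ?_ ?_ ?_
    · simp
    · simp
    · simp
    · simp

end Groth.Agent.S20010
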