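import Groth.Statements.S20018
import Mathlib

set_option autoImplicit false
open CAlg

namespace Groth.Agent.S20018

open PowerSeries

/-- coefficient of `p * (1 - C a X^(N+1))`. -/
theorem coeff_mul_one_sub {R : Type*} [CommRing R] (p : PowerSeries R) (a : R) (N j : ℕ) :
    coeff j (p * (1 - C a * X ^ (N + 1))) =
      coeff j p - a * (if N + 1 ≤ j then coeff (j - (N + 1)) p else 0) := by
  rw [mul_sub, mul_one, map_sub, mul_left_comm, coeff_C_mul, coeff_mul_X_pow']

/-- the partial products -/
noncomputable def Pseq {R : Type*} [CommRing R] (x : PowerSeries R) : ℕ → PowerSeries R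
  | 0 => 1
  | (N + 1) => Pseq x N * (1 - C (coeff (N + 1) (Pseq x N) - coeff (N + 1) x) * X ^ (N + 1))

theorem Pseq_coeff {R : Type*} [CommRing R] (x : PowerSeries R) (hx : constantCoeff x = 1) :
    ∀ N j : ℕ, j ≤ N → coeff j (Pseq x N) = coeff j x := by
  intro N
  induction N with
  | zero =>
    intro j hj
    have : j = 0 := by omega
    subst this
    simp [Pseq, hx]
  | succ N ih =>
    intro j hj
    rw [Pseq, coeff_mul_one_sub]
    rcases Nat.lt_or_ge j (N + 1) with h | h
    · rw [if_neg (by omega), mul_zero, sub_zero]
      exact ih j (by omega)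
    · have : j = N + 1 := by omega
      subst this
      rw [if_pos le_rfl, Nat.sub_self, ih 0 (by omega)]
      have : coeff 0 x = 1 := by simpa using hx
      rw [this]
      ring

theorem constCoeff_prod {R : Type*} [CommRing R] (α : ℕ → R) (N : ℕ) :
    coeff 0 (∏ i ∈ Finset.range N, (1 - C (α i) * X ^ (i + 1) : PowerSeries R)) = 1 := by
  induction N with
  | zero => simp
  | succ N ih =>
    rw [Finset.prod_range_succ, coeff_mul_one_sub, ih]
    simp

open PowerSeries in
/-- Product expansion of big Witt vectors: let R be a commutative ring and x ∈ 1 + tR[[t]] a formal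
power series with constant term 1. Then x can be written uniquely as an infinite product ∏_{i ≥ 1}
(1 - α_i t^i) with α_i ∈ R. The infinite product is expressed through its truncations: there is a
unique sequence α : ℕ → R (α i standing for the coefficient attached to t^{i+1}) such that for every
N the series x and the finite product ∏_{i=0}^{N} (1 - α_i t^{i+1}) agree modulo t^{N+2}. -/
theorem result
    (R : Type*) [CommRing R] (x : PowerSeries R) (hx : PowerSeries.constantCoeff x = 1) :
    ∃! α : ℕ → R, ∀ N : ℕ,
      PowerSeries.trunc (N + 2) x =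
        PowerSeries.trunc (N + 2) (∏ i ∈ Finset.range (N + 1),
          (1 - PowerSeries.C (α i) * PowerSeries.X ^ (i + 1) : PowerSeries R)) := by
  classical
  have hx0 : coeff 0 x = 1 := by simpa using hx
  refine ⟨fun N => coeff (N + 1) (Pseq x N) - coeff (N + 1) x, ?_, ?_⟩
  · -- existence
    have hprod : ∀ N : ℕ, ∏ i ∈ Finset.range N,
        (1 - C (coeff (i + 1) (Pseq x i) - coeff (i + 1) x) * X ^ (i + 1) : PowerSeries R) =
        Pseq x N := by
      intro N
      induction N with
      | zero => simp [Pseq]
      | succ N ih => rw [Finset.prod_range_succ, ih, Pseq]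
    intro N
    simp only
    rw [hprod (N + 1)]
    ext j
    rw [coeff_trunc, coeff_trunc]
    split_ifs with h
    · exact (Pseq_coeff x hx (N + 1) j (by omega)).symm
    · rfl
  · -- uniqueness
    intro β hβ
    have hα := fun N => (Pseq_coeff x hx (N + 1) (N + 1) le_rfl)
    funext N
    induction N using Nat.strong_induction_on with
    | _ N ih =>
      have h1 := congrArg (fun p => Polynomial.coeff p (N + 1)) (hβ N)
      simp only [coeff_trunc] at h1
      rw [if_pos (by omega), if_pos (by omega), Finset.prod_range_succ, coeff_mul_one_sub,
        if_pos le_rfl, Nat.sub_self, constCoeff_prod, mul_one] at h1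
      have h2 : ∏ i ∈ Finset.range N, (1 - C (β i) * X ^ (i + 1) : PowerSeries R) = Pseq x N := by
        have hprod : ∀ M : ℕ, M ≤ N → ∏ i ∈ Finset.range M,
            (1 - C (β i) * X ^ (i + 1) : PowerSeries R) = Pseq x M := by
          intro M
          induction M with
          | zero => intro _; simp [Pseq]
          | succ M ihM =>
            intro hM
            rw [Finset.prod_range_succ, ihM (by omega), Pseq, ih M (by omega)]
        exact hprod N le_rfl
      rw [h2] at h1
      rw [h1]
      ring

end Groth.Agent.S20018
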