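import Groth.Statements.S20022
import Mathlib

set_option autoImplicit false
universe u
open GrLC

namespace Groth.Agent.S20022
section Aux
open DirectSum

variable {R : Type u} [CommRing R] (𝒜 : ℤ → AddSubgroup R) [GradedRing 𝒜]
  {M : Type u} [AddCommGroup M] [Module R M] (ℳ : ℤ → AddSubgroup M)
  [DirectSum.Decomposition ℳ] [SetLike.GradedSMul 𝒜 ℳ]

theorem smul_mem_add {e g : ℤ} {r : R} {x : M} (hr : r ∈ 𝒜 e) (hx : x ∈ ℳ g) :
    r • x ∈ ℳ (e + g) := by
  have := SetLike.GradedSMul.smul_mem (A := 𝒜) (B := ℳ) hr hx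
  simpa using this

/-- component of `r • y` for homogeneous `r` -/
theorem decompose_homog_smul {e : ℤ} {r : R} (hr : r ∈ 𝒜 e) (y : M) (n : ℤ) :
    ((decompose ℳ (r • y)) (e + n) : M) = r • ((decompose ℳ y) n : M) := by
  classical
  induction y using DirectSum.Decomposition.inductionOn ℳ with
  | zero => simp
  | @homogeneous i m =>
    have hm : (m : M) ∈ ℳ i := m.2
    have hrm : r • (m : M) ∈ ℳ (e + i) := smul_mem_add 𝒜 ℳ hr hm
    by_cases h : i = n
    · subst h
      rw [decompose_of_mem_same ℳ hrm, decompose_of_mem_same ℳ hm]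
    · have h' : e + i ≠ e + n := fun h'' => h (by omega)
      rw [decompose_of_mem_ne ℳ hrm h', decompose_of_mem_ne ℳ hm h, smul_zero]
  | add m m' hm hm' =>
    rw [smul_add, decompose_add, decompose_add, DirectSum.add_apply, DirectSum.add_apply, AddSubgroup.coe_add,
      AddSubgroup.coe_add, hm, hm', smul_add]

/-- component of `a • x` for homogeneous `x` -/
theorem decompose_smul_homog {g : ℤ} {x : M} (hx : x ∈ ℳ g) (a : R) (e : ℤ) :
    ((decompose ℳ (a • x)) (e + g) : M) = ((decompose 𝒜 a) e : R) • x := by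
  classical
  induction a using DirectSum.Decomposition.inductionOn 𝒜 with
  | zero => simp
  | @homogeneous i r =>
    have hr : (r : R) ∈ 𝒜 i := r.2
    have hrx : (r : R) • x ∈ ℳ (i + g) := smul_mem_add 𝒜 ℳ hr hx
    by_cases h : i = e
    · subst h
      rw [decompose_of_mem_same ℳ hrx, decompose_of_mem_same 𝒜 hr]
    · have h' : i + g ≠ e + g := fun h'' => h (by omega)
      rw [decompose_of_mem_ne ℳ hrx h', decompose_of_mem_ne 𝒜 hr h, zero_smul]
  | add r r' hr hr' =>
    rw [add_smul, decompose_add, decompose_add, DirectSum.add_apply, DirectSum.add_apply, AddSubgroup.coe_add,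
      AddSubgroup.coe_add, hr, hr', add_smul]

include 𝒜 in
/-- a submodule spanned by homogeneous elements contains the components of its elements -/
theorem decompose_mem_span (H : Set M) (hH : ∀ x ∈ H, SetLike.IsHomogeneousElem ℳ x) {y : M}
    (hy : y ∈ Submodule.span R H) (n : ℤ) : ((decompose ℳ y) n : M) ∈ Submodule.span R H := by
  classical
  induction hy using Submodule.span_induction generalizing n with
  | mem x hx =>
    obtain ⟨i, hi⟩ := hH x hx
    by_cases h : i = n
    · subst h; rw [decompose_of_mem_same ℳ hi]; exact Submodule.subset_span hx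
    · rw [decompose_of_mem_ne ℳ hi h]; exact Submodule.zero_mem _
  | zero => simp
  | add x y _ _ hx hy =>
    rw [decompose_add, DirectSum.add_apply, AddSubgroup.coe_add]
    exact Submodule.add_mem _ (hx n) (hy n)
  | smul a x _ hx =>
    induction a using DirectSum.Decomposition.inductionOn 𝒜 generalizing n with
    | zero => simp
    | @homogeneous i r =>
      have : n = i + (n - i) := by omega
      rw [this, decompose_homog_smul 𝒜 ℳ r.2]
      exact Submodule.smul_mem _ _ (hx _)
    | add r r' hr hr' =>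
      rw [add_smul, decompose_add, DirectSum.add_apply, AddSubgroup.coe_add]
      exact Submodule.add_mem _ (hr n) (hr' n)

end Aux


/-- Let R be a commutative ℤ-graded ring whose degree-zero subring R_0 is a field k and which is the
Laurent polynomial ring k[T, T⁻¹] on a homogeneous invertible element T of positive degree d, in the
following intrinsic sense: T is a unit lying in R_d, and every nonzero homogeneous element of degree
n equals a·T^j for some a ∈ R_0 and some integer j with j·d = n (so R_n = 0 unless d divides n, and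
R_{jd} = k·T^j). Then every graded R-module M is free in the graded sense: M has an R-basis
consisting of homogeneous elements. (The other case of condition (2), R = k concentrated in degree
zero, is not included.) -/
theorem result (R : Type u) [CommRing R]
    (𝒜 : ℤ → AddSubgroup R) [GradedRing 𝒜] (h0 : IsField (GrLC.deg0 𝒜))
    (d : ℤ) (hd : 0 < d) (T : Rˣ) (hT : (T : R) ∈ 𝒜 d)
    (hA : ∀ (n : ℤ) (x : R), x ∈ 𝒜 n → x ≠ 0 →
      ∃ j : ℤ, ∃ a ∈ 𝒜 0, j * d = n ∧ x = a * ((T ^ j : Rˣ) : R))
    (M : Type u) [AddCommGroup M] [Module R M] (ℳ : ℤ → AddSubgroup M)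
    [DirectSum.Decomposition ℳ] [SetLike.GradedSMul 𝒜 ℳ] :
    ∃ (κ : Type u) (b : Module.Basis κ R M), ∀ i : κ, SetLike.IsHomogeneousElem ℳ (b i) := by
  open DirectSum in
  classical
  -- nonzero homogeneous elements are units
  have hunit : ∀ (n : ℤ) (x : R), x ∈ 𝒜 n → x ≠ 0 → ∃ y : R, y * x = 1 := by
    intro n x hx hx0
    obtain ⟨j, a, ha, -, rfl⟩ := hA n x hx hx0
    have ha0 : (⟨a, ha⟩ : GrLC.deg0 𝒜) ≠ 0 := by
      intro h
      apply hx0
      have : a = 0 := congrArg Subtype.val h
      rw [this, zero_mul]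
    obtain ⟨c, hc⟩ := h0.mul_inv_cancel ha0
    have hc' : a * (c : R) = 1 := congrArg Subtype.val hc
    refine ⟨((T ^ j)⁻¹ : Rˣ) * (c : R), ?_⟩
    calc ((T ^ j)⁻¹ : Rˣ) * (c : R) * (a * ((T ^ j : Rˣ) : R))
        = (a * (c : R)) * ((((T ^ j)⁻¹ : Rˣ) : R) * ((T ^ j : Rˣ) : R)) := by ring
      _ = 1 := by rw [hc', Units.inv_mul, mul_one]
  let ι := {x : M // SetLike.IsHomogeneousElem ℳ x}
  let v : ι → M := Subtype.val
  obtain ⟨s, hs, hmax⟩ := exists_maximal_linearIndepOn R v
  set N := Submodule.span R (v '' s) with hN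
  have hH : ∀ x ∈ v '' s, SetLike.IsHomogeneousElem ℳ x := by
    rintro _ ⟨i, -, rfl⟩; exact i.2
  have hall : ∀ i : ι, v i ∈ N := by
    intro i
    by_cases hi : i ∈ s
    · exact Submodule.subset_span ⟨i, hi, rfl⟩
    · obtain ⟨a, ha0, ha⟩ := hmax i hi
      obtain ⟨g, hg⟩ := i.2
      have : ∃ e, ((decompose 𝒜 a) e : R) ≠ 0 := by
        by_contra hcon
        push Not at hcon
        apply ha0
        rw [← DirectSum.sum_support_decompose 𝒜 a]
        exact Finset.sum_eq_zero (fun e _ => hcon e)
      obtain ⟨e, he⟩ := this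
      obtain ⟨y, hy⟩ := hunit e _ ((decompose 𝒜 a) e).2 he
      have h1 : ((decompose 𝒜 a) e : R) • v i ∈ N := by
        rw [← decompose_smul_homog 𝒜 ℳ hg a e]
        exact decompose_mem_span 𝒜 ℳ _ hH ha _
      have h2 := N.smul_mem y h1
      rwa [smul_smul, hy, one_smul] at h2
  have htop : N = ⊤ := by
    rw [eq_top_iff]
    intro y _
    rw [← DirectSum.sum_support_decompose ℳ y]
    exact Submodule.sum_mem _ (fun n _ => hall ⟨_, ⟨n, ((decompose ℳ y) n).2⟩⟩)
  have hli : LinearIndependent R (fun i : s => v i) := hs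
  have hsp : ⊤ ≤ Submodule.span R (Set.range (fun i : s => v i)) := by
    rw [← htop, hN]
    apply Submodule.span_mono
    rintro _ ⟨i, hi, rfl⟩
    exact ⟨⟨i, hi⟩, rfl⟩
  refine ⟨s, Module.Basis.mk hli hsp, ?_⟩
  intro i
  rw [Module.Basis.mk_apply]
  exact i.1.2

end Groth.Agent.S20022
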