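import Groth.Statements.S20025
import Mathlib

set_option autoImplicit false
universe u
open InvQ

namespace Groth.Agent.S20025
open W4c6intromoduli
section Aux
open MvPolynomial

variable {k : Type u} [Field k]

lemma binForm_perm (la mu : Fin 4 → k) (σ : Equiv.Perm (Fin 4)) :
    binForm (la ∘ σ) (mu ∘ σ) = binForm la mu := by
  unfold binForm
  exact Equiv.prod_comp σ (fun i => (C (mu i) * X 0 - C (la i) * X 1 : MvPolynomial (Fin 2) k))

lemma eval_subst1 (M : Matrix (Fin 2) (Fin 2) k) (v : Fin 2 → k) :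
    eval v (subst M (X 0 ^ 2 * X 1 * (X 0 - X 1))) =
      (M 0 0 * v 0 + M 0 1 * v 1) ^ 2 * (M 1 0 * v 0 + M 1 1 * v 1) *
        ((M 0 0 * v 0 + M 0 1 * v 1) - (M 1 0 * v 0 + M 1 1 * v 1)) := by
  simp [subst, Fin.sum_univ_two]

lemma eval_subst2 (M : Matrix (Fin 2) (Fin 2) k) (v : Fin 2 → k) :
    eval v (subst M (X 0 ^ 2 * X 1 ^ 2)) =
      (M 0 0 * v 0 + M 0 1 * v 1) ^ 2 * (M 1 0 * v 0 + M 1 1 * v 1) ^ 2 := by
  simp [subst, Fin.sum_univ_two]

lemma excl (f : MvPolynomial (Fin 2) k)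
    (hA : ∃ (M : Matrix (Fin 2) (Fin 2) k) (c : k), IsUnit M.det ∧ c ≠ 0 ∧
        f = C c * subst M (X 0 ^ 2 * X 1 * (X 0 - X 1)))
    (hB : ∃ (M : Matrix (Fin 2) (Fin 2) k) (c : k), IsUnit M.det ∧ c ≠ 0 ∧
        f = C c * subst M (X 0 ^ 2 * X 1 ^ 2)) : False := by
  obtain ⟨M, c, hM, hc, h1⟩ := hA
  obtain ⟨M', c', hM', hc', h2⟩ := hB
  have hδ : M 0 0 * M 1 1 - M 0 1 * M 1 0 ≠ 0 := by
    rw [← Matrix.det_fin_two]; exact hM.ne_zero
  have hδ' : M' 0 0 * M' 1 1 - M' 0 1 * M' 1 0 ≠ 0 := by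
    rw [← Matrix.det_fin_two]; exact hM'.ne_zero
  have key : ∀ v : Fin 2 → k,
      c * ((M 0 0 * v 0 + M 0 1 * v 1) ^ 2 * (M 1 0 * v 0 + M 1 1 * v 1) *
        ((M 0 0 * v 0 + M 0 1 * v 1) - (M 1 0 * v 0 + M 1 1 * v 1))) =
      c' * ((M' 0 0 * v 0 + M' 0 1 * v 1) ^ 2 * (M' 1 0 * v 0 + M' 1 1 * v 1) ^ 2) := by
    intro v
    have := congrArg (eval v) (h1.symm.trans h2)
    rw [(eval v).map_mul, (eval v).map_mul, eval_C, eval_C, eval_subst1, eval_subst2] at this
    exact this
  -- three points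
  have k1 := key ![-(M 0 1), M 0 0]
  have k2 := key ![M 1 1, -(M 1 0)]
  have k3 := key ![-(M 0 1) + M 1 1, M 0 0 + -(M 1 0)]
  simp only [Matrix.cons_val_zero, Matrix.cons_val_one] at k1 k2 k3
  have e1 : M 0 0 * -(M 0 1) + M 0 1 * M 0 0 = 0 := by ring
  have e2 : M 1 0 * M 1 1 + M 1 1 * -(M 1 0) = 0 := by ring
  have e3 : (M 0 0 * (-(M 0 1) + M 1 1) + M 0 1 * (M 0 0 + -(M 1 0))) -
      (M 1 0 * (-(M 0 1) + M 1 1) + M 1 1 * (M 0 0 + -(M 1 0))) = 0 := by ring
  rw [e1] at k1
  rw [e2] at k2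
  rw [e3] at k3
  simp only [ne_eq, OfNat.ofNat_ne_zero, not_false_eq_true, zero_pow, zero_mul, mul_zero] at k1 k2 k3
  -- w1 = (a1,b1), w2 = (a2,b2)
  set a1 := M' 0 0 * -(M 0 1) + M' 0 1 * M 0 0 with ha1
  set b1 := M' 1 0 * -(M 0 1) + M' 1 1 * M 0 0 with hb1
  set a2 := M' 0 0 * M 1 1 + M' 0 1 * -(M 1 0) with ha2
  set b2 := M' 1 0 * M 1 1 + M' 1 1 * -(M 1 0) with hb2
  have q1 : a1 * b1 = 0 := by
    have : (a1 * b1) ^ 2 = 0 := by
      have h := (mul_eq_zero.1 k1.symm).resolve_left hc'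
      rw [mul_pow]; exact h
    exact pow_eq_zero_iff (two_ne_zero) |>.1 this
  have q2 : a2 * b2 = 0 := by
    have : (a2 * b2) ^ 2 = 0 := by
      have h := (mul_eq_zero.1 k2.symm).resolve_left hc'
      rw [mul_pow]; exact h
    exact pow_eq_zero_iff (two_ne_zero) |>.1 this
  have q3 : (a1 + a2) * (b1 + b2) = 0 := by
    have : ((a1 + a2) * (b1 + b2)) ^ 2 = 0 := by
      have h := (mul_eq_zero.1 k3.symm).resolve_left hc'
      rw [mul_pow]
      have ea : a1 + a2 = M' 0 0 * (-(M 0 1) + M 1 1) + M' 0 1 * (M 0 0 + -(M 1 0)) := by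
        rw [ha1, ha2]; ring
      have eb : b1 + b2 = M' 1 0 * (-(M 0 1) + M 1 1) + M' 1 1 * (M 0 0 + -(M 1 0)) := by
        rw [hb1, hb2]; ring
      rw [ea, eb]; exact h
    exact pow_eq_zero_iff (two_ne_zero) |>.1 this
  have hdet : a1 * b2 - a2 * b1 ≠ 0 := by
    have : a1 * b2 - a2 * b1 = -((M 0 0 * M 1 1 - M 0 1 * M 1 0) *
        (M' 0 0 * M' 1 1 - M' 0 1 * M' 1 0)) := by
      rw [ha1, hb1, ha2, hb2]; ring
    rw [this]
    exact neg_ne_zero.2 (mul_ne_zero hδ hδ')
  rcases mul_eq_zero.1 q1 with h | h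
  · rcases mul_eq_zero.1 q2 with h' | h'
    · apply hdet; rw [h, h']; ring
    · rw [h, h'] at q3
      apply hdet; rw [h, h']
      have : a2 * b1 = 0 := by simpa using q3
      rw [this]; ring
  · rcases mul_eq_zero.1 q2 with h' | h'
    · rw [h, h'] at q3
      apply hdet; rw [h, h']
      have : a1 * b2 = 0 := by simpa using q3
      rw [this]; ring
    · apply hdet; rw [h, h']; ring

lemma exists_scalar (a b a' b' : k) (hne : a ≠ 0 ∨ b ≠ 0) (hne' : a' ≠ 0 ∨ b' ≠ 0)
    (h : a * b' = a' * b) : ∃ t : k, t ≠ 0 ∧ a' = t * a ∧ b' = t * b := by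
  by_cases ha : a = 0
  · have hb : b ≠ 0 := by
      rcases hne with h1 | h1
      · exact absurd ha h1
      · exact h1
    have ha' : a' = 0 := by
      rw [ha, zero_mul] at h
      rcases mul_eq_zero.1 h.symm with h1 | h1
      · exact h1
      · exact absurd h1 hb
    have hb' : b' ≠ 0 := by
      rcases hne' with h1 | h1
      · exact absurd ha' h1
      · exact h1
    refine ⟨b' / b, div_ne_zero hb' hb, ?_, ?_⟩
    · rw [ha, ha']; ring
    · field_simp
  · have ht : a' ≠ 0 := by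
      intro ha'
      rw [ha', zero_mul] at h
      rcases mul_eq_zero.1 h with h1 | h1
      · exact ha h1
      · rcases hne' with h2 | h2
        · exact h2 ha'
        · exact h2 h1
    refine ⟨a' / a, div_ne_zero ht ha, ?_, ?_⟩
    · field_simp
    · field_simp
      rw [mul_comm]; exact h

/-- normalized configuration: points 0 and 1 proportional -/
lemma core (la mu : Fin 4 → k)
    (hne : ∀ i, la i ≠ 0 ∨ mu i ≠ 0)
    (h01 : la 0 * mu 1 = la 1 * mu 0)
    (h3z : ∀ i j l : Fin 4, i ≠ j → j ≠ l → i ≠ l →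
      ¬ (la i * mu j = la j * mu i ∧ la j * mu l = la l * mu j)) :
    (∃ (M : Matrix (Fin 2) (Fin 2) k) (c : k), IsUnit M.det ∧ c ≠ 0 ∧
        binForm la mu = C c * subst M (X 0 ^ 2 * X 1 * (X 0 - X 1))) ∨
    (∃ (M : Matrix (Fin 2) (Fin 2) k) (c : k), IsUnit M.det ∧ c ≠ 0 ∧
        binForm la mu = C c * subst M (X 0 ^ 2 * X 1 ^ 2)) := by
  obtain ⟨t, ht, hl1, hm1⟩ := exists_scalar (la 0) (mu 0) (la 1) (mu 1) (hne 0) (hne 1) h01
  have hD02 : la 0 * mu 2 - la 2 * mu 0 ≠ 0 := by
    intro h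
    exact h3z 1 0 2 (by decide) (by decide) (by decide) ⟨h01.symm, sub_eq_zero.1 h⟩
  have hD03 : la 0 * mu 3 - la 3 * mu 0 ≠ 0 := by
    intro h
    exact h3z 1 0 3 (by decide) (by decide) (by decide) ⟨h01.symm, sub_eq_zero.1 h⟩
  by_cases h23 : la 2 * mu 3 = la 3 * mu 2
  · right
    obtain ⟨t', ht', hl3, hm3⟩ := exists_scalar (la 2) (mu 2) (la 3) (mu 3) (hne 2) (hne 3) h23
    refine ⟨!![mu 0, -la 0; mu 2, -la 2], t * t', ?_, mul_ne_zero ht ht', ?_⟩
    · rw [Matrix.det_fin_two_of]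
      apply Ne.isUnit
      intro h
      apply hD02
      linear_combination h
    · unfold binForm
      rw [Fin.prod_univ_four, hl1, hm1, hl3, hm3]
      simp only [subst, map_mul, map_pow, aeval_X, Fin.sum_univ_two, Matrix.of_apply,
        Matrix.cons_val_zero, Matrix.cons_val_one, Matrix.cons_val', Matrix.cons_val_fin_one,
        map_neg]
      ring
  · left
    have hD23 : la 3 * mu 2 - la 2 * mu 3 ≠ 0 := by
      intro h
      exact h23 (sub_eq_zero.1 h).symm
    set D32 := la 3 * mu 2 - la 2 * mu 3 with hD32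
    set D03 := la 0 * mu 3 - la 3 * mu 0 with hD03'
    set D02 := la 0 * mu 2 - la 2 * mu 0 with hD02'
    have hE : D32 ^ 2 * (-D03) * D02 ≠ 0 :=
      mul_ne_zero (mul_ne_zero (pow_ne_zero 2 hD23) (neg_ne_zero.2 hD03)) hD02
    refine ⟨!![D32 * mu 0, -(D32 * la 0); -(D03 * mu 2), D03 * la 2],
      t / (D32 ^ 2 * (-D03) * D02), ?_, div_ne_zero ht hE, ?_⟩
    · rw [Matrix.det_fin_two_of]
      apply Ne.isUnit
      intro h
      apply mul_ne_zero (mul_ne_zero hD23 hD03) hD02
      linear_combination -h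
    · have hc : t = t / (D32 ^ 2 * (-D03) * D02) * (D32 ^ 2 * (-D03) * D02) := by
        field_simp
      unfold binForm
      rw [Fin.prod_univ_four, hl1, hm1]
      generalize t / (D32 ^ 2 * (-D03) * D02) = c at hc ⊢
      rw [hc]
      simp only [subst, map_mul, map_pow, map_sub, aeval_X, Fin.sum_univ_two, Matrix.of_apply,
        Matrix.cons_val_zero, Matrix.cons_val_one, Matrix.cons_val', Matrix.cons_val_fin_one,
        map_neg, hD32, hD03', hD02']
      ring

end Aux


/-- For the special fibre of the invariant map, over a field in which 2 and 3 are nonzero, consider a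
split binary quartic f = ∏_i (μ_i X₀ − λ_i X₁) given by four root points (λ_i, μ_i) ≠ (0, 0), with a
double zero (vanishing discriminant ∏_{i<j} (λ_j μ_i − λ_i μ_j)²) and no triple zero (no three root
points pairwise proportional); these are the forms of the fibre over the special point P³/Q² = 6 of
the invariant map. Then exactly one of the two alternatives holds: f is a nonzero constant times the
form X₀² X₁ (X₀ − X₁) after an invertible linear substitution of the variables, or f is a nonzero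
constant times X₀² X₁² after such a substitution. So this fibre consists of exactly two classes
under substitutions and scalars (one double zero and two simple zeros; two double zeros). (The
dimensions of the two orbits and which of them is open or closed in the fibre are not part of this
row; stated for split forms over any such field.) -/
theorem result (k : Type u) [Field k]
    (h2 : (2 : k) ≠ 0) (h3 : (3 : k) ≠ 0) (la mu : Fin 4 → k)
    (hne : ∀ i, la i ≠ 0 ∨ mu i ≠ 0) (hd : W4c6intromoduli.disc la mu = 0)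
    (h3z : ∀ i j l : Fin 4, i ≠ j → j ≠ l → i ≠ l →
      ¬ (la i * mu j = la j * mu i ∧ la j * mu l = la l * mu j)) :
    Xor
      (∃ (M : Matrix (Fin 2) (Fin 2) k) (c : k), IsUnit M.det ∧ c ≠ 0 ∧
        W4c6intromoduli.binForm la mu =
          MvPolynomial.C c * W4c6intromoduli.subst M
            (MvPolynomial.X 0 ^ 2 * MvPolynomial.X 1 * (MvPolynomial.X 0 - MvPolynomial.X 1)))
      (∃ (M : Matrix (Fin 2) (Fin 2) k) (c : k), IsUnit M.det ∧ c ≠ 0 ∧
        W4c6intromoduli.binForm la mu =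
          MvPolynomial.C c * W4c6intromoduli.subst M
            (MvPolynomial.X 0 ^ 2 * MvPolynomial.X 1 ^ 2)) := by
  classical
  -- a proportional pair
  unfold W4c6intromoduli.disc at hd
  rw [Finset.prod_eq_zero_iff] at hd
  obtain ⟨⟨i, j⟩, hij, hzero⟩ := hd
  rw [Finset.mem_filter] at hij
  have hij' : i < j := hij.2
  have hprop : la i * mu j = la j * mu i := by
    have := pow_eq_zero_iff (two_ne_zero) |>.1 hzero
    simp only at this
    linear_combination -this
  obtain ⟨σ, hσ0, hσ1⟩ : ∃ σ : Equiv.Perm (Fin 4), σ 0 = i ∧ σ 1 = j := by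
    have hne' : i ≠ j := ne_of_lt hij'
    revert hne'
    clear hprop hij' hzero hij
    revert i j
    decide
  have hcore := core (la ∘ σ) (mu ∘ σ) (fun i => hne (σ i))
    (by simp only [Function.comp_apply, hσ0, hσ1]; exact hprop)
    (fun a b c hab hbc hac => h3z (σ a) (σ b) (σ c) (fun h => hab (σ.injective h))
      (fun h => hbc (σ.injective h)) (fun h => hac (σ.injective h)))
  rw [binForm_perm] at hcore
  rcases hcore with hA | hB
  · exact Or.inl ⟨hA, fun hB => excl _ hA hB⟩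
  · exact Or.inr ⟨hB, fun hA => excl _ hA hB⟩

end Groth.Agent.S20025
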