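import Groth.Statements.S2008
import Mathlib

set_option autoImplicit false
universe u
open TensorProduct
open EtAlg

namespace Groth.Agent.S2008
section Aux

lemma flat_quot (R S : Type u) [CommRing R] [CommRing S] [Algebra R S] (I : Ideal R) [Module.Flat R S] :
    Module.Flat (R ⧸ I) (S ⧸ I.map (algebraMap R S)) :=
  Module.Flat.of_linearEquiv (Algebra.TensorProduct.quotIdealMapEquivQuotTensor S I).toLinearEquiv

lemma ff_iff (R S : Type u) [CommRing R] [CommRing S] [Algebra R S] (I : Ideal R) [Module.Flat R S] :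
    Module.FaithfullyFlat (R ⧸ I) (S ⧸ I.map (algebraMap R S)) ↔
      ∀ (M : Type u) [AddCommGroup M] [Module R M], (∀ (a : R) (m : M), a ∈ I → a • m = 0) →
        Nontrivial M → Nontrivial (S ⊗[R] M) := by
  constructor
  · intro hff M _ _ hM hnt
    have htors : Module.IsTorsionBySet R M (I : Set R) := by
      intro x a
      exact hM a x a.2
    letI : Module (R ⧸ I) M := htors.module
    haveI : IsScalarTower R (R ⧸ I) M := htors.isScalarTower
    haveI : Module.FaithfullyFlat (R ⧸ I) ((R ⧸ I) ⊗[R] S) :=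
      Module.FaithfullyFlat.of_linearEquiv (R ⧸ I) (S ⧸ I.map (algebraMap R S))
        (Algebra.TensorProduct.quotIdealMapEquivQuotTensor S I).symm.toLinearEquiv
    have e := TensorProduct.AlgebraTensorModule.cancelBaseChange R (R ⧸ I) (R ⧸ I) M S
    haveI : Nontrivial (M ⊗[R ⧸ I] ((R ⧸ I) ⊗[R] S)) := inferInstance
    haveI : Nontrivial (M ⊗[R] S) := e.symm.toEquiv.nontrivial
    exact (TensorProduct.comm R S M).toEquiv.nontrivial
  · intro h
    haveI : Module.FaithfullyFlat (R ⧸ I) ((R ⧸ I) ⊗[R] S) := by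
      rw [Module.FaithfullyFlat.iff_flat_and_rTensor_faithful]
      refine ⟨inferInstance, ?_⟩
      intro N _ _ hN
      letI : Module R N := Module.compHom N (Ideal.Quotient.mk I)
      haveI : IsScalarTower R (R ⧸ I) N := IsScalarTower.of_algebraMap_smul (fun r x => rfl)
      have hnt : Nontrivial (S ⊗[R] N) := by
        apply h N _ hN
        intro a m ha
        show (Ideal.Quotient.mk I a) • m = 0
        rw [Ideal.Quotient.eq_zero_iff_mem.mpr ha, zero_smul]
      have e := TensorProduct.AlgebraTensorModule.cancelBaseChange R (R ⧸ I) (R ⧸ I) N S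
      haveI : Nontrivial (N ⊗[R] S) := (TensorProduct.comm R N S).toEquiv.nontrivial
      exact e.toEquiv.nontrivial
    exact Module.FaithfullyFlat.of_linearEquiv (R ⧸ I) ((R ⧸ I) ⊗[R] S)
      (Algebra.TensorProduct.quotIdealMapEquivQuotTensor S I).toLinearEquiv


lemma socle_ne (R : Type u) [CommRing R] (I : Ideal R) (M : Type u) [AddCommGroup M] [Module R M] :
    ∀ (n : ℕ) (m : M), m ≠ 0 → (∀ a ∈ I ^ n, a • m = 0) → ∃ m' : M, m' ≠ 0 ∧ ∀ a ∈ I, a • m' = 0 := by
  intro n
  induction n with
  | zero =>
    intro m hm h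
    exfalso
    apply hm
    have := h 1 (by simp)
    rwa [one_smul] at this
  | succ n ih =>
    intro m hm h
    by_cases hI : ∀ a ∈ I, a • m = 0
    · exact ⟨m, hm, hI⟩
    · push_neg at hI
      obtain ⟨a, ha, ham⟩ := hI
      apply ih (a • m) ham
      intro b hb
      rw [smul_smul]
      apply h
      rw [pow_succ]
      exact Ideal.mul_mem_mul hb ha

lemma three_to_four (R S : Type u) [CommRing R] [CommRing S] [Algebra R S] (I : Ideal R) [Module.Flat R S]
    (h3 : ∀ (M : Type u) [AddCommGroup M] [Module R M], (∀ (a : R) (m : M), a ∈ I → a • m = 0) →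
        Nontrivial M → Nontrivial (S ⊗[R] M))
    (M : Type u) [AddCommGroup M] [Module R M] (hM : ∀ m : M, ∃ n : ℕ, ∀ a ∈ I ^ n, a • m = 0)
    (hnt : Nontrivial M) : Nontrivial (S ⊗[R] M) := by
  let N : Submodule R M :=
    { carrier := {m | ∀ a ∈ I, a • m = 0}
      add_mem' := by
        intro x y hx hy a ha
        rw [smul_add, hx a ha, hy a ha, add_zero]
      zero_mem' := by
        intro a _
        exact smul_zero a
      smul_mem' := by
        intro c x hx a ha
        rw [smul_comm, hx a ha, smul_zero] }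
  obtain ⟨m, hm⟩ := exists_ne (0 : M)
  obtain ⟨n, hn⟩ := hM m
  obtain ⟨m', hm', hIm'⟩ := socle_ne R I M n m hm hn
  haveI : Nontrivial N := ⟨⟨⟨m', hIm'⟩, 0, fun h => hm' (congrArg Subtype.val h)⟩⟩
  have hN : Nontrivial (S ⊗[R] N) := by
    apply h3 N _ inferInstance
    intro a x ha
    apply Subtype.ext
    exact x.2 a ha
  have hinj : Function.Injective (N.subtype.lTensor S) :=
    Module.Flat.lTensor_preserves_injective_linearMap N.subtype N.injective_subtype
  exact hinj.nontrivial

end Aux


/-- For a ring map R -> S and an ideal I of R the following are equivalent: (1) S is flat over R and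
S/IS is faithfully flat over R/I; (2) S is flat over R and Spec(S/IS) -> Spec(R/I) is surjective;
(3) S is flat over R and S ⊗_R M is nonzero for every nonzero R-module M killed by I; (4) S is flat
over R and S ⊗_R M is nonzero for every nonzero I-power torsion R-module M. (Faithfulness of base
change on these subcategories is stated as detection of nonzero objects, which is equivalent for an
exact functor.) -/
theorem result (R S : Type u) [CommRing R] [CommRing S] [Algebra R S] (I : Ideal R) :
    List.TFAE [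
      Module.Flat R S ∧ Module.FaithfullyFlat (R ⧸ I) (S ⧸ I.map (algebraMap R S)),
      Module.Flat R S ∧ Function.Surjective (PrimeSpectrum.comap (Ideal.quotientMap (I.map (algebraMap R S)) (algebraMap R S) Ideal.le_comap_map)),
      Module.Flat R S ∧ ∀ (M : Type u) [AddCommGroup M] [Module R M], (∀ (a : R) (m : M), a ∈ I → a • m = 0) →
        Nontrivial M → Nontrivial (S ⊗[R] M),
      Module.Flat R S ∧ ∀ (M : Type u) [AddCommGroup M] [Module R M], (∀ m : M, ∃ n : ℕ, ∀ a ∈ I ^ n, a • m = 0) →
        Nontrivial M → Nontrivial (S ⊗[R] M)] := by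
  classical
  tfae_have 1 → 2 := by
    rintro ⟨hf, hff⟩
    refine ⟨hf, ?_⟩
    exact PrimeSpectrum.comap_surjective_of_faithfullyFlat (A := R ⧸ I) (B := S ⧸ I.map (algebraMap R S))
  tfae_have 2 → 1 := by
    rintro ⟨hf, hs⟩
    refine ⟨hf, ?_⟩
    haveI := flat_quot R S I
    exact Module.FaithfullyFlat.of_comap_surjective (A := R ⧸ I) (B := S ⧸ I.map (algebraMap R S)) hs
  tfae_have 1 → 3 := by
    rintro ⟨hf, hff⟩
    exact ⟨hf, (ff_iff R S I).mp hff⟩
  tfae_have 3 → 4 := by
    rintro ⟨hf, h3⟩
    exact ⟨hf, fun M _ _ hM hnt => three_to_four R S I h3 M hM hnt⟩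
  tfae_have 4 → 1 := by
    rintro ⟨hf, h4⟩
    refine ⟨hf, (ff_iff R S I).mpr ?_⟩
    intro M _ _ hM hnt
    apply h4 M _ hnt
    intro m
    refine ⟨1, fun a ha => hM a m ?_⟩
    rwa [pow_one] at ha
  tfae_finish

end Groth.Agent.S2008
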