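import Groth.Statements.S2113
import Mathlib

set_option autoImplicit false
universe u
open CAlg

namespace Groth.Agent.S2113


/-- Domain case: a Noetherian domain with infinitely many primes, all of whose nonzero primes are
intersections of maximal ideals, has zero Jacobson radical. -/
theorem jacobson_bot_of_infinite {D : Type u} [CommRing D] [IsDomain D] [IsNoetherianRing D]
    (hinf : (Set.univ : Set (PrimeSpectrum D)).Infinite)
    (hJ : ∀ Q : Ideal D, Q.IsPrime → Q ≠ ⊥ → Q.jacobson = Q) :
    (⊥ : Ideal D).jacobson = ⊥ := by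
  classical
  by_contra hne
  obtain ⟨f, hfJ, hf0⟩ : ∃ f ∈ (⊥ : Ideal D).jacobson, f ≠ 0 := by
    by_contra h
    push Not at h
    exact hne (eq_bot_iff.mpr fun x hx => by simpa using h x hx)
  have H1 : ∀ Q : Ideal D, Q.IsPrime → Q ≠ ⊥ → f ∈ Q := fun Q hQ hQ0 => by
    have := Ideal.jacobson_mono (bot_le : ⊥ ≤ Q) hfJ
    rwa [hJ Q hQ hQ0] at this
  have hfin : (Ideal.span {f}).minimalPrimes.Finite :=
    Ideal.finite_minimalPrimes_of_isNoetherianRing D _
  -- a prime outside `{⊥} ∪ ms`
  have hfin' : {Q : PrimeSpectrum D | Q.asIdeal = ⊥ ∨ Q.asIdeal ∈ (Ideal.span {f}).minimalPrimes}.Finite := by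
    have : {Q : PrimeSpectrum D | Q.asIdeal = ⊥ ∨ Q.asIdeal ∈ (Ideal.span {f}).minimalPrimes} ⊆
        PrimeSpectrum.asIdeal ⁻¹' (insert ⊥ (Ideal.span {f}).minimalPrimes) := by
      intro Q hQ
      simpa using hQ
    refine Set.Finite.subset (Set.Finite.preimage ?_ (hfin.insert ⊥)) this
    exact fun a _ b _ hab => PrimeSpectrum.ext hab
  obtain ⟨Q, -, hQ⟩ := hinf.exists_notMem_finite hfin'
  simp only [Set.mem_ofPred_eq, not_or] at hQ
  obtain ⟨hQ0, hQms⟩ := hQ
  have hfQ : f ∈ Q.asIdeal := H1 _ Q.2 hQ0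
  obtain ⟨m, hm, hmQ⟩ := Ideal.exists_minimalPrimes_le
    ((Ideal.span_singleton_le_iff_mem Q.asIdeal).mpr hfQ)
  have hmlt : m < Q.asIdeal := lt_of_le_of_ne hmQ (fun h => hQms (h ▸ hm))
  -- prime avoidance
  have havoid : ∃ x ∈ Q.asIdeal, ∀ m' ∈ (Ideal.span {f}).minimalPrimes, x ∉ m' := by
    by_contra hcon
    push Not at hcon
    have hsub : (Q.asIdeal : Set D) ⊆ ⋃ i ∈ (↑hfin.toFinset : Set (Ideal D)), (id i : Ideal D) := by
      intro x hx
      obtain ⟨m', hm', hxm'⟩ := hcon x hx
      exact Set.mem_biUnion (by simpa using hm') hxm'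
    obtain ⟨m', hm', hQm'⟩ := (Ideal.subset_union_prime (f := id) ⊥ ⊥
      (fun i hi _ _ => by
        have : i ∈ (Ideal.span {f}).minimalPrimes := by simpa using hi
        exact this.1.1)).mp hsub
    have hm'ms : m' ∈ (Ideal.span {f}).minimalPrimes := by simpa using hm'
    have h1 : m ≤ m' := hmQ.trans hQm'
    have h2 : m' ≤ m := hm'ms.2 hm.1 h1
    exact absurd (hmlt.trans_le hQm') (not_lt_of_ge h2)
  obtain ⟨x, hxQ, hx⟩ := havoid
  obtain ⟨q, hq, hqQ⟩ := Ideal.exists_minimalPrimes_le
    ((Ideal.span_singleton_le_iff_mem Q.asIdeal).mpr hxQ)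
  haveI : q.IsPrime := hq.1.1
  have hxq : x ∈ q := hq.1.2 (Ideal.mem_span_singleton_self x)
  have hx0 : x ≠ 0 := fun h => hx m hm (h ▸ m.zero_mem)
  have hq0 : q ≠ ⊥ := fun h => hx0 (by rw [h] at hxq; exact hxq)
  have hht : q.height ≤ 1 := Ideal.height_le_one_of_isPrincipal_of_mem_minimalPrimes _ q hq
  have hfq : f ∈ q := H1 q inferInstance hq0
  obtain ⟨m', hm', hm'q⟩ := Ideal.exists_minimalPrimes_le
    ((Ideal.span_singleton_le_iff_mem q).mpr hfq)
  haveI : m'.IsPrime := hm'.1.1
  have hm'lt : m' < q := lt_of_le_of_ne hm'q (fun h => hx m' hm' (h ▸ hxq))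
  have hm'0 : (⊥ : Ideal D) < m' := by
    refine bot_lt_iff_ne_bot.mpr (fun h => hf0 ?_)
    have : f ∈ m' := hm'.1.2 (Ideal.mem_span_singleton_self f)
    rw [h] at this
    exact this
  have h1 : m'.height ≤ 0 :=
    Order.lt_one_iff_nonpos.mp (Ideal.height_le_iff.mp hht m' inferInstance hm'lt)
  exact not_lt_zero (a := (⊥ : Ideal D).height)
    (Ideal.height_le_iff.mp h1 ⊥ inferInstance hm'0)


/-- A Noetherian ring in which each prime is maximal or else lies below infinitely many primes is a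
Jacobson ring. -/
theorem result {R : Type u} [CommRing R] [IsNoetherianRing R]
    (h : ∀ (p : Ideal R) [p.IsPrime], p.IsMaximal ∨ {q : PrimeSpectrum R | p ≤ q.asIdeal}.Infinite) :
    IsJacobsonRing R := by
  rw [isJacobsonRing_iff_prime_eq]
  intro P
  induction P using IsNoetherian.induction with
  | hgt P ih =>
    intro hP
    rcases h P with hmax | hinf
    · exact Ideal.jacobson_eq_self_of_isMaximal
    · have hsurj : Function.Surjective (Ideal.Quotient.mk P) := Ideal.Quotient.mk_surjective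
      rw [Ideal.jacobson_eq_iff_jacobson_quotient_eq_bot]
      apply jacobson_bot_of_infinite
      · have hrange : Set.range (PrimeSpectrum.comap (Ideal.Quotient.mk P)) =
            {q : PrimeSpectrum R | P ≤ q.asIdeal} := by
          rw [_root_.range_comap_of_surjective _ _ hsurj, Ideal.mk_ker]
          rfl
        rw [← hrange, ← Set.image_univ] at hinf
        exact hinf.of_image _
      · intro Q hQ hQ0
        have hlt : P < Q.comap (Ideal.Quotient.mk P) := by
          obtain ⟨x, hxQ, hx0⟩ := Submodule.exists_mem_ne_zero_of_ne_bot hQ0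
          obtain ⟨r, rfl⟩ := hsurj x
          refine lt_of_le_of_ne ?_ ?_
          · intro a ha
            rw [Ideal.mem_comap, Ideal.Quotient.eq_zero_iff_mem.mpr ha]
            exact Q.zero_mem
          · intro heq
            apply hx0
            rw [Ideal.Quotient.eq_zero_iff_mem, heq]
            exact hxQ
        have h1 := ih _ hlt (Ideal.comap_isPrime _ Q)
        apply Ideal.comap_injective_of_surjective _ hsurj
        rw [Ideal.comap_jacobson_of_surjective hsurj, h1]

end Groth.Agent.S2113
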