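import Groth.Statements.S3431
import Mathlib
import Groth.Agent.S2113
-- import your own Groth.Agent.* helpers here

set_option autoImplicit false
universe u
open EGA43

namespace Groth.Agent.S3431

section helpers

/-- below a prime minimal over a principal ideal of a Noetherian domain there is no nonzero prime. -/
theorem no_prime_between {D : Type u} [CommRing D] [IsDomain D] [IsNoetherianRing D]
    (x : D) (P : Ideal D) (hP : P ∈ (Ideal.span {x}).minimalPrimes) (m' : Ideal D) [m'.IsPrime]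
    (h0 : m' ≠ ⊥) (h1 : m' < P) : False := by
  have hht : P.height ≤ 1 := Ideal.height_le_one_of_isPrincipal_of_mem_minimalPrimes _ P hP
  haveI : P.IsPrime := hP.1.1
  have h2 : m'.height ≤ 0 :=
    Order.lt_one_iff_nonpos.mp (Ideal.height_le_iff.mp hht m' inferInstance h1)
  exact not_lt_zero (a := (⊥ : Ideal D).height)
    (Ideal.height_le_iff.mp h2 ⊥ inferInstance (bot_lt_iff_ne_bot.mpr h0))

/-- In a Noetherian domain, below a prime `Q` of height at least two there are infinitely many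
nonzero primes avoiding any given nonzero element. -/
theorem infinite_primes_below {D : Type u} [CommRing D] [IsDomain D] [IsNoetherianRing D]
    (Q P₁ : Ideal D) [Q.IsPrime] [P₁.IsPrime] (h0 : P₁ ≠ ⊥) (h1 : P₁ < Q) (g : D) (hg : g ≠ 0) :
    {P : Ideal D | P.IsPrime ∧ P ≠ ⊥ ∧ P < Q ∧ g ∉ P}.Infinite := by
  classical
  intro hfin
  have hfinm : (Ideal.span {g}).minimalPrimes.Finite :=
    Ideal.finite_minimalPrimes_of_isNoetherianRing D _
  obtain ⟨F, hF⟩ : ∃ F : Finset (Ideal D), (↑F : Set (Ideal D)) =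
      {P : Ideal D | P.IsPrime ∧ P ≠ ⊥ ∧ P < Q ∧ g ∉ P} ∪ (Ideal.span {g}).minimalPrimes ∪ {P₁} :=
    ⟨((hfin.union hfinm).union (Set.finite_singleton P₁)).toFinset, by simp⟩
  have hFprime : ∀ P ∈ F, P.IsPrime := by
    intro P hP
    have : P ∈ (↑F : Set (Ideal D)) := hP
    rw [hF] at this
    rcases this with (h | h) | h
    · exact h.1
    · exact h.1.1
    · rw [Set.mem_singleton_iff] at h
      rw [h]; infer_instance
  have hFnle : ∀ P ∈ F, ¬ Q ≤ P := by
    intro P hP hQP
    have : P ∈ (↑F : Set (Ideal D)) := hP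
    rw [hF] at this
    rcases this with (h | h) | h
    · exact absurd (lt_of_lt_of_le h.2.2.1 hQP) (lt_irrefl _)
    · haveI : P.IsPrime := h.1.1
      exact no_prime_between g P h P₁ h0 (lt_of_lt_of_le h1 hQP)
    · rw [Set.mem_singleton_iff] at h
      rw [h] at hQP
      exact absurd (lt_of_lt_of_le h1 hQP) (lt_irrefl _)
  -- prime avoidance
  obtain ⟨x, hxQ, hx⟩ : ∃ x ∈ Q, ∀ P ∈ F, x ∉ P := by
    by_contra hcon
    push Not at hcon
    have hsub : (Q : Set D) ⊆ ⋃ i ∈ (↑F : Set (Ideal D)), ((id i : Ideal D) : Set D) := by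
      intro x hx
      obtain ⟨P, hP, hxP⟩ := hcon x hx
      exact Set.mem_biUnion hP hxP
    obtain ⟨P, hP, hQP⟩ := (Ideal.subset_union_prime (f := id) ⊥ ⊥
      (fun i hi _ _ => hFprime i hi)).mp hsub
    exact hFnle P hP hQP
  have hP₁F : P₁ ∈ F := by
    have : P₁ ∈ (↑F : Set (Ideal D)) := by rw [hF]; exact Or.inr rfl
    exact this
  have hx0 : x ≠ 0 := fun h => hx P₁ hP₁F (h ▸ P₁.zero_mem)
  obtain ⟨P, hPmin, hPQ⟩ := Ideal.exists_minimalPrimes_le
    ((Ideal.span_singleton_le_iff_mem Q).mpr hxQ)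
  haveI : P.IsPrime := hPmin.1.1
  have hxP : x ∈ P := hPmin.1.2 (Ideal.mem_span_singleton_self x)
  have hP0 : P ≠ ⊥ := fun h => hx0 (by rw [h] at hxP; exact hxP)
  have hPltQ : P < Q := by
    refine lt_of_le_of_ne hPQ fun h => ?_
    subst h
    exact no_prime_between x P hPmin P₁ h0 h1
  have hgP : g ∉ P := by
    intro hgP
    obtain ⟨m, hm, hmP⟩ := Ideal.exists_minimalPrimes_le
      ((Ideal.span_singleton_le_iff_mem P).mpr hgP)
    haveI : m.IsPrime := hm.1.1
    have hgm : g ∈ m := hm.1.2 (Ideal.mem_span_singleton_self g)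
    have hm0 : m ≠ ⊥ := fun h => hg (by rw [h] at hgm; exact hgm)
    have hmF : m ∈ F := by
      have : m ∈ (↑F : Set (Ideal D)) := by rw [hF]; exact Or.inl (Or.inr hm)
      exact this
    rcases eq_or_lt_of_le hmP with h | h
    · exact hx m hmF (h ▸ hxP)
    · exact no_prime_between x P hPmin m hm0 h
  have hPF : P ∈ F := by
    have : P ∈ (↑F : Set (Ideal D)) := by
      rw [hF]; exact Or.inl (Or.inl ⟨inferInstance, hP0, hPltQ, hgP⟩)
    exact this
  exact hx P hPF hxP

/-- In a Noetherian ring, if `p < p₁ < q` are primes then there are infinitely many primes strictly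
between `p` and `q` avoiding any given `g ∉ p`. -/
theorem infinite_primes_between {A : Type u} [CommRing A] [IsNoetherianRing A]
    (p p₁ q : Ideal A) [p.IsPrime] [p₁.IsPrime] [q.IsPrime] (h0 : p < p₁) (h1 : p₁ < q)
    (g : A) (hg : g ∉ p) :
    {p' : Ideal A | p'.IsPrime ∧ p < p' ∧ p' < q ∧ g ∉ p'}.Infinite := by
  have hsurj : Function.Surjective (Ideal.Quotient.mk p) := Ideal.Quotient.mk_surjective
  have hker : RingHom.ker (Ideal.Quotient.mk p) = p := Ideal.mk_ker
  have hcm : ∀ I : Ideal A, p ≤ I → (I.map (Ideal.Quotient.mk p)).comap (Ideal.Quotient.mk p) = I := by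
    intro I hI
    rw [Ideal.comap_map_of_surjective _ hsurj, ← RingHom.ker_eq_comap_bot, hker]
    exact sup_eq_left.mpr hI
  haveI : (q.map (Ideal.Quotient.mk p)).IsPrime :=
    Ideal.map_isPrime_of_surjective hsurj (by rw [hker]; exact (h0.trans h1).le)
  haveI : (p₁.map (Ideal.Quotient.mk p)).IsPrime :=
    Ideal.map_isPrime_of_surjective hsurj (by rw [hker]; exact h0.le)
  have hcinj : Function.Injective (Ideal.comap (Ideal.Quotient.mk p)) :=
    Ideal.comap_injective_of_surjective _ hsurj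
  have hcbot : (⊥ : Ideal (A ⧸ p)).comap (Ideal.Quotient.mk p) = p := by
    rw [← RingHom.ker_eq_comap_bot, hker]
  have hP₁0 : p₁.map (Ideal.Quotient.mk p) ≠ ⊥ := by
    intro h
    have := hcm p₁ h0.le
    rw [h, hcbot] at this
    exact absurd h0 (this ▸ lt_irrefl _)
  have hP₁Q : p₁.map (Ideal.Quotient.mk p) < q.map (Ideal.Quotient.mk p) := by
    refine lt_of_le_of_ne (Ideal.map_mono h1.le) fun h => ?_
    have h2 := congrArg (Ideal.comap (Ideal.Quotient.mk p)) h
    rw [hcm p₁ h0.le, hcm q (h0.trans h1).le] at h2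
    exact absurd h1 (h2 ▸ lt_irrefl _)
  have hg0 : Ideal.Quotient.mk p g ≠ 0 := fun h => hg (Ideal.Quotient.eq_zero_iff_mem.mp h)
  have hinf := infinite_primes_below (q.map (Ideal.Quotient.mk p)) (p₁.map (Ideal.Quotient.mk p))
    hP₁0 hP₁Q _ hg0
  refine (hinf.image hcinj.injOn).mono ?_
  rintro _ ⟨P, ⟨hPprime, hP0, hPQ, hgP⟩, rfl⟩
  refine ⟨Ideal.comap_isPrime _ _, ?_, ?_, ?_⟩
  · refine lt_of_le_of_ne ?_ ?_
    · exact hcbot.symm.le.trans (Ideal.comap_mono bot_le)
    · intro h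
      have h2 : Ideal.comap (Ideal.Quotient.mk p) ⊥ = Ideal.comap (Ideal.Quotient.mk p) P :=
        hcbot.trans h
      exact hP0 (hcinj h2).symm
  · rw [← hcm q (h0.trans h1).le]
    refine lt_of_le_of_ne (Ideal.comap_mono hPQ.le) fun h => ?_
    exact absurd hPQ ((hcinj h) ▸ lt_irrefl _)
  · exact fun h => hgP h

section dim

variable {A : Type u} [CommRing A] (p : Ideal A) [p.IsPrime]

theorem comap_mk_lt_iff (P P' : Ideal (A ⧸ p)) :
    P.comap (Ideal.Quotient.mk p) < P'.comap (Ideal.Quotient.mk p) ↔ P < P' := by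
  have hcinj : Function.Injective (Ideal.comap (Ideal.Quotient.mk p)) :=
    Ideal.comap_injective_of_surjective _ Ideal.Quotient.mk_surjective
  constructor
  · intro h
    refine lt_of_le_of_ne ?_ fun h' => absurd h (h' ▸ lt_irrefl _)
    intro x hx
    obtain ⟨a, rfl⟩ := Ideal.Quotient.mk_surjective x
    exact h.le hx
  · intro h
    exact lt_of_le_of_ne (Ideal.comap_mono h.le) fun h' => absurd h ((hcinj h') ▸ lt_irrefl _)

theorem le_comap_mk (P : Ideal (A ⧸ p)) : p ≤ P.comap (Ideal.Quotient.mk p) := by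
  intro a ha
  rw [Ideal.mem_comap, Ideal.Quotient.eq_zero_iff_mem.mpr ha]
  exact P.zero_mem

theorem ringKrullDim_quotient_le_one
    (h : ∀ q₁ q₂ : Ideal A, q₁.IsPrime → q₂.IsPrime → p < q₁ → q₁ < q₂ → False) :
    ringKrullDim (A ⧸ p) ≤ 1 := by
  rw [ringKrullDim, Order.krullDim_le_one_iff]
  intro P
  by_contra hcon
  push Not at hcon
  obtain ⟨h1, h2⟩ := hcon
  rw [not_isMin_iff] at h1
  rw [not_isMax_iff] at h2
  obtain ⟨P0, hP0⟩ := h1
  obtain ⟨P2, hP2⟩ := h2
  refine h (P.asIdeal.comap (Ideal.Quotient.mk p)) (P2.asIdeal.comap (Ideal.Quotient.mk p))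
    (Ideal.comap_isPrime _ _) (Ideal.comap_isPrime _ _) ?_ ?_
  · exact lt_of_le_of_lt (le_comap_mk p P0.asIdeal) ((comap_mk_lt_iff p _ _).mpr hP0)
  · exact (comap_mk_lt_iff p _ _).mpr hP2

theorem one_le_ringKrullDim_quotient (q : Ideal A) [q.IsPrime] (hq : p < q) :
    1 ≤ ringKrullDim (A ⧸ p) := by
  rw [ringKrullDim, Order.one_le_krullDim_iff]
  have hsurj : Function.Surjective (Ideal.Quotient.mk p) := Ideal.Quotient.mk_surjective
  haveI : (q.map (Ideal.Quotient.mk p)).IsPrime :=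
    Ideal.map_isPrime_of_surjective hsurj (by rw [Ideal.mk_ker]; exact hq.le)
  refine ⟨⟨⊥, Ideal.isPrime_bot⟩, ⟨q.map (Ideal.Quotient.mk p), inferInstance⟩, ?_⟩
  show (⊥ : Ideal (A ⧸ p)) < q.map (Ideal.Quotient.mk p)
  rw [bot_lt_iff_ne_bot]
  intro h
  obtain ⟨x, hxq, hxp⟩ := Set.exists_of_ssubset hq
  have : Ideal.Quotient.mk p x ∈ q.map (Ideal.Quotient.mk p) := Ideal.mem_map_of_mem _ hxq
  rw [h, Ideal.mem_bot, Ideal.Quotient.eq_zero_iff_mem] at this
  exact hxp this

theorem chain_of_ringKrullDim_quotient_eq_one (h : ringKrullDim (A ⧸ p) = 1) :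
    (∃ q : Ideal A, q.IsPrime ∧ p < q) ∧
      ∀ q₁ q₂ : Ideal A, q₁.IsPrime → q₂.IsPrime → p < q₁ → q₁ < q₂ → False := by
  have hsurj : Function.Surjective (Ideal.Quotient.mk p) := Ideal.Quotient.mk_surjective
  constructor
  · have h1 : 1 ≤ ringKrullDim (A ⧸ p) := h.ge
    rw [ringKrullDim, Order.one_le_krullDim_iff] at h1
    obtain ⟨x, y, hxy⟩ := h1
    refine ⟨y.asIdeal.comap (Ideal.Quotient.mk p), Ideal.comap_isPrime _ _, ?_⟩
    exact lt_of_le_of_lt (le_comap_mk p x.asIdeal) ((comap_mk_lt_iff p _ _).mpr hxy)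
  · intro q₁ q₂ hq₁ hq₂ h1 h2
    have hle : ringKrullDim (A ⧸ p) ≤ 1 := h.le
    rw [ringKrullDim, Order.krullDim_le_one_iff] at hle
    haveI : (q₁.map (Ideal.Quotient.mk p)).IsPrime :=
      Ideal.map_isPrime_of_surjective hsurj (by rw [Ideal.mk_ker]; exact h1.le)
    haveI : (q₂.map (Ideal.Quotient.mk p)).IsPrime :=
      Ideal.map_isPrime_of_surjective hsurj (by rw [Ideal.mk_ker]; exact (h1.trans h2).le)
    have hcm : ∀ I : Ideal A, p ≤ I →
        (I.map (Ideal.Quotient.mk p)).comap (Ideal.Quotient.mk p) = I := by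
      intro I hI
      rw [Ideal.comap_map_of_surjective _ hsurj, ← RingHom.ker_eq_comap_bot, Ideal.mk_ker]
      exact sup_eq_left.mpr hI
    have hbot : (⊥ : Ideal (A ⧸ p)).comap (Ideal.Quotient.mk p) = p := by
      rw [← RingHom.ker_eq_comap_bot, Ideal.mk_ker]
    have hlt1 : (⊥ : Ideal (A ⧸ p)) < q₁.map (Ideal.Quotient.mk p) := by
      rw [← comap_mk_lt_iff p, hbot, hcm q₁ h1.le]
      exact h1
    have hlt2 : q₁.map (Ideal.Quotient.mk p) < q₂.map (Ideal.Quotient.mk p) := by
      rw [← comap_mk_lt_iff p, hcm q₁ h1.le, hcm q₂ (h1.trans h2).le]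
      exact h2
    rcases hle ⟨q₁.map (Ideal.Quotient.mk p), inferInstance⟩ with hmin | hmax
    · exact absurd hlt1 (hmin.not_lt (b := (⟨⊥, Ideal.isPrime_bot⟩ : PrimeSpectrum (A ⧸ p))))
    · exact absurd hlt2
        (hmax.not_lt (b := (⟨q₂.map (Ideal.Quotient.mk p), inferInstance⟩ : PrimeSpectrum (A ⧸ p))))

end dim

/-- a semilocal Jacobson domain is a field. -/
theorem isMaximal_bot_of_semilocal_jacobson {D : Type u} [CommRing D] [IsDomain D]
    [IsJacobsonRing D] [Finite (MaximalSpectrum D)] : (⊥ : Ideal D).IsMaximal := by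
  classical
  by_contra hnmax
  haveI := Fintype.ofFinite (MaximalSpectrum D)
  have hne : ∀ m : MaximalSpectrum D, ∃ x ∈ m.asIdeal, x ≠ 0 := by
    intro m
    by_contra hcon
    push Not at hcon
    have : m.asIdeal = ⊥ := eq_bot_iff.mpr fun x hx => by simpa using hcon x hx
    exact hnmax (this ▸ m.2)
  choose x hxm hx0 using hne
  have hprod0 : ∏ m : MaximalSpectrum D, x m ≠ 0 := Finset.prod_ne_zero_iff.mpr fun m _ => hx0 m
  have hJ : (⊥ : Ideal D).jacobson = ⊥ :=
    IsJacobsonRing.out inferInstance (Ideal.isPrime_bot (α := D)).isRadical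
  have hmem : ∏ m : MaximalSpectrum D, x m ∈ (⊥ : Ideal D).jacobson := by
    rw [Ideal.jacobson, Ideal.mem_sInf]
    rintro J ⟨-, hJmax⟩
    have h1 := Finset.mul_prod_erase Finset.univ x (Finset.mem_univ (⟨J, hJmax⟩ : MaximalSpectrum D))
    rw [← h1]
    exact Ideal.mul_mem_right _ _ (hxm ⟨J, hJmax⟩)
  rw [hJ, Ideal.mem_bot] at hmem
  exact hprod0 hmem

end helpers

/-- Let A be a Noetherian ring. Then A is a Jacobson ring if and only if there is no prime ideal p of A
such that A/p is semi-local (finitely many maximal ideals) of Krull dimension 1. -/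
theorem result (A : Type u) [CommRing A] [IsNoetherianRing A] :
    IsJacobsonRing A ↔
      ∀ (p : Ideal A) [p.IsPrime], ¬ (Finite (MaximalSpectrum (A ⧸ p)) ∧ ringKrullDim (A ⧸ p) = 1) := by
  constructor
  · intro hJ p hp ⟨hfin, hdim⟩
    haveI := hfin
    have hmax : (⊥ : Ideal (A ⧸ p)).IsMaximal := isMaximal_bot_of_semilocal_jacobson
    have hfield : IsField (A ⧸ p) := Ring.isField_iff_maximal_bot.mpr hmax
    rw [ringKrullDim_eq_zero_of_isField hfield] at hdim
    exact absurd hdim (by norm_num)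
  · intro h
    apply Groth.Agent.S2113.result
    intro p hp
    by_contra hcon
    push Not at hcon
    obtain ⟨hnmax, hninf⟩ := hcon
    apply h p
    constructor
    · haveI : Finite {q : PrimeSpectrum A | p ≤ q.asIdeal} := hninf
      refine Finite.of_injective (fun m : MaximalSpectrum (A ⧸ p) =>
        (⟨⟨m.asIdeal.comap (Ideal.Quotient.mk p), Ideal.comap_isPrime _ _⟩,
          le_comap_mk p m.asIdeal⟩ : {q : PrimeSpectrum A | p ≤ q.asIdeal})) ?_
      intro m m' hmm'
      have h1 : m.asIdeal.comap (Ideal.Quotient.mk p) = m'.asIdeal.comap (Ideal.Quotient.mk p) := by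
        have := congrArg (fun z : {q : PrimeSpectrum A | p ≤ q.asIdeal} => z.1.asIdeal) hmm'
        exact this
      exact MaximalSpectrum.ext
        (Ideal.comap_injective_of_surjective _ Ideal.Quotient.mk_surjective h1)
    · apply le_antisymm
      · apply ringKrullDim_quotient_le_one
        intro q₁ q₂ hq₁ hq₂ h1 h2
        have hinf := infinite_primes_between p q₁ q₂ h1 h2 1
          (fun h1p => hp.ne_top ((Ideal.eq_top_iff_one p).mpr h1p))
        apply hinf
        refine Set.Finite.subset (hninf.image PrimeSpectrum.asIdeal) ?_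
        rintro p' ⟨hp', hpp', -, -⟩
        exact ⟨⟨p', hp'⟩, hpp'.le, rfl⟩
      · obtain ⟨m, hm, hpm⟩ := Ideal.exists_le_maximal p hp.ne_top
        haveI := hm.isPrime
        exact one_le_ringKrullDim_quotient p m
          (lt_of_le_of_ne hpm fun h => hnmax (h ▸ hm))

end Groth.Agent.S3431
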