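import Groth.Statements.S3432
import Mathlib
import Groth.Agent.S3431
-- import your own Groth.Agent.* helpers here

set_option autoImplicit false
open CategoryTheory AlgebraicGeometry
universe u
open EGA43

namespace Groth.Agent.S3432

section helpers

open Groth.Agent.S3431

/-- the coordinate ring of an affine open of `X` contained in the complement of `Y` is Jacobson. -/
theorem isJacobsonRing_of_affine_le_compl (X : Scheme.{u}) [IsLocallyNoetherian X] (Y : Set X)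
    (hmeet : ∀ Z : Set X, IsClosed Z → Z.Nonempty → (Z ∩ Y).Nonempty)
    (W : X.Opens) (hW : IsAffineOpen W) (hWY : ∀ x ∈ W, x ∉ Y) : IsJacobsonRing Γ(X, W) := by
  haveI : IsNoetherianRing Γ(X, W) := IsLocallyNoetherian.component_noetherian ⟨W, hW⟩
  apply Groth.Agent.S2113.result
  intro p hp
  by_contra hcon
  push Not at hcon
  obtain ⟨hnmax, hfin⟩ := hcon
  obtain ⟨p₁, hp₁max, hpp₁⟩ := Ideal.exists_le_maximal p hp.ne_top
  haveI hp₁ : p₁.IsPrime := hp₁max.isPrime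
  have hlt : p < p₁ := lt_of_le_of_ne hpp₁ fun h => hnmax (h ▸ hp₁max)
  -- the points
  obtain ⟨sp, hsp⟩ : ∃ sp : PrimeSpectrum Γ(X, W), sp = ⟨p, hp⟩ := ⟨_, rfl⟩
  obtain ⟨sp₁, hsp₁⟩ : ∃ sp₁ : PrimeSpectrum Γ(X, W), sp₁ = ⟨p₁, hp₁⟩ := ⟨_, rfl⟩
  have hspec : sp ⤳ sp₁ := by
    rw [← PrimeSpectrum.le_iff_specializes, hsp, hsp₁]
    exact hpp₁
  have hxW : hW.fromSpec sp ∈ W := by
    have : hW.fromSpec sp ∈ Set.range hW.fromSpec := ⟨sp, rfl⟩
    rwa [hW.range_fromSpec] at this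
  have hx₁W : hW.fromSpec sp₁ ∈ W := by
    have : hW.fromSpec sp₁ ∈ Set.range hW.fromSpec := ⟨sp₁, rfl⟩
    rwa [hW.range_fromSpec] at this
  have hxx₁ : hW.fromSpec sp ⤳ hW.fromSpec sp₁ := hspec.map hW.fromSpec.continuous
  obtain ⟨y, hy, hyY⟩ := hmeet (closure {hW.fromSpec sp₁}) isClosed_closure
    ⟨_, subset_closure rfl⟩
  have hx₁y : hW.fromSpec sp₁ ⤳ y := specializes_iff_mem_closure.mpr hy
  -- second affine open
  obtain ⟨_, ⟨W', hW'', rfl⟩, hyW', -⟩ := X.isBasis_affineOpens.exists_subset_of_mem_open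
    (Set.mem_univ y) isOpen_univ
  have hW' : IsAffineOpen W' := hW''
  haveI : IsNoetherianRing Γ(X, W') := IsLocallyNoetherian.component_noetherian ⟨W', hW'⟩
  have hx₁W' : hW.fromSpec sp₁ ∈ W' := hx₁y.mem_open W'.isOpen hyW'
  have hxW' : hW.fromSpec sp ∈ W' := hxx₁.mem_open W'.isOpen hx₁W'
  obtain ⟨P, hP⟩ : ∃ P, P = hW'.primeIdealOf ⟨hW.fromSpec sp, hxW'⟩ := ⟨_, rfl⟩
  obtain ⟨P₁, hP₁⟩ : ∃ P₁, P₁ = hW'.primeIdealOf ⟨hW.fromSpec sp₁, hx₁W'⟩ := ⟨_, rfl⟩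
  obtain ⟨Q, hQ⟩ : ∃ Q, Q = hW'.primeIdealOf ⟨y, hyW'⟩ := ⟨_, rfl⟩
  have hfP : hW'.fromSpec P = hW.fromSpec sp := by rw [hP, hW'.fromSpec_primeIdealOf]
  have hfP₁ : hW'.fromSpec P₁ = hW.fromSpec sp₁ := by rw [hP₁, hW'.fromSpec_primeIdealOf]
  have hfQ : hW'.fromSpec Q = y := by rw [hQ, hW'.fromSpec_primeIdealOf]
  have hle_of : ∀ a b : PrimeSpectrum Γ(X, W'), hW'.fromSpec a ⤳ hW'.fromSpec b →
      a.asIdeal ≤ b.asIdeal := by
    intro a b hab
    rw [hW'.fromSpec.isOpenEmbedding.isInducing.specializes_iff] at hab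
    exact (PrimeSpectrum.le_iff_specializes a b).mpr hab
  have hPP₁ : P.asIdeal < P₁.asIdeal := by
    refine lt_of_le_of_ne (hle_of P P₁ (by rw [hfP, hfP₁]; exact hxx₁)) fun h => ?_
    have h1 : P = P₁ := PrimeSpectrum.ext h
    have h2 : hW.fromSpec sp = hW.fromSpec sp₁ := by rw [← hfP, ← hfP₁, h1]
    have h3 : sp = sp₁ := hW.fromSpec.isOpenEmbedding.injective h2
    rw [hsp, hsp₁] at h3
    have h4 : p = p₁ := congrArg PrimeSpectrum.asIdeal h3
    exact absurd hlt (h4 ▸ lt_irrefl _)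
  have hP₁Q : P₁.asIdeal < Q.asIdeal := by
    refine lt_of_le_of_ne (hle_of P₁ Q (by rw [hfP₁, hfQ]; exact hx₁y)) fun h => ?_
    have h1 : P₁ = Q := PrimeSpectrum.ext h
    have h2 : hW.fromSpec sp₁ = y := by rw [← hfP₁, ← hfQ, h1]
    exact hWY _ hx₁W (h2 ▸ hyY)
  -- a basic open around `P` inside `W`
  obtain ⟨_, ⟨_, ⟨g, rfl⟩, rfl⟩, hPg, hgW⟩ := PrimeSpectrum.isBasis_basic_opens.exists_subset_of_mem_open
    (show P ∈ (hW'.fromSpec ⁻¹ᵁ W : (Spec Γ(X, W')).Opens) by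
      show hW'.fromSpec P ∈ W
      rw [hfP]; exact hxW) (hW'.fromSpec ⁻¹ᵁ W).isOpen
  have hinf := infinite_primes_between P.asIdeal P₁.asIdeal Q.asIdeal hPP₁ hP₁Q g hPg
  apply hinf
  -- inject the infinite set into the finite one
  have hmemW : ∀ P'' : Ideal Γ(X, W'), ∀ h'' : P''.IsPrime, g ∉ P'' →
      hW'.fromSpec ⟨P'', h''⟩ ∈ W := by
    intro P'' h'' hg''
    exact hgW (show (⟨P'', h''⟩ : PrimeSpectrum Γ(X, W')) ∈ PrimeSpectrum.basicOpen g from hg'')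
  classical
  let F : Ideal Γ(X, W') → PrimeSpectrum Γ(X, W) := fun P'' =>
    if h : P''.IsPrime ∧ g ∉ P'' then hW.primeIdealOf ⟨hW'.fromSpec ⟨P'', h.1⟩, hmemW P'' h.1 h.2⟩
    else sp
  refine Set.Finite.of_finite_image (f := F) (hfin.subset ?_) ?_
  · rintro _ ⟨P'', ⟨hprime, hPP'', -, hg''⟩, rfl⟩
    have hF : F P'' = hW.primeIdealOf ⟨hW'.fromSpec ⟨P'', hprime⟩, hmemW P'' hprime hg''⟩ :=
      dif_pos ⟨hprime, hg''⟩
    show p ≤ (F P'').asIdeal
    have h1 : hW.fromSpec sp ⤳ hW.fromSpec (F P'') := by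
      rw [hF, hW.fromSpec_primeIdealOf, ← hfP]
      exact Specializes.map ((PrimeSpectrum.le_iff_specializes P
        (⟨P'', hprime⟩ : PrimeSpectrum Γ(X, W'))).mp hPP''.le) hW'.fromSpec.continuous
    rw [hW.fromSpec.isOpenEmbedding.isInducing.specializes_iff] at h1
    have h2 := (PrimeSpectrum.le_iff_specializes sp (F P'')).mpr h1
    rw [hsp] at h2
    exact h2
  · rintro P'' ⟨hprime, -, -, hg''⟩ P''' ⟨hprime', -, -, hg'''⟩ hFF
    have hF : F P'' = hW.primeIdealOf ⟨hW'.fromSpec ⟨P'', hprime⟩, hmemW P'' hprime hg''⟩ :=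
      dif_pos ⟨hprime, hg''⟩
    have hF' : F P''' = hW.primeIdealOf ⟨hW'.fromSpec ⟨P''', hprime'⟩, hmemW P''' hprime' hg'''⟩ :=
      dif_pos ⟨hprime', hg'''⟩
    have h1 := congrArg hW.fromSpec hFF
    rw [hF, hF', hW.fromSpec_primeIdealOf, hW.fromSpec_primeIdealOf] at h1
    have h2 := hW'.fromSpec.isOpenEmbedding.injective h1
    exact congrArg PrimeSpectrum.asIdeal h2

theorem jacobsonSpace_of_affine (X : Scheme.{u}) (W : X.Opens) (hW : IsAffineOpen W)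
    [IsJacobsonRing Γ(X, W)] : JacobsonSpace ↥W :=
  JacobsonSpace.of_isOpenEmbedding (f := Scheme.homeoOfIso hW.isoSpec)
    (Scheme.homeoOfIso hW.isoSpec).isOpenEmbedding

/-- an open subset of a scheme all of whose affine opens have Jacobson coordinate rings is a
Jacobson space. -/
theorem jacobsonSpace_of_forall_affine (X : Scheme.{u}) (S : Set X) (hS : IsOpen S)
    (h : ∀ W : X.Opens, IsAffineOpen W → (W : Set X) ⊆ S → IsJacobsonRing Γ(X, W)) :
    JacobsonSpace ↥S := by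
  let ι := {W : X.Opens // IsAffineOpen W ∧ (W : Set X) ⊆ S}
  let U' : ι → TopologicalSpace.Opens ↥S := fun W =>
    ⟨Subtype.val ⁻¹' (W.1 : Set X), W.1.isOpen.preimage continuous_subtype_val⟩
  have hcover : TopologicalSpace.IsOpenCover U' := by
    rw [TopologicalSpace.IsOpenCover, eq_top_iff]
    rintro ⟨t, ht⟩ -
    obtain ⟨_, ⟨W, hW, rfl⟩, htW, hWS⟩ := X.isBasis_affineOpens.exists_subset_of_mem_open ht hS
    rw [TopologicalSpace.Opens.mem_iSup]
    exact ⟨⟨W, hW, hWS⟩, htW⟩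
  rw [hcover.jacobsonSpace_iff]
  rintro ⟨W, hW, hWS⟩
  haveI : IsJacobsonRing Γ(X, W) := h W hW hWS
  haveI : JacobsonSpace ↥W := jacobsonSpace_of_affine X W hW
  let f : ↥(U' ⟨W, hW, hWS⟩) → ↥W := fun z => ⟨z.1.1, z.2⟩
  have hf : Topology.IsOpenEmbedding f := by
    refine Topology.IsOpenEmbedding.of_comp f (g := (Subtype.val : ↥W → X))
      W.2.isOpenEmbedding_subtypeVal ?_
    exact hS.isOpenEmbedding_subtypeVal.comp (U' ⟨W, hW, hWS⟩).2.isOpenEmbedding_subtypeVal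
  exact JacobsonSpace.of_isOpenEmbedding hf

end helpers

/-- Let X be a locally Noetherian scheme and Y a closed subset of X such that every nonempty closed
subset of X meets Y. Then the open subscheme X ∖ Y (equivalently, the subspace X ∖ Y) is a Jacobson
space. -/
theorem result (X : Scheme.{u}) [IsLocallyNoetherian X] (Y : Set X)
    (hY : IsClosed Y) (hmeet : ∀ Z : Set X, IsClosed Z → Z.Nonempty → (Z ∩ Y).Nonempty) :
    JacobsonSpace ↥(Yᶜ) := by
  apply jacobsonSpace_of_forall_affine X Yᶜ hY.isOpen_compl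
  intro W hW hWY
  exact isJacobsonRing_of_affine_le_compl X Y hmeet W hW fun x hx => hWY hx

end Groth.Agent.S3432
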