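import Groth.Statements.S2011
import Mathlib
import Groth.Agent.S3432
-- import your own Groth.Agent.* helpers here

set_option autoImplicit false
universe u
open EtAlg

namespace Groth.Agent.S2011

/-- Let A be a Noetherian ring and I an ideal contained in the Jacobson radical of A (a Zariski pair).
Then for every f in I the localization A_f is a Jacobson ring. -/
theorem result (A : Type u) [CommRing A] [IsNoetherianRing A] (I : Ideal A)
    (hI : I ≤ (⊥ : Ideal A).jacobson) (f : A) (hf : f ∈ I) : IsJacobsonRing (Localization.Away f) := by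
  have hJ : JacobsonSpace ↥((PrimeSpectrum.zeroLocus (I : Set A))ᶜ : Set (PrimeSpectrum A)) := by
    have h := Groth.Agent.S3432.result (AlgebraicGeometry.Spec (CommRingCat.of A))
      (PrimeSpectrum.zeroLocus (I : Set A)) (PrimeSpectrum.isClosed_zeroLocus _)
      (fun Z hZ hne => by
        obtain ⟨z, hz⟩ := hne
        obtain ⟨m, hm, hzm⟩ := Ideal.exists_le_maximal z.asIdeal z.2.ne_top
        have hspec : z ⤳ (⟨m, hm.isPrime⟩ : PrimeSpectrum A) :=
          (PrimeSpectrum.le_iff_specializes z ⟨m, hm.isPrime⟩).mp hzm
        refine ⟨⟨m, hm.isPrime⟩, hspec.mem_closed hZ hz, ?_⟩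
        show (I : Set A) ⊆ m
        intro a ha
        have h1 : a ∈ (⊥ : Ideal A).jacobson := hI ha
        rw [Ideal.jacobson, Ideal.mem_sInf] at h1
        exact h1 ⟨bot_le, hm⟩)
    exact h
  rw [PrimeSpectrum.isJacobsonRing_iff_jacobsonSpace]
  have hemb := PrimeSpectrum.localization_away_isOpenEmbedding (Localization.Away f) f
  have hrange : ∀ q : PrimeSpectrum (Localization.Away f),
      PrimeSpectrum.comap (algebraMap A (Localization.Away f)) q ∈
        ((PrimeSpectrum.zeroLocus (I : Set A))ᶜ : Set (PrimeSpectrum A)) := by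
    intro q hq
    have h1 : PrimeSpectrum.comap (algebraMap A (Localization.Away f)) q ∈
        Set.range (PrimeSpectrum.comap (algebraMap A (Localization.Away f))) := ⟨q, rfl⟩
    rw [PrimeSpectrum.localization_away_comap_range (Localization.Away f) f] at h1
    exact h1 (hq hf)
  let g : PrimeSpectrum (Localization.Away f) →
      ↥((PrimeSpectrum.zeroLocus (I : Set A))ᶜ : Set (PrimeSpectrum A)) :=
    fun q => ⟨PrimeSpectrum.comap (algebraMap A (Localization.Away f)) q, hrange q⟩
  have hg : Topology.IsOpenEmbedding g :=
    Topology.IsOpenEmbedding.of_comp g (g := Subtype.val)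
      (PrimeSpectrum.isClosed_zeroLocus _).isOpen_compl.isOpenEmbedding_subtypeVal hemb
  exact JacobsonSpace.of_isOpenEmbedding hg

end Groth.Agent.S2011
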