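import Groth.Statements.S2012
import Mathlib.RingTheory.Flat.EquationalCriterion
import Mathlib.RingTheory.Finiteness.ModuleFinitePresentation
import Mathlib.RingTheory.Nakayama
-- import your own Groth.Agent.* helpers here

set_option autoImplicit false
universe u
open EtAlg

namespace Groth.Agent.S2012

/-- Let A be a ring and I an ideal contained in its Jacobson radical. Let B be an A-algebra which is
flat, integral and of finite presentation over A and such that A/I -> B/IB is bijective. Then A -> B
is bijective. -/
theorem result (A B : Type u) [CommRing A] [CommRing B] [Algebra A B]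
    (I : Ideal A) (hI : I ≤ (⊥ : Ideal A).jacobson) [Module.Flat A B] [Algebra.IsIntegral A B] [Algebra.FinitePresentation A B]
    (hq : Function.Bijective (Ideal.quotientMap (I.map (algebraMap A B)) (algebraMap A B) Ideal.le_comap_map)) :
    Function.Bijective (algebraMap A B) := by
  have hfin : Module.Finite A B := Algebra.IsIntegral.finite
  have hfp : Module.FinitePresentation A B := Module.FinitePresentation.of_finite_of_finitePresentation A B
  have hproj : Module.Projective A B := Module.Flat.projective_of_finitePresentation
  -- surjectivity by Nakayama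
  have hsurj : Function.Surjective (Algebra.linearMap A B) := by
    rw [← LinearMap.range_eq_top, eq_top_iff]
    refine Submodule.le_of_le_smul_of_le_jacobson_bot (I := I) hfin.fg_top hI ?_
    intro b _
    obtain ⟨a, ha⟩ := hq.2 (Ideal.Quotient.mk _ b)
    obtain ⟨a, rfl⟩ := Ideal.Quotient.mk_surjective a
    rw [Ideal.quotientMap_mk, Ideal.Quotient.eq] at ha
    rw [Submodule.mem_sup]
    refine ⟨algebraMap A B a, ⟨a, rfl⟩, b - algebraMap A B a, ?_, by ring⟩
    rw [Ideal.smul_top_eq_map]
    have := (I.map (algebraMap A B)).neg_mem ha
    simpa using this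
  refine ⟨?_, hsurj⟩
  -- injectivity
  obtain ⟨s, hs⟩ := Module.projective_lifting_property (Algebra.linearMap A B) LinearMap.id hsurj
  have hs1 : algebraMap A B (s 1) = 1 := by
    have := LinearMap.congr_fun hs 1
    simpa using this
  have hker : ∀ j : A, algebraMap A B j = 0 → j ∈ I := by
    intro j hj
    have : Ideal.quotientMap (I.map (algebraMap A B)) (algebraMap A B) Ideal.le_comap_map
        (Ideal.Quotient.mk I j) = 0 := by
      rw [Ideal.quotientMap_mk, hj, map_zero]
    have := hq.1 (this.trans (map_zero _).symm)
    rwa [Ideal.Quotient.eq_zero_iff_mem] at this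
  have hunit : IsUnit (s 1) := by
    apply Ideal.isUnit_of_sub_one_mem_jacobson_bot
    apply hI
    apply hker
    rw [map_sub, hs1, map_one, sub_self]
  rw [injective_iff_map_eq_zero]
  intro j hj
  have : j * s 1 = 0 := by
    have h1 : j • s 1 = s (j • 1) := (s.map_smul j 1).symm
    rw [smul_eq_mul] at h1
    rw [h1, Algebra.smul_def, mul_one, hj, map_zero]
  exact (hunit.mul_left_eq_zero).1 this

end Groth.Agent.S2012
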