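import Groth.Statements.S2014
import Mathlib

set_option autoImplicit false
universe u
open EtAlg

namespace Groth.Agent.S2014

/-- Let R be a Noetherian local ring of Krull dimension 1 and x an element of the maximal ideal
contained in no minimal prime of R. Then the number of minimal prime ideals of R is at most the
length of R/xR as an R-module. -/
theorem result (R : Type u) [CommRing R] [IsNoetherianRing R] [IsLocalRing R]
    (hdim : ringKrullDim R = 1) (x : R) (hx : x ∈ IsLocalRing.maximalIdeal R) (hmin : ∀ p ∈ minimalPrimes R, x ∉ p) :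
    (Set.ncard (minimalPrimes R) : ℕ∞) ≤ Module.length R (R ⧸ Ideal.span {x}) := by
  classical
  have hfin : (minimalPrimes R).Finite := minimalPrimes.finite_of_isNoetherianRing R
  haveI : Finite (minimalPrimes R) := hfin
  have hcard : Nat.card (minimalPrimes R) = (minimalPrimes R).ncard := Nat.card_coe_set_eq _
  set n := (minimalPrimes R).ncard with hn
  let e : Fin n ≃ minimalPrimes R := ((Finite.equivFin (minimalPrimes R)).trans (finCongr hcard)).symm
  let P : Fin n → Ideal R := fun i => (e i).1
  have hPmin : ∀ i, P i ∈ minimalPrimes R := fun i => (e i).2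
  have hPprime : ∀ i, (P i).IsPrime := fun i => (hPmin i).1.1
  have hPinj : Function.Injective P := fun i j hij => e.injective (Subtype.ext hij)
  let I : ℕ → Ideal R := fun j => (Finset.univ.filter (fun i : Fin n => i.val < j)).inf P
  let J : ℕ → Ideal R := fun j => I j ⊔ Ideal.span {x}
  have hIanti : ∀ j, I (j+1) ≤ I j := by
    intro j
    apply Finset.inf_mono
    intro i hi
    simp only [Finset.mem_filter, Finset.mem_univ, true_and] at hi ⊢
    omega
  have hIsucc : ∀ j (hj : j < n), I (j+1) ≤ P ⟨j, hj⟩ := by
    intro j hj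
    apply Finset.inf_le
    simp
  have hstrict : ∀ j, j < n → J (j+1) < J j := by
    intro j hj
    refine lt_of_le_of_ne (sup_le_sup_right (hIanti j) _) ?_
    intro heq
    have h1 : I j ≤ I (j+1) ⊔ Ideal.span {x} • I j := by
      intro a ha
      have ha' : a ∈ J (j+1) := by
        rw [heq]; exact Ideal.mem_sup_left ha
      obtain ⟨b, hb, c, hc, rfl⟩ := Submodule.mem_sup.mp ha'
      obtain ⟨r, rfl⟩ := Ideal.mem_span_singleton'.mp hc
      have hrx : r * x ∈ I j := by
        have := (I j).sub_mem ha (hIanti j hb)
        simpa using this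
      have hr : r ∈ I j := by
        simp only [I, Submodule.mem_finsetInf] at hrx ⊢
        intro i hi
        rcases (hPprime i).mem_or_mem (hrx i hi) with h | h
        · exact h
        · exact absurd h (hmin _ (hPmin i))
      refine Submodule.mem_sup.mpr ⟨b, hb, r * x, ?_, rfl⟩
      rw [mul_comm]
      exact Submodule.smul_mem_smul (Ideal.mem_span_singleton_self x) hr
    have h2 : I j ≤ I (j+1) := by
      refine Submodule.le_of_le_smul_of_le_jacobson_bot (IsNoetherian.noetherian _) ?_ h1
      rw [IsLocalRing.jacobson_eq_maximalIdeal _ bot_ne_top]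
      rwa [Ideal.span_singleton_le_iff_mem]
    have h3 : I j ≤ P ⟨j, hj⟩ := h2.trans (hIsucc j hj)
    obtain ⟨i, hi, hle⟩ := (Ideal.IsPrime.inf_le' (hPprime ⟨j, hj⟩)).mp h3
    simp only [Finset.mem_filter, Finset.mem_univ, true_and] at hi
    have hge : P ⟨j, hj⟩ ≤ P i := (hPmin ⟨j, hj⟩).2 ⟨hPprime i, bot_le⟩ hle
    have : i = ⟨j, hj⟩ := hPinj (le_antisymm hle hge)
    rw [this] at hi
    simp at hi
  -- the chain
  have hJmem : ∀ j, Ideal.span {x} ≤ J j := fun j => le_sup_right
  let s : LTSeries (Set.Ici (Ideal.span {x} : Submodule R R)) :=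
    { length := n
      toFun := fun k => ⟨J (n - k.val), hJmem _⟩
      step := by
        intro k
        have hk : k.val < n := k.isLt
        show J (n - (k.val)) < J (n - (k.val + 1))
        have : n - k.val = (n - (k.val + 1)) + 1 := by omega
        rw [this]
        exact hstrict _ (by omega) }
  have hlen : (n : WithBot ℕ∞) ≤ Order.krullDim (Set.Ici (Ideal.span {x} : Submodule R R)) :=
    Order.LTSeries.length_le_krullDim s
  have hiso : Order.krullDim (Submodule R (R ⧸ Ideal.span {x})) =
      Order.krullDim (Set.Ici (Ideal.span {x} : Submodule R R)) :=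
    Order.krullDim_eq_of_orderIso (Submodule.comapMkQRelIso _)
  rw [← hiso, ← Module.coe_length] at hlen
  exact_mod_cast hlen

end Groth.Agent.S2014
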