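import Groth.Statements.S2017
import Mathlib.RingTheory.Adjoin.Tower
-- import your own Groth.Agent.* helpers here

set_option autoImplicit false
universe u
open EtAlg

namespace Groth.Agent.S2017

/-- Let R be a Noetherian ring, A, B, C R-algebras of finite type, f : A -> B a surjective R-algebra map
and g : C -> B an R-algebra map making B a finite C-module. Then the fibre product A ×_B C (the
equalizer of f ∘ pr₁ and g ∘ pr₂ in A × C) is an R-algebra of finite type. -/
theorem result (R A B C : Type u) [CommRing R] [IsNoetherianRing R] [CommRing A] [CommRing B]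
    [CommRing C] [Algebra R A] [Algebra R B] [Algebra R C] [Algebra.FiniteType R A] [Algebra.FiniteType R B]
    [Algebra.FiniteType R C] (f : A →ₐ[R] B) (hf : Function.Surjective f) (g : C →ₐ[R] B)
    (hg : (g.toRingHom).Finite) :
    Algebra.FiniteType R ↥(AlgHom.equalizer (f.comp (AlgHom.fst R A C)) (g.comp (AlgHom.snd R A C))) := by
  classical
  set D := AlgHom.equalizer (f.comp (AlgHom.fst R A C)) (g.comp (AlgHom.snd R A C)) with hD
  have hmemD : ∀ x : A × C, x ∈ D ↔ f x.1 = g x.2 := fun x => Iff.rfl
  refine ⟨fg_of_fg_of_fg R D (A × C) (Algebra.FiniteType.out) ?_ Subtype.val_injective⟩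
  let algCB : Algebra C B := g.toRingHom.toAlgebra
  have hfin : Module.Finite C B := hg
  obtain ⟨s, hs⟩ := hfin.fg_top
  choose x hx using hf
  let T : Set (A × C) := {((1 : A), (0 : C)), ((0 : A), (1 : C))} ∪ (fun y => (x y, (0 : C))) '' (s : Set B)
  have hTfin : T.Finite := (Set.toFinite _).union (s.finite_toSet.image _)
  refine ⟨hTfin.toFinset, ?_⟩
  rw [Set.Finite.coe_toFinset, eq_top_iff]
  have h10 : ((1 : A), (0 : C)) ∈ Submodule.span D T := Submodule.subset_span (by simp [T])
  have h01 : ((0 : A), (1 : C)) ∈ Submodule.span D T := Submodule.subset_span (by simp [T])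
  -- kernel elements
  have hK : ∀ a : A, f a = 0 → ((a, (0 : C)) : A × C) ∈ Submodule.span D T := by
    intro a ha
    have hd : ((a, (0 : C)) : A × C) ∈ D := by rw [hmemD]; simp [ha]
    have := Submodule.smul_mem _ (⟨_, hd⟩ : D) h10
    simpa [Subalgebra.smul_def] using this
  have hP : ∀ b : B, b ∈ Submodule.span C (s : Set B) →
      ∃ a : A, f a = b ∧ ((a, (0 : C)) : A × C) ∈ Submodule.span D T := by
    intro b hb
    induction hb using Submodule.span_induction with
    | mem y hy => exact ⟨x y, hx y, Submodule.subset_span (Or.inr ⟨y, hy, rfl⟩)⟩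
    | zero => exact ⟨0, map_zero _, by
        have : ((0 : A), (0 : C)) = (0 : A × C) := rfl
        rw [this]; exact Submodule.zero_mem _⟩
    | add b1 b2 _ _ h1 h2 =>
      obtain ⟨a1, ha1, h1⟩ := h1
      obtain ⟨a2, ha2, h2⟩ := h2
      refine ⟨a1 + a2, by rw [map_add, ha1, ha2], ?_⟩
      have := Submodule.add_mem _ h1 h2
      simpa using this
    | smul c b _ h =>
      obtain ⟨a0, ha0, h0⟩ := h
      have hd : ((x (g c), c) : A × C) ∈ D := by rw [hmemD]; simp [hx]
      refine ⟨x (g c) * a0, ?_, ?_⟩
      · rw [map_mul, hx, ha0]; rfl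
      · have := Submodule.smul_mem _ (⟨_, hd⟩ : D) h0
        simpa [Subalgebra.smul_def] using this
  intro ⟨a, c⟩ _
  have h1 : ((a, (0 : C)) : A × C) ∈ Submodule.span D T := by
    obtain ⟨a0, ha0, h0⟩ := hP (f a) (by rw [hs]; trivial)
    have := Submodule.add_mem _ (hK (a - a0) (by rw [map_sub, ha0, sub_self])) h0
    simpa using this
  have h2 : (((0 : A), c) : A × C) ∈ Submodule.span D T := by
    have hd : ((x (g c), c) : A × C) ∈ D := by rw [hmemD]; simp [hx]
    have := Submodule.smul_mem _ (⟨_, hd⟩ : D) h01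
    simpa [Subalgebra.smul_def] using this
  have := Submodule.add_mem _ h1 h2
  simpa using this

end Groth.Agent.S2017
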