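import Groth.Statements.S2018
-- import your own Groth.Agent.* helpers here

set_option autoImplicit false
universe u
open EtAlg

namespace Groth.Agent.S2018

/-- Let g : A' -> A be a surjective ring map and f : B -> A an integral ring map. Then the projection
from the fibre product B ×_A A' (the equalizer of f ∘ pr₁ and g ∘ pr₂ in B × A') to A' is integral. -/
theorem result (A A' B : Type u) [CommRing A] [CommRing A'] [CommRing B] (g : A' →+* A)
    (hg : Function.Surjective g) (f : B →+* A) (hf : f.IsIntegral) :
    ((RingHom.snd B A').comp ((f.comp (RingHom.fst B A')).eqLocus (g.comp (RingHom.snd B A'))).subtype).IsIntegral := by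
  classical
  set S := (f.comp (RingHom.fst B A')).eqLocus (g.comp (RingHom.snd B A')) with hS
  set φ : S →+* A' := (RingHom.snd B A').comp S.subtype with hφ
  set ψ : S →+* B := (RingHom.fst B A').comp S.subtype with hψ
  have hcomm : g.comp φ = f.comp ψ := by
    ext ⟨x, hx⟩
    exact hx.symm
  have hψsurj : Function.Surjective ψ := by
    intro b
    obtain ⟨a'', ha''⟩ := hg (f b)
    exact ⟨⟨(b, a''), ha''.symm⟩, rfl⟩
  intro a'
  obtain ⟨p, hp, hpe⟩ := hf (g a')
  obtain ⟨P, hPmap, -, hPmonic⟩ :=
    Polynomial.lifts_and_natDegree_eq_and_monic ((Polynomial.mem_lifts p).2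
      (Polynomial.map_surjective ψ hψsurj p)) hp
  set k : A' := Polynomial.eval₂ φ a' P with hk
  have hgk : g k = 0 := by
    rw [hk, Polynomial.hom_eval₂, hcomm, ← Polynomial.eval₂_map, hPmap, hpe]
  have hmem : ((0 : B), k * a') ∈ S := by
    change f 0 = g (k * a')
    rw [map_zero, map_mul, hgk, zero_mul]
  refine ⟨P * Polynomial.X - Polynomial.C ⟨((0 : B), k * a'), hmem⟩, ?_, ?_⟩
  · have : Nontrivial S ∨ ¬ Nontrivial S := em _
    rcases this with hnt | hnt
    · apply Polynomial.Monic.sub_of_left (hPmonic.mul Polynomial.monic_X)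
      refine lt_of_le_of_lt Polynomial.degree_C_le ?_
      rw [Polynomial.degree_mul_X]
      have : (0 : WithBot ℕ) ≤ P.degree := by
        rw [Polynomial.degree_eq_natDegree hPmonic.ne_zero]
        exact_mod_cast Nat.zero_le _
      calc (0 : WithBot ℕ) < 0 + 1 := by norm_num
        _ ≤ P.degree + 1 := by gcongr
    · rw [not_nontrivial_iff_subsingleton] at hnt
      exact Polynomial.monic_of_subsingleton _
  · rw [Polynomial.eval₂_sub, Polynomial.eval₂_mul, Polynomial.eval₂_X, Polynomial.eval₂_C, ← hk]
    change k * a' - k * a' = 0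
    exact sub_self _

end Groth.Agent.S2018
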