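import Groth.Statements.S2026
import Groth.Agent.Lib.Helper25.StdElem
import Groth.Agent.S2032
import Groth.Agent.S2108

set_option autoImplicit false
universe u
open Smoothing

namespace Groth.Agent.S2026

/-- For a finitely presented `R`-algebra `A`, the singular ideal (functions vanishing on the non-smooth
locus) coincides with the radical of the ideal spanned by all strictly standard elements, and
equally with the radical of the ideal spanned by all elementary standard elements. -/
theorem result {R A : Type u} [CommRing R] [CommRing A]
    [Algebra R A] [Algebra.FinitePresentation R A] :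
    Smoothing.singularIdeal R A = (Ideal.span {a : A | Smoothing.IsStrictlyStandard R A a}).radical ∧
      Smoothing.singularIdeal R A =
        (Ideal.span {a : A | Smoothing.IsElementaryStandard R A a}).radical := by
  classical
  -- (A) elementary ⇒ strictly standard
  have hA : ∀ a : A, IsElementaryStandard R A a → IsStrictlyStandard R A a := by
    rintro a ⟨P, ⟨a', ha'⟩, hk⟩
    refine ⟨P, ?_, hk⟩
    rw [ha']
    exact Ideal.mul_mem_left _ _ (Ideal.subset_span ⟨Fin.castLE P.hcn, rfl⟩)
  -- strictly standard elements lie in the radical of the span of elementary standard ones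
  have hB : ∀ a : A, IsStrictlyStandard R A a →
      a ∈ (Ideal.span {a : A | IsElementaryStandard R A a}).radical := by
    rintro a ⟨P, hmem, hk⟩
    refine ⟨2, ?_⟩
    obtain ⟨cf, hcf⟩ := Ideal.mem_span_range_iff_exists_fun.mp hmem
    have hb : ∀ cols : Fin P.c → Fin P.n,
        a * P.hom (jacobianMinor P.rel (Fin.castLE P.hcm) cols) ∈
          Ideal.span {a : A | IsElementaryStandard R A a} := by
      intro cols
      by_cases hinj : Function.Injective cols
      · refine Ideal.subset_span ?_
        refine Groth.Agent.Lib.Helper25.StdElem.isElementaryStandard_of_minor P.rel P.hom P.surj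
          P.ker_eq (Fin.castLEEmb P.hcm) ⟨cols, hinj⟩ _ a rfl ?_
        intro b₁ hb₁ ℓ
        obtain ⟨a₀, ha₀⟩ := P.surj a
        have hL : Ideal.span (P.rel '' {j' : Fin P.m | (j' : ℕ) < P.c}) =
            Ideal.span (Set.range (P.rel ∘ (Fin.castLEEmb P.hcm))) := by
          congr 1
          ext x
          constructor
          · rintro ⟨j', hj', rfl⟩
            exact ⟨⟨j', hj'⟩, rfl⟩
          · rintro ⟨i, rfl⟩
            exact ⟨Fin.castLE P.hcm i, by simp, rfl⟩
        have h1 : a₀ * P.rel ℓ ∈ Ideal.span (Set.range (P.rel ∘ (Fin.castLEEmb P.hcm))) ⊔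
            Ideal.span (Set.range P.rel) ^ 2 := by
          by_cases hℓ : P.c ≤ (ℓ : ℕ)
          · rw [← hL]
            exact hk a₀ ha₀ ℓ hℓ
          · refine Ideal.mem_sup_left (Ideal.mul_mem_left _ _ (Ideal.subset_span ?_))
            exact ⟨⟨ℓ, not_le.mp hℓ⟩, rfl⟩
        have hd : b₁ - a₀ * jacobianMinor P.rel (Fin.castLE P.hcm) cols ∈
            Ideal.span (Set.range P.rel) := by
          rw [← P.ker_eq, RingHom.mem_ker]
          change P.hom _ = 0
          rw [map_sub, map_mul, hb₁, ha₀, sub_self]
        have h2 : b₁ * P.rel ℓ = jacobianMinor P.rel (Fin.castLE P.hcm) cols * (a₀ * P.rel ℓ) +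
            (b₁ - a₀ * jacobianMinor P.rel (Fin.castLE P.hcm) cols) * P.rel ℓ := by ring
        rw [h2]
        refine add_mem (Ideal.mul_mem_left _ _ h1) (Ideal.mem_sup_right ?_)
        rw [pow_two]
        exact Ideal.mul_mem_mul hd (Ideal.subset_span ⟨ℓ, rfl⟩)
      · have h0 : jacobianMinor P.rel (Fin.castLE P.hcm) cols = 0 := by
          unfold jacobianMinor
          rw [Function.Injective] at hinj
          push Not at hinj
          obtain ⟨i, j, hij, hne⟩ := hinj
          refine Matrix.det_zero_of_column_eq hne fun k => ?_
          simp only [Matrix.of_apply, hij]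
        rw [h0, map_zero, mul_zero]
        exact zero_mem _
    rw [pow_two]
    nth_rewrite 2 [← hcf]
    rw [Finset.mul_sum]
    refine Ideal.sum_mem _ fun cols _ => ?_
    have : a * (cf cols * P.hom (jacobianMinor P.rel (Fin.castLE P.hcm) cols)) =
        cf cols * (a * P.hom (jacobianMinor P.rel (Fin.castLE P.hcm) cols)) := by ring
    rw [this]
    exact Ideal.mul_mem_left _ _ (hb cols)
  -- elementary standard elements are in the singular ideal
  have hC : ∀ a : A, IsElementaryStandard R A a → a ∈ singularIdeal R A := by
    intro a ha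
    have hsm : Algebra.IsStandardSmooth R (Localization.Away a) := Groth.Agent.S2032.result a ha
    have hsm' : Algebra.Smooth R (Localization.Away a) := inferInstance
    have hsub := Algebra.basicOpen_subset_smoothLocus_iff_smooth.mpr hsm'
    unfold singularIdeal
    rw [PrimeSpectrum.mem_vanishingIdeal]
    intro x hx
    by_contra hax
    exact hx (hsub hax)
  -- smooth primes avoid some elementary standard element
  have hD : singularIdeal R A ≤ (Ideal.span {a : A | IsElementaryStandard R A a}).radical := by
    obtain ⟨n, φ, hφ, s, hs⟩ := (Algebra.FinitePresentation.out : ∃ (n : ℕ)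
      (f : MvPolynomial (Fin n) R →ₐ[R] A), Function.Surjective f ∧ (RingHom.ker f.toRingHom).FG)
    let f : Fin s.card → MvPolynomial (Fin n) R := fun i => (s.equivFin.symm i : MvPolynomial (Fin n) R)
    have hf : Set.range f = (s : Set (MvPolynomial (Fin n) R)) := by
      ext x
      constructor
      · rintro ⟨i, rfl⟩
        exact (s.equivFin.symm i).2
      · intro hx
        exact ⟨s.equivFin ⟨x, hx⟩, by simp [f]⟩
    have hker : RingHom.ker φ.toRingHom = Ideal.span (Set.range f) := by rw [hf, hs]
    intro x hx
    rw [Ideal.radical_eq_sInf, Ideal.mem_sInf]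
    rintro q ⟨hq, hqp⟩
    by_contra hxq
    haveI := hqp
    have hsmooth : (⟨q, hqp⟩ : PrimeSpectrum A) ∈ Algebra.smoothLocus R A := by
      by_contra hns
      unfold singularIdeal at hx
      rw [PrimeSpectrum.mem_vanishingIdeal] at hx
      exact hxq (hx ⟨q, hqp⟩ hns)
    haveI : Algebra.IsSmoothAt R q := hsmooth
    obtain ⟨a, haq, c, rows, cols, a', ha', hkill⟩ := Groth.Agent.S2108.result f φ hφ hker q
    have hel := Groth.Agent.Lib.Helper25.StdElem.isElementaryStandard_of_minor f φ hφ hker rows cols
      a a' ha' hkill
    exact haq (hq (Ideal.subset_span hel))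
  have hrad : (singularIdeal R A).IsRadical := PrimeSpectrum.isRadical_vanishingIdeal _
  have h1 : (Ideal.span {a : A | IsElementaryStandard R A a}).radical ≤ singularIdeal R A :=
    hrad.radical_le_iff.mpr (Ideal.span_le.mpr hC)
  have h2 : (Ideal.span {a : A | IsStrictlyStandard R A a}).radical ≤
      (Ideal.span {a : A | IsElementaryStandard R A a}).radical :=
    (Ideal.radical_isRadical _).radical_le_iff.mpr (Ideal.span_le.mpr hB)
  have h3 : (Ideal.span {a : A | IsElementaryStandard R A a}).radical ≤
      (Ideal.span {a : A | IsStrictlyStandard R A a}).radical :=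
    Ideal.radical_mono (Ideal.span_mono hA)
  exact ⟨le_antisymm (hD.trans h3) (h2.trans h1), le_antisymm hD h1⟩


end Groth.Agent.S2026
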