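import Groth.Statements.S2030
import Mathlib
import Groth.Agent.Lib.Helper11.StrictStd
import Groth.Agent.S2026

set_option autoImplicit false
universe u
open Smoothing

namespace Groth.Agent.S2030

/-- If `a` is strictly standard in the finitely presented `R`-algebra `A`, then the localization `A_a`
is smooth over `R` and its module of Kaehler differentials over `R` is stably free (free after
adding a finite free module). -/
theorem result {R A : Type u} [CommRing R] [CommRing A]
    [Algebra R A] (a : A) (ha : Smoothing.IsStrictlyStandard R A a) :
    Algebra.Smooth R (Localization.Away a) ∧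
      ∃ p q : ℕ, Nonempty ((Ω[Localization.Away a⁄R] × (Fin p → Localization.Away a)) ≃ₗ[Localization.Away a]
        (Fin q → Localization.Away a)) := by
  classical
  have ha' := ha
  obtain ⟨P, hmem, hk⟩ := ha
  haveI : Algebra.FinitePresentation R A :=
    Algebra.FinitePresentation.of_surjective P.surj (by
      rw [P.ker_eq]
      exact ⟨Finset.univ.image P.rel, by simp⟩)
  have h1 : a ∈ Smoothing.singularIdeal R A := by
    rw [(Groth.Agent.S2026.result (R := R) (A := A)).1]
    exact Ideal.le_radical (Ideal.subset_span ha')
  have hsm : Algebra.Smooth R (Localization.Away a) := by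
    rw [← Algebra.basicOpen_subset_smoothLocus_iff_smooth]
    intro x hx
    by_contra hns
    unfold Smoothing.singularIdeal at h1
    rw [PrimeSpectrum.mem_vanishingIdeal] at h1
    exact hx (h1 x hns)
  exact ⟨hsm, Groth.Agent.Lib.Helper11.StrictStd.stablyFree_of_isStrictlyStandard a ha'⟩

end Groth.Agent.S2030
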