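import Groth.Statements.S2035
import Mathlib
import Groth.Agent.Lib.Helper23.AdicSmoothSym
import Groth.Agent.Lib.Helper23.FieldSmooth
import Groth.Agent.Lib.Helper23.SymGrRegular
-- import your own Groth.Agent.* helpers here

set_option autoImplicit false
universe u
open CAlg

namespace Groth.Agent.S2035


/-- Let `k` be a field of characteristic zero and `A` a Noetherian local `k`-algebra. Then `A` is a
regular local ring if and only if `k → A` is formally smooth for the adic topology of the maximal
ideal. -/
theorem result {k A : Type u} [Field k] [CharZero k]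
    [CommRing A] [IsLocalRing A] [IsNoetherianRing A] [Algebra k A] :
    IsRegularLocalRing A ↔ CAlgX.IsAdicFormallySmooth k A (IsLocalRing.maximalIdeal A) := by
  letI : Field (A ⧸ IsLocalRing.maximalIdeal A) := Ideal.Quotient.field (IsLocalRing.maximalIdeal A)
  haveI : Algebra.FormallySmooth k (A ⧸ IsLocalRing.maximalIdeal A) :=
    Groth.Agent.Lib.Helper23.FieldSmooth.formallySmooth_of_charZero k _
  rw [Groth.Agent.Lib.Helper23.AdicSmoothSym.adicSmooth_iff,
    Groth.Agent.Lib.Helper23.SymGrRegular.isRegularLocalRing_iff_symGrBijective]
  constructor
  · intro h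
    exact ⟨Module.Projective.of_free, h⟩
  · intro h
    exact h.2

end Groth.Agent.S2035
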