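import Groth.Statements.S2040
import Mathlib
import Groth.Agent.Lib.Helper23.AdicSmoothFlat
import Groth.Agent.Lib.Helper23.ResidueFiniteLoc
import Groth.Agent.Lib.Helper23.RegularHom2
-- import your own Groth.Agent.* helpers here

set_option autoImplicit false
universe u
open CAlg

namespace Groth.Agent.S2040

open Groth.Agent.Lib.Helper23.AdicSmoothFlat Groth.Agent.Lib.Helper23.FlatLift


/-- For a complete Noetherian local ring `A` with residue field `k`, and a complete Noetherian local
`k`-algebra `B` which is formally smooth over `k` for the adic topology of its maximal ideal, there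
is a Noetherian complete local ring `C` with a local homomorphism `A → C`, formally smooth for the
adic topology of the maximal ideal of `C`, whose special fibre `C ⊗ k` is isomorphic to `B` over
`k`. -/
theorem result {A B : Type u} [CommRing A] [IsLocalRing A]
    [IsNoetherianRing A] [IsAdicComplete (IsLocalRing.maximalIdeal A) A] [CommRing B] [IsLocalRing B]
    [IsNoetherianRing B] [IsAdicComplete (IsLocalRing.maximalIdeal B) B]
    [Algebra (IsLocalRing.maximalIdeal A).ResidueField B]
    (hB : CAlgX.IsAdicFormallySmooth (IsLocalRing.maximalIdeal A).ResidueField B (IsLocalRing.maximalIdeal B)) :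
    ∃ (C : Type u) (_ : CommRing C) (_ : IsLocalRing C) (_ : Algebra A C),
      IsNoetherianRing C ∧ IsAdicComplete (IsLocalRing.maximalIdeal C) C ∧ IsLocalHom (algebraMap A C) ∧
        CAlgX.IsAdicFormallySmooth A C (IsLocalRing.maximalIdeal C) ∧
        Nonempty ((IsLocalRing.maximalIdeal A).Fiber C ≃ₐ[(IsLocalRing.maximalIdeal A).ResidueField] B) := by
  have hreg : IsRegularRing B :=
    Groth.Agent.Lib.Helper23.GeomRegular.isRegularRing_of_adic (IsLocalRing.maximalIdeal B)
      (fun M hM => (IsLocalRing.eq_maximalIdeal hM).ge) hB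
  haveI : IsRegularLocalRing B := IsRegularLocalRing.of_isRegularRing_of_isLocalRing _
  have hgeoB : CAlg.IsGeometricallyRegular (IsLocalRing.maximalIdeal A).ResidueField B :=
    (Groth.Agent.Lib.Helper23.GeomRegular.geomRegular_iff_adic).mpr hB
  let θ₀ : A →+* B := (algebraMap (IsLocalRing.maximalIdeal A).ResidueField B).comp
    (algebraMap A (IsLocalRing.maximalIdeal A).ResidueField)
  have hθ₀ : IsLocalRing.maximalIdeal A ≤ RingHom.ker θ₀ := fun a ha => by
    rw [RingHom.mem_ker]
    show algebraMap _ B (algebraMap A _ a) = 0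
    have : algebraMap A (IsLocalRing.maximalIdeal A).ResidueField a = 0 := by
      rw [← RingHom.mem_ker, Ideal.ker_algebraMap_residueField]
      exact ha
    rw [this, map_zero]
  obtain ⟨C, hC1, hC2, hC3, hC4, hC5, ε, h1, h2, h3, h4, h5⟩ :=
    exists_flat_complete_local B θ₀ hθ₀
  obtain ⟨Φ⟩ := nonempty_fibre_algEquiv (IsLocalRing.maximalIdeal A)
    (Ideal.algebraMap_residueField_surjective (IsLocalRing.maximalIdeal A))
    (Ideal.ker_algebraMap_residueField (IsLocalRing.maximalIdeal A)) ε h3 h4 (fun a => h5 a)
  refine ⟨C, hC1, hC2, hC4, hC3, h1, hC5, ?_, ⟨Φ⟩⟩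
  have hgeo : CAlg.IsGeometricallyRegular (IsLocalRing.maximalIdeal A).ResidueField
      ((IsLocalRing.maximalIdeal A).Fiber C) :=
    Groth.Agent.Lib.Helper23.RegularHom2.geomRegular_of_algEquiv Φ.symm hgeoB
  exact Groth.Agent.S7134.adic_of_adic (IsLocalRing.maximalIdeal A) (IsLocalRing.maximalIdeal C)
    (IsLocalRing.map_maximalIdeal_le _)
    (Groth.Agent.Lib.Helper23.ResidueFiniteLoc.formallySmoothAdic_of_geomRegular_closedFibre hgeo)

end Groth.Agent.S2040
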