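import Groth.Statements.S2041
import Mathlib
import Groth.Agent.Lib.Helper4.EtLift
import Groth.Agent.Lib.Helper4.EtLift2
import Groth.Agent.Lib.Helper4.HenselPairJ

set_option autoImplicit false
universe u
open CAlg

namespace Groth.Agent.S2041

open TensorProduct in
open Polynomial TensorProduct in
open Groth.Agent.Lib.Helper4 in
/-- Let `I ⊆ A` be an ideal, `A → B` integral and `ē` an idempotent of `B/IB`. Then there is an étale
`A`-algebra `A'` with `A/I → A'/IA'` bijective and an idempotent of `A' ⊗ B` whose class modulo `I`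
agrees with that of any lift of `ē`. -/
theorem result {A B : Type u} [CommRing A] [CommRing B] [Algebra A B]
    [Algebra.IsIntegral A B] (I : Ideal A) (e : B ⧸ I.map (algebraMap A B)) (he : IsIdempotentElem e) :
    ∃ (A' : Type u) (_ : CommRing A') (_ : Algebra A A'), Algebra.Etale A A' ∧
      Function.Bijective (algebraMap (A ⧸ I) (A' ⧸ I.map (algebraMap A A'))) ∧
      ∃ e' : A' ⊗[A] B, IsIdempotentElem e' ∧
        ∀ b : B, Ideal.Quotient.mk (I.map (algebraMap A B)) b = e →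
          e' - 1 ⊗ₜ b ∈ I.map (algebraMap A (A' ⊗[A] B)) := by
  obtain ⟨β, rfl⟩ := Ideal.Quotient.mk_surjective e
  have hβ : β * β - β ∈ I.map (algebraMap A B) := by
    rw [← Ideal.Quotient.eq_zero_iff_mem, map_sub, map_mul, he.eq, sub_self]
  obtain ⟨d, f, hfm, hfβ, hfmap⟩ := HenselPair.exists_monic_of_idempotent_mod I β hβ
  have hfmap' : f.map (Ideal.Quotient.mk I) = X ^ (d + 1) * (X - 1) ^ (d + 1) := by
    rw [hfmap, ← mul_pow]
    congr 1
    ring
  have hcop0 : IsCoprime (X : (A ⧸ I)[X]) (X - 1) := ⟨1, -1, by ring⟩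
  have hmon : (X - 1 : (A ⧸ I)[X]).Monic := by simpa using monic_X_sub_C (1 : A ⧸ I)
  obtain ⟨A', _, _, hA', φ', hker, g', h', hg', hh', hcop', hf', hgφ, hhφ⟩ :=
    EtLift.exists_etale_factor_lift I f hfm (X ^ (d + 1)) ((X - 1) ^ (d + 1)) (monic_X_pow _)
      (hmon.pow _) hcop0.pow hfmap'
  obtain ⟨hbij, hmk⟩ := EtLift.bijective_of_retraction I A' φ' hker
  have hcomp : Ideal.Quotient.mk (I.map (algebraMap A A')) =
      (algebraMap (A ⧸ I) (A' ⧸ I.map (algebraMap A A'))).comp φ'.toRingHom :=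
    RingHom.ext hmk
  let ι : B →ₐ[A] A' ⊗[A] B := Algebra.TensorProduct.includeRight
  let θ : A' ⊗[A] B := ι β
  let J := I.map (algebraMap A (A' ⊗[A] B))
  have hq : ∀ x ∈ I.map (algebraMap A A'),
      Ideal.Quotient.mk J (algebraMap A' (A' ⊗[A] B) x) = 0 := by
    intro x hx
    rw [Ideal.Quotient.eq_zero_iff_mem]
    have := Ideal.mem_map_of_mem (algebraMap A' (A' ⊗[A] B)) hx
    rwa [Ideal.map_map, ← IsScalarTower.algebraMap_eq] at this
  have hθ : Ideal.Quotient.mk J θ * Ideal.Quotient.mk J θ = Ideal.Quotient.mk J θ := by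
    rw [← map_mul, ← sub_eq_zero, ← map_sub, Ideal.Quotient.eq_zero_iff_mem]
    have := HenselPair.algHom_mem_map I ι _ hβ
    rwa [map_sub, map_mul] at this
  have hfθ : aeval θ (g' * h') = 0 := by
    rw [← hf', Polynomial.aeval_map_algebraMap, Polynomial.aeval_algHom_apply, hfβ, map_zero]
  have hg2 : g'.map (Ideal.Quotient.mk (I.map (algebraMap A A'))) = X ^ (d + 1) := by
    rw [hcomp, ← Polynomial.map_map, hgφ, Polynomial.map_pow, Polynomial.map_X]
  have hh2 : h'.map (Ideal.Quotient.mk (I.map (algebraMap A A'))) = (X - 1) ^ (d + 1) := by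
    rw [hcomp, ← Polynomial.map_map, hhφ, Polynomial.map_pow, Polynomial.map_sub,
      Polynomial.map_X, Polynomial.map_one]
  obtain ⟨E, hE, hEθ⟩ := EtLift.exists_idempotent_aeval (I.map (algebraMap A A'))
    (Ideal.Quotient.mk J) hq θ hθ d g' h' hcop' hfθ hg2 hh2
  refine ⟨A', inferInstance, inferInstance, hA', hbij, E, hE, fun b hb => ?_⟩
  have h1 : E - θ ∈ J := by
    rw [← Ideal.Quotient.eq_zero_iff_mem, map_sub, hEθ, sub_self]
  have h2 : β - b ∈ I.map (algebraMap A B) := by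
    rw [← Ideal.Quotient.eq_zero_iff_mem, map_sub, hb, sub_self]
  have h3 : ι (β - b) ∈ J := HenselPair.algHom_mem_map I ι _ h2
  have h4 : E - 1 ⊗ₜ b = (E - θ) + ι (β - b) := by
    rw [map_sub]
    show E - 1 ⊗ₜ b = (E - θ) + (θ - 1 ⊗ₜ b)
    ring
  rw [h4]
  exact J.add_mem h1 h3

end Groth.Agent.S2041
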