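import Groth.Statements.S2044
import Mathlib
import Groth.Agent.Lib.Helper4.EtLift3

set_option autoImplicit false
universe u
open CAlg

namespace Groth.Agent.S2044

open TensorProduct in
open Groth.Agent.Lib.Helper4 in
/-- Let `I ⊆ A` be an ideal and `P` a finite projective `A/I`-module. Then there is an étale `A`-algebra
`A'` with `A/I → A'/IA'` bijective and a finite projective `A'`-module whose reduction modulo `IA'`
is the base change of `P`. -/
theorem result {A : Type u} [CommRing A] (I : Ideal A) (P : Type u)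
    [AddCommGroup P] [Module (A ⧸ I) P] [Module.Finite (A ⧸ I) P] [Module.Projective (A ⧸ I) P] :
    ∃ (A' : Type u) (_ : CommRing A') (_ : Algebra A A'), Algebra.Etale A A' ∧
      Function.Bijective (algebraMap (A ⧸ I) (A' ⧸ I.map (algebraMap A A'))) ∧
      ∃ (P' : Type u) (_ : AddCommGroup P') (_ : Module A' P'), Module.Finite A' P' ∧
        Module.Projective A' P' ∧
        Nonempty (((A' ⧸ I.map (algebraMap A A')) ⊗[A'] P') ≃ₗ[A' ⧸ I.map (algebraMap A A')]
          ((A' ⧸ I.map (algebraMap A A')) ⊗[A ⧸ I] P)) := by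
  classical
  obtain ⟨n, π, hπ⟩ := Module.Finite.exists_fin' (A ⧸ I) P
  obtain ⟨σ, hσ⟩ := Module.projective_lifting_property π LinearMap.id hπ
  let ebar : Matrix (Fin n) (Fin n) (A ⧸ I) := LinearMap.toMatrix' (σ ∘ₗ π)
  have hlin : Matrix.toLin' ebar = σ ∘ₗ π := Matrix.toLin'_toMatrix' _
  have hebar : ebar * ebar = ebar := by
    rw [← LinearMap.toMatrix'_comp]
    congr 1
    rw [LinearMap.comp_assoc, ← LinearMap.comp_assoc π σ π, hσ, LinearMap.id_comp]
  obtain ⟨A', _, _, hA', φ', hker, E', hE', hE'map⟩ :=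
    EtLift.exists_etale_idempotent_matrix_lift I ebar hebar
  obtain ⟨hbij, hmk⟩ := EtLift.bijective_of_retraction I A' φ' hker
  refine ⟨A', inferInstance, inferInstance, hA', hbij, EtLift.imgMod E', inferInstance,
    inferInstance, EtLift.imgMod_finite E', EtLift.imgMod_projective E' hE', ⟨?_⟩⟩
  let e1 := EtLift.baseChangeImg E' (A' ⧸ I.map (algebraMap A A')) hE'
    (EtLift.imgMod E').subtype (EtLift.imgProj E') (EtLift.imgProj_comp_subtype E' hE')
    (EtLift.subtype_comp_imgProj E')
  let e2 := EtLift.baseChangeImg ebar (A' ⧸ I.map (algebraMap A A')) hebar σ π hσ hlin.symm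
  have hmat : E'.map (algebraMap A' (A' ⧸ I.map (algebraMap A A'))) =
      ebar.map (algebraMap (A ⧸ I) (A' ⧸ I.map (algebraMap A A'))) := by
    rw [← hE'map]
    ext i j
    exact hmk (E' i j)
  exact e1.trans ((LinearEquiv.ofEq _ _ (by rw [hmat])).trans e2.symm)

end Groth.Agent.S2044
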