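import Groth.Statements.S2046
import Mathlib
import Groth.Agent.Lib.Helper23.UnramRegular
import Groth.Agent.Lib.Helper4.HzsNoethC
import Groth.Agent.Lib.Helper4.HzsStrict
import Groth.Agent.Lib.Helper4.EssEtale
import Groth.Agent.S2045
import Groth.Agent.S2047
import Groth.Agent.S9314
import Groth.Agent.S2461
import Groth.Agent.S4537
-- import your own Groth.Agent.* helpers here

set_option autoImplicit false
universe u
open CAlg

namespace Groth.Agent.S2046

open IsLocalRing Function
open Groth.Agent.Lib.Helper4.Hzs Groth.Agent.Lib.Helper4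

set_option maxHeartbeats 1600000 in

/-- If `R` is a Noetherian local G-ring then its strict henselization is a G-ring. -/
theorem result {R S : Type u} [CommRing R] [IsLocalRing R] [IsNoetherianRing R]
    (hR : CAlg.IsGRing R) [CommRing S] [IsLocalRing S] [Algebra R S] [IsLocalHom (algebraMap R S)]
    [Hensel.IsStrictHenselization R S] : CAlg.IsGRing S := by
  obtain ⟨e⟩ := nonempty_algEquiv_strict R S (Hs R)
  haveI : IsNoetherianRing S :=
    (isNoetherianRing_iff_of_isStrictHenselization R S).mp inferInstance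
  have hfe : ∀ i : Idx R, Algebra.FormallyEtale R i.G := fun i => EssEtale.formallyEtale i.essEtale
  haveI hunrHs : Algebra.FormallyUnramified R (Hs R) :=
    Groth.Agent.Lib.Helper23.UnramRegular.formallyUnramified_directLimit _ _ (fun i => by haveI := hfe i; infer_instance)
  haveI hunr : Algebra.FormallyUnramified R S := Algebra.FormallyUnramified.of_equiv e.symm
  have hfs : CAlgX.IsAdicFormallySmooth R S (maximalIdeal S) := by
    intro T _ _ J hJ ψ _
    obtain ⟨χ, hχ⟩ := Groth.Agent.Lib.Helper23.UnramRegular.exists_lift_directLimit _ _ hfe J hJ (ψ.comp e.symm.toAlgHom)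
    refine ⟨χ.comp e.toAlgHom, ?_⟩
    ext s
    have h1 : (Ideal.Quotient.mkₐ R J) (χ (e s)) = ψ (e.symm (e s)) := AlgHom.congr_fun hχ (e s)
    rw [e.symm_apply_apply] at h1
    exact h1
  -- the completion
  haveI : IsNoetherianRing (EGA4.Cpl S) :=
    Groth.Agent.Lib.Helper21.isNoetherianRing_adicCompletion_of_fg _
      (maximalIdeal S).fg_of_isNoetherianRing
  haveI : IsScalarTower R S (EGA4.Cpl S) := IsScalarTower.of_algebraMap_eq fun a => rfl
  haveI : IsLocalHom (algebraMap R (EGA4.Cpl S)) := by
    rw [IsScalarTower.algebraMap_eq R S (EGA4.Cpl S)]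
    exact RingHom.isLocalHom_comp _ _
  have h0 : EGA41.IsFormallySmoothAdic R ⊥ S (maximalIdeal S) := (Groth.Agent.S4537.result _).mp hfs
  have h1 := (Groth.Agent.S2461.result (⊥ : Ideal R) (maximalIdeal S)).mp h0
  rw [← AdicCompletion.maximalIdeal_eq_map] at h1
  have hfsC : CAlgX.IsAdicFormallySmooth R (EGA4.Cpl S) (maximalIdeal (EGA4.Cpl S)) :=
    (Groth.Agent.S4537.result _).mpr h1
  have hreg := Groth.Agent.S2045.isRegularHom_cpl_of_isGRing R hR
  have h2 : CAlg.IsRegularHom R (EGA4.Cpl S) := Groth.Agent.S9314.result hreg hfsC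
  have h3 : CAlg.IsRegularHom S (EGA4.Cpl S) :=
    Groth.Agent.Lib.Helper23.UnramRegular.isRegularHom_of_formallyUnramified R S (EGA4.Cpl S) h2
  exact ⟨inferInstance, fun q _ => Groth.Agent.S2047.isRegularHom_cpl_atPrime S h3 q⟩

end Groth.Agent.S2046
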