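import Groth.Statements.S2052
import Mathlib
import Groth.Agent.Lib.Helper4.HzsUnibr5
import Groth.Agent.Lib.Helper4.HznProps

set_option autoImplicit false
universe u
open CAlg

namespace Groth.Agent.S2052

open TensorProduct in
open Groth.Agent.Lib.Helper4 in
/-- A local ring `A` is unibranch (its reduction is a domain with local integral closure) if and only if
the henselization of `A` has a unique minimal prime ideal. -/
theorem result {A Ah : Type u} [CommRing A] [IsLocalRing A]
    [CommRing Ah] [IsLocalRing Ah] [Algebra A Ah] [IsLocalHom (algebraMap A Ah)]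
    [Hensel.IsHenselization A Ah] :
    CAlg2.IsUnibranch A ↔ CAlgX.HasUniqueMinimalPrime Ah := by
  have hff := Hzn.faithfullyFlat_of_isHenselization A Ah
  have hinjA : Function.Injective (algebraMap A Ah) := FaithfulSMul.algebraMap_injective A Ah
  have common : ∀ (hdom : IsDomain (CAlg2.red A)), ∃ (_ : IsLocalRing (CAlg2.red A))
      (_ : IsLocalRing (CAlg2.red A ⊗[A] Ah))
      (_ : IsLocalHom (algebraMap (CAlg2.red A) (CAlg2.red A ⊗[A] Ah))),
      Hensel.IsHenselization (CAlg2.red A) (CAlg2.red A ⊗[A] Ah) := by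
    intro hdom
    have hloc : IsLocalRing (CAlg2.red A) :=
      IsLocalRing.of_surjective' (Ideal.Quotient.mk (nilradical A)) Ideal.Quotient.mk_surjective
    have hlh : IsLocalHom (algebraMap A (CAlg2.red A)) :=
      IsLocalHom.of_surjective (Ideal.Quotient.mk (nilradical A)) Ideal.Quotient.mk_surjective
    obtain ⟨h1, h2, h3⟩ := Hzn.isHenselization_tensor_of_integral_local A (CAlg2.red A) Ah
    exact ⟨hloc, h1, h2, h3⟩
  constructor
  · rintro ⟨hdom, hloc'⟩
    obtain ⟨hloc, h1, h2, h3⟩ := common hdom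
    have hic : IsIntegrallyClosed (CAlg2.normRed A) :=
      integralClosure.isIntegrallyClosedOfFiniteExtension (FractionRing (CAlg2.red A))
    have hinj : Function.Injective (algebraMap (CAlg2.red A) (CAlg2.normRed A)) := fun x y h =>
      IsFractionRing.injective (CAlg2.red A) (FractionRing (CAlg2.red A)) (congrArg Subtype.val h)
    have hS₀ : IsDomain (CAlg2.red A ⊗[A] Ah) :=
      Unibr.abs_isDomain_of_isLocalRing (CAlg2.red A) (CAlg2.normRed A) (CAlg2.red A ⊗[A] Ah) hinj
    exact Unibr.existsUnique_minimalPrime_of_ker Ah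
      (Algebra.TensorProduct.includeRight : Ah →ₐ[A] CAlg2.red A ⊗[A] Ah).toRingHom
      (fun 𝔮 _ => Unibr.kerR_le A Ah 𝔮)
  · intro h
    have hdom := Unibr.isDomain_red_of_existsUnique_minimalPrime A Ah hinjA h
    obtain ⟨hloc, h1, h2, h3⟩ := common hdom
    have hred : IsReduced (CAlg2.red A ⊗[A] Ah) :=
      (Hzn.isReduced_iff_of_isHenselization (CAlg2.red A) _).mpr inferInstance
    have hS₀ : IsDomain (CAlg2.red A ⊗[A] Ah) :=
      Unibr.isDomain_of_existsUnique_minimalPrime Ah
        (Algebra.TensorProduct.includeRight : Ah →ₐ[A] CAlg2.red A ⊗[A] Ah).toRingHom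
        (Unibr.includeRight_surjective A Ah) (fun 𝔮 _ => Unibr.kerR_le A Ah 𝔮) h
    refine ⟨hdom, ?_⟩
    exact Unibr.abs_isLocalRing_of_isDomain (CAlg2.red A) (CAlg2.normRed A) (CAlg2.red A ⊗[A] Ah)
      (FractionRing (CAlg2.red A)) Subtype.val_injective

end Groth.Agent.S2052
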