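import Groth.Statements.S2053
import Mathlib
import Groth.Agent.Lib.Helper18.CST1
import Groth.Agent.Lib.Helper23.CohenRing
import Groth.Agent.Lib.Helper23.CohenFact
-- import your own Groth.Agent.* helpers here

set_option autoImplicit false
universe u
open CAlg

namespace Groth.Agent.S2053


open MvPowerSeries IsLocalRing Groth.Agent.Lib.Helper23.CohenFact


/-- Consider a local homomorphism `A → B` between complete Noetherian local rings. Then there are power
series rings `R`, `S` in finitely many variables over coefficient rings which are both fields (when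
the residue characteristic of `A` is zero) or both Cohen rings (when it is positive), surjections `R
→ A`, `S → B` and a ring map `R → S` making the square commute, such that `R → S` is flat and `S/𝔪_R
S` is a regular ring. (The published statement also arranges that a regular system of parameters
maps into one; that is not asserted here.) -/
theorem result {A B : Type u} [CommRing A] [CommRing B]
    [IsLocalRing A] [IsLocalRing B] [IsNoetherianRing A] [IsNoetherianRing B]
    [IsAdicComplete (IsLocalRing.maximalIdeal A) A] [IsAdicComplete (IsLocalRing.maximalIdeal B) B]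
    [Algebra A B] [IsLocalHom (algebraMap A B)] :
    ∃ (Λ Λ' : Type u) (_ : CommRing Λ) (_ : CommRing Λ') (_ : IsLocalRing Λ) (n m : ℕ)
      (ρ : MvPowerSeries (Fin n) Λ →+* A) (σ : MvPowerSeries (Fin m) Λ' →+* B)
      (τ : MvPowerSeries (Fin n) Λ →+* MvPowerSeries (Fin m) Λ'),
      ((CharZero (IsLocalRing.ResidueField A) ∧ IsField Λ ∧ IsField Λ') ∨
        (¬ CharZero (IsLocalRing.ResidueField A) ∧ CAlg.IsCohenRing Λ ∧ CAlg.IsCohenRing Λ')) ∧
        Function.Surjective ρ ∧ Function.Surjective σ ∧ σ.comp τ = (algebraMap A B).comp ρ ∧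
        τ.Flat ∧ IsRegularRing (MvPowerSeries (Fin m) Λ' ⧸
          (IsLocalRing.maximalIdeal (MvPowerSeries (Fin n) Λ)).map τ) := by
  obtain ⟨Λ, _, _, lam, hΛ, hΛn, hΛc, hlamloc, hlams⟩ :=
    Groth.Agent.Lib.Helper18.CST.exists_cohenRing_hom A
  obtain ⟨Λ', _, _, lam', hΛ', hΛ'n, hΛ'c, hlam'loc, hlam's⟩ :=
    Groth.Agent.Lib.Helper18.CST.exists_cohenRing_hom B
  have hAB : CharZero (ResidueField A) ↔ CharZero (ResidueField B) := by
    constructor
    · intro h
      exact charZero_of_injective_ringHom (ResidueField.map (algebraMap A B)).injective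
    · intro h
      apply charZero_of_inj_zero
      intro k hk
      have h1 : ((k : ResidueField B)) = 0 := by
        rw [← map_natCast (ResidueField.map (algebraMap A B)), hk, map_zero]
      exact_mod_cast h1
  by_cases hchar : CharZero (ResidueField A)
  · -- both are fields
    have hF : IsField Λ ∧ CharZero Λ := by
      rcases hΛ with h | hC
      · exact h
      · exact absurd hchar (not_charZero_residue_of_cohen hC lam)
    have hF' : IsField Λ' ∧ CharZero Λ' := by
      rcases hΛ' with h | hC
      · exact h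
      · exact absurd (hAB.mp hchar) (not_charZero_residue_of_cohen hC lam')
    have hp : maximalIdeal Λ = Ideal.span {((0 : ℕ) : Λ)} := by
      rw [IsLocalRing.isField_iff_maximalIdeal_eq.mp hF.1, Nat.cast_zero,
        Ideal.span_singleton_eq_bot.mpr rfl]
    have hp' : maximalIdeal Λ' = Ideal.span {((0 : ℕ) : Λ')} := by
      rw [IsLocalRing.isField_iff_maximalIdeal_eq.mp hF'.1, Nat.cast_zero,
        Ideal.span_singleton_eq_bot.mpr rfl]
    have hdim : ringKrullDim Λ = ringKrullDim Λ' := by
      rw [ringKrullDim_eq_zero_of_isField hF.1, ringKrullDim_eq_zero_of_isField hF'.1]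
    obtain ⟨n, m, ρ, σ, τ, h1, h2, h3, h4, h5⟩ :=
      core Λ Λ' hΛ hΛ' lam hlams lam' hlam's 0 hp hp' hdim
    exact ⟨Λ, Λ', inferInstance, inferInstance, inferInstance, n, m, ρ, σ, τ,
      Or.inl ⟨hchar, hF.1, hF'.1⟩, h1, h2, h3, h4, h5⟩
  · -- both are Cohen rings
    have hC : CAlg.IsCohenRing Λ := by
      rcases hΛ with h | hC
      · haveI := h.2
        exact absurd (charZero_residue_of_field h.1 lam) hchar
      · exact hC
    have hC' : CAlg.IsCohenRing Λ' := by
      rcases hΛ' with h | hC
      · haveI := h.2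
        exact absurd (hAB.mpr (charZero_residue_of_field h.1 lam')) hchar
      · exact hC
    obtain ⟨hdom, hdvr, -, p, hprime, hmaxeq⟩ := hC
    obtain ⟨hdom', hdvr', -, p', hprime', hmaxeq'⟩ := hC'
    have hpA : (p : ResidueField A) = 0 := by
      have h1 : (p : Λ) ∈ maximalIdeal Λ := by
        rw [hmaxeq]
        exact Ideal.subset_span rfl
      have h2 : lam (p : Λ) ∈ maximalIdeal A := map_nonunit lam _ h1
      have h3 : residue A (lam (p : Λ)) = 0 := (residue_eq_zero_iff _).mpr h2
      rwa [map_natCast, map_natCast] at h3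
    have hpB : (p : ResidueField B) = 0 := by
      rw [← map_natCast (ResidueField.map (algebraMap A B)), hpA, map_zero]
    have hmem : (p : Λ') ∈ Ideal.span {(p' : Λ')} := by
      rw [← hmaxeq']
      exact natCast_mem_of_residue lam' p hpB
    have hne : Ideal.span {(p' : Λ')} ≠ ⊤ := by
      rw [← hmaxeq']
      exact (maximalIdeal.isMaximal Λ').ne_top
    have hpp : p = p' :=
      Groth.Agent.Lib.Helper23.CohenRing.prime_eq_of_mem hprime' hprime hne hmem
    subst hpp
    have hdim : ringKrullDim Λ = ringKrullDim Λ' := by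
      rw [IsDiscreteValuationRing.ringKrullDim_eq_one, IsDiscreteValuationRing.ringKrullDim_eq_one]
    obtain ⟨n, m, ρ, σ, τ, h1, h2, h3, h4, h5⟩ :=
      core Λ Λ' hΛ hΛ' lam hlams lam' hlam's p hmaxeq hmaxeq' hdim
    exact ⟨Λ, Λ', inferInstance, inferInstance, inferInstance, n, m, ρ, σ, τ,
      Or.inr ⟨hchar, ⟨hdom, hdvr, hΛc, p, hprime, hmaxeq⟩, ⟨hdom', hdvr', hΛ'c, p, hprime', hmaxeq'⟩⟩,
      h1, h2, h3, h4, h5⟩

end Groth.Agent.S2053
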