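import Groth.Statements.S2055
import Mathlib

set_option autoImplicit false
universe u
open CAlg

namespace Groth.Agent.S2055


open TensorProduct
open TensorProduct in
theorem inj_elem {R S : Type u} [CommRing R] [CommRing S] [Algebra R S] [Module.Flat R S]
    (I : Ideal R)
    (hq : Function.Bijective (algebraMap (R ⧸ I) (S ⧸ I.map (algebraMap R S))))
    {N : Type u} [AddCommGroup N] [Module R N] (x : N) (n : ℕ) (hx : ∀ a ∈ I ^ n, a • x = 0)
    (h0 : (1 : S) ⊗ₜ[R] x = 0) : x = 0 := by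
  have h1 : x ⊗ₜ[R] (1 : S) = 0 := by
    have h2 := congrArg (TensorProduct.comm R S N) h0
    simpa using h2
  have hm : Function.Injective (LinearMap.rTensor S
      (Submodule.span R (Set.range (fun _ : Fin 1 => x))).subtype) :=
    Module.Flat.rTensor_preserves_injective_linearMap _ (Submodule.injective_subtype _)
  have hsum : ∑ i : Fin 1, (fun _ : Fin 1 => x) i ⊗ₜ[R] (fun _ : Fin 1 => (1 : S)) i = 0 := by
    simpa using h1
  obtain ⟨k, a, y, hy, ha⟩ :=
    TensorProduct.vanishesTrivially_of_sum_tmul_eq_zero_of_rTensor_injective R hm hsum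
  by_contra hx0
  let 𝔞 : Ideal R := LinearMap.ker (LinearMap.toSpanSingleton R N x)
  have h𝔞mem : ∀ r : R, r ∈ 𝔞 ↔ r • x = 0 := by
    intro r
    simp [𝔞, LinearMap.mem_ker, LinearMap.toSpanSingleton_apply]
  have h𝔞 : 𝔞 ≠ ⊤ := by
    intro htop
    have h3 : (1 : R) ∈ 𝔞 := by rw [htop]; trivial
    rw [h𝔞mem, one_smul] at h3
    exact hx0 h3
  obtain ⟨𝔪, hmax, hle⟩ := Ideal.exists_le_maximal 𝔞 h𝔞
  have hI𝔪 : I ≤ 𝔪 := by
    have h4 : I ^ n ≤ 𝔪 := fun r hr => hle ((h𝔞mem r).mpr (hx r hr))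
    exact hmax.isPrime.le_of_pow_le h4
  have h1mem : (1 : S) ∈ 𝔪.map (algebraMap R S) := by
    have h5 := hy 0
    simp only at h5
    rw [h5]
    refine Ideal.sum_mem _ fun j _ => ?_
    have h6 : a 0 j ∈ 𝔞 := by
      rw [h𝔞mem]
      have h7 := ha j
      rw [Fin.sum_univ_one] at h7
      exact h7
    rw [Algebra.smul_def]
    exact Ideal.mul_mem_right _ _ (Ideal.mem_map_of_mem _ (hle h6))
  let e := RingEquiv.ofBijective (algebraMap (R ⧸ I) (S ⧸ I.map (algebraMap R S))) hq
  let χ : S →+* R ⧸ 𝔪 := (Ideal.Quotient.factor hI𝔪).comp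
    (e.symm.toRingHom.comp (Ideal.Quotient.mk (I.map (algebraMap R S))))
  have hχ : ∀ r : R, χ (algebraMap R S r) = Ideal.Quotient.mk 𝔪 r := by
    intro r
    have h8 : e (Ideal.Quotient.mk I r) =
        Ideal.Quotient.mk (I.map (algebraMap R S)) (algebraMap R S r) := rfl
    simp only [χ, RingHom.comp_apply, RingEquiv.toRingHom_eq_coe, RingHom.coe_coe]
    rw [← h8, RingEquiv.symm_apply_apply, Ideal.Quotient.factor_mk]
  have hle2 : 𝔪.map (algebraMap R S) ≤ RingHom.ker χ := by
    rw [Ideal.map_le_iff_le_comap]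
    intro r hr
    rw [Ideal.mem_comap, RingHom.mem_ker, hχ]
    exact Ideal.Quotient.eq_zero_iff_mem.mpr hr
  have h9 := hle2 h1mem
  rw [RingHom.mem_ker, map_one] at h9
  have h10 : (1 : R) ∈ 𝔪 := by
    rw [← Ideal.Quotient.eq_zero_iff_mem, map_one]
    exact h9
  exact hmax.ne_top ((Ideal.eq_top_iff_one _).mpr h10)

open TensorProduct in
theorem surj_elem {R S : Type u} [CommRing R] [CommRing S] [Algebra R S] (I : Ideal R)
    (hq : Function.Bijective (algebraMap (R ⧸ I) (S ⧸ I.map (algebraMap R S))))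
    {N : Type u} [AddCommGroup N] [Module R N] (x : N) (n : ℕ) (hx : ∀ a ∈ I ^ n, a • x = 0)
    (s : S) : ∃ r : R, s ⊗ₜ[R] x = (1 : S) ⊗ₜ[R] (r • x) := by
  let V : Submodule R S := LinearMap.range (Algebra.linearMap R S)
  have h1 : V ⊔ (I • ⊤ : Submodule R S) = ⊤ := by
    rw [eq_top_iff]
    intro s _
    obtain ⟨r', hr⟩ := hq.2 (Ideal.Quotient.mk _ s)
    obtain ⟨r, rfl⟩ := Ideal.Quotient.mk_surjective r'
    have h2 : s - algebraMap R S r ∈ I.map (algebraMap R S) := by
      rw [← Ideal.Quotient.eq]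
      exact hr.symm
    have h3 : s - algebraMap R S r ∈ (I • ⊤ : Submodule R S) := by
      rw [Ideal.smul_top_eq_map]
      exact h2
    have h5 : s = algebraMap R S r + (s - algebraMap R S r) := by ring
    rw [h5]
    exact Submodule.add_mem_sup ⟨r, rfl⟩ h3
  have h4 : ∀ k : ℕ, V ⊔ (I ^ k • ⊤ : Submodule R S) = ⊤ := by
    intro k
    induction k with
    | zero =>
      rw [eq_top_iff]
      refine le_sup_of_le_right ?_
      intro s' _
      have h6 : s' = (1 : R) • s' := (one_smul R s').symm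
      rw [h6]
      exact Submodule.smul_mem_smul (by rw [pow_zero, Ideal.one_eq_top]; trivial) trivial
    | succ k ih =>
      rw [eq_top_iff]
      calc ⊤ = V ⊔ I ^ k • (⊤ : Submodule R S) := ih.symm
        _ = V ⊔ I ^ k • (V ⊔ (I • ⊤ : Submodule R S)) := by rw [h1]
        _ = V ⊔ (I ^ k • V ⊔ I ^ k • (I • ⊤ : Submodule R S)) := by rw [Submodule.smul_sup]
        _ ≤ V ⊔ I ^ (k + 1) • ⊤ := by
            refine sup_le le_sup_left (sup_le (le_sup_of_le_left Submodule.smul_le_right) ?_)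
            rw [← mul_smul, ← pow_succ]
            exact le_sup_right
  have hs : s ∈ V ⊔ (I ^ n • ⊤ : Submodule R S) := by rw [h4 n]; trivial
  obtain ⟨v, ⟨r, rfl⟩, w, hw, rfl⟩ := Submodule.mem_sup.mp hs
  refine ⟨r, ?_⟩
  rw [TensorProduct.add_tmul]
  have hw0 : w ⊗ₜ[R] x = 0 := by
    refine Submodule.smul_induction_on (p := fun w => w ⊗ₜ[R] x = 0) hw ?_ ?_
    · intro a ha s' _
      rw [TensorProduct.smul_tmul, hx a ha, TensorProduct.tmul_zero]
    · intro w1 w2 h1 h2
      rw [TensorProduct.add_tmul, h1, h2, add_zero]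
  rw [hw0, add_zero, Algebra.linearMap_apply, Algebra.algebraMap_eq_smul_one,
    TensorProduct.smul_tmul]

open TensorProduct in
theorem lemC {R S : Type u} [CommRing R] [CommRing S] [Algebra R S] [Module.Flat R S]
    (I : Ideal R) (hI : I.FG)
    (hq : Function.Bijective (algebraMap (R ⧸ I) (S ⧸ I.map (algebraMap R S))))
    {N : Type u} [AddCommGroup N] [Module R N] (z : S ⊗[R] N) (n : ℕ)
    (hz : ∀ a ∈ I ^ n, a • z = 0) :
    ∃ y : N, (∀ a ∈ I ^ n, a • y = 0) ∧ z = (1 : S) ⊗ₜ[R] y := by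
  classical
  have hfg : (I ^ n).FG := hI.pow
  obtain ⟨k, b, hb⟩ := Submodule.fg_iff_exists_fin_generating_family.mp hfg
  have hbmem : ∀ i, b i ∈ I ^ n := fun i => by
    rw [← hb]; exact Submodule.subset_span ⟨i, rfl⟩
  let g : N →ₗ[R] (Fin k → N) := LinearMap.pi (fun i => b i • LinearMap.id)
  let K : Submodule R N := LinearMap.ker g
  have hK : ∀ y : N, y ∈ K ↔ ∀ a ∈ I ^ n, a • y = 0 := by
    intro y
    constructor
    · intro hy a ha
      rw [← hb] at ha
      have hy' : ∀ i, b i • y = 0 := fun i => by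
        have := congrFun (LinearMap.mem_ker.mp hy) i
        simpa [g] using this
      refine Submodule.span_induction (p := fun a _ => a • y = 0) ?_ ?_ ?_ ?_ ha
      · rintro _ ⟨i, rfl⟩
        exact hy' i
      · exact zero_smul _ _
      · intro a1 a2 _ _ h1 h2
        rw [add_smul, h1, h2, add_zero]
      · intro c a1 _ h1
        rw [smul_eq_mul, mul_smul, h1, smul_zero]
    · intro h
      rw [LinearMap.mem_ker]
      funext i
      simpa [g] using h (b i) (hbmem i)
  have hex : Function.Exact K.subtype g := LinearMap.exact_subtype_ker_map g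
  have hex2 := Module.Flat.lTensor_exact S hex
  have hgz : g.lTensor S z = 0 := by
    apply (TensorProduct.piRight R R S (fun _ : Fin k => N)).injective
    rw [map_zero]
    funext i
    have hw : ∀ w : S ⊗[R] N,
        TensorProduct.piRight R R S (fun _ : Fin k => N) (g.lTensor S w) i = b i • w := by
      intro w
      induction w using TensorProduct.induction_on with
      | zero => simp
      | tmul s y => simp [g]
      | add w1 w2 h1 h2 => simp only [map_add, Pi.add_apply, h1, h2, smul_add]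
    rw [hw]
    exact hz (b i) (hbmem i)
  obtain ⟨z', hz'⟩ := (hex2 z).mp hgz
  have key : ∀ z' : S ⊗[R] K, ∃ y : K, K.subtype.lTensor S z' = (1 : S) ⊗ₜ[R] (y : N) := by
    intro z'
    induction z' using TensorProduct.induction_on with
    | zero => exact ⟨0, by simp⟩
    | tmul s y =>
      obtain ⟨r, hr⟩ := surj_elem I hq (y : N) n ((hK y).mp y.2) s
      exact ⟨r • y, by simpa using hr⟩
    | add w1 w2 h1 h2 =>
      obtain ⟨y1, h1⟩ := h1
      obtain ⟨y2, h2⟩ := h2
      refine ⟨y1 + y2, ?_⟩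
      rw [map_add, h1, h2, ← TensorProduct.tmul_add]
      rfl
  obtain ⟨y, hy⟩ := key z'
  exact ⟨y, (hK y).mp y.2, by rw [← hz', hy]⟩

/-- the power-torsion submodule -/
def tors {R : Type u} [CommRing R] (I : Ideal R) (N : Type u) [AddCommGroup N] [Module R N] :
    Submodule R N where
  carrier := {y | ∃ n : ℕ, ∀ a ∈ I ^ n, a • y = 0}
  zero_mem' := ⟨0, fun a _ => smul_zero a⟩
  add_mem' := by
    rintro y1 y2 ⟨n1, h1⟩ ⟨n2, h2⟩
    refine ⟨max n1 n2, fun a ha => ?_⟩
    rw [smul_add, h1 a (Ideal.pow_le_pow_right (le_max_left _ _) ha),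
      h2 a (Ideal.pow_le_pow_right (le_max_right _ _) ha), add_zero]
  smul_mem' := by
    rintro c y ⟨n, h⟩
    exact ⟨n, fun a ha => by rw [smul_comm, h a ha, smul_zero]⟩

theorem mem_tors {R : Type u} [CommRing R] (I : Ideal R) {N : Type u} [AddCommGroup N]
    [Module R N] (y : N) : y ∈ tors I N ↔ ∃ n : ℕ, ∀ a ∈ I ^ n, a • y = 0 := Iff.rfl

open TensorProduct in
/-- Let `R → S` be flat and `I ⊆ R` a finitely generated ideal with `R/I → S/IS` bijective. If one of
the `R`-modules `M`, `N` has every element killed by a power of `I`, then base change of linear maps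
`Hom_R(M, N) → Hom_S(S ⊗ M, S ⊗ N)` is bijective. -/
theorem result {R S M N : Type u} [CommRing R] [CommRing S]
    [Algebra R S] [Module.Flat R S] (I : Ideal R) (hI : I.FG)
    (hq : Function.Bijective (algebraMap (R ⧸ I) (S ⧸ I.map (algebraMap R S))))
    [AddCommGroup M] [Module R M] [AddCommGroup N] [Module R N]
    (hMN : (∀ x : M, ∃ n : ℕ, ∀ a ∈ I ^ n, a • x = 0) ∨ (∀ y : N, ∃ n : ℕ, ∀ a ∈ I ^ n, a • y = 0)) :
    Function.Bijective (fun f : M →ₗ[R] N => LinearMap.baseChange S f) := by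

  classical
  constructor
  · intro f f' hff
    simp only at hff
    ext m
    have h1 : (1 : S) ⊗ₜ[R] (f m - f' m) = 0 := by
      have h2 := LinearMap.congr_fun hff ((1 : S) ⊗ₜ[R] m)
      rw [LinearMap.baseChange_tmul, LinearMap.baseChange_tmul] at h2
      rw [TensorProduct.tmul_sub, h2, sub_self]
    have h3 : ∃ n : ℕ, ∀ a ∈ I ^ n, a • (f m - f' m) = 0 := by
      rcases hMN with hM | hN
      · obtain ⟨n, hn⟩ := hM m
        refine ⟨n, fun a ha => ?_⟩
        rw [smul_sub, ← map_smul, ← map_smul, hn a ha, map_zero, map_zero, sub_zero]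
      · exact hN _
    obtain ⟨n, hn⟩ := h3
    exact sub_eq_zero.mp (inj_elem I hq _ n hn h1)
  · intro F
    let T : Submodule R N := tors I N
    let j : T →ₗ[R] S ⊗[R] N := (TensorProduct.mk R S N 1) ∘ₗ T.subtype
    have hj : Function.Injective j := by
      rw [injective_iff_map_eq_zero]
      intro y hy
      obtain ⟨n, hn⟩ := (mem_tors I (y : N)).mp y.2
      have h1 : (y : N) = 0 := inj_elem I hq _ n hn hy
      exact Subtype.ext h1
    let ψ : M →ₗ[R] S ⊗[R] N := (F.restrictScalars R) ∘ₗ (TensorProduct.mk R S M 1)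
    have hψ : ∀ m, ψ m = F ((1 : S) ⊗ₜ[R] m) := fun m => rfl
    have htorsSN : (∀ y : N, ∃ n : ℕ, ∀ a ∈ I ^ n, a • y = 0) →
        ∀ z : S ⊗[R] N, ∃ n : ℕ, ∀ a ∈ I ^ n, a • z = 0 := by
      intro hN z
      induction z using TensorProduct.induction_on with
      | zero => exact ⟨0, fun a _ => smul_zero a⟩
      | tmul s y =>
        obtain ⟨n, hn⟩ := hN y
        exact ⟨n, fun a ha => by rw [TensorProduct.smul_tmul', TensorProduct.smul_tmul, hn a ha,
          TensorProduct.tmul_zero]⟩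
      | add z1 z2 h1 h2 =>
        obtain ⟨n1, h1⟩ := h1
        obtain ⟨n2, h2⟩ := h2
        refine ⟨max n1 n2, fun a ha => ?_⟩
        rw [smul_add, h1 a (Ideal.pow_le_pow_right (le_max_left _ _) ha),
          h2 a (Ideal.pow_le_pow_right (le_max_right _ _) ha), add_zero]
    have hrange : ∀ m, ψ m ∈ LinearMap.range j := by
      intro m
      have h1 : ∃ n : ℕ, ∀ a ∈ I ^ n, a • ψ m = 0 := by
        rcases hMN with hM | hN
        · obtain ⟨n, hn⟩ := hM m
          refine ⟨n, fun a ha => ?_⟩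
          rw [← map_smul, hn a ha, map_zero]
        · exact htorsSN hN _
      obtain ⟨n, hn⟩ := h1
      obtain ⟨y, hy, hyz⟩ := lemC I hI hq (ψ m) n hn
      exact ⟨⟨y, ⟨n, hy⟩⟩, hyz.symm⟩
    let e := LinearEquiv.ofInjective j hj
    let f : M →ₗ[R] N := T.subtype ∘ₗ e.symm.toLinearMap ∘ₗ (ψ.codRestrict (LinearMap.range j) hrange)
    have hf : ∀ m, (1 : S) ⊗ₜ[R] f m = F ((1 : S) ⊗ₜ[R] m) := by
      intro m
      have h1 : j (e.symm ⟨ψ m, hrange m⟩) = ψ m := LinearEquiv.ofInjective_symm_apply (f := j) (h := hj) ⟨ψ m, hrange m⟩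
      exact h1
    refine ⟨f, ?_⟩
    simp only
    apply TensorProduct.AlgebraTensorModule.ext
    intro s m
    rw [LinearMap.baseChange_tmul]
    have h2 : s ⊗ₜ[R] m = s • ((1 : S) ⊗ₜ[R] m) := by
      rw [TensorProduct.smul_tmul', smul_eq_mul, mul_one]
    rw [h2, map_smul, ← hf m, TensorProduct.smul_tmul', smul_eq_mul, mul_one]

end Groth.Agent.S2055
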