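import Groth.Statements.S2059
import Mathlib.RingTheory.AlgebraicIndependent.RankAndCardinality
import Mathlib.RingTheory.MvPolynomial

set_option autoImplicit false
universe u
open CAlg

namespace Groth.Agent.S2059

open Cardinal in
theorem isAlgebraic_of_adjoin_lt {k K : Type u} [Field k] [Field K] [Algebra k K]
    (t : Set K) (ht : Algebra.adjoin k t = ⊤) (hcard : #t < #k) : Algebra.IsAlgebraic k K := by
  by_cases hfin : t.Finite
  · have : Algebra.FiniteType k K := ⟨⟨hfin.toFinset, by simpa using ht⟩⟩
    have : Module.Finite k K := finite_of_finite_type_of_isJacobsonRing k K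
    exact Algebra.IsAlgebraic.of_finite k K
  · by_contra hna
    rw [← Algebra.transcendental_iff_not_isAlgebraic] at hna
    have h1 : Module.rank k K = #K := Algebra.Transcendental.rank_eq_cardinalMk k K
    have h2 : #k ≤ #K := Cardinal.mk_le_of_injective (algebraMap k K).injective
    have hsurj : Function.Surjective (MvPolynomial.aeval (R := k) (fun x : t => (x : K))) := by
      rw [← AlgHom.range_eq_top, ← Algebra.adjoin_range_eq_range_aeval]
      simpa using ht
    have h3 : Module.rank k K ≤ Module.rank k (MvPolynomial t k) :=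
      LinearMap.rank_le_of_surjective (MvPolynomial.aeval (R := k) (fun x : t => (x : K))).toLinearMap hsurj
    have hinf : Infinite t := Set.infinite_coe_iff.mpr hfin
    have h4 : Module.rank k (MvPolynomial t k) = #t := by
      rw [MvPolynomial.rank_eq, mk_finsupp_nat, max_eq_left (Cardinal.aleph0_le_mk t)]
    have : #k ≤ #t := by
      calc #k ≤ #K := h2
        _ = Module.rank k K := h1.symm
        _ ≤ _ := h3
        _ = #t := h4
    exact absurd hcard (not_lt.mpr this)

open Cardinal in
theorem isAlgebraic_quotient {k S : Type u} [Field k] [CommRing S] [Algebra k S]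
    (s : Set S) (hs : Algebra.adjoin k s = ⊤) (hcard : #s < #k) (m : Ideal S) [m.IsMaximal] :
    Algebra.IsAlgebraic k (S ⧸ m) := by
  let _ := Ideal.Quotient.field m
  refine isAlgebraic_of_adjoin_lt ((Ideal.Quotient.mkₐ k m) '' s) ?_
    (lt_of_le_of_lt Cardinal.mk_image_le hcard)
  rw [← AlgHom.map_adjoin, hs, Algebra.map_top, AlgHom.range_eq_top]
  exact Ideal.Quotient.mkₐ_surjective k m

open Cardinal in
theorem exists_maximal_of_notMem {k S : Type u} [Field k] [CommRing S] [Algebra k S]
    (s : Set S) (hs : Algebra.adjoin k s = ⊤) (hcard : #s < #k) (hinf : s.Infinite)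
    (P : Ideal S) [P.IsPrime] (f : S) (hf : f ∉ P) :
    ∃ m : Ideal S, m.IsMaximal ∧ P ≤ m ∧ f ∉ m := by
  let Sf := Localization.Away f
  have hP' : P.map (algebraMap S Sf) ≠ ⊤ := by
    rw [IsLocalization.map_algebraMap_ne_top_iff_disjoint (Submonoid.powers f)]
    rw [Set.disjoint_left]
    rintro _ ⟨n, rfl⟩ hn
    exact hf (Ideal.IsPrime.mem_of_pow_mem inferInstance n hn)
  obtain ⟨M, hM, hPM⟩ := Ideal.exists_le_maximal _ hP'
  let _ := Ideal.Quotient.field M
  let ψ : Sf →ₐ[k] (Sf ⧸ M) := Ideal.Quotient.mkₐ k M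
  let φ : S →ₐ[k] (Sf ⧸ M) := ψ.comp (IsScalarTower.toAlgHom k S Sf)
  let inv : Sf := IsLocalization.Away.invSelf f
  let t : Set (Sf ⧸ M) := φ '' s ∪ {ψ inv}
  have ht : Algebra.adjoin k t = ⊤ := by
    rw [eq_top_iff]
    rintro z -
    obtain ⟨z, rfl⟩ := Ideal.Quotient.mkₐ_surjective k M z
    obtain ⟨n, a, hz⟩ := IsLocalization.Away.surj f z
    have hz' : z = algebraMap S Sf a * inv ^ n := by
      have h1 : algebraMap S Sf f * inv = 1 := IsLocalization.Away.mul_invSelf f
      calc z = z * (algebraMap S Sf f * inv) ^ n := by rw [h1, one_pow, mul_one]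
        _ = (z * algebraMap S Sf f ^ n) * inv ^ n := by ring
        _ = _ := by rw [hz]
    have ha : ∀ a : S, φ a ∈ Algebra.adjoin k t := by
      intro a
      have h1 : a ∈ Algebra.adjoin k s := hs ▸ Algebra.mem_top
      have h2 : Algebra.adjoin k s ≤ (Algebra.adjoin k t).comap φ :=
        Algebra.adjoin_le fun y hy => Algebra.subset_adjoin (Or.inl ⟨y, hy, rfl⟩)
      exact h2 h1
    rw [hz']
    have : (Ideal.Quotient.mkₐ k M) (algebraMap S Sf a * inv ^ n) = φ a * (ψ inv) ^ n := by
      simp [φ, ψ]
    rw [this]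
    have hinv : ψ inv ∈ Algebra.adjoin k t := Algebra.subset_adjoin (Or.inr rfl)
    exact mul_mem (ha a) (pow_mem hinv n)
  have hct : #t < #k := by
    have hinf' : ℵ₀ ≤ #s := Cardinal.aleph0_le_mk_iff.mpr (Set.infinite_coe_iff.mpr hinf)
    calc #t ≤ #(φ '' s) + #({ψ inv} : Set (Sf ⧸ M)) := Cardinal.mk_union_le _ _
      _ ≤ #s + 1 := by
        gcongr
        · exact Cardinal.mk_image_le
        · simp
      _ = #s := Cardinal.add_one_eq hinf'
      _ < #k := hcard
  have halg : Algebra.IsAlgebraic k (Sf ⧸ M) := isAlgebraic_of_adjoin_lt t ht hct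
  have hfield : IsField φ.range := Subalgebra.isField_of_algebraic φ.range
  have hmax : (RingHom.ker φ.toRingHom).IsMaximal := by
    apply Ideal.Quotient.maximal_of_isField
    exact MulEquiv.isField hfield (RingHom.quotientKerEquivRange φ.toRingHom).toMulEquiv
  refine ⟨RingHom.ker φ.toRingHom, hmax, ?_, ?_⟩
  · intro x hx
    rw [RingHom.mem_ker]
    have : algebraMap S Sf x ∈ M := hPM (Ideal.mem_map_of_mem _ hx)
    show Ideal.Quotient.mk M (algebraMap S Sf x) = 0
    exact Ideal.Quotient.eq_zero_iff_mem.mpr this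
  · intro hfm
    rw [RingHom.mem_ker] at hfm
    have hu : IsUnit (φ f) := by
      have : IsUnit (algebraMap S Sf f) := IsLocalization.Away.algebraMap_isUnit f
      exact this.map ψ
    exact hu.ne_zero hfm


/-- Let `k` be a field and `S` a `k`-algebra generated by a set of cardinality smaller than that of `k`.
Then for every maximal ideal `𝔪` of `S` the residue field `S/𝔪` is algebraic over `k`, and `S` is a
Jacobson ring. -/
theorem result {k S : Type u} [Field k] [CommRing S] [Algebra k S]
    (s : Set S) (hs : Algebra.adjoin k s = ⊤) (hcard : Cardinal.mk s < Cardinal.mk k) :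
    (∀ (m : Ideal S) [m.IsMaximal], Algebra.IsAlgebraic k (S ⧸ m)) ∧ IsJacobsonRing S := by
  refine ⟨fun m _ => isAlgebraic_quotient s hs hcard m, ?_⟩
  by_cases hfin : s.Finite
  · have : Algebra.FiniteType k S := ⟨⟨hfin.toFinset, by simpa using hs⟩⟩
    exact isJacobsonRing_of_finiteType (A := k) (B := S)
  · rw [isJacobsonRing_iff_prime_eq]
    intro P hP
    refine le_antisymm ?_ Ideal.le_jacobson
    intro f hf
    by_contra hfP
    obtain ⟨m, hm, hPm, hfm⟩ := exists_maximal_of_notMem s hs hcard hfin P f hfP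
    exact hfm (Ideal.mem_sInf.mp hf ⟨hPm, hm⟩)

end Groth.Agent.S2059
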