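import Groth.Statements.S2060
import Groth.Agent.Lib.Helper25.ArtinStep
import Groth.Agent.Lib.Helper23.ArtinLift
import Groth.Agent.S3436

set_option autoImplicit false
universe u
open CAlg

namespace Groth.Agent.S2060

/-- Let `R` be Noetherian, `S` of finite type over `R` and `𝔮` a prime of `S`. Then `R → S` is smooth at
`𝔮` if and only if for every surjection `B' → B` of Artinian local `R`-algebras whose kernel is
principal and killed by the maximal ideal of `B'`, every `R`-algebra map `S → B` under which the
maximal ideal pulls back to `𝔮` lifts to `B'`. -/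
theorem result {R S : Type u} [CommRing R] [IsNoetherianRing R]
    [CommRing S] [Algebra R S] [Algebra.FiniteType R S] (q : Ideal S) [q.IsPrime] :
    Algebra.IsSmoothAt R q ↔
      ∀ (B' B : Type u) [CommRing B'] [CommRing B] [IsLocalRing B'] [IsLocalRing B]
        [IsArtinianRing B'] [IsArtinianRing B] [Algebra R B'] [Algebra R B] (π : B' →ₐ[R] B),
        Function.Surjective π →
        (∃ t : B', RingHom.ker π.toRingHom = Ideal.span {t} ∧
          ∀ a ∈ IsLocalRing.maximalIdeal B', a * t = 0) →
        ∀ g : S →ₐ[R] B, (IsLocalRing.maximalIdeal B).comap g = q →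
          ∃ g' : S →ₐ[R] B', π.comp g' = g := by
  constructor
  · intro hsm B' B _ _ _ _ _ _ _ _ π hπ ⟨t, hker, ht⟩ g hg
    have hsm' : Algebra.FormallySmooth R (Localization.AtPrime q) := hsm
    have hunit : ∀ y : q.primeCompl, IsUnit (g y) := by
      intro y
      by_contra hy
      have h1 : (y : S) ∈ (IsLocalRing.maximalIdeal B).comap g := by
        rw [Ideal.mem_comap, IsLocalRing.mem_maximalIdeal]
        exact hy
      rw [hg] at h1
      exact y.2 h1
    let gq : Localization.AtPrime q →ₐ[R] B :=
      IsLocalization.liftAlgHom (M := q.primeCompl) (f := g) hunit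
    have htm : t ∈ IsLocalRing.maximalIdeal B' := by
      rw [IsLocalRing.mem_maximalIdeal, mem_nonunits_iff]
      intro htu
      have h1 : t ∈ RingHom.ker π.toRingHom := by
        rw [hker]; exact Ideal.subset_span rfl
      have h2 : π t = 0 := h1
      have h3 : IsUnit (π t) := htu.map π
      rw [h2] at h3
      exact not_isUnit_zero h3
    have hnil : IsNilpotent (RingHom.ker (π : B' →+* B)) := by
      refine ⟨2, ?_⟩
      have : RingHom.ker (π : B' →+* B) = Ideal.span {t} := hker
      rw [this, Ideal.span_singleton_pow, pow_two, ht t htm]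
      simp
    let l : Localization.AtPrime q →ₐ[R] B' :=
      Algebra.FormallySmooth.liftOfSurjective gq π hπ hnil
    refine ⟨l.comp (IsScalarTower.toAlgHom R S (Localization.AtPrime q)), ?_⟩
    rw [← AlgHom.comp_assoc, Algebra.FormallySmooth.comp_liftOfSurjective]
    ext s
    simp only [AlgHom.comp_apply, IsScalarTower.coe_toAlgHom', gq, IsLocalization.liftAlgHom_apply,
      IsLocalization.lift_eq]
    rfl
  · intro L
    let p : Ideal R := q.under R
    let _ := Localization.AtPrime.algebraOfLiesOver p q
    have hess : Algebra.EssFiniteType R (Localization.AtPrime q) :=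
      Algebra.EssFiniteType.comp R S (Localization.AtPrime q)
    have hess' : Algebra.EssFiniteType (Localization.AtPrime p) (Localization.AtPrime q) :=
      Algebra.EssFiniteType.of_comp R (Localization.AtPrime p) (Localization.AtPrime q)
    have hNS : IsNoetherianRing S := Algebra.FiniteType.isNoetherianRing R S
    have hNq : IsNoetherianRing (Localization.AtPrime q) :=
      IsLocalization.isNoetherianRing q.primeCompl _ inferInstance
    have hNp : IsNoetherianRing (Localization.AtPrime p) :=
      IsLocalization.isNoetherianRing p.primeCompl _ inferInstance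
    have hfs : Algebra.FormallySmooth (Localization.AtPrime p) (Localization.AtPrime q) := by
      rw [← Groth.Agent.S3436.general, Groth.Agent.Lib.Helper23.ArtinLift.t2481main]
      intro C _ _ _ _ _ J hJ _ u _ hres
      let _ : Algebra R C := ((algebraMap (Localization.AtPrime p) C).comp
        (algebraMap R (Localization.AtPrime p))).toAlgebra
      have hT : IsScalarTower R (Localization.AtPrime p) C :=
        IsScalarTower.of_algebraMap_eq fun _ => rfl
      have hJtop : J ≠ ⊤ := by
        intro h
        have : Subsingleton (C ⧸ J) := by rw [h]; exact Ideal.Quotient.subsingleton_iff.mpr rfl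
        exact not_subsingleton (C ⧸ J) this
      let u₀ : S →ₐ[R] C ⧸ J :=
        (u.restrictScalars R).comp (IsScalarTower.toAlgHom R S (Localization.AtPrime q))
      have hu₀ : ∀ s : S, u₀ s = u (algebraMap S (Localization.AtPrime q) s) := fun s => rfl
      let Good : ∀ J' : Ideal C, (S →ₐ[R] C ⧸ J') → Prop := fun J' v => ∀ s : S, s ∈ q ↔ ¬ IsUnit (v s)
      have hGood_top : ∀ (J' : Ideal C) (v : S →ₐ[R] C ⧸ J'), Good J' v → J' ≠ ⊤ := by
        intro J' v hv h
        have : Subsingleton (C ⧸ J') := by rw [h]; exact Ideal.Quotient.subsingleton_iff.mpr rfl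
        exact (hv 0).mp q.zero_mem (isUnit_of_subsingleton _)
      have hlift : ∀ (J₂ J' : Ideal C) (h : J₂ ≤ J') (u₂ : S →ₐ[R] C ⧸ J₂),
          Good J' ((Ideal.Quotient.factorₐ R h).comp u₂) → Good J₂ u₂ := by
        intro J₂ J' h u₂ hG s
        rw [hG s]
        have := Groth.Agent.Lib.Helper25.ArtinStep.isUnit_factor_iff h (hGood_top _ _ hG) (u₂ s)
        exact not_congr this
      have hstep : ∀ (J₂ J' : Ideal C) (h : J₂ ≤ J') (t : C), J' = J₂ ⊔ Ideal.span {t} →
          IsLocalRing.maximalIdeal C * J' ≤ J₂ → J' ≠ ⊤ →
          ∀ v : S →ₐ[R] C ⧸ J', Good J' v →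
            ∃ u₂ : S →ₐ[R] C ⧸ J₂, (Ideal.Quotient.factorₐ R h).comp u₂ = v := by
        intro J₂ J' h t heq hm hJ' v hv
        have hJ2 : J₂ ≠ ⊤ := fun h' => hJ' (top_le_iff.mp (h' ▸ h))
        have : Nontrivial (C ⧸ J₂) := Ideal.Quotient.nontrivial_iff.mpr hJ2
        have : Nontrivial (C ⧸ J') := Ideal.Quotient.nontrivial_iff.mpr hJ'
        have : IsLocalRing (C ⧸ J₂) :=
          IsLocalRing.of_surjective' (Ideal.Quotient.mk J₂) Ideal.Quotient.mk_surjective
        have : IsLocalRing (C ⧸ J') :=
          IsLocalRing.of_surjective' (Ideal.Quotient.mk J') Ideal.Quotient.mk_surjective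
        refine L (C ⧸ J₂) (C ⧸ J') (Ideal.Quotient.factorₐ R h) (Ideal.Quotient.factor_surjective h)
          ⟨Ideal.Quotient.mk J₂ t, ?_, ?_⟩ v ?_
        · exact Groth.Agent.Lib.Helper25.ArtinStep.ker_factor_eq_span h t heq
        · refine Groth.Agent.Lib.Helper25.ArtinStep.mul_mk_eq_zero (J := J') t ?_ hm
          rw [heq]; exact Ideal.mem_sup_right (Ideal.subset_span rfl)
        · ext s
          rw [Ideal.mem_comap, IsLocalRing.mem_maximalIdeal, mem_nonunits_iff]
          exact (hv s).symm
      have hGu₀ : Good J u₀ := by
        intro s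
        rw [hu₀]
        have h1 : IsUnit (u (algebraMap S (Localization.AtPrime q) s)) ↔
            IsUnit (algebraMap S (Localization.AtPrime q) s) :=
          isUnit_map_iff u.toRingHom _
        rw [h1, IsLocalization.AtPrime.isUnit_to_map_iff (Localization.AtPrime q) q]
        simp [Ideal.primeCompl]
      obtain ⟨f₀, hf₀⟩ := Groth.Agent.Lib.Helper25.ArtinStep.exists_lift_of_simple_steps
        Good hlift hstep J hJtop u₀ hGu₀
      have hf₀' : ∀ s : S, Ideal.Quotient.mk J (f₀ s) = u₀ s := fun s => AlgHom.congr_fun hf₀ s
      have hunits : ∀ y : q.primeCompl, IsUnit (f₀ y) := by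
        intro y
        rw [← Groth.Agent.Lib.Helper25.ArtinStep.isUnit_mk_iff J hJtop, hf₀']
        by_contra hy
        exact y.2 ((hGu₀ y).mpr hy)
      let fq : Localization.AtPrime q →ₐ[R] C :=
        IsLocalization.liftAlgHom (M := q.primeCompl) (f := f₀) hunits
      have hfq : ∀ s : S, fq (algebraMap S (Localization.AtPrime q) s) = f₀ s := by
        intro s
        simp only [fq, IsLocalization.liftAlgHom_apply, IsLocalization.lift_eq]
        rfl
      have hcomm : ∀ r : Localization.AtPrime p,
          fq (algebraMap (Localization.AtPrime p) (Localization.AtPrime q) r) =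
            algebraMap (Localization.AtPrime p) C r := by
        have : (fq : Localization.AtPrime q →+* C).comp
            (algebraMap (Localization.AtPrime p) (Localization.AtPrime q)) =
            algebraMap (Localization.AtPrime p) C := by
          apply IsLocalization.ringHom_ext p.primeCompl
          ext r
          simp only [RingHom.comp_apply]
          rw [← IsScalarTower.algebraMap_apply R (Localization.AtPrime p) (Localization.AtPrime q),
            ← IsScalarTower.algebraMap_apply R (Localization.AtPrime p) C]
          exact fq.commutes r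
        exact fun r => RingHom.congr_fun this r
      let f : Localization.AtPrime q →ₐ[Localization.AtPrime p] C :=
        { (fq : Localization.AtPrime q →+* C) with commutes' := hcomm }
      have hfu : (Ideal.Quotient.mkₐ (Localization.AtPrime p) J).comp f = u := by
        apply AlgHom.coe_ringHom_injective
        apply IsLocalization.ringHom_ext q.primeCompl
        ext s
        show Ideal.Quotient.mk J (fq (algebraMap S (Localization.AtPrime q) s)) = u _
        rw [hfq, hf₀', hu₀]
      refine ⟨f, ⟨fun x hx => ?_⟩, hfu⟩
      have h1 : IsUnit (u x) := by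
        rw [← hfu]
        exact hx.map (Ideal.Quotient.mk J)
      exact (isUnit_map_iff u.toRingHom x).mp h1
    have h1 : Algebra.FormallySmooth R (Localization.AtPrime p) :=
      Algebra.FormallySmooth.of_isLocalization p.primeCompl
    exact Algebra.FormallySmooth.comp R (Localization.AtPrime p) (Localization.AtPrime q)


end Groth.Agent.S2060
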