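import Groth.Statements.S2061
import Mathlib
import Groth.Agent.Lib.Helper18.SerreReg2

set_option autoImplicit false
universe u
open CategoryTheory
open CAlg

namespace Groth.Agent.S2061


/-- For a Noetherian local ring `R` write `𝔪` for its maximal ideal and `κ` for its residue field. The
projective dimension of `κ` as an `R`-module is at least the `κ`-dimension of `𝔪/𝔪²`: if `κ` has
projective dimension less than `d` then `dim_κ 𝔪/𝔪² < d`. -/
theorem result {R : Type u} [CommRing R] [IsLocalRing R]
    [IsNoetherianRing R] (d : ℕ)
    (hd : HasProjectiveDimensionLT (ModuleCat.of R (IsLocalRing.ResidueField R)) d) :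
    Module.finrank (IsLocalRing.ResidueField R) (IsLocalRing.CotangentSpace R) < d := by
  have hreg : IsRegularLocalRing R :=
    Groth.Agent.Lib.Helper18.SerreReg.isRegularLocalRing_of_hasProjectiveDimensionLT R d hd
  obtain ⟨e, he⟩ := Groth.Agent.Lib.Helper18.SerreReg.exists_ringKrullDim_eq_nat R
  have hpd := Groth.Agent.Lib.Helper4.projectiveDimension_residueField_of_isRegularLocalRing R e he
  have h1 : projectiveDimension (ModuleCat.of R (IsLocalRing.ResidueField R)) < d :=
    (projectiveDimension_lt_iff).mpr hd
  rw [hpd] at h1
  have hed : e < d := by exact_mod_cast h1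
  have h2 := (IsRegularLocalRing.iff_finrank_cotangentSpace R).mp hreg
  rw [he] at h2
  have h3 : Module.finrank (IsLocalRing.ResidueField R) (IsLocalRing.CotangentSpace R) = e := by
    exact_mod_cast h2
  rw [h3]
  exact hed

end Groth.Agent.S2061
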