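import Groth.Statements.S2068
import Groth.Agent.Lib27.PCohHom
-- import your own Groth.Agent.* helpers here

set_option autoImplicit false
universe u
open CategoryTheory
attribute [local instance] HasDerivedCategory.standard
open CAlg

namespace Groth.Agent.S2068

/-- If `K` is `m`-pseudo-coherent in `D(A)`, its cohomology in degree `m` is a finitely generated module
when nothing above degree `m` survives, and its cohomology in degree `m+1` is finitely presented
when nothing above degree `m+1` survives. -/
theorem result {A : Type u} [CommRing A] (K : Dual.D A) (m : ℤ)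
    (hK : DRing.IsPseudoCoherent A m K) :
    ((∀ i : ℤ, m < i → Limits.IsZero ((DerivedCategory.homologyFunctor (ModuleCat.{u} A) i).obj K)) →
        Module.Finite A ((DerivedCategory.homologyFunctor (ModuleCat.{u} A) m).obj K)) ∧
      ((∀ i : ℤ, m + 1 < i → Limits.IsZero ((DerivedCategory.homologyFunctor (ModuleCat.{u} A) i).obj K)) →
        Module.FinitePresentation A ((DerivedCategory.homologyFunctor (ModuleCat.{u} A) (m + 1)).obj K)) := by
  obtain ⟨E, a, b, α, hV, hF, hiso, hepi⟩ := hK
  have hb : ∀ i : ℤ, b < i → Limits.IsZero (E.X i) := fun i hi => hV i (Or.inr hi)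
  have hE : ∀ i, Groth.Agent.Lib27.PCohHom.FP (E.X i) := fun i =>
    ⟨(hF i).1, by have := (hF i).2; infer_instance⟩
  -- comparison isomorphisms
  let e : ∀ i : ℤ, (DerivedCategory.homologyFunctor (ModuleCat.{u} A) i).obj (DRing.toD E) ≅
      E.homology i := fun i => (DerivedCategory.homologyFunctorFactors (ModuleCat.{u} A) i).app E
  constructor
  · intro hz
    have hH : ∀ i : ℤ, m < i → Limits.IsZero (E.homology i) := fun i hi => by
      have := hiso i hi
      exact Limits.IsZero.of_iso (hz i hi)
        ((e i).symm ≪≫ asIso ((DerivedCategory.homologyFunctor (ModuleCat.{u} A) i).map α))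
    have h1 := Groth.Agent.Lib27.PCohHom.finite_homology E b m hb hE hH
    have h2 := Groth.Agent.Lib27.PCohHom.finite_of_iso (e m).symm h1
    exact Groth.Agent.Lib27.PCohHom.finite_of_epi
      ((DerivedCategory.homologyFunctor (ModuleCat.{u} A) m).map α) h2
  · intro hz
    have hH : ∀ i : ℤ, m + 1 < i → Limits.IsZero (E.homology i) := fun i hi => by
      have := hiso i (by omega)
      exact Limits.IsZero.of_iso (hz i hi)
        ((e i).symm ≪≫ asIso ((DerivedCategory.homologyFunctor (ModuleCat.{u} A) i).map α))
    have h1 := Groth.Agent.Lib27.PCohHom.finitePresentation_homology E b m hb hE hH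
    have := hiso (m + 1) (by omega)
    exact Module.FinitePresentation.of_equiv
      ((e (m + 1)).symm ≪≫
        asIso ((DerivedCategory.homologyFunctor (ModuleCat.{u} A) (m + 1)).map α)).toLinearEquiv

end Groth.Agent.S2068
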