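import Groth.Statements.S2073
import Mathlib.RingTheory.NoetherNormalization
import Mathlib.RingTheory.Localization.Integral
import Mathlib.RingTheory.Localization.BaseChange
import Mathlib.RingTheory.MvPolynomial.Localization
import Mathlib.RingTheory.FiniteStability

set_option autoImplicit false
universe u
open CAlg

namespace Groth.Agent.S2073


theorem exists_isIntegral_smul {A S AM T : Type*} [CommRing A] [CommRing S] [CommRing AM] [CommRing T]
    [Algebra A S] (M : Submonoid A) [Algebra A AM] [IsLocalization M AM]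
    [Algebra S T] [Algebra A T] [IsScalarTower A S T] [Algebra AM T] [IsScalarTower A AM T]
    [IsLocalization (Algebra.algebraMapSubmonoid S M) T] (x : S)
    (hx : IsIntegral AM (algebraMap S T x)) : ∃ m ∈ M, IsIntegral A (m • x) := by
  obtain ⟨m1, h1⟩ := IsIntegral.exists_multiple_integral_of_isLocalization M (algebraMap S T x) hx
  have e1 : m1 • algebraMap S T x = algebraMap S T ((m1 : A) • x) := by
    rw [Submonoid.smul_def, Algebra.smul_def, Algebra.smul_def, map_mul,
      ← IsScalarTower.algebraMap_apply A S T]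
  rw [e1] at h1
  obtain ⟨m2, hm2, h2⟩ := IsLocalization.exists_isIntegral_smul_of_isIntegral_map M h1
  exact ⟨m2 * m1, M.mul_mem hm2 m1.2, by rwa [mul_smul]⟩

open MvPolynomial in
/-- scaling automorphism -/
noncomputable def scale {K : Type*} [Field K] (d : ℕ) (c : K) :
    MvPolynomial (Fin d) K →ₐ[K] MvPolynomial (Fin d) K :=
  aeval (fun i => C c * X i)

open MvPolynomial in
theorem scale_comp {K : Type*} [Field K] (d : ℕ) (c : K) (hc : c ≠ 0) :
    (scale d c).comp (scale d c⁻¹) = AlgHom.id K _ := by
  apply MvPolynomial.algHom_ext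
  intro i
  simp [scale, ← mul_assoc, ← C_mul, hc]

open MvPolynomial in
theorem scale_bijective {K : Type*} [Field K] (d : ℕ) (c : K) (hc : c ≠ 0) :
    Function.Bijective (scale d c) := by
  have h1 := scale_comp d c hc
  have h2 := scale_comp d c⁻¹ (inv_ne_zero hc)
  rw [inv_inv] at h2
  refine ⟨?_, ?_⟩
  · apply Function.LeftInverse.injective (g := scale d c⁻¹)
    intro p
    exact DFunLike.congr_fun h2 p
  · apply Function.RightInverse.surjective (g := scale d c⁻¹)
    intro p
    exact DFunLike.congr_fun h1 p


open MvPolynomial in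
theorem core {R S K T : Type u} [CommRing R] [IsDomain R] [CommRing S] [Algebra R S]
    [Field K] [Algebra R K] [IsFractionRing R K] [CommRing T] [Nontrivial T]
    [Algebra K T] [Algebra S T] [Algebra R T] [IsScalarTower R K T] [IsScalarTower R S T]
    [IsLocalization (Algebra.algebraMapSubmonoid S (nonZeroDivisors R)) T] [Algebra.FiniteType K T] :
    ∃ (d : ℕ) (y : Fin d → S), AlgebraicIndependent R y ∧
      ∀ x : S, ∃ c : R, c ≠ 0 ∧
        (aeval y : MvPolynomial (Fin d) R →ₐ[R] S).toRingHom.IsIntegralElem (c • x) := by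
  classical
  obtain ⟨d, g, hginj, hgint⟩ := exists_integral_inj_algHom_of_fg K T
  obtain ⟨b, hb⟩ := IsLocalization.exist_integer_multiples_of_finite
    (Algebra.algebraMapSubmonoid S (nonZeroDivisors R)) (fun i => g (X i))
  obtain ⟨r, hrM, hrb⟩ := b.2
  have hr0 : r ≠ 0 := nonZeroDivisors.ne_zero hrM
  have hrK : algebraMap R K r ≠ 0 := by
    simpa using (IsFractionRing.injective R K).ne hr0
  choose y hy using hb
  let g' := g.comp (scale d (algebraMap R K r))
  have hg'inj : Function.Injective g' := hginj.comp (scale_bijective d _ hrK).1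
  have hg'X : ∀ i, g' (X i) = algebraMap S T (y i) := by
    intro i
    rw [hy i]
    simp only [g', scale, AlgHom.comp_apply, aeval_X, map_mul]
    have h1 : g (C (algebraMap R K r)) = algebraMap S T b := by
      rw [← MvPolynomial.algebraMap_eq, AlgHom.commutes, ← IsScalarTower.algebraMap_apply R K T,
        IsScalarTower.algebraMap_apply R S T, hrb]
    rw [h1, Algebra.smul_def]
  have key : ∀ p : MvPolynomial (Fin d) R,
      algebraMap S T (aeval y p) = g' (map (algebraMap R K) p) := by
    intro p
    induction p using MvPolynomial.induction_on with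
    | C a =>
      simp only [aeval_C, map_C]
      rw [← MvPolynomial.algebraMap_eq, AlgHom.commutes, ← IsScalarTower.algebraMap_apply R K T,
        IsScalarTower.algebraMap_apply R S T]
    | add p q hp hq => simp only [map_add, hp, hq]
    | mul_X p i hp => simp only [map_mul, hp, aeval_X, map_X, hg'X]
  refine ⟨d, y, ?_, ?_⟩
  · rw [algebraicIndependent_iff_injective_aeval]
    intro p q hpq
    have := congrArg (algebraMap S T) hpq
    rw [key, key] at this
    exact MvPolynomial.map_injective _ (IsFractionRing.injective R K) (hg'inj this)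
  · intro x
    let φ : MvPolynomial (Fin d) R →ₐ[R] S := aeval y
    let i1 : Algebra (MvPolynomial (Fin d) R) S := φ.toRingHom.toAlgebra
    let i2 : Algebra (MvPolynomial (Fin d) R) (MvPolynomial (Fin d) K) :=
      MvPolynomial.algebraMvPolynomial
    let i3 : Algebra (MvPolynomial (Fin d) K) T := g'.toRingHom.toAlgebra
    let i4 : Algebra (MvPolynomial (Fin d) R) T :=
      ((algebraMap S T).comp φ.toRingHom).toAlgebra
    have i5 : IsScalarTower (MvPolynomial (Fin d) R) S T :=
      IsScalarTower.of_algebraMap_eq (fun _ => rfl)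
    have i6 : IsScalarTower (MvPolynomial (Fin d) R) (MvPolynomial (Fin d) K) T :=
      IsScalarTower.of_algebraMap_eq (fun p => key p)
    have i7 : IsLocalization ((nonZeroDivisors R).map (C (σ := Fin d)))
        (MvPolynomial (Fin d) K) := MvPolynomial.isLocalization _ K
    have hsub : Algebra.algebraMapSubmonoid S ((nonZeroDivisors R).map (C (σ := Fin d))) =
        Algebra.algebraMapSubmonoid S (nonZeroDivisors R) := by
      ext z
      simp only [Algebra.algebraMapSubmonoid, Submonoid.mem_map]
      constructor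
      · rintro ⟨_, ⟨c, hc, rfl⟩, rfl⟩
        exact ⟨c, hc, (aeval_C y c).symm⟩
      · rintro ⟨c, hc, rfl⟩
        exact ⟨C c, ⟨c, hc, rfl⟩, aeval_C y c⟩
    have i8 : IsLocalization
        (Algebra.algebraMapSubmonoid S ((nonZeroDivisors R).map (C (σ := Fin d)))) T := by
      rw [hsub]; infer_instance
    have hx : IsIntegral (MvPolynomial (Fin d) K) (algebraMap S T x) := by
      have h1 : g'.toRingHom.IsIntegral :=
        RingHom.IsIntegral.trans _ _
          (RingHom.isIntegral_of_surjective _ (scale_bijective d _ hrK).2) hgint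
      exact h1 _
    obtain ⟨m, hm, hmx⟩ := exists_isIntegral_smul ((nonZeroDivisors R).map (C (σ := Fin d))) x hx
    obtain ⟨c, hc, rfl⟩ := hm
    refine ⟨c, nonZeroDivisors.ne_zero hc, ?_⟩
    have e : (C c : MvPolynomial (Fin d) R) • x = c • x := by
      rw [Algebra.smul_def, Algebra.smul_def]
      congr 1
      exact aeval_C y c
    rw [e] at hmx
    exact hmx


open TensorProduct MvPolynomial in
attribute [local instance] Algebra.TensorProduct.rightAlgebra in
theorem core' {R S : Type u} [CommRing R] [IsDomain R] [CommRing S] [Algebra R S]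
    [Algebra.FiniteType R S] (hinj : Function.Injective (algebraMap R S)) :
    ∃ (d : ℕ) (y : Fin d → S), AlgebraicIndependent R y ∧
      ∀ x : S, ∃ c : R, c ≠ 0 ∧
        (aeval y : MvPolynomial (Fin d) R →ₐ[R] S).toRingHom.IsIntegralElem (c • x) := by
  have hloc : IsLocalization (Algebra.algebraMapSubmonoid S (nonZeroDivisors R))
      (FractionRing R ⊗[R] S) := IsLocalization.tensorRight (FractionRing R) (nonZeroDivisors R)
  have : Nontrivial (FractionRing R ⊗[R] S) := by
    rw [← not_subsingleton_iff_nontrivial,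
      IsLocalization.subsingleton_iff (M := Algebra.algebraMapSubmonoid S (nonZeroDivisors R))]
    rintro ⟨r, hr, hr0⟩
    rw [← map_zero (algebraMap R S)] at hr0
    exact nonZeroDivisors.ne_zero hr (hinj hr0)
  exact core (R := R) (S := S) (K := FractionRing R) (T := FractionRing R ⊗[R] S)


open MvPolynomial in
theorem isIntegral_adjoin_of_isIntegralElem {R S : Type u} [CommRing R] [CommRing S] [Algebra R S]
    {d : ℕ} (y : Fin d → S) (s : S)
    (hs : (aeval y : MvPolynomial (Fin d) R →ₐ[R] S).toRingHom.IsIntegralElem s) :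
    IsIntegral (Algebra.adjoin R (Set.range y)) s := by
  rw [Algebra.adjoin_range_eq_range_aeval]
  obtain ⟨p, hp, hps⟩ := hs
  let φ : MvPolynomial (Fin d) R →ₐ[R] S := aeval y
  refine ⟨p.map φ.rangeRestrict.toRingHom, hp.map _, ?_⟩
  rw [Polynomial.eval₂_map]
  exact hps


/-- Let `R` be a domain and `R → S` an injective ring map of finite type. Then there are elements `y_1,
…, y_d` of `S` algebraically independent over `R`, a finitely generated `R`-subalgebra `S'` of `S`
containing them and integral over `R[y_1, …, y_d]`, and a nonzero `f ∈ R` such that every element of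
`S` lands in `S'` after multiplication by a power of `f`. -/
theorem result {R S : Type u} [CommRing R] [IsDomain R] [CommRing S] [Algebra R S]
    [Algebra.FiniteType R S] (hinj : Function.Injective (algebraMap R S)) :
    ∃ (d : ℕ) (y : Fin d → S) (S' : Subalgebra R S), AlgebraicIndependent R y ∧ (∀ i, y i ∈ S') ∧ S'.FG ∧
      (∀ s ∈ S', IsIntegral (Algebra.adjoin R (Set.range y)) s) ∧
      ∃ f : R, f ≠ 0 ∧ ∀ s : S, ∃ n : ℕ, (f ^ n) • s ∈ S' := by
  classical
  obtain ⟨d, y, hy, hint⟩ := core' hinj
  obtain ⟨t, ht⟩ := (Algebra.FiniteType.out : (⊤ : Subalgebra R S).FG)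
  choose c hc0 hcint using hint
  let f : R := ∏ x ∈ t, c x
  have hf0 : f ≠ 0 := Finset.prod_ne_zero_iff.mpr fun x _ => hc0 x
  let φ : MvPolynomial (Fin d) R →ₐ[R] S := MvPolynomial.aeval y
  have hfint : ∀ x ∈ t, φ.toRingHom.IsIntegralElem (f • x) := by
    intro x hx
    have e : f • x = algebraMap R S (∏ x' ∈ t.erase x, c x') * (c x • x) := by
      rw [← Algebra.smul_def, smul_smul, Finset.prod_erase_mul _ _ hx]
    rw [e]
    refine RingHom.IsIntegralElem.mul _ ?_ (hcint x)
    have : algebraMap R S (∏ x' ∈ t.erase x, c x') = φ.toRingHom (MvPolynomial.C (∏ x' ∈ t.erase x, c x')) := by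
      simp [φ]
    rw [this]
    exact RingHom.isIntegralElem_map _
  let S' : Subalgebra R S := Algebra.adjoin R (Set.range y ∪ (fun x => f • x) '' (t : Set S))
  refine ⟨d, y, S', hy, fun i => Algebra.subset_adjoin (Or.inl ⟨i, rfl⟩), ?_, ?_, f, hf0, ?_⟩
  · rw [Subalgebra.fg_def]
    exact ⟨_, (Set.finite_range y).union (t.finite_toSet.image _), rfl⟩
  · intro s hs
    have hle : S' ≤ (integralClosure (Algebra.adjoin R (Set.range y)) S).restrictScalars R := by
      apply Algebra.adjoin_le
      rintro z (⟨i, rfl⟩ | ⟨x, hx, rfl⟩)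
      · exact isIntegral_algebraMap (x := (⟨y i, Algebra.subset_adjoin ⟨i, rfl⟩⟩ : Algebra.adjoin R (Set.range y)))
      · exact isIntegral_adjoin_of_isIntegralElem y _ (hfint x hx)
    exact hle hs
  · intro s
    have hs : s ∈ Algebra.adjoin R (t : Set S) := ht ▸ Algebra.mem_top
    induction hs using Algebra.adjoin_induction with
    | mem x hx => exact ⟨1, by rw [pow_one]; exact Algebra.subset_adjoin (Or.inr ⟨x, hx, rfl⟩)⟩
    | algebraMap r => exact ⟨0, by rw [pow_zero, one_smul]; exact Subalgebra.algebraMap_mem _ r⟩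
    | add a b _ _ ha hb =>
      obtain ⟨n, hn⟩ := ha
      obtain ⟨m, hm⟩ := hb
      refine ⟨n + m, ?_⟩
      have : f ^ (n + m) • (a + b) = f ^ m • (f ^ n • a) + f ^ n • (f ^ m • b) := by
        rw [smul_add, smul_smul, smul_smul, ← pow_add, ← pow_add, add_comm m n]
      rw [this]
      exact S'.add_mem (S'.smul_mem hn _) (S'.smul_mem hm _)
    | mul a b _ _ ha hb =>
      obtain ⟨n, hn⟩ := ha
      obtain ⟨m, hm⟩ := hb
      refine ⟨n + m, ?_⟩
      have : f ^ (n + m) • (a * b) = (f ^ n • a) * (f ^ m • b) := by
        rw [smul_mul_smul_comm, pow_add]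
      rw [this]
      exact S'.mul_mem hn hm

end Groth.Agent.S2073
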