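import Groth.Statements.S2077
import Groth.Agent.Lib.Helper1.NAImm

set_option autoImplicit false
universe u
open CategoryTheory AlgebraicGeometry
open Lim
open Groth.Agent.Lib.Helper1.NA Opposite

namespace Groth.Agent.S2077

/-- Let `f : X → S` be locally of finite type with `X` quasi-compact and quasi-separated. Then there are
a morphism `f' : X' → S` of finite presentation (locally of finite presentation, quasi-compact,
quasi-separated) and an immersion `X → X'` over `S`. -/
theorem result {X S : Scheme.{u}} (f : X ⟶ S) [LocallyOfFiniteType f]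
    [CompactSpace X] [QuasiSeparatedSpace X] :
    ∃ (X' : Scheme.{u}) (f' : X' ⟶ S) (j : X ⟶ X'), LocallyOfFinitePresentation f' ∧ QuasiCompact f' ∧
      QuasiSeparated f' ∧ IsImmersion j ∧ j ≫ f' = f := by
  obtain ⟨P⟩ := nonempty_pres X
  let c : Limits.Cone P.D := Limits.Cone.mk X P.π
  have hc : Limits.IsLimit c := P.hlim
  let f' : c.pt ⟶ S := f
  have hcpt : CompactSpace c.pt := ‹CompactSpace X›
  have hlft : LocallyOfFiniteType f' := ‹LocallyOfFiniteType f›
  obtain ⟨k, hk⟩ := exists_isImmersion_gk P.D c hc P.haff f'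
  have hft := P.hft (op k)
  have h1 : LocallyOfFiniteType (tZ (P.D.obj (op k))) := hft.2
  have h5 : CompactSpace (P.D.obj (op k)) := hft.1
  have h6 : QuasiSeparatedSpace (P.D.obj (op k)) := hft.quasiSeparatedSpace
  have h2 : LocallyOfFinitePresentation (tZ (P.D.obj (op k))) :=
    lfp_of_lft_of_isLocallyNoetherian _
  have h3 : QuasiCompact (tZ (P.D.obj (op k))) := inferInstance
  have h4 : QuasiSeparated (tZ (P.D.obj (op k))) := inferInstance
  exact ⟨Pk P.D (S := S) (op k), Limits.pullback.snd _ _, gk P.D c f' (op k), inferInstance,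
    inferInstance, inferInstance, hk, gk_snd _ _ _ _⟩

end Groth.Agent.S2077
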