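import Groth.Statements.S2078
import Groth.Agent.Lib.Helper1.NACI

set_option autoImplicit false
universe u
open CategoryTheory AlgebraicGeometry
open Lim
open Groth.Agent.Lib.Helper1.NA Opposite

namespace Groth.Agent.S2078

/-- Let `f : X → S` be locally of finite type with `X` quasi-compact and quasi-separated and `S`
quasi-separated. Then there are a morphism `f' : X' → S` of finite presentation and a closed
immersion `X → X'` over `S`. -/
theorem result {X S : Scheme.{u}} (f : X ⟶ S) [LocallyOfFiniteType f]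
    [CompactSpace X] [QuasiSeparatedSpace X] [QuasiSeparatedSpace S] :
    ∃ (X' : Scheme.{u}) (f' : X' ⟶ S) (j : X ⟶ X'), LocallyOfFinitePresentation f' ∧ QuasiCompact f' ∧
      QuasiSeparated f' ∧ IsClosedImmersion j ∧ j ≫ f' = f := by
  obtain ⟨I, _, _, hne, D, s, c, hc, e, hcomm, hfp, haff, hπ, hcomp⟩ := exists_fp_limit' f
  have hne2 := hne
  obtain ⟨i₀⟩ := hne2
  have hlft : LocallyOfFiniteType (c.π.app (op i₀)) := by
    have h0 : coneLeg D c (op i₀) ≫ strMap D s (op i₀) = e.hom ≫ f := hcomm _
    have h1 : LocallyOfFiniteType (coneLeg D c (op i₀) ≫ strMap D s (op i₀)) := by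
      rw [h0]; infer_instance
    exact locallyOfFiniteType_of_comp (coneLeg D c (op i₀)) (strMap D s (op i₀))
  have := hcomp (op i₀)
  obtain ⟨j, hj, hci⟩ := exists_isClosedImmersion_π D c hc haff i₀
  have hk := hci j le_rfl
  have h0 : coneLeg D c (op j) ≫ strMap D s (op j) = e.hom ≫ f := hcomm _
  refine ⟨D.obj (op j), strMap D s (op j), e.inv ≫ coneLeg D c (op j), (hfp _).1, (hfp _).2.1,
    (hfp _).2.2, inferInstance, ?_⟩
  rw [Category.assoc, h0, Iso.inv_hom_id_assoc]

end Groth.Agent.S2078
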