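import Groth.Statements.S2091
import Groth.Agent.Lib.Helper18.SerreReg2
import Groth.Agent.Lib.Helper23.RegularHom

set_option autoImplicit false
universe u
open CAlg

namespace Groth.Agent.S2091

open TensorProduct
/-- Let `k` be a field of characteristic zero, `S` of finite type over `k` and `𝔮` a prime of `S`.
Smoothness of `S` over `k` at `𝔮` is equivalent to regularity of the local ring `S_𝔮`. -/
theorem result {k S : Type u} [Field k] [CharZero k] [CommRing S] [Algebra k S]
    [Algebra.FiniteType k S] (q : Ideal S) [q.IsPrime] :
    Algebra.IsSmoothAt k q ↔ IsRegularLocalRing (Localization.AtPrime q) := by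
  have htfae := (Groth.Agent.Lib.Helper23.SmoothField.tfae_atPrime (k₀ := k) (k := k) (C := S) q).out 0 3
  change Algebra.FormallySmooth k (Localization.AtPrime q) ↔ _
  rw [htfae]
  have : IsNoetherianRing S := Algebra.FiniteType.isNoetherianRing k S
  have : IsNoetherianRing (Localization.AtPrime q) :=
    IsLocalization.isNoetherianRing q.primeCompl _ inferInstance
  constructor
  · intro h
    have := Groth.Agent.Lib.Helper23.RegularHom.isRegularRing_of_geomRegular _ _ h
    exact IsRegularLocalRing.of_isRegularRing_of_isLocalRing _
  · intro h k' _ _ hfin
    have : IsRegularRing (Localization.AtPrime q) := by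
      rw [isRegularRing_iff]
      intro P hP
      exact Groth.Agent.Lib.Helper18.SerreReg.isRegularLocalRing_localization_atPrime _ P
    have : Module.Finite k k' := hfin
    have : Algebra.IsSeparable k k' := inferInstance
    have : Algebra.FormallyEtale k k' := Algebra.FormallyEtale.of_isSeparable k k'
    have : Algebra.FinitePresentation k k' := Algebra.FinitePresentation.of_finiteType.mp inferInstance
    have : Algebra.Smooth k k' := ⟨inferInstance, inferInstance⟩
    have : Algebra.Smooth (Localization.AtPrime q) (Localization.AtPrime q ⊗[k] k') := inferInstance
    have h1 : IsRegularRing (Localization.AtPrime q ⊗[k] k') :=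
      Groth.Agent.Lib.Helper23.RegularHom.isRegularRing_of_smooth (Localization.AtPrime q) _
    exact IsRegularRing.of_ringEquiv
      (Algebra.TensorProduct.comm k (Localization.AtPrime q) k').toRingEquiv


end Groth.Agent.S2091
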