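import Groth.Statements.S2094
import Mathlib

set_option autoImplicit false
universe u
open CAlg

namespace Groth.Agent.S2094



open TrivSqZeroExt in
theorem proj_of_smooth {A M : Type u} [CommRing A] [AddCommGroup M] [Module A M]
    [Algebra.FormallySmooth A (SymmetricAlgebra A M)] : Module.Projective A M := by
  letI : Module Aᵐᵒᵖ M :=
    Module.compHom M ((RingHom.id A).fromOpposite (fun x y => mul_comm x y))
  haveI : IsCentralScalar A M := ⟨fun a m => rfl⟩
  let π : (M →₀ A) →ₗ[A] M := Finsupp.linearCombination A id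
  have hπ : Function.Surjective π := Finsupp.linearCombination_id_surjective A M
  let g : TrivSqZeroExt A (M →₀ A) →ₐ[A] TrivSqZeroExt A M := TrivSqZeroExt.map π
  have hg : Function.Surjective g := by
    intro c
    obtain ⟨n, hn⟩ := hπ c.snd
    refine ⟨inl c.fst + inr n, ?_⟩
    rw [map_add]
    simp only [g, map_inl, map_inr, hn]
    exact TrivSqZeroExt.inl_fst_add_inr_snd_eq c
  have hker : IsNilpotent (RingHom.ker (g : TrivSqZeroExt A (M →₀ A) →+* TrivSqZeroExt A M)) := by
    refine ⟨2, ?_⟩
    refine (pow_two (RingHom.ker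
      (g : TrivSqZeroExt A (M →₀ A) →+* TrivSqZeroExt A M))).trans ?_
    refine eq_bot_iff.mpr (Ideal.mul_le.mpr ?_)
    intro x hx y hy
    rw [RingHom.mem_ker] at hx hy
    have hx1 : x.fst = 0 := by
      have := congrArg TrivSqZeroExt.fst hx
      simpa [g] using this
    have hy1 : y.fst = 0 := by
      have := congrArg TrivSqZeroExt.fst hy
      simpa [g] using this
    rw [Ideal.mem_bot]
    ext
    · simp [hx1]
    · simp [hx1, hy1]
  let f : SymmetricAlgebra A M →ₐ[A] TrivSqZeroExt A M :=
    SymmetricAlgebra.lift (TrivSqZeroExt.inrHom A M)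
  let F := Algebra.FormallySmooth.liftOfSurjective f g hg hker
  have hF : ∀ x, g (F x) = f x := Algebra.FormallySmooth.liftOfSurjective_apply f g hg hker
  let s : M →ₗ[A] (M →₀ A) :=
    (TrivSqZeroExt.sndHom A (M →₀ A)) ∘ₗ F.toLinearMap ∘ₗ (SymmetricAlgebra.ι A M)
  rw [Module.projective_def']
  refine ⟨s, ?_⟩
  ext m
  have h1 := congrArg TrivSqZeroExt.snd (hF (SymmetricAlgebra.ι A M m))
  simp only [g, snd_map, f, SymmetricAlgebra.lift_ι_apply, inrHom_apply, snd_inr] at h1
  simpa [s, π] using h1

theorem finite_of_finiteType {A M : Type u} [CommRing A] [AddCommGroup M] [Module A M]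
    [Algebra.FiniteType A (SymmetricAlgebra A M)] : Module.Finite A M := by
  classical
  letI : Module Aᵐᵒᵖ M :=
    Module.compHom M ((RingHom.id A).fromOpposite (fun x y => mul_comm x y))
  haveI : IsCentralScalar A M := ⟨fun a m => rfl⟩
  obtain ⟨S, hS⟩ := (Algebra.FiniteType.out : (⊤ : Subalgebra A (SymmetricAlgebra A M)).FG)
  let h : SymmetricAlgebra A M →ₐ[A] TrivSqZeroExt A M :=
    SymmetricAlgebra.lift (TrivSqZeroExt.inrHom A M)
  let M' : Submodule A M := Submodule.span A ((fun s => (h s).snd) '' (S : Set _))
  let D : Subalgebra A (TrivSqZeroExt A M) :=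
    { carrier := {c | c.snd ∈ M'}
      mul_mem' := by
        intro x y hx hy
        simp only [Set.mem_ofPred_eq, TrivSqZeroExt.snd_mul] at *
        refine M'.add_mem (M'.smul_mem _ hy) ?_
        rw [op_smul_eq_smul]
        exact M'.smul_mem _ hx
      add_mem' := by
        intro x y hx hy
        simp only [Set.mem_ofPred_eq, TrivSqZeroExt.snd_add] at *
        exact M'.add_mem hx hy
      algebraMap_mem' := by
        intro r
        simp [TrivSqZeroExt.algebraMap_eq_inl] }
  have hle : Algebra.adjoin A (S : Set (SymmetricAlgebra A M)) ≤ D.comap h := by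
    apply Algebra.adjoin_le
    intro s hs
    exact Submodule.subset_span ⟨s, hs, rfl⟩
  rw [hS] at hle
  refine ⟨⟨S.image (fun s => (h s).snd), ?_⟩⟩
  rw [Finset.coe_image, eq_top_iff]
  intro m _
  have h1 : SymmetricAlgebra.ι A M m ∈ D.comap h := hle trivial
  have h2 : (h (SymmetricAlgebra.ι A M m)).snd ∈ M' := h1
  simpa [h] using h2

theorem formallySmooth_of_projective {A M : Type u} [CommRing A] [AddCommGroup M] [Module A M]
    [Module.Projective A M] : Algebra.FormallySmooth A (SymmetricAlgebra A M) := by
  refine Algebra.FormallySmooth.of_comp_surjective fun B _ _ I hI g => ?_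
  obtain ⟨ℓ, hℓ⟩ := Module.projective_lifting_property (Ideal.Quotient.mkₐ A I).toLinearMap
    (g.toLinearMap ∘ₗ SymmetricAlgebra.ι A M) Ideal.Quotient.mk_surjective
  refine ⟨SymmetricAlgebra.lift ℓ, ?_⟩
  apply SymmetricAlgebra.algHom_ext
  ext m
  simpa using LinearMap.congr_fun hℓ m

theorem fp_of_finite_projective {A M : Type u} [CommRing A] [AddCommGroup M] [Module A M]
    [Module.Finite A M] [Module.Projective A M] :
    Algebra.FinitePresentation A (SymmetricAlgebra A M) := by
  classical
  obtain ⟨n, r, i, -, -, hri⟩ := Module.Finite.exists_comp_eq_id_of_projective A M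
  let ρ : MvPolynomial (Fin n) A →ₐ[A] SymmetricAlgebra A M :=
    MvPolynomial.aeval (fun k => SymmetricAlgebra.ι A M (r (Pi.single k 1)))
  let ℓ : M →ₗ[A] MvPolynomial (Fin n) A :=
    { toFun := fun m => ∑ k, (i m k) • (MvPolynomial.X k : MvPolynomial (Fin n) A)
      map_add' := by
        intro x y
        simp [add_smul, Finset.sum_add_distrib]
      map_smul' := by
        intro a x
        simp [Finset.smul_sum, mul_smul] }
  let σ : SymmetricAlgebra A M →ₐ[A] MvPolynomial (Fin n) A := SymmetricAlgebra.lift ℓ
  have hρσ : ρ.comp σ = AlgHom.id A _ := by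
    apply SymmetricAlgebra.algHom_ext
    ext m
    have h1 : i m = ∑ k, (i m k) • (Pi.single k (1 : A) : Fin n → A) := by
      ext j
      simp [Finset.sum_apply, Pi.single_apply]
    have h2 : r (i m) = m := LinearMap.congr_fun hri m
    show ρ (SymmetricAlgebra.lift ℓ (SymmetricAlgebra.ι A M m)) = SymmetricAlgebra.ι A M m
    rw [SymmetricAlgebra.lift_ι_apply]
    show ρ (∑ k, (i m k) • (MvPolynomial.X k : MvPolynomial (Fin n) A)) = _
    rw [map_sum]
    simp only [map_smul, ρ, MvPolynomial.aeval_X]
    have h3 : SymmetricAlgebra.ι A M m =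
        SymmetricAlgebra.ι A M (r (∑ k, (i m k) • (Pi.single k (1 : A) : Fin n → A))) := by
      rw [← h1, h2]
    rw [h3]
    simp only [map_sum, map_smul]
  have hsurj : Function.Surjective ρ := fun x => ⟨σ x, AlgHom.congr_fun hρσ x⟩
  have hker : RingHom.ker ρ.toRingHom = Ideal.span (Set.range fun k : Fin n =>
      (MvPolynomial.X k : MvPolynomial (Fin n) A) - σ (ρ (MvPolynomial.X k))) := by
    apply le_antisymm
    · intro x hx
      have key : ∀ y : MvPolynomial (Fin n) A, y - σ (ρ y) ∈ Ideal.span (Set.range fun k : Fin n =>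
          (MvPolynomial.X k : MvPolynomial (Fin n) A) - σ (ρ (MvPolynomial.X k))) := by
        intro y
        induction y using MvPolynomial.induction_on with
        | C a => simp
        | add p q hp hq =>
          have h3 : p + q - σ (ρ (p + q)) = (p - σ (ρ p)) + (q - σ (ρ q)) := by
            simp only [map_add]; ring
          rw [h3]
          exact Ideal.add_mem _ hp hq
        | mul_X p k hp =>
          have h3 : p * MvPolynomial.X k - σ (ρ (p * MvPolynomial.X k)) =
              (p - σ (ρ p)) * MvPolynomial.X k +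
                σ (ρ p) * (MvPolynomial.X k - σ (ρ (MvPolynomial.X k))) := by
            simp only [map_mul]; ring
          rw [h3]
          exact Ideal.add_mem _ (Ideal.mul_mem_right _ _ hp)
            (Ideal.mul_mem_left _ _ (Ideal.subset_span ⟨k, rfl⟩))
      have h4 := key x
      have h5 : ρ x = 0 := hx
      rw [h5, map_zero, sub_zero] at h4
      exact h4
    · rw [Ideal.span_le]
      rintro _ ⟨k, rfl⟩
      have h6 : ρ (σ (ρ (MvPolynomial.X k))) = ρ (MvPolynomial.X k) :=
        AlgHom.congr_fun hρσ (ρ (MvPolynomial.X k))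
      show ρ (MvPolynomial.X k - σ (ρ (MvPolynomial.X k))) = 0
      rw [map_sub, h6, sub_self]
  exact Algebra.FinitePresentation.of_surjective hsurj
    (hker ▸ Submodule.fg_span (Set.finite_range _))

/-- The symmetric algebra of an `A`-module is a smooth `A`-algebra exactly when the module is finite
projective. -/
theorem result {A M : Type u} [CommRing A] [AddCommGroup M] [Module A M] :
    Algebra.Smooth A (SymmetricAlgebra A M) ↔ Module.Finite A M ∧ Module.Projective A M := by

  constructor
  · intro h
    haveI := h.formallySmooth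
    haveI := h.finitePresentation
    exact ⟨finite_of_finiteType, proj_of_smooth⟩
  · rintro ⟨h1, h2⟩
    exact ⟨formallySmooth_of_projective, fp_of_finite_projective⟩

end Groth.Agent.S2094
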