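import Groth.Statements.S2095
import Mathlib

set_option autoImplicit false
universe u
open CAlg

namespace Groth.Agent.S2095

section aux
open TensorProduct
variable {R S R' : Type u} [CommRing R] [CommRing S] [Algebra R S]
  [CommRing R'] [Algebra R R']
variable {A : Type u} [CommRing A] [Algebra R A]

/-- `ρ ⊗ id : R' ⊗ A → A`, which is linear over `A` acting on the right factor -/
noncomputable def sigma (ρ : R' →ₗ[R] R) : R' ⊗[R] A →ₗ[R] A :=
  TensorProduct.lift (LinearMap.lsmul R A ∘ₗ ρ)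

lemma sigma_tmul (ρ : R' →ₗ[R] R) (r : R') (a : A) : sigma (A := A) ρ (r ⊗ₜ a) = ρ r • a := by
  simp [sigma]

lemma sigma_mul (ρ : R' →ₗ[R] R) (a : A) (x : R' ⊗[R] A) :
    sigma ρ ((1 ⊗ₜ a) * x) = a * sigma ρ x := by
  induction x using TensorProduct.induction_on with
  | zero => simp
  | tmul r b =>
    rw [Algebra.TensorProduct.tmul_mul_tmul, one_mul, sigma_tmul, sigma_tmul, mul_smul_comm]
  | add x y hx hy => rw [mul_add, map_add, hx, hy, map_add, mul_add]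

/-- auxiliary ideal -/
def T (ρ : R' →ₗ[R] R) (J : Ideal A) : Ideal (R' ⊗[R] A) where
  carrier := {x | ∀ a', sigma ρ (a' * x) ∈ J}
  add_mem' := by
    intro x y hx hy a'
    rw [mul_add, map_add]
    exact J.add_mem (hx a') (hy a')
  zero_mem' := by
    intro a'
    simp
  smul_mem' := by
    intro c x hx a'
    rw [smul_eq_mul, ← mul_assoc]
    exact hx (a' * c)

lemma sigma_mem (ρ : R' →ₗ[R] R) (J : Ideal A) (x : R' ⊗[R] A)
    (hx : x ∈ J.map (Algebra.TensorProduct.includeRight : A →ₐ[R] R' ⊗[R] A)) :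
    sigma ρ x ∈ J := by
  have hle : J.map (Algebra.TensorProduct.includeRight : A →ₐ[R] R' ⊗[R] A) ≤ T ρ J := by
    rw [Ideal.map_le_iff_le_comap]
    intro j hj a'
    simp only [Algebra.TensorProduct.includeRight_apply]
    rw [mul_comm, sigma_mul]
    exact J.mul_mem_right _ hj
  have := hle hx 1
  rwa [one_mul] at this

end aux

open TensorProduct in
/-- Let `R → S` be a ring map, `𝔫 ⊆ S` an ideal and `R → R'` a ring map admitting an `R`-linear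
retraction. If `R' → R' ⊗ S` is formally smooth for the adic topology of the extension of `𝔫`, then
`R → S` is formally smooth for the `𝔫`-adic topology. -/
theorem result {R S R' : Type u} [CommRing R] [CommRing S] [Algebra R S]
    (𝔫 : Ideal S) [CommRing R'] [Algebra R R'] (ρ : R' →ₗ[R] R) (hρ : ∀ r : R, ρ (algebraMap R R' r) = r)
    (h : CAlgX.IsAdicFormallySmooth R' (R' ⊗[R] S)
      (𝔫.map (Algebra.TensorProduct.includeRight : S →ₐ[R] R' ⊗[R] S))) :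
    CAlgX.IsAdicFormallySmooth R S 𝔫 := by
  intro A _ _ J hJ ψ hψ
  obtain ⟨k, hk⟩ := hψ
  have hρ1 : ρ 1 = 1 := by simpa using hρ 1
  let ι : A →ₐ[R] R' ⊗[R] A := Algebra.TensorProduct.includeRight
  let J' : Ideal (R' ⊗[R] A) := J.map ι
  have hJ' : J' ^ 2 = ⊥ := by rw [← Ideal.map_pow, hJ, Ideal.map_bot]
  let q : A ⧸ J →ₐ[R] (R' ⊗[R] A) ⧸ J' := Ideal.quotientMapₐ J' ι Ideal.le_comap_map
  have hq : ∀ a : A, q (Ideal.Quotient.mk J a) = Ideal.Quotient.mk J' (1 ⊗ₜ a) := fun a => rfl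
  let g : S →ₐ[R] (R' ⊗[R] A) ⧸ J' := q.comp ψ
  let ψ' : R' ⊗[R] S →ₐ[R'] (R' ⊗[R] A) ⧸ J' :=
    Algebra.TensorProduct.lift (Algebra.ofId R' ((R' ⊗[R] A) ⧸ J')) g (fun _ _ => Commute.all _ _)
  have hψ' : ∀ s : S, ψ' (1 ⊗ₜ s) = q (ψ s) := by
    intro s
    simp [ψ', g]
  have hkill : ∀ x ∈ (𝔫.map (Algebra.TensorProduct.includeRight : S →ₐ[R] R' ⊗[R] S)) ^ k,
      ψ' x = 0 := by
    rw [← Ideal.map_pow]
    have : (𝔫 ^ k).map (Algebra.TensorProduct.includeRight : S →ₐ[R] R' ⊗[R] S) ≤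
        RingHom.ker ψ'.toRingHom := by
      rw [Ideal.map_le_iff_le_comap]
      intro s hs
      simp only [Ideal.mem_comap, RingHom.mem_ker]
      change ψ' (1 ⊗ₜ s) = 0
      rw [hψ', hk s hs, map_zero]
    intro x hx
    exact this hx
  obtain ⟨χ', hχ'⟩ := h (R' ⊗[R] A) J' hJ' ψ' ⟨k, hkill⟩
  have hχ'' : ∀ x, Ideal.Quotient.mk J' (χ' x) = ψ' x := fun x => by
    rw [← hχ']; rfl
  -- key fact
  have key : ∀ s : S, ∃ a : A, Ideal.Quotient.mk J a = ψ s ∧ χ' (1 ⊗ₜ s) - 1 ⊗ₜ a ∈ J' := by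
    intro s
    obtain ⟨a, ha⟩ := Ideal.Quotient.mk_surjective (ψ s)
    refine ⟨a, ha, ?_⟩
    rw [← Ideal.Quotient.eq, hχ'', hψ', ← ha, hq]
  choose a ha hd using key
  have hθ : ∀ s : S, sigma ρ (χ' (1 ⊗ₜ s)) = a s + sigma ρ (χ' (1 ⊗ₜ s) - 1 ⊗ₜ a s) := by
    intro s
    rw [map_sub, sigma_tmul, hρ1, one_smul]
    ring
  have hσd : ∀ s : S, sigma ρ (χ' (1 ⊗ₜ s) - 1 ⊗ₜ a s) ∈ J := fun s => sigma_mem ρ J _ (hd s)
  let θlin : S →ₗ[R] A := sigma ρ ∘ₗ (χ'.toLinearMap.restrictScalars R) ∘ₗ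
    (Algebra.TensorProduct.includeRight : S →ₐ[R] R' ⊗[R] S).toLinearMap
  have hθlin : ∀ s, θlin s = sigma ρ (χ' (1 ⊗ₜ s)) := fun s => rfl
  have hsq : ∀ x y : A, x ∈ J → y ∈ J → x * y = 0 := by
    intro x y hx hy
    have : x * y ∈ J ^ 2 := by rw [pow_two]; exact Ideal.mul_mem_mul hx hy
    rwa [hJ] at this
  have hsq' : ∀ x y : R' ⊗[R] A, x ∈ J' → y ∈ J' → x * y = 0 := by
    intro x y hx hy
    have : x * y ∈ J' ^ 2 := by rw [pow_two]; exact Ideal.mul_mem_mul hx hy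
    rwa [hJ'] at this
  have hone : θlin 1 = 1 := by
    rw [hθlin]
    have : (1 : R' ⊗[R] S) = 1 ⊗ₜ 1 := rfl
    rw [← this, map_one]
    have : (1 : R' ⊗[R] A) = 1 ⊗ₜ 1 := rfl
    rw [this, sigma_tmul, hρ1, one_smul]
  have hmul : ∀ s t, θlin (s * t) = θlin s * θlin t := by
    intro s t
    have e1 : χ' (1 ⊗ₜ (s * t)) = χ' (1 ⊗ₜ s) * χ' (1 ⊗ₜ t) := by
      rw [← map_mul, Algebra.TensorProduct.tmul_mul_tmul, one_mul]
    set ds := χ' (1 ⊗ₜ s) - 1 ⊗ₜ a s with hds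
    set dt := χ' (1 ⊗ₜ t) - 1 ⊗ₜ a t with hdt
    have e2 : χ' (1 ⊗ₜ s) = 1 ⊗ₜ a s + ds := by rw [hds]; ring
    have e3 : χ' (1 ⊗ₜ t) = 1 ⊗ₜ a t + dt := by rw [hdt]; ring
    have e4 : χ' (1 ⊗ₜ (s * t)) = (1 : R') ⊗ₜ (a s * a t) + (1 ⊗ₜ a s) * dt + (1 ⊗ₜ a t) * ds := by
      rw [e1, e2, e3]
      have := hsq' ds dt (hd s) (hd t)
      have e5 : ((1 : R') ⊗ₜ[R] a s) * (1 ⊗ₜ a t) = (1 : R') ⊗ₜ[R] (a s * a t) := by
        rw [Algebra.TensorProduct.tmul_mul_tmul, one_mul]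
      rw [← e5]
      linear_combination this
    rw [hθlin, hθlin, hθlin, e4, map_add, map_add, sigma_mul, sigma_mul, sigma_tmul, hρ1, one_smul,
      e2, e3, map_add, map_add, sigma_tmul, sigma_tmul, hρ1, one_smul, one_smul]
    have := hsq _ _ (hσd s) (hσd t)
    linear_combination -this
  let θ : S →ₐ[R] A := AlgHom.ofLinearMap θlin hone hmul
  refine ⟨θ, ?_⟩
  ext s
  change Ideal.Quotient.mk J (θlin s) = ψ s
  rw [hθlin, hθ, map_add, ha, Ideal.Quotient.eq_zero_iff_mem.mpr (hσd s), add_zero]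

end Groth.Agent.S2095
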