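import Groth.Statements.S2096
import Mathlib
import Groth.Agent.Lib.Helper4.HznFibre

set_option autoImplicit false
universe u
open CAlg

namespace Groth.Agent.S2096

/-- Let `B` be a Noetherian ind-étale `A`-algebra (a filtered colimit of étale algebras) and `𝔭` a prime
of `A`. Then only finitely many primes of `B` lie over `𝔭`, the fibre ring `B ⊗ κ(𝔭)` is reduced of
dimension zero, and each residue field extension `κ(𝔮)/κ(𝔭)` is separable algebraic. -/
theorem result {A B : Type u} [CommRing A] [CommRing B] [Algebra A B] (hB : EtPBC.IsIndEtale A B)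
    [IsNoetherianRing B] (p : Ideal A) [p.IsPrime] :
    {q : PrimeSpectrum B | q.asIdeal.LiesOver p}.Finite ∧ IsReduced (p.Fiber B) ∧ ringKrullDim (p.Fiber B) ≤ 0 ∧
      ∀ (q : Ideal B) [q.IsPrime] [q.LiesOver p],
        @Algebra.IsSeparable p.ResidueField q.ResidueField _ _
          (Ideal.ResidueField.mapₐ p q (Algebra.ofId A B) (q.over_def p)).toRingHom.toAlgebra := by
  obtain ⟨n, K, hK1, hK2, hsep, ⟨e⟩⟩ :=
    Groth.Agent.Lib.Helper4.Hzn.fibre_equiv_pi_separable_of_isIndEtale A B hB p
  haveI hart : IsArtinianRing (p.Fiber B) := e.symm.toRingEquiv.isArtinianRing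
  haveI hred : IsReduced (p.Fiber B) := isReduced_of_injective e.toRingEquiv e.injective
  refine ⟨?_, hred, ?_, ?_⟩
  · have hfin : Finite (PrimeSpectrum (p.Fiber B)) := inferInstance
    have heq : {q : PrimeSpectrum B | q.asIdeal.LiesOver p} =
        PrimeSpectrum.comap (algebraMap A B) ⁻¹' {(⟨p, inferInstance⟩ : PrimeSpectrum A)} := by
      ext q
      simp only [Set.mem_setOf_eq, Set.mem_preimage, Set.mem_singleton_iff]
      constructor
      · intro h
        ext1
        exact (h.over).symm
      · intro h
        refine ⟨?_⟩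
        have := congrArg PrimeSpectrum.asIdeal h
        exact this.symm
    rw [heq]
    have : Finite ↥(PrimeSpectrum.comap (algebraMap A B) ⁻¹' {(⟨p, inferInstance⟩ : PrimeSpectrum A)}) :=
      Finite.of_equiv _ (PrimeSpectrum.preimageEquivFiber A B ⟨p, inferInstance⟩).symm
    exact Set.toFinite _
  · have h0 : Ring.KrullDimLE 0 (p.Fiber B) :=
      (isArtinianRing_iff_isNoetherianRing_krullDimLE_zero.mp hart).2
    exact Ring.krullDimLE_iff.mp h0
  · intro q hq hqp
    letI alg : Algebra p.ResidueField q.ResidueField :=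
      (Ideal.ResidueField.mapₐ p q (Algebra.ofId A B) (q.over_def p)).toRingHom.toAlgebra
    haveI htower : IsScalarTower A p.ResidueField q.ResidueField :=
      .of_algebraMap_eq (fun a =>
        ((Ideal.ResidueField.mapₐ p q (Algebra.ofId A B) (q.over_def p)).commutes a).symm)
    let ψ : TensorProduct A p.ResidueField B →ₐ[p.ResidueField] q.ResidueField :=
      Algebra.TensorProduct.lift (Algebra.ofId _ _) (IsScalarTower.toAlgHom A B q.ResidueField)
        (fun _ _ => .all _ _)
    have hψ : ∀ z, IsSeparable p.ResidueField (ψ z) := by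
      intro z
      obtain ⟨E, _, _, _, θ, y, rfl⟩ :=
        Groth.Agent.Lib.Helper4.Hzn.exists_etale_image_of_isIndEtale A B p.ResidueField hB z
      let θ' : E →ₐ[p.ResidueField] q.ResidueField := ψ.comp θ
      have : (RingHom.ker θ').IsPrime := RingHom.ker_isPrime _
      have hs : IsSeparable p.ResidueField (Ideal.Quotient.mk (RingHom.ker θ') y) :=
        Algebra.IsSeparable.isSeparable p.ResidueField _
      have h1 : Ideal.kerLiftAlg θ' (Ideal.Quotient.mk _ y) = ψ (θ y) := by
        rw [Ideal.kerLiftAlg_mk]; rfl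
      change IsSeparable p.ResidueField (ψ (θ y))
      rw [← h1]
      unfold IsSeparable at hs ⊢
      rwa [minpoly.algHom_eq _ (Ideal.kerLiftAlg_injective θ')]
    have hB' : ∀ b : B, IsSeparable p.ResidueField (algebraMap B q.ResidueField b) := by
      intro b
      have h2 : ψ (TensorProduct.tmul A (1 : p.ResidueField) b) = algebraMap B q.ResidueField b := by
        simp [ψ]
      rw [← h2]
      exact hψ _
    refine ⟨fun x => ?_⟩
    obtain ⟨a, b, -, rfl⟩ := IsFractionRing.div_surjective (A := B ⧸ q) x
    obtain ⟨a', rfl⟩ := Ideal.Quotient.mk_surjective a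
    obtain ⟨b', rfl⟩ := Ideal.Quotient.mk_surjective b
    rw [← mem_separableClosure_iff]
    refine div_mem ?_ ?_
    · rw [mem_separableClosure_iff]
      exact hB' a'
    · rw [mem_separableClosure_iff]
      exact hB' b'

end Groth.Agent.S2096
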