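import Groth.Statements.S2098
import Mathlib.RingTheory.Filtration
import Mathlib.RingTheory.Nakayama
import Mathlib.RingTheory.Noetherian.Orzech
import Mathlib.RingTheory.Finiteness.Cardinality
import Mathlib.Algebra.Module.Projective
import Mathlib.LinearAlgebra.Isomorphisms
-- import your own Groth.Agent.* helpers here

set_option autoImplicit false
universe u
open CAlg

namespace Groth.Agent.S2098

/-- linear maps send `I • ⊤` into `I • ⊤`. -/
theorem map_mem_smul_top {R A B : Type*} [CommRing R] [AddCommGroup A] [Module R A]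
    [AddCommGroup B] [Module R B] (J : Ideal R) (g : A →ₗ[R] B) {x : A}
    (hx : x ∈ (J • ⊤ : Submodule R A)) : g x ∈ (J • ⊤ : Submodule R B) := by
  have : (J • ⊤ : Submodule R A).map g ≤ J • ⊤ := by
    rw [Submodule.map_smul'']
    exact Submodule.smul_mono le_rfl le_top
  exact this ⟨x, hx, rfl⟩

theorem pi_mem_smul_top {R B : Type*} [CommRing R] [AddCommGroup B] [Module R B] (J : Ideal R)
    {b : ℕ} (x : Fin b → B) (hx : ∀ j, x j ∈ (J • ⊤ : Submodule R B)) :
    x ∈ (J • ⊤ : Submodule R (Fin b → B)) := by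
  have : x = ∑ j, LinearMap.single R (fun _ => B) j (x j) := by
    ext i
    simp [Finset.sum_apply, Pi.single_apply]
  rw [this]
  exact Submodule.sum_mem _ fun j _ => map_mem_smul_top J _ (hx j)

/-- Let `R` be Noetherian, `I` an ideal inside the Jacobson radical and `u : N → M` a map of finite
`R`-modules. If for arbitrarily large `n` the induced map `N/IⁿN → M/IⁿM` has a left inverse, then
`u` has a left inverse. -/
theorem result {R M N : Type u} [CommRing R] [IsNoetherianRing R] (I : Ideal R)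
    (hI : I ≤ (⊥ : Ideal R).jacobson) [AddCommGroup M] [Module R M] [Module.Finite R M] [AddCommGroup N] [Module R N]
    [Module.Finite R N] (u : N →ₗ[R] M)
    (h : ∀ n₀ : ℕ, ∃ n, n₀ ≤ n ∧ ∃ s : (M ⧸ (I ^ n) • (⊤ : Submodule R M)) →ₗ[R] (N ⧸ (I ^ n) • (⊤ : Submodule R N)),
      ∀ x : N, s (Submodule.Quotient.mk (u x)) = Submodule.Quotient.mk x) :
    ∃ s : M →ₗ[R] N, s.comp u = LinearMap.id := by
  classical
  obtain ⟨a, π, hπ⟩ := Module.Finite.exists_fin' R M
  have hKfg : (LinearMap.ker π).FG := IsNoetherian.noetherian _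
  obtain ⟨b, k, hk⟩ := Submodule.fg_iff_exists_fin_generating_family.mp hKfg
  let T : ((Fin a → R) →ₗ[R] N) →ₗ[R] (Fin b → N) :=
    LinearMap.pi (fun j => LinearMap.applyₗ (k j))
  have hT : ∀ φ j, T φ j = φ (k j) := fun φ j => rfl
  obtain ⟨c, hc⟩ := Ideal.exists_pow_inf_eq_pow_smul I (LinearMap.range T)
  obtain ⟨n, hn, s, hs⟩ := h (c + 1)
  obtain ⟨φ, hφ⟩ := Module.projective_lifting_property
    (Submodule.mkQ (I ^ n • ⊤ : Submodule R N))
    (s ∘ₗ Submodule.mkQ (I ^ n • ⊤ : Submodule R M) ∘ₗ π) (Submodule.mkQ_surjective _)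
  have hφ' : ∀ r, Submodule.Quotient.mk (φ r) = s (Submodule.Quotient.mk (π r)) :=
    fun r => LinearMap.congr_fun hφ r
  -- `T φ ∈ I ^ n • ⊤`
  have hTφ : T φ ∈ (I ^ n • ⊤ : Submodule R (Fin b → N)) := by
    apply pi_mem_smul_top
    intro j
    rw [hT, ← Submodule.Quotient.mk_eq_zero, hφ']
    have : π (k j) = 0 := by
      have : k j ∈ LinearMap.ker π := by rw [← hk]; exact Submodule.subset_span ⟨j, rfl⟩
      exact this
    rw [this, Submodule.Quotient.mk_zero, map_zero]
  have hTφ2 : T φ ∈ Submodule.map T (I • ⊤ : Submodule R ((Fin a → R) →ₗ[R] N)) := by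
    have h1 : T φ ∈ I ^ (n - c) • (I ^ c • ⊤ ⊓ LinearMap.range T) := by
      rw [← hc n (by omega)]
      exact ⟨hTφ, LinearMap.mem_range_self _ _⟩
    have h2 : I ^ (n - c) • (I ^ c • ⊤ ⊓ LinearMap.range T) ≤ I • LinearMap.range T := by
      refine Submodule.smul_mono ?_ inf_le_right
      calc I ^ (n - c) ≤ I ^ 1 := Ideal.pow_le_pow_right (by omega)
        _ = I := pow_one I
    have h3 : I • LinearMap.range T = Submodule.map T (I • ⊤) := by
      rw [Submodule.map_smul'', Submodule.map_top]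
    rw [← h3]
    exact h2 h1
  obtain ⟨φ', hφ'I, hTφ'⟩ := hTφ2
  have hψ : T (φ - φ') = 0 := by rw [map_sub, hTφ', sub_self]
  have hψK : LinearMap.ker π ≤ LinearMap.ker (φ - φ') := by
    rw [← hk, Submodule.span_le]
    rintro _ ⟨j, rfl⟩
    exact congr_fun hψ j
  let s' : M →ₗ[R] N :=
    ((LinearMap.ker π).liftQ (φ - φ') hψK) ∘ₗ (π.quotKerEquivOfSurjective hπ).symm.toLinearMap
  have hs' : ∀ r, s' (π r) = φ r - φ' r := by
    intro r
    simp only [s', LinearMap.coe_comp, LinearEquiv.coe_coe, Function.comp_apply,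
      LinearMap.quotKerEquivOfSurjective_symm_apply]
    rfl
  -- `s' ∘ u ≡ id` modulo `I`
  have hθ : ∀ x, (s' ∘ₗ u) x - x ∈ (I • ⊤ : Submodule R N) := by
    intro x
    obtain ⟨r, hr⟩ := hπ (u x)
    have e1 : (s' ∘ₗ u) x - x = (φ r - x) - φ' r := by
      rw [LinearMap.comp_apply, ← hr, hs']
      abel
    rw [e1]
    refine Submodule.sub_mem _ ?_ ?_
    · have : φ r - x ∈ (I ^ n • ⊤ : Submodule R N) := by
        rw [← Submodule.Quotient.eq, hφ', hr, hs]
      have hle : (I ^ n • ⊤ : Submodule R N) ≤ I • ⊤ := by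
        refine Submodule.smul_mono ?_ le_rfl
        calc I ^ n ≤ I ^ 1 := Ideal.pow_le_pow_right (by omega)
          _ = I := pow_one I
      exact hle this
    · exact map_mem_smul_top I (LinearMap.applyₗ r) hφ'I
  have hsurj : Function.Surjective (s' ∘ₗ u) := by
    rw [← LinearMap.range_eq_top, eq_top_iff]
    apply Submodule.le_of_le_smul_of_le_jacobson_bot (Module.Finite.fg_top) hI
    intro x _
    have : x = (s' ∘ₗ u) x - ((s' ∘ₗ u) x - x) := by abel
    rw [this]
    exact Submodule.sub_mem _ (Submodule.mem_sup_left (LinearMap.mem_range_self _ _))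
      (Submodule.mem_sup_right (hθ x))
  have : IsNoetherian R N := isNoetherian_of_isNoetherianRing_of_finite R N
  have hbij := IsNoetherian.bijective_of_surjective_endomorphism (s' ∘ₗ u) hsurj
  let θ : N ≃ₗ[R] N := LinearEquiv.ofBijective (s' ∘ₗ u) hbij
  refine ⟨θ.symm.toLinearMap ∘ₗ s', ?_⟩
  ext x
  simp only [LinearMap.coe_comp, LinearEquiv.coe_coe, Function.comp_apply, LinearMap.id_coe, id_eq]
  exact θ.symm_apply_apply x

end Groth.Agent.S2098
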