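import Groth.Statements.S2100
import Mathlib
import Groth.Agent.Helper19.NoetherRefined
-- import your own Groth.Agent.* helpers here

set_option autoImplicit false
universe u
open CAlg

namespace Groth.Agent.S2100

section helpers
open MvPolynomial Groth.Agent.Helper19.NoetherT

variable {k : Type u} [Field k]

/-- the data produced by the induction -/
def Good (n : ℕ) (q : Ideal (MvPolynomial (Fin n) k)) : Prop :=
  ∃ (φ : MvPolynomial (Fin n) k →ₐ[k] MvPolynomial (Fin n) k) (τ : Type) (_ : Fintype τ)
    (ι : τ → Fin n), φ.toRingHom.IsIntegral ∧ Function.Injective ι ∧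
    (∀ j, j ∉ Set.range ι → φ (X j) ∈ q) ∧
    Function.Injective (fun P : MvPolynomial τ k => Ideal.Quotient.mk q (φ (rename ι P)))

theorem good_bot (n : ℕ) (q : Ideal (MvPolynomial (Fin n) k)) (hq0 : q = ⊥) : Good n q := by
  refine ⟨AlgHom.id k _, Fin n, inferInstance, id, ?_, Function.injective_id, ?_, ?_⟩
  · exact RingHom.isIntegral_of_surjective _ Function.surjective_id
  · intro j hj
    exact absurd (Set.mem_range_self (f := id) j) hj
  · intro P Q hPQ
    have hbij := (Ideal.Quotient.mk_bijective_iff_eq_bot q).mpr hq0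
    have := hbij.1 hPQ
    simpa using this

theorem eq_bot_of_fin_zero (q : Ideal (MvPolynomial (Fin 0) k)) (hq : q.IsPrime) : q = ⊥ := by
  by_contra hne
  obtain ⟨f, hfq, hf0⟩ := Submodule.exists_mem_ne_zero_of_ne_bot hne
  have hC := eq_C_of_isEmpty f
  have hc : coeff 0 f ≠ 0 := by
    intro h
    rw [h, map_zero] at hC
    exact hf0 hC
  have hu : IsUnit f := by
    rw [hC]
    exact (hc.isUnit).map C
  exact hq.ne_top (Ideal.eq_top_of_isUnit_mem _ hfq hu)

theorem good_step (n : ℕ) (ih : ∀ q : Ideal (MvPolynomial (Fin n) k), q.IsPrime → Good n q)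
    (q : Ideal (MvPolynomial (Fin (n + 1)) k)) (hq : q.IsPrime) (hq0 : q ≠ ⊥) :
    Good (n + 1) q := by
  obtain ⟨f, hfq, hf0⟩ := Submodule.exists_mem_ne_zero_of_ne_bot hq0
  obtain ⟨T, hT⟩ := exists_algEquiv_leadingCoeff_isUnit f hf0
  set θ : MvPolynomial (Fin n) k →ₐ[k] MvPolynomial (Fin (n + 1)) k :=
    T.symm.toAlgHom.comp incl with hθ
  have hprime : (q.comap θ).IsPrime := Ideal.comap_isPrime θ q
  obtain ⟨φ', τ, hτ, ι', hφ', hι', hmem', hinj'⟩ := ih (q.comap θ) hprime
  set φ : MvPolynomial (Fin (n + 1)) k →ₐ[k] MvPolynomial (Fin (n + 1)) k :=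
    aeval (Fin.cons f (fun j => θ (φ' (X j))) : Fin (n + 1) → MvPolynomial (Fin (n + 1)) k)
    with hφ
  have hφ0 : φ (X 0) = f := by simp [hφ]
  have hφs : ∀ j : Fin n, φ (X (Fin.succ j)) = θ (φ' (X j)) := by
    intro j
    simp [hφ]
  have hφincl : ∀ p : MvPolynomial (Fin n) k, φ (incl p) = θ (φ' p) := by
    have : φ.comp incl = θ.comp φ' := by
      apply MvPolynomial.algHom_ext
      intro j
      simp [incl, hφs]
    intro p
    exact AlgHom.congr_fun this p
  refine ⟨φ, τ, hτ, Fin.succ ∘ ι', ?_, (Fin.succ_injective n).comp hι', ?_, ?_⟩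
  · -- integrality
    have hdeg : 0 < (finSuccEquiv k n (T f)).natDegree := by
      by_contra h
      have h0 : (finSuccEquiv k n (T f)).natDegree = 0 := by omega
      have h1 : IsUnit (finSuccEquiv k n (T f)) := by
        rw [Polynomial.eq_C_of_natDegree_eq_zero h0]
        have : (finSuccEquiv k n (T f)).coeff 0 = (finSuccEquiv k n (T f)).leadingCoeff := by
          rw [Polynomial.leadingCoeff, h0]
        rw [this]
        exact hT.map Polynomial.C
      have h2 : IsUnit (T f) := by
        have := h1.map (finSuccEquiv k n).symm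
        rwa [AlgEquiv.symm_apply_apply] at this
      have h3 : IsUnit f := by
        have := h2.map T.symm
        rwa [AlgEquiv.symm_apply_apply] at this
      exact hq.ne_top (Ideal.eq_top_of_isUnit_mem _ hfq h3)
    have hfac : φ = (T.symm.toAlgHom.comp (substZero (T f))).comp (liftHom φ') := by
      apply MvPolynomial.algHom_ext
      intro i
      refine Fin.cases ?_ ?_ i
      · rw [hφ0]
        simp [liftHom_X_zero, substZero_X_zero]
      · intro j
        rw [hφs]
        simp [liftHom_X_succ, substZero_incl, hθ]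
    have h1 := liftHom_isIntegral φ' hφ'
    have h2 := substZero_isIntegral (T f) hT hdeg
    have h3 : T.symm.toAlgHom.toRingHom.IsIntegral :=
      RingHom.isIntegral_of_surjective _ T.symm.surjective
    rw [hfac]
    exact RingHom.IsIntegral.trans _ _ h1 (RingHom.IsIntegral.trans _ _ h2 h3)
  · intro j
    refine Fin.cases ?_ ?_ j
    · intro _
      rw [hφ0]
      exact hfq
    · intro j' hj'
      rw [hφs]
      have : j' ∉ Set.range ι' := by
        rintro ⟨t, rfl⟩
        exact hj' ⟨t, rfl⟩
      exact hmem' j' this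
  · intro P Q hPQ
    apply hinj'
    show Ideal.Quotient.mk (q.comap θ) (φ' (rename ι' P)) =
      Ideal.Quotient.mk (q.comap θ) (φ' (rename ι' Q))
    rw [Ideal.Quotient.eq, Ideal.mem_comap, map_sub, ← hφincl, ← hφincl]
    have h1 : Ideal.Quotient.mk q (φ (rename (Fin.succ ∘ ι') P)) =
      Ideal.Quotient.mk q (φ (rename (Fin.succ ∘ ι') Q)) := hPQ
    rw [Ideal.Quotient.eq, ← rename_rename, ← rename_rename] at h1
    exact h1

theorem good_all : ∀ (n : ℕ) (q : Ideal (MvPolynomial (Fin n) k)), q.IsPrime → Good n q := by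
  intro n
  induction n with
  | zero =>
    intro q hq
    exact good_bot 0 q (eq_bot_of_fin_zero q hq)
  | succ n ih =>
    intro q hq
    by_cases hq0 : q = ⊥
    · exact good_bot _ q hq0
    · exact good_step n ih q hq hq0

/-- transcendence degree count -/
theorem card_eq (n : ℕ) (q : Ideal (MvPolynomial (Fin n) k)) [hq : q.IsPrime]
    (φ : MvPolynomial (Fin n) k →ₐ[k] MvPolynomial (Fin n) k) (τ : Type) [Fintype τ]
    (ι : τ → Fin n) (hφ : φ.toRingHom.IsIntegral) (hι : Function.Injective ι)
    (hmem : ∀ j, j ∉ Set.range ι → φ (X j) ∈ q)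
    (hinj : Function.Injective
      (fun P : MvPolynomial τ k => Ideal.Quotient.mk q (φ (rename ι P)))) :
    Algebra.trdeg k q.ResidueField = (Fintype.card τ : Cardinal.{u}) := by
  classical
  let ψ : MvPolynomial τ k →ₐ[k] (MvPolynomial (Fin n) k ⧸ q) :=
    (Ideal.Quotient.mkₐ k q).comp (φ.comp (rename ι))
  have hψinj : Function.Injective ψ := hinj
  have hfac : (Ideal.Quotient.mkₐ k q).comp φ = ψ.comp (killCompl hι) := by
    apply MvPolynomial.algHom_ext
    intro j
    by_cases hj : j ∈ Set.range ι
    · obtain ⟨t, rfl⟩ := hj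
      have h1 : killCompl hι (X (ι t) : MvPolynomial (Fin n) k) = X t := by
        have := killCompl_rename_app hι (X t : MvPolynomial τ k)
        rwa [rename_X] at this
      simp only [AlgHom.comp_apply, h1, ψ, rename_X]
    · have h0 : killCompl hι (X j : MvPolynomial (Fin n) k) = 0 := by
        rw [killCompl, aeval_X, dif_neg hj]
      rw [AlgHom.comp_apply, AlgHom.comp_apply, h0, map_zero]
      exact Ideal.Quotient.eq_zero_iff_mem.mpr (hmem j hj)
  have hψint : ψ.toRingHom.IsIntegral := by
    have h1 : ((Ideal.Quotient.mkₐ k q).comp φ).toRingHom.IsIntegral :=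
      RingHom.IsIntegral.trans _ _ hφ
        (RingHom.isIntegral_of_surjective _ (Ideal.Quotient.mkₐ_surjective k q))
    rw [hfac] at h1
    exact RingHom.IsIntegral.tower_top _ _ h1
  letI : Algebra (MvPolynomial τ k) (MvPolynomial (Fin n) k ⧸ q) := ψ.toRingHom.toAlgebra
  haveI : IsScalarTower k (MvPolynomial τ k) (MvPolynomial (Fin n) k ⧸ q) :=
    IsScalarTower.of_algebraMap_eq (fun x => (ψ.commutes x).symm)
  haveI : Algebra.IsIntegral (MvPolynomial τ k) (MvPolynomial (Fin n) k ⧸ q) := ⟨hψint⟩
  haveI : FaithfulSMul (MvPolynomial τ k) (MvPolynomial (Fin n) k ⧸ q) :=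
    (faithfulSMul_iff_algebraMap_injective _ _).mpr hψinj
  have h1 : Algebra.trdeg (MvPolynomial τ k) (MvPolynomial (Fin n) k ⧸ q) = 0 :=
    trdeg_eq_zero
  have h2 := trdeg_add_eq k (MvPolynomial τ k) (A := MvPolynomial (Fin n) k ⧸ q)
  rw [h1, add_zero, MvPolynomial.trdeg_of_isDomain] at h2
  haveI : Algebra.IsAlgebraic (MvPolynomial (Fin n) k ⧸ q) q.ResidueField :=
    IsLocalization.isAlgebraic q.ResidueField (nonZeroDivisors (MvPolynomial (Fin n) k ⧸ q))
  have h3 : Algebra.trdeg (MvPolynomial (Fin n) k ⧸ q) q.ResidueField = 0 :=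
    trdeg_eq_zero
  have h4 := trdeg_add_eq k (MvPolynomial (Fin n) k ⧸ q) (A := q.ResidueField)
  rw [h3, add_zero] at h4
  rw [← h4, ← h2]
  simp

theorem sub_rename_killCompl_mem (n r : ℕ) (hrn : r ≤ n) (P : MvPolynomial (Fin n) k) :
    P - rename (Fin.castLE hrn) (killCompl (Fin.castLE_injective hrn) P) ∈
      Ideal.span (Set.range fun i : {i : Fin n // r ≤ (i : ℕ)} =>
        (X (i : Fin n) : MvPolynomial (Fin n) k)) := by
  classical
  set J := Ideal.span (Set.range fun i : {i : Fin n // r ≤ (i : ℕ)} =>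
        (X (i : Fin n) : MvPolynomial (Fin n) k)) with hJ
  have hfac : (Ideal.Quotient.mkₐ k J) = (Ideal.Quotient.mkₐ k J).comp
      ((rename (Fin.castLE hrn)).comp (killCompl (Fin.castLE_injective hrn))) := by
    apply MvPolynomial.algHom_ext
    intro j
    by_cases hj : j ∈ Set.range (Fin.castLE hrn)
    · obtain ⟨t, rfl⟩ := hj
      have h1 : killCompl (Fin.castLE_injective hrn)
          (X (Fin.castLE hrn t) : MvPolynomial (Fin n) k) = X t := by
        have := killCompl_rename_app (Fin.castLE_injective hrn) (X t : MvPolynomial (Fin r) k)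
        rwa [rename_X] at this
      simp only [AlgHom.comp_apply, h1, rename_X]
    · have h0 : killCompl (Fin.castLE_injective hrn) (X j : MvPolynomial (Fin n) k) = 0 := by
        rw [killCompl, aeval_X, dif_neg hj]
      rw [AlgHom.comp_apply, AlgHom.comp_apply, h0, map_zero, map_zero]
      have hrj : r ≤ (j : ℕ) := by
        by_contra h
        apply hj
        exact ⟨⟨j, by omega⟩, by ext; simp⟩
      exact Ideal.Quotient.eq_zero_iff_mem.mpr (Ideal.subset_span ⟨⟨j, hrj⟩, rfl⟩)
  have h := AlgHom.congr_fun hfac P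
  exact Ideal.Quotient.eq.mp h

end helpers

/-- Let `k` be a field, `𝔮` a prime of `k[x_1, …, x_n]` and `r` the transcendence degree of `κ(𝔮)` over
`k`. Then there is a finite `k`-algebra map `φ : k[y_1, …, y_n] → k[x_1, …, x_n]` with `φ⁻¹(𝔮) =
(y_{r+1}, …, y_n)`. -/
theorem result {k : Type u} [Field k] (n r : ℕ) (q : Ideal (MvPolynomial (Fin n) k))
    [q.IsPrime] (hr : Algebra.trdeg k q.ResidueField = r) :
    ∃ φ : MvPolynomial (Fin n) k →ₐ[k] MvPolynomial (Fin n) k, φ.toRingHom.Finite ∧
      q.comap φ = Ideal.span (Set.range fun i : {i : Fin n // r ≤ (i : ℕ)} => MvPolynomial.X (i : Fin n)) := by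
  classical
  obtain ⟨φ, τ, hτ, ι, hφ, hι, hmem, hinj⟩ := good_all n q inferInstance
  have hcard := card_eq n q φ τ ι hφ hι hmem hinj
  rw [hr] at hcard
  have hcard' : Fintype.card τ = r := by exact_mod_cast hcard.symm
  have hrn : r ≤ n := by
    rw [← hcard']
    simpa using Fintype.card_le_of_injective ι hι
  let e₁ : τ ≃ Fin r := Fintype.equivFinOfCardEq hcard'
  let ι₁ : Fin r → Fin n := ι ∘ e₁.symm
  have hι₁ : Function.Injective ι₁ := hι.comp e₁.symm.injective
  have hrange : Set.range ι₁ = Set.range ι := e₁.symm.surjective.range_comp ι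
  let e₂ : {i : Fin n // (i : ℕ) < r} ≃ {j : Fin n // j ∈ Set.range ι₁} :=
    (Fin.castLEquiv hrn).symm.trans (Equiv.ofInjective ι₁ hι₁)
  let π : Equiv.Perm (Fin n) := e₂.extendSubtype
  have hπ1 : ∀ i : Fin r, π (Fin.castLE hrn i) = ι₁ i := by
    intro i
    have h := Equiv.extendSubtype_apply_of_mem e₂ (Fin.castLE hrn i) (by simp)
    show e₂.extendSubtype (Fin.castLE hrn i) = ι₁ i
    rw [h]
    simp [e₂]
  have hπ2 : ∀ i : Fin n, r ≤ (i : ℕ) → π i ∉ Set.range ι := by
    intro i hi
    rw [← hrange]
    exact Equiv.extendSubtype_not_mem e₂ i (not_lt.mpr hi)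
  let φf : MvPolynomial (Fin n) k →ₐ[k] MvPolynomial (Fin n) k :=
    φ.comp (MvPolynomial.rename π)
  have hφf : φf.toRingHom.IsIntegral :=
    RingHom.IsIntegral.trans _ _
      (RingHom.isIntegral_of_surjective _ (MvPolynomial.rename_surjective _ π.surjective)) hφ
  have hXmem : ∀ i : {i : Fin n // r ≤ (i : ℕ)}, φf (MvPolynomial.X (i : Fin n)) ∈ q := by
    intro i
    show φ (MvPolynomial.rename π (MvPolynomial.X (i : Fin n))) ∈ q
    rw [MvPolynomial.rename_X]
    exact hmem _ (hπ2 i.1 i.2)
  refine ⟨φf, ?_, ?_⟩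
  · apply RingHom.IsIntegral.to_finite hφf
    have h : (algebraMap k (MvPolynomial (Fin n) k)) =
        φf.toRingHom.comp (algebraMap k (MvPolynomial (Fin n) k)) := by
      apply RingHom.ext
      intro x
      exact (φf.commutes x).symm
    have hft : (algebraMap k (MvPolynomial (Fin n) k)).FiniteType :=
      RingHom.finiteType_algebraMap.mpr inferInstance
    rw [h] at hft
    exact hft.of_comp_finiteType
  · apply le_antisymm
    · intro P hP
      have hP' : φf P ∈ q := hP
      have hsub := sub_rename_killCompl_mem (k := k) n r hrn P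
      have hle : Ideal.span (Set.range fun i : {i : Fin n // r ≤ (i : ℕ)} =>
          (MvPolynomial.X (i : Fin n) : MvPolynomial (Fin n) k)) ≤ q.comap φf := by
        rw [Ideal.span_le]
        rintro _ ⟨i, rfl⟩
        exact hXmem i
      have h1 : φf (MvPolynomial.rename (Fin.castLE hrn)
          (MvPolynomial.killCompl (Fin.castLE_injective hrn) P)) ∈ q := by
        have h0 : φf (MvPolynomial.rename (Fin.castLE hrn)
            (MvPolynomial.killCompl (Fin.castLE_injective hrn) P)) =
            φf P - φf (P - MvPolynomial.rename (Fin.castLE hrn)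
              (MvPolynomial.killCompl (Fin.castLE_injective hrn) P)) := by
          rw [map_sub]
          ring
        rw [h0]
        exact q.sub_mem hP' (hle hsub)
      have h2 : φf (MvPolynomial.rename (Fin.castLE hrn)
          (MvPolynomial.killCompl (Fin.castLE_injective hrn) P)) =
          φ (MvPolynomial.rename ι (MvPolynomial.rename e₁.symm
            (MvPolynomial.killCompl (Fin.castLE_injective hrn) P))) := by
        show φ (MvPolynomial.rename π (MvPolynomial.rename (Fin.castLE hrn) _)) = _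
        rw [MvPolynomial.rename_rename, MvPolynomial.rename_rename]
        have : (⇑π ∘ Fin.castLE hrn) = ι ∘ ⇑e₁.symm := by
          funext i
          exact hπ1 i
        rw [this]
      have h3 : MvPolynomial.rename e₁.symm
          (MvPolynomial.killCompl (Fin.castLE_injective hrn) P) = 0 := by
        apply hinj
        show Ideal.Quotient.mk q (φ (MvPolynomial.rename ι (MvPolynomial.rename e₁.symm
            (MvPolynomial.killCompl (Fin.castLE_injective hrn) P)))) =
          Ideal.Quotient.mk q (φ (MvPolynomial.rename ι 0))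
        rw [map_zero, map_zero, map_zero, ← h2]
        exact Ideal.Quotient.eq_zero_iff_mem.mpr h1
      have h4 : MvPolynomial.killCompl (Fin.castLE_injective hrn) P = 0 :=
        MvPolynomial.rename_injective _ e₁.symm.injective (by rw [h3, map_zero])
      rw [h4, map_zero, sub_zero] at hsub
      exact hsub
    · rw [Ideal.span_le]
      rintro _ ⟨i, rfl⟩
      exact hXmem i

end Groth.Agent.S2100
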