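import Groth.Statements.S2104
import Mathlib
import Groth.Agent.S5802
import Groth.Agent.Lib.Helper11.QReg
-- import your own Groth.Agent.* helpers here

set_option autoImplicit false
universe u
open CAlg

namespace Groth.Agent.S2104

section helpers
open MvPolynomial Groth.Agent.S5802

variable {A : Type u} [CommRing A]

/-- monomial value -/
def mv {c : ℕ} (f : Fin c → A) (N : Fin c →₀ ℕ) : A := ∏ i, f i ^ N i

theorem eval_monomial' {c : ℕ} (f : Fin c → A) (N : Fin c →₀ ℕ) (a : A) :
    eval f (monomial N a) = a * mv f N := by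
  rw [eval_monomial, Finsupp.prod_fintype]
  · rfl
  · intro i; exact pow_zero _

theorem eval_eq_mv {c : ℕ} (f : Fin c → A) (P : MvPolynomial (Fin c) A) :
    eval f P = ∑ D ∈ P.support, coeff D P * mv f D := eval_eq' f P

theorem mv_mem_pow {c : ℕ} (f : Fin c → A) (N : Fin c →₀ ℕ) :
    mv f N ∈ Ideal.span (Set.range f) ^ N.degree := by
  rw [Finsupp.degree_eq_sum, ← Finset.prod_pow_eq_pow_sum]
  exact Ideal.prod_mem_prod fun i _ => Ideal.pow_mem_pow (Ideal.subset_span (Set.mem_range_self i)) _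

theorem eval_mem_pow {c : ℕ} (f : Fin c → A) {k : ℕ} {P : MvPolynomial (Fin c) A}
    (hP : P.IsHomogeneous k) : eval f P ∈ Ideal.span (Set.range f) ^ k := by
  rw [eval_eq_mv]
  refine Ideal.sum_mem _ fun D hD => Ideal.mul_mem_left _ _ ?_
  have := mv_mem_pow f D
  rwa [degree_of_coeff_ne hP (mem_support_iff.mp hD)] at this

theorem span_range_map' {c : ℕ} (f : Fin c → A) {B : Type*} [CommRing B] (ψ : A →+* B) :
    Ideal.span (Set.range fun i => ψ (f i)) = (Ideal.span (Set.range f)).map ψ := by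
  rw [Ideal.map_span, ← Set.range_comp]
  rfl

/-- `g` is `H_1`-regular modulo `K`, matrix form -/
def H1Mod {m : ℕ} (g : Fin m → A) (K : Ideal A) : Prop :=
  ∀ a : Fin m → A, ∑ j, a j * g j ∈ K →
    ∃ b : Fin m → Fin m → A, ∀ j, a j - ∑ k, (b j k - b k j) * g k ∈ K

theorem skew_sum_zero {m : ℕ} (g : Fin m → A) (b : Fin m → Fin m → A) :
    ∑ j, (∑ k, (b j k - b k j) * g k) * g j = 0 := by
  have h1 : ∑ j, (∑ k, (b j k - b k j) * g k) * g j =
      ∑ j, ∑ k, b j k * (g k * g j) - ∑ j, ∑ k, b k j * (g k * g j) := by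
    rw [← Finset.sum_sub_distrib]
    refine Finset.sum_congr rfl fun j _ => ?_
    rw [Finset.sum_mul, ← Finset.sum_sub_distrib]
    refine Finset.sum_congr rfl fun k _ => by ring
  have h2 : ∑ j, ∑ k, b k j * (g k * g j) = ∑ j, ∑ k, b j k * (g k * g j) := by
    rw [Finset.sum_comm]
    refine Finset.sum_congr rfl fun j _ => Finset.sum_congr rfl fun k _ => by ring
  rw [h1, h2, sub_self]

theorem h1Mod_of_quotient {m : ℕ} (g : Fin m → A) (K : Ideal A)
    (hg : CAlgX.IsH1Regular (fun j => Ideal.Quotient.mk K (g j))) : H1Mod g K := by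
  intro a ha
  have hrel : ∑ j, Ideal.Quotient.mk K (a j) * Ideal.Quotient.mk K (g j) = 0 := by
    rw [← Ideal.Quotient.eq_zero_iff_mem, map_sum] at ha
    simpa [map_mul] using ha
  obtain ⟨b, hb⟩ := Groth.Agent.Lib.Helper11.QReg.exists_matrix_of_relation _ hg
    (fun j => Ideal.Quotient.mk K (a j)) hrel
  have hlift : ∀ j k, ∃ c : A, Ideal.Quotient.mk K c = b j k :=
    fun j k => Ideal.Quotient.mk_surjective _
  choose c hc using hlift
  refine ⟨c, fun j => ?_⟩
  have hbj : Ideal.Quotient.mk K (a j) = ∑ k, (b j k - b k j) * Ideal.Quotient.mk K (g k) := hb j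
  rw [← Ideal.Quotient.eq_zero_iff_mem, map_sub, map_sum, hbj, sub_eq_zero]
  refine Finset.sum_congr rfl fun k _ => ?_
  rw [map_mul, map_sub, hc, hc]

theorem isH1Regular_quotient_of_h1Mod {m : ℕ} (g : Fin m → A) (K : Ideal A) (h : H1Mod g K) :
    CAlgX.IsH1Regular (fun j => Ideal.Quotient.mk K (g j)) := by
  classical
  intro a ha
  have hlift : ∀ j, ∃ c : A, Ideal.Quotient.mk K c = a j := fun j => Ideal.Quotient.mk_surjective _
  choose a' ha' using hlift
  have hrel : ∑ j, a' j * g j ∈ K := by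
    rw [← Ideal.Quotient.eq_zero_iff_mem, map_sum, ← ha]
    refine Finset.sum_congr rfl fun j _ => ?_
    rw [map_mul, ha']
  obtain ⟨b, hb⟩ := h a' hrel
  have hform : a = ∑ j, ∑ k, Ideal.Quotient.mk K (b j k) •
      (Pi.single j (Ideal.Quotient.mk K (g k)) - Pi.single k (Ideal.Quotient.mk K (g j)) :
        Fin m → A ⧸ K) := by
    funext l
    have h1 := hb l
    rw [← Ideal.Quotient.eq_zero_iff_mem, map_sub, sub_eq_zero, ha' l] at h1
    rw [h1, map_sum]
    simp only [Finset.sum_apply, Pi.smul_apply, Pi.sub_apply, Pi.single_apply, smul_eq_mul]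
    have e1 : ∀ j, ∑ k, Ideal.Quotient.mk K (b j k) *
        ((if l = j then Ideal.Quotient.mk K (g k) else 0) -
          (if l = k then Ideal.Quotient.mk K (g j) else 0)) =
        (if l = j then ∑ k, Ideal.Quotient.mk K (b j k) * Ideal.Quotient.mk K (g k) else 0) -
          Ideal.Quotient.mk K (b j l) * Ideal.Quotient.mk K (g j) := by
      intro j
      simp only [mul_sub, Finset.sum_sub_distrib, mul_ite, mul_zero]
      congr 1
      · split_ifs with hlj
        · rfl
        · exact Finset.sum_const_zero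
      · rw [Finset.sum_ite_eq]
        simp
    simp only [e1]
    rw [Finset.sum_sub_distrib, Finset.sum_ite_eq]
    simp only [Finset.mem_univ, if_true]
    rw [← Finset.sum_sub_distrib]
    refine Finset.sum_congr rfl fun k _ => ?_
    rw [map_mul, map_sub, sub_mul]
  rw [hform]
  exact Submodule.sum_mem _ fun j _ => Submodule.sum_mem _ fun k _ =>
    Submodule.smul_mem _ _ (Submodule.subset_span ⟨j, k, rfl⟩)

theorem h1Mod_pow {n m : ℕ} (f : Fin n → A) (g : Fin m → A) (hf : CAlgX.IsQuasiRegular f)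
    (hbase : H1Mod g (Ideal.span (Set.range f))) :
    ∀ d : ℕ, H1Mod g (Ideal.span (Set.range f) ^ d) := by
  classical
  intro d
  induction d with
  | zero =>
    intro a _
    exact ⟨fun _ _ => 0, fun j => by rw [pow_zero, Ideal.one_eq_top]; trivial⟩
  | succ d ih =>
    intro a ha
    obtain ⟨b, hb⟩ := ih a (Ideal.pow_le_pow_right (Nat.le_succ d) ha)
    have hr : ∀ j, ∃ R : MvPolynomial (Fin n) A, R.IsHomogeneous d ∧
        eval f R = a j - ∑ k, (b j k - b k j) * g k :=
      fun j => Groth.Agent.Lib.Helper11.QReg.exists_homogeneous_of_mem_pow f d _ (hb j)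
    choose R hRh hRe using hr
    have hskew := skew_sum_zero g b
    have hsum : eval f (∑ j, C (g j) * R j) ∈ Ideal.span (Set.range f) ^ (d + 1) := by
      rw [map_sum]
      have : ∑ j, eval f (C (g j) * R j) = ∑ j, a j * g j := by
        calc ∑ j, eval f (C (g j) * R j)
            = ∑ j, (a j - ∑ k, (b j k - b k j) * g k) * g j := by
              refine Finset.sum_congr rfl fun j _ => ?_
              rw [map_mul, eval_C, hRe, mul_comm]
          _ = ∑ j, a j * g j - ∑ j, (∑ k, (b j k - b k j) * g k) * g j := by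
              rw [← Finset.sum_sub_distrib]
              refine Finset.sum_congr rfl fun j _ => by ring
          _ = ∑ j, a j * g j := by rw [hskew, sub_zero]
      rw [this]
      exact ha
    have hhom : (∑ j, C (g j) * R j).IsHomogeneous d := by
      apply IsHomogeneous.sum
      intro j _
      have := (isHomogeneous_C (Fin n) (g j)).mul (hRh j)
      rwa [zero_add] at this
    have hcoef := hf d _ hhom hsum
    have hN : ∀ N : Fin n →₀ ℕ, ∑ j, coeff N (R j) * g j ∈ Ideal.span (Set.range f) := by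
      intro N
      have := hcoef N
      rw [coeff_sum] at this
      convert this using 1
      refine Finset.sum_congr rfl fun j _ => ?_
      rw [coeff_C_mul, mul_comm]
    have hbN : ∀ N, ∃ b' : Fin m → Fin m → A, ∀ j,
        coeff N (R j) - ∑ k, (b' j k - b' k j) * g k ∈ Ideal.span (Set.range f) :=
      fun N => hbase _ (hN N)
    choose b' hb' using hbN
    obtain ⟨S, hS⟩ : ∃ S : Finset (Fin n →₀ ℕ),
        S = Finset.univ.biUnion fun j => (R j).support := ⟨_, rfl⟩
    have hSdeg : ∀ N ∈ S, N.degree = d := by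
      intro N hN
      rw [hS, Finset.mem_biUnion] at hN
      obtain ⟨j, _, hj⟩ := hN
      exact degree_of_coeff_ne (hRh j) (mem_support_iff.mp hj)
    refine ⟨fun j k => b j k + ∑ N ∈ S, mv f N * b' N j k, fun j => ?_⟩
    have hRS : eval f (R j) = ∑ N ∈ S, coeff N (R j) * mv f N := by
      rw [eval_eq_mv]
      refine Finset.sum_subset ?_ ?_
      · intro N hN
        rw [hS]
        exact Finset.mem_biUnion.mpr ⟨j, Finset.mem_univ _, hN⟩
      · intro N _ hN
        rw [notMem_support_iff.mp hN, zero_mul]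
    have h1 : ∀ k, ((b j k + ∑ N ∈ S, mv f N * b' N j k) -
        (b k j + ∑ N ∈ S, mv f N * b' N k j)) * g k
        = (b j k - b k j) * g k + ∑ N ∈ S, mv f N * ((b' N j k - b' N k j) * g k) := by
      intro k
      have : ∑ N ∈ S, mv f N * ((b' N j k - b' N k j) * g k) =
          (∑ N ∈ S, mv f N * b' N j k - ∑ N ∈ S, mv f N * b' N k j) * g k := by
        rw [← Finset.sum_sub_distrib, Finset.sum_mul]
        refine Finset.sum_congr rfl fun N _ => by ring
      rw [this]
      ring
    have hexp : a j - ∑ k, ((b j k + ∑ N ∈ S, mv f N * b' N j k) -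
        (b k j + ∑ N ∈ S, mv f N * b' N k j)) * g k
        = ∑ N ∈ S, mv f N * (coeff N (R j) - ∑ k, (b' N j k - b' N k j) * g k) := by
      rw [Finset.sum_congr rfl (fun k _ => h1 k), Finset.sum_add_distrib, Finset.sum_comm,
        ← sub_sub, ← hRe j, hRS, ← Finset.sum_sub_distrib]
      refine Finset.sum_congr rfl fun N _ => ?_
      rw [← Finset.mul_sum]
      ring
    show a j - ∑ k, ((b j k + ∑ N ∈ S, mv f N * b' N j k) -
        (b k j + ∑ N ∈ S, mv f N * b' N k j)) * g k ∈ _
    rw [hexp]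
    refine Ideal.sum_mem _ fun N hNS => ?_
    rw [pow_succ]
    refine Ideal.mul_mem_mul ?_ (hb' N j)
    have := mv_mem_pow f N
    rwa [hSdeg N hNS] at this

/-- quasi-regularity of `g` modulo `K`, pulled back to `A` -/
theorem qr_mod {m : ℕ} (g : Fin m → A) (K : Ideal A)
    (hq : CAlgX.IsQuasiRegular (fun j => Ideal.Quotient.mk K (g j)))
    (e : ℕ) (R : MvPolynomial (Fin m) A) (hR : R.IsHomogeneous e)
    (hx : eval g R ∈ Ideal.span (Set.range g) ^ (e + 1) ⊔ K) (M : Fin m →₀ ℕ) :
    coeff M R ∈ Ideal.span (Set.range g) ⊔ K := by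
  have hev : eval (fun j => Ideal.Quotient.mk K (g j)) (map (Ideal.Quotient.mk K) R) =
      Ideal.Quotient.mk K (eval g R) := by
    rw [eval_map, eval₂_comp]
    rfl
  have h1 := hq e (map (Ideal.Quotient.mk K) R) (hR.map _) (by
    rw [span_range_map' g (Ideal.Quotient.mk K), ← Ideal.map_pow, hev]
    exact Ideal.mem_quotient_iff_mem_sup.mpr hx) M
  rw [coeff_map, span_range_map' g (Ideal.Quotient.mk K)] at h1
  exact Ideal.mem_quotient_iff_mem_sup.mp h1

variable {n m : ℕ}

noncomputable def NN (D : Fin (n + m) →₀ ℕ) : Fin n →₀ ℕ :=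
  Finsupp.equivFunOnFinite.symm fun i => D (Fin.castAdd m i)

noncomputable def MM (D : Fin (n + m) →₀ ℕ) : Fin m →₀ ℕ :=
  Finsupp.equivFunOnFinite.symm fun j => D (Fin.natAdd n j)

@[simp] theorem NN_apply (D : Fin (n + m) →₀ ℕ) (i : Fin n) : NN D i = D (Fin.castAdd m i) := rfl

@[simp] theorem MM_apply (D : Fin (n + m) →₀ ℕ) (j : Fin m) : MM D j = D (Fin.natAdd n j) := rfl

theorem NM_inj {D D' : Fin (n + m) →₀ ℕ} (h1 : NN D = NN D') (h2 : MM D = MM D') : D = D' := by
  ext x
  refine Fin.addCases (fun i => ?_) (fun j => ?_) x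
  · have := DFunLike.congr_fun h1 i
    simpa using this
  · have := DFunLike.congr_fun h2 j
    simpa using this

theorem degree_NM (D : Fin (n + m) →₀ ℕ) : D.degree = (NN D).degree + (MM D).degree := by
  rw [Finsupp.degree_eq_sum, Finsupp.degree_eq_sum, Finsupp.degree_eq_sum, Fin.sum_univ_add]
  simp

theorem mv_append (f : Fin n → A) (g : Fin m → A) (D : Fin (n + m) →₀ ℕ) :
    mv (Fin.append f g) D = mv f (NN D) * mv g (MM D) := by
  unfold mv
  rw [Fin.prod_univ_add]
  simp

theorem span_append (f : Fin n → A) (g : Fin m → A) :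
    Ideal.span (Set.range (Fin.append f g)) =
      Ideal.span (Set.range f) ⊔ Ideal.span (Set.range g) := by
  rw [← Ideal.span_union]
  congr 1
  ext x
  constructor
  · rintro ⟨i, rfl⟩
    refine Fin.addCases (fun i => ?_) (fun j => ?_) i
    · left; exact ⟨i, by simp⟩
    · right; exact ⟨j, by simp⟩
  · rintro (⟨i, rfl⟩ | ⟨j, rfl⟩)
    · exact ⟨Fin.castAdd m i, by simp⟩
    · exact ⟨Fin.natAdd n j, by simp⟩

/-- a monomial term of bidegree `(≥ a+1, *)` or `(*, ≥ b+1)` lies in `I^(a+1) ⊔ G^(b+1)` -/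
theorem term_mem (f : Fin n → A) (g : Fin m → A) (D : Fin (n + m) →₀ ℕ) (a b : ℕ)
    (h : a + 1 ≤ (NN D).degree ∨ b + 1 ≤ (MM D).degree) (c : A) :
    c * mv (Fin.append f g) D ∈
      Ideal.span (Set.range g) ^ (b + 1) ⊔ Ideal.span (Set.range f) ^ (a + 1) := by
  rw [mv_append]
  rcases h with h | h
  · refine Ideal.mem_sup_right ?_
    refine Ideal.mul_mem_left _ _ (Ideal.mul_mem_right _ _ ?_)
    exact Ideal.pow_le_pow_right h (mv_mem_pow f (NN D))
  · refine Ideal.mem_sup_left ?_
    refine Ideal.mul_mem_left _ _ (Ideal.mul_mem_left _ _ ?_)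
    exact Ideal.pow_le_pow_right h (mv_mem_pow g (MM D))

theorem pow_mem_sup (f : Fin n → A) (g : Fin m → A) (a b : ℕ) (y : A)
    (hy : y ∈ Ideal.span (Set.range (Fin.append f g)) ^ (a + b + 1)) :
    y ∈ Ideal.span (Set.range g) ^ (b + 1) ⊔ Ideal.span (Set.range f) ^ (a + 1) := by
  obtain ⟨H, hH, rfl⟩ :=
    Groth.Agent.Lib.Helper11.QReg.exists_homogeneous_of_mem_pow (Fin.append f g) _ y hy
  rw [eval_eq_mv]
  refine Ideal.sum_mem _ fun D hD => term_mem f g D a b ?_ _
  have h1 := degree_of_coeff_ne hH (mem_support_iff.mp hD)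
  rw [degree_NM] at h1
  omega

theorem main (f : Fin n → A) (g : Fin m → A) (hf : CAlgX.IsQuasiRegular f)
    (hH : ∀ k, H1Mod g (Ideal.span (Set.range f) ^ k))
    (hQ : ∀ k, CAlgX.IsQuasiRegular
      (fun j => Ideal.Quotient.mk (Ideal.span (Set.range f) ^ k) (g j)))
    (d' e : ℕ) (P : MvPolynomial (Fin (n + m)) A) (hP : P.IsHomogeneous (d' + e))
    (hx : eval (Fin.append f g) P ∈ Ideal.span (Set.range (Fin.append f g)) ^ (d' + e + 1))
    (D₀ : Fin (n + m) →₀ ℕ) (hD₀ : D₀ ∈ P.support) (hN₀ : (NN D₀).degree = d')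
    (hM₀ : (MM D₀).degree = e) :
    coeff D₀ P ∈ Ideal.span (Set.range (Fin.append f g)) := by
  classical
  have hdeg : ∀ D ∈ P.support, (NN D).degree + (MM D).degree = d' + e := by
    intro D hD
    rw [← degree_NM]
    exact degree_of_coeff_ne hP (mem_support_iff.mp hD)
  -- Step 1: the `e`-part
  obtain ⟨R, hRdef⟩ : ∃ R : MvPolynomial (Fin m) A,
      R = ∑ D ∈ P.support.filter (fun D => (MM D).degree = e),
        monomial (MM D) (coeff D P * mv f (NN D)) := ⟨_, rfl⟩
  have hRhom : R.IsHomogeneous e := by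
    rw [hRdef]
    apply IsHomogeneous.sum
    intro D hD
    exact isHomogeneous_monomial _ (Finset.mem_filter.mp hD).2
  have hRev : eval g R = ∑ D ∈ P.support.filter (fun D => (MM D).degree = e),
      coeff D P * mv (Fin.append f g) D := by
    rw [hRdef, map_sum]
    refine Finset.sum_congr rfl fun D _ => ?_
    rw [eval_monomial', mv_append, mul_assoc]
  have hRx : eval g R ∈ Ideal.span (Set.range g) ^ (e + 1) ⊔
      Ideal.span (Set.range f) ^ (d' + 1) := by
    have hsplit : eval (Fin.append f g) P = eval g R +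
        ∑ D ∈ P.support.filter (fun D => ¬ (MM D).degree = e),
          coeff D P * mv (Fin.append f g) D := by
      rw [hRev, eval_eq_mv, Finset.sum_filter_add_sum_filter_not]
    have h1 := pow_mem_sup f g d' e _ hx
    have h2 : ∑ D ∈ P.support.filter (fun D => ¬ (MM D).degree = e),
        coeff D P * mv (Fin.append f g) D ∈ Ideal.span (Set.range g) ^ (e + 1) ⊔
          Ideal.span (Set.range f) ^ (d' + 1) := by
      refine Ideal.sum_mem _ fun D hD => term_mem f g D d' e ?_ _
      obtain ⟨hD1, hD2⟩ := Finset.mem_filter.mp hD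
      have := hdeg D hD1
      omega
    have h3 : eval g R = eval (Fin.append f g) P -
        ∑ D ∈ P.support.filter (fun D => ¬ (MM D).degree = e),
          coeff D P * mv (Fin.append f g) D := by
      rw [hsplit]; ring
    rw [h3]
    exact Ideal.sub_mem _ h1 h2
  -- Step 2
  have hcoefR := qr_mod g _ (hQ (d' + 1)) e R hRhom hRx (MM D₀)
  obtain ⟨B, hBdef⟩ : ∃ B : MvPolynomial (Fin n) A,
      B = ∑ D ∈ P.support.filter (fun D => MM D = MM D₀), monomial (NN D) (coeff D P) :=
    ⟨_, rfl⟩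
  have hBhom : B.IsHomogeneous d' := by
    rw [hBdef]
    apply IsHomogeneous.sum
    intro D hD
    obtain ⟨hD1, hD2⟩ := Finset.mem_filter.mp hD
    refine isHomogeneous_monomial _ ?_
    have := hdeg D hD1
    rw [hD2, hM₀] at this
    omega
  have hBev : eval f B = coeff (MM D₀) R := by
    rw [hBdef, hRdef, map_sum, coeff_sum]
    simp only [eval_monomial', coeff_monomial]
    rw [← Finset.sum_filter]
    refine Finset.sum_congr ?_ fun D _ => rfl
    ext D
    simp only [Finset.mem_filter]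
    constructor
    · rintro ⟨h1, h2⟩
      exact ⟨⟨h1, by rw [h2, hM₀]⟩, h2⟩
    · rintro ⟨⟨h1, _⟩, h2⟩
      exact ⟨h1, h2⟩
  have hBcoeff : coeff (NN D₀) B = coeff D₀ P := by
    rw [hBdef, coeff_sum]
    simp only [coeff_monomial]
    rw [Finset.sum_eq_single D₀]
    · rw [if_pos rfl]
    · intro D hD hne
      rw [if_neg]
      intro hN
      exact hne (NM_inj hN (Finset.mem_filter.mp hD).2)
    · intro hnot
      exact absurd (show D₀ ∈ P.support.filter (fun D => MM D = MM D₀) from
        Finset.mem_filter.mpr ⟨hD₀, rfl⟩) hnot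
  -- Step 3
  rw [← hBev] at hcoefR
  obtain ⟨γ, hγ, ι, hι, hsum⟩ := Submodule.mem_sup.mp hcoefR
  obtain ⟨c, hc⟩ := Ideal.mem_span_range_iff_exists_fun.mp hγ
  have hBpow : eval f B ∈ Ideal.span (Set.range f) ^ d' := eval_mem_pow f hBhom
  have hrel : ∑ j, c j * g j ∈ Ideal.span (Set.range f) ^ d' := by
    rw [hc]
    have : γ = eval f B - ι := by rw [← hsum]; ring
    rw [this]
    exact Ideal.sub_mem _ hBpow (Ideal.pow_le_pow_right (Nat.le_succ d') hι)
  obtain ⟨b, hb⟩ := hH d' c hrel
  have hκ : ∀ j, ∃ K : MvPolynomial (Fin n) A, K.IsHomogeneous d' ∧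
      eval f K = c j - ∑ k, (b j k - b k j) * g k :=
    fun j => Groth.Agent.Lib.Helper11.QReg.exists_homogeneous_of_mem_pow f d' _ (hb j)
  choose K hKh hKe using hκ
  have hγ' : γ = ∑ j, g j * eval f (K j) := by
    rw [← hc]
    have h1 : ∑ j, g j * eval f (K j) =
        ∑ j, c j * g j - ∑ j, (∑ k, (b j k - b k j) * g k) * g j := by
      rw [← Finset.sum_sub_distrib]
      refine Finset.sum_congr rfl fun j _ => ?_
      rw [hKe]; ring
    rw [h1, skew_sum_zero, sub_zero]
  -- Step 4
  have hQhom : (B - ∑ j, C (g j) * K j).IsHomogeneous d' := by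
    refine (homogeneousSubmodule (Fin n) A d').sub_mem hBhom ?_
    refine (homogeneousSubmodule (Fin n) A d').sum_mem fun j _ => ?_
    have := (isHomogeneous_C (Fin n) (g j)).mul (hKh j)
    rwa [zero_add] at this
  have hQev : eval f (B - ∑ j, C (g j) * K j) ∈ Ideal.span (Set.range f) ^ (d' + 1) := by
    have : eval f (B - ∑ j, C (g j) * K j) = ι := by
      rw [map_sub, map_sum, ← hsum, hγ']
      simp only [map_mul, eval_C]
      ring
    rw [this]
    exact hι
  have h4 := hf d' _ hQhom hQev (NN D₀)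
  rw [coeff_sub, hBcoeff, coeff_sum] at h4
  rw [span_append]
  have h5 : coeff D₀ P = (coeff D₀ P - ∑ j, coeff (NN D₀) (C (g j) * K j)) +
      ∑ j, coeff (NN D₀) (C (g j) * K j) := by ring
  rw [h5]
  refine Ideal.add_mem _ (Ideal.mem_sup_left h4) (Ideal.mem_sup_right ?_)
  refine Ideal.sum_mem _ fun j _ => ?_
  rw [coeff_C_mul]
  exact Ideal.mul_mem_right _ _ (Ideal.subset_span ⟨j, rfl⟩)

end helpers

/-- Appending to a quasi-regular sequence `f` a sequence `g` whose image modulo the ideal `(f)` is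
`H_1`-regular yields a quasi-regular sequence. -/
theorem result {A : Type u} [CommRing A] {n m : ℕ} (f : Fin n → A)
    (g : Fin m → A) (hf : CAlgX.IsQuasiRegular f)
    (hg : CAlgX.IsH1Regular (fun j => Ideal.Quotient.mk (Ideal.span (Set.range f)) (g j))) :
    CAlgX.IsQuasiRegular (Fin.append f g) := by
  classical
  have hH : ∀ k, H1Mod g (Ideal.span (Set.range f) ^ k) :=
    h1Mod_pow f g hf (h1Mod_of_quotient g _ hg)
  have hQ : ∀ k, CAlgX.IsQuasiRegular
      (fun j => Ideal.Quotient.mk (Ideal.span (Set.range f) ^ k) (g j)) := fun k =>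
    Groth.Agent.Lib.Helper11.QReg.isQuasiRegular_of_isH1Regular _
      (isH1Regular_quotient_of_h1Mod g _ (hH k))
  intro d P hP hx D₀
  by_cases hD₀ : D₀ ∈ P.support
  · have hdeg : D₀.degree = d :=
      Groth.Agent.S5802.degree_of_coeff_ne hP (MvPolynomial.mem_support_iff.mp hD₀)
    rw [degree_NM] at hdeg
    subst hdeg
    exact main f g hf hH hQ _ _ P hP hx D₀ hD₀ rfl rfl
  · rw [MvPolynomial.notMem_support_iff.mp hD₀]
    exact Ideal.zero_mem _

end Groth.Agent.S2104
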