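import Groth.Statements.S2105
import Mathlib

set_option autoImplicit false
universe u
open CAlg

namespace Groth.Agent.S2105

/-- Appending to an `H_1`-regular sequence `f` a sequence `g` whose image modulo the ideal `(f)` is
`H_1`-regular yields an `H_1`-regular sequence. -/
theorem result {A : Type u} [CommRing A] {n m : ℕ} (f : Fin n → A)
    (g : Fin m → A) (hf : CAlgX.IsH1Regular f)
    (hg : CAlgX.IsH1Regular (fun j => Ideal.Quotient.mk (Ideal.span (Set.range f)) (g j))) :
    CAlgX.IsH1Regular (Fin.append f g) := by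
  classical
  intro a ha
  set F := Fin.append f g with hF
  set J := Ideal.span (Set.range f) with hJ
  set T : Submodule A (Fin (n + m) → A) :=
    Submodule.span A {v | ∃ i j : Fin (n + m), v = Pi.single i (F j) - Pi.single j (F i)} with hT
  have hgen : ∀ i j : Fin (n + m), (Pi.single i (F j) - Pi.single j (F i) : Fin (n + m) → A) ∈ T :=
    fun i j => Submodule.subset_span ⟨i, j, rfl⟩
  -- extension by zero maps
  let e₁ : (Fin n → A) →ₗ[A] (Fin (n + m) → A) :=
    { toFun := fun w => Fin.append w 0
      map_add' := fun w w' => by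
        funext x
        refine Fin.addCases (fun i => ?_) (fun j => ?_) x <;> simp
      map_smul' := fun r w => by
        funext x
        refine Fin.addCases (fun i => ?_) (fun j => ?_) x <;> simp }
  let e₂ : (Fin m → A) →ₗ[A] (Fin (n + m) → A) :=
    { toFun := fun w => Fin.append 0 w
      map_add' := fun w w' => by
        funext x
        refine Fin.addCases (fun i => ?_) (fun j => ?_) x <;> simp
      map_smul' := fun r w => by
        funext x
        refine Fin.addCases (fun i => ?_) (fun j => ?_) x <;> simp }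
  have e₁l : ∀ (w : Fin n → A) (i : Fin n), e₁ w (Fin.castAdd m i) = w i := fun w i => by
    simp [e₁]
  have e₁r : ∀ (w : Fin n → A) (j : Fin m), e₁ w (Fin.natAdd n j) = 0 := fun w j => by
    simp [e₁]
  have e₂l : ∀ (w : Fin m → A) (i : Fin n), e₂ w (Fin.castAdd m i) = 0 := fun w i => by
    simp [e₂]
  have e₂r : ∀ (w : Fin m → A) (j : Fin m), e₂ w (Fin.natAdd n j) = w j := fun w j => by
    simp [e₂]
  have e₁s : ∀ (i : Fin n) (r : A), e₁ (Pi.single i r) = Pi.single (Fin.castAdd m i) r := by
    intro i r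
    funext x
    refine Fin.addCases (fun i' => ?_) (fun j => ?_) x
    · rw [e₁l]
      simp [Pi.single_apply]
    · rw [e₁r]
      simp [Pi.single_apply, Fin.ext_iff]
      intro h
      have := i.2
      omega
  have e₂s : ∀ (j : Fin m) (r : A), e₂ (Pi.single j r) = Pi.single (Fin.natAdd n j) r := by
    intro j r
    funext x
    refine Fin.addCases (fun i => ?_) (fun j' => ?_) x
    · rw [e₂l]
      simp [Pi.single_apply, Fin.ext_iff]
      intro h
      have := i.2
      omega
    · rw [e₂r]
      simp [Pi.single_apply]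
  -- the evaluation functional
  let Φ : (Fin (n + m) → A) →ₗ[A] A :=
    ∑ x : Fin (n + m), F x • (LinearMap.proj x : (Fin (n + m) → A) →ₗ[A] A)
  have hΦ : ∀ v, Φ v = ∑ x, v x * F x := fun v => by
    simp [Φ, mul_comm]
  have hΦ₁ : ∀ w : Fin n → A, Φ (e₁ w) = ∑ i, w i * f i := fun w => by
    rw [hΦ, Fin.sum_univ_add]
    simp [e₁l, e₁r, hF]
  have hΦ₂ : ∀ w : Fin m → A, Φ (e₂ w) = ∑ j, w j * g j := fun w => by
    rw [hΦ, Fin.sum_univ_add]
    simp [e₂l, e₂r, hF]
  have hTΦ : ∀ v ∈ T, Φ v = 0 := by
    intro v hv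
    induction hv using Submodule.span_induction with
    | mem v hv =>
      obtain ⟨i, j, rfl⟩ := hv
      rw [hΦ]
      simp only [Pi.sub_apply, Pi.single_apply, sub_mul, ite_mul, zero_mul, Finset.sum_sub_distrib,
        Finset.sum_ite_eq', Finset.mem_univ, if_true]
      ring
    | zero => simp
    | add v w _ _ hv hw => rw [map_add, hv, hw, add_zero]
    | smul r v _ hv => rw [map_smul, hv, smul_zero]
  -- decomposition of a
  set a₁ : Fin n → A := fun i => a (Fin.castAdd m i) with ha₁
  set a₂ : Fin m → A := fun j => a (Fin.natAdd n j) with ha₂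
  have hdec : a = e₁ a₁ + e₂ a₂ := by
    funext x
    refine Fin.addCases (fun i => ?_) (fun j => ?_) x
    · simp [e₁l, e₂l, ha₁]
    · simp [e₁r, e₂r, ha₂]
  have ha' : ∑ i, a₁ i * f i + ∑ j, a₂ j * g j = 0 := by
    rw [← ha, Fin.sum_univ_add]
    simp [ha₁, ha₂, hF]
  -- Step 1: relation modulo J
  have hrel : ∑ j, (Ideal.Quotient.mk J (a₂ j)) * (Ideal.Quotient.mk J (g j)) = 0 := by
    have h1 : Ideal.Quotient.mk J (∑ i, a₁ i * f i + ∑ j, a₂ j * g j) = 0 := by rw [ha', map_zero]
    rw [map_add, map_sum, map_sum] at h1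
    have h2 : ∑ i, Ideal.Quotient.mk J (a₁ i * f i) = 0 := by
      apply Finset.sum_eq_zero
      intro i _
      rw [Ideal.Quotient.eq_zero_iff_mem]
      exact Ideal.mul_mem_left _ _ (Ideal.subset_span ⟨i, rfl⟩)
    rw [h2, zero_add] at h1
    simpa [map_mul] using h1
  have hmem := hg (fun j => Ideal.Quotient.mk J (a₂ j)) hrel
  -- Step 1b: lift
  set G : Set (Fin m → A) := {v | ∃ j k : Fin m, v = Pi.single j (g k) - Pi.single k (g j)} with hG
  have hlift : ∀ vb : Fin m → A ⧸ J,
      vb ∈ Submodule.span (A ⧸ J) {v : Fin m → A ⧸ J | ∃ j k : Fin m,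
        v = Pi.single j (Ideal.Quotient.mk J (g k)) - Pi.single k (Ideal.Quotient.mk J (g j))} →
      ∃ b ∈ Submodule.span A G, ∀ j, Ideal.Quotient.mk J (b j) = vb j := by
    intro vb hv
    induction hv using Submodule.span_induction with
    | mem v hv =>
      obtain ⟨j, k, rfl⟩ := hv
      refine ⟨Pi.single j (g k) - Pi.single k (g j), Submodule.subset_span ⟨j, k, rfl⟩, fun l => ?_⟩
      simp only [Pi.sub_apply, Pi.single_apply, map_sub]
      split_ifs <;> simp
    | zero => exact ⟨0, Submodule.zero_mem _, fun j => by simp⟩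
    | add v w _ _ hv hw =>
      obtain ⟨b, hb, hb'⟩ := hv
      obtain ⟨b', hb₂, hb₂'⟩ := hw
      exact ⟨b + b', Submodule.add_mem _ hb hb₂, fun j => by simp [hb', hb₂']⟩
    | smul r v _ hv =>
      obtain ⟨b, hb, hb'⟩ := hv
      obtain ⟨r', rfl⟩ := Ideal.Quotient.mk_surjective r
      exact ⟨r' • b, Submodule.smul_mem _ _ hb, fun j => by simp [hb']⟩
  obtain ⟨b, hb, hb'⟩ := hlift _ hmem
  -- Step 2: e₂ b ∈ T
  have he₂b : e₂ b ∈ T := by
    have : (Submodule.span A G).map e₂ ≤ T := by
      rw [Submodule.map_span_le]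
      rintro v ⟨j, k, rfl⟩
      rw [map_sub, e₂s, e₂s]
      have := hgen (Fin.natAdd n j) (Fin.natAdd n k)
      simpa [hF] using this
    exact this (Submodule.mem_map_of_mem hb)
  -- Step 3
  set d : Fin m → A := a₂ - b with hd
  have hdJ : ∀ j, d j ∈ J := by
    intro j
    rw [← Ideal.Quotient.eq_zero_iff_mem, hd, Pi.sub_apply, map_sub, hb' j, sub_self]
  have hc : ∀ j, ∃ c : Fin n → A, ∑ i, c i * f i = d j := fun j =>
    (Ideal.mem_span_range_iff_exists_fun).mp (hdJ j)
  choose c hc using hc
  set d' : Fin n → A := fun i => ∑ j, c j i * g j with hd'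
  have hdiff : e₂ d - e₁ d' ∈ T := by
    have hform : e₂ d - e₁ d' = ∑ j, ∑ i, c j i •
        (Pi.single (Fin.natAdd n j) (F (Fin.castAdd m i)) -
          Pi.single (Fin.castAdd m i) (F (Fin.natAdd n j)) : Fin (n + m) → A) := by
      funext x
      refine Fin.addCases (fun i₀ => ?_) (fun j₀ => ?_) x
      · simp only [Pi.sub_apply, e₂l, e₁l, zero_sub, Finset.sum_apply, Pi.smul_apply,
          Pi.single_apply, smul_eq_mul, hF, Fin.append_left, Fin.append_right, hd']
        have h1 : ∀ j i, (if Fin.castAdd m i₀ = Fin.natAdd n j then f i else 0) = 0 := by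
          intro j i
          rw [if_neg]
          intro h
          have := congrArg Fin.val h
          simp at this
          have := i₀.2
          omega
        simp only [h1, zero_sub, Fin.castAdd_inj, mul_neg, Finset.sum_neg_distrib, neg_inj]
        apply Finset.sum_congr rfl
        intro j _
        simp [Finset.sum_ite_eq]
      · simp only [Pi.sub_apply, e₂r, e₁r, sub_zero, Finset.sum_apply, Pi.smul_apply,
          Pi.single_apply, smul_eq_mul, hF, Fin.append_left, Fin.append_right]
        have h1 : ∀ j i, (if Fin.natAdd n j₀ = Fin.castAdd m i then g j else 0) = 0 := by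
          intro j i
          rw [if_neg]
          intro h
          have := congrArg Fin.val h
          simp at this
          have := i.2
          omega
        simp only [h1, sub_zero, Fin.natAdd_inj]
        rw [← hc j₀]
        simp [Finset.sum_ite_eq]
    rw [hform]
    refine Submodule.sum_mem _ fun j _ => Submodule.sum_mem _ fun i _ => Submodule.smul_mem _ _ ?_
    exact hgen _ _
  -- Step 4
  set a' : Fin n → A := a₁ + d' with ha'def
  have hsplit : a = e₁ a' + e₂ b + (e₂ d - e₁ d') := by
    rw [hdec, ha'def, hd, map_add, map_sub]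
    abel
  have hΦa : Φ a = 0 := by rw [hΦ]; exact ha
  have hrel' : ∑ i, a' i * f i = 0 := by
    rw [← hΦ₁]
    have h1 : Φ a = Φ (e₁ a') + Φ (e₂ b) + Φ (e₂ d - e₁ d') := by
      conv_lhs => rw [hsplit]
      rw [map_add, map_add]
    rw [hΦa, hTΦ _ he₂b, hTΦ _ hdiff, add_zero, add_zero] at h1
    exact h1.symm
  have hmem' := hf a' hrel'
  have he₁a' : e₁ a' ∈ T := by
    have : (Submodule.span A {v : Fin n → A | ∃ i j : Fin n,
        v = Pi.single i (f j) - Pi.single j (f i)}).map e₁ ≤ T := by
      rw [Submodule.map_span_le]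
      rintro v ⟨i, j, rfl⟩
      rw [map_sub, e₁s, e₁s]
      have := hgen (Fin.castAdd m i) (Fin.castAdd m j)
      simpa [hF] using this
    exact this (Submodule.mem_map_of_mem hmem')
  rw [hsplit]
  exact Submodule.add_mem _ (Submodule.add_mem _ he₁a' he₂b) hdiff

end Groth.Agent.S2105
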