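import Groth.Statements.S2106
import Mathlib
import Groth.Agent.Lib.Helper23.FibCritEFP
import Groth.Agent.Lib.Helper9.FlatCrit
-- import your own Groth.Agent.* helpers here

set_option autoImplicit false
universe u
open CAlg

namespace Groth.Agent.S2106

open TensorProduct Function

open Groth.Agent.Lib.Helper23.FibCritEFP


/-- Let `R → S → S'` be local homomorphisms of local rings with `S` and `S'` essentially of finite
presentation over `R`, and `M` a nonzero finitely presented `S'`-module which is flat over `R` and
such that `M/𝔪_R M` is flat over `S/𝔪_R S`. Then `S` is flat over `R` and `M` is flat over `S`. -/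
theorem result {R S S' M : Type u} [CommRing R] [CommRing S] [CommRing S']
    [IsLocalRing R] [IsLocalRing S] [IsLocalRing S'] [Algebra R S] [Algebra S S'] [Algebra R S'] [IsScalarTower R S S']
    [IsLocalHom (algebraMap R S)] [IsLocalHom (algebraMap S S')]
    (hS : CAlgX.IsEssFinitePresentation R S) (hS' : CAlgX.IsEssFinitePresentation R S')
    [AddCommGroup M] [Module S' M] [Module S M] [Module R M] [IsScalarTower S S' M] [IsScalarTower R S' M]
    [IsScalarTower R S M] [Module.FinitePresentation S' M] [Nontrivial M] [Module.Flat R M]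
    (hfib : Module.Flat (S ⧸ (IsLocalRing.maximalIdeal R).map (algebraMap R S))
      (M ⧸ (IsLocalRing.maximalIdeal R).map (algebraMap R S) • (⊤ : Submodule S M))) :
    Module.Flat R S ∧ Module.Flat S M := by
  classical
  obtain ⟨S₀, _, _, _, _, Msub, hfp, hloc⟩ := hS
  obtain ⟨S₀', _, _, _, _, Msub', hfp', hloc'⟩ := hS'
  haveI := hfp; haveI := hloc; haveI := hfp'; haveI := hloc'
  haveI : Algebra.FiniteType R S₀ := inferInstance
  obtain ⟨m, q, hqp, ψ, hqmem, hψS, hψsurj, hψfg⟩ :=
    exists_locPresentation (R := R) (S := S) (S' := S') S₀ Msub S₀' Msub'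
  haveI := hqp
  -- `q` lies over the maximal ideal of `S`
  have hq : q.comap (algebraMap S (MvPolynomial (Fin m) S)) = IsLocalRing.maximalIdeal S := by
    ext s
    rw [Ideal.mem_comap, hqmem,
      ← IsScalarTower.algebraMap_apply S (MvPolynomial (Fin m) S) (Localization.AtPrime q), hψS,
      ← IsLocalRing.maximalIdeal_comap (algebraMap S S'), Ideal.mem_comap]
  -- module structures
  letI : Algebra (Localization.AtPrime q) S' := ψ.toAlgebra
  letI : Module (Localization.AtPrime q) M := Module.compHom M ψ
  have hsm : ∀ (a : Localization.AtPrime q) (x : M), a • x = ψ a • x := fun _ _ => rfl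
  have hsm' : ∀ (a : Localization.AtPrime q) (b : S'), a • b = ψ a * b := fun _ _ => rfl
  haveI : IsScalarTower (Localization.AtPrime q) S' M :=
    ⟨fun a b x => by rw [hsm, hsm', mul_smul]⟩
  haveI : IsScalarTower S (Localization.AtPrime q) M := ⟨fun s a x => by
    rw [hsm, hsm, Algebra.smul_def, map_mul, hψS, mul_smul, algebraMap_smul]⟩
  haveI : Module.FinitePresentation (Localization.AtPrime q) S' := by
    refine Module.finitePresentation_of_surjective
      (Algebra.linearMap (Localization.AtPrime q) S') hψsurj ?_
    have : LinearMap.ker (Algebra.linearMap (Localization.AtPrime q) S') = RingHom.ker ψ := by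
      ext x
      rfl
    rw [this]
    exact hψfg
  haveI : Module.FinitePresentation (Localization.AtPrime q) M :=
    Module.FinitePresentation.trans (Localization.AtPrime q) M S'
  -- `Tor₁^S(M, S/𝔪_S) = 0`
  set I := (IsLocalRing.maximalIdeal R).map (algebraMap R S) with hI
  have hinj : Injective (LinearMap.rTensor M I.subtype) :=
    Groth.Agent.Lib.Helper9.rTensor_map_subtype_injective (IsLocalRing.maximalIdeal R)
      (Module.Flat.rTensor_preserves_injective_linearMap _ (Submodule.injective_subtype _))
  haveI : Module.Flat (S ⧸ I) ((S ⧸ I) ⊗[S] M) := by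
    haveI := hfib
    exact Module.Flat.of_linearEquiv
      ((TensorProduct.quotTensorEquivQuotSMul M I).extendScalarsOfSurjective
        Ideal.Quotient.mk_surjective)
  have hIle : I ≤ IsLocalRing.maximalIdeal S := IsLocalRing.map_maximalIdeal_le (algebraMap R S)
  have hTV : Groth.Agent.Lib.Helper9.TorOneVanish S M (S ⧸ IsLocalRing.maximalIdeal S) :=
    Groth.Agent.Lib.Helper9.torOneVanish_of_isTorsionBySet I hinj (by
      intro x a
      obtain ⟨y, rfl⟩ := Ideal.Quotient.mk_surjective x
      change (a : S) • Ideal.Quotient.mk _ y = 0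
      rw [← Ideal.Quotient.mk_eq_mk, ← Submodule.Quotient.mk_smul,
        Submodule.Quotient.mk_eq_zero]
      exact Ideal.mul_mem_right _ _ (hIle a.2))
  have hTor' : Injective ((IsLocalRing.maximalIdeal S).subtype.rTensor M) :=
    hTV _ _ (IsLocalRing.maximalIdeal S).subtype (Submodule.mkQ _)
      (Submodule.injective_subtype _) (LinearMap.exact_subtype_mkQ _) (Submodule.mkQ_surjective _)
  have hTor : Injective ((IsLocalRing.maximalIdeal S).subtype.lTensor M) :=
    (LinearMap.lTensor_inj_iff_rTensor_inj _ _).mpr hTor'
  have hflat : Module.Flat S M :=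
    flat_of_lTensor_maximalIdeal_injective (A := S) (B := MvPolynomial (Fin m) S) q
      (Localization.AtPrime q) hq hTor
  have hff : Module.FaithfullyFlat S M :=
    Groth.Agent.Lib.Helper9.faithfullyFlat_of_finite_of_isLocalHom (S' := S')
  exact ⟨Groth.Agent.Lib.Helper9.flat_of_faithfullyFlat_of_flat (M := M), hflat⟩

end Groth.Agent.S2106
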