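import Groth.Statements.S2111
import Mathlib

set_option autoImplicit false
universe u
open CAlg

namespace Groth.Agent.S2111



/-- Let `R` be a Noetherian normal domain with fraction field `K`. An element of `K` which lies in `R_𝔭`
for every prime `𝔭` of height one lies in `R`. -/
theorem result {R : Type u} [CommRing R] [IsDomain R] [IsNoetherianRing R]
    [IsIntegrallyClosed R] (x : FractionRing R)
    (hx : ∀ (p : Ideal R) [p.IsPrime], p.height = 1 →
      x ∈ Set.range (algebraMap (Localization.AtPrime p) (FractionRing R))) :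
    x ∈ Set.range (algebraMap R (FractionRing R)) := by
  classical
  by_contra hxR
  have hinj : Function.Injective (algebraMap R (FractionRing R)) :=
    IsFractionRing.injective R (FractionRing R)
  -- the denominator ideal
  let I : Ideal R :=
    { carrier := {r | algebraMap R (FractionRing R) r * x ∈ Set.range (algebraMap R (FractionRing R))}
      add_mem' := by
        rintro a b ⟨a', ha'⟩ ⟨b', hb'⟩
        exact ⟨a' + b', by rw [map_add, map_add, add_mul, ha', hb']⟩
      zero_mem' := ⟨0, by simp⟩
      smul_mem' := by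
        rintro c a ⟨a', ha'⟩
        exact ⟨c * a', by rw [smul_eq_mul, map_mul, map_mul, mul_assoc, ha']⟩ }
  have hImem : ∀ r : R, r ∈ I ↔
      algebraMap R (FractionRing R) r * x ∈ Set.range (algebraMap R (FractionRing R)) :=
    fun r => Iff.rfl
  have hI1 : (1 : R) ∉ I := by
    intro h
    obtain ⟨r, hr⟩ := h
    exact hxR ⟨r, by simpa using hr⟩
  have hItop : I ≠ ⊤ := fun h => hI1 (h ▸ Submodule.mem_top)
  have hIbot : ∃ d ∈ I, d ≠ 0 := by
    obtain ⟨n, d, hd, hnd⟩ := IsFractionRing.div_surjective (A := R) x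
    refine ⟨d, ⟨n, ?_⟩, nonZeroDivisors.ne_zero hd⟩
    rw [← hnd, mul_div_cancel₀]
    exact (map_ne_zero_iff _ hinj).mpr (nonZeroDivisors.ne_zero hd)
  haveI : Nontrivial (R ⧸ I) := Ideal.Quotient.nontrivial_iff.mpr hItop
  obtain ⟨p, hp⟩ := associatedPrimes.nonempty R (R ⧸ I)
  obtain ⟨hpp, bbar, hb⟩ := (isAssociatedPrime_iff (I := p) (M := R ⧸ I)).mp hp
  obtain ⟨b, rfl⟩ := Ideal.Quotient.mk_surjective bbar
  have hmem : ∀ r : R, r ∈ p ↔ algebraMap R (FractionRing R) r * (algebraMap R (FractionRing R) b * x) ∈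
      Set.range (algebraMap R (FractionRing R)) := by
    intro r
    rw [hb, Submodule.mem_colon_singleton, Submodule.mem_bot, Algebra.smul_def,
      Ideal.Quotient.algebraMap_eq, ← map_mul,
      Ideal.Quotient.eq_zero_iff_mem, hImem, map_mul, mul_assoc]
  set y : FractionRing R := algebraMap R (FractionRing R) b * x with hy
  obtain ⟨d, hdI, hd0⟩ := hIbot
  have hdp : d ∈ p := by
    rw [hmem]
    obtain ⟨n, hn⟩ := hdI
    exact ⟨b * n, by rw [map_mul, hn, hy]; ring⟩
  have hyR : y ∉ Set.range (algebraMap R (FractionRing R)) := by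
    intro h
    have : (1 : R) ∈ p := by rw [hmem]; simpa using h
    exact hpp.ne_top ((Ideal.eq_top_iff_one p).mpr this)
  -- find `a ∈ p` with `a y = u ∉ p`
  have hau : ∃ a ∈ p, ∃ u, u ∉ p ∧
      algebraMap R (FractionRing R) a * y = algebraMap R (FractionRing R) u := by
    by_contra hcon
    push Not at hcon
    apply hyR
    have hint : IsIntegral R y := by
      refine isIntegral_of_smul_mem_submodule (M := FractionRing R)
        (Submodule.map (Algebra.linearMap R (FractionRing R)) p) ?_ ?_ y ?_
      · intro h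
        have : algebraMap R (FractionRing R) d ∈
            Submodule.map (Algebra.linearMap R (FractionRing R)) p := ⟨d, hdp, rfl⟩
        rw [h, Submodule.mem_bot] at this
        exact hd0 (hinj (by rw [this, map_zero]))
      · exact (IsNoetherian.noetherian p).map _
      · rintro _ ⟨a, ha, rfl⟩
        obtain ⟨u, hu⟩ := (hmem a).mp ha
        refine ⟨u, ?_, ?_⟩
        · by_contra hup
          exact hcon a ha u hup hu.symm
        · rw [smul_eq_mul, mul_comm, Algebra.linearMap_apply, Algebra.linearMap_apply, hu]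
    exact IsIntegrallyClosed.isIntegral_iff.mp hint
  obtain ⟨a, hap, u, hup, hau⟩ := hau
  have hmul : ∀ r ∈ p, u * r ∈ Ideal.span {a} := by
    intro r hr
    obtain ⟨v, hv⟩ := (hmem r).mp hr
    rw [Ideal.mem_span_singleton]
    refine ⟨v, hinj ?_⟩
    rw [map_mul, map_mul, ← hau, hv]
    ring
  have hmin : p ∈ (Ideal.span {a}).minimalPrimes := by
    refine ⟨⟨hpp, (Ideal.span_singleton_le_iff_mem p).mpr hap⟩, ?_⟩
    rintro q ⟨hq, haq⟩ hqp r hr
    have := haq (hmul r hr)
    exact (hq.mem_or_mem this).resolve_left (fun huq => hup (hqp huq))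
  have hp0 : p ≠ ⊥ := fun h => hd0 (by rw [h] at hdp; exact hdp)
  have hht : p.height = 1 :=
    le_antisymm (Ideal.height_le_one_of_isPrincipal_of_mem_minimalPrimes _ p hmin)
      (by simpa [Order.one_le_iff_ne_zero])
  obtain ⟨z, hz⟩ := hx p hht
  obtain ⟨⟨c, s⟩, hcs⟩ := IsLocalization.surj p.primeCompl z
  simp only at hcs
  have h1 : x * algebraMap R (FractionRing R) s = algebraMap R (FractionRing R) c := by
    rw [← hz, IsScalarTower.algebraMap_apply R (Localization.AtPrime p) (FractionRing R),
      IsScalarTower.algebraMap_apply R (Localization.AtPrime p) (FractionRing R) c, ← map_mul, hcs]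
  have : (s : R) ∈ p := by
    rw [hmem]
    exact ⟨b * c, by rw [map_mul, ← h1]; ring⟩
  exact s.2 this

end Groth.Agent.S2111
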