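import Groth.Statements.S2112
import Groth.Agent.Lib.Helper6.AlgClosedTensor
import Mathlib

set_option autoImplicit false
universe u
open CAlg

namespace Groth.Agent.S2112

theorem hasUniqueMinimalPrime_iff (A : Type u) [CommRing A] :
    CAlgX.HasUniqueMinimalPrime A ↔ IrreducibleSpace (PrimeSpectrum A) := by
  rw [PrimeSpectrum.irreducibleSpace_iff_isPrime_nilradical]
  constructor
  · rintro ⟨P, hP, huniq⟩
    have h1 : minimalPrimes A = {P} := by
      ext Q
      constructor
      · intro hQ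
        exact huniq Q hQ
      · rintro rfl
        exact hP
    have h2 : nilradical A = P := by
      have h3 : sInf (⊥ : Ideal A).minimalPrimes = (⊥ : Ideal A).radical := Ideal.sInf_minimalPrimes
      change (⊥ : Ideal A).radical = P
      rw [← h3]
      change sInf (minimalPrimes A) = P
      rw [h1, sInf_singleton]
    rw [h2]
    exact hP.1.1
  · intro h
    refine ⟨nilradical A, ⟨⟨h, bot_le⟩, ?_⟩, ?_⟩
    · rintro Q ⟨hQ, _⟩ _
      exact nilradical_le_prime Q
    · intro Q hQ
      have hQp : Q.IsPrime := hQ.1.1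
      have h1 : nilradical A ≤ Q := nilradical_le_prime Q
      exact le_antisymm (hQ.2 ⟨h, bot_le⟩ h1) h1

open TensorProduct in
/-- Let `k` be a separably closed field and `R`, `S` two `k`-algebras each having exactly one minimal
prime ideal. Then `R ⊗_k S` has exactly one minimal prime ideal. -/
theorem result {k R S : Type u} [Field k] [IsSepClosed k] [CommRing R] [CommRing S]
    [Algebra k R] [Algebra k S] (hR : CAlgX.HasUniqueMinimalPrime R) (hS : CAlgX.HasUniqueMinimalPrime S) :
    CAlgX.HasUniqueMinimalPrime (R ⊗[k] S) := by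
  rw [hasUniqueMinimalPrime_iff] at hR hS ⊢
  let K := AlgebraicClosure k
  have hpi : IsPurelyInseparable k K := inferInstance
  have key : ∀ (T : Type u) [CommRing T] [Algebra k T],
      IrreducibleSpace (PrimeSpectrum T) ↔ IrreducibleSpace (PrimeSpectrum (K ⊗[k] T)) := by
    intro T _ _
    have h1 := PrimeSpectrum.isHomeomorph_comap_of_isPurelyInseparable k K T
    have h2 := PrimeSpectrum.isHomeomorph_comap_of_bijective
      (f := (Algebra.TensorProduct.comm k T K : T ⊗[k] K →+* K ⊗[k] T))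
      (Algebra.TensorProduct.comm k T K).bijective
    exact ((h1.comp h2).homeomorph _).irreducibleSpace_iff.symm
  have hR' : IrreducibleSpace (PrimeSpectrum (K ⊗[k] R)) := (key R).mp hR
  have hS' : IrreducibleSpace (PrimeSpectrum (K ⊗[k] S)) := (key S).mp hS
  have h3 : IrreducibleSpace (PrimeSpectrum ((K ⊗[k] R) ⊗[K] (K ⊗[k] S))) :=
    Groth.Agent.Lib.Helper6.irreducibleSpace_tensor_of_isAlgClosed
  rw [key (R ⊗[k] S)]
  let e1 : (K ⊗[k] R) ⊗[K] (K ⊗[k] S) ≃ₐ[K] (K ⊗[k] R) ⊗[k] S :=
    Algebra.TensorProduct.cancelBaseChange k K K (K ⊗[k] R) S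
  let e2 : (K ⊗[k] R) ⊗[k] S ≃ₐ[K] K ⊗[k] (R ⊗[k] S) :=
    Algebra.TensorProduct.assoc k k K K R S
  let e : (K ⊗[k] R) ⊗[K] (K ⊗[k] S) ≃+* K ⊗[k] (R ⊗[k] S) :=
    (e1.trans e2).toRingEquiv
  exact (PrimeSpectrum.homeomorphOfRingEquiv e).irreducibleSpace_iff.mp h3

end Groth.Agent.S2112
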