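import Groth.Statements.S2114
import Groth.Agent.Lib.Helper21.QfN2
-- import your own Groth.Agent.* helpers here

set_option autoImplicit false
universe u
open CAlg

namespace Groth.Agent.S2114

/-- Let `R ⊆ S` be an extension of domains which is of finite type and quasi-finite, with `R` Noetherian
and N-2 (integral closures in finite extensions of the fraction field are finite). Then `S` is N-2. -/
theorem result {R S : Type u} [CommRing R] [IsDomain R] [IsNoetherianRing R] [CommRing S]
    [IsDomain S] [Algebra R S] (hinj : Function.Injective (algebraMap R S)) [Algebra.FiniteType R S]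
    [Algebra.QuasiFinite R S] (hR : CAlg.IsN2 R) : CAlg.IsN2 S := by
  intro L _ _ _ _ hfd
  let _ : Algebra R L := ((algebraMap S L).comp (algebraMap R S)).toAlgebra
  have : IsScalarTower R S L := IsScalarTower.of_algebraMap_eq fun _ => rfl
  have hinjSL : Function.Injective (algebraMap S L) := by
    rw [IsScalarTower.algebraMap_eq S (FractionRing S) L]
    exact (algebraMap (FractionRing S) L).injective.comp
      (IsFractionRing.injective S (FractionRing S))
  have : FaithfulSMul R L := (faithfulSMul_iff_algebraMap_injective R L).mpr (hinjSL.comp hinj)
  let _ : Algebra (FractionRing R) L := FractionRing.liftAlgebra R L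
  have : IsScalarTower R (FractionRing R) L := FractionRing.isScalarTower_liftAlgebra R L
  have hfdS : Module.Finite (FractionRing S) L := hfd
  have hqf1 : Algebra.QuasiFinite S (FractionRing S) := inferInstance
  have hqf2 : Algebra.QuasiFinite (FractionRing S) L := inferInstance
  have hqf3 : Algebra.QuasiFinite S L := .trans S (FractionRing S) L
  have hqf4 : Algebra.QuasiFinite R L := .trans R S L
  have hqf5 : Algebra.QuasiFinite (FractionRing R) L := .of_restrictScalars R (FractionRing R) L
  have hfdR : FiniteDimensional (FractionRing R) L := Module.Finite.of_quasiFinite
  have hC : Module.Finite R (integralClosure R L) := hR L hfdR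
  exact Groth.Agent.Lib.Helper21.QfN2.finite_integralClosure_of_quasiFinite hC

end Groth.Agent.S2114
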