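import Groth.Statements.S2119
import Mathlib

set_option autoImplicit false
universe u
open CAlg

namespace Groth.Agent.S2119


section Aux

variable {A : Type u} [CommRing A] [IsDomain A] {P : Set A}

theorem zero_notMem_closure (hP : ∀ p ∈ P, Prime p) : (0 : A) ∉ Submonoid.closure P := by
  intro h
  have key : ∀ s ∈ Submonoid.closure P, s ≠ 0 := by
    intro s hs
    induction hs using Submonoid.closure_induction with
    | mem x hx => exact (hP x hx).ne_zero
    | one => exact one_ne_zero
    | mul x y _ _ hx hy => exact mul_ne_zero hx hy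
  exact key 0 h rfl

theorem closure_le_nonZeroDivisors (hP : ∀ p ∈ P, Prime p) :
    Submonoid.closure P ≤ nonZeroDivisors A := by
  intro s hs
  exact mem_nonZeroDivisors_of_ne_zero (fun h => zero_notMem_closure hP (h ▸ hs))

/-- splitting: if `s ∈ closure P` divides `a * b` then `s = s₁ * s₂` with `s₁ ∣ a`, `s₂ ∣ b`. -/
theorem exists_split (hP : ∀ p ∈ P, Prime p) {s : A} (hs : s ∈ Submonoid.closure P) :
    ∀ a b : A, s ∣ a * b → ∃ s₁ ∈ Submonoid.closure P, ∃ s₂ ∈ Submonoid.closure P,
      s = s₁ * s₂ ∧ s₁ ∣ a ∧ s₂ ∣ b := by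
  induction hs using Submonoid.closure_induction with
  | mem p hp =>
    intro a b hab
    rcases (hP p hp).dvd_or_dvd hab with h | h
    · exact ⟨p, Submonoid.subset_closure hp, 1, one_mem _, (mul_one p).symm, h, one_dvd b⟩
    · exact ⟨1, one_mem _, p, Submonoid.subset_closure hp, (one_mul p).symm, one_dvd a, h⟩
  | one =>
    intro a b _
    exact ⟨1, one_mem _, 1, one_mem _, (mul_one 1).symm, one_dvd a, one_dvd b⟩
  | mul x y hx hy ihx ihy =>
    intro a b hab
    obtain ⟨x₁, hx₁, x₂, hx₂, hxe, ⟨a₁, ha₁⟩, ⟨b₁, hb₁⟩⟩ := ihx a b ((Dvd.intro _ rfl).trans hab)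
    have hx0 : x ≠ 0 := fun h => zero_notMem_closure hP (h ▸ hx)
    have hy' : y ∣ a₁ * b₁ := by
      obtain ⟨c, hc⟩ := hab
      refine ⟨c, mul_left_cancel₀ hx0 ?_⟩
      have h1 : x * (a₁ * b₁) = a * b := by rw [ha₁, hb₁, hxe]; ring
      rw [h1, hc]; ring
    obtain ⟨y₁, hy₁, y₂, hy₂, hye, ⟨a₂, ha₂⟩, ⟨b₂, hb₂⟩⟩ := ihy a₁ b₁ hy'
    refine ⟨x₁ * y₁, mul_mem hx₁ hy₁, x₂ * y₂, mul_mem hx₂ hy₂, ?_, ⟨a₂, ?_⟩, ⟨b₂, ?_⟩⟩
    · rw [hxe, hye]; ring
    · rw [ha₁, ha₂]; ring
    · rw [hb₁, hb₂]; ring

/-- if no element of `P` divides `x` and `s ∈ closure P` divides `x * c` then `s ∣ c`. -/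
theorem dvd_of_dvd_mul (hP : ∀ p ∈ P, Prime p) {x : A} (hx : ∀ p ∈ P, ¬ p ∣ x)
    {s : A} (hs : s ∈ Submonoid.closure P) : ∀ c : A, s ∣ x * c → s ∣ c := by
  induction hs using Submonoid.closure_induction with
  | mem p hp =>
    intro c hc
    exact ((hP p hp).dvd_or_dvd hc).resolve_left (hx p hp)
  | one => intro c _; exact one_dvd c
  | mul s t hs ht ihs iht =>
    intro c hc
    obtain ⟨c₁, hc₁⟩ := ihs c ((Dvd.intro _ rfl).trans hc)
    have hs0 : s ≠ 0 := fun h => zero_notMem_closure hP (h ▸ hs)
    have ht' : t ∣ x * c₁ := by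
      obtain ⟨d, hd⟩ := hc
      refine ⟨d, mul_left_cancel₀ hs0 ?_⟩
      have h1 : s * (x * c₁) = x * c := by rw [hc₁]; ring
      rw [h1, hd]; ring
    obtain ⟨c₂, hc₂⟩ := iht c₁ ht'
    exact ⟨c₂, by rw [hc₁, hc₂]; ring⟩

end Aux


/-- Nagata's criterion for factoriality, final assertion: let `A` be a domain in which every nonzero
nonunit factors into irreducibles, and `S` the multiplicative subset generated by a set of prime
elements. If the localization `S⁻¹A` is a unique factorization domain, then so is `A`. -/
theorem result {A : Type u} [CommRing A] [IsDomain A]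
    (hfac : ∀ a : A, a ≠ 0 → ¬ IsUnit a → ∃ f : Multiset A, (∀ b ∈ f, Irreducible b) ∧ Associated f.prod a) (P : Set A)
    (hP : ∀ p ∈ P, Prime p) [IsDomain (Localization (Submonoid.closure P))]
    (hS : UniqueFactorizationMonoid (Localization (Submonoid.closure P))) : UniqueFactorizationMonoid A := by
  classical
  have hle := closure_le_nonZeroDivisors hP
  have hinj : Function.Injective (algebraMap A (Localization (Submonoid.closure P))) :=
    IsLocalization.injective _ hle
  have hne0 : ∀ w : A, w ∈ Submonoid.closure P → w ≠ 0 :=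
    fun w hw h => zero_notMem_closure hP (h ▸ hw)
  have hunit : ∀ (w : A), w ∈ Submonoid.closure P →
      IsUnit (algebraMap A (Localization (Submonoid.closure P)) w) :=
    fun w hw => IsLocalization.map_units _ ⟨w, hw⟩
  -- every irreducible is prime
  have key : ∀ x : A, Irreducible x → Prime x := by
    intro x hx
    by_cases hdiv : ∃ p ∈ P, p ∣ x
    · obtain ⟨p, hp, hpx⟩ := hdiv
      have hpp := hP p hp
      exact ((hpp.irreducible.associated_of_dvd hx hpx)).prime hpp
    · push Not at hdiv
      -- the image of x is irreducible in L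
      have hirr : Irreducible (algebraMap A (Localization (Submonoid.closure P)) x) := by
        refine ⟨?_, ?_⟩
        · intro hu
          obtain ⟨v, hv⟩ := hu.exists_right_inv
          obtain ⟨⟨a, s⟩, has⟩ := IsLocalization.surj (Submonoid.closure P) v
          simp only at has
          have h1 : algebraMap A _ (x * a) = algebraMap A (Localization (Submonoid.closure P)) s := by
            rw [map_mul, ← has, ← mul_assoc, hv, one_mul]
          have h2 : x * a = s := hinj h1
          obtain ⟨a', ha'⟩ := dvd_of_dvd_mul hP hdiv s.2 a ⟨1, by rw [mul_one]; exact h2⟩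
          have : x * a' = 1 := by
            apply mul_left_cancel₀ (hne0 s s.2)
            rw [mul_one]
            nth_rewrite 2 [← h2]
            rw [ha']; ring
          exact hx.not_isUnit (IsUnit.of_mul_eq_one _ this)
        · intro u v huv
          obtain ⟨⟨a, s⟩, has⟩ := IsLocalization.surj (Submonoid.closure P) u
          obtain ⟨⟨b, t⟩, hbt⟩ := IsLocalization.surj (Submonoid.closure P) v
          simp only at has hbt
          have h1 : algebraMap A _ (x * (s * t)) =
              algebraMap A (Localization (Submonoid.closure P)) (a * b) := by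
            rw [map_mul, huv, map_mul, map_mul, ← has, ← hbt]
            ring
          have h2 : x * (s * t) = a * b := hinj h1
          obtain ⟨s₁, hs₁, s₂, hs₂, hse, ⟨a', ha'⟩, ⟨b', hb'⟩⟩ :=
            exists_split hP (mul_mem s.2 t.2) a b ⟨x, by rw [← h2]; ring⟩
          have h3 : x = a' * b' := by
            apply mul_left_cancel₀ (hne0 _ (mul_mem s.2 t.2))
            rw [mul_comm, h2, ha', hb', hse]
            ring
          rcases hx.isUnit_or_isUnit h3 with h | h
          · left
            have hu : IsUnit (u * algebraMap A _ (s : A)) := by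
              rw [has, ha', map_mul]
              exact (hunit s₁ hs₁).mul (h.map _)
            exact isUnit_of_mul_isUnit_left hu
          · right
            have hv : IsUnit (v * algebraMap A _ (t : A)) := by
              rw [hbt, hb', map_mul]
              exact (hunit s₂ hs₂).mul (h.map _)
            exact isUnit_of_mul_isUnit_left hv
      have hprime := UniqueFactorizationMonoid.irreducible_iff_prime.mp hirr
      refine ⟨hx.ne_zero, hx.not_isUnit, ?_⟩
      intro a b hab
      have hab' : algebraMap A (Localization (Submonoid.closure P)) x ∣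
          algebraMap A _ a * algebraMap A _ b := by
        rw [← map_mul]; exact map_dvd _ hab
      have aux : ∀ a : A, algebraMap A (Localization (Submonoid.closure P)) x ∣ algebraMap A _ a →
          x ∣ a := by
        intro a ⟨w, hw⟩
        obtain ⟨⟨c, s⟩, hcs⟩ := IsLocalization.surj (Submonoid.closure P) w
        simp only at hcs
        have h1 : algebraMap A _ (a * s) =
            algebraMap A (Localization (Submonoid.closure P)) (x * c) := by
          rw [map_mul, hw, mul_assoc, hcs, map_mul]
        have h2 : a * s = x * c := hinj h1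
        obtain ⟨c', hc'⟩ := dvd_of_dvd_mul hP hdiv s.2 c ⟨a, by rw [← h2]; ring⟩
        refine ⟨c', mul_left_cancel₀ (hne0 s s.2) ?_⟩
        rw [mul_comm, h2, hc']; ring
      rcases hprime.dvd_or_dvd hab' with h | h
      · exact Or.inl (aux a h)
      · exact Or.inr (aux b h)
  apply UniqueFactorizationMonoid.of_exists_prime_factors
  intro a ha
  by_cases hu : IsUnit a
  · exact ⟨0, by simp, by simpa using (associated_one_iff_isUnit.mpr hu).symm⟩
  · obtain ⟨f, hf, hfa⟩ := hfac a ha hu
    exact ⟨f, fun b hb => key b (hf b hb), hfa⟩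

end Groth.Agent.S2119
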