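import Groth.Statements.S2120
import Mathlib.AlgebraicGeometry.Morphisms.Immersion
-- import your own Groth.Agent.* helpers here

set_option autoImplicit false
universe u
open CategoryTheory AlgebraicGeometry
open Mor

namespace Groth.Agent.S2120


open Limits in
theorem sep_of_comp {X Y S : Scheme.{u}} (f : X ⟶ Y) (g : Y ⟶ S) [Surjective f] [UniversallyClosed f]
    [IsSeparated (f ≫ g)] : IsSeparated g := by
  constructor
  apply IsClosedImmersion.of_isPreimmersion
  let F := pullback.map (f ≫ g) (f ≫ g) g g f f (𝟙 _) ((Category.comp_id _).trans rfl)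
        ((Category.comp_id _).trans rfl)
  have hF : UniversallyClosed F :=
    MorphismProperty.pullbackMap (P := @UniversallyClosed) ‹_› ‹_› rfl rfl
  have hcomm : pullback.diagonal (f ≫ g) ≫ F = f ≫ pullback.diagonal g := by
    apply pullback.hom_ext
    · rw [Category.assoc, Category.assoc, pullback.lift_fst, pullback.diagonal_fst_assoc,
        pullback.diagonal_fst, Category.comp_id]
    · rw [Category.assoc, Category.assoc, pullback.lift_snd, pullback.diagonal_snd_assoc,
        pullback.diagonal_snd, Category.comp_id]
  have hrange : Set.range (pullback.diagonal g) =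
      F '' (Set.range (pullback.diagonal (f ≫ g))) := by
    rw [← Set.range_comp]
    have h1 : (F ∘ (pullback.diagonal (f ≫ g))) = (pullback.diagonal g) ∘ f := by
      ext x
      have := congr_arg (fun h : X ⟶ pullback g g => h.base x) hcomm
      simpa using this
    rw [h1, Set.range_comp, Set.range_eq_univ.mpr f.surjective, Set.image_univ]
  rw [hrange]
  exact F.isClosedMap _ (pullback.diagonal (f ≫ g)).isClosedEmbedding.isClosed_range

/-- Let `f : X → Y` be surjective and universally closed. If `X` is quasi-separated then so is `Y`; if
`X` is separated then so is `Y`. -/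
theorem result {X Y : Scheme.{u}} (f : X ⟶ Y) [Surjective f] [UniversallyClosed f] :
    (QuasiSeparatedSpace X → QuasiSeparatedSpace Y) ∧ (X.IsSeparated → Y.IsSeparated) := by
  refine ⟨fun hX => ⟨fun U V hU hU' hV hV' => ?_⟩, fun hX => ?_⟩
  · have h1 : IsCompact (f ⁻¹' U ∩ f ⁻¹' V) :=
      hX.inter_isCompact _ _ (hU.preimage f.continuous)
        (QuasiCompact.isCompact_preimage (f := f) U hU hU')
        (hV.preimage f.continuous) (QuasiCompact.isCompact_preimage (f := f) V hV hV')
    have h2 : U ∩ V = f '' (f ⁻¹' U ∩ f ⁻¹' V) := by
      rw [← Set.preimage_inter, Set.image_preimage_eq _ f.surjective]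
    rw [h2]
    exact h1.image f.continuous
  · constructor
    have : IsSeparated (f ≫ Limits.terminal.from Y) := by
      rw [Limits.terminal.comp_from]
      infer_instance
    exact sep_of_comp f (Limits.terminal.from Y)

end Groth.Agent.S2120
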