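import Groth.Statements.S2123
import Mathlib

set_option autoImplicit false
universe u
open CategoryTheory AlgebraicGeometry
open Mor

namespace Groth.Agent.S2123



open AlgebraicGeometry CategoryTheory

/-- Let `X` be an integral separated scheme and `x, y` points such that the closure of `x` is not
contained in the closure of `y`. Then, inside the function field of `X`, the local ring at `x` is
not contained in the local ring at `y`. -/
theorem result (X : Scheme.{u}) [IsIntegral X] [X.IsSeparated] (x y : X)
    (h : ¬ closure ({x} : Set X) ⊆ closure {y}) :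
    ¬ Set.range (X.presheaf.stalkSpecializes (genericPoint_specializes x)) ⊆
        Set.range (X.presheaf.stalkSpecializes (genericPoint_specializes y)) := by

  intro hsub
  apply h
  set ιx := X.presheaf.stalkSpecializes (genericPoint_specializes x) with hιx
  set ιy := X.presheaf.stalkSpecializes (genericPoint_specializes y) with hιy
  have hinj : Function.Injective ιy.hom :=
    IsFractionRing.injective (X.presheaf.stalk y) X.functionField
  let e : X.presheaf.stalk y ≃+* ιy.hom.range := RingEquiv.ofBijective ιy.hom.rangeRestrict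
    ⟨fun a b hab => hinj (congrArg Subtype.val hab), RingHom.rangeRestrict_surjective _⟩
  let φ : X.presheaf.stalk x →+* X.presheaf.stalk y :=
    e.symm.toRingHom.comp (ιx.hom.codRestrict ιy.hom.range (fun a => hsub ⟨a, rfl⟩))
  have hφ : ∀ a, ιy.hom (φ a) = ιx.hom a := by
    intro a
    have h1 : (e (e.symm ⟨ιx.hom a, hsub ⟨a, rfl⟩⟩)).val = ιx.hom a := by
      rw [RingEquiv.apply_symm_apply]
    exact h1
  let φ' : X.presheaf.stalk x ⟶ X.presheaf.stalk y := CommRingCat.ofHom φ
  have hcomp : φ' ≫ ιy = ιx := by
    ext a
    exact hφ a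
  haveI : IsDominant (Spec.map ιy) := by
    refine ⟨?_⟩
    change DenseRange (PrimeSpectrum.comap ιy.hom)
    rw [PrimeSpectrum.denseRange_comap_iff_ker_le_nilRadical]
    rw [(RingHom.injective_iff_ker_eq_bot _).mp hinj]
    exact bot_le
  have hU : Spec.map ιy ≫ X.fromSpecStalk y = Spec.map ιy ≫ (Spec.map φ' ≫ X.fromSpecStalk x) := by
    rw [Scheme.SpecMap_stalkSpecializes_fromSpecStalk, ← Category.assoc, ← Spec.map_comp, hcomp,
      Scheme.SpecMap_stalkSpecializes_fromSpecStalk]
  have hfg : X.fromSpecStalk y = Spec.map φ' ≫ X.fromSpecStalk x := ext_of_isDominant (Spec.map ιy) hU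
  have hy : y ∈ Set.range (X.fromSpecStalk x) := by
    have h1 : X.fromSpecStalk y (IsLocalRing.closedPoint (X.presheaf.stalk y)) = y :=
      Scheme.fromSpecStalk_closedPoint
    rw [hfg] at h1
    exact ⟨Spec.map φ' (IsLocalRing.closedPoint (X.presheaf.stalk y)), h1⟩
  rw [Scheme.range_fromSpecStalk] at hy
  exact specializes_iff_closure_subset.mp hy

end Groth.Agent.S2123
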