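import Groth.Statements.S2129
import Mathlib
import Groth.Agent.Lib.Helper4.SmGU

set_option autoImplicit false
universe u
open CAlg

namespace Groth.Agent.S2129

open Groth.Agent.Lib.Helper4 in
/-- Let `R → S` be a smooth ring map, `𝔮` a prime of `S` over `𝔭`, and `A = R_𝔭 → B = S_𝔮` the induced
local homomorphism. Then strict henselizations of `A` and `B` have the same number of minimal prime
ideals (the same number of geometric branches, counted in ℕ∞, infinite counting as ∞). -/
theorem result {R S Ash Bsh : Type u} [CommRing R] [CommRing S] [Algebra R S]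
    [Algebra.Smooth R S] (q : Ideal S) [q.IsPrime] (p : Ideal R) [p.IsPrime] [q.LiesOver p]
    [CommRing Ash] [IsLocalRing Ash] [Algebra (Localization.AtPrime p) Ash]
    [IsLocalHom (algebraMap (Localization.AtPrime p) Ash)] [Hensel.IsStrictHenselization (Localization.AtPrime p) Ash]
    [CommRing Bsh] [IsLocalRing Bsh] [Algebra (Localization.AtPrime q) Bsh]
    [IsLocalHom (algebraMap (Localization.AtPrime q) Bsh)] [Hensel.IsStrictHenselization (Localization.AtPrime q) Bsh] :
    (minimalPrimes Ash).encard = (minimalPrimes Bsh).encard := by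
  obtain ⟨σ, hloc, hflat, hprime⟩ := SmGU.exists_ringHom_isPrime_map R S q p Ash Bsh
  let _ : Algebra Ash Bsh := σ.toAlgebra
  have hloc' : IsLocalHom (algebraMap Ash Bsh) := hloc
  have hflat' : Module.Flat Ash Bsh := hflat
  have hff : Module.FaithfullyFlat Ash Bsh := Module.FaithfullyFlat.of_flat_of_isLocalHom
  exact SmGU.encard_minimalPrimes_eq_of_isPrime_map (fun P hP => hprime P hP)

end Groth.Agent.S2129
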