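import Groth.Statements.S2131
-- import your own Groth.Agent.* helpers here

set_option autoImplicit false
universe u
open CAlg

namespace Groth.Agent.S2131


theorem mk_eq_zero_iff' {R M : Type u} [CommRing R] [AddCommGroup M] [Module R M] (S : Submonoid R)
    (m : M) (s : S) : LocalizedModule.mk m s = 0 ↔ ∃ c : S, c • m = 0 := by
  rw [← LocalizedModule.zero_mk (1 : S), LocalizedModule.mk_eq]
  simp

theorem bij_iff {R M N : Type u} [CommRing R] [AddCommGroup M] [Module R M]
    [AddCommGroup N] [Module R N] (S : Submonoid R) (φ : M →ₗ[R] N) :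
    Function.Bijective (LocalizedModule.map S φ) ↔
      (∀ m, φ m = 0 → ∃ s ∈ S, s • m = 0) ∧ (∀ n, ∃ s ∈ S, ∃ m, φ m = s • n) := by
  constructor
  · rintro ⟨hinj, hsurj⟩
    constructor
    · intro m hm
      have : LocalizedModule.mk m (1 : S) = 0 := by
        apply hinj
        rw [LocalizedModule.map_mk, hm, map_zero, LocalizedModule.zero_mk]
      rw [mk_eq_zero_iff'] at this
      obtain ⟨c, hc⟩ := this
      exact ⟨c, c.2, hc⟩
    · intro n
      obtain ⟨x, hx⟩ := hsurj (LocalizedModule.mk n 1)
      induction x using LocalizedModule.induction_on with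
      | h m s =>
        rw [LocalizedModule.map_mk, LocalizedModule.mk_eq] at hx
        obtain ⟨c, hc⟩ := hx
        refine ⟨c * s, (c * s).2, (c : R) • m, ?_⟩
        simp only [one_smul] at hc
        rw [map_smul]
        rw [mul_smul]
        exact hc
  · rintro ⟨h1, h2⟩
    constructor
    · rw [injective_iff_map_eq_zero]
      intro x hx
      induction x using LocalizedModule.induction_on with
      | h m s =>
        rw [LocalizedModule.map_mk, mk_eq_zero_iff'] at hx
        obtain ⟨c, hc⟩ := hx
        have : φ ((c : R) • m) = 0 := by rw [map_smul]; exact hc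
        obtain ⟨t, ht, htm⟩ := h1 _ this
        rw [mk_eq_zero_iff']
        refine ⟨⟨t, ht⟩ * c, ?_⟩
        rw [mul_smul]
        exact htm
    · intro y
      induction y using LocalizedModule.induction_on with
      | h n s =>
        obtain ⟨t, ht, m, hm⟩ := h2 n
        refine ⟨LocalizedModule.mk m (⟨t, ht⟩ * s), ?_⟩
        rw [LocalizedModule.map_mk, hm, LocalizedModule.mk_eq]
        refine ⟨1, ?_⟩
        simp only [one_smul]
        change (s : R) • t • n = (t * (s : R)) • n
        rw [mul_smul, smul_comm]

theorem bij_mono {R M N : Type u} [CommRing R] [AddCommGroup M] [Module R M]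
    [AddCommGroup N] [Module R N] {S T : Submonoid R} (hST : S ≤ T) (φ : M →ₗ[R] N)
    (h : Function.Bijective (LocalizedModule.map S φ)) :
    Function.Bijective (LocalizedModule.map T φ) := by
  rw [bij_iff] at h ⊢
  refine ⟨fun m hm => ?_, fun n => ?_⟩
  · obtain ⟨s, hs, h⟩ := h.1 m hm
    exact ⟨s, hST hs, h⟩
  · obtain ⟨s, hs, h⟩ := h.2 n
    exact ⟨s, hST hs, h⟩

/-- For an `R`-linear map from a finite module to a finitely presented module, the primes at which its
localization is bijective form an open subset of `Spec R`. -/
theorem result {R M N : Type u} [CommRing R] [AddCommGroup M] [Module R M] [Module.Finite R M]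
    [AddCommGroup N] [Module R N] [Module.FinitePresentation R N] (φ : M →ₗ[R] N) :
    IsOpen {p : PrimeSpectrum R | Function.Bijective (LocalizedModule.map p.asIdeal.primeCompl φ)} := by
  rw [isOpen_iff_forall_mem_open]
  intro p hp
  have hp' : Function.Bijective (IsLocalizedModule.map p.asIdeal.primeCompl
      (LocalizedModule.mkLinearMap p.asIdeal.primeCompl M)
      (LocalizedModule.mkLinearMap p.asIdeal.primeCompl N) φ) :=
    (IsLocalizedModule.map_bijective_iff_localizedModuleMap_bijective _ _).mpr hp
  obtain ⟨g, hg, hbij⟩ := Module.FinitePresentation.exists_notMem_bijective φ p.asIdeal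
    (LocalizedModule.mkLinearMap p.asIdeal.primeCompl M)
    (LocalizedModule.mkLinearMap p.asIdeal.primeCompl N) hp'
  refine ⟨PrimeSpectrum.basicOpen g, ?_, (PrimeSpectrum.basicOpen g).isOpen, hg⟩
  intro q hq
  refine bij_mono ?_ φ hbij
  rw [Submonoid.powers_le]
  exact hq

end Groth.Agent.S2131
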