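import Groth.Statements.S2132
import Mathlib
import Groth.Agent.Lib.Helper20.HandColimModel

set_option autoImplicit false
universe u
open CategoryTheory
open CAlg

namespace Groth.Agent.S2132


/-- Let `F : J ⥤ CommRingCat` be a filtered diagram of henselian local rings with local transition maps
and `c` a colimit cocone. Then the colimit is a henselian local ring. -/
theorem result {J : Type u} [SmallCategory J] [IsFiltered J] (F : J ⥤ CommRingCat.{u})
    (hF : ∀ j, HenselianLocalRing (F.obj j)) (hloc : ∀ (i j : J) (a : i ⟶ j), IsLocalHom (F.map a).hom)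
    (c : Limits.Cocone F) (hc : Limits.IsColimit c) : HenselianLocalRing c.pt := by
  have hcZ := Groth.Agent.Lib.Helper20.HandColimModel.HC.of_isColimit F c hc
  refine Groth.Agent.Lib.Helper20.HandColimModel.henselianLocalRing_of_hc hcZ hF ?_
  rintro i j _ ⟨a, rfl⟩
  have := hloc i j a
  exact ⟨fun x hx => this.map_nonunit x hx⟩

end Groth.Agent.S2132
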