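import Groth.Statements.S2134
-- import your own Groth.Agent.* helpers here
import Mathlib

set_option autoImplicit false
universe u
open CAlg

namespace Groth.Agent.S2134

/-- Let `K/k` be a field extension and `(K_α)` a nonempty family of intermediate fields, directed
downwards, with intersection `k`. For a `K`-subspace `V` of `K^n` (`n ≥ 1`), `V` contains a nonzero
vector with all coordinates in `k` if and only if for every `α` it contains a nonzero vector with
all coordinates in `K_α`. -/
theorem result {k K : Type u} [Field k] [Field K] [Algebra k K] {ι : Type u} [Nonempty ι]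
    (F : ι → IntermediateField k K) (hdir : ∀ a b : ι, ∃ c, F c ≤ F a ⊓ F b) (hinf : ⨅ a, F a = ⊥) (n : ℕ) (hn : 1 ≤ n)
    (V : Submodule K (Fin n → K)) :
    (∃ v ∈ V, v ≠ 0 ∧ ∀ i, v i ∈ Set.range (algebraMap k K)) ↔
      ∀ a, ∃ v ∈ V, v ≠ 0 ∧ ∀ i, v i ∈ F a := by
  classical
  constructor
  · rintro ⟨v, hv, hv0, hvk⟩ a
    refine ⟨v, hv, hv0, fun i => ?_⟩
    obtain ⟨c, hc⟩ := hvk i
    rw [← hc]
    exact (F a).algebraMap_mem c
  · intro h
    -- the set of supports of nonzero `F a`-rational vectors of `V`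
    let U : ι → Set (Set (Fin n)) := fun a =>
      {S | ∃ v ∈ V, v ≠ 0 ∧ (∀ i, v i ∈ F a) ∧ Function.support v = S}
    have hUmono : ∀ a b, F b ≤ F a → U b ⊆ U a := by
      rintro a b hab S ⟨v, hv, hv0, hvb, rfl⟩
      exact ⟨v, hv, hv0, fun i => hab (hvb i), rfl⟩
    obtain ⟨m, ⟨a₁, rfl⟩, hmin⟩ := WellFounded.has_min Nat.lt_wfRel.wf
      (Set.range fun a => (U a).ncard) (Set.range_nonempty _)
    have hUeq : ∀ b, F b ≤ F a₁ → U b = U a₁ := by
      intro b hb
      apply Set.eq_of_subset_of_ncard_le (hUmono a₁ b hb) _ (Set.toFinite _)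
      have := hmin _ ⟨b, rfl⟩
      exact not_lt.mp this
    have hne : (U a₁).Nonempty := by
      obtain ⟨v, hv, hv0, hva⟩ := h a₁
      exact ⟨_, v, hv, hv0, hva, rfl⟩
    obtain ⟨S, hS⟩ := Set.Finite.exists_minimal (Set.toFinite (U a₁)) hne
    obtain ⟨⟨w₁, hw₁V, hw₁0, hw₁a, hw₁S⟩, hSmin⟩ := hS
    -- a coordinate in the support
    obtain ⟨j, hj⟩ : ∃ j, w₁ j ≠ 0 := by
      by_contra hcon
      push Not at hcon
      exact hw₁0 (funext hcon)
    have hjS : j ∈ S := by rw [← hw₁S]; exact hj
    -- normalised vector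
    have key : ∀ a, ∃ u ∈ V, (∀ i, u i ∈ F a) ∧ Function.support u = S ∧ u j = 1 ∧
        ∀ i, u i ∈ F a₁ := by
      intro a
      obtain ⟨c, hc⟩ := hdir a₁ a
      have hc1 : F c ≤ F a₁ := hc.trans inf_le_left
      have hc2 : F c ≤ F a := hc.trans inf_le_right
      have hSc : S ∈ U c := by rw [hUeq c hc1]; exact ⟨w₁, hw₁V, hw₁0, hw₁a, hw₁S⟩
      obtain ⟨u, huV, hu0, huc, huS⟩ := hSc
      have huj : u j ≠ 0 := by
        have : j ∈ Function.support u := by rw [huS]; exact hjS
        exact this
      refine ⟨(u j)⁻¹ • u, V.smul_mem _ huV, ?_, ?_, ?_, ?_⟩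
      · intro i
        rw [Pi.smul_apply, smul_eq_mul]
        exact hc2 ((F c).mul_mem ((F c).inv_mem (huc j)) (huc i))
      · rw [← huS]
        ext i
        simp [huj]
      · rw [Pi.smul_apply, smul_eq_mul, inv_mul_cancel₀ huj]
      · intro i
        rw [Pi.smul_apply, smul_eq_mul]
        exact hc1 ((F c).mul_mem ((F c).inv_mem (huc j)) (huc i))
    obtain ⟨w, hwV, -, hwS, hwj, hwa₁⟩ := key a₁
    have hw0 : w ≠ 0 := by
      intro h0
      rw [h0] at hwj
      simp at hwj
    refine ⟨w, hwV, hw0, fun i => ?_⟩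
    rw [← IntermediateField.mem_bot, ← hinf, ← SetLike.mem_coe, IntermediateField.coe_iInf,
      Set.mem_iInter]
    intro a
    rw [SetLike.mem_coe]
    obtain ⟨u, huV, hua, huS, huj, hua₁⟩ := key a
    have hd : w - u = 0 := by
      by_contra hd0
      have hdU : Function.support (w - u) ∈ U a₁ :=
        ⟨w - u, V.sub_mem hwV huV, hd0, fun i => (F a₁).sub_mem (hwa₁ i) (hua₁ i), rfl⟩
      have hsub : Function.support (w - u) ≤ S := by
        intro i hi
        by_contra hiS
        apply hi
        have h1 : w i = 0 := by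
          have : i ∉ Function.support w := by rw [hwS]; exact hiS
          simpa using this
        have h2 : u i = 0 := by
          have : i ∉ Function.support u := by rw [huS]; exact hiS
          simpa using this
        rw [Pi.sub_apply, h1, h2, sub_zero]
      have := hSmin hdU hsub hjS
      apply this
      rw [Pi.sub_apply, hwj, huj, sub_self]
    rw [sub_eq_zero.mp hd]
    exact hua i

end Groth.Agent.S2134
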