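import Groth.Statements.S2135
import Mathlib
import Groth.Agent.Lib.Helper4.HzsUnibr5

set_option autoImplicit false
universe u
open CAlg

namespace Groth.Agent.S2135

open TensorProduct in
open Groth.Agent.Lib.Helper4 in
/-- A local ring `A` is geometrically unibranch if and only if a strict henselization of `A` has a
unique minimal prime ideal. -/
theorem result {A Ash : Type u} [CommRing A] [IsLocalRing A]
    [CommRing Ash] [IsLocalRing Ash] [Algebra A Ash] [IsLocalHom (algebraMap A Ash)]
    [Hensel.IsStrictHenselization A Ash] :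
    CAlg2.IsGeomUnibranch A ↔ CAlgX.HasUniqueMinimalPrime Ash := by
  have hff := Hzs.faithfullyFlat_of_isStrictHenselization A Ash
  have hinjA : Function.Injective (algebraMap A Ash) := FaithfulSMul.algebraMap_injective A Ash
  have hic : IsDomain (CAlg2.red A) → IsIntegrallyClosed (CAlg2.normRed A) := fun _ =>
    integralClosure.isIntegrallyClosedOfFiniteExtension (FractionRing (CAlg2.red A))
  have hinj : IsDomain (CAlg2.red A) →
      Function.Injective (algebraMap (CAlg2.red A) (CAlg2.normRed A)) := fun _ x y h =>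
    IsFractionRing.injective (CAlg2.red A) (FractionRing (CAlg2.red A)) (congrArg Subtype.val h)
  have hlocred : IsDomain (CAlg2.red A) → IsLocalRing (CAlg2.red A) := fun _ =>
    IsLocalRing.of_surjective' (Ideal.Quotient.mk (nilradical A)) Ideal.Quotient.mk_surjective
  constructor
  · rintro ⟨⟨hdom, hloc'⟩, hG⟩
    have hloc := hlocred hdom
    have hlh : IsLocalHom (algebraMap A (CAlg2.red A)) :=
      IsLocalHom.of_surjective (Ideal.Quotient.mk (nilradical A)) Ideal.Quotient.mk_surjective
    have hpiA : IsPurelyInseparable (IsLocalRing.ResidueField A)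
        (IsLocalRing.ResidueField (CAlg2.red A)) := by
      rw [isPurelyInseparable_iff]
      intro x
      obtain ⟨y, rfl⟩ := IsLocalRing.residue_surjective x
      obtain ⟨a, rfl⟩ := Ideal.Quotient.mk_surjective y
      have h1 : IsLocalRing.residue (CAlg2.red A) (Ideal.Quotient.mk (nilradical A) a) =
          algebraMap (IsLocalRing.ResidueField A) (IsLocalRing.ResidueField (CAlg2.red A))
            (IsLocalRing.residue A a) := by
        rw [IsLocalRing.ResidueField.algebraMap_residue]
        rfl
      rw [h1]
      exact ⟨isIntegral_algebraMap, fun _ => ⟨_, rfl⟩⟩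
    obtain ⟨h1, h2'⟩ := Unibr.isStrictHenselization_tensor_of_integral_local A (CAlg2.red A) Ash
    let _ : Algebra (CAlg2.red A) (Ash ⊗[A] CAlg2.red A) := Algebra.TensorProduct.rightAlgebra
    obtain ⟨h2, h3⟩ := h2'
    have hic' := hic hdom
    have hlh' : IsLocalHom (algebraMap (CAlg2.red A) (CAlg2.normRed A)) :=
      Unibr.abs_isLocalHom (CAlg2.red A) (CAlg2.normRed A)
    have hq : ExpChar (IsLocalRing.ResidueField (CAlg2.normRed A))
        (ringExpChar (IsLocalRing.ResidueField (CAlg2.normRed A))) := ringExpChar.expChar _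
    have hqR : ExpChar (IsLocalRing.ResidueField (CAlg2.red A))
        (ringExpChar (IsLocalRing.ResidueField (CAlg2.normRed A))) :=
      RingHom.expChar (algebraMap (IsLocalRing.ResidueField (CAlg2.red A))
        (IsLocalRing.ResidueField (CAlg2.normRed A)))
        (algebraMap (IsLocalRing.ResidueField (CAlg2.red A))
          (IsLocalRing.ResidueField (CAlg2.normRed A))).injective _
    have hpi : IsPurelyInseparable (IsLocalRing.ResidueField (CAlg2.red A))
        (IsLocalRing.ResidueField (CAlg2.normRed A)) := by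
      rw [isPurelyInseparable_iff_pow_mem _ (ringExpChar (IsLocalRing.ResidueField (CAlg2.normRed A)))]
      intro x
      obtain ⟨n, a, ha⟩ := hG (IsLocalRing.maximalIdeal (CAlg2.normRed A)) x
      refine ⟨n, IsLocalRing.residue (CAlg2.red A) (Ideal.Quotient.mk (nilradical A) a), ?_⟩
      rw [IsLocalRing.ResidueField.algebraMap_residue]
      exact ha
    have hS₀ : IsDomain (Ash ⊗[A] CAlg2.red A) :=
      Unibr.abs_isDomain_of_isLocalRing_strict (CAlg2.red A) (CAlg2.normRed A)
        (Ash ⊗[A] CAlg2.red A) (hinj hdom)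
    exact Unibr.existsUnique_minimalPrime_of_ker Ash
      (Algebra.TensorProduct.includeLeft : Ash →ₐ[A] Ash ⊗[A] CAlg2.red A).toRingHom
      (fun 𝔮 _ => Unibr.kerL_le A Ash 𝔮)
  · intro h
    have hdom := Unibr.isDomain_red_of_existsUnique_minimalPrime A Ash hinjA h
    have hloc := hlocred hdom
    have hlh : IsLocalHom (algebraMap A (CAlg2.red A)) :=
      IsLocalHom.of_surjective (Ideal.Quotient.mk (nilradical A)) Ideal.Quotient.mk_surjective
    have hpiA : IsPurelyInseparable (IsLocalRing.ResidueField A)
        (IsLocalRing.ResidueField (CAlg2.red A)) := by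
      rw [isPurelyInseparable_iff]
      intro x
      obtain ⟨y, rfl⟩ := IsLocalRing.residue_surjective x
      obtain ⟨a, rfl⟩ := Ideal.Quotient.mk_surjective y
      have h1 : IsLocalRing.residue (CAlg2.red A) (Ideal.Quotient.mk (nilradical A) a) =
          algebraMap (IsLocalRing.ResidueField A) (IsLocalRing.ResidueField (CAlg2.red A))
            (IsLocalRing.residue A a) := by
        rw [IsLocalRing.ResidueField.algebraMap_residue]
        rfl
      rw [h1]
      exact ⟨isIntegral_algebraMap, fun _ => ⟨_, rfl⟩⟩
    obtain ⟨h1, h2'⟩ := Unibr.isStrictHenselization_tensor_of_integral_local A (CAlg2.red A) Ash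
    let _ : Algebra (CAlg2.red A) (Ash ⊗[A] CAlg2.red A) := Algebra.TensorProduct.rightAlgebra
    obtain ⟨h2, h3⟩ := h2'
    have hred : IsReduced (Ash ⊗[A] CAlg2.red A) :=
      (Hzs.isReduced_iff_of_isStrictHenselization (CAlg2.red A) _).mpr inferInstance
    have hS₀ : IsDomain (Ash ⊗[A] CAlg2.red A) :=
      Unibr.isDomain_of_existsUnique_minimalPrime Ash
        (Algebra.TensorProduct.includeLeft : Ash →ₐ[A] Ash ⊗[A] CAlg2.red A).toRingHom
        (Unibr.includeLeft_surjective A Ash) (fun 𝔮 _ => Unibr.kerL_le A Ash 𝔮) h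
    have hloc' : IsLocalRing (CAlg2.normRed A) :=
      Unibr.abs_isLocalRing_of_isDomain_strict (CAlg2.red A) (CAlg2.normRed A)
        (Ash ⊗[A] CAlg2.red A) (FractionRing (CAlg2.red A)) Subtype.val_injective
    have hlh' : IsLocalHom (algebraMap (CAlg2.red A) (CAlg2.normRed A)) :=
      Unibr.abs_isLocalHom (CAlg2.red A) (CAlg2.normRed A)
    have hpi := Unibr.abs_isPurelyInseparable_of_isDomain_strict (CAlg2.red A) (CAlg2.normRed A)
        (Ash ⊗[A] CAlg2.red A) (FractionRing (CAlg2.red A)) Subtype.val_injective
    refine ⟨⟨hdom, hloc'⟩, ?_⟩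
    intro m' hm'
    obtain rfl : m' = IsLocalRing.maximalIdeal (CAlg2.normRed A) := IsLocalRing.eq_maximalIdeal hm'
    intro x
    have hq : ExpChar (IsLocalRing.ResidueField (CAlg2.normRed A))
        (ringExpChar (IsLocalRing.ResidueField (CAlg2.normRed A))) := ringExpChar.expChar _
    have hqR : ExpChar (IsLocalRing.ResidueField (CAlg2.red A))
        (ringExpChar (IsLocalRing.ResidueField (CAlg2.normRed A))) :=
      RingHom.expChar (algebraMap (IsLocalRing.ResidueField (CAlg2.red A))
        (IsLocalRing.ResidueField (CAlg2.normRed A)))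
        (algebraMap (IsLocalRing.ResidueField (CAlg2.red A))
          (IsLocalRing.ResidueField (CAlg2.normRed A))).injective _
    obtain ⟨n, y, hy⟩ := IsPurelyInseparable.pow_mem (E := IsLocalRing.ResidueField (CAlg2.normRed A))
      (IsLocalRing.ResidueField (CAlg2.red A))
      (ringExpChar (IsLocalRing.ResidueField (CAlg2.normRed A))) x
    obtain ⟨r, rfl⟩ := IsLocalRing.residue_surjective y
    obtain ⟨a, rfl⟩ := Ideal.Quotient.mk_surjective r
    refine ⟨n, a, ?_⟩
    rw [IsLocalRing.ResidueField.algebraMap_residue] at hy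
    exact hy

end Groth.Agent.S2135
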