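import Groth.Statements.S2136
import Mathlib
import Groth.Agent.Lib.Helper6.UB3
-- import your own Groth.Agent.* helpers here

set_option autoImplicit false
universe u
open CAlg

namespace Groth.Agent.S2136

/-- Let `A` be a domain, `A → B` a ring map of finite type, and `𝔮` a prime of `B` lying over `𝔭 ⊆ A`,
with `A_𝔭` geometrically unibranch, `A → B` unramified at `𝔮` and `A_𝔭 → B_𝔮` injective. Then `B_g`
is étale over `A` for some `g ∉ 𝔮`. (`B` is assumed of finite type over `A` throughout; the
published statement needs this only after inverting an element outside `𝔮`.) -/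
theorem result {A B : Type u} [CommRing A] [IsDomain A] [CommRing B]
    [Algebra A B] (q : Ideal B) [q.IsPrime] (p : Ideal A) [p.IsPrime] [q.LiesOver p]
    (hA : CAlg2.IsGeomUnibranch (Localization.AtPrime p)) [Algebra.FiniteType A B] [Algebra.IsUnramifiedAt A q]
    (hinj : Function.Injective (Localization.localRingHom p q (algebraMap A B) (q.over_def p))) :
    ∃ g : B, g ∉ q ∧ Algebra.Etale A (Localization.Away g) := by
  classical
  have hp : q.comap (algebraMap A B) = p := (q.over_def p).symm
  -- a prime of `B_q` over the zero ideal of `A_p`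
  have hbotmin : (⊥ : Ideal (Localization.AtPrime p)) ∈ minimalPrimes (Localization.AtPrime p) := by
    exact ⟨⟨Ideal.isPrime_bot, le_rfl⟩, fun J _ _ => bot_le⟩
  obtain ⟨rq, hrqp, hrqc⟩ :=
    Ideal.exists_comap_eq_of_mem_minimalPrimes_of_injective hinj ⊥ hbotmin
  haveI := hrqp
  let r : Ideal B := rq.comap (algebraMap B (Localization.AtPrime q))
  haveI : r.IsPrime := Ideal.comap_isPrime _ _
  have hrq : r ≤ q := by
    have h1 : rq ≤ IsLocalRing.maximalIdeal (Localization.AtPrime q) :=
      IsLocalRing.le_maximalIdeal hrqp.ne_top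
    have h2 := Ideal.comap_mono (f := algebraMap B (Localization.AtPrime q)) h1
    have h3 : Ideal.comap (algebraMap B (Localization.AtPrime q))
        (IsLocalRing.maximalIdeal (Localization.AtPrime q)) = q :=
      IsLocalization.AtPrime.under_maximalIdeal (Localization.AtPrime q) q
    rwa [h3] at h2
  have hr : ∀ a : A, algebraMap A B a ∈ r → ∃ s ∉ p, s * a = 0 := by
    intro a ha
    have h1 : algebraMap B (Localization.AtPrime q) (algebraMap A B a) ∈ rq := ha
    rw [← Localization.localRingHom_to_map p q (algebraMap A B) (q.over_def p)] at h1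
    have h2 : algebraMap A (Localization.AtPrime p) a ∈
        rq.comap (Localization.localRingHom p q (algebraMap A B) (q.over_def p)) := h1
    rw [hrqc, Ideal.mem_bot, IsLocalization.map_eq_zero_iff p.primeCompl] at h2
    obtain ⟨⟨s, hs⟩, hsa⟩ := h2
    exact ⟨s, hs, hsa⟩
  obtain ⟨g, hg, hE⟩ := Groth.Agent.Lib.Helper6.UB.exists_etale_away A B q p hp hA r hrq hr
    (Or.inl inferInstance)
  exact ⟨g, hg, hE⟩

end Groth.Agent.S2136
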