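import Groth.Statements.S2139
import Mathlib

set_option autoImplicit false
universe u
open CAlg

namespace Groth.Agent.S2139



/-- The comparison map from the total ring of fractions to the fraction field of a localization
that is a domain. -/
noncomputable def phi {R : Type u} [CommRing R] (p : Ideal R) [p.IsPrime]
    [IsDomain (Localization.AtPrime p)] :
    FractionRing R →ₐ[R] FractionRing (Localization.AtPrime p) :=
  IsLocalization.liftAlgHom (M := nonZeroDivisors R) (S := FractionRing R)
    (f := Algebra.ofId R (FractionRing (Localization.AtPrime p))) (by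
      intro y
      have h1 : algebraMap R (Localization.AtPrime p) y ∈
          nonZeroDivisors (Localization.AtPrime p) := by
        rw [mem_nonZeroDivisors_iff_right]
        intro x hx
        obtain ⟨a, s, rfl⟩ := IsLocalization.exists_mk'_eq p.primeCompl x
        rw [mul_comm, ← IsLocalization.mk'_one (M := p.primeCompl) (Localization.AtPrime p),
          ← IsLocalization.mk'_mul, IsLocalization.mk'_eq_zero_iff] at hx
        obtain ⟨t, ht⟩ := hx
        rw [IsLocalization.mk'_eq_zero_iff]
        refine ⟨t, ?_⟩
        have h2 : ((t : R) * a) * (y : R) = 0 := by rw [← ht]; ring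
        exact (mem_nonZeroDivisors_iff_right.mp y.2) _ h2
      have h3 : algebraMap (Localization.AtPrime p) (FractionRing (Localization.AtPrime p))
          (algebraMap R (Localization.AtPrime p) y) ≠ 0 := by
        intro h0
        have := (IsFractionRing.injective (Localization.AtPrime p)
          (FractionRing (Localization.AtPrime p))) (h0.trans (map_zero _).symm)
        exact nonZeroDivisors.ne_zero h1 this
      rw [Algebra.ofId_apply, IsScalarTower.algebraMap_apply R (Localization.AtPrime p)]
      exact IsUnit.mk0 _ h3)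

theorem phi_algebraMap {R : Type u} [CommRing R] (p : Ideal R) [p.IsPrime]
    [IsDomain (Localization.AtPrime p)] (r : R) :
    phi p (algebraMap R (FractionRing R) r) =
      algebraMap (Localization.AtPrime p) (FractionRing (Localization.AtPrime p))
        (algebraMap R (Localization.AtPrime p) r) := by
  rw [AlgHom.commutes, IsScalarTower.algebraMap_apply R (Localization.AtPrime p)]

theorem forward {R : Type u} [CommRing R]
    (h : ∀ (p : Ideal R) [p.IsPrime],
      IsDomain (Localization.AtPrime p) ∧ IsIntegrallyClosed (Localization.AtPrime p)) :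
    IsIntegrallyClosedIn R (FractionRing R) := by
  rw [isIntegrallyClosedIn_iff]
  refine ⟨IsFractionRing.injective R (FractionRing R), ?_⟩
  intro x hx
  by_contra hcon
  let D : Ideal R := (LinearMap.range (Algebra.linearMap R (FractionRing R))).colon {x}
  have hD : D ≠ ⊤ := by
    intro htop
    have h1 : (1 : R) ∈ D := by rw [htop]; trivial
    rw [Submodule.mem_colon_singleton, one_smul] at h1
    obtain ⟨y, hy⟩ := h1
    exact hcon ⟨y, hy⟩
  obtain ⟨𝔪, hmax, hle⟩ := Ideal.exists_le_maximal D hD
  haveI := hmax.isPrime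
  obtain ⟨hdom, hic⟩ := h 𝔪
  have hz : IsIntegral (Localization.AtPrime 𝔪) (phi 𝔪 x) := (hx.map (phi 𝔪)).tower_top
  obtain ⟨y, hy⟩ := (isIntegrallyClosed_iff (FractionRing (Localization.AtPrime 𝔪))).mp hic hz
  obtain ⟨a, s, rfl⟩ := IsLocalization.exists_mk'_eq 𝔪.primeCompl y
  obtain ⟨b, d, rfl⟩ := IsLocalization.exists_mk'_eq (nonZeroDivisors R) x
  have h2 : phi 𝔪 (IsLocalization.mk' (FractionRing R) b d) *
      phi 𝔪 (algebraMap R (FractionRing R) d) = phi 𝔪 (algebraMap R (FractionRing R) b) := by
    rw [← map_mul, IsLocalization.mk'_spec]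
  rw [← hy, phi_algebraMap, phi_algebraMap, ← map_mul] at h2
  have h3 := IsFractionRing.injective (Localization.AtPrime 𝔪)
    (FractionRing (Localization.AtPrime 𝔪)) h2
  have h4 : algebraMap R (Localization.AtPrime 𝔪) (a * d) =
      algebraMap R (Localization.AtPrime 𝔪) ((s : R) * b) := by
    rw [map_mul, map_mul, ← h3, ← mul_assoc, mul_comm (algebraMap R _ (s : R)),
      IsLocalization.mk'_spec]
  obtain ⟨t, ht⟩ := (IsLocalization.eq_iff_exists 𝔪.primeCompl (Localization.AtPrime 𝔪)).mp h4
  have h5 : (t : R) * s ∈ D := by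
    rw [Submodule.mem_colon_singleton]
    refine ⟨(t : R) * a, ?_⟩
    rw [Algebra.linearMap_apply, Algebra.smul_def, IsLocalization.mul_mk'_eq_mk'_of_mul,
      IsLocalization.eq_mk'_iff_mul_eq, ← map_mul]
    congr 1
    rw [mul_assoc, ht]; ring
  have h6 := hle h5
  exact (Ideal.IsPrime.mem_or_mem inferInstance h6).elim t.2 s.2

theorem zero_of_mem_all {R : Type u} [CommRing R] [IsReduced R] {x : R}
    (h : ∀ q ∈ minimalPrimes R, x ∈ q) : x = 0 := by
  have h1 : x ∈ sInf (minimalPrimes R) := by
    rw [Ideal.mem_sInf]
    intro q hq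
    exact h q hq
  have h2 : sInf (minimalPrimes R) = ⊥ := by
    show sInf (⊥ : Ideal R).minimalPrimes = ⊥
    rw [Ideal.sInf_minimalPrimes]
    exact nilradical_eq_zero R
  rw [h2] at h1
  exact h1

theorem nzd_of_not_mem {R : Type u} [CommRing R] [IsReduced R] (r : R)
    (h : ∀ q ∈ minimalPrimes R, r ∉ q) : r ∈ nonZeroDivisors R := by
  rw [mem_nonZeroDivisors_iff_right]
  intro x hx
  apply zero_of_mem_all
  intro q hq
  have hqp : q.IsPrime := hq.1.1
  have h1 : x * r ∈ q := by rw [hx]; exact q.zero_mem
  exact (Ideal.IsPrime.mem_or_mem hqp h1).resolve_right (h q hq)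

theorem idem {R : Type u} [CommRing R] [IsReduced R] (hfin : (minimalPrimes R).Finite)
    (hic : IsIntegrallyClosedIn R (FractionRing R)) (q : Ideal R) (hq : q ∈ minimalPrimes R) :
    ∃ e : R, e * e = e ∧ 1 - e ∈ q ∧ ∀ q' ∈ minimalPrimes R, q' ≠ q → e ∈ q' := by
  classical
  have hqp : q.IsPrime := hq.1.1
  have hinc : ∀ q' ∈ minimalPrimes R, q' ≠ q → ¬ q' ≤ q ∧ ¬ q ≤ q' := by
    intro q' hq' hne
    constructor
    · intro hle
      exact hne (le_antisymm hle (hq.2 hq'.1 hle))
    · intro hle
      exact hne (le_antisymm (hq'.2 hq.1 hle) hle)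
  let S := hfin.toFinset.erase q
  have hS : ∀ q', q' ∈ S ↔ q' ∈ minimalPrimes R ∧ q' ≠ q := by
    intro q'
    simp [S, and_comm]
  have hx : ∀ q' ∈ S, ∃ y, y ∈ q' ∧ y ∉ q := by
    intro q' hq'
    have h1 := (hinc q' ((hS q').mp hq').1 ((hS q').mp hq').2).1
    exact SetLike.not_le_iff_exists.mp h1
  let y : Ideal R → R := fun q' => if h : q' ∈ S then (hx q' h).choose else 1
  have hy : ∀ q' ∈ S, y q' ∈ q' ∧ y q' ∉ q := by
    intro q' h
    simp only [y, dif_pos h]
    exact (hx q' h).choose_spec
  let a := ∏ q' ∈ S, y q'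
  have ha1 : a ∉ q := by
    intro h
    obtain ⟨q', hq', hq''⟩ := (Ideal.IsPrime.prod_mem_iff).mp h
    exact (hy q' hq').2 hq''
  have ha2 : ∀ q' ∈ S, a ∈ q' := fun q' hq' =>
    Ideal.mem_of_dvd _ (Finset.dvd_prod_of_mem _ hq') (hy q' hq').1
  have hb : ∃ b, b ∈ q ∧ ∀ q' ∈ S, b ∉ q' := by
    by_contra hcon
    push Not at hcon
    have hsub : (q : Set R) ⊆ ⋃ q' ∈ (S : Set (Ideal R)), (q' : Set R) := by
      intro b hb
      obtain ⟨q', hq', hbq'⟩ := hcon b hb
      exact Set.mem_biUnion (Finset.mem_coe.mpr hq') hbq'
    obtain ⟨q', hq', hle⟩ := (Ideal.subset_union_prime (s := S) (f := fun q' => q') q q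
      (fun q' hq' _ _ => ((hS q').mp hq').1.1.1)).mp hsub
    exact (hinc q' ((hS q').mp hq').1 ((hS q').mp hq').2).2 hle
  obtain ⟨b, hbq, hbS⟩ := hb
  have hab : a * b = 0 := by
    apply zero_of_mem_all
    intro q' hq'
    by_cases h : q' = q
    · subst h
      exact Ideal.mul_mem_left _ _ hbq
    · exact Ideal.mul_mem_right _ _ (ha2 q' ((hS q').mpr ⟨hq', h⟩))
  have hd : a + b ∈ nonZeroDivisors R := by
    apply nzd_of_not_mem
    intro q' hq' hmem
    by_cases h : q' = q
    · subst h
      exact ha1 ((Submodule.add_mem_iff_left _ hbq).mp hmem)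
    · have hq'S := (hS q').mpr ⟨hq', h⟩
      exact hbS q' hq'S ((Submodule.add_mem_iff_right _ (ha2 q' hq'S)).mp hmem)
  have hε : IsLocalization.mk' (FractionRing R) a (⟨a + b, hd⟩ : nonZeroDivisors R) *
      IsLocalization.mk' (FractionRing R) a (⟨a + b, hd⟩ : nonZeroDivisors R) =
      IsLocalization.mk' (FractionRing R) a (⟨a + b, hd⟩ : nonZeroDivisors R) := by
    rw [← IsLocalization.mk'_mul]
    apply IsLocalization.mk'_eq_of_eq
    simp only [Submonoid.coe_mul]
    linear_combination (a + b) * hab
  have hint : IsIntegral R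
      (IsLocalization.mk' (FractionRing R) a (⟨a + b, hd⟩ : nonZeroDivisors R)) := by
    refine ⟨Polynomial.X ^ 2 - Polynomial.X, ?_, ?_⟩
    · exact Polynomial.monic_X_pow_sub (lt_of_le_of_lt Polynomial.degree_X_le (by norm_num))
    · simp [Polynomial.eval₂_sub, pow_two, hε]
  obtain ⟨e, he⟩ := (isIntegrallyClosedIn_iff.mp hic).2 hint
  have hinj := (isIntegrallyClosedIn_iff.mp hic).1
  have he1 : e * (a + b) = a := by
    apply hinj
    rw [map_mul, he]
    exact IsLocalization.mk'_spec (FractionRing R) a ⟨a + b, hd⟩
  have he2 : e * e = e := by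
    apply hinj
    rw [map_mul, he, hε]
  refine ⟨e, he2, ?_, ?_⟩
  · have h1 : (1 - e) * a ∈ q := by
      have h2 : (1 - e) * a = e * b := by linear_combination -he1
      rw [h2]
      exact Ideal.mul_mem_left _ _ hbq
    exact (Ideal.IsPrime.mem_or_mem hqp h1).resolve_right ha1
  · intro q' hq' hne
    have hq'p : q'.IsPrime := hq'.1.1
    have hq'S := (hS q').mpr ⟨hq', hne⟩
    have h1 : e * b ∈ q' := by
      have h2 : e * b = a - e * a := by linear_combination he1
      rw [h2]
      exact Submodule.sub_mem _ (ha2 q' hq'S) (Ideal.mul_mem_left _ _ (ha2 q' hq'S))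
    exact (Ideal.IsPrime.mem_or_mem hq'p h1).resolve_right (hbS q' hq'S)

theorem idem_mul_aeval {R S : Type u} [CommRing R] [CommRing S] [Algebra R S] (ε Y : S)
    (hε : ε * ε = ε) (P : Polynomial R) :
    ε * Polynomial.aeval (ε * Y) P = ε * Polynomial.aeval Y P := by
  induction P using Polynomial.induction_on' with
  | add p q hp hq => simp only [map_add, mul_add, hp, hq]
  | monomial n a =>
    simp only [Polynomial.aeval_monomial]
    have h1 : ε * (ε * Y) ^ n = ε * Y ^ n := by
      rw [mul_pow, ← mul_assoc, ← pow_succ']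
      congr 1
      exact IsIdempotentElem.pow_succ_eq n hε
    calc ε * (algebraMap R S a * (ε * Y) ^ n) = algebraMap R S a * (ε * (ε * Y) ^ n) := by ring
      _ = algebraMap R S a * (ε * Y ^ n) := by rw [h1]
      _ = ε * (algebraMap R S a * Y ^ n) := by ring

theorem backward {R : Type u} [CommRing R] [IsReduced R] (hfin : (minimalPrimes R).Finite)
    (hic : IsIntegrallyClosedIn R (FractionRing R)) (p : Ideal R) [p.IsPrime] :
    IsDomain (Localization.AtPrime p) ∧ IsIntegrallyClosed (Localization.AtPrime p) := by
  obtain ⟨q, hq, hqp⟩ := Ideal.exists_minimalPrimes_le (bot_le : (⊥ : Ideal R) ≤ p)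
  have hqprime : q.IsPrime := hq.1.1
  obtain ⟨e, he2, he1, heq'⟩ := idem hfin hic q hq
  have hep : e ∉ p := by
    intro h
    have h1 : (1 : R) ∈ p := by
      have h2 := p.add_mem h (hqp he1)
      simpa using h2
    exact (Ideal.IsPrime.ne_top inferInstance) ((Ideal.eq_top_iff_one _).mpr h1)
  have hkill : ∀ r ∈ q, e * r = 0 := by
    intro r hr
    apply zero_of_mem_all
    intro q' hq'
    by_cases h : q' = q
    · subst h
      exact Ideal.mul_mem_left _ _ hr
    · exact Ideal.mul_mem_right _ _ (heq' q' hq' h)
  have hZ0 : ∀ r : R, (∃ t : p.primeCompl, (t : R) * r = 0) ↔ r ∈ q := by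
    intro r
    constructor
    · rintro ⟨t, ht⟩
      have h1 : (t : R) * r ∈ q := by rw [ht]; exact q.zero_mem
      exact (Ideal.IsPrime.mem_or_mem hqprime h1).resolve_left (fun h => t.2 (hqp h))
    · intro hr
      exact ⟨⟨e, hep⟩, hkill r hr⟩
  have hZ : ∀ r : R, algebraMap R (Localization.AtPrime p) r = 0 ↔ r ∈ q := by
    intro r
    rw [IsLocalization.map_eq_zero_iff p.primeCompl]
    exact hZ0 r
  have hZ' : ∀ (r : R) (s : p.primeCompl),
      IsLocalization.mk' (Localization.AtPrime p) r s = 0 ↔ r ∈ q := by
    intro r s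
    rw [IsLocalization.mk'_eq_zero_iff]
    exact hZ0 r
  have hdom : IsDomain (Localization.AtPrime p) := by
    haveI : NoZeroDivisors (Localization.AtPrime p) := ⟨by
      intro x y hxy
      obtain ⟨a, s, rfl⟩ := IsLocalization.exists_mk'_eq p.primeCompl x
      obtain ⟨b, t, rfl⟩ := IsLocalization.exists_mk'_eq p.primeCompl y
      rw [← IsLocalization.mk'_mul, hZ'] at hxy
      rcases Ideal.IsPrime.mem_or_mem hqprime hxy with h | h
      · left
        exact (hZ' a s).mpr h
      · right
        exact (hZ' b t).mpr h⟩
    exact NoZeroDivisors.to_isDomain _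
  refine ⟨hdom, ?_⟩
  rw [isIntegrallyClosed_iff (FractionRing (Localization.AtPrime p))]
  intro z hz
  obtain ⟨m, hm⟩ := IsIntegral.exists_multiple_integral_of_isLocalization p.primeCompl z hz
  suffices hsuff : ∃ y, algebraMap (Localization.AtPrime p)
      (FractionRing (Localization.AtPrime p)) y = m • z by
    obtain ⟨y, hy⟩ := hsuff
    refine ⟨IsLocalization.mk' (Localization.AtPrime p) 1 m * y, ?_⟩
    rw [map_mul, hy, Submonoid.smul_def, Algebra.smul_def,
      IsScalarTower.algebraMap_apply R (Localization.AtPrime p)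
        (FractionRing (Localization.AtPrime p)), ← mul_assoc, ← map_mul,
      IsLocalization.mk'_spec, map_one, map_one, one_mul]
  have hfrac : ∃ u v : R, v ∉ q ∧
      (m • z) * algebraMap R (FractionRing (Localization.AtPrime p)) v =
        algebraMap R (FractionRing (Localization.AtPrime p)) u := by
    obtain ⟨x1, x2, hx⟩ := IsLocalization.exists_mk'_eq
      (nonZeroDivisors (Localization.AtPrime p)) (m • z)
    obtain ⟨r, s, hrs⟩ := IsLocalization.exists_mk'_eq p.primeCompl x1
    obtain ⟨r', s', hrs'⟩ := IsLocalization.exists_mk'_eq p.primeCompl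
      (x2 : Localization.AtPrime p)
    refine ⟨r * s', r' * s, ?_, ?_⟩
    · intro hmem
      rcases Ideal.IsPrime.mem_or_mem hqprime hmem with h | h
      · have h1 : (x2 : Localization.AtPrime p) = 0 := by
          rw [← hrs']
          exact (hZ' r' s').mpr h
        exact nonZeroDivisors.coe_ne_zero x2 h1
      · exact s.2 (hqp h)
    · rw [← hx]
      simp only [IsScalarTower.algebraMap_apply R (Localization.AtPrime p)
        (FractionRing (Localization.AtPrime p)), map_mul]
      have e1 : algebraMap R (Localization.AtPrime p) r =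
          x1 * algebraMap R (Localization.AtPrime p) (s : R) := by
        rw [← hrs, IsLocalization.mk'_spec]
      have e2 : algebraMap R (Localization.AtPrime p) r' =
          (x2 : Localization.AtPrime p) * algebraMap R (Localization.AtPrime p) (s' : R) := by
        rw [← hrs', IsLocalization.mk'_spec]
      rw [e1, e2, map_mul, map_mul]
      have e3 : IsLocalization.mk' (FractionRing (Localization.AtPrime p)) x1 x2 *
          algebraMap (Localization.AtPrime p) (FractionRing (Localization.AtPrime p)) x2 =
          algebraMap (Localization.AtPrime p) (FractionRing (Localization.AtPrime p)) x1 :=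
        IsLocalization.mk'_spec _ _ _
      linear_combination (algebraMap (Localization.AtPrime p)
        (FractionRing (Localization.AtPrime p)) (algebraMap R (Localization.AtPrime p) (s' : R)) *
        algebraMap (Localization.AtPrime p) (FractionRing (Localization.AtPrime p))
          (algebraMap R (Localization.AtPrime p) (s : R))) * e3
  obtain ⟨u, v, hvq, huv⟩ := hfrac
  have hv'' : e * v + (1 - e) ∈ nonZeroDivisors R := by
    apply nzd_of_not_mem
    intro q' hq' hmem
    by_cases h : q' = q
    · subst h
      have h1 : v ∈ q' := by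
        have h2 : v = (e * v + (1 - e)) - (1 - e) * (1 - v) := by ring
        rw [h2]
        exact Submodule.sub_mem _ hmem (Ideal.mul_mem_right _ _ he1)
      exact hvq h1
    · have hq'p : q'.IsPrime := hq'.1.1
      have h1 : (1 : R) ∈ q' := by
        have h2 : (1 : R) = (e * v + (1 - e)) - e * v + e := by ring
        rw [h2]
        exact Submodule.add_mem _ (Submodule.sub_mem _ hmem
          (Ideal.mul_mem_right _ _ (heq' q' hq' h))) (heq' q' hq' h)
      exact hq'p.ne_top ((Ideal.eq_top_iff_one _).mpr h1)
  have hvv : algebraMap R (Localization.AtPrime p) (e * v + (1 - e)) =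
      algebraMap R (Localization.AtPrime p) v := by
    rw [← sub_eq_zero, ← map_sub, hZ]
    have h1 : e * v + (1 - e) - v = (1 - e) * (1 - v) := by ring
    rw [h1]
    exact Ideal.mul_mem_right _ _ he1
  have hφX : phi p (IsLocalization.mk' (FractionRing R) u
      (⟨e * v + (1 - e), hv''⟩ : nonZeroDivisors R)) = m • z := by
    have h1 : phi p (IsLocalization.mk' (FractionRing R) u
        (⟨e * v + (1 - e), hv''⟩ : nonZeroDivisors R)) *
        phi p (algebraMap R (FractionRing R) (e * v + (1 - e))) =
        phi p (algebraMap R (FractionRing R) u) := by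
      rw [← map_mul]
      congr 1
      exact IsLocalization.mk'_spec (FractionRing R) u ⟨_, hv''⟩
    rw [phi_algebraMap, phi_algebraMap, hvv] at h1
    rw [IsScalarTower.algebraMap_apply R (Localization.AtPrime p)
      (FractionRing (Localization.AtPrime p)),
      IsScalarTower.algebraMap_apply R (Localization.AtPrime p)
      (FractionRing (Localization.AtPrime p))] at huv
    have hne : algebraMap (Localization.AtPrime p) (FractionRing (Localization.AtPrime p))
        (algebraMap R (Localization.AtPrime p) v) ≠ 0 := by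
      intro h0
      have h2 := IsFractionRing.injective (Localization.AtPrime p)
        (FractionRing (Localization.AtPrime p)) (h0.trans (map_zero _).symm)
      exact hvq ((hZ v).mp h2)
    exact mul_right_cancel₀ hne (h1.trans huv.symm)
  obtain ⟨P, hPm, hPe⟩ := hm
  rw [← Polynomial.aeval_def] at hPe
  have hker : ∀ W : FractionRing R, phi p W = 0 → algebraMap R (FractionRing R) e * W = 0 := by
    intro W hW
    obtain ⟨w, d, rfl⟩ := IsLocalization.exists_mk'_eq (nonZeroDivisors R) W
    have h1 : phi p (IsLocalization.mk' (FractionRing R) w d) *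
        phi p (algebraMap R (FractionRing R) (d : R)) =
        phi p (algebraMap R (FractionRing R) w) := by
      rw [← map_mul, IsLocalization.mk'_spec]
    rw [hW, zero_mul, phi_algebraMap] at h1
    have h2 := IsFractionRing.injective (Localization.AtPrime p)
      (FractionRing (Localization.AtPrime p)) (h1.symm.trans (map_zero _).symm)
    have h3 := hkill w ((hZ w).mp h2)
    rw [IsLocalization.mul_mk'_eq_mk'_of_mul, h3, IsLocalization.mk'_zero]
  have hε : algebraMap R (FractionRing R) e * algebraMap R (FractionRing R) e =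
      algebraMap R (FractionRing R) e := by rw [← map_mul, he2]
  have h0 : algebraMap R (FractionRing R) e * Polynomial.aeval (IsLocalization.mk' (FractionRing R) u
      (⟨e * v + (1 - e), hv''⟩ : nonZeroDivisors R)) P = 0 := by
    apply hker
    rw [← Polynomial.aeval_algHom_apply, hφX, hPe]
  have hint : IsIntegral R (algebraMap R (FractionRing R) e *
      IsLocalization.mk' (FractionRing R) u
        (⟨e * v + (1 - e), hv''⟩ : nonZeroDivisors R)) := by
    refine ⟨Polynomial.X * P, Polynomial.monic_X.mul hPm, ?_⟩
    rw [← Polynomial.aeval_def, map_mul, Polynomial.aeval_X]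
    calc algebraMap R (FractionRing R) e * IsLocalization.mk' (FractionRing R) u
          (⟨e * v + (1 - e), hv''⟩ : nonZeroDivisors R) *
          Polynomial.aeval (algebraMap R (FractionRing R) e * IsLocalization.mk' (FractionRing R) u
            (⟨e * v + (1 - e), hv''⟩ : nonZeroDivisors R)) P
        = IsLocalization.mk' (FractionRing R) u
          (⟨e * v + (1 - e), hv''⟩ : nonZeroDivisors R) * (algebraMap R (FractionRing R) e *
          Polynomial.aeval (algebraMap R (FractionRing R) e * IsLocalization.mk' (FractionRing R) u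
            (⟨e * v + (1 - e), hv''⟩ : nonZeroDivisors R)) P) := by ring
      _ = 0 := by rw [idem_mul_aeval _ _ hε, h0, mul_zero]
  obtain ⟨ρ, hρ⟩ := (isIntegrallyClosedIn_iff.mp hic).2 hint
  refine ⟨algebraMap R (Localization.AtPrime p) ρ, ?_⟩
  rw [← phi_algebraMap, hρ, map_mul, hφX, phi_algebraMap]
  have h1 : algebraMap R (Localization.AtPrime p) e = 1 := by
    rw [← sub_eq_zero, ← map_one (algebraMap R (Localization.AtPrime p)), ← map_sub, hZ]
    have h2 : e - 1 = -(1 - e) := by ring
    rw [h2]
    exact q.neg_mem he1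
  rw [h1, map_one, one_mul]

/-- Let `R` be a reduced ring with finitely many minimal primes. Then every localization of `R` at a
prime is an integrally closed domain if and only if `R` is integrally closed in its total ring of
fractions. -/
theorem result {R : Type u} [CommRing R] [IsReduced R] (hfin : (minimalPrimes R).Finite) :
    (∀ (p : Ideal R) [p.IsPrime], IsDomain (Localization.AtPrime p) ∧ IsIntegrallyClosed (Localization.AtPrime p)) ↔
      IsIntegrallyClosedIn R (FractionRing R) := by

  constructor
  · intro h
    exact forward h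
  · intro h p _
    exact backward hfin h p

end Groth.Agent.S2139
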