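import Groth.Statements.S2140
import Groth.Agent.Lib.Helper15.GenFP
-- import your own Groth.Agent.* helpers here

set_option autoImplicit false
universe u
open CAlg

namespace Groth.Agent.S2140

/-- Let `R → S` be an injective ring map of finite type between domains. Then there are nonzero `f ∈ R`
and `g ∈ S` such that `S_{fg}` is a finitely presented `R_f`-algebra. -/
theorem result {R S : Type u} [CommRing R] [IsDomain R] [CommRing S] [IsDomain S]
    [Algebra R S] [Algebra.FiniteType R S] (hinj : Function.Injective (algebraMap R S)) :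
    ∃ (f : R) (g : S), f ≠ 0 ∧ g ≠ 0 ∧
      ∀ (Rf Sfg : Type u) [CommRing Rf] [CommRing Sfg] [Algebra R Rf] [IsLocalization.Away f Rf]
        [Algebra S Sfg] [IsLocalization.Away (algebraMap R S f * g) Sfg] [Algebra Rf Sfg] [Algebra R Sfg]
        [IsScalarTower R S Sfg] [IsScalarTower R Rf Sfg], Algebra.FinitePresentation Rf Sfg := by
  obtain ⟨g, hg0, hfp⟩ := Groth.Agent.Lib.Helper15.GenFP.main hinj
  refine ⟨1, g, one_ne_zero, hg0, ?_⟩
  intro Rf Sfg _ _ _ _ _ hloc _ _ _ _
  have hloc' : IsLocalization.Away g Sfg := by
    have h1 : algebraMap R S 1 * g = g := by rw [map_one, one_mul]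
    rw [h1] at hloc
    exact hloc
  let e : Localization.Away g ≃ₐ[S] Sfg :=
    IsLocalization.algEquiv (Submonoid.powers g) (Localization.Away g) Sfg
  have h2 : Algebra.FinitePresentation R Sfg :=
    Algebra.FinitePresentation.equiv (e.restrictScalars R)
  have h3 : Algebra.FinitePresentation R Rf := IsLocalization.Away.finitePresentation (1 : R)
  exact Algebra.FinitePresentation.of_restrict_scalars_finitePresentation (R := R) (A := Rf) (B := Sfg)


end Groth.Agent.S2140
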