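import Groth.Statements.S2142
import Groth.Agent.Lib.Helper21.BaseChg1
-- import your own Groth.Agent.* helpers here

set_option autoImplicit false
universe u
open CAlg

namespace Groth.Agent.S2142

open TensorProduct in
/-- Let `S` be of finite type over a field `k`, `K/k` a field extension, `𝔮` a prime of `S` and `𝔮_K` a
prime of `K ⊗_k S` lying over `𝔮`. Then the local dimension of `Spec (K ⊗_k S)` at `𝔮_K` equals the
local dimension of `Spec S` at `𝔮`. -/
theorem result {k S K : Type u} [Field k] [CommRing S] [Algebra k S] [Algebra.FiniteType k S] [Field K]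
    [Algebra k K] (q : Ideal S) [q.IsPrime] (qK : Ideal (K ⊗[k] S)) [qK.IsPrime]
    (hq : qK.comap (Algebra.TensorProduct.includeRight.toRingHom : S →+* K ⊗[k] S) = q) :
    FlatMor.localDim (PrimeSpectrum (K ⊗[k] S)) ⟨qK, inferInstance⟩ = FlatMor.localDim (PrimeSpectrum S) ⟨q, inferInstance⟩ := by
  let φ : S →+* K ⊗[k] S := Algebra.TensorProduct.includeRight.toRingHom
  have hcomap : PrimeSpectrum.comap φ ⟨qK, inferInstance⟩ = ⟨q, inferInstance⟩ :=
    PrimeSpectrum.ext hq
  apply le_antisymm
  · -- Noether normalisation side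
    unfold FlatMor.localDim
    refine le_iInf fun U => ?_
    obtain ⟨g, hg, hgU⟩ := Groth.Agent.Lib.Helper21.BaseChg.exists_away_le S ⟨q, inferInstance⟩
      U.1 U.2
    have h1g : ((1 : K) ⊗ₜ[k] g) ∉ qK := by
      intro h
      apply hg
      change g ∈ q
      rw [← hq]
      exact h
    have h1 := Groth.Agent.Lib.Helper21.BaseChg.localDim_le_away (K ⊗[k] S)
      ⟨qK, inferInstance⟩ ((1 : K) ⊗ₜ[k] g) h1g
    have h2 : ringKrullDim (Localization.Away ((1 : K) ⊗ₜ[k] g)) =
        ringKrullDim (K ⊗[k] Localization.Away g) :=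
      (ringKrullDim_eq_of_ringEquiv
        (IsLocalization.Away.tensorProductEquivTMulRight k K g
          (Localization.Away g)).toRingEquiv).symm
    have h3 : ringKrullDim (K ⊗[k] Localization.Away g) = ringKrullDim (Localization.Away g) :=
      Groth.Agent.Lib.Helper22.ringKrullDim_tensor_field k K (Localization.Away g)
    unfold FlatMor.localDim at h1
    exact h1.trans (by rw [h2, h3]; exact hgU)
  · -- lifting chains of generisations
    let e : S ⊗[k] K ≃+* K ⊗[k] S := (Algebra.TensorProduct.comm k S K).toRingEquiv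
    have hφ : φ = (e : S ⊗[k] K →+* K ⊗[k] S).comp (algebraMap S (S ⊗[k] K)) := by
      ext s
      simp [φ, e]
    have hflat : φ.Flat := by
      rw [hφ]
      refine RingHom.Flat.comp ?_ (RingHom.Flat.of_bijective e.bijective)
      rw [RingHom.flat_algebraMap_iff]
      infer_instance
    have hopen : IsOpenMap (PrimeSpectrum.comap φ) := by
      rw [hφ, PrimeSpectrum.comap_comp]
      exact (PrimeSpectrum.isOpenMap_comap_algebraMap_tensorProduct_of_field).comp
        (PrimeSpectrum.isHomeomorph_comap_of_bijective e.bijective).isOpenMap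
    have key := Groth.Agent.Lib.Helper21.BaseChg.localDim_le_of_isOpenMap (PrimeSpectrum.comap φ)
      (PrimeSpectrum.continuous_comap φ) hflat.generalizingMap_comap hopen ⟨qK, inferInstance⟩
    rw [hcomap] at key
    exact key

end Groth.Agent.S2142
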