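import Groth.Statements.S2145
import Mathlib

set_option autoImplicit false
universe u
open CAlg

namespace Groth.Agent.S2145

section

variable {R T L : Type u} [CommRing R] [CommRing T] [CommRing L] [Algebra R T] [Algebra T L]
  [Algebra R L] [IsScalarTower R T L] (M : Submonoid T) [IsLocalization M L]

/-- canonical map `T_t → L` for `t ∈ M`. -/
noncomputable def ι (t : T) (ht : t ∈ M) : Localization.Away t →ₐ[R] L :=
  IsLocalization.Away.liftAlgHom (A := R) t (f := IsScalarTower.toAlgHom R T L)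
    (IsLocalization.map_units L ⟨t, ht⟩)

theorem ι_algebraMap (t : T) (ht : t ∈ M) (x : T) :
    ι (R := R) (L := L) M t ht (algebraMap T (Localization.Away t) x) = algebraMap T L x := by
  unfold ι
  rw [IsLocalization.Away.liftAlgHom_apply, IsLocalization.Away.lift_eq]
  rfl

/-- canonical map `T_t → T_{t'}` for `t ∣ t'`. -/
noncomputable def ρ (t t' : T) (h : t ∣ t') : Localization.Away t →ₐ[R] Localization.Away t' :=
  IsLocalization.Away.liftAlgHom (A := R) t
    (f := IsScalarTower.toAlgHom R T (Localization.Away t'))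
    (IsLocalization.Away.isUnit_of_dvd t' h)

theorem ρ_algebraMap (t t' : T) (h : t ∣ t') (x : T) :
    ρ (R := R) t t' h (algebraMap T (Localization.Away t) x) =
      algebraMap T (Localization.Away t') x := by
  unfold ρ
  rw [IsLocalization.Away.liftAlgHom_apply, IsLocalization.Away.lift_eq]
  rfl

/-- two ring homs out of `T_t` agreeing on `T` are equal -/
theorem away_hom_ext {P : Type*} [Semiring P] (t : T) (f g : Localization.Away t →+* P)
    (h : ∀ x : T, f (algebraMap T _ x) = g (algebraMap T _ x)) : f = g :=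
  IsLocalization.ringHom_ext (Submonoid.powers t) (RingHom.ext h)

theorem ι_ρ (t t' : T) (h : t ∣ t') (ht : t ∈ M) (ht' : t' ∈ M) (z : Localization.Away t) :
    ι (R := R) (L := L) M t' ht' (ρ (R := R) t t' h z) = ι (R := R) (L := L) M t ht z := by
  have := away_hom_ext t
    ((ι (R := R) (L := L) M t' ht').toRingHom.comp (ρ (R := R) t t' h).toRingHom)
    (ι (R := R) (L := L) M t ht).toRingHom (by
      intro x
      change ι (R := R) (L := L) M t' ht' (ρ (R := R) t t' h (algebraMap T _ x)) =
        ι (R := R) (L := L) M t ht (algebraMap T _ x)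
      rw [ρ_algebraMap, ι_algebraMap, ι_algebraMap])
  exact RingHom.congr_fun this z

theorem ρ_ρ (t t' t'' : T) (h : t ∣ t') (h' : t' ∣ t'') (z : Localization.Away t) :
    ρ (R := R) t' t'' h' (ρ (R := R) t t' h z) = ρ (R := R) t t'' (h.trans h') z := by
  have := away_hom_ext t
    ((ρ (R := R) t' t'' h').toRingHom.comp (ρ (R := R) t t' h).toRingHom)
    (ρ (R := R) t t'' (h.trans h')).toRingHom (by
      intro x
      change ρ (R := R) t' t'' h' (ρ (R := R) t t' h (algebraMap T _ x)) =
        ρ (R := R) t t'' (h.trans h') (algebraMap T _ x)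
      rw [ρ_algebraMap, ρ_algebraMap, ρ_algebraMap])
  exact RingHom.congr_fun this z

/-- Kernel lemma. -/
theorem exists_mul_eq_zero (t : T) (ht : t ∈ M) (z : Localization.Away t)
    (hz : ι (R := R) (L := L) M t ht z = 0) :
    ∃ u ∈ M, algebraMap T (Localization.Away t) u * z = 0 := by
  obtain ⟨k, c, hc⟩ := IsLocalization.Away.surj t z
  have h1 : algebraMap T L c = 0 := by
    rw [← ι_algebraMap (R := R) M t ht c, ← hc, map_mul, hz, zero_mul]
  obtain ⟨⟨u, hu⟩, huc⟩ := (IsLocalization.map_eq_zero_iff M L c).1 h1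
  refine ⟨u, hu, ?_⟩
  have h2 : IsUnit (algebraMap T (Localization.Away t) t ^ k) :=
    IsLocalization.Away.algebraMap_pow_isUnit t k
  apply h2.mul_left_injective
  change algebraMap T (Localization.Away t) u * z * algebraMap T (Localization.Away t) t ^ k =
    0 * algebraMap T (Localization.Away t) t ^ k
  rw [zero_mul, mul_assoc, hc, ← map_mul]
  change algebraMap T _ (u * c) = 0
  rw [huc, map_zero]


/-- Lemma B: uniqueness of lifts up to further localization. -/
theorem exists_eq_after_loc {S : Type u} [CommRing S] [Algebra R S] [Algebra.FiniteType R S]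
    (t : T) (ht : t ∈ M) (f₁ f₂ : S →ₐ[R] Localization.Away t)
    (h : ∀ s, ι (R := R) (L := L) M t ht (f₁ s) = ι (R := R) (L := L) M t ht (f₂ s)) :
    ∃ u ∈ M, ∀ s, ρ (R := R) t (t * u) (Dvd.intro u rfl) (f₁ s) =
      ρ (R := R) t (t * u) (Dvd.intro u rfl) (f₂ s) := by
  classical
  obtain ⟨F, hF⟩ := Algebra.FiniteType.out (R := R) (A := S)
  have hex : ∀ s : S, ∃ u ∈ M, algebraMap T (Localization.Away t) u * (f₁ s - f₂ s) = 0 := by
    intro s
    apply exists_mul_eq_zero (R := R) (L := L) M t ht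
    rw [map_sub, h s, sub_self]
  choose v hvM hv using hex
  refine ⟨∏ s ∈ F, v s, prod_mem (fun s _ => hvM s), ?_⟩
  set u := ∏ s ∈ F, v s with hu
  have hAlg : (ρ (R := R) t (t * u) (Dvd.intro u rfl)).comp f₁ =
      (ρ (R := R) t (t * u) (Dvd.intro u rfl)).comp f₂ := by
    apply AlgHom.ext_of_adjoin_eq_top hF
    intro s hs
    rw [AlgHom.comp_apply, AlgHom.comp_apply, ← sub_eq_zero, ← map_sub]
    have h1 : IsUnit (algebraMap T (Localization.Away (t * u)) (v s)) := by
      apply IsLocalization.Away.isUnit_of_dvd (t * u)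
      exact Dvd.dvd.mul_left (Finset.dvd_prod_of_mem v hs) t
    apply h1.mul_right_injective
    change algebraMap T (Localization.Away (t * u)) (v s) * _ =
      algebraMap T (Localization.Away (t * u)) (v s) * 0
    rw [mul_zero, ← ρ_algebraMap (R := R) t (t * u) (Dvd.intro u rfl), ← map_mul, hv s, map_zero]
  intro s
  exact AlgHom.congr_fun hAlg s

/-- Lemma A: lifting maps from finitely presented algebras through a localization. -/
theorem exists_lift_away {S : Type u} [CommRing S] [Algebra R S] [Algebra.FinitePresentation R S]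
    (f : S →ₐ[R] L) :
    ∃ (t : T) (ht : t ∈ M) (f' : S →ₐ[R] Localization.Away t),
      ∀ s, ι (R := R) (L := L) M t ht (f' s) = f s := by
  classical
  obtain ⟨n, π, hπ, hker⟩ := Algebra.FinitePresentation.out (R := R) (A := S)
  obtain ⟨F, hF⟩ := hker
  -- common denominator
  obtain ⟨⟨d, hd⟩, hint⟩ := IsLocalization.exist_integer_multiples_of_finite M
    (fun i : Fin n => f (π (MvPolynomial.X i)))
  choose c hc using hint
  -- hc i : algebraMap T L (c i) = d • f (π (X i))
  let x : Fin n → Localization.Away d := fun i =>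
    IsLocalization.mk' (Localization.Away d) (c i) (⟨d, 1, pow_one d⟩ : Submonoid.powers d)
  have hx : ∀ i, ι (R := R) (L := L) M d hd (x i) = f (π (MvPolynomial.X i)) := by
    intro i
    have hunit : IsUnit (algebraMap T L d) := IsLocalization.map_units L ⟨d, hd⟩
    apply hunit.mul_right_injective
    change algebraMap T L d * _ = algebraMap T L d * _
    rw [← ι_algebraMap (R := R) M d hd d, ← map_mul]
    have : algebraMap T (Localization.Away d) d * x i = algebraMap T (Localization.Away d) (c i) := by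
      simp only [x]
      rw [mul_comm]
      exact IsLocalization.mk'_spec (Localization.Away d) (c i)
        (⟨d, 1, pow_one d⟩ : Submonoid.powers d)
    rw [this, ι_algebraMap, ι_algebraMap, hc i]
    simp [Algebra.smul_def]
  let g : MvPolynomial (Fin n) R →ₐ[R] Localization.Away d := MvPolynomial.aeval x
  have hg : ∀ p, ι (R := R) (L := L) M d hd (g p) = f (π p) := by
    intro p
    have : (ι (R := R) (L := L) M d hd).comp g = f.comp π := by
      apply MvPolynomial.algHom_ext
      intro i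
      simp only [AlgHom.comp_apply, g, MvPolynomial.aeval_X]
      exact hx i
    exact AlgHom.congr_fun this p
  have hex : ∀ p : MvPolynomial (Fin n) R, p ∈ F →
      ∃ u ∈ M, algebraMap T (Localization.Away d) u * g p = 0 := by
    intro p hp
    apply exists_mul_eq_zero (R := R) (L := L) M d hd
    rw [hg]
    have : p ∈ RingHom.ker π.toRingHom := by rw [← hF]; exact Ideal.subset_span hp
    rw [show π p = 0 from this, map_zero]
  choose! v hvM hv using hex
  set u := ∏ p ∈ F, v p with hu
  have huM : u ∈ M := prod_mem (fun p hp => hvM p hp)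
  let g' : MvPolynomial (Fin n) R →ₐ[R] Localization.Away (d * u) :=
    (ρ (R := R) d (d * u) (Dvd.intro u rfl)).comp g
  have hg' : RingHom.ker π.toRingHom ≤ RingHom.ker g'.toRingHom := by
    rw [← hF, Ideal.span_le]
    intro p hp
    change g' p = 0
    have h1 : IsUnit (algebraMap T (Localization.Away (d * u)) (v p)) := by
      apply IsLocalization.Away.isUnit_of_dvd (d * u)
      exact Dvd.dvd.mul_left (Finset.dvd_prod_of_mem v hp) d
    apply h1.mul_right_injective
    change algebraMap T (Localization.Away (d * u)) (v p) * _ =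
      algebraMap T (Localization.Away (d * u)) (v p) * 0
    rw [mul_zero]
    change _ * ρ (R := R) d (d * u) (Dvd.intro u rfl) (g p) = 0
    rw [← ρ_algebraMap (R := R) d (d * u) (Dvd.intro u rfl), ← map_mul, hv p hp, map_zero]
  refine ⟨d * u, mul_mem hd huM, AlgHom.liftOfSurjective π hπ g' hg', ?_⟩
  intro s
  obtain ⟨p, rfl⟩ := hπ s
  rw [AlgHom.liftOfSurjective_apply]
  change ι (R := R) (L := L) M (d * u) _ (ρ (R := R) d (d * u) (Dvd.intro u rfl) (g p)) = _
  rw [ι_ρ (R := R) (L := L) M d (d * u) (Dvd.intro u rfl) hd, hg]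

end

theorem main {R S S' : Type u} [CommRing R] [CommRing S] [CommRing S'] [Algebra R S]
    [Algebra R S'] [Algebra.FinitePresentation R S] [Algebra.FinitePresentation R S'] (q : Ideal S) [q.IsPrime]
    (q' : Ideal S') [q'.IsPrime] (e : Localization.AtPrime q ≃ₐ[R] Localization.AtPrime q') :
    ∃ (g : S) (g' : S'), g ∉ q ∧ g' ∉ q' ∧ Nonempty (Localization.Away g ≃ₐ[R] Localization.Away g') := by
  classical
  set L := Localization.AtPrime q with hL
  set L' := Localization.AtPrime q' with hL'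
  set M := q.primeCompl with hM
  set M' := q'.primeCompl with hM'
  -- Step 1
  obtain ⟨a', ha', φ, hφ⟩ := exists_lift_away (R := R) (T := S') (L := L') M'
    ((e : L →ₐ[R] L').comp (IsScalarTower.toAlgHom R S L))
  replace hφ : ∀ s, ι (R := R) (L := L') M' a' ha' (φ s) = e (algebraMap S L s) := hφ
  -- Step 2
  haveI : Algebra.FinitePresentation S' (Localization.Away a') :=
    IsLocalization.Away.finitePresentation a'
  haveI : Algebra.FinitePresentation R (Localization.Away a') :=
    Algebra.FinitePresentation.trans R S' _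
  obtain ⟨a₁, ha₁, ψ₁, hψ₁⟩ := exists_lift_away (R := R) (T := S) (L := L) M
    ((e.symm : L' →ₐ[R] L).comp (ι (R := R) (L := L') M' a' ha'))
  replace hψ₁ : ∀ y, ι (R := R) (L := L) M a₁ ha₁ (ψ₁ y) =
      e.symm (ι (R := R) (L := L') M' a' ha' y) := hψ₁
  -- Step 3
  obtain ⟨c, hc, hceq⟩ := exists_eq_after_loc (R := R) (T := S) (L := L) M a₁ ha₁
    (ψ₁.comp φ) (IsScalarTower.toAlgHom R S (Localization.Away a₁)) (by
      intro s
      rw [AlgHom.comp_apply, hψ₁, hφ, AlgEquiv.symm_apply_apply]
      exact (ι_algebraMap (R := R) M a₁ ha₁ s).symm)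
  set a₂ := a₁ * c with ha₂def
  have ha₂ : a₂ ∈ M := mul_mem ha₁ hc
  have hd₁ : a₁ ∣ a₂ := Dvd.intro c rfl
  let ψ₂ : Localization.Away a' →ₐ[R] Localization.Away a₂ :=
    (ρ (R := R) a₁ a₂ hd₁).comp ψ₁
  have h3i : ∀ s, ψ₂ (φ s) = algebraMap S (Localization.Away a₂) s := by
    intro s
    have := hceq s
    rw [AlgHom.comp_apply] at this
    change ρ (R := R) a₁ a₂ hd₁ (ψ₁ (φ s)) = _
    rw [this]
    exact ρ_algebraMap (R := R) a₁ a₂ hd₁ s
  have h3ii : ∀ y, ι (R := R) (L := L) M a₂ ha₂ (ψ₂ y) =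
      e.symm (ι (R := R) (L := L') M' a' ha' y) := by
    intro y
    change ι (R := R) (L := L) M a₂ ha₂ (ρ (R := R) a₁ a₂ hd₁ (ψ₁ y)) = _
    rw [ι_ρ (R := R) (L := L) M a₁ a₂ hd₁ ha₁, hψ₁]
  -- Step 4
  haveI : Algebra.FinitePresentation S (Localization.Away a₂) :=
    IsLocalization.Away.finitePresentation a₂
  haveI : Algebra.FinitePresentation R (Localization.Away a₂) :=
    Algebra.FinitePresentation.trans R S _
  obtain ⟨b', hb', φ₂', hφ₂'⟩ := exists_lift_away (R := R) (T := S') (L := L') M'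
    ((e : L →ₐ[R] L').comp (ι (R := R) (L := L) M a₂ ha₂))
  replace hφ₂' : ∀ x, ι (R := R) (L := L') M' b' hb' (φ₂' x) =
      e (ι (R := R) (L := L) M a₂ ha₂ x) := hφ₂'
  set t' := a' * b' with ht'def
  have ht' : t' ∈ M' := mul_mem ha' hb'
  obtain ⟨c', hc', hc'eq⟩ := exists_eq_after_loc (R := R) (T := S') (L := L') M' t' ht'
    ((ρ (R := R) b' t' (Dvd.intro_left a' rfl)).comp (φ₂'.comp ψ₂))
    (ρ (R := R) a' t' (Dvd.intro b' rfl)) (by
      intro y
      rw [AlgHom.comp_apply, AlgHom.comp_apply,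
        ι_ρ (R := R) (L := L') M' b' t' _ hb', hφ₂', h3ii, AlgEquiv.apply_symm_apply,
        ι_ρ (R := R) (L := L') M' a' t' _ ha'])
  set a'₂ := t' * c' with ha'₂def
  have ha'₂ : a'₂ ∈ M' := mul_mem ht' hc'
  have hb'dvd : b' ∣ a'₂ := (Dvd.intro_left a' rfl).trans (Dvd.intro c' rfl)
  have ha'dvd : a' ∣ a'₂ := (Dvd.intro b' rfl).trans (Dvd.intro c' rfl)
  let φ₂ : Localization.Away a₂ →ₐ[R] Localization.Away a'₂ :=
    (ρ (R := R) b' a'₂ hb'dvd).comp φ₂'
  have h4i : ∀ y, φ₂ (ψ₂ y) = ρ (R := R) a' a'₂ ha'dvd y := by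
    intro y
    have := hc'eq y
    rw [AlgHom.comp_apply, AlgHom.comp_apply, ρ_ρ, ρ_ρ] at this
    exact this
  have h4ii : ∀ s, φ₂ (algebraMap S (Localization.Away a₂) s) = ρ (R := R) a' a'₂ ha'dvd (φ s) := by
    intro s
    rw [← h3i, h4i]
  -- Step 5
  set u : Localization.Away a₂ := ψ₂ (algebraMap S' (Localization.Away a') a'₂) with hu
  let W := Localization.Away u
  have hφ₂u : φ₂ u = algebraMap S' (Localization.Away a'₂) a'₂ := by
    rw [hu, h4i, ρ_algebraMap]
  let Ψ : Localization.Away a'₂ →ₐ[R] W :=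
    IsLocalization.Away.liftAlgHom (A := R) a'₂
      (f := (IsScalarTower.toAlgHom R (Localization.Away a₂) W).comp
        (ψ₂.comp (IsScalarTower.toAlgHom R S' (Localization.Away a'))))
      (IsLocalization.Away.algebraMap_isUnit u)
  have hΨ : ∀ s', Ψ (algebraMap S' (Localization.Away a'₂) s') =
      algebraMap (Localization.Away a₂) W (ψ₂ (algebraMap S' (Localization.Away a') s')) := by
    intro s'
    simp only [Ψ]
    rw [IsLocalization.Away.liftAlgHom_apply, IsLocalization.Away.lift_eq]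
    rfl
  let Φ : W →ₐ[R] Localization.Away a'₂ :=
    IsLocalization.Away.liftAlgHom (A := R) u (f := φ₂) (by
      rw [hφ₂u]; exact IsLocalization.Away.algebraMap_isUnit a'₂)
  have hΦ : ∀ x, Φ (algebraMap (Localization.Away a₂) W x) = φ₂ x := by
    intro x
    simp only [Φ]
    rw [IsLocalization.Away.liftAlgHom_apply, IsLocalization.Away.lift_eq]
    rfl
  have hΨρ : ∀ y, Ψ (ρ (R := R) a' a'₂ ha'dvd y) = algebraMap (Localization.Away a₂) W (ψ₂ y) := by
    intro y
    have := away_hom_ext a' (Ψ.toRingHom.comp (ρ (R := R) a' a'₂ ha'dvd).toRingHom)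
      ((algebraMap (Localization.Away a₂) W).comp ψ₂.toRingHom) (by
        intro s'
        change Ψ (ρ (R := R) a' a'₂ ha'dvd (algebraMap S' _ s')) =
          algebraMap (Localization.Away a₂) W (ψ₂ (algebraMap S' _ s'))
        rw [ρ_algebraMap, hΨ])
    exact RingHom.congr_fun this y
  have hΦΨ : Φ.comp Ψ = AlgHom.id R _ := by
    apply AlgHom.coe_ringHom_injective
    apply away_hom_ext a'₂
    intro s'
    change Φ (Ψ (algebraMap S' _ s')) = algebraMap S' _ s'
    rw [hΨ, hΦ, h4i, ρ_algebraMap]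
  have hΨΦ : Ψ.comp Φ = AlgHom.id R _ := by
    apply AlgHom.coe_ringHom_injective
    apply IsLocalization.ringHom_ext (Submonoid.powers u)
    apply away_hom_ext a₂
    intro s
    change Ψ (Φ (algebraMap (Localization.Away a₂) W (algebraMap S _ s))) =
      algebraMap (Localization.Away a₂) W (algebraMap S _ s)
    rw [hΦ, h4ii, hΨρ, h3i]
  let E₁ : W ≃ₐ[R] Localization.Away a'₂ := AlgEquiv.ofAlgHom Φ Ψ hΦΨ hΨΦ
  -- Step 6
  set z := (IsLocalization.Away.sec a₂ u).1 with hz
  have hassoc : Associated (algebraMap S (Localization.Away a₂) z) u :=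
    IsLocalization.Away.associated_sec_fst a₂ u
  haveI : IsLocalization.Away (a₂ * z) W := IsLocalization.Away.mul_of_associated a₂ z u hassoc
  haveI : IsScalarTower R S W := inferInstance
  let E₂ : Localization.Away (a₂ * z) ≃ₐ[S] W :=
    IsLocalization.algEquiv (Submonoid.powers (a₂ * z)) _ _
  refine ⟨a₂ * z, a'₂, ?_, ha'₂, ⟨(E₂.restrictScalars R).trans E₁⟩⟩
  -- a₂ * z ∉ q
  have hzM : z ∈ M := by
    rw [hM, ← IsLocalization.AtPrime.isUnit_to_map_iff L q z]
    rw [← ι_algebraMap (R := R) M a₂ ha₂ z]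
    have h1 : Associated (ι (R := R) (L := L) M a₂ ha₂ (algebraMap S _ z))
        (ι (R := R) (L := L) M a₂ ha₂ u) := hassoc.map (ι (R := R) (L := L) M a₂ ha₂)
    rw [h1.isUnit_iff, hu, h3ii, ι_algebraMap]
    exact (IsLocalization.map_units L' (⟨a'₂, ha'₂⟩ : M')).map e.symm
  exact mul_mem ha₂ hzM



/-- Let `S`, `S'` be finitely presented `R`-algebras and `𝔮 ⊆ S`, `𝔮' ⊆ S'` primes with `S_𝔮 ≅ S'_{𝔮'}`
as `R`-algebras. Then `S_g ≅ S'_{g'}` as `R`-algebras for some `g ∉ 𝔮`, `g' ∉ 𝔮'`. -/
theorem result {R S S' : Type u} [CommRing R] [CommRing S] [CommRing S'] [Algebra R S]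
    [Algebra R S'] [Algebra.FinitePresentation R S] [Algebra.FinitePresentation R S'] (q : Ideal S) [q.IsPrime]
    (q' : Ideal S') [q'.IsPrime] (e : Localization.AtPrime q ≃ₐ[R] Localization.AtPrime q') :
    ∃ (g : S) (g' : S'), g ∉ q ∧ g' ∉ q' ∧ Nonempty (Localization.Away g ≃ₐ[R] Localization.Away g') := by
  exact main q q' e

end Groth.Agent.S2145
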