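import Groth.Statements.S2152
import Groth.Agent.Lib.Helper24.AffineLimTop

set_option autoImplicit false
universe u
open CategoryTheory AlgebraicGeometry
open Lim

namespace Groth.Agent.S2152

/-- Let `c` be a limit cone of a diagram of schemes indexed by a small cofiltered category with affine
transition morphisms. Then the image of `c` under the forgetful functor to topological spaces is a
limit cone: the underlying space of the limit scheme is the limit of the underlying spaces. -/
theorem result {I : Type u} [SmallCategory I] [IsCofiltered I] (D : I ⥤ Scheme.{u})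
    [∀ (i j : I) (f : i ⟶ j), IsAffineHom (D.map f)] (c : Limits.Cone D) (hc : Limits.IsLimit c) :
    Nonempty (Limits.IsLimit (Scheme.forgetToTop.mapCone c)) := by
  have hT : Nonempty (Limits.IsLimit ((forget TopCat).mapCone (Scheme.forgetToTop.mapCone c))) := by
    rw [Limits.Types.isLimit_iff]
    intro s hs
    obtain ⟨p, hp⟩ := Groth.Agent.Lib.Helper24.affLim_exists_point D c hc (fun i => s i)
      (fun i j f => hs f)
    exact ⟨p, hp, fun q hq => Groth.Agent.Lib.Helper24.affLim_point_ext D c hc q p
      (fun i => (hq i).trans (hp i).symm)⟩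
  obtain ⟨hT⟩ := hT
  rw [TopCat.nonempty_isLimit_iff_eq_induced _ hT]
  apply le_antisymm
  · refine le_iInf fun i => ?_
    exact continuous_iff_le_induced.mp (c.π.app i).continuous
  · intro U hU
    have hB := isBasis_preimage_isAffineOpen D c hc
    rw [TopologicalSpace.Opens.isBasis_iff_nbhd] at hB
    rw [@isOpen_iff_forall_mem_open]
    intro x hxU
    obtain ⟨_, ⟨i, V, -, rfl⟩, hxV, hVU⟩ := hB (U := ⟨U, hU⟩) hxU
    refine ⟨_, hVU, ?_, hxV⟩
    refine TopologicalSpace.le_def.mp (iInf_le _ i) _ ?_
    exact isOpen_induced V.2

end Groth.Agent.S2152
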