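import Groth.Statements.S2160
import Mathlib.RingTheory.Ideal.KrullsHeightTheorem
-- import your own Groth.Agent.* helpers here

set_option autoImplicit false
universe u
open CAlg

namespace Groth.Agent.S2160

/-- Let `R` be a Noetherian local domain of Krull dimension at least `2`. Then every nonempty open
subset of `Spec R` is infinite. -/
theorem result {R : Type u} [CommRing R] [IsDomain R] [IsLocalRing R] [IsNoetherianRing R]
    (hdim : 2 ≤ ringKrullDim R) (U : Set (PrimeSpectrum R)) (hU : IsOpen U) (hne : U.Nonempty) : U.Infinite := by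
  classical
  obtain ⟨x, hx⟩ := hne
  obtain ⟨_, ⟨f, rfl⟩, hxf, hfU⟩ :=
    PrimeSpectrum.isTopologicalBasis_basic_opens.exists_subset_of_mem_open hx hU
  have hf0 : f ≠ 0 := by
    rintro rfl
    simp at hxf
  intro hfin
  have hfinD : (PrimeSpectrum.basicOpen f : Set (PrimeSpectrum R)).Finite := hfin.subset hfU
  set m := IsLocalRing.maximalIdeal R with hm
  have hmht : (2 : ℕ∞) ≤ m.height := by
    have h1 : ((m.height : ℕ∞) : WithBot ℕ∞) = ringKrullDim R :=
      IsLocalRing.maximalIdeal_height_eq_ringKrullDim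
    rw [← h1] at hdim
    exact WithBot.coe_le_coe.mp hdim
  -- the finite set of primes to avoid
  let T : Set (Ideal R) :=
    (PrimeSpectrum.asIdeal '' {p | p ∈ (PrimeSpectrum.basicOpen f : Set (PrimeSpectrum R)) ∧
      p.asIdeal ≠ m}) ∪ (Ideal.span {f}).minimalPrimes
  have hTfin : T.Finite := by
    refine Set.Finite.union ((hfinD.subset fun p hp => hp.1).image _) ?_
    exact Ideal.finite_minimalPrimes_of_isNoetherianRing R _
  have hTprime : ∀ P ∈ T, P.IsPrime := by
    rintro P (⟨p, -, rfl⟩ | hP)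
    · exact p.2
    · exact hP.1.1
  have hTnot : ∀ P ∈ T, ¬ m ≤ P := by
    rintro P (⟨p, ⟨-, hpm⟩, rfl⟩ | hP) hle
    · exact hpm (le_antisymm (IsLocalRing.le_maximalIdeal p.2.ne_top) hle)
    · have h1 : P.height ≤ 1 :=
        Ideal.height_le_one_of_isPrincipal_of_mem_minimalPrimes (Ideal.span {f}) P hP
      have h2 : m.height ≤ P.height := Ideal.height_mono hle
      have : (2 : ℕ∞) ≤ 1 := hmht.trans (h2.trans h1)
      exact absurd this (by decide)
  have hbotT : (⊥ : Ideal R) ∈ T := by
    left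
    refine ⟨⟨⊥, Ideal.isPrime_bot⟩, ⟨?_, ?_⟩, rfl⟩
    · simpa [PrimeSpectrum.mem_basicOpen] using hf0
    · intro h
      have : m.height = 0 := by rw [← h]; exact Ideal.height_bot
      rw [this] at hmht
      exact absurd hmht (by decide)
  -- prime avoidance
  have havoid : ¬ ((m : Set R) ⊆ ⋃ P ∈ (hTfin.toFinset : Set (Ideal R)), (id P : Ideal R)) := by
    intro hsub
    rw [Ideal.subset_union_prime (f := id) (⊥ : Ideal R) (⊥ : Ideal R)
      (fun P hP _ _ => hTprime P (hTfin.mem_toFinset.mp hP))] at hsub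
    obtain ⟨P, hP, hle⟩ := hsub
    exact hTnot P (hTfin.mem_toFinset.mp hP) hle
  obtain ⟨y, hym, hyT⟩ := Set.not_subset.mp havoid
  have hyT' : ∀ P ∈ T, y ∉ P := by
    intro P hP hyP
    apply hyT
    simp only [Set.mem_iUnion]
    exact ⟨P, by simpa using hP, hyP⟩
  have hy0 : y ≠ 0 := by
    rintro rfl
    exact hyT' ⊥ hbotT (Ideal.zero_mem _)
  have hyunit : ¬ IsUnit y := (IsLocalRing.mem_maximalIdeal y).mp hym
  obtain ⟨P, hP⟩ := (Ideal.span {y}).nonempty_minimalPrimes (by simpa using hyunit)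
  have : P.IsPrime := hP.1.1
  have hPht : P.height ≤ 1 :=
    Ideal.height_le_one_of_isPrincipal_of_mem_minimalPrimes (Ideal.span {y}) P hP
  have hyP : y ∈ P := hP.1.2 (Ideal.subset_span (Set.mem_singleton y))
  have hPm : P ≠ m := by
    intro h
    rw [h] at hPht
    have : (2 : ℕ∞) ≤ 1 := hmht.trans hPht
    exact absurd this (by decide)
  have hfP : f ∉ P := by
    intro hfP
    have hle : Ideal.span {f} ≤ P := by
      rw [Ideal.span_le]; simpa using hfP
    obtain ⟨P', hP', hP'P⟩ := Ideal.exists_minimalPrimes_le hle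
    have : P'.IsPrime := hP'.1.1
    have hP'T : P' ∈ T := Or.inr hP'
    have hP'bot : P' ≠ ⊥ := by
      intro h
      have : f ∈ P' := hP'.1.2 (Ideal.subset_span (Set.mem_singleton f))
      rw [h] at this
      exact hf0 (by simpa using this)
    rcases eq_or_lt_of_le hP'P with h | h
    · exact hyT' P' hP'T (h ▸ hyP)
    · have h1 : P'.height + 1 ≤ P.height := Ideal.height_add_one_le_of_lt_of_isPrime h
      have h2 : P'.height ≠ 0 := by
        rw [Ne, Ideal.height_eq_zero_iff_eq_bot]; exact hP'bot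
      have h3 : 1 ≤ P'.height := Order.one_le_iff_pos.mpr (pos_iff_ne_zero.mpr h2)
      have h4 : (1 : ℕ∞) + 1 ≤ 1 := (add_le_add_left h3 1).trans (h1.trans hPht)
      exact absurd h4 (by decide)
  have hPT : P ∈ T := by
    left
    exact ⟨⟨P, inferInstance⟩, ⟨by simpa [PrimeSpectrum.mem_basicOpen] using hfP, hPm⟩, rfl⟩
  exact hyT' P hPT hyP

end Groth.Agent.S2160
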