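import Groth.Statements.S2162
import Mathlib
import Groth.Agent.Lib.Helper23.FieldSep3
-- import your own Groth.Agent.* helpers here

set_option autoImplicit false
universe u
open CAlg

namespace Groth.Agent.S2162

open Groth.Agent.Lib.Helper23.FieldSep


/-- Let `R → S` be an injective ring map of finite type between domains, with fraction fields `K ⊆ L`.
Then `R → S` is smooth at the zero ideal of `S` if and only if `L` is geometrically reduced over `K`
(the published statement phrases the condition as `L/K` being separable; here separability is
expressed as geometric reducedness). -/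
theorem result {R S K L : Type u} [CommRing R] [IsDomain R] [CommRing S]
    [IsDomain S] [Algebra R S] [FaithfulSMul R S] [Algebra.FiniteType R S] [Field K] [Field L] [Algebra R K] [IsFractionRing R K]
    [Algebra S L] [IsFractionRing S L] [Algebra K L] [Algebra R L] [IsScalarTower R S L] [IsScalarTower R K L] :
    Algebra.IsSmoothAt R (⊥ : Ideal S) ↔ Algebra.IsGeometricallyReduced K L := by
  rw [← formallySmooth_iff_isGeometricallyReduced]
  show Algebra.FormallySmooth R (Localization.AtPrime (⊥ : Ideal S)) ↔ _
  haveI : IsFractionRing S (Localization.AtPrime (⊥ : Ideal S)) := by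
    have h : (⊥ : Ideal S).primeCompl = nonZeroDivisors S := by
      ext x
      simp [Ideal.primeCompl, mem_nonZeroDivisors_iff_ne_zero]
    show IsLocalization (nonZeroDivisors S) _
    rw [← h]
    infer_instance
  let e : Localization.AtPrime (⊥ : Ideal S) ≃ₐ[S] L :=
    IsLocalization.algEquiv (nonZeroDivisors S) _ _
  let e' : Localization.AtPrime (⊥ : Ideal S) ≃ₐ[R] L := e.restrictScalars R
  have h1 : Algebra.FormallySmooth R (Localization.AtPrime (⊥ : Ideal S)) ↔
      Algebra.FormallySmooth R L :=
    ⟨fun _ => Algebra.FormallySmooth.of_equiv e', fun _ => Algebra.FormallySmooth.of_equiv e'.symm⟩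
  rw [h1]
  constructor
  · intro h
    exact Algebra.FormallySmooth.localization_base (nonZeroDivisors R) (Rₘ := K) (Sₘ := L)
  · intro h
    haveI : Algebra.FormallySmooth R K := Algebra.FormallySmooth.of_isLocalization (nonZeroDivisors R)
    exact Algebra.FormallySmooth.comp R K L

end Groth.Agent.S2162
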