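import Groth.Statements.S2165
import Groth.Agent.S0548
import Groth.Agent.Lib.Helper18.CplQuot

set_option autoImplicit false
universe u
open LCI

namespace Groth.Agent.S2165

section helpers
open LCI

theorem result_aux {R : Type u} [CommRing R] [IsRegularRing R]
    (p : Ideal R) [p.IsPrime] (rs : List R) (hmem : ∀ r ∈ rs, r ∈ p)
    (hreg : RingTheory.Sequence.IsRegular R rs)
    [IsLocalRing (Localization.AtPrime p ⧸
      Ideal.map (algebraMap R (Localization.AtPrime p)) (Ideal.ofList rs))] :
    Pi1.IsCompleteIntersection (Localization.AtPrime p ⧸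
      Ideal.map (algebraMap R (Localization.AtPrime p)) (Ideal.ofList rs)) := by
  classical
  have hregA : IsRegularLocalRing (Localization.AtPrime p) := inferInstance
  have hNA : IsNoetherianRing (Localization.AtPrime p) := inferInstance
  have hregB : IsRegularLocalRing (EGA4.Cpl (Localization.AtPrime p)) :=
    (Groth.Agent.S0548.result (Localization.AtPrime p)).mp hregA
  have h1 : RingTheory.Sequence.IsRegular (Localization.AtPrime p)
      (rs.map (algebraMap R (Localization.AtPrime p))) :=
    RingTheory.Sequence.IsWeaklyRegular.isRegular_of_isLocalization_of_mem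
      (Localization.AtPrime p) p hreg.1 hmem
  have hff : Module.FaithfullyFlat (Localization.AtPrime p) (EGA4.Cpl (Localization.AtPrime p)) :=
    inferInstance
  have h2 : RingTheory.Sequence.IsRegular (EGA4.Cpl (Localization.AtPrime p))
      ((rs.map (algebraMap R (Localization.AtPrime p))).map
        (algebraMap (Localization.AtPrime p) (EGA4.Cpl (Localization.AtPrime p)))) :=
    RingTheory.Sequence.IsRegular.of_faithfullyFlat h1
  have hmem2 : ∀ r ∈ ((rs.map (algebraMap R (Localization.AtPrime p))).map
        (algebraMap (Localization.AtPrime p) (EGA4.Cpl (Localization.AtPrime p)))),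
      r ∈ IsLocalRing.maximalIdeal (EGA4.Cpl (Localization.AtPrime p)) := by
    intro r hr
    rcases List.mem_map.mp hr with ⟨r1, hr1, rfl⟩
    rcases List.mem_map.mp hr1 with ⟨r0, hr0, rfl⟩
    rw [AdicCompletion.maximalIdeal_eq_map]
    apply Ideal.mem_map_of_mem
    exact (IsLocalization.AtPrime.to_map_mem_maximal_iff (Localization.AtPrime p) p r0).mpr
      (hmem r0 hr0)
  have hNQ : IsNoetherianRing (Localization.AtPrime p ⧸
      Ideal.map (algebraMap R (Localization.AtPrime p)) (Ideal.ofList rs)) := inferInstance
  have hs : Function.Surjective (algebraMap (Localization.AtPrime p) (Localization.AtPrime p ⧸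
      Ideal.map (algebraMap R (Localization.AtPrime p)) (Ideal.ofList rs))) :=
    Ideal.Quotient.mk_surjective
  have hloc : IsLocalHom (algebraMap (Localization.AtPrime p) (Localization.AtPrime p ⧸
      Ideal.map (algebraMap R (Localization.AtPrime p)) (Ideal.ofList rs))) :=
    Groth.Agent.Lib.Helper18.CplQuot.isLocalHom_of_surjective _ _ hs
  obtain ⟨e⟩ := Groth.Agent.Lib.Helper18.CplQuot.nonempty_ringEquiv (Localization.AtPrime p)
    (Localization.AtPrime p ⧸
      Ideal.map (algebraMap R (Localization.AtPrime p)) (Ideal.ofList rs)) hs
  have hker : Ideal.map (algebraMap (Localization.AtPrime p) (EGA4.Cpl (Localization.AtPrime p)))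
      (RingHom.ker (algebraMap (Localization.AtPrime p) (Localization.AtPrime p ⧸
      Ideal.map (algebraMap R (Localization.AtPrime p)) (Ideal.ofList rs)))) =
      Ideal.span {r | r ∈ ((rs.map (algebraMap R (Localization.AtPrime p))).map
        (algebraMap (Localization.AtPrime p) (EGA4.Cpl (Localization.AtPrime p))))} := by
    rw [Ideal.Quotient.algebraMap_eq, Ideal.mk_ker, Ideal.map_ofList, Ideal.map_ofList]
  refine ⟨EGA4.Cpl (Localization.AtPrime p), inferInstance, hregB, _, hmem2, h2, ⟨?_⟩⟩
  exact e.symm.trans (Ideal.quotEquivOfEq hker)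

end helpers

/-- Let R be a regular ring, p a prime ideal of R and f_1, ..., f_r a regular sequence of R contained in
p. Then the local ring R_p/(f_1, ..., f_r) is a complete intersection: its completion is a regular
local ring modulo a regular sequence. The instance hypothesis that the quotient is local always
holds. -/
theorem result {R : Type u} [CommRing R] [IsRegularRing R]
    (p : Ideal R) [p.IsPrime] (rs : List R) (hmem : ∀ r ∈ rs, r ∈ p)
    (hreg : RingTheory.Sequence.IsRegular R rs)
    [IsLocalRing (Localization.AtPrime p ⧸
      Ideal.map (algebraMap R (Localization.AtPrime p)) (Ideal.ofList rs))] :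
    Pi1.IsCompleteIntersection (Localization.AtPrime p ⧸
      Ideal.map (algebraMap R (Localization.AtPrime p)) (Ideal.ofList rs)) := by
  exact result_aux p rs hmem hreg

end Groth.Agent.S2165
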