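import Groth.Statements.S2166
import Groth.Agent.Lib.Helper16.CIInv6
import Groth.Agent.S5178

set_option autoImplicit false
universe u
open LCI

namespace Groth.Agent.S2166

section helpers
open LCI

theorem result_aux {R : Type u} [CommRing R] [IsRegularLocalRing R]
    (I : Ideal R) (hI : I ≠ ⊤) [IsLocalRing (R ⧸ I)] :
    Pi1.IsCompleteIntersection (R ⧸ I) ↔
      ∃ rs : List R, Ideal.ofList rs = I ∧ RingTheory.Sequence.IsRegular R rs := by
  classical
  have hregC : IsRegularLocalRing (EGA4.Cpl R) := (Groth.Agent.S0548.result R).mp inferInstance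
  have hs : Function.Surjective (algebraMap R (R ⧸ I)) := Ideal.Quotient.mk_surjective
  have hloc : IsLocalHom (algebraMap R (R ⧸ I)) :=
    Groth.Agent.Lib.Helper18.CplQuot.isLocalHom_of_surjective _ _ hs
  obtain ⟨ε⟩ := Groth.Agent.Lib.Helper18.CplQuot.nonempty_ringEquiv R (R ⧸ I) hs
  have hker : RingHom.ker (algebraMap R (R ⧸ I)) = I := by
    rw [Ideal.Quotient.algebraMap_eq, Ideal.mk_ker]
  rw [hker] at ε
  obtain ⟨d, hd⟩ := Groth.Agent.Lib.Helper21.exists_nat_eq_ringKrullDim (R := R ⧸ I)
  obtain ⟨e, he⟩ := Groth.Agent.Lib.Helper21.exists_nat_eq_ringKrullDim (R := R)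
  have heC : ringKrullDim (EGA4.Cpl R) = (e : WithBot ℕ∞) := by
    rw [← he]; exact Groth.Agent.S0547.result R
  have h1 := (Groth.Agent.S5178.result (R ⧸ I) (EGA4.Cpl R) (I.map (algebraMap R (EGA4.Cpl R)))
    ⟨ε.symm⟩ d e hd heC).2
  rw [Groth.Agent.Lib.Helper16.CIInv.spanFinrank_map_cpl R I] at h1
  have h2 := Groth.Agent.Lib.Helper16.CIInv.exists_isRegular_iff I hI d e hd he
  rw [← h1, h2]
  omega

end helpers

/-- R already a regular local ring: for a regular local ring R and a proper ideal I, the local ring R/I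
is a complete intersection (its completion is a regular local ring modulo a regular sequence) if and
only if I itself is generated by a regular sequence of R. -/
theorem result {R : Type u} [CommRing R] [IsRegularLocalRing R]
    (I : Ideal R) (hI : I ≠ ⊤) [IsLocalRing (R ⧸ I)] :
    Pi1.IsCompleteIntersection (R ⧸ I) ↔
      ∃ rs : List R, Ideal.ofList rs = I ∧ RingTheory.Sequence.IsRegular R rs := by
  exact result_aux I hI

end Groth.Agent.S2166
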