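import Groth.Statements.S2167
import Groth.Agent.Lib.Helper16.CICot

set_option autoImplicit false
universe u
open LCI

namespace Groth.Agent.S2167

section helpers
open LCI

theorem result_aux {R : Type u} [CommRing R] [IsRegularLocalRing R]
    (I : Ideal R) (hI : I ≠ ⊤) :
    (∃ rs : List R, Ideal.ofList rs = I ∧ RingTheory.Sequence.IsRegular R rs) ↔
      (((⊤ : Submodule (R ⧸ I) I.Cotangent).spanFinrank : WithBot ℕ∞) + ringKrullDim (R ⧸ I)
        ≤ ringKrullDim R) := by
  classical
  have hCM := Groth.Agent.Lib.Helper16.PDR.isCohenMacaulayModule_self_of_isRegularLocalRing R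
  have hIm : I ≤ IsLocalRing.maximalIdeal R := IsLocalRing.le_maximalIdeal hI
  constructor
  · rintro ⟨rs, hrs, hreg⟩
    have hmem : ∀ r ∈ rs, r ∈ IsLocalRing.maximalIdeal R := fun r hr =>
      hIm (hrs ▸ Ideal.subset_span hr)
    have hdim := (Groth.Agent.Lib.Helper16.CICot.isWeaklyRegular_iff_dim hCM rs hmem).mp hreg.1
    have hle := Groth.Agent.Lib.Helper16.CICot.spanFinrank_cotangent_le I rs hrs
    rw [hrs] at hdim
    rw [← hdim, add_comm]
    gcongr
  · intro h
    obtain ⟨xs, hxs, hlen⟩ := Groth.Agent.Lib.Helper16.CICot.exists_list_generators I hI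
    have hmem : ∀ r ∈ xs, r ∈ IsLocalRing.maximalIdeal R := fun r hr =>
      hIm (hxs ▸ Ideal.subset_span hr)
    refine ⟨xs, hxs, ?_⟩
    rw [IsLocalRing.isRegular_iff_isWeaklyRegular_of_subset_maximalIdeal hmem,
      Groth.Agent.Lib.Helper16.CICot.isWeaklyRegular_iff_dim hCM xs hmem, hxs, hlen]
    apply le_antisymm
    · rw [add_comm]; exact h
    · have := Groth.Agent.Lib.Helper16.CICot.dim_le xs hmem
      rw [hxs, hlen] at this
      exact this

end helpers

/-- Equivalence of (2) and (3), special case with R already a regular local ring: for a regular local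
ring R and a proper ideal I, the ideal I is generated by a regular sequence if and only if the
conormal module I/I^2 can be generated by (dim R - dim R/I) elements, the inequality below being the
additive form of that count. -/
theorem result {R : Type u} [CommRing R] [IsRegularLocalRing R]
    (I : Ideal R) (hI : I ≠ ⊤) :
    (∃ rs : List R, Ideal.ofList rs = I ∧ RingTheory.Sequence.IsRegular R rs) ↔
      (((⊤ : Submodule (R ⧸ I) I.Cotangent).spanFinrank : WithBot ℕ∞) + ringKrullDim (R ⧸ I)
        ≤ ringKrullDim R) := by
  exact result_aux I hI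

end Groth.Agent.S2167
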