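import Groth.Statements.S2169
import Groth.Agent.Lib.Helper16.CIInv5

set_option autoImplicit false
universe u
open LCI

namespace Groth.Agent.S2169

section helpers
open LCI

theorem result_aux {A R : Type u} [CommRing A] [CommRing R]
    [IsNoetherianRing A] [IsLocalRing A] [IsAdicComplete (IsLocalRing.maximalIdeal A) A]
    [IsRegularLocalRing R] (f : R →+* A) (hf : Function.Surjective f)
    (hA : Pi1.IsCompleteIntersection A) :
    ∃ rs : List R, Ideal.ofList rs = RingHom.ker f ∧ RingTheory.Sequence.IsRegular R rs := by
  obtain ⟨B', _, _, rs, hmem, hreg, ⟨e⟩⟩ := hA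
  let E : (B' ⧸ Ideal.span {r | r ∈ rs}) ≃+* A :=
    e.symm.trans (AdicCompletion.ofAlgEquiv (IsLocalRing.maximalIdeal A)).symm.toRingEquiv
  let f' : B' →+* A := E.toRingHom.comp (Ideal.Quotient.mk (Ideal.span {r | r ∈ rs}))
  have hf' : Function.Surjective f' := E.surjective.comp Ideal.Quotient.mk_surjective
  have hker : RingHom.ker f' = Ideal.ofList rs := by
    show RingHom.ker (E.toRingHom.comp _) = _
    rw [RingHom.ker_equiv_comp, Ideal.mk_ker]
  exact Groth.Agent.Lib.Helper16.CIInv.exists_isRegular_of_exists_isRegular R B' f hf f' hf'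
    ⟨rs, hker.symm, hreg⟩

end helpers

/-- Let A be a complete Noetherian local ring whose completion is a regular local ring modulo a regular
sequence. Then for every surjection R -> A from a regular local ring R, the kernel is generated by a
regular sequence of R. -/
theorem result {A R : Type u} [CommRing A] [CommRing R]
    [IsNoetherianRing A] [IsLocalRing A] [IsAdicComplete (IsLocalRing.maximalIdeal A) A]
    [IsRegularLocalRing R] (f : R →+* A) (hf : Function.Surjective f)
    (hA : Pi1.IsCompleteIntersection A) :
    ∃ rs : List R, Ideal.ofList rs = RingHom.ker f ∧ RingTheory.Sequence.IsRegular R rs := by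
  exact result_aux f hf hA

end Groth.Agent.S2169
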