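import Groth.Statements.S2170
import Groth.Agent.Lib.Helper28.QuadForm

set_option autoImplicit false
open Finset
open Models

namespace Groth.Agent.S2170

/-- Let A be a symmetric real n × n matrix with non-negative off-diagonal entries and m a vector with
positive entries such that for every i, ∑_{j ≠ i} A_{ij} m_j ≤ −A_{ii} m_i. Then the kernel of A is
the span of the vectors equal to m on an index set I and zero off I, for those I such that A_{ij} =
0 whenever i ∈ I and j ∉ I and such that equality holds in the above inequality for every i ∈ I. The
published statement omits the symmetry of A (without which it fails) and applies it only to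
symmetric matrices; stated here with A symmetric. -/
theorem result {n : ℕ} (A : Matrix (Fin n) (Fin n) ℝ) (m : Fin n → ℝ)
    (hsymm : A.IsSymm) (hA : ∀ i j, i ≠ j → 0 ≤ A i j) (hm : ∀ i, 0 < m i)
    (hle : ∀ i, ∑ j ∈ univ.erase i, A i j * m j ≤ -(A i i * m i)) :
    LinearMap.ker (Matrix.mulVecLin A) = Submodule.span ℝ
      {x : Fin n → ℝ | ∃ I : Finset (Fin n), (∀ i ∈ I, ∀ j ∉ I, A i j = 0) ∧
        (∀ i ∈ I, ∑ j ∈ univ.erase i, A i j * m j = -(A i i * m i)) ∧
        x = fun i => if i ∈ I then m i else 0} := by
  have hle' : ∀ i, (A.mulVec m) i ≤ 0 := fun i => by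
    rw [Groth.Agent.Lib.Helper28.mulVec_eq_erase]; linarith [hle i]
  apply le_antisymm
  · intro x hx
    have hx0 : A.mulVec x = 0 := by simpa using hx
    obtain ⟨-, h2⟩ := Groth.Agent.Lib.Helper28.quad_aux A m hsymm hA hm hle' x
    have h0 : dotProduct x (A.mulVec x) = 0 := by rw [hx0]; simp
    obtain ⟨hc, hd⟩ := h2 h0
    set y : Fin n → ℝ := fun i => x i / m i with hy
    have hxsum : x = ∑ t ∈ univ.image y,
        t • (fun i => if i ∈ univ.filter (fun k => y k = t) then m i else 0) := by
      funext i
      simp only [Finset.sum_apply, Pi.smul_apply, smul_eq_mul, mem_filter, mem_univ, true_and,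
        mul_ite, mul_zero]
      rw [Finset.sum_ite_eq]
      simp only [mem_image, mem_univ, true_and, exists_apply_eq_apply, if_true, hy]
      field_simp [(hm i).ne']
    rw [hxsum]
    refine Submodule.sum_mem _ fun t _ => ?_
    by_cases ht : t = 0
    · subst ht; simp
    · refine Submodule.smul_mem _ _ (Submodule.subset_span ⟨_, ?_, ?_, rfl⟩)
      · intro i hi j hj
        have hi' : y i = t := by simpa using hi
        have hj' : ¬ y j = t := by simpa using hj
        rcases hd i j with h | h
        · exact h
        · exact absurd (show y j = t from (show y i = y j from h) ▸ hi') hj'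
      · intro i hi
        have hi' : y i = t := by simpa using hi
        have hxi : x i ≠ 0 := by
          intro h
          apply ht
          rw [← hi', hy]; simp [h]
        rcases hc i with h | h
        · rw [Groth.Agent.Lib.Helper28.mulVec_eq_erase] at h; linarith
        · exact absurd h hxi
  · rw [Submodule.span_le]
    rintro x ⟨I, h1, h2, rfl⟩
    simp only [SetLike.mem_coe, LinearMap.mem_ker, Matrix.mulVecLin_apply]
    funext i
    simp only [Matrix.mulVec, dotProduct, Pi.zero_apply]
    by_cases hi : i ∈ I
    · have : ∑ j, A i j * (if j ∈ I then m j else 0) = ∑ j, A i j * m j := by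
        refine Finset.sum_congr rfl fun j _ => ?_
        by_cases hj : j ∈ I
        · simp [hj]
        · simp [hj, h1 i hi j hj]
      rw [this]
      have := Groth.Agent.Lib.Helper28.mulVec_eq_erase A m i
      simp only [Matrix.mulVec, dotProduct] at this
      rw [this, h2 i hi]; ring
    · refine Finset.sum_eq_zero fun j _ => ?_
      by_cases hj : j ∈ I
      · have : A i j = 0 := by rw [← hsymm.apply i j]; exact h1 j hj i hi
        simp [this]
      · simp [hj]

end Groth.Agent.S2170
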