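import Groth.Statements.S2179
-- import your own Groth.Agent.* helpers here

set_option autoImplicit false
open Finset
open Models Models.NumericalType

namespace Groth.Agent.S2179

/-- For a numerical type T, the map Z^n -> Z^n multiplying the i-th coordinate by w i induces a
well-defined injective homomorphism from Pic(T), the cokernel of (a i j / w i), to the cokernel of
the matrix a. -/
theorem result {n : ℕ} (T : Models.NumericalType n) :
    ∃ f : T.Pic →+ T.CokerA, Function.Injective f ∧
      ∀ x : Fin n → ℤ, f (Submodule.Quotient.mk x) = Submodule.Quotient.mk (fun i => T.w i * x i) := by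
  classical
  let W : (Fin n → ℤ) →ₗ[ℤ] (Fin n → ℤ) :=
    { toFun := fun x i => T.w i * x i
      map_add' := fun x y => by ext i; simp [mul_add]
      map_smul' := fun c x => by ext i; simp; ring }
  have hWP : ∀ y : Fin n → ℤ, W (Matrix.mulVecLin T.picMatrix y) = Matrix.mulVecLin T.a y := by
    intro y
    ext i
    simp only [W, LinearMap.coe_mk, AddHom.coe_mk, Matrix.mulVecLin_apply, Matrix.mulVec, dotProduct]
    rw [Finset.mul_sum]
    apply Finset.sum_congr rfl
    intro j _
    unfold Models.NumericalType.picMatrix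
    rw [← mul_assoc, Int.mul_ediv_cancel' (T.w_dvd i j)]
  have hle : LinearMap.range (Matrix.mulVecLin T.picMatrix)
      ≤ (LinearMap.range (Matrix.mulVecLin T.a)).comap W := by
    rintro _ ⟨y, rfl⟩
    rw [Submodule.mem_comap, hWP]
    exact ⟨y, rfl⟩
  let F : T.Pic →ₗ[ℤ] T.CokerA := Submodule.mapQ _ _ W hle
  refine ⟨F.toAddMonoidHom, ?_, ?_⟩
  · rw [injective_iff_map_eq_zero]
    intro x hx
    obtain ⟨x, rfl⟩ := Submodule.Quotient.mk_surjective _ x
    have hx' : F (Submodule.Quotient.mk x) = 0 := hx
    rw [Submodule.mapQ_apply, Submodule.Quotient.mk_eq_zero] at hx'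
    obtain ⟨y, hy⟩ := hx'
    rw [Submodule.Quotient.mk_eq_zero]
    refine ⟨y, ?_⟩
    rw [← hWP] at hy
    ext i
    have := congrFun hy i
    simp only [W, LinearMap.coe_mk, AddHom.coe_mk] at this
    exact mul_left_cancel₀ (T.w_pos i).ne' this
  · intro x
    rfl

end Groth.Agent.S2179
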