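import Groth.Statements.S2182
-- import your own Groth.Agent.* helpers here

set_option autoImplicit false
open Finset
open Models Models.NumericalType

namespace Groth.Agent.S2182

/-- In a numerical type, whenever a i j > 0 one has m i * a i j at most m j * |a j j| and m i * w i at
most m j * |a j j|. -/
theorem result {n : ℕ} (T : Models.NumericalType n) (i j : Fin n) (hij : 0 < T.a i j) :
    T.m i * T.a i j ≤ T.m j * |T.a j j| ∧ T.m i * T.w i ≤ T.m j * |T.a j j| := by
  classical
  have hrow : ∀ i : Fin n, ∑ k, T.a i k * T.m k = 0 := by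
    intro i
    have := congrFun T.mulVec_m i
    simpa [Matrix.mulVec, dotProduct] using this
  -- i ≠ j
  have hne : i ≠ j := by
    rintro rfl
    have h := hrow i
    rw [← Finset.add_sum_erase _ _ (Finset.mem_univ i)] at h
    have hrest : 0 ≤ ∑ x ∈ Finset.univ.erase i, T.a i x * T.m x := by
      apply Finset.sum_nonneg
      intro k hk
      have hk' : k ≠ i := (Finset.mem_erase.mp hk).1
      exact mul_nonneg (T.offDiag_nonneg i k (Ne.symm hk')) (T.m_pos k).le
    have : 0 < T.a i i * T.m i := mul_pos hij (T.m_pos i)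
    linarith
  have hsymm : T.a j i = T.a i j := by
    have := T.symm
    exact congrFun (congrFun this i) j
  have h := hrow j
  rw [← Finset.add_sum_erase _ _ (Finset.mem_univ j)] at h
  have hrest : T.a j i * T.m i ≤ ∑ x ∈ Finset.univ.erase j, T.a j x * T.m x := by
    have hi : i ∈ Finset.univ.erase j := Finset.mem_erase.mpr ⟨hne, Finset.mem_univ _⟩
    apply Finset.single_le_sum (f := fun x => T.a j x * T.m x) _ hi
    intro k hk
    have hk' : k ≠ j := (Finset.mem_erase.mp hk).1
    exact mul_nonneg (T.offDiag_nonneg j k (Ne.symm hk')) (T.m_pos k).le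
  have h1 : T.m i * T.a i j ≤ T.m j * |T.a j j| := by
    have habs : -T.a j j ≤ |T.a j j| := neg_le_abs _
    have hmj := T.m_pos j
    have : T.m j * (-T.a j j) ≤ T.m j * |T.a j j| := mul_le_mul_of_nonneg_left habs hmj.le
    rw [hsymm] at hrest
    nlinarith
  refine ⟨h1, le_trans ?_ h1⟩
  have hw : T.w i ≤ T.a i j := Int.le_of_dvd hij (T.w_dvd i j)
  exact mul_le_mul_of_nonneg_left hw (T.m_pos i).le

end Groth.Agent.S2182
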