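import Groth.Statements.S2183
import Mathlib
import Groth.Agent.Lib.Helper4.NumType
import Groth.Agent.S2173
import Groth.Agent.S7317

set_option autoImplicit false
open Finset
open Models Models.NumericalType

namespace Groth.Agent.S2183

open Classical in
open Groth.Agent.Lib.Helper4 in
/-- Let T be a minimal numerical type with n > 1 indices and genus g at least 2, and let J be the set of
indices which are not (-2)-indices. Then J has at most 2g - 2 elements, and for j in J one has g j <
g, m j * |a j j| at most 6g - 6, and m i * a i j at most 6g - 6 for every index i. -/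
theorem result {n : ℕ} (T : Models.NumericalType n) (hmin : T.IsMinimal) (hn : 1 < n) (hg : 2 ≤ T.genus) :
    ((univ.filter fun j => ¬T.IsMinusTwo j).card : ℤ) ≤ 2 * T.genus - 2 ∧
      ∀ j, ¬T.IsMinusTwo j →
        T.g j < T.genus ∧ T.m j * |T.a j j| ≤ 6 * T.genus - 6 ∧
          ∀ i, T.m i * T.a i j ≤ 6 * T.genus - 6 := by
  classical
  have hterm0 : ∀ i, 0 ≤ NumType.term T i := fun i => Groth.Agent.S2176.term_nonneg T hmin hn i
  have h2g : ∑ i, NumType.term T i = 2 * T.genus - 2 := by
    rw [NumType.sum_term_eq]
    obtain ⟨c, hc⟩ := Groth.Agent.S2173.result T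
    unfold Models.NumericalType.genus
    rw [hc]
    omega
  have hterm1 : ∀ j, ¬ T.IsMinusTwo j → 1 ≤ NumType.term T j := by
    intro j hj
    by_contra hcon
    have h0 : NumType.term T j = 0 := le_antisymm (by omega) (hterm0 j)
    exact hj (Groth.Agent.S7317.result T hn j (by unfold NumType.term at h0; rw [← h0]; ring))
  have hle : ∀ j, NumType.term T j ≤ 2 * T.genus - 2 := by
    intro j
    rw [← h2g]
    exact Finset.single_le_sum (fun i _ => hterm0 i) (Finset.mem_univ j)
  refine ⟨?_, ?_⟩
  · calc ((univ.filter fun j => ¬T.IsMinusTwo j).card : ℤ)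
        = ∑ j ∈ univ.filter (fun j => ¬T.IsMinusTwo j), (1:ℤ) := by simp
      _ ≤ ∑ j ∈ univ.filter (fun j => ¬T.IsMinusTwo j), NumType.term T j :=
          Finset.sum_le_sum (fun j hj => hterm1 j (Finset.mem_filter.mp hj).2)
      _ ≤ ∑ j, NumType.term T j :=
          Finset.sum_le_sum_of_subset_of_nonneg (Finset.filter_subset _ _) (fun i _ _ => hterm0 i)
      _ = _ := h2g
  · intro j hj
    have hneg := Groth.Agent.S2174.result T hn j
    have hw := T.w_pos j
    have hm := T.m_pos j
    have hg := T.g_nonneg j
    obtain ⟨k, hk⟩ := T.w_dvd j j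
    have hk1 : k ≤ -1 := by
      by_contra hcon
      push Not at hcon
      have : 0 ≤ T.w j * k := mul_nonneg hw.le (by omega)
      omega
    have hmw : 1 ≤ T.m j * T.w j := by nlinarith
    have hT := hle j
    have hterm : NumType.term T j = (T.m j * T.w j) * (2 * T.g j - 2 - k) := by
      unfold NumType.term; rw [hk]; ring
    have habs : T.m j * |T.a j j| = (T.m j * T.w j) * (-k) := by
      rw [abs_of_neg hneg, hk]; ring
    have h6 : T.m j * |T.a j j| ≤ 6 * T.genus - 6 := by
      rw [habs]
      rcases lt_or_eq_of_le hg with hg1 | hg0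
      · have : (T.m j * T.w j) * (-k) ≤ (T.m j * T.w j) * (2 * T.g j - 2 - k) :=
          mul_le_mul_of_nonneg_left (by omega) (by omega)
        rw [hterm] at hT
        linarith
      · have hk2 : k ≠ -1 := by
          intro h
          apply hmin j
          refine ⟨hg0.symm, ?_⟩
          rw [hk, h]; ring
        have hk3 : k ≠ -2 := fun h => hj ⟨hg0.symm, by rw [hk, h]; ring⟩
        have hk4 : k ≤ -3 := by omega
        have : (T.m j * T.w j) * (-k) ≤ (T.m j * T.w j) * (3 * (-2 - k)) :=
          mul_le_mul_of_nonneg_left (by omega) (by omega)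
        rw [hterm, ← hg0] at hT
        nlinarith
    refine ⟨?_, h6, ?_⟩
    · rcases lt_or_eq_of_le hg with hg1 | hg0
      · have h1 : (1:ℤ) * (2 * T.g j - 1) ≤ (T.m j * T.w j) * (2 * T.g j - 2 - k) := by
          calc (1:ℤ) * (2 * T.g j - 1) ≤ (T.m j * T.w j) * (2 * T.g j - 1) :=
                mul_le_mul_of_nonneg_right hmw (by omega)
            _ ≤ (T.m j * T.w j) * (2 * T.g j - 2 - k) :=
                mul_le_mul_of_nonneg_left (by omega) (by omega)
        rw [hterm] at hT
        have : 2 * T.g j - 1 ≤ 2 * T.genus - 2 := by linarith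
        omega
      · omega
    · intro i
      by_cases hij : i = j
      · subst hij
        have : T.m i * T.a i i < 0 := mul_neg_of_pos_of_neg hm hneg
        linarith
      · have hrow := NumType.row_eq T j
        have h1 : T.a j i * T.m i ≤ ∑ l ∈ univ.erase j, T.a j l * T.m l :=
          Finset.single_le_sum (f := fun l => T.a j l * T.m l)
            (fun l hl => mul_nonneg (T.offDiag_nonneg j l (Ne.symm (Finset.ne_of_mem_erase hl)))
              (T.m_pos l).le) (Finset.mem_erase.mpr ⟨hij, Finset.mem_univ i⟩)
        have hsym : T.a j i = T.a i j := congrFun (congrFun T.symm i) j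
        rw [abs_of_neg hneg] at h6
        rw [← hsym]
        linarith

end Groth.Agent.S2183
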