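import Groth.Statements.S2187
import Mathlib
import Groth.Agent.Lib.Helper16.Vasc2

set_option autoImplicit false
universe u
open CategoryTheory
open LCI

namespace Groth.Agent.S2187

section helpers
open CategoryTheory
open LCI

theorem result_aux {R : Type u} [CommRing R]
    [IsNoetherianRing R] [IsLocalRing R] (I : Ideal R) (n : ℕ)
    (hpd : HasProjectiveDimensionLT (ModuleCat.of R I) n)
    (F G : Submodule (R ⧸ I) I.Cotangent) (hFG : IsCompl F G) (e : F ≃ₗ[R ⧸ I] (R ⧸ I)) :
    ∃ (x : R) (hx : x ∈ I), x ∈ nonZeroDivisors R ∧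
      Submodule.span (R ⧸ I) {I.toCotangent ⟨x, hx⟩} = F := by
  by_cases hI : I = ⊤
  · have hsub : Subsingleton I.Cotangent := by
      refine ⟨fun a b => ?_⟩
      obtain ⟨a', rfl⟩ := I.toCotangent_surjective a
      obtain ⟨b', rfl⟩ := I.toCotangent_surjective b
      rw [Ideal.toCotangent_eq]
      have h2 : I ^ 2 = ⊤ := by rw [hI, Ideal.top_pow]
      rw [h2]
      trivial
    refine ⟨1, by rw [hI]; trivial, one_mem _, ?_⟩
    exact Subsingleton.elim _ _
  · obtain ⟨x, hx, hreg, hspan⟩ := Groth.Agent.Lib.Helper16.Vasc2.main I hI n hpd F G hFG 1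
      (e.trans (LinearEquiv.funUnique (Fin 1) (R ⧸ I) (R ⧸ I)).symm)
    refine ⟨x 0, hx 0, ?_, ?_⟩
    · rw [List.ofFn_succ, RingTheory.Sequence.isWeaklyRegular_cons_iff] at hreg
      have h : IsSMulRegular R (x 0) := hreg.1
      refine mem_nonZeroDivisors_iff_right.mpr (fun a ha => ?_)
      apply h
      simp only [smul_eq_mul, mul_zero]
      rw [mul_comm]; exact ha
    · rw [← hspan]
      congr 1
      rw [Set.range_unique]
      rfl

end helpers

/-- Let R be a Noetherian local ring and I an ideal of finite projective dimension as an R-module. If F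
is a direct summand of the conormal module I/I^2 which is isomorphic to R/I, then there is a
nonzerodivisor x in I whose class in I/I^2 generates F. -/
theorem result {R : Type u} [CommRing R]
    [IsNoetherianRing R] [IsLocalRing R] (I : Ideal R) (n : ℕ)
    (hpd : HasProjectiveDimensionLT (ModuleCat.of R I) n)
    (F G : Submodule (R ⧸ I) I.Cotangent) (hFG : IsCompl F G) (e : F ≃ₗ[R ⧸ I] (R ⧸ I)) :
    ∃ (x : R) (hx : x ∈ I), x ∈ nonZeroDivisors R ∧
      Submodule.span (R ⧸ I) {I.toCotangent ⟨x, hx⟩} = F := by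
  exact result_aux I n hpd F G hFG e

end Groth.Agent.S2187
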