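import Groth.Statements.S2188
import Mathlib
import Groth.Agent.Lib.Helper16.Vasc2

set_option autoImplicit false
universe u
open CategoryTheory
open LCI

namespace Groth.Agent.S2188

section helpers
open CategoryTheory
open LCI

theorem result_aux {R : Type u} [CommRing R]
    [IsNoetherianRing R] [IsLocalRing R] (I : Ideal R) (hI : I ≠ ⊤) (n : ℕ)
    (hpd : HasProjectiveDimensionLT (ModuleCat.of R I) n)
    (F G : Submodule (R ⧸ I) I.Cotangent) (hFG : IsCompl F G) (r : ℕ)
    (e : F ≃ₗ[R ⧸ I] (Fin r → R ⧸ I)) :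
    ∃ (x : Fin r → R) (hx : ∀ i, x i ∈ I), RingTheory.Sequence.IsRegular R (List.ofFn x) ∧
      Submodule.span (R ⧸ I) (Set.range fun i => I.toCotangent ⟨x i, hx i⟩) = F := by
  obtain ⟨x, hx, hreg, hspan⟩ := Groth.Agent.Lib.Helper16.Vasc2.main I hI n hpd F G hFG r e
  refine ⟨x, hx, ⟨hreg, ?_⟩, hspan⟩
  intro h
  have hle : Ideal.ofList (List.ofFn x) ≤ I := by
    rw [Ideal.ofList, Ideal.span_le]
    intro a ha
    simp only [Set.mem_ofPred_eq, List.mem_ofFn] at ha
    obtain ⟨i, rfl⟩ := ha
    exact hx i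
  rw [smul_eq_mul, Ideal.mul_top] at h
  exact hI (top_le_iff.mp (h.le.trans hle))

end helpers

/-- Let R be a Noetherian local ring and I an ideal of finite projective dimension as an R-module. If F
is a direct summand of I/I^2 which is free of rank r over R/I, then there is a regular sequence x_1,
..., x_r of R inside I whose classes in I/I^2 generate F. -/
theorem result {R : Type u} [CommRing R]
    [IsNoetherianRing R] [IsLocalRing R] (I : Ideal R) (hI : I ≠ ⊤) (n : ℕ)
    (hpd : HasProjectiveDimensionLT (ModuleCat.of R I) n)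
    (F G : Submodule (R ⧸ I) I.Cotangent) (hFG : IsCompl F G) (r : ℕ)
    (e : F ≃ₗ[R ⧸ I] (Fin r → R ⧸ I)) :
    ∃ (x : Fin r → R) (hx : ∀ i, x i ∈ I), RingTheory.Sequence.IsRegular R (List.ofFn x) ∧
      Submodule.span (R ⧸ I) (Set.range fun i => I.toCotangent ⟨x i, hx i⟩) = F := by
  exact result_aux I hI n hpd F G hFG r e

end Groth.Agent.S2188
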