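import Groth.Statements.S2190
import Groth.Agent.S2176
-- import your own Groth.Agent.* helpers here

set_option autoImplicit false
open Finset
open Models Models.NumericalType

namespace Groth.Agent.S2190

/-- A minimal numerical type of genus zero has a single index, with m = 1, a = 0, w = 1 and g = 0. -/
theorem result {n : ℕ} (T : Models.NumericalType n) (hmin : T.IsMinimal) (hg : T.genus = 0) :
    n = 1 ∧ ∀ i, T.m i = 1 ∧ T.a i i = 0 ∧ T.w i = 1 ∧ T.g i = 0 := by
  classical
  have hn1 : n = 1 := by
    by_contra hne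
    have hpos := T.pos
    have hn : 1 < n := by omega
    have := Groth.Agent.S2176.result T hmin hn
    omega
  subst hn1
  refine ⟨rfl, ?_⟩
  intro i
  have hi : i = 0 := Subsingleton.elim _ _
  subst hi
  have hrow : T.a 0 0 * T.m 0 = 0 := by
    have := congrFun T.mulVec_m 0
    simpa [Matrix.mulVec, dotProduct] using this
  have hm := T.m_pos 0
  have hw := T.w_pos 0
  have hgn := T.g_nonneg 0
  have ha : T.a 0 0 = 0 := by
    rcases mul_eq_zero.mp hrow with h | h
    · exact h
    · omega
  have hgen : T.genus = 1 + T.m 0 * T.w 0 * (T.g 0 - 1) := by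
    unfold Models.NumericalType.genus
    simp [ha]
  rw [hgen] at hg
  have hprod : T.m 0 * T.w 0 * (1 - T.g 0) = 1 := by linarith
  have hmw : 0 < T.m 0 * T.w 0 := mul_pos hm hw
  have h1 : T.m 0 * T.w 0 = 1 ∧ 1 - T.g 0 = 1 := by
    have hpos : 0 < 1 - T.g 0 := by
      by_contra hcon
      push Not at hcon
      have : T.m 0 * T.w 0 * (1 - T.g 0) ≤ 0 := mul_nonpos_of_nonneg_of_nonpos hmw.le hcon
      omega
    have hle : 1 - T.g 0 ≤ 1 := by omega
    have heq : 1 - T.g 0 = 1 := by omega
    rw [heq, mul_one] at hprod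
    exact ⟨hprod, heq⟩
  have hm1 : T.m 0 = 1 := by
    have := Int.eq_one_of_mul_eq_one_right hm.le h1.1
    exact this
  have hw1 : T.w 0 = 1 := by
    rw [hm1, one_mul] at h1
    exact h1.1
  exact ⟨hm1, ha, hw1, by omega⟩

end Groth.Agent.S2190
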