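import Groth.Statements.S2203
import Mathlib.CategoryTheory.Center.Localization
import Mathlib.CategoryTheory.Center.Linear
import Mathlib.Algebra.Category.ModuleCat.Biproducts
import Mathlib.CategoryTheory.Preadditive.AdditiveFunctor
import Mathlib.CategoryTheory.Limits.Preserves.Shapes.Biproducts
import Mathlib.CategoryTheory.Linear.Basic

set_option autoImplicit false
universe u
open CategoryTheory
open QCohCat

namespace Groth.Agent.S2203

/-- The center of the category of modules over a commutative ring is the ring itself. -/
theorem toCatCenter_bijective (R : Type u) [CommRing R] :
    Function.Bijective (Linear.toCatCenter R (ModuleCat.{u} R)) := by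
  constructor
  · intro a b h
    have h1 := congrArg (fun z : CatCenter (ModuleCat.{u} R) => (z.app (ModuleCat.of R R)).hom (1 : R)) h
    simpa using h1
  · intro z
    refine ⟨(z.app (ModuleCat.of R R)).hom (1 : R), ?_⟩
    ext M x
    let f : ModuleCat.of R R ⟶ M := ModuleCat.ofHom (LinearMap.toSpanSingleton R M x)
    have hnat := z.naturality f
    have h2 := congrArg (fun g : ModuleCat.of R R ⟶ M => g.hom (1 : R)) hnat
    simp only [ModuleCat.hom_comp, LinearMap.comp_apply] at h2
    simp [f] at h2
    simpa using h2.symm

/-- An equivalence of preadditive categories induces a ring isomorphism between the centers. -/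
theorem exists_ringEquiv_center {C D : Type*} [Category C] [Category D] [Preadditive C]
    [Preadditive D] (L : C ⥤ D) [L.IsEquivalence] [L.Additive] :
    Nonempty (CatCenter C ≃+* CatCenter D) := by
  have : L.IsLocalization (MorphismProperty.isomorphisms C) :=
    Functor.IsLocalization.of_isEquivalence L _ le_rfl
  refine ⟨RingEquiv.ofBijective
    (CatCenter.localizationRingHom L (MorphismProperty.isomorphisms C)) ⟨?_, ?_⟩⟩
  · intro r s h
    ext X
    have := congrArg (fun z : CatCenter D => z.app (L.obj X)) h
    simp only [CatCenter.localizationRingHom, RingHom.coe_mk, MonoidHom.coe_mk, OneHom.coe_mk,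
      CatCenter.localization_app] at this
    exact L.map_injective this
  · intro t
    let r : CatCenter C :=
      { app := fun X => L.preimage (t.app (L.obj X))
        naturality := fun X Y f => by
          apply L.map_injective
          simp only [Functor.id_obj, Functor.id_map, Functor.map_comp, Functor.map_preimage]
          exact (t.naturality (L.map f)) }
    refine ⟨r, ?_⟩
    apply CatCenter.ext_of_localization L (MorphismProperty.isomorphisms C)
    intro X
    simp only [CatCenter.localizationRingHom, RingHom.coe_mk, MonoidHom.coe_mk, OneHom.coe_mk,
      CatCenter.localization_app]
    simp [r, CatCenter.app]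

/-- Ring-isomorphism part of the statement: let A and B be commutative rings whose categories of modules
are equivalent. Then A and B are isomorphic as rings. (The source moreover describes the equivalence
as base change followed by tensoring with an invertible module.) -/
theorem result (A B : Type u) [CommRing A] [CommRing B]
    (F : ModuleCat.{u} A ≌ ModuleCat.{u} B) : Nonempty (A ≃+* B) := by
  have : F.functor.Additive := Functor.additive_of_preserves_binary_products F.functor
  obtain ⟨e⟩ := exists_ringEquiv_center F.functor
  exact ⟨((RingEquiv.ofBijective _ (toCatCenter_bijective A)).trans e).trans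
    (RingEquiv.ofBijective _ (toCatCenter_bijective B)).symm⟩

end Groth.Agent.S2203
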