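import Groth.Statements.S2209
import Mathlib
import Groth.Agent.Lib.Helper4.ZZ4

set_option autoImplicit false
universe u
open CategoryTheory AlgebraicGeometry
open Models

namespace Groth.Agent.S2209


open AlgebraicGeometry CategoryTheory CategoryTheory.Limits in
/-- Let R be a discrete valuation ring with fraction field K, C a smooth proper curve over K whose ring
of global functions is K (the map K -> H^0(C, O_C) is an isomorphism), and X a regular proper model
of C over R. Then the special fibre of X is connected. -/
theorem result (R : Type u) [CommRing R] [IsDomain R]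
    [IsDiscreteValuationRing R] (C X : Scheme.{u})
    (f : C ⟶ Spec (CommRingCat.of (FractionRing R))) (p : X ⟶ Spec (CommRingCat.of R))
    (hC : Curve.IsSmoothProperCurve (FractionRing R) C f) (hH0 : IsIso f.appTop)
    (hX : Models.IsRegularProperModel R X p C f) :
    ConnectedSpace ↥(Models.specialFibre R X p) := by
  obtain ⟨⟨hflat, hlft, hqc, g, hpb⟩, hproper, hreg⟩ := hX
  obtain ⟨hCproper, hCsmooth, hCint, -⟩ := hC
  haveI := hflat
  haveI := hproper
  haveI := hCint
  haveI : GeometricallyConnected p :=
    Groth.Agent.Lib.Helper4.ZZ.geometricallyConnected_of_isIso_appTop R f p g hpb hreg hH0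
  haveI : GeometricallyConnected (pullback.snd p (Spec.map (CommRingCat.ofHom
      (algebraMap R (IsLocalRing.ResidueField R))))) :=
    MorphismProperty.of_isPullback (P := @GeometricallyConnected)
      (IsPullback.of_hasPullback p _) ‹GeometricallyConnected p›
  haveI : Subsingleton ↥(Spec (CommRingCat.of (IsLocalRing.ResidueField R))) :=
    inferInstanceAs (Subsingleton (PrimeSpectrum (IsLocalRing.ResidueField R)))
  have hconn := GeometricallyConnected.connectedSpace_of_subsingleton
    (pullback.snd p (Spec.map (CommRingCat.ofHom (algebraMap R (IsLocalRing.ResidueField R)))))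
  exact hconn

end Groth.Agent.S2209
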