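import Groth.Statements.S2211
-- import your own Groth.Agent.* helpers here
import Groth.Agent.Lib.Helper12.DPowPrime

set_option autoImplicit false
universe u
open DPow

namespace Groth.Agent.S2211

/-- First part: let p be a prime and A a ring in which every integer prime to p is invertible, I an
ideal of A. Two divided power structures on I coincide exactly when their p-th divided power maps
agree on I. -/
theorem result {A : Type u} [CommRing A] (p : ℕ) (hp : p.Prime)
    (hA : ∀ n : ℕ, ¬ p ∣ n → IsUnit (n : A)) {I : Ideal A} (γ γ' : DividedPowers I) :
    γ = γ' ↔ ∀ x ∈ I, γ.dpow p x = γ'.dpow p x := by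
  constructor
  · rintro rfl x _
    rfl
  · intro h
    exact DividedPowers.ext γ γ' (fun n x hx => H12S2211.main p hp hA γ γ' h n x hx)

end Groth.Agent.S2211
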