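import Groth.Statements.S2219
-- import your own Groth.Agent.* helpers here
import Groth.Agent.Lib.Helper12.TraceLength

set_option autoImplicit false
universe u
open Disc

namespace Groth.Agent.S2219

/-- Equivalence of (1) and (3): let k be a field and A a finite-dimensional local k-algebra with residue
field k'. Then the trace map Tr_{A/k} is not identically zero if and only if k' is separable over k
and the length of A as a module over itself is not divisible by the characteristic of k (no
condition in characteristic zero). -/
theorem result (k A : Type u) [Field k] [CommRing A]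
    [Algebra k A] [FiniteDimensional k A] [IsLocalRing A] :
    Algebra.trace k A ≠ 0 ↔
      (Algebra.IsSeparable k (IsLocalRing.ResidueField A) ∧
        ∀ p : ℕ, p.Prime → CharP k p → ¬ p ∣ (Module.length A A).toNat) := by
  rw [Groth.Agent.Lib.Helper12.TraceLength.trace_ne_zero_iff k A]
  have hl0 : (Module.length A A).toNat ≠ 0 := by
    have h1 : 0 < Module.length A A := Module.length_pos
    haveI : IsArtinian A A := isArtinian_of_tower k inferInstance
    haveI : IsNoetherian A A := isNoetherian_of_tower k inferInstance
    have h2 : Module.length A A ≠ ⊤ := Module.length_ne_top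
    intro h0
    rcases (ENat.toNat_eq_zero.mp h0) with h | h
    · exact (ne_of_gt h1) h
    · exact h2 h
  constructor
  · rintro ⟨hsep, hl⟩
    refine ⟨hsep, fun p hp hchar hdvd => ?_⟩
    apply hl
    exact (CharP.cast_eq_zero_iff k p _).mpr hdvd
  · rintro ⟨hsep, hp⟩
    refine ⟨hsep, fun h0 => ?_⟩
    obtain ⟨p, hchar⟩ := CharP.exists k
    have hdvd : p ∣ (Module.length A A).toNat := (CharP.cast_eq_zero_iff k p _).mp h0
    rcases CharP.char_is_prime_or_zero k p with hpp | hp0
    · exact hp p hpp hchar hdvd
    · rw [hp0, zero_dvd_iff] at hdvd
      exact hl0 hdvd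

end Groth.Agent.S2219
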