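import Groth.Statements.S2237
import Mathlib
import Groth.Agent.Lib.Helper16.QfLci1
import Groth.Agent.Lib.Helper16.QfLci2
import Groth.Agent.Lib.Helper16.KzFlat4
import Groth.Agent.Lib.Helper18.FibBridge

set_option autoImplicit false
universe u
attribute [local instance] HasDerivedCategory.standard
open LCI

namespace Groth.Agent.S2237

section helpers
attribute [local instance] HasDerivedCategory.standard
open LCI

theorem result_aux {A B : Type u} [CommRing A]
    [CommRing B] [Algebra A B] [Module.Flat A B] [Algebra.QuasiFinite A B] (hlci : LCI.IsLCI A B)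
    (q : Ideal B) [q.IsPrime] :
    ∃ g : B, g ∉ q ∧ ∃ (n : ℕ) (f : Fin n → MvPolynomial (Fin n) A),
      Nonempty (Localization.Away g ≃ₐ[A]
        (MvPolynomial (Fin n) A ⧸ Ideal.span (Set.range f))) := by
  classical
  obtain ⟨hft, N, f, hf, hJ⟩ := hlci
  set P := MvPolynomial (Fin N) A with hP
  set J := RingHom.ker f.toRingHom with hJdef
  -- local Koszul-regular generators at `Q`
  have hQprime : (q.comap f).IsPrime := Ideal.comap_isPrime f q
  have hJQ : J ≤ q.comap f := by
    intro x hx
    rw [Ideal.mem_comap, show f x = 0 from hx]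
    exact Ideal.zero_mem _
  rw [Groth.Agent.Lib.Helper16.KzLoc.isKoszulRegularIdeal_iff] at hJ
  obtain ⟨h, hhQ, l₀, hl₀, hloc⟩ := hJ ⟨q.comap f, hQprime⟩ hJQ
  have hhq : f h ∉ q := hhQ
  -- flatness of `P ⧸ J`
  have hflat : Module.Flat A (P ⧸ J) :=
    Module.Flat.of_linearEquiv (Ideal.quotientKerAlgEquivOfSurjective hf).toLinearEquiv
  -- the fibre
  set p := q.under A with hp
  set κ := p.ResidueField with hκ
  have hk := Groth.Agent.Lib.Helper16.KzFlat.kreg_tensor_away A P κ h l₀ J hl₀ hloc
  let α : TensorProduct A P κ →ₐ[A] TensorProduct A B κ := Algebra.TensorProduct.map f (AlgHom.id A κ)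
  have hα : Function.Surjective α := TensorProduct.map_surjective hf Function.surjective_id
  have hkerα : RingHom.ker α.toRingHom = J.map (algebraMap P (TensorProduct A P κ)) :=
    Algebra.TensorProduct.rTensor_ker f hf
  have hloc' := Groth.Agent.Lib.Helper16.QfLci.locEq_map (algebraMap P (TensorProduct A P κ)) hloc
  rw [Submonoid.map_powers, Ideal.map_ofList, ← hkerα] at hloc'
  -- a prime of the fibre over `q`
  obtain ⟨qb, hqb, hctr⟩ := Groth.Agent.Lib.Helper18.FibBridge.exists_prime_of_comap_eq p q rfl
  let cm : TensorProduct A B κ ≃ₐ[A] TensorProduct A κ B := Algebra.TensorProduct.comm A B κ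
  have hArt : IsArtinianRing (TensorProduct A B κ) := RingEquiv.isArtinianRing cm.symm.toRingEquiv
  let q'' : Ideal (TensorProduct A B κ) := qb.comap cm
  have hq''prime : q''.IsPrime := Ideal.comap_isPrime cm qb
  have hq''q : q''.comap (algebraMap B (TensorProduct A B κ)) = q := by
    refine Eq.trans ?_ hctr
    ext b
    simp only [Ideal.mem_comap, q'', Groth.Agent.Lib.Helper18.FibBridge.ctr]
    rw [Algebra.TensorProduct.algebraMap_apply, Algebra.algebraMap_self_apply]
    change cm (TensorProduct.tmul A b 1) ∈ qb ↔ _
    rw [Algebra.TensorProduct.comm_tmul]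
    rfl
  have hh'' : algebraMap P (TensorProduct A P κ) h ∉ q''.comap α.toRingHom := by
    intro hmem
    rw [Ideal.mem_comap] at hmem
    have h1 : α.toRingHom (algebraMap P (TensorProduct A P κ) h) = algebraMap B (TensorProduct A B κ) (f h) := by
      rw [Algebra.TensorProduct.algebraMap_apply, Algebra.algebraMap_self_apply,
        Algebra.TensorProduct.algebraMap_apply, Algebra.algebraMap_self_apply]
      change α (TensorProduct.tmul A h 1) = _
      simp [α]
    rw [h1] at hmem
    exact hhq (hq''q ▸ (Ideal.mem_comap.mpr hmem))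
  have hle := Groth.Agent.Lib.Helper16.KzLoc.powers_le_primeCompl
    (p := q''.comap α.toRingHom) hh''
  let e : TensorProduct A P κ ≃+* MvPolynomial (Fin N) κ :=
    (Algebra.TensorProduct.comm A P κ).toRingEquiv.trans
      (MvPolynomial.algebraTensorAlgEquiv (σ := Fin N) A κ).toRingEquiv
  have hlen : l₀.length = N := by
    have := Groth.Agent.Lib.Helper16.QfLci.length_eq_of_isArtinianRing κ N (TensorProduct A P κ) e
      (TensorProduct A B κ) α.toRingHom hα q'' (l₀.map (algebraMap P (TensorProduct A P κ))) (hk.mono hle)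
      (hloc'.mono hle)
    rwa [List.length_map] at this
  -- the presentation
  have hI : Ideal.ofList (l₀.map (algebraMap P (Localization.Away h))) =
      J.map (algebraMap P (Localization.Away h)) := by
    rw [← Ideal.map_ofList]
    exact ((Groth.Agent.Lib.Helper16.KzLoc.map_eq_map_iff (Submonoid.powers h)
      (Localization.Away h) _ _).mpr hloc).symm
  obtain ⟨e1⟩ := Groth.Agent.Lib.Helper16.QfLci.nonempty_algEquiv_away f hf h l₀ hI
  obtain ⟨F, ⟨e2⟩⟩ := Groth.Agent.Lib.Helper16.QfLci.exists_range_presentation A N _
    ((Polynomial.C h * Polynomial.X - 1) :: l₀.map Polynomial.C)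
    (by rw [List.length_cons, List.length_map, hlen]) e1
  exact ⟨f h, hhq, N + 1, F, ⟨e2⟩⟩

end helpers

/-- Implication (2) to (5), affine form: let A -> B be flat, quasi-finite and a local complete
intersection homomorphism (finite type with a Koszul-regular presentation). Then for every prime q
of B there are g in B outside q, a natural number n and polynomials f_1, ..., f_n in A[x_1, ...,
x_n] such that B_g is isomorphic as an A-algebra to A[x_1, ..., x_n]/(f_1, ..., f_n). -/
theorem result {A B : Type u} [CommRing A]
    [CommRing B] [Algebra A B] [Module.Flat A B] [Algebra.QuasiFinite A B] (hlci : LCI.IsLCI A B)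
    (q : Ideal B) [q.IsPrime] :
    ∃ g : B, g ∉ q ∧ ∃ (n : ℕ) (f : Fin n → MvPolynomial (Fin n) A),
      Nonempty (Localization.Away g ≃ₐ[A]
        (MvPolynomial (Fin n) A ⧸ Ideal.span (Set.range f))) := by
  exact result_aux hlci q

end Groth.Agent.S2237
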