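import Groth.Statements.S2326
-- import your own Groth.Agent.* helpers here
import Groth.Agent.Lib.Helper29.CE5

set_option autoImplicit false
universe u
open CategoryTheory CategoryTheory.Limits AlgebraicGeometry
open EGA2

namespace Groth.Agent.S2326

/-- Let X be a quasi-compact separated scheme (the source also allows a prescheme with Noetherian
underlying space) and L an invertible module. Suppose that for every quasi-coherent ideal sheaf I of
finite type there are n > 0 and k > 0 with I ⊗ L^{⊗n} a quotient of O_X^k. Then L is ample. -/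
theorem result (X : Scheme.{u}) [CompactSpace X] [X.IsSeparated] (L : X.Modules) (hL : PicF.IsInvertible L)
    (h : ∀ I : X.IdealSheafData, BlowUp.IsFiniteTypeIdeal I →
      ∃ (n k : ℕ) (p : FlatMod.freeMod X k ⟶ CohB1.tensorMod (ClSub.idealMod I) (CohB1.tensorPow L (n + 1))), 0 < k ∧ Epi p) :
    CohB1.IsAmple L := by
  refine ⟨hL, inferInstance, fun x => ?_⟩
  obtain ⟨U, e, hU, hxU, -, he⟩ :=
    Groth.Agent.Lib.Helper29.QCoh.exists_affine_isTriv hL (W := ⊤) x trivial
  obtain ⟨K, i, hmono, hq, hft, h1, hK2⟩ :=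
    Groth.Agent.Lib.Helper29.QCoh.exists_finiteType_ideal_compl U hU.isCompact
  haveI := hq
  haveI := hft
  haveI hqL := Groth.Agent.Lib.Helper29.QCoh.isQuasicoherent_of_isInvertible hL
  obtain ⟨n, k, p, -, hp⟩ := h (Groth.Agent.Lib.Helper29.QCoh.idealOfHom i)
    (Groth.Agent.Lib.Helper29.QCoh.isFiniteTypeIdeal_idealOfHom i)
  haveI := hp
  have hgg : Curv2.IsGloballyGenerated (CohB1.tensorMod
      (ClSub.idealMod (Groth.Agent.Lib.Helper29.QCoh.idealOfHom i))
      (CohB1.tensorPow L (n + 1))) :=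
    ⟨ULift.{u} (Fin k), (Groth.Agent.Lib.Helper29.QCoh.freeModIso X k).inv ≫ p,
      @epi_comp _ _ _ _ _ (Groth.Agent.Lib.Helper29.QCoh.freeModIso X k).inv inferInstance p hp⟩
  have h1' : ∃ a : Γ(ClSub.idealMod (Groth.Agent.Lib.Helper29.QCoh.idealOfHom i), U),
      Groth.Agent.Lib.Helper29.QCoh.fromUnit
        ((ClSub.idealModι (Groth.Agent.Lib.Helper29.QCoh.idealOfHom i)).app U a) = 1 :=
    Groth.Agent.Lib.Helper29.QCoh.exists_idealModι_app_eq
      (Groth.Agent.Lib.Helper29.QCoh.idealOfHom i) ⟨U, hU⟩ 1 h1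
  have hI' : Groth.Agent.Lib.Helper29.QCoh.VanishesOff
      (ClSub.idealModι (Groth.Agent.Lib.Helper29.QCoh.idealOfHom i)) U := by
    intro W t y hyW hyU
    obtain ⟨t', ht'⟩ := Groth.Agent.Lib.Helper29.QCoh.idealModι_app_mem
      (Groth.Agent.Lib.Helper29.QCoh.idealOfHom i) W t
    rw [← ht']
    exact Groth.Agent.Lib.Helper29.QCoh.vanishesOff_of_mem_vanishingIdeal i U hK2 W t' y hyW hyU
  obtain ⟨s, hs, haff⟩ :=
    Groth.Agent.Lib.Helper29.QCoh.exists_affine_genLocus_of_isGloballyGenerated_twisted_ideal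
      (ClSub.idealModι (Groth.Agent.Lib.Helper29.QCoh.idealOfHom i))
      (CohB1.tensorPow L (n + 1))
      (Groth.Agent.Lib.Helper29.QCoh.isInvertible_tensorPow hL _) U hU (he.epow _) h1' hI' x hxU hgg
  exact ⟨n, s, hs, haff⟩

end Groth.Agent.S2326
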