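import Groth.Statements.S2327
-- import your own Groth.Agent.* helpers here
import Groth.Agent.Lib.Helper29.Ample

set_option autoImplicit false
universe u
open CategoryTheory CategoryTheory.Limits AlgebraicGeometry
open EGA2

namespace Groth.Agent.S2327

/-- Let X be a quasi-compact separated scheme, L an invertible module and n > 0. Then L is ample if and
only if L^{⊗n} is ample. -/
theorem result (X : Scheme.{u}) [CompactSpace X] [X.IsSeparated] (L : X.Modules) (hL : PicF.IsInvertible L) (n : ℕ) (hn : 0 < n) :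
    CohB1.IsAmple L ↔ CohB1.IsAmple (CohB1.tensorPow L n) := by
  open Groth.Agent.Lib.Helper29.QCoh in
  constructor
  · rintro ⟨-, hc, h⟩
    refine ⟨isInvertible_tensorPow hL n, hc, fun x => ?_⟩
    obtain ⟨m, s, hx, haff⟩ := h x
    obtain ⟨s₁, h₁⟩ := exists_pow_section hL s n (n * (m + 1)) hn (Nat.mul_comm _ _)
    obtain ⟨s₂, h₂⟩ := exists_section_of_iso (tensorPowMul L n (m + 1)).symm s₁
    exact ⟨m, s₂, by rw [h₂, h₁]; exact hx, by rw [h₂, h₁]; exact haff⟩
  · rintro ⟨-, hc, h⟩
    refine ⟨hL, hc, fun x => ?_⟩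
    obtain ⟨m, s, hx, haff⟩ := h x
    obtain ⟨s₁, h₁⟩ := exists_section_of_iso (tensorPowMul L n (m + 1)) s
    have hpos : 0 < n * (m + 1) := Nat.mul_pos hn (Nat.succ_pos _)
    obtain ⟨s₂, h₂⟩ := exists_section_of_eq L
      (show n * (m + 1) = (n * (m + 1) - 1) + 1 by omega) s₁
    exact ⟨_, s₂, by rw [h₂, h₁]; exact hx, by rw [h₂, h₁]; exact haff⟩

end Groth.Agent.S2327
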