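import Groth.Statements.S2334
import Groth.Agent.Lib.Helper21.DVRExt8
-- import your own Groth.Agent.* helpers here

set_option autoImplicit false
universe u
open CategoryTheory CategoryTheory.Limits AlgebraicGeometry
open EGA2

namespace Groth.Agent.S2334

/-- Locally Noetherian case of the valuative criterion of separatedness: let Y be a locally Noetherian
scheme and f : X → Y locally of finite type. Then f is separated if and only if for every discrete
valuation ring A with fraction field K, any two morphisms Spec A → X with the same composite to Y
which agree on Spec K are equal. (In the general criterion the diagonal must be assumed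
quasi-compact; that is automatic here.) -/
theorem result {X Y : Scheme.{u}} [IsLocallyNoetherian Y] (f : X ⟶ Y) [LocallyOfFiniteType f] :
    IsSeparated f ↔ ∀ (A : Type u) [CommRing A] [IsDomain A] [IsDiscreteValuationRing A] (g₁ g₂ : (Spec (CommRingCat.of A)) ⟶ X),
      g₁ ≫ f = g₂ ≫ f → (Spec.map (CommRingCat.ofHom (algebraMap A (FractionRing A)))) ≫ g₁ = (Spec.map (CommRingCat.ofHom (algebraMap A (FractionRing A)))) ≫ g₂ → g₁ = g₂ := by
  constructor
  · intro hsep A _ _ _ g₁ g₂ h12 hgen
    have : IsDominant (Spec.map (CommRingCat.ofHom (algebraMap A (FractionRing A)))) :=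
      Groth.Agent.Lib.Helper21.DVRExt.isDominant_specMap_of_injective _
        (IsFractionRing.injective A (FractionRing A))
    exact ext_of_isDominant_of_isSeparated f h12 _ hgen
  · intro H
    apply Groth.Agent.Lib.Helper21.DVRExt.isSeparated_of_valuationSubring_uniqueness f
    intro η _ O hO l₁ l₂ h12 h1 h2
    refine H O l₁ l₂ h12 ?_
    let e : FractionRing O ≃ₐ[O] X.residueField η := FractionRing.algEquiv O (X.residueField η)
    have hfac : CommRingCat.ofHom (algebraMap O (FractionRing O)) =
        CommRingCat.ofHom O.subtype ≫ CommRingCat.ofHom (e.symm : X.residueField η →+* FractionRing O) := by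
      ext a
      change algebraMap O (FractionRing O) a = e.symm (algebraMap O (X.residueField η) a)
      rw [AlgEquiv.commutes]
    rw [hfac, Spec.map_comp, Category.assoc, Category.assoc, h1, h2]

end Groth.Agent.S2334
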