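import Groth.Statements.S2335
import Groth.Agent.Lib.Helper21.VE2
-- import your own Groth.Agent.* helpers here

set_option autoImplicit false
universe u
open CategoryTheory CategoryTheory.Limits AlgebraicGeometry
open EGA2

namespace Groth.Agent.S2335

/-- Let Y be locally Noetherian and f : X → Y of finite type. Then f is proper if and only if for every
discrete valuation ring A with fraction field K and every commutative square Spec K → X, Spec A → Y,
there is exactly one morphism Spec A → X making both triangles commute. -/
theorem result {X Y : Scheme.{u}} [IsLocallyNoetherian Y] (f : X ⟶ Y) [LocallyOfFiniteType f] [QuasiCompact f] :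
    IsProper f ↔ ∀ (A : Type u) [CommRing A] [IsDomain A] [IsDiscreteValuationRing A] (x : (Spec (CommRingCat.of (FractionRing A))) ⟶ X) (y : (Spec (CommRingCat.of A)) ⟶ Y),
      x ≫ f = (Spec.map (CommRingCat.ofHom (algebraMap A (FractionRing A)))) ≫ y → ∃! l : (Spec (CommRingCat.of A)) ⟶ X, l ≫ f = y ∧ (Spec.map (CommRingCat.ofHom (algebraMap A (FractionRing A)))) ≫ l = x := by
  constructor
  · intro hP A _ _ _ x y h
    obtain ⟨l, hl1, hl2⟩ :=
      Groth.Agent.Lib.Helper21.DVRExt.dvr_existence_of_universallyClosed f A x y h
    refine ⟨l, ⟨hl1, hl2⟩, ?_⟩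
    rintro l' ⟨hl1', hl2'⟩
    have : IsDominant (Spec.map (CommRingCat.ofHom (algebraMap A (FractionRing A)))) :=
      Groth.Agent.Lib.Helper21.DVRExt.isDominant_specMap_of_injective _
        (IsFractionRing.injective A (FractionRing A))
    exact ext_of_isDominant_of_isSeparated f (hl1'.trans hl1.symm) _ (hl2'.trans hl2.symm)
  · intro H
    have hUC : UniversallyClosed f := by
      apply Groth.Agent.Lib.Helper21.DVRExt.universallyClosed_of_dvr_existence f
      intro A _ _ _ x y h
      obtain ⟨l, hl, -⟩ := H A x y h
      exact ⟨l, hl⟩
    have hsep : IsSeparated f := by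
      apply Groth.Agent.Lib.Helper21.DVRExt.isSeparated_of_valuationSubring_uniqueness f
      intro η _ O hO l₁ l₂ h12 h1 h2
      let e : FractionRing O ≃ₐ[O] X.residueField η := FractionRing.algEquiv O (X.residueField η)
      have hfac : CommRingCat.ofHom (algebraMap O (FractionRing O)) =
          CommRingCat.ofHom O.subtype ≫
            CommRingCat.ofHom (e.symm : X.residueField η →+* FractionRing O) := by
        ext a
        change algebraMap O (FractionRing O) a = e.symm (algebraMap O (X.residueField η) a)
        rw [AlgEquiv.commutes]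
      have hgen : Spec.map (CommRingCat.ofHom (algebraMap O (FractionRing O))) ≫ l₁ =
          Spec.map (CommRingCat.ofHom (algebraMap O (FractionRing O))) ≫ l₂ := by
        rw [hfac, Spec.map_comp, Category.assoc, Category.assoc, h1, h2]
      obtain ⟨l, -, hluniq⟩ := H O
        (Spec.map (CommRingCat.ofHom (algebraMap O (FractionRing O))) ≫ l₁) (l₁ ≫ f)
        (by rw [Category.assoc])
      exact (hluniq l₁ ⟨rfl, rfl⟩).trans (hluniq l₂ ⟨h12.symm, hgen.symm⟩).symm
    exact { }

end Groth.Agent.S2335
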