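import Groth.Statements.S2337
-- import your own Groth.Agent.* helpers here
import Groth.Agent.Lib.Helper29.RelAmple

set_option autoImplicit false
universe u
open CategoryTheory CategoryTheory.Limits AlgebraicGeometry
open EGA2

namespace Groth.Agent.S2337

/-- Let f : X → Y be quasi-compact. Then f is quasi-affine (preimages of affine opens are quasi-affine)
if and only if O_X is ample relative to f. -/
theorem result {X Y : Scheme.{u}} (f : X ⟶ Y) [QuasiCompact f] :
    Mor2.IsQuasiAffine f ↔ RelAmple.IsRelAmple f (Coh.structureModule X) := by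
  open Groth.Agent.Lib.Helper29.QCoh in
  unfold Mor2.IsQuasiAffine RelAmple.IsRelAmple
  refine and_congr_right fun _ => ⟨fun h V => ?_, fun h V hV => ?_⟩
  · have := h V.1 V.2
    exact (isAmple_iff_of_iso (restrictUnitIso' (f ⁻¹ᵁ V.1).ι)).mpr
      (isQuasiAffine_iff_isAmple_unit.mp this)
  · exact isQuasiAffine_iff_isAmple_unit.mpr
      ((isAmple_iff_of_iso (restrictUnitIso' (f ⁻¹ᵁ V).ι)).mp (h ⟨V, hV⟩))

end Groth.Agent.S2337
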