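import Groth.Statements.S2342
import Groth.Agent.Lib.Helper21.ValSec
import Mathlib.AlgebraicGeometry.FunctionField
import Mathlib.RingTheory.LocalRing.ResidueField.Ideal
-- import your own Groth.Agent.* helpers here

set_option autoImplicit false
universe u
open CategoryTheory CategoryTheory.Limits AlgebraicGeometry
open EGA2

namespace Groth.Agent.S2342

/-- Let A be a valuation ring with Y = Spec A, X an integral separated scheme and f : X → Y a morphism
which is closed as a map of topological spaces, such that the fibre over the generic point of Y
consists of exactly one point x and the induced map from the residue field of the generic point of Y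
to that of x is bijective. Then f is an isomorphism. -/
theorem result (A : Type u) [CommRing A] [IsDomain A] [ValuationRing A]
    (X : Scheme.{u}) [IsIntegral X] [X.IsSeparated] (f : X ⟶ Spec (CommRingCat.of A)) (hf : IsClosedMap f.base)
    (x : X) (hx : f.base ⁻¹' {genericPoint (Spec (CommRingCat.of A))} = {x})
    (hres : Function.Bijective (f.residueFieldMap x).hom) : IsIso f := by
  classical
  -- `x` is the generic point of `X`
  have hfx : f x = genericPoint (Spec (CommRingCat.of A)) := by
    have : x ∈ f.base ⁻¹' {genericPoint (Spec (CommRingCat.of A))} := by rw [hx]; rfl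
    exact this
  have hxgen : x = genericPoint X := by
    have h1 : f (genericPoint X) ⤳ f x :=
      ((genericPoint_spec X).specializes trivial).map f.continuous
    have h2 : f x ⤳ f (genericPoint X) := by
      rw [hfx]; exact (genericPoint_spec _).specializes trivial
    have h3 : f (genericPoint X) = genericPoint (Spec (CommRingCat.of A)) :=
      (h1.antisymm h2).eq.trans hfx
    have h4 : genericPoint X ∈ f.base ⁻¹' {genericPoint (Spec (CommRingCat.of A))} := h3
    rw [hx] at h4
    exact h4.symm
  have hbot : (f x).asIdeal = ⊥ := by
    rw [hfx, genericPoint_eq_bot_of_affine]; rfl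
  have key : ∀ (I : Ideal A) [I.IsPrime], I = ⊥ → IsFractionRing A I.ResidueField := by
    intro I _ hI; subst hI; infer_instance
  have hfrac : IsFractionRing A (f x).asIdeal.ResidueField := key _ hbot
  have hiso : IsIso (f.residueFieldMap x) :=
    (ConcreteCategory.isIso_iff_bijective _).mpr hres
  -- the `K`-point
  let e : X.residueField x ⟶ CommRingCat.of (f x).asIdeal.ResidueField :=
    inv (f.residueFieldMap x) ≫ (Scheme.Spec.residueFieldIso (CommRingCat.of A) (f x)).hom
  let x' : Spec (CommRingCat.of (f x).asIdeal.ResidueField) ⟶ X :=
    Spec.map e ≫ X.fromSpecResidueField x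
  have h1 : (Scheme.Spec.residueFieldIso (CommRingCat.of A) (f x)).inv ≫
      f.residueFieldMap x ≫ e = 𝟙 _ := by
    simp [e]
  have hx' : x' ≫ f = Spec.map (CommRingCat.ofHom
      (algebraMap A (f x).asIdeal.ResidueField)) := by
    calc x' ≫ f = Spec.map e ≫ (X.fromSpecResidueField x ≫ f) := Category.assoc _ _ _
      _ = Spec.map e ≫ (Spec.map (f.residueFieldMap x) ≫
            (Spec (CommRingCat.of A)).fromSpecResidueField (f x)) :=
          congrArg (fun z => Spec.map e ≫ z)
            (Scheme.Hom.SpecMap_residueFieldMap_fromSpecResidueField f x).symm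
      _ = Spec.map e ≫ (Spec.map (f.residueFieldMap x) ≫
            (Spec.map (Scheme.Spec.residueFieldIso (CommRingCat.of A) (f x)).inv ≫
              Spec.map (CommRingCat.ofHom (algebraMap A (f x).asIdeal.ResidueField)))) :=
          congrArg (fun z => Spec.map e ≫ (Spec.map (f.residueFieldMap x) ≫ z))
            (Scheme.Spec.map_residueFieldIso_inv_eq_fromSpecResidueField
              (CommRingCat.of A) (f x)).symm
      _ = Spec.map ((Scheme.Spec.residueFieldIso (CommRingCat.of A) (f x)).inv ≫
            f.residueFieldMap x ≫ e) ≫
              Spec.map (CommRingCat.ofHom (algebraMap A (f x).asIdeal.ResidueField)) := by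
          simp only [Spec.map_comp, Category.assoc]
      _ = Spec.map (𝟙 _) ≫
              Spec.map (CommRingCat.ofHom (algebraMap A (f x).asIdeal.ResidueField)) :=
          congrArg (fun z => Spec.map z ≫
            Spec.map (CommRingCat.ofHom (algebraMap A (f x).asIdeal.ResidueField))) h1
      _ = _ := by rw [Spec.map_id, Category.id_comp]
  obtain ⟨s, hs1, hs2⟩ := Groth.Agent.Lib.Helper21.DVRExt.exists_section_of_valuationRing A
    (f x).asIdeal.ResidueField X f hf x' hx'
  -- `x'` is dominant
  have hdom : IsDominant x' := by
    constructor
    have h1 : x ∈ Set.range x' := by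
      refine ⟨(⟨⊥, Ideal.isPrime_bot⟩ : PrimeSpectrum (f x).asIdeal.ResidueField), ?_⟩
      change (Spec.map e ≫ X.fromSpecResidueField x) _ = x
      rw [Scheme.Hom.comp_apply, Scheme.fromSpecResidueField_apply]
    have h2 : Dense ({x} : Set X) := by
      rw [hxgen]
      exact dense_iff_closure_eq.mpr (genericPoint_spec X)
    exact h2.mono (Set.singleton_subset_iff.mpr h1)
  have hfs : f ≫ s = 𝟙 X := by
    refine ext_of_isDominant_of_isSeparated (terminal.from X) (terminal.hom_ext _ _) x' ?_
    rw [← Category.assoc, hx', hs2, Category.comp_id]
  exact ⟨s, hfs, hs1⟩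

end Groth.Agent.S2342
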