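import Groth.Statements.S2344
import Groth.Agent.Lib.Helper21.CurveStalk
-- import your own Groth.Agent.* helpers here

set_option autoImplicit false
universe u
open CategoryTheory CategoryTheory.Limits AlgebraicGeometry
open EGA2

namespace Groth.Agent.S2344

/-- Let X be a normal algebraic curve over k (separated, of finite type, nonempty, local rings at closed
points of dimension one, all local rings integrally closed domains), Y proper over k, U a dense open
of X and g : U → Y a k-morphism. Then g extends uniquely to a k-morphism X → Y. -/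
theorem result (k : Type u) [Field k] (X Y : Scheme.{u}) [X.Over (Spec (CommRingCat.of k))] [Y.Over (Spec (CommRingCat.of k))]
    [LocallyOfFiniteType (X ↘ (Spec (CommRingCat.of k)))] [QuasiCompact (X ↘ (Spec (CommRingCat.of k)))] [IsSeparated (X ↘ (Spec (CommRingCat.of k)))] [Nonempty X] (hcurve : (∀ x : X, IsClosed ({x} : Set X) → ringKrullDim (X.presheaf.stalk x) = 1)) (hnorm : Pi1.IsNormalScheme X)
    [IsProper (Y ↘ (Spec (CommRingCat.of k)))] (U : X.Opens) (hU : Dense (U : Set X)) (g : (U : Scheme.{u}) ⟶ Y)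
    (hg : g ≫ (Y ↘ (Spec (CommRingCat.of k))) = U.ι ≫ (X ↘ (Spec (CommRingCat.of k)))) :
    ∃! g' : X ⟶ Y, U.ι ≫ g' = g ∧ g' ≫ (Y ↘ (Spec (CommRingCat.of k))) = X ↘ (Spec (CommRingCat.of k)) := by
  have hXN : IsLocallyNoetherian X :=
    LocallyOfFiniteType.isLocallyNoetherian (X ↘ (Spec (CommRingCat.of k)))
  have hcpt : CompactSpace X :=
    QuasiCompact.compactSpace_of_compactSpace (X ↘ (Spec (CommRingCat.of k)))
  have hred : IsReduced X := by
    have : ∀ x : X, _root_.IsReduced (X.presheaf.stalk x) := fun x => by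
      have := (hnorm x).1
      infer_instance
    exact isReduced_of_isReduced_stalk X
  have hval : ∀ y : X, ∃ _ : IsDomain (X.presheaf.stalk y),
      ValuationRing (X.presheaf.stalk y) := by
    intro y
    obtain ⟨c, hc, hcc⟩ := IsClosed.exists_closed_singleton (isClosed_closure (s := {y}))
      ⟨y, subset_closure rfl⟩
    have hyc : y ⤳ c := specializes_iff_mem_closure.mpr hc
    have hdim : ringKrullDim (X.presheaf.stalk y) ≤ 1 :=
      (Groth.Agent.Lib.Helper21.RatExt.ringKrullDim_stalk_le_of_specializes hyc).trans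
        (hcurve c hcc).le
    have hd := (hnorm y).1
    exact ⟨hd, Groth.Agent.Lib.Helper21.RatExt.valuationRing_of_isIntegrallyClosed_of_dim_le_one
      _ (hnorm y).2 hdim⟩
  have hsec : pullback.lift g U.ι hg ≫ pullback.snd (Y ↘ (Spec (CommRingCat.of k)))
      (X ↘ (Spec (CommRingCat.of k))) = U.ι := pullback.lift_snd _ _ _
  have hcl : IsClosedMap (pullback.snd (Y ↘ (Spec (CommRingCat.of k)))
      (X ↘ (Spec (CommRingCat.of k)))) := Scheme.Hom.isClosedMap _
  obtain ⟨U', hUU', s', hs', hs'U, hall⟩ :=
    Groth.Agent.Lib.Helper21.RatExt.exists_extension_of_forall_local (pullback.snd _ _) U hU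
      (pullback.lift g U.ι hg) hsec (fun _ => True) (fun y _ => by
        obtain ⟨hd, hv⟩ := hval y
        exact Groth.Agent.Lib.Helper21.RatExt.exists_local_extension (pullback.snd _ _) hcl U hU
          (pullback.lift g U.ι hg) hsec y)
  have htop : U' = ⊤ := eq_top_iff.mpr (fun y _ => hall y trivial)
  have hdomU : IsDominant U.ι := ⟨by rw [DenseRange, Scheme.Opens.range_ι]; exact hU⟩
  have h1 : U.ι ≫ X.topIso.inv = X.homOfLE (le_top : U ≤ ⊤) := by
    rw [← cancel_mono X.topIso.hom, Category.assoc, Iso.inv_hom_id, Category.comp_id]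
    exact (Scheme.homOfLE_ι X le_top).symm
  have hid : X.topIso.inv ≫ X.homOfLE (le_of_eq htop.symm) ≫ U'.ι = 𝟙 X := by
    rw [Scheme.homOfLE_ι]
    exact X.topIso.inv_hom_id
  refine ⟨X.topIso.inv ≫ X.homOfLE (le_of_eq htop.symm) ≫ s' ≫ pullback.fst _ _, ⟨?_, ?_⟩, ?_⟩
  · rw [← Category.assoc, h1, ← Category.assoc, Scheme.homOfLE_homOfLE, ← Category.assoc, hs'U,
      pullback.lift_fst]
  · rw [Category.assoc, Category.assoc, Category.assoc, pullback.condition, ← Category.assoc s',
      hs', ← Category.assoc (X.homOfLE _), ← Category.assoc, hid, Category.id_comp]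
  · rintro g₂ ⟨hg₂U, hg₂⟩
    refine ext_of_isDominant_of_isSeparated (Y ↘ (Spec (CommRingCat.of k))) ?_ U.ι ?_
    · rw [hg₂, Category.assoc, Category.assoc, Category.assoc, pullback.condition,
        ← Category.assoc s', hs', ← Category.assoc (X.homOfLE _), ← Category.assoc, hid,
        Category.id_comp]
    · rw [hg₂U, ← Category.assoc, h1, ← Category.assoc, Scheme.homOfLE_homOfLE, ← Category.assoc,
        hs'U, pullback.lift_fst]

end Groth.Agent.S2344
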