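import Groth.Statements.S2347
import Groth.Agent.Lib.Helper21.IntSec
import Groth.Agent.Lib.Helper6.NormIsoA
-- import your own Groth.Agent.* helpers here

set_option autoImplicit false
universe u
open CategoryTheory CategoryTheory.Limits AlgebraicGeometry
open EGA2

namespace Groth.Agent.S2347

/-- Let X be an integral normal scheme, X' an integral scheme and g : X' → X an integral morphism. If g
has a rational section (a morphism s from a dense open U of X to X' with g ∘ s the inclusion of U),
then g is an isomorphism. -/
theorem result {X X' : Scheme.{u}} [IsIntegral X] [IsIntegral X'] (hX : Pi1.IsNormalScheme X)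
    (g : X' ⟶ X) [IsIntegralHom g] (U : X.Opens) (hU : Dense (U : Set X)) (s : (U : Scheme.{u}) ⟶ X') (hs : s ≫ g = U.ι) :
    IsIso g := by
  obtain ⟨s', hs'1, hs'2⟩ :=
    Groth.Agent.Lib.Helper21.IntSec.exists_section_of_isIntegralHom hX g U hU s hs
  have hci : IsClosedImmersion (s' ≫ g) := by rw [hs'1]; infer_instance
  have hs'ci : IsClosedImmersion s' := IsClosedImmersion.of_comp s' g
  -- `s'` maps the generic point to the generic point
  have hgen : s' (genericPoint X) = genericPoint X' := by
    apply Groth.Agent.Lib.Helper6.NormIso.eq_genericPoint_of_isIntegralHom g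
    rw [← Scheme.Hom.comp_apply, hs'1]
    rfl
  have hdom : IsDominant s' := by
    constructor
    have h2 : Dense ({genericPoint X'} : Set X') :=
      dense_iff_closure_eq.mpr (genericPoint_spec X')
    exact h2.mono (Set.singleton_subset_iff.mpr ⟨genericPoint X, hgen⟩)
  have hsurj : Surjective s' :=
    surjective_of_isDominant_of_isClosed_range s' s'.isClosedEmbedding.isClosed_range
  have hiso : IsIso s' := isIso_of_isClosedImmersion_of_surjective s'
  have hiso2 : IsIso (s' ≫ g) := by rw [hs'1]; infer_instance
  exact IsIso.of_isIso_comp_left s' g

end Groth.Agent.S2347
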