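import Groth.Statements.S2348
import Groth.Agent.Lib.Helper25.BlowUpIntegral

set_option autoImplicit false
universe u
open CategoryTheory CategoryTheory.Limits AlgebraicGeometry
open EGA2

namespace Groth.Agent.S2348

/-- For an ideal of O_Y: let Y be an integral scheme, I a nonzero quasi-coherent ideal sheaf and b : X →
Y a blowing up of Y in I (characterised by its universal property). Then X is integral, b sends the
generic point of X to that of Y and induces a bijection on their residue fields (b is birational).
The printed statement also asserts that b is surjective; the proof does not show this and it fails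
when I is not of finite type, so it is left out. -/
theorem result {X Y : Scheme.{u}} [IsIntegral Y] (I : Y.IdealSheafData) (hI : I ≠ ⊥)
    (b : X ⟶ Y) (hb : BlowUp.IsBlowUp b I) :
    ∃ (_ : IsIntegral X), ∃ hgen : b.base (genericPoint X) = genericPoint Y,
      Function.Bijective (b.residueFieldMap (genericPoint X)).hom := by
  have hint : IsIntegral X := Groth.Agent.Lib.Helper25.BlowUpUP.isIntegral_of_isBlowUp I hI b hb
  obtain ⟨h1, h2⟩ := Groth.Agent.Lib.Helper25.BlowUpUP.genericPoint_of_isBlowUp I hI b hb
  exact ⟨hint, h1,
    Groth.Agent.Lib.Helper25.BlowUpUP.bijective_residueFieldMap_of_notMem_support I b hb _ h2⟩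

end Groth.Agent.S2348
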