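import Groth.Statements.S2349
-- import your own Groth.Agent.* helpers here

set_option autoImplicit false
universe u
open CategoryTheory CategoryTheory.Limits AlgebraicGeometry
open EGA2

namespace Groth.Agent.S2349

/-- Let f : X → Y be separated and of finite type, and let j_i : X_i → X and h_i : Y_i → Y (i in a
finite index type) be closed immersions with morphisms f_i : X_i → Y_i satisfying j_i ≫ f = f_i ≫
h_i, such that the images of the j_i cover X. Then f is proper if and only if every f_i is proper. -/
theorem result {X Y : Scheme.{u}} (f : X ⟶ Y) [IsSeparated f] [LocallyOfFiniteType f] [QuasiCompact f]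
    (ι : Type u) [Finite ι] (Xi Yi : ι → Scheme.{u}) (j : ∀ i, Xi i ⟶ X) (h : ∀ i, Yi i ⟶ Y) (fi : ∀ i, Xi i ⟶ Yi i)
    [∀ i, IsClosedImmersion (j i)] [∀ i, IsClosedImmersion (h i)] (hcomm : ∀ i, j i ≫ f = fi i ≫ h i)
    (hcov : ∀ x : X, ∃ i, x ∈ Set.range (j i).base) : IsProper f ↔ ∀ i, IsProper (fi i) := by
  constructor
  · intro hprop i
    have h1 : IsProper (fi i ≫ h i) := by
      rw [← hcomm i]; infer_instance
    exact IsProper.of_comp (fi i) (h i)
  · intro hprop
    have hcomp : ∀ i, UniversallyClosed (j i ≫ f) := by
      intro i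
      rw [hcomm i]
      have := hprop i
      infer_instance
    have hUC : UniversallyClosed f := by
      constructor
      intro X' Y' i₁ i₂ f' hpb
      -- base change of the closed pieces
      have hcl : ∀ i, IsClosedMap (pullback.fst i₁ (j i) ≫ f') := by
        intro i
        have hpb' : IsPullback (pullback.fst i₁ (j i) ≫ f') (pullback.snd i₁ (j i)) i₂
            (j i ≫ f) :=
          ((IsPullback.of_hasPullback i₁ (j i)).flip.paste_vert hpb.flip).flip
        exact (hcomp i).universally_isClosedMap _ _ _ hpb'
      change IsClosedMap f'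
      intro Z hZ
      have hU : f' '' Z = ⋃ i, (pullback.fst i₁ (j i) ≫ f') ''
          ((pullback.fst i₁ (j i)) ⁻¹' Z) := by
        ext y
        constructor
        · rintro ⟨x', hx'Z, rfl⟩
          obtain ⟨i, xi, hxi⟩ := hcov (i₁ x')
          obtain ⟨w, hw1, hw2⟩ :=
            Scheme.Pullback.exists_preimage_pullback (f := i₁) (g := j i) x' xi hxi.symm
          refine Set.mem_iUnion.mpr ⟨i, w, ?_, ?_⟩
          · rw [Set.mem_preimage, hw1]; exact hx'Z
          · rw [Scheme.Hom.comp_apply, hw1]
        · intro hy
          obtain ⟨i, w, hw, rfl⟩ := Set.mem_iUnion.mp hy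
          exact ⟨pullback.fst i₁ (j i) w, hw, (Scheme.Hom.comp_apply _ _ _).symm⟩
      rw [hU]
      exact isClosed_iUnion_of_finite
        (fun i => hcl i _ (hZ.preimage (pullback.fst i₁ (j i)).continuous))
    exact { }

end Groth.Agent.S2349
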