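import Groth.Statements.S4509
import Mathlib
import Groth.Agent.Lib.Helper9.FlatCxFinite
import Groth.Agent.Lib.Helper9.FlatCxUpTo

set_option autoImplicit false
universe u
open FlatCx

namespace Groth.Agent.S4509

section helpers

open CategoryTheory CategoryTheory.Limits MonoidalCategory CohIII TensorProduct
open Groth.Agent.Lib.Helper28.FlatCx Groth.Agent.Lib.Helper9.FlatCxBC
  Groth.Agent.Lib.Helper9.FlatCxUpTo Groth.Agent.Lib.Helper9.FlatCxFinite
  Groth.Agent.Lib.Helper9.FlatCxArtin

variable {A : Type u} [CommRing A] [IsDomain A] [IsDiscreteValuationRing A]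

/-- Nakayama: over a local ring, `dim_K (K ⊗ H) ≤ dim_k (k ⊗ H)` for a finite module `H`. -/
lemma finrank_fraction_le (H : Type u) [AddCommGroup H] [Module A H] [Module.Finite A H] :
    Module.finrank (FractionRing A) (FractionRing A ⊗[A] H) ≤
      Module.finrank (IsLocalRing.ResidueField A) (IsLocalRing.ResidueField A ⊗[A] H) := by
  classical
  let b := Module.finBasis (IsLocalRing.ResidueField A) (IsLocalRing.ResidueField A ⊗[A] H)
  have hsurj := TensorProduct.mk_surjective A H (IsLocalRing.ResidueField A)
    Ideal.Quotient.mk_surjective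
  choose m hm using fun i => hsurj (b i)
  have hspan := IsLocalRing.span_eq_top_of_tmul_eq_basis m b hm
  have hs : Function.Surjective (Fintype.linearCombination A m) := by
    rw [← LinearMap.range_eq_top, Fintype.range_linearCombination, hspan]
  have hs' : Function.Surjective ((Fintype.linearCombination A m).baseChange (FractionRing A)) :=
    LinearMap.lTensor_surjective (FractionRing A) hs
  have h1 := LinearMap.finrank_le_finrank_of_surjective hs'
  have h2 : Module.finrank (FractionRing A) (FractionRing A ⊗[A]
      (Fin (Module.finrank (IsLocalRing.ResidueField A) (IsLocalRing.ResidueField A ⊗[A] H)) → A)) =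
      Module.finrank (IsLocalRing.ResidueField A) (IsLocalRing.ResidueField A ⊗[A] H) := by
    rw [Module.finrank_baseChange, Module.finrank_pi, Fintype.card_fin]
  omega

/-- `T_p(k)` is a finite `A`-module when all `H_i(P)` are finite (DVR). -/
lemma finite_T_residueField (P : ChainComplex (ModuleCat.{u} A) ℤ)
    (hP : ∀ i, Module.Flat A (P.X i)) (hfin : ∀ i, Module.Finite A (P.homology i)) (p : ℤ) :
    Module.Finite A (T P p (ModuleCat.of A (IsLocalRing.ResidueField A))) := by
  have hTA : ∀ n : ℤ, IsNoetherian A (T P n (ModuleCat.of A A)) := fun n =>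
    have := hfin n
    have : Module.Finite A (T P n (ModuleCat.of A A)) :=
      Module.Finite.equiv (homologyEquivT P n).symm
    inferInstance
  -- `𝔪 ≅ A`
  obtain ⟨ϖ, hϖ⟩ := IsDiscreteValuationRing.exists_irreducible A
  have hm : IsLocalRing.maximalIdeal A = Ideal.span {ϖ} := hϖ.maximalIdeal_eq
  have hϖ0 : ϖ ≠ 0 := hϖ.ne_zero
  have e0 : A ≃ₗ[A] (Ideal.span {ϖ} : Ideal A) := LinearEquiv.toSpanNonzeroSingleton A A ϖ hϖ0
  have e1 : A ≃ₗ[A] IsLocalRing.maximalIdeal A := hm ▸ e0
  have hTm : IsNoetherian A (T P (p - 1) (ModuleCat.of A (IsLocalRing.maximalIdeal A))) := by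
    have e2 := ((TFun P (p - 1)).mapIso e1.toModuleIso).toLinearEquiv
    have : IsNoetherian A ((TFun P (p - 1)).obj (ModuleCat.of A A)) := hTA (p - 1)
    exact isNoetherian_of_linearEquiv e2
  have h3 := isNoetherian_T_X₃ P hP p (p - 1) (by ring) (residueSC (A := A)) residueSC_shortExact
    (hTA p) hTm
  have h3' : IsNoetherian A (T P p (ModuleCat.of A (IsLocalRing.ResidueField A))) := h3
  infer_instance

end helpers

open CategoryTheory CategoryTheory.Limits in
/-- The chain of inequalities for the homological functor T_p(M) = H_p(P ⊗_A M) of a chain complex P of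
flat modules over a discrete valuation ring A with fraction field K and residue field k, the modules
T_i(A) = H_i(P) being finitely generated: dim_k T_p(k) ≥ dim_k (T_p(A) ⊗_A k) ≥ rank_A T_p(A) =
dim_K T_p(K). Stated as the two inequalities dim_K H_p(P ⊗_A K) ≤ dim_k (k ⊗_A H_p(P)) ≤ dim_k H_p(P
⊗_A k). -/
theorem result {A : Type u} [CommRing A] [IsDomain A] [IsDiscreteValuationRing A]
    (P : ChainComplex (ModuleCat.{u} A) ℤ) (hP : ∀ i, Module.Flat A (P.X i))
    (hfin : ∀ i, Module.Finite A (P.homology i)) (p : ℤ) :
    Module.finrank (FractionRing A) ((CohIII.bcCx (algebraMap A (FractionRing A)) P).homology p) ≤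
        Module.finrank (IsLocalRing.ResidueField A)
          (TensorProduct A (IsLocalRing.ResidueField A) (P.homology p)) ∧
      Module.finrank (IsLocalRing.ResidueField A)
          (TensorProduct A (IsLocalRing.ResidueField A) (P.homology p)) ≤
        Module.finrank (IsLocalRing.ResidueField A)
          ((CohIII.bcCx (algebraMap A (IsLocalRing.ResidueField A)) P).homology p) := by
  have hH := hfin p
  have hrel : (ComplexShape.down ℤ).Rel p (p - 1) := by
    change p - 1 + 1 = p
    ring
  have hq : (ComplexShape.down ℤ).next p = p - 1 := (ComplexShape.down ℤ).next_eq' hrel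
  constructor
  · have hflat : (algebraMap A (FractionRing A)).Flat := by
      rw [RingHom.flat_algebraMap_iff]
      infer_instance
    have e1 := (Groth.Agent.Lib.Helper28.FlatCx.homologyBcIso (algebraMap A (FractionRing A))
      hflat P p).toLinearEquiv ≪≫ₗ
      Groth.Agent.Lib.Helper28.FlatCx.extendScalarsEquiv (FractionRing A) (P.homology p)
    rw [e1.finrank_eq]
    exact finrank_fraction_le (P.homology p)
  · have e2 := Groth.Agent.Lib.Helper9.FlatCxBC.homologyBcKerEquiv (IsLocalRing.ResidueField A)
      P p (p - 1) hq
    have hfinT := finite_T_residueField P hP hfin p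
    have hfinH : Module.Finite (IsLocalRing.ResidueField A)
        ((CohIII.bcCx (algebraMap A (IsLocalRing.ResidueField A)) P).homology p) :=
      Groth.Agent.Lib.Helper9.FlatCxBC.finite_homology_bcCx_of_finite_T
        (IsLocalRing.ResidueField A) P p hfinT
    -- the image `Z` of `W_p → P_{p-1}` is flat
    have hι := Groth.Agent.Lib.Helper28.FlatCx.homologyι_injective P p
    have hex := Groth.Agent.Lib.Helper28.FlatCx.exact_homologyι_fromOpcycles P p (p - 1) hq
    have hZflat : Module.Flat A (LinearMap.range (P.fromOpcycles p (p - 1)).hom) := by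
      rw [IsDedekindDomain.flat_iff_torsion_eq_bot, eq_bot_iff]
      intro x hx
      obtain ⟨a, ha⟩ := (Submodule.mem_torsion_iff x).mp hx
      rw [Submonoid.smul_def] at ha
      have hXq : Submodule.torsion A (P.X (p - 1)) = ⊥ :=
        IsDedekindDomain.flat_iff_torsion_eq_bot.mp (hP (p - 1))
      have h1 : (x : P.X (p - 1)) ∈ Submodule.torsion A (P.X (p - 1)) := by
        rw [Submodule.mem_torsion_iff]
        refine ⟨a, ?_⟩
        rw [Submonoid.smul_def]
        exact congrArg Subtype.val ha
      rw [hXq] at h1
      exact (Submodule.mem_bot A).mpr (Subtype.ext ((Submodule.mem_bot A).mp h1))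
    have hex' : Function.Exact (P.homologyι p).hom (P.fromOpcycles p (p - 1)).hom.rangeRestrict := by
      intro w
      rw [← hex w]
      constructor
      · intro h; exact congrArg Subtype.val h
      · intro h; exact Subtype.ext h
    have hinj : Function.Injective
        ((P.homologyι p).hom.baseChange (IsLocalRing.ResidueField A)) :=
      LinearMap.lTensor_injective_of_exact_of_flat
        (P.fromOpcycles p (p - 1)).hom.rangeRestrict
        (P.fromOpcycles p (p - 1)).hom.surjective_rangeRestrict (P.homologyι p).hom hι hex'
        (IsLocalRing.ResidueField A)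
    have hcomp : (P.fromOpcycles p (p - 1)).hom ∘ₗ (P.homologyι p).hom = 0 := by
      ext x
      exact (hex ((P.homologyι p).hom x)).mpr ⟨x, rfl⟩
    let j : TensorProduct A (IsLocalRing.ResidueField A) (P.homology p)
        →ₗ[IsLocalRing.ResidueField A]
        LinearMap.ker ((P.fromOpcycles p (p - 1)).hom.baseChange (IsLocalRing.ResidueField A)) :=
      LinearMap.codRestrict _ ((P.homologyι p).hom.baseChange (IsLocalRing.ResidueField A)) (by
        intro x
        rw [LinearMap.mem_ker, ← LinearMap.comp_apply, ← LinearMap.baseChange_comp, hcomp,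
          LinearMap.baseChange_zero, LinearMap.zero_apply])
    have hj : Function.Injective j := by
      intro a b hab
      exact hinj (congrArg Subtype.val hab)
    have hj' : Function.Injective (e2.symm.toLinearMap ∘ₗ j) :=
      e2.symm.injective.comp hj
    exact LinearMap.finrank_le_finrank_of_injective hj'

end Groth.Agent.S4509
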