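import Groth.Statements.S2464
import Mathlib
import Groth.Agent.Lib.Helper23.PBasisDer
-- import your own Groth.Agent.* helpers here

set_option autoImplicit false
universe u
open EGA41

namespace Groth.Agent.S2464

open Groth.Agent.Lib.Helper23.PBasis Groth.Agent.Lib.Helper23.PBasisDer


/-- Let p be a prime, B a ring of characteristic p and A → B an injective ring map whose image contains
every p-th power, and (x_α) a p-basis of B over A. Let E be an A-algebra and q : E → B a surjective
A-algebra homomorphism whose kernel K has K^p = 0. (i) q admits an A-algebra right inverse if and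
only if, for all z ∈ E and a ∈ A with a ↦ q(z)^p in B, the image of a in E is z^p. (ii) When this
holds, for every family (z_α) in E with q(z_α) = x_α there is a unique A-algebra homomorphism v : B
→ E with v(x_α) = z_α for all α, and q ∘ v is the identity. -/
theorem result (p : ℕ) [Fact p.Prime] {A B : Type u} [CommRing A] [CommRing B] [Algebra A B] [CharP B p]
    (hinj : Function.Injective (algebraMap A B)) (hpow : ∀ b : B, b ^ p ∈ Set.range (algebraMap A B))
    {ι : Type u} (x : ι → B) (hx : EGA41.IsPBasis p A x)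
    {E : Type u} [CommRing E] [Algebra A E] (q : E →ₐ[A] B) (hq : Function.Surjective q) (hK : RingHom.ker q.toRingHom ^ p = ⊥) :
    ((∃ v : B →ₐ[A] E, q.comp v = AlgHom.id A B) ↔ ∀ (z : E) (a : A), algebraMap A B a = q z ^ p → algebraMap A E a = z ^ p) ∧
    ((∀ (z : E) (a : A), algebraMap A B a = q z ^ p → algebraMap A E a = z ^ p) →
      ∀ z : ι → E, (∀ i, q (z i) = x i) →
        (∃! v : B →ₐ[A] E, ∀ i, v (x i) = z i) ∧ ∀ v : B →ₐ[A] E, (∀ i, v (x i) = z i) → q.comp v = AlgHom.id A B) := by
  have hp : p.Prime := Fact.out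
  -- characteristic p
  haveI : CharP A p := RingHom.charP (algebraMap A B) hinj p
  haveI : Nontrivial B := CharP.nontrivial_of_char_ne_one (R := B) hp.ne_one
  haveI : Nontrivial E := q.toRingHom.domain_nontrivial
  haveI : CharP E p := by
    rw [CharP.charP_iff_prime_eq_zero hp]
    have : ((p : ℕ) : E) = algebraMap A E ((p : ℕ) : A) := by rw [map_natCast]
    rw [this, CharP.cast_eq_zero, map_zero]
  -- uniqueness part
  have huniq : ∀ v v' : B →ₐ[A] E, (∀ i, v (x i) = v' (x i)) → v = v' := by
    intro v v' h
    have : (v : B →+* E) = (v' : B →+* E) :=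
      ringHom_ext_of_pGenerating_of_pow p hpow x hx.2 _ _
        (fun a => by simp) h
    exact AlgHom.coe_ringHom_injective this
  have hsec : ∀ v : B →ₐ[A] E, (∀ i, q (v (x i)) = x i) → q.comp v = AlgHom.id A B := by
    intro v h
    have : ((q.comp v : B →ₐ[A] B) : B →+* B) = ((AlgHom.id A B : B →ₐ[A] B) : B →+* B) :=
      ringHom_ext_of_pGenerating_of_pow p hpow x hx.2 _ _
        (fun a => by simp) (fun i => by simpa using h i)
    exact AlgHom.coe_ringHom_injective this
  have part2 : (∀ (z : E) (a : A), algebraMap A B a = q z ^ p → algebraMap A E a = z ^ p) →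
      ∀ z : ι → E, (∀ i, q (z i) = x i) →
        (∃! v : B →ₐ[A] E, ∀ i, v (x i) = z i) ∧
          ∀ v : B →ₐ[A] E, (∀ i, v (x i) = z i) → q.comp v = AlgHom.id A B := by
    intro hC z hz
    have hqm : ∀ e : ι →₀ ℕ, q (pMonomial z e) = pMonomial x e := by
      intro e
      have := map_pMonomial (q : E →+* B) z e
      simp only [AlgHom.coe_toRingHom, hz] at this
      exact this
    obtain ⟨w, hw1, hw2⟩ := exists_ringHom_of_pBasis_of_inj p hinj hpow x hx (algebraMap A E) z
      (by
        intro e a ha
        apply hC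
        rw [ha, hqm])
    let v : B →ₐ[A] E := { w with commutes' := hw1 }
    refine ⟨⟨v, hw2, ?_⟩, ?_⟩
    · intro v' hv'
      exact huniq v' v (fun i => by rw [hv' i]; exact (hw2 i).symm)
    · intro v' hv'
      apply hsec
      intro i
      rw [hv' i, hz i]
  refine ⟨⟨?_, ?_⟩, part2⟩
  · rintro ⟨v, hv⟩ z a ha
    have hmem : z - v (q z) ∈ RingHom.ker q.toRingHom := by
      rw [RingHom.mem_ker]
      have : q (v (q z)) = q z := congrArg (fun f : B →ₐ[A] B => f (q z)) hv
      simp [this]
    have hpow0 : (z - v (q z)) ^ p = 0 := by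
      have : (z - v (q z)) ^ p ∈ RingHom.ker q.toRingHom ^ p := Ideal.pow_mem_pow hmem p
      rw [hK] at this
      exact this
    rw [sub_pow_char, sub_eq_zero] at hpow0
    rw [hpow0, ← map_pow, ← ha, AlgHom.commutes]
  · intro hC
    choose z hz using fun i => hq (x i)
    obtain ⟨⟨v, hv, _⟩, hsec'⟩ := part2 hC z hz
    exact ⟨v, hsec' v hv⟩

end Groth.Agent.S2464
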