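import Groth.Statements.S2465
import Mathlib
import Groth.Agent.Lib.Helper23.PBasisDer
-- import your own Groth.Agent.* helpers here

set_option autoImplicit false
universe u
open EGA41

namespace Groth.Agent.S2465

open Groth.Agent.Lib.Helper23.PBasis Groth.Agent.Lib.Helper23.PBasisDer


/-- Let p be a prime, B a ring of characteristic p, A → B injective with image containing all p-th
powers, (x_α) a p-basis of B over A, and L a B-module. (i) An additive derivation D : A → L extends
to a derivation of B if and only if D vanishes on the elements of A mapping to p-th powers. (ii) In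
that case, for every family (y_α) in L there is a unique derivation D' of B into L extending D with
D'(x_α) = y_α for all α. -/
theorem result (p : ℕ) [Fact p.Prime] {A B : Type u} [CommRing A] [CommRing B] [Algebra A B] [CharP B p]
    (hinj : Function.Injective (algebraMap A B)) (hpow : ∀ b : B, b ^ p ∈ Set.range (algebraMap A B))
    {ι : Type u} (x : ι → B) (hx : EGA41.IsPBasis p A x)
    (L : Type u) [AddCommGroup L] [Module B L] [Module A L] [IsScalarTower A B L] (D : Derivation ℤ A L) :
    ((∃ D' : Derivation ℤ B L, ∀ a : A, D' (algebraMap A B a) = D a) ↔ ∀ (a : A) (b : B), algebraMap A B a = b ^ p → D a = 0) ∧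
    ((∀ (a : A) (b : B), algebraMap A B a = b ^ p → D a = 0) →
      ∀ y : ι → L, ∃! D' : Derivation ℤ B L, (∀ a : A, D' (algebraMap A B a) = D a) ∧ ∀ i, D' (x i) = y i) := by
  have part2 : (∀ (a : A) (b : B), algebraMap A B a = b ^ p → D a = 0) →
      ∀ y : ι → L, ∃! D' : Derivation ℤ B L,
        (∀ a : A, D' (algebraMap A B a) = D a) ∧ ∀ i, D' (x i) = y i := by
    intro hC y
    have hbij : Function.Bijective (algebraMap A (pPowerSubalgebra p A B)) := by
      constructor
      · intro a a' h
        exact hinj (congrArg Subtype.val h)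
      · intro s
        obtain ⟨a, ha⟩ := (mem_pPower_iff p hpow s.1).mp s.2
        exact ⟨a, Subtype.ext ha⟩
    let e : A ≃+* pPowerSubalgebra p A B := RingEquiv.ofBijective _ hbij
    have he : ∀ s : pPowerSubalgebra p A B, algebraMap A B (e.symm s) = s.1 := by
      intro s
      have : e (e.symm s) = s := e.apply_symm_apply s
      exact congrArg Subtype.val this
    have he' : ∀ a : A, e.symm ⟨algebraMap A B a, Subalgebra.algebraMap_mem _ a⟩ = a := by
      intro a
      rw [RingEquiv.symm_apply_eq]
      rfl
    let D₀ : pPowerSubalgebra p A B →+ L := (D : A →+ L).comp e.symm.toAddMonoidHom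
    have hD₀ : ∀ s, D₀ s = D (e.symm s) := fun s => rfl
    obtain ⟨D', hD'1, hD'2⟩ := exists_derivation_of_pBasis p x hx D₀
      (by
        intro s t
        rw [hD₀, hD₀, hD₀, map_mul, Derivation.leibniz, ← he s, ← he t, algebraMap_smul,
          algebraMap_smul])
      (by
        intro q
        rw [hD₀]
        exact hC _ (pMonomial x q) (he _))
      y
    have hext : ∀ a : A, D' (algebraMap A B a) = D a := by
      intro a
      have := hD'1 ⟨algebraMap A B a, Subalgebra.algebraMap_mem _ a⟩
      rw [hD₀, he'] at this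
      exact this
    refine ⟨D', ⟨hext, hD'2⟩, ?_⟩
    rintro D'' ⟨h1, h2⟩
    apply derivation_ext_of_pGenerating p x hx.2
    · intro s
      obtain ⟨a, ha⟩ := (mem_pPower_iff p hpow s.1).mp s.2
      rw [← ha, h1, hext]
    · intro i
      rw [h2, hD'2]
  refine ⟨⟨?_, ?_⟩, part2⟩
  · rintro ⟨D', hD'⟩ a b hab
    rw [← hD', hab, Derivation.leibniz_pow]
    have : (p : ℕ) • (b ^ (p - 1) • D' b) = ((p : ℕ) : B) • (b ^ (p - 1) • D' b) := by
      rw [Nat.cast_smul_eq_nsmul]
    rw [this, CharP.cast_eq_zero, zero_smul]
  · intro hC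
    obtain ⟨D', ⟨h1, _⟩, _⟩ := part2 hC (fun _ => 0)
    exact ⟨D', h1⟩

end Groth.Agent.S2465
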