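import Groth.Statements.S2485
-- import your own Groth.Agent.* helpers here
import Groth.Agent.Lib.Helper29.PBasis

set_option autoImplicit false
universe u
open EGA41

namespace Groth.Agent.S2485

theorem adjoin_pow_eq_top (p : ℕ) [Fact p.Prime] {A B : Type u} [CommRing A] [CommRing B] [Algebra A B]
    [CharP B p] (h1 : Algebra.adjoin A (Set.range fun b : B => b ^ p) = ⊤) (j : ℕ) :
    Algebra.adjoin A (Set.range fun b : B => b ^ p ^ j) = ⊤ := by
  induction j with
  | zero =>
    rw [eq_top_iff]
    rintro b -
    exact Algebra.subset_adjoin ⟨b, by simp⟩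
  | succ j ih =>
    rw [eq_top_iff, ← ih]
    apply Algebra.adjoin_le
    rintro _ ⟨b, rfl⟩
    have hb : b ∈ Algebra.adjoin A (Set.range fun b : B => b ^ p) := by rw [h1]; trivial
    show b ^ p ^ j ∈ Algebra.adjoin A (Set.range fun b : B => b ^ p ^ (j + 1))
    induction hb using Algebra.adjoin_induction with
    | mem b hb =>
      obtain ⟨c, rfl⟩ := hb
      rw [← pow_mul, ← pow_succ']
      exact Algebra.subset_adjoin ⟨c, rfl⟩
    | algebraMap a =>
      rw [← map_pow]
      exact Subalgebra.algebraMap_mem _ _
    | add b c _ _ hb hc =>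
      rw [add_pow_char_pow]
      exact Subalgebra.add_mem _ hb hc
    | mul b c _ _ hb hc =>
      rw [mul_pow]
      exact Subalgebra.mul_mem _ hb hc

/-- Let p be a prime and A → B a ring homomorphism making B an A-algebra of finite type, with B of
characteristic p, such that for some s ≥ 0 every p^s-th power of an element of B lies in the image
of A. If Ω_{B/A} = 0 then A → B is surjective. -/
theorem result (p : ℕ) [Fact p.Prime] {A B : Type u} [CommRing A] [CommRing B] [Algebra A B] [CharP B p]
    [Algebra.FiniteType A B] (s : ℕ) (hpow : ∀ b : B, b ^ p ^ s ∈ Set.range (algebraMap A B)) [Subsingleton (Ω[B⁄A])] :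
    Function.Surjective (algebraMap A B) := by
  open Groth.Agent.Lib.Helper29.PBasis in
  have hft : Algebra.FiniteType (EGA41.pPowerSubalgebra p A B) B :=
    Algebra.FiniteType.of_restrictScalars_finiteType A (EGA41.pPowerSubalgebra p A B) B
  have hD : Submodule.span B (Set.range fun i : PEmpty.{u + 1} =>
      KaehlerDifferential.D A B (PEmpty.elim i : B)) = ⊤ := by
    rw [eq_top_iff]
    intro ω _
    rw [Subsingleton.elim ω 0]
    exact Submodule.zero_mem _
  have h1 := adjoin_eq_top_of_span_D p (fun i : PEmpty.{u + 1} => (PEmpty.elim i : B)) hft hD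
  have hrange : Set.range (fun i : PEmpty.{u + 1} => (PEmpty.elim i : B)) = ∅ := by
    ext b
    simp
  rw [hrange, Algebra.adjoin_empty] at h1
  have h2 : Algebra.adjoin A (Set.range fun b : B => b ^ p) = ⊤ := by
    rw [eq_top_iff]
    rintro b -
    have hb : b ∈ (⊥ : Subalgebra (EGA41.pPowerSubalgebra p A B) B) := by rw [h1]; trivial
    obtain ⟨a', rfl⟩ := Algebra.mem_bot.mp hb
    exact a'.2
  have h3 := adjoin_pow_eq_top p h2 s
  intro b
  have hb : b ∈ Algebra.adjoin A (Set.range fun b : B => b ^ p ^ s) := by rw [h3]; trivial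
  have hle : Algebra.adjoin A (Set.range fun b : B => b ^ p ^ s) ≤ ⊥ := by
    apply Algebra.adjoin_le
    rintro _ ⟨c, rfl⟩
    exact Algebra.mem_bot.mpr (hpow c)
  exact Algebra.mem_bot.mp (hle hb)

end Groth.Agent.S2485
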