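import Groth.Statements.S2554
import Groth.Agent.Lib.Helper21.GPI7
-- import your own Groth.Agent.* helpers here

set_option autoImplicit false
open CategoryTheory AlgebraicGeometry
universe u
open EGA43

namespace Groth.Agent.S2554

/-- Let f : X ⟶ Y be proper, flat and locally of finite presentation. The set of points y of Y whose
fibre is geometrically pointwise integral (all local rings of all base field extensions of the fibre
are domains) is open in Y. -/
theorem result {X Y : Scheme.{u}} (f : X ⟶ Y) [IsProper f]
    [Flat f] [LocallyOfFinitePresentation f] :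
    IsOpen {y : Y | ∀ x : ↥(f.fiber y), FBase.IsGeomPtIntegralAt (f.fiberToSpecResidueField y) x} := by
  have hE := Groth.Agent.Lib.Helper21.GPI.isOpen_gPIAt f
  have hcl : IsClosed (f '' {x : X | Groth.Agent.Lib.Helper21.GPI.GPIAt f x}ᶜ) :=
    f.isClosedMap _ hE.isClosed_compl
  have heq : {y : Y | ∀ x : ↥(f.fiber y), FBase.IsGeomPtIntegralAt (f.fiberToSpecResidueField y) x} =
      (f '' {x : X | Groth.Agent.Lib.Helper21.GPI.GPIAt f x}ᶜ)ᶜ := by
    ext y
    simp only [Set.mem_ofPred_eq, Set.mem_compl_iff, Set.mem_image, not_exists, not_and]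
    constructor
    · intro h x hx hxy
      subst hxy
      exact hx (h _)
    · intro h z
      refine (Groth.Agent.Lib.Helper21.GPI.gPIAt_iff_of_fiberι f y z).mp ?_
      by_contra hz
      exact h _ hz (f.fiberHomeo y z).2
  rw [heq]
  exact hcl.isOpen_compl

end Groth.Agent.S2554
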