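import Groth.Statements.S2557
import Groth.Agent.Lib.Helper21.FinBC7
import Groth.Agent.Lib.Helper6.QFac9
import Groth.Agent.Lib.Helper21.FibDim10
-- import your own Groth.Agent.* helpers here

set_option autoImplicit false
open CategoryTheory AlgebraicGeometry
universe u
open EGA43

namespace Groth.Agent.S2557

open CategoryTheory.Limits in
/-- Let Y be a Noetherian scheme and f : X ⟶ Y locally of finite type. Then f is universally open if and
only if, for every finite morphism Y₁ ⟶ Y, the base change X ×_Y Y₁ ⟶ Y₁ is an open map. -/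
theorem result {X Y : Scheme.{u}} [IsNoetherian Y] (f : X ⟶ Y)
    [LocallyOfFiniteType f] :
    UniversallyOpen f ↔
      ∀ (Y₁ : Scheme.{u}) (g : Y₁ ⟶ Y) [IsFinite g], IsOpenMap (pullback.snd f g).base := by
  constructor
  · intro hf Y₁ g _
    have : UniversallyOpen (CategoryTheory.Limits.pullback.snd f g) := inferInstance
    exact (CategoryTheory.Limits.pullback.snd f g).isOpenMap
  · intro H
    refine Groth.Agent.Lib.Helper6.QFac.universallyOpen_of_forall_isUnivOpenAt f (fun x => ?_)
    obtain ⟨ζ, hζx, hfζ, hmax, -⟩ := Groth.Agent.Lib.Helper21.FibDim.exists_maximal_in_fibre f x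
    refine Groth.Agent.Lib.Helper6.QFac.isUnivOpenAt_of_maximal f x ζ hζx hfζ ?_
    refine Groth.Agent.Lib.Helper21.FinBC.isUnivOpenAt_of_finite_baseChange f ζ
      (fun x' h1 h2 => hmax x' (specializes_iff_mem_closure.mpr h2) h1) ?_
    intro Y' g _ x' _
    exact Groth.Agent.Lib.Helper14.UOA.isOpenAt_of_isOpenMap _ (H Y' g) x'

end Groth.Agent.S2557
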