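import Groth.Statements.S2563
import Mathlib.LinearAlgebra.TensorProduct.Quotient
import Mathlib.LinearAlgebra.TensorProduct.Basis
import Mathlib.LinearAlgebra.DirectSum.Finsupp
import Mathlib.Algebra.Module.Projective
import Mathlib.LinearAlgebra.TensorProduct.RightExactness
import Mathlib.RingTheory.Ideal.Operations
import Mathlib.RingTheory.Ideal.Quotient.Operations
import Mathlib.RingTheory.TensorProduct.Basic
import Mathlib.LinearAlgebra.FreeModule.Basic

set_option autoImplicit false
open TensorProduct
universe u
open EGA43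

namespace Groth.Agent.S2563

theorem one_tmul_eq_zero_iff {A : Type*} [CommRing A] {M : Type*} [AddCommGroup M] [Module A M]
    (J : Ideal A) (x : M) : ((1 : A ⧸ J) ⊗ₜ[A] x = 0) ↔ x ∈ J • (⊤ : Submodule A M) := by
  rw [← (quotTensorEquivQuotSMul M J).map_eq_zero_iff, quotTensorEquivQuotSMul_mk_one_tmul,
    Submodule.Quotient.mk_eq_zero]

theorem eq_top_of_sup_smul_eq_top {A : Type*} [CommRing A] {M : Type*} [AddCommGroup M] [Module A M]
    (J : Ideal A) (hJ : IsNilpotent J) (N : Submodule A M) (h : N ⊔ J • (⊤ : Submodule A M) = ⊤) :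
    N = ⊤ := by
  obtain ⟨n, hn⟩ := hJ
  have key : ∀ k : ℕ, N ⊔ (J ^ k) • (⊤ : Submodule A M) = ⊤ := by
    intro k
    induction k with
    | zero => simp
    | succ k ih =>
      rw [eq_top_iff]
      calc (⊤ : Submodule A M) = N ⊔ J • (⊤ : Submodule A M) := h.symm
        _ = N ⊔ J • (N ⊔ (J ^ k) • (⊤ : Submodule A M)) := by rw [ih]
        _ = N ⊔ (J • N ⊔ J • (J ^ k) • (⊤ : Submodule A M)) := by rw [Submodule.smul_sup]
        _ ≤ N ⊔ (J ^ (k+1)) • (⊤ : Submodule A M) := by
          rw [← sup_assoc, ← Submodule.mul_smul, ← pow_succ']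
          gcongr
          exact sup_le le_rfl Submodule.smul_le_right
  have := key n
  rw [hn] at this
  simpa using this

theorem injective_of_split_of_lTensor_injective {A : Type*} [CommRing A]
    {P Q : Type*} [AddCommGroup P] [Module A P] [AddCommGroup Q] [Module A Q]
    (J : Ideal A) (hJ : IsNilpotent J) (f : P →ₗ[A] Q) (s : Q →ₗ[A] P)
    (hs : f ∘ₗ s = LinearMap.id) (hf : Function.Injective (f.lTensor (A ⧸ J))) :
    Function.Injective f := by
  obtain ⟨n, hn⟩ := hJ
  let e : P →ₗ[A] P := LinearMap.id - s ∘ₗ f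
  have he : ∀ p, e p ∈ J • (⊤ : Submodule A P) := by
    intro p
    rw [← one_tmul_eq_zero_iff]
    apply hf
    have : f (s (f p)) = f p := by
      have := LinearMap.congr_fun hs (f p)
      simpa using this
    simp [e, this]
  have hrange : LinearMap.range e ≤ J • (⊤ : Submodule A P) := by
    rintro _ ⟨p, rfl⟩
    exact he p
  rw [← LinearMap.ker_eq_bot, eq_bot_iff]
  have key : ∀ k : ℕ, LinearMap.ker f ≤ (J ^ k) • (⊤ : Submodule A P) := by
    intro k
    induction k with
    | zero => simp
    | succ k ih =>
      intro x hx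
      have hx' : e x = x := by
        simp [e, LinearMap.mem_ker.mp hx]
      rw [← hx']
      have h1 : e x ∈ Submodule.map e ((J ^ k) • (⊤ : Submodule A P)) :=
        Submodule.mem_map_of_mem (ih hx)
      rw [Submodule.map_smul'', Submodule.map_top] at h1
      have h2 : (J ^ k) • LinearMap.range e ≤ (J ^ (k+1)) • (⊤ : Submodule A P) := by
        rw [pow_succ, Submodule.mul_smul]
        exact Submodule.smul_mono le_rfl hrange
      exact h2 h1
  have := key n
  rw [hn] at this
  simpa using this

theorem mk_one_surjective {A : Type*} [CommRing A] (M : Type*) [AddCommGroup M] [Module A M]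
    (J : Ideal A) : Function.Surjective (TensorProduct.mk A (A ⧸ J) M 1) :=
  TensorProduct.mk_surjective A M (A ⧸ J) Ideal.Quotient.mk_surjective

/-- Let A be a commutative ring, J a nilpotent ideal of A, and (B_i) a family of commutative A-algebras
such that an element of A vanishing in every B_i is zero. Let M be an A-module such that each B_i
⊗_A M is a free B_i-module and (A/J) ⊗_A M is a free (A/J)-module. Then M is a free A-module. -/
theorem result {A : Type u} [CommRing A] (J : Ideal A) (hJ : IsNilpotent J)
    {ι : Type u} (B : ι → Type u) [∀ i, CommRing (B i)] [∀ i, Algebra A (B i)]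
    (hB : ∀ a : A, (∀ i, algebraMap A (B i) a = 0) → a = 0)
    (M : Type u) [AddCommGroup M] [Module A M]
    (hfree : ∀ i, Module.Free (B i) (B i ⊗[A] M)) (hfreeJ : Module.Free (A ⧸ J) ((A ⧸ J) ⊗[A] M)) :
    Module.Free A M := by
  let κ := Module.Free.ChooseBasisIndex (A ⧸ J) ((A ⧸ J) ⊗[A] M)
  let b : Module.Basis κ (A ⧸ J) ((A ⧸ J) ⊗[A] M) := Module.Free.chooseBasis _ _
  choose m hm using fun k => mk_one_surjective M J (b k)
  let φ : (κ →₀ A) →ₗ[A] M := Finsupp.linearCombination A m
  have hφJ : Function.Bijective (φ.lTensor (A ⧸ J)) := by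
    let b1 : Module.Basis κ (A ⧸ J) ((A ⧸ J) ⊗[A] (κ →₀ A)) :=
      (Finsupp.basisSingleOne).baseChange (A ⧸ J)
    have h1 : φ.baseChange (A ⧸ J) = (b1.equiv b (Equiv.refl κ)).toLinearMap := by
      apply b1.ext
      intro k
      have := hm k
      simp only [mk_apply] at this
      rw [LinearEquiv.coe_coe, Module.Basis.equiv_apply]
      simp [b1, φ, this, Module.Basis.baseChange_apply]
    rw [← LinearMap.baseChange_eq_ltensor, h1]
    exact (b1.equiv b (Equiv.refl κ)).bijective
  have hsurj : Function.Surjective φ := by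
    rw [← LinearMap.range_eq_top]
    apply eq_top_of_sup_smul_eq_top J hJ
    rw [eq_top_iff]
    intro x _
    obtain ⟨y, hy⟩ := hφJ.2 (1 ⊗ₜ x)
    obtain ⟨p, rfl⟩ := mk_one_surjective _ J y
    have h0 : (1 : A ⧸ J) ⊗ₜ[A] (x - φ p) = 0 := by
      rw [tmul_sub, ← hy]; simp
    rw [one_tmul_eq_zero_iff] at h0
    have : x = φ p + (x - φ p) := by abel
    rw [this]
    exact Submodule.add_mem_sup (LinearMap.mem_range_self _ _) h0
  have hinj : Function.Injective φ := by
    rw [injective_iff_map_eq_zero]
    intro x hx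
    ext k
    apply hB
    intro i
    let fB : B i ⊗[A] (κ →₀ A) →ₗ[B i] B i ⊗[A] M := φ.baseChange (B i)
    have hfBs : Function.Surjective fB := by
      rw [LinearMap.baseChange_eq_ltensor]; exact LinearMap.lTensor_surjective _ hsurj
    obtain ⟨s, hs⟩ := fB.exists_rightInverse_of_surjective (LinearMap.range_eq_top.mpr hfBs)
    have hfBi : Function.Injective fB := by
      have := injective_of_split_of_lTensor_injective J hJ (fB.restrictScalars A)
        (s.restrictScalars A) ?_ ?_
      · exact this
      · exact LinearMap.ext fun y => LinearMap.congr_fun hs y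
      · let e := TensorProduct.leftComm A (A ⧸ J) (B i) (κ →₀ A)
        let e' := TensorProduct.leftComm A (A ⧸ J) (B i) M
        have h2 : (fB.restrictScalars A).lTensor (A ⧸ J) =
            e'.symm.toLinearMap ∘ₗ ((φ.lTensor (A ⧸ J)).lTensor (B i)) ∘ₗ e.toLinearMap := by
          apply TensorProduct.ext_threefold'
          intro a b p
          simp [e, e', fB]
        rw [h2]
        simp only [LinearMap.coe_comp, LinearEquiv.coe_coe, EquivLike.comp_injective,
          EquivLike.injective_comp]
        let E := LinearEquiv.ofBijective _ hφJ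
        exact (LinearEquiv.lTensor (B i) E).injective
    have h0 : (1 : B i) ⊗ₜ[A] x = 0 := hfBi (by simp [fB, hx])
    have := congrArg (fun t => finsuppScalarRight A (B i) (B i) κ t k) h0
    simpa [Algebra.algebraMap_eq_smul_one] using this
  exact Module.Free.of_equiv (LinearEquiv.ofBijective φ ⟨hinj, hsurj⟩)

end Groth.Agent.S2563
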