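import Groth.Statements.S2568
import Mathlib
import Groth.Agent.Lib.Helper6.QFac6
import Groth.Agent.Lib.Helper6.QFac8
import Groth.Agent.Lib.Helper21.EquiSub11
-- import your own Groth.Agent.* helpers here

set_option autoImplicit false
open CategoryTheory AlgebraicGeometry
universe u
open EGA43

namespace Groth.Agent.S2568

/-- Chevalley's criterion in the case of irreducible source and base: let X and Y be irreducible
schemes, all local rings of Y geometrically unibranch, and f : X ⟶ Y a dominant morphism locally of
finite type such that for every point x the local dimension at x of the fibre through x equals the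
dimension of the generic fibre (the fibre over the image of the generic point of X). Then f is
universally open. -/
theorem result {X Y : Scheme.{u}} [IrreducibleSpace X] [IrreducibleSpace Y]
    (hY : ∀ y : Y, CAlg2.IsGeomUnibranch (Y.presheaf.stalk y)) (f : X ⟶ Y) [LocallyOfFiniteType f] [IsDominant f]
    (h : ∀ x : X, FlatMor.fibreDimAt f x = topologicalKrullDim ↥(f.fiber (f.base (genericPoint X)))) :
    UniversallyOpen f := by
  obtain ⟨e, he, -, -⟩ := Groth.Agent.Lib.Helper21.FibDim.exists_fibreDimAt_eq_trdeg f (genericPoint X)
  have hall : ∀ x : X, FlatMor.fibreDimAt f x = e := fun x =>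
    (h x).trans ((h (genericPoint X)).symm.trans he)
  have hgen : f (genericPoint X) = genericPoint Y :=
    Groth.Agent.Lib.Helper6.UBO.map_genericPoint_of_denseRange f IsDominant.denseRange
  refine Groth.Agent.Lib.Helper6.Chev.of_forall_exists_openImmersion @UniversallyOpen f fun x => ?_
  have hEq : EGA43.IsEquidimAt f x :=
    Groth.Agent.Lib.Helper21.EquiSub.isEquidimAt_of_forall_fibreDimAt f x ⊤ trivial (genericPoint X)
      trivial (fun u _ => genericPoint_specializes u) hgen e (fun u _ => hall u)
  obtain ⟨e', U, g, hxU, hg, hgqf, hZ⟩ :=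
    Groth.Agent.Lib.Helper6.QFac.exists_quasiFinite_of_isEquidimAt f x hEq
  haveI : IrreducibleSpace ↥U := by
    refine Subtype.irreducibleSpace ⟨⟨x, hxU⟩, ?_⟩
    exact (IrreducibleSpace.isIrreducible_univ X).isPreirreducible.open_subset U.2
      (Set.subset_univ _)
  haveI : IrreducibleSpace ↥(U : Scheme.{u}) := ‹IrreducibleSpace ↥U›
  haveI : LocallyOfFiniteType g := by
    haveI : LocallyOfFiniteType (g ≫ (𝔸(ULift.{u} (Fin e'); Y) ↘ Y)) := by
      rw [hg]; infer_instance
    exact locallyOfFiniteType_of_comp g (𝔸(ULift.{u} (Fin e'); Y) ↘ Y)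
  have hdom : DenseRange g := by
    have h1 := hZ Set.univ (by rw [irreducibleComponents_eq_singleton]; rfl)
    rw [irreducibleComponents_eq_singleton, Set.mem_singleton_iff] at h1
    have h2 : closure (Set.range g.base) = Set.univ := by
      have h3 : Set.range g.base = g.base '' Set.univ := Set.image_univ.symm
      rw [h3]
      exact h1
    exact dense_iff_closure_eq.mpr h2
  haveI : UniversallyOpen g :=
    Groth.Agent.Lib.Helper6.QFac.universallyOpen_of_quasiFinite_of_irreducible g hdom
      (fun a => Groth.Agent.Lib.Helper6.UB.isGeomUnibranch_stalk_affineSpace _ a (hY _))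
  haveI := Groth.Agent.Lib.Helper6.QFac.universallyOpen_affineSpace_over (ULift.{u} (Fin e')) Y
  refine ⟨U, U.ι, inferInstance, ⟨⟨x, hxU⟩, rfl⟩, ?_⟩
  rw [← hg]
  infer_instance

end Groth.Agent.S2568
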