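import Groth.Statements.S2573
import Mathlib
import Groth.Agent.Lib.Helper18.GFr6

set_option autoImplicit false
universe u
open EGA43

namespace Groth.Agent.S2573

/-- Let A be a commutative ring whose spectrum is irreducible, with unique minimal prime p, let B be a
finitely presented A-algebra and M a finitely presented B-module. If the localization M_p is flat
over A_p, then there is t ∉ p such that M_t is a free A_t-module. -/
theorem result {A B : Type u} [CommRing A] [CommRing B] [Algebra A B]
    [Algebra.FinitePresentation A B] (p : Ideal A) [p.IsPrime] (hp : minimalPrimes A = {p})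
    (M : Type u) [AddCommGroup M] [Module B M] [Module A M] [IsScalarTower A B M] [Module.FinitePresentation B M]
    (hflat : Module.Flat (Localization.AtPrime p) (LocalizedModule p.primeCompl M)) :
    ∃ t : A, t ∉ p ∧ Module.Free (Localization.Away t) (LocalizedModule (Submonoid.powers t) M) := by
  classical
  have hnil : nilradical A = p := by
    have h1 : sInf (minimalPrimes A) = nilradical A := Ideal.sInf_minimalPrimes
    rw [hp, sInf_singleton] at h1
    exact h1.symm
  obtain ⟨t, htp, hfree⟩ :=
    Groth.Agent.Lib.Helper18.GFr.exists_free_away_of_flat_at_nilradical (A := A) (B := B) p hnil M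
      hflat
  exact ⟨t, htp, Groth.Agent.Lib.Helper18.GFr.free_of_isBaseChange
    (IsLocalizedModule.isBaseChange (Submonoid.powers t) (Localization.Away t)
      (LocalizedModule.mkLinearMap (Submonoid.powers t) M)) hfree⟩

end Groth.Agent.S2573
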