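import Groth.Statements.S2591
import Mathlib
import Groth.Agent.Lib.Helper18.GFr4
import Groth.Agent.Lib.Helper18.FlK2

set_option autoImplicit false
open TensorProduct
universe u
open EGA43

namespace Groth.Agent.S2591

/-- Let A be a commutative ring, B a finitely presented A-algebra and M a finitely presented B-module
which is flat over A. Then there are finitely many elements f₁, …, fₙ of A generating the unit ideal
such that, for each i < n, writing A' for the localization of A at f_{i+1} modulo the ideal
generated by f₁, …, fᵢ, the module A' ⊗_A M is free over A'. -/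
theorem result {A B : Type u} [CommRing A] [CommRing B] [Algebra A B]
    [Algebra.FinitePresentation A B] (M : Type u) [AddCommGroup M] [Module B M] [Module A M] [IsScalarTower A B M]
    [Module.FinitePresentation B M] [Module.Flat A M] :
    ∃ l : List A, Ideal.span {a | a ∈ l} = ⊤ ∧
      ∀ (i : ℕ) (hi : i < l.length),
        letI J : Ideal (Localization.Away l[i]) :=
          (Ideal.span {a | a ∈ l.take i}).map (algebraMap A (Localization.Away l[i]))
        Module.Free (Localization.Away l[i] ⧸ J) ((Localization.Away l[i] ⧸ J) ⊗[A] M) := by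
  classical
  obtain ⟨R₀, _, _, S₀, _, _, _, _, _, _, M₀, _, _, _, _, _, _, f, hR₀, hS₀, hM₀, hflat₀, hpo,
    hbc⟩ := Groth.Agent.Lib.Helper18.Fl.exists_finiteType_int_model A B M
  haveI : IsNoetherianRing R₀ := Algebra.FiniteType.isNoetherianRing ℤ R₀
  obtain ⟨l₀, hl₀, hfree₀⟩ :=
    Groth.Agent.Lib.Helper18.GFr.exists_list_free_of_noetherian (A := R₀) (B := S₀) M₀ ⊥
  rw [bot_sup_eq] at hl₀
  have eM : M ≃ₗ[A] A ⊗[R₀] M₀ :=
    (hbc.equiv.symm.restrictScalars A).trans (Algebra.IsPushout.cancelBaseChange R₀ A S₀ B M₀)
  refine ⟨l₀.map (algebraMap R₀ A), ?_, ?_⟩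
  · have : {a | a ∈ l₀.map (algebraMap R₀ A)} = (algebraMap R₀ A) '' {a | a ∈ l₀} := by
      ext a
      simp
    rw [this, ← Ideal.map_span, hl₀, Ideal.map_top]
  · intro i hi
    have hi₀ : i < l₀.length := by simpa using hi
    have hx : (l₀.map (algebraMap R₀ A))[i] = algebraMap R₀ A l₀[i] := List.getElem_map _
    have h1 := hfree₀ i hi₀
      (Localization.Away (l₀.map (algebraMap R₀ A))[i] ⧸
        (Ideal.span {a | a ∈ (l₀.map (algebraMap R₀ A)).take i}).map
          (algebraMap A (Localization.Away (l₀.map (algebraMap R₀ A))[i])))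
      (by
        rw [IsScalarTower.algebraMap_apply R₀ A, ← hx,
          IsScalarTower.algebraMap_apply A (Localization.Away (l₀.map (algebraMap R₀ A))[i])]
        exact (IsLocalization.Away.algebraMap_isUnit _).map _)
      (by
        intro a ha
        rw [Ideal.mem_bot.mp ha, map_zero])
      (by
        intro a ha
        rw [IsScalarTower.algebraMap_apply R₀ A,
          IsScalarTower.algebraMap_apply A (Localization.Away (l₀.map (algebraMap R₀ A))[i]),
          Ideal.Quotient.algebraMap_eq, Ideal.Quotient.eq_zero_iff_mem]
        refine Ideal.mem_map_of_mem _ (Ideal.subset_span ?_)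
        rw [Set.mem_setOf_eq, ← List.map_take]
        exact List.mem_map_of_mem ha)
    exact Module.Free.of_equiv
      ((TensorProduct.AlgebraTensorModule.cancelBaseChange R₀ A _ _ M₀).symm.trans
        (TensorProduct.AlgebraTensorModule.congr (LinearEquiv.refl _ _) eM.symm))

end Groth.Agent.S2591
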