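import Groth.Statements.S2594
import Groth.Agent.Lib.Helper21.EquiBC1
-- import your own Groth.Agent.* helpers here

set_option autoImplicit false
open CategoryTheory AlgebraicGeometry
universe u
open EGA43

namespace Groth.Agent.S2594

open CategoryTheory.Limits in
/-- Let f : X ⟶ Y be locally of finite type and equidimensional at a point x, and g : Y' ⟶ Y a flat
morphism with Y' locally Noetherian (the source states this for arbitrary Y', but its proof reduces
to the case where every irreducible component passes through the point, which needs the irreducible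
components to be locally finite). Then the base change X ×_Y Y' ⟶ Y' is equidimensional at every
point lying over x. -/
theorem result {X Y Y' : Scheme.{u}} (f : X ⟶ Y) [LocallyOfFiniteType f] (g : Y' ⟶ Y) [Flat g] [IsLocallyNoetherian Y']
    (x : X) (h : EGA43.IsEquidimAt f x) (x' : ↥(pullback f g)) (hx' : (pullback.fst f g).base x' = x) :
    EGA43.IsEquidimAt (pullback.snd f g) x' := by
  obtain ⟨e, U, hxU, hcomp, hfib⟩ := h
  have hsq : IsPullback (pullback.fst f g) (pullback.snd f g) f g := IsPullback.of_hasPullback f g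
  haveI : LocallyOfFiniteType (pullback.snd f g) :=
    MorphismProperty.pullback_snd (P := @LocallyOfFiniteType) _ _ inferInstance
  haveI : IsLocallyNoetherian (pullback f g) :=
    LocallyOfFiniteType.isLocallyNoetherian (pullback.snd f g)
  haveI : Flat (pullback.fst f g) := MorphismProperty.pullback_fst (P := @Flat) _ _ inferInstance
  obtain ⟨O₁, hx'O₁, hO₁⟩ :=
    Groth.Agent.Lib.Helper21.EquiSub.exists_open_forall_maximal_specializes (pullback f g) x'
  have hx'U : x' ∈ (pullback.fst f g) ⁻¹ᵁ U := by
    change (pullback.fst f g).base x' ∈ U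
    rw [hx']
    exact hxU
  refine Groth.Agent.Lib.Helper21.EquiBC.isEquidimAt_of_maximal_of_forall_fibreDimAt
    (pullback.snd f g) x' (O₁ ⊓ (pullback.fst f g) ⁻¹ᵁ U) ⟨hx'O₁, hx'U⟩ ?_ e ?_
  · intro ξ' hξ'O hmax
    have h1 : ξ' ⤳ x' := hO₁ ξ' hξ'O.1 ξ' hmax specializes_rfl
    refine ⟨h1, ?_⟩
    have hprmax : ∀ t : X, t ⤳ (pullback.fst f g) ξ' → t = (pullback.fst f g) ξ' := by
      intro t ht
      obtain ⟨t', ht'ξ', ht'⟩ := Flat.generalizingMap (pullback.fst f g) ht
      rw [← ht', hmax t' ht'ξ']
    have hfmax : ∀ t : Y, t ⤳ f ((pullback.fst f g) ξ') → t = f ((pullback.fst f g) ξ') :=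
      fun t ht => Groth.Agent.Lib.Helper21.EquidimAt.eq_of_specializes_map_of_components f U
        (fun Z hZ => by
          obtain ⟨W, hW, -, hcl⟩ := hcomp Z hZ
          exact ⟨W, hW, hcl⟩) ((pullback.fst f g) ξ') hξ'O.2 hprmax t ht
    have hw : f ((pullback.fst f g) ξ') = g ((pullback.snd f g) ξ') := by
      have := congrArg (fun φ : pullback f g ⟶ Y => φ ξ') hsq.w
      simpa using this
    exact Groth.Agent.Lib.Helper21.EquiBC.maximal_map_of_isPullback hsq ξ' hmax
      (by rw [← hw]; exact hfmax)
  · intro u hu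
    rw [Groth.Agent.Lib.Helper21.BaseChg.fibreDimAt_eq_of_isPullback hsq u]
    exact Groth.Agent.Lib.Helper21.EquidimAt.fibreDimAt_eq_of_forall_components f U e hfib _ hu.2

end Groth.Agent.S2594
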