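import Groth.Statements.S2595
import Mathlib
import Groth.Agent.Lib.Helper6.CMChart3
import Groth.Agent.Lib.Helper6.QFac7
import Groth.Agent.Lib.Helper21.FibDim6
import Groth.Agent.Lib.Helper6.SD1
-- import your own Groth.Agent.* helpers here

set_option autoImplicit false
open CategoryTheory AlgebraicGeometry
universe u
open EGA43

namespace Groth.Agent.S2595

/-- Let Y be locally Noetherian, f : X ⟶ Y locally of finite type and x a point of X. If O_{Y,f x} ⟶
O_{X,x} is flat and the local ring at x of the fibre through x is Cohen–Macaulay, then f is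
equidimensional at x. -/
theorem result {X Y : Scheme.{u}} [IsLocallyNoetherian Y] (f : X ⟶ Y)
    [LocallyOfFiniteType f] (x : X) (hflat : (f.stalkMap x).hom.Flat)
    (hCM : LocCoh.IsCohenMacaulayLocalRing ((f.fiber (f.base x)).presheaf.stalk (f.asFiber x))) :
    EGA43.IsEquidimAt f x := by
  haveI : LocallyOfFinitePresentation f :=
    AlgebraicGeometry.LocallyOfFinitePresentation.iff_locallyOfFiniteType.mpr inferInstance
  have hCM' : MoreMor.IsCMAt f x := ⟨hflat, hCM⟩
  obtain ⟨N, hN⟩ := Groth.Agent.Lib.Helper6.CMChart.exists_nat_fibreDimAt f x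
  obtain ⟨U, g, hxU, hg, hfl, hlqf⟩ :=
    Groth.Agent.Lib.Helper6.CMChart.exists_flat_chart_nhd_of_isCMAt f x hCM' N hN
  haveI := hlqf
  haveI := hfl
  refine Groth.Agent.Lib.Helper6.QFac.isEquidimAt_of_exists_quasiFinite f x N U g hxU hg hlqf ?_
  intro Z hZ
  haveI : QuasiSober ↥U := inferInstanceAs (QuasiSober U.toScheme)
  haveI : T0Space ↥U := inferInstanceAs (T0Space U.toScheme)
  obtain ⟨ξ, hξ⟩ :=
    Groth.Agent.Lib.Helper21.FibDim.exists_isGenericPoint_of_mem_irreducibleComponents Z hZ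
  have hξmax : ∀ ξ' : ↥U, ξ' ⤳ ξ → ξ' = ξ := fun ξ' h' =>
    Groth.Agent.Lib.Helper21.FibDim.eq_of_specializes_isGenericPoint Z hZ ξ ξ' hξ h'
  have hgmax : ∀ τ : ↥(𝔸(ULift.{u} (Fin N); Y)), τ ⤳ g ξ → τ = g ξ := by
    intro τ hτ
    obtain ⟨ξ', hξ', hgξ'⟩ := AlgebraicGeometry.Flat.generalizingMap g hτ
    rw [← hgξ', hξmax ξ' hξ']
  have h4 := hξ.def
  subst h4
  have h5 : closure (g.base '' closure {ξ}) = closure {g ξ} :=
    Groth.Agent.Lib.Helper6.QFac.closure_image_closure_singleton' _ g.continuous ξ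
  have h6 := Groth.Agent.Lib.Helper6.SD.closure_mem_irreducibleComponents_of_maximal (g ξ) hgmax
  rw [← h5] at h6
  exact h6

end Groth.Agent.S2595
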