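import Groth.Statements.S2906
import Groth.Agent.Lib.Helper24.DescEt

set_option autoImplicit false
open CategoryTheory CategoryTheory.Limits AlgebraicGeometry Opposite
universe u
open SGA1

namespace Groth.Agent.S2906

open CategoryTheory CategoryTheory.Limits AlgebraicGeometry Opposite


/-- Let g : S' ⟶ S be flat, surjective and quasi-compact. Then every descent datum relative to g whose
underlying scheme is etale, separated and quasi-compact over S' is isomorphic to the canonical
descent datum of a scheme etale, separated and quasi-compact over S. (Descent data relative to g are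
taken in functor-of-points form.) -/
theorem result {S' S : Scheme.{u}} (g : S' ⟶ S) [Flat g] [Surjective g] [QuasiCompact g]
    (D : Desc.SchDD g) [QuasiCompact D.obj.hom] [IsSeparated D.obj.hom] [Etale D.obj.hom] :
    ∃ U : Over S, QuasiCompact U.hom ∧ IsSeparated U.hom ∧ Etale U.hom ∧ Nonempty ((Desc.toDD g).obj U ≅ D) := by
  haveI : LocallyQuasiFinite D.obj.hom := Groth.Agent.Lib.Helper14.AS.etale_locallyQuasiFinite _
  haveI : LocallyOfFiniteType D.obj.hom := inferInstance
  obtain ⟨U, ⟨e⟩⟩ := Groth.Agent.Lib.Helper24.DescEt.exists_iso_toDD_of_locallyQuasiFinite g D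
  have hg : (@Surjective ⊓ @Flat ⊓ @QuasiCompact : MorphismProperty Scheme.{u}) g :=
    ⟨⟨‹_›, ‹_›⟩, ‹_›⟩
  refine ⟨U, ?_, ?_, ?_, ⟨e⟩⟩
  · haveI : QuasiCompact (pullback.fst g U.hom) :=
      (Groth.Agent.Lib.Helper24.DescEt.pullback_fst_iff_of_iso g D U e @QuasiCompact).mpr
        inferInstance
    exact Groth.Agent.Lib.Helper24.DescEt.quasiCompact_of_pullback_fst g U.hom
  · exact MorphismProperty.of_pullback_fst_of_descendsAlong (P := @IsSeparated)
      (Q := (@Surjective ⊓ @Flat ⊓ @QuasiCompact : MorphismProperty Scheme.{u})) hg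
      ((Groth.Agent.Lib.Helper24.DescEt.pullback_fst_iff_of_iso g D U e @IsSeparated).mpr
        inferInstance)
  · exact MorphismProperty.of_pullback_fst_of_descendsAlong (P := @Etale)
      (Q := (@Surjective ⊓ @Flat ⊓ @QuasiCompact : MorphismProperty Scheme.{u})) hg
      ((Groth.Agent.Lib.Helper24.DescEt.pullback_fst_iff_of_iso g D U e @Etale).mpr
        inferInstance)

end Groth.Agent.S2906
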