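import Groth.Statements.S2909
import Groth.Agent.Lib.Helper7.QuotientAffine
import Mathlib.RingTheory.Adjoin.Tower
import Mathlib.AlgebraicGeometry.Morphisms.Finite
import Mathlib.AlgebraicGeometry.Morphisms.Immersion
import Mathlib.AlgebraicGeometry.Noetherian

set_option autoImplicit false
open CategoryTheory CategoryTheory.Limits AlgebraicGeometry
universe u
open SGA1

namespace Groth.Agent.S2909

open Groth.Agent.Lib.Helper7.FiniteQuotient

theorem finiteType_of_comp_finite_injective {A B C : Type*} [CommRing A] [CommRing B] [CommRing C]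
    [IsNoetherianRing A] (φ : A →+* B) (ψ : B →+* C) (hinj : Function.Injective ψ)
    (hfin : ψ.Finite) (hft : (ψ.comp φ).FiniteType) : φ.FiniteType := by
  let _ := φ.toAlgebra
  let _ := ψ.toAlgebra
  let _ := (ψ.comp φ).toAlgebra
  have : IsScalarTower A B C := IsScalarTower.of_algebraMap_eq' rfl
  exact ⟨fg_of_fg_of_fg A B C hft.out hfin.fg_top hinj⟩

theorem isSeparated_of_comp_surjective_universallyClosed {X Y Z : Scheme.{u}} (p : X ⟶ Y) (q : Y ⟶ Z)
    [UniversallyClosed p] (hsurj : Function.Surjective p.base) [IsSeparated (p ≫ q)] :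
    IsSeparated q := by
  let pp : pullback (p ≫ q) (p ≫ q) ⟶ pullback q q :=
    pullback.map (p ≫ q) (p ≫ q) q q p p (𝟙 Z) ((Category.comp_id _).trans rfl)
      ((Category.comp_id _).trans rfl)
  have hpp : UniversallyClosed pp :=
    MorphismProperty.pullbackMap (P := @UniversallyClosed) (inferInstance : UniversallyClosed p)
      (inferInstance : UniversallyClosed p) rfl rfl
  have hcomm : pullback.diagonal (p ≫ q) ≫ pp = p ≫ pullback.diagonal q := by
    apply pullback.hom_ext
    · simp only [pp, Category.assoc, pullback.map, pullback.lift_fst, pullback.diagonal_fst,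
        pullback.diagonal_fst_assoc, Category.comp_id]
    · simp only [pp, Category.assoc, pullback.map, pullback.lift_snd, pullback.diagonal_snd,
        pullback.diagonal_snd_assoc, Category.comp_id]
  have hrange : Set.range (pullback.diagonal q).base =
      pp.base '' Set.range (pullback.diagonal (p ≫ q)).base := by
    have h1 : Set.range (pullback.diagonal q).base = Set.range (p ≫ pullback.diagonal q).base := by
      rw [Scheme.Hom.comp_base, TopCat.coe_comp, Set.range_comp, Set.range_eq_univ.mpr hsurj,
        Set.image_univ]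
    rw [h1, ← hcomm, Scheme.Hom.comp_base, TopCat.coe_comp, Set.range_comp]
  have : IsClosedImmersion (pullback.diagonal q) := by
    apply IsClosedImmersion.of_isPreimmersion
    rw [hrange]
    exact pp.isClosedMap _ (pullback.diagonal (p ≫ q)).isClosedEmbedding.isClosed_range
  exact ⟨this⟩


/-- Let a finite group G act on a scheme X by automorphisms over a scheme Z (structure morphism f), and
let p : X ⟶ Y be a quotient of X by G with Y ⟶ Z the induced morphism q (so p ≫ q = f). Then X is
affine over Z iff Y is, X is separated over Z iff Y is; if f is locally of finite type then p is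
finite; and if moreover Z is locally Noetherian and f quasi-compact then q is of finite type
(locally of finite type and quasi-compact). -/
theorem result {X Y Z : Scheme.{u}} {G : Type u} [Group G] [Finite G] (ρ : G →* Aut X)
    (p : X ⟶ Y) (hp : SGA1.IsQuot ρ p) (f : X ⟶ Z) (q : Y ⟶ Z) (hq : p ≫ q = f) (hρ : ∀ g : G, (ρ g).hom ≫ f = f) :
    (IsAffineHom f ↔ IsAffineHom q) ∧ (IsSeparated f ↔ IsSeparated q) ∧
    (LocallyOfFiniteType f → IsFinite p) ∧
    (IsLocallyNoetherian Z → LocallyOfFiniteType f → QuasiCompact f → LocallyOfFiniteType q ∧ QuasiCompact q) := by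
  subst hq
  have hint : IsIntegralHom p := isIntegralHom hp
  have hsurj : Function.Surjective p.base := surjective hp
  have haffp : IsAffineHom p := hp.affine
  have hfin : LocallyOfFiniteType (p ≫ q) → IsFinite p := by
    intro hf
    have : LocallyOfFiniteType p := locallyOfFiniteType_of_comp p q
    exact (IsFinite.iff_isIntegralHom_and_locallyOfFiniteType p).mpr ⟨hint, this⟩
  refine ⟨⟨?_, ?_⟩, ⟨?_, ?_⟩, hfin, ?_⟩
  · intro hf
    refine ⟨fun W hW => ?_⟩
    apply isAffineOpen_of_isQuot hp
    exact hf.isAffine_preimage W hW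
  · intro hq; infer_instance
  · intro hf
    exact isSeparated_of_comp_surjective_universallyClosed p q hsurj
  · intro hq; infer_instance
  · intro hZ hf hqc
    have hpf : IsFinite p := hfin hf
    constructor
    · refine ⟨fun {U} hU {V} hV e => ?_⟩
      have hV' : IsAffineOpen (p ⁻¹ᵁ V) := haffp.isAffine_preimage V hV
      have e' : p ⁻¹ᵁ V ≤ (p ≫ q) ⁻¹ᵁ U := fun x hx => e hx
      have h1 : ((p ≫ q).appLE U (p ⁻¹ᵁ V) e').hom.FiniteType := hf.finiteType_appLE hU hV' e'
      have h2 : (p ≫ q).appLE U (p ⁻¹ᵁ V) e' = q.appLE U V e ≫ p.app V := by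
        rw [Scheme.Hom.app_eq_appLE, Scheme.Hom.appLE_comp_appLE]
      rw [h2] at h1
      have : IsNoetherianRing Γ(Z, U) := hZ.component_noetherian ⟨U, hU⟩
      exact finiteType_of_comp_finite_injective (q.appLE U V e).hom (p.app V).hom (hp.injective V)
        (hpf.finite_app V hV) h1
    · rw [quasiCompact_iff_forall_isAffineOpen]
      intro U hU
      have h1 : IsCompact ((p ≫ q) ⁻¹ᵁ U : Set X) :=
        (quasiCompact_iff_forall_isAffineOpen.mp hqc) U hU
      have h2 : (q ⁻¹ᵁ U : Set Y) = p.base '' ((p ≫ q) ⁻¹ᵁ U : Set X) := by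
        ext y
        constructor
        · intro hy
          obtain ⟨x, rfl⟩ := hsurj y
          exact ⟨x, hy, rfl⟩
        · rintro ⟨x, hx, rfl⟩
          exact hx
      rw [h2]
      exact h1.image p.base.hom.continuous

end Groth.Agent.S2909
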