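import Groth.Statements.S2910
import Groth.Agent.Lib.Helper7.Rigidity
import Groth.Agent.Lib.Helper7.FiniteQuotient
import Groth.Agent.S13597
import Mathlib.AlgebraicGeometry.Morphisms.Finite

set_option autoImplicit false
open CategoryTheory CategoryTheory.Limits AlgebraicGeometry
universe u
open SGA1

namespace Groth.Agent.S2910

open Groth.Agent.Lib.Helper7.FiniteQuotient Groth.Agent.Lib.Helper7.Rigidity

theorem fromSpecResidueField_comp {X : Scheme.{u}} (w : X ⟶ X) (x : X) (e : w.base x = x) :
    X.fromSpecResidueField x ≫ w =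
      Spec.map ((X.residueFieldCongr e).inv ≫ w.residueFieldMap x) ≫ X.fromSpecResidueField x := by
  rw [Spec.map_comp, Category.assoc, Scheme.residueFieldCongr_inv,
    Scheme.residueFieldCongr_fromSpecResidueField,
    Scheme.Hom.SpecMap_residueFieldMap_fromSpecResidueField]

theorem residueFieldMap_fix {X Y : Scheme.{u}} (p : X ⟶ Y) (w : X ⟶ X) (hwp : w ≫ p = p) (x : X)
    (e : w.base x = x) :
    p.residueFieldMap x ≫ (X.residueFieldCongr e).inv ≫ w.residueFieldMap x =
      p.residueFieldMap x := by
  rw [Scheme.residueFieldCongr_inv, ← Category.assoc, Scheme.Hom.residueFieldMap_congr' e.symm,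
    Category.assoc, ← Scheme.residueFieldMap_comp, Scheme.Hom.residueFieldMap_congr hwp]
  erw [Scheme.residueFieldCongr_trans_hom_assoc]
  simp


/-- Let a finite group G act faithfully on a connected scheme X, let p : X ⟶ Y be a quotient of X by G
with Y locally Noetherian and p finite, and suppose p is etale. Then G acts freely on the geometric
points of X (all inertia groups are trivial), and every automorphism of X over Y is the action of
exactly one element of G. -/
theorem result {X Y : Scheme.{u}} {G : Type u} [Group G] [Finite G] (ρ : G →* Aut X)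
    (p : X ⟶ Y) (hp : SGA1.IsQuot ρ p) [IsLocallyNoetherian Y] [IsFinite p] [ConnectedSpace X]
    (hfaith : Function.Injective ρ) [Etale p] :
    (∀ (K : Type u) [Field K] [IsAlgClosed K] (ξ : Spec (CommRingCat.of K) ⟶ X) (g : G), ξ ≫ (ρ g).hom = ξ → g = 1) ∧
    ∀ u : Aut X, u.hom ≫ p = p → ∃! g : G, ρ g = u := by
  have hsep : IsSeparated p := inferInstance
  have hlft : LocallyOfFiniteType p := inferInstance
  have hunr : FormallyUnramified p := inferInstance
  constructor
  · intro K _ _ ξ g hξ
    have : Nonempty (Spec (CommRingCat.of K)) := inferInstanceAs (Nonempty (PrimeSpectrum K))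
    have h1 : (ρ g).hom = 𝟙 X := eq_of_comp_eq_of_preconnected p (ρ g).hom (𝟙 X)
      (by rw [hp.inv, Category.id_comp]) ξ (by rw [hξ, Category.comp_id])
    apply hfaith
    rw [map_one]
    exact Iso.ext h1
  · intro u hu
    refine existsUnique_of_exists_of_unique ?_ (fun g g' h h' => hfaith (h.trans h'.symm))
    obtain ⟨x⟩ := (inferInstance : Nonempty X)
    obtain ⟨g₁, hg₁⟩ := (app_eq_iff hp x (u.hom.base x)).mp
      (by rw [← Scheme.Hom.comp_apply, hu])
    have hinv1 : (ρ g₁).hom ≫ (ρ g₁⁻¹).hom = 𝟙 X := by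
      have h : ρ g₁⁻¹ * ρ g₁ = 1 := by rw [← map_mul, inv_mul_cancel, map_one]
      exact congrArg Iso.hom h
    have hinv2 : (ρ g₁⁻¹).hom ≫ (ρ g₁).hom = 𝟙 X := by
      have h : ρ g₁ * ρ g₁⁻¹ = 1 := by rw [← map_mul, mul_inv_cancel, map_one]
      exact congrArg Iso.hom h
    let w : X ⟶ X := u.hom ≫ (ρ g₁⁻¹).hom
    have hw : w.base x = x := by
      rw [Scheme.Hom.comp_apply, ← hg₁, ← Scheme.Hom.comp_apply, hinv1]
      rfl
    have hwp : w ≫ p = p := by rw [Category.assoc, hp.inv, hu]
    have hwiso : IsIso w := inferInstance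
    let τ : X.residueField x ≅ X.residueField x :=
      asIso ((X.residueFieldCongr hw).inv ≫ w.residueFieldMap x)
    have hτ : p.residueFieldMap x ≫ τ.hom = p.residueFieldMap x :=
      residueFieldMap_fix p w hwp x hw
    obtain ⟨g₂, e₂, hg₂⟩ := (Groth.Agent.S13597.result ρ p hp x).2 τ hτ
    have hfin : w = (ρ g₂).hom := eq_of_comp_eq_of_preconnected p w (ρ g₂).hom
      (by rw [hwp, hp.inv]) (X.fromSpecResidueField x)
      (by rw [fromSpecResidueField_comp w x hw, fromSpecResidueField_comp _ x e₂, ← hg₂]; rfl)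
    refine ⟨g₁ * g₂, ?_⟩
    apply Iso.ext
    rw [map_mul]
    change (ρ g₂).hom ≫ (ρ g₁).hom = u.hom
    rw [← hfin, Category.assoc, hinv2, Category.comp_id]

end Groth.Agent.S2910
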