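import Groth.Statements.S2913
-- import your own Groth.Agent.* helpers here

set_option autoImplicit false
open CategoryTheory CategoryTheory.Limits AlgebraicGeometry Opposite
universe u
open SGA1

namespace Groth.Agent.S2913

/-- Let g : S' ⟶ S be a surjective morphism of schemes such that for every open U of S the map O_S(U) →
O_{S'}(g⁻¹U) is injective. Then g is an epimorphism in the category of schemes. -/
theorem result {S' S : Scheme.{u}} (g : S' ⟶ S) [Surjective g]
    (hinj : ∀ U : S.Opens, Function.Injective (g.app U).hom) : Epi g := by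
  refine ⟨fun {Z} a b h => ?_⟩
  have hbase : a.base = b.base := by
    have h1 : g.base ≫ a.base = g.base ≫ b.base := by
      rw [← Scheme.Hom.comp_base, ← Scheme.Hom.comp_base, h]
    have : Epi g.base := (TopCat.epi_iff_surjective _).mpr g.surjective
    exact (cancel_epi g.base).mp h1
  refine Scheme.Hom.ext hbase fun U => ?_
  have hmono : Mono (g.app (b ⁻¹ᵁ U)) :=
    ConcreteCategory.mono_of_injective _ (hinj _)
  rw [← cancel_mono (g.app (b ⁻¹ᵁ U))]
  have hUeq : a ⁻¹ᵁ U = b ⁻¹ᵁ U := by
    ext x
    have : a x = b x := congr($hbase x)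
    change a x ∈ U ↔ b x ∈ U
    rw [this]
  have h2 : a.app U ≫ g.app (a ⁻¹ᵁ U) =
      b.app U ≫ g.app (b ⁻¹ᵁ U) ≫ S'.presheaf.map (eqToHom (by rw [hUeq])).op := by
    have := Scheme.Hom.congr_app h U
    simpa using this
  rw [Category.assoc, g.naturality, reassoc_of% h2, ← Functor.map_comp]
  have key : ∀ (V : (TopologicalSpace.Opens S')ᵒᵖ) (e : V ⟶ V), S'.presheaf.map e = 𝟙 _ := by
    intro V e
    rw [Subsingleton.elim e (𝟙 V), S'.presheaf.map_id]
  rw [key, Category.comp_id]

end Groth.Agent.S2913
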