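import Groth.Statements.S2914
import Groth.Agent.Lib.Helper7.DescendMorphism
import Mathlib.AlgebraicGeometry.PullbackCarrier

set_option autoImplicit false
open CategoryTheory CategoryTheory.Limits AlgebraicGeometry Opposite
universe u
open SGA1

namespace Groth.Agent.S2914

/-- Let g : S' ⟶ S be a morphism of schemes whose underlying map is a quotient map, and such that for
every open U of S the sequence O_S(U) → O_{S'}(g⁻¹U) ⇉ O_{S''}(h⁻¹U) is an equalizer, where S'' = S'
×_S S' with structure map h and the two arrows are restriction along the projections. Then g is an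
effective epimorphism in the category of schemes. -/
theorem result {S' S : Scheme.{u}} (g : S' ⟶ S) (hq : Topology.IsQuotientMap g.base)
    (hinj : ∀ U : S.Opens, Function.Injective (g.app U).hom)
    (heq : ∀ (U : S.Opens) (s' : Γ(S', g ⁻¹ᵁ U)), (SGA1.overlapFstApp g U).hom s' = (SGA1.overlapSndApp g U).hom s' →
      s' ∈ Set.range (g.app U).hom) :
    EffectiveEpi g := by
  have key : ∀ {W : Scheme.{u}} (e : S' ⟶ W),
      (∀ {Z : Scheme.{u}} (g₁ g₂ : Z ⟶ S'), g₁ ≫ g = g₂ ≫ g → g₁ ≫ e = g₂ ≫ e) →
      ∃! m : S ⟶ W, g ≫ m = e := by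
    intro W e he
    have hpb : pullback.fst g g ≫ e = pullback.snd g g ≫ e := he _ _ pullback.condition
    refine Groth.Agent.Lib.Helper7.DescendMorphism.existsUnique_desc g hq hinj e ?_ ?_
    · intro x x' hxx'
      obtain ⟨z, hz1, hz2⟩ := Scheme.Pullback.exists_preimage_pullback x x' hxx'
      rw [← hz1, ← hz2, ← Scheme.Hom.comp_apply, ← Scheme.Hom.comp_apply, hpb]
    · intro V U' e' r
      apply heq V
      unfold SGA1.overlapFstApp SGA1.overlapSndApp
      have h1 : e.appLE U' (g ⁻¹ᵁ V) e' ≫ (pullback.fst g g).app (g ⁻¹ᵁ V) =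
          e.appLE U' (g ⁻¹ᵁ V) e' ≫ (pullback.snd g g).appLE (g ⁻¹ᵁ V)
            ((pullback.fst g g) ⁻¹ᵁ (g ⁻¹ᵁ V)) (SGA1.fst_preimage_eq_snd_preimage g V).le := by
        rw [Scheme.Hom.app_eq_appLE, Scheme.Hom.appLE_comp_appLE, Scheme.Hom.appLE_comp_appLE,
          Groth.Agent.Lib.Helper7.DescendMorphism.appLE_congr_hom' hpb]
      exact congrArg (fun f => f.hom r) h1
  refine ⟨⟨{ desc := fun e he => (key e he).exists.choose
             fac := fun e he => (key e he).exists.choose_spec
             uniq := fun e he m hm => (key e he).unique hm (key e he).exists.choose_spec }⟩⟩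

end Groth.Agent.S2914
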