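import Groth.Statements.S2916
import Groth.Agent.Lib.Helper10.EtSubm
import Groth.Agent.Lib.Helper10.FEtConn2

set_option autoImplicit false
open CategoryTheory CategoryTheory.Limits AlgebraicGeometry Opposite
universe u
open SGA1

namespace Groth.Agent.S2916

/-- Let g : S' ⟶ S be universally submersive with geometrically connected fibres (the base change of S'
to any algebraically closed field valued point of S is connected). Then S' is connected whenever S
is, and for schemes X, Y etale over S every S'-morphism between their base changes comes from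
exactly one S-morphism X ⟶ Y. -/
theorem result {S' S : Scheme.{u}} (g : S' ⟶ S)
    (hg : SGA1.UnivSubmersive g)
    (hconn : ∀ (K : Type u) [Field K] [IsAlgClosed K] (ξ : Spec (CommRingCat.of K) ⟶ S), ConnectedSpace ↑(pullback g ξ)) :
    (ConnectedSpace S → ConnectedSpace S') ∧
    ∀ (X Y : Over S) [Etale X.hom] [Etale Y.hom], Function.Bijective ((Over.pullback g).map : (X ⟶ Y) → _) := by
  constructor
  · intro hS
    have hq : Topology.IsQuotientMap g :=
      hg (CategoryTheory.CategoryStruct.id S') (CategoryTheory.CategoryStruct.id S) g
        (CategoryTheory.IsPullback.id_vert g)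
    have hfib : ∀ w, _root_.IsPreconnected (g ⁻¹' {w}) := fun w =>
      Groth.Agent.Lib.Helper10.FEtConn2.isPreconnected_fiber_of_geomFibres g
        (CategoryTheory.CategoryStruct.id S) g (CategoryTheory.CategoryStruct.id S')
        (CategoryTheory.IsPullback.id_vert g) hconn w
    rw [connectedSpace_iff_clopen]
    refine ⟨?_, fun C hC => ?_⟩
    · obtain ⟨s⟩ := (inferInstance : Nonempty ↥S)
      obtain ⟨x, _⟩ := hq.surjective s
      exact ⟨x⟩
    · have hsat := Groth.Agent.Lib.Helper10.FEtConn.preimage_image_eq_of_isClopen g hfib C hC
      have hcl : IsClopen (g '' C) :=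
        ⟨hq.isClosed_preimage.mp (by rw [hsat]; exact hC.1),
          hq.isOpen_preimage.mp (by rw [hsat]; exact hC.2)⟩
      rcases isClopen_iff.mp hcl with h | h
      · left
        exact Set.image_eq_empty.mp h
      · right
        rw [← hsat, h]
        rfl
  · intro X Y _ _
    constructor
    · intro φ₁ φ₂ h
      have e1 : ((CategoryTheory.Over.pullback g).map φ₁).left ≫
          CategoryTheory.Limits.pullback.fst Y.hom g =
          CategoryTheory.Limits.pullback.fst X.hom g ≫ φ₁.left :=
        CategoryTheory.Limits.pullback.lift_fst _ _ _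
      have e2 : ((CategoryTheory.Over.pullback g).map φ₂).left ≫
          CategoryTheory.Limits.pullback.fst Y.hom g =
          CategoryTheory.Limits.pullback.fst X.hom g ≫ φ₂.left :=
        CategoryTheory.Limits.pullback.lift_fst _ _ _
      have h1 : CategoryTheory.Limits.pullback.fst X.hom g ≫ φ₁.left =
          CategoryTheory.Limits.pullback.fst X.hom g ≫ φ₂.left := by
        rw [← e1, ← e2, h]
      have hsurj : Function.Surjective (CategoryTheory.Limits.pullback.fst X.hom g) :=
        (hg _ _ _ (CategoryTheory.IsPullback.of_hasPullback X.hom g)).surjective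
      apply CategoryTheory.Over.OverMorphism.ext
      apply Groth.Agent.S0063.eq_of_range_equalizer_eq_univ φ₁ φ₂
      rw [Set.eq_univ_iff_forall]
      intro x
      obtain ⟨x', rfl⟩ := hsurj x
      let P : CategoryTheory.Over S :=
        CategoryTheory.Over.mk (CategoryTheory.Limits.pullback.fst X.hom g ≫ X.hom)
      let ι' : P ⟶ X := CategoryTheory.Over.homMk (CategoryTheory.Limits.pullback.fst X.hom g) rfl
      have hι : ι' ≫ φ₁ = ι' ≫ φ₂ := by
        ext1
        exact h1
      refine ⟨(CategoryTheory.Limits.equalizer.lift ι' hι).left x', ?_⟩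
      rw [← AlgebraicGeometry.Scheme.Hom.comp_apply, ← CategoryTheory.Over.comp_left,
        CategoryTheory.Limits.equalizer.lift_ι]
      rfl
    · intro ψ'
      have hψ : ψ'.left ≫ CategoryTheory.Limits.pullback.snd Y.hom g =
          CategoryTheory.Limits.pullback.snd X.hom g := CategoryTheory.Over.w ψ'
      obtain ⟨φ, hφ1, hφ2⟩ := Groth.Agent.Lib.Helper10.EtSubm.exists_lift_of_submersive g hg hconn
        X.hom Y.hom ψ'.left hψ
      refine ⟨CategoryTheory.Over.homMk φ hφ1, ?_⟩
      apply CategoryTheory.Over.OverMorphism.ext
      apply CategoryTheory.Limits.pullback.hom_ext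
      · refine (CategoryTheory.Limits.pullback.lift_fst _ _ _).trans ?_
        exact hφ2
      · refine (CategoryTheory.Limits.pullback.lift_snd _ _ _).trans ?_
        exact hψ.symm

end Groth.Agent.S2916
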