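import Groth.Statements.S2917
import Groth.Agent.Lib.Helper7.SubmersiveDescent

set_option autoImplicit false
open CategoryTheory CategoryTheory.Limits AlgebraicGeometry Opposite
universe u
open SGA1

namespace Groth.Agent.S2917

open Groth.Agent.Lib.Helper7.SubmersiveDescent


/-- Let g : S' ⟶ S be universally submersive, f : X ⟶ Y a morphism of S-schemes (Y ⟶ S the structure
map) and f' its base change along S' ⟶ S, realised as X ×_S S' ⟶ Y ×_S S'. If f' is open (resp.
closed) then so is f; if f' is universally open (resp. universally closed, resp. separated) then so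
is f; and if moreover g is quasi-compact and f locally of finite type, then f is proper as soon as
f' is. -/
theorem result {S' S X Y : Scheme.{u}} (g : S' ⟶ S) (hg : SGA1.UnivSubmersive g)
    (f : X ⟶ Y) (q : Y ⟶ S) :
    (IsOpenMap (pullback.map (f ≫ q) g q g f (𝟙 S') (𝟙 S) (Category.comp_id _) ((Category.comp_id _).trans (Category.id_comp _).symm)).base → IsOpenMap f.base) ∧
    (IsClosedMap (pullback.map (f ≫ q) g q g f (𝟙 S') (𝟙 S) (Category.comp_id _) ((Category.comp_id _).trans (Category.id_comp _).symm)).base → IsClosedMap f.base) ∧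
    (UniversallyOpen (pullback.map (f ≫ q) g q g f (𝟙 S') (𝟙 S) (Category.comp_id _) ((Category.comp_id _).trans (Category.id_comp _).symm)) → UniversallyOpen f) ∧
    (UniversallyClosed (pullback.map (f ≫ q) g q g f (𝟙 S') (𝟙 S) (Category.comp_id _) ((Category.comp_id _).trans (Category.id_comp _).symm)) → UniversallyClosed f) ∧
    (IsSeparated (pullback.map (f ≫ q) g q g f (𝟙 S') (𝟙 S) (Category.comp_id _) ((Category.comp_id _).trans (Category.id_comp _).symm)) → IsSeparated f) ∧
    (QuasiCompact g → LocallyOfFiniteType f →
      IsProper (pullback.map (f ≫ q) g q g f (𝟙 S') (𝟙 S) (Category.comp_id _) ((Category.comp_id _).trans (Category.id_comp _).symm)) → IsProper f) := by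
  set f' := pullback.map (f ≫ q) g q g f (𝟙 S') (𝟙 S) (Category.comp_id _)
    ((Category.comp_id _).trans (Category.id_comp _).symm) with hf'
  have h1 : f' ≫ pullback.fst q g = pullback.fst (f ≫ q) g ≫ f := by
    rw [hf']; exact pullback.lift_fst _ _ _
  have h2 : f' ≫ pullback.snd q g = pullback.snd (f ≫ q) g := by
    rw [hf']; exact (pullback.lift_snd _ _ _).trans (Category.comp_id _)
  have s : IsPullback (f' ≫ pullback.snd q g) (pullback.fst (f ≫ q) g) g (f ≫ q) := by
    rw [h2]; exact (IsPullback.of_hasPullback (f ≫ q) g).flip
  have sq : IsPullback f' (pullback.fst (f ≫ q) g) (pullback.fst q g) f :=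
    IsPullback.of_right s h1 (IsPullback.of_hasPullback q g).flip
  have hY : SGA1.UnivSubmersive (pullback.fst q g) :=
    univSubmersive_of_isPullback hg (IsPullback.of_hasPullback q g)
  have hq := isQuotientMap_of_univSubmersive hY
  refine ⟨isOpenMap_of_isPullback sq hq, isClosedMap_of_isPullback sq hq,
    universallyOpen_of_isPullback sq hY, universallyClosed_of_isPullback sq hY,
    isSeparated_of_isPullback sq hY, ?_⟩
  intro _ hlft hprop
  have := isSeparated_of_isPullback sq hY hprop.toIsSeparated
  have := universallyClosed_of_isPullback sq hY hprop.toUniversallyClosed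
  exact { }

end Groth.Agent.S2917
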