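import Groth.Statements.S5172
import Groth.Agent.Lib.Helper16.RelCodim
import Groth.Agent.Lib.Helper16.DepthLocalize

set_option autoImplicit false
universe u
open LocCoh

namespace Groth.Agent.S5172

section helpers
open LocCoh

theorem result_aux (R : Type u) [CommRing R] [IsRegularRing R] (A : Type u) [CommRing A] [IsNoetherianRing A] (π : R →+* A) (hπ : Function.Surjective π) (I : Ideal A) (M : Type u) [AddCommGroup M] [Module A M] [Module.Finite A M] (n : ℕ) : (∀ p : PrimeSpectrum A, ¬ I ≤ p.asIdeal → (n : ℕ∞) < LocCoh.depth (Localization.AtPrime p.asIdeal) (LocalizedModule p.asIdeal.primeCompl M) + SGA2.relCodim I p) ↔ (∀ p : PrimeSpectrum A, ¬ I ≤ p.asIdeal → SGA2.relCodim I p = 1 → (n : ℕ∞) ≤ LocCoh.depth (Localization.AtPrime p.asIdeal) (LocalizedModule p.asIdeal.primeCompl M)) := by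
  constructor
  · intro h p hIp hc
    have h1 := h p hIp
    rw [hc] at h1
    by_cases htop : LocCoh.depth (Localization.AtPrime p.asIdeal) (LocalizedModule p.asIdeal.primeCompl M) = ⊤
    · rw [htop]; exact le_top
    · exact (ENat.lt_add_one_iff htop).mp h1
  · intro h p hIp
    rcases hc : SGA2.relCodim I p with _ | c
    · change (n : ℕ∞) < _ + ⊤
      rw [add_top]
      exact ENat.natCast_lt_top n
    · change (n : ℕ∞) < _ + ((c : ℕ) : ℕ∞)
      obtain ⟨q, hpq, hIq, hcq, hht⟩ := Groth.Agent.Lib.Helper16.RC.exists_relCodim_eq_one I p hIp c hc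
      have h1 := h q hIq hcq
      have h2 := Groth.Agent.Lib.Helper16.Depth.depth_localization_le_add_height M p.asIdeal q.asIdeal hpq
      rw [← hht, ← add_assoc]
      rw [← ENat.add_one_le_iff (ENat.natCast_ne_top n)]
      exact add_le_add (h1.trans h2) le_rfl

end helpers

/-- Let A be a Noetherian ring which is a quotient of a regular ring, I an ideal, M a finite A-module
and n ≥ 0; c(p) = codim(V(p) ∩ V(I), V(p)). Then depth M_p > n − c(p) for all primes p ⊉ I if and
only if depth M_p ≥ n for all primes p ⊉ I with c(p) = 1. -/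
theorem result (R : Type u) [CommRing R] [IsRegularRing R] (A : Type u) [CommRing A] [IsNoetherianRing A] (π : R →+* A) (hπ : Function.Surjective π) (I : Ideal A) (M : Type u) [AddCommGroup M] [Module A M] [Module.Finite A M] (n : ℕ) : (∀ p : PrimeSpectrum A, ¬ I ≤ p.asIdeal → (n : ℕ∞) < LocCoh.depth (Localization.AtPrime p.asIdeal) (LocalizedModule p.asIdeal.primeCompl M) + SGA2.relCodim I p) ↔ (∀ p : PrimeSpectrum A, ¬ I ≤ p.asIdeal → SGA2.relCodim I p = 1 → (n : ℕ∞) ≤ LocCoh.depth (Localization.AtPrime p.asIdeal) (LocalizedModule p.asIdeal.primeCompl M)) := by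
  exact result_aux R A π hπ I M n

end Groth.Agent.S5172
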