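import Groth.Statements.S2930
import Groth.Agent.Lib.Helper16.FaltingsFinite
import Groth.Agent.Lib.Helper16.RelCodimCovBy
import Groth.Agent.S5172

set_option autoImplicit false
universe u
open LocCoh

namespace Groth.Agent.S2930

section helpers
open LocCoh

theorem result_aux (R : Type u) [CommRing R] [IsRegularRing R] (A : Type u) [CommRing A] [IsNoetherianRing A] (π : R →+* A) (hπ : Function.Surjective π) (I : Ideal A) (M : Type u) [AddCommGroup M] [Module A M] [Module.Finite A M] (n : ℕ) : (∀ i : ℕ, i ≤ n → Module.Finite A (LocCoh.H I i M)) ↔ ∀ p q : PrimeSpectrum A, ¬ I ≤ p.asIdeal → I ≤ q.asIdeal → p ⋖ q → (n : ℕ∞) ≤ LocCoh.depth (Localization.AtPrime p.asIdeal) (LocalizedModule p.asIdeal.primeCompl M) := by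
  rw [Groth.Agent.Lib.Helper16.FF.finite_iff_forall_lt_depth_add_relCodim R A π hπ I M n,
    Groth.Agent.S5172.result R A π hπ I M n]
  constructor
  · intro h p q hIp hIq hpq
    exact h p hIp ((Groth.Agent.Lib.Helper16.RC.relCodim_eq_one_iff_exists_covBy I p hIp).mpr ⟨q, hIq, hpq⟩)
  · intro h p hIp hc
    obtain ⟨q, hIq, hpq⟩ := (Groth.Agent.Lib.Helper16.RC.relCodim_eq_one_iff_exists_covBy I p hIp).mp hc
    exact h p q hIp hIq hpq

end helpers

/-- (ii)⇔(iii): Let A be a Noetherian ring which is a quotient of a regular ring, I an ideal, M a finite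
A-module and n ≥ 0. Then H^i_I(M) is a finite A-module for every i ≤ n if and only if depth M_p ≥ n
for every prime p not containing I for which V(p) ∩ V(I) has codimension 1 in V(p), i.e. for which
there is a prime q ⊇ I covering p. -/
theorem result (R : Type u) [CommRing R] [IsRegularRing R] (A : Type u) [CommRing A] [IsNoetherianRing A] (π : R →+* A) (hπ : Function.Surjective π) (I : Ideal A) (M : Type u) [AddCommGroup M] [Module A M] [Module.Finite A M] (n : ℕ) : (∀ i : ℕ, i ≤ n → Module.Finite A (LocCoh.H I i M)) ↔ ∀ p q : PrimeSpectrum A, ¬ I ≤ p.asIdeal → I ≤ q.asIdeal → p ⋖ q → (n : ℕ∞) ≤ LocCoh.depth (Localization.AtPrime p.asIdeal) (LocalizedModule p.asIdeal.primeCompl M) := by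
  exact result_aux R A π hπ I M n

end Groth.Agent.S2930
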