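import Groth.Statements.S2931
import Groth.Agent.Lib.Helper16.FaltingsFinite
import Groth.Agent.Lib.Helper16.Catenary
import Groth.Agent.Lib.Helper16.SupportLocalize
import Groth.Agent.Lib.Helper18.CM5

set_option autoImplicit false
universe u
open LocCoh

namespace Groth.Agent.S2931

section helpers
open LocCoh

theorem result_aux (R : Type u) [CommRing R] [IsRegularRing R] (A : Type u) [CommRing A] [IsNoetherianRing A] (π : R →+* A) (hπ : Function.Surjective π) (I : Ideal A) (M : Type u) [AddCommGroup M] [Module A M] [Module.Finite A M] (hCM : ∀ p : PrimeSpectrum A, ¬ I ≤ p.asIdeal → Subsingleton (LocalizedModule p.asIdeal.primeCompl M) ∨ LocCoh.IsCohenMacaulayModule (Localization.AtPrime p.asIdeal) (LocalizedModule p.asIdeal.primeCompl M)) (n : ℕ) : (∀ i : ℕ, i ≤ n → Module.Finite A (LocCoh.H I i M)) ↔ ∀ p : PrimeSpectrum A, ¬ I ≤ p.asIdeal → p.asIdeal ∈ (Module.annihilator A M).minimalPrimes → (n : ℕ∞) < SGA2.relCodim I p := by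
  rw [Groth.Agent.Lib.Helper16.FF.finite_iff_forall_lt_depth_add_relCodim R A π hπ I M n]
  constructor
  · intro h p hIp hmin
    have h1 := h p hIp
    have hdim := Groth.Agent.Lib.Helper18.CM.supportDim_localizedModule_eq_zero_of_mem_minimalPrimes p.asIdeal M hmin
    have hsupp : p ∈ Module.support A M := Module.mem_support_iff_of_finite.mpr hmin.1.2
    have hnt : Nontrivial (LocalizedModule p.asIdeal.primeCompl M) := Module.mem_support_iff.mp hsupp
    have hdle := Groth.Agent.Lib.Helper18.CM.depth_le_supportDim (R := Localization.AtPrime p.asIdeal) (LocalizedModule p.asIdeal.primeCompl M)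
    rw [hdim] at hdle
    have hd0 : LocCoh.depth (Localization.AtPrime p.asIdeal) (LocalizedModule p.asIdeal.primeCompl M) = 0 := by
      have : LocCoh.depth (Localization.AtPrime p.asIdeal) (LocalizedModule p.asIdeal.primeCompl M) ≤ 0 := by
        exact_mod_cast hdle
      exact le_antisymm this bot_le
    rwa [hd0, zero_add] at h1
  · intro h p hIp
    by_cases hsub : Subsingleton (LocalizedModule p.asIdeal.primeCompl M)
    · rw [Groth.Agent.Lib.Helper18.CM.depth_eq_top_of_subsingleton, top_add]
      exact ENat.natCast_lt_top n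
    · have hCMp := (hCM p hIp).resolve_left hsub
      have hnt : Nontrivial (LocalizedModule p.asIdeal.primeCompl M) := not_subsingleton_iff_nontrivial.mp hsub
      have hsupp : p ∈ Module.support A M := Module.mem_support_iff.mpr hnt
      have hann : Module.annihilator A M ≤ p.asIdeal := Module.mem_support_iff_of_finite.mp hsupp
      obtain ⟨p0, hp0min, hp0le⟩ := Ideal.exists_minimalPrimes_le hann
      have hp0prime : p0.IsPrime := hp0min.1.1
      have hIp0 : ¬ I ≤ p0 := fun hI => hIp (hI.trans hp0le)
      have h1 := h ⟨p0, hp0prime⟩ hIp0 hp0min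
      have h2 := Groth.Agent.Lib.Helper16.Cat.relCodim_le_height_add_relCodim R A π hπ I ⟨p0, hp0prime⟩ p hp0le
      have h3 := Groth.Agent.Lib.Helper16.Supp.height_map_le_supportDim M p0 p.asIdeal hp0le hp0min.1.2
      unfold LocCoh.IsCohenMacaulayModule at hCMp
      rw [hCMp] at h3
      have h4 : (p.asIdeal.map (Ideal.Quotient.mk p0)).height ≤ LocCoh.depth (Localization.AtPrime p.asIdeal) (LocalizedModule p.asIdeal.primeCompl M) := by
        exact_mod_cast h3
      exact lt_of_lt_of_le h1 (h2.trans (add_le_add h4 le_rfl))

end helpers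

/-- Affine form (coherence of R^p i_*(F) for p < n being finiteness of H^i_I for i ≤ n). Let A be a
Noetherian ring which is a quotient of a regular ring, I an ideal and M a finite A-module such that
M_p is zero or Cohen–Macaulay for every prime p not containing I. Then H^i_I(M) is a finite A-module
for every i ≤ n if and only if for every prime p not containing I which is minimal in the support of
M, the codimension of V(p) ∩ V(I) in V(p) is greater than n. -/
theorem result (R : Type u) [CommRing R] [IsRegularRing R] (A : Type u) [CommRing A] [IsNoetherianRing A] (π : R →+* A) (hπ : Function.Surjective π) (I : Ideal A) (M : Type u) [AddCommGroup M] [Module A M] [Module.Finite A M] (hCM : ∀ p : PrimeSpectrum A, ¬ I ≤ p.asIdeal → Subsingleton (LocalizedModule p.asIdeal.primeCompl M) ∨ LocCoh.IsCohenMacaulayModule (Localization.AtPrime p.asIdeal) (LocalizedModule p.asIdeal.primeCompl M)) (n : ℕ) : (∀ i : ℕ, i ≤ n → Module.Finite A (LocCoh.H I i M)) ↔ ∀ p : PrimeSpectrum A, ¬ I ≤ p.asIdeal → p.asIdeal ∈ (Module.annihilator A M).minimalPrimes → (n : ℕ∞) < SGA2.relCodim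 I p := by
  exact result_aux R A π hπ I M hCM n

end Groth.Agent.S2931
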