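import Groth.Statements.S2952
-- import your own Groth.Agent.* helpers here

set_option autoImplicit false
open RootPairing
open scoped Pointwise
universe u
open RootD

namespace Groth.Agent.S2952

/-- For a finite crystallographic reduced root pairing over a characteristic-zero domain with a base b:
(1) the Weyl group is generated by the reflections in the simple roots; (2) every root is the image
of a simple root under an element of the Weyl group (acting on the indexing type). (The published
statement also covers the non-reduced case.) -/
theorem result {ι R M N : Type*} [CommRing R] [CharZero R] [IsDomain R] [AddCommGroup M] [Module R M]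
    [AddCommGroup N] [Module R N] (P : RootPairing ι R M N) [Finite ι] [P.IsCrystallographic] [P.IsReduced]
    (b : P.Base) :
    Subgroup.closure ((fun i : ι => Equiv.reflection P i) '' (b.support : Set ι)) = P.weylGroup ∧
    ∀ i : ι, ∃ g : P.Aut, g ∈ P.weylGroup ∧ ∃ j ∈ b.support, g • j = i := by
  have hwr : ∀ i, Equiv.weightHom P (Equiv.reflection P i) = P.reflection i := fun i => by
    simp
  have hneg : ∀ i, Equiv.reflection P (P.reflectionPerm i i) = Equiv.reflection P i := by
    intro i
    apply Equiv.weightHom_injective
    rw [hwr, hwr]
    ext x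
    simp [reflection_apply, two_smul]
  have hconj : ∀ i j, Equiv.reflection P (P.reflectionPerm j i) =
      Equiv.reflection P j * Equiv.reflection P i * Equiv.reflection P j := by
    intro i j
    apply Equiv.weightHom_injective
    rw [map_mul, map_mul, hwr, hwr, hwr, P.reflection_reflectionPerm]
  refine ⟨le_antisymm ?_ ?_, ?_⟩
  · exact Subgroup.closure_mono (by rintro _ ⟨i, _, rfl⟩; exact ⟨i, rfl⟩)
  · refine (Subgroup.closure_le _).mpr ?_
    rintro _ ⟨i, rfl⟩
    refine b.induction_reflect i (p := fun i => Equiv.reflection P i ∈
      Subgroup.closure ((fun i : ι => Equiv.reflection P i) '' (b.support : Set ι))) ?_ ?_ ?_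
    · intro i hi
      rw [hneg]
      exact hi
    · intro i hi
      exact Subgroup.subset_closure ⟨i, hi, rfl⟩
    · intro i j hi hj
      rw [hconj]
      have hj' := Subgroup.subset_closure (k := (fun i : ι => Equiv.reflection P i) '' (b.support : Set ι)) ⟨j, hj, rfl⟩
      exact mul_mem (mul_mem hj' hi) hj'
  · intro i
    refine b.induction_reflect i (p := fun i => ∃ g : P.Aut, g ∈ P.weylGroup ∧ ∃ j ∈ b.support, g • j = i) ?_ ?_ ?_
    · rintro i ⟨g, hg, j, hj, rfl⟩
      exact ⟨Equiv.reflection P (g • j) * g, mul_mem (P.reflection_mem_weylGroup _) hg, j, hj, by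
        rw [mul_smul]; rfl⟩
    · intro i hi
      exact ⟨1, one_mem _, i, hi, one_smul _ _⟩
    · rintro i k ⟨g, hg, j, hj, rfl⟩ hk
      exact ⟨Equiv.reflection P k * g, mul_mem (P.reflection_mem_weylGroup _) hg, j, hj, by
        rw [mul_smul]; rfl⟩

end Groth.Agent.S2952
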