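import Groth.Statements.S2955
-- import your own Groth.Agent.* helpers here

set_option autoImplicit false
open RootPairing
open scoped Pointwise Classical
universe u
open RootD

namespace Groth.Agent.S2955

/-- Let P be a finite crystallographic reduced root pairing over a domain of characteristic zero, with a
base b, and write 2ρ for the sum of the positive roots with respect to b. Then for every simple root
β (an index in the support of b) the reflection in β sends 2ρ to 2ρ − 2β (equivalently, the coroot
of β pairs to 1 with ρ; only the reflection identity is asserted). -/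
theorem result {ι R M N : Type*} [CommRing R] [CharZero R] [IsDomain R] [AddCommGroup M] [Module R M]
    [AddCommGroup N] [Module R N] (P : RootPairing ι R M N) [Finite ι] [P.IsCrystallographic] [P.IsReduced]
    [Fintype ι] (b : P.Base) (j : ι) (hj : j ∈ b.support) :
    P.reflection j (∑ i, if b.IsPos i then P.root i else 0) =
      (∑ i, if b.IsPos i then P.root i else 0) - (2 : R) • P.root j := by
  set σ := P.reflectionPerm j with hσ
  have hposj : b.IsPos j := RootPairing.Base.isPos_of_mem_support hj
  have hnposj : ¬ b.IsPos (σ j) := by
    have := (RootPairing.Base.IsPos.neg_iff_not b j).mp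
    intro h
    exact this h hposj
  have hne : j ≠ σ j := by
    intro h
    rw [← h] at hnposj
    exact hnposj hposj
  have hσσ : ∀ i, σ (σ i) = i := fun i => P.reflectionPerm_self j i
  have hiff : ∀ i, i ≠ j → i ≠ σ j → (b.IsPos i ↔ b.IsPos (σ i)) := by
    intro i h1 h2
    constructor
    · intro h
      exact h.reflectionPerm hj h1
    · intro h
      have h3 : σ i ≠ j := by
        intro h4
        apply h2
        rw [← h4, hσσ]
      have := h.reflectionPerm hj h3
      rwa [← hσ, hσσ] at this
  set F : ι → M := fun i => if b.IsPos i then P.root i else 0 with hF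
  rw [map_sum]
  have h1 : ∀ i, P.reflection j (F i) = F (σ i) + (P.reflection j (F i) - F (σ i)) := by
    intro i; abel
  rw [Finset.sum_congr rfl (fun i _ => h1 i), Finset.sum_add_distrib,
    Equiv.sum_comp σ F, sub_eq_add_neg]
  congr 1
  rw [Fintype.sum_eq_add j (σ j) hne]
  · simp only [hF, if_pos hposj, if_neg hnposj, hσσ, map_zero, sub_zero, zero_sub]
    rw [← P.root_reflectionPerm, ← hσ]
    have : P.root (σ j) = - P.root j := by
      rw [hσ, P.root_reflectionPerm, P.reflection_apply_self]
    rw [this, two_smul, neg_add]
  · rintro i ⟨hi1, hi2⟩
    simp only [hF]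
    by_cases hi : b.IsPos i
    · rw [if_pos hi, if_pos ((hiff i hi1 hi2).mp hi), hσ, P.root_reflectionPerm, sub_self]
    · rw [if_neg hi, if_neg (fun h => hi ((hiff i hi1 hi2).mpr h)), map_zero, sub_self]

end Groth.Agent.S2955
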