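import Groth.Statements.S2957
import Groth.Agent.Lib27.Root.Tits
import Groth.Agent.Lib.Helper4.IntPairing

set_option autoImplicit false
open RootPairing
open scoped Pointwise
universe u
open RootD

namespace Groth.Agent.S2957

open Groth.Agent.Lib.Helper4.RootDLib Groth.Agent.Lib27.Root

section aux

variable {ι R M N : Type*} [CommRing R] [AddCommGroup M] [Module R M]
    [AddCommGroup N] [Module R N]

/-- product of reflections along a word, over any base ring -/
noncomputable def wp (P : RootPairing ι R M N) (l : List ι) : P.Aut :=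
  (l.map fun a => Equiv.reflection P a).prod

lemma wp_smul_idx (P : RootPairing ι R M N) (l : List ι) (k : ι) :
    wp P l • k = ((l.map P.reflectionPerm).prod : Equiv.Perm ι) k := by
  induction l generalizing k with
  | nil => simp [wp]
  | cons a l ih =>
    have : wp P (a :: l) = Equiv.reflection P a * wp P l := by simp [wp]
    rw [this, mul_smul, ih, List.map_cons, List.prod_cons, Equiv.Perm.mul_apply]
    rfl

lemma wp_mem_weylGroup (P : RootPairing ι R M N) (l : List ι) : wp P l ∈ P.weylGroup := by
  apply Subgroup.list_prod_mem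
  intro x hx
  obtain ⟨a, -, rfl⟩ := List.mem_map.mp hx
  exact P.reflection_mem_weylGroup a

lemma list_prod_smul_idx {G H : Type*} [Group G] [Group H] [MulAction G ι] [MulAction H ι]
    (l₁ : List G) (l₂ : List H) (h : List.Forall₂ (fun g h => ∀ k : ι, g • k = h • k) l₁ l₂)
    (k : ι) : l₁.prod • k = l₂.prod • k := by
  induction h generalizing k with
  | nil => simp
  | cons hgh _ ih =>
    rw [List.prod_cons, List.prod_cons, mul_smul, mul_smul, ih, hgh]

end aux

/-- For a finite crystallographic reduced root pairing with a base b: let α, β be simple roots and w an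
element of the Weyl group with w(α) = β. Then there are simple roots α = α_0, ..., α_m = β and Weyl
group elements w_0, ..., w_{m-1} with w = w_{m-1} ... w_0, w_i(α_i) = α_{i+1}, and each w_i lying in
the subgroup generated by the reflections in α_i and in a simple root γ_i, where γ_i = α_{i+1}
whenever α_i ≠ α_{i+1}. -/
theorem result {ι R M N : Type*} [CommRing R] [CharZero R] [IsDomain R] [AddCommGroup M] [Module R M]
    [AddCommGroup N] [Module R N] (P : RootPairing ι R M N) [Finite ι] [P.IsCrystallographic] [P.IsReduced]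
    (b : P.Base) (α β : ι) (hα : α ∈ b.support) (hβ : β ∈ b.support) (w : P.Aut) (hw : w ∈ P.weylGroup)
    (hwα : w • α = β) :
    ∃ (m : ℕ) (a : Fin (m + 1) → ι) (ws : Fin m → P.Aut),
      (∀ i, a i ∈ b.support) ∧ a 0 = α ∧ a (Fin.last m) = β ∧
      (∀ i, ws i ∈ P.weylGroup) ∧
      w = (List.ofFn fun i : Fin m => ws (Fin.rev i)).prod ∧
      (∀ i : Fin m, ws i • a (Fin.castSucc i) = a (Fin.succ i)) ∧
      ∀ i : Fin m, ∃ γ ∈ b.support,
        ws i ∈ Subgroup.closure {Equiv.reflection P (a (Fin.castSucc i)), Equiv.reflection P γ} ∧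
        (a (Fin.castSucc i) ≠ a (Fin.succ i) → γ = a (Fin.succ i)) := by
  classical
  have hΔ := isSimpleSys_intPairing b
  obtain ⟨g', hg', hgg'⟩ := exists_intWeyl_of_weyl P hw
  rw [← reflSubgroup_simpleSys_eq_weylGroup hΔ] at hg'
  obtain ⟨l, hl, hlg⟩ := exists_word_of_mem_reflSubgroup hg'
  have hlα : wordProd (intPairing P) l • α = β := by
    rw [hlg, hgg', hwα]
  have hch := chain_of_word hΔ l.length l hl le_rfl α β (Finset.mem_coe.mpr hα)
    (Finset.mem_coe.mpr hβ) hlα
  obtain ⟨m, a, lus, γs, ha, ha0, hal, hγs, hlet, hprod, hstep, hγc⟩ :=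
    hch.exists_fin (Finset.mem_coe.mpr hα)
  have hidx : ∀ (l' : List ι) (k : ι), wp P l' • k = wordProd (intPairing P) l' • k := by
    intro l' k
    have h1 := wp_smul_idx P l' k
    have h2 := wp_smul_idx (intPairing P) l' k
    rw [h1]
    exact h2.symm
  refine ⟨m, a, fun i => wp P (lus i), fun i => Finset.mem_coe.mp (ha i), ha0, hal,
    fun i => wp_mem_weylGroup P _, ?_, ?_, ?_⟩
  · -- equality of Weyl group elements via the action on roots
    set W := (List.ofFn fun i : Fin m => wp P (lus (Fin.rev i))).prod with hW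
    have hWmem : W ∈ P.weylGroup := by
      apply Subgroup.list_prod_mem
      intro x hx
      obtain ⟨i, rfl⟩ := (List.mem_ofFn' _ _).mp hx
      exact wp_mem_weylGroup P _
    have hWk : ∀ k : ι, W • k = w • k := by
      intro k
      rw [← hgg', ← hlg, hprod, hW]
      apply list_prod_smul_idx
      rw [List.forall₂_iff_get]
      refine ⟨by simp, ?_⟩
      intro i h1 h2 k'
      simp only [List.get_eq_getElem, List.getElem_ofFn]
      exact hidx _ _
    have h1 : w⁻¹ * W = 1 := by
      apply gen_weylGroup_eq_one_of_fix P (mul_mem (inv_mem hw) hWmem)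
      intro k
      rw [mul_smul, hWk, inv_smul_smul]
    calc w = w * (w⁻¹ * W) := by rw [h1, mul_one]
      _ = W := by group
  · intro i
    rw [hidx]
    exact hstep i
  · intro i
    refine ⟨γs i, Finset.mem_coe.mp (hγs i), ?_, hγc i⟩
    apply Subgroup.list_prod_mem
    intro x hx
    obtain ⟨c, hc, rfl⟩ := List.mem_map.mp hx
    apply Subgroup.subset_closure
    rcases hlet i c hc with rfl | rfl
    · exact Set.mem_insert _ _
    · exact Set.mem_insert_of_mem _ rfl

end Groth.Agent.S2957
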