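import Groth.Statements.S2965
-- (no extra imports)

set_option autoImplicit false
universe u
open SGA3t2b

namespace Groth.Agent.S2965

open Polynomial

lemma ker_aeval_stable {A : Type u} [CommRing A] {M : Type u} [AddCommGroup M] [Module A M]
    (u : M →ₗ[A] M) (P Q : A[X]) (x : M) (hx : x ∈ LinearMap.ker (aeval u Q)) :
    aeval u P x ∈ LinearMap.ker (aeval u Q) := by
  rw [LinearMap.mem_ker] at hx ⊢
  have hc : Commute (aeval u Q) (aeval u P) := (Commute.all Q P).map (aeval u)
  have := congrArg (fun g : Module.End A M => g x) hc.eq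
  simp only [Module.End.mul_apply] at this
  rw [this, hx, map_zero]


open Polynomial in
/-- Implication (iv) ⇒ (i) (global form, finite free module): let u be an endomorphism of a finite free
module M over a commutative ring A whose characteristic polynomial is X^r · Q with Q(0) invertible.
Then M is the direct sum of two u-stable submodules M', M'' such that u is nilpotent on M' and
bijective on M''. -/
theorem result {A : Type u} [CommRing A] {M : Type u} [AddCommGroup M] [Module A M]
    [Module.Free A M] [Module.Finite A M] (u : M →ₗ[A] M) (r : ℕ) (Q : A[X]) (hQ : IsUnit (Q.coeff 0))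
    (h : u.charpoly = X ^ r * Q) :
    ∃ M' M'' : Submodule A M, IsCompl M' M'' ∧ (∀ x ∈ M', u x ∈ M') ∧ (∀ x ∈ M'', u x ∈ M'') ∧
      (∃ n : ℕ, ∀ x ∈ M', (u ^ n) x = 0) ∧ Set.BijOn u M'' M'' := by
  obtain ⟨c, hc⟩ := hQ.exists_left_inv
  set Q₁ := Q.divX with hQ₁
  have hQdecomp : Q₁ * X + C (Q.coeff 0) = Q := Polynomial.divX_mul_X_add Q
  have hsub : Q - Q₁ * X = C (Q.coeff 0) := by
    rw [sub_eq_iff_eq_add, add_comm]; exact hQdecomp.symm
  have hone : - C c * Q₁ * X + C c * Q = (1 : A[X]) := by
    have h2 : C c * C (Q.coeff 0) = (1 : A[X]) := by rw [← C_mul, hc, C_1]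
    calc - C c * Q₁ * X + C c * Q = C c * (Q - Q₁ * X) := by ring
      _ = C c * C (Q.coeff 0) := by rw [hsub]
      _ = 1 := h2
  have hXQ : IsCoprime (X : A[X]) Q := ⟨- C c * Q₁, C c, hone⟩
  have hcop : IsCoprime (X ^ r : A[X]) Q := hXQ.pow_left
  have hXu : aeval u (X : A[X]) = u := aeval_X u
  have hstab : ∀ (P : A[X]) (x : M), x ∈ LinearMap.ker (aeval u P) →
      u x ∈ LinearMap.ker (aeval u P) := by
    intro P x hx
    have := ker_aeval_stable u X P x hx
    rwa [hXu] at this
  refine ⟨LinearMap.ker (aeval u (X ^ r)), LinearMap.ker (aeval u Q), ⟨?_, ?_⟩, hstab _, hstab _,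
    ⟨r, ?_⟩, ?_⟩
  · exact disjoint_ker_aeval_of_isCoprime u hcop
  · rw [codisjoint_iff, sup_ker_aeval_eq_ker_aeval_mul_of_coprime u hcop, ← h,
      LinearMap.aeval_self_charpoly, LinearMap.ker_zero]
  · intro x hx
    rw [LinearMap.mem_ker, map_pow, hXu] at hx
    exact hx
  · -- bijectivity on M''
    set v : M →ₗ[A] M := aeval u (- C c * Q₁) with hv
    have hvu : ∀ x ∈ LinearMap.ker (aeval u Q), v (u x) = x := by
      intro x hx
      rw [LinearMap.mem_ker] at hx
      have h1 : aeval u (- C c * Q₁ * X + C c * Q) x = x := by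
        rw [hone, map_one, Module.End.one_apply]
      rw [map_add, LinearMap.add_apply, map_mul, Module.End.mul_apply, hXu, map_mul (aeval u) (C c) Q,
        Module.End.mul_apply, hx, map_zero, add_zero] at h1
      exact h1
    have huv : ∀ x : M, u (v x) = v (u x) := by
      intro x
      have hc' : Commute (aeval u (X : A[X])) (aeval u (- C c * Q₁)) :=
        (Commute.all X (- C c * Q₁)).map (aeval u)
      rw [hXu] at hc'
      have := congrArg (fun g : Module.End A M => g x) hc'.eq
      simpa only [Module.End.mul_apply] using this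
    refine ⟨fun x hx => hstab Q x hx, ?_, ?_⟩
    · intro x hx y hy hxy
      rw [← hvu x hx, ← hvu y hy, hxy]
    · intro y hy
      refine ⟨v y, ker_aeval_stable u _ Q y hy, ?_⟩
      rw [huv, hvu y hy]

end Groth.Agent.S2965
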