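import Groth.Statements.S2966
import Groth.Agent.Lib.Helper7.UnipNoPrim

set_option autoImplicit false
universe u
open scoped TensorProduct
open SGA3t2b

namespace Groth.Agent.S2966

open Groth.Agent.Lib.Helper7.UnipNoPrim Groth.Agent.Lib.Helper7.DiagCocomm
  Groth.Agent.Lib.Helper7.HopfSub Groth.Agent.Lib.Helper7.HopfMap Groth.Agent.Lib.Helper7.UnipExt

theorem map_id_surjective {k : Type u} [Field k] {K : Type u} [Field K] [Algebra k K]
    {H H' : Type u} [CommRing H] [CommRing H'] [Bialgebra k H] [Bialgebra k H']
    (f : H →ₐc[k] H') (hf : Function.Surjective f) :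
    Function.Surjective (Bialgebra.TensorProduct.map (BialgHom.id K K) f) := by
  intro x
  induction x using TensorProduct.induction_on with
  | zero => exact ⟨0, map_zero _⟩
  | tmul c y =>
    obtain ⟨a, rfl⟩ := hf y
    exact ⟨c ⊗ₜ[k] a, rfl⟩
  | add y z hy hz =>
    obtain ⟨y', rfl⟩ := hy
    obtain ⟨z', rfl⟩ := hz
    exact ⟨y' + z', map_add _ _ _⟩


/-- In Hopf-algebra form (with unipotent taken in the representation-theoretic sense: affine and every
non-zero finite-dimensional representation has a non-zero fixed vector): let k be a field, A_M the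
coordinate Hopf algebra of an affine k-group M of finite type which is of multiplicative type in the
sense that it becomes diagonalisable over an algebraic closure of k, and A_U that of a unipotent
affine k-group U of finite type. Then (i) every homomorphism M -> U and (ii) every homomorphism U ->
M is trivial: every bialgebra map A_U -> A_M, resp. A_M -> A_U, factors through the counit. -/
theorem result {k : Type u} [Field k] {AM AU : Type u} [CommRing AM] [CommRing AU]
    [HopfAlgebra k AM] [HopfAlgebra k AU] [Algebra.FiniteType k AM] [Algebra.FiniteType k AU]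
    (hM : HopfRep.IsDiagonalizable (AlgebraicClosure k) (AlgebraicClosure k ⊗[k] AM)) (hU : HopfRep.IsUnipotent k AU) :
    (∀ φ : AU →ₐc[k] AM, SGA3t2b.IsTrivialBialgHom φ) ∧ (∀ ψ : AM →ₐc[k] AU, SGA3t2b.IsTrivialBialgHom ψ) := by
  have hMprim : ∀ f : AM, Coalgebra.comul (R := k) f = f ⊗ₜ[k] (1 : AM) + (1 : AM) ⊗ₜ[k] f →
      f = 0 :=
    primitive_eq_zero_of_baseChange (K := AlgebraicClosure k)
      (primitive_eq_zero_of_isDiagonalizable hM)
  constructor
  · intro φ a
    have hC := isHopfSub_range φ
    letI := hopfAlgebra hC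
    have hCu : HopfRep.IsUnipotent k ↥(φ : AU →ₐ[k] AM).range :=
      isUnipotent_of_surjective (rangeRestrictBialgHom φ) (rangeRestrictBialgHom_surjective φ) hU
    have hCp : ∀ p : ↥(φ : AU →ₐ[k] AM).range, Coalgebra.comul (R := k) p =
        p ⊗ₜ[k] (1 : ↥(φ : AU →ₐ[k] AM).range) + (1 : ↥(φ : AU →ₐ[k] AM).range) ⊗ₜ[k] p →
        p = 0 := fun p hp => Subtype.ext (hMprim _ (primitive_val hC p hp))
    have h1 := eq_counit_smul_one_of_isUnipotent hCu hCp (rangeRestrictBialgHom φ a)
    have h2 := congrArg Subtype.val h1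
    rw [rangeRestrictBialgHom_apply] at h2
    rw [h2, Algebra.algebraMap_eq_smul_one]
    have h3 : Coalgebra.counit (R := k) (rangeRestrictBialgHom φ a) =
        Coalgebra.counit (R := k) a := CoalgHomClass.counit_comp_apply (rangeRestrictBialgHom φ) a
    rw [h3]
    rfl
  · intro ψ a
    have hC := isHopfSub_range ψ
    letI := hopfAlgebra hC
    have hCu : HopfRep.IsUnipotent k ↥(ψ : AM →ₐ[k] AU).range :=
      isUnipotent_of_injective (valBialgHom hC) Subtype.val_injective hU
    have hdiag : HopfRep.IsDiagonalizable (AlgebraicClosure k)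
        (AlgebraicClosure k ⊗[k] ↥(ψ : AM →ₐ[k] AU).range) :=
      isDiagonalizable_of_surjective
        (Bialgebra.TensorProduct.map (BialgHom.id (AlgebraicClosure k) (AlgebraicClosure k))
          (rangeRestrictBialgHom ψ))
        (map_id_surjective _ (rangeRestrictBialgHom_surjective ψ)) hM
    have hCp : ∀ p : ↥(ψ : AM →ₐ[k] AU).range, Coalgebra.comul (R := k) p =
        p ⊗ₜ[k] (1 : ↥(ψ : AM →ₐ[k] AU).range) + (1 : ↥(ψ : AM →ₐ[k] AU).range) ⊗ₜ[k] p →
        p = 0 :=
      primitive_eq_zero_of_baseChange (K := AlgebraicClosure k)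
        (primitive_eq_zero_of_isDiagonalizable hdiag)
    have h1 := eq_counit_smul_one_of_isUnipotent hCu hCp (rangeRestrictBialgHom ψ a)
    have h2 := congrArg Subtype.val h1
    rw [rangeRestrictBialgHom_apply] at h2
    rw [h2, Algebra.algebraMap_eq_smul_one]
    have h3 : Coalgebra.counit (R := k) (rangeRestrictBialgHom ψ a) =
        Coalgebra.counit (R := k) a := CoalgHomClass.counit_comp_apply (rangeRestrictBialgHom ψ) a
    rw [h3]
    rfl

end Groth.Agent.S2966
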