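import Groth.Statements.S2967
-- (no extra imports)

set_option autoImplicit false
universe u
open SGA3t2b

namespace Groth.Agent.S2967


/-- A commutative p-Lie algebra over a field k of characteristic p is recorded as a k-vector space g
together with its p-th power map φ, which is additive and Frobenius-semilinear. Let g be
finite-dimensional and non-zero, and assume every element of g is killed by some iterate of φ (g is
unipotent). Then the k-subspace of g spanned by the image φ(g) is a proper subspace. -/
theorem result {k : Type u} [Field k] (p : ℕ) [Fact p.Prime] [CharP k p]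
    {V : Type u} [AddCommGroup V] [Module k V] [FiniteDimensional k V] [Nontrivial V]
    (φ : V →ₛₗ[frobenius k p] V) (hφ : ∀ x : V, ∃ n : ℕ, φ^[n] x = 0) :
    Submodule.span k (Set.range φ) ≠ ⊤ := by
  intro htop
  -- images of spanning sets span
  have himg : ∀ S : Set V, Submodule.span k S = ⊤ → Submodule.span k (φ '' S) = ⊤ := by
    intro S hS
    have hmem : ∀ x ∈ Submodule.span k S, φ x ∈ Submodule.span k (φ '' S) := by
      intro x hx
      induction hx using Submodule.span_induction with
      | mem x hx => exact Submodule.subset_span ⟨x, hx, rfl⟩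
      | zero => rw [map_zero]; exact Submodule.zero_mem _
      | add x y _ _ hx hy => rw [map_add]; exact Submodule.add_mem _ hx hy
      | smul c x _ hx => rw [map_smulₛₗ]; exact Submodule.smul_mem _ _ hx
    rw [eq_top_iff, ← htop, Submodule.span_le]
    rintro _ ⟨x, rfl⟩
    exact hmem x (by rw [hS]; trivial)
  -- Claim A
  have hA : ∀ n : ℕ, Submodule.span k (Set.range (φ^[n])) = ⊤ := by
    intro n
    induction n with
    | zero => simp
    | succ n ih =>
      have : Set.range (φ^[n + 1]) = φ '' Set.range (φ^[n]) := by
        rw [Function.iterate_succ', Set.range_comp]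
      rw [this]
      exact himg _ ih
  -- iterates
  have hzero : ∀ n : ℕ, φ^[n] 0 = 0 := fun n => iterate_map_zero φ n
  have hadd : ∀ n : ℕ, ∀ x y : V, φ^[n] (x + y) = φ^[n] x + φ^[n] y := fun n x y =>
    iterate_map_add φ n x y
  have hsmul : ∀ n : ℕ, ∀ (c : k) (x : V), ∃ c' : k, φ^[n] (c • x) = c' • φ^[n] x := by
    intro n
    induction n with
    | zero => intro c x; exact ⟨c, rfl⟩
    | succ n ih =>
      intro c x
      obtain ⟨c', hc'⟩ := ih c x
      refine ⟨frobenius k p c', ?_⟩
      rw [Function.iterate_succ', Function.comp_apply, Function.comp_apply, hc', map_smulₛₗ]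
  -- Claim B
  let b := Module.finBasis k V
  choose n hn using hφ
  set N := Finset.univ.sup (fun i => n (b i)) with hN
  have hb : ∀ i, φ^[N] (b i) = 0 := by
    intro i
    have hle : n (b i) ≤ N := Finset.le_sup (f := fun i => n (b i)) (Finset.mem_univ i)
    obtain ⟨m, hm⟩ := Nat.exists_eq_add_of_le hle
    rw [hm, add_comm, Function.iterate_add_apply, hn, hzero]
  let K : Submodule k V :=
    { carrier := {x | φ^[N] x = 0}
      add_mem' := fun {x y} hx hy => by
        simp only [Set.mem_ofPred_eq] at hx hy ⊢
        rw [hadd, hx, hy, add_zero]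
      zero_mem' := hzero N
      smul_mem' := fun c x hx => by
        simp only [Set.mem_ofPred_eq] at hx ⊢
        obtain ⟨c', hc'⟩ := hsmul N c x
        rw [hc', hx, smul_zero] }
  have hK : K = ⊤ := by
    rw [eq_top_iff, ← b.span_eq, Submodule.span_le]
    rintro _ ⟨i, rfl⟩
    exact hb i
  have hall : ∀ x : V, φ^[N] x = 0 := by
    intro x
    have : x ∈ K := by rw [hK]; trivial
    exact this
  have hrange : Set.range (φ^[N]) = {0} := by
    ext y
    constructor
    · rintro ⟨x, rfl⟩
      exact hall x
    · rintro rfl
      exact ⟨0, hzero N⟩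
  have := hA N
  rw [hrange, Submodule.span_singleton_eq_bot.mpr rfl] at this
  exact bot_ne_top this

end Groth.Agent.S2967
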