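import Groth.Statements.S2968
import Groth.Agent.Lib.Helper7.DerPow


set_option autoImplicit false
universe u
open SGA3t2b

namespace Groth.Agent.S2968

/-- In characteristic p, in Hopf-algebra form (with unipotent in the representation-theoretic sense
`HopfRep.IsUnipotent`): let k be a field of characteristic p > 0 and A a finite-type commutative
Hopf algebra over k (the coordinate Hopf algebra of an affine algebraic k-group) which is unipotent.
Then the Lie algebra of the group is a unipotent p-Lie algebra: for every ε-derivation D : A -> k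
there is n > 0 such that the iterated p-operation of D, computed here as the p^n-fold convolution
power of D (this is how the p-operation is rendered in this statement; its axioms are not proved
here), vanishes. -/
theorem result {k : Type u} [Field k] (p : ℕ) [Fact p.Prime] [CharP k p] {A : Type u} [CommRing A]
    [HopfAlgebra k A] [Algebra.FiniteType k A] (hU : HopfRep.IsUnipotent k A) (D : LieHopf.Lie k A) :
    ∃ n : ℕ, 0 < n ∧ LieHopf.convPow (D.toLinearMap.restrictScalars k ∘ₗ LinearMap.id) (p ^ n) = 0 := by
  classical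
  obtain ⟨C, hmono, h0, hsup, hΔ⟩ :=
    (Groth.Agent.Lib.Helper7.UnipFilt.isUnipotent_iff (k := k) (A := A)).1 hU
  set f : A →ₗ[k] k := (D.toLinearMap.restrictScalars k ∘ₗ LinearMap.id) with hf
  have hfD : ∀ a, f a = D a := fun a => rfl
  have hder : Groth.Agent.Lib.Helper7.DerPow.IsDer f := by
    intro a b
    rw [hfD, hfD, hfD, Derivation.leibniz, LieHopf.smul_def, LieHopf.smul_def]
    change (Coalgebra.counit (R := k) a : k) * _ + (Coalgebra.counit (R := k) b : k) * _ = _
    rw [mul_comm (Coalgebra.counit (R := k) b : k)]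
  have hf1 : f 1 = 0 := by
    rw [hfD]
    exact D.map_one_eq_zero
  have hdir : Directed (· ≤ ·) C := hmono.directed_le
  have hfin : ∀ S : Finset A, ∃ r, ∀ s ∈ S, s ∈ C r := by
    intro S
    induction S using Finset.induction_on with
    | empty => exact ⟨0, fun s hs => absurd hs (Finset.notMem_empty s)⟩
    | insert s S' hs ih =>
      have hs1 : s ∈ ⨆ r, C r := by rw [hsup]; trivial
      obtain ⟨r1, hr1⟩ := (Submodule.mem_iSup_of_directed C hdir).1 hs1
      obtain ⟨r2, hr2⟩ := ih
      refine ⟨max r1 r2, ?_⟩
      intro t ht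
      rcases Finset.mem_insert.1 ht with rfl | ht
      · exact hmono (le_max_left r1 r2) hr1
      · exact hmono (le_max_right r1 r2) (hr2 t ht)
  obtain ⟨S, hS⟩ := (Algebra.FiniteType.out : (⊤ : Subalgebra k A).FG)
  obtain ⟨r, hr⟩ := hfin S
  have hp : 1 < p := (Fact.out : p.Prime).one_lt
  refine ⟨r + 1, Nat.succ_pos r, ?_⟩
  have hlt : r < p ^ (r + 1) := lt_trans (Nat.lt_succ_self r) (Nat.lt_pow_self hp)
  set E := LieHopf.convPow f (p ^ (r + 1)) with hE
  have hEder : Groth.Agent.Lib.Helper7.DerPow.IsDer E :=
    Groth.Agent.Lib.Helper7.DerPow.isDer_convPow f hder p (r + 1)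
  have hEv : ∀ s ∈ S, E s = 0 := fun s hs =>
    Groth.Agent.Lib.Helper7.DerPow.convPow_vanish C h0 hΔ f hf1 _ r hlt s (hr s hs)
  have hE1 : E 1 = 0 := by
    have h1 : (1 : A) ∈ C 0 := by rw [h0]; exact Submodule.subset_span rfl
    exact Groth.Agent.Lib.Helper7.DerPow.convPow_vanish C h0 hΔ f hf1 _ 0
      (lt_of_le_of_lt (Nat.zero_le r) hlt) 1 h1
  apply LinearMap.ext
  intro a
  have ha : a ∈ Algebra.adjoin k (S : Set A) := by rw [hS]; trivial
  rw [LinearMap.zero_apply]
  induction ha using Algebra.adjoin_induction with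
  | mem x hx => exact hEv x hx
  | algebraMap c => rw [Algebra.algebraMap_eq_smul_one, map_smul, hE1, smul_zero]
  | add x y _ _ hx hy => rw [map_add, hx, hy, add_zero]
  | mul x y _ _ hx hy => rw [hEder x y, hx, hy, mul_zero, zero_mul, add_zero]

end Groth.Agent.S2968
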