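import Groth.Statements.S2978
import Mathlib.RingTheory.Noetherian.Basic
import Mathlib.RingTheory.Finiteness.Defs
import Mathlib.LinearAlgebra.Pi
-- import your own Groth.Agent.* helpers here

set_option autoImplicit false
universe u
open SGA3b

namespace Groth.Agent.S2978

/-- Let A be a Noetherian ring, M a set and a : M × M → A a family vanishing off the diagonal which is a
finite sum of decomposable families: a(m, m') = Σ_i b_i(m) c_i(m') for finitely many b_i, c_i : M →
A. Then a has finite support. -/
theorem result (A : Type u) [CommRing A] [IsNoetherianRing A] (M : Type u)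
    (a : M × M → A) (hdiag : ∀ m m', m ≠ m' → a (m, m') = 0)
    (ι : Type u) [Fintype ι] (b c : ι → M → A) (hdec : ∀ m m', a (m, m') = ∑ i, b i m * c i m') :
    Set.Finite {p : M × M | a p ≠ 0} := by
  classical
  let v : M → (ι → A) := fun m i => b i m
  have hfg : (Submodule.span A (Set.range v)).FG := IsNoetherian.noetherian _
  obtain ⟨s', hs', hspan⟩ := (Submodule.fg_span_iff_fg_span_finset_subset _).mp hfg
  choose g hg using fun x : s' => hs' x.2
  have hT : (Set.range g).Finite := Set.finite_range g
  refine (hT.image (fun m => (m, m))).subset ?_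
  rintro ⟨m, m'⟩ hp
  change a (m, m') ≠ 0 at hp
  have hmm : m = m' := by
    by_contra hne
    exact hp (hdiag m m' hne)
  subst hmm
  by_contra hnot
  apply hp
  have hmT : m ∉ Set.range g := fun hm => hnot ⟨m, hm, rfl⟩
  let φ : (ι → A) →ₗ[A] A := ∑ i, (c i m) • LinearMap.proj i
  have hφ : ∀ m'', φ (v m'') = a (m'', m) := by
    intro m''
    simp only [φ, LinearMap.sum_apply, LinearMap.smul_apply, LinearMap.proj_apply, v, hdec,
      smul_eq_mul]
    exact Finset.sum_congr rfl fun i _ => mul_comm _ _
  rw [← hφ]
  have hmem : v m ∈ Submodule.span A (↑s' : Set (ι → A)) := by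
    rw [← hspan]
    exact Submodule.subset_span ⟨m, rfl⟩
  have hle : Submodule.span A (↑s' : Set (ι → A)) ≤ LinearMap.ker φ := by
    rw [Submodule.span_le]
    intro x hx
    have hx' : v (g ⟨x, hx⟩) = x := hg ⟨x, hx⟩
    rw [SetLike.mem_coe, LinearMap.mem_ker, ← hx', hφ]
    apply hdiag
    rintro rfl
    exact hmT ⟨_, rfl⟩
  exact hle hmem

end Groth.Agent.S2978
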