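import Groth.Statements.S2979
import Groth.Agent.Lib.Helper7.FamDesc8


set_option autoImplicit false
universe u
open TensorProduct SGA3b
open SGA3b

namespace Groth.Agent.S2979

/-- Let R be a ring and I an ideal consisting of nilpotent elements. Every quasi-isotrivial (R/I)-group
of multiplicative type Spec A₀ is the base change of some quasi-isotrivial R-group of multiplicative
type Spec A. (Affine group schemes over an affine base are taken in Hopf-algebra form; base change
is the tensor product.) -/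
theorem result (R : Type u) [CommRing R] (I : Ideal R) (hI : ∀ x ∈ I, IsNilpotent x)
    (A₀ : Type u) [CommRing A₀] [HopfAlgebra (R ⧸ I) A₀] (h0 : IsQuasiIsotrivial (R ⧸ I) A₀) :
    ∃ (A : Type u) (_ : CommRing A) (_ : HopfAlgebra R A), IsQuasiIsotrivial R A ∧ Nonempty (((R ⧸ I) ⊗[R] A) ≃ₐc[R ⧸ I] A₀) := by
  classical
  obtain ⟨s', hs', hs'2⟩ := h0
  have hs : Ideal.span ((Ideal.Quotient.mk I) ⁻¹' s') = ⊤ :=
    Groth.Agent.Lib.Helper7.NilLift.span_preimage_eq_top R I hI s' hs'
  obtain ⟨t, hts, ht⟩ := (Ideal.span_eq_top_iff_finite _).1 hs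
  have hc := fun (i : (t : Set R)) =>
    Groth.Agent.Lib.Helper7.FFDesc.chart_lift R I hI A₀ i.1 (hs'2 _ (hts i.2))
  choose S iCR iAlgLoc iAlgR iTower M iGrp hEt hFF he₀ using hc
  have hflat : ∀ i, Module.Flat R (S i) := fun i =>
    Module.Flat.trans R (Localization.Away i.1) (S i)
  have hS : Groth.Agent.Lib.Helper7.NilLift.JointlyFaithful R S := by
    intro N _ _ hN
    refine ⟨fun x y => ?_⟩
    have key : ∀ v : N, v = 0 := by
      intro v
      apply Groth.Agent.Lib.Helper7.MultDesc.eq_zero_of_cover (t : Set R) ht v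
      intro f hf
      obtain ⟨i, rfl⟩ : ∃ i : (t : Set R), i.1 = f := ⟨⟨f, hf⟩, rfl⟩
      have h1 : Subsingleton (S i ⊗[Localization.Away i.1] (Localization.Away i.1 ⊗[R] N)) :=
        (TensorProduct.AlgebraTensorModule.cancelBaseChange R (Localization.Away i.1)
          (S i) (S i) N).injective.subsingleton
      have h2 : Subsingleton (Localization.Away i.1 ⊗[R] N) :=
        Module.FaithfullyFlat.lTensor_reflects_triviality (Localization.Away i.1) (S i) _
      exact Subsingleton.elim _ _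
    rw [key x, key y]
  have hk : Function.Surjective (algebraMap R (R ⧸ I)) := Ideal.Quotient.mk_surjective
  have hnil : ∀ x ∈ RingHom.ker (algebraMap R (R ⧸ I)), IsNilpotent x := by
    intro x hx
    apply hI
    rw [RingHom.mem_ker] at hx
    exact Ideal.Quotient.eq_zero_iff_mem.1 hx
  obtain ⟨A, iA, iH, hθ, hA⟩ := Groth.Agent.Lib.Helper7.FFDesc.exists_fam_lift hk hnil hS
    (fun i => (he₀ i).some)
  refine ⟨A, iA, iH, ⟨(t : Set R), ht, ?_⟩, hA⟩
  intro f hf
  obtain ⟨i, rfl⟩ : ∃ i : (t : Set R), i.1 = f := ⟨⟨f, hf⟩, rfl⟩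
  obtain ⟨θ⟩ := hθ i
  exact ⟨S i, inferInstance, inferInstance, hEt i, hFF i, M i, inferInstance,
    ⟨(Groth.Agent.Lib.Helper7.CancelBC.cancelBC R (Localization.Away i.1) (S i) A).trans θ⟩⟩

end Groth.Agent.S2979
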