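import Groth.Statements.S2981
import Groth.Agent.Lib.Helper7.DN7


set_option autoImplicit false
universe u
open TensorProduct SGA3b
open SGA3b

namespace Groth.Agent.S2981

/-- Let G = Spec A be an R-group of multiplicative type and of finite type. Then the kernels ₙG of the
n-th power maps, n > 0, form a schematically dense family: over every basic open D(a) of G, the
intersection of the (extended) ideals of the ₙG is zero. (Affine group schemes over an affine base
are taken in Hopf-algebra form; base change is the tensor product.) -/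
theorem result (R : Type u) [CommRing R] (A : Type u) [CommRing A] [HopfAlgebra R A] (hft : Algebra.FiniteType R A) (h : IsMultType R A) :
    ∀ a : A, ⨅ n : {n : ℕ // 0 < n}, Ideal.map (algebraMap A (Localization.Away a)) (torsionIdeal R A n.1) = ⊥ := by
  intro a
  rw [eq_bot_iff]
  intro ξ hξ
  rw [Ideal.mem_iInf] at hξ
  rw [Ideal.mem_bot]
  obtain ⟨y, s, rfl⟩ := IsLocalization.exists_mk'_eq (Submonoid.powers a) ξ
  have hy : ∀ n : ℕ, 0 < n → ∃ t : ℕ, a ^ t * y ∈ torsionIdeal R A n := by
    intro n hn
    have h1 := hξ ⟨n, hn⟩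
    have h2 : algebraMap A (Localization.Away a) y ∈
        Ideal.map (algebraMap A (Localization.Away a)) (torsionIdeal R A n) := by
      have := Ideal.mul_mem_right (algebraMap A (Localization.Away a) s.1) _ h1
      rwa [IsLocalization.mk'_spec] at this
    rw [IsLocalization.mem_map_algebraMap_iff (Submonoid.powers a)] at h2
    obtain ⟨⟨i, s'⟩, h3⟩ := h2
    rw [← map_mul] at h3
    obtain ⟨c', h4⟩ := (IsLocalization.eq_iff_exists (Submonoid.powers a) _).mp h3
    obtain ⟨k1, hk1⟩ := c'.2
    obtain ⟨k2, hk2⟩ := s'.2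
    refine ⟨k1 + k2, ?_⟩
    have : a ^ (k1 + k2) * y = c'.1 * i.1 := by
      rw [← h4, ← hk1, ← hk2]
      ring
    rw [this]
    exact Ideal.mul_mem_left _ _ i.2
  obtain ⟨t, ht⟩ := Groth.Agent.Lib.Helper7.Dens.exists_pow_mul_eq_zero hft h a y hy
  rw [IsLocalization.mk'_eq_zero_iff]
  exact ⟨⟨a ^ t, t, rfl⟩, ht⟩

end Groth.Agent.S2981
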