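import Groth.Statements.S2985
import Groth.Agent.Lib.Helper7.RG3


set_option autoImplicit false
universe u
open TensorProduct SGA3b
open SGA3b

namespace Groth.Agent.S2985

/-- Case of a commutative target, over a local base: Let R be a local ring, H = Spec A an R-group of
multiplicative type and of finite type, G = Spec C a commutative affine R-group (C cocommutative)
with C of finite presentation over R, and u, v : H ⟶ G homomorphisms (bialgebra maps φ, ψ : C → A)
which agree on the closed fibre: φ c − ψ c lies in 𝔪A for every c. Then u = v. (Affine group schemes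
over an affine base are taken in Hopf-algebra form; base change is the tensor product.) -/
theorem result (R : Type u) [CommRing R] (A : Type u) [CommRing A] [HopfAlgebra R A] [IsLocalRing R] (hft : Algebra.FiniteType R A) (h : IsMultType R A)
    (C : Type u) [CommRing C] [HopfAlgebra R C] [Coalgebra.IsCocomm R C] (hC : Algebra.FinitePresentation R C)
    (φ ψ : C →ₐc[R] A) (hs : ∀ c : C, φ c - ψ c ∈ Ideal.map (algebraMap R A) (IsLocalRing.maximalIdeal R)) :
    φ = ψ := by
  obtain ⟨T₀, hT₀⟩ := Groth.Agent.Lib.Helper7.Rigid.exists_finset_of_finiteType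
    (haveI := hC; Algebra.FiniteType.of_finitePresentation (R := R) (A := C)) (φ : C →ₐ[R] A) (ψ : C →ₐ[R] A)
  exact Groth.Agent.Lib.Helper7.Rigid.eq_of_cocomm R A C h φ ψ ⟨T₀, fun c => hT₀ c⟩ hs

end Groth.Agent.S2985
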