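import Groth.Statements.S3021
import Mathlib
import Groth.Agent.Lib.Helper7.Comod

set_option autoImplicit false
universe u
open CategoryTheory MonoidalCategory CartesianMonoidalCategory MonObj GrpObj AlgebraicGeometry TensorProduct
open SGA3

namespace Groth.Agent.S3021

open TensorProduct HopfRep Groth.Agent.Lib.Helper7.Comod
open TensorProduct HopfRep Groth.Agent.Lib.Helper7.Comod

variable {A : Type u} [CommRing A] {C : Type u} [AddCommGroup C] [Module A C] [Coalgebra A C]
variable {V : Type u} [AddCommGroup V] [Module A V] [Comod A C V]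

/-- contraction `V ⊗ C → V` against a functional -/
noncomputable def ctr (φ : C →ₗ[A] A) : V ⊗[A] C →ₗ[A] V :=
  (TensorProduct.rid A V).toLinearMap ∘ₗ LinearMap.lTensor V φ

omit [Coalgebra A C] [Comod A C V] in
lemma ctr_tmul (φ : C →ₗ[A] A) (v : V) (c : C) : ctr φ (v ⊗ₜ[A] c) = φ c • v := by
  simp [ctr]

noncomputable def contractLast' (φ : C →ₗ[A] A) : V ⊗[A] (C ⊗[A] C) →ₗ[A] V ⊗[A] C :=
  LinearMap.lTensor V ((TensorProduct.rid A C).toLinearMap ∘ₗ LinearMap.lTensor C φ)

omit [Coalgebra A C] [Comod A C V] in
lemma contractLast'_assoc_tmul (φ : C →ₗ[A] A) (y : V ⊗[A] C) (c : C) :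
    contractLast' φ ((TensorProduct.assoc A V C C) (y ⊗ₜ[A] c)) = φ c • y := by
  induction y using TensorProduct.induction_on with
  | zero => simp
  | tmul w a => simp [contractLast', TensorProduct.smul_tmul', TensorProduct.tmul_smul]
  | add x y hx hy => rw [TensorProduct.add_tmul, map_add, map_add, hx, hy, smul_add]

lemma coact_ctr (φ : C →ₗ[A] A) (m : V) :
    (Comod.coact (k := A) (A := C) (V := V)) (ctr φ ((Comod.coact (k := A) (A := C) (V := V)) m)) =
      contractLast' φ (LinearMap.lTensor V (CoalgebraStruct.comul (R := A) (A := C)) ((Comod.coact (k := A) (A := C) (V := V)) m)) := by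
  have hco := LinearMap.congr_fun (Comod.coassoc (k := A) (A := C) (V := V)) m
  simp only [LinearMap.comp_apply, LinearEquiv.coe_coe] at hco
  rw [← hco]
  generalize (Comod.coact (k := A) (A := C) (V := V)) m = y
  induction y using TensorProduct.induction_on with
  | zero => simp
  | tmul v c => rw [ctr_tmul, map_smul, LinearMap.rTensor_tmul, contractLast'_assoc_tmul]
  | add x y hx hy => simp only [map_add, hx, hy]

omit [Comod A C V] in
lemma ctr_contractLast' (φ φ' : C →ₗ[A] A) (x : V ⊗[A] C) :
    ctr φ' (contractLast' φ (LinearMap.lTensor V (CoalgebraStruct.comul (R := A) (A := C)) x)) =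
      ctr (φ' ∘ₗ (TensorProduct.rid A C).toLinearMap ∘ₗ LinearMap.lTensor C φ ∘ₗ
        CoalgebraStruct.comul (R := A) (A := C)) x := by
  induction x using TensorProduct.induction_on with
  | zero => simp
  | tmul v c => simp [contractLast', ctr_tmul]
  | add x y hx hy => simp only [map_add, hx, hy]

omit [Coalgebra A C] [Comod A C V] in
lemma exists_dual_family [Module.Projective A C] :
    ∃ φ : C → (C →ₗ[A] A), ∀ x : V ⊗[A] C, ∃ S : Finset C,
      (∀ c ∉ S, ctr (φ c) x = 0) ∧ x = ∑ c ∈ S, ctr (φ c) x ⊗ₜ[A] c := by
  classical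
  obtain ⟨s, hs⟩ := Module.projective_def'.mp ‹Module.Projective A C›
  refine ⟨fun c => Finsupp.lapply c ∘ₗ s, fun x => ?_⟩
  induction x using TensorProduct.induction_on with
  | zero => exact ⟨∅, by simp, by simp⟩
  | tmul v c' =>
    refine ⟨(s c').support, fun c hc => ?_, ?_⟩
    · rw [ctr_tmul]
      simp [Finsupp.notMem_support_iff.mp hc]
    · have h1 : c' = ∑ c ∈ (s c').support, (s c') c • c := by
        have := LinearMap.congr_fun hs c'
        simp only [LinearMap.comp_apply, Finsupp.linearCombination_apply, Finsupp.sum,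
          LinearMap.id_coe, id_eq] at this
        exact this.symm
      conv_lhs => rw [h1]
      rw [TensorProduct.tmul_sum]
      refine Finset.sum_congr rfl fun c _ => ?_
      rw [ctr_tmul, TensorProduct.tmul_smul, TensorProduct.smul_tmul']
      rfl
  | add x y hx hy =>
    obtain ⟨S1, h1, e1⟩ := hx
    obtain ⟨S2, h2, e2⟩ := hy
    refine ⟨S1 ∪ S2, fun c hc => ?_, ?_⟩
    · rw [map_add, h1 c (fun h => hc (Finset.mem_union_left _ h)),
        h2 c (fun h => hc (Finset.mem_union_right _ h)), add_zero]
    · simp only [map_add, TensorProduct.add_tmul, Finset.sum_add_distrib]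
      congr 1
      · conv_lhs => rw [e1]
        apply Finset.sum_subset Finset.subset_union_left
        intro c _ hc
        rw [h1 c hc, TensorProduct.zero_tmul]
      · conv_lhs => rw [e2]
        apply Finset.sum_subset Finset.subset_union_right
        intro c _ hc
        rw [h2 c hc, TensorProduct.zero_tmul]

omit [Coalgebra A C] [Comod A C V] in
lemma ctr_mem_of_mem_range {W' : Submodule A V} (φ : C →ₗ[A] A) {x : V ⊗[A] C}
    (hx : x ∈ LinearMap.range (W'.subtype.rTensor C)) : ctr φ x ∈ W' := by
  obtain ⟨y, rfl⟩ := hx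
  induction y using TensorProduct.induction_on with
  | zero => simp
  | tmul w c =>
    rw [LinearMap.rTensor_tmul, ctr_tmul]
    exact W'.smul_mem _ w.2
  | add x y hx hy =>
    rw [map_add, map_add]
    exact W'.add_mem hx hy

lemma ctr_counit (m : V) :
    ctr (CoalgebraStruct.counit (R := A) (A := C)) ((Comod.coact (k := A) (A := C) (V := V)) m) = m := by
  have := LinearMap.congr_fun (Comod.counit_comp (k := A) (A := C) (V := V)) m
  simp only [LinearMap.comp_apply] at this
  unfold ctr
  rw [LinearMap.comp_apply, this]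
  simp


/-- Let A be a commutative ring, C an A-coalgebra which is projective as an A-module, V a C-comodule and
M an A-submodule of V. Then there is a smallest subcomodule of V containing M, and it is finitely
generated over A when M is. -/
theorem result (A : Type u) [CommRing A] (C : Type u) [AddCommGroup C] [Module A C]
    [Coalgebra A C] [Module.Projective A C] (V : Type u) [AddCommGroup V] [Module A V] [HopfRep.Comod A C V]
    (M : Submodule A V) :
    ∃ W : Submodule A V, HopfRep.IsSubcomod (k := A) (A := C) W ∧ M ≤ W ∧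
      (∀ W' : Submodule A V, HopfRep.IsSubcomod (k := A) (A := C) W' → M ≤ W' → W ≤ W') ∧
      (M.FG → W.FG) := by
  classical
  obtain ⟨φ, hφ⟩ := exists_dual_family (A := A) (C := C) (V := V)
  set gens : Set V := {w | ∃ m ∈ M, ∃ ψ : C →ₗ[A] A, w = ctr ψ ((Comod.coact (k := A) (A := C) (V := V)) m)} with hgens
  refine ⟨Submodule.span A gens, ?_, ?_, ?_, ?_⟩
  · apply isSubcomod_span
    rintro w ⟨m, hm, ψ, rfl⟩
    obtain ⟨S, -, hS⟩ := hφ ((Comod.coact (k := A) (A := C) (V := V)) (ctr ψ ((Comod.coact (k := A) (A := C) (V := V)) m)))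
    rw [hS]
    refine Submodule.sum_mem _ fun c _ => ?_
    apply tmul_mem_range_rTensor
    apply Submodule.subset_span
    have h2 := ctr_contractLast' (V := V) ψ (φ c) ((Comod.coact (k := A) (A := C) (V := V)) m)
    rw [← coact_ctr] at h2
    exact ⟨m, hm, _, h2⟩
  · intro m hm
    apply Submodule.subset_span
    exact ⟨m, hm, _, (ctr_counit m).symm⟩
  · intro W' hW' hM
    rw [Submodule.span_le]
    rintro w ⟨m, hm, ψ, rfl⟩
    exact ctr_mem_of_mem_range ψ (hW' m (hM hm))
  · rintro ⟨T, hT⟩
    choose S hS0 hS using fun m : V => hφ ((Comod.coact (k := A) (A := C) (V := V)) m)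
    set fin : Finset V := T.biUnion fun m => (S m).image fun c => ctr (φ c) ((Comod.coact (k := A) (A := C) (V := V)) m) with hfin
    refine ⟨fin, ?_⟩
    apply le_antisymm
    · rw [Submodule.span_le]
      intro w hw
      rw [hfin, Finset.coe_biUnion] at hw
      simp only [Set.mem_iUnion, Finset.coe_image, Set.mem_image] at hw
      obtain ⟨m, hm, c, -, rfl⟩ := hw
      apply Submodule.subset_span
      refine ⟨m, ?_, φ c, rfl⟩
      rw [← hT]
      exact Submodule.subset_span hm
    · rw [Submodule.span_le]
      rintro w ⟨m, hm, ψ, rfl⟩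
      rw [← hT] at hm
      induction hm using Submodule.span_induction with
      | mem m hmT =>
        have := hS m
        rw [this, map_sum]
        refine Submodule.sum_mem _ fun c hc => ?_
        rw [ctr_tmul]
        apply Submodule.smul_mem
        apply Submodule.subset_span
        rw [hfin, Finset.coe_biUnion]
        simp only [Set.mem_iUnion, Finset.coe_image, Set.mem_image]
        exact ⟨m, hmT, c, hc, rfl⟩
      | zero => simp
      | add x y _ _ hx hy =>
        rw [map_add, map_add]
        exact Submodule.add_mem _ hx hy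
      | smul a x _ hx =>
        rw [map_smul, map_smul]
        exact Submodule.smul_mem _ a hx

end Groth.Agent.S3021
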