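import Groth.Statements.S3029
import Mathlib
import Groth.Agent.Lib.Helper6.GrpCM
-- import your own Groth.Agent.* helpers here

set_option autoImplicit false
universe u
open CategoryTheory MonoidalCategory CartesianMonoidalCategory MonObj GrpObj AlgebraicGeometry TensorProduct
open SGA3

namespace Groth.Agent.S3029

/-- Let G be a group scheme locally of finite type over a field k and x a point of G. Then the local
ring of G at x is Cohen–Macaulay. (This is the case of a base field; the published statement treats
flat groups over a local Artinian ring.) -/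
theorem result (k : Type u) [Field k] (G : Over (Spec (CommRingCat.of k))) [GrpObj G]
    [LocallyOfFiniteType G.hom] (x : G.left) :
    LocCoh.IsCohenMacaulayLocalRing (G.left.presheaf.stalk x) := by
  let Ω : Type u := AlgebraicClosure k
  let g : Spec (.of Ω) ⟶ Spec (.of k) := Spec.map (CommRingCat.ofHom <| algebraMap k Ω)
  let _ : GrpObj (Over.mk G.hom) := inferInstanceAs (GrpObj G)
  let _ : GrpObj (Over.mk (Limits.pullback.snd G.hom g)) := Over.grpObjMkPullbackSnd
  haveI : Surjective g := inferInstance
  obtain ⟨x', hx'⟩ := (Limits.pullback.fst G.hom g).surjective x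
  have h1 := Groth.Agent.Lib.Helper6.GrpCM.cm_of_grpObj_of_isAlgClosed
    (Limits.pullback.snd G.hom g) x'
  have h2 : MoreMor.IsCMAt (Limits.pullback.snd G.hom g) x' :=
    (Groth.Agent.Lib.Helper14.AS.cmAt_iff_of_stalksFields (Limits.pullback.snd G.hom g)
      (Groth.Agent.Lib.Helper14.AS.stalksFields_spec_field Ω) x').mpr h1
  have h3 : x' ∈ Groth.Agent.Lib.Helper6.CMConstr.Ecm (Limits.pullback.snd G.hom g) := h2.2
  rw [Groth.Agent.Lib.Helper6.CMConstr.Ecm_of_isPullback (Limits.pullback.snd G.hom g) G.hom
    (Limits.pullback.fst G.hom g) g (IsPullback.of_hasPullback G.hom g), Set.mem_preimage,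
    hx'] at h3
  have h4 : MoreMor.IsCMAt G.hom x :=
    ⟨Groth.Agent.Lib.Helper14.AS.flat_stalkMap_of_bot G.hom x
      (Groth.Agent.Lib.Helper14.AS.stalksFields_spec_field k _), h3⟩
  exact (Groth.Agent.Lib.Helper14.AS.cmAt_iff_of_stalksFields G.hom
    (Groth.Agent.Lib.Helper14.AS.stalksFields_spec_field k) x).mp h4

end Groth.Agent.S3029
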