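import Groth.Statements.S3031
import Mathlib
import Groth.Agent.Lib.Helper10.IdComp8
import Groth.Agent.Lib.Helper10.GenSub1

set_option autoImplicit false
universe u
open CategoryTheory MonoidalCategory CartesianMonoidalCategory MonObj GrpObj AlgebraicGeometry TensorProduct
open SGA3

namespace Groth.Agent.S3031

/-- With X connected and possessing a rational point over the identity, a case of 'geometrically
connected with e ∈ f(X)': let G be a group scheme over a field k, X a connected, geometrically
reduced k-scheme, x a k-point of X and f : X → G a k-morphism with f(x) the identity. Then the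
smallest closed subgroup scheme of G through which f factors is connected. -/
theorem result (k : Type u) [Field k] (G X : Over (Spec (CommRingCat.of k))) [GrpObj G]
    [GeometricallyReduced X.hom] [ConnectedSpace X.left] (x : 𝟙_ (Over (Spec (CommRingCat.of k))) ⟶ X) (f : X ⟶ G)
    (hx : x ≫ f = η[G])
    (Γ : Over (Spec (CommRingCat.of k))) [GrpObj Γ] (i : Γ ⟶ G) [IsMonHom i] [IsClosedImmersion i.left]
    (hf : ∃ f' : X ⟶ Γ, f' ≫ i = f)
    (hmin : ∀ (Γ' : Over (Spec (CommRingCat.of k))) (_ : GrpObj Γ') (i' : Γ' ⟶ G), IsMonHom i' → IsClosedImmersion i'.left →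
        (∃ f'' : X ⟶ Γ', f'' ≫ i' = f) → ∃ j : Γ ⟶ Γ', j ≫ i' = i) :
    ConnectedSpace Γ.left := by
  open Groth.Agent.Lib.Helper10.IdComp in
  obtain ⟨pt⟩ : Nonempty ↥(𝟙_ (Over (Spec (CommRingCat.of k)))).left :=
    inferInstanceAs (Nonempty (PrimeSpectrum k))
  obtain ⟨f', hf'⟩ := hf
  haveI : Mono i := Groth.Agent.Lib.Helper10.GenSub.mono_of_closedImmersion i
  have hxe : x ≫ f' = η[Γ] := by
    rw [← cancel_mono i, Category.assoc, hf', hx, IsMonHom.one_hom]
  have hsub : Set.range f'.left ⊆ Groth.Agent.Lib.Helper10.IdComp.Z0 k Γ pt := by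
    rw [← Groth.Agent.Lib.Helper10.IdComp.connectedComponent_unit_eq_Z0]
    apply (isPreconnected_range f'.left.continuous).subset_connectedComponent
    refine ⟨x.left pt, ?_⟩
    rw [← hxe]
    rfl
  obtain ⟨f'', hf''⟩ := Groth.Agent.Lib.Helper10.IdComp.exists_lift_idIncl k Γ pt f' hsub
  obtain ⟨str, hstr⟩ := Groth.Agent.Lib.Helper10.IdComp.exists_grpObj_idObj k Γ pt
  letI := str
  haveI := hstr
  haveI : IsClosedImmersion (Groth.Agent.Lib.Helper10.IdComp.idIncl k Γ pt ≫ i).left := by
    rw [Over.comp_left]; infer_instance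
  obtain ⟨j, hj⟩ := hmin (Groth.Agent.Lib.Helper10.IdComp.idObj k Γ pt) str
    (Groth.Agent.Lib.Helper10.IdComp.idIncl k Γ pt ≫ i) inferInstance inferInstance
    ⟨f'', by rw [← Category.assoc, hf'', hf']⟩
  have hji : j ≫ Groth.Agent.Lib.Helper10.IdComp.idIncl k Γ pt = 𝟙 Γ := by
    rw [← cancel_mono i, Category.assoc, hj, Category.id_comp]
  have hsurj : Function.Surjective (Groth.Agent.Lib.Helper10.IdComp.idIncl k Γ pt).left := by
    intro y
    refine ⟨j.left y, ?_⟩
    rw [← Scheme.Hom.comp_apply, ← Over.comp_left, hji]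
    rfl
  have huniv : Groth.Agent.Lib.Helper10.IdComp.Z0 k Γ pt = Set.univ := by
    rw [← Groth.Agent.Lib.Helper10.IdComp.range_idIncl]
    exact Set.range_eq_univ.mpr hsurj
  rw [← Groth.Agent.Lib.Helper10.IdComp.connectedComponent_unit_eq_Z0] at huniv
  have hc : _root_.IsConnected (Set.univ : Set Γ.left) := by
    rw [← huniv]; exact isConnected_connectedComponent
  exact connectedSpace_iff_univ.mpr hc

end Groth.Agent.S3031
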