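import Groth.Statements.S3032
import Groth.Agent.Lib.Helper7.ComodInd

set_option autoImplicit false
universe u
open CategoryTheory MonoidalCategory CartesianMonoidalCategory MonObj GrpObj AlgebraicGeometry TensorProduct
open SGA3

namespace Groth.Agent.S3032

open Groth.Agent.Lib.Helper7.Comod in
lemma exists_finset_mem_range {R : Type u} [CommRing R] {C : Type u} [AddCommGroup C] [Module R C]
    {V : Type u} [AddCommGroup V] [Module R V] (x : V ⊗[R] C) :
    ∃ T : Finset V, x ∈ LinearMap.range ((Submodule.span R (T : Set V)).subtype.rTensor C) := by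
  classical
  induction x using TensorProduct.induction_on with
  | zero => exact ⟨∅, Submodule.zero_mem _⟩
  | tmul v c =>
    refine ⟨{v}, ?_⟩
    have hv : v ∈ Submodule.span R ((({v} : Finset V)) : Set V) :=
      Submodule.subset_span (by simp)
    exact ⟨(⟨v, hv⟩ : Submodule.span R ((({v} : Finset V)) : Set V)) ⊗ₜ c, by simp⟩
  | add x y hx hy =>
    obtain ⟨T1, h1⟩ := hx
    obtain ⟨T2, h2⟩ := hy
    refine ⟨T1 ∪ T2, Submodule.add_mem _ ?_ ?_⟩
    · have hle : Submodule.span R (T1 : Set V) ≤ Submodule.span R ((T1 ∪ T2 : Finset V) : Set V) :=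
        Submodule.span_mono (by simp)
      obtain ⟨z, rfl⟩ := h1
      refine ⟨(Submodule.inclusion hle).rTensor C z, ?_⟩
      rw [← LinearMap.comp_apply, ← LinearMap.rTensor_comp]
      rfl
    · have hle : Submodule.span R (T2 : Set V) ≤ Submodule.span R ((T1 ∪ T2 : Finset V) : Set V) :=
        Submodule.span_mono (by simp)
      obtain ⟨z, rfl⟩ := h2
      refine ⟨(Submodule.inclusion hle).rTensor C z, ?_⟩
      rw [← LinearMap.comp_apply, ← LinearMap.rTensor_comp]
      rfl


/-- Let R be a Noetherian commutative ring, C an R-coalgebra which is flat as an R-module, V a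
C-comodule and M a finitely generated R-submodule of V. Then M is contained in a subcomodule of V
which is finitely generated over R. -/
theorem result (R : Type u) [CommRing R] [IsNoetherianRing R] (C : Type u) [AddCommGroup C]
    [Module R C] [Coalgebra R C] [Module.Flat R C] (V : Type u) [AddCommGroup V] [Module R V] [HopfRep.Comod R C V]
    (M : Submodule R V) (hM : M.FG) :
    ∃ W : Submodule R V, HopfRep.IsSubcomod (k := R) (A := C) W ∧ M ≤ W ∧ W.FG := by
  classical
  obtain ⟨s, hs⟩ := hM
  choose T hT using fun x : V ⊗[R] C => exists_finset_mem_range (R := R) (C := C) (V := V) x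
  set W0 : Submodule R V := Submodule.span R
    ((s.biUnion fun m => T (HopfRep.Comod.coact (k := R) (A := C) m) : Finset V) : Set V) with hW0
  have hW0fg : W0.FG := ⟨_, rfl⟩
  have hmono : ∀ {U U' : Submodule R V}, U ≤ U' →
      LinearMap.range (U.subtype.rTensor C) ≤ LinearMap.range (U'.subtype.rTensor C) := by
    intro U U' hle
    rintro _ ⟨z, rfl⟩
    refine ⟨(Submodule.inclusion hle).rTensor C z, ?_⟩
    rw [← LinearMap.comp_apply, ← LinearMap.rTensor_comp]
    rfl
  have hmem : ∀ m ∈ s, HopfRep.Comod.coact (k := R) (A := C) m ∈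
      LinearMap.range (W0.subtype.rTensor C) := by
    intro m hm
    refine hmono (Submodule.span_mono ?_) (hT _)
    intro x hx
    simp only [Finset.coe_biUnion, Set.mem_iUnion]
    exact ⟨m, hm, hx⟩
  set φ : V →ₗ[R] Hoch.Ind R C (V ⧸ W0) :=
    (Hoch.Ind.equiv R C (V ⧸ W0)).toLinearMap ∘ₗ W0.mkQ.rTensor C ∘ₗ
      HopfRep.Comod.coact (k := R) (A := C) with hφdef
  have hφ : Hoch.IsComodHom C φ := Groth.Agent.Lib.Helper7.Comod.isComodHom_ind_of_linear W0.mkQ
  have hWsub := Groth.Agent.Lib.Helper7.Comod.isSubcomod_ker hφ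
  have hex := rTensor_exact C (LinearMap.exact_subtype_mkQ W0) W0.mkQ_surjective
  have hWiff : ∀ v, v ∈ LinearMap.ker φ ↔ HopfRep.Comod.coact (k := R) (A := C) v ∈
      LinearMap.range (W0.subtype.rTensor C) := by
    intro v
    rw [LinearMap.mem_ker, hφdef, LinearMap.comp_apply, LinearMap.comp_apply,
      LinearEquiv.coe_coe, LinearEquiv.map_eq_zero_iff]
    exact hex _
  have hWle : LinearMap.ker φ ≤ W0 := by
    intro v hv
    obtain ⟨y, hy⟩ := (hWiff v).1 hv
    have hc := LinearMap.congr_fun (HopfRep.Comod.counit_comp (k := R) (A := C) (V := V)) v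
    simp only [LinearMap.comp_apply, LinearMap.flip_apply, TensorProduct.mk_apply] at hc
    have h1 : v = TensorProduct.rid R V ((Coalgebra.counit (R := R) (A := C)).lTensor V
        (HopfRep.Comod.coact (k := R) (A := C) v)) := by
      rw [hc, TensorProduct.rid_tmul, one_smul]
    rw [h1, ← hy]
    have h2 : ∀ z : ↥W0 ⊗[R] C, TensorProduct.rid R V ((Coalgebra.counit (R := R) (A := C)).lTensor V
        (W0.subtype.rTensor C z)) ∈ W0 := by
      intro z
      induction z using TensorProduct.induction_on with
      | zero => simp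
      | tmul w c =>
        rw [LinearMap.rTensor_tmul, LinearMap.lTensor_tmul, TensorProduct.rid_tmul]
        exact W0.smul_mem _ w.2
      | add a b ha hb =>
        rw [map_add, map_add, map_add]
        exact W0.add_mem ha hb
    exact h2 y
  refine ⟨LinearMap.ker φ, hWsub, ?_, ?_⟩
  · rw [← hs, Submodule.span_le]
    intro m hm
    exact (hWiff m).2 (hmem m hm)
  · haveI : IsNoetherian R W0 := isNoetherian_of_fg_of_noetherian W0 hW0fg
    haveI : IsNoetherian R (LinearMap.ker φ) := isNoetherian_of_le hWle
    exact (Submodule.fg_top _).1 (IsNoetherian.noetherian _)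

end Groth.Agent.S3032
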