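import Groth.Statements.S3039
import Groth.Agent.Lib.Helper10.HomSp4

set_option autoImplicit false
universe u
open CategoryTheory MonoidalCategory CartesianMonoidalCategory MonObj GrpObj AlgebraicGeometry TensorProduct
open SGA3

namespace Groth.Agent.S3039

/-- Let G be a group scheme over a field k acting on a quasi-separated k-scheme X in such a way that the
morphism G ×_k X → X ×_k X, (g, x) ↦ (g·x, x) is surjective. Then every connected component of X is
irreducible. -/
theorem result (k : Type u) [Field k] (G X : Over (Spec (CommRingCat.of k))) [GrpObj G]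
    [QuasiSeparatedSpace X.left] (a : AlgGrp.Action G X) (hΦ : Surjective (lift a.act (snd G X)).left) (x : X.left) :
    IsPreirreducible (connectedComponent x) := by
  obtain ⟨pt⟩ := Groth.Agent.Lib.Helper10.HomSp.exists_pt (k := k)
  have hCmem := irreducibleComponent_mem_irreducibleComponents x
  have hCcl : IsClosed (irreducibleComponent x) := isClosed_irreducibleComponent
  have huniq := fun v => Groth.Agent.Lib.Helper10.HomSp.uniqueComp_X a hΦ v
  suffices h : connectedComponent x = irreducibleComponent x by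
    rw [h]
    exact hCmem.1.isPreirreducible
  apply Set.Subset.antisymm
  swap
  · exact hCmem.1.isPreirreducible.isPreconnected.subset_connectedComponent
      mem_irreducibleComponent
  intro y hy
  by_contra hyC
  have hYmem := irreducibleComponent_mem_irreducibleComponents y
  have hYcl : IsClosed (irreducibleComponent y) := isClosed_irreducibleComponent
  have hdisj : ∀ v ∈ irreducibleComponent y, v ∉ irreducibleComponent x := by
    intro v hvY hvC
    apply hyC
    rw [← (huniq v) _ hYmem _ hCmem hvY hvC]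
    exact mem_irreducibleComponent
  -- the component of `x` is quasi-compact
  obtain ⟨_, ⟨U₀', hU₀', rfl⟩, hx₀, -⟩ := X.left.isBasis_affineOpens.exists_subset_of_mem_open
    (Set.mem_univ x) isOpen_univ
  obtain ⟨U₀, hU₀, hxU₀⟩ : ∃ U : X.left.Opens, IsAffineOpen U ∧ x ∈ U := ⟨_, hU₀', hx₀⟩
  have hCW₀ := Groth.Agent.Lib.Helper10.HomSp.comp_subset_smulSet_Z0 a pt hΦ
    (irreducibleComponent x) hCmem (U₀ : Set ↥X.left) U₀.isOpen
    ⟨x, mem_irreducibleComponent, hxU₀⟩
  have hCcpt : IsCompact (irreducibleComponent x) :=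
    (Groth.Agent.Lib.Helper10.HomSp.isCompact_smulSet_Z0 a pt U₀ hU₀.isCompact).of_isClosed_subset
      hCcl hCW₀
  -- a quasi-compact open neighbourhood of the component of `x` missing the component of `y`
  have hV : ∀ z ∈ irreducibleComponent x, ∃ V : X.left.Opens, IsAffineOpen V ∧ z ∈ V ∧
      (V : Set ↥X.left) ⊆ (irreducibleComponent y)ᶜ := by
    intro z hz
    obtain ⟨_, ⟨V, hVa, rfl⟩, hzV, hVY⟩ := X.left.isBasis_affineOpens.exists_subset_of_mem_open
      (show z ∈ (irreducibleComponent y)ᶜ from fun hzy => hdisj z hzy hz) hYcl.isOpen_compl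
    exact ⟨V, hVa, hzV, hVY⟩
  choose V hVa hzV hVY using hV
  obtain ⟨t, ht⟩ := hCcpt.elim_nhds_subcover' (fun z hz => (V z hz : Set ↥X.left))
    (fun z hz => (V z hz).isOpen.mem_nhds (hzV z hz))
  let Uset : Set ↥X.left := ⋃ z ∈ t, (V z.1 z.2 : Set ↥X.left)
  have hUopen : IsOpen Uset := isOpen_biUnion fun z _ => (V z.1 z.2).isOpen
  have hUcpt : IsCompact Uset := t.isCompact_biUnion fun z _ => (hVa z.1 z.2).isCompact
  have hUY : ∀ u ∈ Uset, u ∉ irreducibleComponent y := by
    intro u hu
    simp only [Uset, Set.mem_iUnion] at hu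
    obtain ⟨z, -, hz⟩ := hu
    exact hVY z.1 z.2 hz
  let UO : X.left.Opens := ⟨Uset, hUopen⟩
  have hretro : IsRetrocompact (UO : Set ↥X.left) := by
    intro W hWc hWo
    exact QuasiSeparatedSpace.inter_isCompact _ _ hUopen hUcpt hWo hWc
  have hW := Groth.Agent.Lib.Helper10.HomSp.smulSet_Z0_eq_closure a pt hΦ UO hretro
  have hWcl : IsClosed (Groth.Agent.Lib.Helper10.HomSp.smulSet a
      (Groth.Agent.Lib.Helper10.IdComp.Z0 k G pt) (UO : Set ↥X.left)) := by
    rw [hW]
    exact isClosed_closure
  have hWopen := Groth.Agent.Lib.Helper10.HomSp.isOpen_smulSet_Z0 a pt UO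
  have hxU : x ∈ (UO : Set ↥X.left) := ht mem_irreducibleComponent
  have hxW := Groth.Agent.Lib.Helper10.HomSp.subset_smulSet_Z0 a pt (UO : Set ↥X.left) hxU
  have hyW := (IsClopen.connectedComponent_subset ⟨hWcl, hWopen⟩ hxW) hy
  rw [Groth.Agent.Lib.Helper10.HomSp.smulSet_Z0_eq_sUnion a pt hΦ (UO : Set ↥X.left) hUopen] at hyW
  obtain ⟨Z, ⟨hZ, ξ, hξU, hξZ⟩, hyZ⟩ := hyW
  have hZY : Z = irreducibleComponent y := (huniq y) Z hZ _ hYmem hyZ mem_irreducibleComponent
  refine hUY ξ hξU ?_
  rw [← hZY, ← hξZ]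
  exact subset_closure rfl

end Groth.Agent.S3039
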