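import Groth.Statements.S3043
import Mathlib
import Mathlib
import Groth.Agent.Lib.Helper1.AffThick

set_option autoImplicit false
universe u
open CategoryTheory MonoidalCategory CartesianMonoidalCategory MonObj GrpObj AlgebraicGeometry TensorProduct
open SGA3

namespace Groth.Agent.S3043


/-- Let π : X → S be a morphism of schemes admitting a section ε (ε followed by π is the identity). If π
is injective on underlying points, then π is an integral morphism. -/
theorem result (X S : Scheme.{u}) (π : X ⟶ S) (ε : S ⟶ X) (hε : ε ≫ π = 𝟙 S)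
    (hinj : Function.Injective π.base) : IsIntegralHom π := by

  have hπε : ∀ s : S, π (ε s) = s := fun s => by
    rw [← Scheme.Hom.comp_apply, hε]; rfl
  have hεπ : ∀ x : X, ε (π x) = x := fun x => hinj (hπε (π x))
  have hsurj : Function.Surjective ε := fun x => ⟨π x, hεπ x⟩
  haveI : IsImmersion ε := by
    haveI : IsImmersion (ε ≫ π) := by rw [hε]; infer_instance
    exact IsImmersion.of_comp ε π
  have hcob : ε.coborderRange = ⊤ := by
    rw [eq_top_iff]
    intro x _
    obtain ⟨s, rfl⟩ := hsurj x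
    exact subset_coborder ⟨s, rfl⟩
  haveI : IsClosedImmersion ε := by
    have hiso : IsIso ε.coborderRange.ι := by
      rw [hcob]
      change IsIso X.topIso.hom
      infer_instance
    rw [← ε.liftCoborder_ι]
    infer_instance
  -- affineness
  have haff : ∀ W : S.Opens, IsAffineOpen W → IsAffineOpen (π ⁻¹ᵁ W) := by
    intro W hW
    have hpre : ε ⁻¹ᵁ (π ⁻¹ᵁ W) = W := by
      ext s
      change π (ε s) ∈ W ↔ s ∈ W
      rw [hπε]
    haveI : IsAffine (ε ⁻¹ᵁ (π ⁻¹ᵁ W)).toScheme := by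
      rw [hpre]; exact hW
    have hsurj' : Function.Surjective (ε ∣_ (π ⁻¹ᵁ W)) := by
      intro x
      obtain ⟨s, hs⟩ := hsurj x.1
      have hsW : s ∈ ε ⁻¹ᵁ (π ⁻¹ᵁ W) := by
        change ε s ∈ π ⁻¹ᵁ W
        rw [hs]; exact x.2
      refine ⟨⟨s, hsW⟩, ?_⟩
      apply Subtype.ext
      rw [← hs]
      exact morphismRestrict_base_coe ε (π ⁻¹ᵁ W) ⟨s, hsW⟩
    exact Groth.Agent.Lib.Helper1.AffThick.isAffine_of_thickening (ε ∣_ (π ⁻¹ᵁ W)) hsurj'
  haveI : IsAffineHom π := ⟨fun W hW => haff W hW⟩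
  refine ⟨fun W hW => ?_⟩
  -- integrality
  intro b
  have hpre : ε ⁻¹ᵁ (π ⁻¹ᵁ W) = W := by
    ext s
    change π (ε s) ∈ W ↔ s ∈ W
    rw [hπε]
  -- a := ε.app (π⁻¹ W) b, transported to Γ(S, W)
  set a : Γ(S, W) := (S.presheaf.map (eqToHom hpre.symm).op).hom ((ε.app (π ⁻¹ᵁ W)).hom b) with ha
  have hcomp : (ε.app (π ⁻¹ᵁ W)).hom ((π.app W).hom a) = (ε.app (π ⁻¹ᵁ W)).hom b := by
    have h1 : π.app W ≫ ε.app (π ⁻¹ᵁ W) = (ε ≫ π).app W := (Scheme.Hom.comp_app ε π W).symm
    have h2 : (ε ≫ π).app W = S.presheaf.map (eqToHom hpre).op := by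
      rw [Scheme.Hom.congr_app hε W, Scheme.Hom.id_app]
      rfl
    rw [← CommRingCat.comp_apply, h1, h2, ha, ← CommRingCat.comp_apply, ← Functor.map_comp]
    have : (eqToHom hpre.symm).op ≫ (eqToHom hpre).op = 𝟙 _ := rfl
    rw [this, CategoryTheory.Functor.map_id]
    rfl
  -- b - π(a) is in the kernel of ε.app, which is nil
  have hker : (ε.app (π ⁻¹ᵁ W)).hom (b - (π.app W).hom a) = 0 := by
    rw [map_sub, hcomp, sub_self]
  have hnil : IsNilpotent (b - (π.app W).hom a) := by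
    rw [Scheme.isNilpotent_iff_basicOpen_eq_bot_of_isCompact (haff W hW).isCompact, eq_bot_iff]
    intro x hx
    obtain ⟨s, rfl⟩ := hsurj x
    have hs : s ∈ ε ⁻¹ᵁ (X.basicOpen (b - (π.app W).hom a)) := hx
    rw [Scheme.preimage_basicOpen] at hs
    have h0 : (ε.app (π ⁻¹ᵁ W)) (b - (π.app W).hom a) = 0 := hker
    rw [h0, Scheme.basicOpen_zero] at hs
    exact absurd hs (by simp)
  have hb : b = (π.app W).hom a + (b - (π.app W).hom a) := by ring
  have h1 : (π.app W).hom.IsIntegralElem ((π.app W).hom a) := (π.app W).hom.isIntegralElem_map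
  have h2 : (π.app W).hom.IsIntegralElem (b - (π.app W).hom a) := by
    obtain ⟨n, hn⟩ := hnil
    exact ⟨Polynomial.X ^ n, Polynomial.monic_X_pow n, by rw [Polynomial.eval₂_pow, Polynomial.eval₂_X, hn]⟩
  rw [hb]
  exact RingHom.IsIntegralElem.add _ h1 h2

end Groth.Agent.S3043
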