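import Groth.Statements.S3045
import Mathlib

set_option autoImplicit false
universe u
open TensorProduct
open SGA3

namespace Groth.Agent.S3045

/-- Let A be a commutative Hopf algebra over a commutative ring k (the coordinate ring of an affine
group G = Spec A) and φ, ψ two k[ε]-valued points of G reducing to the unit point modulo ε (tangent
vectors at the identity). Then for every a ∈ A the ε-component of the product point φ · ψ at a — the
product of points being convolution, formed here as the triple convolution of φ, ψ and the unit
point — is the sum of the ε-components of φ(a) and ψ(a): on tangent vectors at the identity the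
group law of G induces addition. -/
theorem result (k : Type u) [CommRing k] (A : Type u) [CommRing A] [HopfAlgebra k A]
    (φ ψ : LieHopf.LiePts k A) (a : A) :
    TrivSqZeroExt.snd (Dyn.conv3 k A φ.1 ψ.1 ((Algebra.ofId k (DualNumber k)).comp (Bialgebra.counitAlgHom k A)) a) =
      LieHopf.LiePts.tangent k A φ a + LieHopf.LiePts.tangent k A ψ a := by
  classical
  set η : A →ₐ[k] DualNumber k := (Algebra.ofId k (DualNumber k)).comp (Bialgebra.counitAlgHom k A) with hη
  set X : A ⊗[k] A →ₐ[k] DualNumber k :=
    (Algebra.TensorProduct.lmul' (S := DualNumber k) k).comp (Algebra.TensorProduct.map φ.1 ψ.1) with hX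
  set Y : A →ₐ[k] DualNumber k := X.comp (Bialgebra.comulAlgHom k A) with hY
  -- Step 1
  have h1 : ∀ w : A ⊗[k] A,
      (Algebra.TensorProduct.lmul' (S := DualNumber k) k) ((Algebra.TensorProduct.map Y η) w) =
        Y ((TensorProduct.rid k A) ((LinearMap.lTensor A (Coalgebra.counit (R := k) (A := A))) w)) := by
    intro w
    induction w using TensorProduct.induction_on with
    | zero => simp
    | tmul x y =>
      simp only [Algebra.TensorProduct.map_tmul, Algebra.TensorProduct.lmul'_apply_tmul,
        LinearMap.lTensor_tmul, TensorProduct.rid_tmul, hη, AlgHom.comp_apply]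
      rw [map_smul, Algebra.ofId_apply, Algebra.algebraMap_eq_smul_one, mul_smul_comm, mul_one]
      rfl
    | add x y hx hy => simp only [map_add, hx, hy]
  have hconv : Dyn.conv3 k A φ.1 ψ.1 η a = Y a := by
    have : Dyn.conv3 k A φ.1 ψ.1 η a =
        (Algebra.TensorProduct.lmul' (S := DualNumber k) k)
          ((Algebra.TensorProduct.map Y η) (Coalgebra.comul (R := k) a)) := by
      unfold Dyn.conv3
      simp only [AlgHom.comp_apply, Bialgebra.comulAlgHom_apply]
      congr 1
      generalize Coalgebra.comul (R := k) a = w
      induction w using TensorProduct.induction_on with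
      | zero => simp
      | tmul x y => simp [hY, hX]
      | add x y hx hy => simp only [map_add, hx, hy]
    rw [this, h1, Coalgebra.lTensor_counit_comul, TensorProduct.rid_tmul, one_smul]
  rw [hconv]
  -- Step 2
  let D : A →ₗ[k] k := (TrivSqZeroExt.sndHom k k) ∘ₗ φ.1.toLinearMap
  let E : A →ₗ[k] k := (TrivSqZeroExt.sndHom k k) ∘ₗ ψ.1.toLinearMap
  have h2 : ∀ w : A ⊗[k] A, TrivSqZeroExt.snd (X w) =
      E ((TensorProduct.lid k A) ((LinearMap.rTensor A (Coalgebra.counit (R := k) (A := A))) w)) +
      D ((TensorProduct.rid k A) ((LinearMap.lTensor A (Coalgebra.counit (R := k) (A := A))) w)) := by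
    intro w
    induction w using TensorProduct.induction_on with
    | zero => simp
    | tmul x y =>
      simp only [hX, AlgHom.comp_apply, Algebra.TensorProduct.map_tmul,
        Algebra.TensorProduct.lmul'_apply_tmul, LinearMap.rTensor_tmul, LinearMap.lTensor_tmul,
        TensorProduct.lid_tmul, TensorProduct.rid_tmul, map_smul, TrivSqZeroExt.snd_mul]
      have e1 : TrivSqZeroExt.fst (φ.1 x) = Coalgebra.counit (R := k) x := φ.2 x
      have e2 : TrivSqZeroExt.fst (ψ.1 y) = Coalgebra.counit (R := k) y := ψ.2 y
      rw [e1, e2]
      simp [D, E, mul_comm]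
    | add x y hx hy =>
      simp only [map_add, TrivSqZeroExt.snd_add, hx, hy]
      abel
  show TrivSqZeroExt.snd (X (Coalgebra.comul (R := k) a)) = _
  rw [h2, Coalgebra.lTensor_counit_comul, Coalgebra.rTensor_counit_comul, TensorProduct.rid_tmul,
    TensorProduct.lid_tmul, one_smul, add_comm]
  rfl

end Groth.Agent.S3045
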