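import Groth.Statements.S3046
import Mathlib

set_option autoImplicit false
universe u
open TensorProduct
open SGA3

namespace Groth.Agent.S3046
section Aux
open WithConv

lemma conv3_eq (k : Type u) [CommRing k] (A : Type u) [CommRing A] [HopfAlgebra k A]
    (R : Type u) [CommRing R] [Algebra k R] (f g h : A →ₐ[k] R) :
    Dyn.conv3 k A f g h = ofConv ((toConv f * toConv g) * toConv h) := by
  have key : ∀ w : A ⊗[k] A,
      (Algebra.TensorProduct.map ((Algebra.TensorProduct.lmul' (S := R) k).comp
        ((Algebra.TensorProduct.map f g).comp (Bialgebra.comulAlgHom k A))) h) w =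
      (Algebra.TensorProduct.map ((Algebra.TensorProduct.lmul' (S := R) k).comp
        (Algebra.TensorProduct.map f g)) h)
        ((Algebra.TensorProduct.map (Bialgebra.comulAlgHom k A) (AlgHom.id k A)) w) := by
    intro w
    induction w using TensorProduct.induction_on with
    | zero => simp
    | tmul x y => simp
    | add x y hx hy => simp only [map_add, hx, hy]
  ext a
  simp only [Dyn.conv3, AlgHom.convMul_def, ofConv_toConv, AlgHom.comp_apply, key]


lemma ring_calc {R W : Type*} [CommRing R] [Ring W] [Algebra R W] (t t' : R) (ht : t * t = 0) (ht' : t' * t' = 0)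
    (d e : W) :
    (1 + t • d) * (1 + t' • e) * (1 - t • d) * (1 - t' • e) = 1 + (t * t') • (d * e - e * d) := by
  set a := t • d with ha
  set b := t' • e with hb
  have haa : a * a = 0 := by
    rw [ha, smul_mul_smul_comm, ht, zero_smul]
  have hbb : b * b = 0 := by
    rw [hb, smul_mul_smul_comm, ht', zero_smul]
  have haba : a * b * a = 0 := by
    rw [ha, hb, smul_mul_smul_comm, smul_mul_smul_comm]
    have : t * t' * t = 0 := by rw [mul_comm, ← mul_assoc, ht, zero_mul]
    rw [this, zero_smul]
  have hbab : b * a * b = 0 := by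
    rw [ha, hb, smul_mul_smul_comm, smul_mul_smul_comm]
    have : t' * t * t' = 0 := by rw [mul_comm, ← mul_assoc, ht', zero_mul]
    rw [this, zero_smul]
  have h1 : (1 + a) * (1 + b) * (1 - a) = 1 + b + a * b - b * a - a * a - a * b * a := by noncomm_ring
  rw [h1, haa, haba, sub_zero, sub_zero]
  have h2 : (1 + b + a * b - b * a) * (1 - b) = 1 + a * b - b * a - b * b - a * (b * b) + b * a * b := by
    noncomm_ring
  rw [h2, hbb, hbab, mul_zero, sub_zero, sub_zero, add_zero]
  rw [ha, hb, smul_mul_smul_comm, smul_mul_smul_comm, mul_comm t' t, smul_sub]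
  abel

lemma one_add_mul_one_sub {W : Type*} [Ring W] (a : W) : (1 + a) * (1 - a) = 1 - a * a := by noncomm_ring

lemma inv_unique {W : Type*} [Ring W] (X U Z : W) (hZX : Z * X = 1) (hXU : X * U = 1) : Z = U := by
  calc Z = Z * (X * U) := by rw [hXU, mul_one]
    _ = (Z * X) * U := by rw [mul_assoc]
    _ = U := by rw [hZX, one_mul]

end Aux

open WithConv in

/-- Let A be a commutative Hopf algebra over a commutative ring k, D and E two ε-derivations A → k
(tangent vectors at the identity of G = Spec A), R a commutative k-algebra and t, t' ∈ R with t² = 0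
= t'². Let x = e + tD and y = e + t'E be the corresponding R-points of G. Then the commutator x y
x⁻¹ y⁻¹ (product of points; the inverse of a point is its composite with the antipode) is the point
a ↦ ε(a) + [D, E](a) · t t', where [D, E] = D ⋆ E − E ⋆ D is the convolution commutator. -/
theorem result (k : Type u) [CommRing k] (A : Type u) [CommRing A] [HopfAlgebra k A]
    (D E : LieHopf.Lie k A) (R : Type u) [CommRing R] [Algebra k R] (t t' : R) (ht : t * t = 0) (ht' : t' * t' = 0)
    (a : A) :
    Dyn.conv3 k A
        (Dyn.conv3 k A (LieHopf.ptOfLie D R t ht) (LieHopf.ptOfLie E R t' ht')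
          ((LieHopf.ptOfLie D R t ht).comp (HopfAlgebra.antipodeAlgHom k A)))
        ((LieHopf.ptOfLie E R t' ht').comp (HopfAlgebra.antipodeAlgHom k A))
        ((Algebra.ofId k R).comp (Bialgebra.counitAlgHom k A)) a =
      algebraMap k R (Bialgebra.counitAlgHom k A a) + algebraMap k R (LieHopf.bracketLin D E a) * (t * t') := by
  classical
  rw [conv3_eq, conv3_eq]
  set x : WithConv (A →ₐ[k] R) := toConv (LieHopf.ptOfLie D R t ht) with hx
  set y : WithConv (A →ₐ[k] R) := toConv (LieHopf.ptOfLie E R t' ht') with hy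
  set xi : WithConv (A →ₐ[k] R) := toConv ((LieHopf.ptOfLie D R t ht).comp (HopfAlgebra.antipodeAlgHom k A)) with hxi
  set yi : WithConv (A →ₐ[k] R) := toConv ((LieHopf.ptOfLie E R t' ht').comp (HopfAlgebra.antipodeAlgHom k A)) with hyi
  have h1 : toConv ((Algebra.ofId k R).comp (Bialgebra.counitAlgHom k A)) = (1 : WithConv (A →ₐ[k] R)) := rfl
  rw [toConv_ofConv, h1, mul_one]
  -- transfer to the linear convolution ring
  let lin : WithConv (A →ₐ[k] R) → WithConv (A →ₗ[k] R) := fun f => toConv f.ofConv.toLinearMap
  have lin_mul : ∀ f g, lin (f * g) = lin f * lin g := fun f g => rfl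
  have lin_one : lin 1 = 1 := rfl
  let d : WithConv (A →ₗ[k] R) := toConv (Algebra.linearMap k R ∘ₗ LieHopf.dlin D)
  let e : WithConv (A →ₗ[k] R) := toConv (Algebra.linearMap k R ∘ₗ LieHopf.dlin E)
  have hX : lin x = 1 + t • d := by
    ext b
    simp [lin, x, d, LieHopf.ptOfLie, mul_comm]
  have hY : lin y = 1 + t' • e := by
    ext b
    simp [lin, y, e, LieHopf.ptOfLie, mul_comm]
  have hXU : lin x * (1 - t • d) = 1 := by
    rw [hX]
    have : (t • d) * (t • d) = 0 := by rw [smul_mul_smul_comm, ht, zero_smul]
    have h : (1 + t • d) * (1 - t • d) = 1 - (t • d) * (t • d) := one_add_mul_one_sub _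
    rw [h, this, sub_zero]
  have hYV : lin y * (1 - t' • e) = 1 := by
    rw [hY]
    have : (t' • e) * (t' • e) = 0 := by rw [smul_mul_smul_comm, ht', zero_smul]
    have h : (1 + t' • e) * (1 - t' • e) = 1 - (t' • e) * (t' • e) := one_add_mul_one_sub _
    rw [h, this, sub_zero]
  have hinv : ∀ f : A →ₐ[k] R, lin (toConv (f.comp (HopfAlgebra.antipodeAlgHom k A))) * lin (toConv f) = 1 := by
    intro f
    have h := LinearMap.algHom_comp_convMul_distrib f (toConv (HopfAlgebra.antipode k (A := A)))
      (toConv (LinearMap.id : A →ₗ[k] A))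
    rw [LinearMap.antipode_mul_id] at h
    apply WithConv.ofConv_injective
    change _ = (toConv (f.toLinearMap.comp (toConv (HopfAlgebra.antipode k (A := A))).ofConv) *
      toConv (f.toLinearMap.comp (toConv (LinearMap.id : A →ₗ[k] A)).ofConv)).ofConv at h
    refine Eq.trans ?_ (Eq.trans h.symm ?_)
    · rfl
    · ext b
      simp
  have hXi : lin xi = 1 - t • d :=
    inv_unique (lin x) _ _ (hinv _) hXU
  have hYi : lin yi = 1 - t' • e :=
    inv_unique (lin y) _ _ (hinv _) hYV
  have hmain : lin (x * y * xi * yi) = 1 + (t * t') • (d * e - e * d) := by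
    rw [lin_mul, lin_mul, lin_mul, hX, hY, hXi, hYi]
    exact ring_calc t t' ht ht' d e
  have hde : ∀ (D E : LieHopf.Lie k A) (w : A ⊗[k] A),
      LinearMap.mul' k R (TensorProduct.map (Algebra.linearMap k R ∘ₗ LieHopf.dlin D)
        (Algebra.linearMap k R ∘ₗ LieHopf.dlin E) w) =
      algebraMap k R (LinearMap.mul' k k (TensorProduct.map (LieHopf.dlin D) (LieHopf.dlin E) w)) := by
    intro D E w
    induction w using TensorProduct.induction_on with
    | zero => simp
    | tmul x y => simp
    | add x y hx hy => simp only [map_add, hx, hy]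
  have := congrArg (fun f : WithConv (A →ₗ[k] R) => f a) hmain
  simp only [lin] at this
  change (x * y * xi * yi).ofConv a = _ at this
  rw [this]
  rw [WithConv.ofConv_add, WithConv.ofConv_smul, WithConv.ofConv_sub, LinearMap.add_apply, LinearMap.smul_apply,
    LinearMap.sub_apply]
  have hde' : (d * e).ofConv a = algebraMap k R (LieHopf.conv (LieHopf.dlin D) (LieHopf.dlin E) a) := by
    change LinearMap.mul' k R (TensorProduct.map _ _ (Coalgebra.comul a)) = _
    rw [hde]
    rfl
  have hed' : (e * d).ofConv a = algebraMap k R (LieHopf.conv (LieHopf.dlin E) (LieHopf.dlin D) a) := by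
    change LinearMap.mul' k R (TensorProduct.map _ _ (Coalgebra.comul a)) = _
    rw [hde]
    rfl
  rw [hde', hed']
  have hb : LieHopf.bracketLin D E a = LieHopf.conv (LieHopf.dlin D) (LieHopf.dlin E) a -
      LieHopf.conv (LieHopf.dlin E) (LieHopf.dlin D) a := rfl
  rw [hb, map_sub, smul_eq_mul]
  have h1' : (1 : WithConv (A →ₗ[k] R)).ofConv a = algebraMap k R (Bialgebra.counitAlgHom k A a) := rfl
  rw [h1']
  ring

end Groth.Agent.S3046
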