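import Groth.Statements.S3058
import Mathlib
import Groth.Agent.Lib.Lead.ToposFinCoprod2
open Groth.Agent.Lib.Lead.ToposFin

set_option autoImplicit false
open CategoryTheory CategoryTheory.Limits Opposite
universe u
open ToposFin

namespace Groth.Agent.S3058

/-- For a topos of sheaves of sets on a small site: the coproduct of a small family of objects is
quasi-compact if and only if every member is quasi-compact and all but finitely many members are
initial (empty) objects. -/
theorem result {C : Type u} [SmallCategory C] {J : GrothendieckTopology C} {ι : Type u}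
    (F : ι → ToposFin.Sh J) :
    ToposFin.IsQC (∐ F) ↔ (∀ i, ToposFin.IsQC (F i)) ∧ {i | IsEmpty (F i ≅ ⊥_ (ToposFin.Sh J))}.Finite := by
  classical
  have hc := coproductIsCoproduct F
  have hJE : JE (fun i => Sigma.ι F i) := JE_cofan _ hc
  constructor
  · intro h
    refine ⟨fun i => IsQCHom.isQC_source (isQCHom_cofan_inj hc i) h, ?_⟩
    obtain ⟨s, hs⟩ := IsQC.exists_finset h hJE
    refine s.finite_toSet.subset ?_
    intro i hi
    by_contra his
    have hne : Nonempty (F i ≅ ⊥_ (ToposFin.Sh J)) := by
      apply nonempty_iso_initial_of_sections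
      intro U x
      refine J.transitive (hs U ((Sigma.ι F i).hom.app _ x)) ⊥ ?_
      rintro V g ⟨⟨j, hj⟩, y, hy⟩
      have hji : j ≠ i := fun hji => his (hji ▸ hj)
      have hn := NatTrans.naturality_apply (Sigma.ι F i).hom g.op x
      have := cofan_inj_disjoint hc hji y ((F i).obj.map g.op x) (hy.trans hn.symm)
      exact J.superset_covering bot_le this
    exact hi.false hne.some
  · rintro ⟨hqc, hfin⟩
    have hJE' : JE (fun i : hfin.toFinset => Sigma.ι F i) := by
      intro U z
      refine J.transitive (hJE U z) _ ?_
      rintro V g ⟨i, x, hx⟩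
      by_cases hi : i ∈ hfin.toFinset
      · have hg : liftSieve (fun i : hfin.toFinset => Sigma.ι F i) z g := ⟨⟨i, hi⟩, x, hx⟩
        exact J.superset_covering
          (fun W h _ => (liftSieve (fun i : hfin.toFinset => Sigma.ι F i) z).downward_closed hg h)
          (J.top_mem V)
      · have hne : ¬ IsEmpty (F i ≅ ⊥_ (ToposFin.Sh J)) := fun h => hi (hfin.mem_toFinset.2 h)
        rw [not_isEmpty_iff] at hne
        exact J.superset_covering bot_le (bot_mem_of_section_of_iso_initial hne.some x)
    exact isQC_of_finite_JE (fun i : hfin.toFinset => Sigma.ι F i) hJE' (fun i => hqc i)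

end Groth.Agent.S3058
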