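import Groth.Statements.S3067
import Mathlib
import Groth.Agent.Lib.Lead.ToposFin4
open Groth.Agent.Lib.Lead.ToposFin

set_option autoImplicit false
open CategoryTheory CategoryTheory.Limits Opposite
universe u
open ToposFin

namespace Groth.Agent.S3067

/-- In the topos of sheaves of sets on a small site that admits a generating family of quasi-compact
objects, let (g_i : Y_i → Y) be a jointly epimorphic family of morphisms with every Y_i coherent.
Then Y is quasi-separated if and only if every g_i is quasi-compact, and Y is quasi-separated if and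
only if every fibre product Y_i ×_Y Y_j is quasi-compact. -/
theorem result {C : Type u} [SmallCategory C] {J : GrothendieckTopology C} (hE : ToposFin.HasQCGenerators J) {Y : ToposFin.Sh J} {ι : Type u}
    (Yi : ι → ToposFin.Sh J) (g : ∀ i, Yi i ⟶ Y) (hg : Epi (Sigma.desc g)) (hY : ∀ i, ToposFin.IsCoherent (Yi i)) :
    (ToposFin.IsQS Y ↔ ∀ i, ToposFin.IsQCHom (g i)) ∧
    (ToposFin.IsQS Y ↔ ∀ i j, ToposFin.IsQC (pullback (g i) (g j))) := by
  have hJE := JE.of_epi_sigmaDesc hg
  have A : IsQS Y → ∀ i, IsQCHom (g i) := fun h i T t hT => h _ _ (g i) t (hY i).1 hT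
  have B : (∀ i, IsQCHom (g i)) → IsQS Y := fun h =>
    isQS_of_qs_cover_qc_maps hE g hJE (fun i => (hY i).2) h
  have D : (∀ i j, IsQC (pullback (g i) (g j))) → ∀ i, IsQCHom (g i) := by
    intro hp i T t hT
    obtain ⟨κ, _, W, ρ, j, σ, hW, hρ, hσ⟩ := exists_finite_refinement hE hT t g hJE
    refine isQC_pullback_of_finite_cover (g i) t ρ hρ (fun k => ?_)
    rw [hσ k]
    exact IsQC.of_iso (pullbackLeftPullbackSndIso (g i) (g (j k)) (σ k))
      ((hY (j k)).2 _ _ (pullback.snd (g i) (g (j k))) (σ k) (hp i (j k)) (hW k))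
  exact ⟨⟨A, B⟩, ⟨fun h i j => h _ _ _ _ (hY i).1 (hY j).1, fun h => B (D h)⟩⟩

end Groth.Agent.S3067
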