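import Groth.Statements.S3071
import Mathlib
import Groth.Agent.Lib.Lead.ToposFin4
open Groth.Agent.Lib.Lead.ToposFin

set_option autoImplicit false
open CategoryTheory CategoryTheory.Limits Opposite
universe u
open ToposFin

namespace Groth.Agent.S3071

/-- Implication (ii bis) => (i bis), for a topos of sheaves of sets on a small site: suppose given a
generating family of coherent objects G_a such that every product G_a x G_b is quasi-separated. Then
for every morphism f : X -> Y with X quasi-separated, f is quasi-separated. -/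
theorem result {C : Type u} [SmallCategory C] {J : GrothendieckTopology C} {α : Type u} (G : α → ToposFin.Sh J)
    (hG : ∀ a, ToposFin.IsCoherent (G a))
    (hgen : ∀ X : ToposFin.Sh J, ∃ (ι : Type u) (a : ι → α) (π : ∀ i, G (a i) ⟶ X), Epi (Sigma.desc π))
    (hprod : ∀ a b, ToposFin.IsQS (G a ⨯ G b)) {X Y : ToposFin.Sh J} (f : X ⟶ Y) (hX : ToposFin.IsQS X) :
    ToposFin.IsQSHom f := by
  have hE : ToposFin.HasQCGenerators J := fun X => by
    obtain ⟨ι, a, π, hπ⟩ := hgen X
    exact ⟨ι, fun i => G (a i), π, fun i => (hG (a i)).1, hπ⟩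
  obtain ⟨ι, a, π, hπ⟩ := hgen X
  have hJE := JE.of_epi_sigmaDesc hπ
  have hmono : ∀ i j, ToposFin.IsQS (pullback (π i ≫ f) (π j ≫ f)) := by
    intro i j A B α β hA hB
    have hm : ToposFin.IsQSHom (prod.lift (pullback.fst (π i ≫ f) (π j ≫ f))
        (pullback.snd (π i ≫ f) (π j ≫ f))) := isQSHom_of_mono _
    exact IsQCHom.isQC_of_isPullback hm (pullback_map_diagonal_isPullback α β _)
      (hprod (a i) (a j) _ _ _ _ hA hB)
  refine isQCHom_of_local hE (pullback.diagonal f)
    (fun ij : ι × ι => pullback.map (π ij.1 ≫ f) (π ij.2 ≫ f) f f (π ij.1) (π ij.2) (𝟙 Y)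
      (by simp) (by simp)) (JE_pullback_map f f π π hJE hJE)
    (fun ij => pullback.fst (π ij.1) (π ij.2) ≫ π ij.1)
    (fun ij => pullback.map (π ij.1) (π ij.2) (π ij.1 ≫ f) (π ij.2 ≫ f) (𝟙 _) (𝟙 _) f
      (Category.id_comp _).symm (Category.id_comp _).symm)
    (fun ij => pullback_map_diagonal_isPullback (π ij.1) (π ij.2) f) (fun ij => ?_)
  exact fun T t hT => hmono ij.1 ij.2 _ _ _ t
    (hX _ _ (π ij.1) (π ij.2) (hG (a ij.1)).1 (hG (a ij.2)).1) hT

end Groth.Agent.S3071
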