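import Groth.Statements.S3075
import Mathlib
import Groth.Agent.Lib.Lead.ToposFin3
open Groth.Agent.Lib.Lead.ToposFin

set_option autoImplicit false
open CategoryTheory CategoryTheory.Limits Opposite
universe u
open ToposFin

namespace Groth.Agent.S3075

/-- For a topos of sheaves of sets on a small site admitting a generating family of quasi-compact
objects: if (g_i : Y_i -> Y) is a jointly epimorphic family with every Y_i quasi-separated and every
g_i quasi-compact, then Y is quasi-separated. -/
theorem result {C : Type u} [SmallCategory C] {J : GrothendieckTopology C} (hE : ToposFin.HasQCGenerators J) {Y : ToposFin.Sh J}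
    {ι : Type u} (Yi : ι → ToposFin.Sh J) (g : ∀ i, Yi i ⟶ Y) (hg : Epi (Sigma.desc g))
    (hqs : ∀ i, ToposFin.IsQS (Yi i)) (hqc : ∀ i, ToposFin.IsQCHom (g i)) : ToposFin.IsQS Y := by
  intro A B a b hA hB
  obtain ⟨κ, _, W, ρ, i, σ, hW, hρ, hσ⟩ :=
    exists_finite_refinement hE hA a g (JE.of_epi_sigmaDesc hg)
  refine isQC_pullback_of_finite_cover_left a b ρ hρ (fun k => ?_)
  rw [hσ k]
  have h1 : IsQC (pullback (g (i k)) b) := hqc (i k) B b hB
  have h2 : IsQC (pullback (σ k) (pullback.fst (g (i k)) b)) := hqs (i k) _ _ _ _ (hW k) h1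
  exact IsQC.of_iso (pullbackRightPullbackFstIso (g (i k)) b (σ k)) h2

end Groth.Agent.S3075
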