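import Groth.Statements.S3080
import Groth.Agent.Lib.Lead.CanTop3

set_option autoImplicit false
universe v u
open CategoryTheory
open SGA4

namespace Groth.Agent.S3080

open CategoryTheory.Limits in
/-- Let (C, J) and (D, K) be small sites and f a functor from sheaves of sets on (C, J) to sheaves of
sets on (D, K) which preserves finite limits and sends u-small jointly epimorphic families to
jointly epimorphic families. Then f is a left adjoint (so it is the inverse-image functor of a
morphism of topoi) and f preserves all u-small colimits. -/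
theorem result {C D : Type u} [SmallCategory C] [SmallCategory D]
    (J : GrothendieckTopology C) (K : GrothendieckTopology D) (f : Sheaf J (Type u) ⥤ Sheaf K (Type u))
    [PreservesFiniteLimits f] (hf : SGA4.PreservesEpiFamilies.{u + 1, u + 1, u} f) :
    f.IsLeftAdjoint ∧ PreservesColimitsOfSize.{u, u} f := by
  have hK : ∀ Z : Sheaf K (Type u),
      Presieve.IsSheaf (Sheaf.canonicalTopology (Sheaf J (Type u))) (f.op ⋙ yoneda.obj Z) := by
    have hflat : RepresentablyFlat f := flat_of_preservesFiniteLimits f
    have hcov : CoverPreserving (Sheaf.canonicalTopology (Sheaf J (Type u)))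
        (Sheaf.canonicalTopology (Sheaf K (Type u))) f := by
      refine ⟨fun {X S} hS => ?_⟩
      have hJE := Groth.Agent.Lib.Lead.CanTop.JE_of_mem_canonical S hS
      have h2 := hf _ _ _ _ (fun Z a b h => Groth.Agent.Lib.Lead.ToposFin.JE.hom_ext hJE h)
      have hJE2 : Groth.Agent.Lib.Lead.ToposFin.JE
          (fun p : Groth.Agent.Lib.Lead.CanTop.RepMem S =>
            f.map (Groth.Agent.Lib.Lead.ToposFin.secMap p.1.2)) :=
        Groth.Agent.Lib.Lead.ToposFin.JE.of_hom_ext h2
      exact Groth.Agent.Lib.Lead.CanTop.mem_canonical_of_JE _ _ hJE2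
        (fun p => ⟨_, _, 𝟙 _, p.2, (Category.id_comp _).symm⟩)
    have hcont : f.IsContinuous (Sheaf.canonicalTopology (Sheaf J (Type u)))
        (Sheaf.canonicalTopology (Sheaf K (Type u))) :=
      (Functor.isContinuous_iff_coverPreserving).2 hcov
    intro Z
    exact Functor.op_comp_isSheaf_of_types f _ _
      ⟨yoneda.obj Z, (isSheaf_iff_isSheaf_of_type _ _).2 (Sheaf.isSheaf_yoneda_obj Z)⟩
  have hcolim : Limits.PreservesColimitsOfSize.{u, u} f :=
    Groth.Agent.Lib.Lead.CanTop.preservesColimits_of_isSheaf_comp f hK
  exact ⟨Groth.Agent.Lib.Lead.CanTop.isLeftAdjoint_of_preservesColimits f, hcolim⟩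

end Groth.Agent.S3080
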