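import Groth.Statements.S3081
import Mathlib
import Groth.Agent.Lib.Lead.ToposFinCoprod3
import Groth.Agent.Lib.Lead.SheafExact
open Groth.Agent.Lib.Lead.ToposFin Opposite

set_option autoImplicit false
universe u
open CategoryTheory
open SGA4

namespace Groth.Agent.S3081

open CategoryTheory.Limits in
/-- an SGA4-style equivalence relation (tested on generalized points) gives a Mathlib one -/
theorem nonempty_equivalenceRelation {E : Type (u+1)} [Category.{u} E] [HasPullbacks E] {R A : E}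
    (p₁ p₂ : R ⟶ A) (h : SGA4.IsEquivRel p₁ p₂) : Nonempty (EquivalenceRelation p₁ p₂) := by
  obtain ⟨r, hr1, hr2⟩ := (h A).2.refl (𝟙 A)
  obtain ⟨s, hs1, hs2⟩ := (h R).2.symm (⟨𝟙 R, Category.id_comp _, Category.id_comp _⟩ :
    ∃ f : R ⟶ R, f ≫ p₁ = p₁ ∧ f ≫ p₂ = p₂)
  obtain ⟨t, ht1, ht2⟩ := (h (pullback p₂ p₁)).2.trans
    (⟨pullback.fst p₂ p₁, rfl, rfl⟩ : ∃ f : pullback p₂ p₁ ⟶ R,
      f ≫ p₁ = pullback.fst p₂ p₁ ≫ p₁ ∧ f ≫ p₂ = pullback.fst p₂ p₁ ≫ p₂)
    (⟨pullback.snd p₂ p₁, pullback.condition.symm, rfl⟩ : ∃ f : pullback p₂ p₁ ⟶ R,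
      f ≫ p₁ = pullback.fst p₂ p₁ ≫ p₂ ∧ f ≫ p₂ = pullback.snd p₂ p₁ ≫ p₂)
  exact ⟨{
    right_cancellation := fun Y f g h1 h2 => (h Y).1 (Prod.ext h1 h2)
    r := r
    reflexivity₁ := hr1
    reflexivity₂ := hr2
    s := s
    symmetry₁ := hs1
    symmetry₂ := hs2
    c := pullback.cone p₂ p₁
    isLimit := pullback.isLimit p₂ p₁
    t := t
    transitivity₁ := ht1
    transitivity₂ := ht2 }⟩


open CategoryTheory.Limits in
/-- c): in the category of sheaves of u-small sets on a u-small site, every u-small family has a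
coproduct which is disjoint and stable under base change, and every equivalence relation is
effective with universally effective-epimorphic quotient map. -/
theorem result {C : Type u} [SmallCategory C] (J : GrothendieckTopology C) :
    SGA4.HasDisjointUniversalCoproducts.{u + 1, u} (Sheaf J (Type u)) ∧
    ∀ (R A : Sheaf J (Type u)) (p₁ p₂ : R ⟶ A), SGA4.IsEquivRel p₁ p₂ → SGA4.IsEffectiveUniversalEquivRel p₁ p₂ := by
  refine ⟨?_, ?_⟩
  · intro ι X
    exact ⟨modelCofan X, modelCofanIsColimit X, coproductDisjoint X,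
      isUniversalColimit_of_isColimit _ (modelCofanIsColimit X)⟩
  · intro R A p₁ p₂ h
    obtain ⟨e⟩ := nonempty_equivalenceRelation p₁ p₂ h
    let e' := Groth.Agent.Lib.Lead.SheafExact.universallyEffective p₁ p₂ e
    refine ⟨e'.B, e'.π, e'.isKernelPair, e'.isPushout, fun B' g => ?_⟩
    exact e'.universally_effectiveEpi_π _ _ _ (IsPullback.of_hasPullback e'.π g).flip

end Groth.Agent.S3081
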