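import Groth.Statements.S3093
import Mathlib.Topology.Separation.SeparatedNhds
import Mathlib.Topology.Compactness.Compact
-- import your own Groth.Agent.* helpers here

set_option autoImplicit false
universe u
open CohTop

namespace Groth.Agent.S3093

/-- Let X be a topological space and K ⊆ X a compact subset such that any two distinct points of K have
disjoint open neighbourhoods in X. If A and B are subsets of K that are closed in K and W is an open
subset of X containing A ∩ B, then there are open subsets U ⊇ A and V ⊇ B of X with U ∩ V ⊆ W. -/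
theorem result {X : Type u} [TopologicalSpace X] {K : Set X} (hK : IsCompact K)
    (hsep : ∀ x ∈ K, ∀ y ∈ K, x ≠ y → ∃ U V : Set X, IsOpen U ∧ IsOpen V ∧ x ∈ U ∧ y ∈ V ∧ Disjoint U V)
    {A B W : Set X} (hA : A ⊆ K) (hB : B ⊆ K) (hAc : IsClosed (Subtype.val ⁻¹' A : Set K))
    (hBc : IsClosed (Subtype.val ⁻¹' B : Set K)) (hW : IsOpen W) (hABW : A ∩ B ⊆ W) :
    ∃ U V : Set X, IsOpen U ∧ IsOpen V ∧ A ⊆ U ∧ B ⊆ V ∧ U ∩ V ⊆ W := by
  have hcpt : ∀ S : Set X, S ⊆ K → IsClosed (Subtype.val ⁻¹' S : Set K) → IsCompact (S \ W) := by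
    intro S hS hSc
    obtain ⟨C, hC, hCS⟩ := isClosed_induced_iff.mp hSc
    have : S \ W = K ∩ (C ∩ Wᶜ) := by
      ext x
      constructor
      · rintro ⟨hxS, hxW⟩
        have hxK := hS hxS
        have : (⟨x, hxK⟩ : K) ∈ Subtype.val ⁻¹' C := by rw [hCS]; exact hxS
        exact ⟨hxK, this, hxW⟩
      · rintro ⟨hxK, hxC, hxW⟩
        have : (⟨x, hxK⟩ : K) ∈ Subtype.val ⁻¹' S := by rw [← hCS]; exact hxC
        exact ⟨this, hxW⟩
    rw [this]
    exact hK.inter_right (hC.inter hW.isClosed_compl)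
  have hA' := hcpt A hA hAc
  have hB' := hcpt B hB hBc
  have hsepn : SeparatedNhds (A \ W) (B \ W) := by
    rw [separatedNhds_iff_disjoint, hA'.disjoint_nhdsSet_left]
    intro x hx
    rw [hB'.disjoint_nhdsSet_right]
    intro y hy
    have hxy : x ≠ y := by
      rintro rfl
      exact hx.2 (hABW ⟨hx.1, hy.1⟩)
    obtain ⟨U, V, hU, hV, hxU, hyV, hUV⟩ := hsep x (hA hx.1) y (hB hy.1) hxy
    exact Filter.disjoint_of_disjoint_of_mem hUV (hU.mem_nhds hxU) (hV.mem_nhds hyV)
  obtain ⟨U, V, hU, hV, hAU, hBV, hUV⟩ := hsepn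
  refine ⟨U ∪ W, V ∪ W, hU.union hW, hV.union hW, ?_, ?_, ?_⟩
  · intro x hx
    by_cases hxW : x ∈ W
    · exact Or.inr hxW
    · exact Or.inl (hAU ⟨hx, hxW⟩)
  · intro x hx
    by_cases hxW : x ∈ W
    · exact Or.inr hxW
    · exact Or.inl (hBV ⟨hx, hxW⟩)
  · rintro x ⟨hx1 | hx1, hx2 | hx2⟩
    · exact absurd hx2 (Set.disjoint_left.mp hUV hx1)
    · exact hx2
    · exact hx1
    · exact hx1

end Groth.Agent.S3093
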