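import Groth.Statements.S3129
import Mathlib

set_option autoImplicit false
open BigOperators
open SGA4h

namespace Groth.Agent.S3129
section Aux

lemma addChar_map_sum {F R ι : Type*} [AddCommMonoid F] [CommMonoid R] (Ψ : AddChar F R)
    (s : Finset ι) (f : ι → F) : Ψ (∑ i ∈ s, f i) = ∏ i ∈ s, Ψ (f i) := by
  classical
  induction s using Finset.induction_on with
  | empty => simp
  | insert i s hi ih =>
    rw [Finset.sum_insert hi, Finset.prod_insert hi, AddChar.map_add_eq_mul, ih]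

end Aux


/-- Let F be a finite field with q elements, N ≥ 1, χ₀, …, χ_N multiplicative characters of F with
values in a domain, not all trivial and with product 1, and Ψ a nontrivial additive character of F.
Put τ(χ, Ψ) = −Σ_{x ∈ F} Ψ(x) χ⁻¹(x) and J(χ) = (−1)^{N−1} Σ χ₁⁻¹(x₁) ⋯ χ_N⁻¹(x_N), the sum over x₁,
…, x_N ∈ F^* with x₁ + ⋯ + x_N = −1. Then q · J(χ) = τ(χ₀, Ψ) ⋯ τ(χ_N, Ψ). -/
theorem result (F : Type) [Field F] [Fintype F] [DecidableEq F] (R : Type) [CommRing R] [IsDomain R]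
    (N : ℕ) (hN : 1 ≤ N) (χ : Fin (N + 1) → MulChar F R) (hprod : ∏ i, χ i = 1) (hnt : ∃ i, χ i ≠ 1)
    (Ψ : AddChar F R) (hΨ : Ψ ≠ 1) :
    (Fintype.card F : R) * ((-1) ^ (N - 1) *
        ∑ x ∈ (Finset.univ : Finset (Fin N → Fˣ)).filter (fun x => ∑ i, ((x i : Fˣ) : F) = -1),
          ∏ i : Fin N, (χ i.succ)⁻¹ ((x i : Fˣ) : F)) =
      ∏ i : Fin (N + 1), (-(∑ y : F, Ψ y * (χ i)⁻¹ y)) := by
  classical
  set η : Fin (N+1) → MulChar F R := fun i => (χ i)⁻¹ with hη
  have hηprod : ∏ i, η i = 1 := by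
    simp only [hη]; rw [Finset.prod_inv_distrib, hprod, inv_one]
  have hηnt : ∃ i : Fin N, η i.succ ≠ 1 := by
    by_contra hcon
    push Not at hcon
    have h0 : η 0 = 1 := by
      have := hηprod
      rw [Fin.prod_univ_succ, Finset.prod_congr rfl (fun i _ => hcon i), Finset.prod_const_one,
        mul_one] at this
      exact this
    obtain ⟨i, hi⟩ := hnt
    apply hi
    have : η i = 1 := Fin.cases h0 (fun j => hcon j) i
    exact inv_eq_one.mp this
  have hprodapply : ∀ a : F, a ≠ 0 → ∏ i, η i a = 1 := by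
    intro a ha
    have hgen : ∀ s : Finset (Fin (N+1)), (∏ i ∈ s, η i) a = ∏ i ∈ s, η i a := by
      intro s
      induction s using Finset.induction_on with
      | empty => simp [MulChar.one_apply (Ne.isUnit ha)]
      | insert i s hi ih =>
        rw [Finset.prod_insert hi, Finset.prod_insert hi, MulChar.mul_apply, ih]
    rw [← hgen, hηprod, MulChar.one_apply (Ne.isUnit ha)]
  set E : (Fin N → F) → R := fun x => ∏ i : Fin N, η i.succ (x i) with hE
  have hEsum : ∑ x : Fin N → F, E x = 0 := by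
    obtain ⟨i0, hi0⟩ := hηnt
    have : ∑ x : Fin N → F, E x = ∏ i : Fin N, ∑ a : F, η i.succ a := by
      rw [Finset.prod_univ_sum, Fintype.piFinset_univ]
    rw [this]
    exact Finset.prod_eq_zero (Finset.mem_univ i0) (MulChar.sum_eq_zero_of_ne_one hi0)
  -- term computation
  have hS1 : ∀ (y0 : F), y0 ≠ 0 → ∀ x : Fin N → F,
      ∏ i : Fin (N+1), (Ψ ((Fin.cons y0 (fun j => y0 * x j) : Fin (N+1) → F) i) *
        η i ((Fin.cons y0 (fun j => y0 * x j) : Fin (N+1) → F) i))
      = Ψ (y0 * (1 + ∑ i, x i)) * E x := by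
    intro y0 hy0 x
    rw [Fin.prod_univ_succ]
    simp only [Fin.cons_zero, Fin.cons_succ]
    rw [Finset.prod_mul_distrib, ← addChar_map_sum]
    simp only [map_mul]
    rw [Finset.prod_mul_distrib]
    have h1 : Ψ y0 * Ψ (∑ i, y0 * x i) = Ψ (y0 * (1 + ∑ i, x i)) := by
      rw [← AddChar.map_add_eq_mul, mul_add, mul_one, Finset.mul_sum]
    have h2 : η 0 y0 * ∏ i : Fin N, η i.succ y0 = 1 := by
      rw [← Fin.prod_univ_succ (fun i => η i y0)]
      exact hprodapply y0 hy0
    calc Ψ y0 * η 0 y0 * (Ψ (∑ i, y0 * x i) * ((∏ i : Fin N, η i.succ y0) * ∏ i : Fin N, η i.succ (x i)))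
        = (Ψ y0 * Ψ (∑ i, y0 * x i)) * (η 0 y0 * ∏ i : Fin N, η i.succ y0) *
            ∏ i : Fin N, η i.succ (x i) := by ring
      _ = _ := by rw [h1, h2, mul_one]
  have hI : ∀ y0 : F, ∑ y' : Fin N → F, ∏ i : Fin (N+1),
      (Ψ ((Fin.cons y0 y' : Fin (N+1) → F) i) * η i ((Fin.cons y0 y' : Fin (N+1) → F) i))
      = if y0 = 0 then 0 else ∑ x : Fin N → F, Ψ (y0 * (1 + ∑ i, x i)) * E x := by
    intro y0
    split_ifs with h0
    · subst h0
      apply Finset.sum_eq_zero
      intro y' _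
      rw [Fin.prod_univ_succ, Fin.cons_zero, MulChar.map_zero, mul_zero, zero_mul]
    · rw [← Fintype.sum_equiv (Equiv.piCongrRight (fun _ : Fin N => Equiv.mulLeft₀ y0 h0))
        (fun x => ∏ i : Fin (N+1),
          (Ψ ((Fin.cons y0 (fun j => y0 * x j) : Fin (N+1) → F) i) *
            η i ((Fin.cons y0 (fun j => y0 * x j) : Fin (N+1) → F) i))) _ (fun x => rfl)]
      exact Finset.sum_congr rfl (fun x _ => hS1 y0 h0 x)
  have hinner : ∀ c : F, ∑ y ∈ (Finset.univ : Finset F).erase 0, Ψ (y * c)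
      = (if c = 0 then (Fintype.card F : R) else 0) - 1 := by
    intro c
    rw [Finset.sum_erase_eq_sub (Finset.mem_univ _), zero_mul, AddChar.map_zero_eq_one]
    congr 1
    split_ifs with hc
    · subst hc; simp
    · rw [← AddChar.sum_eq_zero_of_ne_one hΨ]
      exact Fintype.sum_equiv (Equiv.mulRight₀ c hc) _ _ (fun y => rfl)
  have hG : ∏ i : Fin (N+1), ∑ y : F, Ψ y * η i y
      = (Fintype.card F : R) *
        ∑ x ∈ Finset.univ.filter (fun x : Fin N → F => ∑ i, x i = -1), E x := by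
    rw [Finset.prod_univ_sum, Fintype.piFinset_univ]
    rw [← Fintype.sum_equiv (Fin.consEquiv (fun _ : Fin (N+1) => F))
      (fun p => ∏ i : Fin (N+1), (Ψ ((Fin.cons p.1 p.2 : Fin (N+1) → F) i) *
        η i ((Fin.cons p.1 p.2 : Fin (N+1) → F) i))) _ (fun p => rfl)]
    rw [Fintype.sum_prod_type]
    simp only [hI]
    rw [← Finset.sum_erase (Finset.univ : Finset F) (a := 0) (by rw [if_pos rfl])]
    rw [Finset.sum_congr rfl (g := fun y0 => ∑ x : Fin N → F, Ψ (y0 * (1 + ∑ i, x i)) * E x)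
      (fun y0 hy0 => by rw [if_neg (Finset.ne_of_mem_erase hy0)])]
    rw [Finset.sum_comm]
    simp only [← Finset.sum_mul, hinner]
    simp only [sub_mul, one_mul, Finset.sum_sub_distrib, hEsum, sub_zero, ite_mul, zero_mul]
    rw [← Finset.sum_filter, Finset.mul_sum]
    apply Finset.sum_congr
    · ext x
      simp only [Finset.mem_filter, Finset.mem_univ, true_and]
      constructor
      · intro h; exact (eq_neg_of_add_eq_zero_right h)
      · intro h; rw [h]; ring
    · intro x _; rfl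
  -- units sum
  have hJ : ∑ x ∈ (Finset.univ : Finset (Fin N → Fˣ)).filter (fun x => ∑ i, ((x i : Fˣ) : F) = -1),
      ∏ i : Fin N, (χ i.succ)⁻¹ ((x i : Fˣ) : F)
      = ∑ x ∈ Finset.univ.filter (fun x : Fin N → F => ∑ i, x i = -1), E x := by
    apply Finset.sum_of_injOn (fun (x : Fin N → Fˣ) => fun i => ((x i : Fˣ) : F))
    · intro x _ y _ hxy
      funext i
      exact Units.ext (congrFun hxy i)
    · intro x hx
      simp only [Finset.coe_filter, Finset.mem_univ, true_and, Set.mem_ofPred_eq] at hx ⊢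
      exact hx
    · intro x hx hnot
      have hex : ∃ i, x i = 0 := by
        by_contra hcon
        push Not at hcon
        apply hnot
        refine ⟨fun i => Units.mk0 (x i) (hcon i), ?_, ?_⟩
        · simp only [Finset.coe_filter, Finset.mem_univ, true_and, Set.mem_ofPred_eq, Units.val_mk0]
          simpa using hx
        · funext i; simp
      obtain ⟨i, hi⟩ := hex
      apply Finset.prod_eq_zero (Finset.mem_univ i)
      rw [hi, MulChar.map_zero]
    · intro x _; rfl
  rw [hJ, Finset.prod_neg, Finset.card_univ, Fintype.card_fin]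
  show _ = (-1) ^ (N + 1) * ∏ i : Fin (N+1), ∑ y : F, Ψ y * η i y
  rw [hG]
  have hpow : ((-1 : R)) ^ (N + 1) = (-1) ^ (N - 1) := by
    have : N + 1 = (N - 1) + 2 := by omega
    rw [this, pow_add]; simp
  rw [hpow]; ring

end Groth.Agent.S3129
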