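import Groth.Statements.S3133
import Mathlib

set_option autoImplicit false
open Polynomial
open SGA4h

namespace Groth.Agent.S3133

open Polynomial
section Aux

/-- determinant of `1 - x • (companion of T^n - y)` -/
theorem det_cyclic {S : Type*} [CommRing S] (x y : S) (k : ℕ) :
    (Matrix.of fun (i j : Fin (k + 1)) =>
        (if i = j then (1 : S) else 0) -
          x * (if i.val = 0 then (if j.val = k then y else 0)
            else (if j.val + 1 = i.val then 1 else 0))).det = 1 - x ^ (k + 1) * y := by
  classical
  rcases Nat.eq_zero_or_pos k with rfl | hk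
  · simp
  obtain ⟨k, rfl⟩ : ∃ k', k = k' + 1 := ⟨k - 1, by omega⟩
  set M : Matrix (Fin (k + 1 + 1)) (Fin (k + 1 + 1)) S := Matrix.of fun (i j : Fin (k + 1 + 1)) =>
        (if i = j then (1 : S) else 0) -
          x * (if i.val = 0 then (if j.val = k + 1 then y else 0)
            else (if j.val + 1 = i.val then 1 else 0)) with hM
  have hMs : ∀ (a : Fin (k + 1)) (j : Fin (k + 1 + 1)), M a.succ j =
      (if a.val + 1 = j.val then (1 : S) else 0) - x * (if j.val = a.val then 1 else 0) := by
    intro a j
    simp only [hM, Matrix.of_apply, Fin.val_succ, Fin.ext_iff]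
    simp
  rw [Matrix.det_succ_row_zero]
  rw [Finset.sum_eq_add (0 : Fin (k + 2)) (Fin.last (k + 1))]
  · -- main computation
    have h1 : (M.submatrix Fin.succ (Fin.succAbove 0)).det = 1 := by
      rw [Matrix.det_of_lowerTriangular]
      · apply Finset.prod_eq_one
        intro i _
        rw [Matrix.submatrix_apply, hMs]
        simp
      · intro i j hij
        simp only [OrderDual.toDual_lt_toDual] at hij
        rw [Matrix.submatrix_apply, hMs]
        have : i.val < j.val := hij
        have h1 : ¬ (i.val + 1 = ((Fin.succAbove 0) j).val) := by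
          simp; omega
        have h2 : ¬ (((Fin.succAbove 0) j).val = i.val) := by
          simp; omega
        rw [if_neg h1, if_neg h2]; simp
    have h2 : (M.submatrix Fin.succ (Fin.succAbove (Fin.last (k + 1)))).det = (-x) ^ (k + 1) := by
      rw [Matrix.det_of_isUpperTriangular]
      · rw [Finset.prod_eq_pow_card (b := -x)]
        · simp
        · intro i _
          rw [Matrix.submatrix_apply, hMs]
          simp
      · intro i j hij
        simp only [id] at hij
        rw [Matrix.submatrix_apply, hMs]
        have : j.val < i.val := hij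
        have h1 : ¬ (i.val + 1 = ((Fin.succAbove (Fin.last (k + 1))) j).val) := by
          simp; omega
        have h2 : ¬ (((Fin.succAbove (Fin.last (k + 1))) j).val = i.val) := by
          simp; omega
        rw [if_neg h1, if_neg h2]; simp
    rw [h1, h2]
    have h00 : M 0 0 = 1 := by
      simp [hM]
    have h0l : M 0 (Fin.last (k + 1)) = - (x * y) := by
      have h3 : ¬ ((0 : Fin (k + 1 + 1)) = Fin.last (k + 1)) := by
        intro h
        have := congrArg Fin.val h
        simp at this
      simp [hM, h3]
    rw [h00, h0l]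
    simp only [Fin.val_zero, pow_zero, one_mul, mul_one, Fin.val_last]
    have : (-1 : S) ^ (k + 1) * (-x) ^ (k + 1) = x ^ (k + 1) := by
      rw [← mul_pow]; simp
    calc 1 + (-1 : S) ^ (k + 1) * -(x * y) * (-x) ^ (k + 1)
        = 1 - ((-1 : S) ^ (k + 1) * (-x) ^ (k + 1)) * (x * y) := by ring
      _ = 1 - x ^ (k + 1 + 1) * y := by rw [this]; ring
  · intro h
    have := congrArg Fin.val h
    simp at this
  · intro j _ hj
    have hj0 : j.val ≠ 0 := fun h => hj.1 (Fin.ext h)
    have hjl : j.val ≠ k + 1 := fun h => hj.2 (Fin.ext h)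
    have h0j : (0 : Fin (k + 1 + 1)) ≠ j := fun h => hj.1 h.symm
    have : M 0 j = 0 := by
      simp [hM, h0j, hjl]
    rw [this]; simp
  · simp
  · simp

end Aux

/-- Let A be a square matrix over a commutative ring and n ≥ 1, and let B be the matrix on n blocks of
the endomorphism (x_1, …, x_n) ↦ (A x_n, x_1, …, x_{n-1}). Then det(1 − B·T) = det(1 − A·Tⁿ), i.e.
the reverse characteristic polynomial of B is that of A expanded by n. -/
theorem result (R : Type) [CommRing R] (m : Type) [Fintype m] [DecidableEq m]
    (A : Matrix m m R) (n : ℕ) (hn : 1 ≤ n) :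
    (Matrix.of fun (p q : Fin n × m) =>
        if p.1.val = 0 then (if q.1.val = n - 1 then A p.2 q.2 else 0)
        else (if q.1.val + 1 = p.1.val ∧ p.2 = q.2 then 1 else 0)).charpolyRev =
      Polynomial.expand R n A.charpolyRev := by
  classical
  obtain ⟨k, rfl⟩ : ∃ k, n = k + 1 := ⟨n - 1, by omega⟩
  let S := Polynomial (Polynomial R)
  let x : S := C X
  let y : S := X
  let f : S →+* Matrix m m R[X] := (Polynomial.aeval (R := R[X]) (A.map C)).toRingHom
  have hfx : f x = (X : R[X]) • (1 : Matrix m m R[X]) := by
    show (Polynomial.aeval (R := R[X]) (A.map C)) (C X) = _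
    rw [aeval_C, Algebra.algebraMap_eq_smul_one]
  have hfy : f y = A.map C := by
    show (Polynomial.aeval (R := R[X]) (A.map C)) X = _
    rw [aeval_X]
  set M : Matrix (Fin (k + 1)) (Fin (k + 1)) S := Matrix.of fun (i j : Fin (k + 1)) =>
        (if i = j then (1 : S) else 0) -
          x * (if i.val = 0 then (if j.val = k then y else 0)
            else (if j.val + 1 = i.val then 1 else 0)) with hM
  have hdet : M.det = 1 - x ^ (k + 1) * y := det_cyclic x y k
  have key := Matrix.det_det M f
  rw [hdet] at key
  have hL : (f (1 - x ^ (k + 1) * y)).det = Polynomial.expand R (k + 1) A.charpolyRev := by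
    rw [map_sub, map_one, map_mul, map_pow, hfx, hfy, Matrix.charpolyRev, AlgHom.map_det,
      _root_.smul_pow, one_pow, smul_mul_assoc, one_mul]
    congr 1
    refine Matrix.ext fun a b => ?_
    simp [Matrix.one_apply, apply_ite]
  rw [← hL, key, Matrix.charpolyRev]
  congr 1
  refine Matrix.ext fun p q => ?_
  obtain ⟨i, a⟩ := p
  obtain ⟨j, b⟩ := q
  show _ = f (M i j) a b
  simp only [hM, Matrix.of_apply, Matrix.sub_apply, Matrix.one_apply, Matrix.smul_apply,
    Matrix.map_apply, smul_eq_mul, Nat.add_sub_cancel, Prod.mk.injEq]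
  rw [map_sub, map_mul, hfx]
  by_cases hij : i = j
  · subst hij
    by_cases hi0 : i.val = 0
    · by_cases hik : (0 : ℕ) = k
      · subst hik
        simp only [hi0, if_true]
        rw [map_one, hfy, smul_mul_assoc, one_mul]
        simp [Matrix.one_apply]
      · simp [hi0, hik, Matrix.one_apply]
    · simp [hi0, Matrix.one_apply]
  · by_cases hi0 : i.val = 0
    · by_cases hjk : j.val = k
      · simp [hij, hi0, hjk, hfy]
      · simp [hij, hi0, hjk]
    · by_cases hji : j.val + 1 = i.val
      · simp [hij, hi0, hji, Matrix.one_apply]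
      · simp [hij, hi0, hji]

end Groth.Agent.S3133
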