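import Groth.Statements.S3134
import Mathlib.Algebra.Polynomial.Taylor
-- import your own Groth.Agent.* helpers here

set_option autoImplicit false
open Polynomial
open SGA4h

namespace Groth.Agent.S3134

variable {m : Type} [Fintype m] [DecidableEq m]

/-- derivative of `det (1 - X A')` at a point `t` where `1 - t A'` has a right inverse -/
lemma deriv_eval {K : Type} [CommRing K] (A' B B' : Matrix m m K) (t : K)
    (hB : B = 1 - t • A') (hBB' : B * B' = 1) :
    (Polynomial.derivative (Matrix.det (1 - (X : K[X]) • A'.map C))).eval t =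
      -(B.det * (B' * A').trace) := by
  rw [← taylor_coeff_one, taylor_apply, ← coe_compRingHom_apply, RingHom.map_det]
  have h1 : (compRingHom (X + C t)).mapMatrix (1 - (X : K[X]) • A'.map C) =
      B.map C * (1 + (X : K[X]) • (-(B' * A')).map C) := by
    have hBA : B.map C * (B' * A').map (C : K →+* K[X]) = A'.map C := by
      rw [← Matrix.map_mul, ← Matrix.mul_assoc, hBB', Matrix.one_mul]
    have hneg : (-(B' * A')).map (C : K →+* K[X]) = -((B' * A').map C) := by
      ext i j : 2
      simp only [Matrix.map_apply, Matrix.neg_apply, map_neg]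
    rw [Matrix.mul_add, Matrix.mul_one, Matrix.mul_smul, hneg, Matrix.mul_neg, hBA]
    ext i j
    simp only [RingHom.mapMatrix_apply, Matrix.map_apply, Matrix.sub_apply, Matrix.smul_apply,
      smul_eq_mul, coe_compRingHom_apply, hB, Matrix.add_apply, Matrix.neg_apply, Matrix.one_apply]
    split_ifs <;> simp <;> ring
  rw [h1, Matrix.det_mul, ← RingHom.mapMatrix_apply, ← RingHom.map_det, coeff_C_mul,
    Matrix.coeff_det_one_add_X_smul_one, Matrix.trace_neg]
  ring

/-- For a square matrix A over a commutative ring, with P(T) = det(1 − A·T), one has −T·P′(T) = P(T) ·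
Σ_{n ≥ 1} Tr(Aⁿ) Tⁿ as formal power series (equivalently T d/dT log P(T)⁻¹ = Σ_{n≥1} Tr(Aⁿ) Tⁿ). -/
theorem result (R : Type) [CommRing R] (m : Type) [Fintype m] [DecidableEq m]
    (A : Matrix m m R) :
    ((-(X * Polynomial.derivative A.charpolyRev) : R[X]) : PowerSeries R) =
      (A.charpolyRev : PowerSeries R) * PowerSeries.mk (fun n => if n = 0 then 0 else (A ^ n).trace) := by
  let A' : Matrix m m (PowerSeries R) := A.map (PowerSeries.C)
  let B : Matrix m m (PowerSeries R) := 1 - (PowerSeries.X : PowerSeries R) • A'
  let B' : Matrix m m (PowerSeries R) := Matrix.of fun i j => PowerSeries.mk fun n => (A ^ n) i j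
  have hAB' : A' * B' = Matrix.of fun i j => PowerSeries.mk fun n => (A ^ (n + 1)) i j := by
    ext i j n
    simp only [Matrix.mul_apply, A', B', Matrix.map_apply, Matrix.of_apply, map_sum,
      PowerSeries.coeff_C_mul, PowerSeries.coeff_mk, pow_succ']
  have hBB' : B * B' = 1 := by
    show (1 - (PowerSeries.X : PowerSeries R) • A') * B' = 1
    rw [Matrix.sub_mul, Matrix.one_mul, Matrix.smul_mul, hAB']
    ext i j n
    cases n with
    | zero =>
      simp only [Matrix.sub_apply, Matrix.smul_apply, Matrix.of_apply, B', smul_eq_mul, map_sub,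
        PowerSeries.coeff_mk, pow_zero, PowerSeries.coeff_zero_X_mul, sub_zero, Matrix.one_apply]
      split_ifs <;> simp
    | succ n =>
      simp only [Matrix.sub_apply, Matrix.smul_apply, Matrix.of_apply, B', smul_eq_mul, map_sub,
        PowerSeries.coeff_mk, PowerSeries.coeff_succ_X_mul, sub_self, Matrix.one_apply]
      split_ifs <;> simp
  have hJ := deriv_eval A' B B' PowerSeries.X rfl hBB'
  have hPmap : A.charpolyRev.map (PowerSeries.C : R →+* PowerSeries R) =
      Matrix.det (1 - (X : (PowerSeries R)[X]) • A'.map C) := by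
    rw [Matrix.charpolyRev, ← Polynomial.coe_mapRingHom, RingHom.map_det]
    congr 1
    ext i j : 2
    simp only [RingHom.mapMatrix_apply, Matrix.map_apply, Matrix.sub_apply, Matrix.smul_apply,
      Matrix.one_apply, A']
    split_ifs <;> simp
  have hder : ((Polynomial.derivative A.charpolyRev : R[X]) : PowerSeries R) =
      -(B.det * (B' * A').trace) := by
    rw [← hJ, ← hPmap, Polynomial.derivative_map, Polynomial.eval_map, Polynomial.eval₂_C_X_eq_coe]
  have hdet : B.det = (A.charpolyRev : PowerSeries R) := by
    rw [Matrix.charpolyRev, ← Polynomial.coeToPowerSeries.ringHom_apply, RingHom.map_det]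
    congr 1
    ext i j : 2
    simp only [RingHom.mapMatrix_apply, Matrix.map_apply, Matrix.sub_apply, Matrix.smul_apply,
      Matrix.one_apply, A', B]
    split_ifs <;> simp <;> exact mul_comm _ _
  have htr : (B' * A').trace = PowerSeries.mk fun n => (A ^ (n + 1)).trace := by
    ext n
    simp only [Matrix.trace, Matrix.diag_apply, Matrix.mul_apply, B', A', Matrix.of_apply,
      Matrix.map_apply, map_sum, PowerSeries.coeff_mk, PowerSeries.coeff_mul_C, pow_succ]
  have hshift : (PowerSeries.X : PowerSeries R) * (PowerSeries.mk fun n => (A ^ (n + 1)).trace) =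
      PowerSeries.mk (fun n => if n = 0 then 0 else (A ^ n).trace) := by
    ext n
    cases n with
    | zero => simp
    | succ n => simp [PowerSeries.coeff_succ_X_mul]
  rw [Polynomial.coe_neg, Polynomial.coe_mul, Polynomial.coe_X, hder, hdet, htr, ← hshift]
  ring

end Groth.Agent.S3134
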