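import Groth.Statements.S3139
import Groth.Agent.Lib.Helper2.DetCx.Main
import Groth.Agent.Lib.Helper2.AltTr.Derived

set_option autoImplicit false
universe u
open CategoryTheory
attribute [local instance] HasDerivedCategory.standard
open SGA4h

namespace Groth.Agent.S3139
section Aux
end Aux

open Groth.Agent.Lib.Helper2.DetCx Groth.Agent.Lib.Helper2.AltTr in

/-- Let A be a commutative ring, K and K' bounded cochain complexes of finite free A-modules with
endomorphisms u and u', and suppose (K, u) and (K', u') are isomorphic in the derived category D(A):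
there is an isomorphism K ≅ K' in D(A) intertwining the images of u and u'. Then det(1 - u t, K) =
det(1 - u' t, K'), where det(1 - u t, K) = ∏ᵢ det(1 - u t, Kⁱ)^{(-1)^i}; the equality is stated
cross-multiplied, as ∏_{i even} det(1 - u t, Kⁱ) · ∏_{i odd} det(1 - u' t, K'ⁱ) = ∏_{i odd} det(1 -
u t, Kⁱ) · ∏_{i even} det(1 - u' t, K'ⁱ) in A[t]. (The source works with finite projective modules;
finite free is the special case stated here.) -/
theorem result (A : Type u) [CommRing A]
    (K K' : CochainComplex (ModuleCat.{u} A) ℤ) (a b : ℤ) [K.IsStrictlyGE a] [K.IsStrictlyLE b] [K'.IsStrictlyGE a] [K'.IsStrictlyLE b]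
    (hK : ∀ i : ℤ, Module.Finite A (K.X i) ∧ Module.Free A (K.X i)) (hK' : ∀ i : ℤ, Module.Finite A (K'.X i) ∧ Module.Free A (K'.X i))
    (u : K ⟶ K) (u' : K' ⟶ K') (φ : DerivedCategory.Q.obj K ≅ DerivedCategory.Q.obj K')
    (hφ : DerivedCategory.Q.map u ≫ φ.hom = φ.hom ≫ DerivedCategory.Q.map u') :
    SGA4h.detEven K u * SGA4h.detOdd K' u' = SGA4h.detOdd K u * SGA4h.detEven K' u' := by
  classical
  haveI : ∀ n : ℤ, Projective (K.X n) := fun n => by
    haveI := (hK n).2
    exact (IsProjective.iff_projective (K.X n)).mp inferInstance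
  haveI : ∀ n : ℤ, Projective (K'.X n) := fun n => by
    haveI := (hK' n).2
    exact (IsProjective.iff_projective (K'.X n)).mp inferInstance
  haveI : K.IsKProjective := CochainComplex.isKProjective_of_projective K b
  haveI : K'.IsKProjective := CochainComplex.isKProjective_of_projective K' b
  obtain ⟨α, hα⟩ := exists_Q_map_eq K K' φ.hom
  obtain ⟨β, hβ⟩ := exists_Q_map_eq K' K φ.inv
  obtain ⟨h1⟩ := nonempty_homotopy_of_Q_map_eq K K (α ≫ β) (𝟙 K) (by
    rw [Functor.map_comp, hα, hβ, Iso.hom_inv_id, CategoryTheory.Functor.map_id])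
  obtain ⟨h2⟩ := nonempty_homotopy_of_Q_map_eq K' K' (β ≫ α) (𝟙 K') (by
    rw [Functor.map_comp, hα, hβ, Iso.inv_hom_id, CategoryTheory.Functor.map_id])
  obtain ⟨h3⟩ := nonempty_homotopy_of_Q_map_eq K K' (u ≫ α) (α ≫ u') (by
    rw [Functor.map_comp, Functor.map_comp, hα, hφ])
  refine detEven_mul_detOdd α β h1 h2 u u' h3 a b ?_ ?_ hK hK'
  · rintro i (hi | hi)
    · exact ModuleCat.subsingleton_of_isZero (CochainComplex.isZero_of_isStrictlyGE K a i hi)
    · exact ModuleCat.subsingleton_of_isZero (CochainComplex.isZero_of_isStrictlyLE K b i hi)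
  · rintro i (hi | hi)
    · exact ModuleCat.subsingleton_of_isZero (CochainComplex.isZero_of_isStrictlyGE K' a i hi)
    · exact ModuleCat.subsingleton_of_isZero (CochainComplex.isZero_of_isStrictlyLE K' b i hi)

end Groth.Agent.S3139
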