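import Groth.Statements.S5189
import Groth.Agent.Lib.Helper22.EdgeIso.SecSuppAcyclic

set_option autoImplicit false
universe u
open CategoryTheory CategoryTheory.Limits AlgebraicGeometry Opposite
open EtDepth

namespace Groth.Agent.S5189


open Groth.Agent.Lib.Helper22.EdgeIso Groth.Agent.Lib.Helper22.EtLoc in
/-- For an abelian sheaf. Let X be a scheme, j : U → X an open immersion with closed complement Y, F an
abelian sheaf on the small étale site of X and n ≥ 0, and suppose the Y-étale depth of F is ≥ n (the
local cohomology sheaves H^p_Y(F) vanish for p < n). Then the edge homomorphism H^n_Y(X, F) → H^0(X,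
H^n_Y(F)) of the spectral sequence of the composite functor Γ(X, −) ∘ Γ_Y, from the n-th local
cohomology group to the group of global sections of the n-th local cohomology sheaf, is an
isomorphism. -/
theorem result {X U : Scheme.{u}} (j : U ⟶ X) [IsOpenImmersion j] [EtCoh.BCCont j] (F : EtCoh.Ab X) (n : ℕ) (h : EtDepth.DepthGE j F n) : IsIso (RDer.edgeOut (EtDual.secSupp j) (sheafToPresheaf X.smallEtaleTopology AddCommGrpCat.{u+1} ⋙ (evaluation X.Etaleᵒᵖ AddCommGrpCat.{u+1}).obj (op (EtCoh.top X))) n F) := by
  let I := injectiveResolution F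
  let K := ((EtDual.secSupp j).mapHomologicalComplex _).obj I.cocomplex
  have hK : ∀ i, i < n → AcyclicAll (K.X i) := fun i _ =>
    have : Injective (I.cocomplex.X i) := I.injective i
    acyclicAll_secSupp_of_injective j (I.cocomplex.X i)
  have hex : ∀ p, p < n → K.ExactAt p := by
    intro p hp
    rw [HomologicalComplex.exactAt_iff_isZero_homology]
    exact IsZero.of_iso (h p hp) (I.isoRightDerivedObj (EtDual.secSupp j) p).symm
  have h1 := isIso_homologyComparison (acyclicClass_Γ (X := X)) K n hK hex
  have h2 : IsIso (RDer.homologyComparison (sheafToPresheaf X.smallEtaleTopology AddCommGrpCat.{u+1} ⋙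
      (evaluation X.Etaleᵒᵖ AddCommGrpCat.{u+1}).obj (op (EtCoh.top X)))
      (((EtDual.secSupp j).mapHomologicalComplex (ComplexShape.up ℕ)).obj
        (injectiveResolution F).cocomplex) n) := h1
  unfold RDer.edgeOut
  refine @IsIso.comp_isIso _ _ _ _ _ _ _ inferInstance
    (@IsIso.comp_isIso _ _ _ _ _ _ _ ?_ inferInstance)
  exact h1

end Groth.Agent.S5189
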