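import Groth.Statements.S3142
import Groth.Agent.Lib.Helper22.Tate.Local
import Groth.Agent.S5189

set_option autoImplicit false
universe u
open CategoryTheory CategoryTheory.Limits AlgebraicGeometry Opposite
open EtDual

namespace Groth.Agent.S3142


open Groth.Agent.Lib.Helper22.Tate in
/-- Let X be a Noetherian separated scheme, n an integer invertible on X, j : U ⟶ X an open immersion
with closed complement Y, and c a natural number. If the local cohomology sheaves H^p_Y(X, ℤ/n)
vanish for all p < 2c, then the local cohomology group H^{2c}_Y(X, ℤ/n(c)) is isomorphic to the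
group of global sections of the local cohomology sheaf H^{2c}_Y(X, ℤ/n(c)). (The source's
isomorphism is the edge map of the spectral sequence H^p(Y, R^q i^!) ⇒ H^{p+q}_Y; here only the
existence of an isomorphism is asserted.) -/
theorem result {X U : Scheme.{u}} [IsNoetherian X] [X.IsSeparated] (j : U ⟶ X) [IsOpenImmersion j] [EtCoh.BCCont j]
    (n : ℕ) (hn : IsUnit (n : Γ(X, ⊤))) (c : ℕ) (h : ∀ p : ℕ, p < 2 * c → IsZero ((EtDual.locCoh j p).obj (EtCoh.const X (ZMod n)))) :
    Nonempty ((EtDual.HY j (2 * c)).obj (EtDual.tate X n c) ≅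
      ((EtDual.locCoh j (2 * c)).obj (EtDual.tate X n c)).obj.obj (op (EtCoh.top X))) := by
  rcases Nat.eq_zero_or_pos n with h0 | hpos
  · -- `X` is empty
    subst h0
    have hsub : Subsingleton Γ(X, ⊤) := by
      have h1 : IsUnit (0 : Γ(X, ⊤)) := by simpa using hn
      exact subsingleton_of_zero_eq_one (isUnit_zero_iff.1 h1)
    have hE : IsEmpty X := by
      constructor
      intro x
      have h01 : (0 : Γ(X, ⊤)) = 1 := Subsingleton.elim _ _
      have h2 := congrArg (X.presheaf.germ ⊤ x trivial).hom h01
      rw [map_zero, map_one] at h2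
      exact zero_ne_one h2
    have hz := isZero_of_isEmpty X (EtDual.tate X 0 c)
    have h1 : IsZero ((EtDual.HY j (2 * c)).obj (EtDual.tate X 0 c)) := by
      unfold EtDual.HY
      exact Functor.map_isZero _ hz
    have h2 : IsZero (((EtDual.locCoh j (2 * c)).obj (EtDual.tate X 0 c)).obj.obj
        (op (EtCoh.top X))) := by
      have h3 := isZero_of_isEmpty X ((EtDual.locCoh j (2 * c)).obj (EtDual.tate X 0 c))
      exact Functor.map_isZero (sheafToPresheaf X.smallEtaleTopology AddCommGrpCat.{u+1} ⋙
        (evaluation X.Etaleᵒᵖ AddCommGrpCat.{u+1}).obj (op (EtCoh.top X))) h3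
    exact ⟨h1.iso h2⟩
  · have hloc := fun x => exists_etale_tate_const X n hpos hn c x
    have hd : EtDepth.DepthGE j (EtDual.tate X n c) (2 * c) := fun p hp =>
      isZero_locCoh_of_locally_iso j p _ _ hloc (h p hp)
    have hI := Groth.Agent.S5189.result j (EtDual.tate X n c) (2 * c) hd
    exact ⟨@asIso _ _ _ _ (RDer.edgeOut (EtDual.secSupp j)
      (sheafToPresheaf X.smallEtaleTopology AddCommGrpCat.{u+1} ⋙
        (evaluation X.Etaleᵒᵖ AddCommGrpCat.{u+1}).obj (op (EtCoh.top X))) (2 * c)
      (EtDual.tate X n c)) hI⟩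

end Groth.Agent.S3142
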