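import Groth.Statements.S3143
import Groth.Agent.Lib.Helper22.Tate.Local
import Groth.Agent.Lib.Helper22.EtLoc.TripleSupp

set_option autoImplicit false
universe u
open CategoryTheory CategoryTheory.Limits AlgebraicGeometry Opposite
open EtDual

namespace Groth.Agent.S3143


open Groth.Agent.Lib.Helper22.Tate Groth.Agent.Lib.Helper22.EtLoc.TripleSupp in
/-- Let X be a Noetherian separated scheme, n a natural number invertible on X, c a natural number, Y ⊆
X a closed subset with open complement j : U → X, and Z ⊆ Y a closed subset of X with open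
complement k' : X' → X, so that U ⊆ X' through an open immersion j' : U → X' with k' ∘ j' = j, and V
= Y ∩ X' is closed in X' with complement U. If the local cohomology sheaves H^p_Z(ℤ/n) on X vanish
for all p ≤ 2c + 1, then H^{2c}_Y(X, ℤ/n(c)) and H^{2c}_V(X', ℤ/n(c)) are isomorphic. Only the
existence of an isomorphism is asserted; the published statement is that the restriction map is an
isomorphism (and that it is injective under vanishing for p ≤ 2c only). -/
theorem result {X X' U : Scheme.{u}} [IsNoetherian X] [X.IsSeparated]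
    (n : ℕ) (hn : IsUnit (n : Γ(X, ⊤))) (c : ℕ)
    (j : U ⟶ X) [IsOpenImmersion j] (k' : X' ⟶ X) [IsOpenImmersion k'] (j' : U ⟶ X') [IsOpenImmersion j']
    (hfac : j' ≫ k' = j) [EtCoh.BCCont j] [EtCoh.BCCont k'] [EtCoh.BCCont j']
    (hZ : ∀ p : ℕ, p ≤ 2 * c + 1 → IsZero ((EtDual.locCoh k' p).obj (EtCoh.const X (ZMod n)))) :
    Nonempty ((EtDual.HY j (2 * c)).obj (EtDual.tate X n c) ≅ (EtDual.HY j' (2 * c)).obj (EtDual.tate X' n c)) := by
  rcases Nat.eq_zero_or_pos n with h0 | hpos
  · subst h0
    have hsub : Subsingleton Γ(X, ⊤) := by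
      have h1 : IsUnit (0 : Γ(X, ⊤)) := by simpa using hn
      exact subsingleton_of_zero_eq_one (isUnit_zero_iff.1 h1)
    have hE : IsEmpty X := by
      constructor
      intro x
      have h01 : (0 : Γ(X, ⊤)) = 1 := Subsingleton.elim _ _
      have h2 := congrArg (X.presheaf.germ ⊤ x trivial).hom h01
      rw [map_zero, map_one] at h2
      exact zero_ne_one h2
    have hE' : IsEmpty X' := ⟨fun x' => hE.false (k' x')⟩
    have h1 : IsZero ((EtDual.HY j (2 * c)).obj (EtDual.tate X 0 c)) := by
      unfold EtDual.HY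
      exact Functor.map_isZero _ (isZero_of_isEmpty X _)
    have h2 : IsZero ((EtDual.HY j' (2 * c)).obj (EtDual.tate X' 0 c)) := by
      unfold EtDual.HY
      exact Functor.map_isZero _ (isZero_of_isEmpty X' _)
    exact ⟨h1.iso h2⟩
  · have hloc := fun x => exists_etale_tate_const X n hpos hn c x
    have hd : ∀ q, q < 2 * c + 2 → IsZero ((EtDual.locCoh k' q).obj (EtDual.tate X n c)) :=
      fun q hq => isZero_locCoh_of_locally_iso k' q _ _ hloc (hZ q (by omega))
    have hHY := isZero_HY_of_isZero_locCoh k' (EtDual.tate X n c) (2 * c + 2) hd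
    obtain ⟨e⟩ := nonempty_HY_iso_of_isZero j k' j' hfac (EtDual.tate X n c) (2 * c)
      (hHY _ (by omega)) (hHY _ (by omega))
    exact ⟨e ≪≫ (EtDual.HY j' (2 * c)).mapIso (resTateIso k' n c)⟩

end Groth.Agent.S3143
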