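import Groth.Statements.S3195
import Mathlib
import Groth.Agent.Lib.Helper11.KzExt2
import Groth.Agent.Lib.Helper11.KzExt3
import Groth.Agent.Lib.Helper11.KzRes
import Groth.Agent.Lib.Helper16.KzComp1

set_option autoImplicit false
universe u
open CategoryTheory
open SGA6

namespace Groth.Agent.S3195

/-- Let A be a commutative ring and f, g, h finite sequences of elements of A such that the
concatenations f ++ g, f ++ h and f ++ g ++ h are Koszul-regular (their Koszul complexes are
resolutions of the quotients); put I = (f, g) and J = (f, h). Then for every i ≥ 1 the A-module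
Tor_i^A(A/I, A/J) (Mathlib's Tor, left-derived in the second variable) is isomorphic to the i-th
exterior power over A of Tor_1^A(A/I, A/J). (The source takes exterior powers over O_T = A/(I+J),
which for i ≥ 1 gives the same module since Tor_1 is killed by I + J; over A the case i = 0 would
give A instead of Tor_0 = A/(I+J), so it is left out. The source states this for closed subschemes
of a scheme locally of this form and identifies Tor_1 with the excess conormal bundle.) -/
theorem result (A : Type u) [CommRing A] (f g h : List A)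
    (hfg : LCI.IsKoszulRegularSeq A (f ++ g)) (hfh : LCI.IsKoszulRegularSeq A (f ++ h)) (hfgh : LCI.IsKoszulRegularSeq A (f ++ g ++ h)) (i : ℕ) (hi : 1 ≤ i) :
    Nonempty (((CategoryTheory.Tor (ModuleCat.{u} A) i).obj (ModuleCat.of A (A ⧸ Ideal.span {x | x ∈ f ++ g}))).obj (ModuleCat.of A (A ⧸ Ideal.span {x | x ∈ f ++ h})) ≅
      ModuleCat.of A (⋀[A]^i (((CategoryTheory.Tor (ModuleCat.{u} A) 1).obj (ModuleCat.of A (A ⧸ Ideal.span {x | x ∈ f ++ g}))).obj (ModuleCat.of A (A ⧸ Ideal.span {x | x ∈ f ++ h}))))) := by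
  classical
  open Groth.Agent.Lib.Helper11.Kz Groth.Agent.Lib.Helper11.KzExt Groth.Agent.Lib.Helper16.KzInv
    Groth.Agent.Lib.Helper16.KzComp CohIII in
  -- notation
  set I : Ideal A := Ideal.ofList (f ++ h) with hI
  let B : Type u := A ⧸ I
  let K' : Ideal A := I ⊔ Ideal.ofList g
  have hB : ∀ k ∈ I, ∀ b : B, k • b = 0 := by
    intro k hk b
    obtain ⟨b, rfl⟩ := Ideal.Quotient.mk_surjective b
    show Ideal.Quotient.mk I (k * b) = 0
    exact Ideal.Quotient.eq_zero_iff_mem.2 (I.mul_mem_right _ hk)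
  -- Koszul regularity of g on B
  have hperm : (f ++ g ++ h).Perm (g ++ (f ++ h)) := by
    rw [List.append_assoc]
    exact (List.perm_append_comm_assoc f g h)
  have hg1 : LCI.IsKoszulRegularSeq A (g ++ (f ++ h)) := isKoszulRegularSeq_perm hperm hfgh
  have hg2 := (kreg_append_iff (f ++ h) g hfh).1 hg1
  have hg3 := (kreg_map_iff_kz (A := A) (B := A ⧸ Ideal.ofList (f ++ h)) g).1 hg2
  have h0 : ∀ n : ℤ, n ≠ 0 → Subsingleton (KH g B n) := by
    intro n hn
    have := hg3 n hn
    rw [← koszulCx_eq_kz] at this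
    exact ModuleCat.subsingleton_of_isZero this
  -- H^0
  obtain ⟨e00⟩ := Groth.Agent.Lib.Helper28.Koszul.nonempty_homologyZero_equiv B g
  have e01 : (B ⧸ (Ideal.ofList g • (⊤ : Submodule A B))) ≃ₗ[A] (A ⧸ K') := by
    let π : A →ₗ[A] (B ⧸ (Ideal.ofList g • (⊤ : Submodule A B))) :=
      (Submodule.mkQ _) ∘ₗ (Submodule.mkQ I)
    have hπ : Function.Surjective π :=
      (Submodule.mkQ_surjective _).comp (Submodule.mkQ_surjective _)
    have hker : LinearMap.ker π = K' := by
      ext a
      rw [LinearMap.mem_ker]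
      show Submodule.Quotient.mk (Submodule.Quotient.mk a) = 0 ↔ _
      rw [Submodule.Quotient.mk_eq_zero, Ideal.smul_top_eq_map, Submodule.restrictScalars_mem]
      show Ideal.Quotient.mk I a ∈ Ideal.map (Ideal.Quotient.mk I) (Ideal.ofList g) ↔ _
      rw [Ideal.mem_quotient_iff_mem_sup, sup_comm]
    exact (LinearMap.quotKerEquivOfSurjective π hπ).symm.trans (Submodule.quotEquivOfEq _ _ hker)
  have e0 : KH g B 0 ≃ₗ[A] (A ⧸ (I ⊔ Ideal.ofList g)) := e00.trans e01
  -- freeness of Koszul homology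
  have hfI : ∀ x ∈ f, x ∈ I := fun x hx =>
    Ideal.subset_span (List.mem_append_left _ hx)
  have hfree := KH_free I B hB g h0 e0 f hfI
  -- Tor as Koszul homology
  have hKz : ∀ n : ℤ, n ≠ 0 → Limits.IsZero ((koszulCx (ModuleCat.of A A) (f ++ g)).homology n) := by
    intro n hn
    have := (isKoszulRegularSeq_iff (f ++ g)).1 hfg n hn
    rwa [← koszulCx_eq_kz] at this
  obtain ⟨t1⟩ := nonempty_tor_equiv (f ++ g) hKz B 1
  obtain ⟨ti⟩ := nonempty_tor_equiv (f ++ g) hKz B i
  obtain ⟨k1⟩ := hfree (-((1 : ℕ) : ℤ))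
  obtain ⟨ki⟩ := hfree (-(i : ℤ))
  rw [dd_neg] at k1 ki
  rw [Nat.choose_one_right] at k1
  obtain ⟨j, rfl⟩ : ∃ j, i = j + 1 := ⟨i - 1, by omega⟩
  obtain ⟨E⟩ := nonempty_extPow_pi_equiv' (I ⊔ Ideal.ofList g) f.length j
  have e1 := extPowCongr' (A := A) (j + 1) (t1.trans k1)
  exact ⟨((ti.trans ki).trans (e1.trans E).symm).toModuleIso⟩

end Groth.Agent.S3195
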