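import Groth.Statements.S3207
import Mathlib
import Groth.Agent.Lib.Helper6.RankOne2
-- import your own Groth.Agent.* helpers here

set_option autoImplicit false
universe u
open CategoryTheory CategoryTheory.Limits AlgebraicGeometry
open SGA7

namespace Groth.Agent.S3207

/-- Let g : T -> S be locally quasi-finite, of finite presentation, separated and flat. If for every
maximal point s of S (a point with no proper generization) the fibre of g over s is either empty or
mapped isomorphically onto Spec κ(s) (rank at most 1), then g is an open immersion. -/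
theorem result {T S : Scheme.{u}} (g : T ⟶ S) [LocallyQuasiFinite g]
    [LocallyOfFinitePresentation g] [QuasiCompact g] [IsSeparated g] [Flat g]
    (h : ∀ s : S, (∀ t : S, t ⤳ s → t = s) →
      IsEmpty ↑(pullback g (S.fromSpecResidueField s)) ∨ IsIso (pullback.snd g (S.fromSpecResidueField s))) :
    IsOpenImmersion g := by
  have hmax : ∀ s : S, (∀ t : S, t ⤳ s → t = s) →
      IsEmpty ↑(g.fiber s) ∨ IsIso (g.fiberToSpecResidueField s) := h
  choose O hO1 hO2 using fun t₀ : T =>
    Groth.Agent.Lib.Helper6.RankOne.exists_opens_isIso_restrict g hmax t₀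
  refine AlgebraicGeometry.IsZariskiLocalAtTarget.of_range_subset_iSup
    (P := @AlgebraicGeometry.IsOpenImmersion) O ?_ (fun t => ?_)
  · rintro _ ⟨t, rfl⟩
    exact TopologicalSpace.Opens.mem_iSup.mpr ⟨t, hO1 t⟩
  · haveI := hO2 t
    infer_instance

end Groth.Agent.S3207
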