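import Groth.Statements.S3208
import Mathlib.LinearAlgebra.FreeModule.PID
import Mathlib.Data.Nat.Factors
import Mathlib.Algebra.Ring.GeomSum
import Mathlib.Data.Nat.Choose.Sum
import Mathlib.Data.Int.GCD
import Mathlib.Tactic.LinearCombination
import Mathlib.Tactic.IntervalCases
import Mathlib.Algebra.Ring.Parity
import Mathlib.Data.Nat.Prime.Basic
import Mathlib.RingTheory.PrincipalIdealDomain
import Mathlib.Algebra.EuclideanDomain.Int
-- import your own Groth.Agent.* helpers here

set_option autoImplicit false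
open SGA7

namespace Groth.Agent.S3208

variable {E : Type} [CommRing E] [NoZeroSMulDivisors ℤ E]

/-- cancel a nonzero integer factor -/
lemma cancel_nat {c : ℕ} (hc : c ≠ 0) {x y : E} (h : (c : E) * x = (c : E) * y) : x = y := by
  have h' : (c : ℤ) • (x - y) = 0 := by
    rw [zsmul_eq_mul, mul_sub, Int.cast_natCast, h, sub_self]
  rcases eq_zero_or_eq_zero_of_smul_eq_zero h' with h0 | h0
  · exact absurd (by exact_mod_cast h0) hc
  · exact sub_eq_zero.mp h0

/-- no infinitely divisible elements -/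
lemma eq_zero_of_forall_dvd [Module.Finite ℤ E] {N : ℕ} (hN : 2 ≤ N) (x : E)
    (h : ∀ k : ℕ, ∃ y : E, x = (N : E) ^ k * y) : x = 0 := by
  have : Module.Free ℤ E := Module.free_of_finite_type_torsion_free'
  let b := Module.Free.chooseBasis ℤ E
  apply b.repr.injective
  rw [map_zero]
  ext i
  rw [Finsupp.zero_apply]
  have hdvd : ∀ k : ℕ, (N : ℤ) ^ k ∣ b.repr x i := by
    intro k
    obtain ⟨y, hy⟩ := h k
    refine ⟨b.repr y i, ?_⟩
    have : x = ((N : ℤ) ^ k) • y := by
      rw [zsmul_eq_mul, hy]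
      push_cast
      rfl
    rw [this, map_smul, Finsupp.smul_apply, smul_eq_mul]
  by_contra hne
  have h1 : N ^ (b.repr x i).natAbs ∣ (b.repr x i).natAbs := by
    have := Int.natAbs_dvd_natAbs.mpr (hdvd (b.repr x i).natAbs)
    rwa [Int.natAbs_pow, Int.natAbs_natCast] at this
  have h2 := Nat.le_of_dvd (Int.natAbs_pos.mpr hne) h1
  have h3 := Nat.lt_pow_self (show 1 < N by omega) (n := (b.repr x i).natAbs)
  omega

/-- the key step -/
lemma step {ℓ p k : ℕ} (hℓ : ℓ.Prime) (hp : p.Prime) (hk : 1 ≤ k) (hk2 : ℓ = 2 → 2 ≤ k)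
    (u w : E) (hu : u = 1 + (ℓ : E) ^ k * w) (hup : u ^ p = 1) : ∃ w' : E, w = (ℓ : E) * w' := by
  have hℓ0 : ℓ ≠ 0 := hℓ.ne_zero
  have hp2 : 2 ≤ p := hp.two_le
  -- binomial expansion
  set y : E := (ℓ : E) ^ k * w with hy
  have hexp : (y + 1) ^ p = y ^ 3 * (∑ m ∈ Finset.range (p - 2), y ^ m * (p.choose (m + 3) : E))
      + 1 + (p : E) * y + (p.choose 2 : E) * y ^ 2 := by
    rw [add_pow]
    have hp' : p + 1 = (p - 2) + 3 := by omega
    rw [hp', Finset.sum_range_succ', Finset.sum_range_succ', Finset.sum_range_succ', Finset.mul_sum]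
    simp only [one_pow, mul_one, pow_zero, Nat.choose_zero_right, Nat.cast_one, zero_add, pow_one,
      Nat.choose_one_right]
    have e1 : ∀ m : ℕ, y ^ (m + 1 + 1 + 1) * (p.choose (m + 1 + 1 + 1) : E) =
        y ^ 3 * (y ^ m * (p.choose (m + 3) : E)) := fun m => by ring
    simp only [e1]
    ring
  set R : E := ∑ m ∈ Finset.range (p - 2), y ^ m * (p.choose (m + 3) : E) with hR
  have h0 : y ^ 3 * R + (p : E) * y + (p.choose 2 : E) * y ^ 2 = 0 := by
    have : (y + 1) ^ p = 1 := by rw [add_comm, ← hu, hup]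
    rw [hexp] at this
    linear_combination this
  -- cancel ℓ^k
  have h1 : (p : E) * w = -((ℓ : E) ^ k * ((ℓ : E) ^ k * w ^ 3 * R + (p.choose 2 : E) * w ^ 2)) := by
    have hc : ((ℓ ^ k : ℕ) : E) * ((p : E) * w) =
        ((ℓ ^ k : ℕ) : E) * -((ℓ : E) ^ k * ((ℓ : E) ^ k * w ^ 3 * R + (p.choose 2 : E) * w ^ 2)) := by
      push_cast
      rw [hy] at h0
      linear_combination h0
    exact cancel_nat (pow_ne_zero k hℓ0) hc
  set Q : E := (ℓ : E) ^ k * w ^ 3 * R + (p.choose 2 : E) * w ^ 2 with hQ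
  by_cases hpl : p = ℓ
  · subst hpl
    -- p w = - p^k Q
    obtain ⟨k', rfl⟩ : ∃ k', k = k' + 1 := ⟨k - 1, by omega⟩
    have h2 : w = -((p : E) ^ k' * Q) := by
      apply cancel_nat hℓ0
      rw [h1]
      ring
    by_cases hk' : k' = 0
    · subst hk'
      have hp_odd : p ≠ 2 := fun h => by have := hk2 h; omega
      have hodd : Odd p := hp.odd_of_ne_two hp_odd
      obtain ⟨c, hc⟩ := hodd
      have hch : p.choose 2 = p * c := by
        rw [Nat.choose_two_right, hc]
        have : (2 * c + 1) * (2 * c + 1 - 1) = 2 * ((2 * c + 1) * c) := by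
          rw [Nat.add_sub_cancel]; ring
        rw [this, Nat.mul_div_cancel_left _ (by norm_num)]
      refine ⟨-(w ^ 3 * R + (c : E) * w ^ 2), ?_⟩
      have hQ' : Q = (p : E) * (w ^ 3 * R + (c : E) * w ^ 2) := by
        rw [hQ, hch]
        push_cast
        ring
      rw [hQ'] at h2
      linear_combination h2
    · obtain ⟨k'', rfl⟩ : ∃ k'', k' = k'' + 1 := ⟨k' - 1, by omega⟩
      refine ⟨-((p : E) ^ k'' * Q), ?_⟩
      linear_combination h2
  · -- Bezout
    have hcop : Nat.Coprime p ℓ := (Nat.coprime_primes hp hℓ).mpr hpl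
    have hb : (p : ℤ) * Nat.gcdA p ℓ + (ℓ : ℤ) * Nat.gcdB p ℓ = 1 := by
      have := Nat.gcd_eq_gcd_ab p ℓ
      rw [hcop.gcd_eq_one] at this
      exact_mod_cast this.symm
    have hb' : (p : E) * ((Nat.gcdA p ℓ : ℤ) : E) + (ℓ : E) * ((Nat.gcdB p ℓ : ℤ) : E) = 1 := by
      have := congrArg (Int.cast : ℤ → E) hb
      push_cast at this
      exact this
    obtain ⟨k', rfl⟩ : ∃ k', k = k' + 1 := ⟨k - 1, by omega⟩
    refine ⟨-((ℓ : E) ^ k' * Q) * ((Nat.gcdA p ℓ : ℤ) : E) + ((Nat.gcdB p ℓ : ℤ) : E) * w, ?_⟩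
    have : w = ((p : E) * w) * ((Nat.gcdA p ℓ : ℤ) : E) + (ℓ : E) * ((Nat.gcdB p ℓ : ℤ) : E) * w := by
      linear_combination (-w) * hb'
    rw [h1] at this
    linear_combination this

/-- prime order case -/
lemma prime_case [Module.Finite ℤ E] {ℓ p k : ℕ} (hℓ : ℓ.Prime) (hp : p.Prime) (hk : 1 ≤ k)
    (hk2 : ℓ = 2 → 2 ≤ k) (u w : E) (hu : u = 1 + (ℓ : E) ^ k * w) (hup : u ^ p = 1) : u = 1 := by
  have key : ∀ j : ℕ, ∃ w' : E, u = 1 + (ℓ : E) ^ (k + j) * w' := by
    intro j
    induction j with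
    | zero => exact ⟨w, hu⟩
    | succ j ih =>
      obtain ⟨w', hw'⟩ := ih
      obtain ⟨w'', hw''⟩ := step hℓ hp (by omega : 1 ≤ k + j) (fun h => by have := hk2 h; omega)
        u w' hw' hup
      refine ⟨w'', ?_⟩
      rw [hw', hw'']
      ring
  have h0 : u - 1 = 0 := by
    apply eq_zero_of_forall_dvd hℓ.two_le
    intro j
    obtain ⟨w', hw'⟩ := key j
    refine ⟨(ℓ : E) ^ k * w', ?_⟩
    rw [hw']
    ring
  exact sub_eq_zero.mp h0

/-- general finite order -/
lemma general_case [Module.Finite ℤ E] {ℓ k : ℕ} (hℓ : ℓ.Prime) (hk : 1 ≤ k)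
    (hk2 : ℓ = 2 → 2 ≤ k) (m : ℕ) : ∀ (u w : E), 0 < m → u = 1 + (ℓ : E) ^ k * w → u ^ m = 1 →
    u = 1 := by
  induction m using Nat.strong_induction_on with
  | _ m ih =>
    intro u w hm hu hum
    by_cases hm1 : m = 1
    · subst hm1
      simpa using hum
    · have hp : (m.minFac).Prime := Nat.minFac_prime hm1
      obtain ⟨m', hm'⟩ := Nat.minFac_dvd m
      have hm'pos : 0 < m' := by
        rcases Nat.eq_zero_or_pos m' with h | h
        · subst h; omega
        · exact h
      have hm'lt : m' < m := by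
        have := hp.two_le
        nlinarith
      -- u' = u ^ m'
      obtain ⟨c, hc⟩ := sub_one_dvd_pow_sub_one u m'
      have hu' : u ^ m' = 1 + (ℓ : E) ^ k * (w * c) := by
        have : u - 1 = (ℓ : E) ^ k * w := by rw [hu]; ring
        rw [this] at hc
        linear_combination hc
      have hup : (u ^ m') ^ m.minFac = 1 := by
        rw [← pow_mul, mul_comm, ← hm', hum]
      have h1 := prime_case hℓ hp hk hk2 (u ^ m') (w * c) hu' hup
      exact ih m' hm'lt u w hm'pos hu h1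

/-- Let E be a commutative ring which is finitely generated and torsion-free as an additive group, u an
element of E of finite multiplicative order (u^m = 1 for some m > 0), and n ≥ 2 an integer with u ≡
1 modulo nE (i.e. 1 - u = n·v for some v ∈ E). Then u² = 1, and if n ≥ 3 then u = 1. -/
theorem result (E : Type) [CommRing E] [NoZeroSMulDivisors ℤ E] [Module.Finite ℤ E] (u : E) (m : ℕ) (hm : 0 < m)
    (hu : u ^ m = 1) (n : ℕ) (hn : 2 ≤ n) (hcong : ∃ v : E, 1 - u = (n : E) * v) :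
    u ^ 2 = 1 ∧ (3 ≤ n → u = 1) := by
  obtain ⟨v, hv⟩ := hcong
  have part2 : 3 ≤ n → u = 1 := by
    intro h3
    by_cases hodd : ∃ ℓ, ℓ.Prime ∧ ℓ ∣ n ∧ ℓ ≠ 2
    · obtain ⟨ℓ, hℓ, ⟨n', rfl⟩, hℓ2⟩ := hodd
      refine general_case hℓ (k := 1) le_rfl (fun h => absurd h hℓ2) m u (-(n' : E) * v) hm ?_ hu
      push_cast at hv
      linear_combination -hv
    · push Not at hodd
      have hpow := Nat.eq_prime_pow_of_unique_prime_dvd (p := 2) (by omega : n ≠ 0)
        (fun {d} hd hdn => hodd d hd hdn)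
      obtain ⟨a, ha⟩ : ∃ a, n = 2 ^ a := ⟨_, hpow⟩
      have ha2 : 2 ≤ a := by
        by_contra hlt
        push Not at hlt
        interval_cases a <;> simp at ha <;> omega
      obtain ⟨a', rfl⟩ : ∃ a', a = a' + 2 := ⟨a - 2, by omega⟩
      refine general_case Nat.prime_two (k := 2) (by norm_num) (fun _ => le_rfl) m u
        (-((2 : E) ^ a') * v) hm ?_ hu
      rw [ha] at hv
      push_cast at hv
      linear_combination -hv
  refine ⟨?_, part2⟩
  rcases Nat.lt_or_ge n 3 with h | h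
  · have hn2 : n = 2 := by omega
    subst hn2
    refine general_case Nat.prime_two (k := 2) (by norm_num) (fun _ => le_rfl) m (u ^ 2)
      (v ^ 2 - v) hm ?_ ?_
    · have : u = 1 - 2 * v := by
        push_cast at hv
        linear_combination -hv
      rw [this]
      push_cast
      ring
    · rw [← pow_mul, mul_comm, pow_mul, hu, one_pow]
  · rw [part2 h, one_pow]

end Groth.Agent.S3208
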