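import Groth.Statements.S3209
import Mathlib.LinearAlgebra.TensorProduct.RightExactness
-- import your own Groth.Agent.* helpers here

set_option autoImplicit false
universe u
open TensorProduct
open SGA7

namespace Groth.Agent.S3209

lemma map_id_eq_lTensor {R S M N : Type u} [CommRing R] [CommRing S] [CommRing M] [CommRing N]
    [Algebra R S] [Algebra R M] [Algebra R N] (h : M →ₐ[R] N) (z : S ⊗[R] M) :
    Algebra.TensorProduct.map (AlgHom.id R S) h z = LinearMap.lTensor S h.toLinearMap z := by
  induction z using TensorProduct.induction_on with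
  | zero => simp
  | tmul s m => simp
  | add x y hx hy => simp only [map_add, hx, hy]

/-- Let f : B' → B be a surjective map of R-algebras with kernel J, g : C → B a map of R-algebras, P =
B' ×_B C their fibre product (the equalizer of f ∘ pr₁ and g ∘ pr₂ in B' × C) and S an R-algebra
such that S ⊗_R J → S ⊗_R B' is injective (this holds when Tor_1^R(B, S) = 0, the published
hypothesis, and in particular when S is flat). Then the canonical map S ⊗_R P → (S ⊗_R B') ×_{S ⊗_R
B} (S ⊗_R C) is bijective: it is injective, and every pair with the same image in S ⊗_R B comes from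
S ⊗_R P. -/
theorem result (R B' B C S : Type u) [CommRing R] [CommRing B'] [CommRing B] [CommRing C]
    [CommRing S] [Algebra R B'] [Algebra R B] [Algebra R C] [Algebra R S]
    (f : B' →ₐ[R] B) (hf : Function.Surjective f) (g : C →ₐ[R] B)
    (hJ : Function.Injective (LinearMap.lTensor S (LinearMap.ker f.toLinearMap).subtype)) :
    letI P := AlgHom.equalizer (f.comp (AlgHom.fst R B' C)) (g.comp (AlgHom.snd R B' C))
    letI φ₁ := Algebra.TensorProduct.map (AlgHom.id R S) ((AlgHom.fst R B' C).comp P.val)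
    letI φ₂ := Algebra.TensorProduct.map (AlgHom.id R S) ((AlgHom.snd R B' C).comp P.val)
    Function.Injective (fun z : S ⊗[R] ↥P => (φ₁ z, φ₂ z)) ∧
    ∀ (x : S ⊗[R] B') (y : S ⊗[R] C),
      Algebra.TensorProduct.map (AlgHom.id R S) f x = Algebra.TensorProduct.map (AlgHom.id R S) g y →
        ∃ z : S ⊗[R] ↥P, φ₁ z = x ∧ φ₂ z = y := by
  set P := AlgHom.equalizer (f.comp (AlgHom.fst R B' C)) (g.comp (AlgHom.snd R B' C)) with hPdef
  set J := LinearMap.ker f.toLinearMap with hJdef
  have hPmem : ∀ x : B' × C, x ∈ P ↔ f x.1 = g x.2 := fun x => Iff.rfl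
  let p₁ : P →ₗ[R] B' := ((AlgHom.fst R B' C).comp P.val).toLinearMap
  let p₂ : P →ₗ[R] C := ((AlgHom.snd R B' C).comp P.val).toLinearMap
  let ι : J →ₗ[R] P :=
    { toFun := fun j => ⟨(j.1, 0), by
        rw [hPmem]
        have := j.2
        simp only [hJdef, LinearMap.mem_ker, AlgHom.toLinearMap_apply] at this
        simp [this]⟩
      map_add' := fun x y => by ext <;> simp
      map_smul' := fun r x => by ext <;> simp }
  have hp₁ι : p₁ ∘ₗ ι = J.subtype := by ext j; rfl
  have hp₂ι : p₂ ∘ₗ ι = 0 := by ext j; rfl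
  have hfg : f.toLinearMap ∘ₗ p₁ = g.toLinearMap ∘ₗ p₂ := by
    ext x
    exact (hPmem x.1).mp x.2
  have hp₂s : Function.Surjective p₂ := by
    intro c
    obtain ⟨b', hb'⟩ := hf (g c)
    exact ⟨⟨(b', c), (hPmem _).mpr hb'⟩, rfl⟩
  have hex₂ : Function.Exact ι p₂ := by
    intro x
    constructor
    · intro hx
      have hx2 : x.1.2 = 0 := hx
      have hx1 : f x.1.1 = 0 := by
        have := (hPmem x.1).mp x.2
        rw [this, hx2, map_zero]
      refine ⟨⟨x.1.1, hx1⟩, ?_⟩
      ext
      · rfl
      · exact hx2.symm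
    · rintro ⟨j, rfl⟩
      rfl
  have hexf : Function.Exact J.subtype f.toLinearMap := LinearMap.exact_subtype_ker_map _
  have hfs : Function.Surjective f.toLinearMap := hf
  have E₂ := lTensor_exact S hex₂ hp₂s
  have Ef := lTensor_exact S hexf hfs
  have c1 : ∀ w, LinearMap.lTensor S p₁ (LinearMap.lTensor S ι w) = LinearMap.lTensor S J.subtype w := by
    intro w
    rw [← LinearMap.comp_apply, ← LinearMap.lTensor_comp, hp₁ι]
  have c2 : ∀ w, LinearMap.lTensor S p₂ (LinearMap.lTensor S ι w) = 0 := by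
    intro w
    rw [← LinearMap.comp_apply, ← LinearMap.lTensor_comp, hp₂ι, LinearMap.lTensor_zero,
      LinearMap.zero_apply]
  have c3 : ∀ z, LinearMap.lTensor S f.toLinearMap (LinearMap.lTensor S p₁ z) =
      LinearMap.lTensor S g.toLinearMap (LinearMap.lTensor S p₂ z) := by
    intro z
    rw [← LinearMap.comp_apply, ← LinearMap.lTensor_comp, hfg, LinearMap.lTensor_comp,
      LinearMap.comp_apply]
  refine ⟨?_, ?_⟩
  · intro z z' hzz'
    simp only [Prod.mk.injEq, map_id_eq_lTensor] at hzz'
    obtain ⟨h1, h2⟩ := hzz'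
    have h1' : LinearMap.lTensor S p₁ (z - z') = 0 := by rw [map_sub, sub_eq_zero]; exact h1
    have h2' : LinearMap.lTensor S p₂ (z - z') = 0 := by rw [map_sub, sub_eq_zero]; exact h2
    obtain ⟨w, hw⟩ := (E₂ _).mp h2'
    rw [← hw, c1] at h1'
    have hw0 : w = 0 := hJ (by rw [h1', map_zero])
    rw [hw0, map_zero] at hw
    exact sub_eq_zero.mp hw.symm
  · intro x y hxy
    simp only [map_id_eq_lTensor] at hxy ⊢
    obtain ⟨z₀, hz₀⟩ := LinearMap.lTensor_surjective S hp₂s y
    have hx' : LinearMap.lTensor S f.toLinearMap (x - LinearMap.lTensor S p₁ z₀) = 0 := by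
      rw [map_sub, c3, hz₀, hxy, sub_self]
    obtain ⟨w, hw⟩ := (Ef _).mp hx'
    refine ⟨z₀ + LinearMap.lTensor S ι w, ?_, ?_⟩
    · show LinearMap.lTensor S p₁ (z₀ + LinearMap.lTensor S ι w) = x
      rw [map_add, c1, hw]
      abel
    · show LinearMap.lTensor S p₂ (z₀ + LinearMap.lTensor S ι w) = y
      rw [map_add, c2, hz₀, add_zero]

end Groth.Agent.S3209
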