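import Groth.Statements.S3214
import Mathlib.RingTheory.Polynomial.Vieta
-- import your own Groth.Agent.* helpers here

set_option autoImplicit false
open Polynomial
universe u
open SGA7II

namespace Groth.Agent.S3214

/-- In the recursive form established in its proof: let A = Z[X_1, ..., X_a] (a >= 1), P = prod_i (T -
X_i) in A[T] and S_i the i-th elementary symmetric function. Writing a_j for the coefficient of
T^{a-1} in the remainder of T^{a-1+j} modulo P, one has a_0 = 1 and sum_{i=0}^{a} (-1)^i S_i a_{j-i}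
= 0 for every j > 0 (with a_m = 0 for m < 0); equivalently sum_j (-1)^j a_j is the inverse of sum_i
S_i. (The source works in formal power series; the identity involves only polynomials.) -/
theorem result (a : ℕ) (ha : 0 < a) :
    let P : (MvPolynomial (Fin a) ℤ)[X] := ∏ i : Fin a, (X - C (MvPolynomial.X i))
    let coef : ℤ → MvPolynomial (Fin a) ℤ := fun j =>
      if j < 0 then 0 else ((X : (MvPolynomial (Fin a) ℤ)[X]) ^ (a - 1 + j.toNat) %ₘ P).coeff (a - 1)
    coef 0 = 1 ∧ ∀ j : ℕ, 0 < j →
      (∑ i ∈ Finset.range (a + 1), (-1 : MvPolynomial (Fin a) ℤ) ^ i * MvPolynomial.esymm (Fin a) ℤ i *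
        coef ((j : ℤ) - i)) = 0 := by
  intro P coef
  have hmonic : P.Monic := monic_prod_of_monic _ _ fun i _ => monic_X_sub_C _
  have hdeg : P.natDegree = a := by
    rw [natDegree_prod_of_monic _ _ fun i _ => monic_X_sub_C _]
    simp
  have hmod_small : ∀ k : ℕ, k < a → (X : (MvPolynomial (Fin a) ℤ)[X]) ^ k %ₘ P = X ^ k := by
    intro k hk
    rw [modByMonic_eq_self_iff hmonic]
    rw [degree_eq_natDegree hmonic.ne_zero, hdeg, degree_X_pow]
    exact_mod_cast hk
  have hP : P = ∑ i ∈ Finset.range (a + 1),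
      (-1) ^ i * (C (MvPolynomial.esymm (Fin a) ℤ i) * X ^ (a - i)) := by
    let s := Finset.univ.val.map fun i : Fin a => (MvPolynomial.X i : MvPolynomial (Fin a) ℤ)
    have hs : Multiset.card s = a := by
      rw [Multiset.card_map, ← Finset.card_def, Finset.card_univ, Fintype.card_fin]
    have := Multiset.prod_X_sub_X_eq_sum_esymm s
    rw [hs] at this
    simp_rw [MvPolynomial.esymm_eq_multiset_esymm (Fin a) ℤ]
    rw [← this]
    simp only [P, s, Finset.prod_eq_multiset_prod, Multiset.map_map, Function.comp_apply]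
  refine ⟨?_, ?_⟩
  · simp only [coef, lt_self_iff_false, if_false, Int.toNat_zero, add_zero]
    rw [hmod_small _ (by omega)]
    simp
  · intro j hj
    have h0 : ((X : (MvPolynomial (Fin a) ℤ)[X]) ^ (j - 1) * P) %ₘ P = 0 :=
      (modByMonic_eq_zero_iff_dvd hmonic).mpr (dvd_mul_left _ _)
    have h1 : ((X ^ (j - 1) * ∑ i ∈ Finset.range (a + 1),
        (-1) ^ i * (C (MvPolynomial.esymm (Fin a) ℤ i) * X ^ (a - i))) %ₘ P).coeff (a - 1) = 0 := by
      rw [← hP, h0, coeff_zero]
    rw [← h1, Finset.mul_sum]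
    have hlin : ∀ (s : Finset ℕ) (f : ℕ → (MvPolynomial (Fin a) ℤ)[X]),
        ((∑ i ∈ s, f i) %ₘ P).coeff (a - 1) = ∑ i ∈ s, ((f i) %ₘ P).coeff (a - 1) := by
      intro s f
      have : (∑ i ∈ s, f i) %ₘ P = ∑ i ∈ s, (f i %ₘ P) :=
        map_sum (modByMonicHom P) f s
      rw [this, finsetSum_coeff]
    rw [hlin]
    refine Finset.sum_congr rfl fun i hi => ?_
    have hi' : i ≤ a := Nat.lt_succ_iff.mp (Finset.mem_range.mp hi)
    have hre : (X : (MvPolynomial (Fin a) ℤ)[X]) ^ (j - 1) *
        ((-1) ^ i * (C (MvPolynomial.esymm (Fin a) ℤ i) * X ^ (a - i))) =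
        ((-1) ^ i * MvPolynomial.esymm (Fin a) ℤ i) • X ^ (a - i + j - 1) := by
      rw [smul_eq_C_mul, map_mul, map_pow, map_neg, map_one]
      have : a - i + j - 1 = (j - 1) + (a - i) := by omega
      rw [this, pow_add]
      ring
    rw [hre, smul_modByMonic, coeff_smul, smul_eq_mul]
    congr 1
    simp only [coef]
    split_ifs with hlt
    · have hlt' : j < i := by omega
      rw [hmod_small _ (by omega), coeff_X_pow, if_neg (by omega)]
    · have hle : i ≤ j := by omega
      have : a - 1 + ((j : ℤ) - (i : ℤ)).toNat = a - i + j - 1 := by omega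
      rw [this]

end Groth.Agent.S3214
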