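import Groth.Statements.S3243
import Groth.Agent.Lib.Helper22.FieldH1.Main

set_option autoImplicit false
universe u
open CategoryTheory AlgebraicGeometry
open Dix

namespace Groth.Agent.S3243


/-- Let X be quasi-compact and quasi-separated, x a point of X and M a torsion-free abelian group, M_x
the constant sheaf on Spec κ(x). Then H¹(X_ét, i_{x*} M_x) = 0. -/
theorem result (X : Scheme.{u}) [CompactSpace X] [QuasiSeparatedSpace X] (x : X) (M : Type) [AddCommGroup M] [IsAddTorsionFree M] : Subsingleton (EtCoh.H X ((Dix.skyPush X x).obj (EtCoh.const (Spec (X.residueField x)) M)) 1) := by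
  have hM : ∀ (n : ℕ), 0 < n → ∀ m : (AddCommGrpCat.of (ULift.{u + 1} M)), n • m = 0 → m = 0 := by
    intro n hn m hm
    apply ULift.ext
    have h1 : n • m.down = 0 := congrArg ULift.down hm
    exact (nsmul_eq_zero_iff_right (Nat.pos_iff_ne_zero.1 hn)).1 h1
  exact Groth.Agent.Lib.Helper22.FieldH1.subsingleton_H1_push_field (X.residueField x)
    (X.fromSpecResidueField x) (AddCommGrpCat.of (ULift.{u + 1} M)) hM

end Groth.Agent.S3243
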