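import Groth.Statements.S3244
import Groth.Agent.S0108
import Groth.Agent.S19975

set_option autoImplicit false
universe u
open CategoryTheory AlgebraicGeometry
open Dix

namespace Groth.Agent.S3244
open CategoryTheory.Limits Opposite CategoryTheory.Abelian

/-- An integer invertible on `X` is a unit in the ring of global functions. -/
lemma isUnit_of_invertibleOn (X : Scheme.{u}) (n : ℕ) (hX : Dix.InvertibleOn X n) :
    IsUnit ((n : ℕ) : Γ(X, ⊤)) := by
  apply RingedSpace.isUnit_of_isUnit_germ (X := X.toRingedSpace) ⊤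
  intro x hx
  change IsUnit ((X.presheaf.germ ⊤ x trivial).hom ((n : ℕ) : Γ(X, ⊤)))
  rw [map_natCast, ← IsLocalRing.residue_ne_zero_iff_isUnit, map_natCast]
  exact hX x

/-- The Kummer short complex. -/
noncomputable def kummerSC (X : Scheme.{u}) (n : ℕ) : ShortComplex (EtCoh.Ab X) :=
  ShortComplex.mk (EtCoh.muι X n) (EtCoh.powMap X n) (kernel.condition _)

lemma kummerSC_shortExact (X : Scheme.{u}) (n : ℕ) (hX : Dix.InvertibleOn X n) :
    (kummerSC X n).ShortExact := by
  have hepi : Epi (EtCoh.powMap X n) := Groth.Agent.S0108.result X n (isUnit_of_invertibleOn X n hX)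
  exact
    { exact := ShortComplex.exact_kernel (EtCoh.powMap X n)
      mono_f := by change Mono (kernel.ι _); infer_instance
      epi_g := hepi }


/-- Kummer theory at finite level: let n > 0 be an integer invertible on the scheme X (nonzero in every
residue field). Then for every i ≥ 1 the image of H^i(X_ét, μ_n) → H^i(X_ét, G_m), induced by the
inclusion μ_n → G_m, is exactly the subgroup of elements of H^i(X_ét, G_m) killed by n; in
particular H²(X_ét, μ_n) maps onto the n-torsion of the cohomological Brauer group H²(X_ét, G_m).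
(The published statement gives exact sequences obtained as the colimit of these over the powers n =
ℓ^m of a prime ℓ.) -/
theorem result (X : Scheme.{u}) (n : ℕ) (hn : 0 < n) (hX : Dix.InvertibleOn X n) (i : ℕ) (hi : 1 ≤ i) : Set.range ⇑((EtCoh.HF X i).map (EtCoh.muι X n)) = {ξ : (EtCoh.HF X i).obj (EtCoh.Gm X) | n • ξ = 0} := by
  have hS := kummerSC_shortExact X n hX
  have hpow : ∀ ξ : EtCoh.H X (EtCoh.Gm X) i, Sheaf.H.map (EtCoh.powMap X n) i ξ = n • ξ := by
    intro ξ
    have h1 : EtCoh.powMap X n = (n : ℤ) • 𝟙 (EtCoh.Gm X) := by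
      rw [natCast_zsmul]; rfl
    rw [h1, Groth.Agent.S19975.H_map_zsmul_id, natCast_zsmul]
  ext ξ
  constructor
  · rintro ⟨η, rfl⟩
    change n • Sheaf.H.map (EtCoh.muι X n) i η = 0
    refine (hpow _).symm.trans ?_
    rw [← Groth.Agent.S19975.H_map_comp]
    have h0 : EtCoh.muι X n ≫ EtCoh.powMap X n = 0 := kernel.condition _
    rw [h0, Sheaf.H.map_apply, Ext.mk₀_zero, Ext.comp_zero]
  · intro hξ
    have hξ' : n • (ξ : EtCoh.H X (EtCoh.Gm X) i) = 0 := hξ
    have hξ'' : Sheaf.H.map (EtCoh.powMap X n) i ξ = 0 := (hpow ξ).trans hξ'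
    rw [Sheaf.H.map_apply] at hξ''
    obtain ⟨η, hη⟩ := Ext.covariant_sequence_exact₂ _ hS ξ hξ''
    exact ⟨η, hη⟩

end Groth.Agent.S3244
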