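import Groth.Statements.S3246
import Groth.Agent.S3244

set_option autoImplicit false
universe u
open CategoryTheory AlgebraicGeometry
open Dix

namespace Groth.Agent.S3246
open CategoryTheory.Limits Opposite CategoryTheory.Abelian

variable {X : Scheme.{u}}

/-- Injectivity of `H^i(f)` from vanishing of the cohomology of kernel and cokernel. -/
lemma H_map_injective {F G : EtCoh.Ab X} (f : F ⟶ G) (i : ℕ)
    (hK : Subsingleton (EtCoh.H X (kernel f) (i + 1)))
    (hC : Subsingleton (EtCoh.H X (cokernel f) i)) :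
    Function.Injective (Sheaf.H.map f (i + 1)) := by
  -- the two short exact sequences
  let S1 : ShortComplex (EtCoh.Ab X) :=
    ShortComplex.mk (kernel.ι f) (cokernel.π (kernel.ι f)) (cokernel.condition _)
  have hS1 : S1.ShortExact :=
    { exact := ShortComplex.exact_cokernel (kernel.ι f)
      mono_f := by change Mono (kernel.ι f); infer_instance
      epi_g := by change Epi (cokernel.π (kernel.ι f)); infer_instance }
  let S2 : ShortComplex (EtCoh.Ab X) :=
    ShortComplex.mk (kernel.ι (cokernel.π f)) (cokernel.π f) (kernel.condition _)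
  have hS2 : S2.ShortExact :=
    { exact := ShortComplex.exact_kernel (cokernel.π f)
      mono_f := by change Mono (kernel.ι (cokernel.π f)); infer_instance
      epi_g := by change Epi (cokernel.π f); infer_instance }
  have hfac : Abelian.coimage.π f ≫ Abelian.coimageImageComparison f ≫ Abelian.image.ι f = f :=
    Abelian.coimage_image_factorisation f
  rw [injective_iff_map_eq_zero]
  intro ξ hξ
  rw [← hfac, Groth.Agent.S19975.H_map_comp, Groth.Agent.S19975.H_map_comp] at hξ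
  -- step 1: injectivity of H(image.ι)
  have h1 : Sheaf.H.map (Abelian.coimageImageComparison f) (i + 1)
      (Sheaf.H.map (Abelian.coimage.π f) (i + 1) ξ) = 0 := by
    rw [Sheaf.H.map_apply] at hξ
    obtain ⟨x₃, hx₃⟩ := Ext.covariant_sequence_exact₁ _ hS2 _ hξ (n₀ := i) rfl
    rw [← hx₃, Subsingleton.elim x₃ 0, Ext.zero_comp]
  -- step 2: comparison is an iso
  have h2 : Sheaf.H.map (Abelian.coimage.π f) (i + 1) ξ = 0 := by
    have := congrArg (Sheaf.H.map (inv (Abelian.coimageImageComparison f)) (i + 1)) h1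
    rwa [← Groth.Agent.S19975.H_map_comp, IsIso.hom_inv_id, Groth.Agent.S19975.H_map_id,
      map_zero] at this
  -- step 3: injectivity of H(coimage.π)
  rw [Sheaf.H.map_apply] at h2
  obtain ⟨x₁, hx₁⟩ := Ext.covariant_sequence_exact₂ _ hS1 ξ h2
  rw [← hx₁, Subsingleton.elim x₁ 0, Ext.zero_comp]

/-- Evaluation of morphisms of sheaves on sections, as an additive map. -/
def evalHom (P Q : EtCoh.Ab X) (U : X.Etaleᵒᵖ) (s : P.obj.obj U) : (P ⟶ Q) →+ Q.obj.obj U :=
  AddMonoidHom.mk' (fun ψ => ψ.hom.app U s) (fun _ _ => rfl)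

lemma nsmul_hom_app (m : ℕ) {P Q : EtCoh.Ab X} (ψ : P ⟶ Q) (U : X.Etaleᵒᵖ) (s : P.obj.obj U) :
    (m • ψ).hom.app U s = m • ψ.hom.app U s :=
  map_nsmul (evalHom P Q U s) m ψ

lemma isPrimaryTorsion_of_nsmul_id_eq_zero (ℓ k : ℕ) (F : EtCoh.Ab X)
    (h : (ℓ ^ k) • 𝟙 F = 0) : Dix.IsPrimaryTorsion ℓ F := by
  intro U s x
  refine ⟨U, 𝟙 U, ⟨x, rfl⟩, k, ?_⟩
  have h1 := nsmul_hom_app (ℓ ^ k) (𝟙 F) (op U) s
  rw [h] at h1
  have h2 : F.obj.map (𝟙 U).op s = s := by
    rw [op_id, F.obj.map_id]; rfl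
  rw [h2]
  exact h1.symm.trans rfl

lemma nsmul_id_kernel {F : EtCoh.Ab X} (m : ℕ) : m • 𝟙 (kernel (m • 𝟙 F)) = 0 := by
  rw [← cancel_mono (kernel.ι (m • 𝟙 F)), zero_comp, Preadditive.nsmul_comp, Category.id_comp]
  have := kernel.condition (m • 𝟙 F)
  rwa [Preadditive.comp_nsmul, Category.comp_id] at this

lemma nsmul_id_cokernel {F : EtCoh.Ab X} (m : ℕ) : m • 𝟙 (cokernel (m • 𝟙 F)) = 0 := by
  rw [← cancel_epi (cokernel.π (m • 𝟙 F)), comp_zero, Preadditive.comp_nsmul, Category.comp_id]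
  have := cokernel.condition (m • 𝟙 F)
  rwa [Preadditive.nsmul_comp, Category.id_comp] at this

lemma H_map_nsmul_id (m : ℕ) (P : EtCoh.Ab X) (n : ℕ) (x : EtCoh.H X P n) :
    Sheaf.H.map (m • 𝟙 P) n x = m • x := by
  have := Groth.Agent.S19975.H_map_zsmul_id (m : ℤ) P n x
  rwa [natCast_zsmul, natCast_zsmul] at this


/-- Let X be a scheme, ℓ a prime and n an integer with cd_ℓ(X) ≤ n (étale cohomology of ℓ-primary
torsion sheaves vanishes above degree n). Then the ℓ-primary torsion of H^i(X_ét, G_m) is zero for i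
> n + 1; if moreover ℓ is invertible on X, it is zero for i > n. -/
theorem result (X : Scheme.{u}) (ℓ : ℕ) (hℓ : ℓ.Prime) (n : ℕ) (hcd : Dix.CohDimLEAt X ℓ n) : (∀ i : ℕ, n + 1 < i → ∀ ξ : EtCoh.H X (EtCoh.Gm X) i, (∃ k : ℕ, ℓ ^ k • ξ = 0) → ξ = 0) ∧ (Dix.InvertibleOn X ℓ → ∀ i : ℕ, n < i → ∀ ξ : EtCoh.H X (EtCoh.Gm X) i, (∃ k : ℕ, ℓ ^ k • ξ = 0) → ξ = 0) := by
  constructor
  · intro i hi ξ ⟨k, hk⟩
    obtain ⟨j, rfl⟩ : ∃ j, i = j + 1 := ⟨i - 1, by omega⟩
    have hK := hcd _ (isPrimaryTorsion_of_nsmul_id_eq_zero ℓ k _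
      (nsmul_id_kernel (F := EtCoh.Gm X) (ℓ ^ k))) (j + 1) (by omega)
    have hC := hcd _ (isPrimaryTorsion_of_nsmul_id_eq_zero ℓ k _
      (nsmul_id_cokernel (F := EtCoh.Gm X) (ℓ ^ k))) j (by omega)
    apply H_map_injective ((ℓ ^ k) • 𝟙 (EtCoh.Gm X)) j hK hC
    rw [map_zero, H_map_nsmul_id]
    exact hk
  · intro hinv i hi ξ ⟨k, hk⟩
    obtain ⟨j, rfl⟩ : ∃ j, i = j + 1 := ⟨i - 1, by omega⟩
    have hK := hcd _ (isPrimaryTorsion_of_nsmul_id_eq_zero ℓ k _
      (nsmul_id_kernel (F := EtCoh.Gm X) (ℓ ^ k))) (j + 1) (by omega)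
    have hinv' : Dix.InvertibleOn X (ℓ ^ k) := by
      intro x
      rw [Nat.cast_pow]
      exact pow_ne_zero _ (hinv x)
    have hepi : Epi ((ℓ ^ k) • 𝟙 (EtCoh.Gm X)) :=
      Groth.Agent.S0108.result X (ℓ ^ k) (Groth.Agent.S3244.isUnit_of_invertibleOn X _ hinv')
    have hC : Subsingleton (EtCoh.H X (cokernel ((ℓ ^ k) • 𝟙 (EtCoh.Gm X))) j) := by
      apply Sheaf.subsingleton_H_of_isZero
      exact isZero_cokernel_of_epi _
    apply H_map_injective ((ℓ ^ k) • 𝟙 (EtCoh.Gm X)) j hK hC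
    rw [map_zero, H_map_nsmul_id]
    exact hk

end Groth.Agent.S3246
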