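import Groth.Statements.S3252
-- import your own Groth.Agent.* helpers here

set_option autoImplicit false
universe u
open Zeta

namespace Groth.Agent.S3252

/-- Let V and W be finite-dimensional vector spaces over a field L, B : V × W -> L a perfect pairing, F
an endomorphism of V and G an endomorphism of W with B(F v, G w) = c · B(v, w) for all v, w, where c
is a scalar (in the application, V = H^i, W = H^{2d-i}, F and G Frobenius, c = q^d). Then det F ·
det G = c ^ dim V. -/
theorem result (L : Type u) [Field L] (V W : Type u)
    [AddCommGroup V] [Module L V] [FiniteDimensional L V] [AddCommGroup W] [Module L W] [FiniteDimensional L W]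
    (B : V →ₗ[L] W →ₗ[L] L) [B.IsPerfPair] (F : V →ₗ[L] V) (G : W →ₗ[L] W) (c : L)
    (hFG : ∀ (v : V) (w : W), B (F v) (G w) = c * B v w) :
    LinearMap.det F * LinearMap.det G = c ^ Module.finrank L V := by
  set e : V ≃ₗ[L] Module.Dual L W := B.toPerfPair with he
  have key : G.dualMap ∘ₗ ((e : V →ₗ[L] Module.Dual L W) ∘ₗ F ∘ₗ (e.symm : Module.Dual L W →ₗ[L] V)) =
      c • (LinearMap.id : Module.Dual L W →ₗ[L] Module.Dual L W) := by
    apply LinearMap.ext
    intro φ
    obtain ⟨v, rfl⟩ := e.surjective φ
    apply LinearMap.ext
    intro w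
    simp only [LinearMap.coe_comp, LinearEquiv.coe_coe, Function.comp_apply,
      LinearEquiv.symm_apply_apply, LinearMap.dualMap_apply, LinearMap.smul_apply,
      LinearMap.id_coe, id_eq, smul_eq_mul]
    rw [he, LinearMap.toPerfPair_apply, LinearMap.toPerfPair_apply]
    exact hFG v w
  have h1 := congrArg LinearMap.det key
  rw [LinearMap.det_comp, LinearMap.det_conj, LinearMap.det_dualMap, LinearMap.det_smul,
    LinearMap.det_id, mul_one] at h1
  rw [mul_comm, h1]
  congr 1
  rw [Subspace.dual_finrank_eq]
  exact (Module.finrank_of_isPerfPair B).symm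

end Groth.Agent.S3252
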