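import Groth.Statements.S3350
import Mathlib

set_option autoImplicit false
open Finset
open Models Models.NumericalType

namespace Groth.Agent.S3350

/-- row relation split -/
lemma row_split {n : ℕ} (T : Models.NumericalType n) (i j : Fin n) (hij : i ≠ j) :
    T.a i i * T.m i + T.a i j * T.m j + ∑ k ∈ (univ.erase i).erase j, T.a i k * T.m k = 0 := by
  have h := congrFun T.mulVec_m i
  simp only [Matrix.mulVec, dotProduct, Pi.zero_apply] at h
  rw [← Finset.add_sum_erase univ _ (mem_univ i),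
    ← Finset.add_sum_erase (univ.erase i) _ (mem_erase.mpr ⟨hij.symm, mem_univ j⟩)] at h
  linarith

lemma rest_nonneg {n : ℕ} (T : Models.NumericalType n) (i j : Fin n) :
    0 ≤ ∑ k ∈ (univ.erase i).erase j, T.a i k * T.m k := by
  apply Finset.sum_nonneg
  intro k hk
  have hki : k ≠ i := (mem_erase.mp (mem_erase.mp hk).2).1
  exact mul_nonneg (T.offDiag_nonneg i k hki.symm) (T.m_pos k).le

lemma rest_eq_zero {n : ℕ} (T : Models.NumericalType n) (i j : Fin n)
    (h : ∑ k ∈ (univ.erase i).erase j, T.a i k * T.m k = 0) (k : Fin n) (hki : k ≠ i) (hkj : k ≠ j) :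
    T.a i k = 0 := by
  have hmem : k ∈ (univ.erase i).erase j := mem_erase.mpr ⟨hkj, mem_erase.mpr ⟨hki, mem_univ k⟩⟩
  have h0 := (Finset.sum_eq_zero_iff_of_nonneg (fun k hk => by
    have hki : k ≠ i := (mem_erase.mp (mem_erase.mp hk).2).1
    exact mul_nonneg (T.offDiag_nonneg i k hki.symm) (T.m_pos k).le)).mp h k hmem
  rcases mul_eq_zero.mp h0 with h1 | h1
  · exact h1
  · exact absurd h1 (T.m_pos k).ne'


/-- Classification of proper subgraphs with two vertices: Let T be a numerical type on n > 2 indices and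
i ≠ j two (-2)-indices (g = 0 and a_ii = -2 w_i, a_jj = -2 w_j) with a_ij > 0. Then, after possibly
exchanging i and j, one of the following holds with w = w_i: (A2) w_j = w, a_ij = w, 2 m_i ≥ m_j and
2 m_j ≥ m_i; (B2) w_j = 2w, a_ij = 2w, m_i ≥ m_j and 2 m_j ≥ m_i; (G2) w_j = 3w, a_ij = 3w, 2 m_i ≥
3 m_j and 2 m_j ≥ m_i. -/
theorem result {n : ℕ} (T : Models.NumericalType n) (hn : 2 < n) (i j : Fin n)
    (hij : i ≠ j) (hi : T.IsMinusTwo i) (hj : T.IsMinusTwo j) (hpos : 0 < T.a i j) :
    ∃ i' j' : Fin n, ((i' = i ∧ j' = j) ∨ (i' = j ∧ j' = i)) ∧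
      ((T.w j' = T.w i' ∧ T.a i' j' = T.w i' ∧ T.m j' ≤ 2 * T.m i' ∧ T.m i' ≤ 2 * T.m j') ∨
        (T.w j' = 2 * T.w i' ∧ T.a i' j' = 2 * T.w i' ∧ T.m j' ≤ T.m i' ∧ T.m i' ≤ 2 * T.m j') ∨
        (T.w j' = 3 * T.w i' ∧ T.a i' j' = 3 * T.w i' ∧ 3 * T.m j' ≤ 2 * T.m i' ∧ T.m i' ≤ 2 * T.m j')) := by
  have hsymm : T.a j i = T.a i j := T.symm.apply i j
  have hri := row_split T i j hij
  have hrj := row_split T j i hij.symm
  have hRi := rest_nonneg T i j
  have hRj := rest_nonneg T j i
  set Ri := ∑ k ∈ (univ.erase i).erase j, T.a i k * T.m k with hRidef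
  set Rj := ∑ k ∈ (univ.erase j).erase i, T.a j k * T.m k with hRjdef
  rw [hi.2] at hri
  rw [hj.2, hsymm] at hrj
  set a := T.a i j with ha
  have hwi := T.w_pos i
  have hwj := T.w_pos j
  have hmi := T.m_pos i
  have hmj := T.m_pos j
  set wi := T.w i with hwidef
  set wj := T.w j with hwjdef
  set mi := T.m i with hmidef
  set mj := T.m j with hmjdef
  obtain ⟨s, hs⟩ : wi ∣ a := T.w_dvd i j
  obtain ⟨t, ht⟩ : wj ∣ a := by
    have := T.w_dvd j i
    rwa [hsymm] at this
  have hspos : 0 < s := by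
    by_contra hcon
    push Not at hcon
    have : wi * s ≤ 0 := mul_nonpos_of_nonneg_of_nonpos hwi.le hcon
    omega
  have htpos : 0 < t := by
    by_contra hcon
    push Not at hcon
    have : wj * t ≤ 0 := mul_nonpos_of_nonneg_of_nonpos hwj.le hcon
    omega
  have h1 : a * mj ≤ 2 * wi * mi := by linarith
  have h2 : a * mi ≤ 2 * wj * mj := by linarith
  have hst : s * t ≤ 4 := by
    have hprod : (a * mj) * (a * mi) ≤ (2 * wi * mi) * (2 * wj * mj) :=
      mul_le_mul h1 h2 (by positivity) (by positivity)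
    have hP : 0 < wi * wj * mi * mj := by positivity
    have : (s * t) * (wi * wj * mi * mj) ≤ 4 * (wi * wj * mi * mj) := by
      have e1 : (a * mj) * (a * mi) = (s * t) * (wi * wj * mi * mj) := by
        have : a * a = (wi * s) * (wj * t) := by rw [← hs, ← ht]
        calc (a * mj) * (a * mi) = (a * a) * (mi * mj) := by ring
          _ = (wi * s) * (wj * t) * (mi * mj) := by rw [this]
          _ = _ := by ring
      have e2 : (2 * wi * mi) * (2 * wj * mj) = 4 * (wi * wj * mi * mj) := by ring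
      rw [← e1, ← e2]; exact hprod
    exact le_of_mul_le_mul_right this hP
  have hst4 : s * t ≠ 4 := by
    intro h4
    have haa : a * a = 4 * (wi * wj) := by
      have : a * a = (wi * s) * (wj * t) := by rw [← hs, ← ht]
      rw [this]
      calc (wi * s) * (wj * t) = (s * t) * (wi * wj) := by ring
        _ = _ := by rw [h4]
    have hkey : Ri * (a * mi) + Rj * (a * mj) + Ri * Rj = 0 := by
      have e1 : a * mj + Ri = 2 * wi * mi := by linarith
      have e2 : a * mi + Rj = 2 * wj * mj := by linarith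
      have e3 : (a * mj + Ri) * (a * mi + Rj) = (a * a) * (mi * mj) := by
        rw [e1, e2, haa]; ring
      nlinarith [e3]
    have hami : 0 < a * mi := by positivity
    have hamj : 0 < a * mj := by positivity
    have hRi0 : Ri = 0 := by
      by_contra hne
      have : 0 < Ri := lt_of_le_of_ne hRi (Ne.symm hne)
      nlinarith [mul_pos this hami, mul_nonneg hRj hamj.le, mul_nonneg hRi hRj]
    have hRj0 : Rj = 0 := by
      by_contra hne
      have : 0 < Rj := lt_of_le_of_ne hRj (Ne.symm hne)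
      nlinarith [mul_pos this hamj, mul_nonneg hRi hami.le, mul_nonneg hRi hRj]
    obtain ⟨i', hi', j', hj', hne⟩ := T.connected {i, j} ⟨i, by simp⟩ (by
      intro huniv
      have hc : ({i, j} : Finset (Fin n)).card = n := by rw [huniv]; simp
      have hc2 : ({i, j} : Finset (Fin n)).card ≤ 2 := Finset.card_le_two
      omega)
    simp only [mem_insert, mem_singleton, not_or] at hi' hj'
    rcases hi' with rfl | rfl
    · exact hne (rest_eq_zero T i' j hRi0 j' hj'.1 hj'.2)
    · exact hne (rest_eq_zero T i' i hRj0 j' hj'.2 hj'.1)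
  have hs4 : s ≤ 4 := by nlinarith
  have ht4 : t ≤ 4 := by nlinarith
  have hA : s * mj ≤ 2 * mi := by
    have : wi * (s * mj) ≤ wi * (2 * mi) := by
      calc wi * (s * mj) = a * mj := by rw [hs]; ring
        _ ≤ 2 * wi * mi := h1
        _ = wi * (2 * mi) := by ring
    exact le_of_mul_le_mul_left this hwi
  have hB : t * mi ≤ 2 * mj := by
    have : wj * (t * mi) ≤ wj * (2 * mj) := by
      calc wj * (t * mi) = a * mi := by rw [ht]; ring
        _ ≤ 2 * wj * mj := h2
        _ = wj * (2 * mj) := by ring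
    exact le_of_mul_le_mul_left this hwj
  have haji : T.a j i = a := hsymm
  interval_cases s <;> interval_cases t <;>
    first
    | omega
    | exact ⟨i, j, Or.inl ⟨rfl, rfl⟩, Or.inl ⟨by omega, by omega, by omega, by omega⟩⟩
    | exact ⟨i, j, Or.inl ⟨rfl, rfl⟩, Or.inr (Or.inl ⟨by omega, by omega, by omega, by omega⟩)⟩
    | exact ⟨i, j, Or.inl ⟨rfl, rfl⟩, Or.inr (Or.inr ⟨by omega, by omega, by omega, by omega⟩)⟩
    | exact ⟨j, i, Or.inr ⟨rfl, rfl⟩, Or.inr (Or.inl ⟨by omega, by omega, by omega, by omega⟩)⟩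
    | exact ⟨j, i, Or.inr ⟨rfl, rfl⟩, Or.inr (Or.inr ⟨by omega, by omega, by omega, by omega⟩)⟩

end Groth.Agent.S3350
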