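import Groth.Statements.S3364
import Groth.Agent.Lib.Helper22.EtLoc.SuppLES
import Groth.Agent.Lib.Helper22.EtLoc.SecSuppLoc

set_option autoImplicit false
universe u
open CategoryTheory CategoryTheory.Limits AlgebraicGeometry Opposite
open EtDepth

namespace Groth.Agent.S3364

open Groth.Agent.Lib.Helper22.EtLoc Groth.Agent.Lib.Helper22.EtLoc.SecSuppLoc
  Groth.Agent.Lib.Helper22.EtLoc.SuppLES Groth.Agent.Lib.Helper22.EtLoc.TripleSupp
  Groth.Agent.Lib.Helper22.EdgeIso Groth.Agent.Lib.Helper22.CechU.Etale

/-- Local cohomology sheaves commute with étale pull-back. -/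
lemma nonempty_locCoh_pull_iso {X U X' : Scheme.{u}} (j : U ⟶ X) [IsOpenImmersion j]
    (g : X' ⟶ X) [Etale g] (F : EtCoh.Ab X) (p : ℕ) :
    Nonempty ((EtDual.locCoh (jW j g) p).obj ((EtCoh.pull g).obj F) ≅
      (res g).obj ((EtDual.locCoh j p).obj F)) := by
  obtain ⟨e⟩ := nonempty_locCoh_res_iso j g p F
  exact ⟨(EtDual.locCoh (jW j g) p).mapIso ((pullIsoRes g).app F) ≪≫ e.symm⟩

lemma depth_pull {X U X' : Scheme.{u}} (j : U ⟶ X) [IsOpenImmersion j]
    (g : X' ⟶ X) [Etale g] (F : EtCoh.Ab X) (n : ℕ) (h : EtDepth.DepthGE j F n) :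
    EtDepth.DepthGE (jW j g) ((EtCoh.pull g).obj F) n := by
  intro p hp
  obtain ⟨e⟩ := nonempty_locCoh_pull_iso j g F p
  exact IsZero.of_iso (Functor.map_isZero _ (h p hp)) e

/-- A sheaf all of whose groups of sections vanish is zero. -/
lemma isZero_of_sections {X : Scheme.{u}} (L : EtCoh.Ab X)
    (h : ∀ W : X.Etale, IsZero (L.obj.obj (op W))) : IsZero L := by
  rw [IsZero.iff_id_eq_zero]
  apply Sheaf.hom_ext
  apply NatTrans.ext
  funext W
  exact (h W.unop).eq_of_src _ _


/-- Let X be a scheme, j : U → X an open immersion with closed complement Y, F an abelian sheaf on the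
small étale site of X and n ≥ 0. Then the local cohomology sheaves H^p_Y(X, F) vanish for p < n if
and only if for every scheme X' étale over X, with U' = X' ×_X U, the restriction maps H^p(X', F) →
H^p(U', F) are bijective for p < n − 1 and injective for p = n − 1. (The restriction maps are the
prelude's pull-back maps on étale cohomology, whose exactness instance is carried as a binder. The
published statement has further equivalent conditions and is not limited to a single sheaf; only
this equivalence, for one abelian sheaf, is stated here.) -/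
theorem result {X U : Scheme.{u}} (j : U ⟶ X) [IsOpenImmersion j] [EtCoh.BCCont j] (F : EtCoh.Ab X) (n : ℕ) : EtDepth.DepthGE j F n ↔ ∀ (X' : Scheme.{u}) (g : X' ⟶ X) [Etale g] [PreservesFiniteLimits (EtCoh.pull (pullback.snd j g))], (∀ p : ℕ, p + 1 < n → Function.Bijective (EtCore.Hpull (pullback.snd j g) ((EtCoh.pull g).obj F) p)) ∧ (∀ p : ℕ, p + 1 = n → Function.Injective (EtCore.Hpull (pullback.snd j g) ((EtCoh.pull g).obj F) p)) := by
  constructor
  · intro h X' g _ _
    have hd := depth_pull j g F n h
    exact (isZero_HY_iff (jW j g) ((EtCoh.pull g).obj F) n).1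
      (isZero_HY_of_isZero_locCoh (jW j g) _ n hd)
  · induction n with
    | zero => intro _ p hp; omega
    | succ n ih =>
      intro H
      have hn : EtDepth.DepthGE j F n := by
        apply ih
        intro X' g _ _
        obtain ⟨h1, h2⟩ := H X' g
        exact ⟨fun p hp => h1 p (by omega), fun p hp => (h1 p (by omega)).1⟩
      intro p hp
      rcases Nat.lt_succ_iff_lt_or_eq.1 hp with hlt | rfl
      · exact hn p hlt
      · apply isZero_of_sections
        intro W
        have hE : Etale W.hom := W.prop
        have hd := depth_pull j W.hom F p hn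
        have hHY : IsZero ((EtDual.HY (jW j W.hom) p).obj ((EtCoh.pull W.hom).obj F)) :=
          (isZero_HY_iff (jW j W.hom) ((EtCoh.pull W.hom).obj F) (p + 1)).2 (H W.left W.hom) p
            (Nat.lt_succ_self p)
        have hI := isIso_edgeOut (EtDual.secSupp (jW j W.hom)) (Γf W.left) acyclicClass_Γ
          (fun I _ => acyclicAll_secSupp_of_injective (jW j W.hom) I)
          ((EtCoh.pull W.hom).obj F) p hd
        have h1 : IsZero ((Γf W.left).obj
            ((EtDual.locCoh (jW j W.hom) p).obj ((EtCoh.pull W.hom).obj F))) :=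
          IsZero.of_iso hHY (@asIso _ _ _ _ _ hI).symm
        obtain ⟨e⟩ := nonempty_locCoh_pull_iso j W.hom F p
        have h2 : IsZero ((Γf W.left).obj ((res W.hom).obj ((EtDual.locCoh j p).obj F))) :=
          IsZero.of_iso h1 ((Γf W.left).mapIso e).symm
        exact IsZero.of_iso h2
          (((EtDual.locCoh j p).obj F).obj.mapIso (pjTopIso W).op)

end Groth.Agent.S3364
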