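import Groth.Statements.S3389
import Groth.Agent.Lib.Helper21.DimLoc4
-- import your own Groth.Agent.* helpers here

set_option autoImplicit false
open CategoryTheory AlgebraicGeometry
universe u
open EGA43

namespace Groth.Agent.S3389

/-- Let Y be a quasi-compact scheme and f : X ⟶ Y a morphism of finite type. Then there is a natural
number n bounding the dimension of every fibre of f. -/
theorem result {X Y : Scheme.{u}} [CompactSpace Y] (f : X ⟶ Y)
    [LocallyOfFiniteType f] [QuasiCompact f] :
    ∃ n : ℕ, ∀ y : Y, topologicalKrullDim ↥(f.fiber y) ≤ n := by
  have : CompactSpace X := QuasiCompact.compactSpace_of_compactSpace f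
  exact Groth.Agent.Lib.Helper21.DimLoc.exists_topologicalKrullDim_fiber_le f

end Groth.Agent.S3389
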