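import Groth.Statements.S3390
import Groth.Agent.Lib.Helper21.DimLoc2
import Groth.Agent.Lib.Helper21.FibDim5
import Groth.Agent.Lib.Helper18.SerreReg2
-- import your own Groth.Agent.* helpers here

set_option autoImplicit false
open CategoryTheory AlgebraicGeometry
universe u
open EGA43

namespace Groth.Agent.S3390

/-- Let Y be an irreducible locally Noetherian scheme with generic point η and X an irreducible scheme,
and let f : X ⟶ Y be dominant and locally of finite type. Take a point x of X and write y = f x.
Suppose dim O_{X,x} = dim O_{Y,y} + dim O_{X_y,x}. Then the local dimension of the fibre X_y at x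
(FlatMor.fibreDimAt f x) equals the dimension of the generic fibre X_η (i.e. f is equidimensional at
x). -/
theorem result {X Y : Scheme.{u}} [IrreducibleSpace X] [IrreducibleSpace Y]
    [IsLocallyNoetherian Y] (f : X ⟶ Y) [LocallyOfFiniteType f] [IsDominant f] (x : X)
    (h : ringKrullDim (X.presheaf.stalk x) =
        ringKrullDim (Y.presheaf.stalk (f.base x)) + ringKrullDim ((f.fiber (f.base x)).presheaf.stalk (f.asFiber x))) :
    FlatMor.fibreDimAt f x = topologicalKrullDim ↥(f.fiber (genericPoint Y)) := by
  apply le_antisymm
  · let _ := Groth.Agent.Lib.Helper21.FibDim.fiberOver f (f x)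
    have hlft : LocallyOfFiniteType
        (f.fiber (f x) ↘ Spec (CommRingCat.of (Y.residueField (f x)))) :=
      MorphismProperty.pullback_snd (P := @LocallyOfFiniteType) _ _ inferInstance
    have : IsLocallyNoetherian (f.fiber (f x)) :=
      LocallyOfFiniteType.isLocallyNoetherian
        (f.fiber (f x) ↘ Spec (CommRingCat.of (Y.residueField (f x))))
    obtain ⟨a, ha⟩ := Groth.Agent.Lib.Helper21.FibDim.exists_nat_trdeg (Y.residueField (f x))
      (f.fiber (f x)) (f.asFiber x)
    obtain ⟨b, hb⟩ := Groth.Agent.Lib.Helper18.SerreReg.exists_ringKrullDim_eq_nat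
      ((f.fiber (f x)).presheaf.stalk (f.asFiber x))
    obtain ⟨c, hc⟩ := Groth.Agent.Lib.Helper18.SerreReg.exists_ringKrullDim_eq_nat
      (Y.presheaf.stalk (f x))
    have hloc : FlatMor.fibreDimAt f x = ((a + b : ℕ) : WithBot ℕ∞) :=
      Groth.Agent.Lib.Helper21.ChartPt.localDim_eq_add (Y.residueField (f x)) (f.fiber (f x))
        (f.asFiber x) a b ha hb
    have key : ∀ (y : X) (z : f.fiber (f x)), f.fiberι (f x) z = y →
        @Algebra.trdeg (Y.residueField (f x)) ((f.fiber (f x)).residueField z) _ _
          (Curv2.resAlgebra (Y.residueField (f x)) (f.fiber (f x)) z) =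
        @Algebra.trdeg (Y.residueField (f y)) (X.residueField y) _ _
          (f.residueFieldMap y).hom.toAlgebra := by
      rintro y z rfl
      exact Groth.Agent.Lib.Helper21.FibDim.trdeg_fiber_eq f (f x) z
    have ha' : @Algebra.trdeg (Y.residueField (f x)) (X.residueField x) _ _
        (f.residueFieldMap x).hom.toAlgebra = a := by
      rw [← key x (f.asFiber x) (Scheme.Hom.fiberι_asFiber f x)]
      exact ha
    obtain ⟨nξ, hnξ, -, -⟩ :=
      Groth.Agent.Lib.Helper21.FibDim.exists_fibreDimAt_eq_trdeg f (genericPoint X)
    have hineq := Groth.Agent.Lib.Helper18.SchDim.stalk_dim_inequality f x a nξ ha' (by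
      intro ξ hcomp _
      have hξ : ξ = genericPoint X := by
        have h1 : genericPoint X ⤳ ξ := genericPoint_specializes ξ
        have h2 : closure ({ξ} : Set X) ≤ closure {genericPoint X} :=
          specializes_iff_closure_subset.mp h1
        have h3 := hcomp.2 (isIrreducible_singleton.closure) h2
        have h4 : ξ ⤳ genericPoint X :=
          specializes_iff_mem_closure.mpr (h3 (subset_closure rfl))
        exact (h4.antisymm h1).eq
      subst hξ
      exact Groth.Agent.Lib.Helper21.DimLoc.trdeg_le_of_fibreDimAt_eq f _ nξ hnξ)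
    rw [h, hc, hb] at hineq
    have h5 : c + b + a ≤ c + nξ := by exact_mod_cast hineq
    have h6 : a + b ≤ nξ := by omega
    have hη : f (genericPoint X) = genericPoint Y :=
      Groth.Agent.Lib.Helper21.GenFin.map_genericPoint f
    have h7 := Groth.Agent.Lib.Helper21.FibDim.fibreDimAt_le_topologicalKrullDim_fiber f
      (genericPoint X)
    rw [hη, hnξ] at h7
    rw [hloc]
    refine le_trans ?_ h7
    exact_mod_cast h6
  · exact Groth.Agent.Lib.Helper21.FibDim.topologicalKrullDim_generic_fiber_le_fibreDimAt f x

end Groth.Agent.S3390
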