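import Groth.Statements.S3391
import Groth.Agent.Lib.Helper21.DimLoc5
import Groth.Agent.Lib.Helper21.FibDim7
import Groth.Agent.Lib.Helper18.SerreReg2
-- import your own Groth.Agent.* helpers here

set_option autoImplicit false
open CategoryTheory AlgebraicGeometry
universe u
open EGA43

namespace Groth.Agent.S3391

/-- With X, Y, f, x, y as in the first assertion, suppose O_{Y,y} is universally catenary and the local
dimension at x of the fibre through x equals the dimension of the generic fibre. Then dim O_{X,x} =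
dim O_{Y,y} + dim O_{X_y,x}. -/
theorem result {X Y : Scheme.{u}} [IrreducibleSpace X] [IrreducibleSpace Y]
    [IsLocallyNoetherian Y] (f : X ⟶ Y) [LocallyOfFiniteType f] [IsDominant f] (x : X)
    (hcat : CAlg.IsUniversallyCatenary (Y.presheaf.stalk (f.base x)))
    (h : FlatMor.fibreDimAt f x = topologicalKrullDim ↥(f.fiber (genericPoint Y))) :
    ringKrullDim (X.presheaf.stalk x) =
        ringKrullDim (Y.presheaf.stalk (f.base x)) + ringKrullDim ((f.fiber (f.base x)).presheaf.stalk (f.asFiber x)) := by
  let _ := Groth.Agent.Lib.Helper21.FibDim.fiberOver f (f x)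
  have hlft : LocallyOfFiniteType
      (f.fiber (f x) ↘ Spec (CommRingCat.of (Y.residueField (f x)))) :=
    MorphismProperty.pullback_snd (P := @LocallyOfFiniteType) _ _ inferInstance
  have : IsLocallyNoetherian (f.fiber (f x)) :=
    LocallyOfFiniteType.isLocallyNoetherian
      (f.fiber (f x) ↘ Spec (CommRingCat.of (Y.residueField (f x))))
  have : IsLocallyNoetherian X := LocallyOfFiniteType.isLocallyNoetherian f
  obtain ⟨a, ha⟩ := Groth.Agent.Lib.Helper21.FibDim.exists_nat_trdeg (Y.residueField (f x))
    (f.fiber (f x)) (f.asFiber x)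
  obtain ⟨b, hb⟩ := Groth.Agent.Lib.Helper18.SerreReg.exists_ringKrullDim_eq_nat
    ((f.fiber (f x)).presheaf.stalk (f.asFiber x))
  obtain ⟨c, hc⟩ := Groth.Agent.Lib.Helper18.SerreReg.exists_ringKrullDim_eq_nat
    (Y.presheaf.stalk (f x))
  obtain ⟨d, hd⟩ := Groth.Agent.Lib.Helper18.SerreReg.exists_ringKrullDim_eq_nat
    (X.presheaf.stalk x)
  have hloc : FlatMor.fibreDimAt f x = ((a + b : ℕ) : WithBot ℕ∞) :=
    Groth.Agent.Lib.Helper21.ChartPt.localDim_eq_add (Y.residueField (f x)) (f.fiber (f x))
      (f.asFiber x) a b ha hb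
  have key : ∀ (y : X) (z : f.fiber (f x)), f.fiberι (f x) z = y →
      @Algebra.trdeg (Y.residueField (f x)) ((f.fiber (f x)).residueField z) _ _
        (Curv2.resAlgebra (Y.residueField (f x)) (f.fiber (f x)) z) =
      @Algebra.trdeg (Y.residueField (f y)) (X.residueField y) _ _
        (f.residueFieldMap y).hom.toAlgebra := by
    rintro y z rfl
    exact Groth.Agent.Lib.Helper21.FibDim.trdeg_fiber_eq f (f x) z
  have ha' : @Algebra.trdeg (Y.residueField (f x)) (X.residueField x) _ _
      (f.residueFieldMap x).hom.toAlgebra = a := by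
    rw [← key x (f.asFiber x) (Scheme.Hom.fiberι_asFiber f x)]
    exact ha
  obtain ⟨nξ, hnξ, hnξ2⟩ :=
    Groth.Agent.Lib.Helper21.FibDim.fibreDimAt_eq_trdeg_of_maximal' f (genericPoint X)
      (fun x' hx' => (hx'.antisymm (genericPoint_specializes x')).eq)
  have hη : f (genericPoint X) = genericPoint Y :=
    Groth.Agent.Lib.Helper21.GenFin.map_genericPoint f
  have hgen : topologicalKrullDim ↥(f.fiber (genericPoint Y)) = (nξ : WithBot ℕ∞) := by
    apply le_antisymm
    · rw [← hnξ]
      exact Groth.Agent.Lib.Helper21.FibDim.topologicalKrullDim_generic_fiber_le_fibreDimAt f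
        (genericPoint X)
    · have h7 := Groth.Agent.Lib.Helper21.FibDim.fibreDimAt_le_topologicalKrullDim_fiber f
        (genericPoint X)
      rw [hη, hnξ] at h7
      exact h7
  have hform := Groth.Agent.Lib.Helper21.DimLoc.stalk_dim_formula f hη x hcat a nξ ha' hnξ2
  rw [hloc, hgen] at h
  have h1 : a + b = nξ := by exact_mod_cast h
  rw [hd, hc] at hform
  have h2 : d + a = c + nξ := by exact_mod_cast hform
  rw [hd, hc, hb]
  have h3 : d = c + b := by omega
  rw [h3]
  push_cast
  rfl

end Groth.Agent.S3391
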