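import Groth.Statements.S3395
import Mathlib
import Groth.Agent.Lib.Helper6.QFac11
-- import your own Groth.Agent.* helpers here

set_option autoImplicit false
open CategoryTheory AlgebraicGeometry
universe u
open EGA43

namespace Groth.Agent.S3395

open CategoryTheory.Limits in
/-- Let X and Y be affine schemes, f : X ⟶ Y of finite type, y a point of f(X), e the dimension of the
fibre over y, and g a Y-morphism from X to the affine space of dimension e over Y whose base change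
to the fibre of the affine space over y is finite. Then that base change is surjective, and g is
locally quasi-finite on some open U ⊆ X that contains the fibre f⁻¹(y). -/
theorem result {X Y : Scheme.{u}} [IsAffine X] [IsAffine Y]
    (f : X ⟶ Y) [LocallyOfFiniteType f] (y : Y) (hy : y ∈ Set.range f.base) (e : ℕ)
    (he : topologicalKrullDim ↥(f.fiber y) = e) (g : X ⟶ 𝔸(ULift.{u} (Fin e); Y)) (hg : g ≫ (𝔸(ULift.{u} (Fin e); Y) ↘ Y) = f)
    (hfin : IsFinite (pullback.snd g ((𝔸(ULift.{u} (Fin e); Y) ↘ Y).fiberι y))) :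
    Function.Surjective (pullback.snd g ((𝔸(ULift.{u} (Fin e); Y) ↘ Y).fiberι y)).base ∧
      ∃ U : X.Opens, f.base ⁻¹' {y} ⊆ (U : Set X) ∧ LocallyQuasiFinite (U.ι ≫ g) := by
  obtain ⟨x₀, rfl⟩ := hy
  have sq : IsPullback (pullback.fst g ((𝔸(ULift.{u} (Fin e); Y) ↘ Y).fiberι (f x₀)))
      (pullback.snd g ((𝔸(ULift.{u} (Fin e); Y) ↘ Y).fiberι (f x₀))) g
      ((𝔸(ULift.{u} (Fin e); Y) ↘ Y).fiberι (f x₀)) := IsPullback.of_hasPullback _ _
  haveI : LocallyOfFiniteType g := by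
    haveI : LocallyOfFiniteType (g ≫ (𝔸(ULift.{u} (Fin e); Y) ↘ Y)) := by rw [hg]; infer_instance
    exact locallyOfFiniteType_of_comp g (𝔸(ULift.{u} (Fin e); Y) ↘ Y)
  have hpg : ∀ x : X, (𝔸(ULift.{u} (Fin e); Y) ↘ Y) (g x) = f x := fun x =>
    congrArg (fun k : X ⟶ Y => k x) hg
  -- fibre dimension zero on the fibre
  have hzero : ∀ x : X, f x = f x₀ → FlatMor.fibreDimAt g x = 0 := by
    intro x hx
    obtain ⟨a, ha⟩ : g x ∈ Set.range ((𝔸(ULift.{u} (Fin e); Y) ↘ Y).fiberι (f x₀)) := by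
      rw [Scheme.Hom.range_fiberι]; exact (hpg x).trans hx
    obtain ⟨q, hq1, hq2⟩ := Scheme.Pullback.exists_preimage_pullback (f := g)
      (g := (𝔸(ULift.{u} (Fin e); Y) ↘ Y).fiberι (f x₀)) x a ha.symm
    have h1 := Groth.Agent.Lib.Helper21.BaseChg.fibreDimAt_eq_of_isPullback sq q
    rw [hq1] at h1
    rw [← h1]
    exact (Groth.Agent.Lib.Helper14.AS.locallyQuasiFinite_iff_fibreDimAt_eq_zero _).mp
      inferInstance q
  let U : X.Opens := ⟨{x | FlatMor.fibreDimAt g x ≤ (0 : ℕ)},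
    Groth.Agent.Lib.Helper21.FibDim.isOpen_setOf_fibreDimAt_le g 0⟩
  have hU : f.base ⁻¹' {f x₀} ⊆ (U : Set X) := fun x hx => (hzero x hx).le
  have hqf : LocallyQuasiFinite (U.ι ≫ g) := by
    rw [Groth.Agent.Lib.Helper14.AS.locallyQuasiFinite_iff_fibreDimAt_eq_zero]
    intro u
    rw [Groth.Agent.Lib.Helper21.EquidimAt.fibreDimAt_ι_comp g U u]
    obtain ⟨n, hn, -, -⟩ := Groth.Agent.Lib.Helper21.FibDim.exists_fibreDimAt_eq_trdeg g u.1
    have h1 : FlatMor.fibreDimAt g u.1 ≤ (0 : ℕ) := u.2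
    rw [hn] at h1 ⊢
    have h2 : n ≤ 0 := by exact_mod_cast h1
    have h3 : n = 0 := by omega
    rw [h3]; rfl
  refine ⟨?_, U, hU, hqf⟩
  -- surjectivity
  obtain ⟨x₁, hfx₁, hFx₁⟩ :=
    Groth.Agent.Lib.Helper21.OpenAt.exists_fibreDimAt_eq_topologicalKrullDim_fiber f x₀
  obtain ⟨ζ, N, hζx, hfζ, hζmax, hζN, hFN⟩ :=
    Groth.Agent.Lib.Helper21.OpenAt.exists_maximal_generization_fibreDimAt f x₁
  have hNe : N = e := by
    rw [hFx₁, he] at hFN
    exact_mod_cast hFN.symm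
  subst hNe
  have hζy : f ζ = f x₀ := hfζ.trans hfx₁
  have hζU : ζ ∈ U := hU hζy
  have hrtd : Groth.Agent.Lib.Helper6.QFac.rtd (𝔸(ULift.{u} (Fin N); Y) ↘ Y) (g ζ) = N :=
    Groth.Agent.Lib.Helper6.QFac.rtd_of_quasiFinite' f U.ι (𝔸(ULift.{u} (Fin N); Y) ↘ Y) (U.ι ≫ g)
      (by rw [Category.assoc, hg]) ⟨ζ, hζU⟩ N hζN
  have hcard : Nat.card (ULift.{u} (Fin N)) = N := by simp
  intro wy
  have hw : (𝔸(ULift.{u} (Fin N); Y) ↘ Y) ((𝔸(ULift.{u} (Fin N); Y) ↘ Y).fiberι (f x₀) wy) = f x₀ :=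
    ((𝔸(ULift.{u} (Fin N); Y) ↘ Y).fiberHomeo _ wy).2
  have hpz : (𝔸(ULift.{u} (Fin N); Y) ↘ Y) (g ζ) = f x₀ := (hpg ζ).trans hζy
  have hsp := Groth.Agent.Lib.Helper6.QFac.specializes_of_rtd_eq Y (ULift.{u} (Fin N)) (g ζ)
    (by rw [hcard]; exact hrtd) _ (hw.trans hpz.symm)
  obtain ⟨zy, hzy⟩ : g ζ ∈ Set.range ((𝔸(ULift.{u} (Fin N); Y) ↘ Y).fiberι (f x₀)) := by
    rw [Scheme.Hom.range_fiberι]; exact hpz
  obtain ⟨q, hq1, hq2⟩ := Scheme.Pullback.exists_preimage_pullback (f := g)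
    (g := (𝔸(ULift.{u} (Fin N); Y) ↘ Y).fiberι (f x₀)) ζ zy hzy.symm
  have hsp' : zy ⤳ wy := by
    rw [← ((𝔸(ULift.{u} (Fin N); Y) ↘ Y).fiberι (f x₀)).isEmbedding.isInducing.specializes_iff, hzy]
    exact hsp
  have hcl : IsClosed (Set.range
      (pullback.snd g ((𝔸(ULift.{u} (Fin N); Y) ↘ Y).fiberι (f x₀))).base) :=
    (pullback.snd g ((𝔸(ULift.{u} (Fin N); Y) ↘ Y).fiberι (f x₀))).isClosedMap.isClosed_range
  have hmem : closure {zy} ⊆ Set.range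
      (pullback.snd g ((𝔸(ULift.{u} (Fin N); Y) ↘ Y).fiberι (f x₀))).base :=
    hcl.closure_subset_iff.mpr (Set.singleton_subset_iff.mpr ⟨q, hq2⟩)
  exact hmem hsp'.mem_closure

end Groth.Agent.S3395
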