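import Groth.Statements.S3396
import Groth.Agent.Lib.Helper21.EquidimAt2
import Groth.Agent.Lib.Helper21.FibDim9
-- import your own Groth.Agent.* helpers here

set_option autoImplicit false
open CategoryTheory AlgebraicGeometry
universe u
open EGA43

namespace Groth.Agent.S3396

/-- Let Y be locally Noetherian, f : X ⟶ Y locally of finite type and equidimensional at the point x,
and suppose the local ring O_{Y,f x} is universally catenary. If O_{Y,f x} is equidimensional, then
so is O_{X,x}. -/
theorem result {X Y : Scheme.{u}} [IsLocallyNoetherian Y] (f : X ⟶ Y)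
    [LocallyOfFiniteType f] (x : X) (h : EGA43.IsEquidimAt f x)
    (hcat : CAlg.IsUniversallyCatenary (Y.presheaf.stalk (f.base x)))
    (hY : EGA4.IsEquidim (Y.presheaf.stalk (f.base x))) :
    EGA4.IsEquidim (X.presheaf.stalk x) := by
  have : IsLocallyNoetherian X := LocallyOfFiniteType.isLocallyNoetherian f
  obtain ⟨a, b, hb, hall⟩ :=
    Groth.Agent.Lib.Helper21.EquidimAt.ringKrullDim_quotient_minimalPrime_of_isEquidimAt f x h hcat
      hY
  obtain ⟨𝔭₀, hmin₀, h𝔭₀⟩ :=
    Groth.Agent.Lib.Helper21.EquidimAt.exists_minimalPrimes_ringKrullDim_quotient_eq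
      (X.presheaf.stalk x)
  intro 𝔭 hmin
  have h0 := hall 𝔭₀ hmin₀
  have h1 := hall 𝔭 hmin
  rw [← h0, h𝔭₀] at h1
  apply le_antisymm
  · exact Groth.Agent.Lib.Helper21.FibDim.le_of_add_nat_le_add_nat _ _ a h1.le
  · exact Groth.Agent.Lib.Helper21.FibDim.le_of_add_nat_le_add_nat _ _ a h1.ge

end Groth.Agent.S3396
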