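import Groth.Statements.S3401
import Groth.Agent.Lib.Lead.ProConsScheme
import Mathlib

set_option autoImplicit false
open CategoryTheory AlgebraicGeometry
universe u
open EGA41

namespace Groth.Agent.S3401

/-- Let X be a scheme and E a subset of X. If E is ind-constructible then for every point x of E the set
E ∩ cl{x} is a neighbourhood of x in cl{x}; when X is locally Noetherian the converse holds. (As
published, the necessity clause quantifies over all points x of X; for x outside E the condition
cannot hold, and the argument uses x ∈ E, so it is stated here for x ∈ E.) Stated as an equivalence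
for X locally Noetherian. -/
theorem result (X : Scheme.{u}) [IsLocallyNoetherian X]
    (E : Set X) :
    ProCons.IsIndConstructible E ↔
      ∀ x ∈ E, (Subtype.val ⁻¹' E : Set ↥(closure ({x} : Set X))) ∈ nhds (⟨x, subset_closure rfl⟩ : ↥(closure ({x} : Set X))) := by
  constructor
  · intro hE x hx
    exact Groth.Agent.Lib.Lead.mem_nhds_subtype_closure_of_isIndConstructible
      (Groth.Agent.Lib.Lead.locallySpectral_scheme X) hE hx
  · intro h
    exact Groth.Agent.Lib.Lead.isIndConstructible_of_forall_mem_nhds_closure X h

end Groth.Agent.S3401
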