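import Groth.Statements.S3406
import Mathlib
import Groth.Agent.Lib.Helper11.HSParams

set_option autoImplicit false
universe u
open EGA41

namespace Groth.Agent.S3406

/-- The equality s(M) = dim(M): let A be a Noetherian ring with finitely many maximal ideals, r its
Jacobson radical and M a nonzero finitely generated A-module. Then the dimension of M (the Krull
dimension of its support) is the least n for which there are elements x_1, …, x_n of r such that
M/(x_1 M + ⋯ + x_n M) has finite length. -/
theorem result (A : Type u) [CommRing A] [IsNoetherianRing A]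
    [Finite (MaximalSpectrum A)] (M : Type u) [AddCommGroup M] [Module A M] [Module.Finite A M] [Nontrivial M] :
    Module.supportDim A M =
      sInf {k : WithBot ℕ∞ | ∃ (n : ℕ) (x : Fin n → A), k = n ∧ (∀ i, x i ∈ Ring.jacobson A) ∧
        IsFiniteLength A (M ⧸ (Ideal.span (Set.range x) • (⊤ : Submodule A M)))} := by
  have hFL : Groth.Agent.Lib.Helper11.HS.FL (Ring.jacobson A) M :=
    Groth.Agent.Lib.Helper11.HS.FL_of_forall_isMaximal (Ring.jacobson A) M
      (fun p hp hle => @Groth.Agent.Lib.Helper11.HS.isMaximal_of_jacobson_le A _ _ p hp hle)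
  have hnat := Groth.Agent.Lib.Helper11.HS.natDegree_samuelPoly_eq_supportDim
    (Ring.jacobson A) le_rfl M hFL
  apply le_antisymm
  · apply le_sInf
    rintro k ⟨n, x, rfl, hx, hfl⟩
    have h1 := Groth.Agent.Lib.Helper24.supportDim_le_supportDim_quot_ofList_add_length
      (List.ofFn x) (by
        intro a ha
        rw [List.mem_ofFn] at ha
        obtain ⟨i, rfl⟩ := ha
        exact hx i) M
    have h2 : Ideal.ofList (List.ofFn x) = Ideal.span (Set.range x) := by
      unfold Ideal.ofList
      congr 1
      ext a
      simp [List.mem_ofFn]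
    rw [h2, List.length_ofFn] at h1
    have h3 := Groth.Agent.Lib.Helper24.supportDim_le_zero_of_isFiniteLength hfl
    calc Module.supportDim A M
        ≤ Module.supportDim A (M ⧸ (Ideal.span (Set.range x) • (⊤ : Submodule A M))) + n := h1
      _ ≤ 0 + n := add_le_add_left h3 _
      _ = n := zero_add _
  · apply sInf_le
    obtain ⟨x, hx, hfl⟩ := Groth.Agent.Lib.Helper11.HS.exists_params (Ring.jacobson A) le_rfl
      (Groth.Agent.Lib.Helper11.HS.samuelPoly (Ring.jacobson A) M).natDegree M hFL (le_of_eq hnat.symm)
    exact ⟨_, x, hnat.symm, hx, hfl⟩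

end Groth.Agent.S3406
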