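import Groth.Statements.S3418
import Mathlib
import Groth.Agent.Lib.Helper6.GN2
-- import your own Groth.Agent.* helpers here

set_option autoImplicit false
open CategoryTheory AlgebraicGeometry
universe u
open EGA43

namespace Groth.Agent.S3418

/-- Let f : X ⟶ Y be flat, locally of finite presentation, separated and quasi-finite, and let n(y) be
the geometric number of points of the fibre over y. Then n is lower semicontinuous on Y, and if n is
constant on a neighbourhood of a point y₀ then f is proper over some open neighbourhood of y₀. -/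
theorem result {X Y : Scheme.{u}} (f : X ⟶ Y) [Flat f]
    [LocallyOfFinitePresentation f] [IsSeparated f] [LocallyQuasiFinite f] [QuasiCompact f] :
    LowerSemicontinuous (fun z : Y => MoreMor.nGeomConnComp f z) ∧
      ∀ y₀ : Y, (∃ V ∈ nhds y₀, ∀ z ∈ V, MoreMor.nGeomConnComp f z = MoreMor.nGeomConnComp f y₀) →
        ∃ U : Y.Opens, y₀ ∈ U ∧ IsProper (f ∣_ U) := by
  classical
  refine ⟨fun y c hc => ?_, fun y₀ hconst => ?_⟩
  · obtain ⟨V, a, v₀, N₁, hEt, hav₀, hv₀N, hge, -⟩ :=
      Groth.Agent.Lib.Helper6.GN.exists_etale_nbhd f y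
    haveI := hEt
    have hopen : IsOpen (a '' (N₁ : Set V)) := a.isOpenMap _ N₁.isOpen
    have hmem : y ∈ a '' (N₁ : Set V) := ⟨v₀, hv₀N, hav₀⟩
    refine Filter.mem_of_superset (hopen.mem_nhds hmem) ?_
    rintro _ ⟨v, hv, rfl⟩
    exact lt_of_lt_of_le hc (hge v hv)
  · obtain ⟨M, hM, hMc⟩ := hconst
    obtain ⟨V, a, v₀, N₁, hEt, hav₀, hv₀N, -, hfinite⟩ :=
      Groth.Agent.Lib.Helper6.GN.exists_etale_nbhd f y₀
    haveI := hEt
    let NV : V.Opens := ⟨(N₁ : Set V) ∩ a ⁻¹' (interior M),
      N₁.isOpen.inter (isOpen_interior.preimage a.continuous)⟩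
    have hv₀NV : v₀ ∈ NV := ⟨hv₀N, by
      change a v₀ ∈ interior M
      rw [hav₀]
      exact mem_interior_iff_mem_nhds.mpr hM⟩
    have hfinN : AlgebraicGeometry.IsFinite (CategoryTheory.Limits.pullback.snd f a ∣_ NV) :=
      hfinite NV (fun v hv => hv.1) (fun v hv => hMc _ (interior_subset hv.2))
    let U : Y.Opens := ⟨a '' (NV : Set V), a.isOpenMap _ NV.isOpen⟩
    have hy₀U : y₀ ∈ U := ⟨v₀, hv₀NV, hav₀⟩
    refine ⟨U, hy₀U, ?_⟩
    haveI : AlgebraicGeometry.IsSeparated (f ∣_ U) :=
      AlgebraicGeometry.IsZariskiLocalAtTarget.restrict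
        (P := @AlgebraicGeometry.IsSeparated) inferInstance U
    haveI : AlgebraicGeometry.LocallyOfFiniteType (f ∣_ U) :=
      AlgebraicGeometry.IsZariskiLocalAtTarget.restrict
        (P := @AlgebraicGeometry.LocallyOfFiniteType) inferInstance U
    have hrange : Set.range (NV.ι ≫ a) ⊆ Set.range U.ι := by
      rw [AlgebraicGeometry.Scheme.Opens.range_ι]
      rintro _ ⟨n, rfl⟩
      have : NV.ι n ∈ Set.range NV.ι := ⟨_, rfl⟩
      rw [AlgebraicGeometry.Scheme.Opens.range_ι] at this
      exact ⟨NV.ι n, this, rfl⟩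
    let e : NV.toScheme ⟶ U.toScheme :=
      AlgebraicGeometry.IsOpenImmersion.lift U.ι (NV.ι ≫ a) hrange
    have he : e ≫ U.ι = NV.ι ≫ a := AlgebraicGeometry.IsOpenImmersion.lift_fac _ _ _
    haveI : AlgebraicGeometry.Etale e := by
      refine CategoryTheory.MorphismProperty.of_postcomp (W := @AlgebraicGeometry.Etale)
        (W' := @AlgebraicGeometry.IsOpenImmersion) e U.ι inferInstance ?_
      rw [he]; infer_instance
    haveI : AlgebraicGeometry.UniversallyClosed (f ∣_ U) := by
      refine Groth.Agent.Lib.Helper6.Wt.universallyClosed_of_etale_nbhds _ fun y' => ?_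
      refine ⟨NV.toScheme, e, inferInstance, ?_, ?_⟩
      · have hy'U : U.ι y' ∈ U := by
          have : U.ι y' ∈ Set.range U.ι := ⟨_, rfl⟩
          rwa [AlgebraicGeometry.Scheme.Opens.range_ι] at this
        obtain ⟨v, hv, hv'⟩ := hy'U
        obtain ⟨n, hn⟩ : v ∈ Set.range NV.ι := by
          rw [AlgebraicGeometry.Scheme.Opens.range_ι]; exact hv
        refine ⟨n, U.ι.isOpenEmbedding.injective ?_⟩
        rw [← AlgebraicGeometry.Scheme.Hom.comp_apply, he,
          AlgebraicGeometry.Scheme.Hom.comp_apply, hn, hv']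
      · have hsq : CategoryTheory.IsPullback (CategoryTheory.Limits.pullback.fst f a)
            (CategoryTheory.Limits.pullback.snd f a) f a :=
          CategoryTheory.IsPullback.of_hasPullback f a
        have hres : CategoryTheory.IsPullback (CategoryTheory.Limits.pullback.snd f a ⁻¹ᵁ NV).ι
            (CategoryTheory.Limits.pullback.snd f a ∣_ NV)
            (CategoryTheory.Limits.pullback.snd f a) NV.ι :=
          (AlgebraicGeometry.isPullback_morphismRestrict
            (CategoryTheory.Limits.pullback.snd f a) NV).flip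
        have hA : CategoryTheory.IsPullback
            ((CategoryTheory.Limits.pullback.snd f a ⁻¹ᵁ NV).ι ≫
              CategoryTheory.Limits.pullback.fst f a)
            (CategoryTheory.Limits.pullback.snd f a ∣_ NV) f (NV.ι ≫ a) :=
          hres.paste_horiz hsq
        have hB : CategoryTheory.IsPullback
            (CategoryTheory.Limits.pullback.fst (f ∣_ U) e ≫ (f ⁻¹ᵁ U).ι)
            (CategoryTheory.Limits.pullback.snd (f ∣_ U) e) f (e ≫ U.ι) :=
          (CategoryTheory.IsPullback.of_hasPullback (f ∣_ U) e).paste_horiz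
            (AlgebraicGeometry.isPullback_morphismRestrict f U).flip
        rw [he] at hB
        have hiso := hB.isoIsPullback_hom_snd _ _ hA
        rw [← hiso]
        haveI := hfinN
        infer_instance
    exact { }

end Groth.Agent.S3418
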