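import Groth.Statements.S3429
import Mathlib
import Groth.Agent.Lib.Helper10.QuasiFlat

set_option autoImplicit false
open CategoryTheory AlgebraicGeometry
universe u
open EGA42

namespace Groth.Agent.S3429

section
open AlgebraicGeometry CategoryTheory CategoryTheory.Limits TensorProduct
open Groth.Agent.Lib.Helper10.QuasiFlat

attribute [local instance] Algebra.TensorProduct.rightAlgebra in
theorem generalizingMap_pullback_fst_of_isQuasiFlat {X Y T : Scheme.{u}} (f : X ⟶ Y)
    (hf : FDesc.IsQuasiFlat f) (g : T ⟶ Y) : GeneralizingMap (pullback.fst g f) := by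
  obtain ⟨M, ⟨hqc, hft⟩, hflat, hnt⟩ := hf
  have h1 : M.IsQuasicoherent := hqc
  have h2 : M.IsFiniteType := hft
  intro z t' ht'
  let x : X := pullback.snd g f z
  let t : T := pullback.fst g f z
  have hxy : g t = f x := by
    change (pullback.fst g f ≫ g) z = (pullback.snd g f ≫ f) z
    rw [pullback.condition]
  let φ : Y.presheaf.stalk (f x) ⟶ T.presheaf.stalk t :=
    (Y.presheaf.stalkCongr (.of_eq hxy.symm)).hom ≫ g.stalkMap t
  let _ : Algebra (Y.presheaf.stalk (f x)) (X.presheaf.stalk x) := (f.stalkMap x).hom.toAlgebra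
  let _ : Algebra (Y.presheaf.stalk (f x)) (T.presheaf.stalk t) := φ.hom.toAlgebra
  let _ : Module (Y.presheaf.stalk (f x)) (M.presheaf.stalk x) := FlatMod.moduleStalkOver f M x
  have : IsScalarTower (Y.presheaf.stalk (f x)) (X.presheaf.stalk x) (M.presheaf.stalk x) :=
    IsScalarTower.of_algebraMap_smul fun a m => rfl
  have : Module.Finite (X.presheaf.stalk x) (M.presheaf.stalk x) :=
    Groth.Agent.Lib.Helper17.ZClosDepth.module_finite_stalk M x
  have : Nontrivial (M.presheaf.stalk x) := hnt x
  have : Module.Flat (Y.presheaf.stalk (f x)) (M.presheaf.stalk x) := hflat x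
  -- the map from the spectrum of the tensor product of local rings
  have e₁ : Spec.map (CommRingCat.ofHom (algebraMap (Y.presheaf.stalk (f x)) (T.presheaf.stalk t))) ≫
      Y.fromSpecStalk (f x) = T.fromSpecStalk t ≫ g := by
    rw [← Scheme.SpecMap_stalkMap_fromSpecStalk]
    change Spec.map φ ≫ _ = _
    rw [Spec.map_comp, Category.assoc]
    congr 1
    rw [TopCat.Presheaf.stalkCongr_hom]
    exact Scheme.SpecMap_stalkSpecializes_fromSpecStalk _
  have e₂ : Spec.map (CommRingCat.ofHom (algebraMap (Y.presheaf.stalk (f x)) (X.presheaf.stalk x))) ≫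
      Y.fromSpecStalk (f x) = X.fromSpecStalk x ≫ f :=
    Scheme.SpecMap_stalkMap_fromSpecStalk f
  let m := pullback.map
    (Spec.map (CommRingCat.ofHom (algebraMap (Y.presheaf.stalk (f x)) (T.presheaf.stalk t))))
    (Spec.map (CommRingCat.ofHom (algebraMap (Y.presheaf.stalk (f x)) (X.presheaf.stalk x))))
    g f (T.fromSpecStalk t) (X.fromSpecStalk x) (Y.fromSpecStalk (f x)) e₁ e₂
  let sC : Spec (.of (T.presheaf.stalk t ⊗[Y.presheaf.stalk (f x)] X.presheaf.stalk x)) ⟶
      pullback g f :=
    (pullbackSpecIso (Y.presheaf.stalk (f x)) (T.presheaf.stalk t) (X.presheaf.stalk x)).inv ≫ m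
  let incL : T.presheaf.stalk t →+*
      (T.presheaf.stalk t ⊗[Y.presheaf.stalk (f x)] X.presheaf.stalk x) :=
    Algebra.TensorProduct.includeLeftRingHom
  let incR : X.presheaf.stalk x →+*
      (T.presheaf.stalk t ⊗[Y.presheaf.stalk (f x)] X.presheaf.stalk x) :=
    Algebra.TensorProduct.includeRight.toRingHom
  have hsC1 : sC ≫ pullback.fst g f = Spec.map (CommRingCat.ofHom incL) ≫ T.fromSpecStalk t := by
    dsimp only [sC, m]
    rw [Category.assoc, pullback.lift_fst, ← Category.assoc, pullbackSpecIso_inv_fst]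
  have hsC2 : sC ≫ pullback.snd g f = Spec.map (CommRingCat.ofHom incR) ≫ X.fromSpecStalk x := by
    dsimp only [sC, m]
    rw [Category.assoc, pullback.lift_snd, ← Category.assoc, pullbackSpecIso_inv_snd]
    rfl
  -- `z` is in the range of `sC`
  have hz : z ∈ Set.range m := by
    dsimp only [m]
    rw [Scheme.Pullback.range_map]
    refine ⟨⟨IsLocalRing.closedPoint _, Scheme.fromSpecStalk_closedPoint⟩,
      ⟨IsLocalRing.closedPoint _, Scheme.fromSpecStalk_closedPoint⟩⟩
  obtain ⟨w, hw⟩ := hz
  let q'pt := (pullbackSpecIso (Y.presheaf.stalk (f x)) (T.presheaf.stalk t)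
    (X.presheaf.stalk x)).hom w
  have hq'z : sC q'pt = z := by
    dsimp only [sC, q'pt]
    rw [← Scheme.Hom.comp_apply, Iso.hom_inv_id_assoc]
    exact hw
  -- the prime `q'` lies over the maximal ideals
  have hqB : Spec.map (CommRingCat.ofHom incR) q'pt = IsLocalRing.closedPoint (X.presheaf.stalk x) := by
    apply (X.fromSpecStalk x).isEmbedding.injective
    rw [← Scheme.Hom.comp_apply, ← hsC2, Scheme.Hom.comp_apply, hq'z]
    exact Scheme.fromSpecStalk_closedPoint.symm
  have hqT : Spec.map (CommRingCat.ofHom incL) q'pt = IsLocalRing.closedPoint (T.presheaf.stalk t) := by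
    apply (T.fromSpecStalk t).isEmbedding.injective
    rw [← Scheme.Hom.comp_apply, ← hsC1, Scheme.Hom.comp_apply, hq'z]
    exact Scheme.fromSpecStalk_closedPoint.symm
  have hq'B : (q'pt.asIdeal).comap (algebraMap (X.presheaf.stalk x)
      (T.presheaf.stalk t ⊗[Y.presheaf.stalk (f x)] X.presheaf.stalk x)) =
      IsLocalRing.maximalIdeal (X.presheaf.stalk x) :=
    congrArg PrimeSpectrum.asIdeal hqB
  have hq'T : (q'pt.asIdeal).comap (algebraMap (T.presheaf.stalk t)
      (T.presheaf.stalk t ⊗[Y.presheaf.stalk (f x)] X.presheaf.stalk x)) =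
      IsLocalRing.maximalIdeal (T.presheaf.stalk t) :=
    congrArg PrimeSpectrum.asIdeal hqT
  obtain ⟨Ppt, hPpt⟩ : t' ∈ Set.range (T.fromSpecStalk t) := by
    rw [Scheme.range_fromSpecStalk]; exact ht'
  have hle : Ppt.asIdeal ≤ (q'pt.asIdeal).comap (algebraMap (T.presheaf.stalk t)
      (T.presheaf.stalk t ⊗[Y.presheaf.stalk (f x)] X.presheaf.stalk x)) := by
    rw [hq'T]
    exact IsLocalRing.le_maximalIdeal Ppt.isPrime.ne_top
  obtain ⟨q'', hq''prime, hq''le, hq''comap⟩ :=
    exists_prime_le_of_tensor (A := Y.presheaf.stalk (f x)) (A' := T.presheaf.stalk t)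
      (B := X.presheaf.stalk x) (N := M.presheaf.stalk x) q'pt.asIdeal hq'B Ppt.asIdeal hle
  let q''pt : Spec (.of (T.presheaf.stalk t ⊗[Y.presheaf.stalk (f x)] X.presheaf.stalk x)) :=
    ⟨q'', hq''prime⟩
  refine ⟨sC q''pt, ?_, ?_⟩
  · rw [← hq'z]
    refine Specializes.map ?_ sC.continuous
    exact (PrimeSpectrum.le_iff_specializes q''pt q'pt).mp hq''le
  · change (sC ≫ pullback.fst g f) q''pt = t'
    rw [hsC1, Scheme.Hom.comp_apply, ← hPpt]
    congr 1
    exact PrimeSpectrum.ext hq''comap
end

/-- A morphism of schemes which is quasi-flat (some quasi-coherent module of finite type on the source,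
flat over the base, has support the whole source) and locally of finite presentation is universally
open. -/
theorem result {X Y : Scheme.{u}} (f : X ⟶ Y)
    (hf : FDesc.IsQuasiFlat f) [LocallyOfFinitePresentation f] : UniversallyOpen f := by
  refine ⟨MorphismProperty.universally_mk' _ _ fun {T} g _ => ?_⟩
  exact isOpenMap_of_generalizingMap _ (generalizingMap_pullback_fst_of_isQuasiFlat f hf g)

end Groth.Agent.S3429
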