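import Groth.Statements.S3430
import Mathlib
import Groth.Agent.Lib.Helper6.NNDim3
import Groth.Agent.Lib.Helper14.SchemeDim
-- import your own Groth.Agent.* helpers here

set_option autoImplicit false
open CategoryTheory AlgebraicGeometry
universe u
open EGA42

namespace Groth.Agent.S3430

/-- Let X be a scheme of finite type over a field k and n a natural number. Then: dim X ≥ n if and only
if there are a dense open subscheme U of X and a surjective k-morphism from U to affine n-space over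
k; dim X ≤ n if and only if there are such U and g with g finite; dim X = n if and only if there are
such U and g with g finite and surjective. -/
theorem result (k : Type u) [Field k] {X : Scheme.{u}}
    (f : X ⟶ Spec (CommRingCat.of k)) [LocallyOfFiniteType f] [QuasiCompact f] (n : ℕ) :
    ((n : WithBot ℕ∞) ≤ topologicalKrullDim (X : Type u) ↔
      ∃ (U : X.Opens) (g : (U : Scheme.{u}) ⟶ 𝔸(ULift.{u} (Fin n); Spec (CommRingCat.of k))),
        Dense (U : Set X) ∧ g ≫ (𝔸(ULift.{u} (Fin n); Spec (CommRingCat.of k)) ↘ Spec (CommRingCat.of k)) = U.ι ≫ f ∧ Function.Surjective g.base) ∧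
    (topologicalKrullDim (X : Type u) ≤ n ↔
      ∃ (U : X.Opens) (g : (U : Scheme.{u}) ⟶ 𝔸(ULift.{u} (Fin n); Spec (CommRingCat.of k))),
        Dense (U : Set X) ∧ g ≫ (𝔸(ULift.{u} (Fin n); Spec (CommRingCat.of k)) ↘ Spec (CommRingCat.of k)) = U.ι ≫ f ∧ IsFinite g) ∧
    (topologicalKrullDim (X : Type u) = n ↔
      ∃ (U : X.Opens) (g : (U : Scheme.{u}) ⟶ 𝔸(ULift.{u} (Fin n); Spec (CommRingCat.of k))),
        Dense (U : Set X) ∧ g ≫ (𝔸(ULift.{u} (Fin n); Spec (CommRingCat.of k)) ↘ Spec (CommRingCat.of k)) = U.ι ≫ f ∧ IsFinite g ∧ Function.Surjective g.base) := by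

  classical
  haveI : IsLocallyNoetherian X := LocallyOfFiniteType.isLocallyNoetherian f
  haveI : CompactSpace X := QuasiCompact.compactSpace_of_compactSpace f
  haveI : IsNoetherian X := {}
  -- dense opens have the same dimension
  have hdimU : ∀ U : X.Opens, Dense (U : Set X) →
      topologicalKrullDim (U : Scheme.{u}) = topologicalKrullDim X := by
    intro U hU
    refine le_antisymm (U.ι.isOpenEmbedding.isInducing.topologicalKrullDim_le) ?_
    refine Groth.Agent.Lib.Helper6.NNDim.topologicalKrullDim_le_of_generic_mem_range k f U.ι ?_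
    intro η hη
    have hηU : η ∈ (U : Set X) :=
      Groth.Agent.Lib.Helper6.NNDim.mem_of_dense_of_mem_irreducibleComponents _ U.2 hU η hη
    exact ⟨⟨η, hηU⟩, rfl⟩
  have hAn := Groth.Agent.Lib.Helper6.NNDim.topologicalKrullDim_affineSpace k n
  -- converse directions
  have conv1 : (∃ (U : X.Opens) (g : (U : Scheme.{u}) ⟶
      𝔸(ULift.{u} (Fin n); Spec (CommRingCat.of k))), Dense (U : Set X) ∧
        g ≫ (𝔸(ULift.{u} (Fin n); Spec (CommRingCat.of k)) ↘ Spec (CommRingCat.of k)) = U.ι ≫ f ∧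
        Function.Surjective g.base) → (n : WithBot ℕ∞) ≤ topologicalKrullDim (X : Type u) := by
    rintro ⟨U, g, hU, hg, hsurj⟩
    haveI : LocallyOfFiniteType (g ≫
        (𝔸(ULift.{u} (Fin n); Spec (CommRingCat.of k)) ↘ Spec (CommRingCat.of k))) := by
      rw [hg]; infer_instance
    have h1 := Groth.Agent.Lib.Helper6.NNDim.topologicalKrullDim_le_of_generic_mem_range k
      (𝔸(ULift.{u} (Fin n); Spec (CommRingCat.of k)) ↘ Spec (CommRingCat.of k)) g
      (fun η _ => hsurj η)
    rw [hAn, hdimU U hU] at h1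
    exact h1
  have conv2 : (∃ (U : X.Opens) (g : (U : Scheme.{u}) ⟶
      𝔸(ULift.{u} (Fin n); Spec (CommRingCat.of k))), Dense (U : Set X) ∧
        g ≫ (𝔸(ULift.{u} (Fin n); Spec (CommRingCat.of k)) ↘ Spec (CommRingCat.of k)) = U.ι ≫ f ∧
        IsFinite g) → topologicalKrullDim (X : Type u) ≤ n := by
    rintro ⟨U, g, hU, hg, hfin⟩
    have h1 := Groth.Agent.Lib.Helper14.AS.topologicalKrullDim_le_of_lqf g
    rw [hAn, hdimU U hU] at h1
    exact h1
  -- forward directions
  have fwd : ((n : WithBot ℕ∞) ≤ topologicalKrullDim (X : Type u) →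
      ∃ (U : X.Opens) (g : (U : Scheme.{u}) ⟶ 𝔸(ULift.{u} (Fin n); Spec (CommRingCat.of k))),
        Dense (U : Set X) ∧
        g ≫ (𝔸(ULift.{u} (Fin n); Spec (CommRingCat.of k)) ↘ Spec (CommRingCat.of k)) = U.ι ≫ f ∧
        Function.Surjective g.base) ∧
    (topologicalKrullDim (X : Type u) ≤ n →
      ∃ (U : X.Opens) (g : (U : Scheme.{u}) ⟶ 𝔸(ULift.{u} (Fin n); Spec (CommRingCat.of k))),
        Dense (U : Set X) ∧
        g ≫ (𝔸(ULift.{u} (Fin n); Spec (CommRingCat.of k)) ↘ Spec (CommRingCat.of k)) = U.ι ≫ f ∧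
        IsFinite g) ∧
    (topologicalKrullDim (X : Type u) = n →
      ∃ (U : X.Opens) (g : (U : Scheme.{u}) ⟶ 𝔸(ULift.{u} (Fin n); Spec (CommRingCat.of k))),
        Dense (U : Set X) ∧
        g ≫ (𝔸(ULift.{u} (Fin n); Spec (CommRingCat.of k)) ↘ Spec (CommRingCat.of k)) = U.ι ≫ f ∧
        IsFinite g ∧ Function.Surjective g.base) := by
    rcases isEmpty_or_nonempty X with hX | hX
    · have hbot : topologicalKrullDim (X : Type u) = ⊥ := by
        rw [Groth.Agent.Lib.Helper14.AS.topologicalKrullDim_eq_iSup_stalk X]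
        exact iSup_of_empty _
      refine ⟨?_, ?_, ?_⟩
      · intro h
        rw [hbot] at h
        exact absurd h (by simp)
      · intro _
        haveI : IsEmpty ((⊥ : X.Opens) : Scheme.{u}) := ⟨fun x => hX.false x.1⟩
        refine ⟨⊥, (isInitialOfIsEmpty (X := ((⊥ : X.Opens) : Scheme.{u}))).to _, ?_, ?_, ?_⟩
        · intro x
          exact (hX.false x).elim
        · exact (isInitialOfIsEmpty (X := ((⊥ : X.Opens) : Scheme.{u}))).hom_ext _ _
        · infer_instance
      · intro h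
        rw [hbot] at h
        exact absurd h (by simp)
    · obtain ⟨U, hUaff, hUd⟩ := Groth.Agent.Lib.Helper6.NNDim.exists_dense_isAffineOpen X
      haveI : IsAffine (U : Scheme.{u}) := hUaff
      haveI : Nonempty (U : Scheme.{u}) := by
        haveI := hX
        obtain ⟨y, hy⟩ := hUd.nonempty
        exact ⟨⟨y, hy⟩⟩
      obtain ⟨h1, h2, h3⟩ := Groth.Agent.Lib.Helper6.NNDim.exists_hom_affineSpace k (U.ι ≫ f) n
      rw [hdimU U hUd] at h1 h2 h3
      refine ⟨?_, ?_, ?_⟩
      · intro h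
        obtain ⟨g, hg, hs⟩ := h1 h
        exact ⟨U, g, hUd, hg, hs⟩
      · intro h
        obtain ⟨g, hg, hs⟩ := h2 h
        exact ⟨U, g, hUd, hg, hs⟩
      · intro h
        obtain ⟨g, hg, hs, hs'⟩ := h3 h
        exact ⟨U, g, hUd, hg, hs, hs'⟩
  refine ⟨⟨fwd.1, conv1⟩, ⟨fwd.2.1, conv2⟩, ⟨fwd.2.2, ?_⟩⟩
  rintro ⟨U, g, hU, hg, hfin, hsurj⟩
  exact le_antisymm (conv2 ⟨U, g, hU, hg, hfin⟩) (conv1 ⟨U, g, hU, hg, hsurj⟩)

end Groth.Agent.S3430
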