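import Groth.Statements.S3433
import Mathlib
import Groth.Agent.S3432
-- import your own Groth.Agent.* helpers here

set_option autoImplicit false
universe u
open EGA43

namespace Groth.Agent.S3433

section helpers

open AlgebraicGeometry Groth.Agent.S3431

theorem jacobson_punctured (A : Type u) [CommRing A] [IsNoetherianRing A] [IsLocalRing A] :
    JacobsonSpace ↥({IsLocalRing.closedPoint A}ᶜ : Set (PrimeSpectrum A)) := by
  have h := Groth.Agent.S3432.result (Spec (CommRingCat.of A))
    ({IsLocalRing.closedPoint A} : Set (PrimeSpectrum A))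
    (IsLocalRing.isClosed_singleton_closedPoint A)
    (fun Z hZ hne => by
      obtain ⟨z, hz⟩ := hne
      have hz' : z ⤳ IsLocalRing.closedPoint A :=
        IsLocalRing.specializes_closedPoint (R := A) z
      exact ⟨IsLocalRing.closedPoint A, hz'.mem_closed hZ hz, rfl⟩)
  exact h

theorem isClosed_singleton_subtype_iff {T : Type u} [TopologicalSpace T] (S : Set T) (p : ↥S) :
    IsClosed ({p} : Set ↥S) ↔ ∀ q : ↥S, (p : T) ⤳ (q : T) → q = p := by
  rw [← closure_subset_iff_isClosed]
  constructor
  · intro h q hpq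
    have : q ∈ closure ({p} : Set ↥S) := by
      rw [← specializes_iff_mem_closure, subtype_specializes_iff]
      exact hpq
    exact h this
  · intro h q hq
    rw [← specializes_iff_mem_closure, subtype_specializes_iff] at hq
    exact h q hq

end helpers

/-- Let A be a Noetherian local ring with maximal ideal m and let Y be the punctured spectrum Spec A ∖
{m}. Then Y is a Jacobson space, and a point p of Y is closed in Y if and only if dim A/p = 1. -/
theorem result (A : Type u) [CommRing A] [IsNoetherianRing A] [IsLocalRing A] :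
    JacobsonSpace ↥({IsLocalRing.closedPoint A}ᶜ : Set (PrimeSpectrum A)) ∧
      ∀ p : ↥({IsLocalRing.closedPoint A}ᶜ : Set (PrimeSpectrum A)),
        IsClosed ({p} : Set ↥({IsLocalRing.closedPoint A}ᶜ : Set (PrimeSpectrum A))) ↔
          ringKrullDim (A ⧸ p.1.asIdeal) = 1 := by
  refine ⟨jacobson_punctured A, fun p => ?_⟩
  rw [isClosed_singleton_subtype_iff]
  have hpne : p.1 ≠ IsLocalRing.closedPoint A := p.2
  have hplt : p.1.asIdeal < IsLocalRing.maximalIdeal A := by
    refine lt_of_le_of_ne (IsLocalRing.le_maximalIdeal p.1.2.ne_top) fun h => hpne ?_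
    exact PrimeSpectrum.ext h
  constructor
  · intro h
    apply le_antisymm
    · apply Groth.Agent.S3431.ringKrullDim_quotient_le_one
      intro q₁ q₂ hq₁ hq₂ h1 h2
      have hq₁ne : (⟨q₁, hq₁⟩ : PrimeSpectrum A) ≠ IsLocalRing.closedPoint A := by
        intro heq
        have h3 : q₁ = IsLocalRing.maximalIdeal A := congrArg PrimeSpectrum.asIdeal heq
        have h4 : q₂ ≤ IsLocalRing.maximalIdeal A := IsLocalRing.le_maximalIdeal hq₂.ne_top
        exact absurd (lt_of_lt_of_le h2 h4) (h3 ▸ lt_irrefl _)
      have h5 := h ⟨⟨q₁, hq₁⟩, hq₁ne⟩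
        ((PrimeSpectrum.le_iff_specializes p.1 ⟨q₁, hq₁⟩).mp h1.le)
      have h6 : q₁ = p.1.asIdeal := congrArg (fun z : ↥({IsLocalRing.closedPoint A}ᶜ :
        Set (PrimeSpectrum A)) => z.1.asIdeal) h5
      exact absurd h1 (h6 ▸ lt_irrefl _)
    · exact Groth.Agent.S3431.one_le_ringKrullDim_quotient p.1.asIdeal (IsLocalRing.maximalIdeal A) hplt
  · intro hdim q hpq
    obtain ⟨-, hchain⟩ := Groth.Agent.S3431.chain_of_ringKrullDim_quotient_eq_one p.1.asIdeal hdim
    have hle : p.1.asIdeal ≤ q.1.asIdeal := (PrimeSpectrum.le_iff_specializes p.1 q.1).mpr hpq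
    by_contra hne
    have hlt : p.1.asIdeal < q.1.asIdeal := by
      refine lt_of_le_of_ne hle fun h => hne ?_
      exact Subtype.ext (PrimeSpectrum.ext h.symm)
    have hqne : q.1 ≠ IsLocalRing.closedPoint A := q.2
    have hqlt : q.1.asIdeal < IsLocalRing.maximalIdeal A := by
      refine lt_of_le_of_ne (IsLocalRing.le_maximalIdeal q.1.2.ne_top) fun h => hqne ?_
      exact PrimeSpectrum.ext h
    exact hchain q.1.asIdeal (IsLocalRing.maximalIdeal A) q.1.2 inferInstance hlt hqlt

end Groth.Agent.S3433
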