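import Groth.Statements.S3435
import Mathlib

set_option autoImplicit false
universe u
open EGA41

namespace Groth.Agent.S3435

open TensorProduct in
/-- Let Λ → A → B → C be ring homomorphisms. The homomorphism Ω_{B/Λ} ⊗_B C → Ω_{B/A} ⊗_B C maps the
imperfection module Υ_{C/B/Λ} (the kernel of Ω_{B/Λ} ⊗_B C → Ω_{C/Λ}) onto the imperfection module
Υ_{C/B/A} (the kernel of Ω_{B/A} ⊗_B C → Ω_{C/A}): every element of Υ_{C/B/A} is the image of some
element of Υ_{C/B/Λ}. -/
theorem result (Λ A B C : Type u) [CommRing Λ] [CommRing A] [CommRing B] [CommRing C]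
    [Algebra Λ A] [Algebra Λ B] [Algebra Λ C] [Algebra A B] [Algebra A C] [Algebra B C]
    [IsScalarTower Λ A B] [IsScalarTower Λ A C] [IsScalarTower Λ B C] [IsScalarTower A B C] :
    ∀ ω ∈ EGA41.imperfection A B C, ∃ η ∈ EGA41.imperfection Λ B C,
      (KaehlerDifferential.map Λ A B B).baseChange C η = ω := by
  -- functoriality F
  have hF : ∀ ω' : Ω[A⁄Λ], KaehlerDifferential.map Λ Λ B C (KaehlerDifferential.map Λ Λ A B ω') =
      KaehlerDifferential.map Λ Λ A C ω' := by
    intro ω'
    have hmem : ω' ∈ Submodule.span A (Set.range (KaehlerDifferential.D Λ A)) := by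
      rw [KaehlerDifferential.span_range_derivation]; trivial
    induction hmem using Submodule.span_induction with
    | mem x hx =>
      obtain ⟨a, rfl⟩ := hx
      rw [KaehlerDifferential.map_D, KaehlerDifferential.map_D, KaehlerDifferential.map_D,
        ← IsScalarTower.algebraMap_apply]
    | zero => simp
    | add x y _ _ hx hy => rw [map_add, map_add, map_add, hx, hy]
    | smul a x _ hx =>
      rw [map_smul, LinearMap.map_smul_of_tower, hx, map_smul]
  have hG : ∀ x : Ω[B⁄Λ], KaehlerDifferential.map Λ A C C (KaehlerDifferential.map Λ Λ B C x) =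
      KaehlerDifferential.map A A B C (KaehlerDifferential.map Λ A B B x) := by
    intro x
    have hmem : x ∈ Submodule.span B (Set.range (KaehlerDifferential.D Λ B)) := by
      rw [KaehlerDifferential.span_range_derivation]; trivial
    induction hmem using Submodule.span_induction with
    | mem x hx =>
      obtain ⟨b, rfl⟩ := hx
      simp only [KaehlerDifferential.map_D, Algebra.algebraMap_self, RingHom.id_apply]
    | zero => simp
    | add x y _ _ hx hy => simp only [map_add, hx, hy]
    | smul b x _ hx =>
      rw [map_smul, LinearMap.map_smul_of_tower, hx, map_smul, map_smul]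
  -- the auxiliary claim
  have hclaim : ∀ z : C ⊗[A] Ω[A⁄Λ], ∃ η1 : C ⊗[B] Ω[B⁄Λ],
      KaehlerDifferential.mapBaseChange Λ B C η1 = KaehlerDifferential.mapBaseChange Λ A C z ∧
      (KaehlerDifferential.map Λ A B B).baseChange C η1 = 0 := by
    intro z
    induction z using TensorProduct.induction_on with
    | zero => exact ⟨0, by simp, by simp⟩
    | tmul c ω' =>
      refine ⟨c ⊗ₜ (KaehlerDifferential.map Λ Λ A B ω'), ?_, ?_⟩
      · rw [KaehlerDifferential.mapBaseChange_tmul, KaehlerDifferential.mapBaseChange_tmul, hF]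
      · rw [LinearMap.baseChange_tmul]
        have h0 := (KaehlerDifferential.exact_mapBaseChange_map Λ A B).apply_apply_eq_zero
          ((1 : B) ⊗ₜ[A] ω')
        rw [KaehlerDifferential.mapBaseChange_tmul, one_smul] at h0
        rw [h0, tmul_zero]
    | add x y hx hy =>
      obtain ⟨η1, h1, h1'⟩ := hx
      obtain ⟨η2, h2, h2'⟩ := hy
      exact ⟨η1 + η2, by rw [map_add, map_add, h1, h2], by rw [map_add, h1', h2', add_zero]⟩
  -- compatibility square
  have hsq : ∀ η0 : C ⊗[B] Ω[B⁄Λ],
      KaehlerDifferential.map Λ A C C (KaehlerDifferential.mapBaseChange Λ B C η0) =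
      KaehlerDifferential.mapBaseChange A B C ((KaehlerDifferential.map Λ A B B).baseChange C η0) := by
    intro η0
    induction η0 using TensorProduct.induction_on with
    | zero => simp
    | tmul c x =>
      rw [KaehlerDifferential.mapBaseChange_tmul, LinearMap.baseChange_tmul,
        KaehlerDifferential.mapBaseChange_tmul, map_smul, hG]
    | add x y hx hy => simp only [map_add, hx, hy]
  have hsurj : Function.Surjective ((KaehlerDifferential.map Λ A B B).baseChange C) := by
    rw [LinearMap.baseChange_eq_ltensor]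
    exact LinearMap.lTensor_surjective _ (KaehlerDifferential.map_surjective Λ A B)
  intro ω hω
  obtain ⟨η0, rfl⟩ := hsurj ω
  have hω' : KaehlerDifferential.mapBaseChange A B C
      ((KaehlerDifferential.map Λ A B B).baseChange C η0) = 0 := hω
  rw [← hsq] at hω'
  obtain ⟨z, hz⟩ := ((KaehlerDifferential.exact_mapBaseChange_map Λ A C) _).mp hω'
  obtain ⟨η1, h1, h1'⟩ := hclaim z
  refine ⟨η0 - η1, ?_, ?_⟩
  · show KaehlerDifferential.mapBaseChange Λ B C (η0 - η1) = 0
    rw [map_sub, h1, hz, sub_self]
  · rw [map_sub, h1', sub_zero]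

end Groth.Agent.S3435
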