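import Groth.Statements.S3437
import Mathlib
import Groth.Agent.Lib.Helper6.CMConstr3
-- import your own Groth.Agent.* helpers here

set_option autoImplicit false
open CategoryTheory AlgebraicGeometry
universe u
open EGA43

namespace Groth.Agent.S3437

/-- Let f : X ⟶ S be of finite presentation (locally of finite presentation, quasi-compact and
quasi-separated). Then the set of points s of S such that every local ring of the fibre X_s is
Cohen–Macaulay is locally constructible in S. -/
theorem result {X S : Scheme.{u}} (f : X ⟶ S)
    [LocallyOfFinitePresentation f] [QuasiCompact f] [QuasiSeparated f] :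
    Topology.IsLocallyConstructible {s : S |
      ∀ z : ↥(f.fiber s), LocCoh.IsCohenMacaulayLocalRing ((f.fiber s).presheaf.stalk z)} := by
  have hcompl : ∀ {T : Type u} [TopologicalSpace T] {s : Set T},
      Topology.IsLocallyConstructible s → Topology.IsLocallyConstructible sᶜ := by
    intro T _ s hs x
    obtain ⟨U, hxU, hU, hsU⟩ := hs x
    refine ⟨U, hxU, hU, ?_⟩
    rw [Set.preimage_compl]
    exact hsU.compl
  have key : ∀ (s : S) (z : ↥(f.fiber s)) (x : X) (hx : f x = s) (hz : f.fiberι s z = x),
      LocCoh.IsCohenMacaulayLocalRing ((f.fiber s).presheaf.stalk z) ↔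
        x ∈ Groth.Agent.Lib.Helper6.CMConstr.Ecm f := by
    intro s z x hx hz
    subst hx
    have hz' : z = f.asFiber x := by
      apply (f.fiberι (f x)).isEmbedding.injective
      rw [hz]
      exact (AlgebraicGeometry.Scheme.Hom.fiberι_asFiber f x).symm
    subst hz'
    rfl
  have hE := Groth.Agent.Lib.Helper6.CMConstr.isLocallyConstructible_Ecm f
  have h1 := hcompl (f.isLocallyConstructible_image (hcompl hE))
  convert h1 using 1
  ext s
  simp only [Set.mem_ofPred_eq, Set.mem_compl_iff, Set.mem_image, not_exists, not_and]
  constructor
  · intro h x hx hfx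
    subst hfx
    exact hx (h (f.asFiber x))
  · intro h z
    have hx : f (f.fiberι s z) = s := (f.fiberHomeo s z).2
    rw [key s z _ hx rfl]
    by_contra hcon
    exact h _ hcon hx

end Groth.Agent.S3437
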