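import Groth.Statements.S3438
import Groth.Agent.Lib.Helper21.EquidimAt2
import Groth.Agent.Lib.Helper18.SerreReg2
-- import your own Groth.Agent.* helpers here

set_option autoImplicit false
open CategoryTheory AlgebraicGeometry
universe u
open EGA43

namespace Groth.Agent.S3438

/-- Let Y be locally Noetherian, f : X ⟶ Y locally of finite type, x a point of X with y = f x, and
suppose O_{Y,y} is equidimensional and universally catenary. If f is equidimensional at x, then dim
O_{X,x} = dim O_{Y,y} + dim O_{X_y,x}. (That O_{X,x} is then also equidimensional is a separate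
result, not asserted here.) -/
theorem result {X Y : Scheme.{u}} [IsLocallyNoetherian Y] (f : X ⟶ Y)
    [LocallyOfFiniteType f] (x : X) (hY : EGA4.IsEquidim (Y.presheaf.stalk (f.base x)))
    (hcat : CAlg.IsUniversallyCatenary (Y.presheaf.stalk (f.base x))) (h : EGA43.IsEquidimAt f x) :
    ringKrullDim (X.presheaf.stalk x) =
        ringKrullDim (Y.presheaf.stalk (f.base x)) + ringKrullDim ((f.fiber (f.base x)).presheaf.stalk (f.asFiber x)) := by
  have : IsLocallyNoetherian X := LocallyOfFiniteType.isLocallyNoetherian f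
  obtain ⟨a, b, hb, hall⟩ :=
    Groth.Agent.Lib.Helper21.EquidimAt.ringKrullDim_quotient_minimalPrime_of_isEquidimAt f x h hcat
      hY
  obtain ⟨𝔭₀, hmin₀, h𝔭₀⟩ :=
    Groth.Agent.Lib.Helper21.EquidimAt.exists_minimalPrimes_ringKrullDim_quotient_eq
      (X.presheaf.stalk x)
  have h1 := hall 𝔭₀ hmin₀
  rw [h𝔭₀] at h1
  obtain ⟨c, hc⟩ := Groth.Agent.Lib.Helper18.SerreReg.exists_ringKrullDim_eq_nat
    (Y.presheaf.stalk (f x))
  obtain ⟨d, hd⟩ := Groth.Agent.Lib.Helper18.SerreReg.exists_ringKrullDim_eq_nat
    (X.presheaf.stalk x)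
  rw [hd, hc] at h1
  have h2 : d + a = c + (a + b) := by exact_mod_cast h1
  have h3 : d = c + b := by omega
  rw [hd, hc, hb, h3]
  push_cast
  rfl

end Groth.Agent.S3438
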