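import Groth.Statements.S3440
import Groth.Agent.Lib.Helper21.MirTFAE2
-- import your own Groth.Agent.* helpers here

set_option autoImplicit false
open CategoryTheory AlgebraicGeometry
universe u
open EGA43

namespace Groth.Agent.S3440

/-- Let Y be locally Noetherian, f : X ⟶ Y locally of finite type, x a point of X and y = f x; suppose
O_{Y,y} is regular and O_{X,x} is Cohen–Macaulay. The following are equivalent: a) O_{Y,y} ⟶ O_{X,x}
is flat and the local ring of X_y at x is Cohen–Macaulay; b) O_{Y,y} ⟶ O_{X,x} is flat; c) the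
restriction of f to some open neighbourhood of x is universally open; d) f is open at the generic
point of every irreducible component of X_y through x; e') dim O_{X,x} = dim O_{Y,y} + dim
O_{X_y,x}. -/
theorem result {X Y : Scheme.{u}} [IsLocallyNoetherian Y] (f : X ⟶ Y)
    [LocallyOfFiniteType f] (x : X) (hreg : IsRegularLocalRing (Y.presheaf.stalk (f.base x)))
    (hCM : LocCoh.IsCohenMacaulayLocalRing (X.presheaf.stalk x)) :
    List.TFAE [
      (f.stalkMap x).hom.Flat ∧ LocCoh.IsCohenMacaulayLocalRing ((f.fiber (f.base x)).presheaf.stalk (f.asFiber x)),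
      (f.stalkMap x).hom.Flat,
      ∃ U : X.Opens, x ∈ U ∧ UniversallyOpen (U.ι ≫ f),
      (∀ z : ↥(f.fiber (f.base x)), f.asFiber x ∈ closure {z} →
          (∀ z' : ↥(f.fiber (f.base x)), z ∈ closure {z'} → z' = z) →
          EGA43.IsOpenAt f.base ((f.fiberι (f.base x)).base z)),
      ringKrullDim (X.presheaf.stalk x) =
        ringKrullDim (Y.presheaf.stalk (f.base x)) + ringKrullDim ((f.fiber (f.base x)).presheaf.stalk (f.asFiber x)) ] := by
  haveI : IsLocallyNoetherian X := LocallyOfFiniteType.isLocallyNoetherian f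
  tfae_have 1 → 2 := fun h => h.1
  tfae_have 2 → 3 := fun h =>
    Groth.Agent.Lib.Helper21.MirTFAE.exists_universallyOpen_nhd_of_flat f x h
  tfae_have 3 → 4 := by
    rintro ⟨U, hxU, hU⟩ z hz _
    have hzx : (f.fiberι (f.base x)).base z ⤳ x := by
      have h1 : z ⤳ f.asFiber x := specializes_iff_mem_closure.mpr hz
      have h2 := h1.map (f.fiberι (f.base x)).continuous
      have h3 : (f.fiberι (f.base x)) (f.asFiber x) = x :=
        AlgebraicGeometry.Scheme.Hom.fiberι_asFiber f x
      rw [h3] at h2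
      exact h2
    have hzU : (f.fiberι (f.base x)).base z ∈ U := hzx.mem_open U.2 hxU
    have h1 : EGA43.IsOpenAt (U.ι ≫ f).base ⟨(f.fiberι (f.base x)).base z, hzU⟩ :=
      Groth.Agent.Lib.Helper14.UOA.isOpenAt_of_isOpenMap _ (U.ι ≫ f).isOpenMap _
    rw [Groth.Agent.Lib.Helper14.UOA.comp_base_eq] at h1
    exact Groth.Agent.Lib.Helper14.UOA.isOpenAt_of_comp U.ι.base f.base
      ⟨(f.fiberι (f.base x)).base z, hzU⟩ U.ι.continuous.continuousAt h1
  tfae_have 4 → 5 := fun h =>
    Groth.Agent.Lib.Helper21.OpenAt.ringKrullDim_stalk_eq_of_isOpenAt f x h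
  tfae_have 5 → 1 := by
    intro h
    have hflat := Groth.Agent.Lib.Helper21.MirTFAE.flat_stalkMap_of_dim_formula f x hreg hCM h
    refine ⟨hflat, ?_⟩
    have e : (f.fiberι (f.base x)).base (f.asFiber x) = x :=
      AlgebraicGeometry.Scheme.Hom.fiberι_asFiber f x
    refine Groth.Agent.Lib.Helper21.MirTFAE.isCohenMacaulayLocalRing_fibre_stalk f (f.base x)
      (f.asFiber x) ?_ ?_ ?_
    · rw [e]
      exact Groth.Agent.Lib.Helper23.SyntF.cmLocal_of_regular _
    · rw [e]
      exact hCM
    · rw [e]
      exact hflat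
  tfae_finish

end Groth.Agent.S3440
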