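import Groth.Statements.S3457
import Groth.Agent.Lib.Helper21.EquidimAt1
-- import your own Groth.Agent.* helpers here

set_option autoImplicit false
open CategoryTheory AlgebraicGeometry
universe u
open EGA43

namespace Groth.Agent.S3457

/-- Let Y be locally Noetherian, f : X ⟶ Y locally of finite type, x a point of X with y = f x, and
suppose f is equidimensional at x and O_{Y,y} is universally catenary. Let e be the local dimension
at x of the fibre X_y. Then for every minimal prime 𝔭 of O_{X,x} (that is, for every irreducible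
component X_j of X through x, with O_{X_j,x} = O_{X,x}/𝔭 and O_{Y_j,y} = O_{Y,y}/(𝔭 ∩ O_{Y,y})) one
has dim(O_{X,x}/𝔭) + trdeg_{κ(y)} κ(x) = dim(O_{Y,y}/(𝔭 ∩ O_{Y,y})) + e. -/
theorem result {X Y : Scheme.{u}} [IsLocallyNoetherian Y] (f : X ⟶ Y)
    [LocallyOfFiniteType f] (x : X) (h : EGA43.IsEquidimAt f x)
    (hcat : CAlg.IsUniversallyCatenary (Y.presheaf.stalk (f.base x))) :
    letI : Algebra (Y.residueField (f.base x)) (X.residueField x) := (f.residueFieldMap x).hom.toAlgebra
    ∀ 𝔭 ∈ minimalPrimes (X.presheaf.stalk x),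
      ringKrullDim (X.presheaf.stalk x ⧸ 𝔭) +
          (Cardinal.toNat (Algebra.trdeg (Y.residueField (f.base x)) (X.residueField x)) : WithBot ℕ∞) =
        ringKrullDim (Y.presheaf.stalk (f.base x) ⧸ 𝔭.comap (f.stalkMap x).hom) + FlatMor.fibreDimAt f x := by
  intro 𝔭 hmin
  obtain ⟨e, U, hxU, -, hfib⟩ := h
  obtain ⟨a, ha⟩ := Groth.Agent.Lib.Helper21.FibDim.exists_nat_trdeg_residueFieldMap f x
  have hform := Groth.Agent.Lib.Helper21.EquidimAt.ringKrullDim_quotient_minimalPrime f x U hxU e
    hfib hcat 𝔭 hmin a ha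
  have hfx := Groth.Agent.Lib.Helper21.EquidimAt.fibreDimAt_eq_of_forall_components f U e hfib x hxU
  have hnat : Cardinal.toNat (@Algebra.trdeg (Y.residueField (f.base x)) (X.residueField x) _ _
      (f.residueFieldMap x).hom.toAlgebra) = a := by
    rw [ha]
    exact Cardinal.toNat_natCast a
  rw [hnat, hfx]
  exact hform

end Groth.Agent.S3457
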