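import Groth.Statements.S3460
import Mathlib

set_option autoImplicit false
open CategoryTheory AlgebraicGeometry
universe u
open EGA43

namespace Groth.Agent.S3460

open TopologicalSpace
/-- Let Y be locally Noetherian and f : X ⟶ Y of finite type. Then there exist a scheme Z, a proper
morphism g : X ⟶ Z and an immersion h : Z ⟶ Y with f = g ≫ h if and only if f is proper at every
point of f(X), i.e. every point of f(X) has an open neighbourhood U in Y over which the restriction
of f is proper. -/
theorem result {X Y : Scheme.{u}} [IsLocallyNoetherian Y]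
    (f : X ⟶ Y) [LocallyOfFiniteType f] [QuasiCompact f] :
    (∃ (Z : Scheme.{u}) (g : X ⟶ Z) (h : Z ⟶ Y), IsProper g ∧ IsImmersion h ∧ g ≫ h = f) ↔
      ∀ x : X, ∃ U : Y.Opens, f.base x ∈ U ∧ IsProper (f ∣_ U) := by
  have hιiso : ∀ W : X.Opens, W = ⊤ → IsIso W.ι := by
    rintro _ rfl; exact (inferInstance : IsIso X.topIso.hom)
  constructor
  · rintro ⟨Z, g, h, hg, hh, rfl⟩
    have hU : IsProper ((g ≫ h) ∣_ h.coborderRange) := by
      have htop : (g ≫ h) ⁻¹ᵁ h.coborderRange = ⊤ := by
        rw [eq_top_iff]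
        intro x _
        show (g ≫ h) x ∈ h.coborderRange
        have : (g ≫ h) x = h.coborderRange.ι (h.liftCoborder (g x)) := by
          rw [← Scheme.Hom.comp_apply, Scheme.Hom.liftCoborder_ι, Scheme.Hom.comp_apply]
        rw [this]
        exact (h.liftCoborder (g x)).2
      have := hιiso _ htop
      have e : (g ≫ h) ∣_ h.coborderRange =
          ((g ≫ h) ⁻¹ᵁ h.coborderRange).ι ≫ g ≫ h.liftCoborder := by
        rw [← cancel_mono h.coborderRange.ι, morphismRestrict_ι]
        simp only [Category.assoc, Scheme.Hom.liftCoborder_ι]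
      rw [e]
      infer_instance
    intro x
    refine ⟨h.coborderRange, ?_, hU⟩
    have : (g ≫ h) x = h.coborderRange.ι (h.liftCoborder (g x)) := by
      rw [← Scheme.Hom.comp_apply, Scheme.Hom.liftCoborder_ι, Scheme.Hom.comp_apply]
    rw [this]
    exact (h.liftCoborder (g x)).2
  · intro H
    let W : Y.Opens := ⨆ V : {V : Y.Opens // IsProper (f ∣_ V)}, V.1
    have hW : ∀ x : X, f x ∈ W := by
      intro x
      obtain ⟨V, hxV, hV⟩ := H x
      exact Opens.mem_iSup.mpr ⟨⟨V, hV⟩, hxV⟩
    have hPW : IsProper (f ∣_ W) := by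
      apply IsZariskiLocalAtTarget.of_forall_exists_morphismRestrict (P := @IsProper)
      intro y
      obtain ⟨V₀, hV₀⟩ := Opens.mem_iSup.mp y.2
      refine ⟨W.ι ⁻¹ᵁ V₀.1, hV₀, ?_⟩
      have e : W.ι ''ᵁ (W.ι ⁻¹ᵁ V₀.1) = V₀.1 := by
        rw [Scheme.Hom.image_preimage_eq_opensRange_inf, Scheme.Opens.opensRange_ι]
        exact inf_eq_right.mpr
          (le_iSup (fun V : {V : Y.Opens // IsProper (f ∣_ V)} => V.1) V₀)
      rw [MorphismProperty.arrow_mk_iso_iff (P := @IsProper) (morphismRestrictRestrict _ _ _),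
        MorphismProperty.arrow_mk_iso_iff (P := @IsProper) (morphismRestrictEq _ e)]
      exact V₀.2
    have htop : f ⁻¹ᵁ W = ⊤ := by
      rw [eq_top_iff]
      intro x _
      exact hW x
    have := hιiso _ htop
    refine ⟨W, inv (f ⁻¹ᵁ W).ι ≫ f ∣_ W, W.ι, inferInstance, inferInstance, ?_⟩
    rw [Category.assoc, morphismRestrict_ι, IsIso.inv_hom_id_assoc]


end Groth.Agent.S3460
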