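import Groth.Statements.S3473
import Groth.Agent.S3047
import Groth.Agent.Lib.Helper22.EtAcyc.MinusOneTop
import Groth.Agent.Lib.Helper22.EtAcyc.OpensSheaf
import Groth.Agent.Lib.Helper22.EtStalk.ClosedOpenSets

set_option autoImplicit false
universe u
open CategoryTheory CategoryTheory.Limits AlgebraicGeometry Opposite
open EtAcyc

namespace Groth.Agent.S3473

open Groth.Agent.Lib.Helper22.EtAcyc Groth.Agent.Lib.Helper22.EtAcyc.OpensSheaf
  Groth.Agent.Lib.Helper22.EtLoc Groth.Agent.Lib.Helper22.EtStalk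

set_option backward.isDefEq.respectTransparency.types false in
/-- Restriction to a proper open subscheme is not faithful on sheaves of sets. -/
lemma not_faithful_res {S : Scheme.{u}} (U : S.Opens) (s : S) (hs : s ∉ U)
    (hf : (resA U.ι (Type (u + 1))).Faithful) : False := by
  let a : opensSh S ⟶ opensSh S := 𝟙 _
  let b : opensSh S ⟶ opensSh S := interHom S U
  have hab : (resA U.ι (Type (u + 1))).map a = (resA U.ι (Type (u + 1))).map b := by
    apply Sheaf.hom_ext
    ext W P
    apply ULift.ext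
    change P.down = P.down ⊓ ((((pj U.ι).obj W.unop).hom : W.unop.left ⟶ S) ⁻¹ᵁ U)
    have h1 : (((pj U.ι).obj W.unop).hom : W.unop.left ⟶ S) ⁻¹ᵁ U = ⊤ := by
      change ((W.unop.hom : W.unop.left ⟶ (U : Scheme.{u})) ≫ U.ι) ⁻¹ᵁ U = ⊤
      rw [Scheme.Hom.comp_preimage, Scheme.Opens.ι_preimage_self]
      rfl
    rw [h1, inf_top_eq]
  have hab' : a = b := (resA U.ι (Type (u + 1))).map_injective hab
  have h2 := congrArg (fun φ : opensSh S ⟶ opensSh S =>
    (φ.hom.app (op (EtCoh.top S)) (⟨⊤⟩ : ULift.{u + 1} S.Opens)).down) hab'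
  have h3 : (⊤ : S.Opens) = ⊤ ⊓ ((𝟙 S : S ⟶ S) ⁻¹ᵁ U) := h2
  rw [top_inf_eq] at h3
  have h4 : s ∈ ((𝟙 S : S ⟶ S) ⁻¹ᵁ U) := by
    rw [← h3]
    trivial
  exact hs h4


/-- Let g : X → Y be a morphism of schemes. If g is surjective then g is (-1)-acyclic (for every etale V
→ Y and every sheaf of sets F on V, F → g'_* g'^* F is a monomorphism, g' the projection X ×_Y V →
V); conversely, if g is quasi-compact, quasi-separated and (-1)-acyclic then g is surjective. -/
theorem result {X Y : Scheme.{u}} (g : X ⟶ Y) :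
    (Function.Surjective g.base → EtAcyc.IsMinusOneAcyclic g) ∧
      (∀ [QuasiCompact g] [QuasiSeparated g], EtAcyc.IsMinusOneAcyclic g → Function.Surjective g.base) := by
  constructor
  · intro hg V F
    have hs : Surjective g := ⟨hg⟩
    have : Surjective (EtAcyc.prj g V) := inferInstanceAs (Surjective (pullback.fst V.hom g))
    have : (EtDesc.pullSh (EtAcyc.prj g V)).Faithful := (Groth.Agent.S3047.result _).1
    infer_instance
  · intro _ _ hacyc y
    by_contra hy
    obtain ⟨O, hyO, hO⟩ := MinusOneTop.exists_opens_of_not_mem_range g y hy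
    let C : Y.Opens := ⟨(closure {y})ᶜ, isClosed_closure.isOpen_compl⟩
    let V : Y.Etale := Scheme.Etale.mk O.ι
    let S : Scheme.{u} := (O : Scheme.{u})
    let g' : pullback V.hom g ⟶ S := EtAcyc.prj g V
    let U'' : S.Opens := (V.hom : S ⟶ Y) ⁻¹ᵁ C
    have hrange : Set.range g'.base ⊆ Set.range U''.ι.base := by
      rintro _ ⟨p, rfl⟩
      rw [Scheme.Opens.range_ι]
      change (V.hom : S ⟶ Y) (g' p) ∈ C
      have hcond : (V.hom : S ⟶ Y) (g' p) = g (pullback.snd V.hom g p) := by
        change (pullback.fst V.hom g ≫ V.hom) p = (pullback.snd V.hom g ≫ g) p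
        rw [pullback.condition]
      have hxO : g.base (pullback.snd V.hom g p) ∈ O := by
        rw [← hcond]
        exact (show (O : Scheme.{u}) from g' p).2
      rw [hcond]
      intro hmem
      exact hO _ hxO (specializes_iff_mem_closure.2 hmem)
    let h : pullback V.hom g ⟶ (U'' : Scheme.{u}) := IsOpenImmersion.lift U''.ι g' hrange
    have hfac : h ≫ U''.ι = g' := IsOpenImmersion.lift_fac _ _ _
    have hm : ∀ F : EtDesc.Sh S, Mono ((EtDesc.adjSh g').unit.app F) := fun F => hacyc V F
    have f1 : (EtDesc.pullSh g').Faithful := (EtDesc.adjSh g').faithful_L_of_mono_unit_app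
    have f2 : (EtDesc.pullSh (h ≫ U''.ι)).Faithful := by
      rw [hfac]
      exact f1
    have f3 : (EtDesc.pullSh U''.ι ⋙ EtDesc.pullSh h).Faithful :=
      Functor.Faithful.of_iso (EtDesc.pullCompSh h U''.ι)
    have f4 : (EtDesc.pullSh U''.ι).Faithful :=
      Functor.Faithful.of_comp (EtDesc.pullSh U''.ι) (EtDesc.pullSh h)
    have f5 : (resA U''.ι (Type (u + 1))).Faithful :=
      Functor.Faithful.of_iso (ClosedOpenSets.pullIsoResSh U''.ι)
    let y' : (O : Scheme.{u}) := ⟨y, hyO⟩
    refine not_faithful_res U'' y' ?_ f5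
    intro hmem
    have h1 : (V.hom : S ⟶ Y) y' ∈ C := hmem
    have h2 : (V.hom : S ⟶ Y) y' = y := rfl
    rw [h2] at h1
    exact h1 (subset_closure (Set.mem_singleton y))

end Groth.Agent.S3473
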