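import Groth.Statements.S3510
import Groth.Agent.Lib.Helper22.EtAcyc.Reduction

set_option autoImplicit false
universe u
open CategoryTheory CategoryTheory.Limits AlgebraicGeometry Opposite
open EtAcyc

namespace Groth.Agent.S3510

open Groth.Agent.Lib.Helper22.EtAcycLib Groth.Agent.Lib.Helper22.EtLoc Abelian

lemma hypR_of_isAcyclicN {X Y : Scheme.{u}} (g : X ⟶ Y) (L : Set ℕ) (n : ℕ)
    (hac : EtAcyc.IsAcyclicN g L n) (V : Y.Etale) : HypR (EtAcyc.prj g V) L n := by
  intro W'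
  have hEV : Etale (V.hom : V.left ⟶ Y) := V.prop
  have hEW : Etale (W'.hom : W'.left ⟶ V.left) := W'.prop
  have hE : Etale ((W'.hom : W'.left ⟶ V.left) ≫ (V.hom : V.left ⟶ Y)) := inferInstance
  let W : Y.Etale := Scheme.Etale.mk ((W'.hom : W'.left ⟶ V.left) ≫ (V.hom : V.left ⟶ Y))
  let φ := pullbackRightPullbackFstIso (V.hom : V.left ⟶ Y) g (W'.hom : W'.left ⟶ V.left)
  have e : gg (EtAcyc.prj g V) W' = φ.hom ≫ EtAcyc.prj g W :=
    (pullbackRightPullbackFstIso_hom_fst (V.hom : V.left ⟶ Y) g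
      (W'.hom : W'.left ⟶ V.left)).symm
  rw [e]
  exact compN_of_iso (EtAcyc.prj g W) φ.hom L n (hac W)


/-- (i) ⇔ (ii): let g : X → Y be a morphism of schemes, L a set of primes and n a natural number. Then g
is n-acyclic for L (form (ii): for every etale V → Y with projection g' : X ×_Y V → V and every
abelian L-torsion sheaf F on V, H^q(V, F) → H^q(X ×_Y V, g'⁻¹F) is bijective for q ≤ n and injective
for q = n + 1) if and only if (form (i)) for every such V and F the unit F → g'_* g'⁻¹ F is an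
isomorphism and R^q g'_* (g'⁻¹ F) = 0 for 1 ≤ q ≤ n. -/
theorem result {X Y : Scheme.{u}} (g : X ⟶ Y) (L : Set ℕ) (n : ℕ) :
    EtAcyc.IsAcyclicN g L n ↔
      ∀ (V : Y.Etale) (F : EtCoh.Ab V.left), EtAcyc.IsLTorsion L F →
        IsIso ((EtCoh.pullPushAdj (EtAcyc.prj g V)).unit.app F) ∧
          ∀ q : ℕ, 1 ≤ q → q ≤ n →
            IsZero ((EtCoh.Rpush (EtAcyc.prj g V) q).obj ((EtCoh.pull (EtAcyc.prj g V)).obj F)) := by
  constructor
  · intro hac V F hF
    exact reduction (EtAcyc.prj g V) L n (hypR_of_isAcyclicN g L n hac V) F hF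
  · intro H V F hF inst
    obtain ⟨hiso, hvan⟩ := H V F hF
    obtain ⟨hb, hi⟩ := HofPush_trunc (EtAcyc.prj g V) n ((EtCoh.pull (EtAcyc.prj g V)).obj F) hvan
    have key : ∀ q : ℕ, (EtCore.Hpull (EtAcyc.prj g V) F q : _ → _) =
        (EtLim.HofPush (EtAcyc.prj g V) ((EtCoh.pull (EtAcyc.prj g V)).obj F) q) ∘
          (fun x : Ext (EtCoh.const V.left ℤ) F q =>
            x.comp (Ext.mk₀ ((EtCoh.pullPushAdj (EtAcyc.prj g V)).unit.app F)) (add_zero q)) :=
      fun q => funext (Hpull_eq_HofPush_unit (EtAcyc.prj g V) F q)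
    have hbij : ∀ q : ℕ, Function.Bijective (fun x : Ext (EtCoh.const V.left ℤ) F q =>
        x.comp (Ext.mk₀ ((EtCoh.pullPushAdj (EtAcyc.prj g V)).unit.app F)) (add_zero q)) :=
      fun q => bijective_comp_iso q (asIso ((EtCoh.pullPushAdj (EtAcyc.prj g V)).unit.app F))
    refine ⟨fun q hq => ?_, ?_⟩
    · rw [key q]
      exact (hb q hq).comp (hbij q)
    · rw [key (n + 1)]
      exact hi.comp (hbij (n + 1)).1

end Groth.Agent.S3510
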