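import Groth.Statements.S3513
import Groth.Agent.S0101
import Groth.Agent.Lib.Helper22.EtLoc.HpullComp
import Groth.Agent.Lib.Helper22.EtStalk.LTorsion
import Groth.Agent.Lib.Helper22.EtLoc.BcId

set_option autoImplicit false
universe u
open CategoryTheory CategoryTheory.Limits AlgebraicGeometry Opposite
open EtAcyc

namespace Groth.Agent.S3513

open Groth.Agent.Lib.Helper22.EtLoc Groth.Agent.Lib.Helper22.EtStalk

section Abelian

variable {A A' B C : Scheme.{u}}

lemma HpullVia_coe (f : A ⟶ B) (t : B ⟶ C) (f₀ : A ⟶ C) (w : f ≫ t = f₀)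
    [PreservesFiniteLimits (EtCoh.pull f)] (G : EtCoh.Ab C) (p : ℕ) :
    ⇑(EtCore.HpullVia f t f₀ w G p) =
      ⇑((EtCoh.HF A p).map (((EtCore.pullComp f t).symm ≪≫ EtCore.pullCongr w).app G).hom).hom ∘
        ⇑(EtCore.Hpull f ((EtCoh.pull t).obj G) p) := rfl

lemma HpullVia_bijective_iff (f : A ⟶ B) (t : B ⟶ C) (f₀ : A ⟶ C) (w : f ≫ t = f₀)
    [PreservesFiniteLimits (EtCoh.pull f)] (G : EtCoh.Ab C) (p : ℕ) :
    Function.Bijective (EtCore.HpullVia f t f₀ w G p) ↔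
      Function.Bijective (EtCore.Hpull f ((EtCoh.pull t).obj G) p) := by
  rw [HpullVia_coe]
  exact Function.Bijective.of_comp_iff' (ConcreteCategory.bijective_of_isIso _) _

lemma HpullVia_injective_iff (f : A ⟶ B) (t : B ⟶ C) (f₀ : A ⟶ C) (w : f ≫ t = f₀)
    [PreservesFiniteLimits (EtCoh.pull f)] (G : EtCoh.Ab C) (p : ℕ) :
    Function.Injective (EtCore.HpullVia f t f₀ w G p) ↔
      Function.Injective (EtCore.Hpull f ((EtCoh.pull t).obj G) p) := by
  rw [HpullVia_coe]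
  exact Function.Injective.of_comp_iff (ConcreteCategory.bijective_of_isIso _).1 _

lemma Hpull_coe_comp (f : A ⟶ B) (t : B ⟶ C) (f₀ : A ⟶ C) (w : f ≫ t = f₀)
    [PreservesFiniteLimits (EtCoh.pull f)] [PreservesFiniteLimits (EtCoh.pull t)]
    [PreservesFiniteLimits (EtCoh.pull f₀)] (G : EtCoh.Ab C) (p : ℕ) :
    ⇑(EtCore.Hpull f₀ G p) = ⇑(EtCore.HpullVia f t f₀ w G p) ∘ ⇑(EtCore.Hpull t G p) := by
  funext x
  exact (HpullVia_Hpull f t f₀ w G p x).symm

theorem compN_iff_of_comp (a : A ⟶ B) (b : B ⟶ C) (c : A' ⟶ C) (e : A ≅ A')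
    (w : e.hom ≫ c = a ≫ b) (L : Set ℕ) (n : ℕ) (ha : EtAcyc.CompN a L n) :
    EtAcyc.CompN b L n ↔ EtAcyc.CompN c L n := by
  have ia : PreservesFiniteLimits (EtCoh.pull a) := Groth.Agent.S0101.result a
  have ib : PreservesFiniteLimits (EtCoh.pull b) := Groth.Agent.S0101.result b
  have ic : PreservesFiniteLimits (EtCoh.pull c) := Groth.Agent.S0101.result c
  have iab : PreservesFiniteLimits (EtCoh.pull (a ≫ b)) := Groth.Agent.S0101.result _
  have key : ∀ (F : EtCoh.Ab C), EtAcyc.IsLTorsion L F → ∀ p : ℕ,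
      ((p ≤ n → (Function.Bijective (EtCore.Hpull b F p) ↔
        Function.Bijective (EtCore.Hpull c F p))) ∧
      (p = n + 1 → (Function.Injective (EtCore.Hpull b F p) ↔
        Function.Injective (EtCore.Hpull c F p)))) := by
    intro F hF p
    have hbF : EtAcyc.IsLTorsion L ((EtCoh.pull b).obj F) := isLTorsion_pull L b F hF
    obtain ⟨ha1, ha2⟩ := ha _ hbF
    have e1 := Hpull_coe_comp a b (a ≫ b) rfl F p
    have e2 := Hpull_coe_comp e.hom c (a ≫ b) w F p
    have hbe : Function.Bijective (EtCore.HpullVia e.hom c (a ≫ b) w F p) :=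
      (HpullVia_bijective_iff _ _ _ _ _ _).2 (Hpull_bijective_of_isIso e.hom _ p)
    constructor
    · intro hp
      have hba : Function.Bijective (EtCore.HpullVia a b (a ≫ b) rfl F p) :=
        (HpullVia_bijective_iff _ _ _ _ _ _).2 (ha1 p hp)
      rw [← Function.Bijective.of_comp_iff' hba, ← e1, e2, Function.Bijective.of_comp_iff' hbe]
    · intro hp
      subst hp
      have hia : Function.Injective (EtCore.HpullVia a b (a ≫ b) rfl F (n + 1)) :=
        (HpullVia_injective_iff _ _ _ _ _ _).2 ha2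
      rw [← Function.Injective.of_comp_iff hia, ← e1, e2, Function.Injective.of_comp_iff hbe.1]
  constructor
  · intro hb F hF _
    obtain ⟨hb1, hb2⟩ := hb F hF
    exact ⟨fun p hp => ((key F hF p).1 hp).1 (hb1 p hp), ((key F hF (n + 1)).2 rfl).1 hb2⟩
  · intro hc F hF _
    obtain ⟨hc1, hc2⟩ := hc F hF
    exact ⟨fun p hp => ((key F hF p).1 hp).2 (hc1 p hp), ((key F hF (n + 1)).2 rfl).2 hc2⟩

end Abelian


section Geometry

variable {X Y Z : Scheme.{u}} (g : X ⟶ Y) (h : Y ⟶ Z)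

/-- The base change `Y ×_Z W → Y` of an étale `Z`-scheme, as an étale `Y`-scheme. -/
noncomputable def VW (W : Z.Etale) : Y.Etale :=
  have : Etale (W.hom : W.left ⟶ Z) := W.prop
  Scheme.Etale.mk (pullback.snd (W.hom : W.left ⟶ Z) h)

/-- `X ×_Y (Y ×_Z W) ≅ X ×_Z W`. -/
noncomputable def eW (W : Z.Etale) :
    pullback ((VW h W).hom : (VW h W).left ⟶ Y) g ≅ pullback (W.hom : W.left ⟶ Z) (g ≫ h) :=
  pullbackLeftPullbackSndIso (W.hom : W.left ⟶ Z) h g

lemma eW_w (W : Z.Etale) :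
    (eW g h W).hom ≫ EtAcyc.prj (g ≫ h) W = EtAcyc.prj g (VW h W) ≫ EtAcyc.prj h W :=
  pullbackLeftPullbackSndIso_hom_fst (W.hom : W.left ⟶ Z) h g

end Geometry

section Sets

variable {A A' B C : Scheme.{u}}

/-- The unit for a composite is an isomorphism iff the composite of the units is. -/
lemma isIso_unit_comp_iff (f : A ⟶ B) (t : B ⟶ C) (f₀ : A ⟶ C) (w : f ≫ t = f₀) (F : EtDesc.Sh C) :
    IsIso ((EtDesc.adjSh f₀).unit.app F) ↔
      IsIso ((EtDesc.adjSh t).unit.app F ≫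
        (EtDesc.pushSh t).map ((EtDesc.adjSh f).unit.app ((EtDesc.pullSh t).obj F))) := by
  subst w
  let adj2 := ((EtDesc.adjSh t).comp (EtDesc.adjSh f)).ofNatIsoRight (EtDesc.pushCompSh t f)
  have h1 := Adjunction.unit_leftAdjointUniq_hom_app (EtDesc.adjSh (f ≫ t)) adj2 F
  have h2 : adj2.unit.app F = ((EtDesc.adjSh t).unit.app F ≫
      (EtDesc.pushSh t).map ((EtDesc.adjSh f).unit.app ((EtDesc.pullSh t).obj F))) ≫
      (EtDesc.pushCompSh t f).hom.app _ := by
    simp [adj2, Adjunction.ofNatIsoRight, Adjunction.comp_unit_app]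
  constructor
  · intro h
    have h3 : IsIso (adj2.unit.app F) := by
      rw [← h1]
      infer_instance
    rw [h2] at h3
    exact IsIso.of_isIso_comp_right _ ((EtDesc.pushCompSh t f).hom.app _)
  · intro h
    have h3 : IsIso (adj2.unit.app F) := by
      rw [h2]
      infer_instance
    rw [← h1] at h3
    exact IsIso.of_isIso_comp_right _
      ((EtDesc.pushSh (f ≫ t)).map ((Adjunction.leftAdjointUniq (EtDesc.adjSh (f ≫ t)) adj2).hom.app F))

theorem unit_iff_of_comp (a : A ⟶ B) (b : B ⟶ C) (c : A' ⟶ C) (e : A ≅ A')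
    (w : e.hom ≫ c = a ≫ b) (ha : ∀ G : EtDesc.Sh B, IsIso ((EtDesc.adjSh a).unit.app G))
    (F : EtDesc.Sh C) :
    IsIso ((EtDesc.adjSh b).unit.app F) ↔ IsIso ((EtDesc.adjSh c).unit.app F) := by
  have h1 := isIso_unit_comp_iff a b (a ≫ b) rfl F
  have h2 := isIso_unit_comp_iff e.hom c (a ≫ b) w F
  have := ha ((EtDesc.pullSh b).obj F)
  constructor
  · intro hb
    have h3 : IsIso ((EtDesc.adjSh (a ≫ b)).unit.app F) := h1.2 inferInstance
    have h4 := h2.1 h3
    exact IsIso.of_isIso_comp_right _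
      ((EtDesc.pushSh c).map ((EtDesc.adjSh e.hom).unit.app ((EtDesc.pullSh c).obj F)))
  · intro hc
    have h3 : IsIso ((EtDesc.adjSh (a ≫ b)).unit.app F) := h2.2 inferInstance
    have h4 := h1.1 h3
    exact IsIso.of_isIso_comp_right _
      ((EtDesc.pushSh b).map ((EtDesc.adjSh a).unit.app ((EtDesc.pullSh b).obj F)))

end Sets

theorem sets_part {X Y Z : Scheme.{u}} (g : X ⟶ Y) (h : Y ⟶ Z)
    (hg : EtAcyc.IsZeroAcyclic g) :
    EtAcyc.IsZeroAcyclic h ↔ EtAcyc.IsZeroAcyclic (g ≫ h) := by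
  constructor
  · intro hh W F
    exact (unit_iff_of_comp (EtAcyc.prj g (VW h W)) (EtAcyc.prj h W) (EtAcyc.prj (g ≫ h) W)
      (eW g h W) (eW_w g h W) (hg (VW h W)) F).1 (hh W F)
  · intro hgh W F
    exact (unit_iff_of_comp (EtAcyc.prj g (VW h W)) (EtAcyc.prj h W) (EtAcyc.prj (g ≫ h) W)
      (eW g h W) (eW_w g h W) (hg (VW h W)) F).2 (hgh W F)

theorem abelian_part {X Y Z : Scheme.{u}} (g : X ⟶ Y) (h : Y ⟶ Z) (L : Set ℕ) (n : ℕ)
    (hg : EtAcyc.IsAcyclicN g L n) :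
    EtAcyc.IsAcyclicN h L n ↔ EtAcyc.IsAcyclicN (g ≫ h) L n := by
  constructor
  · intro hh W
    exact (compN_iff_of_comp (EtAcyc.prj g (VW h W)) (EtAcyc.prj h W) (EtAcyc.prj (g ≫ h) W)
      (eW g h W) (eW_w g h W) L n (hg (VW h W))).1 (hh W)
  · intro hgh W
    exact (compN_iff_of_comp (EtAcyc.prj g (VW h W)) (EtAcyc.prj h W) (EtAcyc.prj (g ≫ h) W)
      (eW g h W) (eW_w g h W) L n (hg (VW h W))).2 (hgh W)



/-- Last assertion, abelian and sets cases: let g : X → Y and h : Y → Z be morphisms of schemes, L a set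
of primes and n a natural number. If g is n-acyclic for L, then h is n-acyclic for L if and only if
g ≫ h is; if g is 0-acyclic, then h is 0-acyclic if and only if g ≫ h is. -/
theorem result {X Y Z : Scheme.{u}} (g : X ⟶ Y) (h : Y ⟶ Z) (L : Set ℕ) (n : ℕ) :
    (EtAcyc.IsAcyclicN g L n → (EtAcyc.IsAcyclicN h L n ↔ EtAcyc.IsAcyclicN (g ≫ h) L n)) ∧
      (EtAcyc.IsZeroAcyclic g → (EtAcyc.IsZeroAcyclic h ↔ EtAcyc.IsZeroAcyclic (g ≫ h))) := by
  exact ⟨abelian_part g h L n, sets_part g h⟩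

end Groth.Agent.S3513
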