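import Groth.Statements.S3527
import Mathlib
import Groth.Agent.Lib.Helper4.TorLES
import Groth.Agent.Lib.Helper21.TorBridge

set_option autoImplicit false
universe u
open HTor

namespace Groth.Agent.S3527

open CategoryTheory MonoidalCategory Limits Groth.Agent.Lib.Helper4 Groth.Agent.Lib.Helper21

/-- a short exact sequence `0 → K → F → N → 0` with `F` free -/
theorem exists_free_cover (A : Type u) [CommRing A] (N : ModuleCat.{u} A) :
    ∃ T : ShortComplex (ModuleCat.{u} A), T.ShortExact ∧ Module.Free A T.X₂ ∧
      Nonempty (T.X₃ ≅ N) := by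
  let g : (N →₀ A) →ₗ[A] N := Finsupp.linearCombination A id
  have hg : Function.Surjective g := Finsupp.linearCombination_id_surjective A N
  let i : ModuleCat.of A (LinearMap.ker g) ⟶ ModuleCat.of A (N →₀ A) :=
    ModuleCat.ofHom (LinearMap.ker g).subtype
  let p : ModuleCat.of A (N →₀ A) ⟶ N := ModuleCat.ofHom g
  have w : i ≫ p = 0 := by
    ext x
    exact x.2
  refine ⟨ShortComplex.mk i p w, ?_, ?_, ⟨Iso.refl _⟩⟩
  · exact ModuleCat.shortComplex_shortExact _ (LinearMap.exact_subtype_ker_map g)
      (Submodule.injective_subtype _) hg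
  · show Module.Free A (N →₀ A)
    infer_instance

theorem isZero_tor_X₃ {A : Type u} [CommRing A] (T : ShortComplex (ModuleCat.{u} A))
    (hT : T.ShortExact) (S : ModuleCat.{u} A) (i : ℕ)
    (h2 : IsZero (((Tor (ModuleCat.{u} A) (i + 1)).obj T.X₂).obj S))
    (h1 : IsZero (((Tor (ModuleCat.{u} A) i).obj T.X₁).obj S)) :
    IsZero (((Tor (ModuleCat.{u} A) (i + 1)).obj T.X₃).obj S) := by
  have hS := tensorSC_shortExact T hT (projectiveResolution S).complex
    (fun n => (projectiveResolution S).projective n)
  have hex := hS.homology_exact₃ (i + 1) i (by simp)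
  have h2' : IsZero ((tensorSC T (projectiveResolution S).complex).X₂.homology (i + 1)) :=
    h2.of_iso (torIsoHomology T.X₂ S (i + 1)).symm
  have h1' : IsZero ((tensorSC T (projectiveResolution S).complex).X₁.homology i) :=
    h1.of_iso (torIsoHomology T.X₁ S i).symm
  have h3' : IsZero ((tensorSC T (projectiveResolution S).complex).X₃.homology (i + 1)) :=
    hex.isZero_X₂ (h2'.eq_of_src _ _) (h1'.eq_of_tgt _ _)
  exact h3'.of_iso (torIsoHomology T.X₃ S (i + 1))

theorem isZero_tor_of_flat_right (A : Type u) [CommRing A] (M : ModuleCat.{u} A)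
    [Module.Flat A M] (p : ℕ) :
    ∀ N : ModuleCat.{u} A, IsZero (((Tor (ModuleCat.{u} A) (p + 1)).obj N).obj M) := by
  induction p with
  | zero =>
    intro N
    obtain ⟨T, hT, hfree, ⟨e⟩⟩ := exists_free_cover A N
    have h2 : IsZero (((Tor (ModuleCat.{u} A) 1).obj T.X₂).obj M) :=
      isZero_tor_of_flat T.X₂ M 1 Nat.one_pos
    have hinj : Function.Injective (T.f.hom.rTensor M) :=
      Module.Flat.rTensor_preserves_injective_linearMap _
        ((ModuleCat.mono_iff_injective T.f).mp hT.mono_f)
    have h3 := isZero_tor_one_of_injective_rTensor T M hT h2 hinj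
    exact h3.of_iso (((Tor (ModuleCat.{u} A) 1).mapIso e.symm).app M)
  | succ p ih =>
    intro N
    obtain ⟨T, hT, hfree, ⟨e⟩⟩ := exists_free_cover A N
    have h2 : IsZero (((Tor (ModuleCat.{u} A) (p + 1 + 1)).obj T.X₂).obj M) :=
      isZero_tor_of_flat T.X₂ M _ (Nat.succ_pos _)
    have h3 := isZero_tor_X₃ T hT M (p + 1) h2 (ih T.X₁)
    exact h3.of_iso (((Tor (ModuleCat.{u} A) (p + 1 + 1)).mapIso e.symm).app M)

/-- If A is a commutative ring and M is a flat A-module, then Tor_p^A(M, N) = 0 and Tor_p^A(N, M) = 0
for every A-module N and every p ≥ 1. (The published statement is about local hypertor sheaves over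
general S, X, Y; in the affine case these are the sheaves attached to Tor_n^A, and only the
resulting statement about A-modules is given here. Tor is Mathlib's, left derived in the second
variable; vanishing is stated as Subsingleton, and both orders are stated.) -/
theorem result (A : Type u) [CommRing A] (M N : Type u) [AddCommGroup M] [Module A M]
    [AddCommGroup N] [Module A N] [Module.Flat A M] (p : ℕ) (hp : 0 < p) :
    Subsingleton (DRing.Tor A p M N) ∧ Subsingleton (DRing.Tor A p N M) := by
  obtain ⟨q, rfl⟩ : ∃ q, p = q + 1 := ⟨p - 1, by omega⟩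
  constructor
  · have h := Groth.Agent.Lib.Helper4.isZero_tor_of_flat (ModuleCat.of A M) (ModuleCat.of A N)
      (q + 1) hp
    exact (ModuleCat.isZero_iff_subsingleton).mp h
  · have h := isZero_tor_of_flat_right A (ModuleCat.of A M) q (ModuleCat.of A N)
    exact (ModuleCat.isZero_iff_subsingleton).mp h

end Groth.Agent.S3527
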