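import Groth.Statements.S3532
import Mathlib

set_option autoImplicit false
universe u
open HomAlg3

namespace Groth.Agent.S3532

section helpers
open HomAlg3

open CategoryTheory Opposite

/-- transition map of a tower -/
noncomputable abbrev tr (F : ℕᵒᵖ ⥤ AddCommGrpCat.{u}) {p k : ℕ} (h : p ≤ k) :
    F.obj (op k) →+ F.obj (op p) := (F.map (homOfLE h).op).hom

theorem tr_comp (F : ℕᵒᵖ ⥤ AddCommGrpCat.{u}) {p k l : ℕ} (h : p ≤ k) (h' : k ≤ l)
    (x : F.obj (op l)) : tr F h (tr F h' x) = tr F (h.trans h') x := by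
  have : F.map (homOfLE (h.trans h')).op = F.map (homOfLE h').op ≫ F.map (homOfLE h).op := by
    rw [← F.map_comp]
    rfl
  unfold tr
  rw [this]
  rfl

theorem range_anti (F : ℕᵒᵖ ⥤ AddCommGrpCat.{u}) {p k l : ℕ} (h : p ≤ k) (h' : k ≤ l) :
    (tr F (h.trans h')).range ≤ (tr F h).range := by
  rintro x ⟨y, rfl⟩
  exact ⟨tr F h' y, tr_comp F h h' y⟩

theorem ml_iff (F : ℕᵒᵖ ⥤ AddCommGrpCat.{u}) :
    (F ⋙ forget AddCommGrpCat).IsMittagLeffler ↔
      ∀ p : ℕ, ∃ k₀ : ℕ, ∃ h₀ : p ≤ k₀, ∀ (k : ℕ) (hk : k₀ ≤ k),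
        (tr F (h₀.trans hk)).range = (tr F h₀).range := by
  constructor
  · intro h p
    obtain ⟨i, f, hf⟩ := h (op p)
    have h₀ : p ≤ i.unop := leOfHom f.unop
    refine ⟨i.unop, h₀, fun k hk => le_antisymm (range_anti F h₀ hk) ?_⟩
    rintro x ⟨y, rfl⟩
    have hfeq : f = (homOfLE h₀).op := Subsingleton.elim _ _
    have := hf (homOfLE (h₀.trans hk)).op ⟨y, rfl⟩
    obtain ⟨z, hz⟩ := this
    refine ⟨z, ?_⟩
    rw [hfeq] at hz
    exact hz
  · intro h j
    obtain ⟨k₀, h₀, hk₀⟩ := h j.unop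
    refine ⟨op k₀, (homOfLE h₀).op, ?_⟩
    intro k g
    rintro x ⟨y, rfl⟩
    have hk : j.unop ≤ k.unop := leOfHom g.unop
    have hg : g = (homOfLE hk).op := Subsingleton.elim _ _
    subst hg
    rcases le_total k₀ k.unop with hle | hle
    · have hmem : tr F h₀ y ∈ (tr F (h₀.trans hle)).range := by
        rw [hk₀ _ hle]; exact ⟨y, rfl⟩
      obtain ⟨z, hz⟩ := hmem
      exact ⟨z, hz⟩
    · exact ⟨tr F hle y, tr_comp F hk hle y⟩

end helpers

open CategoryTheory in
/-- Category of abelian groups, system indexed by the natural numbers: Let (A_k)_{k ≥ 0} be an inverse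
system of abelian groups. For p ≤ k write Im_k(A_p) for the image of A_k → A_p, and K_p for the
kernel of A_p → A_{p-1} (K_0 = A_0). Then (A_k) satisfies the Mittag-Leffler condition (for each p
the subgroups Im_k(A_p) are eventually constant in k) if and only if for each p the subgroups
Im_k(A_p) ∩ K_p are eventually constant in k. -/
theorem result (F : ℕᵒᵖ ⥤ AddCommGrpCat.{u}) :
    (F ⋙ forget AddCommGrpCat).IsMittagLeffler ↔
      ((∃ k₀ : ℕ, ∀ (k : ℕ) (hk : k₀ ≤ k),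
          (F.map (homOfLE (Nat.zero_le k)).op).hom.range = (F.map (homOfLE (Nat.zero_le k₀)).op).hom.range) ∧
        ∀ p : ℕ, ∃ k₀ : ℕ, ∃ h₀ : p + 1 ≤ k₀, ∀ (k : ℕ) (hk : k₀ ≤ k),
          (F.map (homOfLE (h₀.trans hk)).op).hom.range ⊓ (F.map (homOfLE (Nat.le_succ p)).op).hom.ker =
            (F.map (homOfLE h₀).op).hom.range ⊓ (F.map (homOfLE (Nat.le_succ p)).op).hom.ker) := by
  rw [ml_iff]
  constructor
  · intro h
    refine ⟨?_, fun p => ?_⟩
    · obtain ⟨k₀, h₀, hk₀⟩ := h 0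
      exact ⟨k₀, fun k hk => hk₀ k hk⟩
    · obtain ⟨k₀, h₀, hk₀⟩ := h (p + 1)
      refine ⟨k₀, h₀, fun k hk => ?_⟩
      have := hk₀ k hk
      unfold tr at this
      rw [this]
  · rintro ⟨⟨k₀, hk₀⟩, hgr⟩ p
    induction p with
    | zero => exact ⟨k₀, Nat.zero_le _, hk₀⟩
    | succ p ih =>
      obtain ⟨k₁, h₁, hk₁⟩ := ih
      obtain ⟨k₂, h₂, hk₂⟩ := hgr p
      have hmax : p + 1 ≤ max k₁ k₂ := h₂.trans (le_max_right _ _)
      refine ⟨max k₁ k₂, hmax, fun k hk => le_antisymm (range_anti F hmax hk) ?_⟩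
      rintro x ⟨y, rfl⟩
      -- image of x in A_p lies in Im_k
      have hpk : p ≤ k := (Nat.le_succ p).trans (hmax.trans hk)
      have e1 : (tr F hpk).range = (tr F h₁).range := hk₁ k ((le_max_left _ _).trans hk)
      have e2 : (tr F (h₁.trans (le_max_left k₁ k₂))).range = (tr F h₁).range :=
        hk₁ _ (le_max_left _ _)
      have hx : tr F (Nat.le_succ p) (tr F hmax y) ∈ (tr F hpk).range := by
        rw [e1, ← e2, tr_comp]
        exact ⟨y, rfl⟩
      obtain ⟨z, hz⟩ := hx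
      -- x' = image of z in A_{p+1}
      have hdiff : tr F hmax y - tr F (hmax.trans hk) z ∈
          (tr F (h₂.trans (le_max_right k₁ k₂))).range ⊓ (tr F (Nat.le_succ p)).ker := by
        refine ⟨?_, ?_⟩
        · refine AddSubgroup.sub_mem _ ⟨y, rfl⟩ ?_
          exact range_anti F hmax hk ⟨z, rfl⟩
        · show _ ∈ (tr F (Nat.le_succ p)).ker
          rw [AddMonoidHom.mem_ker, map_sub, tr_comp F _ (hmax.trans hk) z, ← hz]
          exact sub_self _
      have e3 := hk₂ _ (le_max_right k₁ k₂)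
      have e4 := hk₂ k ((le_max_right k₁ k₂).trans hk)
      unfold tr at hdiff
      rw [e3, ← e4] at hdiff
      have hz' : tr F (hmax.trans hk) z ∈ (tr F (hmax.trans hk)).range := ⟨z, rfl⟩
      have := AddSubgroup.add_mem _ hdiff.1 hz'
      simpa using this

end Groth.Agent.S3532
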