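import Groth.Statements.S3536
import Groth.Agent.Lib.Helper5.CechHyp4

set_option autoImplicit false
universe u
open CechTot

namespace Groth.Agent.S3536

open CategoryTheory CategoryTheory.Limits TopologicalSpace in
/-- Let X be a topological space, U = (U_i) an open cover of X and K a complex of abelian sheaves on X
with K^i = 0 for i < a. If H^q(U_{i_0} ∩ … ∩ U_{i_p}, K^i) = 0 for all q > 0, all i and all finite
families of indices, then for every n the Čech hypercohomology group Ȟ^n(U, K) (cohomology of the
total complex of the double complex C^p(U, K^q)) is isomorphic to the hypercohomology group H^n(X,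
K) (maps from the free abelian sheaf on X to K[n] in the derived category). (The published statement
gives a canonical isomorphism; here only the existence of an additive isomorphism is asserted, and K
is taken bounded below.) -/
theorem result {X : TopCat.{u}} [HasDerivedCategory.{u} (CohTop.Ab X)]
    {ι : Type u} (U : ι → Opens X) (hcov : iSup U = ⊤) (K : CochainComplex (CohTop.Ab X) ℤ) (a : ℤ)
    (ha : ∀ i : ℤ, i < a → IsZero (K.X i))
    (h : ∀ (p : ℕ) (c : Fin (p + 1) → ι) (i : ℤ) (q : ℕ),
      Subsingleton (CohTop.HU (K.X i) (q + 1) (iInf fun k => U (c k)))) (n : ℤ) :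
    Nonempty (↑(CechTot.hyperH U ((CechTot.presheafCx X).obj K) n) ≃+
      CohCx.HDU (DerivedCategory.Q.obj K) n (⊤ : Opens X)) := by
  haveI : K.IsStrictlyGE a := by
    rw [CochainComplex.isStrictlyGE_iff]
    intro i hi
    exact ha i hi
  obtain ⟨L, j, hj, hL, hLa⟩ :=
    CochainComplex.Plus.modelCategoryQuillen.exists_quasiIso_injective K a
  haveI := hj
  haveI := hL
  haveI := hLa
  have hK : ∀ q, Groth.Agent.Lib.Helper22.Cech.LerayGood U (K.X q) := by
    intro q m σ r x
    have := h m σ q r
    rw [← Groth.Agent.Lib.Helper22.Cech.Uσ_eq_iInf] at this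
    exact Subsingleton.elim
      (α := CohTop.HU (K.X q) (r + 1) (Groth.Agent.Lib.Helper22.Cech.Uσ U σ)) x 0
  obtain ⟨e1⟩ := Groth.Agent.Lib.Helper5.CechHyp3.nonempty_hyperH_iso U a hK j n
  obtain ⟨e2⟩ := Groth.Agent.Lib.Helper5.CechHyp4.nonempty_homology_sections_iso_HDU a j n
    (iSup U)
  rw [← hcov]
  exact ⟨(e1 ≪≫ e2).addCommGroupIsoToAddEquiv⟩

end Groth.Agent.S3536
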