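import Groth.Statements.S3544
import Mathlib
import Groth.Agent.Lib.Helper11.EulerChar

set_option autoImplicit false
universe u
open HomAlg3

namespace Groth.Agent.S3544

open CategoryTheory CategoryTheory.Limits in
/-- Let E be a cohomological spectral sequence of modules over a ring A, starting at page 2, such that
the E₂ terms have finite length and only finitely many of them (all inside the finite set s of
bidegrees) are nonzero. Then for every r ≥ 2 the Euler–Poincaré characteristic of page r, the
alternating sum over s of (-1)^{p+q} times the length of E_r^{pq}, equals that of page 2. -/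
theorem result {A : Type u} [Ring A]
    (E : E₂CohomologicalSpectralSequence (ModuleCat.{u} A)) (s : Finset (ℤ × ℤ))
    (hs : ∀ pq : ℤ × ℤ, pq ∉ s → IsZero ((E.page 2).X pq))
    (hfl : ∀ pq : ℤ × ℤ, IsFiniteLength A ((E.page 2).X pq)) (r : ℤ) (hr : 2 ≤ r) :
    (s.sum fun pq => (((pq.1 + pq.2).negOnePow : ℤˣ) : ℤ) * ((Module.length A ((E.page r hr).X pq)).toNat : ℤ)) =
      s.sum fun pq => (((pq.1 + pq.2).negOnePow : ℤˣ) : ℤ) * ((Module.length A ((E.page 2).X pq)).toNat : ℤ) := by
  have main : ∀ (r : ℤ) (hr : 2 ≤ r), (∀ pq, pq ∉ s → IsZero ((E.page r hr).X pq)) ∧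
      (∀ pq, IsFiniteLength A ((E.page r hr).X pq)) ∧
      ((s.sum fun pq => (((pq.1 + pq.2).negOnePow : ℤˣ) : ℤ) *
          ((Module.length A ((E.page r hr).X pq)).toNat : ℤ)) =
        s.sum fun pq => (((pq.1 + pq.2).negOnePow : ℤˣ) : ℤ) *
          ((Module.length A ((E.page 2).X pq)).toNat : ℤ)) := by
    intro r hr
    induction r, hr using Int.leInduction with
    | base => exact ⟨hs, hfl, rfl⟩
    | succ r hr ih =>
      obtain ⟨h1, h2, h3⟩ := ih
      refine ⟨?_, ?_, ?_⟩
      · intro pq hpq
        exact IsZero.of_iso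
          ((HomologicalComplex.ExactAt.of_isZero (h1 pq hpq)).isZero_homology)
          (E.iso r (r + 1) pq rfl hr).symm
      · intro pq
        exact IsFiniteLength.of_injective
          (Groth.Agent.Lib.Helper11.EulerChar.isFiniteLength_homology (E.page r hr) pq (h2 pq))
          (E.iso r (r + 1) pq rfl hr).symm.toLinearEquiv.injective
      · rw [← h3]
        have := Groth.Agent.Lib.Helper11.EulerChar.euler (E.page r hr)
          (Equiv.addRight ((r, 1 - r) : ℤ × ℤ)) (fun i => rfl)
          (fun pq => (((pq.1 + pq.2).negOnePow : ℤˣ) : ℤ)) (fun pq => by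
            have : (pq.1 + r) + (pq.2 + (1 - r)) = (pq.1 + pq.2) + 1 := by ring
            simp [this, Int.negOnePow_succ]) s h1 h2
        unfold Groth.Agent.Lib.Helper11.EulerChar.len at this
        rw [this]
        refine Finset.sum_congr rfl fun pq _ => ?_
        rw [(E.iso r (r + 1) pq rfl hr).toLinearEquiv.length_eq]
  exact (main r hr).2.2

end Groth.Agent.S3544
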