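import Groth.Statements.S3547
import Mathlib

set_option autoImplicit false
universe u
open CategoryTheory CategoryTheory.Limits AlgebraicGeometry
open EGA2

namespace Groth.Agent.S3547

open CategoryTheory CategoryTheory.Limits AlgebraicGeometry TopologicalSpace Opposite TopCat

section
variable {R A : Type u} [CommRing R] [CommRing A] [Algebra R A] (𝒜 : ℕ → Submodule R A) [GradedAlgebra 𝒜]
variable {M : Type u} [AddCommGroup M] [Module R M] [Module A M]
variable (ℳ : ℕ → Submodule R M) [SetLike.GradedSMul 𝒜 ℳ]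

/-- every element of the fibre is a single fraction -/
theorem exists_frac (n : ℤ) (p : ProjectiveSpectrum 𝒜) (t : GrTilde.LocMod 𝒜 (M := M) p)
    (ht : t ∈ GrTilde.tildeAt 𝒜 ℳ n p) :
    ∃ (i j : ℕ) (m : ℳ i) (s : 𝒜 j) (hs : s.1 ∉ p.asHomogeneousIdeal),
      ((i : ℤ) = j + n ∨ m.1 = 0) ∧ t = LocalizedModule.mk m.1 ⟨s.1, hs⟩ := by
  have h1 : (1 : A) ∉ p.asHomogeneousIdeal := fun h =>
    p.isPrime.ne_top ((Ideal.eq_top_iff_one _).mpr h)
  unfold GrTilde.tildeAt at ht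
  induction ht using Submodule.span_induction with
  | mem q hq =>
    obtain ⟨i, j, m, s, hs, hij, rfl⟩ := hq
    exact ⟨i, j, m, s, hs, Or.inl hij, rfl⟩
  | zero =>
    exact ⟨0, 0, 0, ⟨1, SetLike.GradedOne.one_mem⟩, h1, Or.inr rfl, by simp⟩
  | add q q' _ _ hq hq' =>
    obtain ⟨i, j, ⟨a, a_mem⟩, ⟨s, s_mem⟩, hs, ca, rfl⟩ := hq
    obtain ⟨i', j', ⟨b, b_mem⟩, ⟨t, t_mem⟩, ht, cb, rfl⟩ := hq'
    replace ca : (i : ℤ) = j + n ∨ a = 0 := ca
    replace cb : (i' : ℤ) = j' + n ∨ b = 0 := cb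
    have nin : s * t ∉ p.asHomogeneousIdeal := fun h =>
      (p.isPrime.mem_or_mem h).elim hs ht
    have key : LocalizedModule.mk a ⟨s, hs⟩ + LocalizedModule.mk b ⟨t, ht⟩ =
        (LocalizedModule.mk (t • a + s • b) ⟨s * t, nin⟩ : GrTilde.LocMod 𝒜 (M := M) p) := by
      rw [LocalizedModule.mk_add_mk]
      rfl
    have hsb : s • b ∈ ℳ (j + i') := SetLike.GradedSMul.smul_mem s_mem b_mem
    rcases ca with ha | ha
    · rcases cb with hb | hb
      · refine ⟨j + i', j + j', ⟨t • a + s • b, add_mem ?_ hsb⟩,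
          ⟨s * t, SetLike.mul_mem_graded s_mem t_mem⟩, nin, Or.inl (by push_cast; omega), key⟩
        have e : j' + i = j + i' := by omega
        exact e ▸ SetLike.GradedSMul.smul_mem t_mem a_mem
      · refine ⟨j' + i, j + j', ⟨t • a + s • b, ?_⟩, ⟨s * t, SetLike.mul_mem_graded s_mem t_mem⟩,
          nin, Or.inl (by push_cast; omega), key⟩
        rw [hb, smul_zero, add_zero]
        exact SetLike.GradedSMul.smul_mem t_mem a_mem
    · refine ⟨j + i', j + j', ⟨t • a + s • b, ?_⟩, ⟨s * t, SetLike.mul_mem_graded s_mem t_mem⟩,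
        nin, ?_, key⟩
      · rw [ha, smul_zero, zero_add]
        exact hsb
      · rcases cb with hb | hb
        · exact Or.inl (by push_cast; omega)
        · exact Or.inr (show t • a + s • b = 0 by rw [ha, hb, smul_zero, smul_zero, add_zero])
  | smul c q _ hq =>
    obtain ⟨i, j, ⟨a, a_mem⟩, ⟨s, s_mem⟩, hs, ca, rfl⟩ := hq
    replace ca : (i : ℤ) = j + n ∨ a = 0 := ca
    have nin : c.den * s ∉ p.asHomogeneousIdeal := fun h =>
      (p.isPrime.mem_or_mem h).elim c.den_mem hs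
    refine ⟨c.deg + i, c.deg + j, ⟨c.num • a, SetLike.GradedSMul.smul_mem c.num_mem_deg a_mem⟩,
      ⟨c.den * s, SetLike.mul_mem_graded c.den_mem_deg s_mem⟩, nin, ?_, ?_⟩
    · rcases ca with ha | ha
      · exact Or.inl (by push_cast; omega)
      · exact Or.inr (show c.num • a = 0 by rw [ha, smul_zero])
    · rw [GrTilde.a0_smul_def, c.eq_num_div_den, LocalizedModule.mk_smul_mk]
      rfl
end

/-- Let S be a graded ring, M a graded S-module, X = Proj S and p a point of X. The stalk of M(n)~ at p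
is the module of fractions m/f in M_p with m, f homogeneous, f not in p and deg m = deg f + n:
precisely, evaluation at p is a bijection from the stalk at p of the sheaf of local sections of
M(n)~ onto that module of fractions. -/
theorem result {R A : Type u} [CommRing R] [CommRing A] [Algebra R A] (𝒜 : ℕ → Submodule R A) [GradedAlgebra 𝒜]
    {M : Type u} [AddCommGroup M] [Module R M] [Module A M] [IsScalarTower R A M] (ℳ : ℕ → Submodule R M) [DirectSum.Decomposition ℳ] [SetLike.GradedSMul 𝒜 ℳ] (n : ℤ)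
    (p : ProjectiveSpectrum 𝒜) :
    Function.Bijective (TopCat.stalkToFiber (GrTilde.isLocFrac 𝒜 ℳ n) p) := by
  constructor
  · apply TopCat.stalkToFiber_injective
    intro U V fU hU fV hV e
    obtain ⟨U', hpU', iU', i, j, m, s, nin, -, wU⟩ := hU ⟨p, U.2⟩
    obtain ⟨V', hpV', iV', i', j', m', s', nin', -, wV⟩ := hV ⟨p, V.2⟩
    have e1 : (fU ⟨p, U.2⟩).1 = (fV ⟨p, V.2⟩).1 := congrArg Subtype.val e
    have e2 := wU ⟨p, hpU'⟩
    have e3 := wV ⟨p, hpV'⟩
    have e4 : (LocalizedModule.mk m.1 ⟨s.1, nin ⟨p, hpU'⟩⟩ : GrTilde.LocMod 𝒜 (M := M) p) =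
        LocalizedModule.mk m'.1 ⟨s'.1, nin' ⟨p, hpV'⟩⟩ := e2.symm.trans (e1.trans e3)
    obtain ⟨u, hu⟩ := LocalizedModule.mk_eq.mp e4
    let W : OpenNhds p := ⟨U' ⊓ V' ⊓ ProjectiveSpectrum.basicOpen 𝒜 u.1, ⟨⟨hpU', hpV'⟩, u.2⟩⟩
    have hWU : W.1 ≤ U.1 := fun y hy => (iU' ⟨y, hy.1.1⟩).2
    have hWV : W.1 ≤ V.1 := fun y hy => (iV' ⟨y, hy.1.2⟩).2
    refine ⟨W, homOfLE hWU, homOfLE hWV, fun y => ?_⟩
    apply Subtype.ext
    have a1 := wU ⟨y.1, y.2.1.1⟩
    have a2 := wV ⟨y.1, y.2.1.2⟩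
    refine a1.trans (Eq.trans ?_ a2.symm)
    exact LocalizedModule.mk_eq.mpr ⟨⟨u.1, y.2.2⟩, hu⟩
  · apply TopCat.stalkToFiber_surjective
    intro t
    obtain ⟨i, j, m, s, hs, c, e⟩ := exists_frac 𝒜 ℳ n p t.1 t.2
    rcases c with hij | hm
    · let U : OpenNhds (X := ProjectiveSpectrum.top 𝒜) p :=
        ⟨ProjectiveSpectrum.basicOpen 𝒜 s.1, (ProjectiveSpectrum.mem_basicOpen 𝒜 s.1 p).mpr hs⟩
      refine ⟨U, fun y => ⟨LocalizedModule.mk m.1 ⟨s.1, y.2⟩,
        Submodule.subset_span ⟨i, j, m, s, y.2, hij, rfl⟩⟩, ?_, Subtype.ext e.symm⟩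
      exact fun y => ⟨U.1, y.2, 𝟙 _, i, j, m, s, fun z => z.2, Or.inl hij, fun _ => rfl⟩
    · refine ⟨⟨⊤, trivial⟩, 0, GrTilde.zero_mem' n (op ⊤), ?_⟩
      apply Subtype.ext
      rw [e, hm, LocalizedModule.zero_mk]
      rfl

end Groth.Agent.S3547
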