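import Groth.Statements.S3548
import Mathlib

set_option autoImplicit false
universe u
open CategoryTheory CategoryTheory.Limits AlgebraicGeometry
open EGA2

namespace Groth.Agent.S3548

open CategoryTheory CategoryTheory.Limits AlgebraicGeometry TopologicalSpace Opposite

section
variable {R A : Type u} [CommRing R] [CommRing A] [Algebra R A] (𝒜 : ℕ → Submodule R A) [GradedAlgebra 𝒜]
variable {M : Type u} [AddCommGroup M] [Module A M]

theorem exists_homogeneous_notMem (x : ProjectiveSpectrum 𝒜) :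
    ∃ (f : A) (m : ℕ) (_ : f ∈ 𝒜 m) (_ : 0 < m), f ∉ x.asHomogeneousIdeal := by
  classical
  by_contra!
  refine x.not_irrelevant_le fun z hz ↦ ?_
  rw [← DirectSum.sum_support_decompose 𝒜 z]
  exact x.1.toIdeal.sum_mem fun k hk ↦ this _ k (SetLike.coe_mem _) <| by_contra <| by aesop

theorem subsingleton_locMod
    (h : ∀ (z : M) (d : ℕ) (f : A), 0 < d → f ∈ 𝒜 d → ∃ k : ℕ, f ^ k • z = 0)
    (x : ProjectiveSpectrum 𝒜) : Subsingleton (GrTilde.LocMod 𝒜 (M := M) x) := by
  obtain ⟨f, d, hf, hd, hfx⟩ := exists_homogeneous_notMem 𝒜 x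
  refine ⟨fun a b => ?_⟩
  suffices H : ∀ q : GrTilde.LocMod 𝒜 (M := M) x, q = 0 by rw [H a, H b]
  intro q
  induction q using LocalizedModule.induction_on with
  | h m s =>
    obtain ⟨k, hk⟩ := h m d f hd hf
    rw [← LocalizedModule.zero_mk 1, LocalizedModule.mk_eq]
    refine ⟨⟨f ^ k, fun hmem => hfx (x.isPrime.mem_of_pow_mem k hmem)⟩, ?_⟩
    simp only [Submonoid.smul_def, one_smul, smul_zero]
    exact hk
end

/-- Let S be a graded ring, M a graded S-module and X = Proj S. If for every z in M and every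
homogeneous f of positive degree some power of f annihilates z, then the O_X-module M~ is zero. -/
theorem result {R A : Type u} [CommRing R] [CommRing A] [Algebra R A] (𝒜 : ℕ → Submodule R A) [GradedAlgebra 𝒜]
    {M : Type u} [AddCommGroup M] [Module R M] [Module A M] [IsScalarTower R A M] (ℳ : ℕ → Submodule R M) [DirectSum.Decomposition ℳ] [SetLike.GradedSMul 𝒜 ℳ]
    (h : ∀ (z : M) (d : ℕ) (f : A), 0 < d → f ∈ 𝒜 d → ∃ k : ℕ, f ^ k • z = 0) :
    IsZero (GrTilde.tilde 𝒜 ℳ 0) := by
  rw [IsZero.iff_id_eq_zero]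
  ext U s
  have hsub : Subsingleton (GrTilde.sect 𝒜 ℳ 0 (op U)) := by
    have : ∀ x : ProjectiveSpectrum 𝒜, Subsingleton (GrTilde.tildeAt 𝒜 ℳ 0 x) := fun x => by
      have := subsingleton_locMod 𝒜 h x
      infer_instance
    infer_instance
  exact @Subsingleton.elim _ hsub _ _

end Groth.Agent.S3548
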