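import Groth.Statements.S3550
-- import your own Groth.Agent.* helpers here
import Groth.Agent.Lib.Helper29.GSIso8

set_option autoImplicit false
universe u
open CategoryTheory CategoryTheory.Limits AlgebraicGeometry
open EGA2

namespace Groth.Agent.S3550

/-- Let S be a graded ring whose irrelevant ideal S_+ is generated by finitely many elements of degree
one, and X = Proj S. Then every quasi-coherent O_X-module F is isomorphic to M~ for some graded
S-module M (graded in nonnegative degrees). -/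
theorem result {R A : Type u} [CommRing R] [CommRing A] [Algebra R A] (𝒜 : ℕ → Submodule R A) [GradedAlgebra 𝒜]
    (s : Finset A) (hs1 : ∀ f ∈ s, f ∈ 𝒜 1)
    (hs : (HomogeneousIdeal.irrelevant 𝒜).toIdeal = Ideal.span (s : Set A))
    (F : (Proj 𝒜).Modules) (hF : Coh.IsQCoh F) :
    ∃ (M : Type u) (_ : AddCommGroup M) (_ : Module R M) (_ : Module A M) (_ : IsScalarTower R A M)
      (ℳ : ℕ → Submodule R M) (_ : DirectSum.Decomposition ℳ) (_ : SetLike.GradedSMul 𝒜 ℳ),
      Nonempty (GrTilde.tilde 𝒜 ℳ 0 ≅ F) := by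
  classical
  haveI : F.IsQuasicoherent := hF
  let I : Type u := {a : A // a ∈ s}
  let f : I → 𝒜 1 := fun i => ⟨i.1, hs1 i.1 i.2⟩
  have hcov : ∀ x : Proj 𝒜, ∃ i, x ∈ Groth.Agent.Lib.Helper29.QCoh.Dp 𝒜 f i := by
    intro x
    obtain ⟨a, ha, hx⟩ := Groth.Agent.Lib.Helper29.QCoh.exists_mem_basicOpen_of_span s hs x
    exact ⟨⟨a, ha⟩, hx⟩
  haveI : Finite I := Finite.of_fintype _
  haveI := Groth.Agent.Lib.Helper29.QCoh.isIso_tildeToF (F := F) hcov
  exact ⟨Groth.Agent.Lib.Helper29.QCoh.GS 𝒜 f F, inferInstance, inferInstance, inferInstance,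
    inferInstance, Groth.Agent.Lib.Helper29.QCoh.gsDeg 𝒜 f F, inferInstance, inferInstance,
    ⟨asIso (Groth.Agent.Lib.Helper29.QCoh.tildeToF (F := F) hcov)⟩⟩

end Groth.Agent.S3550
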