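import Groth.Statements.S3551
-- import your own Groth.Agent.* helpers here
import Groth.Agent.Lib.Helper29.GSFin

set_option autoImplicit false
universe u
open CategoryTheory CategoryTheory.Limits AlgebraicGeometry
open EGA2

namespace Groth.Agent.S3551

/-- Let S be a graded ring whose irrelevant ideal S_+ is generated by finitely many elements of degree
one, and X = Proj S. Then every quasi-coherent O_X-module of finite type is isomorphic to N~ for
some finitely generated graded S-module N (graded in nonnegative degrees). -/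
theorem result {R A : Type u} [CommRing R] [CommRing A] [Algebra R A] (𝒜 : ℕ → Submodule R A) [GradedAlgebra 𝒜]
    (s : Finset A) (hs1 : ∀ f ∈ s, f ∈ 𝒜 1)
    (hs : (HomogeneousIdeal.irrelevant 𝒜).toIdeal = Ideal.span (s : Set A))
    (F : (Proj 𝒜).Modules) (hF : Coh.IsQCoh F) (hFT : CohB1.IsFT F) :
    ∃ (N : Type u) (_ : AddCommGroup N) (_ : Module R N) (_ : Module A N) (_ : IsScalarTower R A N)
      (𝒩 : ℕ → Submodule R N) (_ : DirectSum.Decomposition 𝒩) (_ : SetLike.GradedSMul 𝒜 𝒩),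
      Module.Finite A N ∧ Nonempty (GrTilde.tilde 𝒜 𝒩 0 ≅ F) := by
  classical
  haveI : F.IsQuasicoherent := hF
  haveI : F.IsFiniteType := hFT
  let I : Type u := {a : A // a ∈ s}
  let f : I → 𝒜 1 := fun i => ⟨i.1, hs1 i.1 i.2⟩
  have hcov : ∀ x : Proj 𝒜, ∃ i, x ∈ Groth.Agent.Lib.Helper29.QCoh.Dp 𝒜 f i := by
    intro x
    obtain ⟨a, ha, hx⟩ := Groth.Agent.Lib.Helper29.QCoh.exists_mem_basicOpen_of_span s hs x
    exact ⟨⟨a, ha⟩, hx⟩
  haveI : Finite I := Finite.of_fintype _
  obtain ⟨T, hT, hiso⟩ := Groth.Agent.Lib.Helper29.QCoh.exists_fg_sub_isIso (F := F) hcov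
  exact ⟨Submodule.span A (T : Set (Groth.Agent.Lib.Helper29.QCoh.GS 𝒜 f F)), inferInstance,
    inferInstance, inferInstance, inferInstance,
    Groth.Agent.Lib.Helper29.QCoh.subGrading (Groth.Agent.Lib.Helper29.QCoh.gsDeg 𝒜 f F) _,
    Groth.Agent.Lib.Helper29.QCoh.subDecomposition 𝒜 (Groth.Agent.Lib.Helper29.QCoh.gsDeg 𝒜 f F)
      (T : Set (Groth.Agent.Lib.Helper29.QCoh.GS 𝒜 f F)) hT, inferInstance,
    Module.Finite.span_of_finite A T.finite_toSet, ⟨@asIso _ _ _ _ _ hiso⟩⟩

end Groth.Agent.S3551
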