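import Groth.Statements.S3553
-- import your own Groth.Agent.* helpers here

set_option autoImplicit false
universe u
open CategoryTheory CategoryTheory.Limits AlgebraicGeometry
open EGA2

namespace Groth.Agent.S3553

theorem exists_mem_basicOpen_of_not_isNilpotent {R A : Type u} [CommRing R] [CommRing A] [Algebra R A]
    (𝒜 : ℕ → Submodule R A) [GradedAlgebra 𝒜]
    (f : A) {m : ℕ} (hm : 0 < m) (hf : f ∈ 𝒜 m) (hn : ¬ IsNilpotent f) :
    ∃ x : Proj 𝒜, x ∈ Proj.basicOpen 𝒜 f := by
  have h2 : Nontrivial (HomogeneousLocalization.Away 𝒜 f) := by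
    rw [← not_subsingleton_iff_nontrivial]
    intro h2
    apply hn
    have h3 : Subsingleton (Localization.Away f) := by
      have : (1 : HomogeneousLocalization.Away 𝒜 f) = 0 := Subsingleton.elim _ _
      have := congrArg HomogeneousLocalization.val this
      rw [HomogeneousLocalization.val_one, HomogeneousLocalization.val_zero] at this
      exact subsingleton_of_zero_eq_one this.symm
    rw [IsLocalization.subsingleton_iff (M := Submonoid.powers f)] at h3
    obtain ⟨n, hn⟩ := h3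
    exact ⟨n, hn⟩
  let z : Spec (.of <| HomogeneousLocalization.Away 𝒜 f) :=
    Classical.arbitrary (PrimeSpectrum _)
  refine ⟨(Proj.awayι 𝒜 f hf hm).base z, ?_⟩
  rw [← Proj.opensRange_awayι 𝒜 f hf hm]
  exact ⟨z, rfl⟩

/-- In the case where the induced morphism is defined on all of Proj S: let φ : S' → S be a homomorphism
of graded rings such that S_+ is contained in the ideal generated by φ(S'_+), and suppose every
element of the kernel of φ is nilpotent. Then the induced morphism from Proj S to Proj S' has dense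
image. -/
theorem result {R A : Type u} [CommRing R] [CommRing A] [Algebra R A] (𝒜 : ℕ → Submodule R A) [GradedAlgebra 𝒜]
    {B : Type u} [CommRing B] [Algebra R B] (ℬ : ℕ → Submodule R B) [GradedAlgebra ℬ]
    (φ : 𝒜 →+*ᵍ ℬ) (hφ : HomogeneousIdeal.irrelevant ℬ ≤ (HomogeneousIdeal.irrelevant 𝒜).map φ)
    (hker : ∀ a : A, φ a = 0 → IsNilpotent a) :
    DenseRange (Proj.map φ hφ).base := by
  classical
  rw [DenseRange, dense_iff_inter_open]
  intro V hV ⟨x, hxV⟩
  -- a basic open around x inside V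
  obtain ⟨_, ⟨_, ⟨s, rfl⟩, rfl⟩, hxs, hsV⟩ :=
    (Proj.isBasis_basicOpen 𝒜).exists_subset_of_mem_open hxV hV
  -- a homogeneous component
  have hxs' : x ∈ Proj.basicOpen 𝒜 s := hxs
  rw [Proj.basicOpen_eq_iSup_proj, TopologicalSpace.Opens.mem_iSup] at hxs'
  obtain ⟨i, hi⟩ := hxs'
  have hiV : (Proj.basicOpen 𝒜 (GradedRing.proj 𝒜 i s) : Set (Proj 𝒜)) ⊆ V := by
    refine subset_trans ?_ hsV
    intro y hy
    have : y ∈ Proj.basicOpen 𝒜 s := by
      rw [Proj.basicOpen_eq_iSup_proj, TopologicalSpace.Opens.mem_iSup]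
      exact ⟨i, hy⟩
    exact this
  -- a positive degree homogeneous element
  have hx := (Proj.affineOpenCover 𝒜).covers x
  set t := (Proj.affineOpenCover 𝒜).idx x
  have hxt : x ∈ Proj.basicOpen 𝒜 t.2.1 := by
    rw [← Proj.opensRange_awayι 𝒜 _ t.2.2 t.1.2]
    exact hx
  set u := GradedRing.proj 𝒜 i s * t.2.1 with hu
  have hxu : x ∈ Proj.basicOpen 𝒜 u := by
    rw [hu, Proj.basicOpen_mul]
    exact ⟨hi, hxt⟩
  have hudeg : u ∈ 𝒜 (i + t.1) := SetLike.mul_mem_graded (SetLike.coe_mem _) t.2.2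
  have hupos : 0 < i + (t.1 : ℕ) := Nat.add_pos_right _ t.1.2
  have hun : ¬ IsNilpotent u := by
    rintro ⟨n, hn⟩
    rw [Proj.mem_basicOpen] at hxu
    apply hxu
    have : u ^ n ∈ x.asHomogeneousIdeal.toIdeal := by rw [hn]; exact zero_mem _
    exact x.isPrime.mem_of_pow_mem n this
  have hφun : ¬ IsNilpotent (φ u) := by
    rintro ⟨n, hn⟩
    rw [← map_pow] at hn
    obtain ⟨k, hk⟩ := hker _ hn
    exact hun ⟨n * k, by rw [pow_mul, hk]⟩
  obtain ⟨y, hy⟩ := exists_mem_basicOpen_of_not_isNilpotent ℬ (φ u) hupos (φ.2 hudeg) hφun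
  refine ⟨(Proj.map φ hφ).base y, ?_, y, rfl⟩
  apply hiV
  rw [← Proj.map_preimage_basicOpen φ hφ] at hy
  have : (Proj.map φ hφ).base y ∈ Proj.basicOpen 𝒜 u := hy
  rw [hu, Proj.basicOpen_mul] at this
  exact this.1

end Groth.Agent.S3553
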