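import Groth.Statements.S3555
import Mathlib

set_option autoImplicit false
universe u
open CategoryTheory CategoryTheory.Limits AlgebraicGeometry
open EGA2

namespace Groth.Agent.S3555

open CategoryTheory CategoryTheory.Limits AlgebraicGeometry TopologicalSpace Opposite

section
variable {R A : Type u} [CommRing R] [CommRing A] [Algebra R A] (𝒜 : ℕ → Submodule R A) [GradedAlgebra 𝒜]

theorem smul_loc_def (p : ProjectiveSpectrum 𝒜) (c : Twist.A0 𝒜 p) (q : Twist.Loc 𝒜 p) :
    c • q = c.val * q := by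
  rw [Algebra.smul_def]; rfl

theorem forward {d : ℕ} (f : 𝒜 d) (p : ProjectiveSpectrum 𝒜)
    (hf : (f : A) ∉ p.asHomogeneousIdeal) :
    Twist.twistAt 𝒜 d p ≤ Submodule.span (Twist.A0 𝒜 p)
      {(Localization.mk (f : A) 1 : Twist.Loc 𝒜 p)} := by
  unfold Twist.twistAt
  rw [Submodule.span_le]
  rintro q ⟨i, j, a, s, hs, hij, rfl⟩
  have hij' : i = j + d := by exact_mod_cast hij
  have hsf : s.1 * f.1 ∉ p.asHomogeneousIdeal := fun hmem =>
    (p.isPrime.mem_or_mem hmem).elim hs hf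
  let c : Twist.A0 𝒜 p := HomogeneousLocalization.mk
    ⟨j + d, ⟨a.1, hij' ▸ a.2⟩, ⟨s.1 * f.1, SetLike.mul_mem_graded s.2 f.2⟩, hsf⟩
  rw [SetLike.mem_coe, Submodule.mem_span_singleton]
  refine ⟨c, ?_⟩
  rw [smul_loc_def, HomogeneousLocalization.val_mk, Localization.mk_mul, Localization.mk_eq_mk_iff,
    Localization.r_iff_exists]
  refine ⟨1, ?_⟩
  simp only [OneMemClass.coe_one, one_mul, mul_one]
  ring

theorem backward (hgen : (HomogeneousIdeal.irrelevant 𝒜).toIdeal = Ideal.span (𝒜 1 : Set A))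
    {d : ℕ} (f : 𝒜 d) (p : ProjectiveSpectrum 𝒜)
    (hspan : Twist.twistAt 𝒜 d p ≤ Submodule.span (Twist.A0 𝒜 p)
      {(Localization.mk (f : A) 1 : Twist.Loc 𝒜 p)}) :
    (f : A) ∉ p.asHomogeneousIdeal := by
  intro hfp
  obtain ⟨g, hg, hgp⟩ : ∃ g ∈ 𝒜 1, g ∉ p.asHomogeneousIdeal := by
    by_contra! hcon
    refine p.not_irrelevant_le ?_
    show (HomogeneousIdeal.irrelevant 𝒜).toIdeal ≤ p.asHomogeneousIdeal.toIdeal
    rw [hgen, Ideal.span_le]
    exact fun a ha => hcon a ha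
  have hgd : g ^ d ∈ 𝒜 d := by simpa using SetLike.pow_mem_graded d hg
  have h1 : (1 : A) ∉ p.asHomogeneousIdeal := fun h =>
    p.isPrime.ne_top ((Ideal.eq_top_iff_one _).mpr h)
  have hmem : (Localization.mk (g ^ d) 1 : Twist.Loc 𝒜 p) ∈ Twist.twistAt 𝒜 d p :=
    Submodule.subset_span ⟨d, 0, ⟨g ^ d, hgd⟩, ⟨1, SetLike.GradedOne.one_mem⟩, h1, by simp, rfl⟩
  obtain ⟨c, hc⟩ := Submodule.mem_span_singleton.mp (hspan hmem)
  rw [smul_loc_def, c.eq_num_div_den, Localization.mk_mul, Localization.mk_eq_mk_iff,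
    Localization.r_iff_exists] at hc
  obtain ⟨u, hu⟩ := hc
  simp only [OneMemClass.coe_one, one_mul, mul_one] at hu
  have hmem2 : (u : A) * (c.den * g ^ d) ∈ p.asHomogeneousIdeal := by
    have e : (u : A) * (c.den * g ^ d) = u * (c.num * f) := by
      rw [← hu]
    rw [e]
    exact Ideal.mul_mem_left _ _ (Ideal.mul_mem_left _ _ hfp)
  rcases p.isPrime.mem_or_mem hmem2 with h | h
  · exact u.2 h
  · rcases p.isPrime.mem_or_mem h with h | h
    · exact c.den_mem h
    · exact hgp (p.isPrime.mem_of_pow_mem d h)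
end

/-- Let S be a graded ring whose irrelevant ideal S_+ is generated by the degree-one elements, X = Proj
S, and f homogeneous of degree d > 0. Then D_+(f) is the set of points p of X at which the global
section f/1 of O_X(d) does not vanish, i.e. at which its value generates the module of degree-d
fractions at p. -/
theorem result {R A : Type u} [CommRing R] [CommRing A] [Algebra R A] (𝒜 : ℕ → Submodule R A) [GradedAlgebra 𝒜]
    (hgen : (HomogeneousIdeal.irrelevant 𝒜).toIdeal = Ideal.span (𝒜 1 : Set A))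
    {d : ℕ} (hd : 0 < d) (f : 𝒜 d) (p : ProjectiveSpectrum 𝒜) :
    p ∈ ProjectiveSpectrum.basicOpen 𝒜 (f : A) ↔
      Submodule.span (Twist.A0 𝒜 p) {(Twist.globalOf 𝒜 f).1 ⟨p, trivial⟩} = ⊤ := by
  rw [ProjectiveSpectrum.mem_basicOpen]
  have hv : ((Twist.globalOf 𝒜 f).1 ⟨p, trivial⟩).1 =
      (Localization.mk (f : A) 1 : Twist.Loc 𝒜 p) := rfl
  constructor
  · intro hf
    rw [eq_top_iff]
    rintro ⟨w, hw⟩ -
    obtain ⟨c, hc⟩ := Submodule.mem_span_singleton.mp (forward 𝒜 f p hf hw)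
    exact Submodule.mem_span_singleton.mpr ⟨c, Subtype.ext hc⟩
  · intro hspan
    apply backward 𝒜 hgen f p
    intro q hq
    have : (⟨q, hq⟩ : Twist.twistAt 𝒜 d p) ∈
        Submodule.span (Twist.A0 𝒜 p) {(Twist.globalOf 𝒜 f).1 ⟨p, trivial⟩} := by
      rw [hspan]; trivial
    obtain ⟨c, hc⟩ := Submodule.mem_span_singleton.mp this
    exact Submodule.mem_span_singleton.mpr ⟨c, by rw [← hv]; exact congrArg Subtype.val hc⟩

end Groth.Agent.S3555
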