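import Groth.Statements.S3560
import Groth.Agent.S3558
import Mathlib.RingTheory.Noetherian.Nilpotent

set_option autoImplicit false
universe u
open CategoryTheory CategoryTheory.Limits AlgebraicGeometry
open EGA2

namespace Groth.Agent.S3560

theorem exists_homogeneous_generators {R A : Type u} [CommRing R] [CommRing A] [Algebra R A]
    (𝒜 : ℕ → Submodule R A) [GradedAlgebra 𝒜]
    (hfg : (HomogeneousIdeal.irrelevant 𝒜).toIdeal.FG) :
    ∃ (T : Finset A) (D : ℕ), Ideal.span (T : Set A) = (HomogeneousIdeal.irrelevant 𝒜).toIdeal ∧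
      ∀ t ∈ T, ∃ i, 0 < i ∧ i ≤ D ∧ t ∈ 𝒜 i := by
  classical
  obtain ⟨S, hS⟩ := hfg
  refine ⟨S.biUnion (fun s => ((DirectSum.decompose 𝒜 s).support.erase 0).image
      (fun i => (DirectSum.decompose 𝒜 s i : A))),
    S.sup (fun s => (DirectSum.decompose 𝒜 s).support.sup id), ?_, ?_⟩
  · apply le_antisymm
    · rw [Ideal.span_le]
      intro t ht
      simp only [Finset.coe_biUnion, Finset.coe_image, Set.mem_iUnion, Set.mem_image] at ht
      obtain ⟨s, hs, i, -, rfl⟩ := ht
      have : s ∈ (HomogeneousIdeal.irrelevant 𝒜).toIdeal := hS ▸ Ideal.subset_span hs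
      exact (HomogeneousIdeal.irrelevant 𝒜).isHomogeneous i this
    · rw [← hS, Ideal.span_le]
      intro s hs
      have hsI : s ∈ (HomogeneousIdeal.irrelevant 𝒜).toIdeal := hS ▸ Ideal.subset_span hs
      have hs0 : (DirectSum.decompose 𝒜 s 0 : A) = 0 := hsI
      rw [SetLike.mem_coe, ← DirectSum.sum_support_decompose 𝒜 s]
      refine Ideal.sum_mem _ fun i hi => ?_
      by_cases hi0 : i = 0
      · subst hi0
        rw [hs0]
        exact zero_mem _
      · apply Ideal.subset_span
        simp only [Finset.coe_biUnion, Finset.coe_image, Set.mem_iUnion, Set.mem_image]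
        exact ⟨s, hs, i, Finset.mem_erase.mpr ⟨hi0, hi⟩, rfl⟩
  · intro t ht
    simp only [Finset.mem_biUnion, Finset.mem_image] at ht
    obtain ⟨s, hs, i, hi, rfl⟩ := ht
    rw [Finset.mem_erase] at hi
    refine ⟨i, Nat.pos_of_ne_zero hi.1, ?_, SetLike.coe_mem _⟩
    calc i ≤ (DirectSum.decompose 𝒜 s).support.sup id := Finset.le_sup (f := id) hi.2
      _ ≤ _ := Finset.le_sup (f := fun s => (DirectSum.decompose 𝒜 s).support.sup id) hs

theorem graded_le_pow {R A : Type u} [CommRing R] [CommRing A] [Algebra R A]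
    (𝒜 : ℕ → Submodule R A) [GradedAlgebra 𝒜]
    (T : Finset A) (D : ℕ)
    (hT : Ideal.span (T : Set A) = (HomogeneousIdeal.irrelevant 𝒜).toIdeal)
    (hTD : ∀ t ∈ T, ∃ i, 0 < i ∧ i ≤ D ∧ t ∈ 𝒜 i) (m : ℕ) :
    ∀ k, m * D < k → ∀ y ∈ 𝒜 k, y ∈ (HomogeneousIdeal.irrelevant 𝒜).toIdeal ^ (m + 1) := by
  classical
  induction m with
  | zero =>
    intro k hk y hy
    rw [zero_add, pow_one]
    exact HomogeneousIdeal.mem_irrelevant_of_mem 𝒜 (by omega) hy
  | succ m ih =>
    intro k hk y hy
    have hyI : y ∈ Ideal.span (T : Set A) := by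
      rw [hT]
      exact HomogeneousIdeal.mem_irrelevant_of_mem 𝒜 (by nlinarith) hy
    obtain ⟨c, -, hc⟩ := Submodule.mem_span_finset.mp hyI
    have hyk : y = (DirectSum.decompose 𝒜 y k : A) := (DirectSum.decompose_of_mem_same 𝒜 hy).symm
    rw [hyk, ← hc, DirectSum.decompose_sum, DFinsupp.finsetSum_apply, AddSubmonoidClass.coe_finsetSum]
    refine Ideal.sum_mem _ fun t ht => ?_
    obtain ⟨i, hi0, hiD, hti⟩ := hTD t ht
    have hik : i ≤ k := by nlinarith
    rw [smul_eq_mul, DirectSum.coe_decompose_mul_of_right_mem_of_le 𝒜 hti hik, pow_succ]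
    refine Ideal.mul_mem_mul ?_ ?_
    · refine ih (k - i) ?_ _ (SetLike.coe_mem _)
      have : (m + 1) * D = m * D + D := by ring
      omega
    · rw [← hT]
      exact Ideal.subset_span ht

/-- Let S be a graded ring whose irrelevant ideal S_+ is finitely generated. Then Proj S is empty if and
only if there is n such that S_k = 0 for all k ≥ n. -/
theorem result {R A : Type u} [CommRing R] [CommRing A] [Algebra R A] (𝒜 : ℕ → Submodule R A) [GradedAlgebra 𝒜]
    (hfg : (HomogeneousIdeal.irrelevant 𝒜).toIdeal.FG) :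
    IsEmpty (Proj 𝒜) ↔ ∃ n : ℕ, ∀ k : ℕ, n ≤ k → 𝒜 k = ⊥ := by
  classical
  rw [Groth.Agent.S3558.result 𝒜]
  constructor
  · intro h
    obtain ⟨N, hN⟩ : IsNilpotent (HomogeneousIdeal.irrelevant 𝒜).toIdeal := by
      rw [Ideal.FG.isNilpotent_iff_le_nilradical hfg]
      intro f hf
      exact h f hf
    obtain ⟨T, D, hT, hTD⟩ := exists_homogeneous_generators 𝒜 hfg
    cases N with
    | zero =>
      rw [pow_zero, Ideal.one_eq_top] at hN
      have h01 : (1 : A) = 0 := by
        have : (1 : A) ∈ (⊤ : Ideal A) := trivial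
        rw [hN] at this
        exact this
      refine ⟨0, fun k _ => ?_⟩
      rw [eq_bot_iff]
      intro y _
      have : y = 0 := by rw [← mul_one y, h01, mul_zero]
      rw [this]
      exact zero_mem _
    | succ m =>
      refine ⟨m * D + 1, fun k hk => ?_⟩
      rw [eq_bot_iff]
      intro y hy
      have := graded_le_pow 𝒜 T D hT hTD m k (by omega) y hy
      rw [hN] at this
      exact this
  · rintro ⟨n, hn⟩ f hf
    rw [← DirectSum.sum_support_decompose 𝒜 f]
    refine isNilpotent_sum (fun i _ => ?_)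
    by_cases hi : i = 0
    · subst hi
      have : (DirectSum.decompose 𝒜 f 0 : A) = 0 := hf
      rw [this]
      exact IsNilpotent.zero
    · refine ⟨n + 1, ?_⟩
      have h1 : (DirectSum.decompose 𝒜 f i : A) ^ (n + 1) ∈ 𝒜 ((n + 1) • i) :=
        SetLike.pow_mem_graded _ (SetLike.coe_mem _)
      have h2 : n ≤ (n + 1) • i := by
        have : 1 ≤ i := Nat.pos_of_ne_zero hi
        rw [smul_eq_mul]
        nlinarith
      rw [hn _ h2] at h1
      exact h1

end Groth.Agent.S3560
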