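import Groth.Statements.S3562
import Mathlib
import Groth.Agent.S3548
import Groth.Agent.S3549

set_option autoImplicit false
universe u
open CategoryTheory CategoryTheory.Limits AlgebraicGeometry
open EGA2

namespace Groth.Agent.S3562

open CategoryTheory CategoryTheory.Limits AlgebraicGeometry TopologicalSpace Opposite

section
variable {R A : Type u} [CommRing R] [CommRing A] [Algebra R A] (𝒜 : ℕ → Submodule R A) [GradedAlgebra 𝒜]
variable {M : Type u} [AddCommGroup M] [Module R M] [Module A M] [IsScalarTower R A M]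
variable (ℳ : ℕ → Submodule R M) [DirectSum.Decomposition ℳ] [SetLike.GradedSMul 𝒜 ℳ]

/-- if `S₊` is generated in degree one then `S_j ⊆ S₊ ^ j` -/
theorem mem_irrelevant_pow
    (hgen : (HomogeneousIdeal.irrelevant 𝒜).toIdeal = Ideal.span (𝒜 1 : Set A)) :
    ∀ (j : ℕ) (a : A), a ∈ 𝒜 j → a ∈ (HomogeneousIdeal.irrelevant 𝒜).toIdeal ^ j := by
  classical
  intro j
  induction j with
  | zero => intro a _; simp
  | succ j ih =>
    intro a ha
    have h1 : a ∈ (HomogeneousIdeal.irrelevant 𝒜).toIdeal := by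
      show a ∈ HomogeneousIdeal.irrelevant 𝒜
      rw [HomogeneousIdeal.mem_irrelevant_iff, GradedRing.proj_apply,
        DirectSum.decompose_of_mem_ne 𝒜 ha (by omega)]
    rw [hgen] at h1
    obtain ⟨c, hc, hsum⟩ := Submodule.mem_span_set.mp h1
    have h2 : a = ∑ g ∈ c.support, ((DirectSum.decompose 𝒜 (c g) j : 𝒜 j) : A) * g := by
      have h3 : a = ((DirectSum.decompose 𝒜 a (j + 1) : 𝒜 (j + 1)) : A) :=
        (DirectSum.decompose_of_mem_same 𝒜 ha).symm
      rw [h3, ← hsum, Finsupp.sum, DirectSum.decompose_sum, DFinsupp.finsetSum_apply,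
        AddSubmonoidClass.coe_finsetSum]
      refine Finset.sum_congr rfl (fun g hg => ?_)
      have hg1 : g ∈ 𝒜 1 := hc hg
      rw [smul_eq_mul, DirectSum.coe_decompose_mul_of_right_mem_of_le 𝒜 hg1 (by omega)]
      rfl
    rw [h2, pow_succ]
    refine Ideal.sum_mem _ (fun g hg => ?_)
    refine Ideal.mul_mem_mul (ih _ (DirectSum.decompose 𝒜 (c g) j).2) ?_
    rw [hgen]
    exact Ideal.subset_span (hc hg)

omit [IsScalarTower R A M] in
theorem decompose_smul_of_le {e : ℕ} {t : M} (ht : t ∈ ℳ e) (c : A) {k : ℕ} (hk : e ≤ k) :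
    ((DirectSum.decompose ℳ (c • t) k : ℳ k) : M) =
      ((DirectSum.decompose 𝒜 c (k - e) : 𝒜 (k - e)) : A) • t := by
  classical
  have h1 : c • t = ∑ j ∈ (DirectSum.decompose 𝒜 c).support,
      ((DirectSum.decompose 𝒜 c j : A)) • t := by
    conv_lhs => rw [← DirectSum.sum_support_decompose 𝒜 c]
    rw [Finset.sum_smul]
  have h2 : ∀ j, ((DirectSum.decompose 𝒜 c j : A)) • t ∈ ℳ (j + e) := fun j =>
    SetLike.GradedSMul.smul_mem (DirectSum.decompose 𝒜 c j).2 ht
  rw [h1, DirectSum.decompose_sum, DFinsupp.finsetSum_apply, AddSubmonoidClass.coe_finsetSum]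
  have h4 : ∀ j ∈ (DirectSum.decompose 𝒜 c).support,
      ((DirectSum.decompose ℳ (((DirectSum.decompose 𝒜 c j : A)) • t) k : ℳ k) : M) =
        if j = k - e then ((DirectSum.decompose 𝒜 c j : A)) • t else 0 := by
    intro j _
    split_ifs with hj
    · have : j + e = k := by omega
      exact DirectSum.decompose_of_mem_same ℳ (this ▸ h2 j)
    · exact DirectSum.decompose_of_mem_ne ℳ (h2 j) (fun e' => hj (by omega))
  rw [Finset.sum_congr rfl h4, Finset.sum_ite_eq']
  by_cases hj : (k - e) ∈ (DirectSum.decompose 𝒜 c).support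
  · simp [hj]
  · have : (DirectSum.decompose 𝒜 c (k - e) : A) = 0 := by
      simpa [DFinsupp.mem_support_iff] using hj
    simp [hj, this]
end

/-- Let S be a graded ring whose irrelevant ideal S_+ is finitely generated and generated by the
degree-one elements, and M a graded S-module satisfying (TF) (some tail of M generates a finitely
generated submodule). Then M~ = 0 on Proj S if and only if M satisfies (TN): M_k = 0 for all
sufficiently large k. (The published statement assumes only that S_+ is finitely generated; the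
statement then fails when S_+ has no system of degree-one generators, e.g. S = k[t] with t of degree
2 and M = S shifted into odd degrees, whose M~ vanishes although no M_k does. Stated here with S_+
generated by degree-one elements, where the published proof applies.) -/
theorem result {R A : Type u} [CommRing R] [CommRing A] [Algebra R A] (𝒜 : ℕ → Submodule R A) [GradedAlgebra 𝒜]
    (hfg : (HomogeneousIdeal.irrelevant 𝒜).toIdeal.FG)
    (hgen : (HomogeneousIdeal.irrelevant 𝒜).toIdeal = Ideal.span (𝒜 1 : Set A))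
    {M : Type u} [AddCommGroup M] [Module R M] [Module A M] [IsScalarTower R A M] (ℳ : ℕ → Submodule R M) [DirectSum.Decomposition ℳ] [SetLike.GradedSMul 𝒜 ℳ]
    (hTF : ∃ n : ℕ, (Submodule.span A (⋃ k ∈ Set.Ici n, (ℳ k : Set M))).FG) :
    IsZero (GrTilde.tilde 𝒜 ℳ 0) ↔ ∃ n : ℕ, ∀ k : ℕ, n ≤ k → ℳ k = ⊥ := by
  constructor
  · intro hz
    classical
    obtain ⟨n₀, hN⟩ := hTF
    obtain ⟨T, hTsub, hTspan⟩ := (Submodule.fg_span_iff_fg_span_finset_subset _).mp hN
    have hdeg : ∀ t ∈ T, ∃ e, n₀ ≤ e ∧ t ∈ ℳ e := by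
      intro t ht
      have := hTsub ht
      simp only [Set.mem_iUnion, Set.mem_Ici, SetLike.mem_coe, exists_prop] at this
      exact this
    have hann : ∀ t : M, ∃ K : ℕ,
        (HomogeneousIdeal.irrelevant 𝒜).toIdeal ^ K ≤ Ideal.torsionOf A M t := by
      intro t
      apply Ideal.exists_pow_le_of_le_radical_of_fg _ hfg
      rw [hgen, Ideal.span_le]
      intro g hg
      obtain ⟨k, hk⟩ := Groth.Agent.S3549.result 𝒜 hgen ℳ hz t 1 g Nat.one_pos hg
      exact ⟨k, (Ideal.mem_torsionOf_iff _ _).mpr hk⟩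
    choose K hK using hann
    choose! deg hdeg1 hdeg2 using hdeg
    refine ⟨max n₀ (T.sup deg + T.sup K), fun k hk => ?_⟩
    rw [eq_bot_iff]
    intro z hzk
    rw [Submodule.mem_bot]
    have hz1 : z ∈ Submodule.span A (T : Set M) := by
      rw [← hTspan]
      apply Submodule.subset_span
      simp only [Set.mem_iUnion, Set.mem_Ici, SetLike.mem_coe, exists_prop]
      exact ⟨k, le_trans (le_max_left _ _) hk, hzk⟩
    obtain ⟨c, -, hsum⟩ := Submodule.mem_span_finset.mp hz1
    have h3 : z = ((DirectSum.decompose ℳ z k : ℳ k) : M) :=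
      (DirectSum.decompose_of_mem_same ℳ hzk).symm
    rw [h3, ← hsum, DirectSum.decompose_sum, DFinsupp.finsetSum_apply,
      AddSubmonoidClass.coe_finsetSum]
    apply Finset.sum_eq_zero
    intro t ht
    have hk2 : T.sup deg + T.sup K ≤ k := le_trans (le_max_right _ _) hk
    have hd1 : deg t ≤ T.sup deg := Finset.le_sup ht
    have hK1 : K t ≤ T.sup K := Finset.le_sup ht
    have hle : deg t ≤ k := by omega
    rw [decompose_smul_of_le 𝒜 ℳ (hdeg2 t ht) (c t) hle]
    have hmem : ((DirectSum.decompose 𝒜 (c t) (k - deg t) : 𝒜 (k - deg t)) : A) ∈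
        Ideal.torsionOf A M t := by
      apply hK t
      apply Ideal.pow_le_pow_right (show K t ≤ k - deg t by omega)
      exact mem_irrelevant_pow 𝒜 hgen _ _ (DirectSum.decompose 𝒜 (c t) (k - deg t)).2
    exact (Ideal.mem_torsionOf_iff _ _).mp hmem
  · rintro ⟨n, hn⟩
    apply Groth.Agent.S3548.result 𝒜 ℳ
    intro z d f hd hf
    classical
    refine ⟨n, ?_⟩
    rw [← DirectSum.sum_support_decompose ℳ z, Finset.smul_sum]
    apply Finset.sum_eq_zero
    intro i _
    have hfn : f ^ n ∈ 𝒜 (n • d) := SetLike.pow_mem_graded n hf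
    have hmem : f ^ n • ((DirectSum.decompose ℳ z i : ℳ i) : M) ∈ ℳ (n • d + i) :=
      SetLike.GradedSMul.smul_mem hfn (DirectSum.decompose ℳ z i).2
    have hle : n ≤ n • d + i := by
      have := Nat.le_mul_of_pos_right n hd
      simp only [smul_eq_mul]
      omega
    rw [hn (n • d + i) hle] at hmem
    exact (Submodule.mem_bot _).mp hmem

end Groth.Agent.S3562
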