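import Groth.Statements.S3564
-- import your own Groth.Agent.* helpers here
import Groth.Agent.Lib.Helper29.ProjIdeal
import Groth.Agent.S3563

set_option autoImplicit false
universe u
open CategoryTheory CategoryTheory.Limits AlgebraicGeometry
open EGA2

namespace Groth.Agent.S3564

/-- Let S be a graded ring whose irrelevant ideal S_+ is generated by finitely many elements of degree
one, X = Proj S, and Z → X a closed immersion. Then Z is X-isomorphic to Proj S' for a graded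
quotient S' of S (a surjective homomorphism of graded rings S → S'), the isomorphism being
compatible with the morphism Proj S' → X induced by the quotient map. (The source moreover
identifies the kernel: the largest graded ideal with this property, the inverse image of Γ_*(J)
under α; that description is not stated here.) -/
theorem result {R A : Type u} [CommRing R] [CommRing A] [Algebra R A] (𝒜 : ℕ → Submodule R A) [GradedAlgebra 𝒜]
    (s : Finset A) (hs1 : ∀ f ∈ s, f ∈ 𝒜 1)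
    (hs : (HomogeneousIdeal.irrelevant 𝒜).toIdeal = Ideal.span (s : Set A))
    {Z : Scheme.{u}} (i : Z ⟶ Proj 𝒜) [IsClosedImmersion i] :
    ∃ (B : Type u) (_ : CommRing B) (_ : Algebra R B) (ℬ : ℕ → Submodule R B) (_ : GradedAlgebra ℬ)
      (φ : 𝒜 →+*ᵍ ℬ) (_ : Function.Surjective φ)
      (hφ : HomogeneousIdeal.irrelevant ℬ ≤ (HomogeneousIdeal.irrelevant 𝒜).map φ)
      (e : Z ≅ Proj ℬ), e.hom ≫ Proj.map φ hφ = i := by
  classical
  let ι : Type u := {a : A // a ∈ s}
  let f : ι → 𝒜 1 := fun i => ⟨i.1, hs1 i.1 i.2⟩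
  have hcov : ∀ x : Proj 𝒜, ∃ i, x ∈ Groth.Agent.Lib.Helper29.QCoh.Dp 𝒜 f i := by
    intro x
    obtain ⟨a, ha, hx⟩ := Groth.Agent.Lib.Helper29.QCoh.exists_mem_basicOpen_of_span s hs x
    exact ⟨⟨a, ha⟩, hx⟩
  haveI : Finite ι := Finite.of_fintype _
  obtain ⟨J, hJdef⟩ : ∃ J : Ideal A, J = Groth.Agent.Lib.Helper29.QCoh.projIdeal 𝒜 f i.ker := ⟨_, rfl⟩
  have hJ : J.IsHomogeneous 𝒜 := by
    rw [hJdef]; exact Groth.Agent.Lib.Helper29.QCoh.projIdeal_isHomogeneous 𝒜 f i.ker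
  letI := Groth.Agent.Lib.Helper29.QCoh.quotGradedAlgebra 𝒜 J hJ
  have hsurj := Groth.Agent.Lib.Helper29.QCoh.quotGradedHom_surjective 𝒜 J
  have hφ := Groth.Agent.Lib.Helper29.QCoh.irrelevant_le_map_quotGradedHom 𝒜 J hJ
  haveI : IsClosedImmersion (Proj.map (Groth.Agent.Lib.Helper29.QCoh.quotGradedHom 𝒜 J) hφ) :=
    Groth.Agent.S3563.result 𝒜 (Groth.Agent.Lib.Helper29.QCoh.quotGrading 𝒜 J)
      (Groth.Agent.Lib.Helper29.QCoh.quotGradedHom 𝒜 J) hsurj hφ
  have hker : (Proj.map (Groth.Agent.Lib.Helper29.QCoh.quotGradedHom 𝒜 J) hφ).ker = i.ker :=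
    Groth.Agent.Lib.Helper29.QCoh.ker_map_eq_of_ker_eq 𝒜 f i.ker
      (Groth.Agent.Lib.Helper29.QCoh.quotGrading 𝒜 J)
      (Groth.Agent.Lib.Helper29.QCoh.quotGradedHom 𝒜 J) hφ hcov
      (fun a => by rw [← hJdef]; exact Ideal.Quotient.eq_zero_iff_mem)
  haveI := IsClosedImmersion.isIso_lift
    (Proj.map (Groth.Agent.Lib.Helper29.QCoh.quotGradedHom 𝒜 J) hφ) i hker
  exact ⟨A ⧸ J, inferInstance, inferInstance, Groth.Agent.Lib.Helper29.QCoh.quotGrading 𝒜 J,
    Groth.Agent.Lib.Helper29.QCoh.quotGradedAlgebra 𝒜 J hJ,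
    Groth.Agent.Lib.Helper29.QCoh.quotGradedHom 𝒜 J, hsurj, hφ,
    asIso (IsClosedImmersion.lift
      (Proj.map (Groth.Agent.Lib.Helper29.QCoh.quotGradedHom 𝒜 J) hφ) i hker.le),
    IsClosedImmersion.lift_fac _ _ _⟩

end Groth.Agent.S3564
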