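import Groth.Statements.S3565
-- import your own Groth.Agent.* helpers here
import Groth.Agent.Lib.Helper29.NormSec3
import Groth.Agent.Lib.Helper29.RelAmple2
import Groth.Agent.Lib.Helper29.AmpleFamily
import Groth.Agent.Lib.Helper26.FinLocFreeMor

set_option autoImplicit false
universe u
open CategoryTheory CategoryTheory.Limits AlgebraicGeometry
open EGA2

namespace Groth.Agent.S3565

/-- Let f : X → Y be a quasi-compact morphism, g : X' → X a finite surjective morphism such that the
direct image of the structure sheaf of X' is a finite locally free O_X-module, and L an invertible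
O_X-module. Then L is ample relative to f if and only if its inverse image on X' is ample relative
to f ∘ g. -/
theorem result {X X' Y : Scheme.{u}} (f : X ⟶ Y) [QuasiCompact f]
    (g : X' ⟶ X) [IsFinite g] [Surjective g]
    (hfree : FlatMod.IsFinLocFree ((Coh.push g).obj (Coh.structureModule X')))
    (L : X.Modules) (hL : PicF.IsInvertible L) :
    RelAmple.IsRelAmple f L ↔ RelAmple.IsRelAmple (g ≫ f) ((Scheme.Modules.pullback g).obj L) := by
  obtain ⟨hfin, hflat, hlfp⟩ := Groth.Agent.Lib.Helper26.FinLocFreeMor.forward g hfree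
  constructor
  · intro h
    exact Groth.Agent.Lib.Helper29.QCoh.isRelAmple_pullback_of_isQuasiAffine f g
      (Groth.Agent.Lib.Helper29.QCoh.isQuasiAffine_of_isAffineHom g) h
  · intro h
    refine ⟨inferInstance, fun V => ?_⟩
    have h1 := h.2 V
    have h2 : CohB1.IsAmple ((Scheme.Modules.pullback (g ∣_ (f ⁻¹ᵁ V.1))).obj
        (L.restrict (f ⁻¹ᵁ V.1).ι)) :=
      (Groth.Agent.Lib.Helper29.QCoh.isAmple_iff_of_iso
        (Groth.Agent.Lib.Helper29.QCoh.restrictPullbackIso g (f ⁻¹ᵁ V.1) L)).mp h1
    have hinv : PicF.IsInvertible (L.restrict (f ⁻¹ᵁ V.1).ι) :=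
      Groth.Agent.Lib.Helper29.QCoh.isInvertible_restrict _ hL
    have hqc := Groth.Agent.Lib.Helper29.QCoh.isQuasicoherent_of_isInvertible hinv
    have hs : Surjective (g ∣_ (f ⁻¹ᵁ V.1)) :=
      AlgebraicGeometry.IsZariskiLocalAtTarget.restrict (P := @Surjective) inferInstance _
    exact Groth.Agent.Lib.Helper29.QCoh.QAff.isAmple_of_isAmple_pullback (g ∣_ (f ⁻¹ᵁ V.1))
      hs.surj hinv h2

end Groth.Agent.S3565
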