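import Groth.Statements.S3567
import Groth.Agent.Lib.Helper7.DescendMorphism

set_option autoImplicit false
universe u
open CategoryTheory CategoryTheory.Limits AlgebraicGeometry
open EGA2

namespace Groth.Agent.S3567

/-- Let h : U → V be a surjective morphism of schemes such that the map of sheaves of rings O_V → h_*O_U
is an isomorphism and the underlying space of V carries the quotient topology of that of U. Then for
every scheme W, composition with h is a bijection from the morphisms V → W onto the morphisms U → W
whose underlying map is constant on each fibre of h. -/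
theorem result {U V : Scheme.{u}} (h : U ⟶ V) [Surjective h]
    [IsIso h.c] (hq : Topology.IsQuotientMap h.base) (W : Scheme.{u}) :
    (∀ v₁ v₂ : V ⟶ W, h ≫ v₁ = h ≫ v₂ → v₁ = v₂) ∧
      ∀ u : U ⟶ W, (∀ x y : U, h.base x = h.base y → u.base x = u.base y) → ∃ v : V ⟶ W, h ≫ v = u := by
  have hbij : ∀ O : V.Opens, Function.Bijective (h.app O).hom := by
    intro O
    have : IsIso (h.app O) := by
      change IsIso (h.c.app (Opposite.op O))
      infer_instance
    exact ConcreteCategory.bijective_of_isIso (h.app O)
  have hsurj : Function.Surjective h.base := hq.surjective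
  refine ⟨fun v₁ v₂ hv => ?_, fun u hu => ?_⟩
  · exact Groth.Agent.Lib.Helper7.DescendMorphism.eq_of_comp_eq h hsurj (fun O => (hbij O).1) hv
  · obtain ⟨v, hv, -⟩ := Groth.Agent.Lib.Helper7.DescendMorphism.existsUnique_desc h hq
      (fun O => (hbij O).1) u hu (fun O W' e r => (hbij O).2 _)
    exact ⟨v, hv⟩

end Groth.Agent.S3567
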