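import Groth.Statements.S3569
import Mathlib
import Groth.Agent.Lib.Helper2.ToAffine

set_option autoImplicit false
universe u
open CategoryTheory CategoryTheory.Limits AlgebraicGeometry
open EGA2

namespace Groth.Agent.S3569

open CategoryTheory CategoryTheory.Limits AlgebraicGeometry TopologicalSpace Opposite
open Groth.Agent.Lib.Helper2.ToAffine

theorem le_of_w {X Y S : Scheme.{u}} (f : X ⟶ S) (g : Y ⟶ S) (h : Y ⟶ X) (w : h ≫ f = g)
    (U : S.Opens) : g ⁻¹ᵁ U ≤ h ⁻¹ᵁ f ⁻¹ᵁ U := by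
  subst w; exact le_rfl

theorem algHom_app {X Y S : Scheme.{u}} (f : X ⟶ S) (g : Y ⟶ S) (h : Y ⟶ X) (w : h ≫ f = g)
    (U : S.Opens) :
    (AffAlg.algHom f g h w).app (op U) = h.appLE (f ⁻¹ᵁ U) (g ⁻¹ᵁ U) (le_of_w f g h w U) := by
  subst w
  simp [AffAlg.algHom, Scheme.Hom.appLE]
  rfl

theorem appLE_congr_hom {T X : Scheme.{u}} {a b : T ⟶ X} (hab : a = b) (W : X.Opens) (V : T.Opens)
    (e : V ≤ a ⁻¹ᵁ W) : a.appLE W V e = b.appLE W V (hab ▸ e) := by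
  subst hab; rfl

theorem isIso_presheaf_map_of_le_le {Y : Scheme.{u}} {A B : Y.Opens} (h1 : A ≤ B) (h2 : B ≤ A) :
    IsIso (Y.presheaf.map (homOfLE h1).op) := by
  obtain rfl : A = B := le_antisymm h1 h2
  have : homOfLE h1 = 𝟙 A := Subsingleton.elim _ _
  rw [this, op_id, Y.presheaf.map_id]
  infer_instance

/-- for an open immersion `j : T ⟶ Y` with range `V`, `Γ(Y, V) ⟶ Γ(T, ⊤)` is an isomorphism. -/
theorem isIso_appLE_top {T Y : Scheme.{u}} (j : T ⟶ Y) [IsOpenImmersion j] (V : Y.Opens)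
    (hV : j.opensRange = V) (e : ⊤ ≤ j ⁻¹ᵁ V) : IsIso (j.appLE V ⊤ e) := by
  unfold Scheme.Hom.appLE
  have h1 : IsIso (j.app V) := j.isIso_app V hV.ge
  have h2 : IsIso (T.presheaf.map (homOfLE e).op) := isIso_presheaf_map_of_le_le e le_top
  infer_instance

theorem key_general {X Y T T' : Scheme.{u}} {A A' : X.Opens} {B B' : Y.Opens}
    (ωA : Γ(X, A) ⟶ Γ(Y, B)) (ωA' : Γ(X, A') ⟶ Γ(Y, B')) (hA : A' ≤ A) (hB : B' ≤ B)
    (nat : X.presheaf.map (homOfLE hA).op ≫ ωA' = ωA ≫ Y.presheaf.map (homOfLE hB).op)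
    (j : T ⟶ Y) (j' : T' ⟶ Y) (t : T' ⟶ T) (ht : t ≫ j = j') (e : ⊤ ≤ j ⁻¹ᵁ B)
    (e' : ⊤ ≤ j' ⁻¹ᵁ B') :
    (ωA ≫ j.appLE B ⊤ e) ≫ t.appLE ⊤ ⊤ le_top =
      X.presheaf.map (homOfLE hA).op ≫ ωA' ≫ j'.appLE B' ⊤ e' := by
  subst ht
  rw [Category.assoc, Scheme.Hom.appLE_comp_appLE, reassoc_of% nat, Scheme.Hom.map_appLE]

section Construction

variable {X Y S : Scheme.{u}} (f : X ⟶ S) [IsAffineHom f] (g : Y ⟶ S)

/-- the locally directed cover of `Y` by the `g⁻¹ U`, `U` affine open in `S` -/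
noncomputable abbrev cov : Y.OpenCover := S.directedAffineCover.pullback₁ g

noncomputable abbrev jj (U : S.affineOpens) : pullback g U.1.ι ⟶ Y := pullback.fst g U.1.ι

theorem jj_le (U : S.affineOpens) : ⊤ ≤ (jj g U) ⁻¹ᵁ (g ⁻¹ᵁ U.1) := by
  intro y _
  show g ((pullback.fst g U.1.ι) y) ∈ U.1
  have : g ((pullback.fst g U.1.ι) y) = U.1.ι ((pullback.snd g U.1.ι) y) := by
    rw [← Scheme.Hom.comp_apply, ← Scheme.Hom.comp_apply, pullback.condition]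
  rw [this]; exact ((pullback.snd g U.1.ι) y).2

theorem jj_range (U : S.affineOpens) : (jj g U).opensRange = g ⁻¹ᵁ U.1 := by
  rw [Scheme.Hom.opensRange_pullbackFst, Scheme.Opens.opensRange_ι]

instance isIso_jj (U : S.affineOpens) : IsIso ((jj g U).appLE (g ⁻¹ᵁ U.1) ⊤ (jj_le g U)) :=
  isIso_appLE_top _ _ (jj_range g U) _

noncomputable def phi (ω : AffAlg.algHoms f g) (U : S.affineOpens) :
    Γ(X, f ⁻¹ᵁ U.1) ⟶ Γ(pullback g U.1.ι, ⊤) :=
  ω.1.app (op U.1) ≫ (jj g U).appLE (g ⁻¹ᵁ U.1) ⊤ (jj_le g U)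

noncomputable def hloc (ω : AffAlg.algHoms f g) (U : S.affineOpens) : pullback g U.1.ι ⟶ X :=
  ofRingHom (U.2.preimage f) (phi f g ω U)

theorem hloc_le (ω : AffAlg.algHoms f g) (U : S.affineOpens) :
    ⊤ ≤ (hloc f g ω U) ⁻¹ᵁ (f ⁻¹ᵁ U.1) := ofRingHom_le _ _

theorem hloc_appLE (ω : AffAlg.algHoms f g) (U : S.affineOpens) :
    (hloc f g ω U).appLE (f ⁻¹ᵁ U.1) ⊤ (hloc_le f g ω U) = phi f g ω U := ofRingHom_appLE _ _

omit [IsAffineHom f] in
theorem omega_naturality (ω : AffAlg.algHoms f g) {U' U : S.Opens} (hle : U' ≤ U) :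
    X.presheaf.map (homOfLE (f.preimage_mono hle)).op ≫ ω.1.app (op U') =
      ω.1.app (op U) ≫ Y.presheaf.map (homOfLE (g.preimage_mono hle)).op :=
  ω.1.naturality (homOfLE hle).op

/-- morphisms in the index category of `cov g` -/
def homOf {U' U : S.affineOpens} (hle : U' ≤ U) : @Quiver.Hom (cov g).I₀ _ U' U :=
  (homOfLE hle : @Quiver.Hom S.affineOpens _ U' U)

theorem trans_hloc (ω : AffAlg.algHoms f g) {U' U : S.affineOpens} (hle : U' ≤ U) :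
    (cov g).trans (homOf g hle) ≫ hloc f g ω U = hloc f g ω U' := by
  have hfle : f ⁻¹ᵁ U'.1 ≤ f ⁻¹ᵁ U.1 := f.preimage_mono hle
  have e1 : ⊤ ≤ (hloc f g ω U') ⁻¹ᵁ (f ⁻¹ᵁ U.1) :=
    le_trans (hloc_le f g ω U') ((hloc f g ω U').preimage_mono hfle)
  have e2 : ⊤ ≤ ((cov g).trans (homOf g hle) ≫ hloc f g ω U) ⁻¹ᵁ (f ⁻¹ᵁ U.1) := by
    intro y _
    exact hloc_le f g ω U (Set.mem_univ (((cov g).trans (homOf g hle)) y))
  have L := Scheme.Hom.appLE_comp_appLE ((cov g).trans (homOf g hle)) (hloc f g ω U)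
    (f ⁻¹ᵁ U.1) ⊤ ⊤ (hloc_le f g ω U) le_top
  have R := Scheme.Hom.map_appLE (hloc f g ω U') (hloc_le f g ω U') (homOfLE hfle).op
  refine ext_of_appLE _ _ (U.2.preimage f) e2 e1 (L.symm.trans (Eq.trans ?_ R))
  have key : phi f g ω U ≫ ((cov g).trans (homOf g hle)).appLE ⊤ ⊤ le_top =
      X.presheaf.map (homOfLE hfle).op ≫ phi f g ω U' := by
    exact key_general _ _ hfle (g.preimage_mono hle) (omega_naturality f g ω hle) (jj g U) (jj g U')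
      ((cov g).trans (homOf g hle)) ((cov g).trans_map (homOf g hle)) (jj_le g U) (jj_le g U')
  exact (congrArg (· ≫ _) (hloc_appLE f g ω U)).trans
    (key.trans (congrArg (_ ≫ ·) (hloc_appLE f g ω U').symm))

theorem trans_hloc' (ω : AffAlg.algHoms f g) {U' U : S.affineOpens}
    (hij : @Quiver.Hom (cov g).I₀ _ U' U) :
    (cov g).trans hij ≫ hloc f g ω U = hloc f g ω U' := by
  have hle : U' ≤ U := leOfHom (hij : @Quiver.Hom S.affineOpens _ U' U)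
  have : hij = homOf g hle :=
    @Subsingleton.elim (@Quiver.Hom S.affineOpens _ U' U) inferInstance _ _
  rw [this]
  exact trans_hloc f g ω hle

noncomputable def glued (ω : AffAlg.algHoms f g) : Y ⟶ X :=
  (cov g).glueMorphismsOfLocallyDirected (hloc f g ω) (fun hij => trans_hloc' f g ω hij)

theorem glued_fac (ω : AffAlg.algHoms f g) (U : S.affineOpens) :
    jj g U ≫ glued f g ω = hloc f g ω U :=
  (cov g).map_glueMorphismsOfLocallyDirected _ _ U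

omit [IsAffineHom f] in
theorem key2 {T : Scheme.{u}} (m : T ⟶ X) (j : T ⟶ Y) (U : S.Opens)
    (em : ⊤ ≤ m ⁻¹ᵁ f ⁻¹ᵁ U) (ej : ⊤ ≤ j ⁻¹ᵁ g ⁻¹ᵁ U)
    (ωU : Γ(X, f ⁻¹ᵁ U) ⟶ Γ(Y, g ⁻¹ᵁ U)) (hω : f.app U ≫ ωU = g.app U)
    (hm : m.appLE (f ⁻¹ᵁ U) ⊤ em = ωU ≫ j.appLE (g ⁻¹ᵁ U) ⊤ ej) :
    (m ≫ f).appLE U ⊤ em = (j ≫ g).appLE U ⊤ ej := by
  rw [Scheme.Hom.comp_appLE, Scheme.Hom.comp_appLE, hm, reassoc_of% hω]

theorem glued_comp (ω : AffAlg.algHoms f g) : glued f g ω ≫ f = g := by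
  refine (cov g).hom_ext _ _ (fun U => ?_)
  show jj g U ≫ glued f g ω ≫ f = jj g U ≫ g
  rw [reassoc_of% (glued_fac f g ω U)]
  have hω : f.app U.1 ≫ ω.1.app (op U.1) = g.app U.1 := by
    have := congrArg (fun α => α.app (op U.1)) ω.2
    exact this
  refine ext_of_appLE _ _ U.2 (hloc_le f g ω U) (jj_le g U) ?_
  exact key2 f g _ _ U.1 _ _ _ hω (hloc_appLE f g ω U)

theorem algHom_glued_app (ω : AffAlg.algHoms f g) (U : S.affineOpens) :
    (AffAlg.algHom f g (glued f g ω) (glued_comp f g ω)).app (op U.1) = ω.1.app (op U.1) := by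
  rw [algHom_app]
  have h1 := Scheme.Hom.appLE_comp_appLE (jj g U) (glued f g ω) (f ⁻¹ᵁ U.1) (g ⁻¹ᵁ U.1) ⊤
    (le_of_w f g _ (glued_comp f g ω) U.1) (jj_le g U)
  have h2 := appLE_congr_hom (glued_fac f g ω U) (f ⁻¹ᵁ U.1) ⊤
    ((jj_le g U).trans (((jj g U).preimage_mono (le_of_w f g _ (glued_comp f g ω) U.1))))
  have h3 : (glued f g ω).appLE (f ⁻¹ᵁ U.1) (g ⁻¹ᵁ U.1) (le_of_w f g _ (glued_comp f g ω) U.1) ≫
      (jj g U).appLE (g ⁻¹ᵁ U.1) ⊤ (jj_le g U) =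
      ω.1.app (op U.1) ≫ (jj g U).appLE (g ⁻¹ᵁ U.1) ⊤ (jj_le g U) :=
    h1.trans (h2.trans (hloc_appLE f g ω U))
  exact (cancel_mono _).mp h3

omit [IsAffineHom f] in
theorem algHom_ext (α β : AffAlg.alg f ⟶ AffAlg.alg g)
    (h : ∀ U : S.affineOpens, α.app (op U.1) = β.app (op U.1)) : α = β := by
  refine NatTrans.ext (funext fun W => ?_)
  induction W using Opposite.rec with | _ W => ?_
  ext s
  refine Y.sheaf.eq_of_locally_eq' (ι := {U : S.affineOpens // U.1 ≤ W})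
    (fun i => g ⁻¹ᵁ i.1.1) (g ⁻¹ᵁ W) (fun i => homOfLE (g.preimage_mono i.2)) ?_ _ _ ?_
  · intro y hy
    obtain ⟨_, ⟨U, hU, rfl⟩, hyU, hUW⟩ := S.isBasis_affineOpens.exists_subset_of_mem_open
      (show g y ∈ (W : Set S) from hy) W.2
    exact Opens.mem_iSup.mpr ⟨⟨⟨U, hU⟩, hUW⟩, hyU⟩
  · intro i
    have hα := α.naturality (homOfLE i.2).op
    have hβ := β.naturality (homOfLE i.2).op
    have key : α.app (op W) ≫ (AffAlg.alg g).map (homOfLE i.2).op =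
        β.app (op W) ≫ (AffAlg.alg g).map (homOfLE i.2).op := by
      rw [← hα, ← hβ, h i.1]
    exact congrArg (fun φ => φ.hom s) key

end Construction

/-- Let f : X → S be an affine morphism and g : Y → S any morphism. Then h ↦ A(h) = f_*(h^♯) is a
bijection from the set of S-morphisms Y → X onto the set of O_S-algebra homomorphisms f_*O_X →
g_*O_Y (morphisms of sheaves of rings compatible with the structure maps from O_S). -/
theorem result {X Y S : Scheme.{u}} (f : X ⟶ S) [IsAffineHom f] (g : Y ⟶ S) :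
    Function.Bijective (AffAlg.algOf f g) := by
  constructor
  · intro h₁ h₂ e
    apply Subtype.ext
    have e' : AffAlg.algHom f g h₁.1 h₁.2 = AffAlg.algHom f g h₂.1 h₂.2 :=
      congrArg Subtype.val e
    refine (cov g).hom_ext _ _ (fun U => ?_)
    show jj g U ≫ h₁.1 = jj g U ≫ h₂.1
    have a1 := Scheme.Hom.appLE_comp_appLE (jj g U) h₁.1 (f ⁻¹ᵁ U.1) (g ⁻¹ᵁ U.1) ⊤
      (le_of_w f g _ h₁.2 U.1) (jj_le g U)
    have a2 := Scheme.Hom.appLE_comp_appLE (jj g U) h₂.1 (f ⁻¹ᵁ U.1) (g ⁻¹ᵁ U.1) ⊤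
      (le_of_w f g _ h₂.2 U.1) (jj_le g U)
    refine ext_of_appLE _ _ (U.2.preimage f) _ _ (a1.symm.trans (Eq.trans ?_ a2))
    rw [← algHom_app f g h₁.1 h₁.2 U.1, ← algHom_app f g h₂.1 h₂.2 U.1, e']
  · intro ω
    exact ⟨⟨glued f g ω, glued_comp f g ω⟩,
      Subtype.ext (algHom_ext f g _ _ (algHom_glued_app f g ω))⟩

end Groth.Agent.S3569
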