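import Groth.Statements.S3570
import Mathlib

set_option autoImplicit false
universe u
open CategoryTheory CategoryTheory.Limits AlgebraicGeometry
open EGA2

namespace Groth.Agent.S3570

open CategoryTheory AlgebraicGeometry TopologicalSpace Opposite

theorem isIso_comp_eqToHom {C : Type*} [Category C] {A B B' : C} (a : A ⟶ B) [IsIso a]
    (p : B = B') : IsIso (a ≫ eqToHom p) := by
  subst p; simpa

theorem algHom_app {X Y S : Scheme.{u}} (f : X ⟶ S) (g : Y ⟶ S) (h : Y ⟶ X) (w : h ≫ f = g)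
    (U : S.Opens) :
    ∃ (e : h ⁻¹ᵁ f ⁻¹ᵁ U = g ⁻¹ᵁ U),
      (AffAlg.algHom f g h w).app (op U) = h.app (f ⁻¹ᵁ U) ≫ Y.presheaf.map (eqToHom e.symm).op := by
  subst w
  refine ⟨rfl, ?_⟩
  simp [AffAlg.algHom]
  rfl

/-- Let f : X → S and g : Y → S be affine morphisms and h : Y → X an S-morphism. Then h is an
isomorphism if and only if A(h) : f_*O_X → g_*O_Y is an isomorphism (of presheaves of rings on S). -/
theorem result {X Y S : Scheme.{u}} (f : X ⟶ S) [IsAffineHom f] (g : Y ⟶ S)
    [IsAffineHom g] (h : Y ⟶ X) (w : h ≫ f = g) :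
    IsIso h ↔ IsIso (AffAlg.algHom f g h w) := by
  constructor
  · intro hh
    unfold AffAlg.algHom
    have : IsIso h.c := inferInstance
    infer_instance
  · intro hω
    let V : S.affineOpens → X.affineOpens := fun U => ⟨f ⁻¹ᵁ U.1, U.2.preimage f⟩
    have hV : ⨆ U, ((V U : X.affineOpens) : X.Opens) = ⊤ := by
      have h1 : ⨆ U : S.affineOpens, (U : S.Opens) = ⊤ := iSup_affineOpens_eq_top S
      have h2 : f ⁻¹ᵁ (⨆ U : S.affineOpens, (U : S.Opens)) = ⊤ := by rw [h1]; rfl
      rw [← h2, Scheme.Hom.preimage_iSup]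
    have key : MorphismProperty.isomorphisms Scheme h := by
      rw [HasAffineProperty.iff_of_iSup_eq_top (P := MorphismProperty.isomorphisms Scheme) V hV]
      intro U
      obtain ⟨e, he⟩ := algHom_app f g h w U.1
      refine ⟨?_, ?_⟩
      · show IsAffine (h ⁻¹ᵁ f ⁻¹ᵁ U.1).toScheme
        have : IsAffineOpen (h ⁻¹ᵁ f ⁻¹ᵁ U.1) := by rw [e]; exact U.2.preimage g
        exact this
      · rw [morphismRestrict_appTop]
        have h1 : IsIso ((AffAlg.algHom f g h w).app (op U.1)) := inferInstance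
        have h2 : IsIso (h.app (f ⁻¹ᵁ U.1)) := by
          have : h.app (f ⁻¹ᵁ U.1) = (AffAlg.algHom f g h w).app (op U.1) ≫
              Y.presheaf.map (eqToHom e).op := by
            rw [he, Category.assoc, ← Functor.map_comp, ← op_comp, eqToHom_trans, eqToHom_refl,
              op_id]
            exact (Category.comp_id _).symm.trans (congrArg _ (Y.presheaf.map_id _).symm)
          rw [this]; infer_instance
        show IsIso (h.app ((f ⁻¹ᵁ U.1).ι ''ᵁ ⊤) ≫ _)
        have h3 : (f ⁻¹ᵁ U.1).ι ''ᵁ ⊤ = f ⁻¹ᵁ U.1 := by simp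
        have h4 : IsIso (h.app ((f ⁻¹ᵁ U.1).ι ''ᵁ ⊤)) := by rw [h3]; exact h2
        rw [eqToHom_op, eqToHom_map]
        exact isIso_comp_eqToHom _ _
    exact key

end Groth.Agent.S3570
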