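import Groth.Statements.S3574
import Mathlib

set_option autoImplicit false
universe u
open CategoryTheory CategoryTheory.Limits AlgebraicGeometry
open EGA2

namespace Groth.Agent.S3574

section helpers
open CategoryTheory.Limits HomogeneousLocalization TensorProduct

variable {R A : Type u} [CommRing R] [CommRing A] [Algebra R A] (𝒜 : ℕ → Submodule R A) [GradedAlgebra 𝒜]

/-- the tensor product `A_f ⊗[A] A_g` -/
abbrev T (f g : A) : Type u := Localization.Away f ⊗[A] Localization.Away g

theorem isUnit_mul (f g : A) : IsUnit (algebraMap A (T f g) (f * g)) := by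
  rw [map_mul]
  refine IsUnit.mul ?_ ?_
  · have h1 : algebraMap A (T f g) f =
        Algebra.TensorProduct.includeLeftRingHom (algebraMap A (Localization.Away f) f) := by
      simp [Algebra.TensorProduct.algebraMap_apply]
    rw [h1]
    exact (IsLocalization.Away.algebraMap_isUnit f).map _
  · have h1 : algebraMap A (T f g) g =
        (Algebra.TensorProduct.includeRight : Localization.Away g →ₐ[A] T f g)
          (algebraMap A (Localization.Away g) g) := by
      rw [AlgHom.commutes]
    rw [h1]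
    exact (IsLocalization.Away.algebraMap_isUnit g).map _

/-- `A_(fg) → A_f ⊗ A_g` -/
noncomputable def θ (f g : A) : Away 𝒜 (f * g) →+* T f g :=
  (IsLocalization.Away.lift (S := Localization.Away (f * g)) (f * g) (isUnit_mul f g)).comp
    (algebraMap (Away 𝒜 (f * g)) (Localization.Away (f * g)))

theorem θ_left {d e : ℕ} {f g : A} (hf : f ∈ 𝒜 d) (hg : g ∈ 𝒜 e) :
    (θ 𝒜 f g).comp (awayMap 𝒜 hg rfl) =
      (Algebra.TensorProduct.includeLeftRingHom).comp
        (algebraMap (Away 𝒜 f) (Localization.Away f)) := by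
  have key : (IsLocalization.Away.lift (S := Localization.Away (f * g)) (f * g) (isUnit_mul f g)).comp
      (Localization.awayLift (algebraMap A (Localization.Away (f * g))) f 
        (isUnit_of_dvd_unit (map_dvd _ ⟨_, rfl⟩) (IsLocalization.Away.algebraMap_isUnit (f * g)))) =
      (Algebra.TensorProduct.includeLeftRingHom : Localization.Away f →+* T f g) := by
    apply IsLocalization.ringHom_ext (Submonoid.powers f)
    ext a
    simp [Localization.awayLift, IsLocalization.Away.lift_eq, Algebra.TensorProduct.algebraMap_apply]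
  ext z
  simp only [RingHom.comp_apply, θ, HomogeneousLocalization.algebraMap_apply, val_awayMap]
  exact congrFun (congrArg DFunLike.coe key) z.val


theorem θ_right {d e : ℕ} {f g : A} (hf : f ∈ 𝒜 d) (hg : g ∈ 𝒜 e) :
    (θ 𝒜 f g).comp (awayMap 𝒜 hf (mul_comm f g)) =
      (RingHomClass.toRingHom (Algebra.TensorProduct.includeRight :
          Localization.Away g →ₐ[A] T f g)).comp
        (algebraMap (Away 𝒜 g) (Localization.Away g)) := by
  have key : (IsLocalization.Away.lift (S := Localization.Away (f * g)) (f * g) (isUnit_mul f g)).comp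
      (Localization.awayLift (algebraMap A (Localization.Away (f * g))) g 
        (isUnit_of_dvd_unit (map_dvd _ ⟨_, mul_comm f g⟩)
          (IsLocalization.Away.algebraMap_isUnit (f * g)))) =
      (RingHomClass.toRingHom (Algebra.TensorProduct.includeRight :
          Localization.Away g →ₐ[A] T f g)) := by
    apply IsLocalization.ringHom_ext (Submonoid.powers g)
    ext a
    simp [Localization.awayLift, IsLocalization.Away.lift_eq]
  ext z
  simp only [RingHom.comp_apply, θ, HomogeneousLocalization.algebraMap_apply, val_awayMap]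
  exact congrFun (congrArg DFunLike.coe key) z.val


theorem cchart_ι {d : ℕ} {f : A} (hf : f ∈ 𝒜 d) (hd : 0 < d) :
    Cone.chart hf hd ≫ (Cone.pointed 𝒜).ι =
      Spec.map (CommRingCat.ofHom (algebraMap A (Localization.Away f))) :=
  IsOpenImmersion.lift_fac _ _ _

instance isOpenImmersion_cchart {d : ℕ} {f : A} (hf : f ∈ 𝒜 d) (hd : 0 < d) :
    IsOpenImmersion (Cone.chart hf hd) := by
  have : IsOpenImmersion (Cone.chart hf hd ≫ (Cone.pointed 𝒜).ι) := by
    rw [cchart_ι]; infer_instance
  exact IsOpenImmersion.of_comp _ (Cone.pointed 𝒜).ι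

theorem exists_cidx (x : (Cone.pointed 𝒜 : Scheme.{u})) :
    ∃ i : (Σ' (d : ℕ) (f : A), 0 < d ∧ f ∈ 𝒜 d),
      x ∈ Set.range (Cone.chart i.2.2.2 i.2.2.1).base := by
  classical
  have hx : (show PrimeSpectrum A from (Cone.pointed 𝒜).ι x) ∉
      PrimeSpectrum.zeroLocus ((HomogeneousIdeal.irrelevant 𝒜).toIdeal : Set A) := x.2
  rw [PrimeSpectrum.mem_zeroLocus, Set.not_subset] at hx
  obtain ⟨a, ha, hax⟩ := hx
  have : ∃ i, i ≠ 0 ∧ (DirectSum.decompose 𝒜 a i : A) ∉ ((Cone.pointed 𝒜).ι x).asIdeal := by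
    by_contra hcon
    push Not at hcon
    apply hax
    rw [← DirectSum.sum_support_decompose 𝒜 a]
    refine Ideal.sum_mem _ fun i _ => ?_
    by_cases hi : i = 0
    · subst hi
      have : (DirectSum.decompose 𝒜 a 0 : A) = 0 := ha
      rw [this]
      exact zero_mem _
    · exact hcon i hi
  obtain ⟨i, hi0, hi⟩ := this
  refine ⟨⟨i, (DirectSum.decompose 𝒜 a i : A), Nat.pos_of_ne_zero hi0, (DirectSum.decompose 𝒜 a i).2⟩, ?_⟩
  have hmem : (Cone.pointed 𝒜).ι x ∈
      Set.range (Spec.map (CommRingCat.ofHom (algebraMap A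
        (Localization.Away (DirectSum.decompose 𝒜 a i : A))))).base := by
    have := PrimeSpectrum.localization_away_comap_range
      (Localization.Away (DirectSum.decompose 𝒜 a i : A)) (DirectSum.decompose 𝒜 a i : A)
    erw [this]
    exact hi
  obtain ⟨y, hy⟩ := hmem
  refine ⟨y, ?_⟩
  apply (Cone.pointed 𝒜).ι.isOpenEmbedding.injective
  rw [← hy, ← cchart_ι 𝒜 (DirectSum.decompose 𝒜 a i).2 (Nat.pos_of_ne_zero hi0)]
  rfl


/-- the affine open cover of the pointed cone by the charts -/
noncomputable def ccover : (Cone.pointed 𝒜 : Scheme.{u}).AffineOpenCover where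
  I₀ := Σ' (d : ℕ) (f : A), 0 < d ∧ f ∈ 𝒜 d
  X i := .of (Localization.Away i.2.1)
  f i := Cone.chart i.2.2.2 i.2.2.1
  idx x := (exists_cidx 𝒜 x).choose
  covers x := (exists_cidx 𝒜 x).choose_spec
  map_prop i := isOpenImmersion_cchart 𝒜 i.2.2.2 i.2.2.1

/-- the local pieces -/
noncomputable abbrev cq (i : Σ' (d : ℕ) (f : A), 0 < d ∧ f ∈ 𝒜 d) :
    Spec (.of (Localization.Away i.2.1)) ⟶ Proj 𝒜 :=
  Spec.map (CommRingCat.ofHom (algebraMap (Away 𝒜 i.2.1) (Localization.Away i.2.1))) ≫
    Proj.awayι 𝒜 i.2.1 i.2.2.2 i.2.2.1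

theorem cq_left {d e : ℕ} {f g : A} (hf : f ∈ 𝒜 d) (hd : 0 < d) (hg : g ∈ 𝒜 e) :
    Spec.map (CommRingCat.ofHom (Algebra.TensorProduct.includeLeftRingHom :
        Localization.Away f →+* T f g)) ≫
      Spec.map (CommRingCat.ofHom (algebraMap (Away 𝒜 f) (Localization.Away f))) ≫
        Proj.awayι 𝒜 f hf hd =
    Spec.map (CommRingCat.ofHom (θ 𝒜 f g)) ≫
      Proj.awayι 𝒜 (f * g) (SetLike.mul_mem_graded hf hg) (hd.trans_le (Nat.le_add_right d e)) := by
  rw [← Proj.SpecMap_awayMap_awayι 𝒜 hf hd hg rfl, ← Spec.map_comp_assoc, ← Spec.map_comp_assoc,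
    ← CommRingCat.ofHom_comp, ← CommRingCat.ofHom_comp, θ_left 𝒜 hf hg]

theorem cq_right {d e : ℕ} {f g : A} (hf : f ∈ 𝒜 d) (hd : 0 < d) (hg : g ∈ 𝒜 e) (he : 0 < e) :
    Spec.map (CommRingCat.ofHom (RingHomClass.toRingHom (Algebra.TensorProduct.includeRight :
          Localization.Away g →ₐ[A] T f g))) ≫
      Spec.map (CommRingCat.ofHom (algebraMap (Away 𝒜 g) (Localization.Away g))) ≫
        Proj.awayι 𝒜 g hg he =
    Spec.map (CommRingCat.ofHom (θ 𝒜 f g)) ≫
      Proj.awayι 𝒜 (f * g) (SetLike.mul_mem_graded hf hg) (hd.trans_le (Nat.le_add_right d e)) := by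
  have : Proj.awayι 𝒜 (f * g) (SetLike.mul_mem_graded hf hg) (hd.trans_le (Nat.le_add_right d e)) =
    Proj.awayι 𝒜 (f * g) ((mul_comm f g) ▸ SetLike.mul_mem_graded hg hf)
      (he.trans_le (Nat.le_add_right e d)) := rfl
  rw [this, ← Proj.SpecMap_awayMap_awayι 𝒜 hg he hf (mul_comm f g), ← Spec.map_comp_assoc,
    ← Spec.map_comp_assoc, ← CommRingCat.ofHom_comp, ← CommRingCat.ofHom_comp, θ_right 𝒜 hf hg]

theorem ccompat (i j : (ccover 𝒜).openCover.I₀) :
    pullback.fst ((ccover 𝒜).openCover.f i) ((ccover 𝒜).openCover.f j) ≫ cq 𝒜 i =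
      pullback.snd ((ccover 𝒜).openCover.f i) ((ccover 𝒜).openCover.f j) ≫ cq 𝒜 j := by
  obtain ⟨d, f, hd, hf⟩ := i
  obtain ⟨e, g, he, hg⟩ := j
  change pullback.fst (Cone.chart hf hd) (Cone.chart hg he) ≫
      (Spec.map (CommRingCat.ofHom (algebraMap (Away 𝒜 f) (Localization.Away f))) ≫
        Proj.awayι 𝒜 f hf hd) =
    pullback.snd (Cone.chart hf hd) (Cone.chart hg he) ≫
      (Spec.map (CommRingCat.ofHom (algebraMap (Away 𝒜 g) (Localization.Away g))) ≫
        Proj.awayι 𝒜 g hg he)
  set a := pullback.fst (Cone.chart hf hd) (Cone.chart hg he) with ha_def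
  set b := pullback.snd (Cone.chart hf hd) (Cone.chart hg he) with hb_def
  have hab : a ≫ Spec.map (CommRingCat.ofHom (algebraMap A (Localization.Away f))) =
      b ≫ Spec.map (CommRingCat.ofHom (algebraMap A (Localization.Away g))) := by
    rw [← cchart_ι 𝒜 hf hd, ← cchart_ι 𝒜 hg he, ← Category.assoc, ← Category.assoc,
      pullback.condition]
  obtain ⟨c, hc⟩ : ∃ c, c = pullback.lift a b hab ≫
    (pullbackSpecIso A (Localization.Away f) (Localization.Away g)).hom := ⟨_, rfl⟩
  have ha : a = c ≫ Spec.map (CommRingCat.ofHom (Algebra.TensorProduct.includeLeftRingHom :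
        Localization.Away f →+* T f g)) := by
    rw [hc, Category.assoc, pullbackSpecIso_hom_fst]
    exact (pullback.lift_fst _ _ _).symm
  have hb : b = c ≫ Spec.map (CommRingCat.ofHom (RingHomClass.toRingHom
      (Algebra.TensorProduct.includeRight : Localization.Away g →ₐ[A] T f g))) := by
    rw [hc, Category.assoc, pullbackSpecIso_hom_snd]
    exact (pullback.lift_snd _ _ _).symm
  rw [ha, hb, Category.assoc, Category.assoc, cq_left 𝒜 hf hd hg, cq_right 𝒜 hf hd hg he]

end helpers

/-- Let S be an ℕ-graded algebra over a ring, C = Spec S its affine cone, E = C − V(S_+) the pointed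
affine cone and X = Proj S. Then there is exactly one morphism π : E → X (the canonical retraction)
whose restriction to each chart Spec S_f of E, for f homogeneous of positive degree, is the
composite Spec S_f → Spec S_(f) ≅ D_+(f) ⊆ X induced by the inclusion S_(f) → S_f. The published
statement is not limited to an affine base. -/
theorem result {R A : Type u} [CommRing R] [CommRing A] [Algebra R A] (𝒜 : ℕ → Submodule R A) [GradedAlgebra 𝒜] :
    ∃! π : (Cone.pointed 𝒜 : Scheme.{u}) ⟶ Proj 𝒜,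
      ∀ (d : ℕ) (f : A) (hd : 0 < d) (hf : f ∈ 𝒜 d),
        Cone.chart hf hd ≫ π =
          Spec.map (CommRingCat.ofHom (algebraMap (HomogeneousLocalization.Away 𝒜 f) (Localization.Away f))) ≫
            Proj.awayι 𝒜 f hf hd := by
  refine ⟨(ccover 𝒜).openCover.glueMorphisms (cq 𝒜) (ccompat 𝒜), ?_, ?_⟩
  · intro d f hd hf
    exact Scheme.Cover.ι_glueMorphisms (ccover 𝒜).openCover (cq 𝒜) (ccompat 𝒜) ⟨d, f, hd, hf⟩
  · intro p' hp'
    refine Scheme.Cover.hom_ext (ccover 𝒜).openCover _ _ ?_
    intro i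
    exact (hp' i.1 i.2.1 i.2.2.1 i.2.2.2).trans (Scheme.Cover.ι_glueMorphisms
      (ccover 𝒜).openCover (cq 𝒜) (ccompat 𝒜) i).symm

end Groth.Agent.S3574
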