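import Groth.Statements.S3575
import Mathlib
import Groth.Agent.S3574

set_option autoImplicit false
universe u
open CategoryTheory CategoryTheory.Limits AlgebraicGeometry
open EGA2

namespace Groth.Agent.S3575

open HomogeneousLocalization
open Groth.Agent.S3574

section helpers

variable {R A : Type u} [CommRing R] [CommRing A] [Algebra R A] (𝒜 : ℕ → Submodule R A) [GradedAlgebra 𝒜]

omit [Algebra R A] in
theorem basicOpen_mk_eq (f g : A) (d e : ℕ) (he : 0 < e) :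
    PrimeSpectrum.basicOpen (Localization.mk (f ^ e) ⟨g ^ d, ⟨d, rfl⟩⟩ : Localization.Away g) =
      PrimeSpectrum.basicOpen (algebraMap A (Localization.Away g) f) := by
  ext x
  simp only [SetLike.mem_coe, PrimeSpectrum.mem_basicOpen, not_iff_not]
  rw [Localization.mk_eq_mk']
  constructor
  · intro h
    have h2 := Ideal.mul_mem_right (algebraMap A (Localization.Away g) (g ^ d)) _ h
    have h3 : IsLocalization.mk' (Localization.Away g) (f ^ e)
        (⟨g ^ d, ⟨d, rfl⟩⟩ : Submonoid.powers g) * algebraMap A (Localization.Away g) (g ^ d) =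
        algebraMap A (Localization.Away g) (f ^ e) := IsLocalization.mk'_spec _ _ _
    rw [h3, map_pow] at h2
    exact x.isPrime.mem_of_pow_mem e h2
  · intro h
    rw [IsLocalization.mk'_eq_mul_mk'_one, map_pow]
    exact Ideal.mul_mem_right _ _ (Ideal.pow_mem_of_mem _ h e he)


variable (π : (Cone.pointed 𝒜 : Scheme.{u}) ⟶ Proj 𝒜)
    (hπ : ∀ (d : ℕ) (f : A) (hd : 0 < d) (hf : f ∈ 𝒜 d),
        Cone.chart hf hd ≫ π =
          Spec.map (CommRingCat.ofHom (algebraMap (HomogeneousLocalization.Away 𝒜 f) (Localization.Away f))) ≫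
            Proj.awayι 𝒜 f hf hd)

include hπ in
theorem ckey {d e : ℕ} {f g : A} (hf : f ∈ 𝒜 d) (hd : 0 < d) (hg : g ∈ 𝒜 e) (he : 0 < e) :
    Cone.chart hg he ⁻¹ᵁ (π ⁻¹ᵁ Proj.basicOpen 𝒜 f) =
      Cone.chart hg he ⁻¹ᵁ ((Cone.pointed 𝒜).ι ⁻¹ᵁ Cone.coneOpen f) := by
  have h1 : Cone.chart hg he ⁻¹ᵁ (π ⁻¹ᵁ Proj.basicOpen 𝒜 f) =
      (Cone.chart hg he ≫ π) ⁻¹ᵁ Proj.basicOpen 𝒜 f := rfl
  have h2 : Cone.chart hg he ⁻¹ᵁ ((Cone.pointed 𝒜).ι ⁻¹ᵁ Cone.coneOpen f) =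
      (Cone.chart hg he ≫ (Cone.pointed 𝒜).ι) ⁻¹ᵁ Cone.coneOpen f := rfl
  have h3 : (Spec.map (CommRingCat.ofHom (algebraMap (Away 𝒜 g) (Localization.Away g))) ≫
        Proj.awayι 𝒜 g hg he) ⁻¹ᵁ Proj.basicOpen 𝒜 f =
      Spec.map (CommRingCat.ofHom (algebraMap (Away 𝒜 g) (Localization.Away g))) ⁻¹ᵁ
        (Proj.awayι 𝒜 g hg he ⁻¹ᵁ Proj.basicOpen 𝒜 f) := rfl
  have h4 : algebraMap (Away 𝒜 g) (Localization.Away g) (Away.isLocalizationElem hg hf) =
      (Localization.mk (f ^ e) ⟨g ^ d, ⟨d, rfl⟩⟩ : Localization.Away g) := by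
    rw [HomogeneousLocalization.algebraMap_apply, Away.isLocalizationElem, Away.val_mk]
  have h5 : Spec.map (CommRingCat.ofHom (algebraMap (Away 𝒜 g) (Localization.Away g))) ⁻¹ᵁ
      PrimeSpectrum.basicOpen (Away.isLocalizationElem hg hf) =
      PrimeSpectrum.basicOpen (algebraMap (Away 𝒜 g) (Localization.Away g)
        (Away.isLocalizationElem hg hf)) := rfl
  have h6 : Spec.map (CommRingCat.ofHom (algebraMap A (Localization.Away g))) ⁻¹ᵁ
      Cone.coneOpen f = PrimeSpectrum.basicOpen (algebraMap A (Localization.Away g) f) := rfl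
  rw [h1, h2, hπ e g he hg, cchart_ι, h3, Proj.awayι_preimage_basicOpen 𝒜 hg he hf hd, h5, h4,
    basicOpen_mk_eq f g d e he, h6]

include hπ in
theorem cpreimage_basicOpen {d : ℕ} {f : A} (hf : f ∈ 𝒜 d) (hd : 0 < d) :
    π ⁻¹ᵁ Proj.basicOpen 𝒜 f = (Cone.pointed 𝒜).ι ⁻¹ᵁ Cone.coneOpen f := by
  ext x
  obtain ⟨i, y, rfl⟩ := exists_cidx 𝒜 x
  have := ckey 𝒜 π hπ hf hd i.2.2.2 i.2.2.1
  exact (SetLike.ext_iff.1 this y)

theorem opensRange_cchart {d : ℕ} {f : A} (hf : f ∈ 𝒜 d) (hd : 0 < d) :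
    (Cone.chart hf hd).opensRange = (Cone.pointed 𝒜).ι ⁻¹ᵁ Cone.coneOpen f := by
  ext x
  have hr : Set.range (Spec.map (CommRingCat.ofHom (algebraMap A (Localization.Away f)))).base =
      (PrimeSpectrum.basicOpen f : Set (PrimeSpectrum A)) :=
    PrimeSpectrum.localization_away_comap_range (Localization.Away f) f
  constructor
  · rintro ⟨y, rfl⟩
    change (Cone.chart hf hd ≫ (Cone.pointed 𝒜).ι).base y ∈ (PrimeSpectrum.basicOpen f : Set (PrimeSpectrum A))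
    rw [cchart_ι, ← hr]
    exact ⟨y, rfl⟩
  · intro hx
    change (Cone.pointed 𝒜).ι.base x ∈ (PrimeSpectrum.basicOpen f : Set (PrimeSpectrum A)) at hx
    rw [← hr] at hx
    obtain ⟨y, hy⟩ := hx
    refine ⟨y, ?_⟩
    apply (Cone.pointed 𝒜).ι.isOpenEmbedding.injective
    rw [← hy, ← cchart_ι 𝒜 hf hd]
    rfl

include hπ in
theorem isAffineHom_π : IsAffineHom π := by
  apply isAffineHom_of_forall_exists_isAffineOpen
  intro x
  obtain ⟨i, y, hy⟩ : ∃ (i : Σ i : ℕ+, 𝒜 i), x ∈ Set.range (Proj.awayι 𝒜 i.2.1 i.2.2 i.1.2).base :=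
    ⟨(Proj.affineOpenCover 𝒜).idx x, (Proj.affineOpenCover 𝒜).covers x⟩
  have hxf : x ∈ Proj.basicOpen 𝒜 i.2.1 := by
    rw [← Proj.opensRange_awayι 𝒜 i.2.1 i.2.2 i.1.2]
    exact ⟨y, hy⟩
  refine ⟨Proj.basicOpen 𝒜 i.2.1, hxf, Proj.isAffineOpen_basicOpen 𝒜 i.2.1 i.2.2 i.1.2, ?_⟩
  rw [cpreimage_basicOpen 𝒜 π hπ i.2.2 i.1.2, ← opensRange_cchart 𝒜 i.2.2 i.1.2]
  have := isOpenImmersion_cchart 𝒜 i.2.2 i.1.2
  exact isAffineOpen_opensRange _

include hπ in
theorem cmem_iff (p : (Cone.pointed 𝒜 : Scheme.{u})) {d : ℕ} {f : A} (hf : f ∈ 𝒜 d) (hd : 0 < d) :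
    f ∈ (π.base p).asHomogeneousIdeal ↔ f ∈ ((Cone.pointed 𝒜).ι.base p).asIdeal := by
  have h := SetLike.ext_iff.1 (cpreimage_basicOpen 𝒜 π hπ hf hd) p
  have h1 : p ∈ π ⁻¹ᵁ Proj.basicOpen 𝒜 f ↔ f ∉ (π.base p).asHomogeneousIdeal := Iff.rfl
  have h2 : p ∈ (Cone.pointed 𝒜).ι ⁻¹ᵁ Cone.coneOpen f ↔
      f ∉ ((Cone.pointed 𝒜).ι.base p).asIdeal := Iff.rfl
  rw [h1, h2] at h
  exact not_iff_not.1 h

include hπ in
theorem cpointwise (p : (Cone.pointed 𝒜 : Scheme.{u})) :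
    (π.base p).asHomogeneousIdeal =
      (((Cone.pointed 𝒜).ι.base p).asIdeal).homogeneousCore 𝒜 := by
  obtain ⟨i, y, hy⟩ : ∃ (i : Σ i : ℕ+, 𝒜 i),
      π.base p ∈ Set.range (Proj.awayι 𝒜 i.2.1 i.2.2 i.1.2).base :=
    ⟨(Proj.affineOpenCover 𝒜).idx (π.base p), (Proj.affineOpenCover 𝒜).covers (π.base p)⟩
  have hxf : π.base p ∈ Proj.basicOpen 𝒜 i.2.1 := by
    rw [← Proj.opensRange_awayι 𝒜 i.2.1 i.2.2 i.1.2]
    exact ⟨y, hy⟩
  rw [Proj.mem_basicOpen] at hxf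
  have hfP : (i.2.1 : A) ∉ ((Cone.pointed 𝒜).ι.base p).asIdeal := fun h =>
    hxf ((cmem_iff 𝒜 π hπ p i.2.2 i.1.2).2 h)
  apply HomogeneousIdeal.ext'
  intro j a ha
  have haf : a * (i.2.1 : A) ∈ 𝒜 (j + (i.1 : ℕ)) := SetLike.mul_mem_graded ha i.2.2
  have hpos : 0 < j + (i.1 : ℕ) := Nat.add_pos_right _ i.1.2
  have key := cmem_iff 𝒜 π hπ p haf hpos
  have hprime1 : (π.base p).asHomogeneousIdeal.toIdeal.IsPrime := (π.base p).isPrime
  have hprime2 : ((Cone.pointed 𝒜).ι.base p).asIdeal.IsPrime := ((Cone.pointed 𝒜).ι.base p).isPrime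
  constructor
  · intro h
    have h1 : a * (i.2.1 : A) ∈ (π.base p).asHomogeneousIdeal :=
      Ideal.mul_mem_right _ (π.base p).asHomogeneousIdeal.toIdeal h
    have h2 := key.1 h1
    have h3 : a ∈ ((Cone.pointed 𝒜).ι.base p).asIdeal :=
      (hprime2.mem_or_mem h2).resolve_right hfP
    exact Ideal.mem_homogeneousCore_of_homogeneous_of_mem ⟨j, ha⟩ h3
  · intro h
    have h3 : a ∈ ((Cone.pointed 𝒜).ι.base p).asIdeal := Ideal.toIdeal_homogeneousCore_le 𝒜 _ h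
    have h2 : a * (i.2.1 : A) ∈ ((Cone.pointed 𝒜).ι.base p).asIdeal := Ideal.mul_mem_right _ _ h3
    have h1 := key.2 h2
    exact (hprime1.mem_or_mem h1).resolve_right hxf

include hπ in
theorem csurjective : Surjective π := by
  refine ⟨fun x => ?_⟩
  have hmem : (⟨x.asHomogeneousIdeal.toIdeal, x.isPrime⟩ : PrimeSpectrum A) ∈
      (PrimeSpectrum.zeroLocus ((HomogeneousIdeal.irrelevant 𝒜).toIdeal : Set A))ᶜ := by
    intro hmem
    exact x.not_irrelevant_le ((PrimeSpectrum.mem_zeroLocus _ _).mp hmem)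
  let p : (Cone.pointed 𝒜 : Scheme.{u}) := ⟨⟨x.asHomogeneousIdeal.toIdeal, x.isPrime⟩, hmem⟩
  refine ⟨p, ?_⟩
  have h := cpointwise 𝒜 π hπ p
  have h2 : ((Cone.pointed 𝒜).ι.base p).asIdeal = x.asHomogeneousIdeal.toIdeal := rfl
  rw [h2, HomogeneousIdeal.toIdeal_homogeneousCore_eq_self] at h
  exact ProjectiveSpectrum.ext h

end helpers

/-- Let S be a commutative ℕ-graded R-algebra, E the pointed affine cone (the open complement of the
vertex V(S_+) in Spec S) and X = Proj S, and let π : E → X be the canonical retraction,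
characterised (hypothesis hπ) by its agreement on each chart Spec S_f → E, f homogeneous of positive
degree, with Spec of S_(f) → S_f followed by the standard open immersion Spec S_(f) → X. Then π is
an affine and surjective morphism; the inverse image under π of D_+(f) is the open D(f) ∩ E = D(f)
of E for every homogeneous f of positive degree; and π sends a point of E, a prime p of S not
containing S_+, to the homogeneous prime whose homogeneous elements are those of p. -/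
theorem result {R A : Type u} [CommRing R] [CommRing A] [Algebra R A] (𝒜 : ℕ → Submodule R A) [GradedAlgebra 𝒜]
    (π : (Cone.pointed 𝒜 : Scheme.{u}) ⟶ Proj 𝒜)
    (hπ : ∀ (d : ℕ) (f : A) (hd : 0 < d) (hf : f ∈ 𝒜 d),
        Cone.chart hf hd ≫ π =
          Spec.map (CommRingCat.ofHom (algebraMap (HomogeneousLocalization.Away 𝒜 f) (Localization.Away f))) ≫
            Proj.awayι 𝒜 f hf hd) :
    IsAffineHom π ∧ Surjective π ∧
      (∀ (d : ℕ) (f : A), 0 < d → f ∈ 𝒜 d →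
        π ⁻¹ᵁ Proj.basicOpen 𝒜 f = (Cone.pointed 𝒜).ι ⁻¹ᵁ Cone.coneOpen f) ∧
      ∀ p : (Cone.pointed 𝒜 : Scheme.{u}),
        (π.base p).asHomogeneousIdeal = (((Cone.pointed 𝒜).ι.base p).asIdeal).homogeneousCore 𝒜 := by
  exact ⟨isAffineHom_π 𝒜 π hπ, csurjective 𝒜 π hπ,
    fun d f hd hf => cpreimage_basicOpen 𝒜 π hπ hf hd, cpointwise 𝒜 π hπ⟩

end Groth.Agent.S3575
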