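import Groth.Statements.S3576
import Mathlib
import Groth.Agent.S3575

set_option autoImplicit false
universe u
open CategoryTheory CategoryTheory.Limits AlgebraicGeometry
open EGA2

namespace Groth.Agent.S3576

open HomogeneousLocalization

section laurent

variable {R A : Type u} [CommRing R] [CommRing A] [Algebra R A] (𝒜 : ℕ → Submodule R A) [GradedAlgebra 𝒜]
variable {f : A} (hf : f ∈ 𝒜 1)

open LaurentPolynomial

noncomputable def fUnit (f : A) : (Localization.Away f)ˣ :=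
  (IsLocalization.Away.algebraMap_isUnit (S := Localization.Away f) f).unit

theorem fUnit_val (f : A) : (fUnit f).val = algebraMap A (Localization.Away f) f := rfl

noncomputable def Φ (f : A) : (Away 𝒜 f)[T;T⁻¹] →+* Localization.Away f :=
  LaurentPolynomial.eval₂ (algebraMap (Away 𝒜 f) (Localization.Away f)) (fUnit f)

omit [GradedAlgebra 𝒜] in
theorem mem_smul_one {i : ℕ} {a : A} (ha : a ∈ 𝒜 i) : a ∈ 𝒜 (i • 1) := by
  rwa [smul_eq_mul, mul_one]

include hf in
theorem mk_add (i : ℕ) (a b : A) (ha : a ∈ 𝒜 (i • 1)) (hb : b ∈ 𝒜 (i • 1)) :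
    Away.mk 𝒜 hf i (a + b) (add_mem ha hb) = Away.mk 𝒜 hf i a ha + Away.mk 𝒜 hf i b hb := by
  apply HomogeneousLocalization.val_injective
  rw [HomogeneousLocalization.val_add, Away.val_mk, Away.val_mk, Away.val_mk, Localization.add_mk_self]

noncomputable def lcomp (i : ℕ) : 𝒜 i →+ (Away 𝒜 f)[T;T⁻¹] where
  toFun a := C (Away.mk 𝒜 hf i a.1 (mem_smul_one 𝒜 a.2)) * T i
  map_zero' := by
    have : Away.mk 𝒜 hf i (0 : A) (mem_smul_one 𝒜 (zero_mem _)) = 0 := by
      apply HomogeneousLocalization.val_injective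
      rw [Away.val_mk, HomogeneousLocalization.val_zero, Localization.mk_zero]
    simp only [ZeroMemClass.coe_zero]
    rw [this, map_zero, zero_mul]
  map_add' a b := by
    simp only [Submodule.coe_add]
    rw [mk_add 𝒜 hf i a.1 b.1 (mem_smul_one 𝒜 a.2) (mem_smul_one 𝒜 b.2), map_add, add_mul]

theorem lcomp_apply (i : ℕ) (a : 𝒜 i) :
    lcomp 𝒜 hf i a = C (Away.mk 𝒜 hf i a.1 (mem_smul_one 𝒜 a.2)) * T i := rfl

include hf in
theorem mk_one' (a : A) (ha : a ∈ 𝒜 (0 • 1)) (h : a = 1) : Away.mk 𝒜 hf 0 a ha = 1 := by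
  subst h
  apply HomogeneousLocalization.val_injective
  rw [Away.val_mk, HomogeneousLocalization.val_one]
  simp only [pow_zero]
  exact Localization.mk_one

include hf in
theorem mk_mul' (i j : ℕ) (a b c : A) (ha : a ∈ 𝒜 (i • 1)) (hb : b ∈ 𝒜 (j • 1))
    (hc : c ∈ 𝒜 ((i + j) • 1)) (h : c = a * b) :
    Away.mk 𝒜 hf (i + j) c hc = Away.mk 𝒜 hf i a ha * Away.mk 𝒜 hf j b hb := by
  subst h
  apply HomogeneousLocalization.val_injective
  rw [HomogeneousLocalization.val_mul, Away.val_mk, Away.val_mk, Away.val_mk,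
    Localization.mk_mul]
  congr 1
  ext
  simp [pow_add]

noncomputable def Ψ₀' : (DirectSum ℕ fun i => 𝒜 i) →+* (Away 𝒜 f)[T;T⁻¹] :=
  DirectSum.toSemiring (lcomp 𝒜 hf)
    (by
      rw [lcomp_apply, mk_one' 𝒜 hf _ _ (SetLike.coe_gOne 𝒜), map_one, one_mul]
      rfl)
    (by
      intro i j a b
      rw [lcomp_apply, lcomp_apply, lcomp_apply,
        mk_mul' 𝒜 hf i j a.1 b.1 _ (mem_smul_one 𝒜 a.2) (mem_smul_one 𝒜 b.2) _
          (SetLike.coe_gMul 𝒜 a b), map_mul]
      push_cast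
      rw [T_add]
      ring)

noncomputable def Ψ₀ : A →+* (Away 𝒜 f)[T;T⁻¹] :=
  (Ψ₀' 𝒜 hf).comp (DirectSum.decomposeRingEquiv 𝒜).toRingHom

theorem Ψ₀_apply {i : ℕ} {a : A} (ha : a ∈ 𝒜 i) :
    Ψ₀ 𝒜 hf a = C (Away.mk 𝒜 hf i a (mem_smul_one 𝒜 ha)) * T i := by
  change Ψ₀' 𝒜 hf (DirectSum.decompose 𝒜 a) = _
  rw [DirectSum.decompose_of_mem 𝒜 ha]
  change DirectSum.toSemiring (lcomp 𝒜 hf) _ _ (DirectSum.of (fun i => 𝒜 i) i ⟨a, ha⟩) = _
  rw [DirectSum.toSemiring_of, lcomp_apply]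

theorem Ψ₀_f : Ψ₀ 𝒜 hf f = T 1 := by
  rw [Ψ₀_apply 𝒜 hf hf]
  have : Away.mk 𝒜 hf 1 f (mem_smul_one 𝒜 hf) = 1 := by
    apply HomogeneousLocalization.val_injective
    rw [Away.val_mk, HomogeneousLocalization.val_one]
    simp only [pow_one]
    exact Localization.mk_self (⟨f, ⟨1, pow_one f⟩⟩ : Submonoid.powers f)
  rw [this, map_one, one_mul]
  rfl

noncomputable def Ψ : Localization.Away f →+* (Away 𝒜 f)[T;T⁻¹] :=
  IsLocalization.Away.lift (S := Localization.Away f) f (g := Ψ₀ 𝒜 hf)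
    (by rw [Ψ₀_f]; exact isUnit_T 1)

theorem Ψ_algebraMap (a : A) : Ψ 𝒜 hf (algebraMap A (Localization.Away f) a) = Ψ₀ 𝒜 hf a :=
  IsLocalization.Away.lift_eq _ _ _

theorem Φ_C (c : Away 𝒜 f) : Φ 𝒜 f (C c) = algebraMap (Away 𝒜 f) (Localization.Away f) c :=
  LaurentPolynomial.eval₂_C _ _ _

theorem Φ_T (n : ℤ) : Φ 𝒜 f (T n) = ((fUnit f) ^ n).val :=
  LaurentPolynomial.eval₂_T _ _ _

theorem Φ_Ψ₀ (a : A) : Φ 𝒜 f (Ψ₀ 𝒜 hf a) = algebraMap A (Localization.Away f) a := by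
  induction a using DirectSum.Decomposition.inductionOn 𝒜 with
  | zero => simp
  | @homogeneous i a =>
    rw [Ψ₀_apply 𝒜 hf a.2, map_mul, Φ_C, Φ_T, zpow_natCast, Units.val_pow_eq_pow_val, fUnit_val,
      HomogeneousLocalization.algebraMap_apply, Away.val_mk, ← map_pow, Localization.mk_eq_mk',
      IsLocalization.mk'_spec]
  | add a b ha hb => rw [map_add, map_add, ha, hb, map_add]

theorem Φ_Ψ : (Φ 𝒜 f).comp (Ψ 𝒜 hf) = RingHom.id _ := by
  apply IsLocalization.ringHom_ext (Submonoid.powers f)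
  ext a
  simp only [RingHom.coe_comp, Function.comp_apply, RingHomCompTriple.comp_eq]
  rw [Ψ_algebraMap, Φ_Ψ₀]

theorem Ψ_Φ_C (c : Away 𝒜 f) : Ψ 𝒜 hf (Φ 𝒜 f (C c)) = C c := by
  obtain ⟨i, a, ha, rfl⟩ := Away.mk_surjective 𝒜 hf c
  have ha' : a ∈ 𝒜 i := by rwa [smul_eq_mul, mul_one] at ha
  rw [Φ_C, HomogeneousLocalization.algebraMap_apply, Away.val_mk]
  have h1 : (Localization.mk a ⟨f ^ i, ⟨i, rfl⟩⟩ : Localization.Away f) *
      algebraMap A (Localization.Away f) (f ^ i) = algebraMap A (Localization.Away f) a := by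
    rw [Localization.mk_eq_mk', IsLocalization.mk'_spec]
  have h2 := congrArg (Ψ 𝒜 hf) h1
  rw [map_mul, Ψ_algebraMap, Ψ_algebraMap, map_pow, Ψ₀_f, Ψ₀_apply 𝒜 hf ha', T_pow, mul_one] at h2
  exact (isUnit_T (i : ℤ)).mul_left_inj.1 h2

theorem Ψ_Φ_T : Ψ 𝒜 hf (Φ 𝒜 f (T 1)) = T 1 := by
  rw [Φ_T, zpow_one, fUnit_val, Ψ_algebraMap, Ψ₀_f]

theorem Ψ_Φ : (Ψ 𝒜 hf).comp (Φ 𝒜 f) = RingHom.id _ := by
  apply IsLocalization.ringHom_ext (Submonoid.powers (Polynomial.X : Polynomial (Away 𝒜 f)))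
  apply Polynomial.ringHom_ext
  · intro c
    simp only [RingHom.coe_comp, Function.comp_apply, RingHomCompTriple.comp_eq,
      algebraMap_eq_toLaurent, Polynomial.toLaurent_C]
    exact Ψ_Φ_C 𝒜 hf c
  · simp only [RingHom.coe_comp, Function.comp_apply, RingHomCompTriple.comp_eq,
      algebraMap_eq_toLaurent, Polynomial.toLaurent_X]
    exact Ψ_Φ_T 𝒜 hf

noncomputable def laurentEquiv : (Away 𝒜 f)[T;T⁻¹] ≃+* Localization.Away f :=
  RingEquiv.ofRingHom (Φ 𝒜 f) (Ψ 𝒜 hf) (Φ_Ψ 𝒜 hf) (Ψ_Φ 𝒜 hf)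

theorem laurentEquiv_C (c : Away 𝒜 f) :
    laurentEquiv 𝒜 hf (C c) = algebraMap (Away 𝒜 f) (Localization.Away f) c := Φ_C 𝒜 c

end laurent

section fibre
open Groth.Agent.S3574 Groth.Agent.S3575
open scoped AlgebraMonoidAlgebra
open LaurentPolynomial

variable {R A : Type u} [CommRing R] [CommRing A] [Algebra R A] (𝒜 : ℕ → Submodule R A) [GradedAlgebra 𝒜]
variable (π : (Cone.pointed 𝒜 : Scheme.{u}) ⟶ Proj 𝒜)
    (hπ : ∀ (d : ℕ) (f : A) (hd : 0 < d) (hf : f ∈ 𝒜 d),
        Cone.chart hf hd ≫ π =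
          Spec.map (CommRingCat.ofHom (algebraMap (HomogeneousLocalization.Away 𝒜 f) (Localization.Away f))) ≫
            Proj.awayι 𝒜 f hf hd)

include hπ in
theorem isPullback_chart {d : ℕ} {f : A} (hf : f ∈ 𝒜 d) (hd : 0 < d) :
    IsPullback (Spec.map (CommRingCat.ofHom (algebraMap (Away 𝒜 f) (Localization.Away f))))
      (Cone.chart hf hd) (Proj.awayι 𝒜 f hf hd) π := by
  haveI := isOpenImmersion_cchart 𝒜 hf hd
  apply IsOpenImmersion.isPullback _ _ _ _ (hπ d f hd hf)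
  rw [Proj.opensRange_awayι, cpreimage_basicOpen 𝒜 π hπ hf hd, opensRange_cchart]

theorem exists_deg_one (hgen : (HomogeneousIdeal.irrelevant 𝒜).toIdeal = Ideal.span (𝒜 1 : Set A))
    (x : Proj 𝒜) : ∃ f ∈ 𝒜 1, x ∈ Proj.basicOpen 𝒜 f := by
  by_contra h
  push Not at h
  apply x.not_irrelevant_le
  intro a ha
  have ha' : a ∈ (HomogeneousIdeal.irrelevant 𝒜).toIdeal := ha
  rw [hgen] at ha'
  exact Ideal.span_le.2 (fun f hf => by_contra fun hfx => h f hf hfx) ha'

include hπ in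
theorem fibre_iso {f : A} (hf : f ∈ 𝒜 1) (x : Proj 𝒜) (hx : x ∈ Proj.basicOpen 𝒜 f) :
    ∃ e : pullback π ((Proj 𝒜).fromSpecResidueField x) ≅
        Spec (CommRingCat.of (LaurentPolynomial ((Proj 𝒜).residueField x))),
      e.hom ≫ Spec.map (CommRingCat.ofHom (algebraMap ((Proj 𝒜).residueField x)
        (LaurentPolynomial ((Proj 𝒜).residueField x)))) =
        pullback.snd π ((Proj 𝒜).fromSpecResidueField x) := by
  have hrange : Set.range ((Proj 𝒜).fromSpecResidueField x).base ⊆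
      Set.range (Proj.awayι 𝒜 f hf one_pos).base := by
    rw [Scheme.range_fromSpecResidueField]
    have : x ∈ (Proj.awayι 𝒜 f hf one_pos).opensRange := by
      rw [Proj.opensRange_awayι]; exact hx
    exact Set.singleton_subset_iff.2 this
  obtain ⟨l, hl⟩ : ∃ l : Spec ((Proj 𝒜).residueField x) ⟶ Spec (CommRingCat.of (Away 𝒜 f)),
      l ≫ Proj.awayι 𝒜 f hf one_pos = (Proj 𝒜).fromSpecResidueField x :=
    ⟨IsOpenImmersion.lift (Proj.awayι 𝒜 f hf one_pos) ((Proj 𝒜).fromSpecResidueField x) hrange,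
      IsOpenImmersion.lift_fac _ _ _⟩
  obtain ⟨ψ, hψ⟩ : ∃ ψ : CommRingCat.of (Away 𝒜 f) ⟶ (Proj 𝒜).residueField x, Spec.map ψ = l :=
    ⟨Spec.preimage l, Spec.map_preimage l⟩
  letI : Algebra (Away 𝒜 f) ((Proj 𝒜).residueField x) := ψ.hom.toAlgebra
  have h0 := CommRingCat.isPushout_of_isPushout (Away 𝒜 f) (LaurentPolynomial (Away 𝒜 f))
    ((Proj 𝒜).residueField x) (LaurentPolynomial ((Proj 𝒜).residueField x))
  let e : CommRingCat.of (LaurentPolynomial (Away 𝒜 f)) ≅ CommRingCat.of (Localization.Away f) :=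
    (laurentEquiv 𝒜 hf).toCommRingCatIso
  have h1 : IsPushout (CommRingCat.ofHom (algebraMap (Away 𝒜 f) (Localization.Away f))) ψ
      (e.inv ≫ CommRingCat.ofHom (algebraMap (LaurentPolynomial (Away 𝒜 f))
        (LaurentPolynomial ((Proj 𝒜).residueField x))))
      (CommRingCat.ofHom (algebraMap ((Proj 𝒜).residueField x)
        (LaurentPolynomial ((Proj 𝒜).residueField x)))) := by
    refine h0.of_iso (Iso.refl _) e (Iso.refl _) (Iso.refl _) ?_ ?_ ?_ ?_
    · ext c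
      simp only [Iso.refl_hom, Category.id_comp]
      exact laurentEquiv_C 𝒜 hf c
    · simp only [Iso.refl_hom, Category.id_comp, Category.comp_id]
      rfl
    · simp
    · exact (Category.id_comp _).symm
  have h2 := isPullback_SpecMap_of_isPushout _ _ _ _ h1
  have h3 := h2.paste_horiz (isPullback_chart 𝒜 π hπ hf one_pos).flip
  rw [hψ, hl] at h3
  exact ⟨h3.isoPullback.symm, h3.isoPullback_inv_snd⟩

theorem finiteType_algebraMap_away {f : A} (hf : f ∈ 𝒜 1) :
    (algebraMap (Away 𝒜 f) (Localization.Away f)).FiniteType := by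
  have h1 : (algebraMap (Away 𝒜 f) (LaurentPolynomial (Away 𝒜 f))).FiniteType := by
    rw [RingHom.finiteType_algebraMap]
    infer_instance
  have h2 : ((laurentEquiv 𝒜 hf).toRingHom).FiniteType :=
    RingHom.FiniteType.of_surjective _ (laurentEquiv 𝒜 hf).surjective
  have h3 := h2.comp h1
  have h4 : ((laurentEquiv 𝒜 hf).toRingHom).comp
      (algebraMap (Away 𝒜 f) (LaurentPolynomial (Away 𝒜 f))) =
      algebraMap (Away 𝒜 f) (Localization.Away f) := by
    ext c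
    exact laurentEquiv_C 𝒜 hf c
  rwa [h4] at h3

include hπ in
theorem locallyOfFiniteType_π
    (hgen : (HomogeneousIdeal.irrelevant 𝒜).toIdeal = Ideal.span (𝒜 1 : Set A)) :
    LocallyOfFiniteType π := by
  have hopen : ∀ f : {f : A // f ∈ 𝒜 1}, IsOpenImmersion (Cone.chart f.2 one_pos) := fun f =>
    isOpenImmersion_cchart 𝒜 f.2 one_pos
  haveI : IsZariskiLocalAtSource @LocallyOfFiniteType.{u} :=
    HasRingHomProperty.instIsZariskiLocalAtSource
  apply IsZariskiLocalAtSource.of_iSup_eq_top (P := @LocallyOfFiniteType)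
    (fun f : {f : A // f ∈ 𝒜 1} => (Cone.chart f.2 one_pos).opensRange)
  · rw [eq_top_iff]
    intro p _
    have hp : (show PrimeSpectrum A from (Cone.pointed 𝒜).ι p) ∉
        PrimeSpectrum.zeroLocus ((HomogeneousIdeal.irrelevant 𝒜).toIdeal : Set A) := p.2
    rw [hgen, PrimeSpectrum.zeroLocus_span, PrimeSpectrum.mem_zeroLocus, Set.not_subset] at hp
    obtain ⟨f, hf, hfp⟩ := hp
    rw [TopologicalSpace.Opens.mem_iSup]
    refine ⟨⟨f, hf⟩, ?_⟩
    rw [opensRange_cchart]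
    exact hfp
  · intro f
    have := hopen f
    rw [← Scheme.Hom.isoOpensRange_inv_comp (Cone.chart f.2 one_pos), Category.assoc,
      hπ 1 f.1 one_pos f.2]
    have h1 : LocallyOfFiniteType (Spec.map (CommRingCat.ofHom
        (algebraMap (Away 𝒜 f.1) (Localization.Away f.1)))) := by
      rw [HasRingHomProperty.Spec_iff (P := @LocallyOfFiniteType)]
      exact finiteType_algebraMap_away 𝒜 f.2
    infer_instance

end fibre

/-- Over an affine base Spec R: let S be a graded R-algebra whose irrelevant ideal is generated by its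
degree-one elements, E the pointed affine cone of S and π : E → X = Proj S the canonical retraction
(the morphism restricting on each chart D(f), f homogeneous of positive degree, to Spec S_f → Spec
S_(f) → Proj S). Then π is of finite type, and for every point x of X the fibre of π at x is
isomorphic over the residue field κ(x) to Spec κ(x)[T, T⁻¹]. -/
theorem result {R A : Type u} [CommRing R] [CommRing A] [Algebra R A] (𝒜 : ℕ → Submodule R A) [GradedAlgebra 𝒜]
    (hgen : (HomogeneousIdeal.irrelevant 𝒜).toIdeal = Ideal.span (𝒜 1 : Set A))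
    (π : (Cone.pointed 𝒜 : Scheme.{u}) ⟶ Proj 𝒜)
    (hπ : ∀ (d : ℕ) (f : A) (hd : 0 < d) (hf : f ∈ 𝒜 d),
        Cone.chart hf hd ≫ π =
          Spec.map (CommRingCat.ofHom (algebraMap (HomogeneousLocalization.Away 𝒜 f) (Localization.Away f))) ≫
            Proj.awayι 𝒜 f hf hd)
    (x : Proj 𝒜) :
    LocallyOfFiniteType π ∧ QuasiCompact π ∧
      ∃ e : pullback π ((Proj 𝒜).fromSpecResidueField x) ≅
          Spec (CommRingCat.of (LaurentPolynomial ((Proj 𝒜).residueField x))),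
        e.hom ≫ Spec.map (CommRingCat.ofHom (algebraMap ((Proj 𝒜).residueField x)
          (LaurentPolynomial ((Proj 𝒜).residueField x)))) = pullback.snd π ((Proj 𝒜).fromSpecResidueField x) := by
  obtain ⟨f, hf, hx⟩ := exists_deg_one 𝒜 hgen x
  have haff : IsAffineHom π := Groth.Agent.S3575.isAffineHom_π 𝒜 π hπ
  exact ⟨locallyOfFiniteType_π 𝒜 π hπ hgen, inferInstance, fibre_iso 𝒜 π hπ hf x hx⟩

end Groth.Agent.S3576
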