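import Groth.Statements.S3578
import Mathlib
import Groth.Agent.Helper19.ProjDict
-- import your own Groth.Agent.* helpers here

set_option autoImplicit false
universe u
open EGA2

namespace Groth.Agent.S3578

/-- Via the correspondence between closed subsets of Proj S and radical graded ideals of S_+: let S be a
graded ring and Z a closed subset of Proj S, with J = S_+ ∩ (vanishing ideal of Z). Then Z is
irreducible if and only if J is a prime ideal of the ring-without-unit S_+: J ≠ S_+ and a product of
two elements of S_+ lies in J only if one factor does. -/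
theorem result {R A : Type u} [CommRing R] [CommRing A] [Algebra R A] (𝒜 : ℕ → Submodule R A) [GradedAlgebra 𝒜]
    (Z : Set (ProjectiveSpectrum 𝒜)) (hZ : IsClosed Z) :
    IsIrreducible Z ↔
      (¬ (HomogeneousIdeal.irrelevant 𝒜).toIdeal ≤ (ProjectiveSpectrum.vanishingIdeal Z).toIdeal ∧
        ∀ f ∈ (HomogeneousIdeal.irrelevant 𝒜).toIdeal, ∀ g ∈ (HomogeneousIdeal.irrelevant 𝒜).toIdeal,
          f * g ∈ (ProjectiveSpectrum.vanishingIdeal Z).toIdeal →
            f ∈ (ProjectiveSpectrum.vanishingIdeal Z).toIdeal ∨ g ∈ (ProjectiveSpectrum.vanishingIdeal Z).toIdeal) := by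
  have hZeq : ProjectiveSpectrum.zeroLocus 𝒜
      ((ProjectiveSpectrum.vanishingIdeal Z : HomogeneousIdeal 𝒜) : Set A) = Z := by
    rw [ProjectiveSpectrum.zeroLocus_vanishingIdeal_eq_closure, hZ.closure_eq]
  constructor
  · intro hirr
    obtain ⟨x, hx⟩ := Groth.Agent.Helper19.ProjDict.exists_generic 𝒜 Z hirr hZ
    have hI : ProjectiveSpectrum.vanishingIdeal Z = x.asHomogeneousIdeal := by
      rw [hx, ProjectiveSpectrum.vanishingIdeal_closure, ProjectiveSpectrum.vanishingIdeal_singleton]
    rw [hI]
    refine ⟨fun h => x.not_irrelevant_le h, ?_⟩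
    intro f _ g _ hfg
    exact x.isPrime.mem_or_mem hfg
  · rintro ⟨hnle, hprime⟩
    obtain ⟨h, hhm, hhI⟩ := SetLike.not_le_iff_exists.mp hnle
    have key : ∀ a : A, a * h ∈ (ProjectiveSpectrum.vanishingIdeal Z).toIdeal →
        a ∈ (ProjectiveSpectrum.vanishingIdeal Z).toIdeal := by
      intro a hah
      have ham : ∀ h' ∈ (HomogeneousIdeal.irrelevant 𝒜).toIdeal,
          a * h' ∈ (ProjectiveSpectrum.vanishingIdeal Z).toIdeal := by
        intro h' hh'
        have h1 : (a * h') * h ∈ (ProjectiveSpectrum.vanishingIdeal Z).toIdeal := by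
          rw [mul_right_comm]
          exact Ideal.mul_mem_right h' _ hah
        rcases hprime (a * h') (Ideal.mul_mem_left _ a hh') h hhm h1 with h2 | h2
        · exact h2
        · exact absurd h2 hhI
      show a ∈ ProjectiveSpectrum.vanishingIdeal Z
      rw [ProjectiveSpectrum.mem_vanishingIdeal]
      intro z hz
      have hIz : ∀ b ∈ (ProjectiveSpectrum.vanishingIdeal Z).toIdeal,
          b ∈ z.asHomogeneousIdeal.toIdeal := by
        intro b hb
        exact (ProjectiveSpectrum.mem_vanishingIdeal Z b).mp hb z hz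
      obtain ⟨h', hh'm, hh'z⟩ := SetLike.not_le_iff_exists.mp z.not_irrelevant_le
      rcases z.isPrime.mem_or_mem (hIz _ (ham h' hh'm)) with h1 | h1
      · exact h1
      · exact absurd h1 hh'z
    have hIprime : (ProjectiveSpectrum.vanishingIdeal Z).toIdeal.IsPrime := by
      refine ⟨?_, ?_⟩
      · intro htop
        apply hnle
        rw [htop]
        exact le_top
      · intro a b hab
        have h1 : (a * h) * (b * h) ∈ (ProjectiveSpectrum.vanishingIdeal Z).toIdeal := by
          have h2 : (a * h) * (b * h) = (a * b) * (h * h) := by ring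
          rw [h2]
          exact Ideal.mul_mem_right _ _ hab
        rcases hprime (a * h) (Ideal.mul_mem_left _ a hhm) (b * h) (Ideal.mul_mem_left _ b hhm) h1
          with h2 | h2
        · exact Or.inl (key a h2)
        · exact Or.inr (key b h2)
    let x : ProjectiveSpectrum 𝒜 := ⟨ProjectiveSpectrum.vanishingIdeal Z, hIprime, fun h => hnle h⟩
    have hZx : Z = closure {x} := by
      rw [Groth.Agent.Helper19.ProjDict.closure_singleton, ← hZeq]
    rw [hZx]
    exact isIrreducible_singleton.closure

end Groth.Agent.S3578
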