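import Groth.Statements.S3581
import Mathlib

set_option autoImplicit false
universe u
open CategoryTheory CategoryTheory.Limits AlgebraicGeometry
open EGA2

namespace Groth.Agent.S3581

section helpers
variable (A : Type u) [CommRing A]

/-- homogeneous polynomial in one variable -/
theorem eq_monomial_of_isHomogeneous (p : MvPolynomial (Fin 1) A) (k : ℕ) (hp : p.IsHomogeneous k) :
    p = MvPolynomial.C (p.coeff (Finsupp.single 0 k)) * MvPolynomial.X 0 ^ k := by
  rw [MvPolynomial.C_mul_X_pow_eq_monomial]
  ext d
  rw [MvPolynomial.coeff_monomial]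
  split_ifs with h
  · rw [h]
  · by_contra hne
    apply h
    have := hp hne
    refine Finsupp.ext fun i => ?_
    obtain rfl : i = 0 := Subsingleton.elim _ _
    simp only [Finsupp.single_eq_same]
    rw [← this]
    simp [Finsupp.weight, Finsupp.linearCombination, Finsupp.sum_fintype]

end helpers

section helpers2
variable (A : Type u) [CommRing A]

noncomputable abbrev x0 : MvPolynomial (Fin 1) A := MvPolynomial.X 0

theorem hx0 : x0 A ∈ CohB1.polyGrading 0 A 1 := MvPolynomial.isHomogeneous_X A 0

noncomputable abbrev φ : A →+* HomogeneousLocalization.Away (CohB1.polyGrading 0 A) (x0 A) :=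
  (HomogeneousLocalization.fromZeroRingHom (CohB1.polyGrading 0 A) _).comp
    (algebraMap A (CohB1.polyGrading 0 A 0))

theorem val_φ (a : A) : (φ A a).val = 
    algebraMap (MvPolynomial (Fin 1) A) (Localization.Away (x0 A)) (MvPolynomial.C a) := by
  rw [← Localization.mk_one_eq_algebraMap]
  rfl

theorem φ_injective : Function.Injective (φ A) := by
  rw [injective_iff_map_eq_zero]
  intro a ha
  have h1 : (φ A a).val = 0 := by rw [ha]; exact HomogeneousLocalization.val_zero
  rw [val_φ, IsLocalization.map_eq_zero_iff (Submonoid.powers (x0 A))] at h1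
  obtain ⟨⟨_, n, rfl⟩, hn⟩ := h1
  simp only at hn
  rw [mul_comm, MvPolynomial.C_mul_X_pow_eq_monomial, MvPolynomial.monomial_eq_zero] at hn
  exact hn

theorem φ_surjective : Function.Surjective (φ A) := by
  intro z
  obtain ⟨n, p, hp, rfl⟩ := HomogeneousLocalization.Away.mk_surjective _ (hx0 A) z
  have hp' : p.IsHomogeneous n := by simpa using hp
  refine ⟨p.coeff (Finsupp.single 0 n), ?_⟩
  apply HomogeneousLocalization.val_injective
  rw [val_φ, HomogeneousLocalization.Away.val_mk, ← Localization.mk_one_eq_algebraMap,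
    Localization.mk_eq_mk_iff, Localization.r_iff_exists]
  refine ⟨1, ?_⟩
  simp only [OneMemClass.coe_one, one_mul]
  conv_rhs => rw [eq_monomial_of_isHomogeneous A p n hp']
  ring

end helpers2

section helpers3
variable (A : Type u) [CommRing A]

theorem basicOpen_eq_top : Proj.basicOpen (CohB1.polyGrading 0 A) (x0 A) = ⊤ := by
  have := Proj.iSup_basicOpen_eq_top' (CohB1.polyGrading 0 A) (fun _ : Unit => x0 A)
    (fun _ => ⟨1, hx0 A⟩) ?_
  · simpa using this
  · rw [eq_top_iff]
    rintro p -
    induction p using MvPolynomial.induction_on with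
    | C a => 
      have : (MvPolynomial.C a : MvPolynomial (Fin 1) A) = 
          algebraMap (CohB1.polyGrading 0 A 0) _ (algebraMap A (CohB1.polyGrading 0 A 0) a) := rfl
      rw [this]
      exact Subalgebra.algebraMap_mem _ _
    | add p q hp hq => exact Subalgebra.add_mem _ hp hq
    | mul_X p i hp => 
      refine Subalgebra.mul_mem _ hp (Algebra.subset_adjoin ?_)
      obtain rfl : i = 0 := Subsingleton.elim _ _
      exact ⟨(), rfl⟩

theorem result' : IsIso (CohB1.ProjSpace.toSpec 0 A) := by
  have h1 : IsIso (Proj.awayι (CohB1.polyGrading 0 A) (x0 A) (hx0 A) one_pos) := by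
    apply isIso_of_isOpenImmersion_of_opensRange_eq_top
    rw [Proj.opensRange_awayι, basicOpen_eq_top]
  have h2 : Proj.awayι (CohB1.polyGrading 0 A) (x0 A) (hx0 A) one_pos ≫
      (Proj.toSpecZero (CohB1.polyGrading 0 A) ≫
        Spec.map (CommRingCat.ofHom (algebraMap A (CohB1.polyGrading 0 A 0)))) = 
      Spec.map (CommRingCat.ofHom (φ A)) := by
    rw [Proj.awayι_toSpecZero_assoc, ← Spec.map_comp]
    rfl
  have h3 : IsIso (CommRingCat.ofHom (φ A)) :=
    (ConcreteCategory.isIso_iff_bijective _).2 ⟨φ_injective A, φ_surjective A⟩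
  have h4 : IsIso (Proj.awayι (CohB1.polyGrading 0 A) (x0 A) (hx0 A) one_pos ≫
      (Proj.toSpecZero (CohB1.polyGrading 0 A) ≫
        Spec.map (CommRingCat.ofHom (algebraMap A (CohB1.polyGrading 0 A 0))))) := by
    rw [h2]; infer_instance
  exact @IsIso.of_isIso_comp_left _ _ _ _ _
    (Proj.awayι (CohB1.polyGrading 0 A) (x0 A) (hx0 A) one_pos)
    (Proj.toSpecZero (CohB1.polyGrading 0 A) ≫
        Spec.map (CommRingCat.ofHom (algebraMap A (CohB1.polyGrading 0 A 0)))) h1 h4

end helpers3

/-- Over an affine base Spec A, Proj of the graded polynomial algebra A[T] (T of degree one) is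
identified with Spec A by its structure morphism: the structure morphism from projective 0-space
over A to Spec A is an isomorphism. -/
theorem result (A : Type u) [CommRing A] :
    IsIso (CohB1.ProjSpace.toSpec 0 A) := by
  exact result' A

end Groth.Agent.S3581
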