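import Groth.Statements.S3582
import Mathlib

set_option autoImplicit false
universe u
open CategoryTheory CategoryTheory.Limits AlgebraicGeometry
open EGA2

namespace Groth.Agent.S3582

section helpers
theorem exists_section (n : ℕ) (R : Type u) [CommRing R] :
    ∃ s : Spec (.of R) ⟶ Proj (CohB1.polyGrading n R), 
      s ≫ (Proj.toSpecZero (CohB1.polyGrading n R) ≫
        Spec.map (CommRingCat.ofHom (algebraMap R (CohB1.polyGrading n R 0)))) = 𝟙 _ := by
  let 𝒜 := CohB1.polyGrading n R
  let x0 : MvPolynomial (Fin (n+1)) R := MvPolynomial.X 0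
  have hx0 : x0 ∈ 𝒜 1 := MvPolynomial.isHomogeneous_X R 0
  let e0 : MvPolynomial (Fin (n+1)) R →+* R := (MvPolynomial.eval (fun i => if i = 0 then 1 else 0))
  have hu : IsUnit (e0 x0) := by simp [e0, x0]
  let ev : HomogeneousLocalization.Away 𝒜 x0 →+* R :=
    (IsLocalization.Away.lift x0 hu).comp (algebraMap (HomogeneousLocalization.Away 𝒜 x0) (Localization.Away x0))
  refine ⟨Spec.map (CommRingCat.ofHom ev) ≫ Proj.awayι 𝒜 x0 hx0 one_pos, ?_⟩
  rw [Category.assoc, Proj.awayι_toSpecZero_assoc, ← Spec.map_comp, ← Spec.map_comp, ← Spec.map_id]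
  congr 1
  ext r
  simp only [ev, e0, CommRingCat.hom_comp, CommRingCat.hom_ofHom, RingHom.coe_comp,
    Function.comp_apply, HomogeneousLocalization.algebraMap_apply, CommRingCat.hom_id, RingHom.id_apply]
  have : HomogeneousLocalization.val
        ((HomogeneousLocalization.fromZeroRingHom 𝒜 (Submonoid.powers x0))
          ((algebraMap R ↥(CohB1.polyGrading n R 0)) r)) =
      algebraMap (MvPolynomial (Fin (n+1)) R) (Localization.Away x0) (MvPolynomial.C r) := by
    rw [← Localization.mk_one_eq_algebraMap]
    rfl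
  rw [this, IsLocalization.Away.lift_eq]
  simp


theorem surj_toSpec (n : ℕ) (R : Type u) [CommRing R] : Surjective (CohB1.ProjSpace.toSpec n R) := by
  obtain ⟨s, hs⟩ := exists_section n R
  refine ⟨fun y => ⟨s.base y, ?_⟩⟩
  change (s ≫ (Proj.toSpecZero (CohB1.polyGrading n R) ≫
        Spec.map (CommRingCat.ofHom (algebraMap R (CohB1.polyGrading n R 0))))).base y = y
  rw [hs]
  rfl

end helpers

/-- For every scheme Y and every r ≥ 0 the structure morphism from projective r-space over Y to Y is
surjective. -/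
theorem result (r : ℕ) (Y : Scheme.{u}) :
    Surjective (CohB1.ProjSpaceOver.toBase r Y) := by
  have := surj_toSpec r (ULift.{u} ℤ)
  have h2 : Surjective (pullback.snd (CohB1.ProjSpace.toSpec r (ULift.{u} ℤ))
      (specULiftZIsTerminal.from Y)) := inferInstance
  exact h2

end Groth.Agent.S3582
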