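import Groth.Statements.S3583
import Mathlib

set_option autoImplicit false
universe u
open CategoryTheory AlgebraicGeometry Opposite
open EGA2

namespace Groth.Agent.S3583

/-- In the form stated after its proof: let f : X → S and f' : X' → S be affine morphisms and h : X' → X
an S-morphism such that the O_S-algebra homomorphism A(h) : f_*O_X → f'_*O_{X'} is surjective (as a
map of quasi-coherent O_S-modules, i.e. on sections over every affine open of S). Then h is a closed
immersion. -/
theorem result {X X' S : Scheme.{u}} (f : X ⟶ S) [IsAffineHom f]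
    (f' : X' ⟶ S) [IsAffineHom f'] (h : X' ⟶ X) (w : h ≫ f = f')
    (hsurj : ∀ U : S.affineOpens, Function.Surjective ((AffAlg.algHom f f' h w).app (op U.1)).hom) :
    IsClosedImmersion h := by
  subst w
  have hsurj' : ∀ U : S.affineOpens, Function.Surjective (h.app (f ⁻¹ᵁ U.1)).hom := by
    intro U
    have e : (AffAlg.algHom f (h ≫ f) h rfl).app (op U.1) = h.app (f ⁻¹ᵁ U.1) := by
      unfold AffAlg.algHom
      erw [eqToHom_refl, Category.comp_id]
      rfl
    exact e ▸ hsurj U
  apply IsZariskiLocalAtTarget.of_iSup_eq_top (P := @IsClosedImmersion)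
    (fun U : S.affineOpens => f ⁻¹ᵁ U.1)
  · rw [← Scheme.Hom.preimage_iSup, iSup_affineOpens_eq_top]
    rfl
  · intro U
    have h1 : IsAffine (f ⁻¹ᵁ U.1).toScheme := IsAffineHom.isAffine_preimage (f := f) U.1 U.2
    have h2 : IsAffine (h ⁻¹ᵁ f ⁻¹ᵁ U.1).toScheme :=
      IsAffineHom.isAffine_preimage (f := h ≫ f) U.1 U.2
    apply IsClosedImmersion.of_surjective_of_isAffine
    rw [morphismRestrict_appTop]
    have key : ∀ (W : X.Opens) (hW : W = f ⁻¹ᵁ U.1) (W' : X'.Opens) (e : W' = h ⁻¹ᵁ W),
        Function.Surjective (h.app W ≫ X'.presheaf.map (eqToHom e).op).hom := by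
      intro W hW W' e
      subst hW
      subst e
      simpa using hsurj' U
    exact key _ (Scheme.Opens.ι_image_top _) _ _

end Groth.Agent.S3583
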