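import Groth.Statements.S3585
-- import your own Groth.Agent.* helpers here
import Groth.Agent.Lib.Helper29.PA3
import Groth.Agent.Lib.Helper29.ProjIdeal
import Groth.Agent.S3563

set_option autoImplicit false
universe u
open CategoryTheory CategoryTheory.Limits AlgebraicGeometry
open EGA2

namespace Groth.Agent.S3585

/-- Let A be a ring and f : X → Spec A a proper morphism, and suppose X carries an invertible O_X-module
which is ample relative to f (so f is quasi-projective). Then f is projective: X is isomorphic over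
Spec A to Proj S for some graded A-algebra S whose degree-zero part is the image of A and whose
irrelevant ideal is generated by finitely many elements of degree one. -/
theorem result {A : Type u} [CommRing A] {X : Scheme.{u}}
    (f : X ⟶ Spec (CommRingCat.of A)) [IsProper f]
    (L : X.Modules) (hL : PicF.IsInvertible L) (hamp : RelAmple.IsRelAmple f L) :
    ∃ (S : Type u) (_ : CommRing S) (_ : Algebra A S) (𝒮 : ℕ → Submodule A S) (_ : GradedAlgebra 𝒮) (s : Finset S),
      Function.Surjective (algebraMap A (𝒮 0)) ∧ (∀ g ∈ s, g ∈ 𝒮 1) ∧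
      (HomogeneousIdeal.irrelevant 𝒮).toIdeal = Ideal.span (s : Set S) ∧
      ∃ e : X ≅ Proj 𝒮, e.hom ≫ Proj.toSpecZero 𝒮 ≫ Spec.map (CommRingCat.ofHom (algebraMap A (𝒮 0))) = f := by
  classical
  obtain ⟨n, j, hjcl, hjf⟩ :=
    Groth.Agent.Lib.Helper29.QCoh.exists_closedImmersion_proj_of_isProper f hamp
  haveI := hjcl
  obtain ⟨s, hsdef⟩ : ∃ s : Finset (MvPolynomial (Fin (n + 1)) A), s = (Set.finite_range
      (MvPolynomial.X : Fin (n + 1) → MvPolynomial (Fin (n + 1)) A)).toFinset := ⟨_, rfl⟩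
  have hscoe : (s : Set (MvPolynomial (Fin (n + 1)) A)) =
      Set.range (MvPolynomial.X : Fin (n + 1) → MvPolynomial (Fin (n + 1)) A) := by
    rw [hsdef]; exact Set.Finite.coe_toFinset _
  have hs1 : ∀ p ∈ s, p ∈ CohB1.polyGrading n A 1 := by
    intro p hp
    have hp' : p ∈ (s : Set (MvPolynomial (Fin (n + 1)) A)) := hp
    rw [hscoe] at hp'
    obtain ⟨i, rfl⟩ := hp'
    exact MvPolynomial.isHomogeneous_X A i
  have hs : (HomogeneousIdeal.irrelevant (CohB1.polyGrading n A)).toIdeal =
      Ideal.span (s : Set (MvPolynomial (Fin (n + 1)) A)) := by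
    rw [hscoe]; exact Groth.Agent.Lib.Helper29.QCoh.irrelevant_polyGrading_eq_span n A
  let ι : Type u := {a : MvPolynomial (Fin (n + 1)) A // a ∈ s}
  let g : ι → CohB1.polyGrading n A 1 := fun i => ⟨i.1, hs1 i.1 i.2⟩
  have hcov : ∀ x : Proj (CohB1.polyGrading n A),
      ∃ i, x ∈ Groth.Agent.Lib.Helper29.QCoh.Dp (CohB1.polyGrading n A) g i := by
    intro x
    obtain ⟨a, ha, hx⟩ := Groth.Agent.Lib.Helper29.QCoh.exists_mem_basicOpen_of_span s hs x
    exact ⟨⟨a, ha⟩, hx⟩
  haveI : Finite ι := Finite.of_fintype _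
  obtain ⟨J, hJdef⟩ : ∃ J : Ideal (MvPolynomial (Fin (n + 1)) A),
      J = Groth.Agent.Lib.Helper29.QCoh.projIdeal (CohB1.polyGrading n A) g j.ker := ⟨_, rfl⟩
  have hJ : J.IsHomogeneous (CohB1.polyGrading n A) := by
    rw [hJdef]
    exact Groth.Agent.Lib.Helper29.QCoh.projIdeal_isHomogeneous (CohB1.polyGrading n A) g j.ker
  letI := Groth.Agent.Lib.Helper29.QCoh.quotGradedAlgebra (CohB1.polyGrading n A) J hJ
  have hsurj := Groth.Agent.Lib.Helper29.QCoh.quotGradedHom_surjective (CohB1.polyGrading n A) J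
  have hφ := Groth.Agent.Lib.Helper29.QCoh.irrelevant_le_map_quotGradedHom
    (CohB1.polyGrading n A) J hJ
  haveI : IsClosedImmersion (Proj.map
      (Groth.Agent.Lib.Helper29.QCoh.quotGradedHom (CohB1.polyGrading n A) J) hφ) :=
    Groth.Agent.S3563.result (CohB1.polyGrading n A)
      (Groth.Agent.Lib.Helper29.QCoh.quotGrading (CohB1.polyGrading n A) J)
      (Groth.Agent.Lib.Helper29.QCoh.quotGradedHom (CohB1.polyGrading n A) J) hsurj hφ
  have hker : (Proj.map
      (Groth.Agent.Lib.Helper29.QCoh.quotGradedHom (CohB1.polyGrading n A) J) hφ).ker = j.ker :=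
    Groth.Agent.Lib.Helper29.QCoh.ker_map_eq_of_ker_eq (CohB1.polyGrading n A) g j.ker
      (Groth.Agent.Lib.Helper29.QCoh.quotGrading (CohB1.polyGrading n A) J)
      (Groth.Agent.Lib.Helper29.QCoh.quotGradedHom (CohB1.polyGrading n A) J) hφ hcov
      (fun a => by rw [← hJdef]; exact Ideal.Quotient.eq_zero_iff_mem)
  obtain ⟨l, hliso, hfac⟩ : ∃ l : X ⟶ Proj
      (Groth.Agent.Lib.Helper29.QCoh.quotGrading (CohB1.polyGrading n A) J), IsIso l ∧
      l ≫ Proj.map (Groth.Agent.Lib.Helper29.QCoh.quotGradedHom (CohB1.polyGrading n A) J) hφ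
        = j :=
    ⟨IsClosedImmersion.lift
      (Proj.map (Groth.Agent.Lib.Helper29.QCoh.quotGradedHom (CohB1.polyGrading n A) J) hφ) j
        hker.le,
     IsClosedImmersion.isIso_lift
      (Proj.map (Groth.Agent.Lib.Helper29.QCoh.quotGradedHom (CohB1.polyGrading n A) J) hφ) j hker,
     IsClosedImmersion.lift_fac _ _ _⟩
  haveI := hliso
  refine ⟨MvPolynomial (Fin (n + 1)) A ⧸ J, inferInstance, inferInstance,
    Groth.Agent.Lib.Helper29.QCoh.quotGrading (CohB1.polyGrading n A) J,
    Groth.Agent.Lib.Helper29.QCoh.quotGradedAlgebra (CohB1.polyGrading n A) J hJ,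
    s.image (Ideal.Quotient.mk J), ?_, ?_, ?_,
    asIso l, ?_⟩
  · -- degree zero part is the image of A
    rintro ⟨b, hb⟩
    obtain ⟨a, ha, rfl⟩ := (Groth.Agent.Lib.Helper29.QCoh.mem_quotGrading _ _).1 hb
    have ha' : a = MvPolynomial.C (MvPolynomial.coeff 0 a) := by
      rw [← MvPolynomial.homogeneousComponent_zero]
      exact (MvPolynomial.homogeneousComponent_of_mem ha).symm ▸ (by simp)
    refine ⟨MvPolynomial.coeff 0 a, Subtype.ext ?_⟩
    rw [SetLike.GradeZero.coe_algebraMap]
    exact congrArg (Ideal.Quotient.mk J) ha'.symm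
  · intro b hb
    obtain ⟨a, ha, rfl⟩ := Finset.mem_image.1 hb
    exact Groth.Agent.Lib.Helper29.QCoh.mk_mem_quotGrading _ _ (hs1 a ha)
  · apply le_antisymm
    · have h1 : (HomogeneousIdeal.irrelevant
          (Groth.Agent.Lib.Helper29.QCoh.quotGrading (CohB1.polyGrading n A) J)).toIdeal ≤
          ((HomogeneousIdeal.irrelevant (CohB1.polyGrading n A)).map
            (Groth.Agent.Lib.Helper29.QCoh.quotGradedHom (CohB1.polyGrading n A) J)).toIdeal :=
        hφ
      refine h1.trans ?_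
      rw [HomogeneousIdeal.toIdeal_map, hs, Ideal.map_span, Finset.coe_image]
      exact le_of_eq rfl
    · rw [Ideal.span_le]
      intro b hb
      obtain ⟨a, ha, rfl⟩ := Finset.mem_image.1 (Finset.mem_coe.1 hb)
      exact HomogeneousIdeal.mem_irrelevant_of_mem _ one_pos
        (Groth.Agent.Lib.Helper29.QCoh.mk_mem_quotGrading _ _ (hs1 a ha))
  · rw [asIso_hom, ← hjf, ← hfac]
    have hts : CohB1.ProjSpace.toSpec n A = Proj.toSpecZero (CohB1.polyGrading n A) ≫
        Spec.map (CommRingCat.ofHom (algebraMap A (CohB1.polyGrading n A 0))) := rfl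
    rw [hts, Category.assoc,
      ← Category.assoc (Proj.map _ hφ) (Proj.toSpecZero (CohB1.polyGrading n A)),
      Groth.Agent.Lib.Helper29.QCoh.proj_map_toSpecZero, Category.assoc, ← Spec.map_comp]
    rfl

end Groth.Agent.S3585
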