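import Groth.Statements.S3588
-- import your own Groth.Agent.* helpers here
import Groth.Agent.S3563

set_option autoImplicit false
universe u
open CategoryTheory CategoryTheory.Limits AlgebraicGeometry
open EGA2

namespace Groth.Agent.S3588

open HomogeneousLocalization in
theorem away_isReduced {R B : Type u} [CommRing R] [CommRing B] [Algebra R B]
    (ℬ : ℕ → Submodule R B) [GradedAlgebra ℬ]
    (hnil : ∀ (e : ℕ) (c : B), 0 < e → c ∈ ℬ e → IsNilpotent c → c = 0)
    {d : ℕ} (hd : 0 < d) (s : B) (hs : s ∈ ℬ d) : _root_.IsReduced (Away ℬ s) := by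
  constructor
  intro x hx
  obtain ⟨n, b, hb, rfl⟩ := Away.mk_surjective ℬ hs x
  obtain ⟨m, hm⟩ := hx
  have hval := congrArg HomogeneousLocalization.val hm
  rw [HomogeneousLocalization.val_pow, Away.val_mk, HomogeneousLocalization.val_zero,
    Localization.mk_pow, Localization.mk_eq_mk', IsLocalization.mk'_eq_zero_iff] at hval
  obtain ⟨⟨_, k, rfl⟩, hk⟩ := hval
  have hsb : s * b = 0 := by
    apply hnil (d + n • d) (s * b) (by omega) (SetLike.mul_mem_graded hs hb)
    refine ⟨k + m, ?_⟩
    rw [mul_pow, pow_add, pow_add]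
    calc s ^ k * s ^ m * (b ^ k * b ^ m) = (s ^ k * b ^ m) * (s ^ m * b ^ k) := by ring
      _ = 0 := by rw [hk, zero_mul]
  apply HomogeneousLocalization.val_injective
  rw [Away.val_mk, HomogeneousLocalization.val_zero, Localization.mk_eq_mk',
    IsLocalization.mk'_eq_zero_iff]
  exact ⟨⟨s, 1, pow_one s⟩, hsb⟩

/-- Let S be a graded ring, N_+ the set of nilpotent elements of S_+ (an ideal of S), and S → S/N_+ the
quotient (here: any surjective homomorphism of graded rings φ : S → S' whose kernel is N_+). Then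
the induced morphism Proj S' → Proj S is a closed immersion which is a homeomorphism of the
underlying spaces, and Proj S' is reduced; thus Proj S' is the reduced closed subscheme (Proj
S)_red. -/
theorem result {R A : Type u} [CommRing R] [CommRing A] [Algebra R A] (𝒜 : ℕ → Submodule R A) [GradedAlgebra 𝒜]
    {B : Type u} [CommRing B] [Algebra R B] (ℬ : ℕ → Submodule R B) [GradedAlgebra ℬ]
    (φ : 𝒜 →+*ᵍ ℬ) (hsurj : Function.Surjective φ)
    (hker : ∀ a : A, φ a = 0 ↔ a ∈ (HomogeneousIdeal.irrelevant 𝒜).toIdeal ∧ IsNilpotent a)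
    (hφ : HomogeneousIdeal.irrelevant ℬ ≤ (HomogeneousIdeal.irrelevant 𝒜).map φ) :
    IsClosedImmersion (Proj.map φ hφ) ∧ IsHomeomorph (Proj.map φ hφ).base ∧
      AlgebraicGeometry.IsReduced (Proj ℬ) := by
  have hci : IsClosedImmersion (Proj.map φ hφ) := Groth.Agent.S3563.result 𝒜 ℬ φ hsurj hφ
  refine ⟨hci, ?_, ?_⟩
  · -- homeomorphism
    rw [isHomeomorph_iff_isEmbedding_surjective]
    refine ⟨(Proj.map φ hφ).isEmbedding, ?_⟩
    intro x
    have hkp : RingHom.ker φ.toRingHom ≤ x.asHomogeneousIdeal.toIdeal := by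
      intro a ha
      obtain ⟨n, hn⟩ := ((hker a).1 ha).2
      exact x.isPrime.mem_of_pow_mem n (by rw [hn]; exact Ideal.zero_mem _)
    have hq : ((x.asHomogeneousIdeal.map φ).toIdeal).IsPrime :=
      Ideal.map_isPrime_of_surjective hsurj hkp
    have hcomap : (x.asHomogeneousIdeal.map φ).comap φ = x.asHomogeneousIdeal := by
      apply HomogeneousIdeal.toIdeal_injective
      rw [HomogeneousIdeal.toIdeal_comap, HomogeneousIdeal.toIdeal_map]
      have := Ideal.comap_map_of_surjective φ.toRingHom hsurj x.asHomogeneousIdeal.toIdeal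
      refine this.trans (sup_eq_left.2 ?_)
      exact hkp
    have hnot : ¬HomogeneousIdeal.irrelevant ℬ ≤ x.asHomogeneousIdeal.map φ := by
      intro hle
      apply x.not_irrelevant_le
      rw [HomogeneousIdeal.irrelevant_le]
      intro i hi a ha
      have h1 : φ a ∈ HomogeneousIdeal.irrelevant ℬ :=
        HomogeneousIdeal.mem_irrelevant_of_mem ℬ hi (φ.2 ha)
      have h2 : a ∈ (x.asHomogeneousIdeal.map φ).comap φ := hle h1
      rw [hcomap] at h2
      exact h2
    refine ⟨⟨x.asHomogeneousIdeal.map φ, hq, hnot⟩, ?_⟩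
    apply ProjectiveSpectrum.ext
    exact hcomap
  · -- reduced
    have hnil : ∀ (e : ℕ) (c : B), 0 < e → c ∈ ℬ e → IsNilpotent c → c = 0 := by
      intro e c he hc hcn
      obtain ⟨a', rfl⟩ := hsurj c
      have h1 : φ (DirectSum.decompose 𝒜 a' e : A) = φ a' := by
        rw [GradedRingHom.map_directSumDecompose, DirectSum.decompose_of_mem_same ℬ hc]
      rw [← h1] at hcn ⊢
      obtain ⟨m, hm⟩ := hcn
      rw [← map_pow] at hm
      obtain ⟨-, k, hk⟩ := (hker _).1 hm
      rw [hker]
      exact ⟨HomogeneousIdeal.mem_irrelevant_of_mem 𝒜 he (SetLike.coe_mem _),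
        ⟨m * k, by rw [pow_mul]; exact hk⟩⟩
    haveI : ∀ i, AlgebraicGeometry.IsReduced ((Proj.affineOpenCover ℬ).openCover.X i) := by
      intro i
      haveI : _root_.IsReduced (HomogeneousLocalization.Away ℬ i.2.1) :=
        away_isReduced ℬ hnil i.1.2 i.2.1 i.2.2
      show AlgebraicGeometry.IsReduced (Spec (CommRingCat.of (HomogeneousLocalization.Away ℬ i.2.1)))
      infer_instance
    exact AlgebraicGeometry.IsReduced.of_openCover _ (Proj.affineOpenCover ℬ).openCover

end Groth.Agent.S3588
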