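import Groth.Statements.S3593
import Groth.Agent.Lib.Helper3.PolyCone

set_option autoImplicit false
universe u
open CategoryTheory CategoryTheory.Limits AlgebraicGeometry
open EGA2

namespace Groth.Agent.S3593

open Groth.Agent.Lib.Helper3


/-- Let S be a graded R-algebra, Ŝ a graded R-algebra with a graded homomorphism φ : S → Ŝ making Ŝ an
S-algebra, and z an element of Ŝ of degree one such that the S-algebra map S[X] → Ŝ, X ↦ z, is
bijective (so Ŝ = S[z] with z in degree one, the graded ring of the projective cone of S). Then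
there is a ring isomorphism S ≅ Ŝ_(z) onto the degree-zero localization at z, sending a homogeneous
a of degree n to φ(a)/z^n. (This is the isomorphism that identifies the affine cone Spec S with the
open D_+(z) of the projective cone Proj Ŝ; that identification itself is not asserted here.) -/
theorem result {R A : Type u} [CommRing R] [CommRing A] [Algebra R A] (𝒜 : ℕ → Submodule R A) [GradedAlgebra 𝒜]
    {B : Type u} [CommRing B] [Algebra R B] (ℬ : ℕ → Submodule R B) [GradedAlgebra ℬ]
    [Algebra A B] [IsScalarTower R A B] (φ : 𝒜 →+*ᵍ ℬ) (hφ : ∀ a : A, φ a = algebraMap A B a)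
    (z : B) (hz : z ∈ ℬ 1) (hhat : Function.Bijective (Polynomial.aeval (R := A) z)) :
    ∃ θ : A ≃+* HomogeneousLocalization.Away ℬ z,
      ∀ (n : ℕ) (a : A), a ∈ 𝒜 n → (θ a).val = Localization.mk (φ a) ⟨z ^ n, pow_mem (Submonoid.mem_powers z) n⟩ := by
  let E : Polynomial A ≃+* B := RingEquiv.ofBijective (Polynomial.aeval (R := A) z : Polynomial A →+* B) hhat
  let e : B →+* A := (Polynomial.evalRingHom 1).comp E.symm.toRingHom
  have hφ' : (φ : A →+* B) = algebraMap A B := RingHom.ext hφ
  have heι : ∀ a, e (φ a) = a := by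
    intro a
    have h1 : E (Polynomial.C a) = φ a := by
      change Polynomial.aeval z (Polynomial.C a) = φ a
      rw [Polynomial.aeval_C, hφ]
    change Polynomial.eval 1 (E.symm (φ a)) = a
    rw [← h1, RingEquiv.symm_apply_apply, Polynomial.eval_C]
  have hez : e z = 1 := by
    have h1 : E Polynomial.X = z := by
      change Polynomial.aeval z Polynomial.X = z
      rw [Polynomial.aeval_X]
    change Polynomial.eval 1 (E.symm z) = 1
    rw [← h1, RingEquiv.symm_apply_apply, Polynomial.eval_X]
  have hsurj : ∀ x : B, ∃ p : Polynomial A, p.eval₂ (φ : A →+* B) z = x := by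
    intro x
    obtain ⟨p, hp⟩ := hhat.2 x
    exact ⟨p, by rw [hφ', ← Polynomial.aeval_def]; exact hp⟩
  have hbij := PolyCone.awayToBase_bijective φ hz e heι hez hsurj
  refine ⟨(RingEquiv.ofBijective _ hbij).symm, fun n a ha => ?_⟩
  have h2 : (RingEquiv.ofBijective _ hbij).symm a =
      HomogeneousLocalization.Away.mk ℬ hz n (φ a) (by simpa using φ.map_mem ha) := by
    rw [RingEquiv.symm_apply_eq]
    exact (PolyCone.awayToBase_mk_ι φ hz e heι hez n a ha).symm
  rw [h2, HomogeneousLocalization.Away.val_mk]

end Groth.Agent.S3593
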