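import Groth.Statements.S3594
import Mathlib

set_option autoImplicit false
universe u
open CategoryTheory CategoryTheory.Limits AlgebraicGeometry
open EGA2

namespace Groth.Agent.S3594

/-- The closed immersion at infinity of a projective cone: let S be a graded R-algebra and Ŝ a graded
R-algebra over S such that the structure map φ : S → Ŝ is a graded homomorphism and Ŝ = S[z] is the
polynomial algebra on an element z of degree one (evaluation at z is a bijection S[T] → Ŝ); let ψ :
Ŝ → S be a graded homomorphism retracting φ and killing z, with S₊ contained in the ideal generated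
by ψ(Ŝ₊) so that j = Proj(ψ) : X = Proj S → Ĉ = Proj Ŝ is defined (it is the canonical closed
immersion). Then the image of j is exactly the complement of the open subset D₊(z) of Proj Ŝ (which
is the affine cone C = Spec S). -/
theorem result {R A : Type u} [CommRing R] [CommRing A] [Algebra R A] (𝒜 : ℕ → Submodule R A) [GradedAlgebra 𝒜]
    {B : Type u} [CommRing B] [Algebra R B] (ℬ : ℕ → Submodule R B) [GradedAlgebra ℬ]
    [Algebra A B] [IsScalarTower R A B] (φ : 𝒜 →+*ᵍ ℬ) (hφ : ∀ a : A, φ a = algebraMap A B a)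
    (z : B) (hz : z ∈ ℬ 1) (hhat : Function.Bijective (Polynomial.aeval (R := A) z))
    (ψ : ℬ →+*ᵍ 𝒜) (hψφ : ∀ a : A, ψ (φ a) = a) (hψz : ψ z = 0)
    (hψ : HomogeneousIdeal.irrelevant 𝒜 ≤ (HomogeneousIdeal.irrelevant ℬ).map ψ) :
    Set.range (Proj.map ψ hψ).base = ((Proj.basicOpen ℬ z : Set (Proj ℬ)))ᶜ := by
  -- decomposition b = φ (ψ b) + c * z
  have hdec : ∀ b : B, ∃ c : B, b = φ (ψ b) + c * z := by
    intro b
    obtain ⟨P, rfl⟩ := hhat.2 b
    refine ⟨Polynomial.aeval z P.divX, ?_⟩
    have h1 : Polynomial.aeval z P = Polynomial.aeval z P.divX * z + φ (P.coeff 0) := by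
      conv_lhs => rw [← Polynomial.divX_mul_X_add P]
      rw [map_add, map_mul, Polynomial.aeval_X, Polynomial.aeval_C, hφ]
    have h2 : ψ (Polynomial.aeval z P) = P.coeff 0 := by
      rw [h1, map_add, map_mul, hψz, mul_zero, zero_add, hψφ]
    rw [h2, add_comm]
    exact h1
  ext q
  simp only [Set.mem_range, Set.mem_compl_iff, SetLike.mem_coe, Proj.mem_basicOpen, not_not]
  constructor
  · rintro ⟨p, rfl⟩
    change z ∈ (p.asHomogeneousIdeal.comap ψ)
    change ψ z ∈ p.asHomogeneousIdeal
    rw [hψz]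
    exact zero_mem _
  · intro hzq
    have hrel : ¬ HomogeneousIdeal.irrelevant 𝒜 ≤ q.asHomogeneousIdeal.comap φ := by
      intro hle
      apply q.not_irrelevant_le
      intro b hb
      obtain ⟨c, hc⟩ := hdec b
      have h1 : ψ b ∈ HomogeneousIdeal.irrelevant 𝒜 := by
        rw [HomogeneousIdeal.mem_irrelevant_iff] at hb ⊢
        rw [GradedRing.proj_apply] at hb ⊢
        rw [← GradedRingHom.map_directSumDecompose, hb, map_zero]
      have h2 : φ (ψ b) ∈ q.asHomogeneousIdeal := hle h1
      rw [hc]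
      exact Ideal.add_mem _ h2 (Ideal.mul_mem_left _ c hzq)
    let p : Proj 𝒜 := ⟨q.asHomogeneousIdeal.comap φ, q.isPrime.comap φ, hrel⟩
    refine ⟨p, ?_⟩
    apply ProjectiveSpectrum.ext
    apply HomogeneousIdeal.ext
    ext b
    change φ (ψ b) ∈ q.asHomogeneousIdeal.toIdeal ↔ b ∈ q.asHomogeneousIdeal.toIdeal
    obtain ⟨c, hc⟩ := hdec b
    have hcz : c * z ∈ q.asHomogeneousIdeal.toIdeal := Ideal.mul_mem_left _ c hzq
    constructor
    · intro h
      rw [hc]
      exact Ideal.add_mem _ h hcz
    · intro h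
      have : φ (ψ b) = b - c * z := by rw [eq_sub_iff_add_eq]; exact hc.symm
      rw [this]
      exact Ideal.sub_mem _ h hcz

end Groth.Agent.S3594
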