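import Groth.Statements.S3595
import Mathlib
import Groth.Agent.S3596

set_option autoImplicit false
universe u
open CategoryTheory CategoryTheory.Limits AlgebraicGeometry
open EGA2

namespace Groth.Agent.S3595

section helpers
open CategoryTheory.Limits HomogeneousLocalization

variable {R A : Type u} [CommRing R] [CommRing A] [Algebra R A] (𝒜 : ℕ → Submodule R A) [GradedAlgebra 𝒜]
    {B : Type u} [CommRing B] [Algebra R B] (ℬ : ℕ → Submodule R B) [GradedAlgebra ℬ] (φ : 𝒜 →+*ᵍ ℬ)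

/-- naturality of `awayMap` w.r.t. a graded ring hom -/
theorem awayMap_comp_map {d e : ℕ} {f g x : A} (hf : f ∈ 𝒜 d) (hg : g ∈ 𝒜 e) (hx : x = f * g)
    (hx' : φ x = φ f * φ g) :
    (awayMap ℬ (φ.2 hg) hx').comp (Away.map φ f) = (Away.map φ x).comp (awayMap 𝒜 hg hx) := by
  ext z
  obtain ⟨n, a, ha, rfl⟩ := Away.mk_surjective 𝒜 hf z
  simp only [RingHom.comp_apply]
  rw [Away.map_mk, awayMap_mk, awayMap_mk, Away.map_mk]
  rw [Away.val_mk, Away.val_mk]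
  simp only [map_mul, map_pow]
  rfl


open Groth.Agent.S3596 in
theorem exists_idx (x : (PCone.dom φ : Scheme.{u})) :
    ∃ i : (Σ' (d : ℕ) (f : A), 0 < d ∧ f ∈ 𝒜 d),
      x ∈ Set.range (PCone.chart φ i.2.2.2 i.2.2.1).base := by
  have hx : (PCone.dom φ).ι x ∈
      ⨆ f : {f : A // ∃ d : ℕ, 0 < d ∧ f ∈ 𝒜 d}, Proj.basicOpen ℬ (φ f.1) := x.2
  rw [TopologicalSpace.Opens.mem_iSup] at hx
  obtain ⟨⟨g, e, he, hg⟩, hxg⟩ := hx
  exact ⟨⟨e, g, he, hg⟩, exists_chart_eq 𝒜 ℬ φ hg he x hxg⟩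

/-- the affine open cover of `G(φ)` by the charts -/
noncomputable def cover : (PCone.dom φ : Scheme.{u}).AffineOpenCover where
  I₀ := Σ' (d : ℕ) (f : A), 0 < d ∧ f ∈ 𝒜 d
  X i := .of (Away ℬ (φ i.2.1))
  f i := PCone.chart φ i.2.2.2 i.2.2.1
  idx x := (exists_idx 𝒜 ℬ φ x).choose
  covers x := (exists_idx 𝒜 ℬ φ x).choose_spec
  map_prop i := Groth.Agent.S3596.isOpenImmersion_chart 𝒜 ℬ φ i.2.2.2 i.2.2.1


/-- the local pieces -/
noncomputable abbrev q (i : Σ' (d : ℕ) (f : A), 0 < d ∧ f ∈ 𝒜 d) :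
    Spec (.of (Away ℬ (φ i.2.1))) ⟶ Proj 𝒜 :=
  Spec.map (CommRingCat.ofHom (Away.map φ i.2.1)) ≫ Proj.awayι 𝒜 i.2.1 i.2.2.2 i.2.2.1

theorem q_compat_aux {d e k : ℕ} {f g x : A} (hf : f ∈ 𝒜 d) (hd : 0 < d) (hg : g ∈ 𝒜 e)
    (hx : x = f * g) (hx' : φ x = φ f * φ g) (hxk : x ∈ 𝒜 k) (hk : 0 < k) :
    Spec.map (CommRingCat.ofHom (awayMap ℬ (φ.2 hg) hx')) ≫
      Spec.map (CommRingCat.ofHom (Away.map φ f)) ≫ Proj.awayι 𝒜 f hf hd =
    Spec.map (CommRingCat.ofHom (Away.map φ x)) ≫ Proj.awayι 𝒜 x hxk hk := by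
  have : Proj.awayι 𝒜 x hxk hk = Proj.awayι 𝒜 x (hx ▸ SetLike.mul_mem_graded hf hg)
    (hd.trans_le (Nat.le_add_right d e)) := rfl
  rw [this, ← Proj.SpecMap_awayMap_awayι 𝒜 hf hd hg hx, ← Spec.map_comp_assoc, ← Spec.map_comp_assoc,
    ← CommRingCat.ofHom_comp, ← CommRingCat.ofHom_comp, awayMap_comp_map 𝒜 ℬ φ hf hg hx hx']

open Groth.Agent.S3596 in
theorem compat (i j : (cover 𝒜 ℬ φ).openCover.I₀) :
    pullback.fst ((cover 𝒜 ℬ φ).openCover.f i) ((cover 𝒜 ℬ φ).openCover.f j) ≫ q 𝒜 ℬ φ i =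
      pullback.snd ((cover 𝒜 ℬ φ).openCover.f i) ((cover 𝒜 ℬ φ).openCover.f j) ≫ q 𝒜 ℬ φ j := by
  obtain ⟨d, f, hd, hf⟩ := i
  obtain ⟨e, g, he, hg⟩ := j
  change pullback.fst (PCone.chart φ hf hd) (PCone.chart φ hg he) ≫
      (Spec.map (CommRingCat.ofHom (Away.map φ f)) ≫ Proj.awayι 𝒜 f hf hd) =
    pullback.snd (PCone.chart φ hf hd) (PCone.chart φ hg he) ≫
      (Spec.map (CommRingCat.ofHom (Away.map φ g)) ≫ Proj.awayι 𝒜 g hg he)
  set a := pullback.fst (PCone.chart φ hf hd) (PCone.chart φ hg he) with ha_def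
  set b := pullback.snd (PCone.chart φ hf hd) (PCone.chart φ hg he) with hb_def
  have hab : a ≫ Proj.awayι ℬ (φ f) (φ.2 hf) hd = b ≫ Proj.awayι ℬ (φ g) (φ.2 hg) he := by
    rw [← chart_ι 𝒜 ℬ φ hf hd, ← chart_ι 𝒜 ℬ φ hg he, ← Category.assoc, ← Category.assoc,
      pullback.condition]
  have hmul : φ (f * g) = φ f * φ g := map_mul φ f g
  obtain ⟨c, hc⟩ : ∃ c, c = pullback.lift a b hab ≫
    (Proj.pullbackAwayιIso ℬ (φ.2 hf) hd (φ.2 hg) he hmul).hom := ⟨_, rfl⟩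
  have ha : a = c ≫ Spec.map (CommRingCat.ofHom (awayMap ℬ (φ.2 hg) hmul)) := by
    rw [hc, Category.assoc, Proj.pullbackAwayιIso_hom_SpecMap_awayMap_left]
    exact (pullback.lift_fst _ _ _).symm
  have hb : b = c ≫ Spec.map (CommRingCat.ofHom
      (awayMap ℬ (φ.2 hf) (hmul.trans (mul_comm _ _)))) := by
    rw [hc, Category.assoc, Proj.pullbackAwayιIso_hom_SpecMap_awayMap_right]
    exact (pullback.lift_snd _ _ _).symm
  rw [ha, hb, Category.assoc, Category.assoc,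
    q_compat_aux 𝒜 ℬ φ hf hd hg rfl hmul (SetLike.mul_mem_graded hf hg)
      (hd.trans_le (Nat.le_add_right d e)),
    q_compat_aux 𝒜 ℬ φ hg he hf (mul_comm f g) (hmul.trans (mul_comm _ _))
      (SetLike.mul_mem_graded hf hg) (hd.trans_le (Nat.le_add_right d e))]

end helpers

/-- Let φ : S′ → S be a homomorphism of graded rings and G(φ) ⊆ Proj S the open union of the basic opens
D_+(φ(f′)) for f′ ∈ S′ homogeneous of positive degree. There is exactly one morphism p : G(φ) → Proj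
S′ whose restriction to each chart Spec S_(φ(f′)) of G(φ) is Spec of the induced map S′_(f′) →
S_(φ(f′)) followed by Spec S′_(f′) ≅ D_+(f′) ⊆ Proj S′. -/
theorem result {R A : Type u} [CommRing R] [CommRing A] [Algebra R A] (𝒜 : ℕ → Submodule R A) [GradedAlgebra 𝒜]
    {B : Type u} [CommRing B] [Algebra R B] (ℬ : ℕ → Submodule R B) [GradedAlgebra ℬ] (φ : 𝒜 →+*ᵍ ℬ) :
    ∃! p : (PCone.dom φ : Scheme.{u}) ⟶ Proj 𝒜,
      ∀ (d : ℕ) (f : A) (hd : 0 < d) (hf : f ∈ 𝒜 d),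
        PCone.chart φ hf hd ≫ p =
          Spec.map (CommRingCat.ofHom (HomogeneousLocalization.Away.map φ f)) ≫ Proj.awayι 𝒜 f hf hd := by
  refine ⟨(cover 𝒜 ℬ φ).openCover.glueMorphisms (q 𝒜 ℬ φ) (compat 𝒜 ℬ φ), ?_, ?_⟩
  · intro d f hd hf
    exact Scheme.Cover.ι_glueMorphisms (cover 𝒜 ℬ φ).openCover (q 𝒜 ℬ φ) (compat 𝒜 ℬ φ) ⟨d, f, hd, hf⟩
  · intro p' hp'
    refine Scheme.Cover.hom_ext (cover 𝒜 ℬ φ).openCover _ _ ?_
    intro i
    exact (hp' i.1 i.2.1 i.2.2.1 i.2.2.2).trans (Scheme.Cover.ι_glueMorphisms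
      (cover 𝒜 ℬ φ).openCover (q 𝒜 ℬ φ) (compat 𝒜 ℬ φ) i).symm

end Groth.Agent.S3595
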