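import Groth.Statements.S3597
import Mathlib
import Groth.Agent.S3596

set_option autoImplicit false
universe u
open CategoryTheory CategoryTheory.Limits AlgebraicGeometry
open EGA2

namespace Groth.Agent.S3597

open CategoryTheory.Limits HomogeneousLocalization Groth.Agent.S3596
section helpers

variable {R A : Type u} [CommRing R] [CommRing A] [Algebra R A] (𝒜 : ℕ → Submodule R A) [GradedAlgebra 𝒜]
    {B : Type u} [CommRing B] [Algebra R B] (ℬ : ℕ → Submodule R B) [GradedAlgebra ℬ]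

theorem SpecMap_awayMap_id (χ : 𝒜 →+*ᵍ 𝒜) (hχ : χ = GradedRingHom.id 𝒜) {d : ℕ} {f : A}
    (hf : f ∈ 𝒜 d) (hd : 0 < d) :
    Spec.map (CommRingCat.ofHom (Away.map χ f)) ≫ Proj.awayι 𝒜 f hf hd =
      Proj.awayι 𝒜 (χ f) (χ.2 hf) hd := by
  subst hχ
  rw [Away.map_id]
  change Spec.map (𝟙 _) ≫ _ = _
  rw [Spec.map_id, Category.id_comp]
  rfl

theorem irrelevant_le_span (χ : 𝒜 →+*ᵍ 𝒜) (hχ : χ = GradedRingHom.id 𝒜) :
    (HomogeneousIdeal.irrelevant 𝒜).toIdeal ≤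
      Ideal.span (Set.range fun i : (Σ i : ℕ+, 𝒜 i) => χ i.2.1) := by
  classical
  subst hχ
  intro z hz
  rw [← DirectSum.sum_support_decompose 𝒜 z]
  refine Ideal.sum_mem _ fun c hc ↦ if hc0 : c = 0 then ?_ else
    Ideal.subset_span ⟨⟨⟨c, Nat.pos_iff_ne_zero.mpr hc0⟩, _⟩, rfl⟩
  convert! Ideal.zero_mem _
  subst hc0
  exact hz

end helpers

/-- Let S be a graded algebra over a ring and Ŝ = S[z] the graded S-algebra obtained by adjoining a
variable z in degree 1 (an S-algebra with an element z of degree 1 such that S[T] → Ŝ, T ↦ z, is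
bijective), with φ : S → Ŝ the graded structure map and ψ : Ŝ → S the graded retraction with ψ ∘ φ =
id and ψ(z) = 0 (the irrelevant-ideal containment needed to define Proj(ψ) on all of X = Proj S
carried as a hypothesis). Let Ê ⊆ Ĉ = Proj Ŝ be the pointed projective cone, the open union of the
D_+(φ f) for f ∈ S homogeneous of positive degree, and p : Ê → X a morphism which on each chart
D_+(φ f) = Spec Ŝ_{(φ f)} is induced by S_{(f)} → Ŝ_{(φ f)} (the canonical retraction). Then p is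
surjective, and the closed immersion j = Proj(ψ) : X → Ĉ factors through Ê with p ∘ j = id_X. -/
theorem result {R A : Type u} [CommRing R] [CommRing A] [Algebra R A] (𝒜 : ℕ → Submodule R A) [GradedAlgebra 𝒜]
    {B : Type u} [CommRing B] [Algebra R B] (ℬ : ℕ → Submodule R B) [GradedAlgebra ℬ]
    [Algebra A B] [IsScalarTower R A B] (φ : 𝒜 →+*ᵍ ℬ) (hφ : ∀ a : A, φ a = algebraMap A B a)
    (z : B) (hz : z ∈ ℬ 1) (hhat : Function.Bijective (Polynomial.aeval (R := A) z))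
    (ψ : ℬ →+*ᵍ 𝒜) (hψφ : ∀ a : A, ψ (φ a) = a) (hψz : ψ z = 0)
    (hψ : HomogeneousIdeal.irrelevant 𝒜 ≤ (HomogeneousIdeal.irrelevant ℬ).map ψ)
    (p : (PCone.dom φ : Scheme.{u}) ⟶ Proj 𝒜) (hp : ∀ (d : ℕ) (f : A) (hd : 0 < d) (hf : f ∈ 𝒜 d),
        PCone.chart φ hf hd ≫ p =
          Spec.map (CommRingCat.ofHom (HomogeneousLocalization.Away.map φ f)) ≫ Proj.awayι 𝒜 f hf hd) :
    Surjective p ∧ ∃ j : Proj 𝒜 ⟶ (PCone.dom φ : Scheme.{u}), j ≫ (PCone.dom φ).ι = Proj.map ψ hψ ∧ j ≫ p = 𝟙 (Proj 𝒜) := by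
  have hχ : ψ.comp φ = GradedRingHom.id 𝒜 := GradedRingHom.ext fun a => hψφ a
  have hrange : Set.range (Proj.map ψ hψ).base ⊆ Set.range (PCone.dom φ).ι.base := by
    rw [Scheme.Opens.range_ι]
    rintro _ ⟨x, rfl⟩
    obtain ⟨i, y, hy⟩ : ∃ (i : Σ i : ℕ+, 𝒜 i), x ∈ Set.range (Proj.awayι 𝒜 i.2.1 i.2.2 i.1.2).base :=
      ⟨(Proj.affineOpenCover 𝒜).idx x, (Proj.affineOpenCover 𝒜).covers x⟩
    have hxf : x ∈ Proj.basicOpen 𝒜 i.2.1 := by
      rw [← Proj.opensRange_awayι 𝒜 i.2.1 i.2.2 i.1.2]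
      exact ⟨y, hy⟩
    have : x ∈ Proj.map ψ hψ ⁻¹ᵁ Proj.basicOpen ℬ (φ i.2.1) := by
      rw [Proj.map_preimage_basicOpen, hψφ]
      exact hxf
    exact TopologicalSpace.Opens.mem_iSup.mpr ⟨⟨i.2.1, i.1, i.1.2, i.2.2⟩, this⟩
  let j : Proj 𝒜 ⟶ (PCone.dom φ : Scheme.{u}) :=
    IsOpenImmersion.lift (PCone.dom φ).ι (Proj.map ψ hψ) hrange
  have hj : j ≫ (PCone.dom φ).ι = Proj.map ψ hψ := IsOpenImmersion.lift_fac _ _ _
  have key : ∀ (d : ℕ) (f : A) (hd : 0 < d) (hf : f ∈ 𝒜 d),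
      Proj.awayι 𝒜 (ψ (φ f)) (ψ.2 (φ.2 hf)) hd ≫ j ≫ p =
        Proj.awayι 𝒜 (ψ (φ f)) (ψ.2 (φ.2 hf)) hd ≫ 𝟙 _ := by
    intro d f hd hf
    have h1 : Proj.awayι 𝒜 (ψ (φ f)) (ψ.2 (φ.2 hf)) hd ≫ j =
        Spec.map (CommRingCat.ofHom (Away.map ψ (φ f))) ≫ PCone.chart φ hf hd := by
      rw [← cancel_mono (PCone.dom φ).ι, Category.assoc, Category.assoc, hj, chart_ι]
      exact Proj.awayι_comp_map ψ hψ hd (φ f) (φ.2 hf)
    have h2 : Spec.map (CommRingCat.ofHom (Away.map ψ (φ f))) ≫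
        Spec.map (CommRingCat.ofHom (Away.map φ f)) =
        Spec.map (CommRingCat.ofHom (Away.map (ψ.comp φ) f)) := by
      rw [← Spec.map_comp, ← CommRingCat.ofHom_comp, ← Away.map_comp]
      rfl
    have h3 := SpecMap_awayMap_id 𝒜 (ψ.comp φ) hχ hf hd
    rw [← Category.assoc, h1, Category.assoc, hp, Category.comp_id, ← Category.assoc]
    exact (congrArg (· ≫ Proj.awayι 𝒜 f hf hd) h2).trans h3
  have hjp : j ≫ p = 𝟙 (Proj 𝒜) := by
    let 𝒱 := Proj.affineOpenCoverOfIrrelevantLESpan 𝒜 (ι := Σ i : ℕ+, 𝒜 i)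
      (fun i => (ψ.comp φ) i.2.1) (m := fun i => i.1) (fun i => (ψ.comp φ).2 i.2.2)
      (fun i => i.1.2) (irrelevant_le_span 𝒜 (ψ.comp φ) hχ)
    refine Scheme.Cover.hom_ext 𝒱.openCover _ _ fun i => ?_
    exact key i.1 i.2.1 i.1.2 i.2.2
  refine ⟨⟨fun x => ⟨j.base x, ?_⟩⟩, j, hj, hjp⟩
  change (j ≫ p).base x = x
  rw [hjp]
  rfl

end Groth.Agent.S3597
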