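import Groth.Statements.S3598
import Mathlib
import Groth.Agent.S3596

set_option autoImplicit false
universe u
open CategoryTheory CategoryTheory.Limits AlgebraicGeometry
open EGA2

namespace Groth.Agent.S3598

open HomogeneousLocalization

section polyiso

variable {R A : Type u} [CommRing R] [CommRing A] [Algebra R A] (𝒜 : ℕ → Submodule R A) [GradedAlgebra 𝒜]
    {B : Type u} [CommRing B] [Algebra R B] (ℬ : ℕ → Submodule R B) [GradedAlgebra ℬ]
    [Algebra A B] (φ : 𝒜 →+*ᵍ ℬ) (hφ : ∀ a : A, φ a = algebraMap A B a)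
    (z : B) (hz : z ∈ ℬ 1) (hhat : Function.Bijective (Polynomial.aeval (R := A) z))
    {f : A} (hf : f ∈ 𝒜 1)

open Polynomial

omit [GradedAlgebra ℬ] in
theorem mem_smul_one' {i : ℕ} {a : B} (ha : a ∈ ℬ i) : a ∈ ℬ (i • 1) := by
  rwa [smul_eq_mul, mul_one]

/-- `z / φ f` -/
noncomputable def tz : Away ℬ (φ f) := Away.mk ℬ (φ.map_mem hf) 1 z (mem_smul_one' ℬ hz)

noncomputable def Φp : (Away 𝒜 f)[X] →+* Away ℬ (φ f) :=
  Polynomial.eval₂RingHom (Away.map φ f) (tz 𝒜 ℬ φ z hz hf)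

noncomputable def Ehat : A[X] ≃ₐ[A] B := AlgEquiv.ofBijective (Polynomial.aeval z) hhat

theorem Ehat_symm_algebraMap (a : A) : (Ehat z hhat).symm (algebraMap A B a) = C a := by
  rw [AlgEquiv.commutes]; rfl

theorem Ehat_symm_z : (Ehat z hhat).symm z = X := by
  rw [AlgEquiv.symm_apply_eq]
  change z = Polynomial.aeval z X
  rw [Polynomial.aeval_X]

noncomputable def ρ₀ (f : A) : A[X] →+* (Localization.Away f)[X] :=
  Polynomial.eval₂RingHom (Polynomial.C.comp (algebraMap A (Localization.Away f)))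
    (Polynomial.C (algebraMap A (Localization.Away f) f) * Polynomial.X)

noncomputable def ρ (f : A) : B →+* (Localization.Away f)[X] :=
  (ρ₀ f).comp ((Ehat z hhat).symm : B →+* A[X])

theorem ρ_algebraMap (a : A) :
    ρ z hhat f (algebraMap A B a) = C (algebraMap A (Localization.Away f) a) := by
  change ρ₀ f ((Ehat z hhat).symm (algebraMap A B a)) = _
  rw [Ehat_symm_algebraMap]
  simp [ρ₀]

theorem ρ_z : ρ z hhat f z = C (algebraMap A (Localization.Away f) f) * X := by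
  change ρ₀ f ((Ehat z hhat).symm z) = _
  rw [Ehat_symm_z]
  simp [ρ₀]

include hφ in
theorem isUnit_ρ : IsUnit (ρ z hhat f (φ f)) := by
  rw [hφ, ρ_algebraMap]
  exact (IsLocalization.Away.algebraMap_isUnit (S := Localization.Away f) f).map C

noncomputable def ρ' : Localization.Away (φ f) →+* (Localization.Away f)[X] :=
  IsLocalization.Away.lift (S := Localization.Away (φ f)) (φ f) (g := ρ z hhat f)
    (isUnit_ρ 𝒜 ℬ φ hφ z hhat)

theorem ρ'_algebraMap (b : B) :
    ρ' 𝒜 ℬ φ hφ z hhat (f := f) (algebraMap B (Localization.Away (φ f)) b) = ρ z hhat f b :=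
  IsLocalization.Away.lift_eq _ _ _

noncomputable def ρ'' : Away ℬ (φ f) →+* (Localization.Away f)[X] :=
  (ρ' 𝒜 ℬ φ hφ z hhat (f := f)).comp (algebraMap (Away ℬ (φ f)) (Localization.Away (φ f)))

theorem ρ'_mk (b : B) (m : ℕ) :
    ρ' 𝒜 ℬ φ hφ z hhat (f := f) (Localization.mk b ⟨(φ f) ^ m, ⟨m, rfl⟩⟩) *
      C (algebraMap A (Localization.Away f) f) ^ m = ρ z hhat f b := by
  have h1 : (Localization.mk b ⟨(φ f) ^ m, ⟨m, rfl⟩⟩ : Localization.Away (φ f)) *
      algebraMap B (Localization.Away (φ f)) ((φ f) ^ m) =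
      algebraMap B (Localization.Away (φ f)) b := by
    rw [Localization.mk_eq_mk', IsLocalization.mk'_spec]
  have h2 := congrArg (ρ' 𝒜 ℬ φ hφ z hhat (f := f)) h1
  have hρf : ρ z hhat f (φ f) = C (algebraMap A (Localization.Away f) f) := by
    rw [hφ, ρ_algebraMap]
  rw [map_mul, ρ'_algebraMap, ρ'_algebraMap, map_pow, hρf] at h2
  exact h2

theorem isUnit_Cf (m : ℕ) : IsUnit ((C (algebraMap A (Localization.Away f) f) : (Localization.Away f)[X]) ^ m) :=
  ((IsLocalization.Away.algebraMap_isUnit (S := Localization.Away f) f).map C).pow m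

theorem ρ''_Φp : (ρ'' 𝒜 ℬ φ hφ z hhat (f := f)).comp (Φp 𝒜 ℬ φ z hz hf) =
    Polynomial.mapRingHom (algebraMap (Away 𝒜 f) (Localization.Away f)) := by
  apply Polynomial.ringHom_ext
  · intro c
    obtain ⟨m, a, ha, rfl⟩ := Away.mk_surjective 𝒜 hf c
    have h1 : Φp 𝒜 ℬ φ z hz hf (C (Away.mk 𝒜 hf m a ha)) =
        Away.mk ℬ (φ.map_mem hf) m (φ a) (φ.map_mem ha) := by
      change Polynomial.eval₂ _ _ (C _) = _
      rw [Polynomial.eval₂_C, Away.map_mk]
    have h2 : ρ'' 𝒜 ℬ φ hφ z hhat (f := f) (Away.mk ℬ (φ.map_mem hf) m (φ a) (φ.map_mem ha)) =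
        ρ' 𝒜 ℬ φ hφ z hhat (f := f) (Localization.mk (φ a) ⟨(φ f) ^ m, ⟨m, rfl⟩⟩) := rfl
    rw [RingHom.comp_apply, h1, h2, Polynomial.coe_mapRingHom, Polynomial.map_C,
      HomogeneousLocalization.algebraMap_apply, Away.val_mk]
    apply (isUnit_Cf (f := f) m).mul_left_inj.1
    have hρa : ρ z hhat f (φ a) = C (algebraMap A (Localization.Away f) a) := by
      rw [hφ, ρ_algebraMap]
    rw [ρ'_mk, hρa, ← map_pow, ← map_mul, ← map_pow, Localization.mk_eq_mk',
      IsLocalization.mk'_spec]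
  · have h1 : Φp 𝒜 ℬ φ z hz hf X = tz 𝒜 ℬ φ z hz hf := by
      change Polynomial.eval₂ _ _ X = _
      rw [Polynomial.eval₂_X]
    have h2 : ρ'' 𝒜 ℬ φ hφ z hhat (f := f) (tz 𝒜 ℬ φ z hz hf) =
        ρ' 𝒜 ℬ φ hφ z hhat (f := f) (Localization.mk z ⟨(φ f) ^ 1, ⟨1, rfl⟩⟩) := rfl
    rw [RingHom.comp_apply, h1, h2, Polynomial.coe_mapRingHom, Polynomial.map_X]
    apply (isUnit_Cf (f := f) 1).mul_left_inj.1
    rw [ρ'_mk, ρ_z, pow_one, mul_comm]

include hφ hhat in
theorem Φp_injective : Function.Injective (Φp 𝒜 ℬ φ z hz hf) := by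
  have h : Function.Injective ((ρ'' 𝒜 ℬ φ hφ z hhat (f := f)).comp (Φp 𝒜 ℬ φ z hz hf)) := by
    rw [ρ''_Φp 𝒜 ℬ φ hφ z hz hhat hf]
    exact Polynomial.map_injective _ (HomogeneousLocalization.val_injective _)
  rw [RingHom.coe_comp] at h
  exact Function.Injective.of_comp h

/-- elements `b` such that `b / (φ f)^k` is in the image of `Φp` -/
noncomputable def Gk (k : ℕ) : AddSubgroup B where
  carrier := {b | ∃ q : (Away 𝒜 f)[X],
    (Φp 𝒜 ℬ φ z hz hf q).val =
      (Localization.mk b ⟨(φ f) ^ k, ⟨k, rfl⟩⟩ : Localization.Away (φ f))}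
  zero_mem' := ⟨0, by rw [map_zero, HomogeneousLocalization.val_zero, Localization.mk_zero]⟩
  add_mem' := by
    rintro b b' ⟨q, hq⟩ ⟨q', hq'⟩
    exact ⟨q + q', by rw [map_add, HomogeneousLocalization.val_add, hq, hq', Localization.add_mk_self]⟩
  neg_mem' := by
    rintro b ⟨q, hq⟩
    exact ⟨-q, by rw [map_neg, HomogeneousLocalization.val_neg, hq, Localization.neg_mk]⟩

theorem mem_Gk_gen {i : ℕ} {a : A} (ha : a ∈ 𝒜 i) (j : ℕ) :
    φ a * z ^ j ∈ Gk 𝒜 ℬ φ z hz hf (i + j) := by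
  have ha' : a ∈ 𝒜 (i • 1) := by rwa [smul_eq_mul, mul_one]
  refine ⟨C (Away.mk 𝒜 hf i a ha') * X ^ j, ?_⟩
  have h1 : Φp 𝒜 ℬ φ z hz hf (C (Away.mk 𝒜 hf i a ha') * X ^ j) =
      Away.mk ℬ (φ.map_mem hf) i (φ a) (φ.map_mem ha') * (tz 𝒜 ℬ φ z hz hf) ^ j := by
    change Polynomial.eval₂ _ _ (C _ * X ^ j) = _
    rw [Polynomial.eval₂_mul, Polynomial.eval₂_C, Polynomial.eval₂_pow, Polynomial.eval₂_X,
      Away.map_mk]
  rw [h1, HomogeneousLocalization.val_mul, HomogeneousLocalization.val_pow, tz, Away.val_mk,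
    Away.val_mk, Localization.mk_pow, Localization.mk_mul]
  congr 1
  ext
  simp [pow_add]

include hφ hhat in
theorem decompose_mem_Gk (b : B) (k : ℕ) :
    (DirectSum.decompose ℬ b k : B) ∈ Gk 𝒜 ℬ φ z hz hf k := by
  obtain ⟨q, rfl⟩ := hhat.2 b
  induction q using Polynomial.induction_on' with
  | add p q hp hq =>
    rw [map_add, DirectSum.decompose_add, DirectSum.add_apply, Submodule.coe_add]
    exact add_mem hp hq
  | monomial n a =>
    rw [Polynomial.aeval_monomial]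
    induction a using DirectSum.Decomposition.inductionOn 𝒜 with
    | zero =>
      rw [map_zero, zero_mul, DirectSum.decompose_zero, DirectSum.zero_apply]
      exact zero_mem _
    | @homogeneous i a =>
      have hmem : algebraMap A B a.1 * z ^ n ∈ ℬ (i + n) := by
        rw [← hφ]
        have := SetLike.pow_mem_graded n hz
        rw [smul_eq_mul, mul_one] at this
        exact SetLike.mul_mem_graded (φ.map_mem a.2) this
      by_cases hk : k = i + n
      · subst hk
        rw [DirectSum.decompose_of_mem_same ℬ hmem, ← hφ]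
        exact mem_Gk_gen 𝒜 ℬ φ z hz hf a.2 n
      · rw [DirectSum.decompose_of_mem_ne ℬ hmem (Ne.symm hk)]
        exact zero_mem _
    | add a a' ha ha' =>
      rw [map_add, add_mul, DirectSum.decompose_add, DirectSum.add_apply, Submodule.coe_add]
      exact add_mem ha ha'

include hφ hhat in
theorem Φp_surjective : Function.Surjective (Φp 𝒜 ℬ φ z hz hf) := by
  intro d
  obtain ⟨k, b, hb, rfl⟩ := Away.mk_surjective ℬ (φ.map_mem hf) d
  have hb' : b ∈ ℬ k := by rwa [smul_eq_mul, mul_one] at hb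
  have h := decompose_mem_Gk 𝒜 ℬ φ hφ z hz hhat hf b k
  rw [DirectSum.decompose_of_mem_same ℬ hb'] at h
  obtain ⟨q, hq⟩ := h
  refine ⟨q, ?_⟩
  apply HomogeneousLocalization.val_injective
  rw [hq, Away.val_mk]
  rfl

noncomputable def polyEquiv : (Away 𝒜 f)[X] ≃+* Away ℬ (φ f) :=
  RingEquiv.ofBijective (Φp 𝒜 ℬ φ z hz hf)
    ⟨Φp_injective 𝒜 ℬ φ hφ z hz hhat hf, Φp_surjective 𝒜 ℬ φ hφ z hz hhat hf⟩

theorem polyEquiv_C (c : Away 𝒜 f) :
    polyEquiv 𝒜 ℬ φ hφ z hz hhat hf (C c) = Away.map φ f c := by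
  change Polynomial.eval₂ _ _ (C c) = _
  rw [Polynomial.eval₂_C]

end polyiso

section fibre
open Groth.Agent.S3596
attribute [local instance] Polynomial.algebra
open Polynomial

variable {R A : Type u} [CommRing R] [CommRing A] [Algebra R A] (𝒜 : ℕ → Submodule R A) [GradedAlgebra 𝒜]
    {B : Type u} [CommRing B] [Algebra R B] (ℬ : ℕ → Submodule R B) [GradedAlgebra ℬ]
    [Algebra A B] (φ : 𝒜 →+*ᵍ ℬ) (hφ : ∀ a : A, φ a = algebraMap A B a)
    (z : B) (hz : z ∈ ℬ 1) (hhat : Function.Bijective (Polynomial.aeval (R := A) z))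
    (hgen : (HomogeneousIdeal.irrelevant 𝒜).toIdeal = Ideal.span (𝒜 1 : Set A))
    (p : (PCone.dom φ : Scheme.{u}) ⟶ Proj 𝒜) (hp : ∀ (d : ℕ) (f : A) (hd : 0 < d) (hf : f ∈ 𝒜 d),
        PCone.chart φ hf hd ≫ p =
          Spec.map (CommRingCat.ofHom (HomogeneousLocalization.Away.map φ f)) ≫ Proj.awayι 𝒜 f hf hd)

include hp in
theorem isPullback_chart {d : ℕ} {f : A} (hf : f ∈ 𝒜 d) (hd : 0 < d) :
    IsPullback (Spec.map (CommRingCat.ofHom (Away.map φ f)))
      (PCone.chart φ hf hd) (Proj.awayι 𝒜 f hf hd) p := by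
  have := isOpenImmersion_chart 𝒜 ℬ φ hf hd
  apply IsOpenImmersion.isPullback _ _ _ _ (hp d f hd hf)
  rw [Proj.opensRange_awayι, preimage_basicOpen 𝒜 ℬ φ p hp hf hd, opensRange_chart]

include hgen in
theorem exists_deg_one (x : Proj 𝒜) : ∃ f ∈ 𝒜 1, x ∈ Proj.basicOpen 𝒜 f := by
  by_contra h
  push Not at h
  apply x.not_irrelevant_le
  intro a ha
  have ha' : a ∈ (HomogeneousIdeal.irrelevant 𝒜).toIdeal := ha
  rw [hgen] at ha'
  exact Ideal.span_le.2 (fun f hf => by_contra fun hfx => h f hf hfx) ha'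

include hφ hz hhat hp in
theorem fibre_iso {f : A} (hf : f ∈ 𝒜 1) (x : Proj 𝒜) (hx : x ∈ Proj.basicOpen 𝒜 f) :
    ∃ e : pullback p ((Proj 𝒜).fromSpecResidueField x) ≅
        Spec (CommRingCat.of (Polynomial ((Proj 𝒜).residueField x))),
      e.hom ≫ Spec.map (CommRingCat.ofHom (algebraMap ((Proj 𝒜).residueField x)
        (Polynomial ((Proj 𝒜).residueField x)))) =
        pullback.snd p ((Proj 𝒜).fromSpecResidueField x) := by
  have hrange : Set.range ((Proj 𝒜).fromSpecResidueField x).base ⊆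
      Set.range (Proj.awayι 𝒜 f hf one_pos).base := by
    rw [Scheme.range_fromSpecResidueField]
    have : x ∈ (Proj.awayι 𝒜 f hf one_pos).opensRange := by
      rw [Proj.opensRange_awayι]; exact hx
    exact Set.singleton_subset_iff.2 this
  obtain ⟨l, hl⟩ : ∃ l : Spec ((Proj 𝒜).residueField x) ⟶ Spec (CommRingCat.of (Away 𝒜 f)),
      l ≫ Proj.awayι 𝒜 f hf one_pos = (Proj 𝒜).fromSpecResidueField x :=
    ⟨IsOpenImmersion.lift (Proj.awayι 𝒜 f hf one_pos) ((Proj 𝒜).fromSpecResidueField x) hrange,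
      IsOpenImmersion.lift_fac _ _ _⟩
  obtain ⟨ψ, hψ⟩ : ∃ ψ : CommRingCat.of (Away 𝒜 f) ⟶ (Proj 𝒜).residueField x, Spec.map ψ = l :=
    ⟨Spec.preimage l, Spec.map_preimage l⟩
  letI : Algebra (Away 𝒜 f) ((Proj 𝒜).residueField x) := ψ.hom.toAlgebra
  have h0 := CommRingCat.isPushout_of_isPushout (Away 𝒜 f) (Polynomial (Away 𝒜 f))
    ((Proj 𝒜).residueField x) (Polynomial ((Proj 𝒜).residueField x))
  let e : CommRingCat.of (Polynomial (Away 𝒜 f)) ≅ CommRingCat.of (Away ℬ (φ f)) :=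
    (polyEquiv 𝒜 ℬ φ hφ z hz hhat hf).toCommRingCatIso
  have h1 : IsPushout (CommRingCat.ofHom (Away.map φ f)) ψ
      (e.inv ≫ CommRingCat.ofHom (algebraMap (Polynomial (Away 𝒜 f))
        (Polynomial ((Proj 𝒜).residueField x))))
      (CommRingCat.ofHom (algebraMap ((Proj 𝒜).residueField x)
        (Polynomial ((Proj 𝒜).residueField x)))) := by
    refine h0.of_iso (Iso.refl _) e (Iso.refl _) (Iso.refl _) ?_ ?_ ?_ ?_
    · refine CommRingCat.hom_ext (RingHom.ext fun c => ?_)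
      simp only [Iso.refl_hom, Category.id_comp]
      exact polyEquiv_C 𝒜 ℬ φ hφ z hz hhat hf c
    · simp only [Iso.refl_hom, Category.id_comp, Category.comp_id]
      rfl
    · simp
    · exact (Category.id_comp _).symm
  have h2 := isPullback_SpecMap_of_isPushout _ _ _ _ h1
  have h3 := h2.paste_horiz (isPullback_chart 𝒜 ℬ φ p hp hf one_pos).flip
  rw [hψ, hl] at h3
  exact ⟨h3.isoPullback.symm, h3.isoPullback_inv_snd⟩

include hφ hz hhat in
theorem finiteType_awayMap {f : A} (hf : f ∈ 𝒜 1) : (Away.map φ f).FiniteType := by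
  have h1 : (algebraMap (Away 𝒜 f) (Polynomial (Away 𝒜 f))).FiniteType := by
    rw [RingHom.finiteType_algebraMap]
    infer_instance
  have h2 : ((polyEquiv 𝒜 ℬ φ hφ z hz hhat hf).toRingHom).FiniteType :=
    RingHom.FiniteType.of_surjective _ (polyEquiv 𝒜 ℬ φ hφ z hz hhat hf).surjective
  have h3 := h2.comp h1
  have h4 : ((polyEquiv 𝒜 ℬ φ hφ z hz hhat hf).toRingHom).comp
      (algebraMap (Away 𝒜 f) (Polynomial (Away 𝒜 f))) = Away.map φ f := by
    refine RingHom.ext fun c => ?_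
    exact polyEquiv_C 𝒜 ℬ φ hφ z hz hhat hf c
  rwa [h4] at h3

include hφ hz hhat hgen hp in
theorem locallyOfFiniteType_p : LocallyOfFiniteType p := by
  have hopen : ∀ f : {f : A // f ∈ 𝒜 1}, IsOpenImmersion (PCone.chart φ f.2 one_pos) := fun f =>
    isOpenImmersion_chart 𝒜 ℬ φ f.2 one_pos
  haveI : IsZariskiLocalAtSource @LocallyOfFiniteType.{u} :=
    HasRingHomProperty.instIsZariskiLocalAtSource
  apply IsZariskiLocalAtSource.of_iSup_eq_top (P := @LocallyOfFiniteType)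
    (fun f : {f : A // f ∈ 𝒜 1} => (PCone.chart φ f.2 one_pos).opensRange)
  · rw [eq_top_iff]
    intro y _
    have hy : (PCone.dom φ).ι y ∈
        ⨆ f : {f : A // ∃ d : ℕ, 0 < d ∧ f ∈ 𝒜 d}, Proj.basicOpen ℬ (φ f.1) := y.2
    rw [TopologicalSpace.Opens.mem_iSup] at hy
    obtain ⟨⟨g, e, he, hg⟩, hyg⟩ := hy
    rw [TopologicalSpace.Opens.mem_iSup]
    by_contra hcon
    push Not at hcon
    apply hyg
    have hgirr : g ∈ (HomogeneousIdeal.irrelevant 𝒜).toIdeal := by
      rw [HomogeneousIdeal.mem_iff, HomogeneousIdeal.mem_irrelevant_iff,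
        GradedRing.proj_apply, DirectSum.decompose_of_mem_ne 𝒜 hg he.ne']
    rw [hgen] at hgirr
    have hle : Ideal.span (𝒜 1 : Set A) ≤
        Ideal.comap (φ : A →+* B) ((PCone.dom φ).ι y).asHomogeneousIdeal.toIdeal := by
      rw [Ideal.span_le]
      intro f hf
      by_contra hfy
      apply hcon ⟨f, hf⟩
      rw [opensRange_chart]
      exact hfy
    exact hle hgirr
  · intro f
    have := hopen f
    rw [← Scheme.Hom.isoOpensRange_inv_comp (PCone.chart φ f.2 one_pos), Category.assoc,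
      hp 1 f.1 one_pos f.2]
    have h1 : LocallyOfFiniteType (Spec.map (CommRingCat.ofHom (Away.map φ f.1))) := by
      rw [HasRingHomProperty.Spec_iff (P := @LocallyOfFiniteType)]
      exact finiteType_awayMap 𝒜 ℬ φ hφ z hz hhat f.2
    infer_instance

end fibre

/-- Let S be a graded algebra over a ring (an affine base) whose irrelevant ideal is generated by its
degree-one elements, and let Ŝ = S[z] be the graded S-algebra obtained by adjoining a variable z of
degree 1 (given as a graded S-algebra together with z of degree 1 such that S[T] → Ŝ, T ↦ z, is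
bijective). Let Ê be the pointed projective cone, covered by the charts Spec Ŝ_(f) for f ∈ S
homogeneous of positive degree, and p : Ê → X = Proj S the canonical retraction, i.e. the morphism
which on each chart Spec Ŝ_(f) is induced by S_(f) → Ŝ_(f). Then p is of finite type (locally of
finite type and quasi-compact) and its fibre at every point x of X is isomorphic over k(x) to the
affine line Spec k(x)[T]. -/
theorem result {R A : Type u} [CommRing R] [CommRing A] [Algebra R A] (𝒜 : ℕ → Submodule R A) [GradedAlgebra 𝒜]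
    {B : Type u} [CommRing B] [Algebra R B] (ℬ : ℕ → Submodule R B) [GradedAlgebra ℬ]
    [Algebra A B] [IsScalarTower R A B] (φ : 𝒜 →+*ᵍ ℬ) (hφ : ∀ a : A, φ a = algebraMap A B a)
    (z : B) (hz : z ∈ ℬ 1) (hhat : Function.Bijective (Polynomial.aeval (R := A) z))
    (hgen : (HomogeneousIdeal.irrelevant 𝒜).toIdeal = Ideal.span (𝒜 1 : Set A))
    (p : (PCone.dom φ : Scheme.{u}) ⟶ Proj 𝒜) (hp : ∀ (d : ℕ) (f : A) (hd : 0 < d) (hf : f ∈ 𝒜 d),
        PCone.chart φ hf hd ≫ p =
          Spec.map (CommRingCat.ofHom (HomogeneousLocalization.Away.map φ f)) ≫ Proj.awayι 𝒜 f hf hd) (x : Proj 𝒜) :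
    LocallyOfFiniteType p ∧ QuasiCompact p ∧
      ∃ e : pullback p ((Proj 𝒜).fromSpecResidueField x) ≅
          Spec (CommRingCat.of (Polynomial ((Proj 𝒜).residueField x))),
        e.hom ≫ Spec.map (CommRingCat.ofHom (algebraMap ((Proj 𝒜).residueField x)
          (Polynomial ((Proj 𝒜).residueField x)))) = pullback.snd p ((Proj 𝒜).fromSpecResidueField x) := by
  obtain ⟨f, hf, hx⟩ := exists_deg_one 𝒜 hgen x
  have haff : IsAffineHom p := Groth.Agent.S3596.result' 𝒜 ℬ φ p hp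
  exact ⟨locallyOfFiniteType_p 𝒜 ℬ φ hφ z hz hhat hgen p hp, inferInstance,
    fibre_iso 𝒜 ℬ φ hφ z hz hhat p hp hf x hx⟩

end Groth.Agent.S3598
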