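import Groth.Statements.S3623
import Groth.Agent.S1827
import Groth.Agent.Lib.Helper2.Gor.GK1

set_option autoImplicit false
universe u
open CategoryTheory CategoryTheory.Limits AlgebraicGeometry
attribute [local instance] HasDerivedCategory.standard
open Dual3

namespace Groth.Agent.S3623

section helpers
open CategoryTheory CategoryTheory.Limits AlgebraicGeometry
attribute [local instance] HasDerivedCategory.standard
open Dual3

theorem result_aux (Y X : Scheme.{u}) (f : Y ⟶ X) (hf : Dual3.IsLCIMor f) (hX : Dual3.IsGorenstein X) : Dual3.IsGorenstein Y := by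
  obtain ⟨hXN, hXG⟩ := hX
  have key : ∀ y : Y, ∃ U : Y.affineOpens, y ∈ U.1 ∧ LocCoh.IsGorensteinRing Γ(Y, U.1) := by
    intro y
    obtain ⟨U, V, e, hyU, hLCI⟩ := hf y
    refine ⟨U, hyU, ?_⟩
    let _ := (f.appLE V.1 U.1 e).hom.toAlgebra
    have hA : LocCoh.IsGorensteinRing Γ(X, V.1) := by
      have : IsNoetherianRing Γ(X, V.1) := AlgebraicGeometry.IsLocallyNoetherian.component_noetherian V
      refine { isGorensteinLocalRing_localization := ?_ }
      intro p hp
      let _ : Algebra Γ(X, V.1) (X.presheaf.stalk (V.2.fromSpec ⟨p, hp⟩)) :=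
        TopCat.Presheaf.algebra_section_stalk X.presheaf _
      have hloc : IsLocalization.AtPrime (X.presheaf.stalk (V.2.fromSpec ⟨p, hp⟩)) p :=
        V.2.isLocalization_stalk' ⟨p, hp⟩ (V.2.isoSpec.inv _).2
      exact Groth.Agent.Lib.Helper2.GK.gor_of_ringEquiv
        (IsLocalization.algEquiv p.primeCompl (X.presheaf.stalk (V.2.fromSpec ⟨p, hp⟩))
          (Localization.AtPrime p)).toRingEquiv (hXG _)
    exact Groth.Agent.S1827.result _ _ hA hLCI
  choose W hyW hWG using key
  constructor
  · apply AlgebraicGeometry.isLocallyNoetherian_of_affine_cover (S := W)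
    · rw [eq_top_iff]
      intro y _
      exact TopologicalSpace.Opens.mem_iSup.mpr ⟨y, hyW y⟩
    · intro y
      exact (hWG y).toIsNoetherian
  · intro y
    let _ : Algebra Γ(Y, (W y).1) (Y.presheaf.stalk y) :=
      TopCat.Presheaf.algebra_section_stalk Y.presheaf ⟨y, hyW y⟩
    have hloc := (W y).2.isLocalization_stalk ⟨y, hyW y⟩
    have hG := (hWG y).isGorensteinLocalRing_localization ((W y).2.primeIdealOf ⟨y, hyW y⟩).asIdeal
    exact Groth.Agent.Lib.Helper2.GK.gor_of_ringEquiv
      (IsLocalization.algEquiv ((W y).2.primeIdealOf ⟨y, hyW y⟩).asIdeal.primeCompl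
        (Localization.AtPrime ((W y).2.primeIdealOf ⟨y, hyW y⟩).asIdeal)
        (Y.presheaf.stalk y)).toRingEquiv hG

end helpers

/-- Let f : Y → X be a local complete intersection morphism (affine-locally given by local complete
intersection ring maps) with X a Gorenstein scheme. Then Y is a Gorenstein scheme. -/
theorem result (Y X : Scheme.{u}) (f : Y ⟶ X) (hf : Dual3.IsLCIMor f) (hX : Dual3.IsGorenstein X) : Dual3.IsGorenstein Y := by
  exact result_aux Y X f hf hX

end Groth.Agent.S3623
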