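import Groth.Statements.S3630
import Groth.Agent.S0484
import Groth.Agent.Lib.Helper17.ModSiteColim
import Groth.Agent.Lib.Helper2.ClosedPush.Colim

set_option autoImplicit false
universe u
open CategoryTheory CategoryTheory.Limits AlgebraicGeometry
attribute [local instance] HasDerivedCategory.standard
open Dual3

namespace Groth.Agent.S3630

/-- For a closed immersion of schemes i : Z → X. The direct image functor i_* from O_Z-modules to
O_X-modules is a left adjoint: it has a right adjoint, the functor sending F to the O_Z-module of
sections of F annihilated by the ideal of Z. -/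
theorem result (Z X : Scheme.{u}) (i : Z ⟶ X) [IsClosedImmersion i] : Dual3.HasHomO i := by
  have hG : IsGrothendieckAbelian.{u} Z.Modules :=
    Groth.Agent.S0484.result (Opens.grothendieckTopology Z) Z.ringCatSheaf
  have hR := Groth.Agent.Lib.Helper17.ModSiteColim.toSheaf_preservesColimits Z.ringCatSheaf
  have hS := Groth.Agent.Lib.Helper17.ModSiteColim.toSheaf_preservesColimits X.ringCatSheaf
  have rS : Limits.ReflectsColimitsOfSize.{u, u} (SheafOfModules.toSheaf.{u} X.ringCatSheaf) :=
    Limits.reflectsColimits_of_reflectsIsomorphisms
  have hP : Limits.PreservesColimitsOfSize.{u, u}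
      ((TopologicalSpace.Opens.map i.base).sheafPushforwardContinuous AddCommGrpCat.{u}
        (Opens.grothendieckTopology X) (Opens.grothendieckTopology Z)) :=
    Groth.Agent.Lib.Helper2.ClosedPush.preservesColimitsOfSize_push i.base
      i.isClosedEmbedding
  have c1 : Limits.PreservesColimitsOfSize.{u, u}
      (SheafOfModules.pushforward.{u} i.toRingCatSheafHom ⋙
        SheafOfModules.toSheaf.{u} X.ringCatSheaf) :=
    inferInstanceAs (Limits.PreservesColimitsOfSize.{u, u}
      (SheafOfModules.toSheaf.{u} Z.ringCatSheaf ⋙
        (TopologicalSpace.Opens.map i.base).sheafPushforwardContinuous AddCommGrpCat.{u}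
          (Opens.grothendieckTopology X) (Opens.grothendieckTopology Z)))
  have c2 : Limits.PreservesColimitsOfSize.{u, u}
      (SheafOfModules.pushforward.{u} i.toRingCatSheafHom) :=
    Limits.preservesColimits_of_reflects_of_preserves _
      (SheafOfModules.toSheaf.{u} X.ringCatSheaf)
  have c3 : Limits.PreservesColimitsOfSize.{u, u} (Scheme.Modules.pushforward i) := c2
  have hW : WellPowered.{u} Z.Modules := IsGrothendieckAbelian.wellPowered _
  have hW' : WellPowered.{u} Z.Modulesᵒᵖ := Abelian.wellPowered_opposite
  exact isLeftAdjoint_of_preservesColimits_of_isSeparating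
    (isSeparator_separator Z.Modules) _

end Groth.Agent.S3630
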