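import Groth.Statements.S3707
-- import your own Groth.Agent.* helpers here

set_option autoImplicit false
universe u
open SGA1

namespace Groth.Agent.S3707

open AlgebraicGeometry CategoryTheory CategoryTheory.Limits in
/-- Let g : S' -> S be a surjective morphism of schemes, X and Y schemes over S with Y unramified over S
(formally unramified and locally of finite type), and X', Y' their base changes to S'. Then the map
sending an S-morphism X -> Y to the induced S'-morphism X' -> Y' is injective. -/
theorem result {S S' X Y : Scheme.{u}} (g : S' ⟶ S) [Surjective g]
    (p : X ⟶ S) (q : Y ⟶ S) [FormallyUnramified q] [LocallyOfFiniteType q]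
    (u v : X ⟶ Y) (hu : p ≫ 𝟙 S = u ≫ q) (hv : p ≫ 𝟙 S = v ≫ q)
    (h : pullback.map p g q g u (𝟙 S') (𝟙 S) hu ((Category.comp_id _).trans (Category.id_comp _).symm) =
      pullback.map p g q g v (𝟙 S') (𝟙 S) hv ((Category.comp_id _).trans (Category.id_comp _).symm)) :
    u = v := by
  have huv : u ≫ q = v ≫ q := hu.symm.trans hv
  have hfst : pullback.fst p g ≫ u = pullback.fst p g ≫ v := by
    have h1 := congrArg (fun t => t ≫ pullback.fst q g) h
    simp only [pullback.map, pullback.lift_fst] at h1
    exact h1
  let w : X ⟶ pullback q q := pullback.lift u v huv
  have hw : pullback.fst p g ≫ w = (pullback.fst p g ≫ u) ≫ pullback.diagonal q := by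
    apply pullback.hom_ext
    · simp only [w, Category.assoc, pullback.lift_fst, pullback.diagonal_fst, Category.comp_id]
    · simp only [w, Category.assoc, pullback.lift_snd, pullback.diagonal_snd, Category.comp_id, hfst]
  have hsurj : Function.Surjective (pullback.fst p g).base := (inferInstance : Surjective (pullback.fst p g)).surj
  have hrange : Set.range w.base ⊆ Set.range (pullback.diagonal q).base := by
    rintro _ ⟨x, rfl⟩
    obtain ⟨x', rfl⟩ := hsurj x
    refine ⟨(pullback.fst p g ≫ u).base x', ?_⟩
    have := congrArg (fun t : pullback p g ⟶ pullback q q => t.base x') hw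
    simpa using this.symm
  have hfac := IsOpenImmersion.lift_fac (pullback.diagonal q) w hrange
  have e1 : u = IsOpenImmersion.lift (pullback.diagonal q) w hrange := by
    have := congrArg (fun t => t ≫ pullback.fst q q) hfac
    simp only [w, Category.assoc, pullback.lift_fst, pullback.diagonal_fst, Category.comp_id] at this
    exact this.symm
  have e2 : v = IsOpenImmersion.lift (pullback.diagonal q) w hrange := by
    have := congrArg (fun t => t ≫ pullback.snd q q) hfac
    simp only [w, Category.assoc, pullback.lift_snd, pullback.diagonal_snd, Category.comp_id] at this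
    exact this.symm
  rw [e1, ← e2]

end Groth.Agent.S3707
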