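import Groth.Statements.S3709
import Groth.Agent.Lib.Helper10.EtSubm2

set_option autoImplicit false
universe u
open SGA1

namespace Groth.Agent.S3709

open AlgebraicGeometry CategoryTheory CategoryTheory.Limits in
/-- A universally submersive morphism is a descent morphism for etale schemes (exactness of Hom_S(X, Y)
-> Hom_S'(X', Y') => Hom_S''(X'', Y'')): let g : S' -> S be universally submersive, X and Y schemes
over S with Y etale over S, X' and Y' their base changes along g, and f' : X' -> Y' an S'-morphism
whose two pullbacks to S'' = S' x_S S' coincide (equivalently: the two composites X'' -> X' -> Y' ->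
Y along the two projections agree). Then there is exactly one S-morphism u : X -> Y whose base
change is f'. -/
theorem result {S S' X Y : Scheme.{u}} (g : S' ⟶ S) (hg : SGA1.UnivSubmersive g)
    (p : X ⟶ S) (q : Y ⟶ S) [Etale q]
    (f' : pullback p g ⟶ pullback q g) (hf' : f' ≫ pullback.snd q g = pullback.snd p g)
    (hcoc : pullback.map p (pullback.fst g g ≫ g) p g (𝟙 X) (pullback.fst g g) (𝟙 S)
        ((Category.comp_id _).trans (Category.id_comp _).symm) (Category.comp_id _) ≫ f' ≫ pullback.fst q g =
      pullback.map p (pullback.fst g g ≫ g) p g (𝟙 X) (pullback.snd g g) (𝟙 S)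
        ((Category.comp_id _).trans (Category.id_comp _).symm) ((Category.comp_id _).trans pullback.condition) ≫
        f' ≫ pullback.fst q g) :
    ∃! u : X ⟶ Y, u ≫ q = p ∧ f' ≫ pullback.fst q g = pullback.fst p g ≫ u := by
  have hsurj : Function.Surjective (CategoryTheory.Limits.pullback.fst p g) :=
    (hg _ _ _ (CategoryTheory.IsPullback.of_hasPullback p g)).surjective
  have hcoc' : CategoryTheory.Limits.pullback.fst (CategoryTheory.Limits.pullback.fst p g)
      (CategoryTheory.Limits.pullback.fst p g) ≫ f' ≫ CategoryTheory.Limits.pullback.fst q g =
      CategoryTheory.Limits.pullback.snd (CategoryTheory.Limits.pullback.fst p g)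
      (CategoryTheory.Limits.pullback.fst p g) ≫ f' ≫ CategoryTheory.Limits.pullback.fst q g := by
    have c0 : CategoryTheory.Limits.pullback.fst (CategoryTheory.Limits.pullback.fst p g)
        (CategoryTheory.Limits.pullback.fst p g) ≫ CategoryTheory.Limits.pullback.fst p g =
        CategoryTheory.Limits.pullback.snd (CategoryTheory.Limits.pullback.fst p g)
        (CategoryTheory.Limits.pullback.fst p g) ≫ CategoryTheory.Limits.pullback.fst p g :=
      CategoryTheory.Limits.pullback.condition
    have c1 : (CategoryTheory.Limits.pullback.fst (CategoryTheory.Limits.pullback.fst p g)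
        (CategoryTheory.Limits.pullback.fst p g) ≫ CategoryTheory.Limits.pullback.snd p g) ≫ g =
        (CategoryTheory.Limits.pullback.snd (CategoryTheory.Limits.pullback.fst p g)
        (CategoryTheory.Limits.pullback.fst p g) ≫ CategoryTheory.Limits.pullback.snd p g) ≫ g := by
      rw [CategoryTheory.Category.assoc, CategoryTheory.Category.assoc,
        ← CategoryTheory.Limits.pullback.condition (f := p) (g := g),
        ← CategoryTheory.Category.assoc, ← CategoryTheory.Category.assoc, c0]
    let ι : CategoryTheory.Limits.pullback (CategoryTheory.Limits.pullback.fst p g)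
        (CategoryTheory.Limits.pullback.fst p g) ⟶
        CategoryTheory.Limits.pullback p (CategoryTheory.Limits.pullback.fst g g ≫ g) :=
      CategoryTheory.Limits.pullback.lift
        (CategoryTheory.Limits.pullback.fst (CategoryTheory.Limits.pullback.fst p g)
          (CategoryTheory.Limits.pullback.fst p g) ≫ CategoryTheory.Limits.pullback.fst p g)
        (CategoryTheory.Limits.pullback.lift
          (CategoryTheory.Limits.pullback.fst (CategoryTheory.Limits.pullback.fst p g)
            (CategoryTheory.Limits.pullback.fst p g) ≫ CategoryTheory.Limits.pullback.snd p g)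
          (CategoryTheory.Limits.pullback.snd (CategoryTheory.Limits.pullback.fst p g)
            (CategoryTheory.Limits.pullback.fst p g) ≫ CategoryTheory.Limits.pullback.snd p g) c1)
        (by
          rw [← CategoryTheory.Category.assoc, CategoryTheory.Limits.pullback.lift_fst,
            CategoryTheory.Category.assoc, CategoryTheory.Category.assoc,
            CategoryTheory.Limits.pullback.condition (f := p) (g := g)])
    have h1 : ι ≫ CategoryTheory.Limits.pullback.map p (CategoryTheory.Limits.pullback.fst g g ≫ g)
        p g (CategoryTheory.CategoryStruct.id X) (CategoryTheory.Limits.pullback.fst g g)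
        (CategoryTheory.CategoryStruct.id S)
        ((CategoryTheory.Category.comp_id _).trans (CategoryTheory.Category.id_comp _).symm)
        (CategoryTheory.Category.comp_id _) =
        CategoryTheory.Limits.pullback.fst (CategoryTheory.Limits.pullback.fst p g)
          (CategoryTheory.Limits.pullback.fst p g) := by
      apply CategoryTheory.Limits.pullback.hom_ext
      · rw [CategoryTheory.Category.assoc, CategoryTheory.Limits.pullback.lift_fst,
          ← CategoryTheory.Category.assoc, CategoryTheory.Limits.pullback.lift_fst,
          CategoryTheory.Category.comp_id]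
      · rw [CategoryTheory.Category.assoc, CategoryTheory.Limits.pullback.lift_snd,
          ← CategoryTheory.Category.assoc, CategoryTheory.Limits.pullback.lift_snd,
          CategoryTheory.Limits.pullback.lift_fst]
    have h2 : ι ≫ CategoryTheory.Limits.pullback.map p (CategoryTheory.Limits.pullback.fst g g ≫ g)
        p g (CategoryTheory.CategoryStruct.id X) (CategoryTheory.Limits.pullback.snd g g)
        (CategoryTheory.CategoryStruct.id S)
        ((CategoryTheory.Category.comp_id _).trans (CategoryTheory.Category.id_comp _).symm)
        ((CategoryTheory.Category.comp_id _).trans CategoryTheory.Limits.pullback.condition) =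
        CategoryTheory.Limits.pullback.snd (CategoryTheory.Limits.pullback.fst p g)
          (CategoryTheory.Limits.pullback.fst p g) := by
      apply CategoryTheory.Limits.pullback.hom_ext
      · rw [CategoryTheory.Category.assoc, CategoryTheory.Limits.pullback.lift_fst,
          ← CategoryTheory.Category.assoc, CategoryTheory.Limits.pullback.lift_fst,
          CategoryTheory.Category.comp_id, c0]
      · rw [CategoryTheory.Category.assoc, CategoryTheory.Limits.pullback.lift_snd,
          ← CategoryTheory.Category.assoc, CategoryTheory.Limits.pullback.lift_snd,
          CategoryTheory.Limits.pullback.lift_snd]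
    rw [← h1, ← h2, CategoryTheory.Category.assoc, CategoryTheory.Category.assoc, hcoc]
  obtain ⟨u, hu1, hu2⟩ := Groth.Agent.Lib.Helper10.EtSubm2.exists_lift_of_cocycle g hg p q f' hf' hcoc'
  refine ⟨u, ⟨hu1, hu2.symm⟩, fun u' hu' => ?_⟩
  exact Groth.Agent.Lib.Helper10.EtSubm2.eq_of_comp_surjective p q
    (CategoryTheory.Limits.pullback.fst p g) hsurj u' u hu'.1 hu1 (by rw [← hu'.2, hu2])

end Groth.Agent.S3709
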