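import Groth.Statements.S3731
import Mathlib
import Groth.Agent.Lib.Helper17.DerTrunc

set_option autoImplicit false
universe u v
open CategoryTheory CategoryTheory.Limits
attribute [local instance] HasDerivedCategory.standard
open EtDl

namespace Groth.Agent.S3731

/-- Let A be an abelian category, k ≥ 0, and K_0 -> K_1 -> ... -> K_{2k} a chain of 2k morphisms in the
derived category of A such that every K_i has H^p(K_i) = 0 for p outside [0, k] and every morphism
K_i -> K_{i+1} induces the zero map on H^p for all p < k. Let π : K_0 -> H^k(K_0)[-k] be the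
morphism to the top cohomology object placed in degree k that induces the identity on H^k. Then the
composite K_0 -> K_{2k} factors through π. -/
theorem result {A : Type u} [Category.{v} A] [Abelian A] (k : ℕ)
    (K : ComposableArrows (DerivedCategory A) (2 * k))
    (hK : ∀ (i : ℕ) (hi : i ≤ 2 * k) (p : ℤ), p < 0 ∨ (k : ℤ) < p →
      IsZero ((DerivedCategory.homologyFunctor A p).obj (K.obj' i)))
    (hf : ∀ (i : ℕ) (hi : i < 2 * k) (p : ℤ), p < (k : ℤ) →
      (DerivedCategory.homologyFunctor A p).map (K.map' i (i + 1)) = 0)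
    (π : K.obj' 0 ⟶ (DerivedCategory.singleFunctor A (k : ℤ)).obj
      ((DerivedCategory.homologyFunctor A (k : ℤ)).obj (K.obj' 0)))
    (hπ : (DerivedCategory.homologyFunctor A (k : ℤ)).map π ≫
      (DerivedCategory.singleFunctorCompHomologyFunctorIso A (k : ℤ)).hom.app
        ((DerivedCategory.homologyFunctor A (k : ℤ)).obj (K.obj' 0)) = 𝟙 _) :
    ∃ φ : (DerivedCategory.singleFunctor A (k : ℤ)).obj
        ((DerivedCategory.homologyFunctor A (k : ℤ)).obj (K.obj' 0)) ⟶ K.obj' (2 * k),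
      K.map' 0 (2 * k) = π ≫ φ := by
  classical
  open DerivedCategory Groth.Agent.Lib.Helper17.DerTrunc Pretriangulated in
  let t := DerivedCategory.TStructure.t (C := A)
  let K₀ := K.obj' 0
  -- bounds on the objects
  have hGE : ∀ (i : ℕ) (hi : i ≤ 2 * k), (K.obj' i).IsGE 0 := by
    intro i hi
    rw [DerivedCategory.isGE_iff]
    intro p hp
    exact hK i hi p (Or.inl hp)
  have hLE : ∀ (i : ℕ) (hi : i ≤ 2 * k), (K.obj' i).IsLE (k : ℤ) := by
    intro i hi
    rw [DerivedCategory.isLE_iff]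
    intro p hp
    exact hK i hi p (Or.inr hp)
  haveI : K₀.IsLE (k : ℤ) := hLE 0 (by omega)
  -- the truncation triangle of K₀
  let T := (t.triangleLEGE ((k : ℤ) - 1) k (by ring)).obj K₀
  have hT : T ∈ distTriang _ := t.triangleLEGE_distinguished ((k : ℤ) - 1) k (by ring) K₀
  let X := (t.truncLE ((k : ℤ) - 1)).obj K₀
  let W := (t.truncGE (k : ℤ)).obj K₀
  let x₀ : X ⟶ K₀ := (t.truncLEι ((k : ℤ) - 1)).app K₀
  let p : K₀ ⟶ W := (t.truncGEπ (k : ℤ)).app K₀
  haveI : X.IsLE ((k : ℤ) - 1) := inferInstanceAs (t.IsLE ((t.truncLE ((k : ℤ) - 1)).obj K₀) _)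
  haveI : W.IsGE (k : ℤ) := inferInstanceAs (t.IsGE ((t.truncGE (k : ℤ)).obj K₀) _)
  haveI : W.IsLE (k : ℤ) := inferInstanceAs (t.IsLE ((t.truncGE (k : ℤ)).obj K₀) _)
  -- the first `k` maps kill `X`
  have key : ∀ (j : ℕ) (hj : j ≤ k),
      FactorsLE (x₀ ≫ K.map' 0 j (Nat.zero_le _) (by omega)) ((k : ℤ) - 1 - j) := by
    intro j
    induction j with
    | zero =>
      intro _
      rw [K.map'_self 0, Category.comp_id,
        show ((k : ℤ) - 1 - ((0 : ℕ) : ℤ)) = (k : ℤ) - 1 by simp]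
      exact FactorsLE.of_isLE x₀ ((k : ℤ) - 1)
    | succ j ih =>
      intro hj
      have h1 := ih (by omega)
      rw [K.map'_comp 0 j (j + 1) (Nat.zero_le _) (Nat.le_succ _) (by omega), ← Category.assoc]
      refine h1.step _ (hf j (by omega) _ (by omega)) _ (by push_cast; ring)
  have hx₀ : x₀ ≫ K.map' 0 k (Nat.zero_le _) (by omega) = 0 := by
    haveI := hGE k (by omega)
    exact (key k le_rfl).eq_zero 0 (by omega)
  obtain ⟨g, hg⟩ : ∃ g : W ⟶ K.obj' k (by omega), K.map' 0 k (Nat.zero_le _) (by omega) = p ≫ g :=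
    Triangle.yoneda_exact₂ T hT (K.map' 0 k (Nat.zero_le _) (by omega)) hx₀
  -- π factors through p
  have hπx : x₀ ≫ π = 0 := t.zero _ ((k : ℤ) - 1) k (by omega)
  obtain ⟨θ, hθ⟩ : ∃ θ : W ⟶ _, π = p ≫ θ := Triangle.yoneda_exact₂ T hT π hπx
  -- H^k(p) is an isomorphism
  have hpk : IsIso ((homologyFunctor A (k : ℤ)).map p) := by
    haveI : Mono ((homologyFunctor A (k : ℤ)).map T.mor₂) := by
      rw [HomologySequence.mono_homologyMap_mor₂_iff T hT (k : ℤ)]
      exact (isZero_of_isLE X ((k : ℤ) - 1) k (by omega)).eq_of_src _ _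
    haveI : Epi ((homologyFunctor A (k : ℤ)).map T.mor₂) := by
      rw [HomologySequence.epi_homologyMap_mor₂_iff T hT (k : ℤ) (k + 1) rfl]
      exact (isZero_of_isLE X ((k : ℤ) - 1) (k + 1) (by omega)).eq_of_tgt _ _
    exact isIso_of_mono_of_epi ((homologyFunctor A (k : ℤ)).map T.mor₂)
  have hπk : IsIso ((homologyFunctor A (k : ℤ)).map π) := by
    have h2 : IsIso ((homologyFunctor A (k : ℤ)).map π ≫
        (DerivedCategory.singleFunctorCompHomologyFunctorIso A (k : ℤ)).hom.app _) := by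
      rw [hπ]; infer_instance
    exact IsIso.of_isIso_comp_right _
      ((DerivedCategory.singleFunctorCompHomologyFunctorIso A (k : ℤ)).hom.app _)
  have hθiso : IsIso θ := by
    rw [DerivedCategory.isIso_iff]
    intro n
    rcases lt_trichotomy n (k : ℤ) with hn | rfl | hn
    · exact ⟨⟨0, (isZero_of_isGE W (k : ℤ) n hn).eq_of_src _ _,
        (isZero_of_isGE _ (k : ℤ) n hn).eq_of_src _ _⟩⟩
    · have h3 : (homologyFunctor A (k : ℤ)).map π =
          (homologyFunctor A (k : ℤ)).map p ≫ (homologyFunctor A (k : ℤ)).map θ := by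
        rw [← Functor.map_comp, ← hθ]
      have h4 : IsIso ((homologyFunctor A (k : ℤ)).map p ≫ (homologyFunctor A (k : ℤ)).map θ) := by
        rw [← h3]; exact hπk
      haveI := hpk
      haveI := h4
      exact IsIso.of_isIso_comp_left ((homologyFunctor A (k : ℤ)).map p) _
    · exact ⟨⟨0, (isZero_of_isLE W (k : ℤ) n hn).eq_of_src _ _,
        (isZero_of_isLE _ (k : ℤ) n hn).eq_of_src _ _⟩⟩
  refine ⟨inv θ ≫ g ≫ K.map' k (2 * k) (by omega) le_rfl, ?_⟩
  rw [K.map'_comp 0 k (2 * k) (Nat.zero_le _) (by omega) le_rfl, hg, hθ]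
  simp only [Category.assoc]
  congr 1
  rw [← Category.assoc θ, IsIso.hom_inv_id, Category.id_comp]

end Groth.Agent.S3731
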