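import Groth.Statements.S3781
import Mathlib
import Groth.Agent.Lib.Helper20.LamDet

set_option autoImplicit false
universe v u
open CategoryTheory CategoryTheory.Limits AlgebraicGeometry
attribute [local instance] HasDerivedCategory.standard
open KRR

namespace Groth.Agent.S3781


open Groth.Agent.Lib.Helper20.LamDet Groth.Agent.Lib.Helper20.LamSplit Groth.Agent.Lib.Helper20.LamFil

/-- Let K be a λ-ring with positive structure having the splitting property, L its group of line
elements and F^n the γ-filtration. Assume moreover that the inverse of a line element is a line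
element and that for a positive e with ε(e) = r the element det e = λ^r(e) is positive (hence a line
element); these are part of the published setting but are not implied by the axioms used here, so
they are hypotheses. Then u ↦ u − 1 induces an isomorphism L ≅ Gr^1 K = F^1/F^2: every x ∈ F^1 is
congruent modulo F^2 to u − 1 for some line element u, and line elements u, v with u − v ∈ F^2 are
equal. -/
theorem result (K : Type v) [CommRing K] [LambdaRing.LambdaOps K] (P : LambdaRing.PosStructure K) (hK : LambdaRing.HasSplitting K P)
    (hLinv : ∀ w : K, P.IsLine w → ∃ w' : K, P.IsLine w' ∧ w * w' = 1)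
    (hdet : ∀ e : K, e ∈ P.pos → LambdaRing.LambdaOps.lam (P.aug e).toNat e ∈ P.pos) :
    (∀ x : K, x ∈ LambdaRing.gammaFiltration P 1 → ∃ u : K, P.IsLine u ∧ x - (u - 1) ∈ LambdaRing.gammaFiltration P 2) ∧
    ∀ u v : K, P.IsLine u → P.IsLine v → u - v ∈ LambdaRing.gammaFiltration P 2 → u = v := by
  have hline_sub : ∀ w : K, P.IsLine w → w - 1 ∈ LambdaRing.gammaFiltration P 1 := by
    intro w hw
    refine mem_gammaFiltration_one P _ ?_
    rw [map_sub, hw.2, map_one, sub_self]
  have htop : ∀ e : K, e ∈ P.pos → P.IsLine (topLam P e) := by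
    intro e he
    refine ⟨hdet e he, ?_⟩
    rw [topLam, aug_lam_eq_choose P hK e he, Nat.choose_self]
    rfl
  refine ⟨fun x hx => ?_, fun u v hu hv huv => ?_⟩
  · have hx0 := aug_eq_zero_of_mem P hK 1 le_rfl x hx
    obtain ⟨e, f, he, hf, hxe⟩ := P.exists_sub x
    have haug : (P.aug e).toNat = (P.aug f).toNat := by
      have : P.aug e - P.aug f = 0 := by rw [← map_sub, ← hxe, hx0]
      have : P.aug e = P.aug f := by linarith
      rw [this]
    obtain ⟨d', hd', hdd'⟩ := hLinv (topLam P f) (htop f hf)
    have hu : P.IsLine (topLam P e * d') := Groth.Agent.S3791.isLine_mul P (htop e he) hd'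
    refine ⟨topLam P e * d', hu, ?_⟩
    have h1 := topLam_sub_one_sub_mem P e he
    have h2 := topLam_sub_one_sub_mem P f hf
    have h3 := mul_mem P 1 1 _ _ (hline_sub _ (htop f hf)) (hline_sub _ hu)
    have e1 : x - (topLam P e * d' - 1) =
        -((topLam P e - 1) - (e - ((P.aug e).toNat : K))) + ((topLam P f - 1) - (f - ((P.aug f).toNat : K))) +
          (topLam P f - 1) * (topLam P e * d' - 1) := by
      rw [hxe, haug]
      linear_combination (-topLam P e) * hdd'
    rw [e1]
    exact AddSubgroup.add_mem _ (AddSubgroup.add_mem _ (AddSubgroup.neg_mem _ h1) h2) h3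
  · have h1 := det_sub_mul P u v
    rw [det_eq_one_of_mem_two P hK _ huv, one_mul, det_line P v hv, det_line P u hu] at h1
    exact h1.symm

end Groth.Agent.S3781
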