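import Groth.Statements.S3782
import Mathlib
import Groth.Agent.Lib.Helper20.LamKeFil
import Groth.Agent.Lib.Helper20.LamKe

set_option autoImplicit false
universe v u
open CategoryTheory CategoryTheory.Limits AlgebraicGeometry
attribute [local instance] HasDerivedCategory.standard
open KRR

namespace Groth.Agent.S3782


open Groth.Agent.Lib.Helper20.LamKeFil Groth.Agent.Lib.Helper20.LamKe Groth.Agent.Lib.Helper20.LamSplit
  Groth.Agent.Lib.Helper20.LamFil LambdaRing LambdaRing.LambdaOps

/-- Let K be a λ-ring with positive structure having the splitting property, e positive with ε(e) = r +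
1, and K_e = K[T]/(p_e) with generator ℓ, equipped with a λ-structure extending that of K with
λ^i(ℓ) = 0 for i ≥ 2 and a positive structure making K ⟶ K_e an extension with ℓ a line element and
again having the splitting property. Then for every k ≥ 0 the γ-filtration of K_e is F^k K_e =
Σ_{i=0}^{r} F^{k-i}K · (ℓ - 1)^i (F^j K = K for j ≤ 0). In particular F^k K_e ∩ K = F^k K. -/
theorem result (K : Type v) [CommRing K] [LambdaRing.LambdaOps K] (P : LambdaRing.PosStructure K) (hK : LambdaRing.HasSplitting K P) (e : K) (he : e ∈ P.pos) (r : ℕ) (hr : P.aug e = r + 1)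
    (inst : LambdaRing.LambdaOps (AdjoinRoot (KRR.extPoly P e))) (Pe : @LambdaRing.PosStructure _ _ inst)
    (hext : @LambdaRing.IsExtension K _ _ _ _ inst P Pe (AdjoinRoot.of (KRR.extPoly P e)))
    (hroot : ∀ i : ℕ, 2 ≤ i → @LambdaRing.LambdaOps.lam _ _ inst i (AdjoinRoot.root (KRR.extPoly P e)) = 0)
    (hline : @LambdaRing.PosStructure.IsLine _ _ inst Pe (AdjoinRoot.root (KRR.extPoly P e)))
    (hsplit : @LambdaRing.HasSplitting _ _ inst Pe) (k : ℕ) :
    @LambdaRing.gammaFiltration _ _ inst Pe k =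
      ⨆ i ∈ Finset.range (r + 1), AddSubgroup.map
        ((AddMonoidHom.mulRight ((AdjoinRoot.root (KRR.extPoly P e) - 1) ^ i)).comp
          (AdjoinRoot.of (KRR.extPoly P e)).toAddMonoidHom)
        (LambdaRing.gammaFiltration P (k - i)) := by
  letI := inst
  have hm : P.aug e = ((r + 1 : ℕ) : ℤ) := by rw [hr]; push_cast; rfl
  have haug : P.aug (e - ((r + 1 : ℕ) : K)) = 0 := by rw [map_sub, map_natCast, hm, sub_self]
  -- spanning
  have hspan : ∀ z : AdjoinRoot (KRR.extPoly P e), ∃ f : Polynomial K,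
      z = Polynomial.eval₂ (AdjoinRoot.of (KRR.extPoly P e)) (AdjoinRoot.root (KRR.extPoly P e)) f := by
    intro z
    obtain ⟨f, rfl⟩ := AdjoinRoot.mk_surjective z
    refine ⟨f, ?_⟩
    rw [← AdjoinRoot.aeval_eq, Polynomial.aeval_def, AdjoinRoot.algebraMap_eq]
  -- the relation
  have hrel0 : ∑ i ∈ Finset.range (r + 1 + 1), AdjoinRoot.of (KRR.extPoly P e) (gamma i (e - ((r + 1 : ℕ) : K))) *
      (1 - AdjoinRoot.root (KRR.extPoly P e)) ^ (r + 1 - i) = 0 := by
    have h1 := congrArg (Polynomial.eval₂ (AdjoinRoot.of (KRR.extPoly P e)) (1 - AdjoinRoot.root (KRR.extPoly P e)))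
      (gamma_lam_poly (lam_one_eq_zero P) e (r + 1))
    rw [Polynomial.eval₂_finsetSum, Polynomial.eval₂_finsetSum] at h1
    simp only [Polynomial.eval₂_mul, Polynomial.eval₂_C, Polynomial.eval₂_pow, Polynomial.eval₂_X,
      Polynomial.eval₂_sub, Polynomial.eval₂_one] at h1
    rw [h1]
    have h2 := root_relation P e (r + 1) hm
    have h3 : ∀ i ∈ Finset.range (r + 1 + 1), AdjoinRoot.of (KRR.extPoly P e) (lam i e) *
        (1 - AdjoinRoot.root (KRR.extPoly P e) - 1) ^ (r + 1 - i) =
        (-1) ^ (r + 1) * (AdjoinRoot.of (KRR.extPoly P e) (cc e i) * AdjoinRoot.root (KRR.extPoly P e) ^ (r + 1 - i)) := by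
      intro i hi
      have hi' := Finset.mem_range.mp hi
      have e1 : (1 - AdjoinRoot.root (KRR.extPoly P e) - 1) = -AdjoinRoot.root (KRR.extPoly P e) := by ring
      rw [e1, neg_pow, cc, map_mul, map_pow, map_neg, map_one]
      have e2 : (-1 : AdjoinRoot (KRR.extPoly P e)) ^ (r + 1) = (-1) ^ (r + 1 - i) * (-1) ^ i := by
        rw [← pow_add]; congr 1; omega
      have e3 : ((-1 : AdjoinRoot (KRR.extPoly P e)) ^ i) * (-1) ^ i = 1 := by rw [← mul_pow]; simp
      rw [e2]
      linear_combination (-(AdjoinRoot.of (KRR.extPoly P e) (lam i e)) * (-1) ^ (r + 1 - i) *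
        AdjoinRoot.root (KRR.extPoly P e) ^ (r + 1 - i)) * e3
    rw [Finset.sum_congr rfl h3, ← Finset.mul_sum, h2, mul_zero]
  have hrel : ∃ c : ℕ → K, (∀ i ≤ r, c i ∈ gammaFiltration P (r + 1 - i)) ∧
      (AdjoinRoot.root (KRR.extPoly P e) - 1) ^ (r + 1) = ∑ i ∈ Finset.range (r + 1),
        AdjoinRoot.of (KRR.extPoly P e) (c i) * (AdjoinRoot.root (KRR.extPoly P e) - 1) ^ i := by
    refine ⟨fun j => -((-1 : K) ^ (r + 1)) * ((-1) ^ j * gamma (r + 1 - j) (e - ((r + 1 : ℕ) : K))), ?_, ?_⟩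
    · intro i _
      exact smul_mem P _ _ _ (smul_mem P _ _ _ (gamma_mem_gammaFiltration P _ _ haug))
    · rw [Finset.sum_range_succ', ← Finset.sum_range_reflect] at hrel0
      have h4 : ∀ j ∈ Finset.range (r + 1),
          AdjoinRoot.of (KRR.extPoly P e) (gamma (r + 1 - 1 - j + 1) (e - ((r + 1 : ℕ) : K))) *
            (1 - AdjoinRoot.root (KRR.extPoly P e)) ^ (r + 1 - (r + 1 - 1 - j + 1)) =
          AdjoinRoot.of (KRR.extPoly P e) ((-1) ^ j * gamma (r + 1 - j) (e - ((r + 1 : ℕ) : K))) *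
            (AdjoinRoot.root (KRR.extPoly P e) - 1) ^ j := by
        intro j hj
        have hj' := Finset.mem_range.mp hj
        have e1 : r + 1 - 1 - j + 1 = r + 1 - j := by omega
        have e2 : r + 1 - (r + 1 - j) = j := by omega
        have e3 : (1 - AdjoinRoot.root (KRR.extPoly P e)) = -(AdjoinRoot.root (KRR.extPoly P e) - 1) := by ring
        rw [e1, e2, e3, neg_pow, map_mul, map_pow, map_neg, map_one]
        ring
      rw [Finset.sum_congr rfl h4] at hrel0
      have e5 : (1 - AdjoinRoot.root (KRR.extPoly P e)) ^ (r + 1 - 0) =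
          (-1) ^ (r + 1) * (AdjoinRoot.root (KRR.extPoly P e) - 1) ^ (r + 1) := by
        rw [Nat.sub_zero, ← neg_pow]; congr 1; ring
      have e6 : gamma 0 (e - ((r + 1 : ℕ) : K)) = 1 := by simp [gamma]
      rw [e5, e6, map_one, one_mul] at hrel0
      have e7 : ((-1 : AdjoinRoot (KRR.extPoly P e)) ^ (r + 1)) * (-1) ^ (r + 1) = 1 := by rw [← mul_pow]; simp
      have e8 : ∑ i ∈ Finset.range (r + 1), AdjoinRoot.of (KRR.extPoly P e)
          (-((-1 : K) ^ (r + 1)) * ((-1) ^ i * gamma (r + 1 - i) (e - ((r + 1 : ℕ) : K)))) *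
            (AdjoinRoot.root (KRR.extPoly P e) - 1) ^ i =
          -((-1 : AdjoinRoot (KRR.extPoly P e)) ^ (r + 1)) * ∑ i ∈ Finset.range (r + 1),
            AdjoinRoot.of (KRR.extPoly P e) ((-1) ^ i * gamma (r + 1 - i) (e - ((r + 1 : ℕ) : K))) *
              (AdjoinRoot.root (KRR.extPoly P e) - 1) ^ i := by
        rw [Finset.mul_sum]
        refine Finset.sum_congr rfl fun i _ => ?_
        rw [map_mul (AdjoinRoot.of (KRR.extPoly P e)) (-((-1 : K) ^ (r + 1))), map_neg, map_pow, map_neg, map_one]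
        ring
      rw [e8]
      linear_combination ((-1 : AdjoinRoot (KRR.extPoly P e)) ^ (r + 1)) * hrel0 -
        ((AdjoinRoot.root (KRR.extPoly P e) - 1) ^ (r + 1)) * e7
  exact gammaFiltration_eq_MM Pe hrel hext hsplit hline hspan k

end Groth.Agent.S3782
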