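import Groth.Statements.S3795
import Mathlib
import Groth.Agent.Lib.Helper20.LamPsiGr

set_option autoImplicit false
universe v u
open CategoryTheory CategoryTheory.Limits AlgebraicGeometry
attribute [local instance] HasDerivedCategory.standard
open KRR

namespace Groth.Agent.S3795


open Groth.Agent.Lib.Helper20.LamPsiGr Groth.Agent.Lib.Helper20.LamDet Groth.Agent.Lib.Helper20.LamFil
  Groth.Agent.Lib.Helper20.LamAdams

/-- Let K be a λ-ring with positive structure having the splitting property, j ≥ 2, n ≥ 0 and x ∈ K. If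
ψ^j(x) - j^n x lies in ℚF^{n+1} (some positive multiple lies in F^{n+1}, γ-filtration), then x lies
in ℚF^n (some positive multiple of x lies in F^n). -/
theorem result (K : Type v) [CommRing K] [LambdaRing.LambdaOps K] (P : LambdaRing.PosStructure K) (hK : LambdaRing.HasSplitting K P) (j : ℕ) (hj : 2 ≤ j) (n : ℕ) (x : K)
    (hx : ∃ N : ℕ, 1 ≤ N ∧ (N : K) * (LambdaRing.adams P j x - (j : K) ^ n * x) ∈ LambdaRing.gammaFiltration P (n + 1)) :
    ∃ N : ℕ, 1 ≤ N ∧ (N : K) * x ∈ LambdaRing.gammaFiltration P n := by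
  obtain ⟨M, hM1, hM⟩ := hx
  have key : ∀ k : ℕ, k ≤ n → ∃ N : ℕ, 1 ≤ N ∧ (N : K) * x ∈ LambdaRing.gammaFiltration P k := by
    intro k
    induction k with
    | zero => exact fun _ => ⟨1, le_rfl, mem_zero P _⟩
    | succ k ih =>
      intro hk
      obtain ⟨N, hN1, hN⟩ := ih (by omega)
      have h1 := adams_sub_pow_mul_mem P hK j k _ hN
      have h2 : LambdaRing.adams P j ((N : K) * x) = (N : K) * LambdaRing.adams P j x := by
        rw [adams_mul P hK, ← adamsHom_apply P hK j (N : K), map_natCast]
      rw [h2] at h1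
      have h3 := gammaFiltration_antitone P (by omega : k + 1 ≤ n + 1) hM
      have hle : j ^ k ≤ j ^ n := Nat.pow_le_pow_right (by omega) (by omega)
      have hlt : j ^ k < j ^ n := Nat.pow_lt_pow_right (by omega) (by omega)
      refine ⟨N * M * (j ^ n - j ^ k), ?_, ?_⟩
      · have : 1 ≤ j ^ n - j ^ k := by omega
        exact Nat.one_le_iff_ne_zero.mpr (Nat.mul_ne_zero (Nat.mul_ne_zero (by omega) (by omega)) (by omega))
      · have h4 := AddSubgroup.sub_mem _ (smul_mem P (k + 1) (M : K) _ h1) (smul_mem P (k + 1) (N : K) _ h3)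
        convert h4 using 1
        rw [Nat.cast_mul, Nat.cast_mul, Nat.cast_sub hle, Nat.cast_pow, Nat.cast_pow]
        ring
  exact key n le_rfl

end Groth.Agent.S3795
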