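import Groth.Statements.S3802
import Mathlib
import Groth.Agent.Lib.Helper20.LamKe

set_option autoImplicit false
universe v u
open CategoryTheory CategoryTheory.Limits AlgebraicGeometry
attribute [local instance] HasDerivedCategory.standard
open KRR

namespace Groth.Agent.S3802


open Groth.Agent.Lib.Helper20.LamKe

/-- Let K be a λ-ring with positive structure having the splitting property, c positive with ε(c) = r +
1, and K_c = K[T]/(p_c) with generator ℓ, equipped with a λ-structure extending that of K with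
λ^i(ℓ) = 0 for i ≥ 2 and a positive structure making K ⟶ K_c an extension with ℓ a line element and
c - ℓ positive (when r ≥ 1), having the splitting property; let f : K_c ⟶ K be the associated
K-linear functional (f(ℓ^i) = σ^i(c) for i ≤ r). If z ∈ K_c satisfies z (1 - ℓ) = 0, then z = f(z) ·
λ_{-1}(c - ℓ), where λ_{-1}(c - ℓ) = Σ_{i ≤ r} (-1)^i λ^i(c - ℓ). -/
theorem result (K : Type v) [CommRing K] [LambdaRing.LambdaOps K] (P : LambdaRing.PosStructure K) (hK : LambdaRing.HasSplitting K P) (c : K) (hc : c ∈ P.pos) (r : ℕ) (hr : P.aug c = r + 1)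
    (inst : LambdaRing.LambdaOps (AdjoinRoot (KRR.extPoly P c))) (Pc : @LambdaRing.PosStructure _ _ inst)
    (hext : @LambdaRing.IsExtension K _ _ _ _ inst P Pc (AdjoinRoot.of (KRR.extPoly P c)))
    (hroot : ∀ i : ℕ, 2 ≤ i → @LambdaRing.LambdaOps.lam _ _ inst i (AdjoinRoot.root (KRR.extPoly P c)) = 0)
    (hline : @LambdaRing.PosStructure.IsLine _ _ inst Pc (AdjoinRoot.root (KRR.extPoly P c)))
    (hpos : 1 ≤ r → AdjoinRoot.of (KRR.extPoly P c) c - AdjoinRoot.root (KRR.extPoly P c) ∈ (@LambdaRing.PosStructure.pos _ _ inst Pc))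
    (hsplit : @LambdaRing.HasSplitting _ _ inst Pc)
    (f : AdjoinRoot (KRR.extPoly P c) →ₗ[K] K)
    (hf : ∀ i : ℕ, i ≤ r → f (AdjoinRoot.root (KRR.extPoly P c) ^ i) = KRR.sigma i c)
    (z : AdjoinRoot (KRR.extPoly P c)) (hz : z * (1 - AdjoinRoot.root (KRR.extPoly P c)) = 0) :
    z = AdjoinRoot.of (KRR.extPoly P c) (f z) *
      @KRR.lamAlt _ _ inst Pc (AdjoinRoot.of (KRR.extPoly P c) c - AdjoinRoot.root (KRR.extPoly P c)) := by
  classical
  haveI : Nontrivial K := ⟨⟨0, 1, fun h => by have := congrArg P.aug h; simp at this⟩⟩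
  have hm : P.aug c = ((r + 1 : ℕ) : ℤ) := by rw [hr]; push_cast; rfl
  have hext' : ∀ (i : ℕ) (x : K), @LambdaRing.LambdaOps.lam _ _ inst i (AdjoinRoot.of (KRR.extPoly P c) x) =
      AdjoinRoot.of (KRR.extPoly P c) (LambdaRing.LambdaOps.lam i x) := fun i x => (hext.isLambdaHom i x).symm
  have hpn : KRR.extPoly P c = pn (cc c) (r + 1) := by
    rw [extPoly_eq P c (r + 1) hm, pn, ← Finset.sum_range_reflect (fun k => Polynomial.C (cc c (r + 1 - k)) * Polynomial.X ^ k)]
    refine Finset.sum_congr rfl fun i hi => ?_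
    have := Finset.mem_range.mp hi
    simp only [Nat.add_sub_cancel]
    congr 3
    omega
  have hmonic : (KRR.extPoly P c).Monic := hpn ▸ pn_monic _ (cc_zero c) _
  have hdeg : (KRR.extPoly P c).natDegree = r + 1 := by rw [hpn]; exact pn_natDegree _ (cc_zero c) _
  obtain ⟨g0, hg0⟩ := AdjoinRoot.mk_surjective z
  have hz' : AdjoinRoot.mk (KRR.extPoly P c) (g0 %ₘ KRR.extPoly P c) = z := by
    rw [← hg0, AdjoinRoot.mk_eq_mk]
    refine ⟨-(g0 /ₘ KRR.extPoly P c), ?_⟩
    have := Polynomial.modByMonic_add_div g0 (KRR.extPoly P c)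
    linear_combination this
  have hh : (g0 %ₘ KRR.extPoly P c).natDegree < (KRR.extPoly P c).natDegree :=
    Polynomial.natDegree_modByMonic_lt g0 hmonic (by intro h1; rw [h1] at hdeg; simp at hdeg)
  have hdiv : KRR.extPoly P c ∣ (g0 %ₘ KRR.extPoly P c) * (1 - Polynomial.X) := by
    rw [← AdjoinRoot.mk_eq_zero, map_mul, hz', map_sub, map_one, AdjoinRoot.mk_X]; exact hz
  obtain ⟨a, ha⟩ := exists_eq_C_mul (KRR.extPoly P c) (GG (cc c) (r + 1)) _ hmonic
    (by rw [hpn]; exact X_sub_one_mul_GG _ _) _ hh hdiv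
  have haug : (@LambdaRing.PosStructure.aug _ _ inst Pc
      (AdjoinRoot.of (KRR.extPoly P c) c - AdjoinRoot.root (KRR.extPoly P c))).toNat = r := by
    rw [map_sub, hext.aug_comp, hline.2, hr]; simp
  have hterm : ∀ i : ℕ, AdjoinRoot.mk (KRR.extPoly P c) (pn (cc c) i) =
      (-1) ^ i * @LambdaRing.LambdaOps.lam _ _ inst i
        (AdjoinRoot.of (KRR.extPoly P c) c - AdjoinRoot.root (KRR.extPoly P c)) := by
    intro i
    rw [lam_sub_root P c inst hext' hroot i, pn, map_sum, Finset.mul_sum]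
    refine Finset.sum_congr rfl fun k hk => ?_
    have hk' := Finset.mem_range.mp hk
    rw [map_mul, AdjoinRoot.mk_C, map_pow, AdjoinRoot.mk_X, cc, map_mul, map_pow, map_neg, map_one, neg_pow _ k]
    have h1 : (-1 : AdjoinRoot (KRR.extPoly P c)) ^ i = (-1) ^ (i - k) * (-1) ^ k := by
      rw [← pow_add]; congr 1; omega
    have h2 : ((-1 : AdjoinRoot (KRR.extPoly P c)) ^ k) * (-1) ^ k = 1 := by rw [← mul_pow]; simp
    rw [h1]
    linear_combination (-(-1 : AdjoinRoot (KRR.extPoly P c)) ^ (i - k) *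
      AdjoinRoot.of (KRR.extPoly P c) (LambdaRing.LambdaOps.lam (i - k) c) * AdjoinRoot.root (KRR.extPoly P c) ^ k) * h2
  have hlam : AdjoinRoot.mk (KRR.extPoly P c) (GG (cc c) (r + 1)) =
      @KRR.lamAlt _ _ inst Pc (AdjoinRoot.of (KRR.extPoly P c) c - AdjoinRoot.root (KRR.extPoly P c)) := by
    unfold KRR.lamAlt
    rw [haug, GG, map_sum]
    exact Finset.sum_congr rfl fun i _ => hterm i
  have hfl : f (@KRR.lamAlt _ _ inst Pc (AdjoinRoot.of (KRR.extPoly P c) c - AdjoinRoot.root (KRR.extPoly P c))) = 1 := by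
    unfold KRR.lamAlt
    rw [haug, map_sum, Finset.sum_range_succ']
    have h0 : ∀ i ∈ Finset.range r, f ((-1) ^ (i + 1) * @LambdaRing.LambdaOps.lam _ _ inst (i + 1)
        (AdjoinRoot.of (KRR.extPoly P c) c - AdjoinRoot.root (KRR.extPoly P c))) = 0 := by
      intro i _
      have h3 := functional_lam_sub_root P c inst hext' hroot hc r hr f hf (i + 1)
      rw [if_neg (by omega)] at h3
      rcases neg_one_pow_eq_or (AdjoinRoot (KRR.extPoly P c)) (i + 1) with h | h
      · rw [h, one_mul, h3]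
      · rw [h, neg_one_mul, map_neg, h3, neg_zero]
    rw [Finset.sum_eq_zero h0, zero_add, pow_zero, one_mul]
    have h3 := functional_lam_sub_root P c inst hext' hroot hc r hr f hf 0
    rw [if_pos rfl] at h3
    exact h3
  have hz2 : z = AdjoinRoot.of (KRR.extPoly P c) a *
      @KRR.lamAlt _ _ inst Pc (AdjoinRoot.of (KRR.extPoly P c) c - AdjoinRoot.root (KRR.extPoly P c)) := by
    rw [← hz', ha, map_mul, AdjoinRoot.mk_C, hlam]
  have hfz : f z = a := by
    rw [hz2, map_of_mul, hfl, mul_one]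
  rw [hfz]
  exact hz2

end Groth.Agent.S3802
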