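import Groth.Statements.S3804
import Mathlib
import Groth.Agent.Lib.Helper20.KeRel
import Groth.Agent.Lib.Helper20.KeTensor

set_option autoImplicit false
universe v u
open CategoryTheory CategoryTheory.Limits AlgebraicGeometry
attribute [local instance] HasDerivedCategory.standard
open scoped TensorProduct
open KRR

namespace Groth.Agent.S3804


open Groth.Agent.Lib.Helper20.LamKe Groth.Agent.Lib.Helper20.KeRel Groth.Agent.Lib.Helper20.LamAdams
  Groth.Agent.Lib.Helper20.KeBott

/-- For the model elementary projection: let K be a λ-ring with positive structure having the splitting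
property, e positive with ε(e) = r + 1, K_e = K[T]/(p_e) with generator ℓ (a unit, inverse linv),
carrying a λ-structure extending that of K with λ^i(ℓ) = 0 for i ≥ 2 and a positive structure making
K ⟶ K_e an extension with ℓ a line element and e - ℓ positive (when r ≥ 1), having the splitting
property, and with F^N K_e = 0 for some N (the published statement assumes instead that 1 - u is
nilpotent for all line elements u of the rings in play). Let f : K_e ⟶ K be the associated K-linear
functional (f(ℓ^i) = σ^i(e), i ≤ r) and j ≥ 1. The published statement's hypothesis 'j invertible in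
K' is read here after tensoring with R = ℤ[1/j] (no λ-ring with an augmentation onto ℤ has j
invertible for j ≥ 2). Then 1 ⊗ θ^j(e ℓ⁻¹) is invertible in R ⊗ K_e, and for every inverse w of it
and every x ∈ K_e: 1 ⊗ ψ^j(f(x)) = (R ⊗ f)(j · w · (1 ⊗ ψ^j(x))) in R ⊗ K. -/
theorem result (K : Type v) [CommRing K] [LambdaRing.LambdaOps K] (P : LambdaRing.PosStructure K) (hK : LambdaRing.HasSplitting K P) (e : K) (he : e ∈ P.pos) (r : ℕ) (hr : P.aug e = r + 1)
    (inst : LambdaRing.LambdaOps (AdjoinRoot (KRR.extPoly P e))) (Pe : @LambdaRing.PosStructure _ _ inst)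
    (hext : @LambdaRing.IsExtension K _ _ _ _ inst P Pe (AdjoinRoot.of (KRR.extPoly P e)))
    (hroot : ∀ i : ℕ, 2 ≤ i → @LambdaRing.LambdaOps.lam _ _ inst i (AdjoinRoot.root (KRR.extPoly P e)) = 0)
    (hline : @LambdaRing.PosStructure.IsLine _ _ inst Pe (AdjoinRoot.root (KRR.extPoly P e)))
    (hpos : 1 ≤ r → AdjoinRoot.of (KRR.extPoly P e) e - AdjoinRoot.root (KRR.extPoly P e) ∈ (@LambdaRing.PosStructure.pos _ _ inst Pe))
    (hsplit : @LambdaRing.HasSplitting _ _ inst Pe) (N : ℕ) (hN : @LambdaRing.gammaFiltration _ _ inst Pe N = ⊥)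
    (f : AdjoinRoot (KRR.extPoly P e) →ₗ[K] K)
    (hf : ∀ i : ℕ, i ≤ r → f (AdjoinRoot.root (KRR.extPoly P e) ^ i) = KRR.sigma i e)
    (linv : AdjoinRoot (KRR.extPoly P e)) (hlinv : linv * AdjoinRoot.root (KRR.extPoly P e) = 1)
    (j : ℕ) (hj : 1 ≤ j) :
    (∃ w : TensorProduct ℤ (Localization.Away (j : ℤ)) (AdjoinRoot (KRR.extPoly P e)), w * ((1 : Localization.Away (j : ℤ)) ⊗ₜ[ℤ] @KRR.bott _ _ inst Pe j (AdjoinRoot.of (KRR.extPoly P e) e * linv)) = 1) ∧
    ∀ w : TensorProduct ℤ (Localization.Away (j : ℤ)) (AdjoinRoot (KRR.extPoly P e)), w * ((1 : Localization.Away (j : ℤ)) ⊗ₜ[ℤ] @KRR.bott _ _ inst Pe j (AdjoinRoot.of (KRR.extPoly P e) e * linv)) = 1 →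
      ∀ x : AdjoinRoot (KRR.extPoly P e),
        (1 : Localization.Away (j : ℤ)) ⊗ₜ[ℤ] LambdaRing.adams P j (f x) =
          LinearMap.lTensor (Localization.Away (j : ℤ)) f.toAddMonoidHom.toIntLinearMap
            ((j : TensorProduct ℤ (Localization.Away (j : ℤ)) (AdjoinRoot (KRR.extPoly P e))) * w * ((1 : Localization.Away (j : ℤ)) ⊗ₜ[ℤ] @LambdaRing.adams _ _ inst Pe j x)) := by
  letI := inst
  have hm : P.aug e = ((r + 1 : ℕ) : ℤ) := by rw [hr]; push_cast; rfl
  have hp := extPoly_monic P e (r + 1) hm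
  have hpd := extPoly_natDegree P e (r + 1) hm
  have hq := qpoly_monic P hK e (r + 1) hm j
  have hqd := qpoly_natDegree P hK e (r + 1) hm j
  have hjR : IsUnit ((j : ℕ) : Localization.Away (j : ℤ)) := by
    have := IsLocalization.Away.algebraMap_isUnit (S := Localization.Away (j : ℤ)) (j : ℤ)
    simpa using this
  -- `mk = eval₂ of root`
  have hmk : ∀ g : Polynomial K, AdjoinRoot.mk (KRR.extPoly P e) g =
      Polynomial.eval₂ (AdjoinRoot.of (KRR.extPoly P e)) (AdjoinRoot.root (KRR.extPoly P e)) g := by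
    intro g
    rw [← AdjoinRoot.aeval_eq, Polynomial.aeval_def, AdjoinRoot.algebraMap_eq]
  have hrootp : Polynomial.eval₂ (AdjoinRoot.of (KRR.extPoly P e)) (AdjoinRoot.root (KRR.extPoly P e))
      (KRR.extPoly P e) = 0 := AdjoinRoot.eval₂_root _
  -- divisibility
  have hdvd : KRR.extPoly P e ∣ (qpoly P hK e j).comp (Polynomial.X ^ j) := by
    rw [← AdjoinRoot.mk_eq_zero, hmk, Polynomial.eval₂_comp, Polynomial.eval₂_pow, Polynomial.eval₂_X]
    exact qpoly_eval P hK Pe hsplit _ hext e _ hline hrootp j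
  obtain ⟨c, hqc⟩ := hdvd
  have hΘ := eval_c P hK Pe hsplit _ hext e he (r + 1) hm _ linv hline hlinv j c hqc
  rw [← hmk] at hΘ
  have haugΘ := aug_bott_mul_inv P Pe hsplit _ hext e he (r + 1) hm _ linv hline hlinv j
  -- nilpotence
  have hN1 : KRR.extPoly P e ∣ (Polynomial.X - 1) ^ N := by
    rw [← AdjoinRoot.mk_eq_zero, map_pow, map_sub, AdjoinRoot.mk_X, map_one]
    refine pow_eq_zero_of_aug_eq_zero Pe N hN _ ?_
    rw [map_sub, hline.2, map_one, sub_self]
  have hcN : KRR.extPoly P e ∣ (c - Polynomial.C ((j : K) ^ (r + 1))) ^ N := by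
    rw [← AdjoinRoot.mk_eq_zero, map_pow, map_sub, AdjoinRoot.mk_C]
    refine pow_eq_zero_of_aug_eq_zero Pe N hN _ ?_
    rw [map_sub, hΘ, map_mul, map_pow, hline.2, one_pow, one_mul, haugΘ, hext.aug_comp, map_pow, map_natCast,
      sub_self]
  -- the functional
  have hfl : ∀ i : ℕ, i ≤ r → f (AdjoinRoot.root (KRR.extPoly P e) ^ i * linv ^ r) = if i = r then 1 else 0 := by
    intro i hi
    rw [pow_mul_inv_pow _ linv hlinv i r]
    by_cases hir : i = r
    · subst hir
      rw [if_pos le_rfl, if_pos rfl, Nat.sub_self, hf 0 (Nat.zero_le _), sigma_zero]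
    · rw [if_neg (by omega), if_neg hir]
      exact functional_inv_pow P e he r hr f hf linv hlinv (r - i) (by omega) (by omega)
  have hmain := Groth.Agent.Lib.Helper20.KeTensor.main (KRR.extPoly P e) (qpoly P hK e j) c hp hq r hpd hqd f linv hlinv hfl
    (Localization.Away (j : ℤ)) j hj hjR hqc N hN1 (r + 1) hcN
    (KRR.bott Pe j (AdjoinRoot.of (KRR.extPoly P e) e * linv)) hΘ (adamsHom P hK j) (adamsHom Pe hsplit j)
    (fun a => by
      simp only [adamsHom_apply]
      exact (map_adams P Pe _ hext j a).symm)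
    (by
      simp only [adamsHom_apply]
      exact Groth.Agent.S3287.result _ Pe _ hline j)
  exact hmain

end Groth.Agent.S3804
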