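import Groth.Statements.S3806
import Mathlib

set_option autoImplicit false
universe u
open scoped TensorProduct
attribute [local instance] PP16.mapAlgebra PP16.isScalarTower_mapAlgebra
open PP16

namespace Groth.Agent.S3806

section

variable (n : ℕ) (A B A' B' : Type u) [CommRing A] [CommRing B] [Algebra A B]
    [CommRing A'] [CommRing B'] [Algebra A' B'] [Algebra A A'] [Algebra B B'] [Algebra A B']
    [IsScalarTower A A' B'] [IsScalarTower A B B']

/-- `Q = P ⊗_B B'` (type synonym carrying only a `CommRing` instance). -/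
def Q : Type u := (PP16.P n A B) ⊗[B] B'

noncomputable instance : CommRing (Q n A B B') :=
  inferInstanceAs (CommRing ((PP16.P n A B) ⊗[B] B'))

theorem augIdeal_pow : (PP16.augIdeal n A B) ^ (n + 1) = ⊥ := by
  unfold PP16.augIdeal
  set I : Ideal (B ⊗[A] B) := KaehlerDifferential.ideal A B with hI
  have h1 : (I.map (Ideal.Quotient.mk (I ^ (n + 1)))) ^ (n + 1) =
      (I ^ (n + 1)).map (Ideal.Quotient.mk (I ^ (n + 1))) := (Ideal.map_pow _ _ _).symm
  rw [h1]
  exact Ideal.map_quotient_self (I ^ (n + 1))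

theorem dn_apply (b : B) : PP16.dn n A B b =
    Ideal.Quotient.mk ((KaehlerDifferential.ideal A B) ^ (n + 1)) ((1 : B) ⊗ₜ[A] b) := rfl

theorem algebraMap_apply' (b : B) : algebraMap B (PP16.P n A B) b =
    Ideal.Quotient.mk ((KaehlerDifferential.ideal A B) ^ (n + 1)) (b ⊗ₜ[A] (1 : B)) := rfl

theorem dn_sub_mem (b : B) :
    PP16.dn n A B b - algebraMap B (PP16.P n A B) b ∈ PP16.augIdeal n A B := by
  rw [dn_apply, algebraMap_apply', ← map_sub]
  exact Ideal.mem_map_of_mem _ (KaehlerDifferential.one_smul_sub_smul_one_mem_ideal A b)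

noncomputable def incR : B' →+* Q n A B B' :=
  (Algebra.TensorProduct.includeRight : B' →ₐ[B] (PP16.P n A B) ⊗[B] B').toRingHom

noncomputable def incL : PP16.P n A B →+* Q n A B B' :=
  (Algebra.TensorProduct.includeLeft : PP16.P n A B →ₐ[B] (PP16.P n A B) ⊗[B] B').toRingHom

theorem incR_apply (b' : B') :
    incR n A B B' b' = ((1 : PP16.P n A B) ⊗ₜ[B] b' : (PP16.P n A B) ⊗[B] B') := rfl
theorem incL_apply (x : PP16.P n A B) :
    incL n A B B' x = (x ⊗ₜ[B] (1 : B') : (PP16.P n A B) ⊗[B] B') := rfl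

theorem tmul_eq (x : PP16.P n A B) (b' : B') :
    (x ⊗ₜ[B] b' : (PP16.P n A B) ⊗[B] B') = incL n A B B' x * incR n A B B' b' := by
  rw [incL_apply, incR_apply]
  change _ = ((x ⊗ₜ[B] (1 : B')) * ((1 : PP16.P n A B) ⊗ₜ[B] b') : (PP16.P n A B) ⊗[B] B')
  rw [Algebra.TensorProduct.tmul_mul_tmul, mul_one, one_mul]

theorem incL_algebraMap (b : B) :
    incL n A B B' (algebraMap B (PP16.P n A B) b) = incR n A B B' (algebraMap B B' b) := by
  rw [incL_apply, incR_apply, Algebra.algebraMap_eq_smul_one, Algebra.algebraMap_eq_smul_one,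
    TensorProduct.smul_tmul]

/-- Ring homs out of `Q` are determined on the two factors. -/
theorem Q_hom_ext {R : Type*} [Semiring R] (f g : Q n A B B' →+* R)
    (hL : f.comp (incL n A B B') = g.comp (incL n A B B'))
    (hR : f.comp (incR n A B B') = g.comp (incR n A B B')) : f = g := by
  ext z
  refine TensorProduct.induction_on (motive := fun z : (PP16.P n A B) ⊗[B] B' =>
    f (z : Q n A B B') = g (z : Q n A B B')) z ?_ ?_ ?_
  · change f (0 : Q n A B B') = g (0 : Q n A B B')
    rw [map_zero, map_zero]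
  · intro x y
    rw [tmul_eq, map_mul, map_mul]
    exact congrArg₂ _ (RingHom.congr_fun hL x) (RingHom.congr_fun hR y)
  · intro x y hx hy
    have h1 := map_add f (x : Q n A B B') (y : Q n A B B')
    have h2 := map_add g (x : Q n A B B') (y : Q n A B B')
    exact (h1.trans (congrArg₂ (· + ·) hx hy)).trans h2.symm

noncomputable instance algAQ : Algebra A (Q n A B B') :=
  ((incR n A B B').comp (algebraMap A B')).toAlgebra

noncomputable instance algA'Q : Algebra A' (Q n A B B') :=
  ((incR n A B B').comp (algebraMap A' B')).toAlgebra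

noncomputable def g₁ : B →ₐ[A] Q n A B B' :=
  { toRingHom := (incL n A B B').comp (PP16.dn n A B).toRingHom
    commutes' := by
      intro a
      change incL n A B B' (PP16.dn n A B (algebraMap A B a)) = incR n A B B' (algebraMap A B' a)
      rw [AlgHom.commutes, IsScalarTower.algebraMap_apply A B (PP16.P n A B), incL_algebraMap,
        ← IsScalarTower.algebraMap_apply A B B'] }

noncomputable def g₂ : A' →ₐ[A] Q n A B B' :=
  { toRingHom := (incR n A B B').comp (algebraMap A' B')
    commutes' := by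
      intro a
      change incR n A B B' (algebraMap A' B' (algebraMap A A' a)) = incR n A B B' (algebraMap A B' a)
      rw [← IsScalarTower.algebraMap_apply A A' B'] }

/-- The forward map `P ⊗_B B' → P'`. -/
noncomputable def Φ : Q n A B B' →+* PP16.P n A' B' :=
  (Algebra.TensorProduct.lift (Algebra.ofId (PP16.P n A B) (PP16.P n A' B'))
    (IsScalarTower.toAlgHom B B' (PP16.P n A' B')) (fun _ _ => Commute.all _ _) :
      (PP16.P n A B) ⊗[B] B' →ₐ[PP16.P n A B] PP16.P n A' B').toRingHom

theorem Φ_incL (x : PP16.P n A B) : Φ n A B A' B' (incL n A B B' x) = PP16.map n A B A' B' x := by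
  rw [incL_apply]
  change (Algebra.TensorProduct.lift (Algebra.ofId (PP16.P n A B) (PP16.P n A' B'))
    (IsScalarTower.toAlgHom B B' (PP16.P n A' B')) (fun _ _ => Commute.all _ _)) (x ⊗ₜ[B] 1) = _
  rw [Algebra.TensorProduct.lift_tmul, map_one, mul_one]
  rfl

theorem Φ_incR (b' : B') :
    Φ n A B A' B' (incR n A B B' b') = algebraMap B' (PP16.P n A' B') b' := by
  rw [incR_apply]
  change (Algebra.TensorProduct.lift (Algebra.ofId (PP16.P n A B) (PP16.P n A' B'))
    (IsScalarTower.toAlgHom B B' (PP16.P n A' B')) (fun _ _ => Commute.all _ _)) (1 ⊗ₜ[B] b') = _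
  rw [Algebra.TensorProduct.lift_tmul, map_one, one_mul]
  rfl

variable [Algebra.IsPushout A B A' B']

noncomputable def f₂A : B' →ₐ[A] Q n A B B' :=
  Algebra.pushoutDesc B' (g₁ n A B B') (g₂ n A B A' B')
    (fun x y => mul_comm (g₁ n A B B' x) (g₂ n A B A' B' y))

theorem f₂A_algebraMap_B (b : B) :
    f₂A n A B A' B' (algebraMap B B' b) = incL n A B B' (PP16.dn n A B b) :=
  Algebra.pushoutDesc_left B' _ _ _ b

theorem f₂A_algebraMap_A' (a' : A') :
    f₂A n A B A' B' (algebraMap A' B' a') = incR n A B B' (algebraMap A' B' a') :=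
  Algebra.pushoutDesc_right B' _ _ _ a'

noncomputable def ψ : B' ⊗[A'] B' →+* Q n A B B' :=
  (Algebra.TensorProduct.lift (R := A') (S := A')
     ({ toRingHom := incR n A B B', commutes' := fun _ => rfl } : B' →ₐ[A'] Q n A B B')
     ({ toRingHom := (f₂A n A B A' B').toRingHom
        commutes' := fun a' => f₂A_algebraMap_A' n A B A' B' a' } : B' →ₐ[A'] Q n A B B')
     (fun _ _ => Commute.all _ _)).toRingHom

theorem ψ_tmul (x y : B') :
    ψ n A B A' B' (x ⊗ₜ[A'] y) = incR n A B B' x * f₂A n A B A' B' y :=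
  Algebra.TensorProduct.lift_tmul _ _ _ x y

/-- the ideal of `Q` generated by the augmentation ideal. -/
noncomputable def 𝔞 : Ideal (Q n A B B') := (PP16.augIdeal n A B).map (incL n A B B')

theorem 𝔞_pow : (𝔞 n A B B') ^ (n + 1) = ⊥ := by
  unfold 𝔞
  have h := Ideal.map_pow (incL n A B B') (PP16.augIdeal n A B) (n + 1)
  rw [augIdeal_pow, Ideal.map_bot] at h
  exact h.symm

theorem f₂A_sub_mem (s : B') : f₂A n A B A' B' s - incR n A B B' s ∈ 𝔞 n A B B' := by
  have h : IsBaseChange B (IsScalarTower.toAlgHom A A' B').toLinearMap :=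
    (Algebra.IsPushout.out : IsBaseChange B (IsScalarTower.toAlgHom A A' B').toLinearMap)
  refine h.inductionOn s (motive := fun s => f₂A n A B A' B' s - incR n A B B' s ∈ 𝔞 n A B B')
    ?_ ?_ ?_ ?_
  · simp
  · intro a'
    change f₂A n A B A' B' (algebraMap A' B' a') - incR n A B B' (algebraMap A' B' a') ∈ _
    rw [f₂A_algebraMap_A', sub_self]
    exact Ideal.zero_mem _
  · intro b s hs
    rw [Algebra.smul_def, map_mul, map_mul, f₂A_algebraMap_B, ← incL_algebraMap]
    have : incL n A B B' (PP16.dn n A B b) * f₂A n A B A' B' s -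
        incL n A B B' (algebraMap B (PP16.P n A B) b) * incR n A B B' s =
        incL n A B B' (PP16.dn n A B b) * (f₂A n A B A' B' s - incR n A B B' s) +
        incL n A B B' (PP16.dn n A B b - algebraMap B (PP16.P n A B) b) * incR n A B B' s := by
      rw [map_sub]; ring
    rw [this]
    exact Ideal.add_mem _ (Ideal.mul_mem_left _ _ hs)
      (Ideal.mul_mem_right _ _ (Ideal.mem_map_of_mem _ (dn_sub_mem n A B b)))
  · intro x y hx hy
    rw [map_add, map_add, add_sub_add_comm]
    exact Ideal.add_mem _ hx hy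

theorem ψ_ideal_le : (KaehlerDifferential.ideal A' B').map (ψ n A B A' B') ≤ 𝔞 n A B B' := by
  rw [← KaehlerDifferential.span_range_eq_ideal, Ideal.map_span, Ideal.span_le]
  rintro _ ⟨_, ⟨s, rfl⟩, rfl⟩
  rw [map_sub, ψ_tmul, ψ_tmul, map_one, map_one, one_mul, mul_one]
  exact f₂A_sub_mem n A B A' B' s

noncomputable def Ψ : PP16.P n A' B' →+* Q n A B B' :=
  Ideal.Quotient.lift ((KaehlerDifferential.ideal A' B') ^ (n + 1)) (ψ n A B A' B') (by
    intro x hx
    have h1 : ψ n A B A' B' x ∈ ((KaehlerDifferential.ideal A' B') ^ (n + 1)).map (ψ n A B A' B') :=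
      Ideal.mem_map_of_mem _ hx
    have h3 := Ideal.map_pow (ψ n A B A' B') (KaehlerDifferential.ideal A' B') (n + 1)
    rw [h3] at h1
    have h2 := Ideal.pow_right_mono (ψ_ideal_le n A B A' B') (n + 1) h1
    rw [𝔞_pow] at h2
    exact h2)

theorem Ψ_mk (x : B' ⊗[A'] B') :
    Ψ n A B A' B' (Ideal.Quotient.mk ((KaehlerDifferential.ideal A' B') ^ (n + 1)) x) =
      ψ n A B A' B' x := rfl


theorem Ψ_algebraMap (b' : B') :
    Ψ n A B A' B' (algebraMap B' (PP16.P n A' B') b') = incR n A B B' b' := by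
  change Ψ n A B A' B' (Ideal.Quotient.mk ((KaehlerDifferential.ideal A' B') ^ (n + 1))
    (b' ⊗ₜ[A'] (1 : B'))) = _
  rw [Ψ_mk, ψ_tmul, map_one, mul_one]

theorem Ψ_map_mk (t : B ⊗[A] B) :
    Ψ n A B A' B' (PP16.map n A B A' B'
      (Ideal.Quotient.mk ((KaehlerDifferential.ideal A B) ^ (n + 1)) t)) =
    incL n A B B' (Ideal.Quotient.mk ((KaehlerDifferential.ideal A B) ^ (n + 1)) t) := by
  rw [PP16.map_mk, Ψ_mk]
  induction t using TensorProduct.induction_on with
  | zero => simp
  | tmul b₁ b₂ =>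
    rw [PP16.tensorMap_tmul, ψ_tmul, f₂A_algebraMap_B, ← incL_algebraMap, ← map_mul]
    congr 1
    rw [algebraMap_apply', dn_apply, ← map_mul, Algebra.TensorProduct.tmul_mul_tmul, mul_one,
      one_mul]
  | add x y hx hy => simp only [map_add, hx, hy]

theorem Ψ_comp_Φ : (Ψ n A B A' B').comp (Φ n A B A' B') = RingHom.id _ := by
  apply Q_hom_ext
  · refine RingHom.ext fun x => ?_
    obtain ⟨t, rfl⟩ := Ideal.Quotient.mk_surjective x
    simp only [RingHom.comp_apply, RingHom.id_apply, Φ_incL]
    exact Ψ_map_mk n A B A' B' t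
  · refine RingHom.ext fun b' => ?_
    simp only [RingHom.comp_apply, RingHom.id_apply, Φ_incR, Ψ_algebraMap]

theorem Φ_f₂A (s : B') :
    Φ n A B A' B' (f₂A n A B A' B' s) = PP16.dn n A' B' s := by
  have h : IsBaseChange B (IsScalarTower.toAlgHom A A' B').toLinearMap :=
    (Algebra.IsPushout.out : IsBaseChange B (IsScalarTower.toAlgHom A A' B').toLinearMap)
  refine h.inductionOn s (motive := fun s => Φ n A B A' B' (f₂A n A B A' B' s) = PP16.dn n A' B' s)
    ?_ ?_ ?_ ?_
  · simp
  · intro a'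
    change Φ n A B A' B' (f₂A n A B A' B' (algebraMap A' B' a')) = PP16.dn n A' B' (algebraMap A' B' a')
    rw [f₂A_algebraMap_A', Φ_incR, AlgHom.commutes,
      IsScalarTower.algebraMap_apply A' B' (PP16.P n A' B')]
  · intro b s hs
    rw [Algebra.smul_def, map_mul, map_mul, map_mul, hs, f₂A_algebraMap_B, Φ_incL, PP16.map_dn]
  · intro x y hx hy
    rw [map_add, map_add, map_add, hx, hy]

theorem Φ_comp_Ψ : (Φ n A B A' B').comp (Ψ n A B A' B') = RingHom.id _ := by
  refine RingHom.ext fun y => ?_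
  obtain ⟨t, rfl⟩ := Ideal.Quotient.mk_surjective y
  simp only [RingHom.comp_apply, RingHom.id_apply, Ψ_mk]
  induction t using TensorProduct.induction_on with
  | zero => simp
  | tmul b₁ b₂ =>
    rw [ψ_tmul, map_mul, Φ_incR, Φ_f₂A, algebraMap_apply', dn_apply, ← map_mul,
      Algebra.TensorProduct.tmul_mul_tmul, mul_one, one_mul]
  | add x y hx hy => simp only [map_add, hx, hy]


def toQ (z : (PP16.P n A B) ⊗[B] B') : Q n A B B' := z

theorem smul_eq_incL_mul (x : PP16.P n A B) (z : (PP16.P n A B) ⊗[B] B') :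
    toQ n A B B' (x • z) = incL n A B B' x * toQ n A B B' z := by
  rw [incL_apply]
  change x • z = ((x ⊗ₜ[B] (1 : B')) * z : (PP16.P n A B) ⊗[B] B')
  induction z using TensorProduct.induction_on with
  | zero => simp
  | tmul p b =>
    rw [TensorProduct.smul_tmul', Algebra.TensorProduct.tmul_mul_tmul, one_mul, smul_eq_mul]
  | add y z hy hz => rw [smul_add, mul_add, hy, hz]

noncomputable def e : (PP16.P n A B) ⊗[B] B' ≃ₗ[PP16.P n A B] PP16.P n A' B' where
  toFun z := Φ n A B A' B' (toQ n A B B' z)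
  invFun y := (Ψ n A B A' B' y : Q n A B B')
  map_add' x y := map_add (Φ n A B A' B') (toQ n A B B' x) (toQ n A B B' y)
  map_smul' x z := by
    change Φ n A B A' B' (toQ n A B B' (x • z)) = x • Φ n A B A' B' (toQ n A B B' z)
    rw [smul_eq_incL_mul, map_mul, Φ_incL, Algebra.smul_def]
    rfl
  left_inv z := RingHom.congr_fun (Ψ_comp_Φ n A B A' B') (toQ n A B B' z)
  right_inv y := RingHom.congr_fun (Φ_comp_Ψ n A B A' B') y

theorem main : Algebra.IsPushout B (PP16.P n A B) B' (PP16.P n A' B') := by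
  constructor
  refine IsBaseChange.of_equiv (e n A B A' B') ?_
  intro b'
  change Φ n A B A' B' (incR n A B B' b') = _
  rw [Φ_incR]
  rfl

end



/-- Let A → A' be a ring map, B an A-algebra and B' = B ⊗_A A'. Then the canonical map P^n_{B/A} ⊗_B B'
→ P^n_{B'/A'} induced by functoriality of principal parts is an isomorphism; that is, the square B →
P^n_{B/A}, B → B', with P^n_{B'/A'} in the corner, is a pushout of rings. -/
theorem result (n : ℕ) (A B A' B' : Type u) [CommRing A] [CommRing B] [Algebra A B]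
    [CommRing A'] [CommRing B'] [Algebra A' B'] [Algebra A A'] [Algebra B B'] [Algebra A B']
    [IsScalarTower A A' B'] [IsScalarTower A B B'] [Algebra.IsPushout A B A' B'] :
    Algebra.IsPushout B (PP16.P n A B) B' (PP16.P n A' B') := by
  exact main n A B A' B'

end Groth.Agent.S3806
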