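import Groth.Statements.S3809
-- import your own Groth.Agent.* helpers here
import Groth.Agent.Lib.Helper12.PrincipalParts

set_option autoImplicit false
universe u
open scoped TensorProduct
open PP16

namespace Groth.Agent.S3809


open TensorProduct

variable (A B C : Type u) [CommRing A] [CommRing B] [CommRing C]
    [Algebra A B] [Algebra B C] [Algebra A C] [IsScalarTower A B C]

lemma pi_tmul (c c' : C) : PP16.tensorMap A C B C (c ⊗ₜ[A] c') = c ⊗ₜ[B] c' := by
  rw [PP16.tensorMap_tmul]
  rfl

lemma pi_surjective : Function.Surjective (PP16.tensorMap A C B C) := by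
  intro y
  induction y using TensorProduct.induction_on with
  | zero => exact ⟨0, map_zero _⟩
  | tmul c c' => exact ⟨c ⊗ₜ[A] c', pi_tmul A B C c c'⟩
  | add x y hx hy =>
    obtain ⟨x', rfl⟩ := hx
    obtain ⟨y', rfl⟩ := hy
    exact ⟨x' + y', map_add _ _ _⟩

lemma ideal_map_pi :
    (KaehlerDifferential.ideal A C).map (PP16.tensorMap A C B C) = KaehlerDifferential.ideal B C := by
  apply le_antisymm (PP16.ideal_map_tensorMap_le A C B C)
  rw [← KaehlerDifferential.span_range_eq_ideal, Ideal.span_le]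
  rintro _ ⟨c, rfl⟩
  have : (1 : C) ⊗ₜ[B] c - c ⊗ₜ[B] (1 : C) =
      PP16.tensorMap A C B C ((1 : C) ⊗ₜ[A] c - c ⊗ₜ[A] (1 : C)) := by
    rw [map_sub, pi_tmul, pi_tmul]
  change (1 : C) ⊗ₜ[B] c - c ⊗ₜ[B] (1 : C) ∈ _
  rw [this]
  exact Ideal.mem_map_of_mem _ (KaehlerDifferential.one_smul_sub_smul_one_mem_ideal A c)

lemma pi_eq (x : C ⊗[A] C) :
    PP16.tensorMap A C B C x = TensorProduct.mapOfCompatibleSMul B A B C C x := by
  induction x using TensorProduct.induction_on with
  | zero => simp
  | tmul c c' => rw [pi_tmul, TensorProduct.mapOfCompatibleSMul_tmul]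
  | add x y hx hy => rw [map_add, map_add, hx, hy]

lemma ker_pi :
    RingHom.ker (PP16.tensorMap A C B C) =
      (KaehlerDifferential.ideal A B).map (PP16.tensorMap A B A C) := by
  apply le_antisymm
  · intro x hx
    rw [RingHom.mem_ker, pi_eq] at hx
    have hx' : x ∈ LinearMap.ker (TensorProduct.mapOfCompatibleSMul B A B C C) := hx
    rw [TensorProduct.AlgebraTensorModule.ker_mapOfCompatibleSMul] at hx'
    have hle : Submodule.span B {x : C ⊗[A] C | ∃ (b : B) (c c' : C),
        (b • c) ⊗ₜ[A] c' - c ⊗ₜ[A] (b • c') = x} ≤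
        ((KaehlerDifferential.ideal A B).map (PP16.tensorMap A B A C)).restrictScalars B := by
      rw [Submodule.span_le]
      rintro _ ⟨b, c, c', rfl⟩
      have h1 : (b • c) ⊗ₜ[A] c' - c ⊗ₜ[A] (b • c') =
          -((c ⊗ₜ[A] c') * PP16.tensorMap A B A C ((1 : B) ⊗ₜ[A] b - b ⊗ₜ[A] (1 : B))) := by
        rw [map_sub, PP16.tensorMap_tmul, PP16.tensorMap_tmul, map_one, mul_sub,
          Algebra.TensorProduct.tmul_mul_tmul, Algebra.TensorProduct.tmul_mul_tmul, mul_one, mul_one,
          Algebra.smul_def, Algebra.smul_def, mul_comm c, mul_comm c']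
        abel
      rw [h1]
      refine Submodule.neg_mem _ (Ideal.mul_mem_left _ _ (Ideal.mem_map_of_mem _ ?_))
      exact KaehlerDifferential.one_smul_sub_smul_one_mem_ideal A b
    exact hle hx'
  · rw [← KaehlerDifferential.span_range_eq_ideal, Ideal.map_span, Ideal.span_le]
    rintro _ ⟨_, ⟨b, rfl⟩, rfl⟩
    change PP16.tensorMap A C B C (PP16.tensorMap A B A C _) = 0
    rw [map_sub, PP16.tensorMap_tmul, PP16.tensorMap_tmul, map_one, map_sub, pi_tmul, pi_tmul,
      sub_eq_zero, Algebra.algebraMap_eq_smul_one, TensorProduct.smul_tmul]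

/-- Let A → B → C be ring maps. Then the canonical map P^n_{C/A} → P^n_{C/B} is surjective, and its
kernel is the ideal generated by the image, under the canonical map P^n_{B/A} → P^n_{C/A}, of the
augmentation ideal of P^n_{B/A}. -/
theorem result (n : ℕ) (A B C : Type u) [CommRing A] [CommRing B] [CommRing C]
    [Algebra A B] [Algebra B C] [Algebra A C] [IsScalarTower A B C] :
    Function.Surjective (PP16.map n A C B C) ∧
      RingHom.ker (PP16.map n A C B C) = (PP16.augIdeal n A B).map (PP16.map n A B A C) := by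
  have key := Groth.Agent.Lib.Helper12.PP.quot_pow_map
    (PP16.tensorMap A C B C : C ⊗[A] C →+* C ⊗[B] C) (pi_surjective A B C)
    (KaehlerDifferential.ideal A C) (KaehlerDifferential.ideal B C) (ideal_map_pi A B C) (n + 1)
    (PP16.map n A C B C : PP16.P n A C →+* PP16.P n B C) (fun x => rfl)
  refine ⟨key.1, ?_⟩
  have h2 : RingHom.ker (PP16.map n A C B C) =
      RingHom.ker (PP16.map n A C B C : PP16.P n A C →+* PP16.P n B C) := rfl
  rw [h2, key.2]
  have h3 : RingHom.ker (PP16.tensorMap A C B C : C ⊗[A] C →+* C ⊗[B] C) =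
      (KaehlerDifferential.ideal A B).map (PP16.tensorMap A B A C) := ker_pi A B C
  rw [h3]
  unfold PP16.augIdeal
  have h4 : ((KaehlerDifferential.ideal A B).map (PP16.tensorMap A B A C)).map
      (Ideal.Quotient.mk (KaehlerDifferential.ideal A C ^ (n + 1))) =
      (KaehlerDifferential.ideal A B).map ((Ideal.Quotient.mk
        (KaehlerDifferential.ideal A C ^ (n + 1))).comp
          (PP16.tensorMap A B A C : B ⊗[A] B →+* C ⊗[A] C)) := Ideal.map_map _ _
  have h5 : ((KaehlerDifferential.ideal A B).map (Ideal.Quotient.mk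
      (KaehlerDifferential.ideal A B ^ (n + 1)))).map (PP16.map n A B A C) =
      (KaehlerDifferential.ideal A B).map ((PP16.map n A B A C : PP16.P n A B →+* PP16.P n A C).comp
        (Ideal.Quotient.mk (KaehlerDifferential.ideal A B ^ (n + 1)))) := Ideal.map_map _ _
  rw [h4, h5]
  rfl

end Groth.Agent.S3809
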