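import Groth.Statements.S3810
-- import your own Groth.Agent.* helpers here
import Groth.Agent.Lib.Helper12.PrincipalParts

set_option autoImplicit false
universe u
open scoped TensorProduct
open PP16

namespace Groth.Agent.S3810


open TensorProduct

variable (A B : Type u) [CommRing A] [CommRing B] [Algebra A B] (K : Ideal B)

lemma pi_tmul (b b' : B) : PP16.tensorMap A B A (B ⧸ K) (b ⊗ₜ[A] b') =
    (Ideal.Quotient.mk K b) ⊗ₜ[A] (Ideal.Quotient.mk K b') := by
  rw [PP16.tensorMap_tmul]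
  rfl

lemma pi_surjective : Function.Surjective (PP16.tensorMap A B A (B ⧸ K)) := by
  intro y
  induction y using TensorProduct.induction_on with
  | zero => exact ⟨0, map_zero _⟩
  | tmul c c' =>
    obtain ⟨b, rfl⟩ := Ideal.Quotient.mk_surjective c
    obtain ⟨b', rfl⟩ := Ideal.Quotient.mk_surjective c'
    exact ⟨b ⊗ₜ[A] b', pi_tmul A B K b b'⟩
  | add x y hx hy =>
    obtain ⟨x', rfl⟩ := hx
    obtain ⟨y', rfl⟩ := hy
    exact ⟨x' + y', map_add _ _ _⟩

lemma ideal_map_pi :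
    (KaehlerDifferential.ideal A B).map (PP16.tensorMap A B A (B ⧸ K)) =
      KaehlerDifferential.ideal A (B ⧸ K) := by
  apply le_antisymm (PP16.ideal_map_tensorMap_le A B A (B ⧸ K))
  rw [← KaehlerDifferential.span_range_eq_ideal, Ideal.span_le]
  rintro _ ⟨c, rfl⟩
  obtain ⟨b, rfl⟩ := Ideal.Quotient.mk_surjective c
  have : (1 : B ⧸ K) ⊗ₜ[A] (Ideal.Quotient.mk K b) - (Ideal.Quotient.mk K b) ⊗ₜ[A] (1 : B ⧸ K) =
      PP16.tensorMap A B A (B ⧸ K) ((1 : B) ⊗ₜ[A] b - b ⊗ₜ[A] (1 : B)) := by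
    rw [map_sub, pi_tmul, pi_tmul, map_one]
  change (1 : B ⧸ K) ⊗ₜ[A] (Ideal.Quotient.mk K b) - (Ideal.Quotient.mk K b) ⊗ₜ[A] (1 : B ⧸ K) ∈ _
  rw [this]
  exact Ideal.mem_map_of_mem _ (KaehlerDifferential.one_smul_sub_smul_one_mem_ideal A b)

lemma pi_eq (x : B ⊗[A] B) :
    PP16.tensorMap A B A (B ⧸ K) x =
      Algebra.TensorProduct.map (Ideal.Quotient.mkₐ A K) (Ideal.Quotient.mkₐ A K) x := by
  induction x using TensorProduct.induction_on with
  | zero => simp
  | tmul c c' => rw [pi_tmul, Algebra.TensorProduct.map_tmul]; rfl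
  | add x y hx hy => rw [map_add, map_add, hx, hy]

lemma ker_pi :
    RingHom.ker (PP16.tensorMap A B A (B ⧸ K)) =
      K.map (Algebra.TensorProduct.includeLeft : B →ₐ[A] B ⊗[A] B) ⊔
        K.map (Algebra.TensorProduct.includeRight : B →ₐ[A] B ⊗[A] B) := by
  have h := Algebra.TensorProduct.map_ker (Ideal.Quotient.mkₐ A K) (Ideal.Quotient.mkₐ A K)
    (Ideal.Quotient.mkₐ_surjective A K) (Ideal.Quotient.mkₐ_surjective A K)
  have hk : RingHom.ker (Ideal.Quotient.mkₐ A K) = K := by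
    ext x
    rw [RingHom.mem_ker, Ideal.Quotient.mkₐ_eq_mk, Ideal.Quotient.eq_zero_iff_mem]
  rw [hk] at h
  rw [← h]
  ext x
  rw [RingHom.mem_ker, RingHom.mem_ker, pi_eq]

/-- Let B be an A-algebra, K an ideal of B and C = B/K. Then the canonical map P^n_{B/A} → P^n_{C/A} is
surjective and its kernel is the ideal generated by the image of K under the structure map B →
P^n_{B/A} together with the image of K under the principal-part map d^n (the latter is an additive
subgroup, not a B-submodule, in general). -/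
theorem result (n : ℕ) (A B : Type u) [CommRing A] [CommRing B] [Algebra A B]
    (K : Ideal B) :
    Function.Surjective (PP16.map n A B A (B ⧸ K)) ∧
      RingHom.ker (PP16.map n A B A (B ⧸ K)) =
        K.map (algebraMap B (PP16.P n A B)) ⊔ K.map (PP16.dn n A B) := by
  have key := Groth.Agent.Lib.Helper12.PP.quot_pow_map
    (PP16.tensorMap A B A (B ⧸ K) : B ⊗[A] B →+* (B ⧸ K) ⊗[A] (B ⧸ K)) (pi_surjective A B K)
    (KaehlerDifferential.ideal A B) (KaehlerDifferential.ideal A (B ⧸ K)) (ideal_map_pi A B K) (n + 1)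
    (PP16.map n A B A (B ⧸ K) : PP16.P n A B →+* PP16.P n A (B ⧸ K)) (fun x => rfl)
  refine ⟨key.1, ?_⟩
  have h2 : RingHom.ker (PP16.map n A B A (B ⧸ K)) =
      RingHom.ker (PP16.map n A B A (B ⧸ K) : PP16.P n A B →+* PP16.P n A (B ⧸ K)) := rfl
  rw [h2, key.2]
  have h3 : RingHom.ker (PP16.tensorMap A B A (B ⧸ K) : B ⊗[A] B →+* (B ⧸ K) ⊗[A] (B ⧸ K)) =
      K.map (Algebra.TensorProduct.includeLeft : B →ₐ[A] B ⊗[A] B) ⊔
        K.map (Algebra.TensorProduct.includeRight : B →ₐ[A] B ⊗[A] B) := ker_pi A B K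
  rw [h3, Ideal.map_sup]
  congr 1
  · exact Ideal.map_map _ _
  · exact Ideal.map_map _ _

end Groth.Agent.S3810
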