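import Groth.Statements.S3811
-- import your own Groth.Agent.* helpers here
import Groth.Agent.Lib.Helper12.PrincipalParts

set_option autoImplicit false
universe u
open scoped TensorProduct
open PP16

namespace Groth.Agent.S3811


open TensorProduct

variable (A B : Type u) [CommRing A] [CommRing B] [Algebra A B] (g : B →ₐ[A] A)

/-- `b ⊗ b' ↦ g(b) b'`. -/
noncomputable def psi : B ⊗[A] B →ₐ[A] B :=
  Algebra.TensorProduct.lift ((Algebra.ofId A B).comp g) (AlgHom.id A B) (fun _ _ => Commute.all _ _)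

lemma psi_tmul (b b' : B) : psi A B g (b ⊗ₜ[A] b') = algebraMap A B (g b) * b' := by
  simp [psi, Algebra.TensorProduct.lift_tmul, Algebra.ofId_apply]

lemma sub_mem_ker (b : B) : b - algebraMap A B (g b) ∈ RingHom.ker g := by
  rw [RingHom.mem_ker, map_sub, AlgHom.commutes]
  simp

lemma map_includeLeft_psi :
    ((RingHom.ker g).map (Algebra.TensorProduct.includeLeft : B →ₐ[A] B ⊗[A] B)).map (psi A B g) = ⊥ := by
  rw [eq_bot_iff, Ideal.map_le_iff_le_comap, Ideal.map_le_iff_le_comap]
  intro k hk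
  rw [Ideal.mem_comap, Ideal.mem_comap, Submodule.mem_bot]
  change psi A B g (k ⊗ₜ[A] 1) = 0
  rw [psi_tmul, (RingHom.mem_ker).1 hk, map_zero, zero_mul]

lemma map_ideal_psi :
    (KaehlerDifferential.ideal A B).map (psi A B g) ≤ RingHom.ker g := by
  rw [← KaehlerDifferential.span_range_eq_ideal, Ideal.map_span, Ideal.span_le]
  rintro _ ⟨_, ⟨b, rfl⟩, rfl⟩
  change psi A B g ((1 : B) ⊗ₜ[A] b - b ⊗ₜ[A] (1 : B)) ∈ RingHom.ker g
  rw [map_sub, psi_tmul, psi_tmul, map_one, map_one, one_mul, mul_one]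
  exact sub_mem_ker A B g b

lemma mem_map_algebraMap_iff (n : ℕ) (x : B ⊗[A] B) :
    Ideal.Quotient.mk (KaehlerDifferential.ideal A B ^ (n + 1)) x ∈
        (RingHom.ker g).map (algebraMap B (PP16.P n A B)) ↔
      x ∈ (RingHom.ker g).map (Algebra.TensorProduct.includeLeft : B →ₐ[A] B ⊗[A] B) ⊔
        KaehlerDifferential.ideal A B ^ (n + 1) := by
  have h1 : (RingHom.ker g).map (algebraMap B (PP16.P n A B)) =
      ((RingHom.ker g).map (Algebra.TensorProduct.includeLeft : B →ₐ[A] B ⊗[A] B)).map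
        (Ideal.Quotient.mk (KaehlerDifferential.ideal A B ^ (n + 1))) := by
    have := Ideal.map_map (I := RingHom.ker g)
      ((Algebra.TensorProduct.includeLeft : B →ₐ[A] B ⊗[A] B) : B →+* B ⊗[A] B)
      (Ideal.Quotient.mk (KaehlerDifferential.ideal A B ^ (n + 1)))
    exact this.symm
  rw [h1, Ideal.mem_map_iff_of_surjective _ Ideal.Quotient.mk_surjective]
  constructor
  · rintro ⟨y, hy, hyx⟩
    rw [Ideal.Quotient.mk_eq_mk_iff_sub_mem] at hyx
    have : x = y + -(y - x) := by ring
    rw [this]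
    exact Submodule.add_mem_sup hy (neg_mem hyx)
  · intro hx
    obtain ⟨y, hy, z, hz, rfl⟩ := Submodule.mem_sup.1 hx
    refine ⟨y, hy, ?_⟩
    rw [Ideal.Quotient.mk_eq_mk_iff_sub_mem]
    simpa using neg_mem hz

/-- Let B be an A-algebra with an A-algebra retraction g : B → A, and K the kernel of g. The composite
of d^n : B → P^n_{B/A} with the projection P^n_{B/A} → P^n_{B/A} / K P^n_{B/A} (base change of
P^n_{B/A} along g) is surjective with kernel K^(n+1); thus P^n_{B/A} ⊗_B A is identified with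
B/K^(n+1), the class of d^n t corresponding to the class of t. -/
theorem result (n : ℕ) (A B : Type u) [CommRing A] [CommRing B] [Algebra A B]
    (g : B →ₐ[A] A) :
    Function.Surjective ((Ideal.Quotient.mk ((RingHom.ker g).map (algebraMap B (PP16.P n A B)))).comp
        (PP16.dn n A B).toRingHom) ∧
      RingHom.ker ((Ideal.Quotient.mk ((RingHom.ker g).map (algebraMap B (PP16.P n A B)))).comp
        (PP16.dn n A B).toRingHom) = RingHom.ker g ^ (n + 1) := by
  set K := RingHom.ker g with hK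
  set Φ := (Ideal.Quotient.mk (K.map (algebraMap B (PP16.P n A B)))).comp
        (PP16.dn n A B).toRingHom with hΦ
  have hΦapply : ∀ t : B, Φ t = Ideal.Quotient.mk (K.map (algebraMap B (PP16.P n A B)))
      (Ideal.Quotient.mk (KaehlerDifferential.ideal A B ^ (n + 1)) ((1 : B) ⊗ₜ[A] t)) := fun t => rfl
  refine ⟨?_, ?_⟩
  · -- surjectivity
    intro y
    obtain ⟨y, rfl⟩ := Ideal.Quotient.mk_surjective y
    obtain ⟨x, rfl⟩ := Ideal.Quotient.mk_surjective y
    induction x using TensorProduct.induction_on with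
    | zero => exact ⟨0, by simp⟩
    | tmul b b' =>
      refine ⟨algebraMap A B (g b) * b', ?_⟩
      rw [hΦapply, Ideal.Quotient.mk_eq_mk_iff_sub_mem, ← map_sub, mem_map_algebraMap_iff]
      refine Submodule.mem_sup_left ?_
      have : (1 : B) ⊗ₜ[A] (algebraMap A B (g b) * b') - b ⊗ₜ[A] b' =
          -(((b - algebraMap A B (g b)) ⊗ₜ[A] (1 : B)) * ((1 : B) ⊗ₜ[A] b')) := by
        rw [Algebra.TensorProduct.tmul_mul_tmul, mul_one, one_mul, TensorProduct.sub_tmul,
          ← Algebra.smul_def, ← TensorProduct.smul_tmul, Algebra.smul_def, mul_one]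
        abel
      rw [this]
      exact neg_mem (Ideal.mul_mem_right _ _
        (Ideal.mem_map_of_mem _ (sub_mem_ker A B g b)))
    | add x y hx hy =>
      obtain ⟨x', hx'⟩ := hx
      obtain ⟨y', hy'⟩ := hy
      exact ⟨x' + y', by rw [map_add, hx', hy', map_add, map_add]⟩
  · apply le_antisymm
    · intro t ht
      rw [RingHom.mem_ker, hΦapply, Ideal.Quotient.eq_zero_iff_mem, mem_map_algebraMap_iff] at ht
      have h1 : psi A B g ((1 : B) ⊗ₜ[A] t) = t := by
        rw [psi_tmul, map_one, map_one, one_mul]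
      have h2 := Ideal.mem_map_of_mem (psi A B g) ht
      have h6 := Ideal.map_pow (psi A B g) (KaehlerDifferential.ideal A B) (n + 1)
      rw [h1, Ideal.map_sup, map_includeLeft_psi, bot_sup_eq, h6] at h2
      exact Ideal.pow_right_mono (map_ideal_psi A B g) (n + 1) h2
    · -- `K^(n+1)` is killed
      set 𝔞 : Ideal (PP16.P n A B ⧸ K.map (algebraMap B (PP16.P n A B))) :=
        (PP16.augIdeal n A B).map (Ideal.Quotient.mk _) with h𝔞
      have h𝔞pow : 𝔞 ^ (n + 1) = ⊥ := by
        have h := Ideal.map_pow (Ideal.Quotient.mk (K.map (algebraMap B (PP16.P n A B))))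
          (PP16.augIdeal n A B) (n+1)
        rw [h𝔞, ← h]
        unfold PP16.augIdeal
        have h2 := Ideal.map_pow (Ideal.Quotient.mk (KaehlerDifferential.ideal A B ^ (n + 1)))
          (KaehlerDifferential.ideal A B) (n+1)
        rw [← h2, Ideal.map_quotient_self, Ideal.map_bot]
      have hKΦ : K.map Φ ≤ 𝔞 := by
        rw [Ideal.map_le_iff_le_comap]
        intro k hk
        rw [Ideal.mem_comap, hΦapply]
        have h3 : (1 : B) ⊗ₜ[A] k = ((1 : B) ⊗ₜ[A] k - k ⊗ₜ[A] (1 : B)) + k ⊗ₜ[A] (1 : B) := by abel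
        rw [h3, map_add, map_add]
        have h4 : Ideal.Quotient.mk (K.map (algebraMap B (PP16.P n A B)))
            (Ideal.Quotient.mk (KaehlerDifferential.ideal A B ^ (n + 1)) (k ⊗ₜ[A] (1 : B))) = 0 := by
          rw [Ideal.Quotient.eq_zero_iff_mem]
          exact Ideal.mem_map_of_mem (algebraMap B (PP16.P n A B)) hk
        rw [h4, add_zero]
        exact Ideal.mem_map_of_mem _ (Ideal.mem_map_of_mem _
          (KaehlerDifferential.one_smul_sub_smul_one_mem_ideal A k))
      have h5 := Ideal.map_pow Φ K (n + 1)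
      rw [RingHom.ker_eq_comap_bot, ← Ideal.map_le_iff_le_comap, h5, ← h𝔞pow]
      exact Ideal.pow_right_mono hKΦ (n + 1)

end Groth.Agent.S3811
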