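import Groth.Statements.S3812
-- import your own Groth.Agent.* helpers here
import Mathlib

set_option autoImplicit false
universe u
open scoped TensorProduct
open PP16

namespace Groth.Agent.S3812

/-- Let B = A[T_i] be a polynomial algebra. There is an isomorphism of B-algebras from P^n_{B/A} onto
B[U_i]/(U)^(n+1), where (U) is the ideal generated by the new indeterminates, sending the principal
part d^n T_i to the class of T_i + U_i for every i (so d^n F(T) goes to the class of F(T + U)). -/
theorem result (n : ℕ) (A : Type u) [CommRing A] (σ : Type u) :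
    ∃ e : PP16.P n A (MvPolynomial σ A) ≃ₐ[MvPolynomial σ A]
        (MvPolynomial σ (MvPolynomial σ A) ⧸
          Ideal.span (Set.range (MvPolynomial.X : σ → MvPolynomial σ (MvPolynomial σ A))) ^ (n + 1)),
      ∀ i : σ, e (PP16.dn n A (MvPolynomial σ A) (MvPolynomial.X i)) =
        Ideal.Quotient.mk _ (MvPolynomial.C (MvPolynomial.X i : MvPolynomial σ A) +
          (MvPolynomial.X i : MvPolynomial σ (MvPolynomial σ A))) := by
  classical
  let B := MvPolynomial σ A
  let sh : MvPolynomial σ B →ₐ[B] MvPolynomial σ B :=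
    MvPolynomial.aeval (fun i => MvPolynomial.C (MvPolynomial.X i : B) + MvPolynomial.X i)
  let sh' : MvPolynomial σ B →ₐ[B] MvPolynomial σ B :=
    MvPolynomial.aeval (fun i => MvPolynomial.X i - MvPolynomial.C (MvPolynomial.X i : B))
  let shE : MvPolynomial σ B ≃ₐ[B] MvPolynomial σ B :=
    AlgEquiv.ofAlgHom sh sh' (by ext i; simp [sh, sh']) (by ext i; simp [sh, sh'])
  let e0 : B ⊗[A] B ≃ₐ[B] MvPolynomial σ B := (MvPolynomial.algebraTensorAlgEquiv A B).trans shE
  let ε : MvPolynomial σ B →ₐ[B] B := MvPolynomial.aeval (0 : σ → B)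
  have key : ∀ c : B, ε (sh (MvPolynomial.map (algebraMap A B) c)) = c := by
    intro c
    have : ((ε.restrictScalars A).comp ((sh.restrictScalars A).comp
        (MvPolynomial.mapAlgHom (Algebra.ofId A B)))) = AlgHom.id A B := by
      apply MvPolynomial.algHom_ext
      intro i
      simp [ε, sh]
      rfl
    exact DFunLike.congr_fun this c
  have hlm : ∀ x : B ⊗[A] B, Algebra.TensorProduct.lmul' A x = ε (e0 x) := by
    intro x
    induction x using TensorProduct.induction_on with
    | zero => simp
    | tmul b c =>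
      have h1 : e0 (b ⊗ₜ[A] c) = b • sh (MvPolynomial.map (algebraMap A B) c) := by
        change sh (MvPolynomial.algebraTensorAlgEquiv A B (b ⊗ₜ[A] c)) = _
        rw [MvPolynomial.algebraTensorAlgEquiv_tmul, map_smul]
      rw [h1, map_smul, key, Algebra.TensorProduct.lmul'_apply_tmul, smul_eq_mul]
    | add x y hx hy => rw [map_add, map_add, map_add, hx, hy]
  have hvars : ∀ p : MvPolynomial σ B, p ∈ MvPolynomial.idealOfVars σ B ↔ ε p = 0 := by
    intro p
    have h1 := MvPolynomial.mem_pow_idealOfVars_iff' (σ := σ) (R := B) 1 p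
    rw [pow_one] at h1
    rw [h1]
    simp only [ε, MvPolynomial.aeval_zero, Algebra.algebraMap_self, RingHom.id_apply]
    constructor
    · intro h
      exact h 0 (by simp)
    · intro h x hx
      have : x = 0 := by
        rw [Nat.lt_one_iff] at hx
        exact (Finsupp.degree_eq_zero_iff x).1 hx
      rw [this]
      exact h
  have hker : KaehlerDifferential.ideal A B =
      (MvPolynomial.idealOfVars σ B).comap (e0 : B ⊗[A] B →+* MvPolynomial σ B) := by
    ext x
    rw [Ideal.mem_comap, KaehlerDifferential.ideal, RingHom.mem_ker]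
    change Algebra.TensorProduct.lmul' A x = 0 ↔ e0 x ∈ _
    rw [hlm, hvars]
  have hmap : (KaehlerDifferential.ideal A B).map (e0 : B ⊗[A] B →+* MvPolynomial σ B) =
      MvPolynomial.idealOfVars σ B := by
    rw [hker]
    exact Ideal.map_comap_of_surjective (e0 : B ⊗[A] B →+* MvPolynomial σ B) e0.surjective _
  let e := Ideal.quotientEquivAlg (KaehlerDifferential.ideal A B ^ (n + 1))
    (MvPolynomial.idealOfVars σ B ^ (n + 1)) e0 (by rw [Ideal.map_pow, hmap])
  refine ⟨e, fun i => ?_⟩
  change e (Ideal.Quotient.mk _ ((1 : B) ⊗ₜ[A] (MvPolynomial.X i : B))) = _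
  rw [Ideal.quotientEquivAlg_mk]
  have h2 : e0 ((1 : B) ⊗ₜ[A] (MvPolynomial.X i : B)) =
      MvPolynomial.C (MvPolynomial.X i : B) + MvPolynomial.X i := by
    change sh (MvPolynomial.algebraTensorAlgEquiv A B ((1 : B) ⊗ₜ[A] (MvPolynomial.X i : B))) = _
    rw [MvPolynomial.algebraTensorAlgEquiv_tmul, one_smul, MvPolynomial.map_X]
    simp [sh]
  rw [h2]

end Groth.Agent.S3812
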