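import Groth.Statements.S3813
-- import your own Groth.Agent.* helpers here
import Mathlib

set_option autoImplicit false
universe u
open scoped TensorProduct
open PP16

namespace Groth.Agent.S3813

/-- Let E be an A-module, B = Sym_A(E) its symmetric algebra and K the augmentation ideal of B (the
kernel of the A-algebra map B → A killing E). For every n there is an isomorphism of B-algebras from
P^n_{B/A} onto B ⊗_A (B/K^(n+1)) sending the principal part d^n t of an element t of E to t ⊗ 1 + 1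
⊗ (class of t). -/
theorem result (n : ℕ) (A : Type u) [CommRing A] (E : Type u) [AddCommGroup E]
    [Module A E] :
    ∃ e : PP16.P n A (SymmetricAlgebra A E) ≃ₐ[SymmetricAlgebra A E]
        (SymmetricAlgebra A E ⊗[A] (SymmetricAlgebra A E ⧸
          RingHom.ker (SymmetricAlgebra.lift (0 : E →ₗ[A] A)) ^ (n + 1))),
      ∀ t : E, e (PP16.dn n A (SymmetricAlgebra A E) (SymmetricAlgebra.ι A E t)) =
        SymmetricAlgebra.ι A E t ⊗ₜ 1 + 1 ⊗ₜ Ideal.Quotient.mk _ (SymmetricAlgebra.ι A E t) := by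
  classical
  let B := SymmetricAlgebra A E
  let ε : B →ₐ[A] A := SymmetricAlgebra.lift (0 : E →ₗ[A] A)
  let iL : B →ₐ[A] B ⊗[A] B := Algebra.TensorProduct.includeLeft
  let iR : B →ₐ[A] B ⊗[A] B := Algebra.TensorProduct.includeRight
  let ℓp : E →ₗ[A] B ⊗[A] B :=
    iL.toLinearMap ∘ₗ SymmetricAlgebra.ι A E + iR.toLinearMap ∘ₗ SymmetricAlgebra.ι A E
  let ℓm : E →ₗ[A] B ⊗[A] B :=
    iR.toLinearMap ∘ₗ SymmetricAlgebra.ι A E - iL.toLinearMap ∘ₗ SymmetricAlgebra.ι A E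
  let φ : B ⊗[A] B →ₐ[B] B ⊗[A] B :=
    Algebra.TensorProduct.lift (Algebra.ofId B (B ⊗[A] B)) (SymmetricAlgebra.lift ℓp)
      (fun _ _ => Commute.all _ _)
  let ψ : B ⊗[A] B →ₐ[B] B ⊗[A] B :=
    Algebra.TensorProduct.lift (Algebra.ofId B (B ⊗[A] B)) (SymmetricAlgebra.lift ℓm)
      (fun _ _ => Commute.all _ _)
  have hφ1 : ∀ b : B, φ (b ⊗ₜ[A] (1 : B)) = b ⊗ₜ[A] (1 : B) := by
    intro b
    rw [show φ (b ⊗ₜ[A] (1 : B)) = _ from Algebra.TensorProduct.lift_tmul _ _ _ b 1, map_one,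
      mul_one, Algebra.ofId_apply, Algebra.TensorProduct.algebraMap_apply]
    rfl
  have hψ1 : ∀ b : B, ψ (b ⊗ₜ[A] (1 : B)) = b ⊗ₜ[A] (1 : B) := by
    intro b
    rw [show ψ (b ⊗ₜ[A] (1 : B)) = _ from Algebra.TensorProduct.lift_tmul _ _ _ b 1, map_one,
      mul_one, Algebra.ofId_apply, Algebra.TensorProduct.algebraMap_apply]
    rfl
  have hφ2 : ∀ t : E, φ ((1 : B) ⊗ₜ[A] SymmetricAlgebra.ι A E t) =
      SymmetricAlgebra.ι A E t ⊗ₜ[A] (1 : B) + (1 : B) ⊗ₜ[A] SymmetricAlgebra.ι A E t := by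
    intro t
    rw [show φ ((1 : B) ⊗ₜ[A] SymmetricAlgebra.ι A E t) = _ from
      Algebra.TensorProduct.lift_tmul _ _ _ 1 _, map_one, one_mul, SymmetricAlgebra.lift_ι_apply]
    rfl
  have hψ2 : ∀ t : E, ψ ((1 : B) ⊗ₜ[A] SymmetricAlgebra.ι A E t) =
      (1 : B) ⊗ₜ[A] SymmetricAlgebra.ι A E t - SymmetricAlgebra.ι A E t ⊗ₜ[A] (1 : B) := by
    intro t
    rw [show ψ ((1 : B) ⊗ₜ[A] SymmetricAlgebra.ι A E t) = _ from
      Algebra.TensorProduct.lift_tmul _ _ _ 1 _, map_one, one_mul, SymmetricAlgebra.lift_ι_apply]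
    rfl
  have hφψ : φ.comp ψ = AlgHom.id B _ := by
    apply Algebra.TensorProduct.ext
    · ext
    · apply SymmetricAlgebra.algHom_ext
      ext t
      change φ (ψ ((1 : B) ⊗ₜ[A] SymmetricAlgebra.ι A E t)) = (1 : B) ⊗ₜ[A] SymmetricAlgebra.ι A E t
      rw [hψ2, map_sub, hφ2, hφ1]
      abel
  have hψφ : ψ.comp φ = AlgHom.id B _ := by
    apply Algebra.TensorProduct.ext
    · ext
    · apply SymmetricAlgebra.algHom_ext
      ext t
      change ψ (φ ((1 : B) ⊗ₜ[A] SymmetricAlgebra.ι A E t)) = (1 : B) ⊗ₜ[A] SymmetricAlgebra.ι A E t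
      rw [hφ2, map_add, hψ2, hψ1]
      abel
  let Φ : B ⊗[A] B ≃ₐ[B] B ⊗[A] B := AlgEquiv.ofAlgHom φ ψ hφψ hψφ
  let μ' : B ⊗[A] B →ₐ[A] B :=
    (Algebra.TensorProduct.rid A A B).toAlgHom.comp (Algebra.TensorProduct.map (AlgHom.id A B) ε)
  have hμ : ∀ x, Algebra.TensorProduct.lmul' A x = μ' (φ x) := by
    have : Algebra.TensorProduct.lmul' A (S := B) = μ'.comp (φ.restrictScalars A) := by
      apply Algebra.TensorProduct.ext
      · refine AlgHom.ext fun b => ?_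
        change Algebra.TensorProduct.lmul' A (b ⊗ₜ[A] (1 : B)) = μ' (φ (b ⊗ₜ[A] (1 : B)))
        rw [hφ1]
        simp [μ']
      · apply SymmetricAlgebra.algHom_ext
        ext t
        change Algebra.TensorProduct.lmul' A ((1 : B) ⊗ₜ[A] SymmetricAlgebra.ι A E t) =
          μ' (φ ((1 : B) ⊗ₜ[A] SymmetricAlgebra.ι A E t))
        rw [hφ2, map_add]
        have hε0 : ε (SymmetricAlgebra.ι A E t) = 0 := by
          change SymmetricAlgebra.lift (0 : E →ₗ[A] A) (SymmetricAlgebra.ι A E t) = 0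
          rw [SymmetricAlgebra.lift_ι_apply]
          rfl
        simp only [μ', AlgHom.comp_apply, Algebra.TensorProduct.map_tmul, AlgHom.id_apply,
          map_one, hε0, Algebra.TensorProduct.lmul'_apply_tmul, one_mul]
        simp
    intro x
    rw [this]
    rfl
  have hεs : Function.Surjective ε := fun a => ⟨algebraMap A B a, by simp⟩
  have hkerμ : RingHom.ker μ' = (RingHom.ker ε).map iR := by
    have h1 : RingHom.ker μ' =
        RingHom.ker (Algebra.TensorProduct.map (AlgHom.id A B) ε) := by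
      ext x
      simp [μ', RingHom.mem_ker]
    rw [h1]
    exact Algebra.TensorProduct.lTensor_ker ε hεs
  have hI : KaehlerDifferential.ideal A B =
      ((RingHom.ker ε).map iR).comap (Φ : B ⊗[A] B →+* B ⊗[A] B) := by
    ext x
    rw [Ideal.mem_comap, ← hkerμ, RingHom.mem_ker]
    change Algebra.TensorProduct.lmul' A x = 0 ↔ μ' (φ x) = 0
    rw [hμ]
  have hmap : (KaehlerDifferential.ideal A B).map (Φ : B ⊗[A] B →+* B ⊗[A] B) =
      (RingHom.ker ε).map iR := by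
    rw [hI]
    exact Ideal.map_comap_of_surjective (Φ : B ⊗[A] B →+* B ⊗[A] B) Φ.surjective _
  let e1 := Ideal.quotientEquivAlg (KaehlerDifferential.ideal A B ^ (n + 1))
    (((RingHom.ker ε) ^ (n + 1)).map iR) Φ (by rw [Ideal.map_pow, Ideal.map_pow, hmap])
  let e2 := (Algebra.TensorProduct.tensorQuotientEquiv (R := A) B B B
    ((RingHom.ker ε) ^ (n + 1))).symm
  refine ⟨e1.trans e2, fun t => ?_⟩
  change e2 (e1 (Ideal.Quotient.mk _ ((1 : B) ⊗ₜ[A] SymmetricAlgebra.ι A E t))) = _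
  rw [Ideal.quotientEquivAlg_mk]
  change e2 (Ideal.Quotient.mk _ (φ ((1 : B) ⊗ₜ[A] SymmetricAlgebra.ι A E t))) = _
  rw [hφ2, map_add, map_add]
  rfl

end Groth.Agent.S3813
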