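import Groth.Statements.S3814
-- import your own Groth.Agent.* helpers here
import Mathlib.RingTheory.Finiteness.NilpotentKer
import Mathlib.RingTheory.Finiteness.ModuleFinitePresentation
import Mathlib.RingTheory.FinitePresentation
import Mathlib.RingTheory.FiniteStability

set_option autoImplicit false
universe u
open scoped TensorProduct
open PP16

namespace Groth.Agent.S3814


open Algebra in
/-- The augmentation `P^n_{B/A} → B` as a `B`-algebra map. -/
noncomputable def aug (n : ℕ) (A B : Type u) [CommRing A] [CommRing B] [Algebra A B] :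
    PP16.P n A B →ₐ[B] B :=
  Ideal.Quotient.liftₐ ((KaehlerDifferential.ideal A B) ^ (n + 1))
    (Algebra.TensorProduct.lmul'' A : B ⊗[A] B →ₐ[B] B)
    (fun x hx => by
      have h1 : (KaehlerDifferential.ideal A B) ^ (n + 1) ≤ KaehlerDifferential.ideal A B :=
        Ideal.pow_le_self (Nat.succ_ne_zero n)
      exact h1 hx)

lemma aug_mk (n : ℕ) (A B : Type u) [CommRing A] [CommRing B] [Algebra A B] (x : B ⊗[A] B) :
    aug n A B (Ideal.Quotient.mk _ x) = Algebra.TensorProduct.lmul' A x := rfl

lemma ker_aug (n : ℕ) (A B : Type u) [CommRing A] [CommRing B] [Algebra A B] :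
    RingHom.ker (aug n A B) = PP16.augIdeal n A B := by
  apply le_antisymm
  · intro x hx
    obtain ⟨x, rfl⟩ := Ideal.Quotient.mk_surjective x
    rw [RingHom.mem_ker, aug_mk] at hx
    exact Ideal.mem_map_of_mem _ hx
  · unfold PP16.augIdeal
    rw [Ideal.map_le_iff_le_comap]
    intro x hx
    rw [Ideal.mem_comap, RingHom.mem_ker, aug_mk]
    exact hx

/-- If B is an A-algebra of finite presentation, then for every n the B-module P^n_{B/A} of principal
parts of order n is of finite presentation. -/
theorem result (n : ℕ) (A B : Type u) [CommRing A] [CommRing B]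
    [Algebra A B] [Algebra.FinitePresentation A B] :
    Module.FinitePresentation B (PP16.P n A B) := by
  have hfg : (KaehlerDifferential.ideal A B).FG := KaehlerDifferential.ideal_fg A B
  have hfp : Algebra.FinitePresentation B (PP16.P n A B) :=
    Algebra.FinitePresentation.quotient (hfg.pow (n := n + 1))
  have hsurj : Function.Surjective (aug n A B) := fun b =>
    ⟨Ideal.Quotient.mk _ (b ⊗ₜ[A] 1), by rw [aug_mk]; simp⟩
  have hkerfg : (RingHom.ker (aug n A B)).FG := by
    rw [ker_aug]
    exact hfg.map _
  have hnil : RingHom.ker (aug n A B) ≤ nilradical (PP16.P n A B) := by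
    rw [ker_aug]
    intro x hx
    refine ⟨n + 1, ?_⟩
    have h1 : x ^ (n + 1) ∈ (PP16.augIdeal n A B) ^ (n + 1) := Ideal.pow_mem_pow hx _
    unfold PP16.augIdeal at h1
    rw [← Ideal.map_pow, Ideal.map_quotient_self] at h1
    exact h1
  have hfin : Module.Finite B (PP16.P n A B) :=
    Module.finite_of_surjective_of_ker_le_nilradical (aug n A B) hsurj hnil hkerfg
  exact Module.FinitePresentation.of_finite_of_finitePresentation B (PP16.P n A B)

end Groth.Agent.S3814
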