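import Groth.Statements.S3822
import Mathlib
import Groth.Agent.S3820
import Groth.Agent.Lib.Helper16.QRegDiff
import Groth.Agent.Lib.Helper16.QRegFF1
import Groth.Agent.Lib.Helper16.DiffBC2

set_option autoImplicit false
universe u
open scoped TensorProduct
open PP16

namespace Groth.Agent.S3822

section helpers
open scoped TensorProduct
open PP16

theorem result_aux (A B A' B' : Type u) [CommRing A] [CommRing B] [Algebra A B]
    [CommRing A'] [CommRing B'] [Algebra A' B'] [Algebra A A'] [Algebra B B'] [Algebra A B']
    [IsScalarTower A A' B'] [IsScalarTower A B B'] [Algebra.IsPushout A B A' B'] [Module.FaithfullyFlat A A']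
    (h : PP16.IsDiffSmooth A' B') (hfin : Module.Finite B' (KaehlerDifferential A' B')) :
    PP16.IsDiffSmooth A B ∧ Module.Finite B (KaehlerDifferential A B) := by
  have hpo : Algebra.IsPushout A A' B B' := Algebra.IsPushout.symm inferInstance
  have hbc : IsBaseChange B (IsScalarTower.toAlgHom A A' B').toLinearMap := Algebra.IsPushout.out
  have hff : Module.FaithfullyFlat B B' :=
    Module.FaithfullyFlat.of_linearEquiv B (B ⊗[A] A') hbc.equiv.symm
  obtain ⟨hproj', hφ'⟩ := h
  have h1 : Module.Finite B' (B' ⊗[B] Ω[B⁄A]) :=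
    Module.Finite.equiv (KaehlerDifferential.tensorKaehlerEquiv A A' B B').symm
  have h2 : Module.Projective B' (B' ⊗[B] Ω[B⁄A]) :=
    Module.Projective.of_equiv (KaehlerDifferential.tensorKaehlerEquiv A A' B B').symm
  have hprojΩ : Module.Projective B Ω[B⁄A] :=
    Groth.Agent.Lib.Helper16.QRegFF.projective_of_faithfullyFlat (T := B') Ω[B⁄A]
  have hfinΩ : Module.Finite B Ω[B⁄A] :=
    Module.Finite.of_finite_tensorProduct_of_faithfullyFlat B'
  refine ⟨⟨hprojΩ, fun ι _ => ?_⟩, hfinΩ⟩
  rcases isEmpty_or_nonempty ι with hι | hι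
  · exact Groth.Agent.S3820.exists_phi_empty A B ι
  · obtain ⟨φ, hφ1, hφ2⟩ := hφ' ι
    have h3 := Groth.Agent.Lib.Helper16.QRegDiff.eq_phi' A' B' ι φ hφ1
    rw [h3] at hφ2
    have hinj' := Groth.Agent.Lib.Helper16.QRegDiff.can_injective_of A' B' ι hφ2.1
    have hinj := Groth.Agent.Lib.Helper16.DiffBC.can_injective_diag A B A' B'
      (FaithfulSMul.algebraMap_injective B B')
      ((Groth.Agent.Lib.Helper16.QRegDiff.projective_iff A B).mp hprojΩ) ι hinj'
    exact ⟨Groth.Agent.Lib.Helper16.QRegDiff.phi' A B ι,
      Groth.Agent.Lib.Helper16.QRegDiff.phi'_tprod A B ι,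
      Groth.Agent.Lib.Helper16.QRegDiff.phi'_bijective_of A B ι hinj⟩

end helpers

/-- Let B be an A-algebra, A → A' a faithfully flat ring map and B' = B ⊗_A A'. If B' is differentially
smooth over A' and its module of differentials is finitely generated, then B is differentially
smooth over A and its module of differentials is finitely generated. -/
theorem result (A B A' B' : Type u) [CommRing A] [CommRing B] [Algebra A B]
    [CommRing A'] [CommRing B'] [Algebra A' B'] [Algebra A A'] [Algebra B B'] [Algebra A B']
    [IsScalarTower A A' B'] [IsScalarTower A B B'] [Algebra.IsPushout A B A' B'] [Module.FaithfullyFlat A A']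
    (h : PP16.IsDiffSmooth A' B') (hfin : Module.Finite B' (KaehlerDifferential A' B')) :
    PP16.IsDiffSmooth A B ∧ Module.Finite B (KaehlerDifferential A B) := by
  exact result_aux A B A' B' h hfin

end Groth.Agent.S3822
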