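import Groth.Statements.S3826
import Mathlib
import Groth.Agent.Lib.Helper16.QRegLoc1
import Groth.Agent.Lib.Helper16.QRegLoc2
import Groth.Agent.Lib.Helper16.QRegLoc4

set_option autoImplicit false
universe u
open scoped TensorProduct
open QReg16

namespace Groth.Agent.S3826

section helpers
open scoped TensorProduct
open QReg16

theorem result_aux (R : Type u) [CommRing R] (J : Ideal R) :
    PP16.IsLocallyQuasiRegular R J ↔
      J.FG ∧ Module.Projective (R ⧸ J) J.Cotangent ∧ PP16.SymGrBijective R J := by
  rw [Groth.Agent.Lib.Helper23.SymGr.symGrBijective_iff]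
  constructor
  · intro h
    exact ⟨Groth.Agent.Lib.Helper16.QRegLoc.fg_of_isLocallyQuasiRegular J h,
      Groth.Agent.Lib.Helper16.QRegLoc.projective_cotangent_of_isLocallyQuasiRegular J h,
      fun ι _ _ => Groth.Agent.Lib.Helper16.QRegLoc.can_injective_of_isLocallyQuasiRegular J h ι⟩
  · rintro ⟨hfg, hproj, hinj⟩
    exact Groth.Agent.Lib.Helper16.QRegLoc.isLocallyQuasiRegular_of J hfg hproj hinj

end helpers

/-- Affine form, X = Spec R: an ideal J of a ring R is quasi-regular (locally on Spec R generated by a
quasi-regular sequence) if and only if (i) J is finitely generated, (ii) J/J² is a locally free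
R/J-module of finite type, here: finitely generated projective, and (iii) the canonical surjections
Sym^n(J/J²) → J^n/J^(n+1) are bijective for every n. -/
theorem result (R : Type u) [CommRing R] (J : Ideal R) :
    PP16.IsLocallyQuasiRegular R J ↔
      J.FG ∧ Module.Projective (R ⧸ J) J.Cotangent ∧ PP16.SymGrBijective R J := by
  exact result_aux R J

end Groth.Agent.S3826
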