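import Groth.Statements.S3823
import Mathlib
import Groth.Agent.S3826
import Groth.Agent.S3820
import Groth.Agent.Lib.Helper16.QRegDiff

set_option autoImplicit false
universe u
open scoped TensorProduct
open PP16

namespace Groth.Agent.S3823

section helpers
open scoped TensorProduct
open PP16

theorem result_aux (A B : Type u) [CommRing A] [CommRing B] [Algebra A B]
    [Algebra.FiniteType A B] :
    PP16.IsDiffSmooth A B ↔ PP16.IsLocallyQuasiRegular (B ⊗[A] B) (KaehlerDifferential.ideal A B) := by
  rw [Groth.Agent.S3826.result, Groth.Agent.Lib.Helper23.SymGr.symGrBijective_iff]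
  constructor
  · rintro ⟨hproj, hφ⟩
    refine ⟨KaehlerDifferential.ideal_fg A B,
      (Groth.Agent.Lib.Helper16.QRegDiff.projective_iff A B).mp hproj, fun ι _ _ => ?_⟩
    obtain ⟨φ, h1, h2⟩ := hφ ι
    have := Groth.Agent.Lib.Helper16.QRegDiff.eq_phi' A B ι φ h1
    rw [this] at h2
    exact Groth.Agent.Lib.Helper16.QRegDiff.can_injective_of A B ι h2.1
  · rintro ⟨hfg, hproj, hinj⟩
    refine ⟨(Groth.Agent.Lib.Helper16.QRegDiff.projective_iff A B).mpr hproj, fun ι _ => ?_⟩
    rcases isEmpty_or_nonempty ι with h | h
    · exact Groth.Agent.S3820.exists_phi_empty A B ι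
    · exact ⟨Groth.Agent.Lib.Helper16.QRegDiff.phi' A B ι,
        Groth.Agent.Lib.Helper16.QRegDiff.phi'_tprod A B ι,
        Groth.Agent.Lib.Helper16.QRegDiff.phi'_bijective_of A B ι (hinj ι)⟩

end helpers

/-- Let B be an A-algebra of finite type. Then B is differentially smooth over A if and only if the
diagonal immersion is quasi-regular, that is, the kernel I of B ⊗_A B → B is a quasi-regular ideal:
every prime of B ⊗_A B containing I has a basic open neighbourhood on which I is generated by a
quasi-regular sequence. -/
theorem result (A B : Type u) [CommRing A] [CommRing B] [Algebra A B]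
    [Algebra.FiniteType A B] :
    PP16.IsDiffSmooth A B ↔ PP16.IsLocallyQuasiRegular (B ⊗[A] B) (KaehlerDifferential.ideal A B) := by
  exact result_aux A B

end Groth.Agent.S3823
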