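import Groth.Statements.S3829
import Mathlib
import Groth.Agent.Helper19.SmReg3
-- import your own Groth.Agent.* helpers here

set_option autoImplicit false
universe u
open CategoryTheory CategoryTheory.Limits AlgebraicGeometry TopologicalSpace
open Unram17

namespace Groth.Agent.S3829

/-- c) implies a) (case of a closed immersion): let f : X → S and h : Y → S be locally of finite
presentation, j : Y → X a closed immersion over S and y a point of Y. If h is smooth on a
neighbourhood of y and, on some affine open neighbourhood of j(y) in X, the ideal of j is generated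
by a regular sequence (j is a regular immersion near y), then f is smooth on an open neighbourhood
of j(y). -/
theorem result {X Y S : Scheme.{u}} (f : X ⟶ S) (h : Y ⟶ S)
    [LocallyOfFinitePresentation f] [LocallyOfFinitePresentation h] (j : Y ⟶ X) [IsClosedImmersion j]
    (hj : j ≫ f = h) (y : ↥Y) (hy : ∃ V : Y.Opens, y ∈ V ∧ Smooth (V.ι ≫ h))
    (hreg : ∃ (U : X.Opens) (hU : IsAffineOpen U), j y ∈ U ∧
      ∃ rs : List Γ(X, U), RingTheory.Sequence.IsRegular Γ(X, U) rs ∧ j.ker.ideal ⟨U, hU⟩ = Ideal.ofList rs) :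
    ∃ U : X.Opens, j y ∈ U ∧ Smooth (U.ι ≫ f) := by
  subst hj
  obtain ⟨V, hyV, hVsm⟩ := hy
  obtain ⟨U, hU, hyU, rs, hrs, hker⟩ := hreg
  have hy' : y ∈ (j ≫ f).smoothLocus := by
    have h1 := Scheme.Hom.preimage_smoothLocus_eq V.ι (j ≫ f)
    rw [Scheme.Hom.smoothLocus_eq_top (V.ι ≫ (j ≫ f))] at h1
    have h2 : (⟨y, hyV⟩ : V) ∈ V.ι ⁻¹ᵁ (j ≫ f).smoothLocus := by rw [h1]; trivial
    exact h2
  refine ⟨f.smoothLocus,
    Groth.Agent.Helper19.SmReg.mem_smoothLocus_of_regular f j y hy' U hU hyU rs hrs.1 hker, ?_⟩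
  rw [← Scheme.Hom.smoothLocus_eq_top_iff, ← Scheme.Hom.preimage_smoothLocus_eq]
  exact Scheme.Opens.ι_preimage_self _

end Groth.Agent.S3829
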