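import Groth.Statements.S3842
-- import your own Groth.Agent.* helpers here
import Groth.Agent.Lib.Helper12.SchDense

set_option autoImplicit false
universe u
open CategoryTheory CategoryTheory.Limits AlgebraicGeometry TopologicalSpace
open Rat20

namespace Groth.Agent.S3842

/-- For the open subset U = X; the general case is the same statement over the open subscheme U: let f :
X' → X be a morphism of schemes with X' reduced, suppose the irreducible components of X form a
locally finite family and that every irreducible component of X' dominates an irreducible component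
of X (the closure of its image is an irreducible component of X). Then for every schematically dense
open subset V of X, the preimage f⁻¹(V) is schematically dense in X'. -/
theorem result {X X' : Scheme.{u}} (f : X' ⟶ X) [IsReduced X']
    (hfin : ∀ x : ↥X, ∃ W : X.Opens, x ∈ W ∧ {Z ∈ irreducibleComponents ↥X | (Z ∩ (W : Set ↥X)).Nonempty}.Finite)
    (hdom : ∀ Z' ∈ irreducibleComponents ↥X', closure (f '' Z') ∈ irreducibleComponents ↥X)
    (V : X.Opens) (hV : CInt.IsSchematicallyDense V) : CInt.IsSchematicallyDense (f ⁻¹ᵁ V) := by
  apply Groth.Agent.Lib.Helper12.SchDense.of_dense_of_isReduced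
  have hfin' : ∀ x : ↥X, ∃ W : Set ↥X, IsOpen W ∧ x ∈ W ∧
      {Z ∈ irreducibleComponents ↥X | (Z ∩ W).Nonempty}.Finite := by
    intro x
    obtain ⟨W, hxW, hW⟩ := hfin x
    exact ⟨W, W.isOpen, hxW, hW⟩
  exact Groth.Agent.Lib.Helper12.SchDense.dense_preimage_of_components_dominate
    f.continuous hfin' hdom V.isOpen (Groth.Agent.Lib.Helper12.SchDense.dense hV)

end Groth.Agent.S3842
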