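import Groth.Statements.S3846
import Mathlib

set_option autoImplicit false
universe u
open CategoryTheory CategoryTheory.Limits AlgebraicGeometry TopologicalSpace
open Unram17

namespace Groth.Agent.S3846

theorem diag_comp {X Y : Scheme.{u}} (f : X ⟶ Y) (U : X.Opens) :
    pullback.diagonal (U.ι ≫ f) ≫ pullback.map (U.ι ≫ f) (U.ι ≫ f) f f U.ι U.ι (𝟙 Y)
      (Category.comp_id _) (Category.comp_id _) = U.ι ≫ pullback.diagonal f := by
  apply pullback.hom_ext
  · simp only [Category.assoc, pullback.lift_fst, pullback.diagonal_fst, pullback.diagonal_fst_assoc,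
      Category.comp_id]
  · simp only [Category.assoc, pullback.lift_snd, pullback.diagonal_snd, pullback.diagonal_snd_assoc,
      Category.comp_id]

theorem unram_of_localIso_diag {X Y : Scheme.{u}} (f : X ⟶ Y) (x : ↥X)
    (h : SchLoc.IsLocalIsoAt (pullback.diagonal f) x) :
    ∃ U : X.Opens, x ∈ U ∧ FormallyUnramified (U.ι ≫ f) := by
  obtain ⟨W, hxW, hW⟩ := h
  refine ⟨W, hxW, ?_⟩
  rw [← diag_comp f W] at hW
  have : IsOpenImmersion (pullback.diagonal (W.ι ≫ f)) :=
    IsOpenImmersion.of_comp _ (pullback.map (W.ι ≫ f) (W.ι ≫ f) f f W.ι W.ι (𝟙 Y)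
      (Category.comp_id _) (Category.comp_id _))
  infer_instance

theorem isOpenImmersion_of_postcomp {V Z W : Scheme.{u}} (s : V ⟶ Z) (q : Z ⟶ W)
    [IsOpenImmersion (pullback.diagonal q)] [IsOpenImmersion (s ≫ q)] : IsOpenImmersion s := by
  have := (MorphismProperty.hasOfPostcompProperty_iff_le_diagonal (P := @IsOpenImmersion)
    (Q := (@IsOpenImmersion).diagonal)).mpr le_rfl
  exact this.of_postcomp s q (inferInstanceAs (IsOpenImmersion (pullback.diagonal q)))
    (inferInstanceAs (IsOpenImmersion (s ≫ q)))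

/-- a) iff b''): let f : X → Y be locally of finite presentation and x a point of X. Then f is
unramified on some open neighbourhood of x if and only if, for every base change g : Y' → Y and
every section s' of X ×_Y Y' → Y', s' is a local isomorphism at every point y' of Y' such that
s'(y') lies over x. -/
theorem result {X Y : Scheme.{u}} (f : X ⟶ Y) [LocallyOfFinitePresentation f]
    (x : ↥X) :
    (∃ U : X.Opens, x ∈ U ∧ FormallyUnramified (U.ι ≫ f)) ↔
      ∀ (Y' : Scheme.{u}) (g : Y' ⟶ Y) (s' : Y' ⟶ pullback f g), s' ≫ pullback.snd f g = 𝟙 Y' →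
        ∀ y' : ↥Y', pullback.fst f g (s' y') = x → SchLoc.IsLocalIsoAt s' y' := by
  constructor
  · rintro ⟨U, hxU, hU⟩ Y' g s' hs' y' hy'
    set p := pullback.fst f g with hp
    set q := pullback.snd f g with hq
    have hpb : IsPullback (p ∣_ U) ((p ⁻¹ᵁ U).ι ≫ q) (U.ι ≫ f) g :=
      (isPullback_morphismRestrict p U).paste_vert (IsPullback.of_hasPullback f g)
    have hunr : FormallyUnramified ((p ⁻¹ᵁ U).ι ≫ q) :=
      MorphismProperty.of_isPullback (P := @FormallyUnramified) hpb hU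
    have hlft : LocallyOfFiniteType ((p ⁻¹ᵁ U).ι ≫ q) := inferInstance
    have hdiag : IsOpenImmersion (pullback.diagonal ((p ⁻¹ᵁ U).ι ≫ q)) := inferInstance
    let V' : Y'.Opens := s' ⁻¹ᵁ (p ⁻¹ᵁ U)
    have hy'V : y' ∈ V' := by
      change p (s' y') ∈ U
      rw [hy']; exact hxU
    refine ⟨V', hy'V, ?_⟩
    have hrange : Set.range (V'.ι ≫ s') ⊆ Set.range (p ⁻¹ᵁ U).ι := by
      rintro _ ⟨v, rfl⟩
      rw [Scheme.Opens.range_ι]
      exact v.2
    let sV : V'.toScheme ⟶ (p ⁻¹ᵁ U).toScheme := IsOpenImmersion.lift (p ⁻¹ᵁ U).ι (V'.ι ≫ s') hrange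
    have hsV : sV ≫ (p ⁻¹ᵁ U).ι = V'.ι ≫ s' := IsOpenImmersion.lift_fac _ _ _
    have hcomp : sV ≫ ((p ⁻¹ᵁ U).ι ≫ q) = V'.ι := by
      rw [← Category.assoc, hsV, Category.assoc, hs', Category.comp_id]
    have : IsOpenImmersion (sV ≫ ((p ⁻¹ᵁ U).ι ≫ q)) := by rw [hcomp]; infer_instance
    have hsVo : IsOpenImmersion sV := isOpenImmersion_of_postcomp sV ((p ⁻¹ᵁ U).ι ≫ q)
    rw [← hsV]
    infer_instance
  · intro h
    apply unram_of_localIso_diag
    exact h X f (pullback.diagonal f) (pullback.diagonal_snd f) x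
      (by rw [← Scheme.Hom.comp_apply, pullback.diagonal_fst]; rfl)

end Groth.Agent.S3846
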