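import Groth.Statements.S3849
import Groth.Agent.Lib.Helper21.DVRExt2
-- import your own Groth.Agent.* helpers here

set_option autoImplicit false
universe u
open CategoryTheory CategoryTheory.Limits AlgebraicGeometry TopologicalSpace
open Rat20

namespace Groth.Agent.S3849

/-- In the case S = X (sections of q : Y → X): let X be a locally Noetherian scheme, q : Y → X
separated, locally of finite type and locally quasi-finite, U a dense open subset of X, h : U → Y a
section of q over U, and x a point of X outside U whose local ring is an integrally closed domain.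
Then h extends to a section of q over an open subset containing U and x if and only if there exist a
discrete valuation ring R, a morphism u : Spec R → X sending the closed point to x and the generic
point into U, and a morphism Spec R → Y over X agreeing with h at the generic point. -/
theorem result {X Y : Scheme.{u}} [IsLocallyNoetherian X] (q : Y ⟶ X)
    [LocallyOfFiniteType q] [IsSeparated q] [LocallyQuasiFinite q] (U : X.Opens) (hU : Dense (U : Set ↥X))
    (h : (U : Scheme.{u}) ⟶ Y) (hh : h ≫ q = U.ι) (x : ↥X) (hxU : x ∉ U) [IsDomain ↑(X.presheaf.stalk x)]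
    (hx : IsIntegrallyClosed ↑(X.presheaf.stalk x)) :
    (∃ (U' : X.Opens) (hUU' : U ≤ U') (h' : (U' : Scheme.{u}) ⟶ Y),
        x ∈ U' ∧ h' ≫ q = U'.ι ∧ X.homOfLE hUU' ≫ h' = h) ↔
      ∃ (R : Type u) (_ : CommRing R) (_ : IsDomain R) (_ : IsDiscreteValuationRing R)
        (u : Spec (CommRingCat.of R) ⟶ X) (ub : Spec (CommRingCat.of (FractionRing R)) ⟶ (U : Scheme.{u}))
        (h₁ : Spec (CommRingCat.of R) ⟶ Y),
        u (IsLocalRing.closedPoint R) = x ∧
          ub ≫ U.ι = Spec.map (CommRingCat.ofHom (algebraMap R (FractionRing R))) ≫ u ∧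
          h₁ ≫ q = u ∧ Spec.map (CommRingCat.ofHom (algebraMap R (FractionRing R))) ≫ h₁ = ub ≫ h := by
  constructor
  · rintro ⟨U', hUU', h', hxU', hq', hres⟩
    obtain ⟨R, iR, iD, iDVR, u, ub, hu, hub⟩ :=
      Groth.Agent.Lib.Helper21.DVRExt.exists_dvr_through_point U hU x hxU
    have hrange := Groth.Agent.Lib.Helper21.DVRExt.range_subset_of_closedPoint_mem u U'
      (hu ▸ hxU')
    let u' := IsOpenImmersion.lift U'.ι u hrange
    have hu' : u' ≫ U'.ι = u := IsOpenImmersion.lift_fac _ _ _
    refine ⟨R, iR, iD, iDVR, u, ub, u' ≫ h', hu, hub, ?_, ?_⟩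
    · rw [Category.assoc, hq', hu']
    · rw [← hres, ← Category.assoc, ← Category.assoc]
      congr 1
      rw [← cancel_mono U'.ι, Category.assoc, Category.assoc, hu', Scheme.homOfLE_ι, hub]
  · rintro ⟨R, iR, iD, iDVR, u, ub, h₁, hu, hub, hh₁, hgen⟩
    let z := h₁ (IsLocalRing.closedPoint R)
    have hz : q z = x := by
      change q (h₁ (IsLocalRing.closedPoint R)) = x
      rw [← Scheme.Hom.comp_apply, hh₁, hu]
    have hzΓ : z ∈ closure (Set.range h) := by
      let g : PrimeSpectrum R := ⟨⊥, Ideal.isPrime_bot⟩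
      have hspec : g ⤳ IsLocalRing.closedPoint R := IsLocalRing.specializes_closedPoint g
      have h2 : h₁ g ⤳ z := hspec.map h₁.continuous
      have h3 : h₁ g ∈ Set.range h := by
        let pt : PrimeSpectrum (FractionRing R) := ⟨⊥, Ideal.isPrime_bot⟩
        have hpt : Spec.map (CommRingCat.ofHom (algebraMap R (FractionRing R))) pt = g :=
          Groth.Agent.Lib.Helper21.DVRExt.comap_bot_eq (algebraMap R (FractionRing R))
            (IsFractionRing.injective R _)
        rw [← hpt, ← Scheme.Hom.comp_apply, hgen, Scheme.Hom.comp_apply]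
        exact ⟨_, rfl⟩
      exact closure_mono (Set.singleton_subset_iff.mpr h3) (specializes_iff_mem_closure.mp h2)
    have hdisc := q.isDiscrete_preimage_singleton x
    obtain ⟨W, hWo, hW⟩ := (isDiscrete_iff_forall_mem_exists_isOpen.mp hdisc) z hz
    have hzW : z ∈ W ∩ q ⁻¹' {x} := by rw [hW]; rfl
    have hiso : ((⟨W, hWo⟩ : Y.Opens) : Set Y) ∩ closure (Set.range h) ∩ q ⁻¹' {x} = {z} := by
      ext w
      constructor
      · rintro ⟨⟨hwW, -⟩, hwx⟩
        have : w ∈ W ∩ q ⁻¹' {x} := ⟨hwW, hwx⟩
        rw [hW] at this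
        exact this
      · rintro rfl
        exact ⟨⟨hzW.1, hzΓ⟩, hzW.2⟩
    obtain ⟨V, v, hxV, hv, hvh⟩ :=
      Groth.Agent.Lib.Helper21.ZMTExt.exists_extension_of_isSeparated q U h hh x
        (Groth.Agent.Lib.Helper7.exists_integral_nhd X x) hx z hz hzΓ ⟨W, hWo⟩ hiso
    obtain ⟨U', hUU', hVU', k, hk1, hk2, -, hext⟩ :=
      Groth.Agent.Lib.Helper21.DVRExt.exists_glue_two U V h v hvh.symm
    refine ⟨U', hUU', k, hVU' hxV, ?_, hk1⟩
    apply hext
    · rw [← Category.assoc, hk1, hh, Scheme.homOfLE_ι]
    · rw [← Category.assoc, hk2, hv, Scheme.homOfLE_ι]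

end Groth.Agent.S3849
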