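import Groth.Statements.S3852
-- import your own Groth.Agent.* helpers here

set_option autoImplicit false
universe u
open FCompl

namespace Groth.Agent.S3852

open AlgebraicGeometry in
/-- Second assertion; stated for quasi-coherent ideal sheaves, with the condition on supports as an
inclusion, which is what the proof uses: Let X be a Noetherian scheme and I, J ideal sheaves such
that the zero locus of J is contained in the zero locus of I. Then I^n ≤ J for some n ≥ 1. -/
theorem result
    (X : Scheme.{u}) [IsNoetherian X] (I J : X.IdealSheafData)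
    (h : (J.support : Set X) ⊆ I.support) :
    ∃ n : ℕ, I ^ (n + 1) ≤ J := by
  classical
  have key : ∀ U : X.affineOpens, ∃ n : ℕ, (I.ideal U) ^ n ≤ J.ideal U := by
    intro U
    have : IsNoetherianRing Γ(X, U) := IsLocallyNoetherian.component_noetherian U
    apply Ideal.exists_pow_le_of_le_radical_of_fg _ (IsNoetherian.noetherian _)
    rw [← PrimeSpectrum.zeroLocus_subset_zeroLocus_iff]
    have h1 : X.zeroLocus (U := U.1) (J.ideal U) ∩ U ⊆ X.zeroLocus (U := U.1) (I.ideal U) ∩ U := by
      rw [← Scheme.IdealSheafData.coe_support_inter, ← Scheme.IdealSheafData.coe_support_inter]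
      exact Set.inter_subset_inter_left _ h
    rw [← U.2.fromSpec_image_zeroLocus, ← U.2.fromSpec_image_zeroLocus] at h1
    exact (Set.image_subset_image_iff U.2.fromSpec.isOpenEmbedding.injective).mp h1
  choose n hn using key
  let 𝒰 := X.affineCover.finiteSubcover
  let V : 𝒰.I₀ → X.affineOpens := fun i => ⟨(𝒰.f i).opensRange, isAffineOpen_opensRange _⟩
  let N : ℕ := Finset.univ.sup (fun i => n (V i))
  refine ⟨N, ?_⟩
  refine Scheme.IdealSheafData.le_of_iSup_eq_top V 𝒰.iSup_opensRange (fun i => ?_)
  rw [Scheme.IdealSheafData.ideal_pow]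
  have hle : n (V i) ≤ N + 1 := (Finset.le_sup (f := fun i => n (V i)) (Finset.mem_univ i)).trans (Nat.le_succ _)
  exact (Ideal.pow_le_pow_right hle).trans (hn (V i))

end Groth.Agent.S3852
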