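import Groth.Statements.S3856
import Mathlib
import Groth.Agent.Lib.Helper21.AdicNoetherian

set_option autoImplicit false
universe u
open AdicRing

namespace Groth.Agent.S3856

/-- Let A be a ring that is complete and separated for the J-adic topology of an ideal J. If A/J² is
Noetherian (equivalently, A/J is Noetherian and J/J² is a finitely generated A/J-module), then A is
Noetherian. The published statement is phrased for a formal spectrum Spf(A) all of whose levels
Spec(A/J^(n+1)) are Noetherian; it is stated here with the weaker hypothesis that A/J² is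
Noetherian. -/
theorem result (A : Type u) [CommRing A]
    (J : Ideal A) [IsAdicComplete J A] [IsNoetherianRing (A ⧸ J ^ 2)] : IsNoetherianRing A := by
  have hJ2 : J ^ 2 ≤ J := Ideal.pow_le_self two_ne_zero
  have hN1 : IsNoetherianRing (A ⧸ J) :=
    isNoetherianRing_of_surjective (A ⧸ J ^ 2) (A ⧸ J) (Ideal.Quotient.factor hJ2)
      (Ideal.Quotient.factor_surjective hJ2)
  have hfg : (J.map (Ideal.Quotient.mk (J ^ 2))).FG := IsNoetherian.noetherian _
  obtain ⟨s, hs⟩ := hfg
  have hlift : ∀ y ∈ s, ∃ x ∈ J, Ideal.Quotient.mk (J ^ 2) x = y := by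
    intro y hy
    have h1 : y ∈ J.map (Ideal.Quotient.mk (J ^ 2)) := by
      rw [← hs]; exact Ideal.subset_span hy
    exact (Ideal.mem_map_iff_of_surjective _ Ideal.Quotient.mk_surjective).mp h1
  choose! g hgJ hg using hlift
  let xs : s → A := fun y => g y.1
  have hxsJ : ∀ t, xs t ∈ J := fun t => hgJ t.1 t.2
  have hle : J ≤ Ideal.span (Set.range xs) ⊔ J ^ 2 := by
    intro x hx
    have h1 : Ideal.Quotient.mk (J ^ 2) x ∈ J.map (Ideal.Quotient.mk (J ^ 2)) :=
      Ideal.mem_map_of_mem _ hx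
    have hmap : (Ideal.span (Set.range xs)).map (Ideal.Quotient.mk (J ^ 2)) = Ideal.span s := by
      rw [Ideal.map_span]
      congr 1
      ext y
      constructor
      · rintro ⟨_, ⟨t, rfl⟩, rfl⟩
        simp only [xs]
        rw [hg t.1 t.2]
        exact t.2
      · intro hy
        exact ⟨g y, ⟨⟨y, hy⟩, rfl⟩, hg y hy⟩
    rw [← hs, ← hmap] at h1
    have h2 := Ideal.mem_comap.mpr h1
    rw [Ideal.comap_map_of_surjective' _ Ideal.Quotient.mk_surjective, Ideal.mk_ker] at h2
    exact h2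
  have H : ∀ m : ℕ, ∀ x ∈ J ^ (m + 1), ∃ c : s → A, (∀ t, c t ∈ J ^ m) ∧
      x - ∑ t, c t * xs t ∈ J ^ (m + 2) := by
    intro m x hx
    have h1 : J ^ (m + 1) ≤ J ^ m * Ideal.span (Set.range xs) ⊔ J ^ (m + 2) := by
      calc J ^ (m + 1) = J ^ m * J := pow_succ J m
        _ ≤ J ^ m * (Ideal.span (Set.range xs) ⊔ J ^ 2) := Ideal.mul_mono_right hle
        _ = J ^ m * Ideal.span (Set.range xs) ⊔ J ^ (m + 2) := by rw [Ideal.mul_sup, ← pow_add]
    obtain ⟨u, hu, v, hv, rfl⟩ := Submodule.mem_sup.mp (h1 hx)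
    have h2 : ∃ c : s → A, (∀ t, c t ∈ J ^ m) ∧ u = ∑ t, c t * xs t := by
      refine Submodule.mul_induction_on hu ?_ ?_
      · intro a ha b hb
        obtain ⟨d, rfl⟩ := (Ideal.mem_span_range_iff_exists_fun).mp hb
        refine ⟨fun t => a * d t, fun t => Ideal.mul_mem_right _ _ ha, ?_⟩
        rw [Finset.mul_sum]
        exact Finset.sum_congr rfl fun t _ => by ring
      · rintro a b ⟨c, hc, rfl⟩ ⟨c', hc', rfl⟩
        refine ⟨fun t => c t + c' t, fun t => Ideal.add_mem _ (hc t) (hc' t), ?_⟩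
        rw [← Finset.sum_add_distrib]
        exact Finset.sum_congr rfl fun t _ => by ring
    obtain ⟨c, hc, rfl⟩ := h2
    exact ⟨c, hc, by simpa using hv⟩
  have hJle : J ≤ Ideal.span (Set.range xs) := by
    refine Groth.Agent.Lib.Helper21.le_span_of_approx J J xs 1 ?_
    intro k x hx
    cases k with
    | zero =>
      obtain ⟨c, hc, hx'⟩ := H 0 x (by simpa using hx.1)
      exact ⟨c, hc, ⟨hJ2 hx', by simpa using hJ2 hx'⟩⟩
    | succ k =>
      obtain ⟨c, hc, hx'⟩ := H k x hx.2
      refine ⟨c, by simpa using hc, ⟨Ideal.pow_le_self (by omega) hx', hx'⟩⟩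
  have hJeq : J = Ideal.span (Set.range xs) :=
    le_antisymm hJle (Ideal.span_le.mpr (by rintro _ ⟨t, rfl⟩; exact hxsJ t))
  have hJfg : J.FG := by
    rw [hJeq]
    exact Submodule.fg_span (Set.finite_range xs)
  exact Groth.Agent.Lib.Helper21.isNoetherianRing_of_isAdicComplete J hJfg

end Groth.Agent.S3856
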