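import Groth.Statements.S3859
-- import your own Groth.Agent.* helpers here

set_option autoImplicit false
universe u
open FCompl

namespace Groth.Agent.S3859

open AlgebraicGeometry in
open CategoryTheory in
/-- In the presentation by systems of thickenings: For morphisms of systems X -> S and Y -> S, the
levelwise fibre product with its two projections is a fibre product in the category of systems; it
presents the fibre product of formal schemes when one factor is adic over the base, and otherwise
only up to cofinality of the levels. -/
theorem result {𝔛 𝔜 𝔖 : FSch.Sys.{u}} (f : 𝔛 ⟶ 𝔖) (g : 𝔜 ⟶ 𝔖) :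
    IsPullback (FSch.pullbackFst f g) (FSch.pullbackSnd f g) f g := by
  refine ⟨⟨?_⟩, ⟨?_⟩⟩
  · apply FSch.Hom.ext
    funext n
    exact Limits.pullback.condition
  · refine Limits.PullbackCone.IsLimit.mk _ (fun s => ⟨fun n => Limits.pullback.lift ((s.fst : FSch.Hom _ _).app n)
        ((s.snd : FSch.Hom _ _).app n) (congrArg (fun (t : FSch.Hom _ _) => t.app n) s.condition), fun n => ?_⟩) ?_ ?_ ?_
    · change Limits.pullback.lift ((s.fst : FSch.Hom _ _).app n)
        ((s.snd : FSch.Hom _ _).app n) (congrArg (fun (t : FSch.Hom _ _) => t.app n) s.condition) ≫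
          Limits.pullback.map _ _ _ _ (𝔛.ι n) (𝔜.ι n) (𝔖.ι n) ((f : FSch.Hom 𝔛 𝔖).comm n) ((g : FSch.Hom 𝔜 𝔖).comm n) =
          s.pt.ι n ≫ Limits.pullback.lift ((s.fst : FSch.Hom _ _).app (n+1))
        ((s.snd : FSch.Hom _ _).app (n+1)) (congrArg (fun (t : FSch.Hom _ _) => t.app (n+1)) s.condition)
      apply Limits.pullback.hom_ext
      · rw [Category.assoc, Category.assoc, Limits.pullback.lift_fst]
        rw [Limits.pullback.lift_fst, Limits.pullback.lift_fst_assoc]
        exact (s.fst : FSch.Hom _ _).comm n
      · rw [Category.assoc, Category.assoc, Limits.pullback.lift_snd]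
        rw [Limits.pullback.lift_snd, Limits.pullback.lift_snd_assoc]
        exact (s.snd : FSch.Hom _ _).comm n
    · intro s
      apply FSch.Hom.ext
      funext n
      exact Limits.pullback.lift_fst _ _ _
    · intro s
      apply FSch.Hom.ext
      funext n
      exact Limits.pullback.lift_snd _ _ _
    · intro s m h1 h2
      apply FSch.Hom.ext
      funext n
      apply Limits.pullback.hom_ext
      · rw [Limits.pullback.lift_fst]
        exact congrArg (fun (t : FSch.Hom _ _) => t.app n) h1
      · rw [Limits.pullback.lift_snd]
        exact congrArg (fun (t : FSch.Hom _ _) => t.app n) h2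

end Groth.Agent.S3859
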