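import Groth.Statements.S3860
import Mathlib

set_option autoImplicit false
universe u
open FCompl

namespace Groth.Agent.S3860

open CategoryTheory AlgebraicGeometry in
theorem aux (A B : Type u) [CommRing A] [CommRing B] (I : Ideal A) (K : Ideal B)
    [IsAdicComplete I A] :
    Function.Bijective (fun φ : {φ : B →+* A // K ≤ I.comap φ} ↦ FSch.spfMap I K φ.1 φ.2) := by
  constructor
  · rintro ⟨φ, hφ⟩ ⟨ψ, hψ⟩ h
    apply Subtype.ext
    change φ = ψ
    ext b
    have hH : IsHausdorff I A := inferInstance
    rw [← sub_eq_zero]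
    apply hH.haus'
    intro n
    have hn := congrArg (fun (t : FSch.Hom _ _) => t.app n) h
    simp only [FSch.spfMap_app] at hn
    have hn2 := congrArg (fun t => t.hom (Ideal.Quotient.mk (K ^ (n + 1)) b))
      (Spec.map_injective hn)
    simp only [CommRingCat.hom_ofHom, FSch.quotPowMap, Ideal.quotientMap_mk] at hn2
    rw [Ideal.Quotient.eq] at hn2
    rw [SModEq.zero, smul_eq_mul, Ideal.mul_top]
    exact Ideal.pow_le_pow_right (Nat.le_succ n) hn2
  · intro G
    -- the ring maps at every level
    let γ : ∀ n, (B ⧸ K ^ (n + 1)) →+* (A ⧸ I ^ (n + 1)) := fun n =>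
      (Spec.preimage ((G : FSch.Hom _ _).app n)).hom
    have hγ : ∀ n, Spec.map (CommRingCat.ofHom (γ n)) = (G : FSch.Hom _ _).app n := fun n =>
      Spec.map_preimage _
    have hcompat : ∀ n, (γ n).comp (Ideal.Quotient.factor
          (Ideal.pow_le_pow_right (Nat.le_succ (n + 1)) : K ^ (n + 2) ≤ K ^ (n + 1))) =
        (Ideal.Quotient.factor
          (Ideal.pow_le_pow_right (Nat.le_succ (n + 1)) : I ^ (n + 2) ≤ I ^ (n + 1))).comp
          (γ (n + 1)) := by
      intro n
      have h1 := (G : FSch.Hom _ _).comm n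
      rw [← hγ n, ← hγ (n + 1)] at h1
      change Spec.map _ ≫ Spec.map (CommRingCat.ofHom _) =
        Spec.map (CommRingCat.ofHom _) ≫ Spec.map _ at h1
      rw [← Spec.map_comp, ← Spec.map_comp] at h1
      have h2 := Spec.map_injective h1
      rw [← CommRingCat.ofHom_comp, ← CommRingCat.ofHom_comp] at h2
      exact congrArg CommRingCat.Hom.hom h2
    have ha : StrictMono (fun n : ℕ => n + 1) := fun a b h => Nat.succ_lt_succ h
    let f : ∀ n : ℕ, B →+* A ⧸ I ^ (n + 1) := fun n => (γ n).comp (Ideal.Quotient.mk (K ^ (n + 1)))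
    have hf : ∀ {m : ℕ}, (Ideal.Quotient.factorPow I (ha.monotone m.le_succ)).comp (f (m + 1)) =
        f m := by
      intro m
      ext b
      have := congrArg (fun t => t (Ideal.Quotient.mk (K ^ (m + 2)) b)) (hcompat m)
      simp only [RingHom.comp_apply, Ideal.Quotient.factor_mk] at this
      exact this.symm
    let φ : B →+* A := IsAdicComplete.StrictMono.liftRingHom I ha f hf
    have hφ : ∀ n b, Ideal.Quotient.mk (I ^ (n + 1)) (φ b) = γ n (Ideal.Quotient.mk (K ^ (n + 1)) b) :=
      fun n b => IsAdicComplete.StrictMono.mk_liftRingHom I ha f hf b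
    have hK : K ≤ I.comap φ := by
      intro b hb
      rw [Ideal.mem_comap]
      have h0 := hφ 0 b
      have hb' : Ideal.Quotient.mk (K ^ (0 + 1)) b = 0 := by
        rw [Ideal.Quotient.eq_zero_iff_mem, zero_add, pow_one]; exact hb
      rw [hb', map_zero, Ideal.Quotient.eq_zero_iff_mem, zero_add, pow_one] at h0
      exact h0
    refine ⟨⟨φ, hK⟩, ?_⟩
    apply FSch.Hom.ext
    funext n
    change Spec.map (CommRingCat.ofHom (FSch.quotPowMap I K φ hK n)) = _
    rw [← hγ n]
    congr 2
    apply Ideal.Quotient.ringHom_ext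
    ext b
    exact hφ n b

open AlgebraicGeometry in
/-- (Affine adic case; the formal spectra presented as the systems Spec(A/I^(n+1)) and Spec(B/K^(n+1)).)
Let I be an ideal of a ring A which is complete and separated for the I-adic topology, and K an
ideal of a ring B. Then φ ↦ (Spec of the induced maps B/K^(n+1) -> A/I^(n+1)) is a bijection from
the ring homomorphisms φ : B -> A with φ(K) ⊆ I onto the morphisms of systems from Spf(A) to Spf(B),
i.e. the compatible families of morphisms Spec(A/I^(n+1)) -> Spec(B/K^(n+1)). -/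
theorem result (A B : Type u) [CommRing A] [CommRing B] (I : Ideal A) (K : Ideal B)
    [IsAdicComplete I A] :
    Function.Bijective (fun φ : {φ : B →+* A // K ≤ I.comap φ} ↦ FSch.spfMap I K φ.1 φ.2) := by
  exact aux A B I K

end Groth.Agent.S3860
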