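import Groth.Statements.S3867
import Groth.Agent.Lib.Helper1.FSchAdic
import Groth.Agent.S3873

set_option autoImplicit false
universe u
open FCompl

namespace Groth.Agent.S3867

open CategoryTheory AlgebraicGeometry in
theorem aux (A B : Type u) [CommRing A] [CommRing B] [IsNoetherianRing A]
    (I : Ideal A) (K : Ideal B) [IsAdicComplete I A] (φ : B →+* A) (h : K ≤ I.comap φ) :
    FSch.IsAdicHom (FSch.spfMap I K φ h) ↔ K.map φ = I := by
  have hcl : ∀ n, IsClosedImmersion ((FSch.spf B K).ι n) :=
    Groth.Agent.Lib.Helper1.spf_ι_isClosedImmersion B K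
  have hcl' : ∀ n, IsClosedImmersion ((FSch.spf A I).ι n) :=
    Groth.Agent.Lib.Helper1.spf_ι_isClosedImmersion A I
  -- the pulled back kernel at level n
  have hcomap : ∀ n, ((FSch.spf B K).ι n).ker.comap ((FSch.spfMap I K φ h : FSch.Hom _ _).app (n + 1)) =
      FSch.idealSpec (A ⧸ I ^ (n + 2)) (((K.map φ) ^ (n + 1)).map (Ideal.Quotient.mk (I ^ (n + 2)))) := by
    intro n
    rw [Groth.Agent.Lib.Helper1.spf_ι_ker, FSch.spfMap_app]
    refine (Groth.Agent.S3873.result (A ⧸ I ^ (n + 2)) (B ⧸ K ^ (n + 2))
      (FSch.quotPowMap I K φ h (n + 1)) _).trans ?_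
    congr 1
    rw [Ideal.map_map, ← Ideal.map_pow, Ideal.map_map]
    congr 1
  constructor
  · intro hadic
    have h0 := Groth.Agent.Lib.Helper1.ker_of_isPullback (hadic 0)
    rw [hcomap 0, Groth.Agent.Lib.Helper1.spf_ι_ker] at h0
    have h1 := Groth.Agent.Lib.Helper1.idealSpec_injective h0
    simp only [zero_add, pow_one] at h1
    have h2 := congrArg (Ideal.comap (Ideal.Quotient.mk (I ^ 2))) h1
    rw [Ideal.comap_map_of_surjective _ Ideal.Quotient.mk_surjective,
      Ideal.comap_map_of_surjective _ Ideal.Quotient.mk_surjective, ← RingHom.ker_eq_comap_bot,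
      Ideal.mk_ker] at h2
    have hle : K.map φ ≤ I := Ideal.map_le_iff_le_comap.mpr h
    have hI2 : I ⊔ I ^ 2 = I := sup_eq_left.mpr (Ideal.pow_le_self two_ne_zero)
    rw [hI2] at h2
    refine le_antisymm hle ?_
    have hjac : I ≤ Ideal.jacobson ⊥ := IsAdicComplete.le_jacobson_bot I
    apply Submodule.le_of_le_smul_of_le_jacobson_bot (IsNoetherian.noetherian I) hjac
    rw [smul_eq_mul, ← sq]
    exact h2.le
  · intro hKI n
    apply isPullback_of_isClosedImmersion
    · exact ((FSch.spfMap I K φ h : FSch.Hom _ _).comm n).symm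
    · rw [hcomap n, hKI, Groth.Agent.Lib.Helper1.spf_ι_ker]

open AlgebraicGeometry in
/-- Formal spectra are presented as the systems Spec(A/I^(n+1)) and Spec(B/K^(n+1)), a morphism of
systems being adic when all its squares are cartesian. Let A be a Noetherian ring, complete and
separated for the I-adic topology of an ideal I, K an ideal of a ring B and φ : B → A a ring
homomorphism with φ(K) ⊆ I. Then the induced morphism Spf(A) → Spf(B) is adic if and only if the
ideal of A generated by φ(K) is I. -/
theorem result (A B : Type u) [CommRing A] [CommRing B] [IsNoetherianRing A]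
    (I : Ideal A) (K : Ideal B) [IsAdicComplete I A] (φ : B →+* A) (h : K ≤ I.comap φ) :
    FSch.IsAdicHom (FSch.spfMap I K φ h) ↔ K.map φ = I := by
  exact aux A B I K φ h

end Groth.Agent.S3867
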