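import Groth.Statements.S3872
import Groth.Agent.Lib.Helper1.ComplMap

set_option autoImplicit false
universe u
open FCompl

namespace Groth.Agent.S3872

theorem aux2 (A : Type u) [CommRing A] (J : Ideal A) (𝔭 : Ideal A)
    [𝔭.IsPrime] (hJ : J ≤ 𝔭) [IsLocalRing (FSch.cAtPrime A J 𝔭)]
    [IsLocalHom (algebraMap (Localization.AtPrime 𝔭) (FSch.cAtPrime A J 𝔭))] :
    Function.Surjective
        (IsLocalRing.ResidueField.map (algebraMap (Localization.AtPrime 𝔭) (FSch.cAtPrime A J 𝔭))) := by
  intro y
  obtain ⟨x, rfl⟩ := IsLocalRing.residue_surjective y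
  set I : Ideal (Localization.AtPrime 𝔭) := J.map (algebraMap A (Localization.AtPrime 𝔭)) with hI
  obtain ⟨a, ha⟩ := Ideal.Quotient.mk_surjective (AdicCompletion.evalOneₐ I x)
  refine ⟨IsLocalRing.residue _ a, ?_⟩
  rw [IsLocalRing.ResidueField.map_residue]
  -- the difference lies in the maximal ideal
  rw [← sub_eq_zero, ← map_sub, IsLocalRing.residue_eq_zero_iff]
  have hker : AdicCompletion.evalOneₐ I
      (algebraMap (Localization.AtPrime 𝔭) (FSch.cAtPrime A J 𝔭) a - x) = 0 := by
    rw [map_sub, AdicCompletion.algebraMap_apply, Algebra.algebraMap_self_apply,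
      AdicCompletion.evalOneₐ_of, ha, sub_self]
  rw [IsLocalRing.mem_maximalIdeal, mem_nonunits_iff]
  intro hu
  have hu' : IsUnit (AdicCompletion.evalOneₐ I
      (algebraMap (Localization.AtPrime 𝔭) (FSch.cAtPrime A J 𝔭) a - x)) := hu.map _
  rw [hker] at hu'
  have hne : I ≠ ⊤ := by
    have hle : I ≤ IsLocalRing.maximalIdeal (Localization.AtPrime 𝔭) := by
      rw [← Localization.AtPrime.map_eq_maximalIdeal]
      exact Ideal.map_mono hJ
    intro h
    rw [h] at hle
    exact (IsLocalRing.maximalIdeal.isMaximal _).ne_top (top_le_iff.mp hle)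
  have : Nontrivial (Localization.AtPrime 𝔭 ⧸ I) := Ideal.Quotient.nontrivial_iff.mpr hne
  exact not_isUnit_zero hu'

/-- For a ring A, an ideal J and a prime ideal 𝔭 with J ⊆ 𝔭, let A{S⁻¹}, S = A ∖ 𝔭, be the completion of
A_𝔭 for the topology defined by the extension of J, and A_{S} the subring of A{S⁻¹} generated by the
images of the completed localizations A_{f}, f ∉ 𝔭 (the stalk ring of Spf(A) at 𝔭). Given that A_{S}
and A{S⁻¹} are local rings and that the inclusion A_{S} → A{S⁻¹} and the canonical map A_𝔭 → A{S⁻¹}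
are local homomorphisms (all four are carried here as instance hypotheses; the two about A_{S} are
stated separately), both maps induce bijections on residue fields; so the residue field of A_{S} is
the residue field κ(𝔭) of A_𝔭. -/
theorem result (A : Type u) [CommRing A] (J : Ideal A) (𝔭 : Ideal A)
    [𝔭.IsPrime] (hJ : J ≤ 𝔭) [IsLocalRing (FSch.stalkSubring A J 𝔭)] [IsLocalRing (FSch.cAtPrime A J 𝔭)]
    [IsLocalHom (FSch.stalkSubring A J 𝔭).subtype]
    [IsLocalHom (algebraMap (Localization.AtPrime 𝔭) (FSch.cAtPrime A J 𝔭))] :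
    Function.Bijective (IsLocalRing.ResidueField.map (FSch.stalkSubring A J 𝔭).subtype) ∧
      Function.Bijective
        (IsLocalRing.ResidueField.map (algebraMap (Localization.AtPrime 𝔭) (FSch.cAtPrime A J 𝔭))) := by
  have h2 := aux2 A J 𝔭 hJ
  refine ⟨⟨RingHom.injective _, ?_⟩, ⟨RingHom.injective _, h2⟩⟩
  intro y
  obtain ⟨z, rfl⟩ := h2 y
  obtain ⟨a, rfl⟩ := IsLocalRing.residue_surjective z
  refine ⟨IsLocalRing.residue _ ⟨_, Groth.Agent.Lib.Helper1.algebraMap_mem_stalkSubring A J 𝔭 a⟩, ?_⟩
  rw [IsLocalRing.ResidueField.map_residue, IsLocalRing.ResidueField.map_residue]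
  rfl

end Groth.Agent.S3872
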