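import Groth.Statements.S3874
import Mathlib

set_option autoImplicit false
universe u
open FCompl

namespace Groth.Agent.S3874

theorem ker_evalₐ_eq_map {R : Type u} [CommRing R] (I : Ideal R) (fg : I.FG) (n : ℕ) :
    RingHom.ker (AdicCompletion.evalₐ I n).toRingHom =
      (I ^ n).map (algebraMap R (AdicCompletion I R)) := by
  ext x
  trans x ∈ (AdicCompletion.eval I R n).ker
  · have eq : I ^ n * ⊤ = I ^ n := by simp
    have : Function.Injective (Ideal.Quotient.factor ((le_of_eq eq))) := by
      simpa [RingHom.injective_iff_ker_eq_bot, Ideal.Quotient.factor_ker]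
        using Ideal.map_mk_eq_bot_of_le (le_of_eq eq.symm)
    simpa [← AdicCompletion.factor_eval_eq_evalₐ] using map_eq_zero_iff _ this
  · simp [← AdicCompletion.pow_smul_top_eq_ker_eval fg, Ideal.smul_top_eq_map]

theorem algebraMap_cAway_eq (A : Type u) [CommRing A] (J : Ideal A) (f : A) :
    algebraMap A (FSch.cAway A J f) =
      (algebraMap (Localization.Away f) (FSch.cAway A J f)).comp (algebraMap A (Localization.Away f)) := by
  ext a
  rfl

theorem aux (A : Type u) [CommRing A] [IsNoetherianRing A] (J : Ideal A)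
    (f : A) (n : ℕ) :
    ∃ e : Localization.Away (Ideal.Quotient.mk (J ^ (n + 1)) f) ≃+*
        FSch.cAway A J f ⧸ (J.map (algebraMap A (FSch.cAway A J f))) ^ (n + 1),
      ∀ a : A, e (algebraMap (A ⧸ J ^ (n + 1)) _ (Ideal.Quotient.mk (J ^ (n + 1)) a)) =
        Ideal.Quotient.mk _ (algebraMap A (FSch.cAway A J f) a) := by
  set R := Localization.Away f with hR
  set I : Ideal R := J.map (algebraMap A R) with hI
  -- step 1: localization of the quotient
  have hloc : IsLocalization.Away (Ideal.Quotient.mk (J ^ (n + 1)) f)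
      (R ⧸ (J ^ (n + 1)).map (algebraMap A R)) := by
    have h := (inferInstance : IsLocalization (Algebra.algebraMapSubmonoid (A ⧸ J ^ (n + 1))
      (Submonoid.powers f)) (R ⧸ (J ^ (n + 1)).map (algebraMap A R)))
    have hsub : Algebra.algebraMapSubmonoid (A ⧸ J ^ (n + 1)) (Submonoid.powers f) =
        Submonoid.powers (Ideal.Quotient.mk (J ^ (n + 1)) f) := by
      unfold Algebra.algebraMapSubmonoid
      rw [Submonoid.map_powers]
      rfl
    rw [hsub] at h
    exact h
  let e₁ : Localization.Away (Ideal.Quotient.mk (J ^ (n + 1)) f) ≃ₐ[A ⧸ J ^ (n + 1)]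
      (R ⧸ (J ^ (n + 1)).map (algebraMap A R)) :=
    IsLocalization.algEquiv (Submonoid.powers (Ideal.Quotient.mk (J ^ (n + 1)) f)) _ _
  have h1 : (J ^ (n + 1)).map (algebraMap A R) = I ^ (n + 1) := Ideal.map_pow _ _ _
  let e₂ : (R ⧸ (J ^ (n + 1)).map (algebraMap A R)) ≃+* R ⧸ I ^ (n + 1) := Ideal.quotEquivOfEq h1
  have hfg : I.FG := IsNoetherian.noetherian I
  let e₃ : (AdicCompletion I R ⧸ RingHom.ker (AdicCompletion.evalₐ I (n + 1)).toRingHom) ≃+*
      R ⧸ I ^ (n + 1) :=
    RingHom.quotientKerEquivOfSurjective (f := (AdicCompletion.evalₐ I (n + 1)).toRingHom)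
      (AdicCompletion.surjective_evalₐ I (n + 1))
  have h2 : RingHom.ker (AdicCompletion.evalₐ I (n + 1)).toRingHom =
      (J.map (algebraMap A (FSch.cAway A J f))) ^ (n + 1) := by
    rw [ker_evalₐ_eq_map I hfg, Ideal.map_pow, algebraMap_cAway_eq, ← Ideal.map_map]
  let e₄ : (AdicCompletion I R ⧸ RingHom.ker (AdicCompletion.evalₐ I (n + 1)).toRingHom) ≃+*
      FSch.cAway A J f ⧸ (J.map (algebraMap A (FSch.cAway A J f))) ^ (n + 1) :=
    Ideal.quotEquivOfEq h2
  refine ⟨(e₁.toRingEquiv.trans e₂).trans (e₃.symm.trans e₄), ?_⟩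
  intro a
  simp only [RingEquiv.trans_apply, AlgEquiv.coe_ringEquiv,
    AlgEquiv.commutes]
  have h3 : e₂ (algebraMap (A ⧸ J ^ (n + 1)) (R ⧸ (J ^ (n + 1)).map (algebraMap A R))
      (Ideal.Quotient.mk (J ^ (n + 1)) a)) = Ideal.Quotient.mk _ (algebraMap A R a) := rfl
  rw [h3]
  have h4 : e₃.symm (Ideal.Quotient.mk (I ^ (n + 1)) (algebraMap A R a)) =
      Ideal.Quotient.mk _ (AdicCompletion.of I R (algebraMap A R a)) := by
    rw [RingEquiv.symm_apply_eq]
    change _ = (AdicCompletion.evalₐ I (n + 1)) (AdicCompletion.of I R (algebraMap A R a))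
    rw [AdicCompletion.evalₐ_of]
  rw [h4]
  rfl

/-- Let A be a Noetherian ring, J an ideal, f ∈ A and n ≥ 0, and let A_{f} be the completion of the
localization A_f for the topology defined by the extension of J. There is a ring isomorphism from
the localization of A/J^(n+1) away from the class of f onto A_{f} modulo the (n+1)-st power of the
extension of J to A_{f}, compatible with the canonical maps from A (and hence unique). In terms of
formal spectra: the open D(f) of Spf(A) is Spf(A_{f}), and at level n its ring is the ring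
(A/J^(n+1))_f of the open D(f) of Spec(A/J^(n+1)). -/
theorem result (A : Type u) [CommRing A] [IsNoetherianRing A] (J : Ideal A)
    (f : A) (n : ℕ) :
    ∃ e : Localization.Away (Ideal.Quotient.mk (J ^ (n + 1)) f) ≃+*
        FSch.cAway A J f ⧸ (J.map (algebraMap A (FSch.cAway A J f))) ^ (n + 1),
      ∀ a : A, e (algebraMap (A ⧸ J ^ (n + 1)) _ (Ideal.Quotient.mk (J ^ (n + 1)) a)) =
        Ideal.Quotient.mk _ (algebraMap A (FSch.cAway A J f) a) := by
  exact aux A J f n

end Groth.Agent.S3874
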