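import Groth.Statements.S3875
import Groth.Agent.Lib.Helper1.FSchBasic

set_option autoImplicit false
universe u
open FCompl

namespace Groth.Agent.S3875

open AlgebraicGeometry in
open CategoryTheory in
open CategoryTheory.Limits in
/-- Let g : X → S and h : Y → S be morphisms of schemes, R an ideal sheaf on X and J an ideal sheaf on
S, and consider the completions of S along J, of X along R, of Y along the inverse image of J under
h, and of X x_S Y along the inverse image of R under the first projection (completions presented by
the subschemes of the powers of these ideal sheaves); this is the case where the closed subset of Y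
is the full preimage of that of S. The four compatibility hypotheses between the powers of the ideal
sheaves (for g, for h, and for the two projections of X x_S Y): for each n, the inverse image of the
(n+1)-st power of the target ideal sheaf is contained in the (n+1)-st power of the source ideal
sheaf. These are hypotheses, carried as data for the completed morphisms; the published statement
assumes the schemes locally Noetherian, which this identity does not need. Then the square of
completed morphisms from the completion of X x_S Y along the preimage of the closed subset of X, to
the completions of X and of Y, over the completion of S, is cartesian in the category of systems. -/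
theorem result {X Y S : Scheme.{u}} (g : X ⟶ S) (h : Y ⟶ S)
    (𝓡 : X.IdealSheafData) (𝓙 : S.IdealSheafData)
    (hg : FSch.PowCompat g 𝓡 𝓙) (hh : FSch.PowCompat h (𝓙.comap h) 𝓙)
    (hp : FSch.PowCompat (pullback.fst g h) (𝓡.comap (pullback.fst g h)) 𝓡)
    (hq : FSch.PowCompat (pullback.snd g h) (𝓡.comap (pullback.fst g h)) (𝓙.comap h)) :
    IsPullback (FSch.completionMap (pullback.fst g h) (𝓡.comap (pullback.fst g h)) 𝓡 hp)
      (FSch.completionMap (pullback.snd g h) (𝓡.comap (pullback.fst g h)) (𝓙.comap h) hq)
      (FSch.completionMap g 𝓡 𝓙 hg) (FSch.completionMap h (𝓙.comap h) 𝓙 hh) := by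
  apply Groth.Agent.Lib.Helper1.isPullback_of_levelwise
  intro n
  have hA := Groth.Agent.Lib.Helper1.completion_isPullback (pullback.fst g h) 𝓡 hp n
  have hB := Groth.Agent.Lib.Helper1.completion_isPullback h 𝓙 hh n
  have hC : IsPullback (pullback.fst g h) (pullback.snd g h) g h := IsPullback.of_hasPullback g h
  have hE := (hA.flip.paste_vert hC).flip
  have e1 := Groth.Agent.Lib.Helper1.completionMap_app_toX (pullback.snd g h) (𝓙.comap h) hq n
  have e2 := Groth.Agent.Lib.Helper1.completionMap_app_toX g 𝓙 hg n
  have e3 := Groth.Agent.Lib.Helper1.completionMap_app_toX h 𝓙 hh n
  have e4 := Groth.Agent.Lib.Helper1.completionMap_app_toX (pullback.fst g h) 𝓡 hp n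
  rw [← e1, ← e2] at hE
  refine (IsPullback.of_right hE ?_ hB).flip
  have : Mono (FSch.completionToX S 𝓙 n) :=
    inferInstanceAs (Mono (𝓙 ^ (n + 1)).subschemeι)
  rw [← cancel_mono (FSch.completionToX S 𝓙 n), Category.assoc, Category.assoc, e3, e2,
    ← Category.assoc, ← Category.assoc, e1, e4, Category.assoc, Category.assoc, pullback.condition]

end Groth.Agent.S3875
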