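import Groth.Statements.S3883
import Groth.Agent.Lib.Helper22.EtStalk.ClosedOpenSets

set_option autoImplicit false
open CategoryTheory CategoryTheory.Limits AlgebraicGeometry Opposite
universe u
open EtDesc

namespace Groth.Agent.S3883

/-- Let i : Y -> X be a closed immersion and j : U -> X an open immersion whose image is the complement
of the image of i. Then the direct image functor i_* on etale sheaves of sets is fully faithful, and
a sheaf of sets F on X is isomorphic to some i_* G if and only if j^* F is a final object. -/
theorem result {Y X U : Scheme.{u}} (i : Y ⟶ X)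
    [IsClosedImmersion i] (j : U ⟶ X) [IsOpenImmersion j]
    (hU : Set.range j.base = (Set.range i.base)ᶜ) :
    (EtDesc.pushSh i).Full ∧ (EtDesc.pushSh i).Faithful ∧
    ∀ F : EtDesc.Sh X, (EtDesc.pushSh i).essImage F ↔ IsIso (terminal.from ((EtDesc.pullSh j).obj F)) := by
  refine ⟨(Groth.Agent.Lib.Helper22.EtStalk.ClosedStalkSets.fullyFaithfulPushSh i).full,
    (Groth.Agent.Lib.Helper22.EtStalk.ClosedStalkSets.fullyFaithfulPushSh i).faithful, fun F => ?_⟩
  exact Groth.Agent.Lib.Helper22.EtStalk.ClosedOpenSets.essImage_pushSh_iff i j hU F

end Groth.Agent.S3883
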