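import Groth.Statements.S3888
import Groth.Agent.Lib.Helper22.EtLoc.MonoLocA
import Groth.Agent.Lib.Helper22.EtStalk.ClosedStalkSets

set_option autoImplicit false
open CategoryTheory CategoryTheory.Limits AlgebraicGeometry Opposite
universe u
open EtDesc

namespace Groth.Agent.S3888

open Groth.Agent.Lib.Helper22.EtLoc Groth.Agent.Lib.Helper22.EtStalk

noncomputable def ffCongr {X Y : Scheme.{u}} {f f' : X ⟶ Y} (h : f = f')
    (hf : (EtDesc.pushSh f).FullyFaithful) : (EtDesc.pushSh f').FullyFaithful := by
  subst h; exact hf

noncomputable def ffOpen {U X : Scheme.{u}} (j : U ⟶ X) [IsOpenImmersion j] :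
    (EtDesc.pushSh j).FullyFaithful :=
  fullyFaithfulPushA j (Type (u+1))

noncomputable def ffImm {X Y : Scheme.{u}} (f : X ⟶ Y) [IsImmersion f] :
    (EtDesc.pushSh f).FullyFaithful :=
  ffCongr (Scheme.Hom.liftCoborder_ι f)
    (((ClosedStalkSets.fullyFaithfulPushSh f.liftCoborder).comp
      (ffOpen f.coborderRange.ι)).ofIso (EtDesc.pushCompSh f.coborderRange.ι f.liftCoborder))

/-- Let f : X -> Y be an immersion of schemes. Then for every sheaf of sets F on the small etale site of
X the counit f^* f_* F -> F of the adjunction between inverse and direct image is an isomorphism. -/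
theorem result {X Y : Scheme.{u}} (f : X ⟶ Y) [IsImmersion f] (F : EtDesc.Sh X) :
    IsIso ((EtDesc.adjSh f).counit.app F) := by
  have := (ffImm f).full
  have := (ffImm f).faithful
  infer_instance

end Groth.Agent.S3888
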