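import Groth.Statements.S3894
import Mathlib
-- import your own Groth.Agent.* helpers here

set_option autoImplicit false
universe u
open CategoryTheory CategoryTheory.Limits Opposite
open Tors

namespace Groth.Agent.S3894


/-- A torsor P under an abelian sheaf G is trivial, i.e. equivariantly isomorphic to G acting on itself
by translations, if and only if P has a global section (a morphism from the final sheaf of sets). -/
theorem result {C : Type u} [SmallCategory C] {J : GrothendieckTopology C}
    {G : Sheaf J AddCommGrpCat.{u}} (T : Tors.Torsor G) : T.IsTrivial ↔ T.HasSection := by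
  constructor
  · rintro ⟨e, he⟩
    refine ⟨ObjectProperty.homMk
      { app := fun U => ↾(fun _ => e.hom.hom.app U (0 : G.obj.obj U))
        naturality := ?_ }⟩
    intro U V f
    refine ConcreteCategory.hom_ext _ _ fun x => ?_
    have := NatTrans.naturality_apply e.hom.hom f (0 : G.obj.obj U)
    rw [types_comp_apply, types_comp_apply, TypeCat.ofHom_apply, TypeCat.ofHom_apply]
    rw [← this]
    congr 1
    exact (map_zero (G.obj.map f).hom).symm
  · rintro ⟨s⟩
    let Q : Sheaf J (Type u) := Sheaf.terminal J Types.isTerminalPUnit
    let t : Q ⟶ T.P := terminal.from Q ≫ s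
    let p : ∀ U : Cᵒᵖ, T.P.obj.obj U := fun U => t.hom.app U PUnit.unit
    have hp : ∀ {U V : Cᵒᵖ} (f : U ⟶ V), T.P.obj.map f (p U) = p V := by
      intro U V f
      have := NatTrans.naturality_apply t.hom f PUnit.unit
      exact this.symm
    let φ : (sheafCompose J (forget AddCommGrpCat.{u})).obj G ⟶ T.P := ObjectProperty.homMk
      { app := fun U => ↾(fun g => T.vadd (U := U) g (p U))
        naturality := by
          intro U V f
          refine ConcreteCategory.hom_ext _ _ fun g => ?_
          rw [types_comp_apply, types_comp_apply, TypeCat.ofHom_apply, TypeCat.ofHom_apply]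
          rw [T.map_vadd, hp]
          rfl }
    have hφa : ∀ U (g : G.obj.obj U), φ.hom.app U g = T.vadd g (p U) := fun U g => rfl
    have hφ : ∀ U, Function.Bijective (φ.hom.app U) := by
      intro U
      constructor
      · intro g h hgh
        exact (T.free_transitive (p U) (T.vadd h (p U))).unique hgh rfl
      · intro q
        obtain ⟨g, hg, -⟩ := T.free_transitive (p U) q
        exact ⟨g, hg⟩
    have hiso : IsIso φ := by
      have h1 : IsIso φ.hom := by
        apply (config := { allowSynthFailures := true }) NatIso.isIso_of_isIso_app
        intro U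
        exact (isIso_iff_bijective _).mpr (hφ U)
      have h2 : IsIso ((sheafToPresheaf J (Type u)).map φ) := h1
      exact isIso_of_reflects_iso φ (sheafToPresheaf J (Type u))
    refine ⟨asIso φ, ?_⟩
    intro U g h
    show φ.hom.app U (g + h) = T.vadd g (φ.hom.app U h)
    rw [hφa, hφa]
    exact T.add_vadd g h (p U)

end Groth.Agent.S3894
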