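import Groth.Statements.S3895
import Groth.Agent.Lib.Helper2.TorsExt.H1

set_option autoImplicit false
universe u
open CategoryTheory CategoryTheory.Limits Opposite
open Tors

namespace Groth.Agent.S3895

/-- In a map-free form (small site, abelian sheaf G): the first cohomology group H^1(G) (Ext^1 out of
the constant sheaf Z) is zero if and only if every G-torsor has a global section. The source's
statement is stronger: a canonical bijection between isomorphism classes of G-torsors and H^1(G). -/
theorem result {C : Type u} [SmallCategory C] {J : GrothendieckTopology C}
    (G : Sheaf J AddCommGrpCat.{u}) :
    Subsingleton (Sheaf.H.{u} G 1) ↔ ∀ T : Tors.Torsor G, T.HasSection := by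
  constructor
  · intro h T
    exact Groth.Agent.Lib.Helper2.TorsExt.hasSection_of_subsingleton T h
  · intro h
    exact Groth.Agent.Lib.Helper2.TorsExt.subsingleton_of_forall_hasSection h

end Groth.Agent.S3895
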