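import Groth.Statements.S4024
import Mathlib

set_option autoImplicit false
universe u
open CategoryTheory CategoryTheory.Limits AlgebraicGeometry
open LefPen

namespace Groth.Agent.S4024



section Helpers
open MvPolynomial
variable {k : Type u} [Field k] {r : ℕ}

noncomputable def linF (ℓ : (Fin (r+1) → k) →ₗ[k] k) : MvPolynomial (Fin (r+1)) k :=
  ∑ i, C (ℓ (Pi.single i 1)) * X i

theorem linF_hom (ℓ : (Fin (r+1) → k) →ₗ[k] k) : (linF ℓ).IsHomogeneous 1 := by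
  apply IsHomogeneous.sum
  intro i _
  have := (isHomogeneous_C (Fin (r+1)) (ℓ (Pi.single i 1))).mul (isHomogeneous_X k i)
  simpa using this

theorem apply_eq_sum (ℓ : (Fin (r+1) → k) →ₗ[k] k) (v : Fin (r+1) → k) :
    ℓ v = ∑ i, ℓ (Pi.single i 1) * v i := by
  conv_lhs => rw [← Finset.univ_sum_single v]
  rw [map_sum]
  apply Finset.sum_congr rfl
  intro i _
  have : (Pi.single i (v i) : Fin (r+1) → k) = v i • Pi.single i 1 := by
    ext j
    by_cases h : j = i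
    · subst h; simp
    · simp [Pi.single_eq_of_ne h]
  rw [this, map_smul, smul_eq_mul, mul_comm]

theorem aeval_linF (ℓ : (Fin (r+1) → k) →ₗ[k] k) (v : Fin (r+1) → k) :
    aeval v (linF ℓ) = ℓ v := by
  rw [apply_eq_sum ℓ v, linF, map_sum]
  apply Finset.sum_congr rfl
  intro i _
  simp

noncomputable def dd (v w : Fin (r+1) → k) (G : MvPolynomial (Fin (r+1)) k) : k :=
  ∑ i, w i * aeval v (pderiv i G)

theorem dd_add (v w : Fin (r+1) → k) (G H : MvPolynomial (Fin (r+1)) k) :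
    dd v w (G + H) = dd v w G + dd v w H := by
  simp only [dd, map_add, mul_add, Finset.sum_add_distrib]

theorem dd_sub (v w : Fin (r+1) → k) (G H : MvPolynomial (Fin (r+1)) k) :
    dd v w (G - H) = dd v w G - dd v w H := by
  simp only [dd, map_sub, mul_sub, Finset.sum_sub_distrib]

theorem dd_zero (v w : Fin (r+1) → k) : dd v w (0 : MvPolynomial (Fin (r+1)) k) = 0 := by
  simp [dd]

theorem dd_mul (v w : Fin (r+1) → k) (G H : MvPolynomial (Fin (r+1)) k) :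
    dd v w (G * H) = aeval v G * dd v w H + aeval v H * dd v w G := by
  simp only [dd, pderiv_mul, map_add, map_mul, Finset.mul_sum, ← Finset.sum_add_distrib]
  apply Finset.sum_congr rfl
  intro i _
  ring

theorem dd_C (v w : Fin (r+1) → k) (c : k) : dd v w (C c) = 0 := by
  simp [dd]

theorem dd_C_mul (v w : Fin (r+1) → k) (c : k) (G : MvPolynomial (Fin (r+1)) k) :
    dd v w (C c * G) = c * dd v w G := by
  rw [dd_mul, dd_C]; simp

theorem dd_smul (v w : Fin (r+1) → k) (c : k) (G : MvPolynomial (Fin (r+1)) k) :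
    dd v w (c • G) = c * dd v w G := by
  rw [smul_eq_C_mul, dd_C_mul]

theorem dd_pow (v w : Fin (r+1) → k) (G : MvPolynomial (Fin (r+1)) k) (n : ℕ) :
    dd v w (G ^ (n+1)) = ((n : k) + 1) * (aeval v G)^n * dd v w G := by
  induction n with
  | zero => simp
  | succ n ih =>
    rw [pow_succ, dd_mul, ih, map_pow]
    push_cast
    ring

theorem dd_X (v w : Fin (r+1) → k) (i : Fin (r+1)) : dd v w (X i) = w i := by
  classical
  simp only [dd, pderiv_X, map_natCast]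
  rw [Finset.sum_eq_single i]
  · simp
  · intro j _ hj
    simp [Pi.single_eq_of_ne hj.symm]
  · simp

theorem dd_linF (v w : Fin (r+1) → k) (ℓ : (Fin (r+1) → k) →ₗ[k] k) :
    dd v w (linF ℓ) = ℓ w := by
  rw [apply_eq_sum ℓ w, linF]
  have : ∀ (s : Finset (Fin (r+1))), dd v w (∑ i ∈ s, C (ℓ (Pi.single i 1)) * X i) =
      ∑ i ∈ s, ℓ (Pi.single i 1) * w i := by
    intro s
    induction s using Finset.induction_on with
    | empty => simp [dd_zero]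
    | insert a s ha ih =>
      rw [Finset.sum_insert ha, Finset.sum_insert ha, dd_add, ih, dd_C_mul, dd_X]
  exact this _

theorem dd_euler (v : Fin (r+1) → k) (G : MvPolynomial (Fin (r+1)) k) (d : ℕ)
    (hG : G.IsHomogeneous d) : dd v v G = (d : k) * aeval v G := by
  have := congrArg (aeval v) hG.sum_X_mul_pderiv
  rw [map_sum] at this
  simp only [map_mul, aeval_X, nsmul_eq_mul, map_natCast] at this
  exact this

theorem exists_single_add (m : Fin (r+1) →₀ ℕ) (n : ℕ) (h : m.degree = n + 1) :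
    ∃ i m', m = Finsupp.single i 1 + m' ∧ m'.degree = n := by
  have hm : m ≠ 0 := by
    rintro rfl
    simp at h
  obtain ⟨i, hi⟩ : ∃ i, m i ≠ 0 := by
    by_contra hcon
    push Not at hcon
    exact hm (Finsupp.ext hcon)
  have hle : Finsupp.single i 1 ≤ m := by
    rw [Finsupp.single_le_iff]
    omega
  refine ⟨i, m - Finsupp.single i 1, (add_tsub_cancel_of_le hle).symm, ?_⟩
  have h2 : (Finsupp.single i 1 + (m - Finsupp.single i 1)).degree = n + 1 := by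
    rw [add_tsub_cancel_of_le hle]; exact h
  rw [map_add, Finsupp.degree_single] at h2
  omega

theorem dd_symm2 (v w : Fin (r+1) → k) (G : MvPolynomial (Fin (r+1)) k)
    (hG : G.IsHomogeneous 2) : dd v w G = dd w v G := by
  rw [← mem_homogeneousSubmodule, homogeneousSubmodule_eq_finsupp_supported,
    AddMonoidAlgebra.supported_eq_span_single] at hG
  refine Submodule.span_induction ?_ ?_ (fun p q _ _ hp hq ↦ ?_) (fun c p _ h ↦ ?_) hG
  · rintro _ ⟨m, hm, rfl⟩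
    obtain ⟨i, m', rfl, hm'⟩ := exists_single_add m 1 hm
    obtain ⟨j, m'', rfl, hm''⟩ := exists_single_add m' 0 hm'
    rw [Finsupp.degree_eq_zero_iff] at hm''
    subst hm''
    have : (AddMonoidAlgebra.single (Finsupp.single i 1 + (Finsupp.single j 1 + 0)) (1 : k) :
        MvPolynomial (Fin (r+1)) k) = X i * X j := by
      rw [add_zero, single_eq_monomial, X, X, monomial_mul, one_mul]
    beta_reduce
    rw [this, dd_mul, dd_mul, dd_X, dd_X, dd_X, dd_X]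
    simp only [aeval_X]
    ring
  · rw [dd_zero, dd_zero]
  · rw [dd_add, dd_add, hp, hq]
  · rw [dd_smul, dd_smul, h]


theorem dd_add_right (v w w' : Fin (r+1) → k) (G : MvPolynomial (Fin (r+1)) k) :
    dd v (w + w') G = dd v w G + dd v w' G := by
  simp only [dd, Pi.add_apply, add_mul, Finset.sum_add_distrib]

theorem dd_smul_right (v w : Fin (r+1) → k) (c : k) (G : MvPolynomial (Fin (r+1)) k) :
    dd v (c • w) G = c * dd v w G := by
  simp only [dd, Pi.smul_apply, smul_eq_mul, Finset.mul_sum, mul_assoc]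

theorem exists_dual_pair (v₁ v₂ : Fin (r + 1) → k) (hv : LinearIndependent k ![v₁, v₂]) :
    ∃ α : (Fin (r+1) → k) →ₗ[k] k, α v₁ = 1 ∧ α v₂ = 0 := by
  have hnot : v₁ ∉ Submodule.span k {v₂} := by
    intro hmem
    obtain ⟨a, ha⟩ := Submodule.mem_span_singleton.mp hmem
    have := (LinearIndependent.pair_iff.mp hv) 1 (-a) (by rw [one_smul, neg_smul, ha]; simp)
    exact one_ne_zero this.1
  obtain ⟨g, hg, hg1⟩ := LinearMap.exists_extend_of_notMem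
    (0 : ↥(Submodule.span k {v₂}) →ₗ[k] k) hnot 1
  refine ⟨g, hg1, ?_⟩
  have := congrArg (fun f => f ⟨v₂, Submodule.mem_span_singleton_self v₂⟩) hg
  simpa using this

/-- core construction -/
theorem core (d : ℕ) (hd : 2 ≤ d) (v₁ v₂ : Fin (r + 1) → k) (hv : LinearIndependent k ![v₁, v₂])
    (l₁ l₂ : (Fin (r+1) → k) →ₗ[k] k) (a₁ a₂ : k)
    (h1 : l₁ v₁ = (d : k) * a₁) (h2 : l₂ v₂ = (d : k) * a₂) (h3 : d = 2 → l₁ v₂ = l₂ v₁) :
    ∃ G : MvPolynomial (Fin (r+1)) k, G.IsHomogeneous d ∧ aeval v₁ G = a₁ ∧ aeval v₂ G = a₂ ∧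
      (∀ w, dd v₁ w G = l₁ w) ∧ (∀ w, dd v₂ w G = l₂ w) := by
  obtain ⟨α, hα1, hα2⟩ := exists_dual_pair v₁ v₂ hv
  have hv' : LinearIndependent k ![v₂, v₁] := by
    have hv0 := LinearIndependent.pair_iff.mp hv
    refine LinearIndependent.pair_iff.mpr ?_
    intro s t hst
    have := hv0 t s ((add_comm _ _).trans hst)
    exact ⟨this.2, this.1⟩
  obtain ⟨β, hβ2, hβ1⟩ := exists_dual_pair v₂ v₁ hv'
  have hA := linF_hom α
  have hB := linF_hom β
  have hL1 := linF_hom l₁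
  have hL2 := linF_hom l₂
  rcases Nat.lt_or_ge d 3 with hlt | hge
  · have hd2 : d = 2 := by omega
    subst hd2
    have hs := h3 rfl
    refine ⟨linF α * linF l₁ + linF β * linF l₂ - C a₁ * (linF α)^2 - C a₂ * (linF β)^2
      - C (l₁ v₂) * (linF α * linF β), ?_, ?_, ?_, ?_, ?_⟩
    · have e1 : (linF α * linF l₁).IsHomogeneous 2 := hA.mul hL1
      have e2 : (linF β * linF l₂).IsHomogeneous 2 := hB.mul hL2
      have e3 : (C a₁ * (linF α)^2).IsHomogeneous 2 := by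
        have := (isHomogeneous_C (Fin (r+1)) a₁).mul (hA.pow 2)
        simpa using this
      have e4 : (C a₂ * (linF β)^2).IsHomogeneous 2 := by
        have := (isHomogeneous_C (Fin (r+1)) a₂).mul (hB.pow 2)
        simpa using this
      have e5 : (C (l₁ v₂) * (linF α * linF β)).IsHomogeneous 2 := by
        have := (isHomogeneous_C (Fin (r+1)) (l₁ v₂)).mul (hA.mul hB)
        simpa using this
      exact (((e1.add e2).sub e3).sub e4).sub e5
    · simp only [map_add, map_sub, map_mul, map_pow, aeval_linF, aeval_C, hα1, hβ1, h1]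
      push_cast
      simp
      ring
    · simp only [map_add, map_sub, map_mul, map_pow, aeval_linF, aeval_C, hα2, hβ2, h2]
      push_cast
      simp
      ring
    · intro w
      simp only [dd_add, dd_sub, dd_C_mul, dd_mul, dd_linF, aeval_linF, pow_two, hα1, hβ1, h1, ← hs,
        dd_C, aeval_C, Algebra.algebraMap_self, RingHom.id_apply, map_mul, mul_zero]
      ring
    · intro w
      simp only [dd_add, dd_sub, dd_C_mul, dd_mul, dd_linF, aeval_linF, pow_two, hα2, hβ2, h2, hs,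
        dd_C, aeval_C, Algebra.algebraMap_self, RingHom.id_apply, map_mul, mul_zero]
      ring
  · obtain ⟨e, rfl⟩ : ∃ e, d = e + 3 := ⟨d - 3, by omega⟩
    obtain ⟨c₁, hc₁⟩ : ∃ c : k, c = ((e:k)+2) * a₁ := ⟨_, rfl⟩
    obtain ⟨c₂, hc₂⟩ : ∃ c : k, c = ((e:k)+2) * a₂ := ⟨_, rfl⟩
    refine ⟨(linF α)^(e+1+1) * (linF l₁ - C c₁ * linF α)
      + (linF β)^(e+1+1) * (linF l₂ - C c₂ * linF β), ?_, ?_, ?_, ?_, ?_⟩
    · have e1 : (linF l₁ - C c₁ * linF α).IsHomogeneous 1 := by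
        have := (isHomogeneous_C (Fin (r+1)) c₁).mul hA
        rw [zero_add] at this
        exact hL1.sub this
      have e2 : (linF l₂ - C c₂ * linF β).IsHomogeneous 1 := by
        have := (isHomogeneous_C (Fin (r+1)) c₂).mul hB
        rw [zero_add] at this
        exact hL2.sub this
      have e3 := (hA.pow (e+1+1)).mul e1
      have e4 := (hB.pow (e+1+1)).mul e2
      have := e3.add e4
      rw [one_mul] at this
      exact this
    · simp only [map_add, map_sub, map_mul, map_pow, aeval_linF, aeval_C, hα1, hβ1, h1,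
        Algebra.algebraMap_self, RingHom.id_apply]
      rw [hc₁]
      push_cast
      simp
      ring
    · simp only [map_add, map_sub, map_mul, map_pow, aeval_linF, aeval_C, hα2, hβ2, h2,
        Algebra.algebraMap_self, RingHom.id_apply]
      rw [hc₂]
      push_cast
      simp
      ring
    · intro w
      simp only [dd_add, dd_sub, dd_C_mul, dd_mul, dd_pow, dd_linF, aeval_linF, map_sub, map_mul,
        map_pow, aeval_C, hα1, hβ1, h1, Algebra.algebraMap_self, RingHom.id_apply, dd_C, mul_zero]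
      rw [hc₁]
      push_cast
      simp
      ring
    · intro w
      simp only [dd_add, dd_sub, dd_C_mul, dd_mul, dd_pow, dd_linF, aeval_linF, map_sub, map_mul,
        map_pow, aeval_C, hα2, hβ2, h2, Algebra.algebraMap_self, RingHom.id_apply, dd_C, mul_zero]
      rw [hc₂]
      push_cast
      simp
      ring


theorem tangLin_apply (d : ℕ) (W : Submodule k (Fin (r+1) → k)) (v : Fin (r+1) → k)
    (G : LefPen.Form r k d) :
    LefPen.tangLin k W v G = (aeval v G.1, fun w : ↥W => dd v w.1 G.1) := by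
  refine Prod.ext rfl ?_
  funext w
  show (∑ i : Fin (r + 1), (w.1 i) • ((MvPolynomial.aeval v).toLinearMap ∘ₗ
        (MvPolynomial.pderiv i).toLinearMap ∘ₗ (CohB1.polyGrading r k d).subtype)) G = dd v w.1 G.1
  rw [LinearMap.sum_apply]
  rfl

noncomputable def dualMap (d : ℕ) (W : Submodule k (Fin (r+1) → k)) (v : Fin (r+1) → k) :
    LefPen.Form r k d →ₗ[k] (↥W →ₗ[k] k) :=
  LinearMap.mk₂ k (fun G w => dd v w.1 G.1)
    (fun G H w => by simp [dd_add]) (fun c G w => by simp [dd_smul])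
    (fun G w w' => by simp [dd_add_right]) (fun c G w => by simp [dd_smul_right])

theorem dualMap_apply (d : ℕ) (W : Submodule k (Fin (r+1) → k)) (v : Fin (r+1) → k)
    (G : LefPen.Form r k d) (w : ↥W) : dualMap d W v G w = dd v w.1 G.1 := rfl

noncomputable def ev (d : ℕ) (v : Fin (r+1) → k) : LefPen.Form r k d →ₗ[k] k :=
  (MvPolynomial.aeval v).toLinearMap ∘ₗ (CohB1.polyGrading r k d).subtype

theorem ev_apply (d : ℕ) (v : Fin (r+1) → k) (G : LefPen.Form r k d) : ev d v G = aeval v G.1 := rfl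

noncomputable def Smap (d : ℕ) (W₁ : Submodule k (Fin (r+1) → k)) (v₁ : Fin (r+1) → k)
    (W₂ : Submodule k (Fin (r+1) → k)) (v₂ : Fin (r+1) → k) :
    LefPen.Form r k d →ₗ[k] (k × (↥W₁ →ₗ[k] k)) × (k × (↥W₂ →ₗ[k] k)) :=
  LinearMap.prod (LinearMap.prod (ev d v₁) (dualMap d W₁ v₁))
    (LinearMap.prod (ev d v₂) (dualMap d W₂ v₂))

theorem Smap_apply (d : ℕ) (W₁ : Submodule k (Fin (r+1) → k)) (v₁ : Fin (r+1) → k)
    (W₂ : Submodule k (Fin (r+1) → k)) (v₂ : Fin (r+1) → k) (G : LefPen.Form r k d) :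
    Smap d W₁ v₁ W₂ v₂ G = ((aeval v₁ G.1, dualMap d W₁ v₁ G), (aeval v₂ G.1, dualMap d W₂ v₂ G)) := rfl

theorem ker_Smap (d : ℕ) (W₁ : Submodule k (Fin (r+1) → k)) (v₁ : Fin (r+1) → k)
    (W₂ : Submodule k (Fin (r+1) → k)) (v₂ : Fin (r+1) → k) :
    LinearMap.ker (Smap d W₁ v₁ W₂ v₂) = LefPen.tangentForms k d W₁ v₁ W₂ v₂ := by
  ext G
  simp only [LefPen.tangentForms, Submodule.mem_inf, LinearMap.mem_ker, tangLin_apply, Smap_apply,
    Prod.mk_eq_zero, LinearMap.ext_iff, dualMap_apply, LinearMap.zero_apply, funext_iff,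
    Pi.zero_apply]

theorem exists_ext (d : ℕ) (W₁ W₂ : Submodule k (Fin (r+1) → k)) (v₁ v₂ : Fin (r+1) → k)
    (φ₁ : ↥W₁ →ₗ[k] k) (φ₂ : ↥W₂ →ₗ[k] k)
    (hc : 3 ≤ d ∨ ¬ (v₂ ∈ W₁ ∧ v₁ ∈ W₂) ∨
      (∃ (h21 : v₂ ∈ W₁) (h12 : v₁ ∈ W₂), φ₁ ⟨v₂, h21⟩ = φ₂ ⟨v₁, h12⟩)) :
    ∃ l₁ l₂ : (Fin (r+1) → k) →ₗ[k] k, l₁ ∘ₗ W₁.subtype = φ₁ ∧ l₂ ∘ₗ W₂.subtype = φ₂ ∧
      (d = 2 → l₁ v₂ = l₂ v₁) := by
  rcases hc with hc | hc | ⟨h21, h12, hc⟩
  · obtain ⟨l₁, hl₁⟩ := LinearMap.exists_extend φ₁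
    obtain ⟨l₂, hl₂⟩ := LinearMap.exists_extend φ₂
    exact ⟨l₁, l₂, hl₁, hl₂, fun h => by omega⟩
  · by_cases h21 : v₂ ∈ W₁
    · have h12 : v₁ ∉ W₂ := fun h => hc ⟨h21, h⟩
      obtain ⟨l₁, hl₁⟩ := LinearMap.exists_extend φ₁
      obtain ⟨l₂, hl₂, hl₂'⟩ := LinearMap.exists_extend_of_notMem φ₂ h12 (l₁ v₂)
      exact ⟨l₁, l₂, hl₁, hl₂, fun _ => hl₂'.symm⟩
    · obtain ⟨l₂, hl₂⟩ := LinearMap.exists_extend φ₂
      obtain ⟨l₁, hl₁, hl₁'⟩ := LinearMap.exists_extend_of_notMem φ₁ h21 (l₂ v₁)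
      exact ⟨l₁, l₂, hl₁, hl₂, fun _ => hl₁'⟩
  · obtain ⟨l₁, hl₁⟩ := LinearMap.exists_extend φ₁
    obtain ⟨l₂, hl₂⟩ := LinearMap.exists_extend φ₂
    refine ⟨l₁, l₂, hl₁, hl₂, fun _ => ?_⟩
    have e1 : l₁ v₂ = φ₁ ⟨v₂, h21⟩ := by rw [← hl₁]; rfl
    have e2 : l₂ v₁ = φ₂ ⟨v₁, h12⟩ := by rw [← hl₂]; rfl
    rw [e1, e2, hc]

theorem mem_range_Smap (d : ℕ) (hd : 2 ≤ d) (W₁ W₂ : Submodule k (Fin (r+1) → k))
    (v₁ v₂ : Fin (r+1) → k) (h₁ : v₁ ∈ W₁) (h₂ : v₂ ∈ W₂)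
    (hv : LinearIndependent k ![v₁, v₂])
    (p : (k × (↥W₁ →ₗ[k] k)) × (k × (↥W₂ →ₗ[k] k)))
    (hp1 : p.1.2 ⟨v₁, h₁⟩ = (d : k) * p.1.1) (hp2 : p.2.2 ⟨v₂, h₂⟩ = (d : k) * p.2.1)
    (hc : 3 ≤ d ∨ ¬ (v₂ ∈ W₁ ∧ v₁ ∈ W₂) ∨
      (∃ (h21 : v₂ ∈ W₁) (h12 : v₁ ∈ W₂), p.1.2 ⟨v₂, h21⟩ = p.2.2 ⟨v₁, h12⟩)) :
    p ∈ LinearMap.range (Smap d W₁ v₁ W₂ v₂) := by
  obtain ⟨l₁, l₂, hl₁, hl₂, hl⟩ := exists_ext d W₁ W₂ v₁ v₂ p.1.2 p.2.2 hc
  have e1 : l₁ v₁ = (d : k) * p.1.1 := by rw [← hp1, ← hl₁]; rfl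
  have e2 : l₂ v₂ = (d : k) * p.2.1 := by rw [← hp2, ← hl₂]; rfl
  obtain ⟨G, hG, hG1, hG2, hG3, hG4⟩ := core d hd v₁ v₂ hv l₁ l₂ p.1.1 p.2.1 e1 e2 hl
  refine ⟨⟨G, (mem_homogeneousSubmodule d G).mpr hG⟩, ?_⟩
  rw [Smap_apply]
  refine Prod.ext (Prod.ext hG1 ?_) (Prod.ext hG2 ?_)
  · apply LinearMap.ext
    intro w
    rw [dualMap_apply]
    show dd v₁ w.1 G = p.1.2 w
    rw [hG3, ← hl₁]; rfl
  · apply LinearMap.ext
    intro w
    rw [dualMap_apply]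
    show dd v₂ w.1 G = p.2.2 w
    rw [hG4, ← hl₂]; rfl


noncomputable def theta (d : ℕ) (W : Submodule k (Fin (r+1) → k)) (v : ↥W) :
    (k × (↥W →ₗ[k] k)) →ₗ[k] k :=
  (LinearMap.applyₗ v) ∘ₗ LinearMap.snd k k (↥W →ₗ[k] k) - (d : k) • LinearMap.fst k k (↥W →ₗ[k] k)

theorem theta_apply (d : ℕ) (W : Submodule k (Fin (r+1) → k)) (v : ↥W) (p : k × (↥W →ₗ[k] k)) :
    theta d W v p = p.2 v - (d : k) * p.1 := by
  simp [theta]

noncomputable def theta3 (W₁ W₂ : Submodule k (Fin (r+1) → k)) (x : ↥W₁) (y : ↥W₂) :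
    ((k × (↥W₁ →ₗ[k] k)) × (k × (↥W₂ →ₗ[k] k))) →ₗ[k] k :=
  (LinearMap.applyₗ x) ∘ₗ LinearMap.snd k k (↥W₁ →ₗ[k] k) ∘ₗ
      LinearMap.fst k (k × (↥W₁ →ₗ[k] k)) (k × (↥W₂ →ₗ[k] k))
    - (LinearMap.applyₗ y) ∘ₗ LinearMap.snd k k (↥W₂ →ₗ[k] k) ∘ₗ
      LinearMap.snd k (k × (↥W₁ →ₗ[k] k)) (k × (↥W₂ →ₗ[k] k))

theorem theta3_apply (W₁ W₂ : Submodule k (Fin (r+1) → k)) (x : ↥W₁) (y : ↥W₂)
    (p : (k × (↥W₁ →ₗ[k] k)) × (k × (↥W₂ →ₗ[k] k))) :
    theta3 W₁ W₂ x y p = p.1.2 x - p.2.2 y := by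
  simp [theta3]

noncomputable def Theta2 (d : ℕ) (W₁ W₂ : Submodule k (Fin (r+1) → k)) (x : ↥W₁) (y : ↥W₂) :
    ((k × (↥W₁ →ₗ[k] k)) × (k × (↥W₂ →ₗ[k] k))) →ₗ[k] k × k :=
  LinearMap.prodMap (theta d W₁ x) (theta d W₂ y)

theorem Theta2_apply (d : ℕ) (W₁ W₂ : Submodule k (Fin (r+1) → k)) (x : ↥W₁) (y : ↥W₂)
    (p : (k × (↥W₁ →ₗ[k] k)) × (k × (↥W₂ →ₗ[k] k))) :
    Theta2 d W₁ W₂ x y p = (p.1.2 x - (d : k) * p.1.1, p.2.2 y - (d : k) * p.2.1) := by
  simp [Theta2, theta_apply]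

theorem Theta3_apply' (d : ℕ) (W₁ W₂ : Submodule k (Fin (r+1) → k)) (x : ↥W₁) (y : ↥W₂)
    (x' : ↥W₁) (y' : ↥W₂) (p : (k × (↥W₁ →ₗ[k] k)) × (k × (↥W₂ →ₗ[k] k))) :
    (LinearMap.prod (Theta2 d W₁ W₂ x y) (theta3 W₁ W₂ x' y')) p =
      (Theta2 d W₁ W₂ x y p, theta3 W₁ W₂ x' y' p) := rfl

theorem finrank_D (W₁ W₂ : Submodule k (Fin (r+1) → k)) :
    Module.finrank k ((k × (↥W₁ →ₗ[k] k)) × (k × (↥W₂ →ₗ[k] k))) =
      (1 + Module.finrank k ↥W₁) + (1 + Module.finrank k ↥W₂) := by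
  have e1 : Module.finrank k (↥W₁ →ₗ[k] k) = Module.finrank k ↥W₁ := Subspace.dual_finrank_eq
  have e2 : Module.finrank k (↥W₂ →ₗ[k] k) = Module.finrank k ↥W₂ := Subspace.dual_finrank_eq
  rw [Module.finrank_prod, Module.finrank_prod, Module.finrank_prod, Module.finrank_self, e1, e2]

theorem main (d : ℕ) (hd : 2 ≤ d)
    (W₁ W₂ : Submodule k (Fin (r + 1) → k)) (v₁ v₂ : Fin (r + 1) → k) (h₁ : v₁ ∈ W₁) (h₂ : v₂ ∈ W₂)
    (hv : LinearIndependent k ![v₁, v₂]) :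
    ((3 ≤ d ∨ ¬ (v₂ ∈ W₁ ∧ v₁ ∈ W₂)) →
      Module.finrank k (LefPen.Form r k d) =
        Module.finrank k ↥(LefPen.tangentForms k d W₁ v₁ W₂ v₂) + (Module.finrank k ↥W₁ + Module.finrank k ↥W₂)) ∧
    ((d = 2 ∧ v₂ ∈ W₁ ∧ v₁ ∈ W₂) →
      Module.finrank k (LefPen.Form r k d) + 1 =
        Module.finrank k ↥(LefPen.tangentForms k d W₁ v₁ W₂ v₂) + (Module.finrank k ↥W₁ + Module.finrank k ↥W₂)) := by
  classical
  haveI : Module.Finite k (LefPen.Form r k d) :=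
    Module.Finite.iff_fg.mpr (homogeneousSubmodule_fg (Fin (r+1)) k d)
  have hrk := (Smap d W₁ v₁ W₂ v₂).finrank_range_add_finrank_ker
  rw [ker_Smap] at hrk
  have hD := finrank_D (k := k) W₁ W₂
  obtain ⟨α, hα1, hα2⟩ := exists_dual_pair v₁ v₂ hv
  have hv' : LinearIndependent k ![v₂, v₁] := by
    have hv0 := LinearIndependent.pair_iff.mp hv
    refine LinearIndependent.pair_iff.mpr ?_
    intro s t hst
    have := hv0 t s ((add_comm _ _).trans hst)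
    exact ⟨this.2, this.1⟩
  obtain ⟨β, hβ2, hβ1⟩ := exists_dual_pair v₂ v₁ hv'
  have hE1 : ∀ G : LefPen.Form r k d, dd v₁ v₁ G.1 = (d : k) * aeval v₁ G.1 := fun G =>
    dd_euler v₁ G.1 d ((mem_homogeneousSubmodule d _).mp G.2)
  have hE2 : ∀ G : LefPen.Form r k d, dd v₂ v₂ G.1 = (d : k) * aeval v₂ G.1 := fun G =>
    dd_euler v₂ G.1 d ((mem_homogeneousSubmodule d _).mp G.2)
  constructor
  · intro hc
    have hrange : LinearMap.range (Smap d W₁ v₁ W₂ v₂) =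
        LinearMap.ker (Theta2 d W₁ W₂ ⟨v₁, h₁⟩ ⟨v₂, h₂⟩) := by
      apply le_antisymm
      · rintro _ ⟨G, rfl⟩
        rw [LinearMap.mem_ker, Theta2_apply, Smap_apply]
        refine Prod.ext ?_ ?_
        · show dd v₁ v₁ G.1 - (d : k) * aeval v₁ G.1 = 0
          rw [hE1, sub_self]
        · show dd v₂ v₂ G.1 - (d : k) * aeval v₂ G.1 = 0
          rw [hE2, sub_self]
      · intro p hp
        rw [LinearMap.mem_ker, Theta2_apply] at hp
        have hp1 := congrArg Prod.fst hp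
        have hp2 := congrArg Prod.snd hp
        simp only [Prod.fst_zero, Prod.snd_zero, sub_eq_zero] at hp1 hp2
        exact mem_range_Smap d hd W₁ W₂ v₁ v₂ h₁ h₂ hv p hp1 hp2
          (hc.elim Or.inl (fun h => Or.inr (Or.inl h)))
    have hsurj : LinearMap.range (Theta2 d W₁ W₂ ⟨v₁, h₁⟩ ⟨v₂, h₂⟩) = ⊤ := by
      rw [LinearMap.range_eq_top]
      rintro ⟨x, y⟩
      refine ⟨((0, x • (α ∘ₗ W₁.subtype)), (0, y • (β ∘ₗ W₂.subtype))), ?_⟩
      rw [Theta2_apply]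
      simp [hα1, hβ2]
    have h2 := (Theta2 d W₁ W₂ ⟨v₁, h₁⟩ ⟨v₂, h₂⟩).finrank_range_add_finrank_ker
    rw [hsurj, finrank_top, ← hrange, hD, Module.finrank_prod, Module.finrank_self] at h2
    omega
  · rintro ⟨rfl, h21, h12⟩
    have hrange : LinearMap.range (Smap 2 W₁ v₁ W₂ v₂) =
        LinearMap.ker (LinearMap.prod (Theta2 2 W₁ W₂ ⟨v₁, h₁⟩ ⟨v₂, h₂⟩)
          (theta3 W₁ W₂ ⟨v₂, h21⟩ ⟨v₁, h12⟩)) := by
      apply le_antisymm
      · rintro _ ⟨G, rfl⟩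
        rw [LinearMap.mem_ker, Theta3_apply', Theta2_apply, theta3_apply, Smap_apply]
        refine Prod.ext (Prod.ext ?_ ?_) ?_
        · show dd v₁ v₁ G.1 - ((2 : ℕ) : k) * aeval v₁ G.1 = 0
          rw [hE1, sub_self]
        · show dd v₂ v₂ G.1 - ((2 : ℕ) : k) * aeval v₂ G.1 = 0
          rw [hE2, sub_self]
        · show dd v₁ v₂ G.1 - dd v₂ v₁ G.1 = 0
          rw [dd_symm2 v₁ v₂ G.1 ((mem_homogeneousSubmodule 2 _).mp G.2), sub_self]
      · intro p hp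
        rw [LinearMap.mem_ker, Theta3_apply', Theta2_apply, theta3_apply] at hp
        have hp1 := congrArg (fun q => q.1.1) hp
        have hp2 := congrArg (fun q => q.1.2) hp
        have hp3 := congrArg (fun q => q.2) hp
        simp only [Prod.fst_zero, Prod.snd_zero, sub_eq_zero] at hp1 hp2 hp3
        exact mem_range_Smap 2 hd W₁ W₂ v₁ v₂ h₁ h₂ hv p hp1 hp2
          (Or.inr (Or.inr ⟨h21, h12, hp3⟩))
    have hsurj : LinearMap.range (LinearMap.prod (Theta2 2 W₁ W₂ ⟨v₁, h₁⟩ ⟨v₂, h₂⟩)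
          (theta3 W₁ W₂ ⟨v₂, h21⟩ ⟨v₁, h12⟩)) = ⊤ := by
      rw [LinearMap.range_eq_top]
      rintro ⟨⟨x, y⟩, z⟩
      refine ⟨((0, x • (α ∘ₗ W₁.subtype) + z • (β ∘ₗ W₁.subtype)), (0, y • (β ∘ₗ W₂.subtype))), ?_⟩
      rw [Theta3_apply', Theta2_apply, theta3_apply]
      simp [hα1, hβ2, hα2, hβ1]
    have h2 := (LinearMap.prod (Theta2 2 W₁ W₂ ⟨v₁, h₁⟩ ⟨v₂, h₂⟩)
          (theta3 W₁ W₂ ⟨v₂, h21⟩ ⟨v₁, h12⟩)).finrank_range_add_finrank_ker
    rw [hsurj, finrank_top, ← hrange, hD, Module.finrank_prod, Module.finrank_prod,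
      Module.finrank_self] at h2
    omega


end Helpers

/-- Let k be a field (the source works over an algebraically closed field; the count is the same over
any field), d ≥ 2, x₁ = [v₁] and x₂ = [v₂] two distinct points of projective r-space and P(W₁) ∋ x₁,
P(W₂) ∋ x₂ linear subspaces. In the space of degree-d forms, those whose hypersurface passes through
x₁ tangentially to P(W₁) and through x₂ tangentially to P(W₂) form a linear subspace of codimension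
dim P(W₁) + dim P(W₂) + 2 = dim W₁ + dim W₂ when d ≥ 3 or when the line x₁x₂ is not contained in
both P(W₁) and P(W₂), and of codimension dim W₁ + dim W₂ - 1 when d = 2 and the line x₁x₂ lies in
P(W₁) ∩ P(W₂). -/
theorem result (k : Type u) [Field k] (r d : ℕ) (hd : 2 ≤ d)
    (W₁ W₂ : Submodule k (Fin (r + 1) → k)) (v₁ v₂ : Fin (r + 1) → k) (h₁ : v₁ ∈ W₁) (h₂ : v₂ ∈ W₂)
    (hv : LinearIndependent k ![v₁, v₂]) :
    ((3 ≤ d ∨ ¬ (v₂ ∈ W₁ ∧ v₁ ∈ W₂)) →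
      Module.finrank k (LefPen.Form r k d) =
        Module.finrank k ↥(LefPen.tangentForms k d W₁ v₁ W₂ v₂) + (Module.finrank k ↥W₁ + Module.finrank k ↥W₂)) ∧
    ((d = 2 ∧ v₂ ∈ W₁ ∧ v₁ ∈ W₂) →
      Module.finrank k (LefPen.Form r k d) + 1 =
        Module.finrank k ↥(LefPen.tangentForms k d W₁ v₁ W₂ v₂) + (Module.finrank k ↥W₁ + Module.finrank k ↥W₂)) := by

  exact main d hd W₁ W₂ v₁ v₂ h₁ h₂ hv

end Groth.Agent.S4024
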