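import Groth.Statements.S4064
import Mathlib
import Groth.Agent.Lib.Helper17.ExtRealize

set_option autoImplicit false
universe w v v'
open CategoryTheory CategoryTheory.Abelian
open SGA7

namespace Groth.Agent.S4064

/-- Let P -> F -> R and R -> E -> Q be short exact sequences in an abelian category (F an extension of R
by P, E an extension of Q by R). A blended extension of E by F is an object X with a monomorphism i
: F -> X and an epimorphism p : X -> E such that P -> X -> E (via i) and F -> X -> Q (via p) are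
short exact and F -> X -> E is the composite F -> R -> E. Such an X exists if and only if the
composite of the two extension classes, an element of Ext^2(Q, P), is zero. -/
theorem result {C : Type w} [Category.{v} C] [Abelian C]
    [HasExt.{v'} C] {P F R E Q : C} (a : P ⟶ F) (b : F ⟶ R) (wF : a ≫ b = 0)
    (hF : (ShortComplex.mk a b wF).ShortExact) (c : R ⟶ E) (d : E ⟶ Q) (wE : c ≫ d = 0)
    (hE : (ShortComplex.mk c d wE).ShortExact) :
    (∃ (X : C) (i : F ⟶ X) (p : X ⟶ E), i ≫ p = b ≫ c ∧
        (∃ w : (a ≫ i) ≫ p = 0, (ShortComplex.mk (a ≫ i) p w).ShortExact) ∧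
        (∃ w : i ≫ (p ≫ d) = 0, (ShortComplex.mk i (p ≫ d) w).ShortExact)) ↔
      hE.extClass.comp hF.extClass (rfl : 1 + 1 = 2) = 0 := by
  classical
  have hmonoa : Mono a := hF.mono_f
  have hepib : Epi b := hF.epi_g
  have hmonoc : Mono c := hE.mono_f
  have hepid : Epi d := hE.epi_g
  constructor
  · rintro ⟨X, i, p, hip, ⟨w₁, h₁⟩, -⟩
    let ψ : ShortComplex.mk a b wF ⟶ ShortComplex.mk (a ≫ i) p w₁ :=
      { τ₁ := 𝟙 _
        τ₂ := i
        τ₃ := c
        comm₁₂ := by simp
        comm₂₃ := hip }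
    have hnat := ShortComplex.ShortExact.extClass_naturality hF h₁ ψ
    change hF.extClass.comp (Ext.mk₀ (𝟙 P)) (add_zero 1) =
      (Ext.mk₀ c).comp h₁.extClass (zero_add 1) at hnat
    rw [Ext.comp_mk₀_id] at hnat
    rw [hnat]
    exact ShortComplex.ShortExact.extClass_comp_assoc hE h₁.extClass
  · intro hzero
    -- lift the class of F to Ext¹(E, P)
    obtain ⟨x₂, hx₂⟩ := Ext.contravariant_sequence_exact₁ hE P hF.extClass (n₁ := 2) rfl hzero
    change (Ext.mk₀ c).comp x₂ (zero_add 1) = hF.extClass at hx₂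
    obtain ⟨X, u, p, wX, hX, hXx⟩ := Groth.Agent.Lib.Helper17.ExtRealize.exists_extClass x₂
    have hmonou : Mono u := hX.mono_f
    have hepip : Epi p := hX.epi_g
    -- a first lift of b ≫ c
    obtain ⟨y, hy⟩ := Ext.covariant_sequence_exact₃ F hX (Ext.mk₀ (b ≫ c)) (n₁ := 1) rfl (by
      rw [hXx, ← Ext.mk₀_comp_mk₀, Ext.comp_assoc_of_second_deg_zero, hx₂]
      exact hF.comp_extClass)
    obtain ⟨i₀, rfl⟩ := (Ext.mk₀_bijective _ _).2 y
    have hi₀ : i₀ ≫ p = b ≫ c := (Ext.mk₀_bijective _ _).1 (by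
      rw [← hy, Ext.mk₀_comp_mk₀])
    -- the induced endomorphism of P
    have h0 : (a ≫ i₀) ≫ p = 0 := by
      rw [Category.assoc, hi₀, ← Category.assoc, wF, Limits.zero_comp]
    let t : P ⟶ P := hX.exact.lift (a ≫ i₀) h0
    have ht : t ≫ u = a ≫ i₀ := hX.exact.lift_f _ _
    let ψ : ShortComplex.mk a b wF ⟶ ShortComplex.mk u p wX :=
      { τ₁ := t
        τ₂ := i₀
        τ₃ := c
        comm₁₂ := ht
        comm₂₃ := hi₀ }
    have hnat := ShortComplex.ShortExact.extClass_naturality hF hX ψ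
    change hF.extClass.comp (Ext.mk₀ t) (add_zero 1) =
      (Ext.mk₀ c).comp hX.extClass (zero_add 1) at hnat
    rw [hXx, hx₂] at hnat
    -- correct the lift
    obtain ⟨z, hz⟩ := Ext.contravariant_sequence_exact₁ hF P (Ext.mk₀ (𝟙 P - t)) (n₁ := 1) rfl (by
      rw [sub_eq_add_neg, Ext.mk₀_add, Ext.mk₀_neg, Ext.comp_add, Ext.comp_neg, hnat,
        Ext.comp_mk₀_id, add_neg_cancel])
    obtain ⟨s, rfl⟩ := (Ext.mk₀_bijective _ _).2 z
    have hs : a ≫ s = 𝟙 P - t := (Ext.mk₀_bijective _ _).1 (by
      rw [← hz, Ext.mk₀_comp_mk₀])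
    let i : F ⟶ X := i₀ + s ≫ u
    have hip : i ≫ p = b ≫ c := by
      simp only [i, Preadditive.add_comp, Category.assoc, wX, Limits.comp_zero, add_zero, hi₀]
    have hai : a ≫ i = u := by
      simp only [i, Preadditive.comp_add]
      rw [← ht, ← Category.assoc a s u, hs, Preadditive.sub_comp, Category.id_comp]
      abel
    have hmonoi : Mono i := by
      rw [Preadditive.mono_iff_cancel_zero]
      intro T z hz
      have h1 : (z ≫ b) ≫ c = 0 := by
        rw [Category.assoc, ← hip, ← Category.assoc, hz, Limits.zero_comp]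
      have h2 : z ≫ b = 0 := by rwa [← cancel_mono c, Limits.zero_comp]
      have h3 : hF.exact.lift z h2 ≫ a = z := hF.exact.lift_f _ _
      have h4 : hF.exact.lift z h2 ≫ u = 0 := by
        rw [← hai, ← Category.assoc, h3, hz]
      have h5 : hF.exact.lift z h2 = 0 := by rwa [← cancel_mono u, Limits.zero_comp]
      rw [← h3, h5, Limits.zero_comp]
    refine ⟨X, i, p, hip, ⟨by rw [hai]; exact wX, ?_⟩, ⟨by
      rw [← Category.assoc, hip, Category.assoc, wE, Limits.comp_zero], ?_⟩⟩
    · have e : ShortComplex.mk u p wX ≅ ShortComplex.mk (a ≫ i) p (by rw [hai]; exact wX) :=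
        ShortComplex.isoMk (Iso.refl _) (Iso.refl _) (Iso.refl _) (by simp [hai]) (by simp)
      exact ShortComplex.shortExact_of_iso e hX
    · refine
        { exact := ?_
          mono_f := hmonoi
          epi_g := inferInstanceAs (Epi (p ≫ d)) }
      rw [ShortComplex.exact_iff_exact_up_to_refinements]
      intro T (z : T ⟶ X) (hz : z ≫ p ≫ d = 0)
      have hz' : (z ≫ p) ≫ d = 0 := by rw [Category.assoc, hz]
      let r : T ⟶ R := hE.exact.lift (z ≫ p) hz'
      have hr : r ≫ c = z ≫ p := hE.exact.lift_f _ _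
      obtain ⟨T', e, he, r', hr'⟩ := surjective_up_to_refinements_of_epi b r
      have h1 : (e ≫ z - r' ≫ i) ≫ p = 0 := by
        rw [Preadditive.sub_comp, Category.assoc, Category.assoc, hip, ← hr,
          ← Category.assoc r' b c, ← hr', Category.assoc, sub_self]
      let v : T' ⟶ P := hX.exact.lift _ h1
      have hv : v ≫ u = e ≫ z - r' ≫ i := hX.exact.lift_f _ _
      refine ⟨T', e, he, r' + v ≫ a, ?_⟩
      change e ≫ z = (r' + v ≫ a) ≫ i
      rw [Preadditive.add_comp, Category.assoc, hai, hv]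
      abel

end Groth.Agent.S4064
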