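import Groth.Statements.S4086
import Mathlib
import Groth.Agent.Lib.Helper20.HB7

set_option autoImplicit false
universe u
open CategoryTheory MonoidalCategory CartesianMonoidalCategory MonObj GrpObj AlgebraicGeometry CategoryTheory.Limits
open GrpQ

namespace Groth.Agent.S4086



section helpers
open Groth.Agent.Lib.Helper20.HB in
theorem hcov_of_hb {S : Scheme.{u}} (G : Grpd.GroupoidScheme S) [IsFinite G.s] [Flat G.s]
    [LocallyOfFinitePresentation G.s]
    (hb : ∀ x : G.U, ∃ V : G.U.Opens, IsAffineOpen V ∧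
      G.t.base '' (G.s.base ⁻¹' {x}) ⊆ (V : Set G.U)) :
    ∀ x : G.U, ∃ W : AffInv G, x ∈ W.W := by
  intro x
  obtain ⟨V, hV, hsub⟩ := hb x
  obtain ⟨W, hW, hxW, hinv⟩ :=
    Groth.Agent.Lib.Helper20.HA.exists_invariant_affine_open G x V hV
      (fun r hr => hsub ⟨r, hr, rfl⟩)
  exact ⟨⟨⟨W, hinv⟩, hW⟩, hxW⟩
end helpers

/-- Let (U, R, s, t, c) be a groupoid scheme over S with s finite locally free and every set t(s⁻¹(x))
contained in an affine open of U, and assume that j = (t, s) : R → U ×_S U is a monomorphism. Then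
for every coequalizer p : U → Y of (t, s) in schemes, the square formed by t, s, p, p is cartesian
(R ≅ U ×_Y U) and p is finite locally free. (The source adds that Y is then the quotient sheaf for
the fppf topology and that its formation commutes with base change on Y.) -/
theorem result (S : Scheme.{u}) (G : Grpd.GroupoidScheme S)
    (ha : Mor2.IsFinLocFree G.s)
    (hb : ∀ x : G.U, ∃ V : G.U.Opens, IsAffineOpen V ∧ G.t.base '' (G.s.base ⁻¹' {x}) ⊆ (V : Set G.U))
    [Mono G.j] (Y : Scheme.{u}) (p : G.U ⟶ Y) (w : G.t ≫ p = G.s ≫ p) (hc : IsColimit (Cofork.ofπ p w)) :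
    IsPullback G.t G.s p p ∧ Mor2.IsFinLocFree p := by

  obtain ⟨h1, h2, h3⟩ := ha
  haveI := h1
  haveI := h2
  haveI := h3
  have hcov := hcov_of_hb G hb
  have hcol := Groth.Agent.Lib.Helper20.HB.AffInv.isColimit hcov
  let e := hcol.coconePointUniqueUpToIso hc
  have he : Groth.Agent.Lib.Helper20.HB.AffInv.p hcov ≫ e.hom = p :=
    hcol.comp_coconePointUniqueUpToIso_hom hc WalkingParallelPair.one
  have hpb := Groth.Agent.Lib.Helper20.HB.AffInv.isPullback_t_s hcov
  refine ⟨?_, ?_⟩
  · refine hpb.of_iso (Iso.refl _) (Iso.refl _) (Iso.refl _) e ?_ ?_ ?_ ?_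
    · simp
    · simp
    · rw [Iso.refl_hom, Category.id_comp]; exact he
    · rw [Iso.refl_hom, Category.id_comp]; exact he
  · haveI := Groth.Agent.Lib.Helper20.HB.AffInv.isFinite_p hcov
    haveI := Groth.Agent.Lib.Helper20.HB.AffInv.flat_p hcov
    haveI := Groth.Agent.Lib.Helper20.HB.AffInv.lfp_p hcov
    rw [← he]
    exact ⟨inferInstance, inferInstance, inferInstance⟩

end Groth.Agent.S4086
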