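import Groth.Statements.S4087
import Mathlib
import Mathlib
import Groth.Agent.Lib.Helper20.HC5

set_option autoImplicit false
universe u
open CategoryTheory MonoidalCategory CartesianMonoidalCategory MonObj GrpObj AlgebraicGeometry CategoryTheory.Limits
open GrpQ

namespace Groth.Agent.S4087


/-- Let (U, R, s, t, c) be a groupoid scheme over S and u : U' → U an immersion which is a
quasi-section: writing V = R ×_{t, U} U' for the arrows with target in U', the morphism V → U
induced by s is finite locally free and surjective, and every subset of U' whose points are pairwise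
equivalent (any two are the target and the source of one arrow) lies in an affine open of U'. Then
(t, s) has a coequalizer p : U → Y in schemes; p is surjective, open if t is open, universally
closed if t is; R → U ×_Y U is surjective; and if j = (t, s) is a monomorphism, R ≅ U ×_Y U, and p
is flat when t is flat. -/
theorem result (S : Scheme.{u}) (G : Grpd.GroupoidScheme S)
    (U' : Scheme.{u}) (u : U' ⟶ G.U) [IsImmersion u]
    (h1 : Mor2.IsFinLocFree (pullback.fst G.t u ≫ G.s) ∧ Surjective (pullback.fst G.t u ≫ G.s))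
    (h2 : ∀ E : Set U', (∀ x ∈ E, ∀ y ∈ E, ∃ r : G.R, G.t.base r = u.base x ∧ G.s.base r = u.base y) →
      ∃ W : U'.Opens, IsAffineOpen W ∧ E ⊆ (W : Set U')) :
    ∃ (Y : Scheme.{u}) (p : G.U ⟶ Y) (w : G.t ≫ p = G.s ≫ p),
      Nonempty (IsColimit (Cofork.ofπ p w)) ∧ Surjective p ∧
      (IsOpenMap G.t.base → IsOpenMap p.base) ∧ (UniversallyClosed G.t → UniversallyClosed p) ∧
      Function.Surjective (pullback.lift G.t G.s w).base ∧
      (Mono G.j → IsPullback G.t G.s p p ∧ (Flat G.t → Flat p)) := by

  obtain ⟨⟨ha, hb, hc⟩, hd⟩ := h1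
  haveI : Mono u := inferInstance
  haveI : IsFinite (Groth.Agent.Lib.Helper20.HC.v G u) := ha
  haveI : Flat (Groth.Agent.Lib.Helper20.HC.v G u) := hb
  haveI : LocallyOfFinitePresentation (Groth.Agent.Lib.Helper20.HC.v G u) := hc
  haveI : Surjective (Groth.Agent.Lib.Helper20.HC.v G u) := hd
  have hcov := Groth.Agent.Lib.Helper20.HC.hcov_ind G u h2
  refine ⟨Groth.Agent.Lib.Helper20.HC.Y G u, Groth.Agent.Lib.Helper20.HC.p G u hcov,
    Groth.Agent.Lib.Helper20.HC.t_p G u hcov,
    ⟨Groth.Agent.Lib.Helper20.HC.isColimit G u hcov⟩,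
    Groth.Agent.Lib.Helper20.HC.surjective_p G u hcov, ?_, ?_, ?_, ?_⟩
  · intro ht
    exact Groth.Agent.Lib.Helper20.HC.isOpenMap_p G u hcov ht
  · intro ht
    exact Groth.Agent.Lib.Helper20.HC.universallyClosed_p G u hcov
  · exact (Groth.Agent.Lib.Helper20.HC.surjective_L G u hcov).surj
  · intro hm
    haveI := hm
    refine ⟨Groth.Agent.Lib.Helper20.HC.isPullback_t_s G u hcov, ?_⟩
    intro hf
    exact Groth.Agent.Lib.Helper20.HC.flat_p G u hcov

end Groth.Agent.S4087
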