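import Groth.Statements.S4101
import Mathlib
import Groth.Agent.Lib.Helper10.WeilClosed7

set_option autoImplicit false
universe u
open CategoryTheory MonoidalCategory CartesianMonoidalCategory MonObj GrpObj AlgebraicGeometry CategoryTheory.Limits
open SGA3

namespace Groth.Agent.S4101

set_option backward.isDefEq.respectTransparency.types false
set_option maxHeartbeats 4000000
set_option synthInstance.maxHeartbeats 400000

open Groth.Agent.Lib.Helper10.ClosedSubF Groth.Agent.Lib.Helper10.WeilClosed

theorem local_data {S Z Y : Scheme.{u}} (f : Z ⟶ S) (hf : SGA3x.IsEssentiallyFree f) (j : Y ⟶ Z)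
    [IsClosedImmersion j] (s : S) :
    ∃ U : S.Opens, IsAffineOpen U ∧ s ∈ U ∧ SubF.Good (weilSubF f j) U ∧
      (QuasiCompact f → LocallyOfFinitePresentation j →
        ((weilSubF f j).restrict U.ι).RepLFP) := by
  obtain ⟨U, hsU, hU, S', hS', g, hgflat, hgsurj, hcov⟩ := hf s
  haveI : IsAffine U.toScheme := hU
  haveI : QuasiCompact g := inferInstance
  let f' := pullback.snd f (g ≫ U.ι)
  let cz := pullback.fst f (g ≫ U.ι)
  let j' := pullback.snd j cz
  have hZ : IsPullback cz f' f (g ≫ U.ι) := IsPullback.of_hasPullback _ _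
  have hY : IsPullback (pullback.fst j cz) j' j cz := IsPullback.of_hasPullback _ _
  have hcov' : ∀ x : ↥(pullback f (g ≫ U.ι)),
      ∃ V : {V : (pullback f (g ≫ U.ι)).Opens // ProjOpen f' V}, x ∈ V.1 := by
    intro x
    obtain ⟨V, hxV, hV, hproj⟩ := hcov x
    exact ⟨⟨V, hV, hproj⟩, hxV⟩
  have hcongr : ∀ ⦃T : Scheme.{u}⦄ (t : T ⟶ S'), (weilSubF f' j').P t ↔
      (((weilSubF f j).restrict U.ι).restrict g).P t := by
    intro T t
    change _ ↔ (weilSubF f j).P ((t ≫ g) ≫ U.ι)
    rw [Category.assoc]
    exact (weilSubF_iff_of_isPullback f j hZ hY t).symm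
  refine ⟨U, hU, hsU, ?_, ?_⟩
  · have hrep' := repBy_of_isAffine f' j'
      (fun V : {V : (pullback f (g ≫ U.ι)).Opens // ProjOpen f' V} => V.1) (fun V => V.2) hcov'
    exact SubF.exists_repBy_of_qc g ((weilSubF f j).restrict U.ι)
      ((weilSubF_isLocal f j).restrict U.ι) _ (SubF.RepBy.congr hcongr hrep')
  · intro hqc hlfp
    refine SubF.repLFP_of_qc g (SubF.RepLFP.congr hcongr ?_)
    exact repLFP_of_isAffine f' j'
      (fun V : {V : (pullback f (g ≫ U.ι)).Opens // ProjOpen f' V} => V.1) (fun V => V.2) hcov'

/-- Let f : Z → S be essentially free (every point of S has an affine open neighbourhood U and a flat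
surjective morphism S' → U from an affine scheme S' such that Z ×_S S' is covered by affine opens
whose rings of sections are projective Γ(S')-modules) and j : Y → Z a closed immersion. Then there
is a closed immersion t : T → S such that a morphism g : S' → S factors through T exactly when the
closed immersion Y ×_Z Z_{S'} → Z_{S'} deduced from j by base change is an isomorphism; if moreover
Z is quasi-compact over S and j is of finite presentation, then t is of finite presentation. (The
published statement omits the quasi-compactness of Z over S in the last clause; it is stated here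
with it.) -/
theorem result (S Z Y : Scheme.{u}) (f : Z ⟶ S)
    (hf : SGA3x.IsEssentiallyFree f) (j : Y ⟶ Z) [IsClosedImmersion j] :
    ∃ (T : Scheme.{u}) (t : T ⟶ S), IsClosedImmersion t ∧
      (∀ (S' : Scheme.{u}) (g : S' ⟶ S),
        (∃ g' : S' ⟶ T, g' ≫ t = g) ↔ IsIso (pullback.snd j (pullback.fst f g))) ∧
      (QuasiCompact f → LocallyOfFinitePresentation j → LocallyOfFinitePresentation t) := by
  choose U hU hsU hgood hfp using local_data f hf j
  obtain ⟨T, t, ht, hrep⟩ := exists_repBy_of_good (weilSubF f j)
    (fun s => ⟨U s, hU s, hsU s, hgood s⟩) (weilSubF_isZarLocal f j)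
  refine ⟨T, t, ht, fun S' g => ?_, fun hqc hlfp => ?_⟩
  · rw [← hrep g]
    exact weilSubF_iff_isIso f j g
  · exact SubF.repLFP_of_local (fun s => ⟨U s, hsU s, hfp s hqc hlfp⟩) t ht hrep

end Groth.Agent.S4101
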