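import Groth.Statements.S4128
import Groth.Agent.Lib.Helper7.TS8


set_option autoImplicit false
universe u
open TensorProduct
open SGA3

namespace Groth.Agent.S4128

/-- In Hopf-algebra form: let k be an algebraically closed field, A a finitely generated commutative
Hopf algebra over k (an algebraic group E) and ψ : B → A an injective bialgebra map from a
diagonalizable Hopf algebra B (a quotient H = Spec B of E of multiplicative type). Let J be the Hopf
ideal of A generated by the image of the augmentation ideal of B (the kernel U of E → H) and suppose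
U = Spec (A/J) is unipotent (every nonzero finite-dimensional representation has a nonzero fixed
vector, the representation-theoretic form of unipotence). Then the extension 1 → U → E → H → 1 is
trivial: there is a bialgebra map r : A → B with r ∘ ψ = id (a group section H → E). -/
theorem result (k : Type u) [Field k] [IsAlgClosed k]
    (A B : Type u) [CommRing A] [HopfAlgebra k A] [Algebra.FiniteType k A] [CommRing B] [HopfAlgebra k B]
    (hB : SGA3b.IsDiag k B) (ψ : B →ₐc[k] A) (hψ : Function.Injective ψ)
    (J : Ideal A) [J.IsHopfIdeal k] (hJ : J = Ideal.map (ψ : B →+* A) (RingHom.ker (Bialgebra.counitAlgHom k B)))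
    (hU : HopfRep.IsUnipotent k (A ⧸ J)) :
    ∃ r : A →ₐc[k] B, r.comp ψ = BialgHom.id k B := by
  obtain ⟨M, _, ⟨e⟩⟩ := hB
  let es : MonoidAlgebra k M →ₐc[k] B := (e.symm : MonoidAlgebra k M →ₐc[k] B)
  let ψ₀ : MonoidAlgebra k M →ₐc[k] A := ψ.comp es
  have hψ₀ : Function.Injective ψ₀ := hψ.comp e.symm.injective
  have haug : Ideal.map (es : MonoidAlgebra k M →+* B)
      (RingHom.ker (Bialgebra.counitAlgHom k (MonoidAlgebra k M))) =
      RingHom.ker (Bialgebra.counitAlgHom k B) := by
    have h1 : RingHom.ker (Bialgebra.counitAlgHom k (MonoidAlgebra k M)) =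
        Ideal.comap (es : MonoidAlgebra k M →+* B) (RingHom.ker (Bialgebra.counitAlgHom k B)) := by
      ext x
      rw [Ideal.mem_comap, RingHom.mem_ker, RingHom.mem_ker]
      change Coalgebra.counit (R := k) x = 0 ↔ Coalgebra.counit (R := k) (es x) = 0
      rw [CoalgHomClass.counit_comp_apply es x]
    rw [h1]
    exact Ideal.map_comap_of_surjective (es : MonoidAlgebra k M →+* B)
      (fun y => ⟨e y, e.symm_apply_apply y⟩) _
  have hJ₀ : J = Ideal.map (ψ₀ : MonoidAlgebra k M →+* A)
      (RingHom.ker (Bialgebra.counitAlgHom k (MonoidAlgebra k M))) := by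
    rw [hJ, ← haug, Ideal.map_map]
    rfl
  obtain ⟨r, hr⟩ := Groth.Agent.Lib.Helper7.TS.exists_retraction ψ₀ J hψ₀ hJ₀ hU
  refine ⟨es.comp r, ?_⟩
  apply DFunLike.ext
  intro b
  have h1 : ψ b = ψ₀ (e b) := by
    change ψ b = ψ (e.symm (e b))
    rw [e.symm_apply_apply]
  have h2 : r (ψ₀ (e b)) = e b := DFunLike.congr_fun hr (e b)
  change es (r (ψ b)) = b
  rw [h1, h2]
  exact e.symm_apply_apply b

end Groth.Agent.S4128
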