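import Groth.Statements.S4130
import Groth.Agent.Lib.Helper7.UnipQuot2
import Groth.Agent.Lib.Helper7.DiagCocomm
import Groth.Agent.Lib.Helper7.DiagCocommBC
import Groth.Agent.Lib.Helper7.DiagIso
import Groth.Agent.Lib.Helper7.MultMin

set_option autoImplicit false
universe u
open TensorProduct
open SGA3

namespace Groth.Agent.S4130

open Groth.Agent.Lib.Helper7.UnipPart Groth.Agent.Lib.Helper7.UnipQuot
  Groth.Agent.Lib.Helper7.HopfCoinv Groth.Agent.Lib.Helper7.HopfSub
  Groth.Agent.Lib.Helper7.DiagCocomm Groth.Agent.Lib.Helper7.DiagIso
  Groth.Agent.Lib.Helper7.MultMin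

theorem isCocomm_of_surjective {k : Type u} [Field k] {A B : Type u} [CommRing A] [CommRing B]
    [Bialgebra k A] [Bialgebra k B] [Coalgebra.IsCocomm k A] (φ : A →ₐc[k] B)
    (hφ : Function.Surjective φ) : Coalgebra.IsCocomm k B := by
  constructor
  apply LinearMap.ext
  intro b
  obtain ⟨a, rfl⟩ := hφ b
  rw [LinearMap.comp_apply, ← CoalgHomClass.map_comp_comul_apply φ a]
  conv_rhs => rw [← Coalgebra.comm_comul k a]
  generalize Coalgebra.comul (R := k) a = z
  induction z using TensorProduct.induction_on with
  | zero => simp
  | tmul x y => simp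
  | add y z hy hz => simp only [map_add, hy, hz]


/-- Let A be a finitely generated commutative and cocommutative Hopf algebra over a field k (a
commutative affine algebraic group G = Spec A). Then G has a largest subgroup M of multiplicative
type and G/M is unipotent: there is a Hopf ideal J of A (defining M) such that A/J is of
multiplicative type (diagonalizable after a faithfully flat extension of k), J is contained in every
Hopf ideal I with A/I of multiplicative type, and J is the ideal generated by the augmentation ideal
of the image of an injective bialgebra map φ : B → A from a Hopf algebra B (so Spec B = G/M) which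
is unipotent in the fixed-vector sense. -/
theorem result (k : Type u) [Field k]
    (A : Type u) [CommRing A] [HopfAlgebra k A] [Algebra.FiniteType k A] [Coalgebra.IsCocomm k A] :
    ∃ (J : Ideal A) (_ : J.IsHopfIdeal k), SGA3b.IsMultTypeConst k (A ⧸ J) ∧
      (∀ (I : Ideal A) [I.IsHopfIdeal k], SGA3b.IsMultTypeConst k (A ⧸ I) → J ≤ I) ∧
      ∃ (B : Type u) (_ : CommRing B) (_ : HopfAlgebra k B) (φ : B →ₐc[k] A), Function.Injective φ ∧
        J = Ideal.map (φ : B →+* A) (RingHom.ker (Bialgebra.counitAlgHom k B)) ∧ HopfRep.IsUnipotent k B := by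
  have hU := isHopfSub_unipSub (k := k) (A := A)
  haveI hJ : (augSpan (unipSub k A)).IsHopfIdeal k := isHopfIdeal_augSpan hU
  refine ⟨augSpan (unipSub k A), hJ, ?_, ?_, ?_⟩
  · have hprim := primitive_eq_zero_quot (k := k) (augSpan (unipSub k A)) rfl
    haveI : Coalgebra.IsCocomm k (A ⧸ augSpan (unipSub k A)) :=
      isCocomm_of_surjective (Bialgebra.Quotient.mkBialgHom (R := k) (augSpan (unipSub k A)))
        Ideal.Quotient.mk_surjective
    have hdiag : HopfRep.IsDiagonalizable (AlgebraicClosure k)
        (AlgebraicClosure k ⊗[k] (A ⧸ augSpan (unipSub k A))) :=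
      isDiagonalizable_of_isCocomm (primitive_baseChange_eq_zero hprim)
    exact ⟨AlgebraicClosure k, inferInstance, inferInstance, inferInstance,
      isDiag_of_isDiagonalizable hdiag⟩
  · intro I _ hI
    exact augSpan_unipSub_le I hI
  · letI := hopfAlgebra hU
    exact ⟨↥(unipSub k A), inferInstance, inferInstance, valBialgHom hU, Subtype.val_injective,
      augSpan_eq_map hU, isUnipotent_unipSub⟩

end Groth.Agent.S4130
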