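import Groth.Statements.S4183
import Groth.Agent.Lib.Helper21.AnPts
-- import your own Groth.Agent.* helpers here

set_option autoImplicit false
open CategoryTheory AlgebraicGeometry Topology TopologicalSpace
open An

namespace Groth.Agent.S4183

/-- For affine n-space over ℂ, the map sending a ℂ-point to the values of the n coordinate functions is
a homeomorphism from its space of ℂ-points, with the complex topology of this problem, onto ℂ^n with
its usual topology. -/
theorem result (n : ℕ) :
    IsHomeomorph (fun (x : An.Pts (𝔸(Fin n; An.SC))) (i : Fin n) => x.evTop (AffineSpace.coord An.SC i)) := by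
  classical
  set X := 𝔸(Fin n; An.SC) with hX
  -- the coordinate functions generate
  have hbij : Function.Bijective (MvPolynomial.eval₂Hom (An.strHom X) (AffineSpace.coord An.SC)) := by
    have h1 := AffineSpace.SpecIso_hom_appTop (n := Fin n) (CommRingCat.of ℂ)
    have hiso : IsIso ((AffineSpace.SpecIso (Fin n) (CommRingCat.of ℂ)).hom.appTop) := by
      have : IsIso (Scheme.Γ.map ((AffineSpace.SpecIso (Fin n) (CommRingCat.of ℂ)).hom).op) :=
        inferInstance
      exact this
    rw [h1] at hiso
    have hiso2 : IsIso (CommRingCat.ofHom (MvPolynomial.eval₂Hom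
        ((Scheme.ΓSpecIso (CommRingCat.of ℂ)).inv ≫
          (𝔸(Fin n; Spec (CommRingCat.of ℂ)) ↘ Spec (CommRingCat.of ℂ)).appTop).hom
        (AffineSpace.coord (Spec (CommRingCat.of ℂ))))) :=
      IsIso.of_isIso_comp_left (Scheme.ΓSpecIso _).hom _
    have := (ConcreteCategory.isIso_iff_bijective _).mp hiso2
    exact this
  have hce := Groth.Agent.Lib.Helper21.AnPts.isClosedEmbedding_coordMap
    (X := X) (AffineSpace.coord An.SC) hbij.2
  have hrange := Groth.Agent.Lib.Helper21.AnPts.range_coordMap (X := X) (AffineSpace.coord An.SC) hbij.2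
  have hsurj : Function.Surjective (Groth.Agent.Lib.Helper21.AnPts.coordMap (X := X) (AffineSpace.coord An.SC)) := by
    rw [← Set.range_eq_univ, hrange]
    ext z
    simp only [Set.mem_ofPred_eq, Set.mem_univ, iff_true]
    intro p hp
    have : p = 0 := hbij.1 (by rw [hp, map_zero])
    rw [this, map_zero]
  exact isHomeomorph_iff_isEmbedding_surjective.mpr ⟨hce.isEmbedding, hsurj⟩

end Groth.Agent.S4183
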