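import Groth.Statements.S4195
import Groth.Agent.Lib.Helper10.AnPtsJacobson
import Groth.Agent.Lib.Helper10.AnPtsPullback
import Groth.Agent.Lib.Helper21.AnDensityCor

set_option autoImplicit false
open CategoryTheory AlgebraicGeometry Topology TopologicalSpace
open An

namespace Groth.Agent.S4195

instance diagonal_isOver (X Y : Scheme.{0}) [X.Over An.SC] [Y.Over An.SC] (f : X ⟶ Y)
    [f.IsOver An.SC] : (Limits.pullback.diagonal f).IsOver An.SC := by
  constructor
  change Limits.pullback.diagonal f ≫ (Limits.pullback.fst f f ≫ (X ↘ SC)) = _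
  rw [← Category.assoc, Limits.pullback.diagonal_fst, Category.id_comp]

open Groth.Agent.Lib.Helper10.AnPts in
/-- A morphism of schemes locally of finite type over `ℂ` is separated iff the image of the
diagonal on `ℂ`-points is closed. -/
lemma isSeparated_iff_isClosed_range_map_diagonal (X Y : Scheme.{0}) [X.Over An.SC]
    [LocallyOfFiniteType (X ↘ An.SC)]
    [Y.Over An.SC] [LocallyOfFiniteType (Y ↘ An.SC)] (f : X ⟶ Y) [f.IsOver An.SC] :
    IsSeparated f ↔ IsClosed (Set.range (An.Pts.map (Limits.pullback.diagonal f))) := by
  have hlft : LocallyOfFiniteType f := locallyOfFiniteType_of_isOver f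
  have hP : IsLocallyNoetherian (Limits.pullback f f) :=
    isLocallyNoetherian_of_lft (Y := Limits.pullback f f)
  have hΔ : IsLocallyClosed (Set.range (Limits.pullback.diagonal f)) :=
    (Limits.pullback.diagonal f).isLocallyClosed_range
  have hT : IsLocallyConstructible (Set.range (Limits.pullback.diagonal f))ᶜ := by
    obtain ⟨U, C, hU, hC, hUC⟩ := hΔ
    rw [hUC]
    refine Groth.Agent.Lib.Helper21.AnPts.isLocallyConstructible_compl ?_
    refine IsLocallyConstructible.inter ?_ ?_
    · have := Groth.Agent.Lib.Helper21.AnPts.isLocallyConstructible_of_isClosed _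
        hU.isClosed_compl
      have := Groth.Agent.Lib.Helper21.AnPts.isLocallyConstructible_compl this
      rwa [compl_compl] at this
    · exact Groth.Agent.Lib.Helper21.AnPts.isLocallyConstructible_of_isClosed _ hC
  rw [isSeparated_iff, IsClosedImmersion.iff_isPreimmersion]
  rw [range_map_eq (Limits.pullback.diagonal f), ← isOpen_compl_iff (s := Pts.pt ⁻¹' _),
    ← Set.preimage_compl,
    ← Groth.Agent.Lib.Helper21.AnPts.isOpen_iff_preimage _ hT, isOpen_compl_iff]
  exact ⟨fun h => h.2, fun h => ⟨inferInstance, h⟩⟩

/-- A morphism f : X → Y of schemes locally of finite type over ℂ is separated if and only if the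
induced map X(ℂ) → Y(ℂ) is separated, i.e. distinct ℂ-points of X with the same image have disjoint
neighbourhoods (the diagonal of X(ℂ) over Y(ℂ) is closed). -/
theorem result (X Y : Scheme.{0}) [X.Over An.SC] [LocallyOfFiniteType (X ↘ An.SC)]
    [Y.Over An.SC] [LocallyOfFiniteType (Y ↘ An.SC)] (f : X ⟶ Y) [f.IsOver An.SC] :
    IsSeparated f ↔ IsSeparatedMap (An.Pts.map f) := by
  rw [isSeparated_iff_isClosed_range_map_diagonal, isSeparatedMap_iff_isClosed_diagonal]
  have hlft : LocallyOfFiniteType f := Groth.Agent.Lib.Helper10.AnPts.locallyOfFiniteType_of_isOver f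
  have hh := Groth.Agent.Lib.Helper10.AnPts.isHomeomorph_pullback f f
  set φ : An.Pts (Limits.pullback f f) → Function.Pullback (An.Pts.map f) (An.Pts.map f) :=
    fun z => ⟨(An.Pts.map (Limits.pullback.fst f f) z, An.Pts.map (Limits.pullback.snd f f) z),
        An.Pts.map_pullback_condition f f z⟩ with hφ
  have hpre : Set.range (An.Pts.map (Limits.pullback.diagonal f)) =
      φ ⁻¹' (Function.pullbackDiagonal (An.Pts.map f)) := by
    ext z
    constructor
    · rintro ⟨x, rfl⟩
      change An.Pts.map (Limits.pullback.fst f f) (An.Pts.map (Limits.pullback.diagonal f) x) =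
        An.Pts.map (Limits.pullback.snd f f) (An.Pts.map (Limits.pullback.diagonal f) x)
      rw [← An.Pts.map_comp, ← An.Pts.map_comp]
      simp
    · intro hz
      have hz' : An.Pts.map (Limits.pullback.fst f f) z =
          An.Pts.map (Limits.pullback.snd f f) z := hz
      refine ⟨An.Pts.map (Limits.pullback.fst f f) z, ?_⟩
      apply hh.injective
      apply Subtype.ext
      refine Prod.ext ?_ ?_
      · apply Subtype.ext
        change (z.1 ≫ Limits.pullback.fst f f) ≫ Limits.pullback.diagonal f ≫
          Limits.pullback.fst f f = z.1 ≫ Limits.pullback.fst f f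
        rw [Limits.pullback.diagonal_fst, Category.comp_id]
      · apply Subtype.ext
        change (z.1 ≫ Limits.pullback.fst f f) ≫ Limits.pullback.diagonal f ≫
          Limits.pullback.snd f f = z.1 ≫ Limits.pullback.snd f f
        rw [Limits.pullback.diagonal_snd, Category.comp_id]
        exact congrArg Subtype.val hz'
  rw [hpre]
  exact (hh.homeomorph.isClosed_preimage (s := Function.pullbackDiagonal (An.Pts.map f)))

end Groth.Agent.S4195
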