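import Groth.Statements.S4204
import Groth.Agent.S4195

set_option autoImplicit false
open CategoryTheory AlgebraicGeometry Topology TopologicalSpace
open An

namespace Groth.Agent.S4204

/-- Let X be a scheme locally of finite type over ℂ. Then X is separated over ℂ if and only if X(ℂ) with
the complex topology is Hausdorff. -/
theorem result (X : Scheme.{0}) [X.Over An.SC] [LocallyOfFiniteType (X ↘ An.SC)] :
    IsSeparated (X ↘ An.SC) ↔ T2Space (An.Pts X) := by
  let iSC : An.SC.Over An.SC := ⟨𝟙 _⟩
  have hid : (An.SC ↘ An.SC) = 𝟙 _ := rfl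
  have : LocallyOfFiniteType (An.SC ↘ An.SC) := by rw [hid]; infer_instance
  have : (X ↘ An.SC).IsOver An.SC := ⟨by rw [hid, Category.comp_id]⟩
  have h := Groth.Agent.S4195.result X An.SC (X ↘ An.SC)
  rw [h]
  have hsub : Subsingleton (An.Pts An.SC) := by
    constructor
    intro a b
    apply Subtype.ext
    have ha : a.1 ≫ 𝟙 _ = 𝟙 _ := a.2
    have hb : b.1 ≫ 𝟙 _ = 𝟙 _ := b.2
    rw [Category.comp_id] at ha hb
    rw [ha, hb]
  have y : An.Pts An.SC := ⟨𝟙 _, Category.comp_id _⟩
  rw [t2space_iff_isSeparatedMap (X := An.Pts X) y]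
  have : An.Pts.map (X ↘ An.SC) = fun _ => y := by
    funext x
    exact Subsingleton.elim _ _
  rw [this]

end Groth.Agent.S4204
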