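import Groth.Statements.S4243
-- import your own Groth.Agent.* helpers here
import Mathlib

set_option autoImplicit false
open SGA4h

namespace Groth.Agent.S4243

/-- Let k be a finite field with q elements and P a nonzero homogeneous polynomial of degree d in r+1
variables over k. If P vanishes at every point of k^{r+1} (that is, the hypersurface P = 0 in
projective r-space passes through every rational point), then d ≥ q + 1. -/
theorem result (k : Type) [Field k] [Fintype k] (r d : ℕ)
    (P : MvPolynomial (Fin (r + 1)) k) (hP : P.IsHomogeneous d) (hP0 : P ≠ 0)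
    (hvan : ∀ x : Fin (r + 1) → k, MvPolynomial.eval x P = 0) :
    Fintype.card k + 1 ≤ d := by
  classical
  by_contra hlt
  push Not at hlt
  have hdq : d ≤ Fintype.card k := Nat.lt_succ_iff.mp hlt
  set q := Fintype.card k with hq
  have hq2 : 2 ≤ q := Fintype.one_lt_card
  -- the exponent-folding map
  let f : (Fin (r + 1) →₀ ℕ) → (Fin (r + 1) →₀ ℕ) := fun s =>
    if h : ∃ i, s = Finsupp.single i q then Finsupp.single h.choose 1 else s
  have hf_spec : ∀ i, f (Finsupp.single i q) = Finsupp.single i 1 := by
    intro i
    have h : ∃ j, Finsupp.single i q = Finsupp.single j q := ⟨i, rfl⟩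
    have hc := h.choose_spec
    have hi : h.choose = i := by
      by_contra hne
      have := DFunLike.congr_fun hc i
      rw [Finsupp.single_eq_same, Finsupp.single_eq_of_ne (Ne.symm hne)] at this
      omega
    simp only [f, dif_pos h, hi]
  have hf_else : ∀ s, (¬ ∃ i, s = Finsupp.single i q) → f s = s := by
    intro s hs
    simp only [f, dif_neg hs]
  have hdeg : ∀ s ∈ P.support, ∑ i, s i = d := by
    intro s hs
    have := hP (MvPolynomial.mem_support_iff.mp hs)
    rw [← this, Finsupp.weight_apply, Finsupp.sum_fintype]
    · simp
    · intro i; simp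
  -- entries of `f s` are `< q`
  have hf_lt : ∀ s ∈ P.support, ∀ i, f s i < q := by
    intro s hs i
    by_cases h : ∃ j, s = Finsupp.single j q
    · obtain ⟨j, rfl⟩ := h
      rw [hf_spec j]
      by_cases hij : j = i
      · subst hij; rw [Finsupp.single_eq_same]; omega
      · rw [Finsupp.single_eq_of_ne (Ne.symm hij)]; omega
    · rw [hf_else s h]
      by_contra hge
      push Not at hge
      apply h
      refine ⟨i, ?_⟩
      have hsum := hdeg s hs
      have hle : s i ≤ ∑ j, s j := Finset.single_le_sum (f := fun j => s j)
        (fun j _ => Nat.zero_le _) (Finset.mem_univ i)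
      have hsi : s i = q := by omega
      ext j
      by_cases hij : i = j
      · subst hij; rw [Finsupp.single_eq_same, hsi]
      · rw [Finsupp.single_eq_of_ne (Ne.symm hij)]
        have h2 : s i + s j ≤ ∑ l, s l := by
          have := Finset.add_le_sum (f := fun l => s l) (s := Finset.univ)
            (fun l _ => Nat.zero_le _) (Finset.mem_univ i) (Finset.mem_univ j) hij
          exact this
        omega
  -- injectivity on the support
  have hf_inj : ∀ s ∈ P.support, ∀ t ∈ P.support, f s = f t → s = t := by
    intro s hs t ht hst
    by_cases h1 : ∃ j, s = Finsupp.single j q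
    · obtain ⟨j, rfl⟩ := h1
      have hdq' : d = q := by
        have := hdeg _ hs
        rw [← this, Finset.sum_eq_single j]
        · rw [Finsupp.single_eq_same]
        · intro l _ hl; rw [Finsupp.single_eq_of_ne hl]
        · intro h; exact absurd (Finset.mem_univ j) h
      by_cases h2 : ∃ l, t = Finsupp.single l q
      · obtain ⟨l, rfl⟩ := h2
        rw [hf_spec, hf_spec] at hst
        have : j = l := by
          by_contra hne
          have := DFunLike.congr_fun hst j
          rw [Finsupp.single_eq_same, Finsupp.single_eq_of_ne hne] at this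
          omega
        rw [this]
      · rw [hf_spec, hf_else t h2] at hst
        exfalso
        have := hdeg t ht
        rw [← hst, Finset.sum_eq_single j] at this
        · rw [Finsupp.single_eq_same] at this; omega
        · intro l _ hl; rw [Finsupp.single_eq_of_ne hl]
        · intro h; exact absurd (Finset.mem_univ j) h
    · by_cases h2 : ∃ l, t = Finsupp.single l q
      · obtain ⟨l, rfl⟩ := h2
        have hdq' : d = q := by
          have := hdeg _ ht
          rw [← this, Finset.sum_eq_single l]
          · rw [Finsupp.single_eq_same]
          · intro j _ hj; rw [Finsupp.single_eq_of_ne hj]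
          · intro h; exact absurd (Finset.mem_univ l) h
        rw [hf_spec, hf_else s h1] at hst
        exfalso
        have := hdeg s hs
        rw [hst, Finset.sum_eq_single l] at this
        · rw [Finsupp.single_eq_same] at this; omega
        · intro j _ hj; rw [Finsupp.single_eq_of_ne hj]
        · intro h; exact absurd (Finset.mem_univ l) h
      · rw [hf_else s h1, hf_else t h2] at hst
        exact hst
  -- the folded polynomial
  set P' : MvPolynomial (Fin (r + 1)) k :=
    ∑ s ∈ P.support, MvPolynomial.monomial (f s) (P.coeff s) with hP'
  have hsupp : ∀ t ∈ P'.support, ∃ s ∈ P.support, f s = t := by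
    intro t ht
    rw [MvPolynomial.mem_support_iff, hP', MvPolynomial.coeff_sum] at ht
    obtain ⟨s, hs, hne⟩ := Finset.exists_ne_zero_of_sum_ne_zero ht
    rw [MvPolynomial.coeff_monomial] at hne
    refine ⟨s, hs, ?_⟩
    by_contra h
    rw [if_neg h] at hne
    exact hne rfl
  have hP'0 : P' = 0 := by
    refine MvPolynomial.eq_zero_of_eval_zero_at_prod_finset P' (fun _ => Finset.univ) ?_ ?_
    · intro i
      rw [Finset.card_univ, MvPolynomial.degreeOf_lt_iff (by omega)]
      intro t ht
      obtain ⟨s, hs, rfl⟩ := hsupp t ht
      exact hf_lt s hs i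
    · intro x _
      rw [← hvan x, hP', map_sum, MvPolynomial.eval_eq' x P]
      refine Finset.sum_congr rfl (fun s hs => ?_)
      rw [MvPolynomial.eval_monomial]
      congr 1
      by_cases h : ∃ j, s = Finsupp.single j q
      · obtain ⟨j, rfl⟩ := h
        rw [hf_spec j, Finsupp.prod_single_index (by rw [pow_zero]), pow_one,
          Finset.prod_eq_single j]
        · rw [Finsupp.single_eq_same, hq, FiniteField.pow_card]
        · intro l _ hl; rw [Finsupp.single_eq_of_ne hl, pow_zero]
        · intro h; exact absurd (Finset.mem_univ j) h
      · rw [hf_else s h, Finsupp.prod_fintype]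
        intro i; rw [pow_zero]
  obtain ⟨s₀, hs₀⟩ : ∃ s₀, s₀ ∈ P.support := by
    by_contra hcon
    push Not at hcon
    exact hP0 (MvPolynomial.support_eq_empty.mp (Finset.eq_empty_of_forall_notMem hcon))
  have hcoef : MvPolynomial.coeff (f s₀) P' = P.coeff s₀ := by
    rw [hP', MvPolynomial.coeff_sum, Finset.sum_eq_single s₀]
    · rw [MvPolynomial.coeff_monomial, if_pos rfl]
    · intro t ht hne
      rw [MvPolynomial.coeff_monomial, if_neg]
      intro heq
      exact hne (hf_inj t ht s₀ hs₀ heq)
    · intro h; exact absurd hs₀ h
  rw [hP'0, MvPolynomial.coeff_zero] at hcoef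
  exact (MvPolynomial.mem_support_iff.mp hs₀) hcoef.symm

end Groth.Agent.S4243
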