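import Groth.Statements.S4256
-- import your own Groth.Agent.* helpers here

set_option autoImplicit false
open scoped BigOperators
open SGA4h

namespace Groth.Agent.S4256

/-- Let k be a finite field, ψ a nontrivial additive character of k with values in a domain R, and n ≥
1. Then the generalised Kloosterman sum with parameter 0, Σ ψ(x_1 + ⋯ + x_n) over all (x_1, …, x_n)
∈ k^n with x_1 ⋯ x_n = 0, equals (-1)^{n-1}. -/
theorem result (k : Type) [Field k] [Fintype k] [DecidableEq k] (R : Type) [CommRing R] [IsDomain R]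
    (ψ : AddChar k R) (hψ : ψ ≠ 1) (n : ℕ) (hn : 1 ≤ n) :
    ∑ x ∈ (Finset.univ : Finset (Fin n → k)).filter (fun x => ∏ i, x i = 0), ψ (∑ i, x i) = (-1) ^ (n - 1) := by
  have h0 : ∑ a, ψ a = 0 := AddChar.sum_eq_zero_of_ne_one hψ
  have h1 : ∑ a ∈ (Finset.univ : Finset k).filter (fun a => a ≠ 0), ψ a = -1 := by
    have := Finset.sum_filter_add_sum_filter_not (Finset.univ : Finset k) (fun a => a ≠ 0) (fun a => ψ a)
    rw [h0] at this
    have h2 : ∑ a ∈ (Finset.univ : Finset k).filter (fun a => ¬ a ≠ 0), ψ a = 1 := by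
      have : (Finset.univ : Finset k).filter (fun a => ¬ a ≠ 0) = {0} := by
        ext a; simp
      rw [this]; simp
    rw [h2] at this
    exact eq_neg_of_add_eq_zero_left this
  have hmul' : ∀ (s : Finset (Fin n)) (x : Fin n → k),
      ψ (∑ i ∈ s, x i) = ∏ i ∈ s, ψ (x i) := by
    intro s x
    induction s using Finset.induction_on with
    | empty => simp
    | insert a s ha ih =>
      rw [Finset.sum_insert ha, Finset.prod_insert ha, AddChar.map_add_eq_mul, ih]
  have hmul : ∀ x : Fin n → k, ψ (∑ i, x i) = ∏ i, ψ (x i) := fun x => hmul' Finset.univ x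
  have hT : ∑ x : Fin n → k, ψ (∑ i, x i) = 0 := by
    simp_rw [hmul]
    have := Finset.prod_univ_sum (fun _ : Fin n => (Finset.univ : Finset k)) (fun _ a => ψ a)
    rw [Fintype.piFinset_univ] at this
    rw [← this]
    simp [h0, Finset.prod_const, (Nat.pos_iff_ne_zero.mp hn)]
  have hT' : ∑ x ∈ (Finset.univ : Finset (Fin n → k)).filter (fun x => ¬ ∏ i, x i = 0),
      ψ (∑ i, x i) = (-1) ^ n := by
    simp_rw [hmul]
    have := Finset.prod_univ_sum
      (fun _ : Fin n => (Finset.univ : Finset k).filter (fun a => a ≠ 0)) (fun _ a => ψ a)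
    have hset : (Finset.univ : Finset (Fin n → k)).filter (fun x => ¬ ∏ i, x i = 0) =
        Fintype.piFinset (fun _ : Fin n => (Finset.univ : Finset k).filter (fun a => a ≠ 0)) := by
      ext x
      simp [Finset.prod_eq_zero_iff]
    rw [hset, ← this]
    simp [h1]
  have := Finset.sum_filter_add_sum_filter_not (Finset.univ : Finset (Fin n → k))
    (fun x => ∏ i, x i = 0) (fun x => ψ (∑ i, x i))
  rw [hT, hT'] at this
  rw [eq_neg_of_add_eq_zero_left this]
  obtain ⟨m, rfl⟩ : ∃ m, n = m + 1 := ⟨n - 1, by omega⟩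
  simp [pow_succ]

end Groth.Agent.S4256
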