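import Groth.Statements.S4269
-- import your own Groth.Agent.* helpers here
import Groth.Agent.Lib.Helper29.Dual4

set_option autoImplicit false
universe u
open CategoryTheory CategoryTheory.Limits AlgebraicGeometry
attribute [local instance] HasDerivedCategory.standard
open KSix

namespace Groth.Agent.S4269

/-- Let X be a quasi-compact quasi-separated scheme and (L_i) an ample family of invertible O_X-modules
(the affine opens X_s, for s a global section of some L_i^{⊗ n}, n ≥ 1, cover X). Then every
quasi-coherent O_X-module of finite type F receives an epimorphism from a finite direct sum of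
modules of the form L_i^{⊗ -n} with n > 0. (The printed statement uses a single exponent n_i for
each member L_i; the form here, allowing several powers of the same member, is slightly weaker.) -/
theorem result (X : Scheme.{u}) {ι : Type u} (L : ι → X.Modules)
    (hL : KSix.IsAmpleFamily L) (F : X.Modules) (hF : Coh.IsQCoh F) (hF' : CohB1.IsFT F) :
    ∃ (M : X.Modules) (π : M ⟶ F), KSix.InAddL L M ∧ Epi π := by
  obtain ⟨hc, hqs, hinv, hcov⟩ := hL
  have : F.IsQuasicoherent := hF
  have : F.IsFiniteType := hF'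
  obtain ⟨k, B, N, E, π, hπ, hE⟩ :=
    Groth.Agent.Lib.Helper29.QCoh.Dual.exists_epi_of_affine_genLocus_cover
      (fun B => ∃ (i : ι) (n : ℕ), B = CohB1.tensorPow (L i) (n + 1))
      (by
        rintro B ⟨i, n, rfl⟩
        exact Groth.Agent.Lib.Helper29.QCoh.isInvertible_tensorPow (hinv i) _)
      (fun x => by
        obtain ⟨i, n, s, hx, ha⟩ := hcov x
        exact ⟨_, ⟨i, n, rfl⟩, s, hx, ha⟩) F
  refine ⟨⨁ E, (biproduct.isoCoproduct E).hom ≫ π, ⟨k, E, fun j => ?_, ⟨Iso.refl _⟩⟩,
    epi_comp _ _⟩
  obtain ⟨⟨i, n, hB⟩, hN, -, ⟨ε⟩⟩ := hE j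
  refine ⟨i, (n + 1) * N j, Nat.mul_pos (Nat.succ_pos _) hN, ⟨?_⟩⟩
  rw [hB] at ε
  exact Groth.Agent.Lib.Helper29.QCoh.tensorCongr (Iso.refl (E j))
    (Groth.Agent.Lib.Helper29.QCoh.tensorPowMul (L i) (n + 1) (N j)).symm ≪≫ ε

end Groth.Agent.S4269
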