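import Groth.Statements.S4337
import Groth.Agent.S2276
import Mathlib.LinearAlgebra.TensorProduct.Quotient
import Mathlib.RingTheory.Nakayama
import Mathlib.LinearAlgebra.TensorProduct.RightExactness

set_option autoImplicit false
universe u
open LinTop

namespace Groth.Agent.S4337

/-- Let A be an admissible ring, J an ideal of definition, and u : M -> N a homomorphism of A-modules
with N of finite type. Then u is surjective if and only if u tensored with A/J is surjective. -/
theorem result
    (A : Type u) [CommRing A] [UniformSpace A] [IsUniformAddGroup A] [IsTopologicalRing A]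
    (hA : LinTop.IsAdmissible A) (J : Ideal A) (hJ : LinTop.IsIdealOfDefinition A J)
    (M N : Type u) [AddCommGroup M] [Module A M] [AddCommGroup N] [Module A N] [Module.Finite A N]
    (u : M →ₗ[A] N) :
    Function.Surjective u ↔ Function.Surjective (u.rTensor (A ⧸ J)) := by
  constructor
  · intro h
    exact LinearMap.rTensor_surjective (A ⧸ J) h
  · intro h
    have hjac : J ≤ (⊥ : Ideal A).jacobson := (Groth.Agent.S2276.result A hA J hJ).2
    have key : ∀ t : TensorProduct A M (A ⧸ J), ∃ m : M,
        TensorProduct.tensorQuotEquivQuotSMul N J ((u.rTensor (A ⧸ J)) t) =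
          Submodule.Quotient.mk (u m) := by
      intro t
      induction t using TensorProduct.induction_on with
      | zero => exact ⟨0, by simp⟩
      | tmul m a =>
        obtain ⟨a, rfl⟩ := Ideal.Quotient.mk_surjective a
        refine ⟨a • m, ?_⟩
        rw [LinearMap.rTensor_tmul, TensorProduct.tensorQuotEquivQuotSMul_tmul_mk, map_smul]
      | add x y hx hy =>
        obtain ⟨m₁, h₁⟩ := hx
        obtain ⟨m₂, h₂⟩ := hy
        refine ⟨m₁ + m₂, ?_⟩
        rw [map_add, map_add, h₁, h₂, map_add, Submodule.Quotient.mk_add]
    have htop : (⊤ : Submodule A N) ≤ LinearMap.range u :=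
      Submodule.le_of_le_smul_of_le_jacobson_bot (Module.Finite.fg_top) hjac (by
        intro n _
        obtain ⟨t, ht⟩ := h (n ⊗ₜ[A] (1 : A ⧸ J))
        obtain ⟨m, hm⟩ := key t
        rw [ht] at hm
        have h1 : TensorProduct.tensorQuotEquivQuotSMul N J (n ⊗ₜ[A] (1 : A ⧸ J)) =
            Submodule.Quotient.mk n := by
          have := TensorProduct.tensorQuotEquivQuotSMul_tmul_mk (M := N) J n 1
          simpa using this
        rw [h1, Submodule.Quotient.eq] at hm
        have : n = u m + (n - u m) := by abel
        rw [this]
        exact Submodule.add_mem_sup (LinearMap.mem_range_self u m) hm)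
    intro n
    exact htop (Submodule.mem_top : n ∈ (⊤ : Submodule A N))

end Groth.Agent.S4337
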