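import Groth.Statements.S4338
import Mathlib.Topology.Algebra.InfiniteSum.Nonarchimedean
import Mathlib.Topology.Algebra.InfiniteSum.Ring
import Mathlib.RingTheory.Finiteness.Ideal
import Mathlib.RingTheory.Finiteness.Basic
import Mathlib.Algebra.BigOperators.Ring.Finset

set_option autoImplicit false
universe u
open LinTop

namespace Groth.Agent.S4338

open Filter Topology

/-- elements of `span (range g) * K` are `K`-combinations of the `g j`. -/
theorem mem_span_mul {A : Type u} [CommRing A] {s : ℕ} (g : Fin s → A) (K : Ideal A) (x : A)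
    (hx : x ∈ Ideal.span (Set.range g) * K) :
    ∃ c : Fin s → A, (∀ j, c j ∈ K) ∧ x = ∑ j, g j * c j := by
  refine Submodule.mul_induction_on hx ?_ ?_
  · intro r hr k hk
    obtain ⟨t, rfl⟩ := (Ideal.mem_span_range_iff_exists_fun).mp hr
    refine ⟨fun j => t j * k, fun j => K.mul_mem_left _ hk, ?_⟩
    rw [Finset.sum_mul]
    refine Finset.sum_congr rfl fun j _ => ?_
    ring
  · rintro x y ⟨c, hc, rfl⟩ ⟨c', hc', rfl⟩
    refine ⟨fun j => c j + c' j, fun j => K.add_mem (hc j) (hc' j), ?_⟩
    rw [← Finset.sum_add_distrib]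
    refine Finset.sum_congr rfl fun j _ => ?_
    ring

theorem key {A : Type u} [CommRing A] [UniformSpace A] [IsUniformAddGroup A] [IsTopologicalRing A]
    [NonarchimedeanAddGroup A] [CompleteSpace A] [T2Space A]
    (J : Ideal A) (hJ : ∀ U ∈ nhds (0 : A), ∃ n : ℕ, 0 < n ∧ ((J ^ n : Ideal A) : Set A) ⊆ U)
    (I : Ideal A) (hI : I.FG) (hIJ : I ≤ J) (n : ℕ) (d : ℕ → A) (hd : ∀ m, d m ∈ I ^ (m + n)) :
    ∃ S ∈ I ^ n, HasSum d S := by
  obtain ⟨s, g, hg⟩ := Submodule.fg_iff_exists_fin_generating_family.mp (hI.pow (n := n))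
  have h1 : ∀ m, ∃ c : Fin s → A, (∀ j, c j ∈ I ^ m) ∧ d m = ∑ j, g j * c j := by
    intro m
    apply mem_span_mul
    have : Ideal.span (Set.range g) = I ^ n := hg
    rw [this, ← pow_add, add_comm]
    exact hd m
  choose c hc hdc using h1
  have hsum : ∀ j, Summable (fun m => c m j) := by
    intro j
    apply NonarchimedeanAddGroup.summable_of_tendsto_cofinite_zero
    rw [Nat.cofinite_eq_atTop, tendsto_atTop']
    intro U hU
    obtain ⟨N, -, hN⟩ := hJ U hU
    refine ⟨N, fun m hm => hN ?_⟩
    exact Ideal.pow_le_pow_right hm (Ideal.pow_right_mono hIJ m (hc m j))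
  refine ⟨∑ j, g j * ∑' m, c m j, ?_, ?_⟩
  · refine Submodule.sum_mem _ fun j _ => Ideal.mul_mem_right _ _ ?_
    rw [← hg]
    exact Ideal.subset_span (Set.mem_range_self j)
  · have : d = fun m => ∑ j, g j * c m j := funext hdc
    rw [this]
    exact hasSum_sum fun j _ => (hsum j).hasSum.mul_left (g j)

/-- For a finitely generated ideal. Let A be an admissible ring and I a finitely generated ideal
contained in an ideal of definition of A. Then A is separated and complete for the I-adic topology.
(The published statement has no finiteness hypothesis on I and is then not correct: the completion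
of a polynomial ring in countably many variables over a field along the ideal generated by the
variables, with its inverse-limit topology, is admissible, the kernel of its projection onto the
field is an ideal of definition, and the ring is not adically complete for that kernel.) -/
theorem result
    (A : Type u) [CommRing A] [UniformSpace A] [IsUniformAddGroup A] [IsTopologicalRing A]
    (hA : LinTop.IsAdmissible A) (J : Ideal A) (hJ : LinTop.IsIdealOfDefinition A J)
    (I : Ideal A) (hI : I.FG) (hIJ : I ≤ J) :
    IsAdicComplete I A := by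
  obtain ⟨⟨hlin, -⟩, hT2, hcomp⟩ := hA
  have : NonarchimedeanAddGroup A :=
    { is_nonarchimedean := fun U hU => by
        obtain ⟨K, hK, hKU⟩ := (IsLinearTopology.hasBasis_open_ideal (R := A)).mem_iff.mp hU
        exact ⟨⟨K.toAddSubgroup, hK⟩, hKU⟩ }
  have htop : ∀ k : ℕ, (I ^ k • ⊤ : Submodule A A) = I ^ k := fun k => by
    rw [smul_eq_mul, Ideal.mul_top]
  refine { haus' := ?_, prec' := ?_ }
  · intro x hx
    by_contra hne
    have hU : ({x}ᶜ : Set A) ∈ nhds (0 : A) :=
      isOpen_compl_singleton.mem_nhds (fun h => hne (Set.mem_singleton_iff.mp h).symm)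
    obtain ⟨n, -, hn⟩ := hJ.2 _ hU
    have h1 := hx n
    rw [SModEq.sub_mem, sub_zero, htop] at h1
    exact hn (Ideal.pow_right_mono hIJ n h1) rfl
  · intro f hf
    have hd : ∀ n m, f (m + n + 1) - f (m + n) ∈ I ^ (m + n) := by
      intro n m
      have := (hf (Nat.le_succ (m + n))).symm
      rwa [SModEq.sub_mem, htop] at this
    have hk : ∀ n, ∃ S ∈ I ^ n, HasSum (fun m => f (m + n + 1) - f (m + n)) S :=
      fun n => key J hJ.2 I hI hIJ n _ (hd n)
    choose S hS hSum using hk
    have hlim : ∀ n, Tendsto (fun M => f (M + n)) atTop (𝓝 (S n + f n)) := by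
      intro n
      have h1 := (hSum n).tendsto_sum_nat
      have h2 : ∀ M, ∑ i ∈ Finset.range M, (f (i + n + 1) - f (i + n)) = f (M + n) - f n := by
        intro M
        have := Finset.sum_range_sub (fun i => f (i + n)) M
        simpa [Nat.add_right_comm, zero_add] using this
      simp only [h2] at h1
      have h3 := h1.add_const (f n)
      simpa using h3
    have h0 : Tendsto f atTop (𝓝 (S 0 + f 0)) := by simpa using hlim 0
    refine ⟨S 0 + f 0, fun n => ?_⟩
    have h4 : Tendsto (fun M => f (M + n)) atTop (𝓝 (S 0 + f 0)) :=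
      (tendsto_add_atTop_iff_nat n).mpr h0
    have h5 := tendsto_nhds_unique h4 (hlim n)
    rw [SModEq.sub_mem, htop, h5]
    have : f n - (S n + f n) = -(S n) := by ring
    rw [this]
    exact (I ^ n).neg_mem (hS n)

end Groth.Agent.S4338
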