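import Groth.Statements.S4339
import Groth.Agent.Lib.Helper16.CompleteFiltration
import Groth.Agent.Lib.Helper21.AdicNoetherian

set_option autoImplicit false
universe u
open AdicRing

namespace Groth.Agent.S4339

/-- Let (B_n) be an inverse system of rings with surjective transition maps B_{n+1} → B_n whose kernels
are the (n+1)-st powers of the kernels of the maps B_{n+1} → B_0, the kernel of B_1 → B_0 being
finitely generated, and let A be its inverse limit. Then A is Noetherian if and only if B_0 is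
Noetherian. -/
theorem result
    (B : ℕ → Type u) [∀ n, CommRing (B n)]
    (u : ∀ n, B (n + 1) →+* B n) (hu : ∀ n, Function.Surjective (u n))
    (v : ∀ n, B n →+* B 0) (hv0 : v 0 = RingHom.id (B 0)) (hv : ∀ n, (v n).comp (u n) = v (n + 1))
    (hker : ∀ n, RingHom.ker (u n) = RingHom.ker (v (n + 1)) ^ (n + 1))
    (hfg : (RingHom.ker (v 1)).FG)
    (A : Type u) [CommRing A] (p : ∀ n, A →+* B n)
    (hp : ∀ n, (u n).comp (p (n + 1)) = p n)
    (hinj : ∀ x : A, (∀ n, p n x = 0) → x = 0)
    (hlift : ∀ y : (∀ n, B n), (∀ n, u n (y (n + 1)) = y n) → ∃ x : A, ∀ n, p n x = y n) :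
    IsNoetherianRing A ↔ IsNoetherianRing (B 0) := by
  -- surjectivity of the projections
  have hpsurj : ∀ n, Function.Surjective (p n) := by
    intro n y
    obtain ⟨z, hz, hzn⟩ := Groth.Agent.Lib.Helper16.exists_compatible_family_of_surjective n B
      (fun k => u k) hu y
    obtain ⟨x, hx⟩ := hlift z hz
    exact ⟨x, (hx n).trans hzn⟩
  have hp' : ∀ n x, u n (p (n + 1) x) = p n x := fun n x => by
    rw [← hp n]; rfl
  have hv' : ∀ n x, v n (u n x) = v (n + 1) x := fun n x => by
    rw [← hv n]; rfl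
  constructor
  · intro hA
    exact isNoetherianRing_of_surjective A (B 0) (p 0) (hpsurj 0)
  intro hB
  -- v n ∘ p n = p 0
  have hvp : ∀ n x, v n (p n x) = p 0 x := by
    intro n
    induction n with
    | zero => intro x; rw [hv0]; rfl
    | succ n ih => intro x; rw [← hv' n, hp' n, ih]
  -- ideals
  let I : Ideal A := RingHom.ker (p 0)
  let K : ℕ → Ideal A := fun n => RingHom.ker (p n)
  have hKanti : Antitone K := by
    apply antitone_nat_of_succ_le
    intro n x hx
    change p n x = 0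
    rw [← hp' n, show p (n + 1) x = 0 from hx, map_zero]
  -- J n = map (p n) I
  have hJ : ∀ n, RingHom.ker (v n) = I.map (p n) := by
    intro n
    apply le_antisymm
    · intro x hx
      obtain ⟨a, rfl⟩ := hpsurj n x
      apply Ideal.mem_map_of_mem
      change p 0 a = 0
      rw [← hvp n]; exact hx
    · rw [Ideal.map_le_iff_le_comap]
      intro a ha
      change v n (p n a) = 0
      rw [hvp n]; exact ha
  -- J n ^ (n+1) = 0
  have hJpow : ∀ n, (I.map (p n)) ^ (n + 1) = ⊥ := by
    intro n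
    have h1 : I.map (p n) = (I.map (p (n + 1))).map (u n) := by
      rw [Ideal.map_map, hp n]
    rw [h1, ← Ideal.map_pow, ← hJ (n + 1), ← hker n, Ideal.map_eq_bot_iff_le_ker]
  have hIK : ∀ n, I ^ (n + 1) ≤ K n := by
    intro n
    change I ^ (n + 1) ≤ RingHom.ker (p n)
    rw [← Ideal.map_eq_bot_iff_le_ker, Ideal.map_pow, hJpow n]
  have hKstep : ∀ n, K n ≤ K (n + 1) ⊔ I ^ (n + 1) := by
    intro n a ha
    have h1 : p (n + 1) a ∈ RingHom.ker (u n) := by
      change u n (p (n + 1) a) = 0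
      rw [hp' n]; exact ha
    rw [hker n, hJ (n + 1), ← Ideal.map_pow] at h1
    obtain ⟨b, hb, hba⟩ := (Ideal.mem_map_iff_of_surjective _ (hpsurj (n + 1))).mp h1
    have : a - b ∈ K (n + 1) := by
      change p (n + 1) (a - b) = 0
      rw [map_sub, hba, sub_self]
    have h2 : a = (a - b) + b := by ring
    rw [h2]
    exact Ideal.add_mem _ (Ideal.mem_sup_left this) (Ideal.mem_sup_right hb)
  -- K 1 ≤ K m ⊔ I^2 for m ≥ 1
  have hK1 : ∀ m, K 1 ≤ K (m + 1) ⊔ I ^ 2 := by
    intro m
    induction m with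
    | zero => exact le_sup_left
    | succ m ih =>
      refine ih.trans (sup_le ((hKstep (m + 1)).trans (sup_le le_sup_left ?_)) le_sup_right)
      exact (Ideal.pow_le_pow_right (by omega)).trans le_sup_right
  have hK1I : ∀ k, K 1 * I ^ k ≤ K (k + 1) := by
    intro k
    calc K 1 * I ^ k ≤ (K (k + 1) ⊔ I ^ 2) * I ^ k := Ideal.mul_mono_left (hK1 k)
      _ = K (k + 1) * I ^ k ⊔ I ^ 2 * I ^ k := Ideal.sup_mul _ _ _
      _ ≤ K (k + 1) := by
          refine sup_le Ideal.mul_le_left ?_
          rw [← pow_add]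
          have : 2 + k = (k + 1) + 1 := by omega
          rw [this]; exact hIK (k + 1)
  -- generators
  obtain ⟨T, hT⟩ := hfg
  have hTlift : ∀ t : B 1, t ∈ T → ∃ a ∈ I, p 1 a = t := by
    intro t ht
    have : t ∈ RingHom.ker (v 1) := by rw [← hT]; exact Ideal.subset_span ht
    rw [hJ 1] at this
    exact (Ideal.mem_map_iff_of_surjective _ (hpsurj 1)).mp this
  classical
  let lift : B 1 → A := fun t => if h : t ∈ T then (hTlift t h).choose else 0
  have hliftI : ∀ t ∈ T, lift t ∈ I := by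
    intro t ht
    simp only [lift, dif_pos ht]
    exact (hTlift t ht).choose_spec.1
  have hliftp : ∀ t ∈ T, p 1 (lift t) = t := by
    intro t ht
    simp only [lift, dif_pos ht]
    exact (hTlift t ht).choose_spec.2
  let 𝔞 : Ideal A := Ideal.span ((T.image lift : Finset A) : Set A)
  have h𝔞fg : 𝔞.FG := ⟨T.image lift, rfl⟩
  have h𝔞I : 𝔞 ≤ I := by
    rw [Ideal.span_le]
    intro x hx
    simp only [Finset.coe_image, Set.mem_image, Finset.mem_coe] at hx
    obtain ⟨t, ht, rfl⟩ := hx
    exact hliftI t ht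
  have h𝔞map : RingHom.ker (v 1) ≤ 𝔞.map (p 1) := by
    rw [← hT, Ideal.span_le]
    intro t ht
    rw [← hliftp t ht]
    apply Ideal.mem_map_of_mem
    apply Ideal.subset_span
    simp only [Finset.coe_image, Set.mem_image, Finset.mem_coe]
    exact ⟨t, ht, rfl⟩
  have hI𝔞 : I ≤ 𝔞 ⊔ K 1 := by
    intro x hx
    have h1 : p 1 x ∈ 𝔞.map (p 1) := by
      apply h𝔞map
      rw [hJ 1]; exact Ideal.mem_map_of_mem _ hx
    obtain ⟨y, hy, hyx⟩ := (Ideal.mem_map_iff_of_surjective _ (hpsurj 1)).mp h1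
    have : x - y ∈ K 1 := by
      change p 1 (x - y) = 0
      rw [map_sub, hyx, sub_self]
    have h2 : x = y + (x - y) := by ring
    rw [h2]
    exact Ideal.add_mem _ (Ideal.mem_sup_left hy) (Ideal.mem_sup_right this)
  have hK1leI : K 1 ≤ I := hKanti (Nat.zero_le 1)
  have hIpow : ∀ k, I ^ (k + 1) ≤ 𝔞 ^ (k + 1) ⊔ K 1 * I ^ k := by
    intro k
    induction k with
    | zero => simpa using hI𝔞
    | succ k ih =>
      calc I ^ (k + 1 + 1) = I ^ (k + 1) * I := pow_succ _ _
        _ ≤ (𝔞 ^ (k + 1) ⊔ K 1 * I ^ k) * I := Ideal.mul_mono_left ih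
        _ = 𝔞 ^ (k + 1) * I ⊔ K 1 * I ^ k * I := Ideal.sup_mul _ _ _
        _ ≤ 𝔞 ^ (k + 1 + 1) ⊔ K 1 * I ^ (k + 1) := by
            refine sup_le ?_ ?_
            · calc 𝔞 ^ (k + 1) * I ≤ 𝔞 ^ (k + 1) * (𝔞 ⊔ K 1) := Ideal.mul_mono_right hI𝔞
                _ = 𝔞 ^ (k + 1) * 𝔞 ⊔ 𝔞 ^ (k + 1) * K 1 := Ideal.mul_sup _ _ _
                _ ≤ 𝔞 ^ (k + 1 + 1) ⊔ K 1 * I ^ (k + 1) := by
                    refine sup_le_sup (pow_succ _ _).symm.le ?_
                    rw [mul_comm]
                    exact Ideal.mul_mono_right (Ideal.pow_right_mono h𝔞I _)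
            · rw [mul_assoc, ← pow_succ]; exact le_sup_right
  -- apply helper16's filtration lemma
  have hcomplete : ∀ s : ℕ → A, (∀ k, s (k + 1) - s k ∈ K k) → ∃ ℓ, ∀ k, ℓ - s k ∈ K k := by
    intro s hs
    obtain ⟨ℓ, hℓ⟩ := hlift (fun k => p k (s k)) (by
      intro k
      rw [hp' k]
      have := hs k
      change p k (s (k + 1) - s k) = 0 at this
      rw [map_sub, sub_eq_zero] at this
      exact this)
    refine ⟨ℓ, fun k => ?_⟩
    change p k (ℓ - s k) = 0
    rw [map_sub, hℓ k, sub_self]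
  have hsep : ∀ x, (∀ k, x ∈ K k) → x = 0 := fun x hx => hinj x hx
  have hKeq : ∀ n, K n = 𝔞 ^ (n + 1) := by
    intro n
    have := Groth.Agent.Lib.Helper16.eq_pow_smul_top_of_complete_filtration 𝔞 h𝔞fg
      (L := A) K hKanti hcomplete hsep
      (by
        intro k
        rw [smul_eq_mul, Ideal.mul_top]
        exact (Ideal.pow_right_mono h𝔞I _).trans (hIK k))
      (by
        intro k
        rw [smul_eq_mul, Ideal.mul_top]
        refine (hKstep k).trans (sup_le le_sup_right ((hIpow k).trans (sup_le le_sup_left ?_)))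
        exact (hK1I k).trans le_sup_right) n
    rw [this, smul_eq_mul, Ideal.mul_top]
  have hI𝔞eq : I = 𝔞 := by
    have := hKeq 0
    simpa using this
  have hIfg : I.FG := hI𝔞eq ▸ h𝔞fg
  have hKI : ∀ n, K n = I ^ (n + 1) := fun n => by rw [hKeq n, hI𝔞eq]
  -- adic completeness
  have hHaus : IsHausdorff I A := by
    constructor
    intro x hx
    apply hinj
    intro n
    have := hx (n + 1)
    rw [SModEq.zero, smul_eq_mul, Ideal.mul_top, ← hKI n] at this
    exact this
  have hPrec : IsPrecomplete I A := by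
    constructor
    intro f hf
    obtain ⟨ℓ, hℓ⟩ := hcomplete (fun k => f (k + 1)) (by
      intro k
      have := @hf (k + 1) (k + 2) (by omega)
      rw [SModEq.sub_mem, smul_eq_mul, Ideal.mul_top] at this
      rw [hKI k]
      have h2 := Ideal.neg_mem_iff _ |>.mpr this
      simpa using h2)
    refine ⟨ℓ, fun n => ?_⟩
    cases n with
    | zero =>
      rw [SModEq.sub_mem, pow_zero, Ideal.one_eq_top, smul_eq_mul, Ideal.mul_top]
      exact Submodule.mem_top
    | succ n =>
      rw [SModEq.sub_mem, smul_eq_mul, Ideal.mul_top, ← hKI n]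
      have h2 := Ideal.neg_mem_iff _ |>.mpr (hℓ n)
      simpa using h2
  have hAC : IsAdicComplete I A := { hHaus, hPrec with }
  have e : (A ⧸ I) ≃+* B 0 := RingHom.quotientKerEquivOfSurjective (hpsurj 0)
  have : IsNoetherianRing (A ⧸ I) := isNoetherianRing_of_ringEquiv _ e.symm
  exact Groth.Agent.Lib.Helper21.isNoetherianRing_of_isAdicComplete I hIfg

end Groth.Agent.S4339
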