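import Groth.Statements.S4345
import Mathlib

set_option autoImplicit false
universe u
open SchLoc

namespace Groth.Agent.S4345

open LocalSubring IsLocalRing

variable {K : Type u} [Field K]

lemma ofPrime_congr (A : Subring K) {P P' : Ideal A} [hP : P.IsPrime] [hP' : P'.IsPrime]
    (h : P = P') : ofPrime A P = ofPrime A P' := by subst h; rfl

lemma mem_ofPrime_iff (A : Subring K) (P : Ideal A) [P.IsPrime] (x : K) :
    x ∈ (ofPrime A P).toSubring ↔ ∃ a s : A, s ∉ P ∧ x * (s : K) = (a : K) := by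
  constructor
  · intro hx
    obtain ⟨a, s, hs⟩ := IsLocalization.exists_mk'_eq P.primeCompl
      (⟨x, hx⟩ : (ofPrime A P).toSubring)
    refine ⟨a, s.1, s.2, ?_⟩
    have := IsLocalization.mk'_spec (ofPrime A P).toSubring a s
    rw [hs] at this
    exact congrArg Subtype.val this
  · rintro ⟨a, s, hs, h⟩
    have hu : IsUnit (algebraMap A (ofPrime A P).toSubring s) :=
      IsLocalization.map_units _ (⟨s, hs⟩ : P.primeCompl)
    obtain ⟨u, hu⟩ := hu
    have h1 : ((u : (ofPrime A P).toSubring) : K) = (s : K) := by rw [hu]; rfl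
    have h2 : ((u : (ofPrime A P).toSubring) : K) * (((u⁻¹ : Units _) : (ofPrime A P).toSubring) : K) = 1 := by
      have := congrArg Subtype.val (u.mul_inv)
      rw [Subring.coe_mul] at this
      exact this
    have h3 : x = (a : K) * (((u⁻¹ : Units _) : (ofPrime A P).toSubring) : K) := by
      rw [← h, mul_assoc, ← h1, h2, mul_one]
    rw [h3]
    exact Subring.mul_mem _ (le_ofPrime A P a.2) (Subtype.mem _)

lemma comap_maximalIdeal_ofPrime (A : Subring K) (P : Ideal A) [P.IsPrime] :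
    (maximalIdeal (ofPrime A P).toSubring).comap (Subring.inclusion (le_ofPrime A P)) = P :=
  IsLocalization.AtPrime.under_maximalIdeal (ofPrime A P).toSubring P

lemma comap_maximalIdeal_of_le {S Q : LocalSubring K} (h : S ≤ Q) :
    (maximalIdeal Q.toSubring).comap (Subring.inclusion h.1) = maximalIdeal S.toSubring := by
  obtain ⟨h1, h2⟩ := h
  exact ((IsLocalRing.local_hom_TFAE (Subring.inclusion h1)).out 0 4).mp h2

/-- trace of the maximal ideal -/
noncomputable abbrev tr (Q : LocalSubring K) (A : Subring K) (h : A ≤ Q.toSubring) : Ideal A :=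
  (maximalIdeal Q.toSubring).comap (Subring.inclusion h)

lemma mem_tr_iff (Q : LocalSubring K) (A : Subring K) (h : A ≤ Q.toSubring) (a : A) :
    a ∈ tr Q A h ↔ ¬ IsUnit (⟨a.1, h a.2⟩ : Q.toSubring) := by
  rw [tr, Ideal.mem_comap, mem_maximalIdeal, mem_nonunits_iff]
  rfl

lemma tr_ofPrime (A : Subring K) (P : Ideal A) [P.IsPrime] :
    tr (ofPrime A P) A (le_ofPrime A P) = P := comap_maximalIdeal_ofPrime A P

lemma tr_of_le {S Q : LocalSubring K} (hSQ : S ≤ Q) (A : Subring K) (h : A ≤ S.toSubring) :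
    tr Q A (h.trans hSQ.1) = tr S A h := by
  rw [tr, tr, ← comap_maximalIdeal_of_le hSQ, Ideal.comap_comap]
  rfl

lemma tr_trans (Q : LocalSubring K) {A C : Subring K} (hAC : A ≤ C) (h : C ≤ Q.toSubring) :
    tr Q A (hAC.trans h) = (tr Q C h).comap (Subring.inclusion hAC) := by
  rw [tr, tr, Ideal.comap_comap]
  rfl

/-- `A_{m_Q ∩ A}` is dominated by `Q`. -/
lemma ofPrime_tr_le (Q : LocalSubring K) (A : Subring K) (h : A ≤ Q.toSubring) :
    ofPrime A (tr Q A h) ≤ Q := by
  have key : ∀ s : A, s ∉ tr Q A h → ∃ t : Q.toSubring, (s : K) * (t : K) = 1 := by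
    intro s hs
    rw [mem_tr_iff, not_not] at hs
    obtain ⟨t, ht⟩ := hs.exists_right_inv
    exact ⟨t, congrArg Subtype.val ht⟩
  have hle : (ofPrime A (tr Q A h)).toSubring ≤ Q.toSubring := by
    intro x hx
    obtain ⟨a, s, hs, hxs⟩ := (mem_ofPrime_iff A _ x).mp hx
    obtain ⟨t, ht⟩ := key s hs
    have : x = (a : K) * (t : K) := by rw [← hxs, mul_assoc, ht, mul_one]
    rw [this]
    exact Subring.mul_mem _ (h a.2) t.2
  refine ⟨hle, ⟨?_⟩⟩
  rintro ⟨x, hx⟩ hu
  obtain ⟨a, s, hs, hxs⟩ := (mem_ofPrime_iff A _ x).mp hx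
  -- a is a unit in Q
  have ha : a ∉ tr Q A h := by
    rw [mem_tr_iff, not_not]
    obtain ⟨t, ht⟩ := key s hs
    have hs' : IsUnit (⟨s.1, h s.2⟩ : Q.toSubring) := by
      rw [mem_tr_iff, not_not] at hs
      exact hs
    have : (⟨a.1, h a.2⟩ : Q.toSubring) = (Subring.inclusion hle ⟨x, hx⟩) * ⟨s.1, h s.2⟩ := by
      apply Subtype.ext
      exact hxs.symm
    rw [this]
    exact hu.mul hs'
  -- so a is a unit in ofPrime
  have hau : IsUnit (algebraMap A (ofPrime A (tr Q A h)).toSubring a) :=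
    IsLocalization.map_units _ (⟨a, ha⟩ : (tr Q A h).primeCompl)
  obtain ⟨b, hb⟩ := hau.exists_right_inv
  rw [isUnit_iff_exists_inv]
  refine ⟨algebraMap A (ofPrime A (tr Q A h)).toSubring s * b, ?_⟩
  rw [← mul_assoc]
  have : (⟨x, hx⟩ : (ofPrime A (tr Q A h)).toSubring) * algebraMap A (ofPrime A (tr Q A h)).toSubring s
      = algebraMap A (ofPrime A (tr Q A h)).toSubring a := by
    apply Subtype.ext
    exact hxs
  rw [this, hb]

/-- If `A_P` is dominated by `Q` then `A ⊆ Q` and `m_Q ∩ A = P`. -/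
lemma tr_eq_of_ofPrime_le (Q : LocalSubring K) (A : Subring K) (P : Ideal A) [P.IsPrime]
    (hQ : ofPrime A P ≤ Q) (h : A ≤ Q.toSubring) : tr Q A h = P := by
  have := tr_of_le hQ A (le_ofPrime A P)
  rw [tr_ofPrime] at this
  exact this

lemma tr_eq_of_ofPrime_eq (Q : LocalSubring K) (A : Subring K) (P : Ideal A) [P.IsPrime]
    (hQ : ofPrime A P = Q) (h : A ≤ Q.toSubring) : tr Q A h = P :=
  tr_eq_of_ofPrime_le Q A P hQ.le h


/-- Let A and B be subrings of a field R, C the subring generated by A and B, and for a subring E let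
L(E) be the set of local subrings E_p of R, p a prime ideal of E. The following are equivalent: (i)
for every local subring Q of R containing A and B, the localizations of A and of B at the traces of
the maximal ideal of Q coincide; (ii) for every prime ideal r of C the localizations of A and B at
the traces of r coincide; (iii) two members of L(A) and L(B) dominated by a common local subring of
R are equal; (iv) the intersection of L(A) and L(B) is L(C). -/
theorem result
    (R : Type u) [Field R] (A B : Subring R) :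
    [ ∀ (Q : LocalSubring R) (hA : A ≤ Q.toSubring) (hB : B ≤ Q.toSubring),
        LocalSubring.ofPrime A ((IsLocalRing.maximalIdeal Q.toSubring).comap (Subring.inclusion hA)) =
          LocalSubring.ofPrime B ((IsLocalRing.maximalIdeal Q.toSubring).comap (Subring.inclusion hB)),
      ∀ r : PrimeSpectrum ↥(A ⊔ B),
        LocalSubring.ofPrime A (r.asIdeal.comap (Subring.inclusion (le_sup_left : A ≤ A ⊔ B))) =
          LocalSubring.ofPrime B (r.asIdeal.comap (Subring.inclusion (le_sup_right : B ≤ A ⊔ B))),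
      ∀ (p : PrimeSpectrum A) (q : PrimeSpectrum B),
        (∃ Q : LocalSubring R, LocalSubring.ofPrime A p.asIdeal ≤ Q ∧ LocalSubring.ofPrime B q.asIdeal ≤ Q) →
          LocalSubring.ofPrime A p.asIdeal = LocalSubring.ofPrime B q.asIdeal,
      Set.range (fun p : PrimeSpectrum A ↦ LocalSubring.ofPrime A p.asIdeal) ∩
          Set.range (fun q : PrimeSpectrum B ↦ LocalSubring.ofPrime B q.asIdeal) =
        Set.range (fun r : PrimeSpectrum ↥(A ⊔ B) ↦ LocalSubring.ofPrime (A ⊔ B) r.asIdeal) ].TFAE := by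
  have hAC : A ≤ A ⊔ B := le_sup_left
  have hBC : B ≤ A ⊔ B := le_sup_right
  tfae_have 1 → 2 := by
    intro h r
    have hCr := le_ofPrime (A ⊔ B) r.asIdeal
    have h0 := h (ofPrime (A ⊔ B) r.asIdeal) (hAC.trans hCr) (hBC.trans hCr)
    have e1 : tr (ofPrime (A ⊔ B) r.asIdeal) A (hAC.trans hCr) =
        r.asIdeal.comap (Subring.inclusion hAC) := by
      rw [tr_trans _ hAC hCr, tr_ofPrime]
    have e2 : tr (ofPrime (A ⊔ B) r.asIdeal) B (hBC.trans hCr) =
        r.asIdeal.comap (Subring.inclusion hBC) := by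
      rw [tr_trans _ hBC hCr, tr_ofPrime]
    exact (ofPrime_congr A e1).symm.trans (h0.trans (ofPrime_congr B e2))
  tfae_have 2 → 1 := by
    intro h Q hA hB
    have hC : A ⊔ B ≤ Q.toSubring := sup_le hA hB
    have h0 := h ⟨tr Q (A ⊔ B) hC, inferInstance⟩
    have e1 : tr Q A hA = (tr Q (A ⊔ B) hC).comap (Subring.inclusion hAC) := tr_trans Q hAC hC
    have e2 : tr Q B hB = (tr Q (A ⊔ B) hC).comap (Subring.inclusion hBC) := tr_trans Q hBC hC
    exact (ofPrime_congr A e1).trans (h0.trans (ofPrime_congr B e2).symm)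
  tfae_have 1 → 3 := by
    rintro h p q ⟨Q, hp, hq⟩
    have hA : A ≤ Q.toSubring := (le_ofPrime A p.asIdeal).trans hp.1
    have hB : B ≤ Q.toSubring := (le_ofPrime B q.asIdeal).trans hq.1
    have e1 : tr Q A hA = p.asIdeal := tr_eq_of_ofPrime_le Q A p.asIdeal hp hA
    have e2 : tr Q B hB = q.asIdeal := tr_eq_of_ofPrime_le Q B q.asIdeal hq hB
    exact (ofPrime_congr A e1).symm.trans ((h Q hA hB).trans (ofPrime_congr B e2))
  tfae_have 3 → 1 := by
    intro h Q hA hB
    exact h ⟨tr Q A hA, inferInstance⟩ ⟨tr Q B hB, inferInstance⟩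
      ⟨Q, ofPrime_tr_le Q A hA, ofPrime_tr_le Q B hB⟩
  tfae_have 2 → 4 := by
    intro h
    ext D
    constructor
    · rintro ⟨⟨p, hp⟩, ⟨q, hq⟩⟩
      simp only at hp hq
      have hA : A ≤ D.toSubring := hp ▸ le_ofPrime A p.asIdeal
      have hB : B ≤ D.toSubring := hq ▸ le_ofPrime B q.asIdeal
      have hC : A ⊔ B ≤ D.toSubring := sup_le hA hB
      refine ⟨⟨tr D (A ⊔ B) hC, inferInstance⟩, ?_⟩
      simp only
      refine le_antisymm (ofPrime_tr_le D (A ⊔ B) hC) ?_
      have hCr := le_ofPrime (A ⊔ B) (tr D (A ⊔ B) hC)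
      have e1 : tr (ofPrime (A ⊔ B) (tr D (A ⊔ B) hC)) A (hAC.trans hCr) = p.asIdeal := by
        rw [tr_trans _ hAC hCr, tr_ofPrime, ← tr_trans D hAC hC]
        exact tr_eq_of_ofPrime_eq D A p.asIdeal hp _
      have h1 := ofPrime_tr_le (ofPrime (A ⊔ B) (tr D (A ⊔ B) hC)) A (hAC.trans hCr)
      rw [ofPrime_congr A e1, hp] at h1
      exact h1
    · rintro ⟨r, hr⟩
      simp only at hr
      have h0 := h r
      have hCr := le_ofPrime (A ⊔ B) r.asIdeal
      -- D' := A_{r ∩ A}
      have e1 : tr (ofPrime (A ⊔ B) r.asIdeal) A (hAC.trans hCr) =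
          r.asIdeal.comap (Subring.inclusion hAC) := by
        rw [tr_trans _ hAC hCr, tr_ofPrime]
      have hle : ofPrime A (r.asIdeal.comap (Subring.inclusion hAC)) ≤
          ofPrime (A ⊔ B) r.asIdeal := by
        have h1 := ofPrime_tr_le (ofPrime (A ⊔ B) r.asIdeal) A (hAC.trans hCr)
        rwa [ofPrime_congr A e1] at h1
      have hA' : A ≤ (ofPrime A (r.asIdeal.comap (Subring.inclusion hAC))).toSubring :=
        le_ofPrime A _
      have hB' : B ≤ (ofPrime A (r.asIdeal.comap (Subring.inclusion hAC))).toSubring := by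
        rw [h0]; exact le_ofPrime B _
      have hC' : A ⊔ B ≤ (ofPrime A (r.asIdeal.comap (Subring.inclusion hAC))).toSubring :=
        sup_le hA' hB'
      have e2 : tr (ofPrime A (r.asIdeal.comap (Subring.inclusion hAC))) (A ⊔ B) hC' =
          r.asIdeal := by
        rw [← tr_of_le hle (A ⊔ B) hC', tr_ofPrime]
      have hge : ofPrime (A ⊔ B) r.asIdeal ≤
          ofPrime A (r.asIdeal.comap (Subring.inclusion hAC)) := by
        have h1 := ofPrime_tr_le (ofPrime A (r.asIdeal.comap (Subring.inclusion hAC))) (A ⊔ B) hC'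
        rwa [ofPrime_congr (A ⊔ B) e2] at h1
      have heq : ofPrime A (r.asIdeal.comap (Subring.inclusion hAC)) = D :=
        (le_antisymm hle hge).trans hr
      exact ⟨⟨⟨r.asIdeal.comap (Subring.inclusion hAC), inferInstance⟩, heq⟩,
        ⟨⟨r.asIdeal.comap (Subring.inclusion hBC), inferInstance⟩, h0.symm.trans heq⟩⟩
  tfae_have 4 → 1 := by
    intro h Q hA hB
    have hC : A ⊔ B ≤ Q.toSubring := sup_le hA hB
    have hmem : ofPrime (A ⊔ B) (tr Q (A ⊔ B) hC) ∈
        Set.range (fun r : PrimeSpectrum ↥(A ⊔ B) ↦ LocalSubring.ofPrime (A ⊔ B) r.asIdeal) :=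
      ⟨⟨tr Q (A ⊔ B) hC, inferInstance⟩, rfl⟩
    rw [← h] at hmem
    obtain ⟨⟨p, hp⟩, ⟨q, hq⟩⟩ := hmem
    simp only at hp hq
    have hCr := le_ofPrime (A ⊔ B) (tr Q (A ⊔ B) hC)
    have e1 : tr Q A hA = p.asIdeal := by
      rw [← tr_eq_of_ofPrime_eq _ A p.asIdeal hp (hAC.trans hCr), tr_trans _ hAC hCr, tr_ofPrime]
      exact tr_trans Q hAC hC
    have e2 : tr Q B hB = q.asIdeal := by
      rw [← tr_eq_of_ofPrime_eq _ B q.asIdeal hq (hBC.trans hCr), tr_trans _ hBC hCr, tr_ofPrime]
      exact tr_trans Q hBC hC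
    exact (ofPrime_congr A e1).trans (hp.trans (hq.symm.trans (ofPrime_congr B e2).symm))
  tfae_finish

end Groth.Agent.S4345
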