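import Groth.Statements.S4346
-- import your own Groth.Agent.* helpers here

set_option autoImplicit false
universe u
open SchLoc

namespace Groth.Agent.S4346

open AlgebraicGeometry CategoryTheory in
lemma specializes_of_range_le (X : Scheme.{u}) [IsIntegral X] [X.IsSeparated] (x y : X)
    (hle : (algebraMap (X.presheaf.stalk y) X.functionField).range ≤
      (algebraMap (X.presheaf.stalk x) X.functionField).range) : x ⤳ y := by
  have hx : genericPoint X ⤳ x := (genericPoint_spec X).specializes trivial
  have hy : genericPoint X ⤳ y := (genericPoint_spec X).specializes trivial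
  have hιx : Function.Injective (algebraMap (X.presheaf.stalk x) X.functionField) :=
    IsFractionRing.injective _ _
  have hex : ∀ b : X.presheaf.stalk y, ∃ a : X.presheaf.stalk x,
      algebraMap (X.presheaf.stalk x) X.functionField a =
        algebraMap (X.presheaf.stalk y) X.functionField b := fun b => hle ⟨b, rfl⟩
  choose φ hφ using hex
  let φr : X.presheaf.stalk y →+* X.presheaf.stalk x :=
    { toFun := φ
      map_one' := hιx (by rw [hφ, map_one, map_one])
      map_mul' := fun a b => hιx (by rw [hφ, map_mul, map_mul, hφ, hφ])
      map_zero' := hιx (by rw [hφ, map_zero, map_zero])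
      map_add' := fun a b => hιx (by rw [hφ, map_add, map_add, hφ, hφ]) }
  have hcomp : CommRingCat.ofHom φr ≫ X.presheaf.stalkSpecializes hx =
      X.presheaf.stalkSpecializes hy := by
    ext b
    exact hφ b
  have hdom : IsDominant (Spec.map (X.presheaf.stalkSpecializes hx)) := by
    refine ⟨?_⟩
    change DenseRange (PrimeSpectrum.comap (X.presheaf.stalkSpecializes hx).hom)
    rw [PrimeSpectrum.denseRange_comap_iff_ker_le_nilRadical]
    have : RingHom.ker (X.presheaf.stalkSpecializes hx).hom = ⊥ :=
      (RingHom.injective_iff_ker_eq_bot _).mp hιx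
    rw [this]; exact bot_le
  have heq : Spec.map (CommRingCat.ofHom φr) ≫ X.fromSpecStalk y = X.fromSpecStalk x := by
    apply ext_of_isDominant (Spec.map (X.presheaf.stalkSpecializes hx))
    rw [← Spec.map_comp_assoc, hcomp, Scheme.SpecMap_stalkSpecializes_fromSpecStalk,
      Scheme.SpecMap_stalkSpecializes_fromSpecStalk]
  have hmem : x ∈ Set.range (X.fromSpecStalk y) := by
    refine ⟨Spec.map (CommRingCat.ofHom φr) (IsLocalRing.closedPoint _), ?_⟩
    rw [← Scheme.Hom.comp_apply, heq, Scheme.fromSpecStalk_closedPoint]
  rw [Scheme.range_fromSpecStalk] at hmem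
  exact hmem

open AlgebraicGeometry in
/-- On an integral separated scheme distinct points have distinct local rings inside the function field. -/
theorem result (X : Scheme.{u}) [IsIntegral X] [X.IsSeparated] :
    Function.Injective (fun x : X ↦ (algebraMap (X.presheaf.stalk x) X.functionField).range) := by
  intro x y hxy
  exact ((specializes_of_range_le X x y (le_of_eq hxy.symm)).antisymm
    (specializes_of_range_le X y x (le_of_eq hxy))).eq

end Groth.Agent.S4346
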