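import Groth.Statements.S4348
-- import your own Groth.Agent.* helpers here
import Groth.Agent.Lib.Helper29.QCohQcqs
import Groth.Agent.Lib.Helper29.QCohPullback

set_option autoImplicit false
universe u
open QCohSup

namespace Groth.Agent.S4348

open CategoryTheory AlgebraicGeometry CategoryTheory.Limits in
theorem isQuasicoherent_pullback_aux {X : Scheme.{u}} {A B C : X.Modules} (f : A ⟶ C) (g : B ⟶ C)
    [A.IsQuasicoherent] [B.IsQuasicoherent] [C.IsQuasicoherent] :
    (pullback f g).IsQuasicoherent := by
  open Groth.Agent.Lib.Helper29.QCoh in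
  have hAB : (A ⊞ B).IsQuasicoherent := by
    have h1 : (colimit (pair A B)).IsQuasicoherent := by
      apply isQuasicoherent_colimit_aux (pair A B)
      rintro ⟨_ | _⟩
      · exact inferInstanceAs A.IsQuasicoherent
      · exact inferInstanceAs B.IsQuasicoherent
    exact isQuasicoherent_of_iso (biprod.isoCoprod A B).symm
  have hk : (kernel (biprod.desc f (-g))).IsQuasicoherent := inferInstance
  let e : pullback f g ≅ kernel (biprod.desc f (-g)) :=
    (Abelian.PullbackToBiproductIsKernel.isLimitPullbackToBiproduct f g).conePointUniqueUpToIso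
      (limit.isLimit _)
  exact isQuasicoherent_of_iso e.symm

open AlgebraicGeometry in
open CategoryTheory in
open CategoryTheory.Limits in
/-- Let X be a scheme and U an open subscheme such that the inclusion j : U -> X is quasi-compact. For a
quasi-coherent O_X-module F and a quasi-coherent submodule G of F|U, the canonical extension of G to
X (the preimage of j_*(G) under F -> j_*(F|U), here the fibre product in the category of
O_X-modules) is quasi-coherent. -/
theorem result
    {X : Scheme.{u}} (U : X.Opens) [QuasiCompact U.ι] (F : X.Modules) [Coh.IsQCoh F]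
    (G : (U : Scheme.{u}).Modules) [Coh.IsQCoh G]
    (i : G ⟶ (Scheme.Modules.pullback U.ι).obj F) [Mono i] :
    Coh.IsQCoh (pullback ((Scheme.Modules.pushforward U.ι).map i)
      ((Scheme.Modules.pullbackPushforwardAdjunction U.ι).unit.app F)) := by
  have : F.IsQuasicoherent := ‹Coh.IsQCoh F›
  have : G.IsQuasicoherent := ‹Coh.IsQCoh G›
  have h1 : ((Scheme.Modules.pushforward U.ι).obj G).IsQuasicoherent :=
    Groth.Agent.Lib.Helper29.QCoh.isQuasicoherent_pushforward_of_qcqs U.ι G
  have h2 : ((Scheme.Modules.pullback U.ι).obj F).IsQuasicoherent := inferInstance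
  have h3 : ((Scheme.Modules.pushforward U.ι).obj ((Scheme.Modules.pullback U.ι).obj F)).IsQuasicoherent :=
    Groth.Agent.Lib.Helper29.QCoh.isQuasicoherent_pushforward_of_qcqs U.ι _
  have h0 : ((𝟭 X.Modules).obj F).IsQuasicoherent := ‹F.IsQuasicoherent›
  exact isQuasicoherent_pullback_aux _ _

end Groth.Agent.S4348
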