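import Groth.Statements.S4349
import Mathlib.Algebra.Category.Ring.FilteredColimits
import Mathlib.CategoryTheory.Limits.ConcreteCategory.Basic

set_option autoImplicit false
universe u
open RatFun

namespace Groth.Agent.S4349

open AlgebraicGeometry in
/-- Second assertion (in the form: sections over a dense open inject into the ring of rational
functions). Let X be a reduced scheme and V a dense open subset of X. The canonical map from the
sections of O_X over V to the ring R(X) of rational functions on X is injective. (The published
statement also assumes X locally integral or locally Noetherian; that hypothesis serves the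
quasi-coherence of the sheaf of rational functions and is not needed here.) -/
theorem result (X : Scheme.{u}) [IsReduced X]
    (V : X.Opens) (hV : Dense (V : Set X)) :
    Function.Injective (RatFun.toRing X V hV) := by
  classical
  have hne : Nonempty ((IsDenseOpen X).FullSubcategory) := ⟨⟨⊤, by simp [IsDenseOpen]⟩⟩
  have hcof : CategoryTheory.IsCofilteredOrEmpty ((IsDenseOpen X).FullSubcategory) :=
    { cone_objs := fun U W => by
        refine ⟨⟨U.obj ⊓ W.obj, ?_⟩, CategoryTheory.ObjectProperty.homMk (CategoryTheory.homOfLE inf_le_left),
          CategoryTheory.ObjectProperty.homMk (CategoryTheory.homOfLE inf_le_right), trivial⟩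
        have hU : Dense (U.obj : Set X) := U.property
        have hW : Dense (W.obj : Set X) := W.property
        exact hU.inter_of_isOpen_right hW W.obj.isOpen
      cone_maps := fun U W f g => ⟨U, CategoryTheory.CategoryStruct.id U, by
        apply CategoryTheory.ObjectProperty.hom_ext
        exact Subsingleton.elim _ _⟩ }
  have : CategoryTheory.IsCofiltered ((IsDenseOpen X).FullSubcategory) := { }
  rw [injective_iff_map_eq_zero]
  intro s hs
  have h0 : RatFun.toRing X V hV s = RatFun.toRing X V hV 0 := by rw [hs, map_zero]
  obtain ⟨k, f, g, hfg⟩ := CategoryTheory.Limits.Concrete.colimit_exists_of_rep_eq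
    (sectionsOnDense X) (i := Opposite.op ⟨V, hV⟩) (j := Opposite.op ⟨V, hV⟩) s 0 h0
  rw [map_zero] at hfg
  apply AlgebraicGeometry.eq_zero_of_basicOpen_eq_bot
  have h1 : X.basicOpen ((sectionsOnDense X).map f s) = k.unop.obj ⊓ X.basicOpen s :=
    AlgebraicGeometry.Scheme.basicOpen_res _ _ _
  have h2 : X.basicOpen ((sectionsOnDense X).map f s) = ⊥ := by
    have : (sectionsOnDense X).map f s = (0 : Γ(X, k.unop.obj)) := hfg
    rw [this]
    exact AlgebraicGeometry.Scheme.basicOpen_zero X _
  rw [h2] at h1
  have hk : Dense (k.unop.obj : Set X) := k.unop.property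
  by_contra hne
  obtain ⟨x, hx⟩ := (TopologicalSpace.Opens.ne_bot_iff_nonempty _).mp hne
  obtain ⟨y, hy1, hy2⟩ := hk.inter_open_nonempty _ (X.basicOpen s).isOpen ⟨x, hx⟩
  have : y ∈ (⊥ : X.Opens) := by
    rw [h1]
    exact ⟨hy2, hy1⟩
  exact this

end Groth.Agent.S4349
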