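import Groth.Statements.S4350
import Mathlib
import Groth.Agent.Lib.Helper29.Cocycle
import Groth.Agent.Lib.Helper29.QCohPush
import Groth.Agent.Lib.Helper29.QCohFinite
-- import your own Groth.Agent.* helpers here

set_option autoImplicit false
universe u
open TorSh

namespace Groth.Agent.S4350

section helpers

open AlgebraicGeometry CategoryTheory CategoryTheory.Limits TopologicalSpace Opposite
open Groth.Agent.Lib.Helper29.QCoh

variable (X : Scheme.{u}) [IsIntegral X]

local notation "ξ" => genericPoint X
local notation "K" => X.presheaf.stalk (genericPoint X)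
local notation "jj" => X.fromSpecStalk (genericPoint X)

/-- The sheaf of rational functions. -/
noncomputable abbrev KX : X.Modules :=
  (Scheme.Modules.pushforward (X.fromSpecStalk (genericPoint X))).obj
    (unitM (Spec (X.presheaf.stalk (genericPoint X))))

theorem mem_of_nonempty (V : X.Opens) (x : X) (hx : x ∈ V) : ξ ∈ V := by
  have := (genericPoint_spec X).mem_open_set_iff V.2
  exact this.mpr ⟨x, trivial, hx⟩

theorem eq_bot_of_notMem (V : X.Opens) (h : ξ ∉ V) : V = ⊥ := by
  ext x
  simp only [SetLike.mem_coe]
  constructor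
  · intro hx; exact absurd (mem_of_nonempty X V x hx) h
  · intro hx; exact absurd hx (by simp)

theorem preimage_eq_top (V : X.Opens) (h : ξ ∈ V) : jj ⁻¹ᵁ V = ⊤ := by
  ext y
  simp only [SetLike.mem_coe]
  constructor
  · intro _; trivial
  · intro _
    change jj y ∈ V
    have h1 : jj y ⤳ ξ := by
      have : jj y ∈ Set.range jj := ⟨y, rfl⟩
      rw [Scheme.range_fromSpecStalk] at this
      exact this
    have h2 : jj y = ξ := (h1.antisymm (genericPoint_specializes _)).eq
    rw [h2]
    exact h

/-- The ring map `K → Γ(Spec K, j⁻¹V)`. -/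
noncomputable def toN (V : X.Opens) : K →+* Γ(Spec K, jj ⁻¹ᵁ V) :=
  ((Spec K).presheaf.map (homOfLE (le_top : jj ⁻¹ᵁ V ≤ ⊤)).op).hom.comp
    (Scheme.ΓSpecIso K).inv.hom

theorem toN_res {V V' : X.Opens} (h : V' ≤ V) (a : K) :
    (Spec K).presheaf.map (homOfLE ((jj).preimage_mono h)).op (toN X V a) = toN X V' a := by
  unfold toN
  simp only [RingHom.coe_comp, Function.comp_apply]
  rw [← CommRingCat.comp_apply, ← Functor.map_comp]
  rfl

theorem app_eq_toN (V : X.Opens) (h : ξ ∈ V) (r : Γ(X, V)) :
    (jj).app V r = toN X V (X.presheaf.germ V ξ h r) := by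
  rw [Scheme.fromSpecStalk_app h]
  rfl

theorem res_bijective_of_eq_top (Y : Scheme.{u}) (U : Y.Opens) (e : U = ⊤) :
    Function.Bijective (Y.presheaf.map (homOfLE (le_top : U ≤ ⊤)).op) := by
  subst e
  have : (homOfLE (le_top : (⊤ : Y.Opens) ≤ ⊤)) = 𝟙 _ := Subsingleton.elim _ _
  rw [this, op_id, Y.presheaf.map_id]
  exact Function.bijective_id

theorem toN_injective (V : X.Opens) (h : ξ ∈ V) : Function.Injective (toN X V) := by
  unfold toN
  rw [RingHom.coe_comp]
  refine Function.Injective.comp (res_bijective_of_eq_top _ _ (preimage_eq_top X V h)).1 ?_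
  exact (ConcreteCategory.bijective_of_isIso (Scheme.ΓSpecIso K).inv).1

theorem subsingleton_of_notMem (V : X.Opens) (h : ξ ∉ V) : Subsingleton Γ(KX X, V) := by
  have e : jj ⁻¹ᵁ V = ⊥ := by rw [eq_bot_of_notMem X V h]; rfl
  change Subsingleton Γ(Spec K, jj ⁻¹ᵁ V)
  rw [e]
  infer_instance

variable (F : X.Modules)
  (g : F.presheaf.stalk (genericPoint X) →ₗ[X.presheaf.stalk (genericPoint X)]
    X.presheaf.stalk (genericPoint X))

open Classical in
/-- The map on sections. -/
noncomputable def secMap (V : X.Opens) : Γ(F, V) →+ Γ(KX X, V) :=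
  if h : ξ ∈ V then
    { toFun := fun m => (show Γ(KX X, V) from
        toUnit (toN X V (g (F.presheaf.germ V ξ h m))))
      map_zero' := by
        rw [map_zero, map_zero, map_zero]; rfl
      map_add' := by
        intro a b
        rw [map_add, map_add, map_add]; rfl }
  else 0

theorem secMap_of_mem (V : X.Opens) (h : ξ ∈ V) (m : Γ(F, V)) :
    secMap X F g V m = (show Γ(KX X, V) from
        toUnit (toN X V (g (F.presheaf.germ V ξ h m)))) := by
  unfold secMap
  rw [dif_pos h]
  rfl

theorem secMap_smul (V : X.Opens) (r : Γ(X, V)) (m : Γ(F, V)) :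
    secMap X F g V (r • m) = r • (secMap X F g V m : Γ(KX X, V)) := by
  by_cases h : ξ ∈ V
  · rw [secMap_of_mem X F g V h, secMap_of_mem X F g V h, germ_smul, map_smul, smul_eq_mul,
      map_mul, pushforward_smul, app_eq_toN X V h]
    rfl
  · haveI := subsingleton_of_notMem X V h
    exact Subsingleton.elim _ _

theorem secMap_res {V V' : X.Opens} (hVV : V' ≤ V) (m : Γ(F, V)) :
    secMap X F g V' (res F hVV m) = res (KX X) hVV (secMap X F g V m : Γ(KX X, V)) := by
  by_cases h : ξ ∈ V'
  · rw [secMap_of_mem X F g V' h, secMap_of_mem X F g V (hVV h), germ_res, pushforward_res,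
      ← toN_res X hVV]
    rfl
  · haveI := subsingleton_of_notMem X V' h
    exact Subsingleton.elim _ _

/-- The morphism `F → K_X`. -/
noncomputable def toKX : F ⟶ KX X :=
  homOfApp (secMap X F g) (secMap_smul X F g) (fun h m => secMap_res X F g h m)

theorem toKX_app (V : X.Opens) (m : Γ(F, V)) : (toKX X F g).app V m = secMap X F g V m := rfl

/-- Germs at the generic point are injective on sections of a torsion-free quasi-coherent
module. -/
theorem germ_injective [F.IsQuasicoherent] (hF : TorSh.IsTorsionFree F) (V : X.Opens)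
    (h : ξ ∈ V) (m : Γ(F, V)) (hm : F.presheaf.germ V ξ h m = 0) : m = 0 := by
  apply eq_zero_of_germ_eq_zero
  intro x hx
  obtain ⟨W, hW, hxW, hWV⟩ := exists_isAffineOpen_mem_and_subset (x := x) (U := V) hx
  have hξW : ξ ∈ W := mem_of_nonempty X W x hxW
  rw [← germ_res F hWV x hxW]
  set m' := res F hWV m with hm'
  have h1 : F.presheaf.germ W ξ hξW m' = 0 := by rw [hm', germ_res, hm]
  obtain ⟨W', hW'W, hξW', h2⟩ := exists_res_eq_zero_of_germ_eq_zero F ξ hξW m' h1
  obtain ⟨r, hrW', hξr⟩ := hW.exists_basicOpen_le ⟨ξ, hξW'⟩ hξW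
  have h3 : res F (X.basicOpen_le r) m' = 0 := by
    rw [← res_res F hW'W hrW', h2, map_zero]
  obtain ⟨n, hn⟩ := exists_pow_smul_eq_zero F hW r m' h3
  have h4 : X.presheaf.germ W x hxW (r ^ n) • F.presheaf.germ W x hxW m' = 0 := by
    rw [← germ_smul, hn, map_zero]
  have hne : X.presheaf.germ W x hxW (r ^ n) ≠ 0 := by
    intro h0
    have h0' : X.presheaf.germ W x hxW (r ^ n) = X.presheaf.germ W x hxW 0 := by
      rw [h0, map_zero]
    obtain ⟨W₂, hxW₂, i₁, i₂, e⟩ := X.presheaf.germ_eq x hxW hxW _ _ h0'
    have hξW₂ : ξ ∈ W₂ := mem_of_nonempty X W₂ x hxW₂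
    have h5 : X.presheaf.germ W ξ hξW (r ^ n) = 0 := by
      rw [← X.presheaf.germ_res_apply i₁ ξ hξW₂, e, map_zero, map_zero]
    have hu : IsUnit (X.presheaf.germ W ξ hξW (r ^ n)) := by
      rw [map_pow]
      exact ((X.mem_basicOpen r ξ hξW).mp hξr).pow n
    rw [h5] at hu
    exact not_isUnit_zero hu
  haveI := hF x
  have hreg : IsSMulRegular (F.presheaf.stalk x) (X.presheaf.germ W x hxW (r ^ n)) :=
    Module.IsTorsionFree.isSMulRegular (isRegular_of_ne_zero hne)
  apply hreg
  change X.presheaf.germ W x hxW (r ^ n) • F.presheaf.germ W x hxW m' =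
    X.presheaf.germ W x hxW (r ^ n) • 0
  rw [h4, smul_zero]

theorem mono_toKX [F.IsQuasicoherent] (hF : TorSh.IsTorsionFree F)
    (hg : Function.Injective g) : Mono (toKX X F g) := by
  rw [mono_iff_app_injective]
  intro V
  rw [injective_iff_map_eq_zero]
  intro m hm
  by_cases h : ξ ∈ V
  · rw [toKX_app, secMap_of_mem X F g V h] at hm
    have h1 : toN X V (g (F.presheaf.germ V ξ h m)) = 0 := hm
    have h2 : g (F.presheaf.germ V ξ h m) = 0 := by
      apply toN_injective X V h
      rw [h1, map_zero]
    have h3 : F.presheaf.germ V ξ h m = 0 := by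
      apply hg
      rw [h2, map_zero]
    exact germ_injective X F hF V h m h3
  · apply eq_zero_of_germ_eq_zero
    intro x hx
    exact absurd (mem_of_nonempty X V x hx) h

end helpers

open AlgebraicGeometry in
open CategoryTheory in

open AlgebraicGeometry in
open CategoryTheory in
/-- Direct assertion (the sheaf of rational functions of the integral scheme X being the direct image of
the structure sheaf of Spec of the function field under its canonical morphism to X). On an integral
scheme, a quasi-coherent torsion-free O_X-module of rank 1, i.e. whose stalk at the generic point is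
one-dimensional over the function field (for instance an invertible module), is isomorphic to a
sub-O_X-module of the sheaf of rational functions. (The published statement adds a converse, which
for the zero submodule does not hold as stated; it is not included here.) -/
theorem result
    (X : Scheme.{u}) [IsIntegral X] (F : X.Modules) [Coh.IsQCoh F] (hF : TorSh.IsTorsionFree F)
    (h1 : Module.finrank (X.presheaf.stalk (genericPoint X)) (F.presheaf.stalk (genericPoint X)) = 1) :
    ∃ i : F ⟶ (Scheme.Modules.pushforward (X.fromSpecStalk (genericPoint X))).obj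
        (Coh.structureModule (Spec (X.presheaf.stalk (genericPoint X)))), Mono i := by
  haveI : F.IsQuasicoherent := ‹Coh.IsQCoh F›
  letI : Field (X.presheaf.stalk (genericPoint X)) := (inferInstance : Field X.functionField)
  haveI : Module.Finite (X.presheaf.stalk (genericPoint X)) (F.presheaf.stalk (genericPoint X)) :=
    Module.finite_of_finrank_pos (by rw [h1]; exact Nat.one_pos)
  have e : F.presheaf.stalk (genericPoint X) ≃ₗ[X.presheaf.stalk (genericPoint X)]
      X.presheaf.stalk (genericPoint X) :=
    LinearEquiv.ofFinrankEq _ _ (by rw [h1, Module.finrank_self])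
  exact ⟨toKX X F e.toLinearMap, mono_toKX X F e.toLinearMap hF e.injective⟩

end Groth.Agent.S4350
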