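import Groth.Statements.S4356
import Mathlib
import Mathlib
import Groth.Agent.S4350

set_option autoImplicit false
universe u
open TorSh

namespace Groth.Agent.S4356


open AlgebraicGeometry
open CategoryTheory
section helpers

open AlgebraicGeometry CategoryTheory CategoryTheory.Limits TopologicalSpace Opposite
open Groth.Agent.Lib.Helper29.QCoh Groth.Agent.S4350

variable (X : Scheme.{u}) [IsIntegral X]

local notation "ξ" => genericPoint X
local notation "K" => X.presheaf.stalk (genericPoint X)

theorem toN_surjective (V : X.Opens) (h : ξ ∈ V) : Function.Surjective (toN X V) := by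
  unfold toN
  rw [RingHom.coe_comp]
  refine Function.Surjective.comp (res_bijective_of_eq_top _ _ (preimage_eq_top X V h)).2 ?_
  exact (ConcreteCategory.bijective_of_isIso (Scheme.ΓSpecIso K).inv).2

theorem exists_toN (V : X.Opens) (h : ξ ∈ V) (σ : Γ(KX X, V)) :
    ∃ a : K, σ = (show Γ(KX X, V) from toUnit (toN X V a)) := by
  obtain ⟨a, ha⟩ := toN_surjective X V h
    (show Γ(Spec K, (X.fromSpecStalk ξ) ⁻¹ᵁ V) from σ)
  exact ⟨a, ha.symm⟩

theorem smul_toN (V : X.Opens) (h : ξ ∈ V) (f : Γ(X, V)) (a : K) :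
    f • (show Γ(KX X, V) from toUnit (toN X V a)) =
      (show Γ(KX X, V) from toUnit (toN X V (X.presheaf.germ V ξ h f * a))) := by
  rw [pushforward_smul, app_eq_toN X V h, map_mul]
  rfl

theorem res_toN {V V' : X.Opens} (hVV : V' ≤ V) (a : K) :
    res (KX X) hVV (show Γ(KX X, V) from toUnit (toN X V a)) =
      (show Γ(KX X, V') from toUnit (toN X V' a)) := by
  rw [pushforward_res, ← toN_res X hVV]
  rfl

theorem toN_eq_zero (V : X.Opens) (h : ξ ∈ V) (a : K)
    (h0 : (show Γ(KX X, V) from toUnit (toN X V a)) = 0) : a = 0 := by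
  apply toN_injective X V h
  rw [map_zero]
  exact h0

theorem exists_rep (G : X.Modules) (x : X) (r : X.presheaf.stalk x) (m : G.presheaf.stalk x)
    (h : r • m = 0) :
    ∃ (U : X.Opens) (hx : x ∈ U) (f : Γ(X, U)) (s : Γ(G, U)),
      X.presheaf.germ U x hx f = r ∧ G.presheaf.germ U x hx s = m ∧ f • s = 0 := by
  obtain ⟨V, hxV, s, rfl⟩ := G.presheaf.exists_germ_eq m
  obtain ⟨W, hxW, f, rfl⟩ := X.presheaf.exists_germ_eq r
  have hxVW : x ∈ V ⊓ W := ⟨hxV, hxW⟩
  set s' := res G (inf_le_left : V ⊓ W ≤ V) s with hs'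
  set f' := X.presheaf.map (homOfLE (inf_le_right : V ⊓ W ≤ W)).op f with hf'
  have e1 : G.presheaf.germ (V ⊓ W) x hxVW s' = G.presheaf.germ V x hxV s := germ_res G _ x hxVW s
  have e2 : X.presheaf.germ (V ⊓ W) x hxVW f' = X.presheaf.germ W x hxW f :=
    X.presheaf.germ_res_apply (homOfLE (inf_le_right : V ⊓ W ≤ W)) x hxVW f
  have h1 : G.presheaf.germ (V ⊓ W) x hxVW (f' • s') = 0 := by
    rw [germ_smul, e1, e2]; exact h
  obtain ⟨W', hW', hxW', h2⟩ := exists_res_eq_zero_of_germ_eq_zero G x hxVW _ h1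
  refine ⟨W', hxW', X.presheaf.map (homOfLE hW').op f', res G hW' s', ?_, ?_, ?_⟩
  · rw [X.presheaf.germ_res_apply (homOfLE hW') x hxW' f', e2]
  · rw [germ_res, e1]
  · rw [← res_smul]; exact h2

end helpers

open Groth.Agent.Lib.Helper29.QCoh Groth.Agent.S4350

open AlgebraicGeometry in
open CategoryTheory in
/-- Converse assertion (the sheaf of rational functions of the integral scheme X being modelled as the
direct image of the structure sheaf of Spec of the function field under its canonical morphism to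
X). On an integral scheme, a nonzero quasi-coherent sub-O_X-module of the sheaf of rational
functions is torsion-free of rank 1: every stalk is a torsion-free module over the local ring, and
the stalk at the generic point is one-dimensional over the function field. (The published statement
does not exclude the zero submodule, whose generic stalk has dimension 0; it is excluded here.) -/
theorem result
    (X : Scheme.{u}) [IsIntegral X] (G : X.Modules) [Coh.IsQCoh G]
    (i : G ⟶ (Scheme.Modules.pushforward (X.fromSpecStalk (genericPoint X))).obj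
        (Coh.structureModule (Spec (X.presheaf.stalk (genericPoint X))))) [Mono i]
    (hG : ¬ Limits.IsZero G) :
    TorSh.IsTorsionFree G ∧
      Module.finrank (X.presheaf.stalk (genericPoint X)) (G.presheaf.stalk (genericPoint X)) = 1 := by

  haveI : G.IsQuasicoherent := ‹Coh.IsQCoh G›
  have hinj := (mono_iff_app_injective i).mp inferInstance
  -- torsion-freeness
  have hTF : TorSh.IsTorsionFree G := by
    intro x
    have key : ∀ (r : X.presheaf.stalk x) (m : G.presheaf.stalk x), IsRegular r → r • m = 0 →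
        m = 0 := by
      intro r m hr hrm
      obtain ⟨U, hxU, f, s, rfl, rfl, hfs⟩ := exists_rep X G x r m hrm
      have hξU : genericPoint X ∈ U := mem_of_nonempty X U x hxU
      obtain ⟨a, ha⟩ := exists_toN X U hξU (i.app U s)
      have h1 : i.app U (f • s) = 0 := by rw [hfs, map_zero]
      rw [Scheme.Modules.Hom.app_smul, ha, smul_toN X U hξU] at h1
      have h2 := toN_eq_zero X U hξU _ h1
      have hf0 : f ≠ 0 := by
        intro h0
        have := hr.ne_zero
        rw [h0, map_zero] at this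
        exact this rfl
      have hfξ : X.presheaf.germ U (genericPoint X) hξU f ≠ 0 := by
        intro h0
        apply hf0
        apply germ_injective_of_isIntegral X (genericPoint X) hξU
        rw [h0, map_zero]
      have ha0 : a = 0 := (mul_eq_zero.mp h2).resolve_left hfξ
      have hs0 : s = 0 := by
        apply hinj U
        rw [ha, ha0, map_zero, map_zero]
        rfl
      rw [hs0, map_zero]
    refine ⟨fun r hr m₁ m₂ h => ?_⟩
    have : r • (m₁ - m₂) = 0 := by
      rw [smul_sub, sub_eq_zero]; exact h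
    exact sub_eq_zero.mp (key r _ hr this)
  refine ⟨hTF, ?_⟩
  haveI := hTF (genericPoint X)
  -- a nonzero section
  have hex : ∃ (V : X.Opens) (s : Γ(G, V)), s ≠ 0 := by
    by_contra hcon
    push_neg at hcon
    apply hG
    rw [Limits.IsZero.iff_id_eq_zero]
    ext U m
    rw [hcon U m, map_zero, map_zero]
  obtain ⟨V, s₀, hs₀⟩ := hex
  have hξV : genericPoint X ∈ V := by
    by_contra hn
    haveI := subsingleton_of_notMem X V hn
    apply hs₀
    apply hinj V
    exact Subsingleton.elim _ _
  obtain ⟨a₀, ha₀⟩ := exists_toN X V hξV (i.app V s₀)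
  have ha₀ne : a₀ ≠ 0 := by
    intro h0
    apply hs₀
    apply hinj V
    rw [ha₀, h0, map_zero, map_zero]
    rfl
  have hm₀ : G.presheaf.germ V (genericPoint X) hξV s₀ ≠ 0 := by
    intro h0
    obtain ⟨W, hWV, hξW, h2⟩ := exists_res_eq_zero_of_germ_eq_zero G _ hξV s₀ h0
    have h3 : i.app W (res G hWV s₀) = 0 := by rw [h2, map_zero]
    rw [app_res, ha₀, res_toN] at h3
    exact ha₀ne (toN_eq_zero X W hξW _ h3)
  refine _root_.finrank_eq_one _ hm₀ ?_
  intro w
  obtain ⟨V₁, hξV₁, s, rfl⟩ := G.presheaf.exists_germ_eq w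
  obtain ⟨a, ha⟩ := exists_toN X V₁ hξV₁ (i.app V₁ s)
  letI : Field (X.presheaf.stalk (genericPoint X)) := (inferInstance : Field X.functionField)
  obtain ⟨V₂, hξV₂, h, hh⟩ := X.presheaf.exists_germ_eq
    (a * a₀⁻¹ : X.presheaf.stalk (genericPoint X))
  refine ⟨a * a₀⁻¹, ?_⟩
  -- work on W = V ⊓ V₁ ⊓ V₂
  have hξW : genericPoint X ∈ V ⊓ V₁ ⊓ V₂ := ⟨⟨hξV, hξV₁⟩, hξV₂⟩
  have l0 : V ⊓ V₁ ⊓ V₂ ≤ V := inf_le_left.trans inf_le_left
  have l1 : V ⊓ V₁ ⊓ V₂ ≤ V₁ := inf_le_left.trans inf_le_right
  have l2 : V ⊓ V₁ ⊓ V₂ ≤ V₂ := inf_le_right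
  set h' := X.presheaf.map (homOfLE l2).op h with hh'
  have e2 : X.presheaf.germ (V ⊓ V₁ ⊓ V₂) (genericPoint X) hξW h' = a * a₀⁻¹ := by
    rw [hh', X.presheaf.germ_res_apply (homOfLE l2) (genericPoint X) hξW h, hh]
  have key : res G l1 s = h' • res G l0 s₀ := by
    apply hinj (V ⊓ V₁ ⊓ V₂)
    rw [Scheme.Modules.Hom.app_smul, app_res, app_res, ha, ha₀, res_toN, res_toN,
      smul_toN X _ hξW, e2, mul_assoc, inv_mul_cancel₀ ha₀ne, mul_one]
  rw [← germ_res G l1 (genericPoint X) hξW s, key, germ_smul, e2, germ_res]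

end Groth.Agent.S4356
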