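import Groth.Statements.S4359
-- import your own Groth.Agent.* helpers here

set_option autoImplicit false
universe u
open FinCond

namespace Groth.Agent.S4359

open AlgebraicGeometry in
open CategoryTheory in
/-- Let S be a locally Noetherian scheme, p : X -> S a morphism of finite type (locally of finite type
and quasi-compact) and q : Y -> S any morphism. Then every morphism f : X -> Y with f followed by q
equal to p is of finite type, that is, locally of finite type and quasi-compact. -/
theorem result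
    {X Y S : Scheme.{u}} [IsLocallyNoetherian S] (p : X ⟶ S) (q : Y ⟶ S)
    [LocallyOfFiniteType p] [QuasiCompact p] (f : X ⟶ Y) (hf : f ≫ q = p) :
    LocallyOfFiniteType f ∧ QuasiCompact f := by
  have hX : IsLocallyNoetherian X := LocallyOfFiniteType.isLocallyNoetherian p
  refine ⟨?_, ⟨fun K hKo hKc => ?_⟩⟩
  · subst hf; exact locallyOfFiniteType_of_comp f q
  · have hcov : ∀ y : Y, ∃ V : S.Opens, IsAffineOpen V ∧ q y ∈ V := fun y => by
      obtain ⟨_, ⟨V, hV, rfl⟩, hyV, -⟩ :=
        S.isBasis_affineOpens.exists_subset_of_mem_open (Set.mem_univ (q y)) isOpen_univ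
      exact ⟨V, hV, hyV⟩
    choose V hV hyV using hcov
    obtain ⟨t, ht⟩ := hKc.elim_finite_subcover (fun y => ((q ⁻¹ᵁ V y : Y.Opens) : Set Y))
      (fun y => (q ⁻¹ᵁ V y).2) (fun y _ => Set.mem_iUnion.mpr ⟨y, hyV y⟩)
    have hN : ∀ i : t, TopologicalSpace.NoetherianSpace
        ((fun i : t => ((p ⁻¹ᵁ V i : X.Opens) : Set X)) i) := fun i => by
      have hc : CompactSpace ↥(p ⁻¹ᵁ V i : X.Opens).toScheme :=
        isCompact_iff_compactSpace.mp (p.isCompact_preimage (hV i).isCompact)
      have : AlgebraicGeometry.IsNoetherian (p ⁻¹ᵁ V i : X.Opens).toScheme := ⟨⟩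
      exact (inferInstance : TopologicalSpace.NoetherianSpace ↥(p ⁻¹ᵁ V i : X.Opens).toScheme)
    have hW : TopologicalSpace.NoetherianSpace (⋃ i : t, ((p ⁻¹ᵁ V i : X.Opens) : Set X)) :=
      TopologicalSpace.NoetherianSpace.iUnion (fun i : t => ((p ⁻¹ᵁ V i : X.Opens) : Set X))
    refine (TopologicalSpace.noetherianSpace_set_iff _).mp hW _ ?_
    intro x hx
    have := ht hx
    simp only [Set.mem_iUnion] at this ⊢
    obtain ⟨i, hi, hy⟩ := this
    refine ⟨⟨i, hi⟩, ?_⟩
    subst hf
    exact hy

end Groth.Agent.S4359
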