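import Groth.Statements.S4360
-- import your own Groth.Agent.* helpers here

set_option autoImplicit false
universe u
open FinCond

namespace Groth.Agent.S4360

open AlgebraicGeometry in
open CategoryTheory in
/-- Let f : X -> Y be an immersion and suppose that the underlying space of Y is locally Noetherian,
i.e. every point of Y has an open neighbourhood which is a Noetherian topological space. Then f is
quasi-compact (and hence of finite type, an immersion being locally of finite type). -/
theorem result
    {X Y : Scheme.{u}} (f : X ⟶ Y) [IsImmersion f]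
    (hY : ∀ y : Y, ∃ U : Y.Opens, y ∈ U ∧ TopologicalSpace.NoetherianSpace U) :
    QuasiCompact f := by
  refine ⟨fun K hKo hKc => ?_⟩
  choose U hyU hU using hY
  obtain ⟨t, ht⟩ := hKc.elim_finite_subcover (fun y => (U y : Set Y)) (fun y => (U y).2)
    (fun y _ => Set.mem_iUnion.mpr ⟨y, hyU y⟩)
  have hU' : ∀ i : t, TopologicalSpace.NoetherianSpace ((fun i : t => (U i : Set Y)) i) :=
    fun i => hU i
  have hW : TopologicalSpace.NoetherianSpace (⋃ i : t, (U i : Set Y)) :=
    TopologicalSpace.NoetherianSpace.iUnion (fun i : t => (U i : Set Y))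
  have hsub : f '' (f ⁻¹' K) ⊆ ⋃ i : t, (U i : Set Y) := by
    refine (Set.image_preimage_subset _ _).trans (ht.trans ?_)
    intro y hy
    simp only [Set.mem_iUnion] at hy ⊢
    obtain ⟨i, hi, hy⟩ := hy
    exact ⟨⟨i, hi⟩, hy⟩
  have := (TopologicalSpace.noetherianSpace_set_iff _).mp hW _ hsub
  exact (f.isEmbedding.isInducing.isCompact_iff).mpr this

end Groth.Agent.S4360
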