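import Groth.Statements.S4361
-- import your own Groth.Agent.* helpers here

set_option autoImplicit false
universe u
open FinCond

namespace Groth.Agent.S4361

open AlgebraicGeometry in
open CategoryTheory in
/-- Let f : X -> Y and g : Y -> Z be morphisms whose composite is quasi-compact, and suppose the
underlying space of X is locally Noetherian (every point has an open neighbourhood which is a
Noetherian topological space). Then f is quasi-compact. (The published statement also covers the
case g separated, which is the standard cancellation property; this row states only the case of a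
locally Noetherian source.) -/
theorem result
    {X Y Z : Scheme.{u}} (f : X ⟶ Y) (g : Y ⟶ Z) [QuasiCompact (f ≫ g)]
    (hX : ∀ x : X, ∃ U : X.Opens, x ∈ U ∧ TopologicalSpace.NoetherianSpace U) :
    QuasiCompact f := by
  choose U hxU hU using hX
  have key : ∀ K : Set X, IsCompact K → ∀ S ⊆ K, IsCompact S := by
    intro K hK S hSK
    obtain ⟨t, ht⟩ := hK.elim_finite_subcover (fun x => (U x : Set X)) (fun x => (U x).isOpen)
      (fun x _ => Set.mem_iUnion.2 ⟨x, hxU x⟩)
    have hN : TopologicalSpace.NoetherianSpace (⋃ x : t, (U x : Set X)) := by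
      have : ∀ x : t, TopologicalSpace.NoetherianSpace ((U x : Set X)) := fun x => hU x
      exact TopologicalSpace.NoetherianSpace.iUnion _
    rw [TopologicalSpace.noetherianSpace_set_iff] at hN
    apply hN
    refine hSK.trans (ht.trans ?_)
    intro x hx
    simp only [Set.mem_iUnion] at hx ⊢
    obtain ⟨i, hi, hx⟩ := hx
    exact ⟨⟨i, hi⟩, hx⟩
  rw [quasiCompact_iff_forall_isAffineOpen]
  intro V hV
  -- cover V by preimages of affine opens in Z
  have hcov : (V : Set Y) ⊆ ⋃ W : Z.affineOpens, (g ⁻¹ᵁ (W : Z.Opens) : Set Y) := by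
    intro y _
    obtain ⟨W, hW, hyW⟩ : ∃ W : Z.Opens, IsAffineOpen W ∧ g y ∈ W := by
      obtain ⟨_, ⟨W, hW, rfl⟩, hyW, -⟩ := Z.isBasis_affineOpens.exists_subset_of_mem_open
        (Set.mem_univ (g y)) isOpen_univ
      exact ⟨W, hW, hyW⟩
    exact Set.mem_iUnion.2 ⟨⟨W, hW⟩, hyW⟩
  obtain ⟨t, ht⟩ := hV.isCompact.elim_finite_subcover _ (fun W : Z.affineOpens => (g ⁻¹ᵁ (W : Z.Opens)).isOpen) hcov
  have hK : IsCompact (⋃ W ∈ t, ((f ≫ g) ⁻¹ᵁ (W : Z.Opens) : Set X)) := by
    refine t.isCompact_biUnion fun W _ => ?_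
    exact QuasiCompact.isCompact_preimage (f := f ≫ g) _ (W : Z.Opens).isOpen W.2.isCompact
  refine key _ hK _ ?_
  intro x hx
  have := ht hx
  simp only [Set.mem_iUnion] at this ⊢
  obtain ⟨W, hW, hxW⟩ := this
  exact ⟨W, hW, hxW⟩

end Groth.Agent.S4361
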