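import Groth.Statements.S4362
-- import your own Groth.Agent.* helpers here

set_option autoImplicit false
universe u
open FinCond

namespace Groth.Agent.S4362

open AlgebraicGeometry in
open CategoryTheory in
/-- If X is a Noetherian scheme, every increasing sequence of quasi-coherent sheaves of ideals of the
structure sheaf is eventually constant; equivalently the ordered set of quasi-coherent ideal sheaves
of X is well-founded for the reverse order. (On a locally Noetherian scheme quasi-coherent and
coherent ideal sheaves coincide.) -/
theorem result
    (X : Scheme.{u}) [IsNoetherian X] : WellFoundedGT X.IdealSheafData := by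
  obtain ⟨s, hs, hs'⟩ := (isCompact_iff_finite_and_eq_biUnion_affineOpens (X := X) (U := ⊤)).mp
    (by simpa using isCompact_univ)
  have hfin : Finite s := hs
  have hcov : ⨆ i : s, ((i : X.affineOpens) : X.Opens) = ⊤ := by
    rw [hs', iSup_subtype']
  rw [wellFoundedGT_iff_monotone_chain_condition]
  intro a
  have hN : ∀ i : s, ∃ n, ∀ m, n ≤ m → (a n).ideal i = (a m).ideal i := by
    intro i
    have : IsNoetherianRing Γ(X, (i : X.affineOpens).1) :=
      IsLocallyNoetherian.component_noetherian _
    have hwf : WellFoundedGT (Ideal Γ(X, (i : X.affineOpens).1)) := inferInstance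
    rw [wellFoundedGT_iff_monotone_chain_condition] at hwf
    exact hwf ⟨fun k => (a k).ideal i, fun k l hkl => Scheme.IdealSheafData.ideal_mono (a.monotone hkl) i⟩
  choose n hn using hN
  obtain ⟨N, hNb⟩ := Finite.bddAbove_range n
  refine ⟨N, fun m hm => ?_⟩
  refine Scheme.IdealSheafData.ext_of_iSup_eq_top (fun i : s => (i : X.affineOpens)) hcov fun i => ?_
  have hi : n i ≤ N := hNb ⟨i, rfl⟩
  rw [← hn i N hi, ← hn i m (hi.trans hm)]

end Groth.Agent.S4362
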