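import Groth.Statements.S4364
-- import your own Groth.Agent.* helpers here

set_option autoImplicit false
universe u
open FinCond

namespace Groth.Agent.S4364

open AlgebraicGeometry in
open CategoryTheory in
/-- Let X and Y be S-schemes with Y locally of finite type over S, and let f, g : X -> Y be S-morphisms.
If f x = g x for some point x and the two induced homomorphisms of local rings O_{Y, f x} -> O_{X,
x} coincide, then f and g coincide on an open neighbourhood of x. No condition is imposed on X. (The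
published statement assumes Y of finite type over S; this row assumes Y only locally of finite type
over S, which is all the published proof uses.) -/
theorem result
    {X Y S : Scheme.{u}} (sX : X ⟶ S) (sY : Y ⟶ S) [LocallyOfFiniteType sY]
    (f g : X ⟶ Y) (hf : f ≫ sY = sX) (hg : g ≫ sY = sX) {x : X} (e : f x = g x)
    (H : f.stalkMap x =
      Y.presheaf.stalkSpecializes (Inseparable.of_eq e.symm).specializes ≫ g.stalkMap x) :
    ∃ U : X.Opens, x ∈ U ∧ U.ι ≫ f = U.ι ≫ g := by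
  classical
  obtain ⟨_, ⟨S₀ : S.Opens, hS₀, rfl⟩, hxS₀, -⟩ :=
    S.isBasis_affineOpens.exists_subset_of_mem_open (Set.mem_univ (sY (f x))) isOpen_univ
  obtain ⟨_, ⟨V : Y.Opens, hV, rfl⟩, hxV, hVS₀⟩ :=
    Y.isBasis_affineOpens.exists_subset_of_mem_open
      (show f x ∈ (sY ⁻¹ᵁ S₀ : Set Y) from hxS₀) (sY ⁻¹ᵁ S₀).isOpen
  have hVS₀' : V ≤ sY ⁻¹ᵁ S₀ := hVS₀
  have hxV' : g x ∈ V := e ▸ hxV
  have hft : (sY.appLE S₀ V hVS₀').hom.FiniteType := sY.finiteType_appLE hS₀ hV hVS₀'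
  let alg : Algebra Γ(S, S₀) Γ(Y, V) := (sY.appLE S₀ V hVS₀').hom.toAlgebra
  obtain ⟨t, ht⟩ := hft.out
  -- germs agree
  have hW : ∀ b : Γ(Y, V), ∃ W : X.Opens, x ∈ W ∧ ∃ (hWf : W ≤ f ⁻¹ᵁ V) (hWg : W ≤ g ⁻¹ᵁ V),
      f.appLE V W hWf b = g.appLE V W hWg b := by
    intro b
    have h1 : X.presheaf.germ (f ⁻¹ᵁ V) x hxV (f.app V b) =
        X.presheaf.germ (g ⁻¹ᵁ V) x hxV' (g.app V b) := by
      have hf1 := congr($(f.germ_stalkMap V x hxV) b)
      have hg1 := congr($(g.germ_stalkMap V x hxV') b)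
      simp only [CommRingCat.comp_apply] at hf1 hg1
      rw [← hf1, ← hg1, H]
      simp only [CommRingCat.comp_apply]
      congr 1
      exact congr($(Y.presheaf.germ_stalkSpecializes hxV (Inseparable.of_eq e.symm).specializes) b)
    obtain ⟨W, hxW, iU, iV, hW⟩ := X.presheaf.germ_eq x hxV hxV' _ _ h1
    exact ⟨W, hxW, iU.le, iV.le, hW⟩
  have hU : ∃ U : X.Opens, x ∈ U ∧ ∃ (hUf : U ≤ f ⁻¹ᵁ V) (hUg : U ≤ g ⁻¹ᵁ V),
      ∀ b ∈ t, f.appLE V U hUf b = g.appLE V U hUg b := by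
    clear ht
    induction t using Finset.induction_on with
    | empty => exact ⟨f ⁻¹ᵁ V ⊓ g ⁻¹ᵁ V, ⟨hxV, hxV'⟩, inf_le_left, inf_le_right, by simp⟩
    | insert b₀ t _ ih =>
      obtain ⟨U, hxU, hUf, hUg, hU⟩ := ih
      obtain ⟨W, hxW, hWf, hWg, hW⟩ := hW b₀
      refine ⟨U ⊓ W, ⟨hxU, hxW⟩, inf_le_left.trans hUf, inf_le_left.trans hUg, ?_⟩
      intro b hb
      rw [Finset.mem_insert] at hb
      rcases hb with rfl | hb
      · rw [← f.appLE_map hWf (homOfLE (inf_le_right : U ⊓ W ≤ W)).op,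
          ← g.appLE_map hWg (homOfLE (inf_le_right : U ⊓ W ≤ W)).op]
        simp only [CommRingCat.comp_apply, hW]
      · rw [← f.appLE_map hUf (homOfLE (inf_le_left : U ⊓ W ≤ U)).op,
          ← g.appLE_map hUg (homOfLE (inf_le_left : U ⊓ W ≤ U)).op]
        simp only [CommRingCat.comp_apply, hU b hb]
  obtain ⟨U, hxU, hUf, hUg, hU⟩ := hU
  have hcongr : ∀ (φ : X ⟶ S) (_ : φ = sX) (e₁ e₂), φ.appLE S₀ U e₁ = sX.appLE S₀ U e₂ := by
    rintro _ rfl _ _; rfl
  have hUS : U ≤ sX ⁻¹ᵁ S₀ := by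
    intro z hz
    have : (f ≫ sY) z ∈ S₀ := hVS₀' (hUf hz)
    rwa [hf] at this
  have key : f.appLE V U hUf = g.appLE V U hUg := by
    ext y
    have hy : y ∈ Algebra.adjoin Γ(S, S₀) (t : Set Γ(Y, V)) := ht ▸ Algebra.mem_top
    induction hy using Algebra.adjoin_induction with
    | mem b hb => exact hU b hb
    | algebraMap r =>
      change (sY.appLE S₀ V hVS₀' ≫ f.appLE V U hUf) r = (sY.appLE S₀ V hVS₀' ≫ g.appLE V U hUg) r
      rw [Scheme.Hom.appLE_comp_appLE, Scheme.Hom.appLE_comp_appLE,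
        hcongr (f ≫ sY) hf _ hUS, hcongr (g ≫ sY) hg _ hUS]
    | add a b _ _ ha hb => rw [map_add, map_add, ha, hb]
    | mul a b _ _ ha hb => rw [map_mul, map_mul, ha, hb]
  refine ⟨U, hxU, ?_⟩
  rw [← Scheme.Hom.resLE_comp_ι _ hUf, ← Scheme.Hom.resLE_comp_ι _ hUg]
  congr 1
  have : IsAffine V := hV
  suffices ∀ (U₀ V₀) (eU : U = U₀) (eV : V = V₀),
      f.appLE V₀ U₀ (eU ▸ eV ▸ hUf) = g.appLE V₀ U₀ (eU ▸ eV ▸ hUg) by
    rw [← cancel_mono V.toScheme.isoSpec.hom]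
    simp only [Scheme.isoSpec, asIso_hom, Scheme.toSpecΓ_naturality,
      Scheme.Hom.app_eq_appLE, Scheme.Hom.resLE_appLE]
    congr 2
    apply this <;> simp
  rintro U V rfl rfl
  exact key

end Groth.Agent.S4364
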