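import Groth.Statements.S4366
import Mathlib

set_option autoImplicit false
universe u
open SchMor

namespace Groth.Agent.S4366


open AlgebraicGeometry
open CategoryTheory
open CategoryTheory.Limits
open AlgebraicGeometry CategoryTheory CategoryTheory.Limits

theorem flat_fromSpecStalk_aff {X : Scheme.{u}} {U : X.Opens} (hU : IsAffineOpen U) (x : X)
    (hx : x ∈ U) : Flat (hU.fromSpecStalk hx) := by
  dsimp [IsAffineOpen.fromSpecStalk]
  have : Flat (Spec.map (X.presheaf.germ U x hx)) := by
    rw [Flat.SpecMap_iff]
    letI : Algebra Γ(X, U) (X.presheaf.stalk x) := (X.presheaf.germ U x hx).hom.toAlgebra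
    haveI := hU.isLocalization_stalk ⟨x, hx⟩
    show (algebraMap Γ(X, U) (X.presheaf.stalk x)).Flat
    rw [RingHom.flat_algebraMap_iff]
    exact IsLocalization.flat _ (hU.primeIdealOf ⟨x, hx⟩).asIdeal.primeCompl
  infer_instance

theorem flat_fromSpecStalk (X : Scheme.{u}) (x : X) : Flat (X.fromSpecStalk x) :=
  flat_fromSpecStalk_aff _ _ _

open AlgebraicGeometry in
open CategoryTheory in
open CategoryTheory.Limits in
/-- Let f : X -> Y be a morphism, y a point of Y and Z = Spec O_{Y,y} the local scheme of Y at y with
its canonical morphism to Y. Then the projection p : X x_Y Z -> X induces isomorphisms on all local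
rings: for every point t of X x_Y Z the homomorphism O_{X, p t} -> O_{X x_Y Z, t} is bijective. (The
published statement also asserts that p is a homeomorphism onto the preimage of Z; that part is not
stated here.) -/
theorem result
    {X Y : Scheme.{u}} (f : X ⟶ Y) (y : Y) (t : ↑(pullback f (Y.fromSpecStalk y))) :
    IsIso ((pullback.fst f (Y.fromSpecStalk y)).stalkMap t) := by

  haveI : Flat (Y.fromSpecStalk y) := flat_fromSpecStalk Y y
  have hsurj : Function.Surjective ((pullback.fst f (Y.fromSpecStalk y)).stalkMap t) :=
    Scheme.Hom.stalkMap_surjective (pullback.fst f (Y.fromSpecStalk y)) t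
  have hinj : Function.Injective ((pullback.fst f (Y.fromSpecStalk y)).stalkMap t) := by
    set g := pullback.fst f (Y.fromSpecStalk y) with hg
    algebraize [(g.stalkMap t).hom]
    have : Module.FaithfullyFlat (X.presheaf.stalk (g t)) ((pullback f (Y.fromSpecStalk y)).presheaf.stalk t) :=
      @Module.FaithfullyFlat.of_flat_of_isLocalHom _ _ _ _ _ _ _
        (Flat.stalkMap g t) (g.toLRSHom.prop t)
    exact ‹RingHom.FaithfullyFlat _›.injective
  exact (ConcreteCategory.isIso_iff_bijective _).mpr ⟨hinj, hsurj⟩

end Groth.Agent.S4366
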