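import Groth.Statements.S4368
-- import your own Groth.Agent.* helpers here

set_option autoImplicit false
universe u
open RedSep

namespace Groth.Agent.S4368

open AlgebraicGeometry in
open CategoryTheory in
/-- Let X be a scheme and I a quasi-coherent sheaf of ideals of O_X whose support is all of X, so that
the closed subscheme it defines has underlying space X. Then that closed subscheme is reduced if and
only if I is the nilradical of O_X. In particular the closed subscheme defined by the nilradical is
the unique reduced closed subscheme of X with underlying space X (and, the support condition being
equivalent to I being contained in the nilradical, the smallest one). -/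
theorem result
    (X : Scheme.{u}) (I : X.IdealSheafData) (hI : I.support = ⊤) :
    IsReduced I.subscheme ↔ I = X.nilradical := by
  have h1 : IsReduced I.subscheme ↔ ∀ U : X.affineOpens, (I.ideal U).IsRadical := by
    rw [IsReduced.iff_of_openCover (𝒰 := I.subschemeCover.openCover)]
    change (∀ U : X.affineOpens, IsReduced (Spec (CommRingCat.of (Γ(X, U) ⧸ I.ideal U)))) ↔ _
    refine forall_congr' fun U => ?_
    rw [affine_isReduced_iff, Ideal.isRadical_iff_quotient_reduced]
  have h2 : I.radical = X.nilradical := by
    rw [← Scheme.IdealSheafData.vanishingIdeal_support, hI, Scheme.IdealSheafData.vanishingIdeal_top]
  rw [h1, ← h2]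
  constructor
  · intro h
    ext U : 2
    exact (h U).radical.symm
  · intro h U
    rw [h]
    exact Ideal.radical_isRadical _

end Groth.Agent.S4368
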