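import Groth.Statements.S4369
-- import your own Groth.Agent.* helpers here

set_option autoImplicit false
universe u
open AffSch

namespace Groth.Agent.S4369

/-- Let φ : A' -> A be a ring homomorphism such that every f in A can be written f = h φ(f') with h
invertible in A (this holds in particular when φ is surjective). Then the associated continuous map
Spec A -> Spec A' is a homeomorphism onto its image. -/
theorem result
    {A' A : Type u} [CommRing A'] [CommRing A] (φ : A' →+* A)
    (h : ∀ f : A, ∃ (u : Aˣ) (f' : A'), f = (u : A) * φ f') :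
    Topology.IsEmbedding (PrimeSpectrum.comap φ) := by
  choose u f' huf using h
  have key : ∀ (p : Ideal A) (f : A), f ∈ p ↔ φ (f' f) ∈ p := by
    intro p f
    conv_lhs => rw [huf f]
    exact Ideal.unit_mul_mem_iff_mem p (u f).isUnit
  refine ⟨⟨?_⟩, ?_⟩
  · refine TopologicalSpace.ext_isClosed fun Z => ?_
    simp_rw [isClosed_induced_iff, PrimeSpectrum.isClosed_iff_zeroLocus, @eq_comm _ _ (PrimeSpectrum.zeroLocus _),
      exists_exists_eq_and, PrimeSpectrum.preimage_comap_zeroLocus]
    constructor
    · rintro ⟨s, rfl⟩
      refine ⟨f' '' s, ?_⟩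
      ext p
      simp only [PrimeSpectrum.mem_zeroLocus, Set.subset_def, Set.mem_image, SetLike.mem_coe]
      constructor
      · rintro hp f hf
        rw [key]
        exact hp _ ⟨_, ⟨f, hf, rfl⟩, rfl⟩
      · rintro hp _ ⟨_, ⟨f, hf, rfl⟩, rfl⟩
        rw [← key]
        exact hp f hf
    · rintro ⟨s, rfl⟩
      exact ⟨_, rfl⟩
  · intro p q hpq
    ext f
    rw [key p.asIdeal f, key q.asIdeal f]
    have := congrArg (fun x : PrimeSpectrum A' => f' f ∈ x.asIdeal) hpq
    simpa using this

end Groth.Agent.S4369
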