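import Groth.Statements.S4370
import Mathlib.AlgebraicGeometry.Morphisms.ClosedImmersion
import Mathlib.AlgebraicGeometry.PullbackCarrier
import Mathlib.AlgebraicGeometry.Properties
-- import your own Groth.Agent.* helpers here

set_option autoImplicit false
universe u
open RedSep

namespace Groth.Agent.S4370

open AlgebraicGeometry CategoryTheory CategoryTheory.Limits

/-- The closed subscheme defined by the nilradical is reduced. -/
theorem isReduced_nilradical_subscheme (X : Scheme.{u}) : IsReduced X.nilradical.subscheme := by
  rw [IsReduced.iff_of_openCover (𝒰 := X.nilradical.subschemeCover.openCover)]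
  change (∀ U : X.affineOpens,
    IsReduced (Spec (CommRingCat.of (Γ(X, U) ⧸ X.nilradical.ideal U))))
  intro U
  rw [affine_isReduced_iff]
  change _root_.IsReduced (Γ(X, U) ⧸ X.nilradical.ideal U)
  rw [← Ideal.isRadical_iff_quotient_reduced]
  exact Ideal.radical_isRadical _

/-- The kernel of a surjective closed immersion from a reduced scheme is the nilradical. -/
theorem ker_eq_nilradical {P X : Scheme.{u}} (i : P ⟶ X) [IsClosedImmersion i] [Surjective i]
    [IsReduced P] : i.ker = X.nilradical := by
  apply le_antisymm
  · have hsupp : i.ker.support = ⊤ := by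
      rw [← SetLike.coe_injective.eq_iff, Scheme.Hom.support_ker]
      simp [i.surjective.range_eq]
    calc i.ker ≤ i.ker.radical := Scheme.IdealSheafData.le_radical _
      _ = X.nilradical := by
        rw [← Scheme.IdealSheafData.vanishingIdeal_support, hsupp,
          Scheme.IdealSheafData.vanishingIdeal_top]
  · change X.nilradical ≤ Scheme.IdealSheafData.ofIdeals fun U => RingHom.ker (i.app U).hom
    rw [Scheme.IdealSheafData.le_ofIdeals_iff]
    intro U s hs
    change s ∈ (⊥ : Ideal Γ(X, U)).radical at hs
    obtain ⟨n, hn⟩ := hs
    rw [RingHom.mem_ker]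
    have : IsNilpotent ((i.app U).hom s) := ⟨n, by rw [← map_pow, hn, map_zero]⟩
    exact this.eq_zero

/-- Let f : X -> Y be an open immersion and let g : X_red -> Y_red be the morphism of reduced schemes
induced by f, i.e. the morphism between the closed subschemes defined by the nilradicals whose
composite with the inclusion of Y_red in Y is the inclusion of X_red in X followed by f. Then g is
an open immersion. -/
theorem result
    {X Y : Scheme.{u}} (f : X ⟶ Y) [IsOpenImmersion f]
    (g : X.nilradical.subscheme ⟶ Y.nilradical.subscheme)
    (hg : g ≫ Y.nilradical.subschemeι = X.nilradical.subschemeι ≫ f) :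
    IsOpenImmersion g := by
  let h : X.nilradical.subscheme ⟶ pullback f Y.nilradical.subschemeι :=
    pullback.lift X.nilradical.subschemeι g hg.symm
  have h1 : h ≫ pullback.fst _ _ = X.nilradical.subschemeι := pullback.lift_fst ..
  have h2 : h ≫ pullback.snd _ _ = g := pullback.lift_snd ..
  have : IsReduced Y.nilradical.subscheme := isReduced_nilradical_subscheme Y
  have : IsReduced (pullback f Y.nilradical.subschemeι) :=
    isReduced_of_isOpenImmersion (pullback.snd _ _)
  have : Surjective Y.nilradical.subschemeι := by
    rw [surjective_iff, ← Set.range_eq_univ, Scheme.IdealSheafData.range_subschemeι]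
    rfl
  have : Surjective (pullback.fst f Y.nilradical.subschemeι) :=
    MorphismProperty.pullback_fst (P := @Surjective) _ _ inferInstance
  have hker : (pullback.fst f Y.nilradical.subschemeι).ker = X.nilradical := ker_eq_nilradical _
  have : IsIso h := IsClosedImmersion.isIso_of_ker_eq _ _ h h1
    (by rw [Scheme.IdealSheafData.ker_subschemeι, hker])
  rw [← h2]
  infer_instance

end Groth.Agent.S4370
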