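import Groth.Statements.S4371
import Mathlib.Algebra.MvPolynomial.Division
-- import your own Groth.Agent.* helpers here

set_option autoImplicit false
universe u
open RedSep

namespace Groth.Agent.S4371

open AlgebraicGeometry CategoryTheory

section general

variable {X : Scheme.{u}} [IsAffine X] [IsDomain Γ(X, ⊤)] (s t : Γ(X, ⊤))

/-- Every section over `D(s) ∪ D(t)` extends to a global section when `s` is prime
and does not divide `t ≠ 0`. -/
theorem exists_eq_res (hs : Prime s) (hst : ¬ s ∣ t) (ht : t ≠ 0)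
    (a : Γ(X, X.basicOpen s ⊔ X.basicOpen t)) :
    ∃ q : Γ(X, ⊤), a = X.presheaf.map (homOfLE le_top).op q := by
  have hs0 : s ≠ 0 := hs.ne_zero
  -- notation
  have locs := (isAffineOpen_top X).isLocalization_basicOpen s
  have loct := (isAffineOpen_top X).isLocalization_basicOpen t
  have locst := (isAffineOpen_top X).isLocalization_basicOpen (s * t)
  set ρs := (X.presheaf.map (homOfLE (X.basicOpen_le s)).op).hom with hρs
  set ρt := (X.presheaf.map (homOfLE (X.basicOpen_le t)).op).hom with hρt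
  set ρst := (X.presheaf.map (homOfLE (X.basicOpen_le (s * t))).op).hom with hρst
  have hle_s : X.basicOpen s ≤ X.basicOpen s ⊔ X.basicOpen t := le_sup_left
  have hle_t : X.basicOpen t ≤ X.basicOpen s ⊔ X.basicOpen t := le_sup_right
  have hst_s : X.basicOpen (s * t) ≤ X.basicOpen s := by
    rw [Scheme.basicOpen_mul]; exact inf_le_left
  have hst_t : X.basicOpen (s * t) ≤ X.basicOpen t := by
    rw [Scheme.basicOpen_mul]; exact inf_le_right
  set as := (X.presheaf.map (homOfLE hle_s).op).hom a with has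
  set at' := (X.presheaf.map (homOfLE hle_t).op).hom a with hat
  obtain ⟨⟨r, ⟨_, n, rfl⟩⟩, hr⟩ := IsLocalization.surj (Submonoid.powers s) as
  obtain ⟨⟨r', ⟨_, m, rfl⟩⟩, hr'⟩ := IsLocalization.surj (Submonoid.powers t) at'
  simp only [RingHom.algebraMap_toAlgebra, map_pow] at hr hr'
  change as * ρs s ^ n = ρs r at hr
  change at' * ρt t ^ m = ρt r' at hr'
  -- restrict to D(st)
  have hcomp_s : ∀ y, (X.presheaf.map (homOfLE hst_s).op).hom (ρs y) = ρst y := by
    intro y
    simp only [hρs, hρst, ← CommRingCat.comp_apply, ← Functor.map_comp]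
    rfl
  have hcomp_t : ∀ y, (X.presheaf.map (homOfLE hst_t).op).hom (ρt y) = ρst y := by
    intro y
    simp only [hρt, hρst, ← CommRingCat.comp_apply, ← Functor.map_comp]
    rfl
  have hcomp_a : (X.presheaf.map (homOfLE hst_s).op).hom as =
      (X.presheaf.map (homOfLE hst_t).op).hom at' := by
    simp only [has, hat, ← CommRingCat.comp_apply, ← Functor.map_comp]
    rfl
  set ast := (X.presheaf.map (homOfLE hst_s).op).hom as with hast
  have e1 : ast * ρst s ^ n = ρst r := by
    have := congrArg (X.presheaf.map (homOfLE hst_s).op).hom hr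
    rwa [map_mul, map_pow, hcomp_s, hcomp_s] at this
  have e2 : ast * ρst t ^ m = ρst r' := by
    have := congrArg (X.presheaf.map (homOfLE hst_t).op).hom hr'
    rwa [map_mul, map_pow, hcomp_t, hcomp_t, ← hcomp_a] at this
  have hinj_st : Function.Injective ρst := by
    have := IsLocalization.injective (M := Submonoid.powers (s * t)) Γ(X, X.basicOpen (s * t))
      (powers_le_nonZeroDivisors_of_noZeroDivisors (mul_ne_zero hs0 ht))
    simpa [RingHom.algebraMap_toAlgebra] using this
  have hinj_s : Function.Injective ρs := by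
    have := IsLocalization.injective (M := Submonoid.powers s) Γ(X, X.basicOpen s)
      (powers_le_nonZeroDivisors_of_noZeroDivisors hs0)
    simpa [RingHom.algebraMap_toAlgebra] using this
  have e3 : t ^ m * r = s ^ n * r' := by
    apply hinj_st
    rw [map_mul, map_mul, map_pow, map_pow, ← e1, ← e2]
    ring
  have hdvd : s ^ n ∣ r := by
    exact Prime.pow_dvd_of_dvd_mul_left (a := t ^ m) hs n
      (fun h => hst (hs.dvd_of_dvd_pow h)) ⟨r', e3⟩
  obtain ⟨q, rfl⟩ := hdvd
  have e4 : r' = t ^ m * q := by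
    have : s ^ n * r' = s ^ n * (t ^ m * q) := by rw [← e3]; ring
    exact mul_left_cancel₀ (pow_ne_zero n hs0) this
  have hus : IsUnit (ρs s) := by
    have := IsLocalization.Away.algebraMap_isUnit (S := Γ(X, X.basicOpen s)) s
    simpa [RingHom.algebraMap_toAlgebra] using this
  have hut : IsUnit (ρt t) := by
    have := IsLocalization.Away.algebraMap_isUnit (S := Γ(X, X.basicOpen t)) t
    simpa [RingHom.algebraMap_toAlgebra] using this
  have h5 : as = ρs q := by
    rw [map_mul, map_pow, mul_comm] at hr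
    exact (hus.pow n).mul_left_cancel hr
  have h6 : at' = ρt q := by
    rw [e4, map_mul, map_pow, mul_comm] at hr'
    exact (hut.pow m).mul_left_cancel hr'
  have hres : ∀ (W W' : X.Opens) (h1 : W ≤ W') (y : Γ(X, ⊤)),
      (X.presheaf.map (homOfLE h1).op).hom ((X.presheaf.map (homOfLE (le_top : W' ≤ ⊤)).op).hom y) =
        (X.presheaf.map (homOfLE (le_top : W ≤ ⊤)).op).hom y := by
    intro W W' h1 y
    rw [← CommRingCat.comp_apply, ← Functor.map_comp]
    rfl
  refine ⟨q, ?_⟩
  refine X.sheaf.eq_of_locally_eq₂ (homOfLE hle_s) (homOfLE hle_t) le_rfl _ _ ?_ ?_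
  · change as = _
    rw [h5, hρs]
    exact (hres _ _ hle_s q).symm
  · change at' = _
    rw [h6, hρt]
    exact (hres _ _ hle_t q).symm

/-- If moreover `D(s) ∪ D(t)` is affine, then `s` and `t` generate the unit ideal. -/
theorem span_eq_top (hs : Prime s) (hst : ¬ s ∣ t) (ht : t ≠ 0)
    (hU : IsAffineOpen (X.basicOpen s ⊔ X.basicOpen t)) :
    Ideal.span {s, t} = (⊤ : Ideal Γ(X, ⊤)) := by
  have hs0 : s ≠ 0 := hs.ne_zero
  have hle : X.basicOpen s ⊔ X.basicOpen t ≤ ⊤ := le_top
  set ρ := (X.presheaf.map (homOfLE hle).op).hom with hρ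
  have h1 : X.basicOpen (ρ s) = X.basicOpen s := by
    rw [hρ]
    erw [Scheme.basicOpen_res]
    exact inf_eq_right.2 le_sup_left
  have h2 : X.basicOpen (ρ t) = X.basicOpen t := by
    rw [hρ]
    erw [Scheme.basicOpen_res]
    exact inf_eq_right.2 le_sup_right
  have hspan : Ideal.span ({ρ s, ρ t} : Set Γ(X, X.basicOpen s ⊔ X.basicOpen t)) = ⊤ := by
    rw [← hU.iSup_basicOpen_eq_self_iff]
    apply le_antisymm
    · exact iSup_le fun f => X.basicOpen_le _
    · refine sup_le ?_ ?_
      · conv_lhs => rw [← h1]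
        exact le_iSup (fun f : ({ρ s, ρ t} : Set Γ(X, X.basicOpen s ⊔ X.basicOpen t)) =>
          X.basicOpen (f : Γ(X, X.basicOpen s ⊔ X.basicOpen t))) ⟨ρ s, by simp⟩
      · conv_lhs => rw [← h2]
        exact le_iSup (fun f : ({ρ s, ρ t} : Set Γ(X, X.basicOpen s ⊔ X.basicOpen t)) =>
          X.basicOpen (f : Γ(X, X.basicOpen s ⊔ X.basicOpen t))) ⟨ρ t, by simp⟩
  have h1mem : (1 : Γ(X, X.basicOpen s ⊔ X.basicOpen t)) ∈
      Ideal.span ({ρ s, ρ t} : Set Γ(X, X.basicOpen s ⊔ X.basicOpen t)) := hspan ▸ Submodule.mem_top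
  obtain ⟨a, b, hab⟩ := Ideal.mem_span_pair.1 h1mem
  obtain ⟨qa, rfl⟩ := exists_eq_res s t hs hst ht a
  obtain ⟨qb, rfl⟩ := exists_eq_res s t hs hst ht b
  have hinj : Function.Injective ρ := by
    have locs := (isAffineOpen_top X).isLocalization_basicOpen s
    have hinj_s : Function.Injective (X.presheaf.map (homOfLE (X.basicOpen_le s)).op).hom := by
      have := IsLocalization.injective (M := Submonoid.powers s) Γ(X, X.basicOpen s)
        (powers_le_nonZeroDivisors_of_noZeroDivisors hs0)
      simpa [RingHom.algebraMap_toAlgebra] using this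
    have hcomp : (X.presheaf.map (homOfLE (X.basicOpen_le s)).op).hom =
        (X.presheaf.map (homOfLE (le_sup_left : X.basicOpen s ≤ X.basicOpen s ⊔ X.basicOpen t)).op).hom.comp ρ := by
      rw [hρ, ← CommRingCat.hom_comp, ← Functor.map_comp]
      rfl
    rw [hcomp, RingHom.coe_comp] at hinj_s
    exact Function.Injective.of_comp hinj_s
  have hsum : qa * s + qb * t = 1 := by
    apply hinj
    rw [map_add, map_mul, map_mul, map_one]
    exact hab
  rw [Ideal.eq_top_iff_one, Ideal.mem_span_pair]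
  exact ⟨qa, qb, hsum⟩

end general

/-- Let K be a field and Y = Spec K[s, t] the affine plane over K. The open subset D(s) ∪ D(t) of Y, the
complement of the closed point s = t = 0, is not affine. -/
theorem result
    (K : Type u) [Field K] :
    ¬ IsAffineOpen (X := Spec (CommRingCat.of (MvPolynomial (Fin 2) K)))
      (PrimeSpectrum.basicOpen (MvPolynomial.X 0 : MvPolynomial (Fin 2) K) ⊔
        PrimeSpectrum.basicOpen (MvPolynomial.X 1 : MvPolynomial (Fin 2) K)) := by
  intro hU
  let e := Scheme.ΓSpecIso (CommRingCat.of (MvPolynomial (Fin 2) K))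
  let eR : Γ(Spec (CommRingCat.of (MvPolynomial (Fin 2) K)), ⊤) ≃+* MvPolynomial (Fin 2) K :=
    e.commRingCatIsoToRingEquiv
  have : IsDomain Γ(Spec (CommRingCat.of (MvPolynomial (Fin 2) K)), ⊤) :=
    MulEquiv.isDomain (MvPolynomial (Fin 2) K) eR.toMulEquiv
  set s : Γ(Spec (CommRingCat.of (MvPolynomial (Fin 2) K)), ⊤) := eR.symm (MvPolynomial.X 0) with hs
  set t : Γ(Spec (CommRingCat.of (MvPolynomial (Fin 2) K)), ⊤) := eR.symm (MvPolynomial.X 1) with ht
  have hbs : (Spec (CommRingCat.of (MvPolynomial (Fin 2) K))).basicOpen s =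
      PrimeSpectrum.basicOpen (MvPolynomial.X 0 : MvPolynomial (Fin 2) K) :=
    basicOpen_eq_of_affine (R := CommRingCat.of (MvPolynomial (Fin 2) K)) (MvPolynomial.X 0)
  have hbt : (Spec (CommRingCat.of (MvPolynomial (Fin 2) K))).basicOpen t =
      PrimeSpectrum.basicOpen (MvPolynomial.X 1 : MvPolynomial (Fin 2) K) :=
    basicOpen_eq_of_affine (R := CommRingCat.of (MvPolynomial (Fin 2) K)) (MvPolynomial.X 1)
  rw [← hbs, ← hbt] at hU
  have hsp : Prime s := (MulEquiv.prime_iff eR.symm).2 MvPolynomial.X_prime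
  have hst : ¬ s ∣ t := by
    intro h
    have h' : (MvPolynomial.X 0 : MvPolynomial (Fin 2) K) ∣ MvPolynomial.X 1 := by
      have := map_dvd eR h
      simp [hs, ht] at this
    obtain ⟨c, hc⟩ := h'
    have := congrArg (MvPolynomial.eval (fun i : Fin 2 => if i = 0 then (0 : K) else 1)) hc
    simp at this
  have ht0 : t ≠ 0 := by
    rw [ht, Ne, EmbeddingLike.map_eq_zero_iff]
    exact MvPolynomial.X_ne_zero 1
  have hspan := span_eq_top s t hsp hst ht0 hU
  have h1 : (1 : Γ(Spec (CommRingCat.of (MvPolynomial (Fin 2) K)), ⊤)) ∈ Ideal.span {s, t} :=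
    hspan ▸ Submodule.mem_top
  obtain ⟨a, b, hab⟩ := Ideal.mem_span_pair.1 h1
  have := congrArg eR hab
  simp only [map_add, map_mul, map_one, hs, ht, RingEquiv.apply_symm_apply] at this
  have := congrArg (MvPolynomial.eval (fun _ : Fin 2 => (0 : K))) this
  simp at this

end Groth.Agent.S4371
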