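import Groth.Statements.S4372
import Groth.Agent.S4367
-- import your own Groth.Agent.* helpers here

set_option autoImplicit false
universe u
open RedSep

namespace Groth.Agent.S4372

open AlgebraicGeometry in
open CategoryTheory in
/-- Let h : Z -> X be an immersion with Z reduced (a reduced subscheme of X), and let W be the reduced
closed subscheme of X whose underlying space is the closure of h(Z). Then Z is an open subscheme of
W: h factors as an open immersion Z -> W followed by the closed immersion W -> X. Stated as the
existence of such a factorization through a reduced scheme W closed-immersed onto the closure of the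
image. -/
theorem result
    {Z X : Scheme.{u}} (h : Z ⟶ X) [IsImmersion h] [IsReduced Z] :
    ∃ (W : Scheme.{u}) (j : Z ⟶ W) (i : W ⟶ X), IsOpenImmersion j ∧ IsClosedImmersion i ∧
      IsReduced W ∧ Set.range i = closure (Set.range h) ∧ j ≫ i = h := by
  let C : TopologicalSpace.Closeds X := ⟨closure (Set.range h), isClosed_closure⟩
  let I := Scheme.IdealSheafData.vanishingIdeal C
  let W := I.subscheme
  let i : W ⟶ X := I.subschemeι
  have hrange : Set.range i = closure (Set.range h) := by
    rw [Scheme.IdealSheafData.range_subschemeι, Scheme.IdealSheafData.coe_support_vanishingIdeal]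
    rfl
  have hWred : IsReduced W := by
    rw [IsReduced.iff_of_openCover (𝒰 := I.subschemeCover.openCover)]
    change (∀ U : X.affineOpens,
      IsReduced (Spec (CommRingCat.of (Γ(X, U) ⧸ I.ideal U))))
    intro U
    rw [affine_isReduced_iff]
    change _root_.IsReduced (Γ(X, U) ⧸ I.ideal U)
    rw [← Ideal.isRadical_iff_quotient_reduced]
    rw [Scheme.IdealSheafData.vanishingIdeal_ideal]
    exact PrimeSpectrum.isRadical_vanishingIdeal _
  obtain ⟨j, hj⟩ := Groth.Agent.S4367.result h i (by rw [hrange]; exact subset_closure)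
  refine ⟨W, j, i, ?_, inferInstance, hWred, hrange, hj⟩
  -- the open U in which the image is closed
  let U : X.Opens := h.coborderRange
  let W' : W.Opens := i ⁻¹ᵁ U
  have hjW' : Set.range j ⊆ Set.range W'.ι := by
    rintro _ ⟨z, rfl⟩
    rw [Scheme.Opens.range_ι]
    change i (j z) ∈ U
    rw [← Scheme.Hom.comp_apply, hj]
    exact subset_coborder ⟨z, rfl⟩
  let j' : Z ⟶ W' := IsOpenImmersion.lift W'.ι j hjW'
  have hj' : j' ≫ W'.ι = j := IsOpenImmersion.lift_fac _ _ _
  have hcomp : (j' ≫ (i ∣_ U)) ≫ U.ι = h.liftCoborder ≫ U.ι := by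
    rw [Category.assoc, morphismRestrict_ι, ← Category.assoc, hj', hj, Scheme.Hom.liftCoborder_ι]
  have hcomp' : j' ≫ (i ∣_ U) = h.liftCoborder := (cancel_mono U.ι).1 hcomp
  have : IsClosedImmersion (j' ≫ (i ∣_ U)) := by rw [hcomp']; infer_instance
  have hci : IsClosedImmersion j' := IsClosedImmersion.of_comp_isClosedImmersion j' (i ∣_ U)
  have hsurj : Surjective j' := by
    refine ⟨fun w => ?_⟩
    have hw1 : i (W'.ι w) ∈ closure (Set.range h) := by
      rw [← hrange]; exact ⟨_, rfl⟩
    have hw2 : i (W'.ι w) ∈ coborder (Set.range h) := w.2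
    have hw3 : i (W'.ι w) ∈ Set.range h := by
      rw [← closure_inter_coborder (s := Set.range h)]
      exact ⟨hw1, hw2⟩
    obtain ⟨z, hz⟩ := hw3
    refine ⟨z, ?_⟩
    apply W'.ι.isEmbedding.injective
    apply i.isEmbedding.injective
    have e1 : i (W'.ι (j' z)) = h z := by
      have e2 : W'.ι (j' z) = j z := by rw [← Scheme.Hom.comp_apply, hj']
      rw [e2, ← Scheme.Hom.comp_apply, hj]
    rw [e1, hz]
  have : IsIso j' := isIso_of_isClosedImmersion_of_surjective j'
  rw [← hj']
  infer_instance

end Groth.Agent.S4372
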