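import Groth.Statements.S4378
import Mathlib

set_option autoImplicit false
universe u
open CategoryTheory CategoryTheory.Limits AlgebraicGeometry
open EGA2

namespace Groth.Agent.S4378



theorem isPullback_map {X Y S S' : Scheme.{u}} (q : Y ⟶ S) (f : X ⟶ Y) (g : S' ⟶ S) :
    IsPullback (pullback.map (f ≫ q) g q g f (𝟙 S') (𝟙 S) (Category.comp_id (f ≫ q))
        ((Category.comp_id g).trans (Category.id_comp g).symm))
      (pullback.fst (f ≫ q) g) (pullback.fst q g) f := by
  have h1 : IsPullback (pullback.fst q g) (pullback.snd q g) q g :=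
    IsPullback.of_hasPullback q g
  have h2 : IsPullback (pullback.fst (f ≫ q) g) (pullback.snd (f ≫ q) g) (f ≫ q) g :=
    IsPullback.of_hasPullback (f ≫ q) g
  refine IsPullback.of_right (h₁₂ := pullback.snd q g) (v₁₃ := g) (h₂₂ := q) ?_ ?_ h1.flip
  · have e : pullback.map (f ≫ q) g q g f (𝟙 S') (𝟙 S) (Category.comp_id (f ≫ q))
        ((Category.comp_id g).trans (Category.id_comp g).symm) ≫ pullback.snd q g
        = pullback.snd (f ≫ q) g :=
      (pullback.lift_snd _ _ _).trans (Category.comp_id _)
    rw [e]
    exact h2.flip
  · exact (pullback.lift_fst _ _ _)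

/-- Let q : Y → S be separated and of finite type, and f : X → Y a morphism such that X is also
separated and of finite type over S through f ≫ q. Then f is proper if and only if for every scheme
S' over S the morphism X ×_S S' → Y ×_S S' induced by f is closed (as a map of topological spaces). -/
theorem result {X Y S : Scheme.{u}} (q : Y ⟶ S) (f : X ⟶ Y)
    [IsSeparated q] [LocallyOfFiniteType q] [QuasiCompact q]
    [IsSeparated (f ≫ q)] [LocallyOfFiniteType (f ≫ q)] [QuasiCompact (f ≫ q)] :
    IsProper f ↔ ∀ (S' : Scheme.{u}) (g : S' ⟶ S),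
      IsClosedMap (pullback.map (f ≫ q) g q g f (𝟙 S') (𝟙 S) (Category.comp_id (f ≫ q))
        ((Category.comp_id g).trans (Category.id_comp g).symm)).base := by

  constructor
  · intro hf S' g
    have hsq := isPullback_map q f g
    have := hf.toUniversallyClosed
    have h3 : UniversallyClosed (pullback.map (f ≫ q) g q g f (𝟙 S') (𝟙 S)
        (Category.comp_id (f ≫ q))
        ((Category.comp_id g).trans (Category.id_comp g).symm)) :=
      MorphismProperty.of_isPullback hsq.flip inferInstance
    exact Scheme.Hom.isClosedMap _
  · intro h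
    have i1 : IsSeparated f := IsSeparated.of_comp f q
    have i2 : LocallyOfFiniteType f := locallyOfFiniteType_of_comp f q
    have i3 : QuasiCompact f := QuasiCompact.of_comp f q
    have i4 : UniversallyClosed f := by
      refine ⟨?_⟩
      intro X' Y' i₁ i₂ f' sq
      let g : Y' ⟶ S := i₂ ≫ q
      let Γ : Y' ⟶ pullback q g := pullback.lift i₂ (𝟙 Y') (by simp [g])
      let j : X' ⟶ pullback (f ≫ q) g := pullback.lift i₁ f' (by
        simp only [g]
        rw [← Category.assoc, ← Category.assoc, sq.w])
      let m := pullback.map (f ≫ q) g q g f (𝟙 Y') (𝟙 S)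
        (Category.comp_id (f ≫ q))
        ((Category.comp_id g).trans (Category.id_comp g).symm)
      have hm : IsClosedMap m.base := h Y' g
      have hΓ1 : Γ ≫ pullback.snd q g = 𝟙 Y' := pullback.lift_snd _ _ _
      have hΓ : IsClosedImmersion Γ := by
        have : IsClosedImmersion (Γ ≫ pullback.snd q g) := by
          rw [hΓ1]; infer_instance
        exact IsClosedImmersion.of_comp Γ (pullback.snd q g)
      have hsq := isPullback_map q f g
      have hjm : j ≫ m = f' ≫ Γ := by
        have m1 : m ≫ pullback.fst q g = pullback.fst (f ≫ q) g ≫ f := pullback.lift_fst _ _ _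
        have m2 : m ≫ pullback.snd q g = pullback.snd (f ≫ q) g :=
          (pullback.lift_snd _ _ _).trans (Category.comp_id _)
        have e1 : j ≫ pullback.fst (f ≫ q) g = i₁ := pullback.lift_fst _ _ _
        have e1' : j ≫ pullback.snd (f ≫ q) g = f' := pullback.lift_snd _ _ _
        have e2 : Γ ≫ pullback.fst q g = i₂ := pullback.lift_fst _ _ _
        apply pullback.hom_ext
        · rw [Category.assoc, m1, ← Category.assoc, e1, Category.assoc, e2, sq.w]
        · rw [Category.assoc, m2, e1', Category.assoc, hΓ1, Category.comp_id]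
      have hleft : IsPullback j f' m Γ := by
        refine IsPullback.of_right (h₁₂ := pullback.fst (f ≫ q) g) (v₁₃ := f)
          (h₂₂ := pullback.fst q g) ?_ hjm hsq.flip
        have e1 : j ≫ pullback.fst (f ≫ q) g = i₁ := pullback.lift_fst _ _ _
        have e2 : Γ ≫ pullback.fst q g = i₂ := pullback.lift_fst _ _ _
        rw [e1, e2]
        exact sq.flip
      have hj : IsClosedImmersion j := MorphismProperty.of_isPullback hleft.flip hΓ
      show IsClosedMap f'.base
      intro C hC
      have hinj : Function.Injective Γ.base := by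
        intro a b hab
        have := congrArg (pullback.snd q g).base hab
        rw [← Scheme.Hom.comp_apply, ← Scheme.Hom.comp_apply, hΓ1] at this
        simpa using this
      have heq : f'.base '' C = Γ.base ⁻¹' (m.base '' (j.base '' C)) := by
        ext y
        constructor
        · rintro ⟨c, hc, rfl⟩
          refine ⟨j.base c, ⟨c, hc, rfl⟩, ?_⟩
          rw [← Scheme.Hom.comp_apply, ← Scheme.Hom.comp_apply, hjm]
        · rintro ⟨z, ⟨c, hc, rfl⟩, hz⟩
          refine ⟨c, hc, ?_⟩
          apply hinj
          rw [← hz, ← Scheme.Hom.comp_apply, ← Scheme.Hom.comp_apply, hjm]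
      rw [heq]
      exact (hm _ (j.isClosedEmbedding.isClosedMap _ hC)).preimage Γ.continuous
    exact {}

end Groth.Agent.S4378
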