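import Groth.Statements.S4381
-- import your own Groth.Agent.* helpers here
import Groth.Agent.Lib.Helper29.RelAmple

set_option autoImplicit false
universe u
open CategoryTheory CategoryTheory.Limits AlgebraicGeometry
open EGA2

namespace Groth.Agent.S4381

/-- Let Y be an affine scheme, f : X → Y a quasi-compact morphism and L an O_X-module. Then L is ample
relative to f if and only if L is an ample O_X-module. -/
theorem result {X Y : Scheme.{u}} [IsAffine Y] (f : X ⟶ Y) [QuasiCompact f] (L : X.Modules) :
    RelAmple.IsRelAmple f L ↔ CohB1.IsAmple L := by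
  constructor
  · intro h
    have h1 := h.2 ⟨⊤, isAffineOpen_top Y⟩
    exact (Groth.Agent.Lib.Helper29.QCoh.isAmple_restrict_iff_of_eq_top L (by rfl)).mp h1
  · intro h
    refine ⟨inferInstance, fun V => ?_⟩
    exact Groth.Agent.Lib.Helper29.QCoh.isAmple_restrict_of_isCompact h (f ⁻¹ᵁ V.1)
      (QuasiCompact.isCompact_preimage (f := f) _ V.1.2 V.2.isCompact)

end Groth.Agent.S4381
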