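import Groth.Statements.S4395
import Mathlib.RingTheory.GradedAlgebra.Radical

set_option autoImplicit false
universe u
open EGA2

namespace Groth.Agent.S4395

section

variable {R A : Type u} [CommRing R] [CommRing A] [Algebra R A] (𝒜 : ℕ → Submodule R A)
  [GradedAlgebra 𝒜]

theorem forward (n₀ : ℕ) (hn₀ : 0 < n₀) (p : ℕ → AddSubgroup A)
    (𝔭 : HomogeneousIdeal 𝒜) (hprime : 𝔭.toIdeal.IsPrime)
    (hrel : ¬ HomogeneousIdeal.irrelevant 𝒜 ≤ 𝔭)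
    (h : ∀ n : ℕ, n₀ ≤ n → (𝔭.toIdeal : Set A) ∩ 𝒜 n = p n) :
    (∀ m n : ℕ, n₀ ≤ n → ∀ a ∈ 𝒜 m, ∀ b ∈ p n, a * b ∈ p (m + n)) ∧
      (∀ m n : ℕ, n₀ ≤ m → n₀ ≤ n → ∀ f ∈ 𝒜 m, ∀ g ∈ 𝒜 n, f * g ∈ p (m + n) → f ∈ p m ∨ g ∈ p n) ∧
      ∃ n : ℕ, n₀ ≤ n ∧ (p n : Set A) ≠ 𝒜 n := by
  have hmem : ∀ n, n₀ ≤ n → ∀ x, x ∈ p n ↔ (x ∈ 𝔭.toIdeal ∧ x ∈ 𝒜 n) := by
    intro n hn x
    have := Set.ext_iff.mp (h n hn) x
    exact this.symm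
  refine ⟨?_, ?_, ?_⟩
  · intro m n hn a ha b hb
    rw [hmem (m + n) (by omega)]
    rw [hmem n hn] at hb
    exact ⟨𝔭.toIdeal.mul_mem_left a hb.1, SetLike.mul_mem_graded ha hb.2⟩
  · intro m n hm hn f hf g hg hfg
    rw [hmem (m + n) (by omega)] at hfg
    rcases hprime.mem_or_mem hfg.1 with h1 | h1
    · exact Or.inl ((hmem m hm f).mpr ⟨h1, hf⟩)
    · exact Or.inr ((hmem n hn g).mpr ⟨h1, hg⟩)
  · by_contra hcon
    push Not at hcon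
    apply hrel
    rw [HomogeneousIdeal.irrelevant_le]
    intro i hi x hx
    have hx' : x ∈ 𝒜 i := hx
    have hpow : x ^ n₀ ∈ 𝒜 (n₀ • i) := SetLike.pow_mem_graded n₀ hx'
    have hge : n₀ ≤ n₀ • i := by
      rw [smul_eq_mul]; exact Nat.le_mul_of_pos_right n₀ hi
    have : x ^ n₀ ∈ p (n₀ • i) := by
      have h1 := hcon (n₀ • i) hge
      have : x ^ n₀ ∈ (p (n₀ • i) : Set A) := by rw [h1]; exact hpow
      exact this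
    rw [hmem _ hge] at this
    exact hprime.mem_of_pow_mem n₀ this.1

theorem uniq (n₀ : ℕ) (hn₀ : 0 < n₀) (p : ℕ → AddSubgroup A)
    (𝔭 𝔮 : HomogeneousIdeal 𝒜) (h𝔭 : 𝔭.toIdeal.IsPrime) (h𝔮 : 𝔮.toIdeal.IsPrime)
    (hrel : ¬ HomogeneousIdeal.irrelevant 𝒜 ≤ 𝔭)
    (hp : ∀ n : ℕ, n₀ ≤ n → (𝔭.toIdeal : Set A) ∩ 𝒜 n = p n)
    (hq : ∀ n : ℕ, n₀ ≤ n → (𝔮.toIdeal : Set A) ∩ 𝒜 n = p n) : 𝔭 = 𝔮 := by
  have hmemp : ∀ n, n₀ ≤ n → ∀ x, x ∈ p n ↔ (x ∈ 𝔭.toIdeal ∧ x ∈ 𝒜 n) := by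
    intro n hn x
    exact (Set.ext_iff.mp (hp n hn) x).symm
  have hmemq : ∀ n, n₀ ≤ n → ∀ x, x ∈ p n ↔ (x ∈ 𝔮.toIdeal ∧ x ∈ 𝒜 n) := by
    intro n hn x
    exact (Set.ext_iff.mp (hq n hn) x).symm
  rw [HomogeneousIdeal.irrelevant_le] at hrel
  push Not at hrel
  obtain ⟨j, hj, hjn⟩ := hrel
  obtain ⟨g, hg, hg𝔭⟩ := SetLike.not_le_iff_exists.mp hjn
  have hg' : g ∈ 𝒜 j := hg
  have hgpow : g ^ n₀ ∈ 𝒜 (n₀ • j) := SetLike.pow_mem_graded n₀ hg'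
  have hge : n₀ ≤ n₀ • j := by
    rw [smul_eq_mul]; exact Nat.le_mul_of_pos_right n₀ hj
  have hgp : g ^ n₀ ∉ 𝔭.toIdeal := fun hh => hg𝔭 (h𝔭.mem_of_pow_mem n₀ hh)
  have hgq : g ^ n₀ ∉ 𝔮.toIdeal := by
    intro hh
    have : g ^ n₀ ∈ p (n₀ • j) := (hmemq _ hge _).mpr ⟨hh, hgpow⟩
    exact hgp ((hmemp _ hge _).mp this).1
  apply HomogeneousIdeal.ext'
  intro i x hx
  have hprod : g ^ n₀ * x ∈ 𝒜 (n₀ • j + i) := SetLike.mul_mem_graded hgpow hx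
  have hge2 : n₀ ≤ n₀ • j + i := by omega
  constructor
  · intro hx𝔭
    have h1 : g ^ n₀ * x ∈ p (n₀ • j + i) :=
      (hmemp _ hge2 _).mpr ⟨𝔭.toIdeal.mul_mem_left _ hx𝔭, hprod⟩
    have h2 := ((hmemq _ hge2 _).mp h1).1
    exact (h𝔮.mem_or_mem h2).resolve_left hgq
  · intro hx𝔮
    have h1 : g ^ n₀ * x ∈ p (n₀ • j + i) :=
      (hmemq _ hge2 _).mpr ⟨𝔮.toIdeal.mul_mem_left _ hx𝔮, hprod⟩
    have h2 := ((hmemp _ hge2 _).mp h1).1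
    exact (h𝔭.mem_or_mem h2).resolve_left hgp


open DirectSum in
theorem backward (n₀ : ℕ) (hn₀ : 0 < n₀) (p : ℕ → AddSubgroup A)
    (hp : ∀ n : ℕ, n₀ ≤ n → (p n : Set A) ⊆ 𝒜 n)
    (C1 : ∀ m n : ℕ, n₀ ≤ n → ∀ a ∈ 𝒜 m, ∀ b ∈ p n, a * b ∈ p (m + n))
    (C2 : ∀ m n : ℕ, n₀ ≤ m → n₀ ≤ n → ∀ f ∈ 𝒜 m, ∀ g ∈ 𝒜 n, f * g ∈ p (m + n) →
      f ∈ p m ∨ g ∈ p n)
    (C3 : ∃ n : ℕ, n₀ ≤ n ∧ (p n : Set A) ≠ 𝒜 n) :
    ∃ 𝔭 : HomogeneousIdeal 𝒜, 𝔭.toIdeal.IsPrime ∧ ¬ HomogeneousIdeal.irrelevant 𝒜 ≤ 𝔭 ∧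
        ∀ n : ℕ, n₀ ≤ n → (𝔭.toIdeal : Set A) ∩ 𝒜 n = p n := by
  classical
  obtain ⟨n₁, hn₁, hne⟩ := C3
  obtain ⟨f, hf, hfp⟩ : ∃ f, f ∈ 𝒜 n₁ ∧ f ∉ p n₁ := by
    by_contra hcon
    push Not at hcon
    exact hne (Set.Subset.antisymm (hp n₁ hn₁) (fun x hx => hcon x hx))
  obtain ⟨N', hN'⟩ : ∃ N', n₀ = N' + 1 := Nat.exists_eq_succ_of_ne_zero hn₀.ne'
  set D := n₀ • n₁ with hDdef
  set F := f ^ n₀ with hFdef
  have hF : F ∈ 𝒜 D := SetLike.pow_mem_graded n₀ hf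
  have hn₁pos : 0 < n₁ := lt_of_lt_of_le hn₀ hn₁
  have hD : n₀ ≤ D := by
    rw [hDdef, smul_eq_mul]; exact Nat.le_mul_of_pos_right n₀ hn₁pos
  have cast : ∀ {a b : ℕ}, a = b → ∀ {x : A}, x ∈ p a → x ∈ p b := by
    rintro _ _ rfl _ h; exact h
  have key1 : ∀ m, n₀ ≤ m → ∀ x ∈ 𝒜 m, f * x ∈ p (n₁ + m) → x ∈ p m :=
    fun m hm x hx h => (C2 n₁ m hn₁ hm f hf x hx h).resolve_left hfp
  have key2 : ∀ k m, n₀ ≤ m → ∀ x ∈ 𝒜 m, f ^ k * x ∈ p (k • n₁ + m) → x ∈ p m := by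
    intro k
    induction k with
    | zero =>
      intro m hm x hx h
      have : x ∈ p (0 • n₁ + m) := by simpa using h
      exact cast (by simp) this
    | succ k ih =>
      intro m hm x hx h
      have h1 : f ^ k * x ∈ 𝒜 (k • n₁ + m) :=
        SetLike.mul_mem_graded (SetLike.pow_mem_graded k hf) hx
      have h2 : f * (f ^ k * x) ∈ p (n₁ + (k • n₁ + m)) := by
        rw [pow_succ', mul_assoc] at h
        exact cast (by simp only [smul_eq_mul]; ring) h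
      exact ih m hm x hx (key1 _ (by omega) _ h1 h2)
  let q : ℕ → Set A := fun m => {x | x ∈ 𝒜 m ∧ F * x ∈ p (D + m)}
  have hq_eq : ∀ m, n₀ ≤ m → ∀ x, x ∈ q m ↔ x ∈ p m := by
    intro m hm x
    constructor
    · rintro ⟨hx, h⟩
      exact key2 n₀ m hm x hx h
    · intro hx
      exact ⟨hp m hm hx, C1 D m hm F hF x hx⟩
  have hq_add : ∀ m x y, x ∈ q m → y ∈ q m → x + y ∈ q m := by
    rintro m x y ⟨hx, hx'⟩ ⟨hy, hy'⟩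
    exact ⟨add_mem hx hy, by rw [mul_add]; exact add_mem hx' hy'⟩
  have hq_zero : ∀ m, (0 : A) ∈ q m := fun m => ⟨zero_mem _, by rw [mul_zero]; exact zero_mem _⟩
  have hq_mul : ∀ k m a x, a ∈ 𝒜 k → x ∈ q m → a * x ∈ q (k + m) := by
    rintro k m a x ha ⟨hx, h⟩
    refine ⟨SetLike.mul_mem_graded ha hx, ?_⟩
    have := C1 k (D + m) (by omega) a ha (F * x) h
    rw [mul_left_comm] at this
    exact cast (by omega) this
  let I : Ideal A := Ideal.span (⋃ m, q m)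
  have hIhom : I.IsHomogeneous 𝒜 := by
    apply Ideal.homogeneous_span
    rintro x ⟨_, ⟨m, rfl⟩, hx⟩
    exact ⟨m, hx.1⟩
  -- components of elements of `I` lie in `q`
  have hcomp : ∀ x ∈ I, ∀ m, ((decompose 𝒜 x m : 𝒜 m) : A) ∈ q m := by
    intro x hx
    induction hx using Submodule.span_induction with
    | mem x hx =>
      obtain ⟨_, ⟨m', rfl⟩, hx'⟩ := hx
      intro m
      by_cases hmm : m' = m
      · subst hmm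
        rw [decompose_of_mem_same 𝒜 hx'.1]; exact hx'
      · rw [decompose_of_mem_ne 𝒜 hx'.1 hmm]; exact hq_zero m
    | zero => intro m; rw [decompose_zero]; exact hq_zero m
    | add x y _ _ hx hy =>
      intro m
      rw [decompose_add, add_apply, AddMemClass.coe_add]
      exact hq_add m _ _ (hx m) (hy m)
    | smul a x _ hx =>
      rw [smul_eq_mul]
      induction a using DirectSum.Decomposition.inductionOn 𝒜 with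
      | zero => intro m; rw [zero_mul, decompose_zero]; exact hq_zero m
      | homogeneous a =>
        rename_i k
        intro m
        rw [coe_decompose_mul_of_left_mem 𝒜 m a.2]
        split_ifs with hle
        · have := hq_mul k (m - k) a _ a.2 (hx (m - k))
          rwa [Nat.add_sub_cancel' hle] at this
        · exact hq_zero m
      | add a b ha hb =>
        intro m
        rw [add_mul, decompose_add, add_apply, AddMemClass.coe_add]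
        exact hq_add m _ _ (ha m) (hb m)
  have hI_mem : ∀ m x, x ∈ 𝒜 m → x ∈ I → x ∈ q m := by
    intro m x hxm hxI
    have := hcomp x hxI m
    rwa [decompose_of_mem_same 𝒜 hxm] at this
  have hq_sub : ∀ m x, x ∈ q m → x ∈ I := fun m x hx =>
    Ideal.subset_span (Set.mem_iUnion.mpr ⟨m, hx⟩)
  have hfI : f ∉ I := fun h => hfp ((hq_eq n₁ hn₁ f).mp (hI_mem n₁ f hf h))
  refine ⟨⟨I, hIhom⟩, ?_, ?_, ?_⟩
  · apply hIhom.isPrime_of_homogeneous_mem_or_mem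
    · intro htop
      have h1 : (1 : A) ∈ q 0 := hI_mem 0 1 (SetLike.one_mem_graded 𝒜) (htop ▸ Submodule.mem_top)
      have h2 : F ∈ p (D + 0) := by simpa using h1.2
      have h3 : f ^ N' * f ∈ p (N' • n₁ + n₁) := by
        rw [← pow_succ, ← hN']
        exact cast (by rw [hDdef, hN']; simp only [smul_eq_mul]; ring) h2
      exact hfp (key2 N' n₁ hn₁ f hf h3)
    · rintro x y ⟨a, hx⟩ ⟨b, hy⟩ hxy
      have h1 := hI_mem (a + b) (x * y) (SetLike.mul_mem_graded hx hy) hxy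
      have h2 : F * (F * (x * y)) ∈ p (D + (D + (a + b))) :=
        C1 D (D + (a + b)) (by omega) F hF _ h1.2
      have h3 : (F * x) * (F * y) ∈ p ((D + a) + (D + b)) := by
        have : F * (F * (x * y)) = (F * x) * (F * y) := by ring
        rw [← this]
        exact cast (by omega) h2
      rcases C2 (D + a) (D + b) (by omega) (by omega) (F * x) (SetLike.mul_mem_graded hF hx)
        (F * y) (SetLike.mul_mem_graded hF hy) h3 with h | h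
      · exact Or.inl (hq_sub a x ⟨hx, h⟩)
      · exact Or.inr (hq_sub b y ⟨hy, h⟩)
  · intro hle
    exact hfI (hle (HomogeneousIdeal.mem_irrelevant_of_mem 𝒜 hn₁pos hf))
  · intro n hn
    ext x
    constructor
    · rintro ⟨hxI, hxn⟩
      exact (hq_eq n hn x).mp (hI_mem n x hxn hxI)
    · intro hx
      have := (hq_eq n hn x).mpr hx
      exact ⟨hq_sub n x this, this.1⟩

end

/-- Let S be a ring graded in nonnegative degrees, n₀ > 0 an integer and, for every n ≥ n₀, p_n an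
additive subgroup of S_n. Then there is a graded prime ideal p of S not containing S_+ with p ∩ S_n
= p_n for all n ≥ n₀ if and only if: (1) S_m p_n ⊆ p_{m+n} for all m ≥ 0 and n ≥ n₀; (2) for m ≥ n₀,
n ≥ n₀, f ∈ S_m, g ∈ S_n, fg ∈ p_{m+n} implies f ∈ p_m or g ∈ p_n; (3) p_n ≠ S_n for at least one n
≥ n₀. Moreover such a graded prime ideal is unique. -/
theorem result {R A : Type u} [CommRing R] [CommRing A] [Algebra R A] (𝒜 : ℕ → Submodule R A) [GradedAlgebra 𝒜]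
    (n₀ : ℕ) (hn₀ : 0 < n₀) (p : ℕ → AddSubgroup A) (hp : ∀ n : ℕ, n₀ ≤ n → (p n : Set A) ⊆ 𝒜 n) :
    ((∃ 𝔭 : HomogeneousIdeal 𝒜, 𝔭.toIdeal.IsPrime ∧ ¬ HomogeneousIdeal.irrelevant 𝒜 ≤ 𝔭 ∧
        ∀ n : ℕ, n₀ ≤ n → (𝔭.toIdeal : Set A) ∩ 𝒜 n = p n) ↔
      ((∀ m n : ℕ, n₀ ≤ n → ∀ a ∈ 𝒜 m, ∀ b ∈ p n, a * b ∈ p (m + n)) ∧
        (∀ m n : ℕ, n₀ ≤ m → n₀ ≤ n → ∀ f ∈ 𝒜 m, ∀ g ∈ 𝒜 n, f * g ∈ p (m + n) → f ∈ p m ∨ g ∈ p n) ∧
        ∃ n : ℕ, n₀ ≤ n ∧ (p n : Set A) ≠ 𝒜 n)) ∧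
    ∀ 𝔭 𝔮 : HomogeneousIdeal 𝒜, 𝔭.toIdeal.IsPrime → 𝔮.toIdeal.IsPrime →
      ¬ HomogeneousIdeal.irrelevant 𝒜 ≤ 𝔭 → ¬ HomogeneousIdeal.irrelevant 𝒜 ≤ 𝔮 →
      (∀ n : ℕ, n₀ ≤ n → (𝔭.toIdeal : Set A) ∩ 𝒜 n = p n) → (∀ n : ℕ, n₀ ≤ n → (𝔮.toIdeal : Set A) ∩ 𝒜 n = p n) →
      𝔭 = 𝔮 := by
  refine ⟨⟨?_, ?_⟩, ?_⟩
  · rintro ⟨𝔭, h1, h2, h3⟩
    exact forward 𝒜 n₀ hn₀ p 𝔭 h1 h2 h3
  · rintro ⟨C1, C2, C3⟩
    exact backward 𝒜 n₀ hn₀ p hp C1 C2 C3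
  · intro 𝔭 𝔮 h𝔭 h𝔮 hr𝔭 _ hp' hq'
    exact uniq 𝒜 n₀ hn₀ p 𝔭 𝔮 h𝔭 h𝔮 hr𝔭 hp' hq'

end Groth.Agent.S4395
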