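import Groth.Statements.S4396

set_option autoImplicit false
universe u
open AlgebraicGeometry
open EGA2

namespace Groth.Agent.S4396

section

open DirectSum HomogeneousLocalization

variable {R A : Type u} [CommRing R] [CommRing A] [Algebra R A] (𝒜 : ℕ → Submodule R A)
  [GradedAlgebra 𝒜]
  {B : Type u} [CommRing B] [Algebra R B] (ℬ : ℕ → Submodule R B) [GradedAlgebra ℬ]
  (d : ℕ) (φ : B →ₐ[R] A)
  (hdeg : ∀ n : ℕ, Submodule.map φ.toLinearMap (ℬ n) = 𝒜 (n * d)) (f' : B) (hf' : f' ∈ ℬ 1)

omit [GradedAlgebra 𝒜] [GradedAlgebra ℬ] in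
include hdeg in
theorem map_mem (n : ℕ) (x : B) (hx : x ∈ ℬ n) : φ x ∈ 𝒜 (n • d) := by
  rw [smul_eq_mul, ← hdeg n]
  exact ⟨x, hx, rfl⟩

omit [GradedAlgebra 𝒜] [GradedAlgebra ℬ] in
include hdeg hf' in
theorem f_mem : φ f' ∈ 𝒜 d := by
  have := map_mem 𝒜 ℬ d φ hdeg 1 f' hf'
  simpa using this

/-- the degree `n` component of the map `x ↦ φ x / f ^ n` -/
noncomputable def ψn (n : ℕ) : ℬ n →+ Away 𝒜 (φ f') where
  toFun x := Away.mk 𝒜 (f_mem 𝒜 ℬ d φ hdeg f' hf') n (φ x) (map_mem 𝒜 ℬ d φ hdeg n x x.2)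
  map_zero' := by
    apply HomogeneousLocalization.val_injective
    simp [Localization.mk_zero]
  map_add' x y := by
    apply HomogeneousLocalization.val_injective
    simp [Localization.add_mk_self]

/-- the ring hom `x ↦ ∑ φ xₙ / f ^ n` -/
noncomputable def ψ : B →+* Away 𝒜 (φ f') :=
  (DirectSum.toSemiring (ψn 𝒜 ℬ d φ hdeg f' hf')
    (by
      apply HomogeneousLocalization.val_injective
      simp [ψn])
    (by
      intro i j x y
      apply HomogeneousLocalization.val_injective
      simp only [ψn, AddMonoidHom.coe_mk, ZeroHom.coe_mk, Away.val_mk, val_mul,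
        Localization.mk_mul]
      congr 1
      · simp
      · exact Subtype.ext (pow_add _ _ _))).comp
  (DirectSum.decomposeRingEquiv ℬ).toRingHom

theorem ψ_apply (n : ℕ) (x : B) (hx : x ∈ ℬ n) :
    ψ 𝒜 ℬ d φ hdeg f' hf' x =
      Away.mk 𝒜 (f_mem 𝒜 ℬ d φ hdeg f' hf') n (φ x) (map_mem 𝒜 ℬ d φ hdeg n x hx) := by
  simp only [ψ, RingEquiv.toRingHom_eq_coe, RingHom.coe_comp, RingHom.coe_coe,
    Function.comp_apply]
  change (toSemiring (ψn 𝒜 ℬ d φ hdeg f' hf') _ _) (decompose ℬ x) = _
  rw [DirectSum.decompose_of_mem ℬ hx, DirectSum.toSemiring_of]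
  rfl

end

/-- Let S be a ring graded in nonnegative degrees, d > 0, and S^{(d)} the graded ring whose degree-n
part is S_{nd} (given here as any graded ring S' with an injective algebra homomorphism φ : S' → S
carrying S'_n onto S_{nd} for every n); let f' ∈ S'_1, with image f = φ(f') ∈ S_d. Then there is a
ring isomorphism between the degree-zero homogeneous localization S_(f) and the quotient S'/(f' -
1)S', whose inverse sends the class of an element x of S'_n to the fraction φ(x)/f^n. (The module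
part of the published statement is not stated here.) -/
theorem result {R A : Type u} [CommRing R] [CommRing A] [Algebra R A] (𝒜 : ℕ → Submodule R A) [GradedAlgebra 𝒜]
    {B : Type u} [CommRing B] [Algebra R B] (ℬ : ℕ → Submodule R B) [GradedAlgebra ℬ]
    (d : ℕ) (hd : 0 < d) (φ : B →ₐ[R] A) (hφ : Function.Injective φ)
    (hdeg : ∀ n : ℕ, Submodule.map φ.toLinearMap (ℬ n) = 𝒜 (n * d)) (f' : B) (hf' : f' ∈ ℬ 1) :
    ∃ e : HomogeneousLocalization.Away 𝒜 (φ f') ≃+* B ⧸ Ideal.span {f' - 1},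
      ∀ (n : ℕ) (x : B), x ∈ ℬ n →
        (e.symm (Ideal.Quotient.mk (Ideal.span {f' - 1}) x)).val =
          Localization.mk (φ x) ⟨φ f' ^ n, pow_mem (Submonoid.mem_powers (φ f')) n⟩ := by
  classical
  set Ψ := ψ 𝒜 ℬ d φ hdeg f' hf' with hΨ
  have hfd : φ f' ∈ 𝒜 d := f_mem 𝒜 ℬ d φ hdeg f' hf'
  have hΨ_apply : ∀ (n : ℕ) (x : B) (hx : x ∈ ℬ n), Ψ x =
      HomogeneousLocalization.Away.mk 𝒜 hfd n (φ x) (map_mem 𝒜 ℬ d φ hdeg n x hx) :=
    ψ_apply 𝒜 ℬ d φ hdeg f' hf'
  -- Ψ f' = 1
  have hΨf : Ψ f' = 1 := by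
    rw [hΨ_apply 1 f' hf']
    apply HomogeneousLocalization.val_injective
    simp only [HomogeneousLocalization.Away.val_mk, HomogeneousLocalization.val_one, pow_one]
    exact Localization.mk_self (⟨φ f', _⟩ : Submonoid.powers (φ f'))
  have hker : ∀ a ∈ Ideal.span {f' - 1}, Ψ a = 0 := by
    intro a ha
    rw [Ideal.mem_span_singleton'] at ha
    obtain ⟨c, rfl⟩ := ha
    rw [map_mul, map_sub, hΨf, map_one, sub_self, mul_zero]
  let Ψbar : B ⧸ Ideal.span {f' - 1} →+* HomogeneousLocalization.Away 𝒜 (φ f') :=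
    Ideal.Quotient.lift _ Ψ hker
  have hsurj : Function.Surjective Ψbar := by
    intro y
    obtain ⟨n, a, ha, rfl⟩ := HomogeneousLocalization.Away.mk_surjective 𝒜 hfd y
    have ha' : a ∈ Submodule.map φ.toLinearMap (ℬ n) := by
      rw [hdeg n, ← smul_eq_mul]; exact ha
    obtain ⟨b, hb, rfl⟩ := ha'
    refine ⟨Ideal.Quotient.mk _ b, ?_⟩
    simp only [Ψbar, Ideal.Quotient.lift_mk]
    rw [hΨ_apply n b hb]
    rfl
  have hinj : Function.Injective Ψbar := by
    rw [injective_iff_map_eq_zero]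
    intro z hz
    obtain ⟨x, rfl⟩ := Ideal.Quotient.mk_surjective z
    simp only [Ψbar, Ideal.Quotient.lift_mk] at hz
    set π := Ideal.Quotient.mk (Ideal.span {f' - 1}) with hπ
    have hπf : π f' = 1 := by
      have : π (f' - 1) = 0 := Ideal.Quotient.eq_zero_iff_mem.mpr (Ideal.mem_span_singleton_self _)
      rw [map_sub, map_one, sub_eq_zero] at this
      exact this
    set s := (DirectSum.decompose ℬ x).support with hs
    set N := s.sup id with hN
    have hle : ∀ n ∈ s, n ≤ N := fun n hn => Finset.le_sup (f := id) hn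
    have hx : x = ∑ n ∈ s, ((DirectSum.decompose ℬ x n : ℬ n) : B) :=
      (DirectSum.sum_support_decompose ℬ x).symm
    -- the element of `B` killed by a power of `f'`
    set y : B := ∑ n ∈ s, ((DirectSum.decompose ℬ x n : ℬ n) : B) * f' ^ (N - n) with hy
    have hπy : π y = π x := by
      rw [hy, map_sum]
      conv_rhs => rw [hx, map_sum]
      refine Finset.sum_congr rfl fun n _ => ?_
      rw [map_mul, map_pow, hπf, one_pow, mul_one]
    have hzero : algebraMap A (Localization.Away (φ f')) (φ y) = 0 := by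
      have h1 : algebraMap (HomogeneousLocalization.Away 𝒜 (φ f')) (Localization.Away (φ f'))
          (Ψ x) = 0 := by rw [hz, map_zero]
      rw [hx, map_sum, map_sum] at h1
      simp only [HomogeneousLocalization.algebraMap_apply] at h1
      have h2 : ∀ n ∈ s, algebraMap A (Localization.Away (φ f')) (φ f') ^ N *
          (Ψ ((DirectSum.decompose ℬ x n : ℬ n) : B)).val =
          algebraMap A (Localization.Away (φ f'))
            (φ (((DirectSum.decompose ℬ x n : ℬ n) : B) * f' ^ (N - n))) := by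
        intro n hn
        rw [hΨ_apply n _ (SetLike.coe_mem _), HomogeneousLocalization.Away.val_mk,
          Localization.mk_eq_mk', ← Nat.sub_add_cancel (hle n hn), pow_add, mul_assoc]
        rw [← map_pow (algebraMap A (Localization.Away (φ f'))) (φ f') n]
        have := IsLocalization.mk'_spec' (Localization.Away (φ f'))
          (φ ((DirectSum.decompose ℬ x n : ℬ n) : B))
          (⟨φ f' ^ n, n, rfl⟩ : Submonoid.powers (φ f'))
        rw [this, Nat.sub_add_cancel (hle n hn), map_mul, map_mul, map_pow, map_pow, mul_comm]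
      rw [hy, map_sum, map_sum]
      rw [Finset.sum_congr rfl (fun n hn => (h2 n hn).symm), ← Finset.mul_sum, h1, mul_zero]
    obtain ⟨⟨_, k, rfl⟩, hk⟩ :=
      (IsLocalization.map_eq_zero_iff (Submonoid.powers (φ f')) _ _).mp hzero
    have hk' : φ (f' ^ k * y) = 0 := by rw [map_mul, map_pow]; exact hk
    have hk'' : f' ^ k * y = 0 := hφ (by rw [hk', map_zero])
    have := congrArg π hk''
    rw [map_mul, map_pow, hπf, one_pow, one_mul, map_zero, hπy] at this
    exact this
  let e' : B ⧸ Ideal.span {f' - 1} ≃+* HomogeneousLocalization.Away 𝒜 (φ f') :=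
    RingEquiv.ofBijective Ψbar ⟨hinj, hsurj⟩
  refine ⟨e'.symm, ?_⟩
  intro n x hx
  rw [RingEquiv.symm_symm]
  change (Ψbar (Ideal.Quotient.mk _ x)).val = _
  simp only [Ψbar, Ideal.Quotient.lift_mk]
  rw [hΨ_apply n x hx]
  rfl

end Groth.Agent.S4396
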