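import Groth.Statements.S4398
import Mathlib.AlgebraicGeometry.Morphisms.Basic
import Mathlib.AlgebraicGeometry.Morphisms.IsIso

set_option autoImplicit false
universe u
open AlgebraicGeometry
open EGA2

namespace Groth.Agent.S4398

open CategoryTheory Limits

section

open HomogeneousLocalization

variable {R A : Type u} [CommRing R] [CommRing A] [Algebra R A] (𝒜 : ℕ → Submodule R A)
  [GradedAlgebra 𝒜]
  {B : Type u} [CommRing B] [Algebra R B] (ℬ : ℕ → Submodule R B) [GradedAlgebra ℬ]

/-- `x / s ^ n = x s / s ^ (n + 1)`. -/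
theorem mk_succ {i : ℕ} {s : B} (hs : s ∈ ℬ i) (n : ℕ) (x : B) (hx : x ∈ ℬ (n • i)) :
    Away.mk ℬ hs n x hx = Away.mk ℬ hs (n + 1) (x * s)
      (by rw [add_smul, one_smul]; exact SetLike.mul_mem_graded hx hs) := by
  apply HomogeneousLocalization.val_injective
  simp only [Away.val_mk]
  rw [Localization.mk_eq_mk_iff, Localization.r_iff_exists]
  refine ⟨1, ?_⟩
  simp only [OneMemClass.coe_one, one_mul]
  ring

theorem away_map_bijective (φ : ℬ →+*ᵍ 𝒜) (hbij : ∀ n : ℕ, 0 < n → Set.BijOn φ (ℬ n) (𝒜 n))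
    {i : ℕ} (hi : 0 < i) (s : B) (hs : s ∈ ℬ i) :
    Function.Bijective (Away.map φ s : Away ℬ s →+* Away 𝒜 (φ s)) := by
  have hφs : φ s ∈ 𝒜 i := φ.map_mem hs
  constructor
  · rw [injective_iff_map_eq_zero]
    intro x hx
    obtain ⟨n, b, hb, rfl⟩ := Away.mk_surjective ℬ hs x
    rw [mk_succ ℬ hs n b hb] at hx ⊢
    rw [Away.map_mk] at hx
    have hval := congrArg HomogeneousLocalization.val hx
    rw [Away.val_mk, HomogeneousLocalization.val_zero, Localization.mk_eq_mk',
      IsLocalization.mk'_eq_zero_iff] at hval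
    obtain ⟨⟨_, k, rfl⟩, hk⟩ := hval
    have hdegpos : 0 < k • i + (n + 1) • i := by
      have : 0 < (n + 1) • i := by rw [smul_eq_mul]; positivity
      omega
    have hmem : s ^ k * (b * s) ∈ ℬ (k • i + (n + 1) • i) := by
      refine SetLike.mul_mem_graded (SetLike.pow_mem_graded k hs) ?_
      rw [add_smul, one_smul]; exact SetLike.mul_mem_graded hb hs
    have hzero : φ (s ^ k * (b * s)) = φ 0 := by
      rw [map_mul, map_pow, map_zero]; exact hk
    have h0 : s ^ k * (b * s) = 0 :=
      (hbij _ hdegpos).injOn hmem (zero_mem _) hzero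
    apply HomogeneousLocalization.val_injective
    rw [Away.val_mk, HomogeneousLocalization.val_zero, Localization.mk_eq_mk',
      IsLocalization.mk'_eq_zero_iff]
    exact ⟨⟨s ^ k, k, rfl⟩, h0⟩
  · intro y
    obtain ⟨n, a, ha, rfl⟩ := Away.mk_surjective 𝒜 hφs y
    rw [mk_succ 𝒜 hφs n a ha]
    have hpos : 0 < (n + 1) • i := by rw [smul_eq_mul]; positivity
    have hmem : a * φ s ∈ 𝒜 ((n + 1) • i) := by
      rw [add_smul, one_smul]; exact SetLike.mul_mem_graded ha hφs
    obtain ⟨b, hb, hbe⟩ := (hbij _ hpos).surjOn hmem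
    refine ⟨Away.mk ℬ hs (n + 1) b hb, ?_⟩
    rw [Away.map_mk]
    congr 1

end

/-- Let φ : S' → S be a homomorphism of rings graded in nonnegative degrees which maps S'_n bijectively
onto S_n for every n > 0, so that S_+ lies in the ideal generated by φ(S'_+) (stated as a hypothesis
because the induced morphism is built from it). Then the induced morphism Proj S → Proj S' is an
isomorphism of schemes. (The published statement treats the cases S'_0 = ℤ and S'_0 = A with S'_n =
S_n for n > 0; this row allows any graded φ that is bijective in positive degrees.) -/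
theorem result {R A : Type u} [CommRing R] [CommRing A] [Algebra R A] (𝒜 : ℕ → Submodule R A) [GradedAlgebra 𝒜]
    {B : Type u} [CommRing B] [Algebra R B] (ℬ : ℕ → Submodule R B) [GradedAlgebra ℬ]
    (φ : ℬ →+*ᵍ 𝒜) (hbij : ∀ n : ℕ, 0 < n → Set.BijOn φ (ℬ n) (𝒜 n))
    (hφ : HomogeneousIdeal.irrelevant 𝒜 ≤ (HomogeneousIdeal.irrelevant ℬ).map φ) :
    CategoryTheory.IsIso (Proj.map φ hφ) := by
  refine (IsZariskiLocalAtTarget.of_openCover (P := MorphismProperty.isomorphisms Scheme)
    (Proj.affineOpenCover ℬ).openCover) fun t => ?_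
  obtain ⟨i, s⟩ := t
  -- the square with the standard affine charts is a pullback
  have hsq : Proj.awayι 𝒜 (φ s.1) (φ.map_mem s.2) i.2 ≫ Proj.map φ hφ =
      Spec.map (CommRingCat.ofHom (HomogeneousLocalization.Away.map φ s.1)) ≫
        Proj.awayι ℬ s.1 s.2 i.2 :=
    Proj.awayι_comp_map φ hφ i.2 s.1 s.2
  have hpb := IsOpenImmersion.isPullback
    (Spec.map (CommRingCat.ofHom (HomogeneousLocalization.Away.map φ s.1)))
    (Proj.awayι 𝒜 (φ s.1) (φ.map_mem s.2) i.2) (Proj.awayι ℬ s.1 s.2 i.2) (Proj.map φ hφ) hsq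
    (by rw [Proj.opensRange_awayι, Proj.opensRange_awayι, Proj.map_preimage_basicOpen])
  have hiso : IsIso (Spec.map (CommRingCat.ofHom (HomogeneousLocalization.Away.map φ s.1))) := by
    have hb := away_map_bijective 𝒜 ℬ φ hbij i.2 s.1 s.2
    have : IsIso (CommRingCat.ofHom (HomogeneousLocalization.Away.map φ s.1)) :=
      (ConcreteCategory.isIso_iff_bijective _).mpr hb
    infer_instance
  change IsIso (pullback.snd (Proj.map φ hφ) (Proj.awayι ℬ s.1 s.2 i.2))
  have heq : pullback.snd (Proj.map φ hφ) (Proj.awayι ℬ s.1 s.2 i.2) =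
      hpb.flip.isoPullback.inv ≫
        Spec.map (CommRingCat.ofHom (HomogeneousLocalization.Away.map φ s.1)) := by
    rw [Iso.eq_inv_comp]
    exact hpb.flip.isoPullback_hom_snd
  rw [heq]
  infer_instance

end Groth.Agent.S4398
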