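import Groth.Statements.S4405
import Groth.Agent.Lib.Helper17.ProjPrime

set_option autoImplicit false
universe u
open EGA2

namespace Groth.Agent.S4405

/-- Let S be a ring graded in nonnegative degrees and E any subset of the irrelevant ideal S_+. Then the
intersection of S_+ with the vanishing ideal of the closed subset V_+(E) of Proj S equals the
intersection of S_+ with the radical of the graded ideal generated by E (the smallest homogeneous
ideal containing E). -/
theorem result {R A : Type u} [CommRing R] [CommRing A] [Algebra R A] (𝒜 : ℕ → Submodule R A) [GradedAlgebra 𝒜]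
    (E : Set A) (hE : E ⊆ (HomogeneousIdeal.irrelevant 𝒜).toIdeal) :
    (HomogeneousIdeal.irrelevant 𝒜).toIdeal ⊓
        (ProjectiveSpectrum.vanishingIdeal (ProjectiveSpectrum.zeroLocus 𝒜 E)).toIdeal =
      (HomogeneousIdeal.irrelevant 𝒜).toIdeal ⊓ (Ideal.homogeneousHull 𝒜 (Ideal.span E)).toIdeal.radical := by
  set J := Ideal.homogeneousHull 𝒜 (Ideal.span E) with hJ
  have hEJ : E ⊆ J.toIdeal := fun e he =>
    Ideal.le_toIdeal_homogeneousHull 𝒜 (Ideal.span E) (Ideal.subset_span he)
  apply le_antisymm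
  · rintro f ⟨hf1, hf2⟩
    refine ⟨hf1, ?_⟩
    by_contra hrad
    obtain ⟨x, hJx, hfx⟩ :=
      Groth.Agent.Lib.Helper17.exists_projectiveSpectrum_not_mem 𝒜 J f hf1 hrad
    have hx : x ∈ ProjectiveSpectrum.zeroLocus 𝒜 E := by
      rw [ProjectiveSpectrum.mem_zeroLocus]
      intro e he
      exact hJx (hEJ he)
    have : f ∈ ProjectiveSpectrum.vanishingIdeal (ProjectiveSpectrum.zeroLocus 𝒜 E) := hf2
    rw [ProjectiveSpectrum.mem_vanishingIdeal] at this
    exact hfx (this x hx)
  · rintro f ⟨hf1, hf2⟩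
    refine ⟨hf1, ?_⟩
    show f ∈ ProjectiveSpectrum.vanishingIdeal (ProjectiveSpectrum.zeroLocus 𝒜 E)
    rw [ProjectiveSpectrum.mem_vanishingIdeal]
    intro x hx
    rw [ProjectiveSpectrum.mem_zeroLocus] at hx
    have hJx : J ≤ x.asHomogeneousIdeal := by
      rw [hJ]
      apply (Ideal.homogeneousHull.gc 𝒜 _ _).mpr
      exact Ideal.span_le.mpr hx
    obtain ⟨n, hn⟩ := hf2
    exact x.isPrime.mem_of_pow_mem n (hJx hn)

end Groth.Agent.S4405
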