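import Groth.Statements.S4408
import Groth.Agent.Lib.Helper29.Sky
import Groth.Agent.Lib.Helper29.QCohIdealMod
import Groth.Agent.Lib.Helper29.QCohAss2
import Groth.Agent.Lib.Helper3.QCAlgFT

set_option autoImplicit false
universe u
open CategoryTheory CategoryTheory.Limits AlgebraicGeometry
open EGA2

namespace Groth.Agent.S4408

section Aux
open Opposite TopologicalSpace
open Groth.Agent.Lib.Helper29.QCoh Groth.Agent.Lib.Helper3

variable {X : Scheme.{u}}

/-- Germs at `x` of functions that are not invertible at `x`, as a submodule of the stalk of the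
structure module. -/
noncomputable def nonunitSub (x : X) : Submodule (X.presheaf.stalk x) ((unitM X).presheaf.stalk x) where
  carrier := {t | ∃ (W : X.Opens) (hx : x ∈ W) (a : Γ(X, W)),
    (unitM X).presheaf.germ W x hx (toUnit a) = t ∧ x ∉ X.basicOpen a}
  add_mem' := by
    rintro _ _ ⟨W, hx, a, rfl, ha⟩ ⟨W', hx', a', rfl, ha'⟩
    have hx'' : x ∈ W ⊓ W' := ⟨hx, hx'⟩
    refine ⟨W ⊓ W', hx'', X.presheaf.map (homOfLE inf_le_left).op a +
      X.presheaf.map (homOfLE inf_le_right).op a', ?_, ?_⟩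
    · have e1 : toUnit (X.presheaf.map (homOfLE inf_le_left).op a +
          X.presheaf.map (homOfLE inf_le_right).op a') =
          res (unitM X) (inf_le_left : W ⊓ W' ≤ W) (toUnit a) +
            res (unitM X) (inf_le_right : W ⊓ W' ≤ W') (toUnit a') := rfl
      rw [e1, map_add, germ_res, germ_res]
    · rw [X.mem_basicOpen _ x hx'', map_add]
      intro hu
      rcases IsLocalRing.isUnit_or_isUnit_of_isUnit_add hu with h | h
      · apply ha
        rw [X.mem_basicOpen _ x hx]
        rwa [X.presheaf.germ_res_apply] at h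
      · apply ha'
        rw [X.mem_basicOpen _ x hx']
        rwa [X.presheaf.germ_res_apply] at h
  zero_mem' := by
    refine ⟨⊤, trivial, 0, ?_, ?_⟩
    · exact map_zero _
    · rw [Scheme.mem_basicOpen_top, map_zero]
      exact not_isUnit_zero
  smul_mem' := by
    rintro r _ ⟨W, hx, a, rfl, ha⟩
    obtain ⟨W', hx', b, rfl⟩ := X.presheaf.exists_germ_eq r
    have hx'' : x ∈ W' ⊓ W := ⟨hx', hx⟩
    refine ⟨W' ⊓ W, hx'', X.presheaf.map (homOfLE inf_le_left).op b *
      X.presheaf.map (homOfLE inf_le_right).op a, ?_, ?_⟩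
    · have e1 : toUnit (X.presheaf.map (homOfLE inf_le_left).op b *
          X.presheaf.map (homOfLE inf_le_right).op a) =
          (show Γ(X, W' ⊓ W) from X.presheaf.map (homOfLE (inf_le_left : W' ⊓ W ≤ W')).op b) •
            res (unitM X) (inf_le_right : W' ⊓ W ≤ W) (toUnit a) := by
        change (_ : Γ(X, W' ⊓ W)) = _ * _
        rfl
      rw [e1, germ_smul, germ_res, X.presheaf.germ_res_apply]
    · rw [X.mem_basicOpen _ x hx'', map_mul]
      intro hu
      apply ha
      rw [X.mem_basicOpen _ x hx]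
      have h := isUnit_of_mul_isUnit_right hu
      rwa [X.presheaf.germ_res_apply] at h

theorem germ_mem_nonunitSub_iff (x : X) (W : X.Opens) (hx : x ∈ W) (a : Γ(X, W)) :
    (unitM X).presheaf.germ W x hx (toUnit a) ∈ nonunitSub x ↔ x ∉ X.basicOpen a := by
  constructor
  · rintro ⟨W', hx', a', he, ha'⟩ hxa
    obtain ⟨W'', hx'', i1, i2, e⟩ := (unitM X).presheaf.germ_eq x hx' hx _ _ he
    apply ha'
    have e' : X.presheaf.map i1.op a' = X.presheaf.map i2.op a := e
    have h1 : x ∈ X.basicOpen (X.presheaf.map i2.op a) := by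
      rw [X.basicOpen_res]; exact ⟨hx'', hxa⟩
    rw [← e', X.basicOpen_res] at h1
    exact h1.2
  · intro ha
    exact ⟨W, hx, a, rfl, ha⟩


theorem stalkMapₗ_germ_mem {J : X.Modules} (i : J ⟶ unitM X) (x : X) (W : X.Opens) (hx : x ∈ W)
    (m : Γ(J, W)) :
    stalkMapₗ i x (J.presheaf.germ W x hx m) ∈ nonunitSub x ↔
      x ∉ X.basicOpen (fromUnit (i.app W m)) := by
  have e := stalkMap_germ i x W hx m
  rw [stalkMapₗ_apply, e]
  exact germ_mem_nonunitSub_iff x W hx _

/-- If the germs of global sections generate the stalk of an ideal `J ⊆ O_X` at `x` and `J` contains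
near `x` a section mapping to `1`, then some global section of `J` is invertible at `x`. -/
theorem exists_global_unit {J : X.Modules} (i : J ⟶ unitM X) (x : X) (hgen : GenAt J x)
    (U : X.Opens) (hxU : x ∈ U) (s₁ : Γ(J, U)) (hs₁ : i.app U s₁ = toUnit (1 : Γ(X, U))) :
    ∃ σ : Γ(J, ⊤), x ∈ X.basicOpen (fromUnit (i.app ⊤ σ)) := by
  by_contra hcon
  push Not at hcon
  let N : Submodule (X.presheaf.stalk x) (J.presheaf.stalk x) :=
    (nonunitSub x).comap (stalkMapₗ i x)
  have hle : Submodule.span (X.presheaf.stalk x)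
      (Set.range fun σ : Γ(J, ⊤) => J.presheaf.germ ⊤ x trivial σ) ≤ N := by
    rw [Submodule.span_le]
    rintro _ ⟨σ, rfl⟩
    exact (stalkMapₗ_germ_mem i x ⊤ trivial σ).mpr (hcon σ)
  rw [GenAt] at hgen
  rw [hgen] at hle
  have h1 : J.presheaf.germ U x hxU s₁ ∈ N := hle trivial
  have h2 := (stalkMapₗ_germ_mem i x U hxU s₁).mp h1
  apply h2
  rw [hs₁, fromUnit_toUnit, X.mem_basicOpen _ x hxU, map_one]
  exact isUnit_one

end Aux

open Opposite TopologicalSpace Groth.Agent.Lib.Helper29.QCoh Groth.Agent.Lib.Helper3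


/-- (e') ⇒ (a): let X be a quasi-compact separated scheme such that every quasi-coherent submodule of
finite type of O_X is generated by its global sections. Then X is quasi-affine. (The published
statement also allows X to be a scheme whose underlying space is Noetherian; this row assumes it
quasi-compact and separated.) -/
theorem result (X : Scheme.{u}) [CompactSpace X] [X.IsSeparated]
    (h : ∀ (J : X.Modules) (i : J ⟶ Coh.structureModule X), Mono i → Coh.IsQCoh J → CohB1.IsFT J →
      Curv2.IsGloballyGenerated J) :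
    X.IsQuasiAffine := by
  have hqs : QuasiSeparatedSpace X := inferInstance
  refine Scheme.IsQuasiAffine.of_forall_exists_mem_basicOpen X fun x => ?_
  obtain ⟨U, hU, hxU, -⟩ := exists_isAffineOpen_mem_and_subset (x := x) (U := ⊤) trivial
  let Z : Closeds X := ⟨(U : Set X)ᶜ, U.isOpen.isClosed_compl⟩
  let I := Scheme.IdealSheafData.vanishingIdeal Z
  have h1 : (1 : Γ(X, U)) ∈ I.ideal ⟨U, hU⟩ := by
    rw [Scheme.IdealSheafData.vanishingIdeal_ideal, PrimeSpectrum.mem_vanishingIdeal]
    intro p hp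
    exfalso
    have : hU.fromSpec p ∈ (U : Set X) := by
      rw [← hU.range_fromSpec]; exact ⟨p, rfl⟩
    exact hp this
  obtain ⟨s₀, hs₀⟩ := exists_idealModι_app_eq I ⟨U, hU⟩ 1 h1
  obtain ⟨K, hK1, hK2, hK3⟩ := hasFTThrough_of_qcqs (ClSub.idealMod I) U hU s₀
  let J := K.toModules
  let i : J ⟶ unitM X := K.ι ≫ ClSub.idealModι I
  have hKmono : Mono K.ι := (mono_iff_app_injective _).mpr K.ι_app_injective
  have hmono : Mono i := mono_comp _ _
  have hgg := h J i hmono hK1 hK2
  have hgen := genAt_of_isGloballyGenerated hgg x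
  obtain ⟨s₁, hs₁⟩ := K.exists_of_mem U s₀ hK3
  have hs₁' : i.app U s₁ = toUnit (1 : Γ(X, U)) := by
    change (ClSub.idealModι I).app U (K.ι.app U s₁) = _
    rw [hs₁]
    exact hs₀
  obtain ⟨σ, hσ⟩ := exists_global_unit i x hgen U hxU s₁ hs₁'
  refine ⟨fromUnit (i.app ⊤ σ), ?_, hσ⟩
  have hle : X.basicOpen (fromUnit (i.app ⊤ σ)) ≤ U := by
    intro y hy
    by_contra hyU
    have hyZ : y ∈ (I.support : Set X) := by
      rw [Scheme.IdealSheafData.coe_support_vanishingIdeal]
      exact hyU
    obtain ⟨W, hW, hyW, -⟩ := exists_isAffineOpen_mem_and_subset (x := y) (U := ⊤) trivial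
    have h2 := (Scheme.IdealSheafData.mem_support_iff_of_mem (U := ⟨W, hW⟩) hyW).mp hyZ
    rw [Scheme.mem_zeroLocus_iff] at h2
    have hmem : fromUnit ((ClSub.idealModι I).app W (K.ι.app W (res J (le_top : W ≤ ⊤) σ))) ∈
        I.ideal ⟨W, hW⟩ := idealModι_app_mem I ⟨W, hW⟩ _
    have h3 := h2 _ hmem
    apply h3
    have e1 : (ClSub.idealModι I).app W (K.ι.app W (res J (le_top : W ≤ ⊤) σ)) =
        res (unitM X) (le_top : W ≤ ⊤) (i.app ⊤ σ) := by
      change i.app W (res J (le_top : W ≤ ⊤) σ) = _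
      exact app_res i le_top σ
    rw [e1]
    have e2 : fromUnit (res (unitM X) (le_top : W ≤ ⊤) (i.app ⊤ σ)) =
        X.presheaf.map (homOfLE (le_top : W ≤ ⊤)).op (fromUnit (i.app ⊤ σ)) := rfl
    rw [e2, X.basicOpen_res]
    exact ⟨hyW, hy⟩
  have e3 : X.basicOpen (fromUnit (i.app ⊤ σ)) =
      X.basicOpen (X.presheaf.map (homOfLE (le_top : U ≤ ⊤)).op (fromUnit (i.app ⊤ σ))) := by
    rw [X.basicOpen_res]
    exact (inf_eq_right.mpr hle).symm
  rw [e3]
  exact hU.basicOpen _

end Groth.Agent.S4408
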