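import Groth.Statements.S4409
import Groth.Agent.Lib.Helper3.CounitGen
import Groth.Prelude.Def_RelSpec

set_option autoImplicit false
universe u
open CategoryTheory CategoryTheory.Limits AlgebraicGeometry
open EGA2

namespace Groth.Agent.S4409

section Aux
open Opposite TopologicalSpace
open Groth.Agent.Lib.Helper29.QCoh Groth.Agent.Lib.Helper3

variable {X Y : Scheme.{u}}

/-- The closed complement of an open. -/
def complCloseds (U : X.Opens) : Closeds X := ⟨(U : Set X)ᶜ, U.isOpen.isClosed_compl⟩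

/-- Sections of an ideal whose support contains the complement of `U` are invertible only
inside `U`. -/
theorem basicOpen_le_of_support (I : X.IdealSheafData) (U T : X.Opens)
    (hI : (U : Set X)ᶜ ⊆ (I.support : Set X)) (τ : Γ(ClSub.idealMod I, T)) :
    X.basicOpen (fromUnit ((ClSub.idealModι I).app T τ)) ≤ U := by
  intro y hy
  by_contra hyU
  have hyT : y ∈ T := X.basicOpen_le _ hy
  have hyZ : y ∈ (I.support : Set X) := hI hyU
  obtain ⟨W, hW, hyW, hWT'⟩ := exists_isAffineOpen_mem_and_subset (x := y) (U := T) hyT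
  have hWT : W ≤ T := hWT'
  have h2 := (Scheme.IdealSheafData.mem_support_iff_of_mem (U := ⟨W, hW⟩) hyW).mp hyZ
  rw [Scheme.mem_zeroLocus_iff] at h2
  have hmem : fromUnit ((ClSub.idealModι I).app W (res (ClSub.idealMod I) hWT τ)) ∈
      I.ideal ⟨W, hW⟩ := idealModι_app_mem I ⟨W, hW⟩ _
  have h3 := h2 _ hmem
  apply h3
  have e1 : (ClSub.idealModι I).app W (res (ClSub.idealMod I) hWT τ) =
      res (unitM X) hWT ((ClSub.idealModι I).app T τ) := app_res _ hWT τ
  rw [e1]
  have e2 : fromUnit (res (unitM X) hWT ((ClSub.idealModι I).app T τ)) =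
      X.presheaf.map (homOfLE hWT).op (fromUnit ((ClSub.idealModι I).app T τ)) := rfl
  rw [e2, X.basicOpen_res]
  exact ⟨hyW, hy⟩

theorem one_mem_vanishingIdeal (U : X.Opens) (hU : IsAffineOpen U) :
    (1 : Γ(X, U)) ∈ (Scheme.IdealSheafData.vanishingIdeal (complCloseds U)).ideal ⟨U, hU⟩ := by
  rw [Scheme.IdealSheafData.vanishingIdeal_ideal, PrimeSpectrum.mem_vanishingIdeal]
  intro p hp
  exfalso
  have : hU.fromSpec p ∈ (U : Set X) := by
    rw [← hU.range_fromSpec]; exact ⟨p, rfl⟩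
  exact hp this

set_option backward.isDefEq.respectTransparency false in
theorem exists_basicOpen_affine (f : X ⟶ Y) [QuasiCompact f] [IsSeparated f]
    (hepi : ∀ F : X.Modules, Coh.IsQCoh F →
      Epi ((Scheme.Modules.pullbackPushforwardAdjunction f).counit.app F))
    (V : Y.Opens) (hV : IsAffineOpen V) (x : X) (hx : x ∈ f ⁻¹ᵁ V) :
    ∃ R : Γ(X, f ⁻¹ᵁ V), IsAffineOpen (X.basicOpen R) ∧ x ∈ X.basicOpen R := by
  obtain ⟨U, hU, hxU, hUV'⟩ := exists_isAffineOpen_mem_and_subset (x := x) (U := f ⁻¹ᵁ V) hx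
  have hUV : U ≤ f ⁻¹ᵁ V := hUV'
  let I := Scheme.IdealSheafData.vanishingIdeal (complCloseds U)
  have hsupp : (U : Set X)ᶜ ⊆ (I.support : Set X) := by
    rw [Scheme.IdealSheafData.coe_support_vanishingIdeal]; rfl
  obtain ⟨s₀, hs₀⟩ := exists_idealModι_app_eq I ⟨U, hU⟩ 1 (one_mem_vanishingIdeal U hU)
  have hepiM := hepi (ClSub.idealMod I) (isQuasicoherent_idealMod I)
  have hspan := span_preimageGerms_eq_top_of_epi_counit f (ClSub.idealMod I) x
  obtain ⟨t, ⟨V'', hV'', τ, rfl⟩, ht⟩ := exists_mem_not_mem_nonunitSub (ClSub.idealModι I) x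
    (preimageGerms f _ x) hspan U hxU s₀ (by rw [← hs₀, toUnit_fromUnit])
  rw [stalkMapₗ_germ_mem] at ht
  push Not at ht
  obtain ⟨g, hgV'', hxg⟩ := hV.exists_basicOpen_le (V := V'') ⟨f x, hV''⟩ hx
  set g' : Γ(X, f ⁻¹ᵁ V) := f.app V g with hg'
  have hDg : X.basicOpen g' = f ⁻¹ᵁ Y.basicOpen g := (Scheme.preimage_basicOpen f g).symm
  have hDle : X.basicOpen g' ≤ f ⁻¹ᵁ V'' := by
    rw [hDg]; exact f.preimage_mono hgV''
  have hxD : x ∈ X.basicOpen g' := by rw [hDg]; exact hxg
  -- the restricted section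
  set τ' : Γ(ClSub.idealMod I, X.basicOpen g') := res (ClSub.idealMod I) hDle τ with hτ'
  set r₀ : Γ(X, X.basicOpen g') := fromUnit ((ClSub.idealModι I).app _ τ') with hr₀
  have hr₀U : X.basicOpen r₀ ≤ U := basicOpen_le_of_support I U _ hsupp τ'
  have hr₀eq : r₀ = X.presheaf.map (homOfLE hDle).op
      (fromUnit ((ClSub.idealModι I).app (f ⁻¹ᵁ V'') τ)) := by
    rw [hr₀, hτ', app_res]; rfl
  have hxr₀ : x ∈ X.basicOpen r₀ := by
    rw [hr₀eq, X.basicOpen_res]; exact ⟨hxD, ht⟩
  have hcomp : IsCompact (f ⁻¹ᵁ V : Set X) := f.isCompact_preimage hV.isCompact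
  have hqs : IsQuasiSeparated (f ⁻¹ᵁ V : Set X) := f.isQuasiSeparated_preimage hV.isQuasiSeparated
  obtain ⟨n, y, hy⟩ := exists_eq_pow_mul_of_isCompact_of_isQuasiSeparated X _ hcomp hqs g' r₀
  dsimp only [TopCat.Presheaf.restrictOpenCommRingCat_apply] at hy
  have hkey : X.basicOpen (y * g') = X.basicOpen r₀ := by
    have hle : X.basicOpen (y * g') ≤ X.basicOpen g' := by
      rw [X.basicOpen_mul]; exact inf_le_right
    have h1 : X.basicOpen (X.presheaf.map (homOfLE (X.basicOpen_le g')).op (y * g')) =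
        X.basicOpen r₀ := by
      have e : X.presheaf.map (homOfLE (X.basicOpen_le g')).op (y * g') =
          (X.presheaf.map (homOfLE (X.basicOpen_le g')).op g') ^ (n + 1) * r₀ := by
        rw [map_mul, hy, pow_succ]; ring
      rw [e, X.basicOpen_mul, X.basicOpen_pow _ (Nat.succ_pos n), X.basicOpen_res]
      apply le_antisymm
      · exact inf_le_right
      · exact le_inf (le_inf (X.basicOpen_le r₀) (X.basicOpen_le r₀)) le_rfl
    rw [← h1, X.basicOpen_res]
    exact (inf_eq_right.mpr hle).symm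
  refine ⟨y * g', ?_, ?_⟩
  · rw [hkey]
    set gU : Γ(X, U) := X.presheaf.map (homOfLE hUV).op g' with hgU
    have hA : IsAffineOpen (X.basicOpen gU) := hU.basicOpen gU
    have hAeq : X.basicOpen gU = U ⊓ X.basicOpen g' := X.basicOpen_res _ _
    have hAle : X.basicOpen gU ≤ X.basicOpen g' := by rw [hAeq]; exact inf_le_right
    have h2 : X.basicOpen (X.presheaf.map (homOfLE hAle).op r₀) = X.basicOpen r₀ := by
      rw [X.basicOpen_res, hAeq]
      exact inf_eq_right.mpr (le_inf hr₀U (X.basicOpen_le r₀))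
    rw [← h2]
    exact hA.basicOpen _
  · rw [hkey]; exact hxr₀

set_option backward.isDefEq.respectTransparency false in
theorem isQuasiAffine_preimage (f : X ⟶ Y) [QuasiCompact f] [IsSeparated f]
    (hepi : ∀ F : X.Modules, Coh.IsQCoh F →
      Epi ((Scheme.Modules.pullbackPushforwardAdjunction f).counit.app F))
    (V : Y.Opens) (hV : IsAffineOpen V) : Scheme.IsQuasiAffine (f ⁻¹ᵁ V : Scheme.{u}) := by
  have hc : CompactSpace ↥(f ⁻¹ᵁ V : Scheme.{u}) :=
    isCompact_iff_compactSpace.mp (f.isCompact_preimage hV.isCompact)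
  refine Scheme.IsQuasiAffine.of_forall_exists_mem_basicOpen _ fun x => ?_
  obtain ⟨R, hR, hxR⟩ := exists_basicOpen_affine f hepi V hV x.1 x.2
  refine ⟨(f ⁻¹ᵁ V).topIso.inv R, ?_, ?_⟩
  · rw [← (f ⁻¹ᵁ V).ι.isAffineOpen_iff_of_isOpenImmersion,
      Scheme.Opens.ι_image_basicOpen_topIso_inv]
    exact hR
  · rw [← Scheme.Opens.mem_ι_image_iff, Scheme.Opens.ι_image_basicOpen_topIso_inv]
    exact hxR

theorem isSeparated_of_isQuasiAffine (f : X ⟶ Y) (h : Mor2.IsQuasiAffine f) : IsSeparated f := by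
  rw [IsSeparated.hasAffineProperty.eq_targetAffineLocally]
  intro U
  have := h.2 U.1 U.2
  change Scheme.IsSeparated (f ⁻¹ᵁ U.1 : Scheme.{u})
  infer_instance

theorem epi_counit_of_isQuasiAffine (f : X ⟶ Y) (h : Mor2.IsQuasiAffine f) (F : X.Modules)
    (hF : Coh.IsQCoh F) : Epi ((Scheme.Modules.pullbackPushforwardAdjunction f).counit.app F) := by
  refine epi_counit_of_isGloballyGenerated_restrict f F fun x => ?_
  obtain ⟨V, hV, hxV, -⟩ := exists_isAffineOpen_mem_and_subset (x := f x) (U := (⊤ : Y.Opens)) trivial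
  refine ⟨V, hxV, ?_⟩
  have := h.2 V hV
  have : F.IsQuasicoherent := hF
  exact isGloballyGenerated_of_isQuasiAffine _

end Aux


/-- (a) ⇔ (d): let f : X → Y be a quasi-compact morphism. Then f is quasi-affine (the preimage of every
affine open of Y is a quasi-affine scheme) if and only if f is separated and, for every
quasi-coherent O_X-module F, the canonical morphism f^*(f_*(F)) → F (counit of the adjunction
between f^* and f_*) is an epimorphism. -/
theorem result {X Y : Scheme.{u}} (f : X ⟶ Y) [QuasiCompact f] :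
    Mor2.IsQuasiAffine f ↔ (IsSeparated f ∧ ∀ F : X.Modules, Coh.IsQCoh F →
      Epi ((Scheme.Modules.pullbackPushforwardAdjunction f).counit.app F)) := by
  constructor
  · intro h
    exact ⟨isSeparated_of_isQuasiAffine f h, fun F hF => epi_counit_of_isQuasiAffine f h F hF⟩
  · rintro ⟨hsep, hepi⟩
    exact ⟨inferInstance, fun V hV => isQuasiAffine_preimage f hepi V hV⟩

end Groth.Agent.S4409
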