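import Groth.Statements.S9380
import Groth.Agent.Lib.Helper3.QCAlgLift

set_option autoImplicit false
universe u
open QAff

namespace Groth.Agent.S9380

open AlgebraicGeometry CategoryTheory Opposite TopologicalSpace RelSpec Groth.Agent.Lib.Helper3

theorem algHom_app {X Y S : Scheme.{u}} (f : X ⟶ S) (g : Y ⟶ S) (h : Y ⟶ X) (w : h ≫ f = g)
    (U : S.Opens) :
    (AffAlg.algHom f g h w).app (op U) =
      h.appLE (f ⁻¹ᵁ U) (g ⁻¹ᵁ U) (by rw [← w]; rfl) := by
  subst w
  simp only [AffAlg.algHom, Scheme.Hom.appLE]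
  rw [NatTrans.comp_app, eqToHom_app]
  have hid : ∀ (k : (op ((h ≫ f) ⁻¹ᵁ U)) ⟶ op ((h ≫ f) ⁻¹ᵁ U)),
      Y.presheaf.map k = 𝟙 _ := fun k => by
    rw [Subsingleton.elim k (𝟙 _)]; exact CategoryTheory.Functor.map_id _ _
  erw [hid]
  rfl

theorem isQuasiAffine_of_eq {X : Scheme.{u}} {U V : X.Opens} (h : U = V)
    (hU : Scheme.IsQuasiAffine (U : Scheme.{u})) : Scheme.IsQuasiAffine (V : Scheme.{u}) := by
  subst h; exact hU

theorem isOpenImmersion_ι_comp_of_eq {X Y : Scheme.{u}} (c : X ⟶ Y) {U V : X.Opens} (h : U = V)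
    (hU : IsOpenImmersion (U.ι ≫ c)) : IsOpenImmersion (V.ι ≫ c) := by
  subst h; exact hU

set_option backward.isDefEq.respectTransparency false in


open AlgebraicGeometry CategoryTheory in
/-- A quasi-compact quasi-separated morphism f : X → S is quasi-affine if and only if the canonical
S-morphism X → Spec_S(f_*O_X) (the one inducing the comparison map on direct-image algebras) exists
as a quasi-compact open immersion. -/
theorem result {X S : Scheme.{u}} (f : X ⟶ S) [QuasiCompact f] [QuasiSeparated f] :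
    MoreMor.IsQuasiAffineHom f ↔
      ∃ (c : X ⟶ (RelSpec.QCAlg.directImage f).spec) (e : c ≫ (RelSpec.QCAlg.directImage f).π = f),
        (RelSpec.QCAlg.directImage f).gammaMap = AffAlg.algHom (RelSpec.QCAlg.directImage f).π f c e ∧
          QuasiCompact c ∧ IsOpenImmersion c := by
  set D := RelSpec.QCAlg.directImage f with hD
  constructor
  · rintro ⟨-, hqa⟩
    have hω : D.str ≫ (𝟙 D.presheaf : D.presheaf ⟶ f.base _* X.presheaf) = f.c :=
      Category.comp_id _
    have e : QCAlg.lift D f (𝟙 D.presheaf) ≫ D.π = f := QCAlg.lift_π D f _ hω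
    refine ⟨QCAlg.lift D f (𝟙 D.presheaf), e, ?_, ?_, ?_⟩
    · apply (Functor.IsCoverDense.restrictHomEquivHom
        (G := Scheme.AffineZariskiSite.toOpensFunctor S)
        (K := Opens.grothendieckTopology S) (ℱ := D.π.base _* D.spec.presheaf)
        (ℱ' := (⟨D.presheaf, D.isSheaf⟩ : TopCat.Sheaf CommRingCat.{u} S.carrier))).symm.injective
      ext U : 2
      change D.gammaMap.app (op U.unop.1) = (AffAlg.algHom D.π f _ e).app (op U.unop.1)
      rw [D.gammaMap_app U.unop.1 U.unop.2, algHom_app]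
      have := QCAlg.lift_appLE D f (𝟙 D.presheaf) hω U.unop.1 U.unop.2
      rw [NatTrans.id_app, Category.comp_id] at this
      exact this.symm
    · have : QuasiCompact (QCAlg.lift D f (𝟙 D.presheaf) ≫ D.π) := by rw [e]; infer_instance
      exact QuasiCompact.of_comp _ D.π
    · refine IsZariskiLocalAtTarget.of_forall_source_exists_preimage _ fun x ↦ ?_
      obtain ⟨_, ⟨U, hU : IsAffineOpen U, rfl⟩, hxU, -⟩ :=
        S.isBasis_affineOpens.exists_subset_of_mem_open (Set.mem_univ (f x)) isOpen_univ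
      have hpre : f ⁻¹ᵁ U = QCAlg.lift D f (𝟙 D.presheaf) ⁻¹ᵁ (D.π ⁻¹ᵁ U) := by
        rw [← Scheme.Hom.comp_preimage, e]
      refine ⟨D.π ⁻¹ᵁ U, ?_, ?_⟩
      · change (QCAlg.lift D f (𝟙 D.presheaf) ≫ D.π) x ∈ U
        rw [e]; exact hxU
      · refine isOpenImmersion_ι_comp_of_eq _ hpre ?_
        rw [QCAlg.ι_lift D f _ ⟨U, hU⟩]
        have := hqa U hU
        have h1 : IsOpenImmersion (f ⁻¹ᵁ U).toSpecΓ := by
          delta Scheme.Opens.toSpecΓ
          infer_instance
        have h2 : IsIso ((𝟙 D.presheaf : D.presheaf ⟶ D.presheaf).app (op U)) := by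
          rw [NatTrans.id_app]; infer_instance
        infer_instance
  · rintro ⟨c, e, -, hqc, hoi⟩
    refine ⟨inferInstance, fun V hV ↦ ?_⟩
    have hpre : c ⁻¹ᵁ (D.π ⁻¹ᵁ V) = f ⁻¹ᵁ V := by
      rw [← Scheme.Hom.comp_preimage, e]
    refine isQuasiAffine_of_eq hpre ?_
    have hW : IsAffineOpen (D.π ⁻¹ᵁ V) := hV.preimage D.π
    have : IsAffine (D.π ⁻¹ᵁ V : Scheme.{u}) := hW
    have : CompactSpace (c ⁻¹ᵁ (D.π ⁻¹ᵁ V) : Scheme.{u}) :=
      isCompact_iff_compactSpace.mp (c.isCompact_preimage hW.isCompact)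
    exact Scheme.IsQuasiAffine.of_isImmersion (c ∣_ (D.π ⁻¹ᵁ V))

end Groth.Agent.S9380
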