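import Groth.Statements.S4410
import Groth.Agent.Lib.Helper3.ZMTAffFT
import Groth.Agent.S9380

set_option autoImplicit false
universe u
open CategoryTheory CategoryTheory.Limits AlgebraicGeometry
open EGA2

namespace Groth.Agent.S4410

open RelSpec Groth.Agent.Lib.Helper3

theorem isSeparated_of_isQuasiAffine {X Y : Scheme.{u}} (f : X ⟶ Y) (hf : Mor2.IsQuasiAffine f) :
    IsSeparated f := by
  rw [IsZariskiLocalAtTarget.iff_of_iSup_eq_top (P := @IsSeparated) _
    (iSup_affineOpens_eq_top _)]
  intro U
  have := hf.2 U.1 U.2
  infer_instance



/-- Let Y be a quasi-compact separated scheme and f : X → Y a quasi-affine morphism of finite type. Then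
there are a scheme X'', an affine morphism of finite type g : X'' → Y and an immersion j : X → X''
with j ≫ g = f. (The published statement also allows Y to be a scheme whose underlying space is
Noetherian; this row assumes it quasi-compact and separated. The published statement realises X'' as
the relative spectrum of a quasi-coherent sub-algebra of finite type of f_*O_X, and says every
larger such sub-algebra also works; only the resulting factorisation is stated here.) -/
theorem result {X Y : Scheme.{u}} [CompactSpace Y] [Y.IsSeparated]
    (f : X ⟶ Y) (hf : Mor2.IsQuasiAffine f) [LocallyOfFiniteType f] :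
    ∃ (X'' : Scheme.{u}) (g : X'' ⟶ Y) (j : X ⟶ X''), IsAffineHom g ∧ LocallyOfFiniteType g ∧ IsImmersion j ∧ j ≫ g = f := by
  have hqc : QuasiCompact f := hf.1
  have hsep : IsSeparated f := isSeparated_of_isQuasiAffine f hf
  obtain ⟨c, e, -, hcqc, hcoi⟩ := (Groth.Agent.S9380.result f).mp hf
  have h1 : QuasiCompact (c ≫ (QCAlg.directImage f).π) := by rw [e]; infer_instance
  have h2 : LocallyOfFiniteType (c ≫ (QCAlg.directImage f).π) := by rw [e]; infer_instance
  obtain ⟨T, h, π, hπa, hπft, hπ, hopen⟩ :=
    exists_finiteType_factorization_of_openImmersion (QCAlg.directImage f).π c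
  exact ⟨T, π, c ≫ h, hπa, hπft, inferInstance, by rw [Category.assoc, hπ, e]⟩

end Groth.Agent.S4410
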