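import Groth.Statements.S4411
import Groth.Agent.Lib.Helper17.Veronese

set_option autoImplicit false
universe u
open EGA2

namespace Groth.Agent.S4411

/-- Let S be a ring graded in nonnegative degrees which is an S_0-algebra of finite type, d > 0, and
S^{(d)} the graded ring whose degree-n part is S_{nd} (given here as any graded ring S' with an
injective algebra homomorphism φ : S' → S carrying S'_n onto S_{nd} for every n). Then S^{(d)} is an
algebra of finite type over its degree-zero part S'_0 (which φ identifies with S_0). -/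
theorem result {R A : Type u} [CommRing R] [CommRing A] [Algebra R A] (𝒜 : ℕ → Submodule R A) [GradedAlgebra 𝒜] [Algebra.FiniteType (𝒜 0) A]
    {B : Type u} [CommRing B] [Algebra R B] (ℬ : ℕ → Submodule R B) [GradedAlgebra ℬ]
    (d : ℕ) (hd : 0 < d) (φ : B →ₐ[R] A) (hφ : Function.Injective φ)
    (hdeg : ∀ n : ℕ, Submodule.map φ.toLinearMap (ℬ n) = 𝒜 (n * d)) :
    Algebra.FiniteType (ℬ 0) B := by
  classical
  obtain ⟨s, hs, hs'⟩ := GradedAlgebra.exists_finset_adjoin_eq_top_and_homogeneous 𝒜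
  choose! dv hdv using hs'
  let v : s → A := Subtype.val
  have hv : ∀ i : s, v i ∈ 𝒜 (dv i) := fun i => hdv i.1 i.2
  have hgen : Algebra.adjoin (𝒜 0) (Set.range v) = ⊤ := by
    simpa [v] using hs
  set G := Groth.Agent.Lib.Helper17.veroneseGens v (fun i : s => dv i) d with hG
  have hGfin : G.Finite := Groth.Agent.Lib.Helper17.veroneseGens_finite v _ d
  have hGB : (φ ⁻¹' G).Finite := hGfin.preimage hφ.injOn
  refine ⟨⟨hGB.toFinset, ?_⟩⟩
  rw [Set.Finite.coe_toFinset]
  set T := Algebra.adjoin (ℬ 0) (φ ⁻¹' G) with hT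
  -- every element of `adjoin (𝒜 0) G` comes from `T`
  have himage : ∀ a ∈ Algebra.adjoin (𝒜 0) G, ∃ t ∈ T, φ t = a := by
    intro a ha
    induction ha using Algebra.adjoin_induction with
    | mem g hg =>
      obtain ⟨k, hk⟩ := Groth.Agent.Lib.Helper17.veroneseGens_homogeneous 𝒜 v _ d hv hg
      rw [← hdeg k] at hk
      obtain ⟨b, -, rfl⟩ := hk
      exact ⟨b, Algebra.subset_adjoin hg, rfl⟩
    | algebraMap r =>
      have hr : (r : A) ∈ Submodule.map φ.toLinearMap (ℬ 0) := by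
        rw [hdeg 0, zero_mul]; exact r.2
      obtain ⟨b, hb, hbr⟩ := hr
      exact ⟨b, T.algebraMap_mem (⟨b, hb⟩ : ℬ 0), hbr⟩
    | add x y _ _ hx hy =>
      obtain ⟨t, ht, rfl⟩ := hx
      obtain ⟨t', ht', rfl⟩ := hy
      exact ⟨t + t', T.add_mem ht ht', map_add _ _ _⟩
    | mul x y _ _ hx hy =>
      obtain ⟨t, ht, rfl⟩ := hx
      obtain ⟨t', ht', rfl⟩ := hy
      exact ⟨t * t', T.mul_mem ht ht', map_mul _ _ _⟩
  have hhom : ∀ n, ∀ b ∈ ℬ n, b ∈ T := by
    intro n b hb
    have h1 : φ b ∈ 𝒜 (n * d) := by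
      rw [← hdeg n]; exact ⟨b, hb, rfl⟩
    have h2 := Groth.Agent.Lib.Helper17.mem_adjoin_veroneseGens 𝒜 v _ d hd hv hgen n (φ b) h1
    obtain ⟨t, ht, hφt⟩ := himage _ h2
    rwa [← hφ hφt]
  rw [eq_top_iff]
  intro x _
  rw [← DirectSum.sum_support_decompose ℬ x]
  exact Subalgebra.sum_mem T fun i _ => hhom i _ (SetLike.coe_mem _)

end Groth.Agent.S4411
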