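import Groth.Statements.S4419
import Groth.Agent.S12478
import Groth.Agent.Lib.Helper3.FTRed8

set_option autoImplicit false
universe u
open CategoryTheory CategoryTheory.Limits AlgebraicGeometry
open EGA2

namespace Groth.Agent.S4419
open Groth.Agent.Lib.Helper3

/-- Let Y be a scheme which is either quasi-compact and separated or has a Noetherian underlying space,
and f : X → Y a morphism which is quasi-projective and proper. Then f is projective. -/
theorem result {X Y : Scheme.{u}}
    (hY : (CompactSpace Y ∧ Y.IsSeparated) ∨ TopologicalSpace.NoetherianSpace Y) (f : X ⟶ Y)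
    (hq : RelProj.IsQuasiProjective f) [IsProper f] : RelProj.IsProjective f := by
  classical
  obtain ⟨hft, hqc, L, hamp⟩ := hq
  haveI := hft
  haveI := hqc
  obtain ⟨hFT, hYc⟩ := FTRed.hasFTThrough_of_hyp hY
  haveI := hYc
  have hL : PicF.IsInvertible L := Groth.Agent.Lib.Helper29.QCoh.isInvertible_of_isRelAmple f hamp
  obtain ⟨n₀, -, hn⟩ := Groth.Agent.S12478.result f L hL hamp
  exact FTRed.isProjective_of_isProper_of_isRelVeryAmple' hFT f _
    (Groth.Agent.Lib.Helper29.QCoh.isInvertible_tensorPow hL n₀) (hn n₀ le_rfl)

end Groth.Agent.S4419
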