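import Groth.Statements.S4425
import Groth.Agent.S12478
import Groth.Agent.S4418
import Groth.Agent.Lib.Helper3.FTRed8

set_option autoImplicit false
universe u
open CategoryTheory CategoryTheory.Limits AlgebraicGeometry
open EGA2

namespace Groth.Agent.S4425
open Groth.Agent.Lib.Helper3

/-- (a) ⇔ (c): let Y be a quasi-compact separated scheme and f : X → Y a morphism. Then f is
quasi-projective if and only if f is of finite type and there are a quasi-coherent graded
O_Y-algebra 𝒮, generated by its degree-one part with that part of finite type, a relative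
homogeneous spectrum p : P → Y of 𝒮 (given with its charts over affine opens), and an open immersion
j : X → P with dense image such that j ≫ p = f. (The published statement also allows Y whose
underlying space is Noetherian, and adds a third equivalent condition, an immersion into some P(E);
this row assumes Y quasi-compact and separated and states only the equivalence of the other two.) -/
theorem result {X Y : Scheme.{u}} [CompactSpace Y] [Y.IsSeparated] (f : X ⟶ Y) :
    RelProj.IsQuasiProjective f ↔
      (LocallyOfFiniteType f ∧ QuasiCompact f ∧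
        ∃ (𝒮 : RelProj.QCGrAlg Y) (P : Scheme.{u}) (p : P ⟶ Y)
          (chart : ∀ (U : Y.Opens) (hU : IsAffineOpen U), ((p ⁻¹ᵁ U : P.Opens) : Scheme.{u}) ≅ Proj (𝒮.deg U hU))
          (j : X ⟶ P), 𝒮.IsGenDegOne ∧ 𝒮.IsFTDeg 1 ∧ RelProj.IsRelProj 𝒮 p chart ∧
            IsOpenImmersion j ∧ Dense (Set.range j.base) ∧ j ≫ p = f) := by
  classical
  constructor
  · rintro ⟨hft, hqc, L, hamp⟩
    haveI := hft
    haveI := hqc
    refine ⟨hft, hqc, ?_⟩
    have hL : PicF.IsInvertible L := Groth.Agent.Lib.Helper29.QCoh.isInvertible_of_isRelAmple f hamp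
    obtain ⟨n₀, -, hn⟩ := Groth.Agent.S12478.result f L hL hamp
    exact FTRed.exists_openImmersion_dense_relProj hasFTThrough_of_qcqs f _
      (Groth.Agent.Lib.Helper29.QCoh.isInvertible_tensorPow hL n₀) (hn n₀ le_rfl)
  · rintro ⟨hft, hqc, 𝒮, P, p, chart, j, hgen, hftS, hP, hj, -, hjp⟩
    haveI := hft
    haveI := hqc
    haveI := hj
    refine ⟨hft, hqc, ?_⟩
    have hL₁ := RelTwist.isRelTwist p chart hP 1
    have hamp := RelGlued.isRelAmple_relTwist_one p chart hgen hftS hL₁
    haveI : QuasiCompact (j ≫ p) := by rw [hjp]; infer_instance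
    have h2 := Groth.Agent.Lib.Helper29.QCoh.isRelAmple_pullback_of_isEmbedding p j j.isEmbedding hamp
    rw [hjp] at h2
    exact ⟨_, h2⟩

end Groth.Agent.S4425
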