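import Groth.Statements.S4431
import Groth.Agent.Lib.Helper17.UnitIntegral
import Mathlib.LinearAlgebra.Charpoly.BaseChange
import Mathlib.Algebra.Polynomial.Lifts

set_option autoImplicit false
universe u
open EGA2

namespace Groth.Agent.S4431

/-- Let A be an integral domain with fraction field K, E a finitely generated torsion-free A-module and
u an endomorphism of E whose characteristic-polynomial coefficients (those of u ⊗ 1 on K ⊗_A E) all
lie in A. If the determinant of u is the image of a unit of A, then u is an automorphism of E. -/
theorem result (A : Type u) [CommRing A] [IsDomain A] (K : Type u) [Field K]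
    [Algebra A K] [IsFractionRing A K] (E : Type u) [AddCommGroup E] [Module A E] [Module.Finite A E]
    [Module.IsTorsionFree A E]
    (u : E →ₗ[A] E) (hcoeff : ∀ i : ℕ, ((u.baseChange K).charpoly).coeff i ∈ (algebraMap A K).range)
    (a : A) (ha : algebraMap A K a = LinearMap.det (u.baseChange K)) (hunit : IsUnit a) :
    Function.Bijective u := by
  open Polynomial in
  -- lift the characteristic polynomial to `A[X]`
  have hlift : (u.baseChange K).charpoly ∈ Polynomial.lifts (algebraMap A K) := by
    rw [Polynomial.lifts_iff_coeff_lifts]
    intro n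
    exact hcoeff n
  obtain ⟨χ, hχ⟩ := hlift
  -- Cayley–Hamilton over `K`, pulled back to `E`
  have hCH : Polynomial.aeval u χ = 0 := by
    have h1 : Polynomial.aeval (u.baseChange K) (χ.map (algebraMap A K)) = 0 := by
      have hχ' : χ.map (algebraMap A K) = (u.baseChange K).charpoly := hχ
      rw [hχ']; exact LinearMap.aeval_self_charpoly _
    rw [Polynomial.aeval_map_algebraMap] at h1
    have h2 := Polynomial.aeval_algHom_apply (Module.End.baseChangeHom A K E) u χ
    have h3 : (Polynomial.aeval u χ).baseChange K = 0 := h2.symm.trans h1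
    ext x
    apply Groth.Agent.Lib.Helper17.mk_one_injective_of_isTorsionFree A K E
    have := congrArg (fun f => f ((1 : K) ⊗ₜ[A] x)) h3
    simpa using this
  -- the constant coefficient is a unit
  have hc0 : algebraMap A K (χ.coeff 0) = (-1) ^ Module.finrank K (TensorProduct A K E) *
      algebraMap A K a := by
    have hχ' : χ.map (algebraMap A K) = (u.baseChange K).charpoly := hχ
    rw [ha, LinearMap.det_eq_sign_charpoly_coeff, ← hχ', Polynomial.coeff_map, ← mul_assoc,
      ← pow_add, ← two_mul, pow_mul]
    simp
  have hc0' : χ.coeff 0 = (-1) ^ Module.finrank K (TensorProduct A K E) * a := by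
    apply IsFractionRing.injective A K
    rw [hc0]; simp
  have hunit0 : IsUnit (χ.coeff 0) := by
    rw [hc0']
    exact ((isUnit_one.neg).pow _).mul hunit
  obtain ⟨c, hc⟩ := hunit0
  -- split off the constant coefficient
  have hsplit := congrArg (Polynomial.aeval u) (Polynomial.divX_mul_X_add χ)
  rw [map_add, map_mul, Polynomial.aeval_X, Polynomial.aeval_C, hCH] at hsplit
  set q := Polynomial.aeval u (Polynomial.divX χ) with hq
  have hcomm : q * u = u * q := by
    have h1 : q * u = Polynomial.aeval u (Polynomial.divX χ * Polynomial.X) := by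
      rw [map_mul, Polynomial.aeval_X]
    have h2 : u * q = Polynomial.aeval u (Polynomial.X * Polynomial.divX χ) := by
      rw [map_mul, Polynomial.aeval_X]
    rw [h1, h2, mul_comm]
  -- the inverse of `u`
  let v : Module.End A E := -((↑c⁻¹ : A) • q)
  have hqu : q * u = -(algebraMap A (Module.End A E) (χ.coeff 0)) := by
    rw [eq_neg_iff_add_eq_zero]; exact hsplit
  have hvu : v * u = 1 := by
    simp only [v, neg_mul, smul_mul_assoc, hqu, smul_neg, neg_neg, ← hc]
    rw [Algebra.algebraMap_eq_smul_one, smul_smul, Units.inv_mul, one_smul]
  have huv : u * v = 1 := by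
    simp only [v, mul_neg, mul_smul_comm, ← hcomm, hqu, smul_neg, neg_neg, ← hc]
    rw [Algebra.algebraMap_eq_smul_one, smul_smul, Units.inv_mul, one_smul]
  refine ⟨?_, ?_⟩
  · intro x y hxy
    have := congrArg v hxy
    rwa [← Module.End.mul_apply, ← Module.End.mul_apply, hvu] at this
  · intro y
    exact ⟨v y, by rw [← Module.End.mul_apply, huv]; rfl⟩

end Groth.Agent.S4431
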