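import Groth.Statements.S4434
import Groth.Agent.Lib.Helper21.KA8
-- import your own Groth.Agent.* helpers here

set_option autoImplicit false
universe u
open EGA2

namespace Groth.Agent.S4434

/-- Let A be a Noetherian domain with field of fractions K and L a finitely generated field extension of
K. The integral closure of A in L is the intersection of the discrete valuation subrings of L (with
fraction field L) containing the image of A: an element of L is integral over A exactly when it
belongs to all of them. -/
theorem result (A : Type u) [CommRing A] [IsDomain A] [IsNoetherianRing A]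
    (K : Type u) [Field K] [Algebra A K] [IsFractionRing A K]
    (L : Type u) [Field L] [Algebra K L] [Algebra A L] [IsScalarTower A K L] (hfg : (⊤ : IntermediateField K L).FG) (x : L) :
    IsIntegral A x ↔ ∀ R : ValuationSubring L, IsDiscreteValuationRing R → (∀ a : A, algebraMap A L a ∈ R) → x ∈ R := by
  constructor
  · intro hx R _ hAR
    let g : A →+* R := (algebraMap A L).codRestrict R.toSubring hAR
    have hRint : IsIntegral R x := by
      obtain ⟨p, hpm, hpx⟩ := hx
      refine ⟨p.map g, hpm.map g, ?_⟩
      rw [Polynomial.eval₂_map]
      exact hpx
    obtain ⟨r, hr⟩ := IsIntegrallyClosed.isIntegral_iff.mp hRint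
    rw [← hr]
    exact r.2
  · intro hall
    by_contra hx
    obtain ⟨S, hS⟩ := Groth.Agent.Lib.Helper21.KA.exists_finset_closure_eq_top A K L hfg
    obtain ⟨O, hOdvr, hAO, hxO⟩ :=
      Groth.Agent.Lib.Helper21.KA.exists_dvr_notMem_of_not_isIntegral A L S hS x hx
    exact hxO (hall O hOdvr hAO)

end Groth.Agent.S4434
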