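import Groth.Statements.S4439
import Groth.Agent.Lib.Helper21.ValSec
import Groth.Agent.Lib.Helper21.DVRExt5
-- import your own Groth.Agent.* helpers here

set_option autoImplicit false
universe u
open CategoryTheory CategoryTheory.Limits AlgebraicGeometry
open EGA2

namespace Groth.Agent.S4439

/-- Let A be a valuation ring with field of fractions K and f : X ⟶ Spec A a separated morphism whose
underlying map is closed. Then restriction to the generic point is a bijection from sections of f to
K-rational points of the generic fibre: every morphism Spec K ⟶ X over Spec A extends to exactly one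
section of f. -/
theorem result (A : Type u) [CommRing A] [IsDomain A]
    [ValuationRing A] (K : Type u) [Field K] [Algebra A K] [IsFractionRing A K] (X : Scheme.{u})
    (f : X ⟶ Spec (CommRingCat.of A)) [IsSeparated f] (hf : IsClosedMap f.base)
    (x : Spec (CommRingCat.of K) ⟶ X) (hx : x ≫ f = Spec.map (CommRingCat.ofHom (algebraMap A K))) :
    ∃! s : Spec (CommRingCat.of A) ⟶ X, s ≫ f = 𝟙 _ ∧ Spec.map (CommRingCat.ofHom (algebraMap A K)) ≫ s = x := by
  obtain ⟨s, hs1, hs2⟩ :=
    Groth.Agent.Lib.Helper21.DVRExt.exists_section_of_valuationRing A K X f hf x hx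
  refine ⟨s, ⟨hs1, hs2⟩, ?_⟩
  rintro s' ⟨hs1', hs2'⟩
  have : IsDominant (Spec.map (CommRingCat.ofHom (algebraMap A K))) :=
    Groth.Agent.Lib.Helper21.DVRExt.isDominant_specMap_of_injective _
      (IsFractionRing.injective A K)
  exact ext_of_isDominant_of_isSeparated f (hs1'.trans hs1.symm)
    (Spec.map (CommRingCat.ofHom (algebraMap A K))) (hs2'.trans hs2.symm)

end Groth.Agent.S4439
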