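import Groth.Statements.S4443
import Groth.Agent.Lib.Helper21.CurveFib2
-- import your own Groth.Agent.* helpers here

set_option autoImplicit false
universe u
open CategoryTheory CategoryTheory.Limits AlgebraicGeometry
open EGA2

namespace Groth.Agent.S4443

/-- Let X be an irreducible algebraic curve over a field k (separated and of finite type over k,
nonempty, irreducible, local rings at closed points of dimension one). Then the generic point is the
only non-closed point of X, and the closed subsets of X distinct from X are exactly the finite sets
of closed points. (The published statement adds that these are also exactly the subsets of X that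
are not dense in X, an immediate consequence; this row does not state it.) -/
theorem result (k : Type u) [Field k] (X : Scheme.{u})
    [X.Over (Spec (CommRingCat.of k))] [LocallyOfFiniteType (X ↘ (Spec (CommRingCat.of k)))]
    [QuasiCompact (X ↘ (Spec (CommRingCat.of k)))] [IsSeparated (X ↘ (Spec (CommRingCat.of k)))]
    [Nonempty X] [IrreducibleSpace X] (hcurve : ∀ x : X, IsClosed ({x} : Set X) → ringKrullDim (X.presheaf.stalk x) = 1) :
    (∀ x : X, ¬ IsClosed ({x} : Set X) → x = genericPoint X) ∧
      ∀ F : Set X, IsClosed F → (F ≠ Set.univ ↔ (F.Finite ∧ ∀ x ∈ F, IsClosed ({x} : Set X))) := by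
  have : CompactSpace X :=
    QuasiCompact.compactSpace_of_compactSpace (X ↘ Spec (CommRingCat.of k))
  have : IsNoetherian X :=
    { __ := LocallyOfFiniteType.isLocallyNoetherian (X ↘ Spec (CommRingCat.of k))
      __ := QuasiCompact.compactSpace_of_compactSpace (X ↘ Spec (CommRingCat.of k)) }
  have h1 : ∀ x : X, IsClosed ({x} : Set X) → Order.coheight x = 1 :=
    fun x hx => Groth.Agent.Lib.Helper21.CurveFib.coheight_eq_one_of_ringKrullDim x (hcurve x hx)
  refine ⟨fun x hx =>
    (Groth.Agent.Lib.Helper21.CurveFib.isClosed_singleton_or_eq_genericPoint h1 x).resolve_left hx,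
    fun F hF => ⟨fun hne =>
      ⟨Groth.Agent.Lib.Helper21.CurveFib.finite_of_isClosed_of_ne_univ h1 F hF hne,
        fun x hxF => ?_⟩, fun ⟨hfin, hcl⟩ huniv => ?_⟩⟩
  · rcases Groth.Agent.Lib.Helper21.CurveFib.isClosed_singleton_or_eq_genericPoint h1 x with h | h
    · exact h
    · exfalso
      apply hne
      rw [Set.eq_univ_iff_forall]
      intro z
      have hz : z ∈ closure ({genericPoint X} : Set X) := by
        rw [(genericPoint_spec X).def]; exact Set.mem_univ z
      exact (hF.closure_subset_iff.mpr (Set.singleton_subset_iff.mpr (h ▸ hxF))) hz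
  · exact Groth.Agent.Lib.Helper21.CurveFib.not_isClosed_singleton_genericPoint h1
      (hcl _ (huniv ▸ Set.mem_univ _))

end Groth.Agent.S4443
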