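import Groth.Statements.S4447
import Mathlib

set_option autoImplicit false
universe u
open CategoryTheory CategoryTheory.Limits AlgebraicGeometry
open EGA2

namespace Groth.Agent.S4447

/-- Let p : X ⟶ Y be a morphism, x a point of X, y = p(x) and y' a specialization of y distinct from y.
Then there are a valuation ring A which is not a field, with field of fractions the residue field
k(x), and a morphism Spec A ⟶ Y mapping the closed point to y' and restricting on Spec k(x) to the
canonical morphism Spec k(x) ⟶ X ⟶ Y (in particular the generic point of Spec A goes to y). -/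
theorem result {X Y : Scheme.{u}} (p : X ⟶ Y) (x : X) (y' : Y)
    (hsp : p.base x ⤳ y') (hne : y' ≠ p.base x) :
    ∃ (A : ValuationSubring (X.residueField x)) (h : Spec (CommRingCat.of A) ⟶ Y), A ≠ ⊤ ∧
      h.base (IsLocalRing.closedPoint A) = y' ∧
      Spec.map (CommRingCat.ofHom A.subtype) ≫ h = X.fromSpecResidueField x ≫ p := by
  classical
  let φ : Y.presheaf.stalk y' ⟶ X.residueField x :=
    Y.presheaf.stalkSpecializes hsp ≫ p.stalkMap x ≫ X.residue x
  obtain ⟨A, hA, hA_local⟩ := IsLocalRing.exists_factor_valuationRing φ.hom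
  let φA : Y.presheaf.stalk y' ⟶ .of A := CommRingCat.ofHom (φ.hom.codRestrict _ hA)
  have w : X.fromSpecResidueField x ≫ p =
      Spec.map (CommRingCat.ofHom (algebraMap A (X.residueField x))) ≫
        Spec.map φA ≫ Y.fromSpecStalk y' := by
    rw [Scheme.fromSpecResidueField, Category.assoc, ← Scheme.SpecMap_stalkMap_fromSpecStalk,
      ← Scheme.SpecMap_stalkSpecializes_fromSpecStalk hsp]
    simp_rw [← Spec.map_comp_assoc]
    rfl
  have hcl : (Spec.map φA ≫ Y.fromSpecStalk y') (IsLocalRing.closedPoint A) = y' := by
    rw [Scheme.Hom.comp_apply]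
    have : Spec.map φA (IsLocalRing.closedPoint A) = IsLocalRing.closedPoint (Y.presheaf.stalk y') :=
      IsLocalRing.comap_closedPoint (S := A) (φ.hom.codRestrict A.toSubring hA)
    rw [this, Y.fromSpecStalk_closedPoint]
  refine ⟨A, Spec.map φA ≫ Y.fromSpecStalk y', ?_, hcl, ?_⟩
  · rintro rfl
    apply hne
    rw [← hcl]
    have hloc : IsLocalHom (algebraMap (⊤ : ValuationSubring (X.residueField x)) (X.residueField x)) := by
      constructor
      intro a ha
      obtain ⟨b, hb⟩ := ha.exists_left_inv
      refine IsUnit.of_mul_eq_one ⟨b, ValuationSubring.mem_top b⟩ ?_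
      apply Subtype.ext
      change (a : X.residueField x) * b = 1
      rw [mul_comm]; exact hb
    have h2 : Spec.map (CommRingCat.ofHom (algebraMap (⊤ : ValuationSubring (X.residueField x)) (X.residueField x)))
        (IsLocalRing.closedPoint (X.residueField x)) = IsLocalRing.closedPoint _ :=
      IsLocalRing.comap_closedPoint _
    rw [← h2, ← Scheme.Hom.comp_apply, ← w, Scheme.Hom.comp_apply, Scheme.fromSpecResidueField_apply]
  · rw [w]
    rfl

end Groth.Agent.S4447
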