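import Groth.Statements.S4451
import Groth.Agent.Lib.Helper21.CurveVal
import Groth.Agent.Lib.Helper21.KA8
-- import your own Groth.Agent.* helpers here

set_option autoImplicit false
universe u
open CategoryTheory CategoryTheory.Limits AlgebraicGeometry
attribute [local instance] Curv2.stalkAlgebra
open EGA2

namespace Groth.Agent.S4451

/-- Let X be a normal, complete, irreducible algebraic curve over a field k with field of rational
functions K. The set of local rings of X, as subrings of K, consists of K itself (at the generic
point) and of the valuation rings of K containing k (and distinct from K): every non-generic point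
has such a valuation ring as local ring, and every such valuation ring is the local ring of exactly
one point. -/
theorem result (k : Type u) [Field k] (X : Scheme.{u})
    [X.Over (Spec (CommRingCat.of k))] [IsProper (X ↘ (Spec (CommRingCat.of k)))] [IsIntegral X]
    (hX : ∀ x : X, IsClosed ({x} : Set X) → ringKrullDim (X.presheaf.stalk x) = 1) (hnorm : Pi1.IsNormalScheme X) :
    (∀ x : X, x ≠ genericPoint X → ∃ R : ValuationSubring X.functionField, R ≠ ⊤ ∧
        (R : Set X.functionField) = Set.range (algebraMap (X.presheaf.stalk x) X.functionField)) ∧
      ∀ R : ValuationSubring X.functionField, R ≠ ⊤ → (∀ c : k, algebraMap k X.functionField c ∈ R) →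
        ∃! x : X, (R : Set X.functionField) = Set.range (algebraMap (X.presheaf.stalk x) X.functionField) := by
  have hXN : IsLocallyNoetherian X :=
    LocallyOfFiniteType.isLocallyNoetherian (X ↘ (Spec (CommRingCat.of k)))
  have hcpt : CompactSpace X :=
    QuasiCompact.compactSpace_of_compactSpace (X ↘ (Spec (CommRingCat.of k)))
  have hval := Groth.Agent.Lib.Helper21.RatExt.forall_valuationRing_of_normal_of_dim_one hX hnorm
  have hsep : X.IsSeparated :=
    (HasAffineProperty.iff_of_isAffine (P := @IsSeparated)).mp
      (inferInstance : IsSeparated (X ↘ (Spec (CommRingCat.of k))))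
  refine ⟨?_, ?_⟩
  · intro x hx
    obtain ⟨hd, hv⟩ := hval x
    refine ⟨Groth.Agent.Lib.Helper21.KA.toValuationSubring (X.presheaf.stalk x) X.functionField,
      ?_, rfl⟩
    intro htop
    have hsurj : Function.Surjective (algebraMap (X.presheaf.stalk x) X.functionField) := by
      intro r
      have h1 : r ∈ Groth.Agent.Lib.Helper21.KA.toValuationSubring (X.presheaf.stalk x)
          X.functionField := by
        rw [htop]
        trivial
      exact h1
    have hfield : IsField (X.presheaf.stalk x) :=
      (RingEquiv.ofBijective (algebraMap (X.presheaf.stalk x) X.functionField)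
        ⟨IsFractionRing.injective _ _, hsurj⟩).toMulEquiv.isField (Field.toIsField X.functionField)
    let U : X.Opens := ⟨(closure {x})ᶜ, isClosed_closure.isOpen_compl⟩
    have hηU : genericPoint X ∈ U := by
      intro hmem
      have h1 : x ⤳ genericPoint X := specializes_iff_mem_closure.mpr hmem
      have h2 : genericPoint X ⤳ x := (genericPoint_spec X).specializes trivial
      exact hx (h1.antisymm h2).eq
    have hUd : Dense (U : Set X) := U.isOpen.dense ⟨_, hηU⟩
    exact Groth.Agent.Lib.Helper21.DVRExt.not_isField_stalk_of_notMem_dense U hUd x
      (fun h => h (subset_closure rfl)) hfield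
  · intro R hRtop hk
    let ιk : k →+* R := (algebraMap k X.functionField).codRestrict R.toSubring hk
    have hsq : Spec.map (CommRingCat.ofHom R.subtype) ≫ Spec.map (CommRingCat.ofHom ιk) =
        X.fromSpecStalk (genericPoint X) ≫ (X ↘ (Spec (CommRingCat.of k))) := by
      rw [Groth.Agent.Lib.Helper21.RatExt.fromSpecStalk_comp_eq, ← Spec.map_comp]
      rfl
    have hE : ValuativeCriterion.Existence (X ↘ (Spec (CommRingCat.of k))) := by
      have h1 : (ValuativeCriterion.Existence ⊓ @QuasiCompact)
          (X ↘ (Spec (CommRingCat.of k))) := by
        rw [← UniversallyClosed.eq_valuativeCriterion]; infer_instance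
      exact h1.1
    let sq : ValuativeCommSq (X ↘ (Spec (CommRingCat.of k))) :=
      { R := R
        K := X.functionField
        i₁ := X.fromSpecStalk (genericPoint X)
        i₂ := Spec.map (CommRingCat.ofHom ιk)
        commSq := ⟨hsq.symm⟩ }
    obtain ⟨⟨l, hl1, hl2⟩⟩ := (hE sq).exists_lift
    obtain ⟨hd, hv⟩ := hval (l (IsLocalRing.closedPoint R))
    have hrange := Groth.Agent.Lib.Helper21.CurveVal.range_eq_of_lift R l hl1 hv
    refine ⟨l (IsLocalRing.closedPoint R), hrange, ?_⟩
    intro x' hx'
    exact Groth.Agent.Lib.Helper21.CurveVal.eq_of_range_eq R x' _ hx' hrange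

end Groth.Agent.S4451
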