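import Groth.Statements.S9708
import Groth.Agent.S12478
import Groth.Agent.S4418
import Groth.Agent.Lib.Helper29.AB4
import Groth.Agent.Lib.Helper3.FTRed7

set_option autoImplicit false
universe u
open CategoryTheory CategoryTheory.Limits AlgebraicGeometry
open Mor

namespace Groth.Agent.S9708
open Groth.Agent.Lib.Helper3

/-- Let S be quasi-compact and quasi-separated and let f : X ⟶ Y and g : Y ⟶ S be projective. Then f ≫ g
is projective. Here projective means that the source is isomorphic over the target to the relative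
Proj of a quasi-coherent graded algebra generated by its finite-type degree-one part; the published
definition uses closed subschemes of P(E) with E of finite type, an equivalent condition. -/
theorem result {X Y S : Scheme.{u}} [CompactSpace ↥S] [QuasiSeparatedSpace ↥S]
    (f : X ⟶ Y) (g : Y ⟶ S) (hf : RelProj.IsProjective f) (hg : RelProj.IsProjective g) :
    RelProj.IsProjective (f ≫ g) := by
  classical
  obtain ⟨⟨hft₁, hqc₁, L, hL⟩, hp₁⟩ := Groth.Agent.S4418.result f hf
  obtain ⟨⟨hft₂, hqc₂, K, hK⟩, hp₂⟩ := Groth.Agent.S4418.result g hg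
  haveI := hft₁
  haveI := hqc₁
  haveI := hp₁
  haveI := hft₂
  haveI := hqc₂
  haveI := hp₂
  obtain ⟨n₀, -, hn⟩ := Groth.Agent.Lib.Helper29.QCoh.exists_isRelAmple_comp_tensor_pullback_pow f g L K hL hK
  have hamp := hn n₀ le_rfl
  have hM := Groth.Agent.Lib.Helper29.QCoh.isInvertible_of_isRelAmple (f ≫ g) hamp
  obtain ⟨m₀, -, hm⟩ := Groth.Agent.S12478.result (f ≫ g) _ hM hamp
  exact FTRed.isProjective_of_isProper_of_isRelVeryAmple (f ≫ g) _
    (Groth.Agent.Lib.Helper29.QCoh.isInvertible_tensorPow hM m₀) (hm m₀ le_rfl)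

end Groth.Agent.S9708
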