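import Groth.Statements.S4453
import Groth.Agent.S9708
import Groth.Agent.S4418
import Groth.Agent.S4419
import Groth.Agent.S4438
import Groth.Agent.Lib.Helper6.UHDescent
import Groth.Agent.Lib.Helper3.PushAlg

set_option autoImplicit false
universe u
open CategoryTheory CategoryTheory.Limits AlgebraicGeometry
open EGA2

namespace Groth.Agent.S4453
open Groth.Agent.Lib.Helper3

/-- Let Y be a quasi-compact separated scheme or a scheme whose underlying space is Noetherian, f : X ⟶
Y a morphism of finite type and g : X' ⟶ X a finite surjective morphism such that the direct image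
of O_{X'} is a finite locally free O_X-module. Then f is projective if and only if f ∘ g is
projective. (The companion assertion, on quasi-projectivity, is the
existence-of-a-relatively-ample-module equivalence stated separately.) -/
theorem result {X X' Y : Scheme.{u}} (f : X ⟶ Y) [LocallyOfFiniteType f]
    [QuasiCompact f] (g : X' ⟶ X) [IsFinite g] [Surjective g]
    (hfree : FlatMod.IsFinLocFree ((Coh.push g).obj (Coh.structureModule X')))
    (hY : (CompactSpace Y ∧ Y.IsSeparated) ∨ TopologicalSpace.NoetherianSpace Y) :
    RelProj.IsProjective f ↔ RelProj.IsProjective (g ≫ f) := by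
  classical
  haveI hYc : CompactSpace Y := by
    rcases hY with ⟨h1, -⟩ | h2
    · exact h1
    · haveI := h2; infer_instance
  haveI hYq : QuasiSeparatedSpace Y := by
    rcases hY with ⟨-, h1⟩ | h2
    · haveI := h1; infer_instance
    · haveI := h2
      exact ⟨fun U V _ _ _ _ => TopologicalSpace.NoetherianSpace.isCompact _⟩
  constructor
  · intro hf
    exact Groth.Agent.S9708.result g f (PushAlg.isProjective_of_isFinite g) hf
  · intro hgf
    obtain ⟨⟨hft, hqc, L', hL'⟩, hp⟩ := Groth.Agent.S4418.result (g ≫ f) hgf
    have hL'i := Groth.Agent.Lib.Helper29.QCoh.isInvertible_of_isRelAmple (g ≫ f) hL'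
    obtain ⟨L, hLi, hL⟩ := (Groth.Agent.S4438.result f g hfree).mpr ⟨L', hL'i, hL'⟩
    haveI := hp
    haveI : UniversallyClosed f := UniversallyClosed.of_comp_surjective g f
    haveI : IsSeparated f := Groth.Agent.Lib.Helper6.UHDesc.isSeparated_of_comp_of_surjective g f
    haveI : IsProper f := { }
    exact Groth.Agent.S4419.result hY f ⟨inferInstance, inferInstance, L, hL⟩

end Groth.Agent.S4453
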