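import Groth.Statements.S4457
import Groth.Agent.Lib.Helper5.CompAcyclic
import Groth.Agent.Lib.Helper5.RpushAb
import Groth.Agent.Lib.Helper22.Cech.AffineMorphism
import Groth.Agent.Lib.Helper22.CohTop.PushInjective
import Groth.Agent.S0030

set_option autoImplicit false
universe u
open Coherent

namespace Groth.Agent.S4457

open AlgebraicGeometry CategoryTheory in
/-- Let f : X → Y be a separated quasi-compact morphism, g : Y → Z an affine morphism and F a
quasi-coherent O_X-module. Then for every p ≥ 0, R^p (g ∘ f)_* F is isomorphic to g_*(R^p f_* F)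
(higher direct images and direct image of the underlying abelian sheaves). The source shows that the
canonical comparison map is an isomorphism; only the existence of an isomorphism is asserted here. -/
theorem result {X Y Z : Scheme.{u}} (f : X ⟶ Y) (g : Y ⟶ Z)
    [IsSeparated f] [QuasiCompact f] [IsAffineHom g] (F : X.Modules) [Coh.IsQCoh F] (p : ℕ) :
    Nonempty ((Coh.RpushAb (f ≫ g) p).obj (Coh.toAb F) ≅
      (Coh.pushAb g).obj ((Coh.RpushAb f p).obj (Coh.toAb F))) := by
  haveI : CategoryTheory.EnoughInjectives X.Modules :=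
    Groth.Agent.S0485.result (Opens.grothendieckTopology X) X.ringCatSheaf
  haveI : CategoryTheory.HasInjectiveResolutions X.Modules := inferInstance
  have hFG : ∀ I : Sheaf (Opens.grothendieckTopology X) AddCommGrpCat.{u}, Injective I →
      Groth.Agent.Lib.Helper5.CompAcyclic.Acyc (Coh.pushAb g) ((Coh.pushAb f).obj I) := by
    intro I hI
    haveI : Injective ((Coh.pushAb f).obj I) :=
      Groth.Agent.Lib.Helper22.CohTop.injective_push f.base I
    exact Groth.Agent.Lib.Helper5.CompAcyclic.acyc_of_injective _ _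
  have hM : Groth.Agent.Lib.Helper5.CompAcyclic.BaseAcyclic (Coh.pushAb f) (Coh.pushAb g)
      (Coh.toAb F) := by
    intro q a
    obtain ⟨e⟩ := Groth.Agent.Lib.Helper5.RpushAb.main f F q
    haveI : Coh.IsQCoh ((Coh.Rpush f q).obj F) := Groth.Agent.S0030.result f F q
    exact (Groth.Agent.Lib.Helper22.Cech.isZero_RpushAb_succ g ((Coh.Rpush f q).obj F) a).of_iso
      ((Coh.RpushAb g (a + 1)).mapIso e.symm)
  obtain ⟨e⟩ := Groth.Agent.Lib.Helper5.CompAcyclic.nonempty_iso hFG p (Coh.toAb F) hM
  have e0 : Coh.pushAb (f ≫ g) ≅ Coh.pushAb f ⋙ Coh.pushAb g := Iso.refl _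
  exact ⟨(Groth.Agent.Lib.Helper22.DimShift.rightDerivedIsoOfNatIso e0 p).app _ ≪≫ e⟩

end Groth.Agent.S4457
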