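import Groth.Statements.S4459
import Mathlib

set_option autoImplicit false
universe u
open Coherent

namespace Groth.Agent.S4459

open AlgebraicGeometry CategoryTheory in
/-- Let A be a Noetherian ring which is separated and complete for the J-adic topology, and let f : X →
Spec A be a morphism of schemes which is a closed map on underlying spaces. Then every open subset
of X containing the inverse image of V(J) is all of X. (The published statement also assumes X of
finite type over A; that hypothesis is not used.) -/
theorem result (A : Type u) [CommRing A] [IsNoetherianRing A]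
    (J : Ideal A) [IsAdicComplete J A] {X : Scheme.{u}} (f : X ⟶ Spec (CommRingCat.of A))
    (hf : IsClosedMap f.base) (U : X.Opens)
    (hU : f.base ⁻¹' (PrimeSpectrum.zeroLocus (J : Set A)) ⊆ (U : Set X)) : U = ⊤ := by
  classical
  have hJ : J ≤ (⊥ : Ideal A).jacobson := IsAdicComplete.le_jacobson_bot J
  -- the closed complement
  have hZ : IsClosed ((U : Set X)ᶜ) := U.isOpen.isClosed_compl
  have hfZ : IsClosed (f.base '' ((U : Set X)ᶜ)) := hf _ hZ
  obtain ⟨I, hI⟩ := (PrimeSpectrum.isClosed_iff_zeroLocus_ideal _).mp hfZ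
  have hdisj : PrimeSpectrum.zeroLocus (I : Set A) ∩ PrimeSpectrum.zeroLocus (J : Set A) = ∅ := by
    rw [← hI]
    ext y
    simp only [Set.mem_inter_iff, Set.mem_image, Set.mem_compl_iff, Set.mem_empty_iff_false,
      iff_false, not_and]
    rintro ⟨x, hx, rfl⟩ hy
    exact hx (hU hy)
  have hIJ : I ⊔ J = ⊤ := by
    rw [← PrimeSpectrum.zeroLocus_empty_iff_eq_top, PrimeSpectrum.zeroLocus_sup]
    exact hdisj
  have hItop : I = ⊤ := by
    obtain ⟨i, hi, j, hj, hij⟩ := Submodule.mem_sup.mp ((Ideal.eq_top_iff_one _).mp hIJ)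
    have hunit : IsUnit i := by
      have hj' : j ∈ (⊥ : Ideal A).jacobson := hJ hj
      rw [Ideal.mem_jacobson_bot] at hj'
      have := hj' (-1)
      have h1 : j * -1 + 1 = i := by linear_combination (-1 : A) * hij
      rwa [h1] at this
    exact Ideal.eq_top_of_isUnit_mem _ hi hunit
  ext x
  simp only [TopologicalSpace.Opens.coe_top, Set.mem_univ, iff_true]
  by_contra hx
  have hmem : f.base x ∈ PrimeSpectrum.zeroLocus (I : Set A) := by
    rw [← hI]; exact ⟨x, hx, rfl⟩
  rw [hItop] at hmem
  have h1 : (1 : A) ∈ (f.base x).asIdeal := hmem (by trivial)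
  exact (f.base x).isPrime.ne_top ((Ideal.eq_top_iff_one _).mpr h1)

end Groth.Agent.S4459
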