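import Groth.Statements.S4469
import Mathlib.RingTheory.ZariskisMainTheorem
import Mathlib.RingTheory.Ideal.MinimalPrime.Noetherian
import Mathlib.RingTheory.IntegralClosure.IntegrallyClosed

set_option autoImplicit false
universe u
open CAlg

namespace Groth.Agent.S4469

/-- Let A be an integrally closed Noetherian local domain with field of fractions K, B an A-algebra of
finite type which is a domain with the same field of fractions (A → B → K compatible with A → K),
and 𝔫 a maximal ideal of B lying over the maximal ideal 𝔪 of A and minimal among the prime ideals of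
B lying over 𝔪. Then B = A: the structure map A → B is bijective. -/
theorem result (A B K : Type u) [CommRing A]
    [IsDomain A] [IsNoetherianRing A] [IsLocalRing A] [IsIntegrallyClosed A] [CommRing B] [IsDomain B]
    [Field K] [Algebra A B] [Algebra B K] [Algebra A K] [IsScalarTower A B K] [IsFractionRing A K]
    [IsFractionRing B K] [Algebra.FiniteType A B] (n : Ideal B) [n.IsMaximal]
    (hn : n.comap (algebraMap A B) = IsLocalRing.maximalIdeal A)
    (hmin : ∀ q : Ideal B, q.IsPrime → q.comap (algebraMap A B) = IsLocalRing.maximalIdeal A → q ≤ n → q = n) :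
    Function.Bijective (algebraMap A B) := by
  classical
  have hBK : Function.Injective (algebraMap B K) := IsFractionRing.injective B K
  have hAK : Function.Injective (algebraMap A K) := IsFractionRing.injective A K
  have hinj : Function.Injective (algebraMap A B) := by
    intro a b hab
    apply hAK
    rw [IsScalarTower.algebraMap_apply A B K, IsScalarTower.algebraMap_apply A B K, hab]
  -- integral elements of `B` come from `A`
  have hint : ∀ b : B, IsIntegral A b → ∃ a : A, algebraMap A B a = b := by
    intro b hb
    have hb' : IsIntegral A (algebraMap B K b) := hb.algebraMap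
    obtain ⟨a, ha⟩ := IsIntegrallyClosed.isIntegral_iff.mp hb'
    refine ⟨a, hBK ?_⟩
    rw [← ha, ← IsScalarTower.algebraMap_apply A B K]
  have hNB : IsNoetherianRing B := Algebra.FiniteType.isNoetherianRing A B
  -- quasi-finiteness at `n`
  have hqf : Algebra.QuasiFiniteAt A n := by
    let q0 : PrimeSpectrum B := ⟨n, inferInstance⟩
    let mB : Ideal B := Ideal.map (algebraMap A B) (IsLocalRing.maximalIdeal A)
    have hfinite : (mB.minimalPrimes).Finite := Ideal.finite_minimalPrimes_of_isNoetherianRing B mB
    let C : Set (PrimeSpectrum B) :=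
      ⋃ P ∈ {P ∈ mB.minimalPrimes | P ≠ n}, PrimeSpectrum.zeroLocus (P : Set B)
    have hC : IsClosed C := by
      apply Set.Finite.isClosed_biUnion (hfinite.subset (fun P hP => hP.1))
      intro P _
      exact PrimeSpectrum.isClosed_zeroLocus _
    refine Algebra.QuasiFiniteAt.of_isOpen_singleton_fiber q0 ?_
    have : ({⟨q0, rfl⟩} : Set (PrimeSpectrum.comap (algebraMap A B) ⁻¹'
        {PrimeSpectrum.comap (algebraMap A B) q0})) = Subtype.val ⁻¹' Cᶜ := by
      ext ⟨x, hx⟩
      simp only [Set.mem_singleton_iff, Subtype.mk.injEq, Set.mem_preimage, Set.mem_compl_iff]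
      constructor
      · rintro rfl
        simp only [C, Set.mem_iUnion, not_exists]
        rintro P ⟨hP, hPn⟩ hmem
        apply hPn
        have hPle : P ≤ n := hmem
        have hPprime : P.IsPrime := hP.1.1
        have hmBP : mB ≤ P := hP.1.2
        refine hmin P hPprime ?_ hPle
        have h1 : IsLocalRing.maximalIdeal A ≤ P.comap (algebraMap A B) :=
          Ideal.map_le_iff_le_comap.mp hmBP
        have h2 : (P.comap (algebraMap A B)) ≠ ⊤ := (Ideal.IsPrime.comap _).ne_top
        exact ((IsLocalRing.maximalIdeal.isMaximal A).eq_of_le h2 h1).symm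
      · intro hxC
        have hxcomap : x.asIdeal.comap (algebraMap A B) = IsLocalRing.maximalIdeal A := by
          have := congrArg PrimeSpectrum.asIdeal hx
          simpa [q0, hn] using this
        have hmBx : mB ≤ x.asIdeal := by
          apply Ideal.map_le_iff_le_comap.mpr
          rw [hxcomap]
        obtain ⟨P, hP, hPx⟩ := Ideal.exists_minimalPrimes_le hmBx
        have hPn : P = n := by
          by_contra hne
          apply hxC
          simp only [C, Set.mem_iUnion]
          exact ⟨P, ⟨hP, hne⟩, hPx⟩
        subst hPn
        have : P = x.asIdeal := Ideal.IsMaximal.eq_of_le inferInstance x.2.ne_top hPx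
        exact PrimeSpectrum.ext this.symm
    rw [this]
    exact hC.isOpen_compl.preimage continuous_subtype_val
  obtain ⟨r, hrn, hr, hx⟩ := Algebra.zariskisMainProperty_iff.mp
    (Algebra.ZariskisMainProperty.of_finiteType (R := A) n)
  obtain ⟨r0, rfl⟩ := hint r hr
  have hr0 : IsUnit r0 := by
    by_contra hnu
    have : r0 ∈ IsLocalRing.maximalIdeal A := (IsLocalRing.mem_maximalIdeal r0).mpr hnu
    rw [← hn] at this
    exact hrn this
  refine ⟨hinj, ?_⟩
  intro x
  obtain ⟨m, hm⟩ := hx x
  obtain ⟨a, ha⟩ := hint _ hm
  obtain ⟨u, rfl⟩ := hr0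
  refine ⟨((u⁻¹ : Aˣ) : A) ^ m * a, ?_⟩
  rw [map_mul, ha, map_pow, ← mul_assoc, ← mul_pow, ← map_mul]
  simp
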