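import Groth.Statements.S4472
import Mathlib
import Groth.Agent.Lib.Helper4.ZZ2

set_option autoImplicit false
universe u
open Coherent

namespace Groth.Agent.S4472

open AlgebraicGeometry CategoryTheory in

open AlgebraicGeometry in
/-- Let A be a unibranch Noetherian local domain (a local domain whose integral closure is a local ring)
with maximal ideal m, let 𝔞 be an ideal of definition of A (𝔞 ⊆ m and m^p ⊆ 𝔞 for some p), and let b
: X → Spec A be a blowing up of Spec A in the ideal sheaf defined by 𝔞. Then the fibre of b over the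
closed point is preconnected. Its underlying space is that of Proj of the associated graded ring ⊕
𝔞^i/𝔞^(i+1), so this says that Proj is connected (possibly empty). -/
theorem result (A : Type u) [CommRing A] [IsDomain A]
    [IsNoetherianRing A] [IsLocalRing A] (hA : CAlg2.IsUnibranch A) (𝔞 : Ideal A)
    (hle : 𝔞 ≤ IsLocalRing.maximalIdeal A)
    (hpow : ∃ p : ℕ, IsLocalRing.maximalIdeal A ^ p ≤ 𝔞) {X : Scheme.{u}}
    (b : X ⟶ Spec (CommRingCat.of A))
    (hb : BlowUp.IsBlowUp b
      (Scheme.IdealSheafData.ofIdealTop (𝔞.map (Scheme.ΓSpecIso (CommRingCat.of A)).inv.hom))) :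
    PreconnectedSpace ↥(b.fiber (IsLocalRing.closedPoint A)) := by
  haveI : IsLocalRing ↑(CommRingCat.of A) := ‹IsLocalRing A›
  have hy : CAlg2.IsUnibranch
      ((Spec (CommRingCat.of A)).presheaf.stalk (IsLocalRing.closedPoint A)) :=
    Groth.Agent.Lib.Helper4.ZZ.isUnibranch_of_ringEquiv
      (AlgebraicGeometry.stalkClosedPointIso (CommRingCat.of A)).symm.commRingCatIsoToRingEquiv hA
  exact Groth.Agent.Lib.Helper4.ZZ.preconnectedSpace_fiber_of_isBlowUp _ b hb _ hy

end Groth.Agent.S4472
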