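import Groth.Statements.S4486
import Mathlib
import Groth.Agent.Lib.Helper9.FlatCxUpTo

set_option autoImplicit false
universe u
open FlatCx

namespace Groth.Agent.S4486

open CategoryTheory CategoryTheory.Limits in
/-- For the homological functor T_p(M) = H_p(P ⊗_A M) of a chain complex P of flat modules over a
commutative ring A, which commutes with filtered colimits. Let A be a domain and suppose P_i = 0 for
i < i₀ and that every T_n(A) is a finitely presented A-module. Then for every integer N there is a
nonzero f ∈ A such that, for every p ≤ N, the functor of A_f-modules N ↦ H_p(P_f ⊗_{A_f} N), where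
P_f = P ⊗_A A_f, takes injections to injections and surjections to surjections. -/
theorem result {A : Type u} [CommRing A] [IsDomain A]
    (P : ChainComplex (ModuleCat.{u} A) ℤ) (hP : ∀ i, Module.Flat A (P.X i)) (i₀ : ℤ)
    (hb : ∀ i < i₀, IsZero (P.X i))
    (hfp : ∀ n : ℤ, Module.FinitePresentation A (CohIII.T P n (ModuleCat.of A A))) (N : ℤ) :
    ∃ f : A, f ≠ 0 ∧ ∀ p ≤ N,
      (CohIII.TFun (CohIII.bcCx (algebraMap A (Localization.Away f)) P) p).PreservesMonomorphisms ∧
        (CohIII.TFun (CohIII.bcCx (algebraMap A (Localization.Away f)) P) p).PreservesEpimorphisms := by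
  classical
  have hrel : ∀ q : ℤ, (ComplexShape.down ℤ).Rel q (q - 1) := fun q => by
    change q - 1 + 1 = q
    ring
  have hfpH : ∀ n : ℤ, Module.FinitePresentation A (P.homology n) := fun n =>
    have := hfp n
    .of_equiv (Groth.Agent.Lib.Helper9.FlatCxUpTo.homologyEquivT P n)
  -- the generic point lies in every free locus
  have hη : ∀ q : ℤ, (⟨⊥, Ideal.isPrime_bot⟩ : PrimeSpectrum A) ∈
      Module.freeLocus A (P.homology q) := by
    intro q
    rw [Module.mem_freeLocus]
    have : IsFractionRing A (Localization.AtPrime (⊥ : Ideal A)) := by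
      simpa [Ideal.primeCompl_bot] using
        Localization.isLocalization (M := (⊥ : Ideal A).primeCompl)
    let _ : Field (Localization.AtPrime (⊥ : Ideal A)) := IsFractionRing.toField A
    exact Module.Free.of_divisionRing _ _
  have hUopen : IsOpen (⋂ q ∈ Finset.Icc i₀ N, Module.freeLocus A (P.homology q)) :=
    isOpen_biInter_finset fun q _ => Module.isOpen_freeLocus
  have hηU : (⟨⊥, Ideal.isPrime_bot⟩ : PrimeSpectrum A) ∈
      ⋂ q ∈ Finset.Icc i₀ N, Module.freeLocus A (P.homology q) := by
    simp only [Set.mem_iInter]
    intro q _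
    exact hη q
  obtain ⟨V, ⟨f, rfl⟩, hηV, hVU⟩ :=
    PrimeSpectrum.isTopologicalBasis_basic_opens.exists_subset_of_mem_open hηU hUopen
  have hf0 : f ≠ 0 := by
    intro h0
    apply hηV
    change f ∈ (⊥ : Ideal A)
    rw [h0]
    exact Ideal.zero_mem _
  refine ⟨f, hf0, ?_⟩
  have hPB : ∀ i, Module.Flat (Localization.Away f)
      ((CohIII.bcCx (algebraMap A (Localization.Away f)) P).X i) := fun i =>
    have := hP i
    Groth.Agent.Lib.Helper28.FlatCx.flat_bcCx_X P i
  have hflatAB : (algebraMap A (Localization.Away f)).Flat := by
    rw [RingHom.flat_algebraMap_iff]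
    infer_instance
  -- homology of the localized complex is flat in the range
  have hH : ∀ q ∈ Finset.Icc i₀ N, Module.Flat (Localization.Away f)
      ((CohIII.bcCx (algebraMap A (Localization.Away f)) P).homology q) := by
    intro q hq
    have hsub : (PrimeSpectrum.basicOpen f : Set (PrimeSpectrum A)) ⊆
        Module.freeLocus A (P.homology q) := by
      intro x hx
      have := hVU hx
      simp only [Set.mem_iInter] at this
      exact this q hq
    have hproj : Module.Projective (Localization.Away f)
        (LocalizedModule.Away f (P.homology q)) :=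
      Module.basicOpen_subset_freeLocus_iff.mp hsub
    have hfl : Module.Flat (Localization.Away f) (LocalizedModule.Away f (P.homology q)) :=
      @Module.Flat.of_projective _ _ _ _ _ hproj
    have e1 := (Groth.Agent.Lib.Helper28.FlatCx.homologyBcIso
      (algebraMap A (Localization.Away f)) hflatAB P q).toLinearEquiv
    have e2 := Groth.Agent.Lib.Helper28.FlatCx.extendScalarsEquiv (Localization.Away f)
      (P.homology q)
    have e3 := LocalizedModule.equivTensorProduct (Submonoid.powers f) (P.homology q)
    exact Module.Flat.of_linearEquiv (e1 ≪≫ₗ e2 ≪≫ₗ e3.symm)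
  -- flatness of the opcycles up to `N`
  have key : ∀ n : ℕ, ∀ q : ℤ, q ≤ N → q < i₀ + n → Module.Flat (Localization.Away f)
      ((CohIII.bcCx (algebraMap A (Localization.Away f)) P).opcycles q) := by
    intro n
    induction n with
    | zero =>
      intro q _ hlt
      have hz : CategoryTheory.Limits.IsZero
          ((CohIII.bcCx (algebraMap A (Localization.Away f)) P).X q) :=
        (ModuleCat.extendScalars (algebraMap A (Localization.Away f))).map_isZero
          (hb q (by omega))
      have := Groth.Agent.Lib.Helper28.FlatCx.subsingleton_opcycles_of_isZero _ q hz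
      infer_instance
    | succ n ih =>
      intro q hq hlt
      by_cases hq' : q < i₀ + n
      · exact ih q hq hq'
      · have hW := ih (q - 1) (by omega) (by omega)
        have hX := hPB (q - 1)
        have hHq := hH q (Finset.mem_Icc.mpr ⟨by omega, hq⟩)
        exact Groth.Agent.Lib.Helper9.FlatCxUpTo.flat_opcycles_of_flat_homology _ q (q - 1)
          (hrel q)
  have keyN : ∀ q : ℤ, q ≤ N → Module.Flat (Localization.Away f)
      ((CohIII.bcCx (algebraMap A (Localization.Away f)) P).opcycles q) := fun q hq =>
    key (q - i₀ + 1).toNat q hq (by omega)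
  intro p hp
  have hm : ∀ q ≤ N, (CohIII.TFun (CohIII.bcCx (algebraMap A (Localization.Away f)) P)
      q).PreservesMonomorphisms := fun q hq =>
    (Groth.Agent.Lib.Helper28.FlatCx.preservesMono_iff_flat_opcycles _ hPB q).mpr (keyN q hq)
  refine ⟨hm p hp, ?_⟩
  exact (Groth.Agent.Lib.Helper28.FlatCx.preservesEpi_iff_preservesMono_of_rel _ hPB p (p - 1)
    (hrel p)).mpr (hm (p - 1) (by omega))

end Groth.Agent.S4486
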