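import Groth.Statements.S4487
import Mathlib
import Groth.Agent.Lib.Helper9.FlatCxFinite
import Groth.Agent.Lib.Helper9.FlatCxUpTo
import Groth.Agent.S4485
import Groth.Agent.S4486

set_option autoImplicit false
universe u
open FlatCx

namespace Groth.Agent.S4487

section helpers

open CategoryTheory CategoryTheory.Limits MonoidalCategory CohIII
open Groth.Agent.Lib.Helper28.FlatCx Groth.Agent.Lib.Helper9.FlatCxBC
  Groth.Agent.Lib.Helper9.FlatCxUpTo Groth.Agent.Lib.Helper9.FlatCxFinite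

/-- Over a Noetherian domain: a nonzero `f` such that the ranks `dRank Q q` (`q ≤ N`) are constant
on `D(f)`. -/
lemma const_dRank_of_domain {D : Type u} [CommRing D] [IsDomain D] [IsNoetherianRing D]
    (Q : ChainComplex (ModuleCat.{u} D) ℤ) (hQ : ∀ i, Module.Flat D (Q.X i)) (i₀ : ℤ)
    (hb : ∀ i < i₀, IsZero (Q.X i)) (hfin : ∀ n : ℤ, Module.Finite D (Q.homology n)) (N : ℤ) :
    ∃ f : D, f ≠ 0 ∧ ∀ q ≤ N, ∃ c : ℕ, ∀ x' : PrimeSpectrum D, f ∉ x'.asIdeal →
      dRank Q q x' = c := by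
  have hfp : ∀ n : ℤ, Module.FinitePresentation D (T Q n (ModuleCat.of D D)) := fun n =>
    have := hfin n
    have : Module.Finite D (T Q n (ModuleCat.of D D)) :=
      Module.Finite.equiv (homologyEquivT Q n).symm
    Module.finitePresentation_of_finite D _
  obtain ⟨f, hf0, hex⟩ := Groth.Agent.S4486.result Q hQ i₀ hb hfp N
  refine ⟨f, hf0, fun q hq => ?_⟩
  have hQ' : ∀ i, Module.Flat (Localization.Away f)
      ((bcCx (algebraMap D (Localization.Away f)) Q).X i) := fun i =>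
    have := hQ i
    flat_bcCx_X Q i
  have hflatAB : (algebraMap D (Localization.Away f)).Flat := by
    rw [RingHom.flat_algebraMap_iff]
    infer_instance
  have hdom : IsDomain (Localization.Away f) :=
    IsLocalization.isDomain_localization (powers_le_nonZeroDivisors_of_noZeroDivisors hf0)
  have hfp' : Module.FinitePresentation (Localization.Away f)
      (T (bcCx (algebraMap D (Localization.Away f)) Q) q
        (ModuleCat.of (Localization.Away f) (Localization.Away f))) := by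
    have := hfin q
    have e1 := homologyEquivT (bcCx (algebraMap D (Localization.Away f)) Q) q
    have e2 := (homologyBcIso (algebraMap D (Localization.Away f)) hflatAB Q q).toLinearEquiv
    have e3 := extendScalarsEquiv (Localization.Away f) (Q.homology q)
    have h1 : Module.Finite (Localization.Away f)
        (TensorProduct D (Localization.Away f) (Q.homology q)) := inferInstance
    have h2 : Module.Finite (Localization.Away f)
        (T (bcCx (algebraMap D (Localization.Away f)) Q) q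
          (ModuleCat.of (Localization.Away f) (Localization.Away f))) :=
      Module.Finite.equiv (e1 ≪≫ₗ e2 ≪≫ₗ e3).symm
    exact Module.finitePresentation_of_finite _ _
  have hlc := Groth.Agent.S4485.result (bcCx (algebraMap D (Localization.Away f)) Q) hQ' q
    (hex q hq) hfp'
  refine ⟨dRank (bcCx (algebraMap D (Localization.Away f)) Q) q ⟨⊥, Ideal.isPrime_bot⟩,
    fun x' hx' => ?_⟩
  have hmem : x' ∈ Set.range (PrimeSpectrum.comap (algebraMap D (Localization.Away f))) := by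
    rw [PrimeSpectrum.localization_away_comap_range (Localization.Away f) f]
    exact hx'
  obtain ⟨y, rfl⟩ := hmem
  rw [← dRank_bcCx]
  exact hlc.apply_eq_of_preconnectedSpace _ _

lemma const_dRank_of_prime {A : Type u} [CommRing A] [IsNoetherianRing A]
    (P : ChainComplex (ModuleCat.{u} A) ℤ) (hP : ∀ i, Module.Flat A (P.X i)) (i₀ : ℤ)
    (hb : ∀ i < i₀, IsZero (P.X i))
    (hfg : ∀ n : ℤ, Module.Finite A (T P n (ModuleCat.of A A))) (N : ℤ)
    (𝔭 : Ideal A) [h𝔭 : 𝔭.IsPrime] :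
    ∃ g : A, g ∉ 𝔭 ∧ ∀ q ≤ N, ∃ c : ℕ, ∀ x : PrimeSpectrum A, 𝔭 ≤ x.asIdeal → g ∉ x.asIdeal →
      dRank P q x = c := by
  have hFin := finT_of_bounded P hP i₀ hb hfg
  have hQ : ∀ i, Module.Flat (A ⧸ 𝔭) ((bcCx (algebraMap A (A ⧸ 𝔭)) P).X i) := fun i =>
    have := hP i
    flat_bcCx_X P i
  have hbQ : ∀ i < i₀, IsZero ((bcCx (algebraMap A (A ⧸ 𝔭)) P).X i) := fun i hi =>
    (ModuleCat.extendScalars (algebraMap A (A ⧸ 𝔭))).map_isZero (hb i hi)
  have hfinQ : ∀ n : ℤ, Module.Finite (A ⧸ 𝔭) ((bcCx (algebraMap A (A ⧸ 𝔭)) P).homology n) := by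
    intro n
    have h1 : IsNoetherian A (T P n (ModuleCat.of A (A ⧸ 𝔭))) := hFin n (A ⧸ 𝔭)
    have h2 : Module.Finite A (T P n (ModuleCat.of A (A ⧸ 𝔭))) := inferInstance
    exact finite_homology_bcCx_of_finite_T (A ⧸ 𝔭) P n h2
  obtain ⟨f, hf0, hc⟩ := const_dRank_of_domain (bcCx (algebraMap A (A ⧸ 𝔭)) P) hQ i₀ hbQ hfinQ N
  obtain ⟨g, rfl⟩ := Ideal.Quotient.mk_surjective f
  refine ⟨g, fun hg => hf0 (Ideal.Quotient.eq_zero_iff_mem.mpr hg), fun q hq => ?_⟩
  obtain ⟨c, hc⟩ := hc q hq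
  refine ⟨c, fun x hx hgx => ?_⟩
  have hmem : x ∈ Set.range (PrimeSpectrum.comap (algebraMap A (A ⧸ 𝔭))) := by
    have hsurj : Function.Surjective (algebraMap A (A ⧸ 𝔭)) := Ideal.Quotient.mk_surjective
    rw [range_comap_of_surjective _ _ hsurj]
    rw [PrimeSpectrum.mem_zeroLocus]
    intro a ha
    have ha' : a ∈ 𝔭 := by
      have : a ∈ RingHom.ker (Ideal.Quotient.mk 𝔭) := ha
      rwa [Ideal.mk_ker] at this
    exact hx ha'
  obtain ⟨x', rfl⟩ := hmem
  rw [← dRank_bcCx]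
  apply hc
  intro hmem'
  exact hgx hmem'

end helpers

open CategoryTheory CategoryTheory.Limits in
/-- The case of the homological functor T_p(M) = H_p(P ⊗_A M) of a chain complex P of flat modules over
a commutative ring A. Let A be Noetherian and suppose P_i = 0 for i < i₀ and that every T_n(A) is a
finitely generated A-module. Then for every integer N there is a dense open subset U of Spec A such
that, for every p ≤ N, the function x ↦ dim_{k(x)} H_p(P ⊗_A k(x)) is locally constant on U. (The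
published statement says constant on U; over the product of two fields, with P the projective module
supported on one factor placed in degree 0, the only dense open set is the whole two-point spectrum
and the ranks there are 1 and 0, so locally constant on U is what holds; the argument produces U as
a disjoint union of opens, one dense in each irreducible component, on each of which the functions
are constant.) -/
theorem result {A : Type u} [CommRing A] [IsNoetherianRing A]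
    (P : ChainComplex (ModuleCat.{u} A) ℤ) (hP : ∀ i, Module.Flat A (P.X i)) (i₀ : ℤ)
    (hb : ∀ i < i₀, IsZero (P.X i))
    (hfg : ∀ n : ℤ, Module.Finite A (CohIII.T P n (ModuleCat.of A A))) (N : ℤ) :
    ∃ U : Set (PrimeSpectrum A), IsOpen U ∧ Dense U ∧
      ∀ p ≤ N, IsLocallyConstant (fun x : U => CohIII.dRank P p x) := by
  classical
  have hSfin : (minimalPrimes A).Finite := minimalPrimes.finite_of_isNoetherianRing A
  have hex : ∀ 𝔭 : Ideal A, 𝔭 ∈ minimalPrimes A → ∃ g : A, g ∉ 𝔭 ∧ ∀ q ≤ N, ∃ c : ℕ,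
      ∀ x : PrimeSpectrum A, 𝔭 ≤ x.asIdeal → g ∉ x.asIdeal → CohIII.dRank P q x = c := by
    intro 𝔭 h𝔭
    have : 𝔭.IsPrime := h𝔭.1.1
    exact const_dRank_of_prime P hP i₀ hb hfg N 𝔭
  choose! g hg hconst using hex
  -- the open pieces
  let Upc : Ideal A → Set (PrimeSpectrum A) := fun 𝔭 =>
    (PrimeSpectrum.basicOpen (g 𝔭) : Set (PrimeSpectrum A)) ∩
      ⋂ 𝔮 ∈ (minimalPrimes A \ {𝔭}), (PrimeSpectrum.zeroLocus (𝔮 : Set A))ᶜ
  have hUpc_open : ∀ 𝔭, IsOpen (Upc 𝔭) := fun 𝔭 =>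
    (PrimeSpectrum.basicOpen (g 𝔭)).2.inter
      ((hSfin.subset Set.sdiff_subset).isOpen_biInter fun 𝔮 _ =>
        (PrimeSpectrum.isClosed_zeroLocus _).isOpen_compl)
  -- points of `Upc 𝔭` contain `𝔭`
  have hUpc_le : ∀ 𝔭 ∈ minimalPrimes A, ∀ x ∈ Upc 𝔭, 𝔭 ≤ x.asIdeal := by
    intro 𝔭 _ x hx
    obtain ⟨𝔮, h𝔮, hle⟩ := Ideal.exists_minimalPrimes_le (I := ⊥) (J := x.asIdeal) bot_le
    by_cases h : 𝔮 = 𝔭
    · exact h ▸ hle
    · exfalso
      have h2 := hx.2
      simp only [Set.mem_iInter] at h2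
      have h3 := h2 𝔮 ⟨h𝔮, h⟩
      apply h3
      rw [PrimeSpectrum.mem_zeroLocus]
      exact hle
  refine ⟨⋃ 𝔭 ∈ minimalPrimes A, Upc 𝔭, isOpen_biUnion fun 𝔭 _ => hUpc_open 𝔭, ?_, ?_⟩
  · -- density
    rw [dense_iff_inter_open]
    intro W hW hWne
    obtain ⟨x, hxW⟩ := hWne
    obtain ⟨𝔭, h𝔭, hle⟩ := Ideal.exists_minimalPrimes_le (I := ⊥) (J := x.asIdeal) bot_le
    have hprime : 𝔭.IsPrime := h𝔭.1.1
    let η : PrimeSpectrum A := ⟨𝔭, hprime⟩
    have hspec : η ⤳ x := (PrimeSpectrum.le_iff_specializes η x).mp hle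
    have hηW : η ∈ W := hspec.mem_open hW hxW
    refine ⟨η, hηW, ?_⟩
    simp only [Set.mem_iUnion]
    refine ⟨𝔭, h𝔭, ?_, ?_⟩
    · exact hg 𝔭 h𝔭
    · simp only [Set.mem_iInter]
      intro 𝔮 h𝔮
      rw [Set.mem_compl_iff, PrimeSpectrum.mem_zeroLocus]
      intro hle'
      have hle'' : 𝔮 ≤ 𝔭 := hle'
      have : 𝔭 ≤ 𝔮 := h𝔭.2 ⟨h𝔮.1.1.1, bot_le⟩ hle''
      exact h𝔮.2 (le_antisymm hle'' this)
  · intro q hq
    rw [IsLocallyConstant.iff_exists_open]
    rintro ⟨x, hx⟩
    simp only [Set.mem_iUnion] at hx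
    obtain ⟨𝔭, h𝔭, hx𝔭⟩ := hx
    obtain ⟨c, hc⟩ := hconst 𝔭 h𝔭 q hq
    refine ⟨Subtype.val ⁻¹' Upc 𝔭, (hUpc_open 𝔭).preimage continuous_subtype_val, hx𝔭, ?_⟩
    rintro ⟨y, hy⟩ hy𝔭
    have hy𝔭' : y ∈ Upc 𝔭 := hy𝔭
    change CohIII.dRank P q y = CohIII.dRank P q x
    rw [hc y (hUpc_le 𝔭 h𝔭 y hy𝔭') hy𝔭'.1, hc x (hUpc_le 𝔭 h𝔭 x hx𝔭) hx𝔭.1]

end Groth.Agent.S4487
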