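import Groth.Statements.S4488
import Mathlib
import Groth.Agent.Lib.Helper9.FlatCxBC
import Groth.Agent.Lib.Helper9.ReducedFree

set_option autoImplicit false
universe u
open FlatCx

namespace Groth.Agent.S4488

section helpers

open CategoryTheory CategoryTheory.Limits MonoidalCategory CohIII
open Groth.Agent.Lib.Helper28.FlatCx

variable {A : Type u} [CommRing A]

lemma isZero_T_of_isZero (P : ChainComplex (ModuleCat.{u} A) ℤ) (q : ℤ) (h : IsZero (P.X q))
    (M : ModuleCat.{u} A) : IsZero ((TFun P q).obj M) := by
  have h1 : IsZero ((tensorObj P M).X q) := (tensorRight M).map_isZero h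
  exact ShortComplex.isZero_homology_of_isZero_X₂ _ h1

lemma preserves_of_isZero (P : ChainComplex (ModuleCat.{u} A) ℤ) (q : ℤ) (h : IsZero (P.X q)) :
    (TFun P q).PreservesMonomorphisms ∧ (TFun P q).PreservesEpimorphisms := by
  constructor
  · refine ⟨fun {X Y} f _ => ?_⟩
    rw [ModuleCat.mono_iff_injective]
    have := ModuleCat.subsingleton_of_isZero (isZero_T_of_isZero P q h X)
    exact Function.injective_of_subsingleton _
  · refine ⟨fun {X Y} f _ => ?_⟩
    rw [ModuleCat.epi_iff_surjective]
    have := ModuleCat.subsingleton_of_isZero (isZero_T_of_isZero P q h Y)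
    intro y
    exact ⟨0, Subsingleton.elim _ _⟩

end helpers

open CategoryTheory CategoryTheory.Limits in
/-- For the homological functor T_q(M) = H_q(P ⊗_A M) of a chain complex P of flat modules over a
commutative local ring A with residue field k. Suppose P_i = 0 for i < i₀ and that every T_n(A) is a
finitely presented A-module, and let p be an integer. If T_q takes injections to injections and
surjections to surjections for every q ≤ p, then dim_{k(x)} T_q(k(x)) = dim_k T_q(k) for every point
x of Spec A and every q ≤ p. Conversely, if A is reduced and this equality holds at the generic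
point of every irreducible component of Spec A (every minimal prime) for every q ≤ p, then T_q takes
injections to injections and surjections to surjections for every q ≤ p. No Noetherian hypothesis on
A. -/
theorem result {A : Type u} [CommRing A] [IsLocalRing A]
    (P : ChainComplex (ModuleCat.{u} A) ℤ) (hP : ∀ i, Module.Flat A (P.X i)) (i₀ : ℤ)
    (hb : ∀ i < i₀, IsZero (P.X i))
    (hfp : ∀ n : ℤ, Module.FinitePresentation A (CohIII.T P n (ModuleCat.of A A))) (p : ℤ) :
    ((∀ q ≤ p, (CohIII.TFun P q).PreservesMonomorphisms ∧ (CohIII.TFun P q).PreservesEpimorphisms) →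
        ∀ (x : PrimeSpectrum A), ∀ q ≤ p, CohIII.dRank P q x = CohIII.dRank P q (IsLocalRing.closedPoint A)) ∧
      (IsReduced A →
        (∀ x : PrimeSpectrum A, x.asIdeal ∈ minimalPrimes A →
          ∀ q ≤ p, CohIII.dRank P q x = CohIII.dRank P q (IsLocalRing.closedPoint A)) →
        ∀ q ≤ p, (CohIII.TFun P q).PreservesMonomorphisms ∧ (CohIII.TFun P q).PreservesEpimorphisms) := by
  have hrel : ∀ q : ℤ, (ComplexShape.down ℤ).Rel q (q - 1) := fun q => by
    change q - 1 + 1 = q
    ring
  constructor
  · intro h x q hq
    obtain ⟨hm, he⟩ := h q hq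
    obtain ⟨hfp', hflat, heq⟩ := Groth.Agent.Lib.Helper9.FlatCxBC.dRank_eq_rankAtStalk_of_exact P hP
      q (q - 1) (hrel q) he hm (hfp q)
    rw [heq]
    have hle : x ≤ IsLocalRing.closedPoint A := IsLocalRing.le_maximalIdeal x.2.ne_top
    exact Module.rankAtStalk_eq_of_le_of_finite_of_flat _ hle
  · intro hred hmin
    have key : ∀ n : ℕ, ∀ q : ℤ, q ≤ p → q < i₀ + n →
        ((CohIII.TFun P q).PreservesMonomorphisms ∧ (CohIII.TFun P q).PreservesEpimorphisms) := by
      intro n
      induction n with
      | zero =>
        intro q _ hlt
        exact preserves_of_isZero P q (hb q (by omega))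
      | succ n ih =>
        intro q hq hlt
        by_cases hq' : q < i₀ + n
        · exact ih q hq hq'
        · have hprev := ih (q - 1) (by omega) (by omega)
          have he : (CohIII.TFun P q).PreservesEpimorphisms :=
            (Groth.Agent.Lib.Helper28.FlatCx.preservesEpi_iff_preservesMono_of_rel P hP q (q - 1)
              (hrel q)).mpr hprev.1
          have hX := hP (q - 1)
          have hW := Groth.Agent.Lib.Helper9.FlatCxBC.flat_opcycles_of_preservesEpi P hP q (q - 1)
            (hrel q) he
          obtain ⟨e⟩ := Groth.Agent.Lib.Helper9.FlatCxBC.nonempty_homology_equiv_T P q (q - 1)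
            (hrel q)
          have hfpq := hfp q
          have hfp' : Module.FinitePresentation A (P.homology q) := .of_equiv e.symm
          have hfree : Module.Free A (P.homology q) := by
            apply Groth.Agent.Lib.Helper9.ReducedFree.free_of_fibreDim_eq_minimalPrimes
            intro x hx
            rw [← Groth.Agent.Lib.Helper9.FlatCxBC.dRank_eq_fibreDim P q (q - 1) (hrel q) x,
              ← Groth.Agent.Lib.Helper9.FlatCxBC.dRank_eq_fibreDim P q (q - 1) (hrel q)
                (IsLocalRing.closedPoint A)]
            exact hmin x hx q hq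
          have hflat : Module.Flat A (P.homology q) := inferInstance
          have hmono : (CategoryTheory.MonoidalCategory.tensorLeft (P.homology q)).PreservesMonomorphisms :=
            (Groth.Agent.Lib.Helper28.FlatCx.tensorLeft_preservesMono_iff_flat _).mpr hflat
          refine ⟨?_, he⟩
          exact CategoryTheory.Functor.PreservesMonomorphisms.of_iso
            (Groth.Agent.Lib.Helper28.FlatCx.isoTensorLeft P q (q - 1) (hrel q)).symm
    intro q hq
    exact key (q - i₀ + 1).toNat q hq (by omega)

end Groth.Agent.S4488
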