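import Groth.Statements.S4489
import Mathlib
import Groth.Agent.Lib.Helper28.FlatCx

set_option autoImplicit false
universe u
open FlatCx

namespace Groth.Agent.S4489

open CategoryTheory CategoryTheory.Limits in
/-- Over a Dedekind domain, for a complex of flat modules, `opcycles p` is flat iff `homology p`
is flat. -/
theorem flat_opcycles_iff_flat_homology {A : Type u} [CommRing A] [IsDedekindDomain A]
    (P : ChainComplex (ModuleCat.{u} A) ℤ) (hP : ∀ i, Module.Flat A (P.X i)) (p q : ℤ)
    (hpq : q + 1 = p) :
    Module.Flat A (P.opcycles p) ↔ Module.Flat A (P.homology p) := by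
  have hrel : (ComplexShape.down ℤ).Rel p q := hpq
  have hex : (ShortComplex.mk (P.homologyι p) (P.fromOpcycles p q)
      (P.homologyι_comp_fromOpcycles p q)).Exact :=
    ShortComplex.exact_of_f_is_kernel _
      (P.homologyIsKernel p q ((ComplexShape.down ℤ).next_eq' hrel))
  have hinj : Function.Injective (P.homologyι p) :=
    (ModuleCat.mono_iff_injective _).mp inferInstance
  have hq : Submodule.torsion A (P.X q) = ⊥ :=
    IsDedekindDomain.flat_iff_torsion_eq_bot.mp (hP q)
  rw [IsDedekindDomain.flat_iff_torsion_eq_bot, IsDedekindDomain.flat_iff_torsion_eq_bot]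
  constructor
  · intro h
    rw [eq_bot_iff]
    intro x hx
    obtain ⟨a, ha⟩ := (Submodule.mem_torsion_iff x).mp hx
    rw [Submonoid.smul_def] at ha
    have h1 : P.homologyι p x ∈ Submodule.torsion A (P.opcycles p) := by
      rw [Submodule.mem_torsion_iff]
      refine ⟨a, ?_⟩
      rw [Submonoid.smul_def, ← map_smul, ha, map_zero]
    rw [h] at h1
    exact hinj (by rw [(Submodule.mem_bot A).mp h1, map_zero])
  · intro h
    rw [eq_bot_iff]
    intro x hx
    obtain ⟨a, ha⟩ := (Submodule.mem_torsion_iff x).mp hx
    rw [Submonoid.smul_def] at ha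
    have h1 : P.fromOpcycles p q x ∈ Submodule.torsion A (P.X q) := by
      rw [Submodule.mem_torsion_iff]
      refine ⟨a, ?_⟩
      rw [Submonoid.smul_def, ← map_smul, ha, map_zero]
    rw [hq] at h1
    obtain ⟨y, rfl⟩ := (ShortComplex.moduleCat_exact_iff _).mp hex x ((Submodule.mem_bot A).mp h1)
    have h2 : y ∈ Submodule.torsion A (P.homology p) := by
      rw [Submodule.mem_torsion_iff]
      refine ⟨a, hinj ?_⟩
      rw [Submonoid.smul_def, map_smul, map_zero]
      exact ha
    rw [h] at h2
    rw [(Submodule.mem_bot A).mp h2, map_zero]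
    exact Submodule.zero_mem _


open CategoryTheory CategoryTheory.Limits in
/-- For the homological functor T_p(M) = H_p(P ⊗_A M) of a chain complex P of flat modules, stated over
a Dedekind domain A. (The published statement allows A to be a finite product of Dedekind domains,
that is, a Noetherian regular ring of dimension at most 1; this row takes A a Dedekind domain.) Then
T_p takes injections to injections if and only if H_p(P) is a flat A-module; and, with q + 1 = p,
T_p takes injections to injections and surjections to surjections if and only if H_p(P) and H_q(P)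
are both flat. -/
theorem result {A : Type u} [CommRing A] [IsDedekindDomain A]
    (P : ChainComplex (ModuleCat.{u} A) ℤ) (hP : ∀ i, Module.Flat A (P.X i)) (p q : ℤ) (hpq : q + 1 = p) :
    ((CohIII.TFun P p).PreservesMonomorphisms ↔ Module.Flat A (P.homology p)) ∧
      (((CohIII.TFun P p).PreservesMonomorphisms ∧ (CohIII.TFun P p).PreservesEpimorphisms) ↔
        (Module.Flat A (P.homology p) ∧ Module.Flat A (P.homology q))) := by
  have hrel : (ComplexShape.down ℤ).Rel p q := hpq
  have h1 : (CohIII.TFun P p).PreservesMonomorphisms ↔ Module.Flat A (P.homology p) :=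
    (Groth.Agent.Lib.Helper28.FlatCx.preservesMono_iff_flat_opcycles P hP p).trans
      (flat_opcycles_iff_flat_homology P hP p q hpq)
  have h2 : (CohIII.TFun P p).PreservesEpimorphisms ↔ Module.Flat A (P.homology q) :=
    (Groth.Agent.Lib.Helper28.FlatCx.preservesEpi_iff_preservesMono_of_rel P hP p q hrel).trans
      ((Groth.Agent.Lib.Helper28.FlatCx.preservesMono_iff_flat_opcycles P hP q).trans
        (flat_opcycles_iff_flat_homology P hP q (q - 1) (by ring)))
  exact ⟨h1, and_congr h1 h2⟩

end Groth.Agent.S4489
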