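import Groth.Statements.S4491
import Mathlib
import Groth.Agent.Lib.Helper28.FlatCx

set_option autoImplicit false
universe u
open FlatCx

namespace Groth.Agent.S4491

section Helpers

open CategoryTheory CategoryTheory.Limits MonoidalCategory CohIII

variable {A : Type u} [CommRing A] {ι : Type} {c : ComplexShape ι}

theorem homologyMap_smul' {K L : HomologicalComplex (ModuleCat.{u} A) c} (φ : K ⟶ L) (a : A)
    (i : ι) : HomologicalComplex.homologyMap (a • φ) i = a • HomologicalComplex.homologyMap φ i := by
  have h : (HomologicalComplex.shortComplexFunctor (ModuleCat.{u} A) c i).map (a • φ) =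
      a • (HomologicalComplex.shortComplexFunctor (ModuleCat.{u} A) c i).map φ := by
    ext <;> rfl
  change ShortComplex.homologyMap
    ((HomologicalComplex.shortComplexFunctor (ModuleCat.{u} A) c i).map (a • φ)) = _
  rw [h, ShortComplex.homologyMap_smul]
  rfl

theorem TFun_map_smul_id (P : HomologicalComplex (ModuleCat.{u} A) c) (q : ι)
    (M : ModuleCat.{u} A) (f : A) :
    (TFun P q).map (f • 𝟙 M) = f • 𝟙 ((TFun P q).obj M) := by
  rw [Groth.Agent.Lib.Helper28.FlatCx.TFun_map]
  have h1 : tensorMap P (f • 𝟙 M) = f • 𝟙 (tensorObj P M) := by
    ext i : 1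
    rw [Groth.Agent.Lib.Helper28.FlatCx.tensorMap_f]
    simp only [MonoidalLinear.whiskerLeft_smul, MonoidalCategory.whiskerLeft_id,
      HomologicalComplex.smul_f_apply, HomologicalComplex.id_f]
    rfl
  rw [h1, homologyMap_smul', HomologicalComplex.homologyMap_id]
  rfl

end Helpers


open CategoryTheory CategoryTheory.Limits in
/-- For the homological functor T_i(M) = H_i(P ⊗_A M) of a chain complex P of flat modules over a
commutative ring A. Let q + 1 = p and suppose T_p takes surjections to surjections. If
multiplication by f ∈ A is injective on an A-module M, then multiplication by f is injective on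
T_q(M). In particular, when A is a domain, T_q(A) is torsion-free. -/
theorem result {A : Type u} [CommRing A]
    (P : ChainComplex (ModuleCat.{u} A) ℤ) (hP : ∀ i, Module.Flat A (P.X i)) (p q : ℤ) (hpq : q + 1 = p)
    (hex : (CohIII.TFun P p).PreservesEpimorphisms) :
    (∀ (M : ModuleCat.{u} A) (f : A), Function.Injective (fun x : M => f • x) →
        Function.Injective (fun y : CohIII.T P q M => f • y)) ∧
      (IsDomain A → NoZeroSMulDivisors A (CohIII.T P q (ModuleCat.of A A))) := by
  have hrel : (ComplexShape.down ℤ).Rel p q := hpq
  have hmono : (CohIII.TFun P q).PreservesMonomorphisms :=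
    (Groth.Agent.Lib.Helper28.FlatCx.preservesEpi_iff_preservesMono_of_rel P hP p q hrel).mp hex
  have key : ∀ (M : ModuleCat.{u} A) (f : A), Function.Injective (fun x : M => f • x) →
      Function.Injective (fun y : CohIII.T P q M => f • y) := by
    intro M f hf
    have hg : Mono (f • 𝟙 M) := by
      rw [ModuleCat.mono_iff_injective]
      intro x y hxy
      exact hf hxy
    have h2 : Mono ((CohIII.TFun P q).map (f • 𝟙 M)) := hmono.preserves _
    rw [TFun_map_smul_id, ModuleCat.mono_iff_injective] at h2
    intro x y hxy
    exact h2 hxy
  refine ⟨key, fun hdom => ?_⟩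
  constructor
  intro f y hfy
  by_cases hf : f = 0
  · exact Or.inl hf
  · right
    have hinj := key (ModuleCat.of A A) f (by
      intro a b hab
      simp only [smul_eq_mul] at hab
      exact mul_left_cancel₀ hf hab)
    apply hinj
    simp only [smul_zero]
    exact hfy

end Groth.Agent.S4491
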