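import Groth.Statements.S4495
import Mathlib.Topology.Sheaves.CommRingCat
import Mathlib.Topology.Connected.Clopen
import Mathlib.RingTheory.LocalRing.Basic

set_option autoImplicit false
universe u
open FlatCx

namespace Groth.Agent.S4495

open CategoryTheory AlgebraicGeometry Opposite TopologicalSpace

theorem idem_local {R : Type*} [CommRing R] [IsLocalRing R] {e : R} (he : IsIdempotentElem e) :
    e = 0 ∨ e = 1 := by
  have h0 : e * (1 - e) = 0 := by
    rw [mul_sub, mul_one, he.eq, sub_self]
  rcases IsLocalRing.isUnit_or_isUnit_one_sub_self e with h | h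
  · right
    have : 1 - e = 0 := by
      obtain ⟨u, rfl⟩ := h
      exact (Units.mul_right_eq_zero u).mp h0
    exact (sub_eq_zero.mp this).symm
  · left
    obtain ⟨u, hu⟩ := h
    rw [← hu] at h0
    exact (Units.mul_left_eq_zero u).mp h0

theorem forward (Z : LocallyRingedSpace.{u}) (hpre : PreconnectedSpace Z)
    (e : Z.presheaf.obj (op ⊤)) (he : IsIdempotentElem e) : e = 0 ∨ e = 1 := by
  have hgerm : ∀ x : Z, Z.presheaf.Γgerm x e = 0 ∨ Z.presheaf.Γgerm x e = 1 := fun x =>
    idem_local (he.map (Z.presheaf.Γgerm x).hom)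
  let D : Opens Z.toTopCat := Z.toRingedSpace.basicOpen e
  let D' : Opens Z.toTopCat := Z.toRingedSpace.basicOpen (1 - e)
  have hD : ∀ x : Z.toTopCat, x ∈ D ↔ IsUnit (Z.presheaf.Γgerm x e) := fun x =>
    RingedSpace.mem_top_basicOpen Z.toRingedSpace e x
  have hD' : ∀ x : Z.toTopCat, x ∈ D' ↔ IsUnit (Z.presheaf.Γgerm x (1 - e)) := fun x =>
    RingedSpace.mem_top_basicOpen Z.toRingedSpace (1 - e) x
  have hcompl : (D : Set Z.toTopCat)ᶜ = (D' : Set Z.toTopCat) := by
    ext x
    rw [Set.mem_compl_iff, SetLike.mem_coe, SetLike.mem_coe, hD, hD', map_sub, map_one]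
    rcases hgerm x with h | h
    · simp [h]
    · simp [h]
  have hcl : IsClopen (D : Set Z.toTopCat) := by
    refine ⟨?_, D.isOpen⟩
    rw [← isOpen_compl_iff, hcompl]
    exact D'.isOpen
  rcases (preconnectedSpace_iff_clopen.mp hpre) _ hcl with h | h
  · left
    refine TopCat.Presheaf.section_ext Z.𝒪 ⊤ e 0 (fun x hx => ?_)
    have hx' : x ∉ (D : Set Z.toTopCat) := by rw [h]; exact id
    rw [SetLike.mem_coe, hD] at hx'
    rcases hgerm x with h0 | h1
    · rw [map_zero]; exact h0
    · exact absurd (h1 ▸ isUnit_one) hx'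
  · right
    refine TopCat.Presheaf.section_ext Z.𝒪 ⊤ e 1 (fun x hx => ?_)
    have hx' : x ∈ (D : Set Z.toTopCat) := by rw [h]; trivial
    rw [SetLike.mem_coe, hD] at hx'
    rcases hgerm x with h0 | h1
    · rw [h0] at hx'
      exact absurd hx' not_isUnit_zero
    · rw [map_one]; exact h1

theorem backward (Z : LocallyRingedSpace.{u})
    (h : ∀ e : Z.presheaf.obj (op ⊤), IsIdempotentElem e → e = 0 ∨ e = 1) :
    PreconnectedSpace Z := by
  rw [preconnectedSpace_iff_clopen]
  intro s hs
  let U : Opens Z.toTopCat := ⟨s, hs.isOpen⟩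
  let V : Opens Z.toTopCat := ⟨sᶜ, hs.compl.isOpen⟩
  have hUV : U ⊓ V = ⊥ := by
    ext x
    simp [U, V]
  have hcov : (⊤ : Opens Z.toTopCat) ≤ U ⊔ V := by
    intro x _
    by_cases hx : x ∈ s
    · exact Or.inl hx
    · exact Or.inr hx
  let F := Z.𝒪
  have hsub : Subsingleton (F.1.obj (op (U ⊓ V))) :=
    CommRingCat.subsingleton_of_isTerminal (F.isTerminalOfEqEmpty hUV)
  let e' := (F.objSupIsoProdEqLocus U V).inv ⟨(1, 0), Subsingleton.elim _ _⟩
  let e : Z.presheaf.obj (op ⊤) := F.1.map (homOfLE hcov).op e'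
  have heU : Z.presheaf.map (homOfLE le_top : U ⟶ ⊤).op e = 1 := by
    change F.1.map (homOfLE le_top : U ⟶ ⊤).op e = 1
    have := TopCat.Sheaf.objSupIsoProdEqLocus_inv_fst F U V ⟨(1, 0), Subsingleton.elim _ _⟩
    simp only [e]
    rw [← CommRingCat.comp_apply, ← F.1.map_comp]
    exact this
  have heV : Z.presheaf.map (homOfLE le_top : V ⟶ ⊤).op e = 0 := by
    change F.1.map (homOfLE le_top : V ⟶ ⊤).op e = 0
    have := TopCat.Sheaf.objSupIsoProdEqLocus_inv_snd F U V ⟨(1, 0), Subsingleton.elim _ _⟩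
    simp only [e]
    rw [← CommRingCat.comp_apply, ← F.1.map_comp]
    exact this
  have hidem : IsIdempotentElem e := by
    apply F.eq_of_locally_eq₂ (homOfLE le_top : U ⟶ ⊤) (homOfLE le_top : V ⟶ ⊤) hcov
    · change Z.presheaf.map (homOfLE le_top : U ⟶ ⊤).op (e * e) =
        Z.presheaf.map (homOfLE le_top : U ⟶ ⊤).op e
      rw [map_mul, heU, mul_one]
    · change Z.presheaf.map (homOfLE le_top : V ⟶ ⊤).op (e * e) =
        Z.presheaf.map (homOfLE le_top : V ⟶ ⊤).op e
      rw [map_mul, heV, mul_zero]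
  rcases h e hidem with h0 | h1
  · left
    rw [h0, map_zero] at heU
    by_contra hne
    obtain ⟨x, hx⟩ := Set.nonempty_iff_ne_empty.mpr hne
    have := congrArg (Z.presheaf.germ U x hx) heU
    rw [map_zero, map_one] at this
    exact zero_ne_one this
  · right
    rw [h1, map_one] at heV
    by_contra hne
    have : (sᶜ).Nonempty := by
      rw [Set.nonempty_compl]; exact hne
    obtain ⟨x, hx⟩ := this
    have := congrArg (Z.presheaf.germ V x hx) heV
    rw [map_zero, map_one] at this
    exact one_ne_zero this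

open CategoryTheory AlgebraicGeometry Opposite in
/-- A locally ringed space Z is connected, in the sense that it is not the disjoint union of two
nonempty open subsets (the empty space being allowed), if and only if every idempotent of the ring
of global sections Γ(Z, O_Z) is 0 or 1 (equivalently, Γ(Z, O_Z) is not isomorphic to a product of
two nonzero rings). -/
theorem result (Z : LocallyRingedSpace.{u}) :
    PreconnectedSpace Z ↔
      ∀ e : Z.presheaf.obj (op ⊤), IsIdempotentElem e → e = 0 ∨ e = 1 := by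
  exact ⟨fun h e he => forward Z h e he, fun h => backward Z h⟩

end Groth.Agent.S4495
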