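import Groth.Statements.S4496
import Mathlib
import Groth.Agent.S2407

set_option autoImplicit false
universe u
open FlatCx

namespace Groth.Agent.S4496

open CategoryTheory CategoryTheory.Limits MonoidalCategory in
/-- For the homological functor T_p(M) = H_p(P ⊗_A M) of a chain complex P of flat modules over a
commutative ring A: T_p takes injections to injections and surjections to surjections if and only if
T_p is isomorphic to the functor M ↦ N ⊗_A M for some flat A-module N (which is then isomorphic to
T_p(A)). -/
theorem result {A : Type u} [CommRing A]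
    (P : ChainComplex (ModuleCat.{u} A) ℤ) (hP : ∀ i, Module.Flat A (P.X i)) (p : ℤ) :
    ((CohIII.TFun P p).PreservesMonomorphisms ∧ (CohIII.TFun P p).PreservesEpimorphisms) ↔
      ∃ N : ModuleCat.{u} A, Module.Flat A N ∧ Nonempty (CohIII.TFun P p ≅ tensorLeft N) := by
  constructor
  · rintro ⟨hm, he⟩
    obtain ⟨N, ⟨e⟩⟩ := (Groth.Agent.S2407.result P hP p).mp he
    have hN : (tensorLeft N).PreservesMonomorphisms :=
      CategoryTheory.Functor.PreservesMonomorphisms.of_iso e
    refine ⟨N, ?_, ⟨e⟩⟩
    rw [Module.Flat.iff_lTensor_preserves_injective_linearMap]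
    intro X Y _ _ _ _ f hf
    have hmono : Mono (ModuleCat.ofHom f) := (ModuleCat.mono_iff_injective _).mpr hf
    have := hN.preserves (ModuleCat.ofHom f)
    exact (ModuleCat.mono_iff_injective _).mp this
  · rintro ⟨N, hN, ⟨e⟩⟩
    refine ⟨?_, (Groth.Agent.S2407.result P hP p).mpr ⟨N, ⟨e⟩⟩⟩
    have : (tensorLeft N).PreservesMonomorphisms := ⟨fun {X Y} g hg => by
      rw [ModuleCat.mono_iff_injective] at hg ⊢
      exact Module.Flat.lTensor_preserves_injective_linearMap _ hg⟩
    exact CategoryTheory.Functor.PreservesMonomorphisms.of_iso e.symm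

end Groth.Agent.S4496
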