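import Groth.Statements.S4498
import Groth.Agent.S2436

set_option autoImplicit false
universe u
attribute [local instance] HasDerivedCategory.standard
open Coherent

namespace Groth.Agent.S4498

open AlgebraicGeometry CategoryTheory CategoryTheory.Limits Opposite in
/-- the kernel of a natural transformation between corepresentable linear functors -/
lemma coyoneda_kernel {A : Type u} [CommRing A] (Q₁ Q₂ : ModuleCat.{u} A) [Module.Finite A Q₁]
    (η' : (linearCoyoneda A (ModuleCat.{u} A)).obj (op Q₁) ⟶
      (linearCoyoneda A (ModuleCat.{u} A)).obj (op Q₂)) :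
    ∃ (R : ModuleCat.{u} A) (π : Q₁ ⟶ R), Module.Finite A R ∧ Epi π ∧
      ∀ (M : ModuleCat.{u} A) (h : Q₁ ⟶ M), (η'.app M).hom h = 0 ↔ ∃ y : R ⟶ M, π ≫ y = h := by
  let φ : Q₂ ⟶ Q₁ := (η'.app Q₁).hom (𝟙 Q₁)
  have key : ∀ (M : ModuleCat.{u} A) (h : Q₁ ⟶ M), (η'.app M).hom h = φ ≫ h := by
    intro M h
    have hn := ConcreteCategory.congr_hom (η'.naturality h) (𝟙 Q₁)
    have h1 : (((linearCoyoneda A (ModuleCat.{u} A)).obj (op Q₁)).map h).hom (𝟙 Q₁) = h :=
      Category.id_comp h
    change (η'.app M).hom ((((linearCoyoneda A (ModuleCat.{u} A)).obj (op Q₁)).map h).hom (𝟙 Q₁)) =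
      φ ≫ h at hn
    rw [h1] at hn
    exact hn
  refine ⟨cokernel φ, cokernel.π φ, ?_, inferInstance, fun M h => ?_⟩
  · exact Module.Finite.of_surjective (cokernel.π φ).hom
      ((ModuleCat.epi_iff_surjective _).1 inferInstance)
  · rw [key]
    constructor
    · intro h0
      exact ⟨cokernel.desc φ h h0, cokernel.π_desc φ h h0⟩
    · rintro ⟨y, rfl⟩
      exact (cokernel.condition_assoc φ y).trans zero_comp


open AlgebraicGeometry CategoryTheory Opposite in
open AlgebraicGeometry CategoryTheory Opposite in
/-- The global form over an affine base. Let A be a Noetherian ring, X a proper A-scheme with structure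
morphism f, and F, F' coherent O_X-modules flat over Spec A. Let η be a natural transformation from
the functor M ↦ Γ(X, f^*(M~) ⊗ F) to the functor M ↦ Γ(X, f^*(M~) ⊗ F') of the A-module M (the
published statement takes η induced by a homomorphism F → F'; this row allows any natural
transformation, which is all the argument uses). Then the kernel functor M ↦ Ker(η_M) is
corepresentable by a finitely generated A-module R: there are such an R and a natural transformation
ι : Hom_A(R, −) → Γ(X, f^*(−~) ⊗ F) with injective components whose image at every M is exactly the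
kernel of η_M. (R is then unique up to unique isomorphism.) -/
theorem result (A : Type u) [CommRing A]
    [IsNoetherianRing A] (X : Scheme.{u}) [X.Over (Spec (CommRingCat.of A))]
    [IsProper (X ↘ Spec (CommRingCat.of A))] (F F' : X.Modules) (hF : Coh.IsCoh F) (hF' : Coh.IsCoh F')
    (hfl : FlatMod.IsFlatOver (X ↘ Spec (CommRingCat.of A)) F)
    (hfl' : FlatMod.IsFlatOver (X ↘ Spec (CommRingCat.of A)) F')
    (η : CohIII.tensorAFunctor A F ⋙ CohIII.globalSectionsA A ⟶ CohIII.tensorAFunctor A F' ⋙ CohIII.globalSectionsA A) :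
    ∃ (R : ModuleCat.{u} A) (ι : (linearCoyoneda A (ModuleCat.{u} A)).obj (op R) ⟶
        CohIII.tensorAFunctor A F ⋙ CohIII.globalSectionsA A),
      Module.Finite A R ∧ (∀ M : ModuleCat.{u} A, Function.Injective (ι.app M).hom) ∧
        ∀ (M : ModuleCat.{u} A) (x : (CohIII.tensorAFunctor A F ⋙ CohIII.globalSectionsA A).obj M),
          (η.app M).hom x = 0 ↔ ∃ y, (ι.app M).hom y = x := by
  obtain ⟨Q₁, hQ₁, ⟨i⟩⟩ := Groth.Agent.S2436.result A X F hF hfl
  obtain ⟨Q₂, hQ₂, ⟨i'⟩⟩ := Groth.Agent.S2436.result A X F' hF' hfl'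
  obtain ⟨R, π, hR, hπ, hker⟩ := coyoneda_kernel Q₁ Q₂ (i.inv ≫ η ≫ i'.hom)
  refine ⟨R, (linearCoyoneda A (ModuleCat.{u} A)).map π.op ≫ i.inv, hR, fun M => ?_, fun M x => ?_⟩
  · have hb : Function.Bijective (i.inv.app M).hom := ConcreteCategory.bijective_of_isIso _
    intro y y' hyy
    have h1 : π ≫ y = π ≫ y' := hb.1 hyy
    exact (cancel_epi π).1 h1
  · have hb : Function.Bijective (i.inv.app M).hom := ConcreteCategory.bijective_of_isIso _
    have hb' : Function.Bijective (i'.hom.app M).hom := ConcreteCategory.bijective_of_isIso _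
    have hx : (i.inv.app M).hom ((i.hom.app M).hom x) = x := by
      have := ConcreteCategory.congr_hom (i.hom_inv_id_app M) x
      exact this
    have h2 : ((i.inv ≫ η ≫ i'.hom).app M).hom ((i.hom.app M).hom x) =
        (i'.hom.app M).hom ((η.app M).hom x) := by
      change (i'.hom.app M).hom ((η.app M).hom ((i.inv.app M).hom ((i.hom.app M).hom x))) = _
      rw [hx]
    have h3 : (η.app M).hom x = 0 ↔
        ((i.inv ≫ η ≫ i'.hom).app M).hom ((i.hom.app M).hom x) = 0 := by
      rw [h2]
      constructor
      · intro h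
        rw [h, map_zero]
      · intro h
        apply hb'.1
        rw [h, map_zero]
    rw [h3, hker M ((i.hom.app M).hom x)]
    constructor
    · rintro ⟨y, hy⟩
      refine ⟨y, ?_⟩
      change (i.inv.app M).hom (π ≫ y) = x
      rw [hy, hx]
    · rintro ⟨y, hy⟩
      refine ⟨y, ?_⟩
      apply hb.1
      rw [hx]
      exact hy

end Groth.Agent.S4498
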