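import Groth.Statements.S4499
import Mathlib
import Groth.Agent.Lib.Helper2.TorBalance

set_option autoImplicit false
universe u
attribute [local instance] HasDerivedCategory.standard
open FlatCx

namespace Groth.Agent.S4499

section helpers

open CategoryTheory MonoidalCategory Limits TensorProduct
open Groth.Agent.Lib.Helper4 Groth.Agent.Lib.Helper2.TorBalance

variable {A : Type u} [CommRing A] {P₁ P₀ : Type u} [AddCommGroup P₁] [Module A P₁]
  [AddCommGroup P₀] [Module A P₀]

/-- `0 → range d → P₀ → coker d → 0`. -/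
noncomputable def scB (d : P₁ →ₗ[A] P₀) : ShortComplex (ModuleCat.{u} A) :=
  ShortComplex.mk (ModuleCat.ofHom (LinearMap.range d).subtype)
    (ModuleCat.ofHom (LinearMap.range d).mkQ) (by
      ext x
      simp)

lemma scB_shortExact (d : P₁ →ₗ[A] P₀) : (scB d).ShortExact := by
  apply ModuleCat.shortComplex_shortExact
  · exact LinearMap.exact_subtype_mkQ _
  · exact Submodule.injective_subtype _
  · exact Submodule.mkQ_surjective _

/-- `0 → ker d → P₁ → range d → 0`. -/
noncomputable def scA (d : P₁ →ₗ[A] P₀) : ShortComplex (ModuleCat.{u} A) :=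
  ShortComplex.mk (ModuleCat.ofHom (LinearMap.ker d).subtype)
    (ModuleCat.ofHom d.rangeRestrict) (by
      ext x
      exact x.2)

lemma scA_shortExact (d : P₁ →ₗ[A] P₀) : (scA d).ShortExact := by
  apply ModuleCat.shortComplex_shortExact
  · intro x
    constructor
    · intro hx
      have : d x = 0 := congrArg Subtype.val hx
      exact ⟨⟨x, this⟩, rfl⟩
    · rintro ⟨y, rfl⟩
      apply Subtype.ext
      exact y.2
  · exact Submodule.injective_subtype _
  · exact d.surjective_rangeRestrict

lemma quotEquivKer {R M' M M'' Z : Type*} [CommRing R] [AddCommGroup M'] [Module R M']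
    [AddCommGroup M] [Module R M] [AddCommGroup M''] [Module R M''] [AddCommGroup Z] [Module R Z]
    (α : M' →ₗ[R] M) (π : M →ₗ[R] M'') (j : M'' →ₗ[R] Z) (hex : Function.Exact α π)
    (hπ : Function.Surjective π) :
    Nonempty ((↥(LinearMap.ker (j ∘ₗ π)) ⧸
      Submodule.comap (LinearMap.ker (j ∘ₗ π)).subtype (LinearMap.range α)) ≃ₗ[R]
        ↥(LinearMap.ker j)) := by
  let φ : ↥(LinearMap.ker (j ∘ₗ π)) →ₗ[R] ↥(LinearMap.ker j) :=
    LinearMap.codRestrict _ (π ∘ₗ (LinearMap.ker (j ∘ₗ π)).subtype) (by
      intro x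
      exact x.2)
  have hφs : Function.Surjective φ := by
    rintro ⟨z, hz⟩
    obtain ⟨w, rfl⟩ := hπ z
    exact ⟨⟨w, hz⟩, rfl⟩
  have hker : LinearMap.ker φ =
      Submodule.comap (LinearMap.ker (j ∘ₗ π)).subtype (LinearMap.range α) := by
    ext x
    rw [LinearMap.mem_ker, Submodule.mem_comap, LinearMap.mem_range]
    rw [← Set.mem_range, ← hex _]
    constructor
    · intro h
      exact congrArg Subtype.val h
    · intro h
      exact Subtype.ext h
  rw [← hker]
  exact ⟨φ.quotKerEquivOfSurjective hφs⟩

end helpers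

/-- Let A be a Noetherian local ring with residue field k, and d : P₁ → P₀ an A-linear map between flat
A-modules, viewed as a two-term chain complex, so that H₁ = Ker d, H₀ = Coker d and H₁ of the
complex tensored with k is Ker(d ⊗ 1_k). Let α : (Ker d) ⊗_A k → P₁ ⊗_A k be the map induced by the
inclusion Ker d → P₁; its image lies in Ker(d ⊗ 1_k). Then there is an exact sequence 0 →
Tor₂^A(Coker d, k) → (Ker d) ⊗_A k → Ker(d ⊗ 1_k) → Tor₁^A(Coker d, k) → 0 with middle map α, stated
here as: Ker α is isomorphic to Tor₂^A(Coker d, k), and the quotient of Ker(d ⊗ 1_k) by the image of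
α is isomorphic to Tor₁^A(Coker d, k) (existence of A-linear isomorphisms only; Tor is Mathlib's,
left derived in the second variable). (In the published statement the cokernel is printed without
its prime, as the module of 0-cycles; the proof is about the cokernel of d.) -/
theorem result {A : Type u} [CommRing A] [IsNoetherianRing A]
    [IsLocalRing A] {P₁ P₀ : Type u} [AddCommGroup P₁] [Module A P₁] [AddCommGroup P₀] [Module A P₀]
    [Module.Flat A P₁] [Module.Flat A P₀] (d : P₁ →ₗ[A] P₀) :
    Nonempty (LinearMap.ker ((LinearMap.ker d).subtype.rTensor (IsLocalRing.ResidueField A)) ≃ₗ[A]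
        DRing.Tor A 2 (P₀ ⧸ LinearMap.range d) (IsLocalRing.ResidueField A)) ∧
      LinearMap.range ((LinearMap.ker d).subtype.rTensor (IsLocalRing.ResidueField A)) ≤
        LinearMap.ker (d.rTensor (IsLocalRing.ResidueField A)) ∧
      Nonempty ((↥(LinearMap.ker (d.rTensor (IsLocalRing.ResidueField A))) ⧸
          Submodule.comap (LinearMap.ker (d.rTensor (IsLocalRing.ResidueField A))).subtype
            (LinearMap.range ((LinearMap.ker d).subtype.rTensor (IsLocalRing.ResidueField A)))) ≃ₗ[A]
        DRing.Tor A 1 (P₀ ⧸ LinearMap.range d) (IsLocalRing.ResidueField A)) := by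
  have hB := scB_shortExact d
  have hA := scA_shortExact d
  have zP0 : ∀ i, 0 < i → CategoryTheory.Limits.IsZero
      (((CategoryTheory.Tor (ModuleCat.{u} A) i).obj (ModuleCat.of A P₀)).obj
        (ModuleCat.of A (IsLocalRing.ResidueField A))) := fun i hi =>
    Groth.Agent.Lib.Helper4.isZero_tor_of_flat (ModuleCat.of A P₀) _ i hi
  have zP1 : CategoryTheory.Limits.IsZero
      (((CategoryTheory.Tor (ModuleCat.{u} A) 1).obj (ModuleCat.of A P₁)).obj
        (ModuleCat.of A (IsLocalRing.ResidueField A))) :=
    Groth.Agent.Lib.Helper4.isZero_tor_of_flat (ModuleCat.of A P₁) _ 1 one_pos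
  obtain ⟨e1⟩ := Groth.Agent.Lib.Helper2.TorBalance.tor_succ_iso (scB d)
    (ModuleCat.of A (IsLocalRing.ResidueField A)) hB 1 (zP0 2 two_pos) (zP0 1 one_pos)
  obtain ⟨e2⟩ := Groth.Agent.Lib.Helper2.TorBalance.tor_one_iso_kernel (scA d)
    (ModuleCat.of A (IsLocalRing.ResidueField A)) hA zP1
  obtain ⟨e3⟩ := Groth.Agent.Lib.Helper2.TorBalance.tor_one_iso_kernel (scB d)
    (ModuleCat.of A (IsLocalRing.ResidueField A)) hB (zP0 1 one_pos)
  refine ⟨⟨?_⟩, ?_, ?_⟩
  · exact ((e1 ≪≫ e2 ≪≫ ModuleCat.kernelIsoKer _).toLinearEquiv).symm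
  · rintro _ ⟨x, rfl⟩
    rw [LinearMap.mem_ker, ← LinearMap.comp_apply, ← LinearMap.rTensor_comp]
    have : d ∘ₗ (LinearMap.ker d).subtype = 0 := by
      ext x
      exact x.2
    rw [this, LinearMap.rTensor_zero, LinearMap.zero_apply]
  · have hcomp : d.rTensor (IsLocalRing.ResidueField A) =
        (LinearMap.range d).subtype.rTensor (IsLocalRing.ResidueField A) ∘ₗ
          d.rangeRestrict.rTensor (IsLocalRing.ResidueField A) := by
      rw [← LinearMap.rTensor_comp]
      rfl
    have hex0 : Function.Exact (LinearMap.ker d).subtype d.rangeRestrict := by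
      intro x
      constructor
      · intro hx
        have : d x = 0 := congrArg Subtype.val hx
        exact ⟨⟨x, this⟩, rfl⟩
      · rintro ⟨y, rfl⟩
        apply Subtype.ext
        exact y.2
    have hex : Function.Exact ((LinearMap.ker d).subtype.rTensor (IsLocalRing.ResidueField A))
        (d.rangeRestrict.rTensor (IsLocalRing.ResidueField A)) :=
      rTensor_exact _ hex0 d.surjective_rangeRestrict
    have hπs : Function.Surjective (d.rangeRestrict.rTensor (IsLocalRing.ResidueField A)) :=
      LinearMap.rTensor_surjective _ d.surjective_rangeRestrict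
    have e3' : DRing.Tor A 1 (P₀ ⧸ LinearMap.range d) (IsLocalRing.ResidueField A) ≃ₗ[A]
        ↥(LinearMap.ker ((LinearMap.range d).subtype.rTensor (IsLocalRing.ResidueField A))) :=
      (e3 ≪≫ ModuleCat.kernelIsoKer _).toLinearEquiv
    obtain ⟨e4⟩ := quotEquivKer _ _
      ((LinearMap.range d).subtype.rTensor (IsLocalRing.ResidueField A)) hex hπs
    rw [hcomp]
    exact ⟨e4.trans e3'.symm⟩

end Groth.Agent.S4499
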