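import Groth.Statements.S4501
import Mathlib
import Groth.Agent.Lib.Helper28.FlatCxBc

set_option autoImplicit false
universe u
open FlatCx

namespace Groth.Agent.S4501

open CategoryTheory CategoryTheory.Limits in
/-- The case of finitely generated flat terms. Let A be a Noetherian domain, P a chain complex of
finitely generated flat A-modules, and for a prime y of A let P_y be the base change of P to the
local ring A_y. Then the set U of points y of Spec A such that the functor N ↦ H_p(P_y ⊗_{A_y} N) on
A_y-modules takes injections to injections and surjections to surjections is open and nonempty (it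
contains the generic point). -/
theorem result {A : Type u} [CommRing A] [IsNoetherianRing A] [IsDomain A]
    (P : ChainComplex (ModuleCat.{u} A) ℤ) (hP : ∀ i, Module.Finite A (P.X i) ∧ Module.Flat A (P.X i))
    (p : ℤ) :
    IsOpen {y : PrimeSpectrum A |
        (CohIII.TFun (CohIII.bcCx (algebraMap A (Localization.AtPrime y.asIdeal)) P) p).PreservesMonomorphisms ∧
          (CohIII.TFun (CohIII.bcCx (algebraMap A (Localization.AtPrime y.asIdeal)) P) p).PreservesEpimorphisms} ∧
      {y : PrimeSpectrum A |
        (CohIII.TFun (CohIII.bcCx (algebraMap A (Localization.AtPrime y.asIdeal)) P) p).PreservesMonomorphisms ∧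
          (CohIII.TFun (CohIII.bcCx (algebraMap A (Localization.AtPrime y.asIdeal)) P) p).PreservesEpimorphisms}.Nonempty := by
  have hrel1 : (ComplexShape.down ℤ).Rel p (p - 1) := by
    change p - 1 + 1 = p
    ring
  have hrel2 : (ComplexShape.down ℤ).Rel (p + 1) p := rfl
  have hPB : ∀ (y : PrimeSpectrum A) (i : ℤ), Module.Flat (Localization.AtPrime y.asIdeal)
      ((CohIII.bcCx (algebraMap A (Localization.AtPrime y.asIdeal)) P).X i) := fun y i =>
    have := (hP i).2
    Groth.Agent.Lib.Helper28.FlatCx.flat_bcCx_X P i
  have hset : {y : PrimeSpectrum A |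
      (CohIII.TFun (CohIII.bcCx (algebraMap A (Localization.AtPrime y.asIdeal)) P) p).PreservesMonomorphisms ∧
        (CohIII.TFun (CohIII.bcCx (algebraMap A (Localization.AtPrime y.asIdeal)) P) p).PreservesEpimorphisms} =
      {y : PrimeSpectrum A |
        (CohIII.TFun (CohIII.bcCx (algebraMap A (Localization.AtPrime y.asIdeal)) P) (p + 1)).PreservesEpimorphisms} ∩
      {y : PrimeSpectrum A |
        (CohIII.TFun (CohIII.bcCx (algebraMap A (Localization.AtPrime y.asIdeal)) P) p).PreservesEpimorphisms} := by
    ext y
    simp only [Set.mem_ofPred_eq, Set.mem_inter_iff]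
    rw [Groth.Agent.Lib.Helper28.FlatCx.preservesEpi_iff_preservesMono_of_rel _ (hPB y) (p + 1) p hrel2]
  rw [hset]
  refine ⟨(Groth.Agent.Lib.Helper28.FlatCx.isOpen_preservesEpi_locus P hP (p + 1) p hrel2).inter
    (Groth.Agent.Lib.Helper28.FlatCx.isOpen_preservesEpi_locus P hP p (p - 1) hrel1), ?_⟩
  have hfree : ∀ q : ℤ, (⟨⊥, Ideal.isPrime_bot⟩ : PrimeSpectrum A) ∈
      Module.freeLocus A (P.opcycles q) := by
    intro q
    rw [Module.mem_freeLocus]
    have : IsFractionRing A (Localization.AtPrime (⊥ : Ideal A)) := by
      simpa [Ideal.primeCompl_bot] using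
        Localization.isLocalization (M := (⊥ : Ideal A).primeCompl)
    let _ : Field (Localization.AtPrime (⊥ : Ideal A)) := IsFractionRing.toField A
    exact Module.Free.of_divisionRing _ _
  refine ⟨⟨⊥, Ideal.isPrime_bot⟩, ?_, ?_⟩
  · exact (Groth.Agent.Lib.Helper28.FlatCx.preservesEpi_bcCx_localization_iff P hP (p + 1) p
      hrel2 _).mpr (hfree p)
  · exact (Groth.Agent.Lib.Helper28.FlatCx.preservesEpi_bcCx_localization_iff P hP p (p - 1)
      hrel1 _).mpr (hfree (p - 1))

end Groth.Agent.S4501
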