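import Groth.Statements.S4505
import Groth.Agent.Lib.Helper22.EGA7.Bridge3
import Groth.Agent.Lib.Helper22.EGA7.Transport
import Groth.Agent.Lib.Helper22.EGA7.LinEquiv
import Groth.Agent.Lib.Helper22.EGA7.LenAlg

set_option autoImplicit false
universe u
attribute [local instance] HasDerivedCategory.standard
open Coherent

namespace Groth.Agent.S4505


open AlgebraicGeometry CategoryTheory in
open AlgebraicGeometry CategoryTheory in
/-- (b) ⇔ (c), for a complex reduced to one sheaf and a local base (so that the point y is the closed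
point and O_y = A). Let A be a Noetherian local ring with maximal ideal m and residue field k, X a
proper A-scheme with structure morphism f, F a coherent O_X-module flat over Spec A, and write
T^p(M) = H^p(X, f^*(M~) ⊗ F) for an A-module M. Then the functor T^p takes injections to injections
and surjections to surjections (F is cohomologically flat in degree p) if and only if there is n₀
such that for every n ≥ n₀ one has length_A T^p(A/m^(n+1)) = length_A T^p(k) · length_A (A/m^(n+1))
(lengths of A-modules, valued in ℕ∞; all are finite here). -/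
theorem result (A : Type u) [CommRing A]
    [IsNoetherianRing A] [IsLocalRing A] (X : Scheme.{u}) [X.Over (Spec (CommRingCat.of A))]
    [IsProper (X ↘ Spec (CommRingCat.of A))] (F : X.Modules) (hF : Coh.IsCoh F)
    (hfl : FlatMod.IsFlatOver (X ↘ Spec (CommRingCat.of A)) F) (p : ℕ) :
    ((CohIII.tensorAFunctor A F ⋙ CohIII.HAb X p).PreservesMonomorphisms ∧
        (CohIII.tensorAFunctor A F ⋙ CohIII.HAb X p).PreservesEpimorphisms) ↔
      ∃ n₀ : ℕ, ∀ n : ℕ, n₀ ≤ n →
        Module.length A (Coh.HH X ((CohIII.tensorAFunctor A F).obj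
            (ModuleCat.of A (A ⧸ IsLocalRing.maximalIdeal A ^ (n + 1)))) p) =
          Module.length A (Coh.HH X ((CohIII.tensorAFunctor A F).obj
              (ModuleCat.of A (IsLocalRing.ResidueField A))) p) *
            Module.length A (A ⧸ IsLocalRing.maximalIdeal A ^ (n + 1)) := by
  have : F.IsQuasicoherent := hF.1
  obtain ⟨Q, d, hQ, _, hiso⟩ := Groth.Agent.Lib.Helper22.EGA7.bridge A X F hF hfl
  obtain ⟨e⟩ := hiso p
  have hL : ∀ M : ModuleCat.{u} A,
      Module.length A (Coh.HH X ((CohIII.tensorAFunctor A F).obj M) p) =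
        Module.length A (CohIII.T Q (-(p : ℤ)) M) := fun M =>
    (Groth.Agent.Lib.Helper22.EGA7.linEquivOfIso A X F Q (-(p : ℤ)) p e M).length_eq.symm
  rw [Groth.Agent.Lib.Helper22.EGA7.preservesMono_iff _ _ e,
    Groth.Agent.Lib.Helper22.EGA7.preservesEpi_iff _ _ e,
    Groth.Agent.Lib.Helper22.EGA7.exact_iff_eventually_length Q hQ (-(p : ℤ))]
  constructor
  · rintro ⟨n₀, h⟩
    refine ⟨n₀, fun n hn => ?_⟩
    rw [hL, hL]
    exact h n hn
  · rintro ⟨n₀, h⟩
    refine ⟨n₀, fun n hn => ?_⟩
    have := h n hn
    rw [hL, hL] at this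
    exact this

end Groth.Agent.S4505
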