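import Groth.Statements.S4508
import Groth.Agent.Lib.Helper22.EGA7.FibreBC
import Groth.Agent.Lib.Helper22.EGA7.PushUnit
import Groth.Agent.S1391

set_option autoImplicit false
universe u
open Coherent

namespace Groth.Agent.S4508


open AlgebraicGeometry CategoryTheory CategoryTheory.Limits in
/-- For a single sheaf placed in degree 0 (the published statement is for a finite complex of such
sheaves). Let Y and Y' be locally Noetherian schemes, f : X ⟶ Y proper, g : Y' ⟶ Y any morphism, F a
coherent O_X-module flat over Y; let X' = X ×_Y Y' with projections f' : X' ⟶ Y' and X' ⟶ X, and F'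
the pullback of F to X'. Then F' is flat over Y', and for every point y' of Y' the Euler–Poincaré
characteristic of the fibre, Σ_i (−1)^i dim_{k(y')} H^i(X'_{y'}, F'_{y'}), equals Σ_i (−1)^i
dim_{k(g(y'))} H^i(X_{g(y')}, F_{g(y')}). -/
theorem result {X Y Y' : Scheme.{u}} (f : X ⟶ Y) (g : Y' ⟶ Y) [IsProper f]
    [IsLocallyNoetherian Y] [IsLocallyNoetherian Y'] (F : X.Modules) (hF : Coh.IsCoh F)
    (hfl : FlatMod.IsFlatOver f F) :
    FlatMod.IsFlatOver (pullback.snd f g) ((Scheme.Modules.pullback (pullback.fst f g)).obj F) ∧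
      ∀ y' : Y', PerfAux.eulerChar (pullback.snd f g) ((Scheme.Modules.pullback (pullback.fst f g)).obj F) y' =
        PerfAux.eulerChar f F (g.base y') := by
  open Groth.Agent.Lib.Helper22.EGA7 Groth.Agent.Lib.Helper29.QCoh in
  constructor
  · intro x'
    exact Groth.Agent.S1391.result f (pullback.snd f g) (pullback.fst f g) g
      (IsPullback.of_hasPullback f g) F hF.1 x' (hfl _)
  · intro y'
    have hb : ∀ i : ℕ, PerfAux.betti (pullback.snd f g)
        ((Scheme.Modules.pullback (pullback.fst f g)).obj F) y' i =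
        PerfAux.betti f F (g.base y') i := by
      intro i
      obtain ⟨V, hV, hyV, -⟩ :=
        exists_isAffineOpen_mem_and_subset (x := g.base y') (U := (⊤ : Y.Opens)) trivial
      letI ovX : (f ⁻¹ᵁ V).toScheme.Over (Spec (CommRingCat.of ↑Γ(Y, V))) := ⟨sV f hV⟩
      haveI : IsNoetherianRing ↑Γ(Y, V) := IsLocallyNoetherian.component_noetherian ⟨V, hV⟩
      haveI hprop : IsProper ((f ⁻¹ᵁ V).toScheme ↘ Spec (CommRingCat.of ↑Γ(Y, V))) :=
        (inferInstance : IsProper (sV f hV))
      let N₁ : (f ⁻¹ᵁ V).toScheme.Modules := F.restrict (f ⁻¹ᵁ V).ι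
      have hN₁coh : Coh.IsCoh N₁ := Groth.Agent.Lib.Helper12.H12Fin.isCoh_restrict _ _ hF
      haveI : N₁.IsQuasicoherent := hN₁coh.1
      obtain ⟨Q, d, hQ, hd, hpos, hp⟩ := bridge2 ↑Γ(Y, V) (f ⁻¹ᵁ V).toScheme N₁ hN₁coh
        (isFlatOver_sV f hV _ hF hfl)
      obtain ⟨e⟩ := hp i
      -- the fibre of `f`
      have h1 : PerfAux.betti f F (g.base y') i = CohIII.dRank Q (-(i : ℤ)) (ptV hV (g.base y') hyV) :=
        fiberRank_glob f hV F hF Q (-(i : ℤ)) i e (g.base y') hyV
      -- the fibre of the base change
      let snd' := pullback.snd f g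
      have H0 : IsPullback (snd'.fiberι y' ≫ pullback.fst f g) (snd'.fiberToSpecResidueField y') f
          (Y'.fromSpecResidueField y' ≫ g) :=
        (IsPullback.of_hasPullback snd' (Y'.fromSpecResidueField y')).paste_horiz
          (IsPullback.of_hasPullback f g)
      have h2 := finrank_fieldPoint f hV F hF Q (-(i : ℤ)) i e (Y'.residueField y')
        (Y'.fromSpecResidueField y' ≫ g) (g.base y') hyV
        (fun z => by
          rw [Scheme.Hom.comp_apply, Scheme.fromSpecResidueField_apply])
        (snd'.fiberι y' ≫ pullback.fst f g) (snd'.fiberToSpecResidueField y') H0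
      rw [h1, ← h2]
      -- compare the two pullbacks
      let ψ : (Scheme.Modules.pullback (snd'.fiberι y')).obj
          ((Scheme.Modules.pullback (pullback.fst f g)).obj F) ≅
          (Scheme.Modules.pullback (snd'.fiberι y' ≫ pullback.fst f g)).obj F :=
        (Scheme.Modules.pullbackComp (snd'.fiberι y') (pullback.fst f g)).app F
      letI ovP : (snd'.fiber y').Over (Spec (CommRingCat.of ↑(Y'.residueField y'))) :=
        ⟨snd'.fiberToSpecResidueField y'⟩
      let w : Coh.HH (snd'.fiber y') ((Scheme.Modules.pullback (snd'.fiberι y')).obj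
          ((Scheme.Modules.pullback (pullback.fst f g)).obj F)) i ≃+
          Coh.HH (snd'.fiber y')
            ((Scheme.Modules.pullback (snd'.fiberι y' ≫ pullback.fst f g)).obj F) i :=
        ((CohIII.HAb (snd'.fiber y') i).mapIso ψ).addCommGroupIsoToAddEquiv
      have hw : ∀ (b : Y'.residueField y') (x), w (b • x) = b • w x := by
        intro b x
        exact HH_map_smul ψ.hom i (Coh.toGlobal (snd'.fiberToSpecResidueField y') b) x
      let L : PerfAux.fiberH snd' ((Scheme.Modules.pullback (pullback.fst f g)).obj F) y' i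
          ≃ₗ[Y'.residueField y'] Coh.HH (snd'.fiber y')
            ((Scheme.Modules.pullback (snd'.fiberι y' ≫ pullback.fst f g)).obj F) i :=
        { w with map_smul' := hw }
      exact L.finrank_eq
    unfold PerfAux.eulerChar
    congr 1
    funext i
    rw [hb i]

end Groth.Agent.S4508
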