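import Groth.Statements.S4616
import Mathlib
import Groth.Agent.Lib.Helper23.PBasisField
import Groth.Agent.Lib.Helper23.PBasisDer
import Groth.Agent.Lib.Helper23.AdicJacobian
import Groth.Agent.Lib.Helper23.FieldSmooth
import Groth.Agent.S4570
import Groth.Agent.S4571
-- import your own Groth.Agent.* helpers here

set_option autoImplicit false
universe u
open TensorProduct KaehlerDifferential IsLocalRing
open EGA41

namespace Groth.Agent.S4616

open EGA41 TensorProduct KaehlerDifferential
open EGA41 TensorProduct KaehlerDifferential IsLocalRing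


section Descent

variable {k : Type*} [Field k]

theorem linearIndependent_of_le {E E' : Subfield k} (hle : E ≤ E') {I : Type*} {V : Type*}
    [AddCommGroup V] [Module k V] (w : I → V)
    (h : LinearIndependent ↥E' w) : LinearIndependent ↥E w := by
  rw [linearIndependent_iff'] at h ⊢
  intro s g hg i hi
  have := h s (fun i => ⟨(g i : k), hle (g i).2⟩) (by
    rw [← hg]
    exact Finset.sum_congr rfl fun j _ => rfl) i hi
  have h5 : (g i : k) = 0 := congrArg Subtype.val this
  exact Subtype.ext h5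

theorem exists_linearIndepOn_of_iInf {ι : Type*} [Preorder ι] [IsDirected ι (· ≤ ·)]
    [Nonempty ι] (F : ι → Subfield k) (hF : Antitone F) {J : Type*} (v : J → k) (s : Finset J)
    (h : LinearIndepOn ↥(⨅ α, F α) v (s : Set J)) :
    ∃ α, LinearIndepOn ↥(F α) v (s : Set J) := by
  classical
  induction s using Finset.induction_on with
  | empty => exact ⟨Classical.arbitrary ι, by simp⟩
  | insert j s hj ih =>
    rw [Finset.coe_insert] at h ⊢
    have hjs : j ∉ (s : Set J) := by simpa using hj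
    rw [linearIndepOn_insert hjs] at h
    obtain ⟨α₁, hα₁⟩ := ih h.1
    by_contra hcon
    push Not at hcon
    apply h.2
    -- for every β ≥ α₁, v j is in the span over F β
    have hspan : ∀ β, α₁ ≤ β → v j ∈ Submodule.span ↥(F β) (v '' (s : Set J)) := by
      intro β hβ
      have h1 : LinearIndepOn ↥(F β) v (s : Set J) := linearIndependent_of_le (hF hβ) _ hα₁
      have h2 := hcon β
      rw [linearIndepOn_insert hjs] at h2
      by_contra h3
      exact h2 ⟨h1, h3⟩
    -- coefficients at level α₁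
    obtain ⟨c, hc⟩ := (Submodule.mem_span_image_finset_iff_exists_fun _).mp (hspan α₁ le_rfl)
    -- they lie in every F β
    have hmem : ∀ i : s, ∀ γ, (c i : k) ∈ F γ := by
      intro i γ
      obtain ⟨β, hβ1, hβγ⟩ := exists_ge_ge α₁ γ
      obtain ⟨c', hc'⟩ := (Submodule.mem_span_image_finset_iff_exists_fun _).mp (hspan β hβ1)
      have hle1 : F β ≤ F α₁ := hF hβ1
      have hle2 : F β ≤ F γ := hF hβγ
      have hsum : ∑ i : s, ((⟨(c' i : k), hle1 (c' i).2⟩ : ↥(F α₁)) - c i) • v i = 0 := by
        have e1 : ∑ i : s, ((⟨(c' i : k), hle1 (c' i).2⟩ : ↥(F α₁)) - c i) • v i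
            = ∑ i : s, c' i • v i - ∑ i : s, c i • v i := by
          rw [← Finset.sum_sub_distrib]
          refine Finset.sum_congr rfl fun i _ => ?_
          rw [sub_smul]
          rfl
        rw [e1, hc, hc', sub_self]
      have hli := Fintype.linearIndependent_iff.mp hα₁
        (fun i => (⟨(c' i : k), hle1 (c' i).2⟩ : ↥(F α₁)) - c i) hsum
      have := hli i
      rw [sub_eq_zero] at this
      have h4 : (c' i : k) = (c i : k) := congrArg Subtype.val this
      rw [← h4]
      exact hle2 (c' i).2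
    have hmem' : ∀ i : s, (c i : k) ∈ ⨅ α, F α := by
      intro i
      rw [Subfield.mem_iInf]
      exact hmem i
    rw [Submodule.mem_span_image_finset_iff_exists_fun]
    refine ⟨fun i => ⟨(c i : k), hmem' i⟩, ?_⟩
    rw [← hc]
    rfl

end Descent



open Groth.Agent.Lib.Helper23.PBasisField

section Subfields

variable (p : ℕ) [Fact p.Prime] {k : Type u} [Field k] [CharP k p]

theorem pPowerSubfield_subfield (E : Subfield k) :
    pPowerSubfield p E k = E ⊔ (frobenius k p).fieldRange := by
  apply le_antisymm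
  · have key : ∀ m : k, m ∈ Algebra.adjoin E (Set.range fun b : k => b ^ p) →
        m ∈ E ⊔ (frobenius k p).fieldRange := by
      intro m hm
      induction hm using Algebra.adjoin_induction with
      | mem y hy =>
        obtain ⟨z, rfl⟩ := hy
        exact (le_sup_right : (frobenius k p).fieldRange ≤ E ⊔ (frobenius k p).fieldRange)
          ⟨z, rfl⟩
      | algebraMap r =>
        exact (le_sup_left : E ≤ E ⊔ (frobenius k p).fieldRange) r.2
      | add a b _ _ ha hb => exact add_mem ha hb
      | mul a b _ _ ha hb => exact mul_mem ha hb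
    intro m hm
    exact key m hm
  · apply sup_le
    · intro m hm
      exact (pPowerSubalgebra p E k).algebraMap_mem ⟨m, hm⟩
    · rintro _ ⟨y, rfl⟩
      exact Algebra.subset_adjoin ⟨y, rfl⟩

end Subfields

section Subfields2

variable (p : ℕ) [Fact p.Prime] {k : Type u} [Field k] [CharP k p]

theorem pPowerSubfield_of_perfect (Λ : Type u) [CommRing Λ] [Algebra Λ k]
    (hΛ : ∀ c : Λ, algebraMap Λ k c ∈ (frobenius k p).fieldRange) :
    pPowerSubfield p Λ k = (frobenius k p).fieldRange := by
  apply le_antisymm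
  · have key : ∀ m : k, m ∈ Algebra.adjoin Λ (Set.range fun b : k => b ^ p) →
        m ∈ (frobenius k p).fieldRange := by
      intro m hm
      induction hm using Algebra.adjoin_induction with
      | mem y hy =>
        obtain ⟨z, rfl⟩ := hy
        exact ⟨z, rfl⟩
      | algebraMap r => exact hΛ r
      | add a b _ _ ha hb => exact add_mem ha hb
      | mul a b _ _ ha hb => exact mul_mem ha hb
    intro m hm
    exact key m hm
  · rintro _ ⟨y, rfl⟩
    exact Algebra.subset_adjoin ⟨y, rfl⟩

end Subfields2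



section F1

variable {R k A : Type u} [CommRing R] [CommRing k] [CommRing A] [Algebra R k] [Algebra k A]
  [Algebra R A] [IsScalarTower R k A] (m : Ideal A) [m.IsMaximal]

/-- if `Ω_{k/R} ⊗ K → Ω_{A/R} ⊗ K` is injective (`K = A/m` a field), every `R`-derivation
`k → K` extends to `A`. -/
theorem exists_derivation_extension
    (hinj : Function.Injective ((mapBaseChange R k A).lTensor (A ⧸ m)))
    (D : Derivation R k (A ⧸ m)) :
    ∃ D' : Derivation R A (A ⧸ m), ∀ c : k, D' (algebraMap k A c) = D c := by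
  letI : Field (A ⧸ m) := Ideal.Quotient.field m
  -- the K-linear version of the map
  let T : (A ⧸ m) ⊗[A] (A ⊗[k] Ω[k⁄R]) →ₗ[A ⧸ m] (A ⧸ m) ⊗[A] Ω[A⁄R] :=
    (mapBaseChange R k A).baseChange (A ⧸ m)
  have hT : Function.Injective T := by
    have : (T : _ → _) = (mapBaseChange R k A).lTensor (A ⧸ m) :=
      LinearMap.baseChange_eq_ltensor _
    rw [this]
    exact hinj
  obtain ⟨g, hg⟩ := T.exists_leftInverse_of_injective (LinearMap.ker_eq_bot.mpr hT)
  -- the functional attached to D
  let fD : (A ⧸ m) ⊗[A] (A ⊗[k] Ω[k⁄R]) →ₗ[A ⧸ m] (A ⧸ m) :=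
    LinearMap.liftBaseChange (A ⧸ m) (LinearMap.liftBaseChange A D.liftKaehlerDifferential)
  let F : (A ⧸ m) ⊗[A] Ω[A⁄R] →ₗ[A ⧸ m] (A ⧸ m) := fD ∘ₗ g
  let ℓ : Ω[A⁄R] →ₗ[A] (A ⧸ m) :=
    (F.restrictScalars A) ∘ₗ (TensorProduct.mk A (A ⧸ m) (Ω[A⁄R]) 1)
  refine ⟨ℓ.compDer (KaehlerDifferential.D R A), fun c => ?_⟩
  show F ((1 : A ⧸ m) ⊗ₜ[A] KaehlerDifferential.D R A (algebraMap k A c)) = D c
  have h1 : T ((1 : A ⧸ m) ⊗ₜ[A] ((1 : A) ⊗ₜ[k] KaehlerDifferential.D R k c))
      = (1 : A ⧸ m) ⊗ₜ[A] KaehlerDifferential.D R A (algebraMap k A c) := by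
    simp [T]
  rw [← h1]
  show fD (g (T _)) = D c
  have h2 : g (T ((1 : A ⧸ m) ⊗ₜ[A] ((1 : A) ⊗ₜ[k] KaehlerDifferential.D R k c)))
      = (1 : A ⧸ m) ⊗ₜ[A] ((1 : A) ⊗ₜ[k] KaehlerDifferential.D R k c) :=
    congrArg (fun f : _ →ₗ[A ⧸ m] _ => f _) hg
  rw [h2]
  simp [fD]

end F1



open Groth.Agent.Lib.Helper23.PBasisField Groth.Agent.Lib.Helper23.PBasisDer

theorem redOn_finset_eq (p : ℕ) (hp : 0 < p) {I : Type u} (S : Finset I) :
    ((S.finsupp (fun _ => Finset.range p) : Finset (I →₀ ℕ)) : Set (I →₀ ℕ))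
      = redOn p (S : Set I) := by
  classical
  ext e
  simp only [Finset.mem_coe, Finset.mem_finsupp_iff, Finset.mem_range, redOn, Set.mem_setOf_eq,
    Finset.coe_subset]
  constructor
  · rintro ⟨h1, h2⟩
    refine ⟨fun i => ?_, h1⟩
    by_cases hi : i ∈ S
    · exact h2 i hi
    · have : e i = 0 := by
        by_contra hne
        exact hi (h1 (Finsupp.mem_support_iff.mpr hne))
      rw [this]
      exact hp
  · rintro ⟨h1, h2⟩
    exact ⟨h2, fun i _ => h1 i⟩

section Main

variable {k A : Type u} [Field k] (p : ℕ) [Fact p.Prime] [CharP k p] [CommRing A] [IsLocalRing A]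
  [Algebra k A] {ι : Type u} [Preorder ι] [IsDirected ι (fun a b => a ≤ b)] [Nonempty ι]
  (kα : ι → Subfield k)

theorem gammaΛ_injective (hanti : Antitone kα)
    (hint : ⨅ α, (kα α ⊔ (frobenius k p).fieldRange) = (frobenius k p).fieldRange)
    (Λ : Type u) [Field Λ] [PerfectField Λ] [Algebra Λ k] [Algebra Λ A] [IsScalarTower Λ k A]
    (α₀ : ι) (h : ∀ α, α₀ ≤ α →
      Function.Injective ((mapBaseChange (kα α) k A).lTensor (A ⧸ maximalIdeal A))) :
    Function.Injective ((mapBaseChange Λ k A).lTensor (A ⧸ maximalIdeal A)) := by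
  classical
  letI : Field (A ⧸ maximalIdeal A) := Ideal.Quotient.field _
  have hp : p.Prime := Fact.out
  haveI : CharP Λ p := RingHom.charP (algebraMap Λ k) (algebraMap Λ k).injective p
  haveI : ExpChar Λ p := ExpChar.prime hp
  haveI : PerfectRing Λ p := PerfectField.toPerfectRing p
  have hΛ : ∀ c : Λ, algebraMap Λ k c ∈ (frobenius k p).fieldRange := by
    intro c
    obtain ⟨d, rfl⟩ := surjective_frobenius Λ p c
    exact ⟨algebraMap Λ k d, by simp [frobenius_def]⟩
  -- p-basis of k over Λ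
  obtain ⟨B, hB⟩ := exists_isPBasis' p Λ (K := k)
  obtain ⟨b, hb⟩ := exists_basis_kaehler p (Subtype.val : B → k) hB
  let bV : Module.Basis B (A ⧸ maximalIdeal A) ((A ⧸ maximalIdeal A) ⊗[A] (A ⊗[k] Ω[k⁄Λ])) :=
    (b.baseChange A).baseChange (A ⧸ maximalIdeal A)
  let Tk : (A ⧸ maximalIdeal A) ⊗[A] (A ⊗[k] Ω[k⁄Λ]) →ₗ[A ⧸ maximalIdeal A]
      (A ⧸ maximalIdeal A) ⊗[A] Ω[A⁄Λ] := (mapBaseChange Λ k A).baseChange (A ⧸ maximalIdeal A)
  have hTk : (Tk : _ → _) = (mapBaseChange Λ k A).lTensor (A ⧸ maximalIdeal A) :=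
    LinearMap.baseChange_eq_ltensor _
  rw [← hTk, injective_iff_map_eq_zero]
  intro ω hω
  by_contra hne
  have hrepr : bV.repr ω ≠ 0 := fun h0 => hne ((LinearEquiv.map_eq_zero_iff _).mp h0)
  obtain ⟨i₀, hi₀⟩ := Finsupp.support_nonempty_iff.mpr hrepr
  generalize hS : (bV.repr ω).support = S at hi₀
  -- independence of the reduced monomials over `k^p`
  have h1 : LinearIndepOn ↥(pPowerSubfield p Λ k) (pMonomial (Subtype.val : B → k))
      (redOn p (S : Set B)) :=
    ((isPIndependent_iff_linearIndepOn p Λ _).mp hB.1).mono (redOn_mono p (Set.subset_univ _))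
  let F : ι → Subfield k := fun α => pPowerSubfield p (kα α) k
  have hFanti : Antitone F := by
    intro α β hαβ
    show pPowerSubfield p (kα β) k ≤ pPowerSubfield p (kα α) k
    rw [pPowerSubfield_subfield, pPowerSubfield_subfield]
    exact sup_le_sup_right (hanti hαβ) _
  have hF0 : pPowerSubfield p Λ k = ⨅ α, F α := by
    rw [pPowerSubfield_of_perfect p Λ hΛ, ← hint]
    congr 1
    funext α
    exact (pPowerSubfield_subfield p (kα α)).symm
  rw [hF0, ← redOn_finset_eq p hp.pos] at h1
  obtain ⟨α₂, hα₂⟩ := exists_linearIndepOn_of_iInf F hFanti _ _ h1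
  obtain ⟨α, hα0, hα2⟩ := exists_ge_ge α₀ α₂
  have h2 : LinearIndepOn ↥(F α) (pMonomial (Subtype.val : B → k)) (redOn p (S : Set B)) := by
    rw [← redOn_finset_eq p hp.pos]
    exact linearIndependent_of_le (hFanti hα2) _ hα₂
  have h3 := (linearIndepOn_redOn_iff p (hpow p (kα α) k) (Subtype.val : B → k) (S : Set B)).mp h2
  -- the finite set `T` of basis elements involved is p-independent over `kα α`
  have hT : IsPIndependent p (kα α) (Subtype.val : (Subtype.val '' (S : Set B) : Set k) → k) := by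
    rw [isPIndependent_val_iff]
    rintro _ ⟨a, ha, rfl⟩ hmem
    apply h3 a ha
    refine IntermediateField.adjoin.mono _ _ _ ?_ hmem
    rintro _ ⟨⟨a', ha', rfl⟩, hne'⟩
    exact ⟨a', ⟨ha', fun h => hne' (by rw [h]; rfl)⟩, rfl⟩
  obtain ⟨B₂, hTB₂, -, hB₂⟩ := exists_isPBasis p (kα α) (Set.univ : Set k) _ (Set.subset_univ _)
    ((isPGenerating_val_iff p (kα α) _).mpr (by
      rw [eq_top_iff]; intro m _; exact IntermediateField.subset_adjoin _ _ (Set.mem_univ m)))
    hT
  -- the derivation dual to `i₀`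
  obtain ⟨D, hD⟩ := exists_derivationA_of_pBasis p (Subtype.val : B₂ → k) hB₂
    (L := A ⧸ maximalIdeal A) (fun t => if t.1 = i₀.1 then 1 else 0)
  obtain ⟨D', hD'⟩ := exists_derivation_extension (maximalIdeal A) (h α hα0) D
  -- `D'` kills the image of the perfect field `Λ`
  have hpA : ((p : ℕ) : A) = 0 := by
    have : ((p : ℕ) : A) = algebraMap k A ((p : ℕ) : k) := by rw [map_natCast]
    rw [this, CharP.cast_eq_zero, map_zero]
  have hkill : ∀ c : Λ, D' (algebraMap Λ A c) = 0 := by
    intro c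
    obtain ⟨d, rfl⟩ := surjective_frobenius Λ p c
    rw [frobenius_def, map_pow, Derivation.leibniz_pow]
    have : (p : ℕ) • ((algebraMap Λ A d) ^ (p - 1) • D' (algebraMap Λ A d))
        = ((p : ℕ) : A) • ((algebraMap Λ A d) ^ (p - 1) • D' (algebraMap Λ A d)) := by
      rw [Nat.cast_smul_eq_nsmul]
    rw [this, hpA, zero_smul]
  let DΛ : Derivation Λ A (A ⧸ maximalIdeal A) :=
    Derivation.mk' ({ toFun := D'
                      map_add' := map_add D'
                      map_smul' := fun c a => by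
                        show D' (c • a) = c • D' a
                        rw [Algebra.smul_def, Derivation.leibniz, hkill, smul_zero, add_zero,
                          algebraMap_smul] } : A →ₗ[Λ] (A ⧸ maximalIdeal A))
      (fun a b => D'.leibniz a b)
  have hDΛ : ∀ a, DΛ a = D' a := fun a => rfl
  let Φ : (A ⧸ maximalIdeal A) ⊗[A] Ω[A⁄Λ] →ₗ[A ⧸ maximalIdeal A] (A ⧸ maximalIdeal A) :=
    LinearMap.liftBaseChange (A ⧸ maximalIdeal A) DΛ.liftKaehlerDifferential
  have hΦ : ∀ i : B, Φ (Tk (bV i)) = D i.1 := by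
    intro i
    simp only [bV, Module.Basis.baseChange_apply, hb, Tk, LinearMap.baseChange_tmul,
      mapBaseChange_tmul, one_smul, Φ, LinearMap.liftBaseChange_tmul, KaehlerDifferential.map_D,
      Derivation.liftKaehlerDifferential_comp_D, hDΛ, hD']
  have hsum : ω = ∑ i ∈ S, bV.repr ω i • bV i := by
    rw [← hS]
    conv_lhs => rw [← bV.linearCombination_repr ω, Finsupp.linearCombination_apply]
    rfl
  have h0 : Φ (Tk ω) = 0 := by rw [hω, map_zero]
  rw [hsum, map_sum, map_sum] at h0
  simp only [map_smul, hΦ] at h0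
  have hDi : ∀ i ∈ S, D i.1 = if i = i₀ then 1 else 0 := by
    intro i hi
    have := hD ⟨i.1, hTB₂ ⟨i, hi, rfl⟩⟩
    rw [this]
    by_cases hii : i = i₀
    · simp [hii]
    · have : ¬ i.1 = i₀.1 := fun h => hii (Subtype.ext h)
      simp [this, hii]
  rw [Finset.sum_congr rfl (fun i hi => by rw [hDi i hi])] at h0
  simp only [smul_eq_mul, mul_ite, mul_one, mul_zero, Finset.sum_ite_eq', hi₀, if_true] at h0
  rw [← hS, Finsupp.mem_support_iff] at hi₀
  exact hi₀ h0

end Main



open Groth.Agent.Lib.Helper23.FieldSmooth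


/-- Let k be a field of characteristic p > 0, A a local k-algebra with maximal ideal m and residue field
K, (k_α) a decreasing directed family of subfields of k with ⋂ k_α(k^p) = k^p. Then A is formally
smooth over k for the m-adic topology if and only if the maps Sym^n_K(m/m²) → m^n/m^(n+1) are
bijective (n ≥ 1) and, for all large α, Ω_{k/k_α} ⊗_k K → Ω_{A/k_α} ⊗_A K is injective. -/
theorem result {k A : Type u}
    [Field k] (p : ℕ) [Fact p.Prime] [CharP k p] [CommRing A] [IsLocalRing A] [Algebra k A]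
    {ι : Type u} [Preorder ι] [IsDirected ι (fun a b => a ≤ b)] [Nonempty ι] (kα : ι → Subfield k)
    (hanti : Antitone kα) (hint : ⨅ α, (kα α ⊔ (frobenius k p).fieldRange) = (frobenius k p).fieldRange) :
    CAlgX.IsAdicFormallySmooth k A (maximalIdeal A) ↔
      (PP16.SymGrBijective A (maximalIdeal A) ∧ ∃ α₀ : ι, ∀ α : ι, α₀ ≤ α →
        Function.Injective ((mapBaseChange (kα α) k A).lTensor (ResidueField A))) := by
  constructor
  · intro h
    refine ⟨(Groth.Agent.S4571.result.mp h).1, Classical.arbitrary ι, fun α _ => ?_⟩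
    exact Groth.Agent.Lib.Helper23.AdicJacobian.gamma_injective (Λ := kα α) (A := k) (B := A)
      (maximalIdeal A) h
  · rintro ⟨h2, α₀, hα₀⟩
    obtain ⟨Λ, _, _, -, hΛ2⟩ := Groth.Agent.S4571.exists_primeField k
    letI : Algebra Λ A := ((algebraMap k A).comp (algebraMap Λ k)).toAlgebra
    haveI : IsScalarTower Λ k A := IsScalarTower.of_algebraMap_eq (fun _ => rfl)
    letI : Field (A ⧸ maximalIdeal A) := Ideal.Quotient.field _
    haveI : Algebra.FormallySmooth Λ (A ⧸ maximalIdeal A) := formallySmooth_of_perfectField Λ _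
    have key := Groth.Agent.S4570.result (Λ := Λ) (A := k) (B := A) (maximalIdeal A)
    exact key.1 ⟨Module.Projective.of_free, h2,
      gammaΛ_injective p kα hanti hint Λ α₀ hα₀, Module.Projective.of_free⟩

end Groth.Agent.S4616
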