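import Groth.Statements.S4513
import Mathlib
import Groth.Agent.Lib.Helper23.FieldSep
import Groth.Agent.Lib.Helper23.AdicJacobian
import Groth.Agent.S4616
-- import your own Groth.Agent.* helpers here

set_option autoImplicit false
universe u
open EGA41

namespace Groth.Agent.S4513

open IsLocalRing Groth.Agent.Lib.Helper23.FieldSep


open IsLocalRing in
/-- Let A be a Noetherian local ring and k a field mapping to A such that A is formally smooth over k
for the adic topology of its maximal ideal (k discrete). Then every field K with k → K → A
(compatible ring maps) is a separable extension of k, i.e. K is geometrically reduced over k. -/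
theorem result {k A K : Type u} [Field k] [CommRing A]
    [IsLocalRing A] [IsNoetherianRing A] [Algebra k A] (h : CAlgX.IsAdicFormallySmooth k A (maximalIdeal A))
    [Field K] [Algebra k K] [Algebra K A] [IsScalarTower k K A] :
    Algebra.IsGeometricallyReduced k K := by
  obtain ⟨Λ, _, _, -, hperf⟩ := Groth.Agent.S4571.exists_primeField k
  letI : Algebra Λ K := ((algebraMap k K).comp (algebraMap Λ k)).toAlgebra
  haveI : IsScalarTower Λ k K := IsScalarTower.of_algebraMap_eq (fun _ => rfl)
  letI : Algebra Λ A := ((algebraMap k A).comp (algebraMap Λ k)).toAlgebra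
  haveI : IsScalarTower Λ k A := IsScalarTower.of_algebraMap_eq (fun _ => rfl)
  haveI : IsScalarTower Λ K A := IsScalarTower.of_algebraMap_eq (fun x => by
    show algebraMap k A (algebraMap Λ k x) = algebraMap K A (algebraMap k K (algebraMap Λ k x))
    rw [← IsScalarTower.algebraMap_apply k K A])
  have hinj := Groth.Agent.Lib.Helper23.AdicJacobian.gamma_injective (Λ := Λ) (maximalIdeal A) h
  rw [← formallySmooth_iff_isGeometricallyReduced]
  apply formallySmooth_of_injective_perfect Λ k K
  apply injective_of_exists_extension Λ k K
  intro D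
  letI : Field (A ⧸ maximalIdeal A) := Ideal.Quotient.field _
  let ι : K →ₗ[K] (A ⧸ maximalIdeal A) := Algebra.linearMap K (A ⧸ maximalIdeal A)
  have hι : Function.Injective ι := (algebraMap K (A ⧸ maximalIdeal A)).injective
  obtain ⟨ρ, hρ⟩ := ι.exists_leftInverse_of_injective (LinearMap.ker_eq_bot.mpr hι)
  let Dbar : Derivation Λ k (A ⧸ maximalIdeal A) := (ι.restrictScalars k).compDer D
  obtain ⟨D', hD'⟩ := Groth.Agent.S4616.exists_derivation_extension (maximalIdeal A) hinj Dbar
  refine ⟨ρ.compDer (D'.compAlgebraMap K), fun a => ?_⟩
  show ρ (D' (algebraMap K A (algebraMap k K a))) = D a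
  rw [← IsScalarTower.algebraMap_apply k K A, hD']
  show ρ (ι (D a)) = D a
  exact congrArg (fun f : K →ₗ[K] K => f (D a)) hρ

end Groth.Agent.S4513
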