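import Groth.Statements.S4514
import Mathlib
import Groth.Agent.Lib.Helper23.FlatLift
-- import your own Groth.Agent.* helpers here

set_option autoImplicit false
universe u
open EGA41

namespace Groth.Agent.S4514

open Groth.Agent.Lib.Helper23.FlatLift

open IsLocalRing TensorProduct in
/-- Let A be a Noetherian local ring with residue field k, and let B₀ be a k-algebra which is a complete
regular local ring. Then there exist a complete Noetherian local ring B and a local homomorphism A →
B making B a flat A-module, such that B₀ is k-isomorphic to k ⊗_A B = B/𝔪B. -/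
theorem result {A : Type u} [CommRing A] [IsLocalRing A] [IsNoetherianRing A]
    (B₀ : Type u) [CommRing B₀] [IsRegularLocalRing B₀] [IsAdicComplete (maximalIdeal B₀) B₀]
    [Algebra (ResidueField A) B₀] :
    ∃ (B : Type u) (_ : CommRing B) (_ : IsLocalRing B) (_ : IsNoetherianRing B) (_ : Algebra A B)
      (_ : IsLocalHom (algebraMap A B)),
      IsAdicComplete (maximalIdeal B) B ∧ Module.Flat A B ∧
        Nonempty (ResidueField A ⊗[A] B ≃ₐ[ResidueField A] B₀) := by
  let θ₀ : A →+* B₀ := (algebraMap (ResidueField A) B₀).comp (residue A)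
  have hθ₀ : maximalIdeal A ≤ RingHom.ker θ₀ := fun a ha => by
    rw [RingHom.mem_ker]
    show algebraMap _ _ (residue A a) = 0
    rw [(residue_eq_zero_iff a).mpr ha, map_zero]
  obtain ⟨B, hB1, hB2, hB3, hB4, hB5, ε, h1, h2, h3, h4, h5⟩ :=
    exists_flat_complete_local B₀ θ₀ hθ₀
  refine ⟨B, hB1, hB2, hB3, hB4, hB5, h1, h2, ?_⟩
  exact nonempty_fibre_algEquiv (maximalIdeal A) residue_surjective ker_residue ε h3 h4
    (fun a => h5 a)

end Groth.Agent.S4514
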