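import Groth.Statements.S4515
import Mathlib.RingTheory.Flat.EquationalCriterion
import Mathlib.RingTheory.AdicCompletion.Functoriality
-- import your own Groth.Agent.* helpers here

set_option autoImplicit false
universe u
open EGA41

namespace Groth.Agent.S4515

theorem step {A : Type u} [CommRing A] (J : Ideal A)
    {M N : Type u} [AddCommGroup M] [Module A M] [AddCommGroup N] [Module A N]
    [Module.Flat A M] (u : N →ₗ[A] M)
    (hsurj : ∀ m : M, ∃ n : N, m - u n ∈ (J • ⊤ : Submodule A M))
    (hinj : ∀ n : N, u n ∈ (J • ⊤ : Submodule A M) → n ∈ (J • ⊤ : Submodule A N))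
    (k : ℕ) (x : N) (hx : u x = 0) (hxk : x ∈ (J ^ k • ⊤ : Submodule A N)) :
    x ∈ (J ^ (k + 1) • ⊤ : Submodule A N) := by
  classical
  have htop : (⊤ : Submodule A N) = Submodule.span A (Set.range (id : N → N)) := by simp
  rw [htop] at hxk
  obtain ⟨a, ha, rfl⟩ := (Submodule.mem_ideal_smul_span_iff_exists_sum (J ^ k) id x).mp hxk
  have hsum : ∀ (g : N → A → N), a.sum g = ∑ i : a.support, g i (a i) := by
    intro g
    rw [Finsupp.sum, ← Finset.sum_coe_sort]
  have hrel : ∑ i : a.support, a i • u i = 0 := by
    rw [← hx, hsum, map_sum]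
    simp
  obtain ⟨l, b, y, hy1, hy2⟩ := Module.Flat.isTrivialRelation_of_sum_smul_eq_zero hrel
  replace hy1 : ∀ i : a.support, u i = ∑ j, b i j • y j := hy1
  replace hy2 : ∀ j, ∑ i : a.support, a i * b i j = 0 := hy2
  choose n' hn' using fun j => hsurj (y j)
  have hmem : ∀ i : a.support, (i : N) - ∑ j, b i j • n' j ∈ (J • ⊤ : Submodule A N) := by
    intro i
    apply hinj
    rw [map_sub, map_sum, hy1 i, ← Finset.sum_sub_distrib]
    refine Submodule.sum_mem _ fun j _ => ?_
    rw [map_smul, ← smul_sub]
    exact Submodule.smul_mem _ _ (hn' j)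
  have hx2 : (a.sum fun i c => c • id i) =
      ∑ i : a.support, a i • ((i : N) - ∑ j, b i j • n' j) := by
    rw [hsum]
    have h0 : ∑ i : a.support, a i • ∑ j, b i j • n' j = 0 := by
      simp_rw [Finset.smul_sum, smul_smul]
      rw [Finset.sum_comm]
      refine Finset.sum_eq_zero fun j _ => ?_
      rw [← Finset.sum_smul, hy2 j, zero_smul]
    simp_rw [smul_sub, Finset.sum_sub_distrib, h0, sub_zero]
    rfl
  rw [hx2, pow_succ, mul_smul]
  refine Submodule.sum_mem _ fun i _ => ?_
  exact Submodule.smul_mem_smul (ha i) (hmem i)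

/-- Let A be a ring, J an ideal of A, and M, N two A-modules which are Hausdorff for the J-adic
topology; suppose moreover that N is J-adically complete and M is flat. Let u : N → M be A-linear.
If the induced map N/JN → M/JM is bijective (surjectivity and injectivity written out below), then u
is bijective. -/
theorem result {A : Type u} [CommRing A] (J : Ideal A)
    {M N : Type u} [AddCommGroup M] [Module A M] [AddCommGroup N] [Module A N]
    [IsHausdorff J M] [IsAdicComplete J N] [Module.Flat A M] (u : N →ₗ[A] M)
    (hsurj : ∀ m : M, ∃ n : N, m - u n ∈ (J • ⊤ : Submodule A M))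
    (hinj : ∀ n : N, u n ∈ (J • ⊤ : Submodule A M) → n ∈ (J • ⊤ : Submodule A N)) :
    Function.Bijective u := by
  constructor
  · rw [injective_iff_map_eq_zero]
    intro x hx
    have hall : ∀ k : ℕ, x ∈ (J ^ k • ⊤ : Submodule A N) := by
      intro k
      induction k with
      | zero => simp
      | succ k ih => exact step J u hsurj hinj k x hx ih
    apply IsHausdorff.haus' (I := J) x
    intro k
    rw [SModEq.zero]
    exact hall k
  · apply surjective_of_mkQ_comp_surjective (I := J)
    intro m
    obtain ⟨m, rfl⟩ := Submodule.mkQ_surjective _ m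
    obtain ⟨n, hn⟩ := hsurj m
    refine ⟨n, ?_⟩
    rw [LinearMap.comp_apply, Submodule.mkQ_apply, Submodule.mkQ_apply, eq_comm,
      Submodule.Quotient.eq]
    exact hn

end Groth.Agent.S4515
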