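import Groth.Statements.S4519
import Mathlib
import Groth.Agent.Lib.Helper23.PBasis
-- import your own Groth.Agent.* helpers here

set_option autoImplicit false
universe u
open EGA41

namespace Groth.Agent.S4519

open Groth.Agent.Lib.Helper23.PBasis in

/-- Let p be a prime, B a ring of characteristic p and A a subring of B with B^p ⊆ A (here: A → B
injective with every p-th power in its image; R → A → B with the image of R in B equal to the set of
p-th powers, so that R stands for B^p). If B admits a p-basis over A, then B is a formally smooth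
A-algebra relative to R for the discrete topologies (square-zero liftings, as in the prelude's
relative notion). -/
theorem result (p : ℕ) [Fact p.Prime] {R A B : Type u} [CommRing R] [CommRing A]
    [CommRing B] [Algebra R A] [Algebra A B] [Algebra R B] [IsScalarTower R A B] [CharP B p]
    (hinj : Function.Injective (algebraMap A B)) (hpow : ∀ b : B, b ^ p ∈ Set.range (algebraMap A B))
    (hR : Set.range (algebraMap R B) = Set.range fun b : B => b ^ p)
    {ι : Type u} (x : ι → B) (hx : EGA41.IsPBasis p A x) :
    EGA41.IsFormallySmoothRel R A B := by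
  intro C _ _ _ _ J hJ u₀ hu
  obtain ⟨u, hu⟩ := hu
  have humk : ∀ b, Ideal.Quotient.mk J (u b) = u₀ b := fun b => congrArg (fun f => f b) hu
  have hSrange : ∀ s : B, s ∈ pPowerSubalgebra p A B → ∃ a, algebraMap A B a = s := by
    intro s hs
    refine Algebra.adjoin_induction (p := fun s _ => ∃ a, algebraMap A B a = s) ?_ ?_ ?_ ?_ hs
    · rintro _ ⟨b, rfl⟩
      exact hpow b
    · intro a; exact ⟨a, rfl⟩
    · rintro _ _ _ _ ⟨a, rfl⟩ ⟨a', rfl⟩
      exact ⟨a + a', map_add _ _ _⟩
    · rintro _ _ _ _ ⟨a, rfl⟩ ⟨a', rfl⟩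
      exact ⟨a * a', map_mul _ _ _⟩
  have hf : Function.Bijective (algebraMap A (pPowerSubalgebra p A B)) := by
    constructor
    · intro a a' h
      apply hinj
      exact congrArg Subtype.val h
    · intro s
      obtain ⟨a, ha⟩ := hSrange s.1 s.2
      exact ⟨a, Subtype.ext ha⟩
  let e : A ≃+* pPowerSubalgebra p A B := RingEquiv.ofBijective _ hf
  let θ : pPowerSubalgebra p A B →+* C := (algebraMap A C).comp e.symm.toRingHom
  have hθ_alg : ∀ a, θ (algebraMap A (pPowerSubalgebra p A B) a) = algebraMap A C a := by
    intro a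
    show algebraMap A C (e.symm (e a)) = _
    rw [RingEquiv.symm_apply_apply]
  have hθ : ∀ q : ι →₀ ℕ, θ ⟨(pMonomial x q) ^ p, pow_mem_pPowerSubalgebra p A _⟩ =
      (pMonomial (fun i => u (x i)) q) ^ p := by
    intro q
    obtain ⟨r, hr⟩ : (pMonomial x q) ^ p ∈ Set.range (algebraMap R B) := by
      rw [hR]; exact ⟨_, rfl⟩
    have h1 : (⟨(pMonomial x q) ^ p, pow_mem_pPowerSubalgebra p A _⟩ : pPowerSubalgebra p A B) =
        algebraMap A (pPowerSubalgebra p A B) (algebraMap R A r) := by
      apply Subtype.ext
      show (pMonomial x q) ^ p = algebraMap A B (algebraMap R A r)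
      rw [← hr, IsScalarTower.algebraMap_apply R A B]
    rw [h1, hθ_alg, ← IsScalarTower.algebraMap_apply R A C]
    have h2 : pMonomial (fun i => u (x i)) q = u (pMonomial x q) :=
      (map_pMonomial (u : B →+* C) x q).symm
    rw [h2, ← map_pow, ← hr, u.commutes]
  obtain ⟨w, hwS, hwx⟩ := exists_ringHom_of_pBasis p x hx θ (fun i => u (x i)) hθ
  have hwalg : ∀ a, w (algebraMap A B a) = algebraMap A C a := fun a =>
    (hwS (algebraMap A (pPowerSubalgebra p A B) a)).trans (hθ_alg a)
  let v : B →ₐ[A] C := { w with commutes' := hwalg }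
  refine ⟨v, ?_⟩
  have hring : (Ideal.Quotient.mk J).comp w = u₀.toRingHom := by
    apply ringHom_ext_of_pGenerating p x hx.2
    · intro s
      obtain ⟨a, ha⟩ := hSrange s.1 s.2
      show Ideal.Quotient.mk J (w s.1) = u₀ s.1
      rw [← ha, hwalg, u₀.commutes]
      rfl
    · intro i
      show Ideal.Quotient.mk J (w (x i)) = u₀ (x i)
      rw [hwx, humk]
  ext b
  exact congrArg (fun f => f b) hring

end Groth.Agent.S4519
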