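import Groth.Statements.S4520
import Mathlib
import Groth.Agent.Lib.Helper11.PTower2

set_option autoImplicit false
universe u
open EGA41

namespace Groth.Agent.S4520

open Groth.Agent.Lib.Helper11.PTower

open TensorProduct in
/-- Let p be a prime, B a reduced ring of characteristic p, A a subring with B^p ⊆ A ⊆ B (here A → B
injective with all p-th powers in its image, and R → A → B with image in B the set of p-th powers, R
standing for B^p). Suppose B has a p-basis (x_λ) over A and A has a p-basis over R, and let x'_λ ∈ A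
map to x_λ^p. Then the elements 1 ⊗ d_{A/ℤ}(x'_λ) form a basis of the B-module Υ_{B/A}, the kernel
of B ⊗_A Ω_{A/ℤ} → Ω_{B/ℤ}. (The published statement also identifies Υ_{B/A} with the Frobenius
twist of Ω_{B/A}; this row states only the basis.) -/
theorem result (p : ℕ) [Fact p.Prime] {R A B : Type u} [CommRing R] [CommRing A]
    [CommRing B] [IsReduced B] [Algebra R A] [Algebra A B] [Algebra R B] [IsScalarTower R A B] [CharP B p]
    (hinj : Function.Injective (algebraMap A B)) (hpow : ∀ b : B, b ^ p ∈ Set.range (algebraMap A B))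
    (hR : Set.range (algebraMap R B) = Set.range fun b : B => b ^ p)
    {Λ M : Type u} (x : Λ → B) (hx : EGA41.IsPBasis p A x) (x' : Λ → A) (hx' : ∀ i, algebraMap A B (x' i) = x i ^ p)
    (y : M → A) (hy : EGA41.IsPBasis p R y) :
    ∃ b : Module.Basis Λ B (EGA41.imperfection ℤ A B),
      ∀ i, (b i : B ⊗[A] Ω[A⁄ℤ]) = (1 : B) ⊗ₜ[A] KaehlerDifferential.D ℤ A (x' i) := by
  classical
  haveI : CharP A p := (algebraMap A B).charP hinj p
  have hpchar : ((p : ℕ) : B) = 0 := CharP.cast_eq_zero B p
  -- A side
  have hA := isPBasis_pthPowers p hinj hpow hR x hx x' hx' y hy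
  obtain ⟨bA, hbA⟩ := exists_basis_kaehler_int p (Sum.elim x' y)
    (fun k => by obtain ⟨_, a, rfl⟩ := k; exact ⟨a, rfl⟩) hA
  -- B side
  have hpowR : ∀ b : B, b ^ p ∈ Set.range (algebraMap R B) := fun b => by
    rw [hR]; exact ⟨b, rfl⟩
  have hB : IsPBasis p R (Sum.elim (fun i => algebraMap A B (y i)) x) :=
    ⟨(isPIndependent_tower_iff p y x hinj hpowR hy).1 hx.1,
      isPGenerating_tower p y x hpowR hy.2 hx.2⟩
  obtain ⟨bB, hbB⟩ := exists_basis_kaehler_int p _ (fun r => by
    have h1 : algebraMap R B r ∈ Set.range (algebraMap R B) := ⟨r, rfl⟩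
    rw [hR] at h1
    obtain ⟨b, hb⟩ := h1
    exact ⟨b, hb.symm⟩) hB
  -- kernel
  have hmap : ∀ a : A, KaehlerDifferential.mapBaseChange ℤ A B
      ((1 : B) ⊗ₜ[A] KaehlerDifferential.D ℤ A a) = KaehlerDifferential.D ℤ B (algebraMap A B a) := by
    intro a
    rw [KaehlerDifferential.mapBaseChange_tmul, one_smul, KaehlerDifferential.map_D]
  obtain ⟨b, hb⟩ := exists_basis_ker (KaehlerDifferential.mapBaseChange ℤ A B)
    (bA.baseChange B) (by
      intro l
      rw [Module.Basis.baseChange_apply, hbA, Sum.elim_inl, hmap, hx', Derivation.leibniz_pow]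
      have : (p : ℕ) • (x l ^ (p - 1) • KaehlerDifferential.D ℤ B (x l)) =
          ((p : ℕ) : B) • (x l ^ (p - 1) • KaehlerDifferential.D ℤ B (x l)) := by
        rw [Nat.cast_smul_eq_nsmul]
      rw [this, hpchar, zero_smul]) (by
      have : (fun m : M => KaehlerDifferential.mapBaseChange ℤ A B (bA.baseChange B (Sum.inr m))) =
          bB ∘ Sum.inl := by
        funext m
        rw [Module.Basis.baseChange_apply, hbA, Sum.elim_inr, hmap, Function.comp_apply, hbB,
          Sum.elim_inl]
      rw [this]
      exact bB.linearIndependent.comp _ Sum.inl_injective)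
  refine ⟨b, fun i => ?_⟩
  have h1 := hb i
  rw [Module.Basis.baseChange_apply, hbA, Sum.elim_inl] at h1
  exact h1

end Groth.Agent.S4520
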