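import Groth.Statements.S4522
import Mathlib
import Groth.Agent.Lib.Helper23.PBasisDer
import Groth.Agent.Lib.Helper23.PBasisField
import Groth.Agent.Lib.Helper23.FieldSep
-- import your own Groth.Agent.* helpers here

set_option autoImplicit false
universe u
open EGA41

namespace Groth.Agent.S4522

open Groth.Agent.Lib.Helper23


/-- Let L be a field of characteristic p > 0 and K a subfield with L^p ⊆ K ⊆ L (here R → K → L with the
image of R in L the set of p-th powers and every p-th power of L in the image of K). Then the
canonical L-linear map L ⊗_K Ω_{K/L^p} → Ω_{L/L^p} is injective, so that 0 → Ω_{K/L^p} ⊗_K L →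
Ω_{L/L^p} → Ω_{L/K} → 0 is exact: the imperfection module of L over K relative to L^p vanishes. -/
theorem result (p : ℕ) [Fact p.Prime] {R K L : Type u} [Field R] [Field K] [Field L]
    [Algebra R K] [Algebra K L] [Algebra R L] [IsScalarTower R K L] [CharP L p]
    (hR : Set.range (algebraMap R L) = Set.range fun y : L => y ^ p)
    (hK : ∀ y : L, y ^ p ∈ Set.range (algebraMap K L)) :
    Function.Injective (KaehlerDifferential.mapBaseChange R K L) := by
  apply FieldSep.injective_of_exists_extension R K L
  intro D
  obtain ⟨Bs, hB⟩ := PBasisField.exists_isPBasis' p K (K := L)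
  have hinj : Function.Injective (algebraMap K L) := (algebraMap K L).injective
  have hmem : ∀ s : pPowerSubalgebra p K L, ∃ a : K, algebraMap K L a = s.1 :=
    fun s => (PBasisDer.mem_pPower_iff p hK s.1).mp s.2
  choose pre hpre using hmem
  have hpre_add : ∀ s t, pre (s + t) = pre s + pre t := by
    intro s t
    apply hinj
    rw [map_add, hpre, hpre, hpre]; rfl
  have hpre_mul : ∀ s t, pre (s * t) = pre s * pre t := by
    intro s t
    apply hinj
    rw [map_mul, hpre, hpre, hpre]; rfl
  have hpre_zero : pre 0 = 0 := by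
    apply hinj
    rw [map_zero, hpre]; rfl
  have hpre_alg : ∀ (a : K) (s : pPowerSubalgebra p K L), s.1 = algebraMap K L a → pre s = a := by
    intro a s hs
    apply hinj
    rw [hpre, hs]
  let D₀ : pPowerSubalgebra p K L →+ L :=
    { toFun := fun s => D (pre s)
      map_zero' := by rw [hpre_zero, map_zero]
      map_add' := fun s t => by rw [hpre_add, map_add] }
  have hD₀ : ∀ s t : pPowerSubalgebra p K L, D₀ (s * t) = s.1 • D₀ t + t.1 • D₀ s := by
    intro s t
    show D (pre (s * t)) = s.1 • D (pre t) + t.1 • D (pre s)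
    rw [hpre_mul, Derivation.leibniz, ← hpre s, ← hpre t, algebraMap_smul, algebraMap_smul]
  have hD₀p : ∀ q : Bs →₀ ℕ, D₀ ⟨(pMonomial (Subtype.val : Bs → L) q) ^ p,
      PBasis.pow_mem_pPowerSubalgebra p K _⟩ = 0 := by
    intro q
    show D (pre _) = 0
    obtain ⟨r, hr⟩ : (pMonomial (Subtype.val : Bs → L) q) ^ p ∈ Set.range (algebraMap R L) := by
      rw [hR]; exact ⟨_, rfl⟩
    rw [hpre_alg (algebraMap R K r) _ (by
      show (pMonomial (Subtype.val : Bs → L) q) ^ p = _
      rw [← hr, IsScalarTower.algebraMap_apply R K L])]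
    exact D.map_algebraMap r
  obtain ⟨D', hD'1, -⟩ := PBasisDer.exists_derivation_of_pBasis p (Subtype.val : Bs → L) hB
    D₀ hD₀ hD₀p (fun _ => 0)
  have hD'K : ∀ a : K, D' (algebraMap K L a) = D a := by
    intro a
    have := hD'1 ⟨algebraMap K L a, Subalgebra.algebraMap_mem _ a⟩
    rw [this]
    show D (pre _) = D a
    rw [hpre_alg a _ rfl]
  refine ⟨Derivation.mk' ({ D'.toLinearMap.toAddMonoidHom with
      map_smul' := fun r b => by
        show D' (r • b) = r • D' b
        rw [Algebra.smul_def, Derivation.leibniz]
        have : D' (algebraMap R L r) = 0 := by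
          rw [IsScalarTower.algebraMap_apply R K L, hD'K]
          exact D.map_algebraMap r
        rw [this, smul_zero, add_zero, algebraMap_smul] } : L →ₗ[R] L)
    (fun a b => D'.leibniz a b), fun a => ?_⟩
  exact hD'K a

end Groth.Agent.S4522
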