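import Groth.Statements.S4524
import Mathlib.RingTheory.Etale.Kaehler
import Mathlib.RingTheory.Etale.Field
import Mathlib.RingTheory.Unramified.Field
import Mathlib.RingTheory.Kaehler.Polynomial
import Mathlib.RingTheory.AlgebraicIndependent.TranscendenceBasis
import Mathlib.RingTheory.AlgebraicIndependent.Adjoin
import Mathlib.FieldTheory.Perfect
import Mathlib.RingTheory.Flat.FaithfullyFlat.Basic
import Mathlib.Algebra.CharP.Algebra
-- import your own Groth.Agent.* helpers here

set_option autoImplicit false
universe u
open EGA41

namespace Groth.Agent.S4524

/-- Let k be a field of characteristic 0 and K an extension of k. Then Ω_{K/k} = 0 if and only if K is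
an algebraic extension of k. -/
theorem result {k K : Type u} [Field k] [CharZero k] [Field K] [Algebra k K] :
    Subsingleton (Ω[K⁄k]) ↔ Algebra.IsAlgebraic k K := by
  constructor
  · intro h
    obtain ⟨s, hs⟩ := exists_isTranscendenceBasis k K
    rw [← hs.isEmpty_iff_isAlgebraic]
    have h1 : Algebra.IsAlgebraic (IntermediateField.adjoin k (Set.range ((↑) : s → K))) K :=
      hs.isAlgebraic_field
    have h2 : CharZero (IntermediateField.adjoin k (Set.range ((↑) : s → K))) :=
      charZero_of_injective_algebraMap
        (algebraMap k (IntermediateField.adjoin k (Set.range ((↑) : s → K)))).injective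
    have h3 : Algebra.FormallyEtale (IntermediateField.adjoin k (Set.range ((↑) : s → K))) K :=
      Algebra.FormallyEtale.of_isSeparable _ K
    have e1 := KaehlerDifferential.tensorKaehlerEquivOfFormallyEtale k
      (IntermediateField.adjoin k (Set.range ((↑) : s → K))) K
    have h4 : Subsingleton (TensorProduct (IntermediateField.adjoin k (Set.range ((↑) : s → K))) K
        (Ω[(IntermediateField.adjoin k (Set.range ((↑) : s → K)))⁄k])) :=
      e1.toEquiv.subsingleton
    have h5 : Subsingleton (Ω[(IntermediateField.adjoin k (Set.range ((↑) : s → K)))⁄k]) :=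
      Module.FaithfullyFlat.lTensor_reflects_triviality
        (IntermediateField.adjoin k (Set.range ((↑) : s → K))) K _
    have h6 : Algebra.FormallyUnramified k (IntermediateField.adjoin k (Set.range ((↑) : s → K))) :=
      ⟨h5⟩
    have h7 : Algebra.FormallyUnramified k (FractionRing (MvPolynomial s k)) :=
      .of_equiv hs.1.aevalEquivField.symm
    have h8 : Algebra.FormallyEtale (MvPolynomial s k) (FractionRing (MvPolynomial s k)) :=
      .of_isLocalization (nonZeroDivisors (MvPolynomial s k))
    have e2 := KaehlerDifferential.tensorKaehlerEquivOfFormallyEtale k (MvPolynomial s k)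
      (FractionRing (MvPolynomial s k))
    have h9 : Subsingleton (TensorProduct (MvPolynomial s k) (FractionRing (MvPolynomial s k))
        (Ω[(MvPolynomial s k)⁄k])) := e2.toEquiv.subsingleton
    let b := (KaehlerDifferential.mvPolynomialBasis k s).baseChange (FractionRing (MvPolynomial s k))
    exact ⟨fun i => b.ne_zero i (Subsingleton.elim _ _)⟩
  · intro h
    have : Algebra.FormallyUnramified k K := Algebra.FormallyUnramified.of_isSeparable k K
    infer_instance

end Groth.Agent.S4524
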