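import Groth.Statements.S4529
import Mathlib.RingTheory.Nakayama
import Mathlib.RingTheory.Nilpotent.Basic
import Mathlib.RingTheory.FiniteType
-- import your own Groth.Agent.* helpers here

set_option autoImplicit false
universe u
open EGA41

namespace Groth.Agent.S4529

theorem bijective_of_sub_mem {A : Type u} [CommRing A] {M : Type u} [AddCommGroup M] [Module A M]
    (J : Ideal A) (hJ : IsNilpotent J ∨ (J ≤ (⊥ : Ideal A).jacobson ∧ Module.Finite A M))
    (φ : M →ₗ[A] M) (hφ : ∀ m, φ m - m ∈ (J • ⊤ : Submodule A M)) : Function.Bijective φ := by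
  rcases hJ with ⟨n, hn⟩ | ⟨hjac, hfin⟩
  · -- nilpotent case
    have hε : ∀ k : ℕ, ∀ m, ((φ - 1) ^ k) m ∈ (J ^ k • ⊤ : Submodule A M) := by
      intro k
      induction k with
      | zero => intro m; simp
      | succ k ih =>
        intro m
        have h0 : ((φ - 1) ^ (k + 1)) m = (φ - 1) (((φ - 1) ^ k) m) := by
          rw [pow_succ' (φ - 1) k, Module.End.mul_apply]
        rw [h0]
        have h1 : ((φ - 1) ^ k) m ∈ (J ^ k • ⊤ : Submodule A M) := ih m
        have h2 : Submodule.map (φ - 1) (J ^ k • ⊤ : Submodule A M) ≤ J ^ (k + 1) • ⊤ := by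
          rw [Submodule.map_smul'', pow_succ, mul_smul]
          apply Submodule.smul_mono le_rfl
          rintro _ ⟨x, -, rfl⟩
          exact hφ x
        exact h2 ⟨_, h1, rfl⟩
    have hnil : IsNilpotent (φ - 1) := by
      refine ⟨n, ?_⟩
      ext m
      have := hε n m
      rw [hn] at this
      simpa using this
    have hu : IsUnit φ := by
      have := hnil.isUnit_add_one
      simpa using this
    exact (Module.End.isUnit_iff _).mp hu
  · have hs : Function.Surjective φ := by
      rw [← LinearMap.range_eq_top, eq_top_iff]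
      apply Submodule.le_of_le_smul_of_le_jacobson_bot Module.Finite.fg_top hjac
      intro m _
      have : m = φ m + -(φ m - m) := by abel
      rw [this]
      exact Submodule.add_mem_sup (LinearMap.mem_range_self φ m) (Submodule.neg_mem _ (hφ m))
    exact ⟨OrzechProperty.injective_of_surjective_endomorphism φ hs, hs⟩

/-- Let A be a ring, M, N two A-modules with N projective, u : M → N a homomorphism and J an ideal of A;
suppose either (i) J is nilpotent, or (ii) J is contained in the Jacobson radical of A and M is of
finite type. Then u is left invertible if and only if the induced map u₀ : M/JM → N/JN is left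
invertible. (A left inverse of u₀ composed with N → N/JN is an A-linear map v : N → M/JM with v ∘ u
the projection, and conversely; the right-hand side is written in that form.) -/
theorem result {A : Type u} [CommRing A] {M N : Type u} [AddCommGroup M] [Module A M]
    [AddCommGroup N] [Module A N] [Module.Projective A N] (u : M →ₗ[A] N) (J : Ideal A)
    (hJ : IsNilpotent J ∨ (J ≤ (⊥ : Ideal A).jacobson ∧ Module.Finite A M)) :
    (∃ w : N →ₗ[A] M, w ∘ₗ u = LinearMap.id) ↔
      ∃ v : N →ₗ[A] M ⧸ (J • ⊤ : Submodule A M), v ∘ₗ u = (J • ⊤ : Submodule A M).mkQ := by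
  constructor
  · rintro ⟨w, hw⟩
    refine ⟨(J • ⊤ : Submodule A M).mkQ ∘ₗ w, ?_⟩
    rw [LinearMap.comp_assoc, hw, LinearMap.comp_id]
  · rintro ⟨v, hv⟩
    obtain ⟨w', hw'⟩ := Module.projective_lifting_property (J • ⊤ : Submodule A M).mkQ v
      (Submodule.mkQ_surjective _)
    have hφ : ∀ m, (w' ∘ₗ u) m - m ∈ (J • ⊤ : Submodule A M) := by
      intro m
      rw [← Submodule.Quotient.mk_eq_zero, Submodule.Quotient.mk_sub, sub_eq_zero]
      have h1 := LinearMap.congr_fun hw' (u m)
      have h2 := LinearMap.congr_fun hv m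
      simp only [LinearMap.comp_apply, Submodule.mkQ_apply] at h1 h2
      rw [LinearMap.comp_apply, h1, h2]
    have hb := bijective_of_sub_mem J hJ (w' ∘ₗ u) hφ
    let e := LinearEquiv.ofBijective (w' ∘ₗ u) hb
    refine ⟨e.symm.toLinearMap ∘ₗ w', ?_⟩
    ext m
    change e.symm ((w' ∘ₗ u) m) = m
    exact e.symm_apply_apply m

end Groth.Agent.S4529
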