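import Groth.Statements.S4533
import Mathlib
-- import your own Groth.Agent.* helpers here

set_option autoImplicit false
universe u
open EGA41

namespace Groth.Agent.S4533


section
variable {σ : Type*} {R : Type*} [CommRing R]

open MvPowerSeries in
/-- a power series all of whose coefficients in the box `∀ i ∈ s, e i < M` vanish lies in the ideal
generated by the `X i ^ M`, `i ∈ s`. -/
lemma mem_span_X_pow (M : ℕ) (s : Finset σ) :
    ∀ f : MvPowerSeries σ R, (∀ e : σ →₀ ℕ, (∀ i ∈ s, e i < M) → coeff e f = 0) →
      f ∈ Ideal.span (Set.range fun i : s => (X (i : σ) : MvPowerSeries σ R) ^ M) := by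
  classical
  induction s using Finset.induction_on with
  | empty =>
    intro f hf
    have : f = 0 := by
      ext e
      rw [hf e (by simp)]
      simp
    rw [this]
    exact zero_mem _
  | insert a s ha ih =>
    intro f hf
    let f₁ : MvPowerSeries σ R := fun e => if e a < M then 0 else coeff e f
    let f₂ : MvPowerSeries σ R := fun e => if e a < M then coeff e f else 0
    have hsum : f = f₁ + f₂ := by
      ext e
      show coeff e f = coeff e f₁ + coeff e f₂
      show coeff e f = (if e a < M then 0 else coeff e f) + (if e a < M then coeff e f else 0)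
      split_ifs <;> simp
    have h1 : (X a : MvPowerSeries σ R) ^ M ∣ f₁ := by
      rw [X_pow_dvd_iff]
      intro m hm
      show (if m a < M then 0 else coeff m f) = 0
      rw [if_pos hm]
    have h2 : f₂ ∈ Ideal.span (Set.range fun i : s => (X (i : σ) : MvPowerSeries σ R) ^ M) := by
      apply ih
      intro e he
      show (if e a < M then coeff e f else 0) = 0
      split_ifs with h
      · apply hf
        intro i hi
        rcases Finset.mem_insert.1 hi with rfl | hi
        · exact h
        · exact he i hi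
      · rfl
    rw [hsum]
    refine add_mem ?_ ?_
    · obtain ⟨g, hg⟩ := h1
      rw [hg]
      exact Ideal.mul_mem_right _ _ (Ideal.subset_span ⟨⟨a, Finset.mem_insert_self a s⟩, rfl⟩)
    · refine Ideal.span_mono ?_ h2
      rintro _ ⟨i, rfl⟩
      exact ⟨⟨i.1, Finset.mem_insert_of_mem i.2⟩, rfl⟩

end



section
variable {σ : Type*} [Fintype σ] [DecidableEq σ] {A : Type*} [CommRing A] {D : Type*} [CommRing D]
  [Algebra A D]

/-- the constant exponent vector `M` -/
noncomputable def box (σ : Type*) [Fintype σ] (M : ℕ) : σ →₀ ℕ :=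
  Finsupp.equivFunOnFinite.symm (fun _ => M)

lemma le_box_iff (M : ℕ) (e : σ →₀ ℕ) : e ≤ box σ M ↔ ∀ i, e i ≤ M := by
  rw [Finsupp.le_def]
  simp [box]

lemma aeval_eq_zero_of_box (M : ℕ) (t : σ → D) (ht : ∀ i, t i ^ (M + 1) = 0)
    (P : MvPolynomial σ A) (hP : ∀ e ≤ box σ M, P.coeff e = 0) : MvPolynomial.aeval t P = 0 := by
  rw [MvPolynomial.aeval_def, MvPolynomial.eval₂_eq']
  refine Finset.sum_eq_zero fun d hd => ?_
  have hne : P.coeff d ≠ 0 := MvPolynomial.mem_support_iff.1 hd
  have hnle : ¬ d ≤ box σ M := fun h => hne (hP d h)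
  rw [le_box_iff] at hnle
  push Not at hnle
  obtain ⟨i, hi⟩ := hnle
  have : ∏ j, t j ^ d j = 0 :=
    Finset.prod_eq_zero (Finset.mem_univ i) (pow_eq_zero_of_le hi (ht i))
  rw [this, mul_zero]

/-- evaluation of power series at a family of nilpotent elements. -/
noncomputable def evalNil (M : ℕ) (t : σ → D) (ht : ∀ i, t i ^ (M + 1) = 0) :
    MvPowerSeries σ A →ₐ[A] D :=
  AlgHom.ofLinearMap ((MvPolynomial.aeval t).toLinearMap ∘ₗ MvPowerSeries.trunc' A (box σ M))
    (by simp)
    (by
      intro f g
      simp only [LinearMap.comp_apply, AlgHom.toLinearMap_apply]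
      rw [← map_mul, ← sub_eq_zero, ← map_sub]
      apply aeval_eq_zero_of_box M t ht
      intro e he
      rw [MvPolynomial.coeff_sub, MvPowerSeries.coeff_trunc', if_pos he,
        MvPowerSeries.coeff_trunc'_mul_trunc'_eq_coeff_mul _ _ _ he, sub_self])

lemma evalNil_apply (M : ℕ) (t : σ → D) (ht : ∀ i, t i ^ (M + 1) = 0) (f : MvPowerSeries σ A) :
    evalNil M t ht f = MvPolynomial.aeval t (MvPowerSeries.trunc' A (box σ M) f) := rfl

/-- the remainder of the box truncation lies in the ideal generated by `X i ^ (M+1)`. -/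
lemma sub_trunc'_mem (M : ℕ) (f : MvPowerSeries σ A) :
    f - ((MvPowerSeries.trunc' A (box σ M) f : MvPolynomial σ A) : MvPowerSeries σ A) ∈
      Ideal.span (Set.range fun i : σ => (MvPowerSeries.X i : MvPowerSeries σ A) ^ (M + 1)) := by
  have h := mem_span_X_pow (M + 1) (Finset.univ : Finset σ)
    (f - ((MvPowerSeries.trunc' A (box σ M) f : MvPolynomial σ A) : MvPowerSeries σ A)) (by
      intro e he
      have he' : e ≤ box σ M := (le_box_iff M e).2 fun i => Nat.lt_succ_iff.1 (he i (Finset.mem_univ i))
      rw [map_sub, MvPolynomial.coeff_coe, MvPowerSeries.coeff_trunc', if_pos he', sub_self])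
  refine Ideal.span_mono ?_ h
  rintro _ ⟨i, rfl⟩
  exact ⟨i.1, rfl⟩

end




/-- Let A carry the 𝔞-adic topology and let B = A[[T_1, …, T_n]] carry the product topology, i.e. the
adic topology of the ideal 𝔞B + (T_1, …, T_n) (the kernel of the constant-coefficient map added to
the extension of 𝔞). Then B is a formally smooth A-algebra for these topologies. (The published
statement allows any linearly topologized base ring and any set of indeterminates with the product
topology; this row takes an adic base and finitely many indeterminates, where the product topology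
is adic.) -/
theorem result (A : Type u) [CommRing A] (𝔞 : Ideal A) (n : ℕ) :
    EGA41.IsFormallySmoothAdic A 𝔞 (MvPowerSeries (Fin n) A)
      (𝔞.map (MvPowerSeries.C : A →+* MvPowerSeries (Fin n) A) ⊔
        RingHom.ker (MvPowerSeries.constantCoeff : MvPowerSeries (Fin n) A →+* A)) := by
  intro D _ _ J hJ _ u hu
  obtain ⟨m, hm⟩ := hu
  obtain ⟨N₀, hN₀⟩ := hJ
  choose t ht using fun i : Fin n => Ideal.Quotient.mk_surjective (u (MvPowerSeries.X i))
  have hX : ∀ i : Fin n, (MvPowerSeries.X i : MvPowerSeries (Fin n) A) ∈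
      (𝔞.map (MvPowerSeries.C : A →+* MvPowerSeries (Fin n) A) ⊔
        RingHom.ker (MvPowerSeries.constantCoeff : MvPowerSeries (Fin n) A →+* A)) := by
    intro i
    refine Ideal.mem_sup_right ?_
    rw [RingHom.mem_ker]
    exact MvPowerSeries.constantCoeff_X i
  have huX : ∀ i, u (MvPowerSeries.X i) ^ m = 0 := by
    intro i
    rw [← map_pow]
    exact hm _ (Ideal.pow_mem_pow (hX i) m)
  have htJ : ∀ i, t i ^ m ∈ J := by
    intro i
    rw [← Ideal.Quotient.eq_zero_iff_mem, map_pow, ht, huX]
  have ht0 : ∀ i, t i ^ (m * N₀) = 0 := by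
    intro i
    have : (t i ^ m) ^ N₀ ∈ J ^ N₀ := Ideal.pow_mem_pow (htJ i) N₀
    rw [hN₀, Ideal.zero_eq_bot, Ideal.mem_bot, ← pow_mul] at this
    exact this
  set M := m * N₀ + m with hM
  have ht1 : ∀ i, t i ^ (M + 1) = 0 := fun i => pow_eq_zero_of_le (by omega) (ht0 i)
  have huX1 : ∀ i, u (MvPowerSeries.X i) ^ (M + 1) = 0 := fun i =>
    pow_eq_zero_of_le (by omega) (huX i)
  refine ⟨evalNil M t ht1, ?_⟩
  ext f
  show Ideal.Quotient.mk J (evalNil M t ht1 f) = u f
  rw [evalNil_apply]
  have hpoly : ∀ p : MvPolynomial (Fin n) A,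
      u (p : MvPowerSeries (Fin n) A) = Ideal.Quotient.mk J (MvPolynomial.aeval t p) := by
    intro p
    induction p using MvPolynomial.induction_on with
    | C a =>
      rw [MvPolynomial.coe_C, MvPolynomial.aeval_C]
      have : (MvPowerSeries.C a : MvPowerSeries (Fin n) A) = algebraMap A _ a := rfl
      rw [this, u.commutes]
      rfl
    | add p q hp hq =>
      rw [MvPolynomial.coe_add, map_add, map_add, map_add, hp, hq]
    | mul_X p i hp =>
      rw [MvPolynomial.coe_mul, MvPolynomial.coe_X, map_mul, map_mul, map_mul, hp,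
        MvPolynomial.aeval_X, ht]
  have hr : u (f - ((MvPowerSeries.trunc' A (box (Fin n) M) f : MvPolynomial (Fin n) A) :
      MvPowerSeries (Fin n) A)) = 0 := by
    have hle : Ideal.span (Set.range fun i : Fin n =>
        (MvPowerSeries.X i : MvPowerSeries (Fin n) A) ^ (M + 1)) ≤ RingHom.ker u := by
      rw [Ideal.span_le]
      rintro _ ⟨i, rfl⟩
      show u _ = 0
      rw [map_pow, huX1]
    exact hle (sub_trunc'_mem M f)
  rw [map_sub, sub_eq_zero] at hr
  rw [hr, hpoly]

end Groth.Agent.S4533
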