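import Groth.Statements.S4534
import Mathlib
-- import your own Groth.Agent.* helpers here

set_option autoImplicit false
universe u
open EGA41

namespace Groth.Agent.S4534

open TensorProduct


/-- Let A → B → C be continuous homomorphisms of adic rings (A with the 𝔞-adic, B the 𝔟-adic, C the
𝔠-adic topology; continuity: a power of 𝔞 maps into 𝔟 and a power of 𝔟 into 𝔠). If B is formally
smooth over A and C formally smooth over B, then C is formally smooth over A. -/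
theorem result {A B C : Type u} [CommRing A] [CommRing B] [CommRing C] [Algebra A B] [Algebra B C]
    [Algebra A C] [IsScalarTower A B C] (𝔞 : Ideal A) (𝔟 : Ideal B) (𝔠 : Ideal C)
    (hAB : ∃ k : ℕ, (𝔞 ^ k).map (algebraMap A B) ≤ 𝔟) (hBC : ∃ k : ℕ, (𝔟 ^ k).map (algebraMap B C) ≤ 𝔠)
    (hB : EGA41.IsFormallySmoothAdic A 𝔞 B 𝔟) (hC : EGA41.IsFormallySmoothAdic B 𝔟 C 𝔠) :
    EGA41.IsFormallySmoothAdic A 𝔞 C 𝔠 := by
  intro D _ _ J hJ hD u ⟨m, hu⟩
  obtain ⟨k, hk⟩ := hBC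
  obtain ⟨N, hN⟩ := hJ
  -- step 1: lift the restriction to B
  let u₀ : B →ₐ[A] D ⧸ J := u.comp (IsScalarTower.toAlgHom A B C)
  have hpow : ∀ x ∈ 𝔟 ^ (k * m), algebraMap B C x ∈ 𝔠 ^ m := by
    intro x hx
    have h1 : (𝔟 ^ (k * m)).map (algebraMap B C) ≤ 𝔠 ^ m := by
      rw [pow_mul, Ideal.map_pow]
      exact Ideal.pow_right_mono hk m
    exact h1 (Ideal.mem_map_of_mem _ hx)
  have hu₀ : ∃ k' : ℕ, ∀ x ∈ 𝔟 ^ k', u₀ x = 0 := ⟨k * m, fun x hx => hu _ (hpow x hx)⟩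
  obtain ⟨v₀, hv₀⟩ := hB D J ⟨N, hN⟩ hD u₀ hu₀
  -- D becomes a B-algebra
  letI : Algebra B D := v₀.toRingHom.toAlgebra
  have htower : IsScalarTower A B D := IsScalarTower.of_algebraMap_eq fun a => (v₀.commutes a).symm
  have hv₀' : ∀ b : B, Ideal.Quotient.mk J (v₀ b) = u (algebraMap B C b) := fun b =>
    congrArg (fun f => f b) hv₀
  -- v₀ kills a power of 𝔟
  have hkill : (𝔟 ^ (k * m * N)).map (algebraMap B D) = ⊥ := by
    rw [eq_bot_iff, pow_mul, Ideal.map_pow]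
    have h1 : (𝔟 ^ (k * m)).map (algebraMap B D) ≤ J := by
      rw [Ideal.map_le_iff_le_comap]
      intro x hx
      rw [Ideal.mem_comap, ← Ideal.Quotient.eq_zero_iff_mem]
      show Ideal.Quotient.mk J (v₀ x) = 0
      rw [hv₀']
      exact hu _ (hpow x hx)
    calc (𝔟 ^ (k * m)).map (algebraMap B D) ^ N ≤ J ^ N := Ideal.pow_right_mono h1 N
      _ = ⊥ := hN
  -- u is a B-algebra map
  let uB : C →ₐ[B] D ⧸ J :=
    { u.toRingHom with
      commutes' := fun b => by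
        show u (algebraMap B C b) = _
        rw [← hv₀']; rfl }
  obtain ⟨w, hw⟩ := hC D J ⟨N, hN⟩ ⟨k * m * N, hkill⟩ uB ⟨m, fun x hx => hu x hx⟩
  refine ⟨w.restrictScalars A, ?_⟩
  ext c
  exact congrArg (fun f => f c) hw

end Groth.Agent.S4534
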