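import Groth.Statements.S4535
import Mathlib
-- import your own Groth.Agent.* helpers here

set_option autoImplicit false
universe u
open EGA41

namespace Groth.Agent.S4535

open TensorProduct


open TensorProduct in
/-- Let B (𝔟-adic) be formally smooth over A (𝔞-adic) and let A' (𝔞'-adic) be a topological A-algebra (a
power of 𝔞 maps into 𝔞'). Then the A'-algebra A' ⊗_A B, with the tensor product topology, i.e. the
adic topology of the ideal generated by the images of 𝔞' and 𝔟, is formally smooth over A'. -/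
theorem result {A B A' : Type u} [CommRing A] [CommRing B] [CommRing A'] [Algebra A B] [Algebra A A']
    (𝔞 : Ideal A) (𝔟 : Ideal B) (𝔞' : Ideal A') (hAA' : ∃ k : ℕ, (𝔞 ^ k).map (algebraMap A A') ≤ 𝔞')
    (hB : EGA41.IsFormallySmoothAdic A 𝔞 B 𝔟) :
    EGA41.IsFormallySmoothAdic A' 𝔞' (A' ⊗[A] B)
      (𝔞'.map (algebraMap A' (A' ⊗[A] B)) ⊔
        𝔟.map (Algebra.TensorProduct.includeRight : B →ₐ[A] A' ⊗[A] B).toRingHom) := by
  intro C _ _ J hJ ⟨n, hC⟩ u ⟨m, hu⟩
  obtain ⟨k, hk⟩ := hAA'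
  -- C as an A-algebra
  letI : Algebra A C := ((algebraMap A' C).comp (algebraMap A A')).toAlgebra
  have htower : IsScalarTower A A' C := IsScalarTower.of_algebraMap_eq fun a => rfl
  have hCA : ∃ k' : ℕ, (𝔞 ^ k').map (algebraMap A C) = ⊥ := by
    refine ⟨k * n, ?_⟩
    rw [eq_bot_iff, ← hC, IsScalarTower.algebraMap_eq A A' C, ← Ideal.map_map, pow_mul,
      Ideal.map_pow (algebraMap A A')]
    exact Ideal.map_mono (Ideal.pow_right_mono hk n)
  let u₀ : B →ₐ[A] C ⧸ J :=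
    (u.restrictScalars A).comp (Algebra.TensorProduct.includeRight : B →ₐ[A] A' ⊗[A] B)
  have hu₀ : ∃ k' : ℕ, ∀ x ∈ 𝔟 ^ k', u₀ x = 0 := by
    refine ⟨m, fun x hx => hu _ ?_⟩
    have h1 : (𝔟 ^ m).map (Algebra.TensorProduct.includeRight : B →ₐ[A] A' ⊗[A] B).toRingHom ≤
        (𝔞'.map (algebraMap A' (A' ⊗[A] B)) ⊔
          𝔟.map (Algebra.TensorProduct.includeRight : B →ₐ[A] A' ⊗[A] B).toRingHom) ^ m := by
      rw [Ideal.map_pow]
      exact Ideal.pow_right_mono le_sup_right m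
    exact h1 (Ideal.mem_map_of_mem _ hx)
  obtain ⟨v₀, hv₀⟩ := hB C J hJ hCA u₀ hu₀
  let v : A' ⊗[A] B →ₐ[A'] C :=
    Algebra.TensorProduct.lift (Algebra.ofId A' C) v₀ (fun _ _ => Commute.all _ _)
  refine ⟨v, ?_⟩
  apply Algebra.TensorProduct.ext
  · ext
  · ext b
    have := congrArg (fun f => f b) hv₀
    simpa [v, u₀] using this

end Groth.Agent.S4535
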