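import Groth.Statements.S4536
import Mathlib
-- import your own Groth.Agent.* helpers here

set_option autoImplicit false
universe u
open EGA41

namespace Groth.Agent.S4536

open TensorProduct


/-- Let A carry the 𝔞-adic and B the 𝔟-adic topology, A → B being continuous (a power of 𝔞 maps into 𝔟).
Then B is formally smooth over A if and only if for every n the (A/𝔞ⁿ)-algebra B/𝔞ⁿB, with the adic
topology of the image of 𝔟, is formally smooth over the discrete ring A/𝔞ⁿ. -/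
theorem result {A B : Type u} [CommRing A] [CommRing B] [Algebra A B]
    (𝔞 : Ideal A) (𝔟 : Ideal B) (hAB : ∃ k : ℕ, (𝔞 ^ k).map (algebraMap A B) ≤ 𝔟) :
    EGA41.IsFormallySmoothAdic A 𝔞 B 𝔟 ↔
      ∀ n : ℕ, EGA41.IsFormallySmoothAdic (A ⧸ 𝔞 ^ n) ⊥ (B ⧸ (𝔞 ^ n).map (algebraMap A B))
        (𝔟.map (Ideal.Quotient.mk ((𝔞 ^ n).map (algebraMap A B)))) := by
  constructor
  · intro h n C _ _ J hJ _ u ⟨m, hu⟩
    letI : Algebra A C := ((algebraMap (A ⧸ 𝔞 ^ n) C).comp (Ideal.Quotient.mk (𝔞 ^ n))).toAlgebra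
    have htower : IsScalarTower A (A ⧸ 𝔞 ^ n) C := IsScalarTower.of_algebraMap_eq fun a => rfl
    have hkill : ∀ a ∈ 𝔞 ^ n, algebraMap A C a = 0 := by
      intro a ha
      show algebraMap (A ⧸ 𝔞 ^ n) C (Ideal.Quotient.mk (𝔞 ^ n) a) = 0
      rw [Ideal.Quotient.eq_zero_iff_mem.mpr ha, map_zero]
    have hC : ∃ k : ℕ, (𝔞 ^ k).map (algebraMap A C) = ⊥ := by
      refine ⟨n, ?_⟩
      rw [eq_bot_iff, Ideal.map_le_iff_le_comap]
      intro a ha
      exact hkill a ha
    let u' : B →ₐ[A] C ⧸ J :=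
      (u.restrictScalars A).comp (Ideal.Quotient.mkₐ A ((𝔞 ^ n).map (algebraMap A B)))
    have hu' : ∃ k : ℕ, ∀ x ∈ 𝔟 ^ k, u' x = 0 := by
      refine ⟨m, fun x hx => hu _ ?_⟩
      rw [← Ideal.map_pow]
      exact Ideal.mem_map_of_mem _ hx
    obtain ⟨v', hv'⟩ := h C J hJ hC u' hu'
    have hv'kill : ∀ x ∈ (𝔞 ^ n).map (algebraMap A B), v' x = 0 := by
      intro x hx
      have h1 : (𝔞 ^ n).map (algebraMap A B) ≤ RingHom.ker v'.toRingHom := by
        rw [Ideal.map_le_iff_le_comap]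
        intro a ha
        show v' (algebraMap A B a) = 0
        rw [v'.commutes, hkill a ha]
      exact h1 hx
    let v₀ : B ⧸ (𝔞 ^ n).map (algebraMap A B) →ₐ[A] C :=
      Ideal.Quotient.liftₐ _ v' hv'kill
    let v : B ⧸ (𝔞 ^ n).map (algebraMap A B) →ₐ[A ⧸ 𝔞 ^ n] C :=
      { v₀.toRingHom with
        commutes' := by
          intro r
          obtain ⟨a, rfl⟩ := Ideal.Quotient.mk_surjective r
          show v₀ (Ideal.Quotient.mk _ (algebraMap A B a)) = _
          show v' (algebraMap A B a) = _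
          rw [v'.commutes]; rfl }
    refine ⟨v, ?_⟩
    ext x
    obtain ⟨b, rfl⟩ := Ideal.Quotient.mk_surjective x
    exact congrArg (fun f => f b) hv'
  · intro h C _ _ J hJ ⟨k, hk⟩ u ⟨m, hu⟩
    have hkill : ∀ a ∈ 𝔞 ^ k, algebraMap A C a = 0 := by
      intro a ha
      have : algebraMap A C a ∈ (𝔞 ^ k).map (algebraMap A C) := Ideal.mem_map_of_mem _ ha
      rwa [hk] at this
    letI : Algebra (A ⧸ 𝔞 ^ k) C :=
      (Ideal.Quotient.lift (𝔞 ^ k) (algebraMap A C) hkill).toAlgebra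
    have htower : IsScalarTower A (A ⧸ 𝔞 ^ k) C := IsScalarTower.of_algebraMap_eq fun a => rfl
    have hukill : ∀ x ∈ (𝔞 ^ k).map (algebraMap A B), u x = 0 := by
      intro x hx
      have h1 : (𝔞 ^ k).map (algebraMap A B) ≤ RingHom.ker u.toRingHom := by
        rw [Ideal.map_le_iff_le_comap]
        intro a ha
        show u (algebraMap A B a) = 0
        rw [u.commutes, IsScalarTower.algebraMap_apply A C (C ⧸ J), hkill a ha, map_zero]
      exact h1 hx
    let u₀ : B ⧸ (𝔞 ^ k).map (algebraMap A B) →ₐ[A] C ⧸ J := Ideal.Quotient.liftₐ _ u hukill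
    let ū : B ⧸ (𝔞 ^ k).map (algebraMap A B) →ₐ[A ⧸ 𝔞 ^ k] C ⧸ J :=
      { u₀.toRingHom with
        commutes' := by
          intro r
          obtain ⟨a, rfl⟩ := Ideal.Quotient.mk_surjective r
          show u (algebraMap A B a) = _
          rw [u.commutes]; rfl }
    have hū : ∃ k' : ℕ, ∀ x ∈ (𝔟.map (Ideal.Quotient.mk ((𝔞 ^ k).map (algebraMap A B)))) ^ k',
        ū x = 0 := by
      refine ⟨m, fun x hx => ?_⟩
      rw [← Ideal.map_pow] at hx
      obtain ⟨b, hb, rfl⟩ := (Ideal.mem_map_iff_of_surjective _ Ideal.Quotient.mk_surjective).mp hx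
      exact hu b hb
    obtain ⟨vq, hvq⟩ := h k C J hJ ⟨1, by simp⟩ ū hū
    refine ⟨(vq.restrictScalars A).comp (Ideal.Quotient.mkₐ A ((𝔞 ^ k).map (algebraMap A B))), ?_⟩
    ext b
    exact congrArg (fun f => f (Ideal.Quotient.mk _ b)) hvq

end Groth.Agent.S4536
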