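import Groth.Statements.S4540
import Mathlib
import Groth.Agent.S4544
import Groth.Agent.Lib.Helper12.KaplanskyLocal
-- import your own Groth.Agent.* helpers here

set_option autoImplicit false
universe u
open EGA41

namespace Groth.Agent.S4540

open EGA41 IsLocalRing TensorProduct


open IsLocalRing TensorProduct in
/-- Let A, B be Noetherian local rings and A → B a local homomorphism making B a formally smooth
A-algebra for the adic topologies of the maximal ideals. Then for every ideal of definition 𝔟 of B,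
the (B/𝔟)-module Ω_{B/A} ⊗_B (B/𝔟) is free. -/
theorem result {A B : Type u} [CommRing A] [IsLocalRing A]
    [IsNoetherianRing A] [CommRing B] [IsLocalRing B] [IsNoetherianRing B] [Algebra A B] [IsLocalHom (algebraMap A B)]
    (h : EGA41.IsFormallySmoothAdic A (maximalIdeal A) B (maximalIdeal B))
    (𝔟 : Ideal B) (hle : 𝔟 ≤ maximalIdeal B) (hpow : ∃ k : ℕ, maximalIdeal B ^ k ≤ 𝔟) :
    Module.Free (B ⧸ 𝔟) ((B ⧸ 𝔟) ⊗[B] Ω[B⁄A]) := by
  have hne : 𝔟 ≠ ⊤ := fun h' => (maximalIdeal.isMaximal B).ne_top (top_le_iff.1 (h' ▸ hle))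
  have : Nontrivial (B ⧸ 𝔟) := Ideal.Quotient.nontrivial_iff.2 hne
  have : IsLocalRing (B ⧸ 𝔟) :=
    IsLocalRing.of_surjective' (Ideal.Quotient.mk 𝔟) Ideal.Quotient.mk_surjective
  have : Module.Projective (B ⧸ 𝔟) ((B ⧸ 𝔟) ⊗[B] Ω[B⁄A]) :=
    Groth.Agent.S4544.result (maximalIdeal A) (maximalIdeal B)
      ⟨1, by
        rw [pow_one]
        exact ((IsLocalRing.local_hom_TFAE (algebraMap A B)).out 0 2).1 ‹_›⟩ h 𝔟 hpow
  exact Groth.Agent.Lib.Helper12.Kap.free_of_projective_of_isLocalRing _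

end Groth.Agent.S4540
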