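import Groth.Statements.S4543
import Mathlib
import Groth.Agent.S4542
import Groth.Agent.Lib.Helper23.AdicIso
-- import your own Groth.Agent.* helpers here

set_option autoImplicit false
universe u
open EGA41

namespace Groth.Agent.S4543

open EGA41 IsLocalRing


open IsLocalRing in
/-- Let A be a Noetherian ring, J an ideal of A, B and B' two A-algebras which are Noetherian local
rings, the structure maps being continuous for the J-adic topology on A (JB and JB' lie in the
maximal ideals); suppose B and B' are complete for the J-adic topologies, B is a formally smooth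
A-algebra for the J-adic topology on A and the JB-adic topology on B (nilpotent test ideals, test
algebras killed by a power of J, test maps killing a power of JB), and B' is a flat A-module. Then
every (A/J)-algebra isomorphism u₀ : B/JB ≅ B'/JB' comes from an A-algebra isomorphism u : B ≅ B' by
passing to quotients. (B is taken formally smooth for the JB-adic topology, the topology along which
the argument lifts B → B'/JB' to B'; read with the convention that a local ring carries the adic
topology of its maximal ideal, the published hypothesis would be formal smoothness for the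
maximal-ideal topology on B, a weaker condition when JB is strictly smaller than the maximal ideal,
and that reading is not what the argument establishes.) -/
theorem result {A B B' : Type u} [CommRing A] [IsNoetherianRing A] (J : Ideal A)
    [CommRing B] [IsLocalRing B] [IsNoetherianRing B] [Algebra A B]
    [CommRing B'] [IsLocalRing B'] [IsNoetherianRing B'] [Algebra A B']
    (hB : J.map (algebraMap A B) ≤ maximalIdeal B) (hB' : J.map (algebraMap A B') ≤ maximalIdeal B')
    [IsAdicComplete (J.map (algebraMap A B)) B] [IsAdicComplete (J.map (algebraMap A B')) B']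
    (hfs : EGA41.IsFormallySmoothAdic A J B (J.map (algebraMap A B))) [Module.Flat A B']
    (u₀ : (B ⧸ J.map (algebraMap A B)) ≃ₐ[A ⧸ J] (B' ⧸ J.map (algebraMap A B'))) :
    ∃ u : B ≃ₐ[A] B', ∀ b : B,
      Ideal.Quotient.mk (J.map (algebraMap A B')) (u b) = u₀ (Ideal.Quotient.mk (J.map (algebraMap A B)) b) := by
  have : IsScalarTower A (A ⧸ J) (B ⧸ J.map (algebraMap A B)) := inferInstance
  have : IsScalarTower A (A ⧸ J) (B' ⧸ J.map (algebraMap A B')) := inferInstance
  let w : B →ₐ[A] B' ⧸ J.map (algebraMap A B') :=
    ((u₀.restrictScalars A).toAlgHom).comp (Ideal.Quotient.mkₐ A _)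
  have hw : ∀ b, w b = u₀ (Ideal.Quotient.mk _ b) := fun b => rfl
  have hbot : (J.map (algebraMap A B')).map (Ideal.Quotient.mk (J.map (algebraMap A B'))) = ⊥ :=
    Ideal.map_quotient_self _
  have hH : IsHausdorff ((J.map (algebraMap A B')).map (Ideal.Quotient.mk (J.map (algebraMap A B'))))
      (B' ⧸ J.map (algebraMap A B')) := by
    rw [hbot]
    refine ⟨fun x hx => ?_⟩
    have := hx 1
    simpa [SModEq.zero] using this
  have hwk : ∃ k : ℕ, ((J.map (algebraMap A B)) ^ k).map w.toRingHom ≤
      (J.map (algebraMap A B')).map (Ideal.Quotient.mk (J.map (algebraMap A B'))) := by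
    refine ⟨1, ?_⟩
    rw [pow_one, hbot, Ideal.map_le_iff_le_comap]
    intro b hb
    show w b = 0
    rw [hw, Ideal.Quotient.eq_zero_iff_mem.2 hb, map_zero]
  obtain ⟨v, -, hv⟩ := Groth.Agent.S4542.result J (J.map (algebraMap A B)) (J.map (algebraMap A B'))
    hfs ⟨1, by rw [pow_one]⟩ (J.map (algebraMap A B')) ⟨1, by rw [pow_one]⟩ w hwk
  have hv' : ∀ b, Ideal.Quotient.mk (J.map (algebraMap A B')) (v b) =
      u₀ (Ideal.Quotient.mk (J.map (algebraMap A B)) b) := fun b => congrArg (fun f => f b) hv
  have hcB : IsAdicComplete J B := (IsAdicComplete.map_algebraMap_iff (S := B) J B).1 ‹_›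
  have hcB' : IsAdicComplete J B' := (IsAdicComplete.map_algebraMap_iff (S := B') J B').1 ‹_›
  have hmemB : ∀ b : B, b ∈ J • (⊤ : Submodule A B) ↔ b ∈ J.map (algebraMap A B) := by
    intro b; rw [Ideal.smul_top_eq_map]; rfl
  have hmemB' : ∀ b : B', b ∈ J • (⊤ : Submodule A B') ↔ b ∈ J.map (algebraMap A B') := by
    intro b; rw [Ideal.smul_top_eq_map]; rfl
  have hbij : Function.Bijective v.toLinearMap := by
    apply Groth.Agent.Lib.Helper23.AdicIso.bijective_of_flat J
    · intro y
      obtain ⟨m, hm⟩ := Ideal.Quotient.mk_surjective (u₀.symm (Ideal.Quotient.mk _ y))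
      refine ⟨m, ?_⟩
      rw [hmemB', ← Ideal.Quotient.eq]
      show _ = Ideal.Quotient.mk _ (v m)
      rw [hv', hm, AlgEquiv.apply_symm_apply]
    · intro m hm
      rw [hmemB] 
      rw [hmemB'] at hm
      have h1 : Ideal.Quotient.mk _ (v m) = 0 := Ideal.Quotient.eq_zero_iff_mem.2 hm
      rw [hv'] at h1
      exact Ideal.Quotient.eq_zero_iff_mem.1 ((map_eq_zero_iff u₀ u₀.injective).1 h1)
  exact ⟨AlgEquiv.ofBijective v hbij, hv'⟩

end Groth.Agent.S4543
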