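import Groth.Statements.S4551
import Mathlib
import Groth.Agent.Lib.Helper23.CompletedKaehlerPS
import Groth.Agent.Lib.Helper23.GeomRegular
import Groth.Agent.Lib.Helper18.PMor4
-- import your own Groth.Agent.* helpers here

set_option autoImplicit false
universe u
open EGA41

namespace Groth.Agent.S4551

open TensorProduct IsLocalRing

/-- fraction field of a geometrically reduced domain is geometrically reduced. -/
theorem isGeometricallyReduced_fractionRing (k : Type u) [Field k] (A : Type u) [CommRing A]
    [IsDomain A] [Algebra k A] [Algebra.IsGeometricallyReduced k A] :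
    Algebra.IsGeometricallyReduced k (FractionRing A) := by
  rw [Algebra.isGeometricallyReduced_field_iff]
  set K := FractionRing A
  set Ω := AlgebraicClosure k
  let ι : Ω ⊗[k] A →ₐ[Ω] Ω ⊗[k] K :=
    Algebra.TensorProduct.map (AlgHom.id Ω Ω) (IsScalarTower.toAlgHom k A K)
  have hι : Function.Injective ι := by
    have : Function.Injective (LinearMap.lTensor Ω (IsScalarTower.toAlgHom k A K).toLinearMap) :=
      Module.Flat.lTensor_preserves_injective_linearMap _ (IsFractionRing.injective A K)
    intro x y hxy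
    apply this
    have h1 : ∀ z, ι z = LinearMap.lTensor Ω (IsScalarTower.toAlgHom k A K).toLinearMap z := by
      intro z
      induction z using TensorProduct.induction_on with
      | zero => simp
      | tmul a b => simp [ι]
      | add a b ha hb => rw [map_add, map_add, ha, hb]
    rw [← h1, ← h1, hxy]
  -- every element has a denominator
  have hden : ∀ x : Ω ⊗[k] K, ∃ f : A, f ≠ 0 ∧
      ((1 : Ω) ⊗ₜ[k] (algebraMap A K f)) * x ∈ Set.range ι := by
    intro x
    induction x using TensorProduct.induction_on with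
    | zero => exact ⟨1, one_ne_zero, 0, by simp⟩
    | tmul c y =>
      obtain ⟨a, s, rfl⟩ := IsLocalization.exists_mk'_eq (nonZeroDivisors A) y
      refine ⟨s, nonZeroDivisors.ne_zero s.2, c ⊗ₜ a, ?_⟩
      simp only [ι, Algebra.TensorProduct.map_tmul, AlgHom.coe_id, id_eq,
        IsScalarTower.coe_toAlgHom', Algebra.TensorProduct.tmul_mul_tmul, one_mul]
      congr 1
      rw [mul_comm, IsLocalization.mk'_spec]
    | add x y hx hy =>
      obtain ⟨f, hf, x', hx'⟩ := hx
      obtain ⟨g, hg, y', hy'⟩ := hy
      refine ⟨f * g, mul_ne_zero hf hg,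
        ((1 : Ω) ⊗ₜ[k] g) * x' + ((1 : Ω) ⊗ₜ[k] f) * y', ?_⟩
      rw [map_add, map_mul, map_mul, hx', hy']
      have e1 : ι ((1 : Ω) ⊗ₜ[k] g) = (1 : Ω) ⊗ₜ[k] (algebraMap A K g) := by simp [ι]
      have e2 : ι ((1 : Ω) ⊗ₜ[k] f) = (1 : Ω) ⊗ₜ[k] (algebraMap A K f) := by simp [ι]
      rw [e1, e2, map_mul]
      have e3 : (1 : Ω) ⊗ₜ[k] (algebraMap A K f * algebraMap A K g) =
          ((1 : Ω) ⊗ₜ[k] (algebraMap A K f)) * ((1 : Ω) ⊗ₜ[k] (algebraMap A K g)) := by
        rw [Algebra.TensorProduct.tmul_mul_tmul, one_mul]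
      rw [e3]
      ring
  constructor
  intro x hx
  obtain ⟨f, hf, y, hy⟩ := hden x
  have hy0 : y = 0 := by
    have hnil : IsNilpotent y := by
      obtain ⟨n, hn⟩ := hx
      refine ⟨n, hι ?_⟩
      rw [map_pow, hy, mul_pow, hn, mul_zero, map_zero]
    exact (isReduced_iff _).mp inferInstance y hnil
  rw [hy0, map_zero] at hy
  have hunit : IsUnit ((1 : Ω) ⊗ₜ[k] (algebraMap A K f)) := by
    have : IsUnit (algebraMap A K f) := by
      rw [isUnit_iff_ne_zero]
      intro h0
      exact hf ((IsFractionRing.injective A K) (by rw [h0, map_zero]))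
    exact this.map (Algebra.TensorProduct.includeRight : K →ₐ[k] Ω ⊗[k] K)
  exact (hunit.mul_right_eq_zero).mp hy.symm


/-- For every field k (any characteristic) the field of fractions k((T_1, …, T_r)) of the power series
ring k[[T_1, …, T_r]] is a separable extension of k, i.e. it is geometrically reduced over k. -/
theorem result (k : Type u) [Field k] (r : ℕ) :
    Algebra.IsGeometricallyReduced k (FractionRing (MvPowerSeries (Fin r) k)) := by
  have hfs : CAlgX.IsAdicFormallySmooth k (MvPowerSeries (Fin r) k)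
      (maximalIdeal (MvPowerSeries (Fin r) k)) :=
    Groth.Agent.Lib.Helper23.CohenEq2.adic_of_regular_of_sep
      (Groth.Agent.Lib.Helper1.ArtFunLib.isRegularLocalRing_mvPowerSeries k r)
  have h2 := Groth.Agent.Lib.Helper23.GeomRegular.geomRegular_iff_adic.mpr hfs
  haveI := Groth.Agent.Lib.Helper18.PMor.isGeometricallyReduced_of_isGeometricallyRegular h2
  haveI : IsDomain (MvPowerSeries (Fin r) k) := NoZeroDivisors.to_isDomain _
  exact isGeometricallyReduced_fractionRing k _

end Groth.Agent.S4551
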