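import Groth.Statements.S4553
import Mathlib
import Groth.Agent.S4542
-- import your own Groth.Agent.* helpers here

set_option autoImplicit false
universe u
open EGA41

namespace Groth.Agent.S4553


section quotMap
variable {A : Type*} [CommRing A] (𝔞 : Ideal A) {X Y : Type*} [CommRing X] [CommRing Y]
  [Algebra A X] [Algebra A Y]

/-- the `A/𝔞`-algebra map `X/𝔞X → Y/𝔞Y` induced by an `A`-algebra map `X → Y` -/
noncomputable def quotMap (f : X →ₐ[A] Y) :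
    (X ⧸ 𝔞.map (algebraMap A X)) →ₐ[A ⧸ 𝔞] (Y ⧸ 𝔞.map (algebraMap A Y)) :=
  { Ideal.quotientMap (𝔞.map (algebraMap A Y)) f.toRingHom (by
      rw [Ideal.map_le_iff_le_comap]
      intro a ha
      show f (algebraMap A X a) ∈ 𝔞.map (algebraMap A Y)
      rw [f.commutes]
      exact Ideal.mem_map_of_mem _ ha) with
    commutes' := by
      intro r
      obtain ⟨a, rfl⟩ := Ideal.Quotient.mk_surjective r
      show Ideal.quotientMap _ f.toRingHom _ (Ideal.Quotient.mk _ (algebraMap A X a)) =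
        Ideal.Quotient.mk _ (algebraMap A Y a)
      rw [Ideal.quotientMap_mk]
      show Ideal.Quotient.mk _ (f (algebraMap A X a)) = _
      rw [f.commutes] }

lemma quotMap_mk (f : X →ₐ[A] Y) (x : X) :
    quotMap 𝔞 f (Ideal.Quotient.mk _ x) = Ideal.Quotient.mk _ (f x) := rfl

end quotMap



section
variable {A B : Type u} [CommRing A] [CommRing B] [Algebra A B]

/-- descend a linear map killing an ideal to the quotient ring -/
lemma exists_linearMap_quot {M : Type*} [AddCommGroup M] [Module A M] (I : Ideal B)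
    (w : B →ₗ[A] M) (hw : ∀ x ∈ I, w x = 0) :
    ∃ wbar : (B ⧸ I) →ₗ[A] M, ∀ b, wbar (Ideal.Quotient.mk I b) = w b := by
  let f : B →ₗ[A] (B ⧸ I) := (Ideal.Quotient.mkₐ A I).toLinearMap
  have hf : Function.Surjective f := Ideal.Quotient.mk_surjective
  have hker : LinearMap.ker f ≤ LinearMap.ker w := by
    intro x hx
    have : Ideal.Quotient.mk I x = 0 := hx
    exact hw x (Ideal.Quotient.eq_zero_iff_mem.1 this)
  refine ⟨((LinearMap.ker f).liftQ w hker) ∘ₗ (f.quotKerEquivOfSurjective hf).symm.toLinearMap, ?_⟩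
  intro b
  have h1 : (f.quotKerEquivOfSurjective hf).symm (Ideal.Quotient.mk I b) =
      Submodule.Quotient.mk b := by
    rw [LinearEquiv.symm_apply_eq]
    rfl
  simp only [LinearMap.comp_apply, LinearEquiv.coe_coe, h1, Submodule.liftQ_apply]

end

lemma isNilpotent_of_mul_eq_zero {R : Type*} [CommRing R] (I : Ideal R)
    (h : ∀ x ∈ I, ∀ y ∈ I, x * y = 0) : IsNilpotent I := by
  refine ⟨2, ?_⟩
  rw [Ideal.zero_eq_bot, eq_bot_iff, pow_two, Ideal.mul_le]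
  intro x hx y hy
  rw [Ideal.mem_bot]
  exact h x hx y hy



theorem innerLift {A B : Type u} [CommRing A] [CommRing B] [Algebra A B] (𝔞 : Ideal A) (𝔟 : Ideal B)
    (hB₀ : IsFormallySmoothAdic (A ⧸ 𝔞) ⊥ (B ⧸ 𝔞.map (algebraMap A B))
      (𝔟.map (Ideal.Quotient.mk (𝔞.map (algebraMap A B)))))
    {E Bm : Type u} [CommRing E] [CommRing Bm] [Algebra A E] [Algebra A Bm]
    (ρ : B →ₐ[A] Bm) (hρ : ∃ N : ℕ, ∀ x ∈ 𝔟 ^ N, ρ x = 0)
    (p₂ : E →ₐ[A] Bm) (hp₂ : Function.Surjective p₂)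
    (H1 : ∀ e e' : E, p₂ e = 0 → p₂ e' = 0 → e * e' = 0)
    (H2 : ∀ d ∈ 𝔞.map (algebraMap A E), p₂ d = 0 → d = 0) :
    ∃ vt : B →ₐ[A] E, ∀ b, p₂ (vt b) = ρ b := by
  let ψ : (E ⧸ 𝔞.map (algebraMap A E)) →ₐ[A ⧸ 𝔞] (Bm ⧸ 𝔞.map (algebraMap A Bm)) := quotMap 𝔞 p₂
  let g : (B ⧸ 𝔞.map (algebraMap A B)) →ₐ[A ⧸ 𝔞] (Bm ⧸ 𝔞.map (algebraMap A Bm)) := quotMap 𝔞 ρ
  have hmapE : (𝔞.map (algebraMap A E)).map p₂.toRingHom = 𝔞.map (algebraMap A Bm) := by
    rw [Ideal.map_map]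
    congr 1
    exact p₂.comp_algebraMap
  have hcorr : ∀ e : E, p₂ e ∈ 𝔞.map (algebraMap A Bm) →
      ∃ d ∈ 𝔞.map (algebraMap A E), p₂ d = p₂ e := by
    intro e he
    rw [← hmapE] at he
    obtain ⟨d, hd, hde⟩ := (Ideal.mem_map_iff_of_surjective p₂.toRingHom hp₂).1 he
    exact ⟨d, hd, hde⟩
  have hψker : IsNilpotent (RingHom.ker ψ) := by
    apply isNilpotent_of_mul_eq_zero
    have hrep : ∀ x ∈ RingHom.ker ψ, ∃ e : E, Ideal.Quotient.mk _ e = x ∧ p₂ e = 0 := by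
      intro x hx
      obtain ⟨e₁, rfl⟩ := Ideal.Quotient.mk_surjective x
      have h1 : Ideal.Quotient.mk (𝔞.map (algebraMap A Bm)) (p₂ e₁) = 0 := hx
      obtain ⟨d, hd, hde⟩ := hcorr e₁ (Ideal.Quotient.eq_zero_iff_mem.1 h1)
      refine ⟨e₁ - d, ?_, ?_⟩
      · rw [map_sub, Ideal.Quotient.eq_zero_iff_mem.2 hd, sub_zero]
      · rw [map_sub, hde, sub_self]
    intro x hx y hy
    obtain ⟨e, rfl, he⟩ := hrep x hx
    obtain ⟨e', rfl, he'⟩ := hrep y hy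
    rw [← map_mul, H1 e e' he he', map_zero]
  obtain ⟨N, hN⟩ := hρ
  have hg : ∃ N : ℕ, ∀ x ∈ (𝔟.map (Ideal.Quotient.mk (𝔞.map (algebraMap A B)))) ^ N, g x = 0 := by
    refine ⟨N, ?_⟩
    rw [← Ideal.map_pow]
    have : (𝔟 ^ N).map (Ideal.Quotient.mk (𝔞.map (algebraMap A B))) ≤ RingHom.ker g := by
      rw [Ideal.map_le_iff_le_comap]
      intro b hb
      show g (Ideal.Quotient.mk _ b) = 0
      rw [quotMap_mk, hN b hb, map_zero]
    exact fun x hx => this hx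
  have hrange : ∀ b₀, ∃ r, ψ r = g b₀ := by
    intro b₀
    obtain ⟨b, rfl⟩ := Ideal.Quotient.mk_surjective b₀
    obtain ⟨e, he⟩ := hp₂ (ρ b)
    exact ⟨Ideal.Quotient.mk _ e, by rw [quotMap_mk, quotMap_mk, he]⟩
  have hdisc₀ : ∃ k : ℕ, ((⊥ : Ideal (A ⧸ 𝔞)) ^ k).map
      (algebraMap (A ⧸ 𝔞) (E ⧸ 𝔞.map (algebraMap A E))) = ⊥ := ⟨1, by rw [pow_one, Ideal.map_bot]⟩
  obtain ⟨s₀, hs₀, -⟩ := Groth.Agent.S4542.lift_of_ker_nilpotent hB₀ ψ hψker hdisc₀ g hg hrange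
  -- existence and uniqueness of the glued element
  have hex : ∀ b : B, ∃ e : E, p₂ e = ρ b ∧
      Ideal.Quotient.mk (𝔞.map (algebraMap A E)) e = s₀ (Ideal.Quotient.mk _ b) := by
    intro b
    obtain ⟨e₁, he₁⟩ := Ideal.Quotient.mk_surjective (s₀ (Ideal.Quotient.mk _ b))
    have h1 : Ideal.Quotient.mk (𝔞.map (algebraMap A Bm)) (p₂ e₁) =
        Ideal.Quotient.mk (𝔞.map (algebraMap A Bm)) (ρ b) := by
      have := hs₀ (Ideal.Quotient.mk _ b)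
      rw [← he₁, quotMap_mk, quotMap_mk] at this
      exact this
    rw [Ideal.Quotient.eq] at h1
    obtain ⟨e₂, he₂⟩ := hp₂ (p₂ e₁ - ρ b)
    obtain ⟨d, hd, hde⟩ := hcorr e₂ (he₂ ▸ h1)
    refine ⟨e₁ - d, ?_, ?_⟩
    · rw [map_sub, hde, he₂]; ring
    · rw [map_sub, Ideal.Quotient.eq_zero_iff_mem.2 hd, sub_zero, he₁]
  have huniq : ∀ e e' : E, p₂ e = p₂ e' →
      Ideal.Quotient.mk (𝔞.map (algebraMap A E)) e = Ideal.Quotient.mk _ e' → e = e' := by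
    intro e e' h1 h2
    rw [Ideal.Quotient.eq] at h2
    have := H2 (e - e') h2 (by rw [map_sub, h1, sub_self])
    exact sub_eq_zero.1 this
  choose vt hvt1 hvt2 using hex
  have hchar : ∀ (b : B) (e : E), p₂ e = ρ b →
      Ideal.Quotient.mk (𝔞.map (algebraMap A E)) e = s₀ (Ideal.Quotient.mk _ b) → vt b = e :=
    fun b e h1 h2 => huniq _ _ ((hvt1 b).trans h1.symm) ((hvt2 b).trans h2.symm)
  refine ⟨{ toFun := vt
            map_one' := hchar 1 1 (by rw [map_one, map_one]) (by rw [map_one, map_one, map_one])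
            map_mul' := fun b b' => hchar _ _ (by rw [map_mul, map_mul, hvt1, hvt1])
              (by rw [map_mul, map_mul, map_mul, hvt2, hvt2])
            map_zero' := hchar 0 0 (by rw [map_zero, map_zero]) (by rw [map_zero, map_zero, map_zero])
            map_add' := fun b b' => hchar _ _ (by rw [map_add, map_add, hvt1, hvt1])
              (by rw [map_add, map_add, map_add, hvt2, hvt2])
            commutes' := fun a => hchar _ _ (by rw [AlgHom.commutes, AlgHom.commutes]) (by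
              have h1 : Ideal.Quotient.mk (𝔞.map (algebraMap A B)) (algebraMap A B a) =
                  algebraMap (A ⧸ 𝔞) (B ⧸ 𝔞.map (algebraMap A B)) (Ideal.Quotient.mk 𝔞 a) := rfl
              rw [h1, AlgHom.commutes]
              rfl) }, hvt1⟩



theorem smallStep {A B : Type u} [CommRing A] [CommRing B] [Algebra A B] (𝔞 : Ideal A) (𝔟 : Ideal B)
    (hproj : ∀ (n : ℕ) (P Q : Type u) [AddCommGroup P] [Module A P] [AddCommGroup Q] [Module A Q],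
      (∀ a ∈ 𝔞 ^ n, ∀ y : P, a • y = 0) → (∀ a ∈ 𝔞 ^ n, ∀ y : Q, a • y = 0) →
      ∀ f : P →ₗ[A] Q, Function.Surjective f → ∀ v : B →ₗ[A] Q, (∃ m : ℕ, ∀ x ∈ 𝔟 ^ m, v x = 0) →
        ∃ w : B →ₗ[A] P, (∃ m : ℕ, ∀ x ∈ 𝔟 ^ m, w x = 0) ∧ f ∘ₗ w = v)
    (hB₀ : IsFormallySmoothAdic (A ⧸ 𝔞) ⊥ (B ⧸ 𝔞.map (algebraMap A B))
      (𝔟.map (Ideal.Quotient.mk (𝔞.map (algebraMap A B)))))
    {C' C'' : Type u} [CommRing C'] [CommRing C''] [Algebra A C'] [Algebra A C'']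
    (π : C' →ₐ[A] C'') (hπ : Function.Surjective π)
    (hK2 : ∀ x y, π x = 0 → π y = 0 → x * y = 0)
    (h𝔞K : ∀ a ∈ 𝔞, ∀ x, π x = 0 → a • x = 0)
    (hdisc : ∃ k : ℕ, (𝔞 ^ k).map (algebraMap A C') = ⊥)
    (u : B →ₐ[A] C'') (hu : ∃ m : ℕ, ∀ x ∈ 𝔟 ^ m, u x = 0) :
    ∃ v : B →ₐ[A] C', (∀ b, π (v b) = u b) ∧ ∃ m : ℕ, ∀ x ∈ 𝔟 ^ m, v x = 0 := by
  obtain ⟨k, hk⟩ := hdisc
  obtain ⟨m, hm⟩ := hu
  have hkC' : ∀ a ∈ 𝔞 ^ k, ∀ y : C', a • y = 0 := by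
    intro a ha y
    have : algebraMap A C' a ∈ (𝔞 ^ k).map (algebraMap A C') := Ideal.mem_map_of_mem _ ha
    rw [hk, Ideal.mem_bot] at this
    rw [Algebra.smul_def, this, zero_mul]
  have hkC'' : ∀ a ∈ 𝔞 ^ k, ∀ y : C'', a • y = 0 := by
    intro a ha y
    obtain ⟨y', rfl⟩ := hπ y
    rw [← map_smul, hkC' a ha, map_zero]
  obtain ⟨w, ⟨m', hm'⟩, hw⟩ := hproj k C' C'' hkC' hkC'' π.toLinearMap hπ u.toLinearMap ⟨m, hm⟩
  have hπw : ∀ b, π (w b) = u b := fun b => congrArg (fun f => f b) hw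
  have hle1 : 𝔟 ^ (m + m') ≤ 𝔟 ^ m := Ideal.pow_le_pow_right (Nat.le_add_right _ _)
  have hle2 : 𝔟 ^ (m + m') ≤ 𝔟 ^ m' := Ideal.pow_le_pow_right (Nat.le_add_left _ _)
  -- the quotient `Bₘ`
  let ubar : (B ⧸ 𝔟 ^ (m + m')) →ₐ[A] C'' :=
    Ideal.Quotient.liftₐ (𝔟 ^ (m + m')) u (fun x hx => hm x (hle1 hx))
  have hubar : ∀ b, ubar (Ideal.Quotient.mk _ b) = u b := fun b => rfl
  obtain ⟨wbar, hwbar⟩ := exists_linearMap_quot (A := A) (𝔟 ^ (m + m')) w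
    (fun x hx => hm' x (hle2 hx))
  have hπwbar : ∀ β, π (wbar β) = ubar β := by
    intro β
    obtain ⟨b, rfl⟩ := Ideal.Quotient.mk_surjective β
    rw [hwbar, hπw, hubar]
  -- the fibre product
  let E : Subalgebra A (C' × (B ⧸ 𝔟 ^ (m + m'))) :=
    AlgHom.equalizer (π.comp (AlgHom.fst A C' (B ⧸ 𝔟 ^ (m + m'))))
      (ubar.comp (AlgHom.snd A C' (B ⧸ 𝔟 ^ (m + m'))))
  have hE : ∀ e : E, π e.1.1 = ubar e.1.2 := fun e => e.2
  let pr₁ : E →ₐ[A] C' := (AlgHom.fst A C' (B ⧸ 𝔟 ^ (m + m'))).comp E.val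
  let pr₂ : E →ₐ[A] (B ⧸ 𝔟 ^ (m + m')) := (AlgHom.snd A C' (B ⧸ 𝔟 ^ (m + m'))).comp E.val
  have hpr₂surj : Function.Surjective pr₂ := by
    intro β
    obtain ⟨c, hc⟩ := hπ (ubar β)
    exact ⟨⟨(c, β), hc⟩, rfl⟩
  let κ : E →ₗ[A] C' := pr₁.toLinearMap - wbar ∘ₗ pr₂.toLinearMap
  have hκ : ∀ e : E, κ e = e.1.1 - wbar e.1.2 := fun e => rfl
  have hπκ : ∀ e : E, π (κ e) = 0 := by
    intro e
    rw [hκ, map_sub, hπwbar, hE, sub_self]
  have hκ𝔞 : ∀ d ∈ 𝔞.map (algebraMap A E), κ d = 0 := by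
    intro d hd
    have hP : ∀ e : E, κ (e * d) = 0 := by
      refine Submodule.span_induction (p := fun x _ => ∀ e : E, κ (e * x) = 0) ?_ ?_ ?_ ?_ hd
      · rintro _ ⟨a, ha, rfl⟩ e
        have : e * algebraMap A E a = a • e := by rw [Algebra.smul_def, mul_comm]
        rw [this, map_smul]
        exact h𝔞K a ha _ (hπκ e)
      · intro e; rw [mul_zero, map_zero]
      · intro x y _ _ hx hy e
        rw [mul_add, map_add, hx, hy, add_zero]
      · intro r x _ hx e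
        rw [smul_eq_mul, ← mul_assoc]
        exact hx (e * r)
    have := hP 1
    rwa [one_mul] at this
  have H1 : ∀ e e' : E, pr₂ e = 0 → pr₂ e' = 0 → e * e' = 0 := by
    intro e e' he he'
    apply Subtype.ext
    refine Prod.ext ?_ ?_
    · show e.1.1 * e'.1.1 = 0
      apply hK2
      · rw [hE]; show ubar (pr₂ e) = 0; rw [he, map_zero]
      · rw [hE]; show ubar (pr₂ e') = 0; rw [he', map_zero]
    · show pr₂ e * pr₂ e' = 0
      rw [he, zero_mul]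
  have H2 : ∀ d ∈ 𝔞.map (algebraMap A E), pr₂ d = 0 → d = 0 := by
    intro d hd hd2
    have h1 := hκ𝔞 d hd
    rw [hκ] at h1
    have h2 : d.1.2 = 0 := hd2
    rw [h2, map_zero, sub_zero] at h1
    apply Subtype.ext
    exact Prod.ext h1 h2
  obtain ⟨vt, hvt⟩ := innerLift 𝔞 𝔟 hB₀ (Ideal.Quotient.mkₐ A (𝔟 ^ (m + m')))
    ⟨m + m', fun x hx => Ideal.Quotient.eq_zero_iff_mem.2 hx⟩ pr₂ hpr₂surj H1 H2
  have hπv : ∀ b, π (pr₁ (vt b)) = u b := by
    intro b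
    show π (vt b).1.1 = u b
    rw [hE]
    show ubar (pr₂ (vt b)) = u b
    rw [hvt]
    rfl
  refine ⟨pr₁.comp vt, hπv, 2 * (m + m'), ?_⟩
  intro x hx
  rw [mul_comm, pow_mul, pow_two] at hx
  refine Submodule.mul_induction_on hx ?_ ?_
  · intro y hy y' hy'
    rw [map_mul]
    apply hK2
    · show π (pr₁ (vt y)) = 0
      rw [hπv, hm y (hle1 hy)]
    · show π (pr₁ (vt y')) = 0
      rw [hπv, hm y' (hle1 hy')]
  · intro y y' hy hy'
    rw [map_add, hy, hy', add_zero]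



theorem of_base {A B : Type u} [CommRing A] [CommRing B] [Algebra A B] (𝔞 : Ideal A) (𝔟 : Ideal B)
    (hproj : ∀ (n : ℕ) (P Q : Type u) [AddCommGroup P] [Module A P] [AddCommGroup Q] [Module A Q],
      (∀ a ∈ 𝔞 ^ n, ∀ y : P, a • y = 0) → (∀ a ∈ 𝔞 ^ n, ∀ y : Q, a • y = 0) →
      ∀ f : P →ₗ[A] Q, Function.Surjective f → ∀ v : B →ₗ[A] Q, (∃ m : ℕ, ∀ x ∈ 𝔟 ^ m, v x = 0) →
        ∃ w : B →ₗ[A] P, (∃ m : ℕ, ∀ x ∈ 𝔟 ^ m, w x = 0) ∧ f ∘ₗ w = v)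
    (hB₀ : IsFormallySmoothAdic (A ⧸ 𝔞) ⊥ (B ⧸ 𝔞.map (algebraMap A B))
      (𝔟.map (Ideal.Quotient.mk (𝔞.map (algebraMap A B))))) :
    IsFormallySmoothAdic A 𝔞 B 𝔟 := by
  intro C _ _ J hJ hdisc u hu
  obtain ⟨n, hn⟩ := hJ
  obtain ⟨k, hk⟩ := hdisc
  set M : Ideal C := J ⊔ 𝔞.map (algebraMap A C) with hM
  have hMN : M ^ (n + k) = ⊥ := by
    rw [eq_bot_iff]
    refine Ideal.sup_pow_add_le_pow_sup_pow.trans ?_
    rw [hn, ← Ideal.map_pow, hk, Ideal.zero_eq_bot, sup_bot_eq]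
  have hJM : J ≤ M := le_sup_left
  have h𝔞M : ∀ a ∈ 𝔞, algebraMap A C a ∈ M := fun a ha =>
    Ideal.mem_sup_right (Ideal.mem_map_of_mem _ ha)
  have hLJ : ∀ i, J * M ^ i ≤ J := fun i => Ideal.mul_le_left
  have claim : ∀ i : ℕ, ∃ v : B →ₐ[A] C ⧸ (J * M ^ i),
      (∀ b, ∃ c, Ideal.Quotient.mk (J * M ^ i) c = v b ∧ Ideal.Quotient.mk J c = u b) ∧
      ∃ m : ℕ, ∀ x ∈ 𝔟 ^ m, v x = 0 := by
    intro i
    induction i with
    | zero =>
      have h0 : J = J * M ^ 0 := by rw [pow_zero, Ideal.one_eq_top, Ideal.mul_top]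
      refine ⟨(Ideal.quotientEquivAlgOfEq A h0).toAlgHom.comp u, ?_, ?_⟩
      · intro b
        obtain ⟨c, hc⟩ := Ideal.Quotient.mk_surjective (u b)
        refine ⟨c, ?_, hc⟩
        show _ = Ideal.quotientEquivAlgOfEq A h0 (u b)
        rw [← hc, Ideal.quotientEquivAlgOfEq_mk]
      · obtain ⟨m, hm⟩ := hu
        refine ⟨m, fun x hx => ?_⟩
        show Ideal.quotientEquivAlgOfEq A h0 (u x) = 0
        rw [hm x hx, map_zero]
    | succ i ih =>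
      obtain ⟨vi, hvi, hvi0⟩ := ih
      have hle : J * M ^ (i + 1) ≤ J * M ^ i := by
        rw [pow_succ, ← mul_assoc]
        exact Ideal.mul_le_left
      let π : (C ⧸ (J * M ^ (i + 1))) →ₐ[A] (C ⧸ (J * M ^ i)) := Ideal.Quotient.factorₐ A hle
      have hπmk : ∀ c, π (Ideal.Quotient.mk _ c) = Ideal.Quotient.mk _ c := fun c => rfl
      have hπsurj : Function.Surjective π := Ideal.Quotient.factor_surjective hle
      have hker : ∀ x, π x = 0 → ∃ c ∈ J * M ^ i, Ideal.Quotient.mk _ c = x := by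
        intro x hx
        obtain ⟨c, rfl⟩ := Ideal.Quotient.mk_surjective x
        rw [hπmk, Ideal.Quotient.eq_zero_iff_mem] at hx
        exact ⟨c, hx, rfl⟩
      have hmulmem : ∀ c ∈ J * M ^ i, ∀ c' ∈ M, c * c' ∈ J * M ^ (i + 1) := by
        intro c hc c' hc'
        rw [pow_succ, ← mul_assoc]
        exact Ideal.mul_mem_mul hc hc'
      have hK2 : ∀ x y, π x = 0 → π y = 0 → x * y = 0 := by
        intro x y hx hy
        obtain ⟨c, hc, rfl⟩ := hker x hx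
        obtain ⟨c', hc', rfl⟩ := hker y hy
        rw [← map_mul, Ideal.Quotient.eq_zero_iff_mem]
        exact hmulmem c hc c' (hJM (hLJ i hc'))
      have h𝔞K : ∀ a ∈ 𝔞, ∀ x, π x = 0 → a • x = 0 := by
        intro a ha x hx
        obtain ⟨c, hc, rfl⟩ := hker x hx
        rw [Algebra.smul_def, IsScalarTower.algebraMap_apply A C (C ⧸ (J * M ^ (i + 1))),
          Ideal.Quotient.algebraMap_eq, ← map_mul, Ideal.Quotient.eq_zero_iff_mem,
          mul_comm (algebraMap A C a) c]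
        exact hmulmem c hc _ (h𝔞M a ha)
      have hdisc' : ∃ k : ℕ, (𝔞 ^ k).map (algebraMap A (C ⧸ (J * M ^ (i + 1)))) = ⊥ := by
        refine ⟨k, ?_⟩
        rw [IsScalarTower.algebraMap_eq A C (C ⧸ (J * M ^ (i + 1))), ← Ideal.map_map, hk,
          Ideal.map_bot]
      obtain ⟨v', hv', hv'0⟩ := smallStep 𝔞 𝔟 hproj hB₀ π hπsurj hK2 h𝔞K hdisc' vi hvi0
      refine ⟨v', ?_, hv'0⟩
      intro b
      obtain ⟨c', hc'⟩ := Ideal.Quotient.mk_surjective (v' b)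
      obtain ⟨c, hc1, hc2⟩ := hvi b
      refine ⟨c', hc', ?_⟩
      rw [← hc2, Ideal.Quotient.eq]
      apply hLJ i
      rw [← Ideal.Quotient.eq, hc1, ← hv', ← hc', hπmk]
  obtain ⟨vN, hvN, -⟩ := claim (n + k)
  have hbot : J * M ^ (n + k) = ⊥ := by rw [hMN, Ideal.mul_bot]
  let e : (C ⧸ (J * M ^ (n + k))) ≃ₐ[A] C :=
    (Ideal.quotientEquivAlgOfEq A hbot).trans (AlgEquiv.quotientBot A C)
  have he : ∀ c, e (Ideal.Quotient.mk _ c) = c := fun c => rfl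
  refine ⟨e.toAlgHom.comp vN, ?_⟩
  ext b
  obtain ⟨c, hc1, hc2⟩ := hvN b
  show Ideal.Quotient.mk J (e (vN b)) = u b
  rw [← hc1, he, hc2]



theorem to_base {A B : Type u} [CommRing A] [CommRing B] [Algebra A B] (𝔞 : Ideal A) (𝔟 : Ideal B)
    (h : IsFormallySmoothAdic A 𝔞 B 𝔟) :
    IsFormallySmoothAdic (A ⧸ 𝔞) ⊥ (B ⧸ 𝔞.map (algebraMap A B))
      (𝔟.map (Ideal.Quotient.mk (𝔞.map (algebraMap A B)))) := by
  intro C₀ _ _ J hJ _ u₀ hu₀
  letI : Algebra A C₀ := Algebra.compHom C₀ (Ideal.Quotient.mk 𝔞)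
  haveI : IsScalarTower A (A ⧸ 𝔞) C₀ := IsScalarTower.of_algebraMap_eq fun a => rfl
  have halg : ∀ a, algebraMap A C₀ a = algebraMap (A ⧸ 𝔞) C₀ (Ideal.Quotient.mk 𝔞 a) := fun a => rfl
  have hzero : ∀ a ∈ 𝔞, algebraMap A C₀ a = 0 := by
    intro a ha
    rw [halg, Ideal.Quotient.eq_zero_iff_mem.2 ha, map_zero]
  let u : B →ₐ[A] C₀ ⧸ J :=
    { toRingHom := u₀.toRingHom.comp (Ideal.Quotient.mk (𝔞.map (algebraMap A B)))
      commutes' := by
        intro a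
        show u₀ (Ideal.Quotient.mk _ (algebraMap A B a)) = Ideal.Quotient.mk J (algebraMap A C₀ a)
        have h1 : Ideal.Quotient.mk (𝔞.map (algebraMap A B)) (algebraMap A B a) =
            algebraMap (A ⧸ 𝔞) (B ⧸ 𝔞.map (algebraMap A B)) (Ideal.Quotient.mk 𝔞 a) := rfl
        rw [h1, u₀.commutes, halg]
        rfl }
  have hu_apply : ∀ b, u b = u₀ (Ideal.Quotient.mk _ b) := fun b => rfl
  have hdisc : ∃ k : ℕ, (𝔞 ^ k).map (algebraMap A C₀) = ⊥ := by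
    refine ⟨1, ?_⟩
    rw [pow_one, Ideal.map_eq_bot_iff_le_ker]
    exact fun a ha => hzero a ha
  obtain ⟨m, hm⟩ := hu₀
  have hu : ∃ k : ℕ, ∀ x ∈ 𝔟 ^ k, u x = 0 := by
    refine ⟨m, fun x hx => ?_⟩
    rw [hu_apply]
    apply hm
    rw [← Ideal.map_pow]
    exact Ideal.mem_map_of_mem _ hx
  obtain ⟨v, hv⟩ := h C₀ J hJ hdisc u hu
  have hvmk : ∀ b, Ideal.Quotient.mk J (v b) = u₀ (Ideal.Quotient.mk _ b) := fun b =>
    congrArg (fun f => f b) hv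
  have hvker : ∀ x ∈ 𝔞.map (algebraMap A B), v.toRingHom x = 0 := by
    have : 𝔞.map (algebraMap A B) ≤ RingHom.ker v.toRingHom := by
      rw [Ideal.map_le_iff_le_comap]
      intro a ha
      show v (algebraMap A B a) = 0
      rw [v.commutes, hzero a ha]
    exact fun x hx => this hx
  let v₀ : (B ⧸ 𝔞.map (algebraMap A B)) →ₐ[A ⧸ 𝔞] C₀ :=
    { toRingHom := Ideal.Quotient.lift _ v.toRingHom hvker
      commutes' := by
        intro r
        obtain ⟨a, rfl⟩ := Ideal.Quotient.mk_surjective r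
        show Ideal.Quotient.lift _ v.toRingHom hvker (Ideal.Quotient.mk _ (algebraMap A B a)) = _
        rw [Ideal.Quotient.lift_mk]
        show v (algebraMap A B a) = _
        rw [v.commutes, halg] }
  refine ⟨v₀, ?_⟩
  ext x
  obtain ⟨b, rfl⟩ := Ideal.Quotient.mk_surjective x
  exact hvmk b


/-- Let A be 𝔞-adic (a preadmissible ring with ideal of definition 𝔞), B a topological A-algebra for the
𝔟-adic topology (a power of 𝔞 maps into 𝔟) which is a formally projective topological A-module, and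
put A₀ = A/𝔞, B₀ = B/𝔞B with the quotient topologies (A₀ discrete). Then B is a formally smooth
A-algebra if and only if B₀ is a formally smooth A₀-algebra. -/
theorem result {A B : Type u} [CommRing A] [CommRing B] [Algebra A B]
    (𝔞 : Ideal A) (𝔟 : Ideal B) (hAB : ∃ k : ℕ, (𝔞 ^ k).map (algebraMap A B) ≤ 𝔟)
    (hproj : ∀ (n : ℕ) (P Q : Type u) [AddCommGroup P] [Module A P] [AddCommGroup Q] [Module A Q],
      (∀ a ∈ 𝔞 ^ n, ∀ y : P, a • y = 0) → (∀ a ∈ 𝔞 ^ n, ∀ y : Q, a • y = 0) →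
      ∀ f : P →ₗ[A] Q, Function.Surjective f → ∀ v : B →ₗ[A] Q, (∃ m : ℕ, ∀ x ∈ 𝔟 ^ m, v x = 0) →
        ∃ w : B →ₗ[A] P, (∃ m : ℕ, ∀ x ∈ 𝔟 ^ m, w x = 0) ∧ f ∘ₗ w = v) :
    EGA41.IsFormallySmoothAdic A 𝔞 B 𝔟 ↔
      EGA41.IsFormallySmoothAdic (A ⧸ 𝔞) ⊥ (B ⧸ 𝔞.map (algebraMap A B))
        (𝔟.map (Ideal.Quotient.mk (𝔞.map (algebraMap A B)))) := by
  exact ⟨to_base 𝔞 𝔟, of_base 𝔞 𝔟 hproj⟩

end Groth.Agent.S4553
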