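import Groth.Statements.S4554
import Mathlib
import Groth.Agent.S4542
import Groth.Agent.Lib.Helper23.AdicSmooth
-- import your own Groth.Agent.* helpers here

set_option autoImplicit false
universe u
open EGA41

namespace Groth.Agent.S4554

open EGA41 TensorProduct


/-- a faithfully flat projective algebra has an `A`-linear retraction of the structure map -/
lemma exists_retraction {A A' : Type*} [CommRing A] [CommRing A'] [Algebra A A']
    [Module.Projective A A'] [Module.FaithfullyFlat A A'] : ∃ r : A' →ₗ[A] A, r 1 = 1 := by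
  by_contra hcon
  push Not at hcon
  let ev : (A' →ₗ[A] A) →ₗ[A] A := LinearMap.applyₗ (1 : A')
  have hev : ∀ φ : A' →ₗ[A] A, ev φ = φ 1 := fun φ => rfl
  have hI : (LinearMap.range ev : Ideal A) ≠ ⊤ := by
    intro h
    have h1 : (1 : A) ∈ LinearMap.range ev := by rw [h]; exact Submodule.mem_top
    obtain ⟨r, hr⟩ := h1
    exact hcon r hr
  obtain ⟨𝔪, h𝔪, hle⟩ := Ideal.exists_le_maximal _ hI
  have hne : 𝔪.map (algebraMap A A') ≠ ⊤ := by
    intro h
    have h1 := Module.FaithfullyFlat.submodule_ne_top (R := A) (M := A') h𝔪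
    apply h1
    rw [Ideal.smul_top_eq_map, h]
    rfl
  letI : Field (A ⧸ 𝔪) := Ideal.Quotient.field 𝔪
  have : Nontrivial (A' ⧸ 𝔪.map (algebraMap A A')) := Ideal.Quotient.nontrivial_iff.2 hne
  obtain ⟨l, hl⟩ := Module.Projective.exists_dual_eq_one (A ⧸ 𝔪)
    (x := (1 : A' ⧸ 𝔪.map (algebraMap A A'))) one_ne_zero
  let φ₀ : A' →ₗ[A] (A ⧸ 𝔪) :=
    (l.restrictScalars A) ∘ₗ (Ideal.Quotient.mkₐ A (𝔪.map (algebraMap A A'))).toLinearMap
  let q : A →ₗ[A] (A ⧸ 𝔪) := (Ideal.Quotient.mkₐ A 𝔪).toLinearMap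
  have hq : Function.Surjective q := Ideal.Quotient.mk_surjective
  obtain ⟨φ, hφ⟩ := Module.projective_lifting_property q φ₀ hq
  have h1 : q (φ 1) = 1 := by
    have := congrArg (fun f => f 1) hφ
    simp only [LinearMap.comp_apply] at this
    rw [this]
    exact hl
  have h2 : φ 1 ∈ 𝔪 := hle ⟨φ, rfl⟩
  have h3 : q (φ 1) = 0 := Ideal.Quotient.eq_zero_iff_mem.2 h2
  rw [h3] at h1
  exact zero_ne_one h1



section rho
variable {A A' : Type*} [CommRing A] [CommRing A'] [Algebra A A'] (r : A' →ₗ[A] A)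
  (C : Type*) [CommRing C] [Algebra A C]

/-- `r ⊗ id : A' ⊗ C → C` -/
noncomputable def rho : A' ⊗[A] C →ₗ[A] C :=
  (TensorProduct.lid A C).toLinearMap ∘ₗ LinearMap.rTensor C r

variable {C}

@[simp] lemma rho_tmul (a' : A') (c : C) : rho r C (a' ⊗ₜ[A] c) = r a' • c := by
  simp [rho]

lemma rho_one_tmul (hr : r 1 = 1) (c : C) : rho r C ((1 : A') ⊗ₜ[A] c) = c := by
  rw [rho_tmul, hr, one_smul]

lemma rho_mul_left (c : C) (x : A' ⊗[A] C) :
    rho r C (((1 : A') ⊗ₜ[A] c) * x) = c * rho r C x := by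
  induction x with
  | zero => simp
  | tmul a' c₀ =>
    rw [Algebra.TensorProduct.tmul_mul_tmul, one_mul, rho_tmul, rho_tmul, mul_smul_comm]
  | add x y hx hy => rw [mul_add, map_add, map_add, hx, hy, mul_add]

lemma rho_natural {C'' : Type*} [CommRing C''] [Algebra A C''] (π : C →ₐ[A] C'')
    (x : A' ⊗[A] C) :
    π (rho r C x) = rho r C'' (Algebra.TensorProduct.map (AlgHom.id A A') π x) := by
  induction x with
  | zero => simp
  | tmul a' c =>
    rw [rho_tmul, Algebra.TensorProduct.map_tmul, rho_tmul, map_smul]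
    rfl
  | add x y hx hy => rw [map_add, map_add, map_add, map_add, hx, hy]

end rho

lemma isNilpotent_of_mul_eq_zero {R : Type*} [CommRing R] (I : Ideal R)
    (h : ∀ x ∈ I, ∀ y ∈ I, x * y = 0) : IsNilpotent I := by
  refine ⟨2, ?_⟩
  rw [Ideal.zero_eq_bot, eq_bot_iff, pow_two, Ideal.mul_le]
  intro x hx y hy
  rw [Ideal.mem_bot]
  exact h x hx y hy



theorem descentStep {A B A' : Type u} [CommRing A] [CommRing B]
    [CommRing A'] [Algebra A B] [Algebra A A'] (𝔞 : Ideal A) (𝔟 : Ideal B)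
    (r : A' →ₗ[A] A) (hr : r 1 = 1)
    (hB' : EGA41.IsFormallySmoothAdic A' (𝔞.map (algebraMap A A')) (A' ⊗[A] B)
        ((𝔞.map (algebraMap A A')).map (algebraMap A' (A' ⊗[A] B)) ⊔
          𝔟.map (Algebra.TensorProduct.includeRight : B →ₐ[A] A' ⊗[A] B).toRingHom))
    {C' C'' : Type u} [CommRing C'] [CommRing C''] [Algebra A C'] [Algebra A C'']
    (π : C' →ₐ[A] C'') (hπ : Function.Surjective π)
    (hK2 : ∀ x y, π x = 0 → π y = 0 → x * y = 0)
    (hdisc : ∃ k : ℕ, (𝔞 ^ k).map (algebraMap A C') = ⊥)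
    (u : B →ₐ[A] C'') (hu : ∃ m : ℕ, ∀ x ∈ 𝔟 ^ m, u x = 0) :
    ∃ v : B →ₐ[A] C', (∀ b, π (v b) = u b) ∧ ∃ m : ℕ, ∀ x ∈ 𝔟 ^ m, v x = 0 := by
  obtain ⟨k, hk⟩ := hdisc
  obtain ⟨m, hm⟩ := hu
  have hkC' : ∀ a ∈ 𝔞 ^ k, algebraMap A C' a = 0 := by
    intro a ha
    have : algebraMap A C' a ∈ (𝔞 ^ k).map (algebraMap A C') := Ideal.mem_map_of_mem _ ha
    rwa [hk, Ideal.mem_bot] at this
  have hkC'' : ∀ a ∈ 𝔞 ^ k, algebraMap A C'' a = 0 := by
    intro a ha
    rw [← π.commutes, hkC' a ha, map_zero]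
  -- base-changed maps
  let π₁ : (A' ⊗[A] C') →ₐ[A'] (A' ⊗[A] C'') := Algebra.TensorProduct.map (AlgHom.id A' A') π
  let u₁ : (A' ⊗[A] B) →ₐ[A'] (A' ⊗[A] C'') := Algebra.TensorProduct.map (AlgHom.id A' A') u
  have hπ₁A : ∀ x, π₁ x = Algebra.TensorProduct.map (AlgHom.id A A') π x := fun x => rfl
  have hπ₁tmul : ∀ (a' : A') (c : C'), π₁ (a' ⊗ₜ c) = a' ⊗ₜ π c := fun a' c => rfl
  have hu₁tmul : ∀ (a' : A') (b : B), u₁ (a' ⊗ₜ b) = a' ⊗ₜ u b := fun a' b => rfl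
  have hπ₁surj : Function.Surjective π₁ := by
    intro y
    induction y with
    | zero => exact ⟨0, map_zero _⟩
    | tmul a' c'' =>
      obtain ⟨c, rfl⟩ := hπ c''
      exact ⟨a' ⊗ₜ c, rfl⟩
    | add x y hx hy =>
      obtain ⟨x', rfl⟩ := hx
      obtain ⟨y', rfl⟩ := hy
      exact ⟨x' + y', map_add _ _ _⟩
  have hkerπ₁ : RingHom.ker π₁ = (RingHom.ker π).map
      (Algebra.TensorProduct.includeRight : C' →ₐ[A] A' ⊗[A] C') := by
    rw [← Algebra.TensorProduct.lTensor_ker (A := A') π hπ]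
    rfl
  have hK₁2 : ∀ x ∈ RingHom.ker π₁, ∀ y ∈ RingHom.ker π₁, x * y = 0 := by
    intro x hx y hy
    have h1 : x * y ∈ RingHom.ker π₁ * RingHom.ker π₁ := Ideal.mul_mem_mul hx hy
    rw [hkerπ₁, ← Ideal.map_mul] at h1
    have h2 : RingHom.ker π * RingHom.ker π = ⊥ := by
      rw [eq_bot_iff, Ideal.mul_le]
      intro a ha b hb
      rw [Ideal.mem_bot]
      exact hK2 a b ha hb
    rw [h2, Ideal.map_bot, Ideal.mem_bot] at h1
    exact h1
  have hπ₁nil : IsNilpotent (RingHom.ker π₁) := isNilpotent_of_mul_eq_zero _ hK₁2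
  -- discreteness
  have halg' : ∀ (D : Type u) [CommRing D] [Algebra A D] (a : A),
      algebraMap A' (A' ⊗[A] D) (algebraMap A A' a) = (1 : A') ⊗ₜ[A] (algebraMap A D a) := by
    intro D _ _ a
    rw [Algebra.TensorProduct.algebraMap_apply, Algebra.algebraMap_self_apply,
      Algebra.algebraMap_eq_smul_one, TensorProduct.smul_tmul, ← Algebra.algebraMap_eq_smul_one]
  have hdisc₁ : ∃ k : ℕ, ((𝔞.map (algebraMap A A')) ^ k).map
      (algebraMap A' (A' ⊗[A] C')) = ⊥ := by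
    refine ⟨k, ?_⟩
    rw [← Ideal.map_pow, Ideal.map_map, Ideal.map_eq_bot_iff_le_ker]
    intro a ha
    show algebraMap A' (A' ⊗[A] C') (algebraMap A A' a) = 0
    rw [halg', hkC' a ha, TensorProduct.tmul_zero]
  have hu₁ : ∃ N : ℕ, ∀ x ∈ ((𝔞.map (algebraMap A A')).map (algebraMap A' (A' ⊗[A] B)) ⊔
      𝔟.map (Algebra.TensorProduct.includeRight : B →ₐ[A] A' ⊗[A] B).toRingHom) ^ N,
      u₁ x = 0 := by
    refine ⟨k + m, ?_⟩
    have h1 : ((𝔞.map (algebraMap A A')).map (algebraMap A' (A' ⊗[A] B))) ^ k ≤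
        RingHom.ker u₁ := by
      rw [← Ideal.map_pow, ← Ideal.map_pow, Ideal.map_map, Ideal.map_le_iff_le_comap]
      intro a ha
      show u₁ (algebraMap A' (A' ⊗[A] B) (algebraMap A A' a)) = 0
      rw [u₁.commutes, halg', hkC'' a ha, TensorProduct.tmul_zero]
    have h2 : (𝔟.map (Algebra.TensorProduct.includeRight : B →ₐ[A] A' ⊗[A] B).toRingHom) ^ m ≤
        RingHom.ker u₁ := by
      rw [← Ideal.map_pow, Ideal.map_le_iff_le_comap]
      intro b hb
      show u₁ ((1 : A') ⊗ₜ[A] b) = 0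
      rw [hu₁tmul, hm b hb, TensorProduct.tmul_zero]
    intro x hx
    exact (Ideal.sup_pow_add_le_pow_sup_pow.trans (sup_le h1 h2)) hx
  obtain ⟨v₁, hv₁, -⟩ := Groth.Agent.S4542.lift_of_ker_nilpotent hB' π₁ hπ₁nil hdisc₁ u₁ hu₁
    (fun b' => hπ₁surj (u₁ b'))
  -- the projection `ρ = r ⊗ id`
  have hρker : ∀ x, π₁ x = 0 → π (rho r C' x) = 0 := by
    intro x hx
    rw [rho_natural, ← hπ₁A, hx, map_zero]
  -- multiplicativity of `ρ` on elements congruent to `1 ⊗ c`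
  have hρmul : ∀ (x x' : A' ⊗[A] C') (c c' : C'), π₁ x = π₁ ((1 : A') ⊗ₜ c) →
      π₁ x' = π₁ ((1 : A') ⊗ₜ c') → rho r C' (x * x') = rho r C' x * rho r C' x' := by
    intro x x' c c' hx hx'
    have hκ : x - (1 : A') ⊗ₜ c ∈ RingHom.ker π₁ := by
      rw [RingHom.mem_ker, map_sub, hx, sub_self]
    have hκ' : x' - (1 : A') ⊗ₜ c' ∈ RingHom.ker π₁ := by
      rw [RingHom.mem_ker, map_sub, hx', sub_self]
    have h0 := hK₁2 _ hκ _ hκ'
    have h1 := hK2 _ _ (hρker _ hκ) (hρker _ hκ')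
    have hx_eq : x * x' = ((1 : A') ⊗ₜ[A] c) * ((1 : A') ⊗ₜ[A] c') +
        ((1 : A') ⊗ₜ[A] c) * (x' - (1 : A') ⊗ₜ c') + ((1 : A') ⊗ₜ[A] c') * (x - (1 : A') ⊗ₜ c) +
        (x - (1 : A') ⊗ₜ c) * (x' - (1 : A') ⊗ₜ c') := by ring
    rw [hx_eq, h0, add_zero, map_add, map_add, rho_mul_left, rho_mul_left, rho_mul_left,
      rho_one_tmul r hr]
    have e1 : rho r C' x = c + rho r C' (x - (1 : A') ⊗ₜ c) := by
      rw [map_sub, rho_one_tmul r hr]; ring
    have e2 : rho r C' x' = c' + rho r C' (x' - (1 : A') ⊗ₜ c') := by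
      rw [map_sub, rho_one_tmul r hr]; ring
    rw [e1, e2]
    linear_combination -h1
  have hvx : ∀ b : B, ∃ c : C', π c = u b ∧
      π₁ (v₁ ((1 : A') ⊗ₜ[A] b)) = π₁ ((1 : A') ⊗ₜ c) := by
    intro b
    obtain ⟨c, hc⟩ := hπ (u b)
    exact ⟨c, hc, by rw [hv₁, hu₁tmul, hπ₁tmul, hc]⟩
  let vlin : B →ₗ[A] C' := (rho r C') ∘ₗ (v₁.toLinearMap.restrictScalars A) ∘ₗ
    (Algebra.TensorProduct.includeRight : B →ₐ[A] A' ⊗[A] B).toLinearMap
  have hvlin : ∀ b, vlin b = rho r C' (v₁ ((1 : A') ⊗ₜ[A] b)) := fun b => rfl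
  let v : B →ₐ[A] C' := AlgHom.ofLinearMap vlin
    (by
      rw [hvlin]
      have : ((1 : A') ⊗ₜ[A] (1 : B)) = (1 : A' ⊗[A] B) := rfl
      rw [this, map_one]
      exact rho_one_tmul r hr 1)
    (by
      intro b b'
      rw [hvlin, hvlin, hvlin]
      obtain ⟨c, -, hc⟩ := hvx b
      obtain ⟨c', -, hc'⟩ := hvx b'
      have : ((1 : A') ⊗ₜ[A] (b * b')) = ((1 : A') ⊗ₜ[A] b) * ((1 : A') ⊗ₜ[A] b') := by
        rw [Algebra.TensorProduct.tmul_mul_tmul, one_mul]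
      rw [this, map_mul]
      exact hρmul _ _ c c' hc hc')
  have hπv : ∀ b, π (v b) = u b := by
    intro b
    show π (rho r C' (v₁ ((1 : A') ⊗ₜ[A] b))) = u b
    rw [rho_natural, ← hπ₁A, hv₁, hu₁tmul, rho_one_tmul r hr]
  refine ⟨v, hπv, 2 * m, ?_⟩
  intro x hx
  rw [mul_comm, pow_mul, pow_two] at hx
  refine Submodule.mul_induction_on hx ?_ ?_
  · intro y hy y' hy'
    rw [map_mul]
    apply hK2
    · rw [hπv, hm y hy]
    · rw [hπv, hm y' hy']
  · intro y y' hy hy'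
    rw [map_add, hy, hy', add_zero]



theorem baseChange {A B A' : Type u} [CommRing A] [CommRing B]
    [CommRing A'] [Algebra A B] [Algebra A A'] (𝔞 : Ideal A) (𝔟 : Ideal B)
    (h : EGA41.IsFormallySmoothAdic A 𝔞 B 𝔟) :
    EGA41.IsFormallySmoothAdic A' (𝔞.map (algebraMap A A')) (A' ⊗[A] B)
        ((𝔞.map (algebraMap A A')).map (algebraMap A' (A' ⊗[A] B)) ⊔
          𝔟.map (Algebra.TensorProduct.includeRight : B →ₐ[A] A' ⊗[A] B).toRingHom) := by
  intro C _ _ J hJ hdisc u' hu'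
  letI : Algebra A C := Algebra.compHom C (algebraMap A A')
  haveI : IsScalarTower A A' C := IsScalarTower.of_algebraMap_eq fun a => rfl
  have halg : ∀ a, algebraMap A C a = algebraMap A' C (algebraMap A A' a) := fun a => rfl
  let u : B →ₐ[A] C ⧸ J :=
    { toRingHom := u'.toRingHom.comp
        (Algebra.TensorProduct.includeRight : B →ₐ[A] A' ⊗[A] B).toRingHom
      commutes' := by
        intro a
        show u' ((1 : A') ⊗ₜ[A] (algebraMap A B a)) = Ideal.Quotient.mk J (algebraMap A C a)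
        have h1 : ((1 : A') ⊗ₜ[A] (algebraMap A B a)) =
            algebraMap A' (A' ⊗[A] B) (algebraMap A A' a) := by
          rw [Algebra.TensorProduct.algebraMap_apply, Algebra.algebraMap_self_apply,
            Algebra.algebraMap_eq_smul_one, Algebra.algebraMap_eq_smul_one (A := A'),
            TensorProduct.smul_tmul]
        rw [h1, u'.commutes, halg]
        rfl }
  have hu_apply : ∀ b, u b = u' ((1 : A') ⊗ₜ[A] b) := fun b => rfl
  obtain ⟨k, hk⟩ := hdisc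
  have hdiscA : ∃ k : ℕ, (𝔞 ^ k).map (algebraMap A C) = ⊥ := by
    refine ⟨k, ?_⟩
    rw [← hk, ← Ideal.map_pow, Ideal.map_map]
    rfl
  obtain ⟨m, hm⟩ := hu'
  have hu : ∃ k : ℕ, ∀ x ∈ 𝔟 ^ k, u x = 0 := by
    refine ⟨m, fun x hx => ?_⟩
    rw [hu_apply]
    apply hm
    refine Ideal.pow_right_mono le_sup_right m ?_
    rw [← Ideal.map_pow]
    exact Ideal.mem_map_of_mem _ hx
  obtain ⟨v, hv⟩ := h C J hJ hdiscA u hu
  have hvmk : ∀ b, Ideal.Quotient.mk J (v b) = u' ((1 : A') ⊗ₜ[A] b) := fun b =>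
    congrArg (fun f => f b) hv
  let v' : (A' ⊗[A] B) →ₐ[A'] C :=
    Algebra.TensorProduct.lift (Algebra.ofId A' C) v (fun _ _ => Commute.all _ _)
  refine ⟨v', ?_⟩
  apply Algebra.TensorProduct.ext'
  intro a' b
  show Ideal.Quotient.mk J (v' (a' ⊗ₜ b)) = u' (a' ⊗ₜ b)
  have h1 : v' (a' ⊗ₜ[A] b) = algebraMap A' C a' * v b := by
    simp [v', Algebra.TensorProduct.lift_tmul, Algebra.ofId_apply]
  have h2 : a' ⊗ₜ[A] b = algebraMap A' (A' ⊗[A] B) a' * ((1 : A') ⊗ₜ[A] b) := by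
    rw [Algebra.TensorProduct.algebraMap_apply, Algebra.algebraMap_self_apply,
      Algebra.TensorProduct.tmul_mul_tmul, mul_one, one_mul]
  rw [h1, map_mul, hvmk, h2, map_mul, u'.commutes]
  rfl


open TensorProduct in
/-- Let A be 𝔞-adic, B a topological A-algebra for the 𝔟-adic topology (a power of 𝔞 maps into 𝔟) which
is a formally projective topological A-module, and A' an A-algebra with the topology deduced from A
(the 𝔞A'-adic topology) which is a faithfully flat, projective A-module of finite type. Then B' = A'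
⊗_A B, with the tensor product topology (the adic topology of the ideal generated by the images of 𝔞
and 𝔟), is a formally smooth A'-algebra if and only if B is a formally smooth A-algebra. -/
theorem result {A B A' : Type u} [CommRing A] [CommRing B]
    [CommRing A'] [Algebra A B] [Algebra A A'] (𝔞 : Ideal A) (𝔟 : Ideal B) (hAB : ∃ k : ℕ, (𝔞 ^ k).map (algebraMap A B) ≤ 𝔟)
    (hproj : ∀ (n : ℕ) (P Q : Type u) [AddCommGroup P] [Module A P] [AddCommGroup Q] [Module A Q],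
      (∀ a ∈ 𝔞 ^ n, ∀ y : P, a • y = 0) → (∀ a ∈ 𝔞 ^ n, ∀ y : Q, a • y = 0) →
      ∀ f : P →ₗ[A] Q, Function.Surjective f → ∀ v : B →ₗ[A] Q, (∃ m : ℕ, ∀ x ∈ 𝔟 ^ m, v x = 0) →
        ∃ w : B →ₗ[A] P, (∃ m : ℕ, ∀ x ∈ 𝔟 ^ m, w x = 0) ∧ f ∘ₗ w = v)
    [Module.FaithfullyFlat A A'] [Module.Projective A A'] [Module.Finite A A'] :
    EGA41.IsFormallySmoothAdic A' (𝔞.map (algebraMap A A')) (A' ⊗[A] B)
        ((𝔞.map (algebraMap A A')).map (algebraMap A' (A' ⊗[A] B)) ⊔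
          𝔟.map (Algebra.TensorProduct.includeRight : B →ₐ[A] A' ⊗[A] B).toRingHom) ↔
      EGA41.IsFormallySmoothAdic A 𝔞 B 𝔟 := by
  refine ⟨fun hB' => ?_, baseChange 𝔞 𝔟⟩
  obtain ⟨r, hr⟩ := exists_retraction (A := A) (A' := A')
  apply Groth.Agent.Lib.Helper23.AdicSmooth.of_smallStep
  intro C' C'' _ _ _ _ π hπ hK2 _ hdisc u hu
  exact descentStep 𝔞 𝔟 r hr hB' π hπ hK2 hdisc u hu

end Groth.Agent.S4554
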