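import Groth.Statements.S4555
import Mathlib.RingTheory.MvPowerSeries.Equiv
import Mathlib.RingTheory.AdicCompletion.Completeness
import Mathlib.RingTheory.Nilpotent.Lemmas
import Mathlib.RingTheory.Noetherian.Nilpotent
-- import your own Groth.Agent.* helpers here

set_option autoImplicit false
universe u
open EGA41

namespace Groth.Agent.S4555

open MvPowerSeries in
theorem mem_span_X_pow_of_truncTotal {A : Type u} [CommRing A] (n L : ℕ)
    (f : MvPowerSeries (Fin n) A)
    (hf : (truncTotal L f : MvPolynomial (Fin n) A) ∈ MvPolynomial.idealOfVars (Fin n) A ^ L) :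
    f ∈ (Ideal.span (Set.range (X : Fin n → MvPowerSeries (Fin n) A))) ^ L := by
  have h1 : toAdicCompletionAlgEquiv (Fin n) A f ∈
      LinearMap.ker (AdicCompletion.eval (MvPolynomial.idealOfVars (Fin n) A)
        (MvPolynomial (Fin n) A) L) := by
    rw [LinearMap.mem_ker, AdicCompletion.eval_apply, toAdicCompletionAlgEquiv_apply,
      toAdicCompletion_apply_eq_mk_truncTotal]
    change Submodule.Quotient.mk _ = 0
    rw [Submodule.Quotient.mk_eq_zero]
    simpa using hf
  rw [← AdicCompletion.pow_smul_top_eq_ker_eval (MvPolynomial.idealOfVars_fg (Fin n) A),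
    Ideal.smul_top_eq_map, Submodule.restrictScalars_mem] at h1
  have h2 := Ideal.mem_map_of_mem (toAdicCompletionAlgEquiv (Fin n) A).symm.toAlgHom.toRingHom h1
  simp only [AlgHom.toRingHom_eq_coe, RingHom.coe_coe] at h2
  erw [AlgEquiv.symm_apply_apply] at h2
  rw [Ideal.map_map, Ideal.map_pow] at h2
  convert h2 using 2
  rw [Ideal.map_span, ← Set.range_comp]
  congr 2
  ext1 i
  simp [← MvPolynomial.coe_X, MvPowerSeries.algebraMap_apply']

open MvPowerSeries in
theorem sub_truncTotal_mem {A : Type u} [CommRing A] (n L : ℕ) (f : MvPowerSeries (Fin n) A) :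
    f - ((truncTotal L f : MvPolynomial (Fin n) A) : MvPowerSeries (Fin n) A) ∈
      (Ideal.span (Set.range (X : Fin n → MvPowerSeries (Fin n) A))) ^ L := by
  apply mem_span_X_pow_of_truncTotal
  rw [MvPolynomial.mem_pow_idealOfVars_iff']
  intro x hx
  rw [coeff_truncTotal _ hx, map_sub, MvPolynomial.coeff_coe, coeff_truncTotal _ hx, sub_self]

open MvPowerSeries in
theorem span_X_le_ker {A : Type u} [CommRing A] (n : ℕ) :
    Ideal.span (Set.range (X : Fin n → MvPowerSeries (Fin n) A)) ≤
      RingHom.ker (constantCoeff : MvPowerSeries (Fin n) A →+* A) := by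
  rw [Ideal.span_le]
  rintro _ ⟨i, rfl⟩
  simp [RingHom.mem_ker]

theorem map_aeval_idealOfVars {A : Type u} [CommRing A] (n : ℕ) {E : Type u} [CommRing E]
    [Algebra A E] (z : Fin n → E) :
    (MvPolynomial.idealOfVars (Fin n) A).map (MvPolynomial.aeval z : MvPolynomial (Fin n) A →ₐ[A] E) =
      Ideal.span (Set.range z) := by
  rw [Ideal.map_span, ← Set.range_comp]
  congr 2
  ext1 i
  simp

open MvPowerSeries in
theorem exists_algHom {A : Type u} [CommRing A] (n : ℕ) {E : Type u} [CommRing E] [Algebra A E]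
    (z : Fin n → E) (hz : ∀ i, IsNilpotent (z i)) :
    ∃ (g : MvPowerSeries (Fin n) A →ₐ[A] E) (M : ℕ), (∀ i, g (X i) = z i) ∧
      ∀ f ∈ (RingHom.ker (constantCoeff : MvPowerSeries (Fin n) A →+* A)) ^ M, g f = 0 := by
  have hZfg : (Ideal.span (Set.range z)).FG := Submodule.fg_span (Set.finite_range z)
  have hZle : Ideal.span (Set.range z) ≤ nilradical E := by
    rw [Ideal.span_le]
    rintro _ ⟨i, rfl⟩
    exact hz i
  obtain ⟨M, hM⟩ := (Ideal.FG.isNilpotent_iff_le_nilradical hZfg).mpr hZle
  have hker : ∀ p ∈ MvPolynomial.idealOfVars (Fin n) A ^ M,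
      (MvPolynomial.aeval z : MvPolynomial (Fin n) A →ₐ[A] E) p = 0 := by
    intro p hp
    have h1 := Ideal.mem_map_of_mem (MvPolynomial.aeval z : MvPolynomial (Fin n) A →ₐ[A] E) hp
    rw [Ideal.map_pow, map_aeval_idealOfVars, hM] at h1
    exact h1
  let g : MvPowerSeries (Fin n) A →ₐ[A] E :=
    (Ideal.Quotient.liftₐ (MvPolynomial.idealOfVars (Fin n) A ^ M) (MvPolynomial.aeval z) hker).comp
      ((truncTotalAlgHom (Fin n) A M).restrictScalars A)
  have hg : ∀ f, g f = MvPolynomial.aeval z (truncTotal M f) := fun f => rfl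
  have hgcoe : ∀ p : MvPolynomial (Fin n) A, g (p : MvPowerSeries (Fin n) A) =
      MvPolynomial.aeval z p := by
    intro p
    have h1 : (truncTotalAlgHom (Fin n) A M) (algebraMap (MvPolynomial (Fin n) A)
        (MvPowerSeries (Fin n) A) p) = algebraMap _ _ p :=
      (truncTotalAlgHom (Fin n) A M).commutes p
    have h2 : algebraMap (MvPolynomial (Fin n) A) (MvPowerSeries (Fin n) A) p =
        (p : MvPowerSeries (Fin n) A) := by
      simp [MvPowerSeries.algebraMap_apply']
    change (Ideal.Quotient.liftₐ (MvPolynomial.idealOfVars (Fin n) A ^ M)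
      (MvPolynomial.aeval z) hker) ((truncTotalAlgHom (Fin n) A M) (p : MvPowerSeries (Fin n) A)) = _
    rw [← h2, h1]
    rfl
  refine ⟨g, M, ?_, ?_⟩
  · intro i
    rw [← MvPolynomial.coe_X, hgcoe, MvPolynomial.aeval_X]
  · have h1 : (RingHom.ker (constantCoeff : MvPowerSeries (Fin n) A →+* A)).map g ≤
        Ideal.span (Set.range z) := by
      rw [Ideal.map_le_iff_le_comap]
      intro f hf
      rw [Ideal.mem_comap, hg, ← map_aeval_idealOfVars (A := A) n z]
      apply Ideal.mem_map_of_mem
      have : (truncTotal M f : MvPolynomial (Fin n) A) ∈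
          MvPolynomial.idealOfVars (Fin n) A ^ 1 := by
        rw [MvPolynomial.mem_pow_idealOfVars_iff']
        intro x hx
        have hx0 : x = 0 := by
          rw [Nat.lt_one_iff] at hx
          exact (Finsupp.degree_eq_zero_iff x).mp hx
        subst hx0
        rw [coeff_truncTotal_eq_ite]
        split_ifs
        · exact hf
        · rfl
      simpa using this
    intro f hf
    have h2 := Ideal.mem_map_of_mem g hf
    rw [Ideal.map_pow] at h2
    have h3 := Ideal.pow_right_mono h1 M h2
    rw [hM] at h3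
    exact h3

/-- Let A carry the 𝔞-adic topology, B = A[[T_1, …, T_n]] the product topology (the adic topology of 𝔞B
+ (T_1, …, T_n)), and let E be a discrete topological A-algebra (a power of 𝔞 kills E). (i) If f : B
→ E is a continuous A-algebra homomorphism then each f(T_i) is nilpotent. (ii) Conversely, for every
family (z_i) of nilpotent elements of E there is one and only one continuous A-algebra homomorphism
g : B → E with g(T_i) = z_i for all i. -/
theorem result (A : Type u) [CommRing A] (𝔞 : Ideal A) (n : ℕ) (E : Type u) [CommRing E]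
    [Algebra A E] (hE : ∃ k : ℕ, (𝔞 ^ k).map (algebraMap A E) = ⊥) :
    (∀ f : MvPowerSeries (Fin n) A →ₐ[A] E,
      (∃ m : ℕ, ∀ x ∈ (𝔞.map (MvPowerSeries.C : A →+* MvPowerSeries (Fin n) A) ⊔
        RingHom.ker (MvPowerSeries.constantCoeff : MvPowerSeries (Fin n) A →+* A)) ^ m, f x = 0) →
      ∀ i, IsNilpotent (f (MvPowerSeries.X i))) ∧
    ∀ z : Fin n → E, (∀ i, IsNilpotent (z i)) →
      ∃! g : MvPowerSeries (Fin n) A →ₐ[A] E,
        (∃ m : ℕ, ∀ x ∈ (𝔞.map (MvPowerSeries.C : A →+* MvPowerSeries (Fin n) A) ⊔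
          RingHom.ker (MvPowerSeries.constantCoeff : MvPowerSeries (Fin n) A →+* A)) ^ m, g x = 0) ∧
        ∀ i, g (MvPowerSeries.X i) = z i := by
  obtain ⟨k, hk⟩ := hE
  constructor
  · rintro f ⟨m, hm⟩ i
    refine ⟨m, ?_⟩
    rw [← map_pow]
    apply hm
    apply Ideal.pow_mem_pow
    apply Ideal.mem_sup_right
    simp [RingHom.mem_ker]
  · intro z hz
    obtain ⟨g, M, hgX, hgM⟩ := exists_algHom (A := A) n z hz
    have hvan : ∀ (g' : MvPowerSeries (Fin n) A →ₐ[A] E) (M' : ℕ),
        (∀ f ∈ (RingHom.ker (MvPowerSeries.constantCoeff : MvPowerSeries (Fin n) A →+* A)) ^ M',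
          g' f = 0) →
        ∀ x ∈ (𝔞.map (MvPowerSeries.C : A →+* MvPowerSeries (Fin n) A) ⊔
          RingHom.ker (MvPowerSeries.constantCoeff : MvPowerSeries (Fin n) A →+* A)) ^ (k + M'),
          g' x = 0 := by
      intro g' M' hg' x hx
      have hx' := Ideal.sup_pow_add_le_pow_sup_pow hx
      obtain ⟨x1, hx1, x2, hx2, rfl⟩ := Submodule.mem_sup.mp hx'
      rw [map_add, hg' x2 hx2, add_zero]
      have h1 := Ideal.mem_map_of_mem (g' : MvPowerSeries (Fin n) A →+* E) hx1
      rw [← Ideal.map_pow, Ideal.map_map] at h1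
      have h2 : (g' : MvPowerSeries (Fin n) A →+* E).comp
          (MvPowerSeries.C : A →+* MvPowerSeries (Fin n) A) = algebraMap A E := by
        rw [MvPowerSeries.c_eq_algebraMap]
        exact g'.comp_algebraMap
      rw [h2, hk] at h1
      exact h1
    refine ⟨g, ⟨⟨k + M, hvan g M hgM⟩, hgX⟩, ?_⟩
    rintro g' ⟨⟨m', hm'⟩, hg'X⟩
    have hpoly : ∀ p : MvPolynomial (Fin n) A,
        g' (p : MvPowerSeries (Fin n) A) = g (p : MvPowerSeries (Fin n) A) := by
      intro p
      have : g'.comp (MvPolynomial.coeToMvPowerSeries.algHom (σ := Fin n) (R := A) A) =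
          g.comp (MvPolynomial.coeToMvPowerSeries.algHom (σ := Fin n) (R := A) A) := by
        apply MvPolynomial.algHom_ext
        intro i
        simp [MvPolynomial.coeToMvPowerSeries.algHom_apply, hg'X, hgX]
      have := AlgHom.congr_fun this p
      simpa [MvPolynomial.coeToMvPowerSeries.algHom_apply] using this
    ext f
    have hsub := sub_truncTotal_mem n (max (k + M) m') f
    have hsub' := Ideal.pow_right_mono (span_X_le_ker (A := A) n) _ hsub
    have hle : RingHom.ker (MvPowerSeries.constantCoeff : MvPowerSeries (Fin n) A →+* A) ≤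
        𝔞.map (MvPowerSeries.C : A →+* MvPowerSeries (Fin n) A) ⊔
          RingHom.ker (MvPowerSeries.constantCoeff : MvPowerSeries (Fin n) A →+* A) := le_sup_right
    have hsub'' := Ideal.pow_right_mono hle _ hsub'
    have e1 : g' (f - ((MvPowerSeries.truncTotal (max (k + M) m') f : MvPolynomial (Fin n) A) :
        MvPowerSeries (Fin n) A)) = 0 :=
      hm' _ (Ideal.pow_le_pow_right (le_max_right _ _) hsub'')
    have e2 : g (f - ((MvPowerSeries.truncTotal (max (k + M) m') f : MvPolynomial (Fin n) A) :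
        MvPowerSeries (Fin n) A)) = 0 :=
      hvan g M hgM _ (Ideal.pow_le_pow_right (le_max_left _ _) hsub'')
    rw [map_sub, sub_eq_zero] at e1 e2
    rw [e1, e2, hpoly]

end Groth.Agent.S4555
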