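import Groth.Statements.S4560
-- import your own Groth.Agent.* helpers here
import Groth.Agent.Lib.Helper12.AdicUnram

set_option autoImplicit false
universe u
open EGA41

namespace Groth.Agent.S4560

/-- Let A be a ring, 𝔪 an ideal of A, B an A-algebra; give A the 𝔪-adic topology and B the topology
deduced from it (the 𝔪B-adic topology), and put A₀ = A/𝔪, B₀ = B/𝔪B. Then B is a formally unramified
A-algebra (for these topologies: E discrete means killed by a power of 𝔪, and continuity of maps B →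
E is then automatic) if and only if Ω_{B₀/A₀} = 0, i.e. B₀ is a formally unramified A₀-algebra. -/
theorem result {A B : Type u} [CommRing A] [CommRing B] [Algebra A B] (𝔪 : Ideal A) :
    (∀ (E : Type u) [CommRing E] [Algebra A E], (∃ k : ℕ, (𝔪 ^ k).map (algebraMap A E) = ⊥) →
      ∀ J : Ideal E, IsNilpotent J → ∀ v₁ v₂ : B →ₐ[A] E,
        (∀ b : B, Ideal.Quotient.mk J (v₁ b) = Ideal.Quotient.mk J (v₂ b)) → v₁ = v₂) ↔
    Subsingleton (Ω[B ⧸ 𝔪.map (algebraMap A B)⁄A ⧸ 𝔪]) := by
  constructor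
  · intro H
    have hfu : Algebra.FormallyUnramified (A ⧸ 𝔪) (B ⧸ 𝔪.map (algebraMap A B)) := by
      rw [Algebra.FormallyUnramified.iff_comp_injective]
      intro C _ _ I hI g₁ g₂ hg
      letI : Algebra A C := ((algebraMap (A ⧸ 𝔪) C).comp (algebraMap A (A ⧸ 𝔪))).toAlgebra
      haveI : IsScalarTower A (A ⧸ 𝔪) C := IsScalarTower.of_algebraMap_eq (fun _ => rfl)
      have hk : ∃ k : ℕ, (𝔪 ^ k).map (algebraMap A C) = ⊥ := by
        refine ⟨1, ?_⟩
        rw [pow_one, Ideal.map_eq_bot_iff_le_ker]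
        intro a ha
        rw [RingHom.mem_ker]
        change algebraMap (A ⧸ 𝔪) C (Ideal.Quotient.mk 𝔪 a) = 0
        rw [Ideal.Quotient.eq_zero_iff_mem.mpr ha, map_zero]
      let w₁ : B →ₐ[A] C := (g₁.restrictScalars A).comp
        (IsScalarTower.toAlgHom A B (B ⧸ 𝔪.map (algebraMap A B)))
      let w₂ : B →ₐ[A] C := (g₂.restrictScalars A).comp
        (IsScalarTower.toAlgHom A B (B ⧸ 𝔪.map (algebraMap A B)))
      have hw : w₁ = w₂ := by
        refine H C hk I ⟨2, hI⟩ w₁ w₂ ?_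
        intro b
        exact DFunLike.congr_fun hg (Ideal.Quotient.mk _ b)
      ext x
      obtain ⟨b, rfl⟩ := Ideal.Quotient.mk_surjective x
      exact DFunLike.congr_fun hw b
    exact hfu.subsingleton_kaehlerDifferential
  · intro hS E _ _ ⟨k, hk⟩ J ⟨n, hn⟩ v₁ v₂ h
    exact Groth.Agent.Lib.Helper12.AdicUnram.eq_of_pow_eq_bot 𝔪 n k hk J hn v₁ v₂ h

end Groth.Agent.S4560
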