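import Groth.Statements.S4561
import Mathlib

set_option autoImplicit false
universe u
open EGA41

namespace Groth.Agent.S4561



section aux
variable {p : ℕ} [Fact p.Prime] {k₀ K₀ : Type u} [Field k₀] [Field K₀] [Algebra k₀ K₀] [CharP k₀ p]

omit [CharP k₀ p] in
/-- the image of `k₀^p`-closure lies in the `K₀^p`-closure -/
lemma map_mem_Kp (l : k₀) (hl : l ∈ Subfield.closure (Set.range fun x : k₀ => x ^ p)) :
    algebraMap k₀ K₀ l ∈ Subfield.closure (Set.range fun y : K₀ => y ^ p) := by
  have h : (Subfield.closure (Set.range fun x : k₀ => x ^ p)) ≤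
      (Subfield.closure (Set.range fun y : K₀ => y ^ p)).comap (algebraMap k₀ K₀) := by
    rw [Subfield.closure_le]
    rintro _ ⟨x, rfl⟩
    show algebraMap k₀ K₀ (x ^ p) ∈ Subfield.closure (Set.range fun y : K₀ => y ^ p)
    rw [map_pow]
    exact Subfield.subset_closure ⟨_, rfl⟩
  exact h hl

end aux

/-- Let k₀ be a field of characteristic p > 0 with [k₀ : k₀^p] < ∞ and K₀ an extension of k₀. Inside
K₀((T_1, …, T_r)) one has (k₀(K₀^p))((T_1, …, T_r)) = k₀(K₀^p((T_1, …, T_r))); here, for a subfield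
F of K₀, F((T)) denotes the subfield of the fraction field of K₀[[T]] generated by the power series
with all coefficients in F. -/
theorem result (p : ℕ) [Fact p.Prime] {k₀ K₀ : Type u} [Field k₀] [Field K₀] [Algebra k₀ K₀] [CharP k₀ p]
    (hfin : Module.Finite (Subfield.closure (Set.range fun x : k₀ => x ^ p)) k₀) (r : ℕ) :
    Subfield.closure (algebraMap (MvPowerSeries (Fin r) K₀) (FractionRing (MvPowerSeries (Fin r) K₀)) ''
        {f | ∀ n, MvPowerSeries.coeff n f ∈
          Subfield.closure (Set.range (algebraMap k₀ K₀) ∪ Set.range fun y : K₀ => y ^ p)}) =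
      Subfield.closure
        (Set.range (algebraMap k₀ (FractionRing (MvPowerSeries (Fin r) K₀))) ∪
          (Subfield.closure (algebraMap (MvPowerSeries (Fin r) K₀) (FractionRing (MvPowerSeries (Fin r) K₀)) ''
            {f | ∀ n, MvPowerSeries.coeff n f ∈ Subfield.closure (Set.range fun y : K₀ => y ^ p)}) :
            Set (FractionRing (MvPowerSeries (Fin r) K₀)))) := by

  classical
  haveI : CharP K₀ p := charP_of_injective_algebraMap (algebraMap k₀ K₀).injective p
  obtain ⟨m, b, hb⟩ := Module.Finite.exists_fin (R := Subfield.closure (Set.range fun x : k₀ => x ^ p))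
    (M := k₀)
  -- notation
  obtain ⟨Kp, hKp⟩ : ∃ Kp : Subfield K₀, Kp = Subfield.closure (Set.range fun y : K₀ => y ^ p) :=
    ⟨_, rfl⟩
  obtain ⟨F, hF⟩ : ∃ F : Subfield K₀, F = Subfield.closure
      (Set.range (algebraMap k₀ K₀) ∪ Set.range fun y : K₀ => y ^ p) := ⟨_, rfl⟩
  rw [← hKp, ← hF]
  have hKpF : Kp ≤ F := by
    rw [hKp, hF]
    exact Subfield.closure_mono Set.subset_union_right
  obtain ⟨β, hβ⟩ : ∃ β : Fin m → K₀, β = fun i => algebraMap k₀ K₀ (b i) := ⟨_, rfl⟩
  -- the span
  obtain ⟨G, hG⟩ : ∃ G : Submodule Kp K₀, G = Submodule.span Kp (Set.range β) := ⟨_, rfl⟩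
  have hφG : ∀ a : k₀, algebraMap k₀ K₀ a ∈ G := by
    intro a
    have ha : a ∈ Submodule.span (Subfield.closure (Set.range fun x : k₀ => x ^ p)) (Set.range b) := by
      rw [hb]; trivial
    obtain ⟨l, hl⟩ := (Submodule.mem_span_range_iff_exists_fun _).1 ha
    rw [← hl, map_sum, hG]
    refine Submodule.sum_mem _ fun i _ => ?_
    have h1 : algebraMap k₀ K₀ (l i • b i) =
        (⟨algebraMap k₀ K₀ (l i : k₀), hKp ▸ map_mem_Kp (l i : k₀) (l i).2⟩ : Kp) • β i := by
      rw [hβ]
      show algebraMap k₀ K₀ ((l i : k₀) * b i) = algebraMap k₀ K₀ (l i : k₀) * algebraMap k₀ K₀ (b i)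
      rw [map_mul]
    rw [h1]
    exact Submodule.smul_mem _ _ (Submodule.subset_span ⟨i, rfl⟩)
  have h1G : (1 : K₀) ∈ G := by
    have := hφG 1
    rwa [map_one] at this
  have hKpG : ∀ c : K₀, c ∈ Kp → c ∈ G := by
    intro c hc
    have : c = (⟨c, hc⟩ : Kp) • (1 : K₀) := by
      show c = c * 1
      rw [mul_one]
    rw [this]
    exact Submodule.smul_mem _ _ h1G
  have hmulG : ∀ g g' : K₀, g ∈ G → g' ∈ G → g * g' ∈ G := by
    intro g g' hg hg'
    have h1 : g * g' ∈ G * G := Submodule.mul_mem_mul hg hg'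
    have h2 : G * G ≤ G := by
      rw [hG, Submodule.span_mul_span, Submodule.span_le]
      rintro _ ⟨_, ⟨i, rfl⟩, _, ⟨j, rfl⟩, rfl⟩
      rw [← hG]
      show β i * β j ∈ G
      have : β i * β j = algebraMap k₀ K₀ (b i * b j) := by rw [hβ, map_mul]
      rw [this]
      exact hφG _
    exact h2 h1
  have hpowG : ∀ (g : K₀) (n : ℕ), g ∈ G → g ^ n ∈ G := by
    intro g n hg
    induction n with
    | zero => rw [pow_zero]; exact h1G
    | succ n ih => rw [pow_succ]; exact hmulG _ _ ih hg
  have hpG : ∀ g : K₀, g ∈ G → g ^ p ∈ Kp := by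
    intro g hg
    rw [hG] at hg
    obtain ⟨c, hc⟩ := (Submodule.mem_span_range_iff_exists_fun _).1 hg
    rw [← hc, sum_pow_char]
    refine Subfield.sum_mem _ fun i _ => ?_
    show ((c i : K₀) * β i) ^ p ∈ Kp
    rw [mul_pow]
    refine Subfield.mul_mem _ (Subfield.pow_mem _ (c i).2 _) ?_
    rw [hKp]
    exact Subfield.subset_closure ⟨_, rfl⟩
  have hinvG : ∀ g : K₀, g ∈ G → g⁻¹ ∈ G := by
    intro g hg
    by_cases h0 : g = 0
    · rw [h0, inv_zero]; exact Submodule.zero_mem _
    · have hp1 : 1 ≤ p := (Fact.out : p.Prime).one_lt.le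
      have : g⁻¹ = (g ^ p)⁻¹ * g ^ (p - 1) := by
        have hpp : g ^ p = g ^ (p - 1) * g := by rw [← pow_succ, Nat.sub_add_cancel hp1]
        rw [hpp]
        field_simp
      rw [this]
      exact hmulG _ _ (hKpG _ (Subfield.inv_mem _ (hpG g hg))) (hpowG g _ hg)
  have hFG : ∀ c : K₀, c ∈ F → c ∈ G := by
    intro c hc
    rw [hF] at hc
    induction hc using Subfield.closure_induction with
    | mem x hx =>
      rcases hx with ⟨a, rfl⟩ | ⟨y, rfl⟩
      · exact hφG a
      · exact hKpG _ (by rw [hKp]; exact Subfield.subset_closure ⟨y, rfl⟩)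
    | one => exact h1G
    | add x y _ _ hx hy => exact Submodule.add_mem _ hx hy
    | neg x _ hx => exact Submodule.neg_mem _ hx
    | inv x _ hx => exact hinvG x hx
    | mul x y _ _ hx hy => exact hmulG x y hx hy
  apply le_antisymm
  · -- LHS ≤ RHS
    rw [Subfield.closure_le]
    rintro _ ⟨f, hf, rfl⟩
    have hfG : ∀ n, MvPowerSeries.coeff n f ∈ G := fun n => hFG _ (hf n)
    have hex : ∀ n, ∃ c : Fin m → Kp, ∑ i, c i • β i = MvPowerSeries.coeff n f := by
      intro n
      have := hfG n
      rw [hG] at this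
      exact (Submodule.mem_span_range_iff_exists_fun _).1 this
    choose c hc using hex
    obtain ⟨g, hg⟩ : ∃ g : Fin m → MvPowerSeries (Fin r) K₀,
        ∀ i n, MvPowerSeries.coeff n (g i) = (c n i : K₀) :=
      ⟨fun i n => (c n i : K₀), fun i n => rfl⟩
    have hfsum : f = ∑ i, MvPowerSeries.C (β i) * g i := by
      ext n
      rw [map_sum, ← hc n]
      refine Finset.sum_congr rfl fun i _ => ?_
      rw [MvPowerSeries.coeff_C_mul, hg]
      show (c n i : K₀) * β i = β i * _
      rw [mul_comm]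
    rw [hfsum, map_sum]
    refine Subfield.sum_mem _ fun i _ => ?_
    rw [map_mul]
    refine Subfield.mul_mem _ ?_ ?_
    · apply Subfield.subset_closure
      left
      refine ⟨b i, ?_⟩
      rw [IsScalarTower.algebraMap_apply k₀ (MvPowerSeries (Fin r) K₀)
        (FractionRing (MvPowerSeries (Fin r) K₀)), MvPowerSeries.algebraMap_apply, hβ]
    · apply Subfield.subset_closure
      right
      apply Subfield.subset_closure
      refine ⟨g i, fun n => ?_, rfl⟩
      rw [hg]
      exact (c n i).2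
  · -- RHS ≤ LHS
    rw [Subfield.closure_le]
    rintro x (⟨a, rfl⟩ | hx)
    · apply Subfield.subset_closure
      refine ⟨MvPowerSeries.C (algebraMap k₀ K₀ a), fun n => ?_, ?_⟩
      · rw [MvPowerSeries.coeff_C]
        split_ifs
        · rw [hF]; exact Subfield.subset_closure (Or.inl ⟨a, rfl⟩)
        · exact Subfield.zero_mem _
      · rw [IsScalarTower.algebraMap_apply k₀ (MvPowerSeries (Fin r) K₀)
          (FractionRing (MvPowerSeries (Fin r) K₀)), MvPowerSeries.algebraMap_apply]
    · have hle : Subfield.closure (algebraMap (MvPowerSeries (Fin r) K₀)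
          (FractionRing (MvPowerSeries (Fin r) K₀)) '' {f | ∀ n, MvPowerSeries.coeff n f ∈ Kp}) ≤
          Subfield.closure (algebraMap (MvPowerSeries (Fin r) K₀)
          (FractionRing (MvPowerSeries (Fin r) K₀)) '' {f | ∀ n, MvPowerSeries.coeff n f ∈ F}) := by
        apply Subfield.closure_mono
        apply Set.image_mono
        intro f hf n
        exact hKpF (hf n)
      exact hle hx

end Groth.Agent.S4561
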