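import Groth.Statements.S4564
import Mathlib
import Groth.Agent.Lib.Helper18.Nag5
import Groth.Agent.Lib.Helper12.HensInt
import Groth.Agent.Lib.Helper9.SemiLocalProd

set_option autoImplicit false
universe u
open CAlg

namespace Groth.Agent.S4564

/-- Let A be a complete Noetherian local domain with fraction field K and K' a finite extension of K.
Then the integral closure of A in K' is a local ring, complete for the adic topology of its maximal
ideal. -/
theorem result {A K' : Type u} [CommRing A]
    [IsDomain A] [IsLocalRing A] [IsNoetherianRing A] [IsAdicComplete (IsLocalRing.maximalIdeal A) A]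
    [Field K'] [Algebra A K'] [Algebra (FractionRing A) K'] [IsScalarTower A (FractionRing A) K']
    [FiniteDimensional (FractionRing A) K'] :
    ∃ _ : IsLocalRing (integralClosure A K'),
      IsAdicComplete (IsLocalRing.maximalIdeal (integralClosure A K')) (integralClosure A K') := by
  have hN2 : IsN2 A := Groth.Agent.Lib.Helper18.Nag.isN2_of_isAdicComplete_of_isDomain A
  haveI hfin : Module.Finite A (integralClosure A K') := hN2 K' inferInstance
  haveI : HenselianRing A (IsLocalRing.maximalIdeal A) := inferInstance
  haveI : HenselianLocalRing A :=
    Groth.Agent.Lib.Helper12.HensInt.henselianLocalRing_of_henselianRing_maximalIdeal A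
  haveI hloc : IsLocalRing (integralClosure A K') :=
    Groth.Agent.Lib.Helper12.HensInt.isLocalRing_of_isDomain_of_finite A (integralClosure A K')
  exact ⟨hloc, Groth.Agent.Lib.Helper9.SemiLocalProd.isAdicComplete_maximalIdeal_of_finite A
    (integralClosure A K')⟩

end Groth.Agent.S4564
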