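import Groth.Statements.S4567
import Groth.Agent.Lib.Helper6.GeomUnibranch4
-- import your own Groth.Agent.* helpers here

set_option autoImplicit false
universe u
open AlgebraicGeometry
open CAlg2

namespace Groth.Agent.S4567

/-- Let A be a domain with integral closure A' (in its fraction field) and f : Spec A' → Spec A the
canonical morphism. Then f is radicial (universally injective) if and only if every local ring A_p
is geometrically unibranch; when this holds f is a homeomorphism. -/
theorem result {A : Type u} [CommRing A] [IsDomain A] :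
    (UniversallyInjective (Spec.map (CommRingCat.ofHom (algebraMap A (integralClosure A (FractionRing A))))) ↔
      ∀ (p : Ideal A) [p.IsPrime], CAlg2.IsGeomUnibranch (Localization.AtPrime p)) ∧
    ((∀ (p : Ideal A) [p.IsPrime], CAlg2.IsGeomUnibranch (Localization.AtPrime p)) →
      IsHomeomorph (PrimeSpectrum.comap (algebraMap A (integralClosure A (FractionRing A))))) := by
  have hX : (∀ (p : Ideal A) [p.IsPrime], CAlg2.IsGeomUnibranch (Localization.AtPrime p)) →
      Groth.Agent.Lib.Helper6.GU.Radicial
        (algebraMap A (integralClosure A (FractionRing A))) := by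
    intro hGU Ω _ σ τ hστ
    haveI : (RingHom.ker (σ.comp (algebraMap A (integralClosure A (FractionRing A))))).IsPrime :=
      RingHom.ker_isPrime _
    exact Groth.Agent.Lib.Helper6.GU.hom_eq_of_gu'
      (O := Localization.AtPrime
        (RingHom.ker (σ.comp (algebraMap A (integralClosure A (FractionRing A))))))
      (RingHom.ker (σ.comp (algebraMap A (integralClosure A (FractionRing A)))))
      (Groth.Agent.Lib.Helper6.GU.gu'_of_isGeomUnibranch _ _ (hGU _)) σ τ hστ rfl
  refine ⟨⟨?_, ?_⟩, ?_⟩
  · intro hUI p hp
    have hrad : Groth.Agent.Lib.Helper6.GU.Radicial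
        (algebraMap A (integralClosure A (FractionRing A))) := by
      intro Ω _ σ τ hστ
      exact (Groth.Agent.Lib.Helper6.UnivHomeoRing.universallyInjective_SpecMap_iff
        (CommRingCat.ofHom (algebraMap A (integralClosure A (FractionRing A))))).mp hUI Ω σ τ hστ
    have hU := Groth.Agent.Lib.Helper6.GU.uh_of_radicial hrad
    exact Groth.Agent.Lib.Helper6.GU.isGeomUnibranch_of_gu' _ (FractionRing A)
      (Groth.Agent.Lib.Helper6.GU.gu'_of_uh p hU)
  · intro hGU
    rw [Groth.Agent.Lib.Helper6.UnivHomeoRing.universallyInjective_SpecMap_iff]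
    intro Ω _ σ τ hστ
    exact hX hGU Ω σ τ hστ
  · intro hGU
    have hU := Groth.Agent.Lib.Helper6.GU.uh_of_radicial (hX hGU)
    rw [isHomeomorph_iff_continuous_isClosedMap_bijective]
    exact ⟨PrimeSpectrum.continuous_comap _,
      PrimeSpectrum.isClosedMap_comap_of_isIntegral _ hU.1,
      Groth.Agent.Lib.Helper6.AWN.uh_comap_injective hU, hU.2.2⟩

end Groth.Agent.S4567
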