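import Groth.Statements.S4568
import Mathlib
import Groth.Agent.Lib.Helper18.IC2

set_option autoImplicit false
universe u
open CAlg

namespace Groth.Agent.S4568

/-- Let A be a Noetherian domain with fraction field K and A' its integral closure in K. Assume that for
every sub-A-algebra C of A' which is finite over A, every height-one prime of C lies over a
height-one prime of A. Then A' is the intersection in K of the localizations A'_p over the
height-one primes p of A. -/
theorem result {A : Type u} [CommRing A] [IsDomain A] [IsNoetherianRing A]
    (h : ∀ C : Subalgebra A (FractionRing A), C ≤ integralClosure A (FractionRing A) → Module.Finite A C →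
      ∀ (q : Ideal C) [q.IsPrime], q.height = 1 → (q.comap (algebraMap A C)).height = 1) :
    (integralClosure A (FractionRing A) : Set (FractionRing A)) =
      ⋂ (p : PrimeSpectrum A) (_ : p.asIdeal.height = 1),
        {x : FractionRing A | ∃ s : A, s ∉ p.asIdeal ∧
          algebraMap A (FractionRing A) s * x ∈ integralClosure A (FractionRing A)} := by
  ext x
  simp only [Set.mem_iInter, Set.mem_setOf_eq, SetLike.mem_coe]
  constructor
  · intro hx p _
    refine ⟨1, (Ideal.ne_top_iff_one _).mp p.2.ne_top, ?_⟩
    simpa using hx
  · intro hx
    obtain ⟨I, hI⟩ : ∃ I : Ideal A, ∀ a : A, a ∈ I ↔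
        IsIntegral A (algebraMap A (FractionRing A) a * x) := by
      refine ⟨{ carrier := {a | IsIntegral A (algebraMap A (FractionRing A) a * x)}
                add_mem' := ?_
                zero_mem' := ?_
                smul_mem' := ?_ }, fun a => Iff.rfl⟩
      · intro a b ha hb
        change IsIntegral A (algebraMap A (FractionRing A) (a + b) * x)
        rw [map_add, add_mul]
        exact ha.add hb
      · change IsIntegral A (algebraMap A (FractionRing A) 0 * x)
        rw [map_zero, zero_mul]
        exact isIntegral_zero
      · intro c a ha
        change IsIntegral A (algebraMap A (FractionRing A) (c • a) * x)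
        rw [smul_eq_mul, map_mul, mul_assoc]
        exact isIntegral_algebraMap.mul ha
    by_cases hItop : I = ⊤
    · have h1 : (1 : A) ∈ I := by rw [hItop]; exact Submodule.mem_top
      rw [hI, map_one, one_mul] at h1
      exact h1
    · exfalso
      obtain ⟨𝔪, h𝔪, hle⟩ := Ideal.exists_le_maximal I hItop
      haveI := h𝔪.isPrime
      obtain ⟨t, ht, hti⟩ := Groth.Agent.Lib.Helper18.IC1.core (K := FractionRing A) 𝔪
        (Localization.AtPrime 𝔪) h x (fun 𝔭 _ h𝔭 => by
          obtain ⟨s, hs, hsx⟩ := hx ⟨𝔭, inferInstance⟩ h𝔭
          exact ⟨s, hs, hsx⟩)
      exact ht (hle ((hI t).mpr hti))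

end Groth.Agent.S4568
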