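import Groth.Statements.S4569
import Mathlib.Tactic.LinearCombination
import Mathlib.Tactic.Ring
-- import your own Groth.Agent.* helpers here

set_option autoImplicit false
universe u
open CAlg

namespace Groth.Agent.S4569

/-- Let A be a ring, x a non-zero-divisor of A with p = xA prime. For every n > 0 the inverse image in A
of x^n A_p is x^n A. -/
theorem result {A : Type u} [CommRing A] (x : A)
    (hx : x ∈ nonZeroDivisors A) [(Ideal.span ({x} : Set A)).IsPrime] (n : ℕ) (hn : 0 < n) :
    Ideal.comap (algebraMap A (Localization.AtPrime (Ideal.span ({x} : Set A))))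
      (Ideal.map (algebraMap A (Localization.AtPrime (Ideal.span ({x} : Set A)))) (Ideal.span ({x ^ n} : Set A))) =
      Ideal.span ({x ^ n} : Set A) := by
  have hprime : (Ideal.span ({x} : Set A)).IsPrime := inferInstance
  have key : ∀ (n : ℕ) (s a b : A), s ∉ Ideal.span ({x} : Set A) → s * a = x ^ n * b →
      a ∈ Ideal.span ({x ^ n} : Set A) := by
    intro n
    induction n with
    | zero => intro s a b _ _; simp
    | succ n ih =>
      intro s a b hs hab
      have h1 : s * a ∈ Ideal.span ({x} : Set A) := by
        rw [hab, pow_succ, mul_assoc]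
        exact Ideal.mul_mem_left _ _ (Ideal.mul_mem_right _ _ (Ideal.mem_span_singleton_self x))
      have h2 : a ∈ Ideal.span ({x} : Set A) := (hprime.mem_or_mem h1).resolve_left hs
      obtain ⟨a', rfl⟩ := Ideal.mem_span_singleton'.mp h2
      have h3 : s * a' = x ^ n * b := by
        have : x * (s * a') = x * (x ^ n * b) := by
          rw [pow_succ] at hab
          linear_combination hab
        exact (mul_cancel_left_mem_nonZeroDivisors hx).mp this
      obtain ⟨c, hc⟩ := Ideal.mem_span_singleton'.mp (ih s a' b hs h3)
      rw [Ideal.mem_span_singleton']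
      refine ⟨c, ?_⟩
      rw [← hc, pow_succ]; ring
  apply le_antisymm
  · intro a ha
    rw [Ideal.mem_comap, Ideal.map_span, Set.image_singleton, Ideal.mem_span_singleton'] at ha
    obtain ⟨y, hy⟩ := ha
    obtain ⟨⟨b, s⟩, hbs⟩ := IsLocalization.surj (Ideal.span ({x} : Set A)).primeCompl y
    simp only at hbs
    have h4 : algebraMap A (Localization.AtPrime (Ideal.span ({x} : Set A))) (s * a) =
        algebraMap A (Localization.AtPrime (Ideal.span ({x} : Set A))) (x ^ n * b) := by
      rw [map_mul, map_mul, ← hy, ← hbs]; ring
    obtain ⟨t, ht⟩ := (IsLocalization.eq_iff_exists (Ideal.span ({x} : Set A)).primeCompl _).mp h4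
    have h5 : ((t : A) * (s : A)) * a = x ^ n * ((t : A) * b) := by
      linear_combination ht
    refine key n ((t : A) * (s : A)) a ((t : A) * b) ?_ h5
    intro hmem
    rcases hprime.mem_or_mem hmem with h | h
    · exact t.2 h
    · exact s.2 h
  · exact Ideal.le_comap_map

end Groth.Agent.S4569
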