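import Groth.Statements.S4575
import Mathlib
import Groth.Agent.Lib.Helper21.RegularQuotient

set_option autoImplicit false
universe u
open IsLocalRing
open EGA41

open IsLocalRing

namespace S4575aux

/-- `d = dim R` generators of the maximal ideal of a regular local ring are independent mod `𝔪²`. -/
theorem indep_of_span_eq {R : Type u} [CommRing R] [IsRegularLocalRing R] (d : ℕ)
    (hd : ringKrullDim R = d) (x : Fin d → R) (hx : Ideal.span (Set.range x) = maximalIdeal R)
    (a : Fin d → R) (ha : ∑ i, a i * x i ∈ maximalIdeal R ^ 2) (i : Fin d) :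
    a i ∈ maximalIdeal R := by
  have hxm : ∀ i, x i ∈ maximalIdeal R := fun i => hx ▸ Ideal.subset_span ⟨i, rfl⟩
  let v : Fin d → CotangentSpace R := fun i => (maximalIdeal R).toCotangent ⟨x i, hxm i⟩
  have hfin : Module.finrank (ResidueField R) (CotangentSpace R) = d := by
    have := (IsRegularLocalRing.iff_finrank_cotangentSpace R).mp inferInstance
    rw [hd] at this
    exact_mod_cast this
  have hspan : ⊤ ≤ Submodule.span (ResidueField R) (Set.range v) := by
    intro z _
    obtain ⟨y, rfl⟩ := Ideal.toCotangent_surjective _ z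
    have hy : (y : R) ∈ Ideal.span (Set.range x) := by rw [hx]; exact y.2
    obtain ⟨c, hc⟩ := (Ideal.mem_span_range_iff_exists_fun).mp hy
    have : y = ∑ i, c i • (⟨x i, hxm i⟩ : maximalIdeal R) := by
      apply Subtype.ext
      rw [← hc]
      simp [Submodule.coe_sum]
    rw [this, map_sum]
    refine Submodule.sum_mem _ fun i _ => ?_
    rw [map_smul]
    have : c i • (maximalIdeal R).toCotangent ⟨x i, hxm i⟩ =
        (IsLocalRing.residue R (c i)) • v i := rfl
    rw [this]
    exact Submodule.smul_mem _ _ (Submodule.subset_span ⟨i, rfl⟩)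
  have hli : LinearIndependent (ResidueField R) v :=
    linearIndependent_of_top_le_span_of_card_eq_finrank hspan (by simp [hfin])
  have hz : ∑ i, (IsLocalRing.residue R (a i)) • v i = 0 := by
    have h1 : (maximalIdeal R).toCotangent ⟨∑ i, a i * x i,
        Ideal.sum_mem _ fun i _ => Ideal.mul_mem_left _ _ (hxm i)⟩ = 0 := by
      rw [Ideal.toCotangent_eq_zero]
      exact ha
    have h2 : (⟨∑ i, a i * x i, Ideal.sum_mem _ fun i _ => Ideal.mul_mem_left _ _ (hxm i)⟩ :
        maximalIdeal R) = ∑ i, a i • (⟨x i, hxm i⟩ : maximalIdeal R) := by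
      apply Subtype.ext
      simp [Submodule.coe_sum]
    rw [h2, map_sum] at h1
    rw [← h1]
    refine Finset.sum_congr rfl fun i _ => ?_
    rw [map_smul]
    rfl
  have := Fintype.linearIndependent_iff.mp hli _ hz i
  exact (IsLocalRing.residue_eq_zero_iff _).mp this

theorem main {R : Type u} [CommRing R] [IsRegularLocalRing R]
    (n : Ideal R) (hn : n ≠ ⊤) (hreg : IsRegularRing (R ⧸ n)) :
    n ⊓ maximalIdeal R ^ 2 = maximalIdeal R * n := by
  have hnm : n ≤ maximalIdeal R := IsLocalRing.le_maximalIdeal hn
  have : Nontrivial (R ⧸ n) := Ideal.Quotient.nontrivial_iff.mpr hn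
  have : IsLocalRing (R ⧸ n) := IsLocalRing.of_surjective' (Ideal.Quotient.mk n)
    Ideal.Quotient.mk_surjective
  have : IsRegularLocalRing (R ⧸ n) := IsRegularLocalRing.of_isRegularRing_of_isLocalRing (R ⧸ n)
  obtain ⟨d, hd⟩ := Groth.Agent.Lib.Helper21.exists_nat_eq_ringKrullDim (R := R)
  obtain ⟨x, c, hc, hx, hI⟩ :=
    Groth.Agent.Lib.Helper21.exists_generators_of_regular_quotient R d hd n
  apply le_antisymm
  · rintro y ⟨hyn, hym⟩
    rw [SetLike.mem_coe, hI] at hyn
    obtain ⟨a, ha⟩ := (Ideal.mem_span_range_iff_exists_fun).mp hyn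
    -- extend `a` by zero
    let a' : Fin d → R := fun i => if h : i.val < c then a ⟨i.val, h⟩ else 0
    have hsum : ∑ i, a' i * x i = y := by
      rw [← ha]
      have h1 : ∑ j : Fin c, a j * x (Fin.castLE hc j) =
          ∑ i ∈ (Finset.univ : Finset (Fin c)).map (Fin.castLEEmb hc), a' i * x i := by
        rw [Finset.sum_map]
        refine Finset.sum_congr rfl fun j _ => ?_
        have hj : ((Fin.castLEEmb hc) j).val < c := j.2
        simp only [a']
        rw [dif_pos hj]
        rfl
      rw [h1]
      symm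
      apply Finset.sum_subset (Finset.subset_univ _)
      intro i _ hi
      have hic : ¬ i.val < c := by
        intro h
        apply hi
        rw [Finset.mem_map]
        exact ⟨⟨i.val, h⟩, Finset.mem_univ _, Fin.ext rfl⟩
      simp only [a']
      rw [dif_neg hic, zero_mul]
    have hmem : ∀ i, a' i ∈ maximalIdeal R := fun i =>
      indep_of_span_eq d hd x hx a' (hsum ▸ hym) i
    rw [← hsum]
    refine Ideal.sum_mem _ fun i _ => ?_
    by_cases hic : i.val < c
    · refine Ideal.mul_mem_mul (hmem i) ?_
      rw [hI]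
      exact Ideal.subset_span ⟨⟨i.val, hic⟩, rfl⟩
    · simp only [a']
      rw [dif_neg hic, zero_mul]
      exact Ideal.zero_mem _
  · exact le_inf (Ideal.mul_le_left (I := n) (J := maximalIdeal R) |> fun h => (mul_comm n (maximalIdeal R)) ▸ h) (by
      rw [pow_two]; exact Ideal.mul_mono_right hnm)

end S4575aux

namespace Groth.Agent.S4575

/-- Let R be a regular local ring with maximal ideal m and n a proper ideal with R/n regular. Then
(n/n²) ⊗_R K → (m/m²) ⊗_R K is injective, K the residue field; stated in the equivalent form n ∩ m²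
= m·n (the kernel of n/mn → m/m² is (n ∩ m²)/mn). -/
theorem result {R : Type u} [CommRing R] [IsRegularLocalRing R]
    (n : Ideal R) (hn : n ≠ ⊤) (hreg : IsRegularRing (R ⧸ n)) :
    n ⊓ maximalIdeal R ^ 2 = maximalIdeal R * n := by
  exact S4575aux.main n hn hreg

end Groth.Agent.S4575
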