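import Groth.Statements.S4580
import Mathlib
import Groth.Agent.Lib.Helper23.Jacobian
-- import your own Groth.Agent.* helpers here

set_option autoImplicit false
universe u
open EGA41

namespace Groth.Agent.S4580

open Groth.Agent.Lib.Helper23.Jacobian


/-- Let k₀ be a field, k a separable (formally smooth) extension field of k₀, B = k[T_1, ..., T_r], J an
ideal of B and q a prime of B containing J, with image p in C = B/J. Then C_p is formally smooth
over k₀ for the discrete topologies if and only if there exist f_1, ..., f_m ∈ J whose images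
generate J B_q and k₀-derivations D_1, ..., D_m of B with det(D_j f_i) ∉ q. -/
theorem result {k₀ k : Type u} [Field k₀] [Field k] [Algebra k₀ k]
    [Algebra.FormallySmooth k₀ k] (r : ℕ) (J q : Ideal (MvPolynomial (Fin r) k)) [q.IsPrime] (hJq : J ≤ q)
    [(q.map (Ideal.Quotient.mk J)).IsPrime] :
    Algebra.FormallySmooth k₀ (Localization.AtPrime (q.map (Ideal.Quotient.mk J))) ↔
      ∃ (m : ℕ) (f : Fin m → MvPolynomial (Fin r) k) (D : Fin m → Derivation k₀ (MvPolynomial (Fin r) k) (MvPolynomial (Fin r) k)),
        (∀ i, f i ∈ J) ∧
        J.map (algebraMap (MvPolynomial (Fin r) k) (Localization.AtPrime q)) =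
          Ideal.span (Set.range fun i => algebraMap (MvPolynomial (Fin r) k) (Localization.AtPrime q) (f i)) ∧
        Matrix.det (Matrix.of fun i j => D j (f i)) ∉ q := by
  haveI : Algebra.FormallySmooth k₀ (MvPolynomial (Fin r) k) :=
    Algebra.FormallySmooth.comp k₀ k (MvPolynomial (Fin r) k)
  let e := quotLocEquiv (R := k₀) J q hJq
  have hf : Function.Surjective (algebraMap (Localization.AtPrime q)
      (Localization.AtPrime q ⧸ J.map (algebraMap (MvPolynomial (Fin r) k) (Localization.AtPrime q)))) :=
    Ideal.Quotient.mk_surjective
  have hker : RingHom.ker (algebraMap (Localization.AtPrime q)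
      (Localization.AtPrime q ⧸ J.map (algebraMap (MvPolynomial (Fin r) k) (Localization.AtPrime q))))
      = J.map (algebraMap (MvPolynomial (Fin r) k) (Localization.AtPrime q)) := by
    rw [Ideal.Quotient.algebraMap_eq, Ideal.mk_ker]
  constructor
  · intro h
    haveI : Algebra.FormallySmooth k₀ (Localization.AtPrime q ⧸
        J.map (algebraMap (MvPolynomial (Fin r) k) (Localization.AtPrime q))) :=
      Algebra.FormallySmooth.of_equiv
        (A := Localization.AtPrime (q.map (Ideal.Quotient.mk J))) e.symm
    exact jacobian_of_formallySmooth (R := k₀) (A := Localization.AtPrime q ⧸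
        J.map (algebraMap (MvPolynomial (Fin r) k) (Localization.AtPrime q))) q J hJq hf hker
  · rintro ⟨m, f, D₀, hfJ, hgen, hdet⟩
    haveI : Algebra.FormallySmooth k₀ (Localization.AtPrime q ⧸
        J.map (algebraMap (MvPolynomial (Fin r) k) (Localization.AtPrime q))) :=
      formallySmooth_of_jacobian (R := k₀) (A := Localization.AtPrime q ⧸
        J.map (algebraMap (MvPolynomial (Fin r) k) (Localization.AtPrime q))) q J hf hker f D₀ hfJ hgen hdet
    exact Algebra.FormallySmooth.of_equiv (A := Localization.AtPrime q ⧸
        J.map (algebraMap (MvPolynomial (Fin r) k) (Localization.AtPrime q))) e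

end Groth.Agent.S4580
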