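import Groth.Statements.S4581
import Mathlib
import Groth.Agent.S3441
-- import your own Groth.Agent.* helpers here

set_option autoImplicit false
universe u
open EGA41

namespace Groth.Agent.S4581
open TensorProduct

section gen
variable {R₀ A M : Type*} [CommRing R₀] [CommRing A] [Algebra R₀ A] [AddCommGroup M] [Module A M]
  [Module R₀ M] [IsScalarTower R₀ A M] (I : Ideal A) (d : Derivation R₀ A M)

include d in
lemma d_mem (n : ℕ) : ∀ {a : A}, a ∈ I ^ (n + 1) → d a ∈ (I ^ n • ⊤ : Submodule A M) := by
  induction n with
  | zero => intro a _; simp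
  | succ n ih =>
    intro a ha
    rw [pow_succ] at ha
    refine Submodule.mul_induction_on ha ?_ ?_
    · intro b hb c hc
      rw [Derivation.leibniz]
      refine add_mem (Submodule.smul_mem_smul hb Submodule.mem_top) ?_
      have h1 : c • d b ∈ I • (I ^ n • ⊤ : Submodule A M) := Submodule.smul_mem_smul hc (ih hb)
      rwa [← mul_smul, ← pow_succ'] at h1
    · intro x y hx hy
      rw [map_add]; exact add_mem hx hy

/-- The induced map on Cauchy sequences. -/
noncomputable def Phi (f : AdicCompletion.AdicCauchySequence I A) : AdicCompletion.AdicCauchySequence I M :=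
  ⟨fun n => d (f (n + 1)), by
    intro m n hmn
    have h := f.property (Nat.succ_le_succ hmn)
    rw [SModEq.sub_mem] at h ⊢
    rw [← map_sub]
    have h' : f.val (m + 1) - f.val (n + 1) ∈ I ^ (m + 1) := by simpa using h
    exact d_mem I d m h'⟩

@[simp] lemma Phi_apply (f : AdicCompletion.AdicCauchySequence I A) (n : ℕ) : Phi I d f n = d (f (n + 1)) := rfl

lemma mk_Phi_congr {f g : AdicCompletion.AdicCauchySequence I A}
    (h : AdicCompletion.mk I A f = AdicCompletion.mk I A g) :
    AdicCompletion.mk I M (Phi I d f) = AdicCompletion.mk I M (Phi I d g) := by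
  ext n
  have h1 := congrArg (fun x => x.val (n + 1)) h
  simp only [AdicCompletion.mk_apply_coe, Submodule.mkQ_apply] at h1 ⊢
  rw [Submodule.Quotient.eq] at h1 ⊢
  rw [Phi_apply, Phi_apply, ← map_sub]
  have h' : f (n + 1) - g (n + 1) ∈ I ^ (n + 1) := by simpa using h1
  exact d_mem I d n h'

/-- The extended derivation as a function. -/
noncomputable def Dfun (x : AdicCompletion I A) : AdicCompletion I M :=
  AdicCompletion.mk I M (Phi I d (Classical.choose (AdicCompletion.mk_surjective I A x)))

lemma Dfun_mk (f : AdicCompletion.AdicCauchySequence I A) :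
    Dfun I d (AdicCompletion.mk I A f) = AdicCompletion.mk I M (Phi I d f) :=
  mk_Phi_congr I d (Classical.choose_spec (AdicCompletion.mk_surjective I A _))

lemma Dfun_add (x y : AdicCompletion I A) : Dfun I d (x + y) = Dfun I d x + Dfun I d y := by
  induction x using AdicCompletion.induction_on with | _ f
  induction y using AdicCompletion.induction_on with | _ g
  rw [← map_add, Dfun_mk, Dfun_mk, Dfun_mk, ← map_add]
  congr 1
  ext n
  simp

lemma Dfun_mul (x y : AdicCompletion I A) :
    Dfun I d (x * y) = x • Dfun I d y + y • Dfun I d x := by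
  induction x using AdicCompletion.induction_on with | _ f
  induction y using AdicCompletion.induction_on with | _ g
  have hmul : AdicCompletion.mk I A f * AdicCompletion.mk I A g = AdicCompletion.mk I A (f * g) :=
    (map_mul (AdicCompletion.mkₐ I) f g).symm
  rw [hmul, Dfun_mk, Dfun_mk, Dfun_mk]
  ext n
  rw [AdicCompletion.val_add_apply, AdicCompletion.smul_eval, AdicCompletion.smul_eval]
  simp only [AdicCompletion.mk_apply_coe, Submodule.mkQ_apply, Phi_apply,
    AdicCompletion.mul_apply, Derivation.leibniz]
  have e1 : ∀ (a : A) (m : M), (Submodule.Quotient.mk a : A ⧸ (I ^ n • ⊤ : Ideal A)) •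
      (Submodule.Quotient.mk m : M ⧸ (I ^ n • ⊤ : Submodule A M)) =
      Submodule.Quotient.mk (a • m) := fun a m => rfl
  rw [e1, e1, ← Submodule.Quotient.mk_add, Submodule.Quotient.eq]
  have hf : f (n + 1) - f n ∈ I ^ n := by
    have h := f.property (Nat.le_succ n)
    rw [SModEq.sub_mem] at h
    have h' : f.val n - f.val (n + 1) ∈ I ^ n := by simpa using h
    simpa using neg_mem h'
  have hg : g (n + 1) - g n ∈ I ^ n := by
    have h := g.property (Nat.le_succ n)
    rw [SModEq.sub_mem] at h
    have h' : g.val n - g.val (n + 1) ∈ I ^ n := by simpa using h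
    simpa using neg_mem h'
  have key : f (n + 1) • d (g (n + 1)) + g (n + 1) • d (f (n + 1)) -
      (f n • d (g (n + 1)) + g n • d (f (n + 1))) =
      (f (n + 1) - f n) • d (g (n + 1)) + (g (n + 1) - g n) • d (f (n + 1)) := by
    rw [sub_smul, sub_smul]; abel
  rw [key]
  exact add_mem (Submodule.smul_mem_smul hf Submodule.mem_top)
    (Submodule.smul_mem_smul hg Submodule.mem_top)

lemma Dfun_of (a : A) : Dfun I d (AdicCompletion.of I A a) = AdicCompletion.of I M (d a) := by
  have : AdicCompletion.of I A a = AdicCompletion.mk I A ⟨fun _ => a, fun _ => rfl⟩ := by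
    ext n; rfl
  rw [this, Dfun_mk]
  ext n
  rfl

end gen

section main
variable {A₀ A : Type u} [CommRing A₀] [CommRing A] [Algebra A₀ A]
  [IsNoetherianRing A] (I : Ideal A) [Module.Finite A (Ω[A⁄A₀])]

local notation "Ahat" => AdicCompletion I A

/-- The transported map into the tensor product. -/
noncomputable def Dt (x : Ahat) : Ahat ⊗[A] Ω[A⁄A₀] :=
  (AdicCompletion.ofTensorProductEquivOfFiniteNoetherian I (Ω[A⁄A₀])).symm
    (Dfun I (KaehlerDifferential.D A₀ A) x)

lemma Dt_add (x y : Ahat) : Dt (A₀ := A₀) I (x + y) = Dt I x + Dt I y := by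
  unfold Dt; rw [Dfun_add, map_add]

lemma Dt_mul (x y : Ahat) : Dt (A₀ := A₀) I (x * y) = x • Dt I y + y • Dt I x := by
  unfold Dt; rw [Dfun_mul, map_add, map_smul, map_smul]

lemma Dt_of (a : A) : Dt (A₀ := A₀) I (algebraMap A Ahat a) = 1 ⊗ₜ KaehlerDifferential.D A₀ A a := by
  unfold Dt
  rw [AdicCompletion.algebraMap_apply, Algebra.algebraMap_self, RingHom.id_apply, Dfun_of,
    AdicCompletion.ofTensorProductEquivOfFiniteNoetherian_symm_of]

lemma Dt_algebraMap (r : A₀) : Dt (A₀ := A₀) I (algebraMap A₀ Ahat r) = 0 := by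
  rw [IsScalarTower.algebraMap_apply A₀ A Ahat, Dt_of]
  simp

/-- The extended derivation. -/
noncomputable def Dhat : Derivation A₀ Ahat (Ahat ⊗[A] Ω[A⁄A₀]) :=
  Derivation.mk' (R := A₀)
    { toFun := Dt I
      map_add' := Dt_add I
      map_smul' := fun r x => by
        rw [Algebra.smul_def, Dt_mul, Dt_algebraMap, smul_zero, add_zero, RingHom.id_apply,
          algebraMap_smul] }
    (Dt_mul I)

lemma Dhat_of (a : A) : Dhat (A₀ := A₀) I (algebraMap A Ahat a) = 1 ⊗ₜ KaehlerDifferential.D A₀ A a :=
  Dt_of I a

lemma leftInv : (Dhat (A₀ := A₀) I).liftKaehlerDifferential ∘ₗ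
    KaehlerDifferential.mapBaseChange A₀ A Ahat = LinearMap.id := by
  apply LinearMap.ext; intro x
  induction x using TensorProduct.induction_on with
  | zero => simp
  | tmul c m =>
    have hm : m ∈ Submodule.span A (Set.range (KaehlerDifferential.D A₀ A)) := by
      rw [KaehlerDifferential.span_range_derivation]; trivial
    induction hm using Submodule.span_induction generalizing c with
    | mem m hm =>
      obtain ⟨a, rfl⟩ := hm
      simp only [LinearMap.coe_comp, Function.comp_apply, KaehlerDifferential.mapBaseChange_tmul,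
        LinearMap.id_coe, id_eq, map_smul, KaehlerDifferential.map_D,
        Derivation.liftKaehlerDifferential_comp_D, Dhat_of, TensorProduct.smul_tmul', smul_eq_mul,
        mul_one]
    | zero => simp
    | add x y _ _ hx hy =>
      rw [TensorProduct.tmul_add, map_add, hx, hy]; rfl
    | smul r x _ hx =>
      rw [← TensorProduct.smul_tmul, hx]
  | add x y hx hy => rw [map_add, hx, hy]; rfl


/-- Let A₀ be a semi-local Noetherian ring, A a module-finite A₀-algebra and Â the completion of A for
the adic topology of its Jacobson radical. For the discrete topologies, Â is a formally smooth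
A-algebra relative to A₀. -/
theorem result {A₀ A : Type u} [CommRing A₀]
    [IsNoetherianRing A₀] [Finite (MaximalSpectrum A₀)] [CommRing A] [Algebra A₀ A] [Module.Finite A₀ A] :
    EGA41.IsFormallySmoothRel A₀ A (AdicCompletion (Ideal.jacobson (⊥ : Ideal A)) A) := by
  haveI : IsNoetherianRing A := IsNoetherianRing.of_finite A₀ A
  haveI : Algebra.FiniteType A₀ A := inferInstance
  haveI : Module.Finite A (Ω[A⁄A₀]) := inferInstance
  rw [← Groth.Agent.S3441.result]
  exact ⟨_, leftInv (A₀ := A₀) (Ideal.jacobson (⊥ : Ideal A))⟩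

end main

end Groth.Agent.S4581
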