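import Groth.Statements.S4584
import Mathlib

set_option autoImplicit false
universe u
open AlgebraicGeometry CategoryTheory Topology
open EGA41

namespace Groth.Agent.S4584



theorem piece (X : Scheme.{u}) [CompactSpace X] [QuasiSeparatedSpace X] (U : X.affineOpens)
    (V₀ : Set X) (hVo : IsOpen V₀) (hVc : IsCompact V₀) :
    ∃ (X' : Scheme.{u}) (f : X' ⟶ X), IsAffine X' ∧ LocallyOfFinitePresentation f ∧ QuasiCompact f ∧
      QuasiSeparated f ∧ Set.range f.base = (U.1 : Set X) \ V₀ := by
  have hU : IsAffineOpen U.1 := U.2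
  have hpre : IsCompact (⇑hU.fromSpec ⁻¹' V₀) ∧ IsOpen (⇑hU.fromSpec ⁻¹' V₀) :=
    ⟨QuasiCompact.isCompact_preimage (f := hU.fromSpec) _ hVo hVc,
      hVo.preimage hU.fromSpec.continuous⟩
  obtain ⟨t, ht⟩ := (PrimeSpectrum.isCompact_isOpen_iff (R := Γ(X, U.1))).mp hpre
  let I : Ideal Γ(X, U.1) := Ideal.span (t : Set Γ(X, U.1))
  let q : Γ(X, U.1) →+* (Γ(X, U.1) ⧸ I) := Ideal.Quotient.mk I
  have hq : Function.Surjective q := Ideal.Quotient.mk_surjective
  have hqfp : q.FinitePresentation := by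
    apply RingHom.FinitePresentation.of_surjective q hq
    rw [Ideal.mk_ker]
    exact ⟨t, rfl⟩
  haveI : LocallyOfFinitePresentation (Spec.map (CommRingCat.ofHom q)) :=
    (HasRingHomProperty.Spec_iff (P := @LocallyOfFinitePresentation)).mpr hqfp
  refine ⟨Spec (CommRingCat.of (Γ(X, U.1) ⧸ I)), Spec.map (CommRingCat.ofHom q) ≫ hU.fromSpec,
    inferInstance, inferInstance, inferInstance, inferInstance, ?_⟩
  have hr : Set.range ⇑(Spec.map (CommRingCat.ofHom q)) = PrimeSpectrum.zeroLocus (t : Set Γ(X, U.1)) := by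
    have := range_comap_of_surjective _ q hq
    rw [Ideal.mk_ker, PrimeSpectrum.zeroLocus_span] at this
    exact this
  show Set.range ⇑(Spec.map (CommRingCat.ofHom q) ≫ hU.fromSpec) = _
  rw [Scheme.Hom.comp_base, TopCat.coe_comp, Set.range_comp, hr]
  have h2 : PrimeSpectrum.zeroLocus (t : Set Γ(X, U.1)) = (⇑hU.fromSpec ⁻¹' V₀)ᶜ :=
    (compl_eq_comm.mp ht).symm
  rw [h2, ← Set.preimage_compl, Set.image_preimage_eq_inter_range, hU.range_fromSpec]
  ext x
  simp only [Set.mem_inter_iff, Set.mem_compl_iff, Set.mem_sdiff, SetLike.mem_coe]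
  tauto

/-- Given a scheme X that is quasi-compact and quasi-separated, together with a constructible subset Z
of X, one can find an affine scheme X' with a morphism X' → X of finite presentation whose image
equals Z. -/
theorem result (X : Scheme.{u}) [CompactSpace X]
    [QuasiSeparatedSpace X] (Z : Set X) (hZ : IsConstructible Z) :
    ∃ (X' : Scheme.{u}) (f : X' ⟶ X), IsAffine X' ∧ LocallyOfFinitePresentation f ∧ QuasiCompact f ∧
      QuasiSeparated f ∧ Set.range f.base = Z := by

  haveI : Nonempty X.affineOpens := ⟨⟨⊥, isAffineOpen_bot X⟩⟩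
  have basis : TopologicalSpace.IsTopologicalBasis
      (Set.range (fun U : X.affineOpens => (U.1 : Set X))) := by
    have := X.isBasis_affineOpens
    rw [TopologicalSpace.Opens.IsBasis, Set.image_eq_range] at this
    exact this
  induction Z, hZ using IsConstructible.induction_of_isTopologicalBasis
    (fun U : X.affineOpens => (U.1 : Set X)) basis (fun U => U.2.isCompact) with
  | sdiff U s hs =>
    exact piece X U (⋃ j ∈ s, (j.1 : Set X)) (isOpen_biUnion fun j _ => j.1.isOpen)
      (hs.isCompact_biUnion fun j _ => j.2.isCompact)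
  | union s hs t ht ihs iht =>
    obtain ⟨X₁, f₁, h1a, h1b, h1c, h1d, h1e⟩ := ihs
    obtain ⟨X₂, f₂, h2a, h2b, h2c, h2d, h2e⟩ := iht
    refine ⟨X₁ ⨿ X₂, Limits.coprod.desc f₁ f₂, inferInstance, ?_, inferInstance, inferInstance, ?_⟩
    · rw [IsZariskiLocalAtSource.iff_of_openCover (P := @LocallyOfFinitePresentation)
        (AlgebraicGeometry.coprodOpenCover.{u, 0} X₁ X₂)]
      rintro (⟨⟩ | ⟨⟩)
      · show LocallyOfFinitePresentation (Limits.coprod.inl ≫ Limits.coprod.desc f₁ f₂)
        rw [Limits.coprod.inl_desc]; exact h1b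
      · show LocallyOfFinitePresentation (Limits.coprod.inr ≫ Limits.coprod.desc f₁ f₂)
        rw [Limits.coprod.inr_desc]; exact h2b
    · show Set.range ⇑(Limits.coprod.desc f₁ f₂) = s ∪ t
      rw [← h1e, ← h2e]
      ext x
      constructor
      · rintro ⟨z, rfl⟩
        obtain ⟨(z | z), rfl⟩ := (AlgebraicGeometry.coprodMk X₁ X₂).surjective z
        · left
          refine ⟨z, ?_⟩
          rw [AlgebraicGeometry.coprodMk_inl, ← Scheme.Hom.comp_apply, Limits.coprod.inl_desc]
        · right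
          refine ⟨z, ?_⟩
          rw [AlgebraicGeometry.coprodMk_inr, ← Scheme.Hom.comp_apply, Limits.coprod.inr_desc]
      · rintro (⟨z, rfl⟩ | ⟨z, rfl⟩)
        · refine ⟨(Limits.coprod.inl : X₁ ⟶ X₁ ⨿ X₂) z, ?_⟩
          rw [← Scheme.Hom.comp_apply, Limits.coprod.inl_desc]
        · refine ⟨(Limits.coprod.inr : X₂ ⟶ X₁ ⨿ X₂) z, ?_⟩
          rw [← Scheme.Hom.comp_apply, Limits.coprod.inr_desc]

end Groth.Agent.S4584
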