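import Groth.Statements.S4585
import Mathlib
-- import your own Groth.Agent.* helpers here

set_option autoImplicit false
universe u
open AlgebraicGeometry CategoryTheory
open EGA41

namespace Groth.Agent.S4585

section helpers

/-- core lifting lemma: given a map to a field `L` algebraic over `A/p` in the integral sense,
primes of `A` above `p` not containing a suitable `a` lift to `B`. -/
theorem exists_lift_core {A B L : Type u} [CommRing A] [CommRing B] [Algebra A B]
    [Algebra.FiniteType A B] [Field L] [Algebra A L] (ψ : B →ₐ[A] L) (p : Ideal A) [p.IsPrime]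
    (hker : RingHom.ker (algebraMap A L) = p)
    (hint : ∀ x : L, ∃ a : A, a ∉ p ∧ IsIntegral A (a • x)) :
    ∃ a ∉ p, ∀ p' : Ideal A, p'.IsPrime → p ≤ p' → a ∉ p' →
      ∃ q' : Ideal B, q'.IsPrime ∧ q'.comap (algebraMap A B) = p' := by
  classical
  obtain ⟨s, hs⟩ := (Algebra.FiniteType.out : (⊤ : Subalgebra A B).FG)
  choose af haf using fun b : B => hint (ψ b)
  obtain ⟨a, ha⟩ : ∃ a : A, a = ∏ b ∈ s, af b := ⟨_, rfl⟩
  have hap : a ∉ p := by
    rw [ha]
    intro h
    obtain ⟨b, -, hb⟩ := (Ideal.IsPrime.prod_mem_iff (p := p)).mp h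
    exact (haf b).1 hb
  refine ⟨a, hap, ?_⟩
  -- `L` as an algebra over `A₁ = A[1/a]`
  have haL : IsUnit (algebraMap A L a) := by
    rw [isUnit_iff_ne_zero]
    intro h
    exact hap (hker ▸ (RingHom.mem_ker.mpr h))
  letI : Algebra (Localization.Away a) L := (IsLocalization.Away.lift a haL).toAlgebra
  haveI : IsScalarTower A (Localization.Away a) L := IsScalarTower.of_algebraMap_eq fun r => by
    rw [RingHom.algebraMap_toAlgebra, IsLocalization.Away.lift_eq]
  -- each `af b` for `b ∈ s` is a unit in `A₁`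
  have hunit : ∀ b ∈ s, IsUnit (algebraMap A (Localization.Away a) (af b)) := by
    intro b hb
    have h1 : IsUnit (algebraMap A (Localization.Away a) a) :=
      IsLocalization.Away.algebraMap_isUnit a
    have h2 : a = af b * ∏ x ∈ s.erase b, af x := by
      rw [ha, Finset.mul_prod_erase s af hb]
    rw [congrArg (algebraMap A (Localization.Away a)) h2, map_mul] at h1
    exact isUnit_of_mul_isUnit_left h1
  -- `ψ` lands in the integral closure of `A₁` in `L`
  have hmem : ∀ b : B, ψ b ∈ integralClosure (Localization.Away a) L := by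
    intro b
    have hb : b ∈ Algebra.adjoin A (s : Set B) := by rw [hs]; trivial
    induction hb using Algebra.adjoin_induction with
    | mem x hx =>
      obtain ⟨u, hu⟩ := hunit x hx
      have h1 : IsIntegral (Localization.Away a) (af x • ψ x) := (haf x).2.tower_top
      have h2 : ψ x = (↑u⁻¹ : Localization.Away a) • (af x • ψ x) := by
        rw [← algebraMap_smul (Localization.Away a) (af x) (ψ x), ← hu, smul_smul,
          Units.inv_mul, one_smul]
      rw [h2]
      exact Subalgebra.smul_mem _ h1 _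
    | algebraMap r =>
      rw [AlgHom.commutes, IsScalarTower.algebraMap_apply A (Localization.Away a) L]
      exact Subalgebra.algebraMap_mem _ _
    | add x y _ _ hx hy => rw [map_add]; exact Subalgebra.add_mem _ hx hy
    | mul x y _ _ hx hy => rw [map_mul]; exact Subalgebra.mul_mem _ hx hy
  obtain ⟨ψ₁, hψ₁⟩ : ∃ ψ₁ : B →+* integralClosure (Localization.Away a) L,
      ∀ b, (ψ₁ b : L) = ψ b :=
    ⟨ψ.toRingHom.codRestrict (integralClosure (Localization.Away a) L).toSubring hmem,
      fun b => rfl⟩
  intro p' hp' hpp' hap'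
  have hdisj : Disjoint (Submonoid.powers a : Set A) (p' : Set A) := by
    rw [Set.disjoint_left]
    rintro _ ⟨n, rfl⟩ hn
    exact hap' (hp'.mem_of_pow_mem n hn)
  haveI hP' : (Ideal.map (algebraMap A (Localization.Away a)) p').IsPrime :=
    IsLocalization.isPrime_of_isPrime_disjoint (Submonoid.powers a) _ p' hp' hdisj
  have hcomap : (Ideal.map (algebraMap A (Localization.Away a)) p').comap
      (algebraMap A (Localization.Away a)) = p' :=
    IsLocalization.under_map_of_isPrime_disjoint (Submonoid.powers a) _ hp' hdisj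
  have hkerle : (⊥ : Ideal (integralClosure (Localization.Away a) L)).comap
      (algebraMap (Localization.Away a) (integralClosure (Localization.Away a) L)) ≤
      Ideal.map (algebraMap A (Localization.Away a)) p' := by
    intro x hx
    rw [Ideal.mem_comap, Ideal.mem_bot] at hx
    have hx' : algebraMap (Localization.Away a) L x = 0 := by
      have := congrArg (Subtype.val) hx
      simpa using this
    obtain ⟨r, m, rfl⟩ := IsLocalization.exists_mk'_eq (Submonoid.powers a) x
    rw [IsLocalization.mk'_mem_map_algebraMap_iff]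
    refine ⟨1, one_mem _, ?_⟩
    rw [one_mul]
    apply hpp'
    rw [← hker, RingHom.mem_ker]
    have h3 : algebraMap (Localization.Away a) L (IsLocalization.mk' _ r m) *
        algebraMap (Localization.Away a) L (algebraMap A _ (m : A)) = 0 := by
      rw [hx', zero_mul]
    rw [← map_mul, IsLocalization.mk'_spec,
      ← IsScalarTower.algebraMap_apply A (Localization.Away a) L] at h3
    exact h3
  obtain ⟨Q, -, hQ, hQc⟩ := Ideal.exists_ideal_over_prime_of_isIntegral
    (Ideal.map (algebraMap A (Localization.Away a)) p')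
    (⊥ : Ideal (integralClosure (Localization.Away a) L)) hkerle
  refine ⟨Q.comap ψ₁, Ideal.comap_isPrime _ _, ?_⟩
  rw [Ideal.comap_comap]
  have hcomp : ψ₁.comp (algebraMap A B) =
      (algebraMap (Localization.Away a) (integralClosure (Localization.Away a) L)).comp
        (algebraMap A (Localization.Away a)) := by
    ext r
    simp only [RingHom.comp_apply]
    rw [hψ₁, AlgHom.commutes, IsScalarTower.algebraMap_apply A (Localization.Away a) L]
    rfl
  rw [hcomp, ← Ideal.comap_comap, hQc, hcomap]

/-- lifting lemma for a map to a finite extension of the residue field. -/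
theorem exists_lift_of_field {A B L : Type u} [CommRing A] [CommRing B] [Algebra A B]
    [Algebra.FiniteType A B] (p : Ideal A) [p.IsPrime] [Field L] [Algebra A L]
    [Algebra p.ResidueField L] [IsScalarTower A p.ResidueField L]
    [Module.Finite p.ResidueField L] (ψ : B →ₐ[A] L) :
    ∃ a ∉ p, ∀ p' : Ideal A, p'.IsPrime → p ≤ p' → a ∉ p' →
      ∃ q' : Ideal B, q'.IsPrime ∧ q'.comap (algebraMap A B) = p' := by
  refine exists_lift_core ψ p ?_ ?_
  · rw [IsScalarTower.algebraMap_eq A p.ResidueField L, ← RingHom.comap_ker,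
      (RingHom.injective_iff_ker_eq_bot _).mp (algebraMap p.ResidueField L).injective,
      ← RingHom.ker_eq_comap_bot, Ideal.ker_algebraMap_residueField]
  · intro x
    letI : Algebra (A ⧸ p) L :=
      ((algebraMap p.ResidueField L).comp (algebraMap (A ⧸ p) p.ResidueField)).toAlgebra
    haveI : IsScalarTower (A ⧸ p) p.ResidueField L := IsScalarTower.of_algebraMap_eq fun _ => rfl
    haveI : IsScalarTower A (A ⧸ p) L := IsScalarTower.of_algebraMap_eq fun r => by
      rw [IsScalarTower.algebraMap_apply A p.ResidueField L,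
        IsScalarTower.algebraMap_apply A (A ⧸ p) p.ResidueField]
      rfl
    have hx : IsIntegral p.ResidueField x := Algebra.IsIntegral.isIntegral x
    obtain ⟨⟨c, hc⟩, hcx⟩ := IsIntegral.exists_multiple_integral_of_isLocalization
      (nonZeroDivisors (A ⧸ p)) x hx
    obtain ⟨a, rfl⟩ := Ideal.Quotient.mk_surjective c
    refine ⟨a, ?_, ?_⟩
    · intro ha
      have h0 : (Ideal.Quotient.mk p) a = 0 := Ideal.Quotient.eq_zero_iff_mem.mpr ha
      rw [h0] at hc
      exact zero_notMem_nonZeroDivisors hc
    · haveI : Algebra.IsIntegral A (A ⧸ p) :=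
        Algebra.isIntegral_of_surjective Ideal.Quotient.mk_surjective
      have h1 : a • x = (Ideal.Quotient.mk p a) • x := by
        rw [← algebraMap_smul (A ⧸ p) a x]
        rfl
      rw [h1]
      exact isIntegral_trans (R := A) (A := A ⧸ p) _ hcx

/-- if `q` lies over `p`, then all primes above `p` in some basic open neighbourhood of `p` are in
the image of `Spec B → Spec A`. -/
theorem exists_lift_primes {A B : Type u} [CommRing A] [CommRing B] [Algebra A B]
    [Algebra.FiniteType A B] (p : Ideal A) [p.IsPrime] (q : Ideal B) [q.IsPrime]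
    (hq : q.comap (algebraMap A B) = p) :
    ∃ a ∉ p, ∀ p' : Ideal A, p'.IsPrime → p ≤ p' → a ∉ p' →
      ∃ q' : Ideal B, q'.IsPrime ∧ q'.comap (algebraMap A B) = p' := by
  haveI : Nontrivial (p.Fiber B) := by
    have : Nonempty (PrimeSpectrum (p.Fiber B)) :=
      ⟨PrimeSpectrum.primesOverOrderIsoFiber A B p ⟨q, ⟨inferInstance, ⟨hq.symm⟩⟩⟩⟩
    exact PrimeSpectrum.nonempty_iff_nontrivial.mp this
  obtain ⟨m, hm⟩ := Ideal.exists_maximal (p.Fiber B)
  letI : Field (p.Fiber B ⧸ m) := Ideal.Quotient.field m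
  haveI : Algebra.FiniteType p.ResidueField (p.Fiber B ⧸ m) :=
    Algebra.FiniteType.of_surjective (Ideal.Quotient.mkₐ p.ResidueField m)
      (Ideal.Quotient.mkₐ_surjective _ _)
  haveI : Module.Finite p.ResidueField (p.Fiber B ⧸ m) :=
    finite_of_finite_type_of_isJacobsonRing _ _
  exact exists_lift_of_field (L := p.Fiber B ⧸ m) p
    ((Ideal.Quotient.mkₐ A m).comp Algebra.TensorProduct.includeRight)

end helpers

/-- Let Y be an irreducible scheme with generic point η and f : X → Y locally of finite type with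
nonempty fibre over η. Then some open neighbourhood of η is contained in f(X). (The second
assertion, on fibres of a quasi-coherent module of finite type, is not stated.) -/
theorem result {X Y : Scheme.{u}} (f : X ⟶ Y)
    [LocallyOfFiniteType f] [IrreducibleSpace Y] (h : genericPoint Y ∈ Set.range f.base) :
    genericPoint Y ∈ interior (Set.range f.base) := by
  obtain ⟨x, hx⟩ := h
  -- affine opens
  obtain ⟨_, ⟨V, hV', rfl⟩, hηV, -⟩ := Y.isBasis_affineOpens.exists_subset_of_mem_open
    (Set.mem_univ (genericPoint Y)) isOpen_univ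
  have hV : IsAffineOpen V := hV'
  have hxV : x ∈ (f ⁻¹ᵁ V : X.Opens) := by
    show f.base x ∈ V
    rw [hx]; exact hηV
  obtain ⟨_, ⟨U, hU', rfl⟩, hxU, hUV⟩ := X.isBasis_affineOpens.exists_subset_of_mem_open
    hxV (f ⁻¹ᵁ V).isOpen
  have hU : IsAffineOpen U := hU'
  have e : U ≤ f ⁻¹ᵁ V := hUV
  have hft : RingHom.FiniteType (f.appLE V U e).hom :=
    HasRingHomProperty.appLE (P := @LocallyOfFiniteType) f inferInstance ⟨V, hV⟩ ⟨U, hU⟩ e
  letI : Algebra Γ(Y, V) Γ(X, U) := (f.appLE V U e).hom.toAlgebra
  haveI : Algebra.FiniteType Γ(Y, V) Γ(X, U) := hft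
  have hsq : Spec.map (f.appLE V U e) ≫ hV.fromSpec = hU.fromSpec ≫ f :=
    IsAffineOpen.SpecMap_appLE_fromSpec f hV hU e
  have hinj : Function.Injective hV.fromSpec := hV.fromSpec.isOpenEmbedding.injective
  -- the primes
  have hq : (hU.primeIdealOf ⟨x, hxU⟩).asIdeal.comap (algebraMap Γ(Y, V) Γ(X, U)) =
      (hV.primeIdealOf ⟨genericPoint Y, hηV⟩).asIdeal := by
    have h1 : hV.fromSpec (Spec.map (f.appLE V U e) (hU.primeIdealOf ⟨x, hxU⟩)) =
        hV.fromSpec (hV.primeIdealOf ⟨genericPoint Y, hηV⟩) := by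
      rw [← Scheme.Hom.comp_apply, hsq, Scheme.Hom.comp_apply, hU.fromSpec_primeIdealOf,
        hV.fromSpec_primeIdealOf]
      exact hx
    have h2 := hinj h1
    exact congrArg PrimeSpectrum.asIdeal h2
  obtain ⟨a, hap, hlift⟩ := exists_lift_primes
    (hV.primeIdealOf ⟨genericPoint Y, hηV⟩).asIdeal (hU.primeIdealOf ⟨x, hxU⟩).asIdeal hq
  rw [mem_interior]
  refine ⟨(hV.fromSpec ''ᵁ PrimeSpectrum.basicOpen a : Y.Opens), ?_,
    (hV.fromSpec ''ᵁ PrimeSpectrum.basicOpen a).isOpen, ?_⟩
  · rintro _ ⟨p', hp', rfl⟩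
    have hspec : hV.fromSpec (hV.primeIdealOf ⟨genericPoint Y, hηV⟩) ⤳ hV.fromSpec p' := by
      rw [hV.fromSpec_primeIdealOf]
      exact genericPoint_specializes _
    rw [hV.fromSpec.isOpenEmbedding.isInducing.specializes_iff] at hspec
    have hle : (hV.primeIdealOf ⟨genericPoint Y, hηV⟩).asIdeal ≤ p'.asIdeal :=
      (PrimeSpectrum.le_iff_specializes
        (hV.primeIdealOf ⟨genericPoint Y, hηV⟩ : PrimeSpectrum Γ(Y, V)) p').mpr hspec
    obtain ⟨q', hq'prime, hq'⟩ := hlift p'.asIdeal p'.2 hle hp'
    refine ⟨hU.fromSpec ⟨q', hq'prime⟩, ?_⟩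
    rw [← Scheme.Hom.comp_apply, ← hsq, Scheme.Hom.comp_apply]
    congr 1
    exact PrimeSpectrum.ext hq'
  · exact ⟨hV.primeIdealOf ⟨genericPoint Y, hηV⟩, hap, hV.fromSpec_primeIdealOf _⟩

end Groth.Agent.S4585
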