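import Groth.Statements.S4586
import Groth.Agent.Lib.Lead.ProConsScheme
import Mathlib

set_option autoImplicit false
universe u
open AlgebraicGeometry CategoryTheory Topology
open EGA41

namespace Groth.Agent.S4586

/-- Let f : X → Y be surjective and either quasi-compact or locally of finite presentation, E ⊆ Y. Then
E is locally constructible (resp. pro-constructible, resp. ind-constructible) if and only if f⁻¹(E)
is. -/
theorem result {X Y : Scheme.{u}} (f : X ⟶ Y) [Surjective f]
    (hf : QuasiCompact f ∨ LocallyOfFinitePresentation f) (E : Set Y) :
    (IsLocallyConstructible E ↔ IsLocallyConstructible (f.base ⁻¹' E)) ∧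
    (ProCons.IsProConstructible E ↔ ProCons.IsProConstructible (f.base ⁻¹' E)) ∧
    (ProCons.IsIndConstructible E ↔ ProCons.IsIndConstructible (f.base ⁻¹' E)) := by
  have hsurj : Function.Surjective f.base := ‹Surjective f›.surj
  have himg : ∀ S : Set Y, f.base '' (f.base ⁻¹' S) = S := fun S =>
    Set.image_preimage_eq S hsurj
  -- pro and ind statements
  have hpro : ProCons.IsProConstructible E ↔ ProCons.IsProConstructible (f.base ⁻¹' E) := by
    refine ⟨fun h => Groth.Agent.Lib.Lead.isProConstructible_preimage f h, fun h => ?_⟩
    rcases hf with hqc | hfp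
    · have := Groth.Agent.Lib.Lead.isProConstructible_image_of_quasiCompact f h
      rwa [himg] at this
    · have h1 := Groth.Agent.Lib.Lead.isIndConstructible_compl h
      rw [← Set.preimage_compl] at h1
      have h2 := Groth.Agent.Lib.Lead.isIndConstructible_image_of_locallyOfFinitePresentation f h1
      rw [himg] at h2
      have h3 := Groth.Agent.Lib.Lead.isProConstructible_compl h2
      rwa [compl_compl] at h3
  have hind : ProCons.IsIndConstructible E ↔ ProCons.IsIndConstructible (f.base ⁻¹' E) := by
    refine ⟨fun h => Groth.Agent.Lib.Lead.isIndConstructible_preimage f h, fun h => ?_⟩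
    rcases hf with hqc | hfp
    · have h1 := Groth.Agent.Lib.Lead.isProConstructible_compl h
      rw [← Set.preimage_compl] at h1
      have h2 := Groth.Agent.Lib.Lead.isProConstructible_image_of_quasiCompact f h1
      rw [himg] at h2
      have h3 := Groth.Agent.Lib.Lead.isIndConstructible_compl h2
      rwa [compl_compl] at h3
    · have := Groth.Agent.Lib.Lead.isIndConstructible_image_of_locallyOfFinitePresentation f h
      rwa [himg] at this
  refine ⟨?_, hpro, hind⟩
  rw [Groth.Agent.Lib.Lead.isLocallyConstructible_iff_ind_and_pro
      (Groth.Agent.Lib.Lead.locallySpectral_scheme Y),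
    Groth.Agent.Lib.Lead.isLocallyConstructible_iff_ind_and_pro
      (Groth.Agent.Lib.Lead.locallySpectral_scheme X), hpro, hind]

end Groth.Agent.S4586
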