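import Groth.Statements.S4587
import Mathlib.AlgebraicGeometry.Properties
-- import your own Groth.Agent.* helpers here

set_option autoImplicit false
universe u
open AlgebraicGeometry CategoryTheory
open EGA41

namespace Groth.Agent.S4587

/-- A morphism of schemes f : X → Y is generizing if and only if, for every irreducible closed subset Y'
of Y, each irreducible component of f⁻¹(Y') has dense image in Y'. -/
theorem result {X Y : Scheme.{u}} (f : X ⟶ Y) :
    GeneralizingMap f.base ↔
      ∀ Y' : Set Y, IsClosed Y' → IsIrreducible Y' →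
        ∀ Z ∈ irreducibleComponents ↥(f.base ⁻¹' Y'), closure (f.base '' (Subtype.val '' Z)) = Y' := by
  have hcont : Continuous f.base := f.continuous
  constructor
  · intro hgen Y' hY'c hY'i Z hZ
    have hWc : IsClosed (f.base ⁻¹' Y') := hY'c.preimage hcont
    have hZi : IsIrreducible Z := hZ.1
    have hZc : IsClosed Z := isClosed_of_mem_irreducibleComponents Z hZ
    have hZi' : IsIrreducible (Subtype.val '' Z : Set X) :=
      hZi.image _ continuous_subtype_val.continuousOn
    have hZc' : IsClosed (Subtype.val '' Z : Set X) :=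
      hWc.isClosedEmbedding_subtypeVal.isClosedMap _ hZc
    obtain ⟨ξ, hξ⟩ := QuasiSober.sober hZi' hZc'
    have hξZ : ξ ∈ (Subtype.val '' Z : Set X) := by rw [← hξ.def]; exact subset_closure rfl
    obtain ⟨⟨ξ0, hξ0W⟩, hξ0Z, rfl⟩ := hξZ
    obtain ⟨η, hη⟩ := QuasiSober.sober hY'i hY'c
    have hspec : η ⤳ f.base ξ0 := by
      rw [specializes_iff_mem_closure, hη.def]; exact hξ0W
    obtain ⟨ξ', hξ'ξ, hfξ'⟩ := hgen hspec
    have hξ'W : ξ' ∈ f.base ⁻¹' Y' := by
      change f.base ξ' ∈ Y'
      rw [hfξ', ← hη.def]; exact subset_closure rfl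
    apply Set.Subset.antisymm
    · apply closure_minimal _ hY'c
      rintro _ ⟨_, ⟨⟨x, hx⟩, _, rfl⟩, rfl⟩
      exact hx
    · have hη' : Y' ⊆ closure ({η} : Set Y) := hη.def.ge
      refine hη'.trans ?_
      apply closure_mono
      rw [Set.singleton_subset_iff]
      refine ⟨ξ', ⟨⟨ξ', hξ'W⟩, ?_, rfl⟩, hfξ'⟩
      -- closure of the point ξ' in the subspace is irreducible and contains Z
      have hirr : IsIrreducible (closure ({⟨ξ', hξ'W⟩} : Set ↥(f.base ⁻¹' Y'))) :=
        isIrreducible_singleton.closure
      have hsub : Z ⊆ closure ({⟨ξ', hξ'W⟩} : Set ↥(f.base ⁻¹' Y')) := by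
        intro z hz
        rw [Topology.IsInducing.subtypeVal.closure_eq_preimage_closure_image, Set.image_singleton]
        change (z : X) ∈ closure {ξ'}
        have h1 : (z : X) ∈ closure ({ξ0} : Set X) := by
          rw [hξ.def]; exact ⟨z, hz, rfl⟩
        have h2 : closure ({ξ0} : Set X) ⊆ closure {ξ'} := by
          rw [← specializes_iff_closure_subset]; exact hξ'ξ
        exact h2 h1
      exact hZ.2 hirr hsub (subset_closure rfl)
  · intro h a b hb
    have hY'c : IsClosed (closure ({b} : Set Y)) := isClosed_closure
    have hY'i : IsIrreducible (closure ({b} : Set Y)) := isIrreducible_singleton.closure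
    have haW : a ∈ f.base ⁻¹' closure ({b} : Set Y) := specializes_iff_mem_closure.mp hb
    have hWc : IsClosed (f.base ⁻¹' closure ({b} : Set Y)) := hY'c.preimage hcont
    let a0 : ↥(f.base ⁻¹' closure ({b} : Set Y)) := ⟨a, haW⟩
    have hZ := irreducibleComponent_mem_irreducibleComponents a0
    have hZi : IsIrreducible (irreducibleComponent a0) := hZ.1
    have hZc : IsClosed (irreducibleComponent a0) := isClosed_irreducibleComponent
    have hZi' : IsIrreducible (Subtype.val '' irreducibleComponent a0 : Set X) :=
      hZi.image _ continuous_subtype_val.continuousOn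
    have hZc' : IsClosed (Subtype.val '' irreducibleComponent a0 : Set X) :=
      hWc.isClosedEmbedding_subtypeVal.isClosedMap _ hZc
    obtain ⟨ξ, hξ⟩ := QuasiSober.sober hZi' hZc'
    have hcl := h _ hY'c hY'i _ hZ
    refine ⟨ξ, ?_, ?_⟩
    · change ξ ⤳ a
      rw [specializes_iff_mem_closure, hξ.def]
      exact ⟨a0, mem_irreducibleComponent, rfl⟩
    · rw [← hξ.def] at hcl
      have h1 : closure (f.base '' closure ({ξ} : Set X)) = closure {f.base ξ} := by
        apply Set.Subset.antisymm
        · apply closure_minimal _ isClosed_closure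
          have := image_closure_subset_closure_image (s := ({ξ} : Set X)) hcont
          rwa [Set.image_singleton] at this
        · apply closure_mono
          rw [Set.singleton_subset_iff]
          exact ⟨ξ, subset_closure rfl, rfl⟩
      rw [h1] at hcl
      exact (inseparable_iff_closure_eq.mpr hcl).eq

end Groth.Agent.S4587
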