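import Groth.Statements.S4590
import Mathlib.RingTheory.Flat.FaithfullyFlat.Algebra
import Mathlib.RingTheory.Flat.TorsionFree
import Mathlib.RingTheory.Polynomial.ScaleRoots
import Mathlib.RingTheory.IntegralClosure.Algebra.Basic
import Mathlib.Tactic.Ring
import Mathlib.Tactic.LinearCombination
-- import your own Groth.Agent.* helpers here

set_option autoImplicit false
universe u
open CAlg

namespace Groth.Agent.S4590

section general
variable {S : Type*} [CommRing S]

theorem span_pair_pow_succ_le (a s : S) (n : ℕ) :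
    Ideal.span {a, s} ^ (n + 1) ≤
      Ideal.span {a ^ (n + 1)} ⊔ Ideal.span {s} * Ideal.span {a, s} ^ n := by
  have hpair : Ideal.span ({a, s} : Set S) = Ideal.span {a} ⊔ Ideal.span {s} := by
    rw [Ideal.span_insert]
  induction n with
  | zero => simp [hpair]
  | succ n ih =>
    calc Ideal.span {a, s} ^ (n + 1 + 1)
        = Ideal.span {a, s} * Ideal.span {a, s} ^ (n + 1) := by rw [pow_succ']
      _ ≤ Ideal.span {a, s} * (Ideal.span {a ^ (n + 1)} ⊔
            Ideal.span {s} * Ideal.span {a, s} ^ n) := Ideal.mul_mono_right ih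
      _ = Ideal.span {a, s} * Ideal.span {a ^ (n + 1)} ⊔
            Ideal.span {a, s} * (Ideal.span {s} * Ideal.span {a, s} ^ n) := Ideal.mul_sup _ _ _
      _ ≤ _ := ?_
    apply sup_le
    · have hthis : Ideal.span {a, s} * Ideal.span {a ^ (n + 1)} =
          Ideal.span {a ^ (n + 1 + 1)} ⊔ Ideal.span {s} * Ideal.span {a ^ (n + 1)} := by
        conv_lhs => rw [hpair]
        rw [Ideal.sup_mul, Ideal.span_singleton_mul_span_singleton, ← pow_succ']
      rw [hthis]
      apply sup_le le_sup_left
      refine le_trans ?_ le_sup_right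
      apply Ideal.mul_mono_right
      rw [Ideal.span_singleton_le_iff_mem]
      exact Ideal.pow_mem_pow (Ideal.subset_span (by simp)) _
    · refine le_trans (le_of_eq ?_) le_sup_right
      rw [← mul_assoc, mul_comm (Ideal.span {a, s}) (Ideal.span {s}), mul_assoc, ← pow_succ']

/-- the reduction property of the pair `(a, s)` -/
def Red (a s : S) : Prop :=
  ∃ n : ℕ, Ideal.span {a, s} ^ (n + 1) ≤ Ideal.span {s} * Ideal.span {a, s} ^ n

theorem red_of_mem (a s : S) (n : ℕ)
    (h : a ^ (n + 1) ∈ Ideal.span {s} * Ideal.span {a, s} ^ n) : Red a s := by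
  refine ⟨n, (span_pair_pow_succ_le a s n).trans (sup_le ?_ le_rfl)⟩
  rwa [Ideal.span_singleton_le_iff_mem]

theorem mem_of_red (a s : S) (h : Red a s) :
    ∃ n : ℕ, a ^ (n + 1) ∈ Ideal.span {s} * Ideal.span {a, s} ^ n := by
  obtain ⟨n, hn⟩ := h
  exact ⟨n, hn (Ideal.pow_mem_pow (Ideal.subset_span (by simp)) _)⟩

theorem G1 (a s x : S) (d k : ℕ) (hx : x ∈ Ideal.span {s} * Ideal.span {a, s} ^ d) :
    x * a ^ k ∈ Ideal.span {s} * Ideal.span {a, s} ^ (d + k) := by
  rw [pow_add, ← mul_assoc]
  exact Ideal.mul_mem_mul hx (Ideal.pow_mem_pow (Ideal.subset_span (by simp)) _)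

theorem G2 (a s x y : S) (d e : ℕ) (hx : x ∈ Ideal.span {s} * Ideal.span {a, s} ^ d)
    (hy : y ∈ Ideal.span {s} * Ideal.span {a, s} ^ e) :
    x * y ∈ Ideal.span {s} * Ideal.span {a, s} ^ (d + 1 + e) := by
  have h1 : x * y ∈ (Ideal.span {s} * Ideal.span {a, s} ^ d) *
      (Ideal.span {s} * Ideal.span {a, s} ^ e) := Ideal.mul_mem_mul hx hy
  have hle : Ideal.span ({s} : Set S) ≤ Ideal.span {a, s} := Ideal.span_mono (by simp)
  have h2 : (Ideal.span {s} * Ideal.span {a, s} ^ d) * (Ideal.span {s} * Ideal.span {a, s} ^ e) ≤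
      Ideal.span {s} * Ideal.span {a, s} ^ (d + 1 + e) := by
    rw [pow_add, pow_add, pow_one]
    simp only [mul_assoc]
    exact Ideal.mul_mono_right (Ideal.mul_mono_right (Ideal.mul_mono_left hle))
  exact h2 h1

theorem lemmaA (a s j : S) (n : ℕ) (hj : j ∈ Ideal.span {s} * Ideal.span {a, s} ^ n) (N : ℕ) :
    (a ^ (n + 1) - j) ^ (N + 1) - a ^ ((n + 1) * (N + 1)) ∈
      Ideal.span {s} * Ideal.span {a, s} ^ ((n + 1) * N + n) := by
  induction N with
  | zero =>
    have : (a ^ (n + 1) - j) ^ (0 + 1) - a ^ ((n + 1) * (0 + 1)) = -j := by ring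
    rw [this]
    simpa using hj
  | succ N ih =>
    have hid : (a ^ (n + 1) - j) ^ (N + 1 + 1) - a ^ ((n + 1) * (N + 1 + 1)) =
        ((a ^ (n + 1) - j) ^ (N + 1) - a ^ ((n + 1) * (N + 1))) * a ^ (n + 1)
        - ((a ^ (n + 1) - j) ^ (N + 1) - a ^ ((n + 1) * (N + 1))) * j
        - j * a ^ ((n + 1) * (N + 1)) := by ring
    rw [hid]
    have e1 : (n + 1) * (N + 1) + n = ((n + 1) * N + n) + (n + 1) := by ring
    have e2 : (n + 1) * (N + 1) + n = ((n + 1) * N + n) + 1 + n := by ring
    have e3 : (n + 1) * (N + 1) + n = n + (n + 1) * (N + 1) := by ring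
    refine Ideal.sub_mem _ (Ideal.sub_mem _ ?_ ?_) ?_
    · rw [e1]; exact G1 a s _ _ _ ih
    · rw [e2]; exact G2 a s _ _ _ _ ih hj
    · rw [e3]; exact G1 a s _ _ _ hj

theorem red_of_isIntegral {C R : Type*} [CommRing C] [CommRing R] [Algebra C R]
    (hinj : Function.Injective (algebraMap C R)) (a s : C) (ρ : R)
    (h : algebraMap C R s * ρ = algebraMap C R a) (hint : IsIntegral C ρ) : Red a s := by
  obtain ⟨P, hP, hPρ⟩ := hint
  have hP'm : (P * Polynomial.X).Monic := hP.mul Polynomial.monic_X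
  have hP'ρ : Polynomial.eval₂ (algebraMap C R) ρ (P * Polynomial.X) = 0 := by
    rw [Polynomial.eval₂_mul, hPρ, zero_mul]
  by_cases hnt : Nontrivial C
  swap
  · rw [not_nontrivial_iff_subsingleton] at hnt
    exact ⟨0, le_of_eq (Subsingleton.elim _ _)⟩
  have hdeg : (P * Polynomial.X).natDegree = P.natDegree + 1 := by
    rw [hP.natDegree_mul Polynomial.monic_X, Polynomial.natDegree_X]
  have hQm : (Polynomial.scaleRoots (P * Polynomial.X) s).Monic :=
    (Polynomial.monic_scaleRoots_iff s).mpr hP'm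
  have hQdeg : (Polynomial.scaleRoots (P * Polynomial.X) s).natDegree = P.natDegree + 1 := by
    rw [Polynomial.natDegree_scaleRoots, hdeg]
  have hQ : (Polynomial.scaleRoots (P * Polynomial.X) s).eval a = 0 := by
    apply hinj
    rw [map_zero, ← Polynomial.eval₂_at_apply, ← h]
    exact Polynomial.scaleRoots_eval₂_eq_zero _ hP'ρ
  rw [Polynomial.eval_eq_sum_range, hQdeg, Finset.sum_range_succ, ← hQdeg,
    hQm.coeff_natDegree, one_mul, hQdeg] at hQ
  apply red_of_mem a s P.natDegree
  have hval : a ^ (P.natDegree + 1) = -(∑ i ∈ Finset.range (P.natDegree + 1),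
      (Polynomial.scaleRoots (P * Polynomial.X) s).coeff i * a ^ i) := by
    linear_combination hQ
  rw [hval, Ideal.neg_mem_iff]
  apply Ideal.sum_mem
  intro i hi
  rw [Finset.mem_range] at hi
  rw [Polynomial.coeff_scaleRoots, hdeg]
  have e1 : P.natDegree + 1 - i = (P.natDegree - i) + 1 := by omega
  have e2 : (P * Polynomial.X).coeff i * s ^ (P.natDegree + 1 - i) * a ^ i =
      s * ((P * Polynomial.X).coeff i * (s ^ (P.natDegree - i) * a ^ i)) := by
    rw [e1]; ring
  rw [e2]
  apply Ideal.mul_mem_mul (Ideal.mem_span_singleton_self s)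
  apply Ideal.mul_mem_left
  have e3 : (P.natDegree - i) + i = P.natDegree := by omega
  have key : s ^ (P.natDegree - i) * a ^ i ∈
      Ideal.span {a, s} ^ ((P.natDegree - i) + i) := by
    rw [pow_add]
    exact Ideal.mul_mem_mul (Ideal.pow_mem_pow (Ideal.subset_span (by simp)) _)
      (Ideal.pow_mem_pow (Ideal.subset_span (by simp)) _)
  rwa [e3] at key

theorem red_of_red_quotient {B : Type*} [CommRing B] (I : Ideal B) (hI : I ≤ nilradical B)
    (a s : B) (h : Red (Ideal.Quotient.mk I a) (Ideal.Quotient.mk I s)) : Red a s := by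
  obtain ⟨n, hn⟩ := mem_of_red _ _ h
  have hmap : Ideal.span {Ideal.Quotient.mk I s} *
      Ideal.span {Ideal.Quotient.mk I a, Ideal.Quotient.mk I s} ^ n =
      Ideal.map (Ideal.Quotient.mk I) (Ideal.span {s} * Ideal.span {a, s} ^ n) := by
    rw [Ideal.map_mul, Ideal.map_pow, Ideal.map_span, Ideal.map_span, Set.image_singleton,
      Set.image_pair]
  rw [hmap, ← map_pow, Ideal.mem_map_iff_of_surjective _ Ideal.Quotient.mk_surjective] at hn
  obtain ⟨j, hj, hjeq⟩ := hn
  have hβ : a ^ (n + 1) - j ∈ I := by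
    rw [← Ideal.Quotient.eq_zero_iff_mem, map_sub, hjeq, sub_self]
  obtain ⟨N, hN⟩ := hI hβ
  have hN' : (a ^ (n + 1) - j) ^ (N + 1) = 0 := by rw [pow_succ, hN, zero_mul]
  have hA := lemmaA a s j n hj N
  rw [hN', zero_sub, Ideal.neg_mem_iff] at hA
  apply red_of_mem a s ((n + 1) * N + n)
  have e : (n + 1) * N + n + 1 = (n + 1) * (N + 1) := by ring
  rw [e]
  exact hA

theorem red_of_faithfullyFlat {A B : Type*} [CommRing A] [CommRing B] [Algebra A B]
    [Module.FaithfullyFlat A B] (a s : A) (h : Red (algebraMap A B a) (algebraMap A B s)) :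
    Red a s := by
  obtain ⟨n, hn⟩ := h
  refine ⟨n, ?_⟩
  have h1 : Ideal.span {algebraMap A B a, algebraMap A B s} ^ (n + 1) =
      Ideal.map (algebraMap A B) (Ideal.span {a, s} ^ (n + 1)) := by
    rw [Ideal.map_pow, Ideal.map_span, Set.image_pair]
  have h2 : Ideal.span {algebraMap A B s} * Ideal.span {algebraMap A B a, algebraMap A B s} ^ n =
      Ideal.map (algebraMap A B) (Ideal.span {s} * Ideal.span {a, s} ^ n) := by
    rw [Ideal.map_mul, Ideal.map_pow, Ideal.map_span, Ideal.map_span, Set.image_singleton,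
      Set.image_pair]
  rw [h1, h2] at hn
  calc Ideal.span {a, s} ^ (n + 1)
      ≤ Ideal.comap (algebraMap A B) (Ideal.map (algebraMap A B) (Ideal.span {a, s} ^ (n + 1))) :=
        Ideal.le_comap_map
    _ ≤ Ideal.comap (algebraMap A B)
          (Ideal.map (algebraMap A B) (Ideal.span {s} * Ideal.span {a, s} ^ n)) :=
        Ideal.comap_mono hn
    _ = _ := Ideal.comap_map_eq_self_of_faithfullyFlat _

theorem isIntegral_of_red {A K : Type*} [CommRing A] [IsDomain A] [Field K] [Algebra A K]
    [IsFractionRing A K] (a s : A) (hs : s ≠ 0) (x : K)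
    (hx : algebraMap A K s * x = algebraMap A K a) (h : Red a s) : IsIntegral A x := by
  obtain ⟨n, hn⟩ := h
  have hσ : algebraMap A K s ≠ 0 := by
    rwa [Ne, IsFractionRing.to_map_eq_zero_iff]
  have hσn : (algebraMap A K s) ^ n ≠ 0 := pow_ne_zero _ hσ
  let L : A →ₗ[A] K := LinearMap.toSpanSingleton A K ((algebraMap A K s ^ n)⁻¹)
  have hL : ∀ t : A, L t = algebraMap A K t * (algebraMap A K s ^ n)⁻¹ := by
    intro t
    simp [L, LinearMap.toSpanSingleton_apply, Algebra.smul_def]
  let N : Submodule A K := Submodule.map L (Ideal.span {a, s} ^ n)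
  have hfg : N.FG := by
    apply Submodule.FG.map
    apply Submodule.FG.pow
    exact Submodule.fg_span (Set.toFinite _)
  have hne : N ≠ ⊥ := by
    rw [Submodule.ne_bot_iff]
    refine ⟨1, ⟨s ^ n, Ideal.pow_mem_pow (Ideal.subset_span (by simp)) _, ?_⟩, one_ne_zero⟩
    rw [hL, map_pow, mul_inv_cancel₀ hσn]
  refine isIntegral_of_smul_mem_submodule N hne hfg x ?_
  rintro _ ⟨t, ht, rfl⟩
  have h1 : a * t ∈ Ideal.span {a, s} ^ (n + 1) := by
    rw [pow_succ']
    exact Ideal.mul_mem_mul (Ideal.subset_span (by simp)) ht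
  obtain ⟨t', ht', htt'⟩ := Ideal.mem_span_singleton_mul.mp (hn h1)
  refine ⟨t', ht', ?_⟩
  rw [hL, hL, smul_eq_mul, ← mul_assoc]
  congr 1
  apply mul_left_cancel₀ hσ
  rw [← mul_assoc, hx, ← map_mul, ← map_mul, htt']

end general

/-- Let A be a domain with fraction field K, B a faithfully flat A-algebra, C = B_red and R the total
ring of fractions of C. Then A → C is injective with nonzero elements going to non-zero-divisors, so
that K embeds in R, and an element of K is integral over C in R if and only if it is integral over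
A. -/
theorem result {A B : Type u} [CommRing A] [IsDomain A]
    [CommRing B] [Algebra A B] [Module.FaithfullyFlat A B] :
    Function.Injective (algebraMap A (B ⧸ nilradical B)) ∧
    (∀ a : A, a ≠ 0 → algebraMap A (B ⧸ nilradical B) a ∈ nonZeroDivisors (B ⧸ nilradical B)) ∧
    ∀ (R : Type u) [CommRing R] [Algebra (B ⧸ nilradical B) R] [IsFractionRing (B ⧸ nilradical B) R]
      [Algebra A R] [IsScalarTower A (B ⧸ nilradical B) R] [Algebra (FractionRing A) R]
      [IsScalarTower A (FractionRing A) R] (x : FractionRing A),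
      IsIntegral (B ⧸ nilradical B) (algebraMap (FractionRing A) R x) ↔ IsIntegral A x := by
  have hinjAB : Function.Injective (algebraMap A B) := FaithfulSMul.algebraMap_injective A B
  have hmk : ∀ a : A, algebraMap A (B ⧸ nilradical B) a =
      Ideal.Quotient.mk (nilradical B) (algebraMap A B a) := fun a => rfl
  have hinj : Function.Injective (algebraMap A (B ⧸ nilradical B)) := by
    rw [injective_iff_map_eq_zero]
    intro a ha
    rw [hmk, Ideal.Quotient.eq_zero_iff_mem] at ha
    obtain ⟨n, hn⟩ := ha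
    rw [← map_pow] at hn
    have : a ^ n = 0 := hinjAB (by rw [hn, map_zero])
    exact eq_zero_of_pow_eq_zero this
  have hnzd : ∀ a : A, a ≠ 0 →
      algebraMap A (B ⧸ nilradical B) a ∈ nonZeroDivisors (B ⧸ nilradical B) := by
    intro a ha
    rw [mem_nonZeroDivisors_iff_right]
    intro c hc
    obtain ⟨c, rfl⟩ := Ideal.Quotient.mk_surjective c
    rw [hmk, ← map_mul, Ideal.Quotient.eq_zero_iff_mem] at hc
    obtain ⟨n, hn⟩ := hc
    rw [Ideal.Quotient.eq_zero_iff_mem]
    refine ⟨n, ?_⟩
    rw [mul_pow, ← map_pow] at hn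
    have han : a ^ n ∈ nonZeroDivisors A := mem_nonZeroDivisors_of_ne_zero (pow_ne_zero n ha)
    have hreg := Module.Flat.isSMulRegular_of_nonZeroDivisors (M := B) han
    apply hreg
    change a ^ n • c ^ n = a ^ n • (0 : B)
    rw [smul_zero, Algebra.smul_def, mul_comm]
    exact hn
  refine ⟨hinj, hnzd, ?_⟩
  intro R _ _ _ _ _ _ _ x
  constructor
  · intro hint
    obtain ⟨a, s, rfl⟩ := IsLocalization.exists_mk'_eq (nonZeroDivisors A) x
    have hs : (s : A) ≠ 0 := nonZeroDivisors.ne_zero s.2
    have hx : algebraMap A (FractionRing A) s * IsLocalization.mk' (FractionRing A) a s =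
        algebraMap A (FractionRing A) a := IsLocalization.mk'_spec' _ a s
    have hρ : algebraMap (B ⧸ nilradical B) R (algebraMap A (B ⧸ nilradical B) s) *
        algebraMap (FractionRing A) R (IsLocalization.mk' (FractionRing A) a s) =
        algebraMap (B ⧸ nilradical B) R (algebraMap A (B ⧸ nilradical B) a) := by
      rw [← IsScalarTower.algebraMap_apply, ← IsScalarTower.algebraMap_apply,
        IsScalarTower.algebraMap_apply A (FractionRing A) R,
        IsScalarTower.algebraMap_apply A (FractionRing A) R, ← map_mul, hx]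
    have h1 : Red (algebraMap A (B ⧸ nilradical B) a) (algebraMap A (B ⧸ nilradical B) s) :=
      red_of_isIntegral (IsFractionRing.injective (B ⧸ nilradical B) R) _ _ _ hρ hint
    rw [hmk, hmk] at h1
    have h2 : Red (algebraMap A B a) (algebraMap A B s) :=
      red_of_red_quotient (nilradical B) le_rfl _ _ h1
    have h3 : Red a (s : A) := red_of_faithfullyFlat a s h2
    exact isIntegral_of_red a s hs _ hx h3
  · intro hint
    have h1 : IsIntegral A (algebraMap (FractionRing A) R x) :=
      hint.map (IsScalarTower.toAlgHom A (FractionRing A) R)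
    exact h1.tower_top

end Groth.Agent.S4590
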