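import Groth.Statements.S4593
import Mathlib.CategoryTheory.Limits.ConcreteCategory.Basic
import Mathlib.RingTheory.Spectrum.Prime.RingHom
-- import your own Groth.Agent.* helpers here

set_option autoImplicit false
universe u
open CategoryTheory CategoryTheory.Limits AlgebraicGeometry
open EGA41

namespace Groth.Agent.S4593

/-- Let B be a ring, (A_i) a filtered system of B-algebras with colimit A. The image of Spec A in Spec B
is the intersection of the images of the Spec A_i. -/
theorem result {I : Type u} [SmallCategory I] [IsFiltered I]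
    (B : CommRingCat.{u}) (D : I ⥤ CommRingCat.{u}) (s : (Functor.const I).obj B ⟶ D) (c : Cocone D)
    (hc : IsColimit c) (i₀ : I) :
    Set.range (Spec.map (s.app i₀ ≫ c.ι.app i₀)).base = ⋂ i : I, Set.range (Spec.map (s.app i)).base := by
  -- (a) compatibility of the structure maps
  have ha : ∀ {i j : I} (f : i ⟶ j), s.app i ≫ D.map f = s.app j := by
    intro i j f
    have := s.naturality f
    simp only [Functor.const_obj_obj, Functor.const_obj_map, Category.id_comp] at this
    exact this.symm
  -- (b) all the composites to the colimit agree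
  have hb : ∀ i : I, s.app i ≫ c.ι.app i = s.app i₀ ≫ c.ι.app i₀ := by
    intro i
    let k := IsFiltered.max i i₀
    have h1 : s.app i ≫ c.ι.app i = s.app k ≫ c.ι.app k := by
      rw [← c.w (IsFiltered.leftToMax i i₀), ← Category.assoc, ha]
    have h2 : s.app i₀ ≫ c.ι.app i₀ = s.app k ≫ c.ι.app k := by
      rw [← c.w (IsFiltered.rightToMax i i₀), ← Category.assoc, ha]
    rw [h1, h2]
  have ha' : ∀ {i j : I} (f : i ⟶ j) (b : B), (D.map f).hom ((s.app i).hom b) = (s.app j).hom b := by
    intro i j f b
    rw [← ha f]; rfl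
  have hb' : ∀ (i : I) (b : B), (c.ι.app i).hom ((s.app i).hom b) =
      (c.ι.app i₀).hom ((s.app i₀).hom b) := by
    intro i b
    have := congrArg (fun t => t.hom b) (hb i)
    exact this
  have hw' : ∀ {i j : I} (f : i ⟶ j) (x : D.obj i), (c.ι.app j).hom ((D.map f).hom x) =
      (c.ι.app i).hom x := by
    intro i j f x
    have := congrArg (fun t => t.hom x) (c.w f)
    exact this
  -- (d) equality in the colimit is detected at a later stage
  have hd : ∀ (i : I) (x y : D.obj i), (c.ι.app i).hom x = (c.ι.app i).hom y →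
      ∃ (k : I) (f : i ⟶ k), (D.map f).hom x = (D.map f).hom y := by
    intro i x y hxy
    obtain ⟨k, f, g, hfg⟩ := CategoryTheory.Limits.Concrete.isColimit_exists_of_rep_eq D hc x y hxy
    refine ⟨IsFiltered.coeq f g, f ≫ IsFiltered.coeqHom f g, ?_⟩
    have e1 : (D.map (f ≫ IsFiltered.coeqHom f g)).hom x =
        (D.map (IsFiltered.coeqHom f g)).hom ((D.map f).hom x) := by
      rw [D.map_comp]; rfl
    have e2 : (D.map (f ≫ IsFiltered.coeqHom f g)).hom y =
        (D.map (IsFiltered.coeqHom f g)).hom ((D.map g).hom y) := by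
      rw [IsFiltered.coeq_condition f g, D.map_comp]; rfl
    rw [e1, e2]
    exact congrArg _ hfg
  -- transport of extended ideals along transition maps
  have hmapmono : ∀ {i j : I} (f : i ⟶ j) (q : Ideal B) (a : D.obj i),
      a ∈ q.map (s.app i).hom → (D.map f).hom a ∈ q.map (s.app j).hom := by
    intro i j f q a hmem
    have h1 : (D.map f).hom a ∈ (q.map (s.app i).hom).map (D.map f).hom :=
      Ideal.mem_map_of_mem _ hmem
    rw [Ideal.map_map] at h1
    have h2 : (D.map f).hom.comp (s.app i).hom = (s.app j).hom := by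
      ext b; exact ha' f b
    rwa [h2] at h1
  -- key claim: elements of the extended ideal in the colimit come from extended ideals
  have hkey : ∀ (q : Ideal B) (z : c.pt),
      z ∈ q.map (s.app i₀ ≫ c.ι.app i₀).hom →
      ∃ (j : I) (a : D.obj j), a ∈ q.map (s.app j).hom ∧ (c.ι.app j).hom a = z := by
    intro q z hz
    induction hz using Submodule.span_induction with
    | mem z hz =>
      obtain ⟨x, hx, rfl⟩ := hz
      exact ⟨i₀, (s.app i₀).hom x, Ideal.mem_map_of_mem _ hx, rfl⟩
    | zero => exact ⟨i₀, 0, Ideal.zero_mem _, map_zero _⟩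
    | add z1 z2 _ _ h1 h2 =>
      obtain ⟨j1, a1, ha1, rfl⟩ := h1
      obtain ⟨j2, a2, ha2, rfl⟩ := h2
      refine ⟨IsFiltered.max j1 j2, (D.map (IsFiltered.leftToMax j1 j2)).hom a1 +
        (D.map (IsFiltered.rightToMax j1 j2)).hom a2, ?_, ?_⟩
      · exact Ideal.add_mem _ (hmapmono _ q a1 ha1) (hmapmono _ q a2 ha2)
      · rw [map_add, hw', hw']
    | smul r z _ h1 =>
      obtain ⟨j1, a1, ha1, rfl⟩ := h1
      obtain ⟨j2, r', rfl⟩ := CategoryTheory.Limits.Concrete.isColimit_exists_rep D hc r
      refine ⟨IsFiltered.max j1 j2, (D.map (IsFiltered.rightToMax j1 j2)).hom r' *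
        (D.map (IsFiltered.leftToMax j1 j2)).hom a1, ?_, ?_⟩
      · exact Ideal.mul_mem_left _ _ (hmapmono _ q a1 ha1)
      · rw [map_mul, hw', hw']; rfl
  apply Set.Subset.antisymm
  · rintro _ ⟨x, rfl⟩
    rw [Set.mem_iInter]
    intro i
    refine ⟨(Spec.map (c.ι.app i)).base x, ?_⟩
    rw [← hb i, Spec.map_comp]
    rfl
  · intro q hq
    rw [Set.mem_iInter] at hq
    have hq' : ∀ i, ((q.asIdeal).map (s.app i).hom).comap (s.app i).hom = q.asIdeal := by
      intro i
      obtain ⟨x, hx⟩ := hq i
      exact (PrimeSpectrum.mem_range_comap_iff (s.app i).hom).mp ⟨x, hx⟩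
    have hfinal : ((q.asIdeal).map (s.app i₀ ≫ c.ι.app i₀).hom).comap (s.app i₀ ≫ c.ι.app i₀).hom =
        q.asIdeal := by
      apply le_antisymm
      · intro b hbmem
        rw [Ideal.mem_comap] at hbmem
        obtain ⟨j, a, haq, haz⟩ := hkey q.asIdeal _ hbmem
        have h1 : (c.ι.app j).hom a = (c.ι.app j).hom ((s.app j).hom b) := by
          rw [haz, hb' j b]; rfl
        obtain ⟨k, f, hk⟩ := hd j _ _ h1
        rw [ha' f b] at hk
        rw [← hq' k, Ideal.mem_comap, ← hk]
        exact hmapmono f _ a haq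
      · exact Ideal.le_comap_map
    obtain ⟨x, hx⟩ := (PrimeSpectrum.mem_range_comap_iff (s.app i₀ ≫ c.ι.app i₀).hom).mpr hfinal
    exact ⟨x, hx⟩

end Groth.Agent.S4593
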