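import Groth.Statements.S4595
import Mathlib
import Groth.Agent.Lib.Helper23.KeyLemma
-- import your own Groth.Agent.* helpers here

set_option autoImplicit false
universe u
open TensorProduct IsLocalRing
open EGA41

namespace Groth.Agent.S4595

open Groth.Agent.Lib.Helper23 Groth.Agent.Lib.Helper23.KeyLemma

theorem ideal_eq {A : Type u} [CommRing A] (p : ℕ) {r : ℕ} (f : Fin r → A) :
    SepVar.ideal A (fun i => Gp p (f i)) =
      Ideal.span (Set.range fun i => MvPolynomial.X i ^ p - MvPolynomial.C (f i)) := by
  unfold SepVar.ideal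
  congr 2
  funext i
  simp [Gp, MvPolynomial.algebraMap_eq]


/-- Let A be an Artinian local ring of characteristic p > 0 with maximal ideal m of square zero and
residue field K, f_1, …, f_r ∈ A, and B = A[T_1, …, T_r]/(T_1^p − f_1, …, T_r^p − f_r). Then B is
local, and dim_K m = dim_{K'}(m'/m'²) (m', K' the maximal ideal and residue field of B) if and only
if the d f_i ⊗ 1 are linearly independent in Ω_A ⊗_A K. -/
theorem result {A : Type u} [CommRing A]
    [IsArtinianRing A] [IsLocalRing A] (hm : maximalIdeal A ^ 2 = ⊥) (p : ℕ) [Fact p.Prime] [CharP A p]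
    {r : ℕ} (f : Fin r → A) :
    let B := MvPolynomial (Fin r) A ⧸ Ideal.span (Set.range fun i => MvPolynomial.X i ^ p - MvPolynomial.C (f i))
    ∃ _ : IsLocalRing B,
      (Module.finrank (ResidueField A) (CotangentSpace A) = Module.finrank (ResidueField B) (CotangentSpace B) ↔
        LinearIndependent (ResidueField A) (fun i => (1 : ResidueField A) ⊗ₜ[A] KaehlerDifferential.D ℤ A (f i))) := by
  intro B
  obtain ⟨hloc, h1, h2⟩ := klProp p r A f
  have hI := ideal_eq p f
  unfold SepVar.Quot at hloc h1 h2
  revert hloc h1 h2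
  rw [hI]
  intro hloc h1 h2
  refine ⟨hloc, ?_⟩
  rw [← h2, ← spanFinrank_maximalIdeal_eq_finrank_cotangentSpace,
    ← spanFinrank_maximalIdeal_eq_finrank_cotangentSpace]
  exact eq_comm

end Groth.Agent.S4595
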