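import Groth.Statements.S4598
import Mathlib.AlgebraicGeometry.PullbackCarrier
import Mathlib.CategoryTheory.MorphismProperty.Descent
import Groth.Agent.S4596

set_option autoImplicit false
universe u
open AlgebraicGeometry CategoryTheory CategoryTheory.Limits
open EGA41

namespace Groth.Agent.S4598

theorem quasiCompact_descendsAlong :
    MorphismProperty.DescendsAlong @QuasiCompact (@Surjective ⊓ @QuasiCompact) := by
  apply MorphismProperty.DescendsAlong.mk'
  intro X Y Z f g _ hf hfst
  have : Surjective f := hf.1
  have : QuasiCompact f := hf.2
  have h3 : QuasiCompact (pullback.snd f g ≫ g) := by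
    rw [← pullback.condition]; infer_instance
  exact Groth.Agent.S4596.result (pullback.snd f g) g

/-- If g : Y' → Y is quasi-compact and surjective and the base change X ×_Y Y' → Y' of f : X → Y is
quasi-separated, then f is quasi-separated. -/
theorem result {X Y Y' : Scheme.{u}} (f : X ⟶ Y)
    (g : Y' ⟶ Y) [QuasiCompact g] [Surjective g] [QuasiSeparated (pullback.snd f g)] :
    QuasiSeparated f := by
  have := quasiCompact_descendsAlong
  have h : (MorphismProperty.diagonal @QuasiCompact).DescendsAlong (@Surjective ⊓ @QuasiCompact) :=
    inferInstance
  rw [quasiSeparated_eq_diagonal_is_quasiCompact]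
  refine MorphismProperty.of_pullback_snd_of_descendsAlong
    (P := MorphismProperty.diagonal @QuasiCompact) (Q := @Surjective ⊓ @QuasiCompact)
    (f := f) (g := g) ⟨inferInstance, inferInstance⟩ ?_
  rw [← quasiSeparated_eq_diagonal_is_quasiCompact]
  infer_instance

end Groth.Agent.S4598
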