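import Groth.Statements.S4600
import Mathlib
import Groth.Agent.Lib.Helper20.HandColimModel

set_option autoImplicit false
universe u
open CategoryTheory CategoryTheory.Limits TensorProduct
open EGA41

namespace Groth.Agent.S4600


/-- Let (A_i) be a filtered system of rings with colimit A and B a finitely presented A-algebra. Then
some stage A_i carries a finitely presented algebra B_i with B isomorphic to A ⊗_{A_i} B_i as
A-algebras (existence of an isomorphism; the base change is along the colimit map A_i → A). -/
theorem result {I : Type u} [SmallCategory I] [IsFiltered I]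
    (D : I ⥤ CommRingCat.{u}) (c : Cocone D) (hc : IsColimit c) (B : Type u) [CommRing B] [Algebra c.pt B]
    [Algebra.FinitePresentation c.pt B] :
    ∃ (i : I) (Bi : Type u) (_ : CommRing Bi) (_ : Algebra (D.obj i) Bi),
      Algebra.FinitePresentation (D.obj i) Bi ∧
      (letI : Algebra (D.obj i) c.pt := (c.ι.app i).hom.toAlgebra
       Nonempty (B ≃ₐ[c.pt] (c.pt ⊗[D.obj i] Bi))) := by
  have hcZ := Groth.Agent.Lib.Helper20.HandColimModel.HC.of_isColimit D c hc
  obtain ⟨i, Bi, _, _, hfp, -, hiso⟩ :=
    Groth.Agent.Lib.Helper20.HandColimModel.exists_stage_model hcZ B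
      (fun _ _ _ _ _ => True) (fun _ _ _ _ _ _ _ _ _ _ => trivial)
      (fun N C₀ _ _ _ _ _ _ _ _ _ _ _ _ hc' _ => by
        obtain ⟨i⟩ := hc'.exists_index
        exact ⟨i, fun _ _ _ => trivial⟩) trivial
  exact ⟨i, Bi, _, _, hfp, hiso⟩

end Groth.Agent.S4600
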