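import Groth.Statements.S4601
import Mathlib

set_option autoImplicit false
universe u
open TensorProduct
open CAlg

namespace Groth.Agent.S4601


/-- Let A be a domain with fraction field K, B a Noetherian A-algebra which is flat over A, K' an
extension field of K, B₁ = B_red and R its total ring of fractions. For every sub-A-algebra A' of
K', the map (A' ⊗_A B)_red → (K' ⊗_A R)_red is injective, i.e. an element of A' ⊗_A B with nilpotent
image in K' ⊗_A R is nilpotent. -/
theorem result {A B K' R : Type u} [CommRing A]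
    [IsDomain A] [CommRing B] [Algebra A B] [IsNoetherianRing B] [Module.Flat A B]
    [Field K'] [Algebra A K'] [Algebra (FractionRing A) K'] [IsScalarTower A (FractionRing A) K']
    [CommRing R] [Algebra (B ⧸ nilradical B) R] [IsFractionRing (B ⧸ nilradical B) R]
    [Algebra B R] [IsScalarTower B (B ⧸ nilradical B) R] [Algebra A R] [IsScalarTower A B R]
    (A' : Subalgebra A K') (x : ↥A' ⊗[A] B)
    (hx : IsNilpotent (Algebra.TensorProduct.map A'.val (IsScalarTower.toAlgHom A B R) x)) :
    IsNilpotent x := by

  classical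
  -- the reduction map and the map to the total ring of fractions
  have hN0 : ∀ b ∈ nilradical B, (IsScalarTower.toAlgHom A B R) b = 0 := by
    intro b hb
    rw [IsScalarTower.coe_toAlgHom', IsScalarTower.algebraMap_apply B (B ⧸ nilradical B) R]
    have h1 : algebraMap B (B ⧸ nilradical B) b = 0 := by
      rw [Ideal.Quotient.algebraMap_eq]
      exact Ideal.Quotient.eq_zero_iff_mem.mpr hb
    rw [h1, map_zero]
  let h3 : (B ⧸ nilradical B) →ₐ[A] R :=
    Ideal.Quotient.liftₐ (nilradical B) (IsScalarTower.toAlgHom A B R) hN0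
  have h3eq : ∀ y : B ⧸ nilradical B, h3 y = algebraMap (B ⧸ nilradical B) R y := by
    intro y
    obtain ⟨b, rfl⟩ := Ideal.Quotient.mk_surjective y
    show (IsScalarTower.toAlgHom A B R) b = _
    rw [IsScalarTower.coe_toAlgHom', IsScalarTower.algebraMap_apply B (B ⧸ nilradical B) R]
    rfl
  have h3inj : Function.Injective h3 := by
    intro y y' hyy'
    rw [h3eq, h3eq] at hyy'
    exact IsFractionRing.injective (B ⧸ nilradical B) R hyy'
  haveI : Module.Flat A K' := Module.Flat.trans A (FractionRing A) K'
  let g1 : ↥A' ⊗[A] B →ₐ[A] K' ⊗[A] B := Algebra.TensorProduct.map A'.val (AlgHom.id A B)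
  let g2 : K' ⊗[A] B →ₐ[A] K' ⊗[A] (B ⧸ nilradical B) :=
    Algebra.TensorProduct.map (AlgHom.id A K') (Ideal.Quotient.mkₐ A (nilradical B))
  let g3 : K' ⊗[A] (B ⧸ nilradical B) →ₐ[A] K' ⊗[A] R :=
    Algebra.TensorProduct.map (AlgHom.id A K') h3
  have hg1 : Function.Injective g1 :=
    Module.Flat.rTensor_preserves_injective_linearMap (M := B) A'.val.toLinearMap
      Subtype.val_injective
  have hg3 : Function.Injective g3 :=
    Module.Flat.lTensor_preserves_injective_linearMap (M := K') h3.toLinearMap h3inj
  have hcomp : ∀ w : ↥A' ⊗[A] B, g3 (g2 (g1 w)) =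
      Algebra.TensorProduct.map A'.val (IsScalarTower.toAlgHom A B R) w := by
    intro w
    induction w using TensorProduct.induction_on with
    | zero => simp
    | tmul a b => simp [g1, g2, g3, h3]
    | add w1 w2 h1 h2 => simp only [map_add, h1, h2]
  -- kernel of g2 is nilpotent
  have hker : RingHom.ker g2 =
      (nilradical B).map (Algebra.TensorProduct.includeRight : B →ₐ[A] K' ⊗[A] B) := by
    have h1 := Algebra.TensorProduct.lTensor_ker (A := K') (Ideal.Quotient.mkₐ A (nilradical B))
      (Ideal.Quotient.mkₐ_surjective A (nilradical B))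
    have h2 : RingHom.ker (Ideal.Quotient.mkₐ A (nilradical B)) = nilradical B := by
      ext b
      rw [RingHom.mem_ker]
      exact Ideal.Quotient.eq_zero_iff_mem
    rw [h2] at h1
    exact h1
  obtain ⟨k, hk⟩ := IsNoetherianRing.isNilpotent_nilradical B
  obtain ⟨n, hn⟩ := hx
  refine ⟨n * k, ?_⟩
  apply hg1
  rw [map_zero, map_pow, pow_mul]
  have h5 : g1 x ^ n ∈ RingHom.ker g2 := by
    rw [RingHom.mem_ker]
    apply hg3
    rw [map_zero, map_pow, map_pow, hcomp, hn]
  rw [hker] at h5
  have h6 : (g1 x ^ n) ^ k ∈ ((nilradical B).map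
      (Algebra.TensorProduct.includeRight : B →ₐ[A] K' ⊗[A] B)) ^ k := Ideal.pow_mem_pow h5 k
  rw [← Ideal.map_pow, hk] at h6
  simpa using h6

end Groth.Agent.S4601
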