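import Groth.Statements.S4604
import Mathlib
import Groth.Agent.Lib.Helper23.Eisenstein
-- import your own Groth.Agent.* helpers here

set_option autoImplicit false
universe u
open IsLocalRing
open EGA41

namespace Groth.Agent.S4604

open Groth.Agent.Lib.Helper23 Groth.Agent.Lib.Helper23.Eisenstein


/-- (i) and the kernel statement of (ii): let A be a local ring with maximal ideal m of square zero,
F_i(T_i) = T_i^{d_i} + Σ_{k<d_i} c_{ik} T_i^k (1 ≤ i ≤ r) monic of degrees d_i ≥ 2 with non-leading
coefficients in m, and A' = A[T_1, …, T_r]/(F_1, …, F_r). Then A' is local with residue field K, and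
the kernel of m → m'/m'² (m' the maximal ideal of A') is the ideal generated by the constant terms
c_{i0}. -/
theorem result {A : Type u} [CommRing A] [IsLocalRing A]
    (hm : maximalIdeal A ^ 2 = ⊥) {r : ℕ} (d : Fin r → ℕ) (hd : ∀ i, 2 ≤ d i) (c : Fin r → ℕ → A)
    (hc : ∀ i k, c i k ∈ maximalIdeal A) :
    let F : Fin r → MvPolynomial (Fin r) A := fun i =>
      MvPolynomial.X i ^ d i + (Finset.range (d i)).sum fun k => MvPolynomial.C (c i k) * MvPolynomial.X i ^ k
    ∃ _ : IsLocalRing (MvPolynomial (Fin r) A ⧸ Ideal.span (Set.range F)),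
      Function.Surjective ((Ideal.Quotient.mk (maximalIdeal (MvPolynomial (Fin r) A ⧸ Ideal.span (Set.range F)))).comp
        (algebraMap A (MvPolynomial (Fin r) A ⧸ Ideal.span (Set.range F)))) ∧
      maximalIdeal A ⊓ Ideal.comap (algebraMap A (MvPolynomial (Fin r) A ⧸ Ideal.span (Set.range F)))
          (maximalIdeal (MvPolynomial (Fin r) A ⧸ Ideal.span (Set.range F)) ^ 2) =
        Ideal.span (Set.range fun i => c i 0) := by
  intro F
  have hG : ∀ i, EisLike (GE (d i) (c i)) := fun i => eisLike_GE (d i) (hd i) (c i) (hc i)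
  have hI := ideal_GE d c
  suffices h : ∀ I : Ideal (MvPolynomial (Fin r) A), SepVar.ideal A (fun i => GE (d i) (c i)) = I →
      ∃ _ : IsLocalRing (MvPolynomial (Fin r) A ⧸ I),
      Function.Surjective ((Ideal.Quotient.mk (maximalIdeal (MvPolynomial (Fin r) A ⧸ I))).comp
        (algebraMap A (MvPolynomial (Fin r) A ⧸ I))) ∧
      maximalIdeal A ⊓ Ideal.comap (algebraMap A (MvPolynomial (Fin r) A ⧸ I))
          (maximalIdeal (MvPolynomial (Fin r) A ⧸ I) ^ 2) =
        Ideal.span (Set.range fun i => c i 0) from h _ hI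
  rintro _ rfl
  haveI hloc := isLocalRing_quot _ hG
  refine ⟨hloc, residue_surjective_quot _ hG, ?_⟩
  rw [kernel_eq_quot _ hG]
  unfold J'
  rw [hm, bot_sup_eq]
  have : ∀ i, (GE (d i) (c i)).coeff 0 = c i 0 := fun i =>
    coeff_GE (d i) (c i) 0 (by have := hd i; omega)
  simp only [this]

end Groth.Agent.S4604
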