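import Groth.Statements.S4605
import Mathlib
import Groth.Agent.Lib.Lead.PIndepField

set_option autoImplicit false
universe u
open IsLocalRing
open EGA41

namespace Groth.Agent.S4605

open Groth.Agent.Lib.Lead


/-- Let A be a local ring with maximal ideal m of square zero and residue field K of characteristic p >
0, F_i(T_i) = T_i^p + p Σ_{k=1}^{p-1} c_{ik} T_i^{p-k} − f_i (i in a finite index set) with c_{ik},
f_i ∈ A, and suppose the residues of the f_i in K are p-independent over K^p. Then A' = A[T_i]/(F_i)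
is local with maximal ideal m A'. (The identification of the residue field with K(a_i^{1/p}) is not
restated.) -/
theorem result {A : Type u} [CommRing A]
    [IsLocalRing A] (hm : maximalIdeal A ^ 2 = ⊥) (p : ℕ) [Fact p.Prime] [CharP (ResidueField A) p]
    {ι : Type u} [Finite ι] (c : ι → Fin p → A) (f : ι → A)
    (hind : LinearIndependent (↥(frobenius (ResidueField A) p).fieldRange)
      (fun e : {e : ι →₀ ℕ // ∀ i, e i < p} => EGA41.pMonomial (fun i => residue A (f i)) e.1)) :
    let F : ι → MvPolynomial ι A := fun i =>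
      MvPolynomial.X i ^ p + (p : MvPolynomial ι A) * (Finset.univ.sum fun j : Fin p =>
        if (j : ℕ) = 0 then 0 else MvPolynomial.C (c i j) * MvPolynomial.X i ^ (p - (j : ℕ))) - MvPolynomial.C (f i)
    ∃ _ : IsLocalRing (MvPolynomial ι A ⧸ Ideal.span (Set.range F)),
      maximalIdeal (MvPolynomial ι A ⧸ Ideal.span (Set.range F)) =
        (maximalIdeal A).map (algebraMap A (MvPolynomial ι A ⧸ Ideal.span (Set.range F))) := by
  classical
  intro F
  set K := ResidueField A with hK
  set a : ι → K := fun i => residue A (f i) with ha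
  -- the reduction map
  let Φ : MvPolynomial ι A →+* MvPolynomial ι K := MvPolynomial.map (residue A)
  have hΦsurj : Function.Surjective Φ := MvPolynomial.map_surjective _ (residue_surjective)
  have hpK : ((p : ℕ) : MvPolynomial ι K) = 0 := by
    have : CharP (MvPolynomial ι K) p := inferInstance
    exact CharP.cast_eq_zero _ p
  have hΦF : ∀ i, Φ (F i) = (MvPolynomial.X i : MvPolynomial ι K) ^ p - MvPolynomial.C (a i) := by
    intro i
    simp only [F, Φ, map_sub, map_add, map_mul, map_pow, MvPolynomial.map_X, MvPolynomial.map_C,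
      map_natCast, hpK, zero_mul, add_zero]
    rfl
  let IF : Ideal (MvPolynomial ι A) := Ideal.span (Set.range F)
  have hmapIF : IF.map Φ = PIndepField.J p a := by
    unfold PIndepField.J
    rw [Ideal.map_span]
    congr 1
    ext x
    constructor
    · rintro ⟨_, ⟨i, rfl⟩, rfl⟩
      exact ⟨i, (hΦF i).symm⟩
    · rintro ⟨i, rfl⟩
      exact ⟨F i, ⟨i, rfl⟩, hΦF i⟩
  have hJmax : (PIndepField.J p a).IsMaximal := PIndepField.J_isMaximal p a hind
  -- the maximal ideal upstairs
  let 𝔐 : Ideal (MvPolynomial ι A) := (PIndepField.J p a).comap Φ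
  have h𝔐max : 𝔐.IsMaximal := Ideal.comap_isMaximal_of_surjective Φ hΦsurj
  have hkerΦ : RingHom.ker Φ = (maximalIdeal A).map (MvPolynomial.C : A →+* MvPolynomial ι A) := by
    rw [MvPolynomial.ker_map, IsLocalRing.ker_residue]
  have h𝔐eq : 𝔐 = IF ⊔ (maximalIdeal A).map (MvPolynomial.C : A →+* MvPolynomial ι A) := by
    change (PIndepField.J p a).comap Φ = _
    rw [← hmapIF, Ideal.comap_map_of_surjective Φ hΦsurj, ← RingHom.ker_eq_comap_bot, hkerΦ]
  -- downstairs
  let π : MvPolynomial ι A →+* (MvPolynomial ι A ⧸ IF) := Ideal.Quotient.mk IF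
  have hπsurj : Function.Surjective π := Ideal.Quotient.mk_surjective
  let M' : Ideal (MvPolynomial ι A ⧸ IF) := 𝔐.map π
  have hIF𝔐 : IF ≤ 𝔐 := by rw [h𝔐eq]; exact le_sup_left
  have hcomap : M'.comap π = 𝔐 := by
    change (𝔐.map π).comap π = 𝔐
    rw [Ideal.comap_map_of_surjective π hπsurj, ← RingHom.ker_eq_comap_bot, Ideal.mk_ker]
    exact sup_eq_left.mpr hIF𝔐
  have hM'max : M'.IsMaximal := by
    rcases Ideal.map_eq_top_or_isMaximal_of_surjective π hπsurj h𝔐max with h | h
    · exfalso
      have : M'.comap π = ⊤ := by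
        change (𝔐.map π).comap π = ⊤
        rw [h, Ideal.comap_top]
      rw [hcomap] at this
      exact h𝔐max.ne_top this
    · exact h
  have hM'eq : M' = (maximalIdeal A).map (algebraMap A (MvPolynomial ι A ⧸ IF)) := by
    change 𝔐.map π = _
    rw [h𝔐eq, Ideal.map_sup, Ideal.map_map]
    have h1 : IF.map π = ⊥ := by
      rw [Ideal.map_eq_bot_iff_le_ker, Ideal.mk_ker]
    rw [h1, bot_sup_eq]
    rfl
  have hM'sq : M' ^ 2 = ⊥ := by
    rw [hM'eq, ← Ideal.map_pow, hm, Ideal.map_bot]
  haveI hloc : IsLocalRing (MvPolynomial ι A ⧸ IF) := by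
    refine IsLocalRing.of_unique_max_ideal ⟨M', hM'max, fun N hN => ?_⟩
    have hle : M' ≤ N := by
      have : M' ^ 2 ≤ N := by rw [hM'sq]; exact bot_le
      exact hN.isPrime.le_of_pow_le this
    exact (hM'max.eq_of_le hN.ne_top hle).symm
  refine ⟨hloc, ?_⟩
  rw [← hM'eq]
  exact (IsLocalRing.eq_maximalIdeal hM'max).symm

end Groth.Agent.S4605
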