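import Groth.Statements.S4606
import Groth.Agent.Lib.Helper23.JacobianAdic

set_option autoImplicit false
universe u
open TensorProduct KaehlerDifferential IsLocalRing
open EGA41

namespace Groth.Agent.S4606

/-- Let B be a Noetherian A-algebra formally smooth for the discrete topologies, B → C a surjection with
kernel J, p a prime of C and q its contraction to A. Then C_p is formally smooth over A_q (A_q
discrete, C_p with the adic topology of its maximal ideal) if and only if κ(p) ⊗ J/J² → κ(p) ⊗ (C
⊗_B Ω_{B/A}) is injective. (The equivalent variant with the q-adic topology on A_q is not stated.) -/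
theorem result {A B C : Type u} [CommRing A]
    [CommRing B] [CommRing C] [Algebra A B] [Algebra B C] [Algebra A C] [IsScalarTower A B C] [IsNoetherianRing B]
    [Algebra.FormallySmooth A B] (hsurj : Function.Surjective (algebraMap B C)) (p : Ideal C) [p.IsPrime]
    [Algebra (Localization.AtPrime (p.comap (algebraMap A C))) (Localization.AtPrime p)]
    [IsScalarTower A (Localization.AtPrime (p.comap (algebraMap A C))) (Localization.AtPrime p)] :
    CAlgX.IsAdicFormallySmooth (Localization.AtPrime (p.comap (algebraMap A C))) (Localization.AtPrime p)
        (maximalIdeal (Localization.AtPrime p)) ↔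
      Function.Injective ((kerCotangentToTensor A B C).lTensor p.ResidueField) := by
  haveI : Module.Finite B (RingHom.ker (algebraMap B C)).Cotangent :=
    Module.Finite.of_surjective (RingHom.ker (algebraMap B C)).toCotangent
      (Ideal.toCotangent_surjective _)
  rw [← Groth.Agent.Lib.Helper23.JacobianLoc.formallySmooth_atPrime_iff hsurj p]
  constructor
  · intro h
    have h1 : CAlgX.IsAdicFormallySmooth A (Localization.AtPrime p)
        (maximalIdeal (Localization.AtPrime p)) :=
      Groth.Agent.Lib.Helper23.JacobianAdic.isAdicFormallySmooth_of_localization_base
        (p.comap (algebraMap A C)).primeCompl _ h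
    letI := Localization.AtPrime.algebraOfLiesOver (p.under B) p
    haveI : IsLocalization (Algebra.algebraMapSubmonoid C (p.under B).primeCompl)
        (Localization.AtPrime p) := by
      rw [Groth.Agent.Lib.Helper23.JacobianLoc.algebraMapSubmonoid_primeCompl hsurj p]
      infer_instance
    haveI : Algebra.FormallySmooth B (Localization.AtPrime (p.under B)) :=
      Algebra.FormallySmooth.of_isLocalization (p.under B).primeCompl
    haveI : Algebra.FormallySmooth A (Localization.AtPrime (p.under B)) :=
      Algebra.FormallySmooth.comp A B _
    haveI : IsNoetherianRing (Localization.AtPrime (p.under B)) :=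
      IsLocalization.isNoetherianRing (p.under B).primeCompl _ inferInstance
    have hf : Function.Surjective
        (algebraMap (Localization.AtPrime (p.under B)) (Localization.AtPrime p)) :=
      Groth.Agent.Lib.Helper23.JacobianLoc.algebraMap_surjective (p.under B).primeCompl hsurj
    exact Groth.Agent.Lib.Helper23.JacobianAdic.formallySmooth_of_isAdicFormallySmooth
      (A := A) hf h1
  · intro h
    haveI := h
    haveI : Algebra.FormallySmooth (Localization.AtPrime (p.comap (algebraMap A C)))
        (Localization.AtPrime p) :=
      Algebra.FormallySmooth.localization_base (p.comap (algebraMap A C)).primeCompl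
    exact Groth.Agent.Lib.Helper23.FieldSep.adic_of_formallySmooth _ _ _

end Groth.Agent.S4606
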