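import Groth.Statements.S4607
import Mathlib.AlgebraicGeometry.PullbackCarrier

set_option autoImplicit false
universe u
open TensorProduct
open EGA41

namespace Groth.Agent.S4607

/-- First assertion, case of two factors: for A-algebras A' and A'' the image of Spec(A' ⊗_A A'') in
Spec A is the intersection of the images of Spec A' and Spec A''. -/
theorem result {A A' A'' : Type u} [CommRing A] [CommRing A'] [CommRing A'']
    [Algebra A A'] [Algebra A A''] :
    Set.range (PrimeSpectrum.comap (algebraMap A (A' ⊗[A] A''))) =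
      Set.range (PrimeSpectrum.comap (algebraMap A A')) ∩ Set.range (PrimeSpectrum.comap (algebraMap A A'')) := by
  have hl : (Algebra.TensorProduct.includeLeftRingHom : A' →+* A' ⊗[A] A'').comp (algebraMap A A') =
      algebraMap A (A' ⊗[A] A'') := by
    ext a
    simp [Algebra.TensorProduct.algebraMap_apply]
  have hr : (Algebra.TensorProduct.includeRight : A'' →ₐ[A] A' ⊗[A] A'').toRingHom.comp
      (algebraMap A A'') = algebraMap A (A' ⊗[A] A'') :=
    (Algebra.TensorProduct.includeRight : A'' →ₐ[A] A' ⊗[A] A'').comp_algebraMap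
  apply Set.Subset.antisymm
  · rintro _ ⟨q, rfl⟩
    refine ⟨⟨PrimeSpectrum.comap Algebra.TensorProduct.includeLeftRingHom q, ?_⟩,
      ⟨PrimeSpectrum.comap (Algebra.TensorProduct.includeRight :
        A'' →ₐ[A] A' ⊗[A] A'').toRingHom q, ?_⟩⟩
    · rw [← PrimeSpectrum.comap_comp_apply, hl]
    · rw [← PrimeSpectrum.comap_comp_apply, hr]
  · rintro p ⟨⟨q', rfl⟩, ⟨q'', hq''⟩⟩
    have hpb := AlgebraicGeometry.isPullback_SpecMap_of_isPushout _ _ _ _
      (CommRingCat.isPushout_tensorProduct A A' A'')
    obtain ⟨z, hz1, hz2⟩ := AlgebraicGeometry.Scheme.exists_preimage_of_isPullback hpb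
      q' q'' hq''.symm
    refine ⟨z, ?_⟩
    rw [← hl, PrimeSpectrum.comap_comp_apply]
    exact congrArg (PrimeSpectrum.comap (algebraMap A A')) hz1

end Groth.Agent.S4607
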