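import Groth.Statements.S4608
-- import your own Groth.Agent.* helpers here

set_option autoImplicit false
universe u
open AlgebraicGeometry CategoryTheory CategoryTheory.Limits
open EGA41

namespace Groth.Agent.S4608

theorem preimage_desc {X' X'' Y : Scheme.{u}} (f' : X' ⟶ Y) (f'' : X'' ⟶ Y) (U : Set Y) :
    (coprod.desc f' f'') ⁻¹' U =
      (coprod.inl : X' ⟶ X' ⨿ X'') '' (f' ⁻¹' U) ∪ (coprod.inr : X'' ⟶ X' ⨿ X'') '' (f'' ⁻¹' U) := by
  ext x
  have hx : x ∈ Set.range (coprod.inl : X' ⟶ X' ⨿ X'') ∪ Set.range (coprod.inr : X'' ⟶ X' ⨿ X'') := by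
    have := (isCompl_range_inl_inr X' X'').sup_eq_top
    change Set.range (coprod.inl : X' ⟶ X' ⨿ X'') ∪ Set.range (coprod.inr : X'' ⟶ X' ⨿ X'') = Set.univ at this
    rw [this]; trivial
  constructor
  · intro h
    rcases hx with ⟨a, rfl⟩ | ⟨a, rfl⟩
    · left
      refine ⟨a, ?_, rfl⟩
      have : (coprod.desc f' f'') ((coprod.inl : X' ⟶ X' ⨿ X'') a) = f' a := by
        rw [← Scheme.Hom.comp_apply, coprod.inl_desc]
      simpa [this] using h
    · right
      refine ⟨a, ?_, rfl⟩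
      have : (coprod.desc f' f'') ((coprod.inr : X'' ⟶ X' ⨿ X'') a) = f'' a := by
        rw [← Scheme.Hom.comp_apply, coprod.inr_desc]
      simpa [this] using h
  · rintro (⟨a, ha, rfl⟩ | ⟨a, ha, rfl⟩)
    · have : (coprod.desc f' f'') ((coprod.inl : X' ⟶ X' ⨿ X'') a) = f' a := by
        rw [← Scheme.Hom.comp_apply, coprod.inl_desc]
      simpa [this] using ha
    · have : (coprod.desc f' f'') ((coprod.inr : X'' ⟶ X' ⨿ X'') a) = f'' a := by
        rw [← Scheme.Hom.comp_apply, coprod.inr_desc]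
      simpa [this] using ha

theorem isClosedEmbedding_inl (X' X'' : Scheme.{u}) :
    Topology.IsClosedEmbedding (coprod.inl : X' ⟶ X' ⨿ X'') := by
  refine ⟨(coprod.inl : X' ⟶ X' ⨿ X'').isOpenEmbedding.isEmbedding, ?_⟩
  rw [← isOpen_compl_iff, (isCompl_range_inl_inr X' X'').compl_eq]
  exact (coprod.inr : X'' ⟶ X' ⨿ X'').isOpenEmbedding.isOpen_range

theorem isClosedEmbedding_inr (X' X'' : Scheme.{u}) :
    Topology.IsClosedEmbedding (coprod.inr : X'' ⟶ X' ⨿ X'') := by
  refine ⟨(coprod.inr : X'' ⟶ X' ⨿ X'').isOpenEmbedding.isEmbedding, ?_⟩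
  rw [← isOpen_compl_iff, (isCompl_range_inl_inr X' X'').symm.compl_eq]
  exact (coprod.inl : X' ⟶ X' ⨿ X'').isOpenEmbedding.isOpen_range

/-- A morphism from a disjoint union X' ⨿ X'' → Y is quasi-compact if and only if its two components
are. -/
theorem result {X' X'' Y : Scheme.{u}} (f' : X' ⟶ Y) (f'' : X'' ⟶ Y) :
    QuasiCompact (coprod.desc f' f'') ↔ QuasiCompact f' ∧ QuasiCompact f'' := by
  constructor
  · intro h
    refine ⟨⟨fun U hU hU' => ?_⟩, ⟨fun U hU hU' => ?_⟩⟩
    · have h1 := h.isCompact_preimage U hU hU'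
      have h2 : f' ⁻¹' U = (coprod.inl : X' ⟶ X' ⨿ X'') ⁻¹' ((coprod.desc f' f'') ⁻¹' U) := by
        ext a
        have : (coprod.desc f' f'') ((coprod.inl : X' ⟶ X' ⨿ X'') a) = f' a := by
          rw [← Scheme.Hom.comp_apply, coprod.inl_desc]
        simp [this]
      rw [h2]
      exact (isClosedEmbedding_inl X' X'').isCompact_preimage h1
    · have h1 := h.isCompact_preimage U hU hU'
      have h2 : f'' ⁻¹' U = (coprod.inr : X'' ⟶ X' ⨿ X'') ⁻¹' ((coprod.desc f' f'') ⁻¹' U) := by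
        ext a
        have : (coprod.desc f' f'') ((coprod.inr : X'' ⟶ X' ⨿ X'') a) = f'' a := by
          rw [← Scheme.Hom.comp_apply, coprod.inr_desc]
        simp [this]
      rw [h2]
      exact (isClosedEmbedding_inr X' X'').isCompact_preimage h1
  · rintro ⟨h1, h2⟩
    refine ⟨fun U hU hU' => ?_⟩
    rw [preimage_desc]
    exact ((h1.isCompact_preimage U hU hU').image (coprod.inl : X' ⟶ X' ⨿ X'').continuous).union
      ((h2.isCompact_preimage U hU hU').image (coprod.inr : X'' ⟶ X' ⨿ X'').continuous)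

end Groth.Agent.S4608
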