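import Groth.Statements.S4609
import Groth.Agent.S4608

set_option autoImplicit false
universe u
open AlgebraicGeometry CategoryTheory CategoryTheory.Limits
open EGA41

namespace Groth.Agent.S4609

theorem isQuasiSeparated_union {α : Type*} [TopologicalSpace α] {s t C : Set α}
    (hC : IsClopen C) (hs : IsQuasiSeparated s) (ht : IsQuasiSeparated t)
    (hsC : s ⊆ C) (htC : t ⊆ Cᶜ) : IsQuasiSeparated (s ∪ t) := by
  intro K1 K2 hK1 hK1o hK1c hK2 hK2o hK2c
  have key : ∀ K : Set α, K ⊆ s ∪ t → K ∩ C ⊆ s ∧ K ∩ Cᶜ ⊆ t := by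
    intro K hK
    refine ⟨fun x hx => ?_, fun x hx => ?_⟩
    · rcases hK hx.1 with h | h
      · exact h
      · exact absurd hx.2 (htC h)
    · rcases hK hx.1 with h | h
      · exact absurd (hsC h) hx.2
      · exact h
  have e : K1 ∩ K2 = (K1 ∩ C) ∩ (K2 ∩ C) ∪ (K1 ∩ Cᶜ) ∩ (K2 ∩ Cᶜ) := by
    ext x
    by_cases hx : x ∈ C <;> simp [hx]
  rw [e]
  refine IsCompact.union ?_ ?_
  · exact hs _ _ (key K1 hK1).1 (hK1o.inter hC.isOpen) (hK1c.inter_right hC.isClosed)
      (key K2 hK2).1 (hK2o.inter hC.isOpen) (hK2c.inter_right hC.isClosed)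
  · exact ht _ _ (key K1 hK1).2 (hK1o.inter hC.compl.isOpen) (hK1c.inter_right hC.compl.isClosed)
      (key K2 hK2).2 (hK2o.inter hC.compl.isOpen) (hK2c.inter_right hC.compl.isClosed)

/-- A morphism from a disjoint union X' ⨿ X'' → Y is quasi-separated if and only if its two components
are. -/
theorem result {X' X'' Y : Scheme.{u}} (f' : X' ⟶ Y) (f'' : X'' ⟶ Y) :
    QuasiSeparated (coprod.desc f' f'') ↔ QuasiSeparated f' ∧ QuasiSeparated f'' := by
  constructor
  · intro h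
    constructor
    · rw [← coprod.inl_desc f' f'']; infer_instance
    · rw [← coprod.inr_desc f' f'']; infer_instance
  · rintro ⟨h1, h2⟩
    rw [IsZariskiLocalAtTarget.iff_of_iSup_eq_top (P := @QuasiSeparated) _
      (iSup_affineOpens_eq_top Y)]
    intro U
    have : QuasiSeparatedSpace (U.1 : Y.Opens) :=
      (isQuasiSeparated_iff_quasiSeparatedSpace _ U.1.2).mp U.2.isQuasiSeparated
    rw [quasiSeparated_iff_quasiSeparatedSpace]
    refine (isQuasiSeparated_iff_quasiSeparatedSpace _ ((coprod.desc f' f'') ⁻¹ᵁ U.1).2).mp ?_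
    have e : (((coprod.desc f' f'') ⁻¹ᵁ U.1 : (X' ⨿ X'' : Scheme.{u}).Opens) : Set ↥(X' ⨿ X'')) =
        (coprod.inl : X' ⟶ X' ⨿ X'') '' (f' ⁻¹' U.1) ∪
          (coprod.inr : X'' ⟶ X' ⨿ X'') '' (f'' ⁻¹' U.1) :=
      Groth.Agent.S4608.preimage_desc f' f'' U.1
    change IsQuasiSeparated (((coprod.desc f' f'') ⁻¹ᵁ U.1 : (X' ⨿ X'' : Scheme.{u}).Opens) : Set ↥(X' ⨿ X''))
    rw [e]
    have q1 : IsQuasiSeparated ((f' ⁻¹ᵁ U.1 : X'.Opens) : Set X') :=
      f'.isQuasiSeparated_preimage U.2.isQuasiSeparated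
    have q2 : IsQuasiSeparated ((f'' ⁻¹ᵁ U.1 : X''.Opens) : Set X'') :=
      f''.isQuasiSeparated_preimage U.2.isQuasiSeparated
    have hC : IsClopen (Set.range (coprod.inl : X' ⟶ X' ⨿ X'')) :=
      ⟨(Groth.Agent.S4608.isClosedEmbedding_inl X' X'').isClosed_range,
        (coprod.inl : X' ⟶ X' ⨿ X'').isOpenEmbedding.isOpen_range⟩
    refine isQuasiSeparated_union hC
      (q1.image_of_isEmbedding (coprod.inl : X' ⟶ X' ⨿ X'').isOpenEmbedding.isEmbedding)
      (q2.image_of_isEmbedding (coprod.inr : X'' ⟶ X' ⨿ X'').isOpenEmbedding.isEmbedding)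
      (Set.image_subset_range _ _) ?_
    rw [(isCompl_range_inl_inr X' X'').compl_eq]
    exact Set.image_subset_range _ _

end Groth.Agent.S4609
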