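import Groth.Statements.S4611
import Mathlib.RingTheory.FiniteType
import Mathlib.RingTheory.Localization.Basic

set_option autoImplicit false
universe u
open EGA41

namespace Groth.Agent.S4611

/-- A local algebra essentially of finite type over a ring A is A-isomorphic to a quotient of a
localization A[T_1, …, T_n]_q of a polynomial algebra at a prime ideal q; stated as the existence of
a surjective A-algebra map from such a localization. -/
theorem result {A B : Type u} [CommRing A]
    [CommRing B] [IsLocalRing B] [Algebra A B] [Algebra.EssFiniteType A B] :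
    ∃ (n : ℕ) (q : Ideal (MvPolynomial (Fin n) A)) (_ : q.IsPrime)
      (φ : Localization.AtPrime q →ₐ[A] B), Function.Surjective φ := by
  obtain ⟨n, π, hπ⟩ := Algebra.FiniteType.iff_quotient_mvPolynomial''.mp
    (inferInstance : Algebra.FiniteType A (Algebra.EssFiniteType.subalgebra A B))
  let ψ : MvPolynomial (Fin n) A →ₐ[A] B := (Algebra.EssFiniteType.subalgebra A B).val.comp π
  let q : Ideal (MvPolynomial (Fin n) A) := (IsLocalRing.maximalIdeal B).comap ψ
  have hq : q.IsPrime := Ideal.comap_isPrime ψ _
  have hunit : ∀ y : q.primeCompl, IsUnit (ψ y) := fun y => by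
    have h1 : ψ y ∉ IsLocalRing.maximalIdeal B := y.2
    simpa using h1
  refine ⟨n, q, hq, IsLocalization.liftAlgHom (M := q.primeCompl)
    (S := Localization.AtPrime q) hunit, ?_⟩
  intro b
  obtain ⟨⟨b0, m⟩, hb⟩ := IsLocalization.surj (Algebra.EssFiniteType.submonoid A B) b
  obtain ⟨p, hp⟩ := hπ b0
  obtain ⟨s, hs⟩ := hπ m.1
  have hm : IsUnit ((m.1 : Algebra.EssFiniteType.subalgebra A B) : B) := m.2
  have hψs : ψ s = ((m.1 : Algebra.EssFiniteType.subalgebra A B) : B) := by
    simp [ψ, hs]
  have hψp : ψ p = (b0 : B) := by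
    simp [ψ, hp]
  have hsq : s ∈ q.primeCompl := by
    change ψ s ∉ IsLocalRing.maximalIdeal B
    rw [hψs]
    simpa using hm
  refine ⟨IsLocalization.mk' _ p ⟨s, hsq⟩, ?_⟩
  rw [IsLocalization.coe_liftAlgHom, IsLocalization.lift_mk'_spec]
  change ψ p = ψ s * b
  rw [hψs, hψp, mul_comm]
  exact hb.symm

end Groth.Agent.S4611
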