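import Groth.Statements.S4613
import Mathlib.RingTheory.RingHom.FinitePresentation

set_option autoImplicit false
universe u
open AlgebraicGeometry CategoryTheory
open EGA41

namespace Groth.Agent.S4613

theorem ker_fg_of_finitePresentation_of_surjective {A B : Type u} [CommRing A] [CommRing B]
    (f : A →+* B) (hf : Function.Surjective f) (h : f.FinitePresentation) : (RingHom.ker f).FG := by
  algebraize [f]
  have := Algebra.FinitePresentation.ker_fG_of_surjective (R := A) (Algebra.ofId A B) hf
  exact this

/-- For a closed immersion j : X → Y: j is locally of finite presentation if and only if its ideal sheaf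
is of finite type, i.e. for every affine open U of Y the kernel of Γ(U, O_Y) → Γ(j⁻¹U, O_X) is
finitely generated. (An immersion with image closed in an open U reduces to this case.) -/
theorem result {X Y : Scheme.{u}} (j : X ⟶ Y)
    [IsClosedImmersion j] :
    LocallyOfFinitePresentation j ↔ ∀ U : Y.affineOpens, (RingHom.ker (j.app U).hom).FG := by
  constructor
  · intro H U
    have hV : IsAffineOpen (j ⁻¹ᵁ U.1) := U.2.preimage j
    have h1 := HasRingHomProperty.appLE (P := @LocallyOfFinitePresentation) j H U
      ⟨j ⁻¹ᵁ U.1, hV⟩ le_rfl
    rw [← Scheme.Hom.app_eq_appLE] at h1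
    exact ker_fg_of_finitePresentation_of_surjective _ (j.app_surjective U.1 U.2) h1
  · intro h
    rw [HasRingHomProperty.iff_exists_appLE (P := @LocallyOfFinitePresentation)
      (RingHom.finitePresentation_stableUnderComposition.stableUnderCompositionWithLocalizationAway
        RingHom.finitePresentation_holdsForLocalizationAway).left]
    intro x
    obtain ⟨U, hU, hfx, _⟩ := TopologicalSpace.Opens.isBasis_iff_nbhd.mp Y.isBasis_affineOpens
      (TopologicalSpace.Opens.mem_top <| j x)
    refine ⟨⟨U, hU⟩, ⟨j ⁻¹ᵁ U, hU.preimage j⟩, hfx, le_rfl, ?_⟩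
    rw [← Scheme.Hom.app_eq_appLE]
    exact RingHom.FinitePresentation.of_surjective _ (j.app_surjective U hU) (h ⟨U, hU⟩)

end Groth.Agent.S4613
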