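import Groth.Statements.S4614
import Mathlib
import Groth.Agent.Lib.Helper18.Om4
import Groth.Agent.Lib.Helper18.Om5

set_option autoImplicit false
universe u
open TensorProduct AlgebraicGeometry
open CAlg

namespace Groth.Agent.S4614

/-- Let A be a domain with fraction field K, B a Noetherian flat A-algebra with B/q Japanese for every
minimal prime q, K' a finite extension of K, and consider the sub-A-algebras C of K' finite over A
with fraction field K' (a filtered family with union the integral closure A' of A in K'). (i) Some
member C_α is such that for every member C ⊇ C_α the map (C_α ⊗_A B)_red → (C ⊗_A B)_red is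
bijective. (ii) If B is faithfully flat over A then Spec A' → Spec C_α is radicial. -/
theorem result {A B K' : Type u} [CommRing A]
    [IsDomain A] [CommRing B] [Algebra A B] [IsNoetherianRing B] [Module.Flat A B]
    (hJ : ∀ (q : Ideal B) [q.IsPrime], q ∈ minimalPrimes B → CAlg.IsN2 (B ⧸ q))
    [Field K'] [Algebra A K'] [Algebra (FractionRing A) K'] [IsScalarTower A (FractionRing A) K']
    [FiniteDimensional (FractionRing A) K'] :
    let P : Subalgebra A K' → Prop := fun C : Subalgebra A K' => Module.Finite A C ∧ ∀ x : K', ∃ a b : C, (b : K') ≠ 0 ∧ x * b = a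
    ∃ Cα : Subalgebra A K', P Cα ∧
      (∀ C : Subalgebra A K', P C → ∀ hle : Cα ≤ C,
        (∀ x : ↥Cα ⊗[A] B, IsNilpotent (Algebra.TensorProduct.map (Subalgebra.inclusion hle) (AlgHom.id A B) x) →
          IsNilpotent x) ∧
        (∀ y : ↥C ⊗[A] B, ∃ x : ↥Cα ⊗[A] B,
          IsNilpotent (Algebra.TensorProduct.map (Subalgebra.inclusion hle) (AlgHom.id A B) x - y))) ∧
      (Module.FaithfullyFlat A B → ∀ hint : Cα ≤ integralClosure A K',
        UniversallyInjective (Spec.map (CommRingCat.ofHom (Subalgebra.inclusion hint).toRingHom))) := by
  intro P
  obtain ⟨Cα, hfin, hfrac, hmain⟩ := Groth.Agent.Lib.Helper18.Om.exists_Cα A K' B hJ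
  refine ⟨Cα, ⟨hfin, hfrac⟩, ?_, ?_⟩
  · rintro C ⟨hCfin, -⟩ hle
    have hCint : ∀ c : C, IsIntegral A (c : K') := by
      intro c
      haveI : Algebra.IsIntegral A C := Algebra.IsIntegral.of_finite A C
      exact (Algebra.IsIntegral.isIntegral (R := A) c).map C.val
    have hcomm : ∀ x : ↥Cα ⊗[A] B,
        Algebra.TensorProduct.comm A C B
          (Algebra.TensorProduct.map (Subalgebra.inclusion hle) (AlgHom.id A B) x) =
        Algebra.TensorProduct.map (AlgHom.id B B) (Subalgebra.inclusion hle)
          (Algebra.TensorProduct.comm A Cα B x) := by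
      intro x
      induction x using TensorProduct.induction_on with
      | zero => simp
      | tmul c b => simp
      | add x y hx hy => rw [map_add, map_add, map_add, map_add, hx, hy]
    constructor
    · intro x hx
      have hinj : Function.Injective
          (Algebra.TensorProduct.map (Subalgebra.inclusion hle) (AlgHom.id A B)) := by
        have h1 := Module.Flat.rTensor_preserves_injective_linearMap (M := B)
          (Subalgebra.inclusion hle).toLinearMap (Subalgebra.inclusion_injective hle)
        have h2 : ⇑(Algebra.TensorProduct.map (Subalgebra.inclusion hle) (AlgHom.id A B)) =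
            ⇑(LinearMap.rTensor B (Subalgebra.inclusion hle).toLinearMap) := by
          ext e
          induction e using TensorProduct.induction_on with
          | zero => simp
          | tmul c a => simp
          | add x y hx hy => rw [map_add, map_add, hx, hy]
        rw [h2]
        exact h1
      obtain ⟨n, hn⟩ := hx
      refine ⟨n, hinj ?_⟩
      rw [map_pow, hn, map_zero]
    · intro y
      obtain ⟨x', hx'⟩ := hmain C hCint hle (Algebra.TensorProduct.comm A C B y)
      refine ⟨(Algebra.TensorProduct.comm A Cα B).symm x', ?_⟩
      have h1 : Algebra.TensorProduct.comm A C B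
          (Algebra.TensorProduct.map (Subalgebra.inclusion hle) (AlgHom.id A B)
            ((Algebra.TensorProduct.comm A Cα B).symm x') - y) =
          Algebra.TensorProduct.map (AlgHom.id B B) (Subalgebra.inclusion hle) x' -
            Algebra.TensorProduct.comm A C B y := by
        rw [map_sub, hcomm, AlgEquiv.apply_symm_apply]
      obtain ⟨n, hn⟩ := hx'
      refine ⟨n, (Algebra.TensorProduct.comm A C B).injective ?_⟩
      rw [map_pow, h1, hn, map_zero]
  · intro hff hint
    exact Groth.Agent.Lib.Helper18.Om.universallyInjective_of_surjective_mod_nil (B := B)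
      (Subalgebra.inclusion hint)
      (fun d => hmain (integralClosure A K') (fun c => c.2) hint ((1 : B) ⊗ₜ[A] d))

end Groth.Agent.S4614
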