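import Groth.Statements.S4622
import Mathlib
import Groth.Agent.Lib.Helper6.UnivHomeoMax
-- import your own Groth.Agent.* helpers here

set_option autoImplicit false
open CategoryTheory AlgebraicGeometry
universe u
open FBase

namespace Groth.Agent.S4622


/-- Let k be a separably closed field, k' an algebraic closure of k and X a scheme over k. Then the
projection X ⊗_k k' → X is a universal homeomorphism. -/
theorem result {k k' : Type u} [Field k] [IsSepClosed k] [Field k'] [Algebra k k']
    [IsAlgClosure k k'] {X : Scheme.{u}} (f : X ⟶ Spec (CommRingCat.of k)) :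
    FlatMor.IsUnivHomeo (FBase.bcπ f k') := by
  haveI : Algebra.IsAlgebraic k k' := IsAlgClosure.isAlgebraic
  haveI : IsPurelyInseparable k k' := inferInstance
  have h : FlatMor.IsUnivHomeo (Spec.map (CommRingCat.ofHom (algebraMap k k'))) := by
    rw [Groth.Agent.Lib.Helper6.UnivHomeoRing.isUnivHomeo_SpecMap_iff]
    refine ⟨?_, ?_, ?_⟩
    · exact algebraMap_isIntegral_iff.mpr inferInstance
    · intro K _ σ τ hστ
      exact IsPurelyInseparable.injective_comp_algebraMap k k' K hστ
    · intro p
      refine ⟨⊥, ?_⟩
      exact Subsingleton.elim _ _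
  unfold FBase.bcπ
  exact MorphismProperty.pullback_fst (P := FlatMor.IsUnivHomeo) _ _ h

end Groth.Agent.S4622
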