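import Groth.Statements.S4627
import Groth.Agent.Lib.Lead.GeomFieldExt
import Mathlib

set_option autoImplicit false
open CategoryTheory AlgebraicGeometry
universe u
open FBase

namespace Groth.Agent.S4627

/-- Let X be a scheme over a field k and K an extension field of k. Then X is geometrically integral
over k if and only if X ⊗_k K, with its structure of K-scheme, is geometrically integral over K. -/
theorem result {k K : Type u} [Field k] [Field K] [Algebra k K]
    {X : Scheme.{u}} (f : X ⟶ Spec (CommRingCat.of k)) :
    GeometricallyIntegral f ↔ GeometricallyIntegral (FBase.bcStr f K) := by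
  constructor
  · intro h
    exact MorphismProperty.pullback_snd (P := @GeometricallyIntegral) f _ h
  · intro h
    have h1 : GeometricallyReduced (FBase.bcStr f K) := inferInstance
    have h2 : GeometricallyIrreducible (FBase.bcStr f K) := inferInstance
    rw [geometricallyReduced_iff] at h1
    rw [geometricallyIrreducible_iff] at h2
    have h1' : GeometricallyReduced f := by
      rw [geometricallyReduced_iff]
      exact Groth.Agent.Lib.Lead.geometrically_of_geometrically_bc
        (P := IsReduced)
        (fun ψ _ _ p s s' hsq hY' => Groth.Agent.Lib.Lead.isReduced_descends ψ p s s' hsq hY') f h1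
    have h2' : GeometricallyIrreducible f := by
      rw [geometricallyIrreducible_iff]
      exact Groth.Agent.Lib.Lead.geometrically_of_geometrically_bc
        (P := (IrreducibleSpace ·))
        (fun ψ _ _ p s s' hsq hY' =>
          Groth.Agent.Lib.Lead.irreducibleSpace_descends ψ p s s' hsq hY') f h2
    exact GeometricallyIntegral.eq_geometricallyReduced_inf_geometricallyIrreducible.ge _ _ _
      ⟨h1', h2'⟩

end Groth.Agent.S4627
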