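import Groth.Statements.S4628
import Mathlib.RingTheory.Flat.Basic
import Mathlib.RingTheory.FiniteType

set_option autoImplicit false
open CategoryTheory AlgebraicGeometry
universe u
open FBase

namespace Groth.Agent.S4628

open CategoryTheory.Limits TensorProduct

theorem geomReduced_comp_openImm {U X S : Scheme.{u}} (i : U ⟶ X) (f : X ⟶ S)
    [IsOpenImmersion i] [GeometricallyReduced f] : GeometricallyReduced (i ≫ f) := by
  refine ⟨fun K _ y Z fst snd h => ?_⟩
  have hq := IsPullback.of_bot' h (IsPullback.of_hasPullback f y)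
  have : IsOpenImmersion ((IsPullback.of_hasPullback f y).lift (fst ≫ i) snd
      (by rw [Category.assoc, h.w])) :=
    MorphismProperty.of_isPullback (P := @IsOpenImmersion) hq inferInstance
  have : IsReduced (pullback f y) :=
    GeometricallyReduced.geometrically_isReduced (f := f) _ _ _ (.of_hasPullback _ _)
  exact isReduced_of_isOpenImmersion ((IsPullback.of_hasPullback f y).lift (fst ≫ i) snd _)

theorem spec_case (k : Type u) [Field k] (A B : Type u) [CommRing A] [CommRing B] [Algebra k A]
    [Algebra k B] [GeometricallyReduced (Spec.map (CommRingCat.ofHom (algebraMap k A)))]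
    [_root_.IsReduced B] :
    IsReduced (pullback (Spec.map (CommRingCat.ofHom (algebraMap k A)))
      (Spec.map (CommRingCat.ofHom (algebraMap k B)))) := by
  have key : _root_.IsReduced (A ⊗[k] B) := by
    apply IsReduced.tensorProduct_of_flat_of_forall_fg
    intro B' hB'
    have : Algebra.FiniteType k B' := (Subalgebra.fg_iff_finiteType B').mp hB'
    have : IsNoetherianRing B' := Algebra.FiniteType.isNoetherianRing k B'
    have : _root_.IsReduced B' := isReduced_of_injective B'.val Subtype.val_injective
    have h1 : IsReduced (pullback (Spec.map (CommRingCat.ofHom (algebraMap k A)))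
      (Spec.map (CommRingCat.ofHom (algebraMap k B')))) := inferInstance
    have h2 : IsReduced (Spec (.of (A ⊗[k] B'))) :=
      isReduced_of_isOpenImmersion (pullbackSpecIso k A B').inv
    exact (affine_isReduced_iff _).mp h2
  have : IsReduced (Spec (.of (A ⊗[k] B))) := inferInstance
  exact isReduced_of_isOpenImmersion (pullbackSpecIso k A B).hom

open CategoryTheory.Limits in
theorem affine_case {k : Type u} [Field k] {U V : Scheme.{u}} [IsAffine U] [IsAffine V]
    (φ : U ⟶ Spec (CommRingCat.of k)) (ψ : V ⟶ Spec (CommRingCat.of k))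
    [GeometricallyReduced φ] [IsReduced V] : IsReduced (pullback φ ψ) := by
  let a : CommRingCat.of k ⟶ Γ(U, ⊤) := Spec.preimage (U.isoSpec.inv ≫ φ)
  let b : CommRingCat.of k ⟶ Γ(V, ⊤) := Spec.preimage (V.isoSpec.inv ≫ ψ)
  let _ : Algebra k Γ(U, ⊤) := a.hom.toAlgebra
  let _ : Algebra k Γ(V, ⊤) := b.hom.toAlgebra
  have hφ : Spec.map (CommRingCat.ofHom (algebraMap k Γ(U, ⊤))) = U.isoSpec.inv ≫ φ :=
    Spec.map_preimage _
  have hψ : Spec.map (CommRingCat.ofHom (algebraMap k Γ(V, ⊤))) = V.isoSpec.inv ≫ ψ :=
    Spec.map_preimage _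
  have : GeometricallyReduced (Spec.map (CommRingCat.ofHom (algebraMap k Γ(U, ⊤)))) := by
    rw [hφ]; exact geomReduced_comp_openImm _ _
  have h1 := spec_case k Γ(U, ⊤) Γ(V, ⊤)
  have : IsIso (pullback.map φ ψ (Spec.map (CommRingCat.ofHom (algebraMap k Γ(U, ⊤))))
      (Spec.map (CommRingCat.ofHom (algebraMap k Γ(V, ⊤)))) U.isoSpec.hom V.isoSpec.hom (𝟙 _)
      (by rw [hφ]; simp) (by rw [hψ]; simp)) := inferInstance
  exact isReduced_of_isOpenImmersion
    (pullback.map φ ψ (Spec.map (CommRingCat.ofHom (algebraMap k Γ(U, ⊤))))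
      (Spec.map (CommRingCat.ofHom (algebraMap k Γ(V, ⊤)))) U.isoSpec.hom V.isoSpec.hom (𝟙 _)
      (by rw [hφ]; simp) (by rw [hψ]; simp))

/-- Let X be a scheme over a field k which is geometrically reduced (X ⊗_k K is reduced for every
extension field K of k), and let S be any reduced scheme over k. Then the product X ×_k S is
reduced. (No Noetherian or finiteness assumption on S.) -/
theorem result {k : Type u} [Field k] {X S : Scheme.{u}}
    (f : X ⟶ Spec (CommRingCat.of k)) (g : S ⟶ Spec (CommRingCat.of k)) [GeometricallyReduced f]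
    [AlgebraicGeometry.IsReduced S] : AlgebraicGeometry.IsReduced (pullback f g) := by
  have H : ∀ ij : X.affineCover.I₀ × S.affineCover.I₀,
      IsReduced (pullback (X.affineCover.f ij.1 ≫ f) (S.affineCover.f ij.2 ≫ g)) := by
    intro ij
    have := geomReduced_comp_openImm (X.affineCover.f ij.1) f
    exact affine_case _ _
  exact @IsReduced.of_openCover _
    (Scheme.Pullback.openCoverOfLeftRight X.affineCover S.affineCover f g) H

end Groth.Agent.S4628
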