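import Groth.Statements.S4633
import Mathlib
import Groth.Agent.Lib.Helper6.QFlat2
-- import your own Groth.Agent.* helpers here

set_option autoImplicit false
open CategoryTheory AlgebraicGeometry
universe u
open FDesc

namespace Groth.Agent.S4633

open CategoryTheory.Limits in
/-- Let f : X → Y be a morphism such that every irreducible component of X dominates an irreducible
component of Y (the closure of its image under f is an irreducible component of Y), and let g : Y' →
Y be quasi-flat (for instance flat). Then every irreducible component of X ×_Y Y' dominates an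
irreducible component of Y'. -/
theorem result {X Y Y' : Scheme.{u}} (f : X ⟶ Y) (g : Y' ⟶ Y)
    (hf : ∀ Z ∈ irreducibleComponents ↥X, closure (⇑f '' Z) ∈ irreducibleComponents ↥Y)
    (hg : FDesc.IsQuasiFlat g) (Z' : Set ↥(pullback f g)) (hZ' : Z' ∈ irreducibleComponents ↥(pullback f g)) :
    closure (⇑(pullback.snd f g) '' Z') ∈ irreducibleComponents ↥Y' := by
  obtain ⟨M, hM, hMfl, hMnt⟩ := hg
  haveI : M.IsQuasicoherent := hM.1
  haveI : M.IsFiniteType := hM.2
  exact Groth.Agent.Lib.Helper6.QFlat.closure_image_snd_mem_irreducibleComponents f g hf M hMfl hMnt Z' hZ'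

end Groth.Agent.S4633
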