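import Groth.Statements.S4634
import Groth.Agent.Lib.Helper10.QuasiFlat
import Groth.Agent.S2494

set_option autoImplicit false
open CategoryTheory AlgebraicGeometry
universe u
open FDesc

namespace Groth.Agent.S4634

/-- Let f : X → Y be a quasi-flat quasi-compact morphism and F a closed subset of X which is saturated
for f, i.e. F = f⁻¹(f(F)). Then F is the inverse image of the closure of f(F). -/
theorem result {X Y : Scheme.{u}} (f : X ⟶ Y) (hf : FDesc.IsQuasiFlat f)
    [QuasiCompact f] (F : Set ↥X) (hF : IsClosed F) (hsat : ⇑f ⁻¹' (⇑f '' F) = F) :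
    ⇑f ⁻¹' closure (⇑f '' F) = F := by
  let Fc : TopologicalSpace.Closeds X := ⟨F, hF⟩
  let I := Scheme.IdealSheafData.vanishingIdeal Fc
  have hrange : Set.range I.subschemeι = F := by
    rw [Scheme.IdealSheafData.range_subschemeι, Scheme.IdealSheafData.coe_support_vanishingIdeal]
    rfl
  have hrange' : Set.range (I.subschemeι ≫ f) = ⇑f '' F := by
    rw [Scheme.Hom.comp_base, TopCat.coe_comp, Set.range_comp, hrange]
  have h := Groth.Agent.S2494.result f hf (I.subschemeι ≫ f)
  rw [hrange', hsat, hF.closure_eq] at h
  exact h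

end Groth.Agent.S4634
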