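import Groth.Statements.S4636
-- import your own Groth.Agent.* helpers here
import Groth.Agent.Lib.Helper29.QCohAss2

set_option autoImplicit false
open CategoryTheory AlgebraicGeometry
universe u
open AssSch

namespace Groth.Agent.S4636

/-- Let X be a locally Noetherian scheme, F a coherent O_X-module and x a point of X. Then x is a
maximal associated point of F (an associated point such that every associated point specialising to
x equals x) if and only if x is the generic point of an irreducible component of Supp F, i.e. F_x ≠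
0 and every point y with F_y ≠ 0 that specialises to x equals x. -/
theorem result {X : Scheme.{u}} [IsLocallyNoetherian X] (F : X.Modules)
    (hF : Coh.IsCoh F) (x : X) :
    (x ∈ AssSch.Ass F ∧ ∀ y ∈ AssSch.Ass F, y ⤳ x → y = x) ↔
      (Nontrivial ↑(F.presheaf.stalk x) ∧ ∀ y : X, Nontrivial ↑(F.presheaf.stalk y) → y ⤳ x → y = x) := by
  open Groth.Agent.Lib.Helper29.QCoh in
  have : F.IsQuasicoherent := hF.1
  have hass : ∀ y : X, y ∈ AssSch.Ass F ↔ Curv2.IsWeakAssPoint F y := fun y =>
    isAssPoint_iff_isWeakAssPoint F y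
  have hnt : ∀ y : X, Curv2.IsWeakAssPoint F y → Nontrivial ↑(F.presheaf.stalk y) := by
    intro y hy
    by_contra hn
    rw [not_nontrivial_iff_subsingleton] at hn
    exact not_isWeakAssPoint_of_subsingleton F y hy
  -- key: below any point of the support there is a weakly associated point
  have key : ∀ y : X, Nontrivial ↑(F.presheaf.stalk y) →
      ∃ z : X, z ⤳ y ∧ Curv2.IsWeakAssPoint F z := by
    intro y hy
    obtain ⟨V, hV, hyV, -⟩ := exists_isAffineOpen_mem_and_subset (x := y) (U := ⊤) trivial
    have hns : ¬ Subsingleton ↑(F.presheaf.stalk y) := not_subsingleton_iff_nontrivial.mpr hy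
    rw [stalk_subsingleton_iff_germ F hV y hyV, not_forall] at hns
    obtain ⟨m, hm⟩ := hns
    obtain ⟨z, hzV, hzy, hz, -⟩ := exists_isWeakAssPoint_specializes F hV m y hyV hm
    exact ⟨z, hzy, hz⟩
  constructor
  · rintro ⟨hx, hmin⟩
    refine ⟨hnt x ((hass x).mp hx), fun y hy hyx => ?_⟩
    obtain ⟨z, hzy, hz⟩ := key y hy
    have hzx : z = x := hmin z ((hass z).mpr hz) (hzy.trans hyx)
    rw [hzx] at hzy
    exact (hyx.antisymm hzy).eq
  · rintro ⟨hx, hmin⟩
    obtain ⟨z, hzx, hz⟩ := key x hx
    have hzx' : z = x := hmin z (hnt z hz) hzx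
    rw [hzx'] at hz
    refine ⟨(hass x).mpr hz, fun y hy hyx => ?_⟩
    exact hmin y (hnt y ((hass y).mp hy)) hyx

end Groth.Agent.S4636
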