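import Groth.Statements.S4638
-- import your own Groth.Agent.* helpers here
import Groth.Agent.Lib.Helper29.QCohAss2

set_option autoImplicit false
open CategoryTheory AlgebraicGeometry
universe u
open AssSch

namespace Groth.Agent.S4638

/-- Let X be a locally Noetherian scheme, F a quasi-coherent O_X-module and f a global section of O_X.
Then f is F-regular, i.e. multiplication by the germ of f is injective on every stalk of F, if and
only if every associated point of F lies in the open subset X_f where f does not vanish. -/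
theorem result {X : Scheme.{u}} [IsLocallyNoetherian X] (F : X.Modules)
    (hF : Coh.IsQCoh F) (f : Γ(X, ⊤)) :
    (∀ x : X, IsSMulRegular ↑(F.presheaf.stalk x) (X.presheaf.germ ⊤ x trivial f)) ↔
      AssSch.Ass F ⊆ (X.basicOpen f : Set ↥X) := by
  open Groth.Agent.Lib.Helper29.QCoh in
  have : F.IsQuasicoherent := hF
  have hass : ∀ y : X, y ∈ AssSch.Ass F ↔ Curv2.IsWeakAssPoint F y := fun y =>
    isAssPoint_iff_isWeakAssPoint F y
  constructor
  · intro hreg x hx
    obtain ⟨t, ht⟩ := (hass x).mp hx
    by_contra hxf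
    have hxf' : x ∉ X.basicOpen f := hxf
    have hnu : ¬ IsUnit (X.presheaf.germ ⊤ x trivial f) := by
      rw [← Scheme.mem_basicOpen X f x (TopologicalSpace.Opens.mem_top x)]; exact hxf'
    have hmem : X.presheaf.germ ⊤ x trivial f ∈
        IsLocalRing.maximalIdeal (X.presheaf.stalk x) :=
      (IsLocalRing.mem_maximalIdeal _).mpr hnu
    rw [← ht] at hmem
    obtain ⟨n, hn⟩ := hmem
    have hn' : (X.presheaf.germ ⊤ x trivial f) ^ n • t = 0 := by
      rwa [LinearMap.mem_ker, LinearMap.toSpanSingleton_apply] at hn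
    have ht0 : t = 0 := by
      have hr := (hreg x).pow n
      apply hr
      change (X.presheaf.germ ⊤ x trivial f) ^ n • t = (X.presheaf.germ ⊤ x trivial f) ^ n • 0
      rw [hn', smul_zero]
    have h1 : (1 : X.presheaf.stalk x) ∈ Ideal.radical (LinearMap.ker
        (LinearMap.toSpanSingleton (X.presheaf.stalk x) (F.presheaf.stalk x) t)) := by
      apply Ideal.le_radical
      rw [LinearMap.mem_ker, LinearMap.toSpanSingleton_apply, ht0, smul_zero]
    rw [ht] at h1
    exact (IsLocalRing.maximalIdeal.isMaximal _).ne_top ((Ideal.eq_top_iff_one _).mpr h1)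
  · intro hsub x a b hab
    have hab' : X.presheaf.germ ⊤ x trivial f • a = X.presheaf.germ ⊤ x trivial f • b := hab
    by_contra hne
    have ht : a - b ≠ 0 := sub_ne_zero.mpr hne
    have hft : X.presheaf.germ ⊤ x trivial f • (a - b) = 0 := by
      rw [smul_sub, hab', sub_self]
    obtain ⟨V, hV, hxV, -⟩ := exists_isAffineOpen_mem_and_subset (x := x) (U := ⊤) trivial
    obtain ⟨r, m, hr, hrm⟩ := exists_smul_germ_eq F hV x hxV (a - b)
    have hru := isUnit_germ_of_mem_basicOpen r x hxV hr
    have hm : F.presheaf.germ V x hxV m ≠ 0 := by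
      rw [← hrm]
      intro h0
      exact ht (eq_zero_of_isUnit_smul hru h0)
    set fV : Γ(X, V) := X.presheaf.map (homOfLE (le_top : V ≤ ⊤)).op f with hfV
    have hgf : X.presheaf.germ V x hxV fV = X.presheaf.germ ⊤ x trivial f :=
      X.presheaf.germ_res_apply (homOfLE (le_top : V ≤ ⊤)) x hxV f
    have h0 : F.presheaf.germ V x hxV (fV • m) = 0 := by
      rw [germ_smul, hgf, ← hrm, smul_comm, hft, smul_zero]
    obtain ⟨u, hu, hum⟩ := exists_smul_eq_zero_of_germ_eq_zero F hV x hxV _ h0
    have hm' : F.presheaf.germ V x hxV (u • m) ≠ 0 := by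
      rw [germ_smul]
      intro h1
      exact hm (eq_zero_of_isUnit_smul (isUnit_germ_of_mem_basicOpen u x hxV hu) h1)
    obtain ⟨y, hyV, -, hy, hyne⟩ := exists_isWeakAssPoint_specializes F hV (u • m) x hxV hm'
    have hyf : y ∈ X.basicOpen f := hsub ((hass y).mpr hy)
    have hunit : IsUnit (X.presheaf.germ V y hyV fV) := by
      have : X.presheaf.germ V y hyV fV = X.presheaf.germ ⊤ y trivial f :=
        X.presheaf.germ_res_apply (homOfLE (le_top : V ≤ ⊤)) y hyV f
      rw [this, ← Scheme.mem_basicOpen X f y (TopologicalSpace.Opens.mem_top y)]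
      exact hyf
    apply hyne
    apply eq_zero_of_isUnit_smul hunit
    rw [← germ_smul, smul_comm, hum, map_zero]

end Groth.Agent.S4638
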