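import Groth.Statements.S4640
import Mathlib
-- import your own Groth.Agent.* helpers here

set_option autoImplicit false
universe u
open FDesc

namespace Groth.Agent.S4640

section
open scoped TensorProduct nonZeroDivisors
set_option linter.unusedSectionVars false
set_option linter.overlappingInstances false
variable {A K : Type u} [CommRing A] [IsDomain A] [Field K] [Algebra A K] [IsFractionRing A K]

theorem mk_inj_of_flat (N : Type u) [AddCommGroup N] [Module A N] [Module.Flat A N] :
    Function.Injective (TensorProduct.mk A K N 1) := by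
  have h := Module.Flat.rTensor_preserves_injective_linearMap (M := N)
    (Algebra.linearMap A K) (IsFractionRing.injective A K)
  have h2 : (TensorProduct.mk A K N 1 : N → K ⊗[A] N) =
      (LinearMap.rTensor N (Algebra.linearMap A K)) ∘ₗ (TensorProduct.lid A N).symm := by
    ext x; simp
  rw [h2]
  simpa using h

theorem exists_smul_eq_mk {M : Type u} [AddCommGroup M] [Module A M] (x : K ⊗[A] M) :
    ∃ (s : A) (m : M), s ≠ 0 ∧ (algebraMap A K s) • x = (1 : K) ⊗ₜ[A] m := by
  obtain ⟨⟨m, s⟩, h⟩ := IsLocalizedModule.surj (nonZeroDivisors A) (TensorProduct.mk A K M 1) x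
  refine ⟨s.1, m, nonZeroDivisors.ne_zero s.2, ?_⟩
  rw [algebraMap_smul]
  exact h

theorem main {M : Type u} [AddCommGroup M] [Module A M] [IsDedekindDomain A]
    (P' : Submodule K (K ⊗[A] M)) (Q : Submodule A M) :
    Q = LinearMap.ker ((P'.restrictScalars A).mkQ ∘ₗ TensorProduct.mk A K M 1) ↔
      (Module.Flat A (M ⧸ Q) ∧ LinearMap.ker (Q.mkQ.baseChange K) = P') := by
  have hφ : ∀ m : M, m ∈ LinearMap.ker ((P'.restrictScalars A).mkQ ∘ₗ TensorProduct.mk A K M 1) ↔
      (1 : K) ⊗ₜ[A] m ∈ P' := by
    intro m
    simp [LinearMap.mem_ker, Submodule.Quotient.mk_eq_zero]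
  have hsm : ∀ (s : A) (x : K ⊗[A] M), s ≠ 0 → (algebraMap A K s) • x ∈ P' → x ∈ P' := by
    intro s x hs hx
    have hs' : algebraMap A K s ≠ 0 := by
      simpa using (IsFractionRing.injective A K).ne hs
    have := P'.smul_mem (algebraMap A K s)⁻¹ hx
    rwa [smul_smul, inv_mul_cancel₀ hs', one_smul] at this
  constructor
  · intro hQ
    have hQ' : ∀ m : M, m ∈ Q ↔ (1 : K) ⊗ₜ[A] m ∈ P' := by
      intro m; rw [← hφ m, ← hQ]
    have hflat : Module.Flat A (M ⧸ Q) := by
      rw [IsDedekindDomain.flat_iff_torsion_eq_bot, eq_bot_iff]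
      rintro x ⟨⟨a, ha⟩, hax⟩
      obtain ⟨m, rfl⟩ := Submodule.Quotient.mk_surjective Q x
      simp only [Submodule.mem_bot]
      rw [Submodule.Quotient.mk_eq_zero, hQ']
      have h1 : a • m ∈ Q := by
        rw [← Submodule.Quotient.mk_eq_zero, Submodule.Quotient.mk_smul]
        simpa using hax
      rw [hQ'] at h1
      apply hsm a _ (nonZeroDivisors.ne_zero ha)
      rw [algebraMap_smul, TensorProduct.smul_tmul', TensorProduct.smul_tmul]
      exact h1
    refine ⟨hflat, ?_⟩
    ext x
    obtain ⟨s, m, hs, hx⟩ := exists_smul_eq_mk (A := A) x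
    have hs' : algebraMap A K s ≠ 0 := by
      simpa using (IsFractionRing.injective A K).ne hs
    rw [LinearMap.mem_ker]
    have hb : (algebraMap A K s) • (Q.mkQ.baseChange K x) = (1 : K) ⊗ₜ[A] (Q.mkQ m) := by
      rw [← map_smul, hx]; simp
    constructor
    · intro h0
      rw [h0, smul_zero] at hb
      have : Q.mkQ m = 0 := by
        apply mk_inj_of_flat (A := A) (K := K) (M ⧸ Q)
        simpa using hb.symm
      have hmQ : m ∈ Q := by simpa using this
      apply hsm s x hs
      rw [hx]
      exact (hQ' m).mp hmQ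
    · intro hxP
      have h1 : (1 : K) ⊗ₜ[A] m ∈ P' := hx ▸ P'.smul_mem _ hxP
      have hmQ : m ∈ Q := (hQ' m).mpr h1
      have : Q.mkQ m = 0 := by simpa using hmQ
      rw [this, TensorProduct.tmul_zero] at hb
      exact (smul_eq_zero.mp hb).resolve_left hs'
  · rintro ⟨hflat, hker⟩
    ext m
    rw [hφ m, ← hker, LinearMap.mem_ker]
    simp only [LinearMap.baseChange_tmul, Submodule.mkQ_apply]
    constructor
    · intro hm
      rw [(Submodule.Quotient.mk_eq_zero Q).mpr hm, TensorProduct.tmul_zero]
    · intro h0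
      rw [← Submodule.Quotient.mk_eq_zero Q]
      apply mk_inj_of_flat (A := A) (K := K) (M ⧸ Q)
      simpa using h0
end


open TensorProduct in
/-- Let A be a Dedekind domain with fraction field K, M an A-module and P' a K-submodule of K ⊗_A M. Let
φ : M → (K ⊗_A M)/P' be m ↦ class of 1 ⊗ m. Then a submodule Q of M equals ker φ if and only if M/Q
is a flat A-module and the kernel of the induced surjection K ⊗_A M → K ⊗_A (M/Q) is P'. Thus M/ker
φ is the unique flat quotient of M with generic fibre (K ⊗_A M)/P'. (The published statement takes A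
Noetherian, regular and of dimension 1; a field is allowed here, where the statement is immediate.) -/
theorem result {A K : Type u} [CommRing A] [IsDedekindDomain A] [Field K]
    [Algebra A K] [IsFractionRing A K] {M : Type u} [AddCommGroup M] [Module A M]
    (P' : Submodule K (K ⊗[A] M)) (Q : Submodule A M) :
    Q = LinearMap.ker ((P'.restrictScalars A).mkQ ∘ₗ TensorProduct.mk A K M 1) ↔
      (Module.Flat A (M ⧸ Q) ∧ LinearMap.ker (Q.mkQ.baseChange K) = P') := by
  exact main P' Q

end Groth.Agent.S4640
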