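import Groth.Statements.S4641
import Groth.Agent.S2510
import Mathlib.RingTheory.Ideal.AssociatedPrime.Localization
import Mathlib.RingTheory.Flat.TorsionFree

set_option autoImplicit false
open CategoryTheory AlgebraicGeometry
universe u
open AssSch

namespace Groth.Agent.S4641

section aux
open Groth.Agent.Lib.Helper29.QCoh

/-- If a flat module over a Noetherian local ring `B` has a nonzero element killed by a power of
every element of the maximal ideal, then the maximal ideal is an associated prime of `B`. -/
theorem maximalIdeal_mem_associatedPrimes_of_flat {B N : Type*} [CommRing B] [IsLocalRing B]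
    [IsNoetherianRing B] [AddCommGroup N] [Module B N] [Module.Flat B N] (t : N) (ht : t ≠ 0)
    (h : ∀ b ∈ IsLocalRing.maximalIdeal B, ∃ n : ℕ, b ^ n • t = 0) :
    IsLocalRing.maximalIdeal B ∈ associatedPrimes B B := by
  by_contra hm
  have fin := associatedPrimes.finite B B
  have hns : ¬ ((IsLocalRing.maximalIdeal B : Set B) ⊆ ⋃ P ∈ associatedPrimes B B, (P : Set B)) := by
    intro hsub
    obtain ⟨P, hP, hle⟩ := ((IsLocalRing.maximalIdeal B).subset_union_prime_finite fin (f := id) 0 0
      (fun _ h _ _ => h.isPrime)).1 hsub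
    have hPp : P.IsPrime := hP.isPrime
    have : IsLocalRing.maximalIdeal B = P :=
      (IsLocalRing.maximalIdeal.isMaximal B).eq_of_le hPp.ne_top hle
    exact hm (this ▸ hP)
  obtain ⟨b, hbm, hb⟩ := Set.not_subset.mp hns
  rw [biUnion_associatedPrimes_eq_compl_nonZeroDivisors B, Set.notMem_compl_iff] at hb
  obtain ⟨n, hn⟩ := h b hbm
  have hreg : IsSMulRegular N (b ^ n) :=
    Module.Flat.isSMulRegular_of_nonZeroDivisors (pow_mem hb n)
  exact ht (hreg (by simp only [hn, smul_zero]))

/-- A prime which is the radical of an ideal is minimal over it. -/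
theorem mem_minimalPrimes_of_eq_radical {A : Type*} [CommRing A] (p I : Ideal A) [hp : p.IsPrime]
    (h : p = I.radical) : p ∈ I.minimalPrimes := by
  refine ⟨⟨hp, h ▸ Ideal.le_radical⟩, fun q hq _ => ?_⟩
  rw [h]
  exact (Ideal.IsPrime.radical_le_iff hq.1).mpr hq.2

end aux

/-- Let f : X → Y be a morphism of locally Noetherian schemes such that Y has no embedded associated
points, and let F be a quasi-coherent O_X-module which is flat over Y. Then for every associated
point x of F, f(x) is a maximal point of Y (every point of Y specialising to f(x) equals f(x)). (The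
published statement assumes only Y locally Noetherian; X is taken locally Noetherian here so that
associated points are those whose maximal ideal is an annihilator.) -/
theorem result {X Y : Scheme.{u}} (f : X ⟶ Y) [IsLocallyNoetherian X]
    [IsLocallyNoetherian Y] (hY : AssSch.NoEmbedded (Coh.structureModule Y)) (F : X.Modules) (hF : Coh.IsQCoh F)
    (hfl : FlatMod.IsFlatOver f F) (x : X) (hx : x ∈ AssSch.Ass F) (y : Y) (hy : y ⤳ f x) : y = f x := by
  open Groth.Agent.Lib.Helper29.QCoh in
  obtain ⟨V, hV, hfxV, -⟩ := exists_isAffineOpen_mem_and_subset (x := f x) (U := (⊤ : Y.Opens)) trivial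
  have hN : IsNoetherianRing Γ(Y, V) :=
    IsLocallyNoetherian.component_noetherian (X := Y) ⟨V, hV⟩
  let M := Coh.structureModule Y
  have hQ : M.IsQuasicoherent := isQuasicoherent_unitM Y
  -- Step 1: `f x` is an associated point of `O_Y`
  have hfxass : Curv2.IsWeakAssPoint M (f x) := by
    obtain ⟨_, t, ht⟩ := hx
    let _ := FlatMod.moduleStalkOver f F x
    have hflat : Module.Flat (Y.presheaf.stalk (f.base x)) (F.presheaf.stalk x) := hfl x
    have ht0 : t ≠ 0 := by
      rintro rfl
      have h1 : (1 : X.presheaf.stalk x) ∈ IsLocalRing.maximalIdeal (X.presheaf.stalk x) := by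
        rw [ht]
        apply Ideal.le_radical
        rw [Submodule.mem_colon_singleton, smul_zero]
        exact Submodule.zero_mem _
      exact (IsLocalRing.maximalIdeal.isMaximal _).ne_top ((Ideal.eq_top_iff_one _).mpr h1)
    have hB := maximalIdeal_mem_associatedPrimes_of_flat (B := Y.presheaf.stalk (f.base x)) t ht0 (by
      intro b hb
      have hb' : (f.stalkMap x).hom b ∈ IsLocalRing.maximalIdeal (X.presheaf.stalk x) :=
        map_nonunit (f.stalkMap x).hom b hb
      rw [ht] at hb'
      obtain ⟨n, hn⟩ := hb'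
      refine ⟨n, ?_⟩
      rw [Submodule.mem_colon_singleton, Submodule.mem_bot] at hn
      change (f.stalkMap x).hom (b ^ n) • t = 0
      rw [map_pow]; exact hn)
    let _ : Algebra Γ(Y, V) (Y.presheaf.stalk (f.base x)) :=
      TopCat.Presheaf.algebra_section_stalk Y.presheaf ⟨f.base x, hfxV⟩
    have hloc := hV.isLocalization_stalk ⟨f.base x, hfxV⟩
    have hA := Module.associatedPrimes.comap_mem_associatedPrimes_of_mem_associatedPrimes_of_isLocalizedModule_of_fg
      (hV.primeIdealOf ⟨_, hfxV⟩).asIdeal.primeCompl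
      (Algebra.linearMap Γ(Y, V) (Y.presheaf.stalk (f.base x))) _ hB
      ((isNoetherianRing_iff_ideal_fg _).mp hN _)
    have hcomap : Ideal.comap (algebraMap Γ(Y, V) (Y.presheaf.stalk (f.base x)))
        (IsLocalRing.maximalIdeal (Y.presheaf.stalk (f.base x))) =
        (hV.primeIdealOf ⟨_, hfxV⟩).asIdeal :=
      IsLocalization.AtPrime.under_maximalIdeal (Y.presheaf.stalk (f.base x))
        (hV.primeIdealOf ⟨_, hfxV⟩).asIdeal
    rw [hcomap] at hA
    obtain ⟨hpp, a, ha⟩ := hA
    refine isWeakAssPoint_of_mem_minimalPrimes M hV (toUnit a) (f x) hfxV ?_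
    have e : annSection M (toUnit a) = (⊥ : Submodule Γ(Y, V) Γ(Y, V)).colon {a} := by
      ext r
      rw [mem_annSection, Submodule.mem_colon_singleton, Submodule.mem_bot]
      rfl
    rw [e]
    exact mem_minimalPrimes_of_eq_radical _ _ ha
  -- Step 2: a maximal point above `y`
  have hyV : y ∈ V := hy.mem_open V.isOpen hfxV
  obtain ⟨q, hq, hqy⟩ := Ideal.exists_minimalPrimes_le (I := (⊥ : Ideal Γ(Y, V)))
    (J := (hV.primeIdealOf ⟨y, hyV⟩).asIdeal) bot_le
  have hqq : q.IsPrime := hq.1.1
  obtain ⟨y', hy', hy'q⟩ := exists_point_of_prime' hV ⟨q, hqq⟩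
  have hann1 : annSection M (toUnit (1 : Γ(Y, V)) : Γ(M, V)) = ⊥ := by
    rw [eq_bot_iff]
    intro r hr
    rw [mem_annSection] at hr
    have hr' : r * 1 = 0 := hr
    rw [mul_one] at hr'
    rw [hr']; exact Submodule.zero_mem _
  have hy'ass : Curv2.IsWeakAssPoint M y' :=
    isWeakAssPoint_of_mem_minimalPrimes M hV (toUnit (1 : Γ(Y, V))) y' hy'
      (by rw [hy'q, hann1]; exact hq)
  have hy'y : y' ⤳ y :=
    Groth.Agent.S2510.specializes_of_primeIdealOf_le hV y' y hy' hyV (by rw [hy'q]; exact hqy)
  have h1 : f x = y' := hY (f x) ((isAssPoint_iff_isWeakAssPoint M (f x)).mpr hfxass) y'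
    ((isAssPoint_iff_isWeakAssPoint M y').mpr hy'ass) (hy'y.trans hy)
  exact (hy.antisymm (h1 ▸ hy'y)).eq

end Groth.Agent.S4641
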