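import Groth.Statements.S4642
import Groth.Agent.Lib.Helper22.FibreDim2
-- import your own Groth.Agent.* helpers here

set_option autoImplicit false
open CategoryTheory AlgebraicGeometry
universe u
open FBase

namespace Groth.Agent.S4642

/-- Let X be a scheme locally of finite type over a field k and K an extension field of k. Then X ⊗_k K
and X have the same dimension. (Dimension is the Krull dimension of the underlying topological
space, which for schemes locally of finite type over a field agrees with the supremum of the
transcendence degrees of the residue fields at maximal points.) -/
theorem result {k K : Type u} [Field k] [Field K] [Algebra k K] {X : Scheme.{u}}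
    (f : X ⟶ Spec (CommRingCat.of k)) [LocallyOfFiniteType f] :
    topologicalKrullDim ↥(FBase.bc f K) = topologicalKrullDim ↥X := by
  exact Groth.Agent.Lib.Helper22.topologicalKrullDim_eq_of_isPullback_field k K f
    (Spec.map (CommRingCat.ofHom (algebraMap k K))) (FBase.bcπ f K) (FBase.bcStr f K)
    (IsPullback.of_hasPullback _ _)

end Groth.Agent.S4642
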