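import Groth.Statements.S4644
import Groth.Agent.Lib.Helper21.Img1
import Groth.Agent.Lib.Helper18.JacDim1
import Groth.Agent.Lib.Helper21.BaseChg3
-- import your own Groth.Agent.* helpers here

set_option autoImplicit false
open CategoryTheory AlgebraicGeometry
universe u
open FBase

namespace Groth.Agent.S4644

/-- Let Y be a nonempty scheme locally of finite type over a field k whose irreducible components all
have the same dimension, and let Z be a locally closed subset of Y (the underlying set of a
subscheme). Then Z is nowhere dense in Y if and only if dim Z < dim Y. (For Y empty the left side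
holds and the right side fails, so Y is taken nonempty; dimensions are Krull dimensions of the
underlying spaces.) -/
theorem result {k : Type u} [Field k] {Y : Scheme.{u}} [Nonempty ↥Y]
    (g : Y ⟶ Spec (CommRingCat.of k)) [LocallyOfFiniteType g]
    (heq : ∀ T ∈ irreducibleComponents ↥Y, topologicalKrullDim ↥T = topologicalKrullDim ↥Y)
    (Z : Set ↥Y) (hZ : IsLocallyClosed Z) :
    IsNowhereDense Z ↔ topologicalKrullDim ↥Z < topologicalKrullDim ↥Y := by
  let _ : Y.Over (Spec (CommRingCat.of k)) := ⟨g⟩
  have : LocallyOfFiniteType (Y ↘ Spec (CommRingCat.of k)) := ‹LocallyOfFiniteType g›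
  have : IsLocallyNoetherian Y := LocallyOfFiniteType.isLocallyNoetherian g
  -- every point lies in a component with generic point
  have hcomp : ∀ w : Y, ∃ ξ : Y, closure ({ξ} : Set Y) ∈ irreducibleComponents Y ∧ ξ ⤳ w := by
    intro w
    obtain ⟨ξ, hξ⟩ := QuasiSober.sober (isIrreducible_irreducibleComponent (x := w))
      isClosed_irreducibleComponent
    refine ⟨ξ, ?_, ?_⟩
    · rw [hξ.def]
      exact irreducibleComponent_mem_irreducibleComponents w
    · rw [specializes_iff_mem_closure, hξ.def]
      exact mem_irreducibleComponent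
  -- the common dimension
  obtain ⟨y₀⟩ := ‹Nonempty ↥Y›
  obtain ⟨ξ₀, hξ₀, -⟩ := hcomp y₀
  obtain ⟨d, hd⟩ := Groth.Agent.Lib.Helper21.FibDim.exists_nat_trdeg k Y ξ₀
  have hdY : topologicalKrullDim ↥Y = (d : WithBot ℕ∞) := by
    rw [← heq _ hξ₀]
    exact Groth.Agent.Lib.Helper21.FibDim.topologicalKrullDim_closure_singleton k Y ξ₀ d hd
  have hgen : ∀ ξ : Y, closure ({ξ} : Set Y) ∈ irreducibleComponents Y →
      @Algebra.trdeg k (Y.residueField ξ) _ _ (Curv2.resAlgebra k Y ξ) = d := by
    intro ξ hξ
    obtain ⟨s, hs⟩ := Groth.Agent.Lib.Helper21.FibDim.exists_nat_trdeg k Y ξ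
    have h1 := Groth.Agent.Lib.Helper21.FibDim.topologicalKrullDim_closure_singleton k Y ξ s hs
    rw [heq _ hξ, hdY] at h1
    have : d = s := by exact_mod_cast h1
    rw [hs, this]
  rw [hdY]
  constructor
  · intro hnd
    have hW : IsNowhereDense (closure Z) := hnd.closure
    have hdense : Dense (closure Z)ᶜ := by
      rw [← interior_eq_empty_iff_dense_compl]
      exact isClosed_closure.isNowhereDense_iff.mp hW
    have key : ∀ w ∈ closure Z,
        topologicalKrullDim (closure ({w} : Set Y)) ≤ ((d - 1 : ℕ) : WithBot ℕ∞) ∧ 1 ≤ d := by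
      intro w hw
      obtain ⟨ξ, hξ, hξw⟩ := hcomp w
      have hξU : ξ ∈ (closure Z)ᶜ :=
        Groth.Agent.Lib.Helper18.JacDim.genericPoint_mem_of_dense _ hξ ξ rfl _
          isClosed_closure.isOpen_compl hdense
      have hne : ξ ≠ w := fun h => hξU (h ▸ hw)
      obtain ⟨s, hs⟩ := Groth.Agent.Lib.Helper21.FibDim.exists_nat_trdeg k Y w
      have hlt := Groth.Agent.Lib.Helper21.FibDim.trdeg_lt_of_specializes k Y ξ w hξw hne d s
        (hgen ξ hξ) hs
      rw [Groth.Agent.Lib.Helper21.FibDim.topologicalKrullDim_closure_singleton k Y w s hs]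
      refine ⟨?_, by omega⟩
      have : s ≤ d - 1 := by omega
      exact_mod_cast this
    refine lt_of_le_of_lt (Groth.Agent.Lib.Helper21.Img.topologicalKrullDim_mono
      (subset_closure : Z ⊆ closure Z)) ?_
    by_cases hne : (closure Z).Nonempty
    · obtain ⟨w₀, hw₀⟩ := hne
      have h1d := (key w₀ hw₀).2
      have h1 := Groth.Agent.Lib.Helper21.Img.topologicalKrullDim_le_of_forall_closure
        (closure Z) isClosed_closure _ (fun w hw => (key w hw).1)
      refine lt_of_le_of_lt h1 ?_
      have : d - 1 < d := by omega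
      exact_mod_cast this
    · have : IsEmpty (closure Z) := by
        rw [Set.isEmpty_coe_sort]
        exact Set.not_nonempty_iff_eq_empty.mp hne
      rw [Groth.Agent.Lib.Helper21.Img.topologicalKrullDim_eq_bot_of_isEmpty]
      exact WithBot.bot_lt_coe _
  · intro hlt
    by_contra hnd
    have hO : (interior (closure Z)).Nonempty := by
      rw [Set.nonempty_iff_ne_empty]
      exact hnd
    obtain ⟨U, K, hU, hK, rfl⟩ := hZ
    obtain ⟨o, ho⟩ := hO
    have ho' : o ∈ closure (U ∩ K) := interior_subset ho
    obtain ⟨o', ho'1, ho'2⟩ := mem_closure_iff.mp ho' _ isOpen_interior ho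
    -- the open set
    set O : TopologicalSpace.Opens Y := ⟨interior (closure (U ∩ K)) ∩ U, isOpen_interior.inter hU⟩
      with hOdef
    have hOsub : (O : Set Y) ⊆ U ∩ K := by
      rintro x ⟨hx1, hx2⟩
      refine ⟨hx2, ?_⟩
      have : closure (U ∩ K) ⊆ K := closure_minimal Set.inter_subset_right hK
      exact this (interior_subset hx1)
    have ho'O : o' ∈ O := ⟨ho'1, ho'2.1⟩
    obtain ⟨ξ, hξ, hξo⟩ := hcomp o'
    have hξO : ξ ∈ O := hξo.mem_open O.2 ho'O
    have h1 := Groth.Agent.Lib.Helper21.BaseChg.topologicalKrullDim_closure_eq_localDim k Y ξ hξ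
    rw [Groth.Agent.Lib.Helper21.FibDim.topologicalKrullDim_closure_singleton k Y ξ d
      (hgen ξ hξ)] at h1
    have h2 := Groth.Agent.Lib.Helper18.TopDim.localDim_le_topologicalKrullDim_open O hξO
    have h3 := Groth.Agent.Lib.Helper21.Img.topologicalKrullDim_mono hOsub
    rw [← h1] at h2
    exact absurd (h2.trans h3) (not_le_of_gt hlt)

end Groth.Agent.S4644
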