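import Groth.Statements.S4645
import Groth.Agent.Lib.Helper1.GalFinLevel

set_option autoImplicit false
open CategoryTheory AlgebraicGeometry
universe u
open FBase

namespace Groth.Agent.S4645

/-- Let X be a scheme over a field k with finitely many connected components, each of which contains a
point x such that the separable algebraic closure of k in κ(x) has finite degree over k. Then there
is a finite separable extension k'' of k such that all connected components of X ⊗_k k'' are
geometrically connected over k'': for every extension field K of k'' and every point x' of X ⊗_k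
k'', the inverse image in (X ⊗_k k'') ⊗_{k''} K of the connected component of x' is connected. -/
theorem result {k : Type u} [Field k] {X : Scheme.{u}}
    (f : X ⟶ Spec (CommRingCat.of k)) [Finite (_root_.ConnectedComponents ↥X)]
    (hx : ∀ c : _root_.ConnectedComponents ↥X, ∃ x : X, _root_.ConnectedComponents.mk x = c ∧
      FBase.ResidueFieldProp f x (fun K _ _ => FiniteDimensional k (separableClosure k K))) :
    ∃ (k'' : Type u) (_ : Field k'') (_ : Algebra k k''), FiniteDimensional k k'' ∧ Algebra.IsSeparable k k'' ∧
      ∀ (K : Type u) [Field K] [Algebra k'' K] (x' : ↥(FBase.bc f k'')),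
        _root_.IsConnected (⇑(FBase.bcπ (FBase.bcStr f k'') K) ⁻¹' connectedComponent x') := by
  classical
  letI : X.Over (Spec (CommRingCat.of k)) := ⟨f⟩
  have hpt : ∀ c : _root_.ConnectedComponents ↥X, ∃ x : X, _root_.ConnectedComponents.mk x = c ∧
      Finite ((Curv2.bcFst k X (SeparableClosure k)).base ⁻¹' {x}) := by
    intro c
    obtain ⟨x, hxc, φ, hφ, hfd⟩ := hx c
    exact ⟨x, hxc,
      (Groth.Agent.Lib.Helper1.GalCount.fibre_finite f x φ hφ (SeparableClosure k) hfd).1⟩
  haveI hfinΩ := Groth.Agent.Lib.Helper1.GalFinLevel.finite_connectedComponents k X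
    (SeparableClosure k) hpt
  obtain ⟨E, hE, hEs⟩ := Groth.Agent.Lib.Helper1.GalFinLevel.exists_common k (SeparableClosure k)
    (ι := _root_.ConnectedComponents ↥(Curv2.bc k X (SeparableClosure k)))
    (fun C σ => ∀ y : ↥(Curv2.bc k X (SeparableClosure k)), _root_.ConnectedComponents.mk y = C →
      (Curv2.galAct k X (SeparableClosure k) σ).base '' connectedComponent y =
        connectedComponent y)
    (fun C => by
      obtain ⟨y₀, rfl⟩ := ConnectedComponents.surjective_coe C
      obtain ⟨E, hE, hEs⟩ :=
        Groth.Agent.Lib.Helper1.GalFinLevel.exists_stabilizes_connectedComponent k X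
          (SeparableClosure k) y₀
      refine ⟨E, hE, fun σ hσ y hy => ?_⟩
      have : connectedComponent y = connectedComponent y₀ := ConnectedComponents.coe_eq_coe.mp hy
      rw [this]
      exact hEs σ hσ)
  refine ⟨↥E, inferInstance, inferInstance, hE, ?_, ?_⟩
  · exact Algebra.isSeparable_tower_bot_of_isSeparable k E (SeparableClosure k)
  · intro K _ _ x'
    letI := Groth.Agent.Lib.Helper1.GalLevel.overInst k X ↥E
    have h1 := Groth.Agent.Lib.Helper1.GalFinLevel.isConnected_trans_preimage k X
      (SeparableClosure k) E (fun σ hσ y => hEs σ hσ _ y rfl) x'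
    have h2 : _root_.IsConnected
        ((Curv2.bcFst E (Curv2.bc k X E) (SeparableClosure k)).base ⁻¹'
          connectedComponent x') := by
      rw [Groth.Agent.Lib.Helper1.GalFinLevel.preimage_bcFst_eq]
      exact h1.image _ (Homeomorph.continuous _).continuousOn
    exact Groth.Agent.Lib.Helper1.GalClosed.isConnected_preimage_of_sepClosed
      (FBase.bcStr f E) (SeparableClosure k) (connectedComponent x')
      isClosed_connectedComponent h2 K

end Groth.Agent.S4645
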