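import Groth.Statements.S4647
import Mathlib

set_option autoImplicit false
open CategoryTheory AlgebraicGeometry
universe u
open FDesc

namespace Groth.Agent.S4647



theorem unique_comp {W : Scheme.{u}} (hW : ∀ w : W, IsDomain (W.presheaf.stalk w)) (w : W)
    (Z : Set W) (hZ : Z ∈ irreducibleComponents W) (hw : w ∈ Z) :
    Z = irreducibleComponent w := by
  haveI := hW w
  let ξ : W := W.fromSpecStalk w ⟨⊥, Ideal.isPrime_bot⟩
  have key : ∀ Z' ∈ irreducibleComponents W, w ∈ Z' → Z' = closure {ξ} := by
    intro Z' hZ' hw'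
    have hirr : IsIrreducible Z' := hZ'.1
    have hcl : IsClosed Z' := isClosed_of_mem_irreducibleComponents Z' hZ'
    obtain ⟨η, hη⟩ := QuasiSober.sober hirr hcl
    have hηw : η ⤳ w := by
      rw [specializes_iff_mem_closure, hη.def]; exact hw'
    have : η ∈ Set.range (W.fromSpecStalk w) := by rw [Scheme.range_fromSpecStalk]; exact hηw
    obtain ⟨q, rfl⟩ := this
    have hsp : ξ ⤳ W.fromSpecStalk w q := by
      apply Specializes.map _ (W.fromSpecStalk w).continuous
      exact (PrimeSpectrum.le_iff_specializes (R := W.presheaf.stalk w) ⟨⊥, Ideal.isPrime_bot⟩ q).mp bot_le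
    have hsub : Z' ⊆ closure {ξ} := by
      rw [← hη.def]; exact specializes_iff_closure_subset.mp hsp
    exact Set.Subset.antisymm hsub (hZ'.2 isIrreducible_singleton.closure hsub)
  rw [key Z hZ hw, key _ (irreducibleComponent_mem_irreducibleComponents w) mem_irreducibleComponent]

theorem exists_integral_nhd {W : Scheme.{u}} [TopologicalSpace.NoetherianSpace W]
    (hW : ∀ w : W, IsDomain (W.presheaf.stalk w)) (w : W) :
    ∃ V : W.Opens, w ∈ V ∧ IsIntegral (V : Scheme.{u}) := by
  haveI : IsReduced W := by
    haveI : ∀ x : W, _root_.IsReduced (W.presheaf.stalk x) := fun x => by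
      haveI := hW x; infer_instance
    exact isReduced_of_isReduced_stalk W
  let V : W.Opens := ⟨(⋃₀ (irreducibleComponents W \ {irreducibleComponent w}))ᶜ, by
      rw [Set.sUnion_eq_biUnion, isOpen_compl_iff]
      exact TopologicalSpace.NoetherianSpace.finite_irreducibleComponents.sdiff.isClosed_biUnion
        fun Z hZ ↦ isClosed_of_mem_irreducibleComponents Z hZ.1⟩
  have hV : closure (V : Set W) = irreducibleComponent w :=
    closure_sUnion_irreducibleComponents_sdiff_singleton
      TopologicalSpace.NoetherianSpace.finite_irreducibleComponents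
      _ (irreducibleComponent_mem_irreducibleComponents w)
  refine ⟨V, ?_, ?_⟩
  · show w ∈ (⋃₀ (irreducibleComponents W \ {irreducibleComponent w}))ᶜ
    rintro ⟨Z, ⟨hZ, hne⟩, hwZ⟩
    exact hne (unique_comp hW w Z hZ hwZ)
  · have : IrreducibleSpace V := isIrreducible_iff_irreducibleSpace.mp
      (isIrreducible_iff_closure.mp (hV ▸ isIrreducible_irreducibleComponent))
    exact isIntegral_of_irreducibleSpace_of_isReduced _

/-- Let f : X → Y be a faithfully flat (flat and surjective) morphism. If all local rings of X are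
domains (in particular if X is locally integral) and the underlying space of Y is locally
Noetherian, then Y is locally integral: every point of Y has an open neighbourhood which is an
integral scheme. -/
theorem result {X Y : Scheme.{u}} (f : X ⟶ Y) [Flat f] [Surjective f]
    (hX : ∀ x : X, IsDomain ↑(X.presheaf.stalk x))
    (hY : ∀ y : Y, ∃ U : Y.Opens, y ∈ U ∧ TopologicalSpace.NoetherianSpace ↥U) (y : Y) :
    ∃ U : Y.Opens, y ∈ U ∧ IsIntegral (U : Scheme.{u}) := by

  have hYdom : ∀ y : Y, IsDomain (Y.presheaf.stalk y) := by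
    intro y
    obtain ⟨x, rfl⟩ := f.surjective y
    haveI := hX x
    have hflat := Flat.stalkMap f x
    have hinj : Function.Injective (f.stalkMap x).hom := by
      algebraize [(f.stalkMap x).hom]
      haveI : IsLocalHom (algebraMap (Y.presheaf.stalk (f x)) (X.presheaf.stalk x)) := by
        show IsLocalHom (f.stalkMap x).hom
        infer_instance
      haveI : Module.FaithfullyFlat (Y.presheaf.stalk (f x)) (X.presheaf.stalk x) :=
        Module.FaithfullyFlat.of_flat_of_isLocalHom
      exact FaithfulSMul.algebraMap_injective _ _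
    exact hinj.isDomain
  obtain ⟨U, hyU, hU⟩ := hY y
  haveI : TopologicalSpace.NoetherianSpace (U : Scheme.{u}) := hU
  have hUdom : ∀ w : (U : Scheme.{u}), IsDomain ((U : Scheme.{u}).presheaf.stalk w) := by
    intro w
    haveI := hYdom w.1
    exact (U.stalkIso w).commRingCatIsoToRingEquiv.toMulEquiv.isDomain
  obtain ⟨V, hwV, hVint⟩ := exists_integral_nhd hUdom ⟨y, hyU⟩
  refine ⟨U.ι ''ᵁ V, ⟨⟨y, hyU⟩, hwV, rfl⟩, ?_⟩
  haveI : Nonempty ((U.ι ''ᵁ V : Y.Opens) : Scheme.{u}) := ⟨⟨y, ⟨⟨y, hyU⟩, hwV, rfl⟩⟩⟩
  exact isIntegral_of_isOpenImmersion (U.ι.isoImage V).inv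

end Groth.Agent.S4647
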