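import Groth.Statements.S4650
import Mathlib.Topology.Sober
import Mathlib.AlgebraicGeometry.Properties
-- import your own Groth.Agent.* helpers here

set_option autoImplicit false
open CategoryTheory AlgebraicGeometry
universe u
open FDesc

namespace Groth.Agent.S4650


theorem top_aux {X Y : Type*} [TopologicalSpace X] [TopologicalSpace Y] [QuasiSober X] [QuasiSober Y]
    (f : X → Y) (hc : Continuous f) (hf : GeneralizingMap f) (T : Set X)
    (hT : T ∈ irreducibleComponents X) :
    closure (f '' T) ∈ irreducibleComponents Y := by
  have hTirr : IsIrreducible T := hT.1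
  have hTcl : IsClosed T := isClosed_of_mem_irreducibleComponents T hT
  have hξ := hTirr.isGenericPoint_genericPoint hTcl
  set ξ := hTirr.genericPoint with hξdef
  have himg : IsGenericPoint (f ξ) (closure (f '' T)) := hξ.image hc
  have hirr : IsIrreducible (closure (f '' T)) := himg.isIrreducible
  obtain ⟨Z, hZ, hsub⟩ := exists_mem_irreducibleComponents_subset_of_isIrreducible _ hirr
  have hZcl : IsClosed Z := isClosed_of_mem_irreducibleComponents Z hZ
  have hη := hZ.1.isGenericPoint_genericPoint hZcl
  set η := hZ.1.genericPoint with hηdef
  have hspec : η ⤳ f ξ := hη.specializes (hsub himg.mem)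
  obtain ⟨ξ', hξ', hfξ'⟩ := hf hspec
  have hsub2 : T ⊆ closure {ξ'} := by
    rw [← hξ.def]
    exact closure_minimal (Set.singleton_subset_iff.mpr hξ'.mem_closure) isClosed_closure
  have hTeq : closure {ξ'} = T :=
    (hT.eq_of_subset (isIrreducible_singleton.closure) hsub2).symm
  have hξ'T : ξ' ∈ T := hTeq ▸ subset_closure (Set.mem_singleton ξ')
  have hZsub : Z ⊆ closure (f '' T) := by
    rw [← hη.def]
    apply closure_minimal _ isClosed_closure
    rw [Set.singleton_subset_iff, ← hfξ']
    exact subset_closure ⟨ξ', hξ'T, rfl⟩
  rw [show closure (f '' T) = Z from le_antisymm hsub hZsub]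
  exact hZ

/-- Let f : X → Y be a morphism of schemes along which generizations lift (this holds for flat,
quasi-flat or open morphisms). Then every irreducible component of X dominates an irreducible
component of Y: the closure of its image is an irreducible component of Y. -/
theorem result {X Y : Scheme.{u}} (f : X ⟶ Y)
    (hf : GeneralizingMap ⇑f) (T : Set ↥X) (hT : T ∈ irreducibleComponents ↥X) :
    closure (⇑f '' T) ∈ irreducibleComponents ↥Y := by
  exact top_aux _ f.continuous hf T hT

end Groth.Agent.S4650
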