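import Groth.Statements.S4651
import Groth.Agent.S4650
-- import your own Groth.Agent.* helpers here

set_option autoImplicit false
open CategoryTheory AlgebraicGeometry
universe u
open FDesc

namespace Groth.Agent.S4651

theorem top_aux2 {X Y : Type*} [TopologicalSpace X] [TopologicalSpace Y] [QuasiSober X]
    [QuasiSober Y] [T0Space Y] (f : X → Y) (hc : Continuous f)
    (hY : ∀ y : Y, ∃ U : Set Y, IsOpen U ∧ y ∈ U ∧
      {Z ∈ irreducibleComponents Y | (Z ∩ U).Nonempty}.Finite)
    (hf : GeneralizingMap f) (hfin : ∀ y : Y, (f ⁻¹' {y}).Finite) (x : X) :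
    ∃ U : Set X, IsOpen U ∧ x ∈ U ∧ {T ∈ irreducibleComponents X | (T ∩ U).Nonempty}.Finite := by
  obtain ⟨V, hVo, hyV, hVfin⟩ := hY (f x)
  refine ⟨f ⁻¹' V, hVo.preimage hc, hyV, ?_⟩
  set S := {Z ∈ irreducibleComponents Y | (Z ∩ V).Nonempty} with hS
  have hG : (⋃ Z ∈ S, {ξ : X | IsGenericPoint (f ξ) Z}).Finite := by
    refine Set.Finite.biUnion hVfin ?_
    intro Z _
    by_cases hne : {ξ : X | IsGenericPoint (f ξ) Z}.Nonempty
    · obtain ⟨ξ0, hξ0⟩ := hne
      refine (hfin (f ξ0)).subset ?_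
      intro ξ hξ
      exact IsGenericPoint.eq hξ hξ0
    · rw [Set.not_nonempty_iff_eq_empty] at hne
      rw [hne]; exact Set.finite_empty
  refine (hG.image (fun ξ => closure {ξ})).subset ?_
  rintro T ⟨hT, hTU⟩
  have hTirr : IsIrreducible T := hT.1
  have hTcl : IsClosed T := isClosed_of_mem_irreducibleComponents T hT
  have hξ := hTirr.isGenericPoint_genericPoint hTcl
  refine ⟨hTirr.genericPoint, ?_, hξ.def⟩
  simp only [Set.mem_iUnion, Set.mem_ofPred_eq, exists_prop]
  refine ⟨closure (f '' T), ⟨Groth.Agent.S4650.top_aux f hc hf T hT, ?_⟩, hξ.image hc⟩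
  have hξU : hTirr.genericPoint ∈ f ⁻¹' V :=
    (hξ.mem_open_set_iff (hVo.preimage hc)).mpr hTU
  exact ⟨f hTirr.genericPoint, subset_closure ⟨_, hξ.mem, rfl⟩, hξU⟩


/-- Let Y be a scheme whose family of irreducible components is locally finite (every point has an open
neighbourhood meeting only finitely many irreducible components), and let f : X → Y be a morphism
along which generizations lift (e.g. flat, quasi-flat or open) such that every fibre f⁻¹(y) is a
finite set (e.g. f quasi-finite or radicial). Then the family of irreducible components of X is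
locally finite. -/
theorem result {X Y : Scheme.{u}} (f : X ⟶ Y)
    (hY : ∀ y : Y, ∃ U : Set ↥Y, IsOpen U ∧ y ∈ U ∧ {Z ∈ irreducibleComponents ↥Y | (Z ∩ U).Nonempty}.Finite)
    (hf : GeneralizingMap ⇑f) (hfin : ∀ y : Y, (⇑f ⁻¹' {y}).Finite) (x : X) :
    ∃ U : Set ↥X, IsOpen U ∧ x ∈ U ∧ {T ∈ irreducibleComponents ↥X | (T ∩ U).Nonempty}.Finite := by
  exact top_aux2 _ f.continuous hY hf hfin x

end Groth.Agent.S4651
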