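import Groth.Statements.S4652
-- import your own Groth.Agent.* helpers here
import Groth.Agent.Lib.Helper29.QCohLocFree

set_option autoImplicit false
open CategoryTheory AlgebraicGeometry
universe u
open FDesc

namespace Groth.Agent.S4652

/-- Let X be a scheme, F a finitely presented O_X-module and x a point of X. Then F_x is a flat module
over the local ring O_{X,x} if and only if x has an open neighbourhood U such that the restriction
of F to U is finite locally free. -/
theorem result {X : Scheme.{u}} (F : X.Modules) (hF : CohB1.IsFP F) (x : X) :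
    FlatMod.IsFlatAt F x ↔ ∃ U : X.Opens, x ∈ U ∧ FlatMod.IsFinLocFree ((Scheme.Modules.pullback U.ι).obj F) := by
  open Groth.Agent.Lib.Helper29.QCoh in
  have hfp : F.IsFinitePresentation := hF
  constructor
  · intro hflat
    have : Module.Flat (X.presheaf.stalk x) (F.presheaf.stalk x) := hflat
    have := finitePresentation_stalk F x
    have : Module.Free (X.presheaf.stalk x) (F.presheaf.stalk x) :=
      Module.free_of_flat_of_isLocalRing
    obtain ⟨V, n, hV, hxV, ⟨e⟩⟩ := exists_affine_linearEquiv_of_free_stalk F x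
    obtain ⟨e'⟩ := isFreeAlong_ι_of_linearEquiv F hV e
    exact ⟨V, hxV, isFinLocFree_of_iso_freeMod e'⟩
  · rintro ⟨U, hxU, h⟩
    rw [isFinLocFree_iff_isFreeAlong] at h
    obtain ⟨W, n, hxW, ⟨e⟩⟩ := h ⟨x, hxU⟩
    have h' : IsFreeAlong F (W.ι ≫ U.ι) n :=
      ⟨(Scheme.Modules.pullbackComp W.ι U.ι).symm.app F ≪≫ e⟩
    have : Module.Free (X.presheaf.stalk x) (F.presheaf.stalk x) :=
      h'.free_stalk x ⟨⟨⟨x, hxU⟩, hxW⟩, rfl⟩
    exact (inferInstance : Module.Flat (X.presheaf.stalk x) (F.presheaf.stalk x))

end Groth.Agent.S4652
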