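import Groth.Statements.S6304
import Mathlib.RingTheory.Flat.Equalizer
import Mathlib.RingTheory.Flat.Tensor

set_option autoImplicit false
universe u
open CAlg

namespace Groth.Agent.S6304

/-- In a short exact sequence 0 → M' → M → M'' → 0 of R-modules whose right-hand term M'' is flat, the
middle term M is flat when M' is, and M' is flat when M is. -/
theorem result {R : Type u} [CommRing R] {M' M M'' : Type u} [AddCommGroup M'] [Module R M'] [AddCommGroup M] [Module R M] [AddCommGroup M''] [Module R M''] (f : M' →ₗ[R] M) (g : M →ₗ[R] M'') (hf : Function.Injective f) (hexact : Function.Exact f g) (hg : Function.Surjective g) [Module.Flat R M''] : (Module.Flat R M' → Module.Flat R M) ∧ (Module.Flat R M → Module.Flat R M') := by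
  have hcomm : ∀ (I : Ideal R) (y : TensorProduct R I M'),
      (LinearMap.rTensor M I.subtype) (LinearMap.lTensor I f y) =
        (LinearMap.lTensor R f) (LinearMap.rTensor M' I.subtype y) := by
    intro I y
    rw [← LinearMap.comp_apply, ← LinearMap.comp_apply, LinearMap.rTensor_comp_lTensor,
      LinearMap.lTensor_comp_rTensor]
  have hcomm' : ∀ (I : Ideal R) (x : TensorProduct R I M),
      (LinearMap.rTensor M'' I.subtype) (LinearMap.lTensor I g x) =
        (LinearMap.lTensor R g) (LinearMap.rTensor M I.subtype x) := by
    intro I x
    rw [← LinearMap.comp_apply, ← LinearMap.comp_apply, LinearMap.rTensor_comp_lTensor,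
      LinearMap.lTensor_comp_rTensor]
  have hfinj : ∀ (A : Type u) [AddCommGroup A] [Module R A], Function.Injective (LinearMap.lTensor A f) :=
    fun A _ _ => LinearMap.lTensor_injective_of_exact_of_flat g hg f hf hexact A
  constructor
  · intro hM'
    rw [Module.Flat.iff_rTensor_injective']
    intro I
    rw [injective_iff_map_eq_zero]
    intro x hx
    have h1 : LinearMap.lTensor I g x = 0 := by
      apply Module.Flat.rTensor_preserves_injective_linearMap (M := M'') I.subtype I.subtype_injective
      rw [hcomm', hx, map_zero, map_zero]
    obtain ⟨y, rfl⟩ := (lTensor_exact I hexact hg x).mp h1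
    have h2 : LinearMap.rTensor M' I.subtype y = 0 := by
      apply hfinj R
      rw [← hcomm, hx, map_zero]
    have h3 : y = 0 := by
      apply Module.Flat.rTensor_preserves_injective_linearMap (M := M') I.subtype I.subtype_injective
      rw [h2, map_zero]
    rw [h3, map_zero]
  · intro hM
    rw [Module.Flat.iff_rTensor_injective']
    intro I
    rw [injective_iff_map_eq_zero]
    intro y hy
    apply hfinj I
    apply Module.Flat.rTensor_preserves_injective_linearMap (M := M) I.subtype I.subtype_injective
    rw [hcomm, hy, map_zero, map_zero, map_zero]

end Groth.Agent.S6304
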