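import Groth.Statements.S4654
import Groth.Agent.Lib.Helper29.QCohAss2
import Groth.Agent.S6304

set_option autoImplicit false
open CategoryTheory AlgebraicGeometry
universe u
open FDesc

namespace Groth.Agent.S4654

section aux
open Groth.Agent.Lib.Helper29.QCoh

/-- The stalk map of a morphism of `O_X`-modules, as a linear map over the local ring of the
base. -/
noncomputable def stalkMapOverₗ {X Y : Scheme.{u}} (f : X ⟶ Y) {M N : X.Modules} (φ : M ⟶ N)
    (x : X) :
    letI := FlatMod.moduleStalkOver f M x
    letI := FlatMod.moduleStalkOver f N x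
    M.presheaf.stalk x →ₗ[Y.presheaf.stalk (f.base x)] N.presheaf.stalk x :=
  letI := FlatMod.moduleStalkOver f M x
  letI := FlatMod.moduleStalkOver f N x
  { toFun := stalkMap φ x
    map_add' := fun a b => map_add _ a b
    map_smul' := fun r a => stalkMap_smul φ x ((f.stalkMap x).hom r) a }

end aux

/-- Let f : X → Y be a morphism of schemes and 0 → F' → F → F'' → 0 a short exact sequence of
quasi-coherent O_X-modules such that F'' is flat over Y. Then F is flat over Y if and only if F' is
flat over Y. -/
theorem result {X Y : Scheme.{u}} (f : X ⟶ Y) (S : ShortComplex X.Modules)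
    (hS : S.ShortExact) (h₁ : Coh.IsQCoh S.X₁) (h₂ : Coh.IsQCoh S.X₂) (h₃ : Coh.IsQCoh S.X₃)
    (hflat : FlatMod.IsFlatOver f S.X₃) :
    FlatMod.IsFlatOver f S.X₂ ↔ FlatMod.IsFlatOver f S.X₁ := by
  open Groth.Agent.Lib.Helper29.QCoh in
  have key : ∀ x : X, (FlatMod.IsFlatOverAt f S.X₁ x → FlatMod.IsFlatOverAt f S.X₂ x) ∧
      (FlatMod.IsFlatOverAt f S.X₂ x → FlatMod.IsFlatOverAt f S.X₁ x) := by
    intro x
    let _ := FlatMod.moduleStalkOver f S.X₁ x
    let _ := FlatMod.moduleStalkOver f S.X₂ x
    let _ := FlatMod.moduleStalkOver f S.X₃ x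
    have := hS.mono_f
    have := hS.epi_g
    have hinj : Function.Injective (stalkMapOverₗ f S.f x) :=
      (mono_iff_stalkMap_injective S.f).mp inferInstance x
    have hsurj : Function.Surjective (stalkMapOverₗ f S.g x) :=
      (epi_iff_stalkMap_surjective S.g).mp inferInstance x
    have hex : Function.Exact (stalkMapOverₗ f S.f x) (stalkMapOverₗ f S.g x) :=
      (exact_iff_stalk_function_exact S).mp hS.exact x
    have hfl3 : Module.Flat (Y.presheaf.stalk (f.base x)) (S.X₃.presheaf.stalk x) := hflat x
    exact Groth.Agent.S6304.result (stalkMapOverₗ f S.f x) (stalkMapOverₗ f S.g x) hinj hex hsurj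
  exact ⟨fun h x => (key x).2 (h x), fun h x => (key x).1 (h x)⟩

end Groth.Agent.S4654
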