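import Groth.Statements.S4655
import Groth.Agent.Lib.Helper10.PullbackStalk
import Mathlib.AlgebraicGeometry.Morphisms.Flat
import Mathlib.RingTheory.Flat.FaithfullyFlat.Algebra

set_option autoImplicit false
open CategoryTheory AlgebraicGeometry
universe u
open FDesc

namespace Groth.Agent.S4655

section aux
open scoped TensorProduct
open Groth.Agent.Lib.Helper10.PullbackStalk

/-- Flatness of `(f^* G)_x` over `O_{Z, g (f x)}` versus flatness of `G_{f x}`, for `f` flat. -/
theorem isFlatOverAt_pullback_iff {X Y Z : Scheme.{u}} (f : X ⟶ Y) (g : Y ⟶ Z) [Flat f]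
    (G : Y.Modules) [G.IsQuasicoherent] (x : X) :
    FlatMod.IsFlatOverAt (f ≫ g) ((Scheme.Modules.pullback f).obj G) x ↔
      FlatMod.IsFlatOverAt g G (f.base x) := by
  let _ : Algebra (Z.presheaf.stalk ((f ≫ g).base x)) (Y.presheaf.stalk (f.base x)) :=
    (g.stalkMap (f.base x)).hom.toAlgebra
  let _ : Algebra (Y.presheaf.stalk (f.base x)) (X.presheaf.stalk x) :=
    (f.stalkMap x).hom.toAlgebra
  let _ : Algebra (Z.presheaf.stalk ((f ≫ g).base x)) (X.presheaf.stalk x) :=
    ((f ≫ g).stalkMap x).hom.toAlgebra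
  have : IsScalarTower (Z.presheaf.stalk ((f ≫ g).base x)) (Y.presheaf.stalk (f.base x))
      (X.presheaf.stalk x) := by
    refine IsScalarTower.of_algebraMap_eq fun a => ?_
    change ((f ≫ g).stalkMap x).hom a = (f.stalkMap x).hom ((g.stalkMap (f.base x)).hom a)
    rw [Scheme.Hom.stalkMap_comp]
    rfl
  let _ : Module (Z.presheaf.stalk ((f ≫ g).base x)) (G.presheaf.stalk (f.base x)) :=
    FlatMod.moduleStalkOver g G (f.base x)
  have : IsScalarTower (Z.presheaf.stalk ((f ≫ g).base x)) (Y.presheaf.stalk (f.base x))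
      (G.presheaf.stalk (f.base x)) :=
    IsScalarTower.of_algebraMap_smul fun a m => rfl
  let _ : Module (Z.presheaf.stalk ((f ≫ g).base x))
      (((Scheme.Modules.pullback f).obj G).presheaf.stalk x) :=
    FlatMod.moduleStalkOver (f ≫ g) ((Scheme.Modules.pullback f).obj G) x
  have : IsScalarTower (Z.presheaf.stalk ((f ≫ g).base x)) (X.presheaf.stalk x)
      (((Scheme.Modules.pullback f).obj G).presheaf.stalk x) :=
    IsScalarTower.of_algebraMap_smul fun a m => rfl
  obtain ⟨e⟩ := nonempty_stalk_pullback_equiv f G x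
  let e' := e.restrictScalars (Z.presheaf.stalk ((f ≫ g).base x))
  have hfl : Module.Flat (Y.presheaf.stalk (f.base x)) (X.presheaf.stalk x) :=
    Flat.stalkMap f x
  have hloc : IsLocalHom (algebraMap (Y.presheaf.stalk (f.base x)) (X.presheaf.stalk x)) :=
    inferInstanceAs (IsLocalHom (f.stalkMap x).hom)
  have hff : Module.FaithfullyFlat (Y.presheaf.stalk (f.base x)) (X.presheaf.stalk x) :=
    Module.FaithfullyFlat.of_flat_of_isLocalHom
  change Module.Flat (Z.presheaf.stalk ((f ≫ g).base x))
      (((Scheme.Modules.pullback f).obj G).presheaf.stalk x) ↔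
    Module.Flat (Z.presheaf.stalk ((f ≫ g).base x)) (G.presheaf.stalk (f.base x))
  constructor
  · intro h
    have : Module.Flat (Z.presheaf.stalk ((f ≫ g).base x))
        ((X.presheaf.stalk x) ⊗[Y.presheaf.stalk (f.base x)] (G.presheaf.stalk (f.base x))) :=
      Module.Flat.of_linearEquiv e'.symm
    exact flat_of_flat_tensor_of_faithfullyFlat (Z.presheaf.stalk ((f ≫ g).base x))
      (Y.presheaf.stalk (f.base x)) (X.presheaf.stalk x) (G.presheaf.stalk (f.base x))
  · intro h
    have : Module.Flat (Z.presheaf.stalk ((f ≫ g).base x))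
        ((X.presheaf.stalk x) ⊗[Y.presheaf.stalk (f.base x)] (G.presheaf.stalk (f.base x))) :=
      flat_tensor_of_flat (Z.presheaf.stalk ((f ≫ g).base x))
        (Y.presheaf.stalk (f.base x)) (X.presheaf.stalk x) (G.presheaf.stalk (f.base x))
    exact Module.Flat.of_linearEquiv e'

end aux

/-- Let f : X → Y be a faithfully flat morphism (flat and surjective), g : Y → Z a morphism and G a
quasi-coherent O_Y-module. Then G is flat over Z if and only if the inverse image f^*G is flat over
Z with respect to the composite morphism X → Z. -/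
theorem result {X Y Z : Scheme.{u}} (f : X ⟶ Y) (g : Y ⟶ Z) [Flat f] [Surjective f]
    (G : Y.Modules) (hG : Coh.IsQCoh G) :
    FlatMod.IsFlatOver g G ↔ FlatMod.IsFlatOver (f ≫ g) ((Scheme.Modules.pullback f).obj G) := by
  have : G.IsQuasicoherent := hG
  constructor
  · intro h x
    exact (isFlatOverAt_pullback_iff f g G x).mpr (h (f.base x))
  · intro h y
    obtain ⟨x, rfl⟩ := f.surjective y
    exact (isFlatOverAt_pullback_iff f g G x).mp (h x)

end Groth.Agent.S4655
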