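import Groth.Statements.S4656
import Mathlib.RingTheory.Flat.FaithfullyFlat.Algebra
import Mathlib.RingTheory.RingHom.Flat
-- import your own Groth.Agent.* helpers here

set_option autoImplicit false
open CategoryTheory AlgebraicGeometry
universe u
open FDesc

namespace Groth.Agent.S4656


open TensorProduct in
theorem flat_of_faithfullyFlat_comp (R S T : Type*) [CommRing R] [CommRing S] [CommRing T]
    [Algebra R S] [Algebra S T] [Algebra R T] [IsScalarTower R S T]
    [Module.FaithfullyFlat S T] [Module.Flat R T] : Module.Flat R S := by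
  rw [Module.Flat.iff_lTensor_preserves_injective_linearMap]
  intro N P _ _ _ _ f hf
  have h1 : Function.Injective (LinearMap.lTensor T f) :=
    Module.Flat.lTensor_preserves_injective_linearMap f hf
  let g : S ⊗[R] N →ₗ[S] S ⊗[R] P := AlgebraTensorModule.map (LinearMap.id) f
  have hg : (g : S ⊗[R] N → S ⊗[R] P) = LinearMap.lTensor S f := by
    ext x; rfl
  rw [← hg, ← Module.FaithfullyFlat.lTensor_injective_iff_injective S T]
  have : LinearMap.lTensor T g =
      (AlgebraTensorModule.cancelBaseChange R S S T P).symm.toLinearMap ∘ₗ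
        (AlgebraTensorModule.map (A := S) (LinearMap.id (M := T)) f) ∘ₗ
        (AlgebraTensorModule.cancelBaseChange R S S T N).toLinearMap := by
    ext t s
    simp [g]
  rw [this]
  simp only [LinearMap.coe_comp, LinearEquiv.coe_coe, EmbeddingLike.comp_injective,
    EquivLike.injective_comp]
  exact h1

theorem flat_of_comp_flat_local {R S T : Type*} [CommRing R] [CommRing S] [CommRing T]
    [IsLocalRing S] [IsLocalRing T] (φ : R →+* S) (ψ : S →+* T) [IsLocalHom ψ]
    (hψ : ψ.Flat) (h : (ψ.comp φ).Flat) : φ.Flat := by
  algebraize [φ, ψ, ψ.comp φ]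
  have : Module.FaithfullyFlat S T := Module.FaithfullyFlat.of_flat_of_isLocalHom
  exact flat_of_faithfullyFlat_comp R S T

/-- Let f : X → Y and g : Y → Z be morphisms of schemes and x a point of X at which f is flat (the local
ring of X at x is flat over that of Y at f(x)). Then the composite g ∘ f is flat at x if and only if
g is flat at f(x). -/
theorem result {X Y Z : Scheme.{u}} (f : X ⟶ Y) (g : Y ⟶ Z) (x : X)
    (hf : (f.stalkMap x).hom.Flat) :
    ((f ≫ g).stalkMap x).hom.Flat ↔ (g.stalkMap (f x)).hom.Flat := by
  have key : ((f ≫ g).stalkMap x).hom = (f.stalkMap x).hom.comp (g.stalkMap (f x)).hom := by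
    rw [Scheme.Hom.stalkMap_comp]; rfl
  rw [key]
  constructor
  · intro h
    exact flat_of_comp_flat_local _ (f.stalkMap x).hom hf h
  · intro h
    exact h.comp hf

end Groth.Agent.S4656
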