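import Groth.Statements.S4662
import Groth.Agent.Lib.Helper21.ProdDim2
import Groth.Agent.Lib.Helper21.FibDim8
-- import your own Groth.Agent.* helpers here

set_option autoImplicit false
open CategoryTheory AlgebraicGeometry
universe u
open FBase

namespace Groth.Agent.S4662

open CategoryTheory.Limits in
/-- Let X and Y be integral schemes locally of finite type over a field k. Then every irreducible
component of X ×_k Y has dimension dim X + dim Y (Krull dimensions of the underlying spaces, valued
in WithBot ℕ∞). -/
theorem result {k : Type u} [Field k] {X Y : Scheme.{u}}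
    (f : X ⟶ Spec (CommRingCat.of k)) (g : Y ⟶ Spec (CommRingCat.of k)) [IsIntegral X] [IsIntegral Y]
    [LocallyOfFiniteType f] [LocallyOfFiniteType g] (Z : Set ↥(pullback f g))
    (hZ : Z ∈ irreducibleComponents ↥(pullback f g)) :
    topologicalKrullDim ↥Z = topologicalKrullDim ↥X + topologicalKrullDim ↥Y := by
  have hsq : IsPullback (pullback.fst f g) (pullback.snd f g) f g := IsPullback.of_hasPullback f g
  have : Flat g := inferInstance
  have : Flat f := inferInstance
  have : Flat (pullback.fst f g) := inferInstance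
  have : Flat (pullback.snd f g) := inferInstance
  let _ : X.Over (Spec (CommRingCat.of k)) := ⟨f⟩
  let _ : Y.Over (Spec (CommRingCat.of k)) := ⟨g⟩
  let _ : (pullback f g).Over (Spec (CommRingCat.of k)) := ⟨pullback.fst f g ≫ f⟩
  have hlX : LocallyOfFiniteType (X ↘ Spec (CommRingCat.of k)) := ‹LocallyOfFiniteType f›
  have hlY : LocallyOfFiniteType (Y ↘ Spec (CommRingCat.of k)) := ‹LocallyOfFiniteType g›
  have hlP : LocallyOfFiniteType ((pullback f g) ↘ Spec (CommRingCat.of k)) :=
    (inferInstance : LocallyOfFiniteType (pullback.fst f g ≫ f))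
  obtain ⟨ζ, hζ⟩ :=
    Groth.Agent.Lib.Helper21.FibDim.exists_isGenericPoint_of_mem_irreducibleComponents Z hZ
  have hmax : ∀ z : ↥(pullback f g), z ⤳ ζ → z = ζ := fun z h =>
    Groth.Agent.Lib.Helper21.FibDim.eq_of_specializes_isGenericPoint Z hZ ζ z hζ h
  have hZcl : closure ({ζ} : Set ↥(pullback f g)) ∈ irreducibleComponents ↥(pullback f g) := by
    rw [hζ.def]; exact hZ
  have hmaxX := Groth.Agent.Lib.Helper21.FibDim.eq_of_specializes_map_of_flat
    (pullback.fst f g) ζ hmax
  have hmaxY := Groth.Agent.Lib.Helper21.FibDim.eq_of_specializes_map_of_flat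
    (pullback.snd f g) ζ hmax
  have hXcl := Groth.Agent.Lib.Helper21.FibDim.closure_mem_irreducibleComponents_of_maximal
    (pullback.fst f g ζ) hmaxX
  have hYcl := Groth.Agent.Lib.Helper21.FibDim.closure_mem_irreducibleComponents_of_maximal
    (pullback.snd f g ζ) hmaxY
  have h1 := Groth.Agent.Lib.Helper21.BaseChg.topologicalKrullDim_closure_eq_localDim k
    (pullback f g) ζ hZcl
  have h2 := Groth.Agent.Lib.Helper21.BaseChg.topologicalKrullDim_closure_eq_localDim k X
    (pullback.fst f g ζ) hXcl
  have h3 := Groth.Agent.Lib.Helper21.BaseChg.topologicalKrullDim_closure_eq_localDim k Y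
    (pullback.snd f g ζ) hYcl
  have hX : closure ({pullback.fst f g ζ} : Set X) = Set.univ := by
    have := hmaxX (genericPoint X) (genericPoint_specializes _)
    rw [← this]
    exact (genericPoint_spec X).def
  have hY : closure ({pullback.snd f g ζ} : Set Y) = Set.univ := by
    have := hmaxY (genericPoint Y) (genericPoint_specializes _)
    rw [← this]
    exact (genericPoint_spec Y).def
  rw [hX, (Homeomorph.Set.univ X).isHomeomorph.topologicalKrullDim_eq] at h2
  rw [hY, (Homeomorph.Set.univ Y).isHomeomorph.topologicalKrullDim_eq] at h3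
  rw [hζ.def] at h1
  rw [h1, h2, h3]
  exact Groth.Agent.Lib.Helper21.ProdDim.localDim_eq_add k f g _ _ hsq ζ

end Groth.Agent.S4662
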