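import Groth.Statements.S4665
-- import your own Groth.Agent.* helpers here

set_option autoImplicit false
open CategoryTheory AlgebraicGeometry
universe u
open FBase

namespace Groth.Agent.S4665

open AlgebraicGeometry CategoryTheory Limits in
theorem geometrically_descends {P : ObjectProperty Scheme.{u}}
    (hP : ∀ {Z' Z : Scheme.{u}} (q : Z' ⟶ Z), Surjective q → P Z' → P Z)
    {X Y Y' : Scheme.{u}} (f : X ⟶ Y) (g : Y' ⟶ Y) [Surjective g]
    (h : geometrically P (pullback.snd f g)) : geometrically P f := by
  intro K _ y Z fst snd hpb
  obtain ⟨L, _, a, b, hab⟩ : ∃ (L : Type u) (_ : Field L) (a : Spec (.of L) ⟶ Spec (.of K))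
      (b : Spec (.of L) ⟶ Y'), a ≫ y = b ≫ g := by
    obtain ⟨pt⟩ := (inferInstance : Nonempty (Spec (.of K)))
    obtain ⟨y', hy'⟩ := g.surjective (y pt)
    obtain ⟨w, hw1, hw2⟩ :=
      Scheme.Pullback.exists_preimage_pullback (f := y) (g := g) pt y' hy'.symm
    refine ⟨(pullback y g).residueField w, inferInstance,
      (pullback y g).fromSpecResidueField w ≫ pullback.fst y g,
      (pullback y g).fromSpecResidueField w ≫ pullback.snd y g, ?_⟩
    simp [pullback.condition]
  have hsa : Surjective a := ⟨fun x => ⟨Nonempty.some inferInstance, Subsingleton.elim _ _⟩⟩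
  have hZL : P (pullback snd a) := by
    have hw : (pullback.fst snd a ≫ fst) ≫ f = (pullback.snd snd a ≫ b) ≫ g := by
      rw [Category.assoc, hpb.w, ← Category.assoc, pullback.condition, Category.assoc, hab,
        Category.assoc]
    refine h b (pullback.lift (pullback.fst snd a ≫ fst) (pullback.snd snd a ≫ b) hw)
      (pullback.snd snd a) ?_
    refine IsPullback.of_right ?_ (pullback.lift_snd _ _ _) (IsPullback.of_hasPullback f g)
    rw [pullback.lift_fst, ← hab]
    exact (IsPullback.of_hasPullback snd a).paste_horiz hpb
  exact hP (pullback.fst snd a) inferInstance hZL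


open CategoryTheory.Limits in
/-- Let f : X → Y and g : Y' → Y be morphisms of schemes with g surjective, and let f' : X ×_Y Y' → Y'
be the base change of f. Say that a morphism has geometrically connected fibres when, for every
field K and every morphism from Spec K to its target, the base change to Spec K is empty or
connected (so an empty fibre counts as geometrically connected). If f' has geometrically connected
fibres in this sense, then so has f. -/
theorem result {X Y Y' : Scheme.{u}} (f : X ⟶ Y)
    (g : Y' ⟶ Y) [Surjective g]
    (h : geometrically (fun Z : Scheme.{u} => IsEmpty ↥Z ∨ ConnectedSpace ↥Z) (pullback.snd f g)) :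
    geometrically (fun Z : Scheme.{u} => IsEmpty ↥Z ∨ ConnectedSpace ↥Z) f := by
  refine geometrically_descends ?_ f g h
  intro Z' Z q hq hZ'
  have hq' : Function.Surjective q := q.surjective
  rcases hZ' with hZ' | hZ'
  · left
    exact ⟨fun z => by obtain ⟨z', -⟩ := hq' z; exact hZ'.false z'⟩
  · right
    exact hq'.connectedSpace q.continuous

end Groth.Agent.S4665
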