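import Groth.Statements.S4672
import Groth.Agent.Lib.Helper21.ProdDim3
-- import your own Groth.Agent.* helpers here

set_option autoImplicit false
open CategoryTheory AlgebraicGeometry
universe u
open FBase

namespace Groth.Agent.S4672

open CategoryTheory.Limits in
/-- Let X and Y be locally Noetherian schemes over a field k such that X ×_k Y is locally Noetherian,
with projections p and q. Then a subset W of X ×_k Y is an irreducible component of X ×_k Y if and
only if there exist an irreducible component X' of X and an irreducible component Y' of Y such that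
W is a maximal irreducible subset of p⁻¹(X') ∩ q⁻¹(Y') (that is, an irreducible component of the
space underlying X' ×_k Y' for the reduced structures on X' and Y'). -/
theorem result {k : Type u} [Field k] {X Y : Scheme.{u}}
    (f : X ⟶ Spec (CommRingCat.of k)) (g : Y ⟶ Spec (CommRingCat.of k)) [IsLocallyNoetherian X]
    [IsLocallyNoetherian Y] [IsLocallyNoetherian (pullback f g)] (W : Set ↥(pullback f g)) :
    W ∈ irreducibleComponents ↥(pullback f g) ↔
      ∃ X' ∈ irreducibleComponents ↥X, ∃ Y' ∈ irreducibleComponents ↥Y,
        Maximal (fun V : Set ↥(pullback f g) => IsIrreducible V ∧ V ⊆ ⇑(pullback.fst f g) ⁻¹' X' ∩ ⇑(pullback.snd f g) ⁻¹' Y') W := by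
  have hsq : IsPullback (pullback.fst f g) (pullback.snd f g) f g := IsPullback.of_hasPullback f g
  have : Flat g := inferInstance
  have : Flat f := inferInstance
  have : Flat (pullback.fst f g) := inferInstance
  have : Flat (pullback.snd f g) := inferInstance
  constructor
  · intro hW
    obtain ⟨ζ, hζ⟩ :=
      Groth.Agent.Lib.Helper21.FibDim.exists_isGenericPoint_of_mem_irreducibleComponents W hW
    have hmax : ∀ z : ↥(pullback f g), z ⤳ ζ → z = ζ := fun z h =>
      Groth.Agent.Lib.Helper21.FibDim.eq_of_specializes_isGenericPoint W hW ζ z hζ h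
    have hmaxX := Groth.Agent.Lib.Helper21.FibDim.eq_of_specializes_map_of_flat
      (pullback.fst f g) ζ hmax
    have hmaxY := Groth.Agent.Lib.Helper21.FibDim.eq_of_specializes_map_of_flat
      (pullback.snd f g) ζ hmax
    refine ⟨closure {pullback.fst f g ζ},
      Groth.Agent.Lib.Helper21.FibDim.closure_mem_irreducibleComponents_of_maximal _ hmaxX,
      closure {pullback.snd f g ζ},
      Groth.Agent.Lib.Helper21.FibDim.closure_mem_irreducibleComponents_of_maximal _ hmaxY, ?_⟩
    refine ⟨⟨hW.1, ?_⟩, fun V hV hle => hW.2 hV.1 hle⟩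
    intro w hw
    have hsp : ζ ⤳ w := by
      rw [specializes_iff_mem_closure, hζ.def]; exact hw
    exact ⟨specializes_iff_mem_closure.mp (hsp.map (pullback.fst f g).continuous),
      specializes_iff_mem_closure.mp (hsp.map (pullback.snd f g).continuous)⟩
  · rintro ⟨X', hX', Y', hY', ⟨hWirr, hWsub⟩, hWmax⟩
    obtain ⟨ξ', hξ'⟩ :=
      Groth.Agent.Lib.Helper21.FibDim.exists_isGenericPoint_of_mem_irreducibleComponents X' hX'
    obtain ⟨η', hη'⟩ :=
      Groth.Agent.Lib.Helper21.FibDim.exists_isGenericPoint_of_mem_irreducibleComponents Y' hY'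
    have hX'cl : IsClosed X' := isClosed_of_mem_irreducibleComponents X' hX'
    have hY'cl : IsClosed Y' := isClosed_of_mem_irreducibleComponents Y' hY'
    have hCcl : IsClosed (⇑(pullback.fst f g) ⁻¹' X' ∩ ⇑(pullback.snd f g) ⁻¹' Y') :=
      (hX'cl.preimage (pullback.fst f g).continuous).inter
        (hY'cl.preimage (pullback.snd f g).continuous)
    have hWcl : IsClosed W := by
      have h1 : closure W ⊆ W :=
        hWmax ⟨hWirr.closure, closure_minimal hWsub hCcl⟩ subset_closure
      rw [← subset_antisymm h1 subset_closure]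
      exact isClosed_closure
    have hw := hWirr.isGenericPoint_genericPoint hWcl
    set w := hWirr.genericPoint with hwdef
    have hwW : w ∈ W := by rw [← hw.def]; exact subset_closure rfl
    obtain ⟨hwX, hwY⟩ := hWsub hwW
    have hwX' : pullback.fst f g w ∈ X' := hwX
    have hwY' : pullback.snd f g w ∈ Y' := hwY
    -- the generic point of `W` lies over the generic points
    have hpw : pullback.fst f g w = ξ' := by
      have hsp : ξ' ⤳ pullback.fst f g w := by
        rw [specializes_iff_mem_closure, hξ'.def]; exact hwX'
      obtain ⟨w₁, h1, h2, h3⟩ := Groth.Agent.Lib.Helper21.ProdDim.exists_generization_fst f g _ _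
        hsq Y' hY'cl w hwY' ξ' hsp
      have hw₁C : w₁ ∈ ⇑(pullback.fst f g) ⁻¹' X' ∩ ⇑(pullback.snd f g) ⁻¹' Y' := by
        refine ⟨?_, h3⟩
        change pullback.fst f g w₁ ∈ X'
        rw [h2, ← hξ'.def]; exact subset_closure rfl
      have hsub : closure {w₁} ⊆ W := by
        refine hWmax ⟨isIrreducible_singleton.closure, closure_minimal
          (Set.singleton_subset_iff.mpr hw₁C) hCcl⟩ ?_
        rw [← hw.def]
        exact specializes_iff_closure_subset.mp h1
      have hw₁W : w₁ ∈ W := hsub (subset_closure rfl)
      have h4 : w ⤳ w₁ := by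
        rw [specializes_iff_mem_closure, hw.def]; exact hw₁W
      rw [← h2, (h1.antisymm h4).eq]
    have hqw : pullback.snd f g w = η' := by
      have hsp : η' ⤳ pullback.snd f g w := by
        rw [specializes_iff_mem_closure, hη'.def]; exact hwY'
      obtain ⟨w₁, h1, h2, h3⟩ := Groth.Agent.Lib.Helper21.ProdDim.exists_generization_fst g f _ _
        hsq.flip X' hX'cl w hwX' η' hsp
      have hw₁C : w₁ ∈ ⇑(pullback.fst f g) ⁻¹' X' ∩ ⇑(pullback.snd f g) ⁻¹' Y' := by
        refine ⟨h3, ?_⟩
        change pullback.snd f g w₁ ∈ Y'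
        rw [h2, ← hη'.def]; exact subset_closure rfl
      have hsub : closure {w₁} ⊆ W := by
        refine hWmax ⟨isIrreducible_singleton.closure, closure_minimal
          (Set.singleton_subset_iff.mpr hw₁C) hCcl⟩ ?_
        rw [← hw.def]
        exact specializes_iff_closure_subset.mp h1
      have hw₁W : w₁ ∈ W := hsub (subset_closure rfl)
      have h4 : w ⤳ w₁ := by
        rw [specializes_iff_mem_closure, hw.def]; exact hw₁W
      rw [← h2, (h1.antisymm h4).eq]
    refine ⟨hWirr, fun V hV hle => ?_⟩
    have hVcl := hV.closure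
    have hv := hVcl.isGenericPoint_genericPoint isClosed_closure
    set v := hVcl.genericPoint with hvdef
    have hvw : v ⤳ w := by
      rw [specializes_iff_mem_closure, hv.def]
      exact subset_closure (hle hwW)
    have hpv : pullback.fst f g v = ξ' := by
      have h1 := hvw.map (pullback.fst f g).continuous
      rw [hpw] at h1
      exact Groth.Agent.Lib.Helper21.FibDim.eq_of_specializes_isGenericPoint X' hX' ξ' _ hξ' h1
    have hqv : pullback.snd f g v = η' := by
      have h1 := hvw.map (pullback.snd f g).continuous
      rw [hqw] at h1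
      exact Groth.Agent.Lib.Helper21.FibDim.eq_of_specializes_isGenericPoint Y' hY' η' _ hη' h1
    have hvC : v ∈ ⇑(pullback.fst f g) ⁻¹' X' ∩ ⇑(pullback.snd f g) ⁻¹' Y' := by
      refine ⟨?_, ?_⟩
      · change pullback.fst f g v ∈ X'
        rw [hpv, ← hξ'.def]; exact subset_closure rfl
      · change pullback.snd f g v ∈ Y'
        rw [hqv, ← hη'.def]; exact subset_closure rfl
    have hsub : closure V ⊆ W := by
      refine hWmax ⟨hVcl, ?_⟩ (hle.trans subset_closure)
      rw [← hv.def]
      exact closure_minimal (Set.singleton_subset_iff.mpr hvC) hCcl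
    exact subset_closure.trans hsub

end Groth.Agent.S4672
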