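import Groth.Statements.S4673
import Groth.Agent.Lib.Helper21.BaseChg3
-- import your own Groth.Agent.* helpers here

set_option autoImplicit false
open CategoryTheory AlgebraicGeometry
universe u
open FBase

namespace Groth.Agent.S4673

/-- Let X be a scheme locally of finite type over a field k and K an extension field of k. Then the set
of dimensions of the irreducible components of X ⊗_k K is equal to the set of dimensions of the
irreducible components of X (Krull dimensions of the underlying spaces, valued in WithBot ℕ∞). -/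
theorem result {k K : Type u} [Field k] [Field K] [Algebra k K]
    {X : Scheme.{u}} (f : X ⟶ Spec (CommRingCat.of k)) [LocallyOfFiniteType f] :
    (fun Z : Set ↥(FBase.bc f K) => topologicalKrullDim ↥Z) '' irreducibleComponents ↥(FBase.bc f K) =
      (fun Z : Set ↥X => topologicalKrullDim ↥Z) '' irreducibleComponents ↥X := by
  have hpb : IsPullback (FBase.bcπ f K) (FBase.bcStr f K) f
      (Spec.map (CommRingCat.ofHom (algebraMap k K))) := IsPullback.of_hasPullback _ _
  ext d
  constructor
  · rintro ⟨Z', hZ', rfl⟩
    obtain ⟨ξ', hξ'⟩ :=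
      Groth.Agent.Lib.Helper21.FibDim.exists_isGenericPoint_of_mem_irreducibleComponents Z' hZ'
    have hZ'eq : Z' = closure {ξ'} := hξ'.def.symm
    subst hZ'eq
    obtain ⟨h1, h2⟩ :=
      Groth.Agent.Lib.Helper21.BaseChg.closure_map_mem_irreducibleComponents_and_dim_eq k K f _
        _ _ hpb ξ' hZ'
    exact ⟨_, h1, h2.symm⟩
  · rintro ⟨Z, hZ, rfl⟩
    obtain ⟨ξ, hξ⟩ :=
      Groth.Agent.Lib.Helper21.FibDim.exists_isGenericPoint_of_mem_irreducibleComponents Z hZ
    have hZeq : Z = closure {ξ} := hξ.def.symm
    subst hZeq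
    obtain ⟨ξ', -, h1, h2⟩ :=
      Groth.Agent.Lib.Helper21.BaseChg.exists_closure_mem_irreducibleComponents_and_dim_eq k K f _
        _ _ hpb ξ hZ
    exact ⟨_, h1, h2⟩

end Groth.Agent.S4673
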