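import Groth.Statements.S4674
import Mathlib.RingTheory.Flat.Equalizer
import Mathlib.LinearAlgebra.TensorProduct.Pi
-- import your own Groth.Agent.* helpers here

set_option autoImplicit false
open scoped TensorProduct
universe u v w
open FDesc

namespace Groth.Agent.S4674

theorem ann_baseChange {A : Type u} {B : Type v} [CommRing A] [CommRing B] [Algebra A B]
    [Module.Flat A B] (M : Type w) [AddCommGroup M] [Module A M] [Module.Finite A M] :
    Module.annihilator B (B ⊗[A] M) = (Module.annihilator A M).map (algebraMap A B) := by
  classical
  apply le_antisymm
  · obtain ⟨n, s, hs⟩ := Module.Finite.exists_fin (R := A) (M := M)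
    let φ : A →ₗ[A] (Fin n → M) := LinearMap.pi (fun i => LinearMap.toSpanSingleton A M (s i))
    have hker : ∀ a : A, a ∈ LinearMap.ker φ → a ∈ Module.annihilator A M := by
      intro a ha
      rw [Module.mem_annihilator]
      have ha' : ∀ i, a • s i = 0 := by
        intro i
        have := congrFun (LinearMap.mem_ker.mp ha) i
        simpa [φ] using this
      intro m
      have hm : m ∈ Submodule.span A (Set.range s) := by rw [hs]; trivial
      induction hm using Submodule.span_induction with
      | mem x hx => obtain ⟨i, rfl⟩ := hx; exact ha' i
      | zero => simp
      | add x y _ _ hx hy => rw [smul_add, hx, hy, add_zero]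
      | smul r x _ hx => rw [smul_comm, hx, smul_zero]
    intro b hb
    rw [Module.mem_annihilator] at hb
    have h1 : (b ⊗ₜ[A] (1 : A)) ∈ LinearMap.ker (TensorProduct.AlgebraTensorModule.lTensor B B φ) := by
      rw [LinearMap.mem_ker]
      apply (TensorProduct.piRight A B B (fun _ : Fin n => M)).injective
      ext i
      simp only [TensorProduct.AlgebraTensorModule.lTensor_tmul, TensorProduct.piRight_apply,
        TensorProduct.piRightHom_tmul, map_zero, Pi.zero_apply]
      have := hb ((1 : B) ⊗ₜ[A] s i)
      simpa [φ, TensorProduct.smul_tmul'] using this
    rw [Module.Flat.ker_lTensor_eq] at h1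
    obtain ⟨z, hz⟩ := h1
    have key : ∀ z : B ⊗[A] (LinearMap.ker φ),
        TensorProduct.rid A B ((TensorProduct.AlgebraTensorModule.lTensor B B (LinearMap.ker φ).subtype) z) ∈
          (Module.annihilator A M).map (algebraMap A B) := by
      intro z
      induction z using TensorProduct.induction_on with
      | zero => simp
      | tmul b' a =>
        simp only [TensorProduct.AlgebraTensorModule.lTensor_tmul, Submodule.subtype_apply,
          TensorProduct.rid_tmul]
        rw [Algebra.smul_def]
        exact Ideal.mul_mem_right _ _ (Ideal.mem_map_of_mem _ (hker a.1 a.2))
      | add x y hx hy =>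
        simp only [map_add]
        exact Ideal.add_mem _ hx hy
    have := key z
    rw [hz] at this
    simpa using this
  · rw [Ideal.map_le_iff_le_comap]
    intro a ha
    rw [Ideal.mem_comap, Module.mem_annihilator]
    rw [Module.mem_annihilator] at ha
    intro x
    induction x using TensorProduct.induction_on with
    | zero => simp
    | tmul b m =>
      rw [TensorProduct.smul_tmul', Algebra.algebraMap_eq_smul_one, smul_assoc, one_smul,
        TensorProduct.smul_tmul, ha, TensorProduct.tmul_zero]
    | add x y hx hy => rw [smul_add, hx, hy, add_zero]


/-- Let B be a flat A-algebra and M a finitely presented A-module. Then the annihilator of the B-module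
B ⊗_A M is the ideal of B generated by the image of the annihilator of M. -/
theorem result {A : Type u} {B : Type v} [CommRing A] [CommRing B] [Algebra A B]
    [Module.Flat A B] (M : Type w) [AddCommGroup M] [Module A M] [Module.FinitePresentation A M] :
    Module.annihilator B (B ⊗[A] M) = (Module.annihilator A M).map (algebraMap A B) := by
  exact ann_baseChange M

end Groth.Agent.S4674
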