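import Groth.Statements.S4677
import Mathlib
import Groth.Agent.Lib.Helper18.PISep

set_option autoImplicit false
open scoped TensorProduct
universe u
open FBase

namespace Groth.Agent.S4677

open Groth.Agent.Lib.Helper18.PISep

section pi

variable {k : Type u} [Field k] (F K : Type u) [Field F] [Field K] [Algebra k F] [Algebra k K]
  [IsPurelyInseparable k F]

lemma exists_pow_mem_range (x : F ⊗[k] K) :
    ∃ n : ℕ, x ^ (ringExpChar k) ^ n ∈
      (Algebra.TensorProduct.includeRight : K →ₐ[k] F ⊗[k] K).range := by
  haveI : ExpChar k (ringExpChar k) := ringExpChar.expChar k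
  haveI : ExpChar (F ⊗[k] K) (ringExpChar k) :=
    expChar_of_injective_ringHom (algebraMap k (F ⊗[k] K)).injective (ringExpChar k)
  induction x with
  | zero =>
    refine ⟨0, 0, ?_⟩
    simp
  | tmul f a =>
    obtain ⟨n, c, hc⟩ := IsPurelyInseparable.pow_mem k (ringExpChar k) f
    refine ⟨n, c • a ^ (ringExpChar k) ^ n, ?_⟩
    rw [Algebra.TensorProduct.tmul_pow, ← hc]
    change (1 : F) ⊗ₜ[k] (c • a ^ (ringExpChar k) ^ n) = _
    rw [Algebra.algebraMap_eq_smul_one, TensorProduct.smul_tmul]
  | add x y hx hy =>
    obtain ⟨n, hn⟩ := hx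
    obtain ⟨m, hm⟩ := hy
    refine ⟨n + m, ?_⟩
    rw [add_pow_expChar_pow]
    refine add_mem ?_ ?_
    · rw [pow_add, pow_mul]
      exact pow_mem hn _
    · rw [add_comm, pow_add, pow_mul]
      exact pow_mem hm _

lemma maximal_eq_nilradical (m : Ideal (F ⊗[k] K)) (hm : m.IsMaximal) :
    m = nilradical (F ⊗[k] K) := by
  apply le_antisymm
  · intro x hx
    obtain ⟨n, a, ha⟩ := exists_pow_mem_range F K x
    rw [mem_nilradical]
    refine ⟨(ringExpChar k) ^ n, ?_⟩
    by_cases h0 : a = 0
    · rw [← ha, h0, map_zero]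
    · exfalso
      have hu : IsUnit ((Algebra.TensorProduct.includeRight : K →ₐ[k] F ⊗[k] K) a) :=
        (IsUnit.mk0 a h0).map _
      have hmem : (Algebra.TensorProduct.includeRight : K →ₐ[k] F ⊗[k] K) a ∈ m := by
        have := m.pow_mem_of_mem hx ((ringExpChar k) ^ n) (pow_pos (expChar_pos k (ringExpChar k)) n)
        rwa [← ha] at this
      exact hm.ne_top (Ideal.eq_top_of_isUnit_mem _ hmem hu)
  · exact nilradical_le_prime m

end pi

theorem main {k K : Type u} [Field k] [Field K] [Algebra k K]
    [Algebra.EssFiniteType k K] :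
    ∃ (k' : Type u) (_ : Field k') (_ : Algebra k k'), FiniteDimensional k k' ∧ IsPurelyInseparable k k' ∧
      ∀ (m : Ideal (k' ⊗[k] K)), m.IsMaximal → Algebra.IsGeometricallyReduced k' ((k' ⊗[k] K) ⧸ m) := by
  classical
  let L := AlgebraicClosure k
  let P : IntermediateField k L := perfectClosure k L
  haveI : PerfectField P := perfectClosure.perfectField k L
  haveI : IsNoetherianRing (P ⊗[k] K) := Algebra.EssFiniteType.isNoetherianRing P (P ⊗[k] K)
  obtain ⟨G, hG⟩ : (nilradical (P ⊗[k] K)).FG := IsNoetherian.noetherian _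
  obtain ⟨F, hFfin, hFG⟩ := exists_finite_intermediateField_finset (k := k) (L := P) (R := K) G
  haveI : Algebra.IsAlgebraic F P := Algebra.IsAlgebraic.tower_top (K := k) F
  haveI : IsPurelyInseparable k F := IsPurelyInseparable.tower_bot k F P
  refine ⟨F, inferInstance, inferInstance, hFfin, inferInstance, ?_⟩
  intro m hm
  have h := geomReduced_of_span k K F P G hG hFG
  rw [maximal_eq_nilradical F K m hm]
  exact h


/-- Let K be a finitely generated extension field of a field k. Then there exists a finite purely
inseparable extension k' of k such that, for every maximal ideal m of the ring k' ⊗_k K, the residue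
field (k' ⊗_k K)/m is geometrically reduced over k' (a separable, not necessarily algebraic,
extension of k'). -/
theorem result {k K : Type u} [Field k] [Field K] [Algebra k K]
    [Algebra.EssFiniteType k K] :
    ∃ (k' : Type u) (_ : Field k') (_ : Algebra k k'), FiniteDimensional k k' ∧ IsPurelyInseparable k k' ∧
      ∀ (m : Ideal (k' ⊗[k] K)), m.IsMaximal → Algebra.IsGeometricallyReduced k' ((k' ⊗[k] K) ⧸ m) := by
  exact main

end Groth.Agent.S4677
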