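import Groth.Statements.S4678
import Groth.Agent.Lib.Helper10.FibreProductStalk

set_option autoImplicit false
open CategoryTheory AlgebraicGeometry
universe u
open FDesc

namespace Groth.Agent.S4678

open CategoryTheory.Limits in
/-- Let f : X → Y, g : Y' → Y and h : Y' → Z be morphisms of schemes, X' = X ×_Y Y' with projections p :
X' → X and q : X' → Y', and x' a point of X'. Let F be a quasi-coherent O_X-module which is flat
over Y at p(x') and G' a quasi-coherent O_{Y'}-module which is flat over Z at q(x'). Then the
O_{X'}-module p^*F ⊗ q^*G' is flat over Z at x', for the structure morphism q followed by h. -/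
theorem result {X Y Y' Z : Scheme.{u}} (f : X ⟶ Y) (g : Y' ⟶ Y) (h : Y' ⟶ Z)
    (F : X.Modules) (hF : Coh.IsQCoh F) (G' : Y'.Modules) (hG' : Coh.IsQCoh G') (x' : ↥(pullback f g))
    (hFx : FlatMod.IsFlatOverAt f F (pullback.fst f g x')) (hGy : FlatMod.IsFlatOverAt h G' (pullback.snd f g x')) :
    FlatMod.IsFlatOverAt (pullback.snd f g ≫ h) (CohB1.tensorMod ((Scheme.Modules.pullback (pullback.fst f g)).obj F) ((Scheme.Modules.pullback (pullback.snd f g)).obj G')) x' := by
  open scoped TensorProduct in
  open Groth.Agent.Lib.Helper10.PullbackStalk Groth.Agent.Lib.Helper10.FibreProductStalk in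
  have : F.IsQuasicoherent := hF
  have : G'.IsQuasicoherent := hG'
  have hc : IsPullback (CategoryTheory.Limits.pullback.fst f g)
      (CategoryTheory.Limits.pullback.snd f g) f g := IsPullback.of_hasPullback f g
  generalize hp : CategoryTheory.Limits.pullback.fst f g = p at *
  generalize hq : CategoryTheory.Limits.pullback.snd f g = q at *
  -- rings
  let _ : Algebra (Z.presheaf.stalk ((q ≫ h).base x')) (Y'.presheaf.stalk (q.base x')) :=
    (h.stalkMap (q.base x')).hom.toAlgebra
  let _ : Algebra (Y'.presheaf.stalk (q.base x')) ((pullback f g).presheaf.stalk x') :=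
    (q.stalkMap x').hom.toAlgebra
  let _ : Algebra (Z.presheaf.stalk ((q ≫ h).base x')) ((pullback f g).presheaf.stalk x') :=
    ((q ≫ h).stalkMap x').hom.toAlgebra
  have : IsScalarTower (Z.presheaf.stalk ((q ≫ h).base x')) (Y'.presheaf.stalk (q.base x'))
      ((pullback f g).presheaf.stalk x') := by
    refine IsScalarTower.of_algebraMap_eq fun a => ?_
    change ((q ≫ h).stalkMap x').hom a = (q.stalkMap x').hom ((h.stalkMap (q.base x')).hom a)
    rw [Scheme.Hom.stalkMap_comp]
    rfl
  -- P = (p^*F)_{x'}
  let _ : Module (Y'.presheaf.stalk (q.base x'))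
      (((Scheme.Modules.pullback p).obj F).presheaf.stalk x') :=
    FlatMod.moduleStalkOver q ((Scheme.Modules.pullback p).obj F) x'
  have : IsScalarTower (Y'.presheaf.stalk (q.base x')) ((pullback f g).presheaf.stalk x')
      (((Scheme.Modules.pullback p).obj F).presheaf.stalk x') :=
    IsScalarTower.of_algebraMap_smul fun a m => rfl
  let _ : Module (Z.presheaf.stalk ((q ≫ h).base x'))
      (((Scheme.Modules.pullback p).obj F).presheaf.stalk x') :=
    FlatMod.moduleStalkOver (q ≫ h) ((Scheme.Modules.pullback p).obj F) x'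
  have : IsScalarTower (Z.presheaf.stalk ((q ≫ h).base x')) ((pullback f g).presheaf.stalk x')
      (((Scheme.Modules.pullback p).obj F).presheaf.stalk x') :=
    IsScalarTower.of_algebraMap_smul fun a m => rfl
  have : IsScalarTower (Z.presheaf.stalk ((q ≫ h).base x')) (Y'.presheaf.stalk (q.base x'))
      (((Scheme.Modules.pullback p).obj F).presheaf.stalk x') := by
    refine IsScalarTower.of_algebraMap_smul fun a m => ?_
    change (q.stalkMap x').hom ((h.stalkMap (q.base x')).hom a) • m = ((q ≫ h).stalkMap x').hom a • m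
    rw [Scheme.Hom.stalkMap_comp]
    rfl
  -- G = G'_{q x'}
  let _ : Module (Z.presheaf.stalk ((q ≫ h).base x')) (G'.presheaf.stalk (q.base x')) :=
    FlatMod.moduleStalkOver h G' (q.base x')
  have : IsScalarTower (Z.presheaf.stalk ((q ≫ h).base x')) (Y'.presheaf.stalk (q.base x'))
      (G'.presheaf.stalk (q.base x')) := IsScalarTower.of_algebraMap_smul fun a m => rfl
  -- T
  let _ : Module (Z.presheaf.stalk ((q ≫ h).base x'))
      ((CohB1.tensorMod ((Scheme.Modules.pullback p).obj F)
        ((Scheme.Modules.pullback q).obj G')).presheaf.stalk x') :=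
    FlatMod.moduleStalkOver (q ≫ h) _ x'
  have : IsScalarTower (Z.presheaf.stalk ((q ≫ h).base x')) ((pullback f g).presheaf.stalk x')
      ((CohB1.tensorMod ((Scheme.Modules.pullback p).obj F)
        ((Scheme.Modules.pullback q).obj G')).presheaf.stalk x') :=
    IsScalarTower.of_algebraMap_smul fun a m => rfl
  have hP : Module.Flat (Y'.presheaf.stalk (q.base x'))
      (((Scheme.Modules.pullback p).obj F).presheaf.stalk x') :=
    isFlatOverAt_baseChange x' F hc hFx
  have hG : Module.Flat (Z.presheaf.stalk ((q ≫ h).base x')) (G'.presheaf.stalk (q.base x')) := hGy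
  have hfl : Module.Flat (Z.presheaf.stalk ((q ≫ h).base x'))
      ((((Scheme.Modules.pullback p).obj F).presheaf.stalk x') ⊗[Y'.presheaf.stalk (q.base x')]
        (G'.presheaf.stalk (q.base x'))) :=
    flat_tensor_of_flat' _ _ _ _
  obtain ⟨eQ⟩ := nonempty_stalk_pullback_equiv q G' x'
  obtain ⟨eT⟩ := nonempty_stalk_tensorMod_equiv ((Scheme.Modules.pullback p).obj F)
    ((Scheme.Modules.pullback q).obj G') x'
  let e := eT ≪≫ₗ
    TensorProduct.AlgebraTensorModule.congr (LinearEquiv.refl ((pullback f g).presheaf.stalk x')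
      (((Scheme.Modules.pullback p).obj F).presheaf.stalk x')) eQ ≪≫ₗ
    TensorProduct.AlgebraTensorModule.cancelBaseChange (Y'.presheaf.stalk (q.base x'))
      ((pullback f g).presheaf.stalk x') ((pullback f g).presheaf.stalk x')
      (((Scheme.Modules.pullback p).obj F).presheaf.stalk x') (G'.presheaf.stalk (q.base x'))
  exact Module.Flat.of_linearEquiv (e.restrictScalars (Z.presheaf.stalk ((q ≫ h).base x')))

end Groth.Agent.S4678
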