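import Groth.Statements.S4679
import Mathlib
import Groth.Agent.Lib.Helper10.FibreNonvanish2
import Groth.Agent.Lib.Helper10.FibreNonvanish3
import Groth.Agent.S4678
import Groth.Agent.S4680

set_option autoImplicit false
open CategoryTheory AlgebraicGeometry
universe u
open FDesc

namespace Groth.Agent.S4679

open scoped TensorProduct in
open Groth.Agent.Lib.Helper10.PullbackStalk Groth.Agent.Lib.Helper10.FibreNonvanish in
theorem key {W X Y' Z : Scheme.{u}} (p : W ⟶ X) (q : W ⟶ Y') (h : Y' ⟶ Z)
    (F : X.Modules) [F.IsQuasicoherent] (G' : Y'.Modules) [G'.IsQuasicoherent] (x' : W)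
    (hPfl : FlatMod.IsFlatOverAt q ((Scheme.Modules.pullback p).obj F) x') :
    ((letI := FlatMod.moduleStalkOver (q ≫ h) (CohB1.tensorMod ((Scheme.Modules.pullback p).obj F)
        ((Scheme.Modules.pullback q).obj G')) x'
      IsLocalRing.maximalIdeal (Z.presheaf.stalk ((q ≫ h).base x')) •
        (⊤ : Submodule (Z.presheaf.stalk ((q ≫ h).base x')) ((CohB1.tensorMod
          ((Scheme.Modules.pullback p).obj F)
          ((Scheme.Modules.pullback q).obj G')).presheaf.stalk x')) ≠ ⊤) →
     (letI := FlatMod.moduleStalkOver h G' (q.base x')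
      IsLocalRing.maximalIdeal (Z.presheaf.stalk (h.base (q.base x'))) •
        (⊤ : Submodule (Z.presheaf.stalk (h.base (q.base x'))) (G'.presheaf.stalk (q.base x'))) ≠ ⊤)) ∧
    ((letI := FlatMod.moduleStalkOver q ((Scheme.Modules.pullback p).obj F) x'
      IsLocalRing.maximalIdeal (Y'.presheaf.stalk (q.base x')) •
        (⊤ : Submodule (Y'.presheaf.stalk (q.base x'))
          (((Scheme.Modules.pullback p).obj F).presheaf.stalk x')) ≠ ⊤) →
      (FlatMod.IsFlatOverAt (q ≫ h) (CohB1.tensorMod ((Scheme.Modules.pullback p).obj F)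
        ((Scheme.Modules.pullback q).obj G')) x' → FlatMod.IsFlatOverAt h G' (q.base x')) ∧
      ((letI := FlatMod.moduleStalkOver h G' (q.base x')
        IsLocalRing.maximalIdeal (Z.presheaf.stalk (h.base (q.base x'))) •
          (⊤ : Submodule (Z.presheaf.stalk (h.base (q.base x'))) (G'.presheaf.stalk (q.base x'))) ≠ ⊤) →
       (letI := FlatMod.moduleStalkOver (q ≫ h) (CohB1.tensorMod ((Scheme.Modules.pullback p).obj F)
          ((Scheme.Modules.pullback q).obj G')) x'
        IsLocalRing.maximalIdeal (Z.presheaf.stalk ((q ≫ h).base x')) •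
          (⊤ : Submodule (Z.presheaf.stalk ((q ≫ h).base x')) ((CohB1.tensorMod
            ((Scheme.Modules.pullback p).obj F)
            ((Scheme.Modules.pullback q).obj G')).presheaf.stalk x')) ≠ ⊤))) := by
  -- rings
  let _ : Algebra (Z.presheaf.stalk ((q ≫ h).base x')) (Y'.presheaf.stalk (q.base x')) :=
    (h.stalkMap (q.base x')).hom.toAlgebra
  let _ : Algebra (Y'.presheaf.stalk (q.base x')) (W.presheaf.stalk x') :=
    (q.stalkMap x').hom.toAlgebra
  let _ : Algebra (Z.presheaf.stalk ((q ≫ h).base x')) (W.presheaf.stalk x') :=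
    ((q ≫ h).stalkMap x').hom.toAlgebra
  have : IsScalarTower (Z.presheaf.stalk ((q ≫ h).base x')) (Y'.presheaf.stalk (q.base x'))
      (W.presheaf.stalk x') := by
    refine IsScalarTower.of_algebraMap_eq fun a => ?_
    change ((q ≫ h).stalkMap x').hom a = (q.stalkMap x').hom ((h.stalkMap (q.base x')).hom a)
    rw [Scheme.Hom.stalkMap_comp]
    rfl
  -- P = (p^*F)_{x'}
  let _ : Module (Y'.presheaf.stalk (q.base x'))
      (((Scheme.Modules.pullback p).obj F).presheaf.stalk x') :=
    FlatMod.moduleStalkOver q ((Scheme.Modules.pullback p).obj F) x'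
  have : IsScalarTower (Y'.presheaf.stalk (q.base x')) (W.presheaf.stalk x')
      (((Scheme.Modules.pullback p).obj F).presheaf.stalk x') :=
    IsScalarTower.of_algebraMap_smul fun a m => rfl
  let _ : Module (Z.presheaf.stalk ((q ≫ h).base x'))
      (((Scheme.Modules.pullback p).obj F).presheaf.stalk x') :=
    FlatMod.moduleStalkOver (q ≫ h) ((Scheme.Modules.pullback p).obj F) x'
  have : IsScalarTower (Z.presheaf.stalk ((q ≫ h).base x')) (W.presheaf.stalk x')
      (((Scheme.Modules.pullback p).obj F).presheaf.stalk x') :=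
    IsScalarTower.of_algebraMap_smul fun a m => rfl
  have : IsScalarTower (Z.presheaf.stalk ((q ≫ h).base x')) (Y'.presheaf.stalk (q.base x'))
      (((Scheme.Modules.pullback p).obj F).presheaf.stalk x') := by
    refine IsScalarTower.of_algebraMap_smul fun a m => ?_
    change (q.stalkMap x').hom ((h.stalkMap (q.base x')).hom a) • m = ((q ≫ h).stalkMap x').hom a • m
    rw [Scheme.Hom.stalkMap_comp]
    rfl
  -- G = G'_{q x'}
  let _ : Module (Z.presheaf.stalk ((q ≫ h).base x')) (G'.presheaf.stalk (q.base x')) :=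
    FlatMod.moduleStalkOver h G' (q.base x')
  have : IsScalarTower (Z.presheaf.stalk ((q ≫ h).base x')) (Y'.presheaf.stalk (q.base x'))
      (G'.presheaf.stalk (q.base x')) := IsScalarTower.of_algebraMap_smul fun a m => rfl
  -- T
  let _ : Module (Z.presheaf.stalk ((q ≫ h).base x'))
      ((CohB1.tensorMod ((Scheme.Modules.pullback p).obj F)
        ((Scheme.Modules.pullback q).obj G')).presheaf.stalk x') :=
    FlatMod.moduleStalkOver (q ≫ h) _ x'
  have : IsScalarTower (Z.presheaf.stalk ((q ≫ h).base x')) (W.presheaf.stalk x')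
      ((CohB1.tensorMod ((Scheme.Modules.pullback p).obj F)
        ((Scheme.Modules.pullback q).obj G')).presheaf.stalk x') :=
    IsScalarTower.of_algebraMap_smul fun a m => rfl
  have hP : Module.Flat (Y'.presheaf.stalk (q.base x'))
      (((Scheme.Modules.pullback p).obj F).presheaf.stalk x') := hPfl
  obtain ⟨eQ⟩ := nonempty_stalk_pullback_equiv q G' x'
  obtain ⟨eT⟩ := nonempty_stalk_tensorMod_equiv ((Scheme.Modules.pullback p).obj F)
    ((Scheme.Modules.pullback q).obj G') x'
  let e := eT ≪≫ₗ
    TensorProduct.AlgebraTensorModule.congr (LinearEquiv.refl (W.presheaf.stalk x')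
      (((Scheme.Modules.pullback p).obj F).presheaf.stalk x')) eQ ≪≫ₗ
    TensorProduct.AlgebraTensorModule.cancelBaseChange (Y'.presheaf.stalk (q.base x'))
      (W.presheaf.stalk x') (W.presheaf.stalk x')
      (((Scheme.Modules.pullback p).obj F).presheaf.stalk x') (G'.presheaf.stalk (q.base x'))
  let eC := e.restrictScalars (Z.presheaf.stalk ((q ≫ h).base x'))
  refine ⟨?_, ?_⟩
  · intro hT hGtop
    apply hT
    have hGtop2 : IsLocalRing.maximalIdeal (Z.presheaf.stalk ((q ≫ h).base x')) •
        (⊤ : Submodule (Z.presheaf.stalk ((q ≫ h).base x')) (G'.presheaf.stalk (q.base x'))) = ⊤ :=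
      hGtop
    exact smul_top_eq_top_of_linearEquiv
      (IsLocalRing.maximalIdeal (Z.presheaf.stalk ((q ≫ h).base x'))) eC.symm
      (smul_top_eq_top_tensor (Z.presheaf.stalk ((q ≫ h).base x')) (Y'.presheaf.stalk (q.base x'))
        (((Scheme.Modules.pullback p).obj F).presheaf.stalk x') (G'.presheaf.stalk (q.base x'))
        (IsLocalRing.maximalIdeal (Z.presheaf.stalk ((q ≫ h).base x'))) hGtop2)
  · intro hne
    haveI : Module.FaithfullyFlat (Y'.presheaf.stalk (q.base x'))
        (((Scheme.Modules.pullback p).obj F).presheaf.stalk x') :=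
      { toFlat := hP
        submodule_ne_top := fun m hm => by
          rw [IsLocalRing.eq_maximalIdeal hm]
          exact hne }
    refine ⟨?_, ?_⟩
    · intro hTfl
      have hTfl' : Module.Flat (Z.presheaf.stalk ((q ≫ h).base x'))
        ((CohB1.tensorMod ((Scheme.Modules.pullback p).obj F)
          ((Scheme.Modules.pullback q).obj G')).presheaf.stalk x') := hTfl
      haveI : Module.Flat (Z.presheaf.stalk ((q ≫ h).base x'))
          ((((Scheme.Modules.pullback p).obj F).presheaf.stalk x') ⊗[Y'.presheaf.stalk (q.base x')]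
            (G'.presheaf.stalk (q.base x'))) := Module.Flat.of_linearEquiv eC.symm
      exact flat_of_flat_tensor_of_faithfullyFlat' (Z.presheaf.stalk ((q ≫ h).base x'))
        (Y'.presheaf.stalk (q.base x'))
        (((Scheme.Modules.pullback p).obj F).presheaf.stalk x') (G'.presheaf.stalk (q.base x'))
    · intro hG hTtop
      have hG2 : IsLocalRing.maximalIdeal (Z.presheaf.stalk ((q ≫ h).base x')) •
          (⊤ : Submodule (Z.presheaf.stalk ((q ≫ h).base x')) (G'.presheaf.stalk (q.base x'))) ≠ ⊤ :=
        hG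
      exact smul_top_ne_top_tensor (Z.presheaf.stalk ((q ≫ h).base x'))
        (Y'.presheaf.stalk (q.base x'))
        (((Scheme.Modules.pullback p).obj F).presheaf.stalk x') (G'.presheaf.stalk (q.base x'))
        (IsLocalRing.maximalIdeal (Z.presheaf.stalk ((q ≫ h).base x'))) hG2
        (smul_top_eq_top_of_linearEquiv
          (IsLocalRing.maximalIdeal (Z.presheaf.stalk ((q ≫ h).base x'))) eC hTtop)

open CategoryTheory.Limits in
/-- Let f : X → Y, g : Y' → Y and h : Y' → Z be morphisms of schemes and X' = X ×_Y Y' with projections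
p : X' → X, q : X' → Y'. Call a quasi-coherent module M on a scheme T faithfully flat relative to a
morphism t : T → B when M is flat over B and for every point b of B there is a point u of T over b
with M_u ⊗ κ(b) ≠ 0. Let F be a quasi-coherent O_X-module which is faithfully flat relative to Y and
G' a quasi-coherent O_{Y'}-module. Then G' is flat over Z if and only if p^*F ⊗ q^*G' is flat over Z
(for q followed by h); and G' is faithfully flat relative to Z if and only if p^*F ⊗ q^*G' is
faithfully flat relative to Z. -/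
theorem result {X Y Y' Z : Scheme.{u}} (f : X ⟶ Y) (g : Y' ⟶ Y)
    (h : Y' ⟶ Z) (F : X.Modules) (hF : Coh.IsQCoh F) (hFfl : FlatMod.IsFlatOver f F)
    (hFff : ∀ y : ↥Y, ∃ x : ↥X, f x = y ∧
      letI := FlatMod.moduleStalkOver f F x
      IsLocalRing.maximalIdeal (Y.presheaf.stalk (f x)) • (⊤ : Submodule (Y.presheaf.stalk (f x)) (F.presheaf.stalk x)) ≠ ⊤)
    (G' : Y'.Modules) (hG' : Coh.IsQCoh G') :
    (FlatMod.IsFlatOver h G' ↔ FlatMod.IsFlatOver (pullback.snd f g ≫ h) (CohB1.tensorMod ((Scheme.Modules.pullback (pullback.fst f g)).obj F) ((Scheme.Modules.pullback (pullback.snd f g)).obj G'))) ∧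
    ((FlatMod.IsFlatOver h G' ∧ ∀ z : ↥Z, ∃ y' : ↥Y', h y' = z ∧
        letI := FlatMod.moduleStalkOver h G' y'
        IsLocalRing.maximalIdeal (Z.presheaf.stalk (h y')) • (⊤ : Submodule (Z.presheaf.stalk (h y')) (G'.presheaf.stalk y')) ≠ ⊤) ↔
      (FlatMod.IsFlatOver (pullback.snd f g ≫ h) (CohB1.tensorMod ((Scheme.Modules.pullback (pullback.fst f g)).obj F) ((Scheme.Modules.pullback (pullback.snd f g)).obj G')) ∧
        ∀ z : ↥Z, ∃ x' : ↥(pullback f g), (pullback.snd f g ≫ h) x' = z ∧
          letI := FlatMod.moduleStalkOver (pullback.snd f g ≫ h) (CohB1.tensorMod ((Scheme.Modules.pullback (pullback.fst f g)).obj F) ((Scheme.Modules.pullback (pullback.snd f g)).obj G')) x'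
          IsLocalRing.maximalIdeal (Z.presheaf.stalk ((pullback.snd f g ≫ h) x')) •
            (⊤ : Submodule (Z.presheaf.stalk ((pullback.snd f g ≫ h) x')) ((CohB1.tensorMod ((Scheme.Modules.pullback (pullback.fst f g)).obj F) ((Scheme.Modules.pullback (pullback.snd f g)).obj G')).presheaf.stalk x')) ≠ ⊤)) := by
  have : F.IsQuasicoherent := hF
  have : G'.IsQuasicoherent := hG'
  have hc : CategoryTheory.IsPullback (CategoryTheory.Limits.pullback.fst f g)
      (CategoryTheory.Limits.pullback.snd f g) f g := CategoryTheory.IsPullback.of_hasPullback f g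
  have hPfl : ∀ x', FlatMod.IsFlatOverAt (CategoryTheory.Limits.pullback.snd f g)
      ((AlgebraicGeometry.Scheme.Modules.pullback (CategoryTheory.Limits.pullback.fst f g)).obj F) x' :=
    fun x' => Groth.Agent.Lib.Helper10.FibreProductStalk.isFlatOverAt_baseChange x' F hc (hFfl _)
  have hex := (Groth.Agent.S4680.result f g F hF hFfl hFff).2
  have part1 : FlatMod.IsFlatOver h G' ↔ FlatMod.IsFlatOver
      (CategoryTheory.Limits.pullback.snd f g ≫ h)
      (CohB1.tensorMod ((AlgebraicGeometry.Scheme.Modules.pullback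
        (CategoryTheory.Limits.pullback.fst f g)).obj F)
        ((AlgebraicGeometry.Scheme.Modules.pullback
          (CategoryTheory.Limits.pullback.snd f g)).obj G')) := by
    constructor
    · intro hG x'
      exact Groth.Agent.S4678.result f g h F hF G' hG' x' (hFfl _) (hG _)
    · intro hT y'
      obtain ⟨x', rfl, hne⟩ := hex y'
      exact ((key _ _ h F G' x' (hPfl x')).2 hne).1 (hT x')
  refine ⟨part1, ?_⟩
  constructor
  · rintro ⟨hG, hz⟩
    refine ⟨part1.mp hG, fun z => ?_⟩
    obtain ⟨y', rfl, hGne⟩ := hz z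
    obtain ⟨x', rfl, hne⟩ := hex y'
    exact ⟨x', rfl, ((key _ _ h F G' x' (hPfl x')).2 hne).2 hGne⟩
  · rintro ⟨hT, hz⟩
    refine ⟨part1.mpr hT, fun z => ?_⟩
    obtain ⟨x', rfl, hTne⟩ := hz z
    exact ⟨(CategoryTheory.Limits.pullback.snd f g) x', rfl,
      (key _ _ h F G' x' (hPfl x')).1 hTne⟩

end Groth.Agent.S4679
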