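import Groth.Statements.S4681
import Mathlib.RingTheory.Flat.FaithfullyFlat.Basic
import Mathlib.RingTheory.Flat.Tensor
import Mathlib.AlgebraicGeometry.Morphisms.Flat

set_option autoImplicit false
open CategoryTheory AlgebraicGeometry
universe u
open FDesc

namespace Groth.Agent.S4681

section aux
open TensorProduct

/-- If `N` is a faithfully flat `B`-module which is flat over `A`, then `B` is flat over `A`. -/
theorem flat_of_flat_of_faithfullyFlat_module (A B N : Type*) [CommRing A] [CommRing B]
    [Algebra A B] [AddCommGroup N] [Module A N] [Module B N] [IsScalarTower A B N]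
    [Module.FaithfullyFlat B N] [Module.Flat A N] : Module.Flat A B := by
  rw [Module.Flat.iff_lTensor_injective']
  intro I
  let ψ : B ⊗[A] I →ₗ[B] B ⊗[A] A := (I.subtype).baseChange B
  change Function.Injective ψ
  rw [← Module.FaithfullyFlat.lTensor_injective_iff_injective B N]
  let e1 := TensorProduct.AlgebraTensorModule.cancelBaseChange A B B N I
  let e2 := TensorProduct.AlgebraTensorModule.cancelBaseChange A B B N A
  have hcomm : ∀ t, e2 (LinearMap.lTensor N ψ t) = LinearMap.lTensor N I.subtype (e1 t) := by
    intro t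
    induction t using TensorProduct.induction_on with
    | zero => simp
    | add a b ha hb => simp only [map_add, ha, hb]
    | tmul n s =>
      induction s using TensorProduct.induction_on with
      | zero => simp
      | add a b ha hb => simp only [tmul_add, map_add, ha, hb]
      | tmul b i =>
        simp [ψ, e1, e2]
  have hinj : Function.Injective (LinearMap.lTensor N I.subtype) :=
    Module.Flat.lTensor_preserves_injective_linearMap _ Subtype.val_injective
  intro a b hab
  apply e1.injective
  apply hinj
  rw [← hcomm, ← hcomm, hab]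


/-- The stalk `F_x` over the local rings of `Z` and `Y`: the scalar tower. -/
theorem isScalarTower_stalk {X Y Z : Scheme.{u}} (f : X ⟶ Y) (g : Y ⟶ Z) (F : X.Modules) (x : X) :
    letI := FlatMod.moduleStalkOver f F x
    letI := FlatMod.moduleStalkOver (f ≫ g) F x
    letI : Algebra (Z.presheaf.stalk ((f ≫ g).base x)) (Y.presheaf.stalk (f.base x)) :=
      (g.stalkMap (f.base x)).hom.toAlgebra
    IsScalarTower (Z.presheaf.stalk ((f ≫ g).base x)) (Y.presheaf.stalk (f.base x))
      (F.presheaf.stalk x) := by
  let _ := FlatMod.moduleStalkOver f F x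
  let _ := FlatMod.moduleStalkOver (f ≫ g) F x
  let _ : Algebra (Z.presheaf.stalk ((f ≫ g).base x)) (Y.presheaf.stalk (f.base x)) :=
    (g.stalkMap (f.base x)).hom.toAlgebra
  refine IsScalarTower.of_algebraMap_smul fun a n => ?_
  change (f.stalkMap x).hom ((g.stalkMap (f.base x)).hom a) • n = ((f ≫ g).stalkMap x).hom a • n
  rw [Scheme.Hom.stalkMap_comp]
  rfl

end aux

/-- Let f : X → Y and g : Y → Z be morphisms of schemes and F a quasi-coherent O_X-module which is
faithfully flat relative to Y: flat over Y, and for every point y of Y there is a point x over y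
with F_x ⊗ κ(y) ≠ 0. Then g is flat and surjective (faithfully flat) if and only if F is faithfully
flat relative to Z for the morphism f followed by g: flat over Z, and for every point z of Z there
is a point x of X over z with F_x ⊗ κ(z) ≠ 0. -/
theorem result {X Y Z : Scheme.{u}} (f : X ⟶ Y) (g : Y ⟶ Z)
    (F : X.Modules) (hF : Coh.IsQCoh F) (hFfl : FlatMod.IsFlatOver f F)
    (hFff : (∀ y : ↥Y, ∃ x : ↥X, f x = y ∧
      letI := FlatMod.moduleStalkOver f F x
      IsLocalRing.maximalIdeal (Y.presheaf.stalk (f x)) • (⊤ : Submodule (Y.presheaf.stalk (f x)) (F.presheaf.stalk x)) ≠ ⊤)) :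
    (Flat g ∧ Surjective g) ↔
      (FlatMod.IsFlatOver (f ≫ g) F ∧
        (∀ z : ↥Z, ∃ x : ↥X, (f ≫ g) x = z ∧
      letI := FlatMod.moduleStalkOver (f ≫ g) F x
      IsLocalRing.maximalIdeal (Z.presheaf.stalk ((f ≫ g) x)) • (⊤ : Submodule (Z.presheaf.stalk ((f ≫ g) x)) (F.presheaf.stalk x)) ≠ ⊤)) := by
  constructor
  · rintro ⟨hgfl, hgs⟩
    refine ⟨fun x => ?_, fun z => ?_⟩
    · let _ := FlatMod.moduleStalkOver f F x
      let _ := FlatMod.moduleStalkOver (f ≫ g) F x
      let _ : Algebra (Z.presheaf.stalk ((f ≫ g).base x)) (Y.presheaf.stalk (f.base x)) :=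
        (g.stalkMap (f.base x)).hom.toAlgebra
      have := isScalarTower_stalk f g F x
      have h1 : Module.Flat (Z.presheaf.stalk ((f ≫ g).base x)) (Y.presheaf.stalk (f.base x)) :=
        Flat.stalkMap g (f.base x)
      have h2 : Module.Flat (Y.presheaf.stalk (f.base x)) (F.presheaf.stalk x) := hFfl x
      exact Module.Flat.trans (Z.presheaf.stalk ((f ≫ g).base x)) (Y.presheaf.stalk (f.base x))
        (F.presheaf.stalk x)
    · obtain ⟨y, rfl⟩ := g.surjective z
      obtain ⟨x, rfl, hx⟩ := hFff y
      refine ⟨x, rfl, ?_⟩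
      let _ := FlatMod.moduleStalkOver f F x
      let _ := FlatMod.moduleStalkOver (f ≫ g) F x
      let _ : Algebra (Z.presheaf.stalk ((f ≫ g).base x)) (Y.presheaf.stalk (f.base x)) :=
        (g.stalkMap (f.base x)).hom.toAlgebra
      have := isScalarTower_stalk f g F x
      intro htop
      apply hx
      rw [eq_top_iff]
      have hsub : ∀ n : F.presheaf.stalk x,
          n ∈ IsLocalRing.maximalIdeal (Z.presheaf.stalk ((f ≫ g).base x)) •
            (⊤ : Submodule (Z.presheaf.stalk ((f ≫ g).base x)) (F.presheaf.stalk x)) →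
          n ∈ IsLocalRing.maximalIdeal (Y.presheaf.stalk (f.base x)) •
            (⊤ : Submodule (Y.presheaf.stalk (f.base x)) (F.presheaf.stalk x)) := by
        intro n hn
        refine Submodule.smul_induction_on hn (fun a ha m _ => ?_) (fun a b ha hb => add_mem ha hb)
        rw [← algebraMap_smul (Y.presheaf.stalk (f.base x)) a m]
        exact Submodule.smul_mem_smul (map_nonunit (g.stalkMap (f.base x)).hom a ha) trivial
      intro n _
      exact hsub n (by rw [htop]; trivial)
  · rintro ⟨hfl, hpts⟩
    refine ⟨?_, ⟨fun z => ?_⟩⟩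
    · apply Flat.of_stalkMap
      intro y
      obtain ⟨x, rfl, hx⟩ := hFff y
      let _ := FlatMod.moduleStalkOver f F x
      let _ := FlatMod.moduleStalkOver (f ≫ g) F x
      let _ : Algebra (Z.presheaf.stalk ((f ≫ g).base x)) (Y.presheaf.stalk (f.base x)) :=
        (g.stalkMap (f.base x)).hom.toAlgebra
      have := isScalarTower_stalk f g F x
      have h2 : Module.Flat (Y.presheaf.stalk (f.base x)) (F.presheaf.stalk x) := hFfl x
      have h3 : Module.Flat (Z.presheaf.stalk ((f ≫ g).base x)) (F.presheaf.stalk x) := hfl x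
      have hff : Module.FaithfullyFlat (Y.presheaf.stalk (f.base x)) (F.presheaf.stalk x) := by
        refine ⟨fun m hm => ?_⟩
        rw [IsLocalRing.eq_maximalIdeal hm]
        exact hx
      exact flat_of_flat_of_faithfullyFlat_module (Z.presheaf.stalk ((f ≫ g).base x))
        (Y.presheaf.stalk (f.base x)) (F.presheaf.stalk x)
    · obtain ⟨x, hx, -⟩ := hpts z
      exact ⟨f x, hx⟩

end Groth.Agent.S4681
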