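import Groth.Statements.S4688
import Mathlib
-- import your own Groth.Agent.* helpers here

set_option autoImplicit false
universe u
open EGA4

namespace Groth.Agent.S4688

section
open Polynomial Ideal IsLocalization
variable {R : Type u} [CommRing R] [IsNoetherianRing R]
set_option linter.unusedSectionVars false

-- step 1: over a maximal ideal p, a prime P over p different from p[X] is maximal
lemma isMaximal_of_liesOver_maximal (p : Ideal R) [p.IsMaximal] (P : Ideal R[X]) [P.IsPrime]
    [P.LiesOver p] (hne : P ≠ p.map C) : P.IsMaximal := by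
  let _ : Field (R ⧸ p) := Quotient.field p
  let e : (R[X] ⧸ (p.map (algebraMap R R[X]))) ≃+* (R ⧸ p)[X] :=
    (polynomialQuotientEquivQuotientPolynomial p).symm
  have hle : p.map (algebraMap R R[X]) ≤ P := by
    rw [LiesOver.over (P := P) (p := p)]
    exact map_comap_le
  let P1 := P.map (Ideal.Quotient.mk <| p.map (algebraMap R R[X]))
  have hP1 : P1.IsPrime :=
    Ideal.map_isPrime_of_surjective Quotient.mk_surjective (by rwa [mk_ker])
  have hP1ne : P1 ≠ ⊥ := by
    intro h
    apply hne
    apply le_antisymm _ hle
    intro x hx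
    have : Ideal.Quotient.mk (p.map (algebraMap R R[X])) x ∈ P1 := Ideal.mem_map_of_mem _ hx
    rw [h, Ideal.mem_bot, Ideal.Quotient.eq_zero_iff_mem] at this
    exact this
  let P' : Ideal (R ⧸ p)[X] := Ideal.map e P1
  have hP' : P'.IsPrime := Ideal.map_isPrime_of_equiv e
  have hP'ne : P' ≠ ⊥ := by
    intro h
    apply hP1ne
    rw [← Ideal.map_eq_bot_iff_of_injective e.injective]
    exact h
  have hP'max : P'.IsMaximal := IsPrime.isMaximal hP' hP'ne
  have hP1max : P1.IsMaximal := by
    have : P1 = P'.comap e := by
      simp only [P']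
      rw [Ideal.comap_map_of_bijective e e.bijective]
    rw [this]
    exact Ideal.comap_isMaximal_of_equiv e
  have : P = P1.comap (Ideal.Quotient.mk <| p.map (algebraMap R R[X])) := by
    simp only [P1]
    rw [Ideal.comap_map_of_surjective _ Quotient.mk_surjective, ← RingHom.ker_eq_comap_bot, mk_ker]
    exact (sup_eq_left.mpr hle).symm
  rw [this]
  exact Ideal.comap_isMaximal_of_surjective _ Quotient.mk_surjective

attribute [local instance] Polynomial.algebra Polynomial.isLocalization in
lemma height_aux (p : Ideal R) [p.IsPrime] :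
    (p.map (C : R →+* R[X])).height = p.height ∧
    ∀ (P : Ideal R[X]) [P.IsPrime] [P.LiesOver p], P ≠ p.map C → P.height = p.height + 1 := by
  let Rₚ := Localization.AtPrime p
  set p' : Ideal Rₚ := p.map (algebraMap R Rₚ) with p'_def
  have : p'.IsMaximal := by
    rw [p'_def, Localization.AtPrime.map_eq_maximalIdeal]
    exact IsLocalRing.maximalIdeal.isMaximal Rₚ
  have eq1 : p.height = p'.height := by
    rw [height_map_of_disjoint p.primeCompl]
    exact Disjoint.symm <| Set.disjoint_left.mpr fun _ a b ↦ b a
  -- the ideal p[X]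
  have hQprime : (p.map (C : R →+* R[X])).IsPrime := Ideal.isPrime_map_C_of_isPrime
  have hQover : (p.map (C : R →+* R[X])).LiesOver p := ⟨by
    rw [Ideal.under_def]
    ext a
    simp only [Ideal.mem_comap, Polynomial.algebraMap_eq, Ideal.mem_map_C_iff]
    refine ⟨fun ha n => ?_, fun h => by simpa using h 0⟩
    rw [Polynomial.coeff_C]
    split_ifs
    · exact ha
    · exact p.zero_mem⟩
  have disjQ : Disjoint (p.primeCompl.map C : Set R[X]) (p.map (C : R →+* R[X])) := by
    refine Set.disjoint_left.mpr fun a ⟨b, hb⟩ ha ↦ hb.1 ?_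
    rwa [SetLike.mem_coe, LiesOver.over (P := p.map (C : R →+* R[X])) (p := p), mem_comap,
      algebraMap_eq, hb.2]
  have hQmap : (p.map (C : R →+* R[X])).map (algebraMap R[X] Rₚ[X]) = p'.map C := by
    rw [p'_def, Ideal.map_map, Ideal.map_map]
    congr 1
    ext x <;> simp [Polynomial.algebraMap_def]
  have eqQ : (p.map (C : R →+* R[X])).height = (p'.map (C : Rₚ →+* Rₚ[X])).height := by
    rw [← hQmap, height_map_of_disjoint (Submonoid.map C <| p.primeCompl) _ disjQ]
  refine ⟨by rw [eqQ, Polynomial.height_map_C p', eq1], ?_⟩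
  intro P _ _ hne
  let P' : Ideal Rₚ[X] := P.map (algebraMap R[X] Rₚ[X])
  have disj : Disjoint (p.primeCompl.map C : Set R[X]) P := by
    refine Set.disjoint_left.mpr fun a ⟨b, hb⟩ ha ↦ hb.1 ?_
    rwa [SetLike.mem_coe, LiesOver.over (P := P) (p := p), mem_comap, algebraMap_eq, hb.2]
  have eq := under_map_of_isPrime_disjoint _ Rₚ[X] ‹P.IsPrime› disj
  have eqQ' := under_map_of_isPrime_disjoint _ Rₚ[X] hQprime disjQ
  have hP'prime : P'.IsPrime := isPrime_of_isPrime_disjoint (p.primeCompl.map C) _ P ‹_› disj
  have : P'.LiesOver p' := liesOver_of_isPrime_of_disjoint p.primeCompl _ _ disj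
  have hne' : P' ≠ p'.map C := by
    intro h
    apply hne
    rw [← eq, ← eqQ', hQmap, ← h]
  have : P'.IsMaximal := isMaximal_of_liesOver_maximal p' P' hne'
  have eq2 : P.height = P'.height := by
    rw [height_map_of_disjoint (Submonoid.map C <| p.primeCompl) _ disj]
  rw [eq1, eq2]
  exact Polynomial.height_eq_height_add_one p' P'

end


open Polynomial in
/-- Let A be a Noetherian ring, p a prime ideal of A and q a prime ideal of the polynomial ring A[T]
lying over p. Then the extended ideal p A[T] has the same height as p, and if q is different from p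
A[T] one has ht(q) = ht(p) + 1. (The remaining assertions of the published item, that p A[T] is
prime over p and that there are infinitely many pairwise incomparable such q, are not restated.) -/
theorem result (A : Type u) [CommRing A] [IsNoetherianRing A]
    (p : Ideal A) [p.IsPrime] (q : Ideal A[X]) [q.IsPrime] [q.LiesOver p] :
    (p.map (Polynomial.C : A →+* A[X])).height = p.height ∧
      (q ≠ p.map (Polynomial.C : A →+* A[X]) → q.height = p.height + 1) := by
  obtain ⟨h1, h2⟩ := height_aux p
  exact ⟨h1, fun hne => h2 q hne⟩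

end Groth.Agent.S4688
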