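import Groth.Statements.S4690
import Groth.Agent.Lib.Helper21.FibDim9
import Groth.Agent.Lib.Helper18.SchDim2
import Groth.Agent.Lib.Helper14.SchemeDim
-- import your own Groth.Agent.* helpers here

set_option autoImplicit false
universe u
open EGA4

namespace Groth.Agent.S4690

open AlgebraicGeometry CategoryTheory in
/-- Let Y be an irreducible locally Noetherian scheme, X an irreducible scheme and f : X → Y a dominant
morphism locally of finite type; let e be the dimension of the generic fibre of f. Then dim X ≤ dim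
Y + e. If moreover every local ring of Y is universally catenary, the two sides are equal if and
only if dim Y equals the supremum of the dimensions of the local rings of Y at the points of f(X). -/
theorem result {X Y : Scheme.{u}} (f : X ⟶ Y) [IsLocallyNoetherian Y]
    [LocallyOfFiniteType f] [IrreducibleSpace X] [IrreducibleSpace Y] (hf : DenseRange f.base) :
    topologicalKrullDim X ≤ topologicalKrullDim Y + topologicalKrullDim (f.fiber (genericPoint Y)) ∧
      ((∀ y : Y, CAlg.IsUniversallyCatenary (Y.presheaf.stalk y)) →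
        (topologicalKrullDim X = topologicalKrullDim Y + topologicalKrullDim (f.fiber (genericPoint Y)) ↔
          topologicalKrullDim Y = ⨆ y ∈ Set.range f.base, ringKrullDim (Y.presheaf.stalk y))) := by
  have hdom : IsDominant f := ⟨hf⟩
  have hη : f (genericPoint X) = genericPoint Y :=
    Groth.Agent.Lib.Helper21.GenFin.map_genericPoint f
  have hmaxξ : ∀ x' : X, x' ⤳ genericPoint X → x' = genericPoint X :=
    fun x' hx' => (hx'.antisymm (genericPoint_specializes x')).eq
  obtain ⟨nξ, hnξ, hnξ2⟩ :=
    Groth.Agent.Lib.Helper21.FibDim.fibreDimAt_eq_trdeg_of_maximal' f (genericPoint X) hmaxξ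
  have hgen : topologicalKrullDim ↥(f.fiber (genericPoint Y)) = (nξ : WithBot ℕ∞) := by
    apply le_antisymm
    · rw [← hnξ]
      exact Groth.Agent.Lib.Helper21.FibDim.topologicalKrullDim_generic_fiber_le_fibreDimAt f
        (genericPoint X)
    · have h7 := Groth.Agent.Lib.Helper21.FibDim.fibreDimAt_le_topologicalKrullDim_fiber f
        (genericPoint X)
      rw [hη, hnξ] at h7
      exact h7
  rw [hgen]
  have part1 : topologicalKrullDim ↥X ≤ topologicalKrullDim ↥Y + (nξ : WithBot ℕ∞) := by
    refine Groth.Agent.Lib.Helper18.SchDim.topologicalKrullDim_le_add f nξ ?_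
    intro ξ hξ
    have h1 : ξ = genericPoint X :=
      (Groth.Agent.Lib.Helper21.FibDim.eq_of_specializes_of_closure_mem ξ hξ _
        (genericPoint_specializes ξ)).symm
    subst h1
    exact hnξ2.le
  refine ⟨part1, fun hcat => ?_⟩
  have hsY : (⨆ y ∈ Set.range f.base, ringKrullDim (Y.presheaf.stalk y)) ≤
      topologicalKrullDim ↥Y := by
    rw [Groth.Agent.Lib.Helper14.AS.topologicalKrullDim_eq_iSup_stalk Y]
    exact iSup₂_le fun y _ => le_iSup (fun y => ringKrullDim (Y.presheaf.stalk y)) y
  have hXle : topologicalKrullDim ↥X ≤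
      (⨆ y ∈ Set.range f.base, ringKrullDim (Y.presheaf.stalk y)) + (nξ : WithBot ℕ∞) := by
    rw [Groth.Agent.Lib.Helper14.AS.topologicalKrullDim_eq_iSup_stalk X]
    refine iSup_le fun x => ?_
    obtain ⟨n, hn⟩ := Groth.Agent.Lib.Helper18.SchDim.exists_nat_trdeg_residueField f x
    have h1 := Groth.Agent.Lib.Helper21.DimLoc.stalk_dim_formula f hη x (hcat (f x)) n nξ hn hnξ2
    have h2 : ringKrullDim (Y.presheaf.stalk (f x)) ≤
        ⨆ y ∈ Set.range f.base, ringKrullDim (Y.presheaf.stalk y) :=
      le_iSup₂_of_le (f x) ⟨x, rfl⟩ le_rfl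
    calc ringKrullDim (X.presheaf.stalk x) ≤ ringKrullDim (X.presheaf.stalk x) + n :=
          le_add_of_nonneg_right (by exact_mod_cast zero_le)
      _ = ringKrullDim (Y.presheaf.stalk (f x)) + nξ := h1
      _ ≤ _ := add_le_add h2 le_rfl
  have hXge : (⨆ y ∈ Set.range f.base, ringKrullDim (Y.presheaf.stalk y)) + (nξ : WithBot ℕ∞) ≤
      topologicalKrullDim ↥X := by
    have h0 : (⨆ y ∈ Set.range f.base, ringKrullDim (Y.presheaf.stalk y)) =
        ⨆ x : X, ringKrullDim (Y.presheaf.stalk (f x)) := by
      apply le_antisymm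
      · refine iSup₂_le fun y hy => ?_
        obtain ⟨x, rfl⟩ := hy
        exact le_iSup (fun x : X => ringKrullDim (Y.presheaf.stalk (f x))) x
      · refine iSup_le fun x => ?_
        exact le_iSup₂_of_le (f x) ⟨x, rfl⟩ le_rfl
    rw [h0]
    refine Groth.Agent.Lib.Helper21.FibDim.iSup_add_nat_le _ nξ _ fun x₀ => ?_
    obtain ⟨x, -, hx, hx0⟩ :=
      Groth.Agent.Lib.Helper21.FibDim.exists_specializes_fiber_trdeg_eq_zero f x₀
    have h1 := Groth.Agent.Lib.Helper21.DimLoc.stalk_dim_formula f hη x (hcat (f x)) 0 nξ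
      (by rw [hx0]; rfl) hnξ2
    have h2 : ∀ y' : Y, f x = y' → ringKrullDim (Y.presheaf.stalk (f x)) =
        ringKrullDim (Y.presheaf.stalk y') := by
      rintro _ rfl
      rfl
    rw [← h2 _ hx, ← h1, Groth.Agent.Lib.Helper14.AS.topologicalKrullDim_eq_iSup_stalk X]
    refine le_trans ?_ (le_iSup (fun x : X => ringKrullDim (X.presheaf.stalk x)) x)
    simp
  have hX : topologicalKrullDim ↥X =
      (⨆ y ∈ Set.range f.base, ringKrullDim (Y.presheaf.stalk y)) + (nξ : WithBot ℕ∞) :=
    le_antisymm hXle hXge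
  constructor
  · intro h
    apply le_antisymm _ hsY
    rw [hX] at h
    exact Groth.Agent.Lib.Helper21.FibDim.le_of_add_nat_le_add_nat _ _ nξ h.ge
  · intro h
    rw [hX, ← h]

end Groth.Agent.S4690
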