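import Groth.Statements.S4693
import Mathlib
import Groth.Agent.Lib.Helper18.TensorCM
import Groth.Agent.Lib.Helper18.TensorDim
import Groth.Agent.Lib.Helper21.RegularLocal

set_option autoImplicit false
universe u
open EGA4

namespace Groth.Agent.S4693

/-- Let A → B be a local homomorphism of Noetherian local rings such that the closed fibre ring B/m_A B
has Krull dimension 0 (that is, m_A B is an ideal of definition of B). Then dim B ≤ dim A. If
moreover some finite B-module which is flat over A has support equal to all of Spec B (for instance
if B is flat over A), then dim B = dim A. -/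
theorem result (A B : Type u) [CommRing A] [CommRing B] [IsNoetherianRing A]
    [IsNoetherianRing B] [IsLocalRing A] [IsLocalRing B] [Algebra A B] [IsLocalHom (algebraMap A B)]
    (h0 : ringKrullDim (EGA4.FibRing A B) = 0) :
    ringKrullDim B ≤ ringKrullDim A ∧
      (∀ (N : Type u) [AddCommGroup N] [Module B N] [Module A N] [IsScalarTower A B N] [Module.Finite B N]
          [Module.Flat A N], Module.support B N = Set.univ → ringKrullDim B = ringKrullDim A) := by
  have hlo : (IsLocalRing.maximalIdeal B).LiesOver (IsLocalRing.maximalIdeal A) :=
    ⟨(IsLocalRing.maximalIdeal_comap (algebraMap A B)).symm⟩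
  constructor
  · have h := Ideal.height_le_height_add_of_liesOver (IsLocalRing.maximalIdeal A)
      (IsLocalRing.maximalIdeal B)
    have hq := Groth.Agent.Lib.Helper21.maximalIdeal_quotient_eq_map
      ((IsLocalRing.maximalIdeal A).map (algebraMap A B))
    rw [← hq] at h
    have h2 : ((IsLocalRing.maximalIdeal (EGA4.FibRing A B)).height : WithBot ℕ∞) = 0 := by
      rw [IsLocalRing.maximalIdeal_height_eq_ringKrullDim]
      exact h0
    have h3 : (IsLocalRing.maximalIdeal (EGA4.FibRing A B)).height = 0 := by exact_mod_cast h2
    rw [h3, add_zero] at h
    rw [← IsLocalRing.maximalIdeal_height_eq_ringKrullDim,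
      ← IsLocalRing.maximalIdeal_height_eq_ringKrullDim]
    exact_mod_cast h
  · intro N _ _ _ _ _ _ hsupp
    have hNne : Nontrivial N := by
      by_contra hN
      rw [not_nontrivial_iff_subsingleton] at hN
      have : Module.support B N = ∅ := Module.support_eq_empty_iff.mpr hN
      rw [hsupp] at this
      exact Set.empty_ne_univ this.symm
    have h1 := Groth.Agent.Lib.Helper18.CM.supportDim_tensor_of_flat (A := A) (B := B) A N
    rw [Module.supportDim_eq_of_equiv (TensorProduct.AlgebraTensorModule.rid A B N),
      Module.supportDim_self_eq_ringKrullDim] at h1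
    have h2 : Module.supportDim B N = ringKrullDim B := by
      refine le_antisymm (Module.supportDim_le_ringKrullDim B N) ?_
      rw [← Module.supportDim_self_eq_ringKrullDim]
      apply Groth.Agent.Lib.Helper18.CM.supportDim_le_of_support_subset
      rw [hsupp]
      exact Set.subset_univ _
    have hNbar := Groth.Agent.Lib.Helper18.CM.nontrivial_fibre A (B := B) N
    have h3 : Module.supportDim B (N ⧸ ((IsLocalRing.maximalIdeal A).map (algebraMap A B) • ⊤ :
        Submodule B N)) = 0 := by
      refine le_antisymm ?_ ?_
      · rw [← Groth.Agent.Lib.Helper18.CM.supportDim_quotient_ring_eq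
          ((IsLocalRing.maximalIdeal A).map (algebraMap A B))]
        refine le_trans (Module.supportDim_le_ringKrullDim _ _) ?_
        exact h0.le
      · have hne := Module.supportDim_ne_bot_of_nontrivial B (N ⧸
          ((IsLocalRing.maximalIdeal A).map (algebraMap A B) • ⊤ : Submodule B N))
        obtain ⟨d, hd⟩ := WithBot.ne_bot_iff_exists.mp hne
        rw [← hd]
        exact_mod_cast (zero_le : (0 : ℕ∞) ≤ d)
    rw [h2, h3, add_zero] at h1
    exact h1

end Groth.Agent.S4693
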