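import Groth.Statements.S4699
import Mathlib
import Groth.Agent.Lib.Helper18.GenAdd4

set_option autoImplicit false
universe u
open EGA4

namespace Groth.Agent.S4699

/-- Let A be a Noetherian ring, M a finite A-module and I an ideal of A whose radical p is a prime ideal
lying in the support of M (so V(I) is an irreducible closed subset whose generic point is in Supp
M). Then there is an element f outside p such that, for every prime q containing I with f outside q,
the dimension of M_q is the dimension of M_p plus the dimension of (A/I)_q, and the depth of M_q is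
the depth of M_p plus the depth of (A/I)_q (the module (A/I)_q = A_q / I A_q being regarded over
A_q). -/
theorem result (A : Type u) [CommRing A] [IsNoetherianRing A]
    (M : Type u) [AddCommGroup M] [Module A M] [Module.Finite A M] (I : Ideal A) [I.radical.IsPrime]
    (hp : (⟨I.radical, inferInstance⟩ : PrimeSpectrum A) ∈ Module.support A M) :
    ∃ f : A, f ∉ I.radical ∧ ∀ (q : Ideal A) [q.IsPrime], I ≤ q → f ∉ q →
      Module.supportDim (Localization.AtPrime q) (LocalizedModule q.primeCompl M) =
          Module.supportDim (Localization.AtPrime I.radical) (LocalizedModule I.radical.primeCompl M) +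
            Module.supportDim (Localization.AtPrime q)
              (Localization.AtPrime q ⧸ I.map (algebraMap A (Localization.AtPrime q))) ∧
        LocCoh.depth (Localization.AtPrime q) (LocalizedModule q.primeCompl M) =
          LocCoh.depth (Localization.AtPrime I.radical) (LocalizedModule I.radical.primeCompl M) +
            LocCoh.depth (Localization.AtPrime q)
              (Localization.AtPrime q ⧸ I.map (algebraMap A (Localization.AtPrime q))) := by
  classical
  open Groth.Agent.Lib.Helper18.GenAdd Groth.Agent.Lib.Helper18.CM in
  · have hpI : I ≤ I.radical := Ideal.le_radical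
    -- the module `A ⧸ I`
    have hsuppN : Module.support A (A ⧸ I) ⊆ PrimeSpectrum.zeroLocus (I.radical : Set A) := by
      intro Q hQ
      rw [Module.mem_support_iff_of_finite, Ideal.annihilator_quotient] at hQ
      rw [PrimeSpectrum.mem_zeroLocus]
      exact Q.2.radical_le_iff.mpr hQ
    have hNp : Nontrivial (LocalizedModule I.radical.primeCompl (A ⧸ I)) := by
      have h2 : (⟨I.radical, inferInstance⟩ : PrimeSpectrum A) ∈ Module.support A (A ⧸ I) := by
        rw [Module.mem_support_iff_of_finite, Ideal.annihilator_quotient]
        exact hpI
      exact Module.mem_support_iff.mp h2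
    haveI : IsNoetherianRing (Localization.AtPrime I.radical) :=
      IsLocalization.isNoetherianRing I.radical.primeCompl _ inferInstance
    have hdp0 : dp (A ⧸ I) I.radical = 0 := dp_eq_zero_of_support_subset I.radical (A ⧸ I) hsuppN hNp
    have hdm0 : dm (A ⧸ I) I.radical = 0 := by
      apply le_antisymm
      · change Module.supportDim _ _ ≤ 0
        rw [Groth.Agent.Lib.Helper18.SkAt.supportDim_localizedModule_le_zero_iff (A ⧸ I) I.radical
          (Module.mem_support_iff.mpr hNp)]
        intro Q _
        exact (PrimeSpectrum.mem_zeroLocus _ _).mp (hsuppN Q.2)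
      · have h2 := depth_le_supportDim (R := Localization.AtPrime I.radical)
          (LocalizedModule I.radical.primeCompl (A ⧸ I))
        change ((dp (A ⧸ I) I.radical : ℕ∞) : WithBot ℕ∞) ≤ dm (A ⧸ I) I.radical at h2
        rw [hdp0] at h2
        exact_mod_cast h2
    have hgen := ((dimAdd I.radical M).and (depthAdd I.radical M)).and
      ((dimAdd I.radical (A ⧸ I)).and (depthAdd I.radical (A ⧸ I)))
    obtain ⟨f, hf, h⟩ := hgen
    refine ⟨f, hf, fun q hq hIq hfq => ?_⟩
    have hpq : I.radical ≤ q := hq.radical_le_iff.mpr hIq
    obtain ⟨⟨h1, h2⟩, ⟨h3, h4⟩⟩ := h q hpq hfq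
    rw [hdm0, zero_add] at h3
    rw [hdp0, zero_add] at h4
    obtain ⟨e⟩ := nonempty_locQuotIdealEquiv q I
    haveI : IsNoetherianRing (Localization.AtPrime q) :=
      IsLocalization.isNoetherianRing q.primeCompl _ inferInstance
    refine ⟨?_, ?_⟩
    · rw [← Module.supportDim_eq_of_equiv e]
      change dm M q = dm M I.radical + dm (A ⧸ I) q
      rw [h3]
      exact h1
    · rw [← depth_congr e]
      change dp M q = dp M I.radical + dp (A ⧸ I) q
      rw [h4]
      exact h2

end Groth.Agent.S4699
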