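import Groth.Statements.S4702
import Groth.Agent.Lib.Helper21.FibDim6
import Groth.Agent.S1554
import Groth.Agent.Lib.Helper21.FibDim3
-- import your own Groth.Agent.* helpers here

set_option autoImplicit false
universe u
open EGA4

namespace Groth.Agent.S4702

open AlgebraicGeometry CategoryTheory in
/-- Let Y be an irreducible locally Noetherian scheme of dimension 1, X an irreducible scheme and f : X
→ Y a dominant morphism of finite type. Then for every point y in the image of f, every irreducible
component of the fibre of f at y has dimension equal to the dimension of the generic fibre. -/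
theorem result {X Y : Scheme.{u}} (f : X ⟶ Y) [IsLocallyNoetherian Y]
    [IrreducibleSpace Y] [IrreducibleSpace X] (hY : topologicalKrullDim Y = 1) [LocallyOfFiniteType f]
    [QuasiCompact f] (hf : DenseRange f.base) (y : Y) (hy : y ∈ Set.range f.base)
    (Z : Set ↥(f.fiber y)) (hZ : Z ∈ irreducibleComponents ↥(f.fiber y)) :
    topologicalKrullDim Z = topologicalKrullDim ↥(f.fiber (genericPoint Y)) := by
  have hdom : IsDominant f := ⟨hf⟩
  obtain ⟨z, hz, hdimZ, -⟩ :=
    Groth.Agent.Lib.Helper21.FibDim.exists_isGenericPoint_fiber f y Z hZ
  rw [hdimZ]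
  -- the generic fibre
  obtain ⟨d, hd, -, -⟩ :=
    Groth.Agent.Lib.Helper21.FibDim.exists_fibreDimAt_eq_trdeg f (genericPoint X)
  have hη : f (genericPoint X) = genericPoint Y :=
    Groth.Agent.Lib.Helper21.GenFin.map_genericPoint f
  have hgen : topologicalKrullDim ↥(f.fiber (genericPoint Y)) = d := by
    apply le_antisymm
    · rw [← hd]
      exact Groth.Agent.Lib.Helper21.FibDim.topologicalKrullDim_fiber_le f (genericPoint Y)
        (genericPoint X) hη (fun y _ => genericPoint_specializes y)
    · have h7 := Groth.Agent.Lib.Helper21.FibDim.fibreDimAt_le_topologicalKrullDim_fiber f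
        (genericPoint X)
      rw [hη, hd] at h7
      exact h7
  rw [hgen]
  -- local rings of `Y` have dimension at most one
  have hdimY : ringKrullDim (Y.presheaf.stalk (f.base (f.fiberι y z))) ≤ 1 := by
    rw [← hY, Groth.Agent.Lib.Helper14.AS.topologicalKrullDim_eq_iSup_stalk Y]
    exact le_iSup (fun v => ringKrullDim (Y.presheaf.stalk v)) _
  refine Groth.Agent.S1554.result f (f.fiberι y z) hdimY d ?_
  intro Z' hZ' _ η' hη'
  rw [irreducibleComponents_eq_singleton, Set.mem_singleton_iff] at hZ'
  subst hZ'
  have : η' = genericPoint X := ((genericPoint_spec X).eq hη').symm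
  rw [this]
  exact hd

end Groth.Agent.S4702
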