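import Groth.Statements.S4703
import Mathlib
import Groth.Agent.Lib.Helper18.FinDom
import Groth.Agent.Lib.Helper18.FibBridge2

set_option autoImplicit false
universe u
open EGA4

namespace Groth.Agent.S4703

open TensorProduct in
/-- For the property 'geometrically regular', case of a local ring: let A be a Noetherian local ring
with completion Â. Then the formal fibres of A are geometrically regular (the completion map A → Â
is a regular homomorphism) if and only if, for every finite A-algebra B which is a domain and every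
prime ideal q of B ⊗_A Â whose contraction to B is zero, the local ring of B ⊗_A Â at q is regular.
(The published statement is for semi-local rings; this row takes A local.) -/
theorem result (A : Type u) [CommRing A] [IsNoetherianRing A] [IsLocalRing A] :
    CAlg.IsRegularHom A (EGA4.Cpl A) ↔
      ∀ (B : Type u) [CommRing B] [IsDomain B] [Algebra A B] [Module.Finite A B]
        (q : Ideal (B ⊗[A] EGA4.Cpl A)) [q.IsPrime],
        q.comap (algebraMap B (B ⊗[A] EGA4.Cpl A)) = ⊥ → IsRegularLocalRing (Localization.AtPrime q) := by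
  constructor
  · intro h B _ _ _ _ q _ hq
    have h1 := Groth.Agent.Lib.Helper18.PMor.isGeometricallyRegular_fiber_baseChange
      (EGA4.Cpl A) B (fun q _ => (h.2 q).2) (⊥ : Ideal B)
    have h2 : IsRegularRing ((⊥ : Ideal B).Fiber (B ⊗[A] EGA4.Cpl A)) :=
      Groth.Agent.Lib.Helper18.PMor.isRegularRing_of_isGeometricallyRegular h1
    exact Groth.Agent.Lib.Helper18.FinDom.isRegularLocalRing_atPrime_of_isRegularRing_fiber
      B (B ⊗[A] EGA4.Cpl A) h2 q hq
  · intro hyp
    refine ⟨inferInstance, fun p _ => ⟨inferInstance, ?_⟩⟩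
    intro K _ _ hfin
    letI : Algebra A K :=
      ((algebraMap p.ResidueField K).comp (algebraMap A p.ResidueField)).toAlgebra
    haveI : IsScalarTower A p.ResidueField K := IsScalarTower.of_algebraMap_eq (fun _ => rfl)
    obtain ⟨B, hBfin, hBfrac⟩ :=
      Groth.Agent.Lib.Helper18.FinDom.exists_finite_subalgebra_isFractionRing A p K
    haveI := hBfin
    haveI := hBfrac
    haveI : Module.Finite (EGA4.Cpl A) ((EGA4.Cpl A) ⊗[A] B) :=
      Module.Finite.base_change A (EGA4.Cpl A) B
    haveI : IsNoetherianRing ((EGA4.Cpl A) ⊗[A] B) :=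
      Algebra.FiniteType.isNoetherianRing (EGA4.Cpl A) ((EGA4.Cpl A) ⊗[A] B)
    haveI : IsNoetherianRing (B ⊗[A] EGA4.Cpl A) :=
      isNoetherianRing_of_ringEquiv _ (Algebra.TensorProduct.comm A (EGA4.Cpl A) B).toRingEquiv
    have hF : IsRegularRing ((⊥ : Ideal B).Fiber (B ⊗[A] EGA4.Cpl A)) :=
      Groth.Agent.Lib.Helper18.FinDom.isRegularRing_fiber_of_forall B (B ⊗[A] EGA4.Cpl A)
        (fun q _ hq => hyp B q hq)
    obtain ⟨e⟩ := Groth.Agent.Lib.Helper18.FinDom.nonempty_ringEquiv_fiber_bot
      A p K (EGA4.Cpl A) B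
    exact @IsRegularRing.of_ringEquiv ((⊥ : Ideal B).Fiber (B ⊗[A] EGA4.Cpl A)) _ _ _ e hF

end Groth.Agent.S4703
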