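import Groth.Statements.S4704
import Mathlib
import Groth.Agent.Lib.Helper18.PMor4
import Groth.Agent.Lib.Helper18.CplFlat

set_option autoImplicit false
universe u
open EGA4

namespace Groth.Agent.S4704

/-- Let A → A' be a local homomorphism of Noetherian local rings which is regular (flat, with
geometrically regular fibres). If the completion map of A' is regular (the formal fibres of A' are
geometrically regular), then the completion map of A is regular. -/
theorem result (A A' : Type u) [CommRing A] [CommRing A'] [IsNoetherianRing A]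
    [IsNoetherianRing A'] [IsLocalRing A] [IsLocalRing A'] [Algebra A A'] [IsLocalHom (algebraMap A A')]
    (hf : CAlg.IsRegularHom A A') (hA' : CAlg.IsRegularHom A' (EGA4.Cpl A')) :
    CAlg.IsRegularHom A (EGA4.Cpl A) := by
  haveI : Module.Flat A A' := hf.1
  letI : Algebra (EGA4.Cpl A) (EGA4.Cpl A') :=
    (Groth.Agent.Lib.Helper18.CplFlat.cplMap A A').toAlgebra
  haveI : IsScalarTower A (EGA4.Cpl A) (EGA4.Cpl A') :=
    IsScalarTower.of_algebraMap_eq
      (fun a => (Groth.Agent.Lib.Helper18.CplFlat.cplMap_of A A' a).symm)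
  haveI : Module.Flat (EGA4.Cpl A) (EGA4.Cpl A') :=
    Groth.Agent.Lib.Helper18.CplFlat.flat_cplMap A A'
  haveI : IsLocalHom (algebraMap (EGA4.Cpl A) (EGA4.Cpl A')) :=
    Groth.Agent.Lib.Helper18.CplFlat.isLocalHom_cplMap A A'
  haveI : Module.FaithfullyFlat (EGA4.Cpl A) (EGA4.Cpl A') :=
    Module.FaithfullyFlat.of_flat_of_isLocalHom
  have h1 := Groth.Agent.Lib.Helper18.PMor.isRegularHom_comp A A' (EGA4.Cpl A') hf hA'
  exact Groth.Agent.Lib.Helper18.PMor.isRegularHom_of_comp_of_faithfullyFlat
    A (EGA4.Cpl A) (EGA4.Cpl A') h1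

end Groth.Agent.S4704
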