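import Groth.Statements.S4705
import Mathlib
import Groth.Agent.Lib.Helper18.PMor4
import Groth.Agent.Lib.Helper18.CplFlat

set_option autoImplicit false
universe u
open EGA4

namespace Groth.Agent.S4705

/-- Let A → A' be a flat local homomorphism of Noetherian local rings all of whose fibre rings k(p) ⊗_A
A' are geometrically reduced over k(p). If the completion map of A' is regular (the formal fibres of
A' are geometrically regular), then the formal fibres of A are geometrically reduced. -/
theorem result (A A' : Type u) [CommRing A] [CommRing A']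
    [IsNoetherianRing A] [IsNoetherianRing A'] [IsLocalRing A] [IsLocalRing A'] [Algebra A A']
    [IsLocalHom (algebraMap A A')] [Module.Flat A A']
    (hf : ∀ (p : Ideal A) [p.IsPrime], Algebra.IsGeometricallyReduced p.ResidueField (p.Fiber A'))
    (hA' : CAlg.IsRegularHom A' (EGA4.Cpl A')) : EGA4.HasGeomReducedFormalFibres A := by
  intro p _
  letI : Algebra (EGA4.Cpl A) (EGA4.Cpl A') :=
    (Groth.Agent.Lib.Helper18.CplFlat.cplMap A A').toAlgebra
  haveI : IsScalarTower A (EGA4.Cpl A) (EGA4.Cpl A') :=
    IsScalarTower.of_algebraMap_eq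
      (fun a => (Groth.Agent.Lib.Helper18.CplFlat.cplMap_of A A' a).symm)
  haveI : Module.Flat (EGA4.Cpl A) (EGA4.Cpl A') :=
    Groth.Agent.Lib.Helper18.CplFlat.flat_cplMap A A'
  haveI : IsLocalHom (algebraMap (EGA4.Cpl A) (EGA4.Cpl A')) :=
    Groth.Agent.Lib.Helper18.CplFlat.isLocalHom_cplMap A A'
  haveI : Module.FaithfullyFlat (EGA4.Cpl A) (EGA4.Cpl A') :=
    Module.FaithfullyFlat.of_flat_of_isLocalHom
  have h1 := Groth.Agent.Lib.Helper18.PMor.isGeometricallyReduced_fiber_comp A A' (EGA4.Cpl A') hf
    (fun q _ => Groth.Agent.Lib.Helper18.PMor.isGeometricallyReduced_of_isGeometricallyRegular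
      (hA'.2 q).2) p
  exact Groth.Agent.Lib.Helper18.PMor.isGeometricallyReduced_fiber_of_comp_of_faithfullyFlat
    A (EGA4.Cpl A) (EGA4.Cpl A') p h1

end Groth.Agent.S4705
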