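import Groth.Statements.S4706
import Mathlib
import Groth.Agent.Lib.Helper18.PMor4
import Groth.Agent.Lib.Helper18.CplFlat

set_option autoImplicit false
universe u
open EGA4

namespace Groth.Agent.S4706

/-- Let A → A' be a local homomorphism of Noetherian local rings which is normal (flat, with
geometrically normal fibres). If the completion map of A' is regular (the formal fibres of A' are
geometrically regular), then the formal fibres of A are geometrically normal. -/
theorem result (A A' : Type u) [CommRing A] [CommRing A']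
    [IsNoetherianRing A] [IsNoetherianRing A'] [IsLocalRing A] [IsLocalRing A'] [Algebra A A']
    [IsLocalHom (algebraMap A A')] (hf : EGA4.IsNormalHom A A') (hA' : CAlg.IsRegularHom A' (EGA4.Cpl A')) :
    EGA4.HasGeomNormalFormalFibres A := by
  intro p _
  haveI : Module.Flat A A' := hf.1
  letI : Algebra (EGA4.Cpl A) (EGA4.Cpl A') :=
    (Groth.Agent.Lib.Helper18.CplFlat.cplMap A A').toAlgebra
  haveI : IsScalarTower A (EGA4.Cpl A) (EGA4.Cpl A') :=
    IsScalarTower.of_algebraMap_eq
      (fun a => (Groth.Agent.Lib.Helper18.CplFlat.cplMap_of A A' a).symm)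
  haveI : Module.Flat (EGA4.Cpl A) (EGA4.Cpl A') :=
    Groth.Agent.Lib.Helper18.CplFlat.flat_cplMap A A'
  haveI : IsLocalHom (algebraMap (EGA4.Cpl A) (EGA4.Cpl A')) :=
    Groth.Agent.Lib.Helper18.CplFlat.isLocalHom_cplMap A A'
  haveI : Module.FaithfullyFlat (EGA4.Cpl A) (EGA4.Cpl A') :=
    Module.FaithfullyFlat.of_flat_of_isLocalHom
  have h1 := Groth.Agent.Lib.Helper18.PMor.isNormalHom_comp A A' (EGA4.Cpl A') hf
    (Groth.Agent.Lib.Helper18.PMor.isNormalHom_of_isRegularHom hA')
  exact (Groth.Agent.Lib.Helper18.PMor.isNormalHom_of_comp_of_faithfullyFlat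
    A (EGA4.Cpl A) (EGA4.Cpl A') h1).2 p

end Groth.Agent.S4706
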