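import Groth.Statements.S4711
-- import your own Groth.Agent.* helpers here

set_option autoImplicit false
universe u
open EGA4

namespace Groth.Agent.S4711

open Topology in
theorem exists_isLocallyClosed_singleton_of_isCompact {W : Type*} [TopologicalSpace W] [T0Space W]
    {S U : Set W} (hU : IsOpen U) (hS : IsCompact S) (hSU : ∃ Z, IsClosed Z ∧ S = U ∩ Z)
    (hne : S.Nonempty) : ∃ x ∈ S, IsLocallyClosed ({x} : Set W) := by
  have : CompactSpace S := isCompact_iff_compactSpace.mp hS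
  have : Nonempty S := hne.to_subtype
  obtain ⟨x, -, hx⟩ := (isClosed_univ (X := S)).exists_closed_singleton Set.univ_nonempty
  refine ⟨x.1, x.2, ?_⟩
  obtain ⟨C, hC, hCx⟩ := isClosed_induced_iff.mp hx
  obtain ⟨Z, hZ, rfl⟩ := hSU
  refine ⟨U, Z ∩ C, hU, hZ.inter hC, ?_⟩
  ext y
  constructor
  · rintro rfl
    have : x ∈ Subtype.val ⁻¹' C := by rw [hCx]; rfl
    exact ⟨x.2.1, x.2.2, this⟩
  · rintro ⟨hyU, hyZ, hyC⟩
    have : (⟨y, hyU, hyZ⟩ : ↥(U ∩ Z)) ∈ Subtype.val ⁻¹' C := hyC
    rw [hCx] at this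
    exact congrArg Subtype.val this

open Topology in
theorem exists_isLocallyClosed_singleton_of_isConstructible {W : Type*} [TopologicalSpace W]
    [T0Space W] [CompactSpace W] {E : Set W} (hE : IsConstructible E) (hne : E.Nonempty) :
    ∃ x ∈ E, IsLocallyClosed ({x} : Set W) := by
  revert hne
  refine BooleanSubalgebra.closure_sdiff_sup_induction
    (s := {U : Set W | IsOpen U ∧ IsRetrocompact U})
    (p := fun E _ => E.Nonempty → ∃ x ∈ E, IsLocallyClosed ({x} : Set W))
    ⟨fun s hs t ht ↦ ⟨hs.1.union ht.1, hs.2.union ht.2⟩,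
      fun s hs t ht ↦ ⟨hs.1.inter ht.1, hs.2.inter_isOpen ht.2 ht.1⟩⟩
    ⟨isOpen_empty, .empty⟩ ⟨isOpen_univ, .univ⟩ ?_ ?_ E hE
  · intro U hU V hV hne
    have hcU : IsCompact U := hU.2.isCompact
    refine exists_isLocallyClosed_singleton_of_isCompact (U := U) hU.1
      (hcU.inter_right hV.1.isClosed_compl) ⟨Vᶜ, hV.1.isClosed_compl, rfl⟩ hne
  · intro s _ t _ hs ht hne
    rcases hne with ⟨x, hx | hx⟩
    · obtain ⟨y, hy, hy'⟩ := hs ⟨x, hx⟩
      exact ⟨y, Or.inl hy, hy'⟩
    · obtain ⟨y, hy, hy'⟩ := ht ⟨x, hx⟩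
      exact ⟨y, Or.inr hy, hy'⟩


open AlgebraicGeometry Topology in
/-- In any scheme X, every nonempty locally constructible subset E contains a point x such that the
one-point set {x} is locally closed in X (equivalently x is isolated in its closure). -/
theorem result (X : Scheme.{u}) (E : Set X)
    (hE : Topology.IsLocallyConstructible E) (hne : E.Nonempty) :
    ∃ x ∈ E, IsLocallyClosed ({x} : Set X) := by
  obtain ⟨y, hy⟩ := hne
  obtain ⟨U, hyU, hU, hUE⟩ := hE y
  obtain ⟨_, ⟨W, hW : IsAffineOpen W, rfl⟩, hyW, hWU⟩ :=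
    X.isBasis_affineOpens.exists_subset_of_mem_open (mem_of_mem_nhds hyU) hU
  have hemb : IsOpenEmbedding (Set.inclusion hWU) :=
    IsOpenEmbedding.id.restrict (fun x hx => hWU hx) W.2
  have hWE : IsConstructible (Subtype.val ⁻¹' E : Set (W : Set X)) :=
    (hUE.preimage_of_isOpenEmbedding hemb :)
  have : CompactSpace (W : Set X) := isCompact_iff_compactSpace.mp hW.isCompact
  obtain ⟨x, hx, hx'⟩ := exists_isLocallyClosed_singleton_of_isConstructible hWE ⟨⟨y, hyW⟩, hy⟩
  refine ⟨x.1, hx, ?_⟩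
  have := hx'.image W.2.isOpenEmbedding_subtypeVal.isInducing
    (by rw [Subtype.range_coe]; exact W.2.isLocallyClosed)
  simpa using this

end Groth.Agent.S4711
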