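import Groth.Statements.S4713
import Groth.Agent.Lib.Helper5.LocallyClosedPoint

set_option autoImplicit false
universe u
open EGA4

namespace Groth.Agent.S4713

open AlgebraicGeometry in
/-- In a locally Noetherian scheme X, every nonempty closed subset contains a closed point of X. -/
theorem result (X : Scheme.{u}) [IsLocallyNoetherian X]
    (Z : Set X) (hZ : IsClosed Z) (hne : Z.Nonempty) : ∃ x ∈ Z, IsClosed ({x} : Set X) := by
  obtain ⟨z, hz⟩ := hne
  obtain ⟨W, hW, hzW, -⟩ := exists_isAffineOpen_mem_and_subset (x := z) (U := ⊤) trivial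
  have : CompactSpace W := isCompact_iff_compactSpace.mp hW.isCompact
  have : T0Space W := inferInstance
  have hex := IsClosed.exists_closed_singleton (X := W)
    (S := Subtype.val ⁻¹' Z) (hZ.preimage continuous_subtype_val) ⟨⟨z, hzW⟩, hz⟩
  obtain ⟨w, hwZ, hwc⟩ := hex
  obtain ⟨C, hC, hCw⟩ := isClosed_induced_iff.mp hwc
  have hlc : IsLocallyClosed ({w.1} : Set X) := by
    refine ⟨W, C, W.isOpen, hC, ?_⟩
    ext t
    constructor
    · rintro rfl
      exact ⟨w.2, (hCw ▸ Set.mem_singleton w : w ∈ Subtype.val ⁻¹' C)⟩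
    · rintro ⟨htW, htC⟩
      have : (⟨t, htW⟩ : W) ∈ ({w} : Set W) := hCw ▸ (htC : (⟨t, htW⟩ : W) ∈ Subtype.val ⁻¹' C)
      exact congrArg Subtype.val (this : (⟨t, htW⟩ : W) = w)
  by_cases hcl : IsClosed ({w.1} : Set X)
  · exact ⟨w.1, hwZ, hcl⟩
  · have : ¬ closure ({w.1} : Set X) ⊆ {w.1} := fun h => hcl (closure_subset_iff_isClosed.mp h)
    obtain ⟨y, hy, hyne⟩ := Set.not_subset.mp this
    refine ⟨y, ?_, Lib.Helper5.isClosed_singleton_of_mem_closure_of_isLocallyClosed X w.1 hlc y hy hyne⟩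
    have hwZ' : w.1 ∈ Z := hwZ
    exact (closure_minimal (Set.singleton_subset_iff.mpr hwZ') hZ) hy

end Groth.Agent.S4713
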