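import Groth.Statements.S4715
-- import your own Groth.Agent.* helpers here
import Groth.Agent.Lib.Helper5.TopDim

set_option autoImplicit false
universe u
open EGA4

namespace Groth.Agent.S4715

open AlgebraicGeometry CategoryTheory in
/-- Let f : X → Y be a quasi-finite morphism (of finite type with discrete fibres) of locally Noetherian
schemes. Then dim X is at most the dimension of the closure of f(X), which is at most dim Y. -/
theorem result {X Y : Scheme.{u}} (f : X ⟶ Y) [IsLocallyNoetherian X] [IsLocallyNoetherian Y]
    [LocallyQuasiFinite f] [LocallyOfFiniteType f] [QuasiCompact f] :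
    topologicalKrullDim X ≤ topologicalKrullDim (closure (Set.range f.base)) ∧
      topologicalKrullDim (closure (Set.range f.base)) ≤ topologicalKrullDim Y := by
  have hc : IsClosed (closure (Set.range f.base)) := isClosed_closure
  have : QuasiSober (closure (Set.range f.base)) := hc.isClosedEmbedding_subtypeVal.quasiSober
  refine ⟨?_, topologicalKrullDim_subspace_le _ _⟩
  let g : X → closure (Set.range f.base) :=
    Set.codRestrict f.base _ (fun x => subset_closure ⟨x, rfl⟩)
  apply Groth.Agent.Lib.Helper5.topologicalKrullDim_le_of_isDiscrete_fibers g
    (f.continuous.codRestrict _)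
  intro y
  have : g ⁻¹' {y} = f.base ⁻¹' {y.1} := by
    ext x
    simp [g, Subtype.ext_iff]
  rw [this]
  exact f.isDiscrete_preimage_singleton y.1

end Groth.Agent.S4715
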