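import Groth.Statements.S4717
-- import your own Groth.Agent.* helpers here
import Groth.Agent.Lib.Helper5.TopDim

set_option autoImplicit false
universe u
open EGA4

namespace Groth.Agent.S4717

open AlgebraicGeometry CategoryTheory in
/-- Let f : X → Y be a finite morphism of locally Noetherian schemes. Then dim X equals the dimension of
the image f(X); in particular if f is surjective then dim X = dim Y. -/
theorem result {X Y : Scheme.{u}} (f : X ⟶ Y) [IsLocallyNoetherian X] [IsLocallyNoetherian Y]
    [IsFinite f] :
    topologicalKrullDim X = topologicalKrullDim (Set.range f.base) ∧
      (Function.Surjective f.base → topologicalKrullDim X = topologicalKrullDim Y) := by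
  have hcl : IsClosedMap f.base := f.isClosedMap
  have hc : IsClosed (Set.range f.base) := hcl.isClosed_range
  have : QuasiSober (Set.range f.base) := hc.isClosedEmbedding_subtypeVal.quasiSober
  constructor
  · let g : X → Set.range f.base := Set.rangeFactorization f.base
    have hg : Continuous g := f.continuous.codRestrict _
    apply le_antisymm
    · apply Groth.Agent.Lib.Helper5.topologicalKrullDim_le_of_isDiscrete_fibers g hg
      intro y
      have : g ⁻¹' {y} = f.base ⁻¹' {y.1} := by
        ext x
        simp [g, Set.rangeFactorization, Subtype.ext_iff]
      rw [this]
      exact f.isDiscrete_preimage_singleton y.1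
    · apply Groth.Agent.Lib.Helper5.topologicalKrullDim_le_of_specializingMap g _
        Set.rangeFactorization_surjective
      apply IsClosedMap.specializingMap
      intro C hC
      have : g '' C = Subtype.val ⁻¹' (f.base '' C) := by
        ext y
        constructor
        · rintro ⟨x, hx, rfl⟩
          exact ⟨x, hx, rfl⟩
        · rintro ⟨x, hx, hxy⟩
          exact ⟨x, hx, Subtype.ext hxy⟩
      rw [this]
      exact (hcl C hC).preimage continuous_subtype_val
  · intro hs
    apply le_antisymm
    · exact Groth.Agent.Lib.Helper5.topologicalKrullDim_le_of_isDiscrete_fibers f.base
        f.continuous (fun y => f.isDiscrete_preimage_singleton y)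
    · exact Groth.Agent.Lib.Helper5.topologicalKrullDim_le_of_specializingMap f.base
        hcl.specializingMap hs

end Groth.Agent.S4717
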