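import Groth.Statements.S4718
import Mathlib
import Groth.Agent.Lib.Helper23.FinDD1
import Groth.Agent.Lib.Helper23.FinDD2
import Groth.Agent.Lib.Helper18.SkMod
-- import your own Groth.Agent.* helpers here

set_option autoImplicit false
universe u
open EGA4

namespace Groth.Agent.S4718
open Groth.Agent.Lib.Helper23.FinDD Groth.Agent.Lib.Helper18.SkMod Groth.Agent.Lib.Helper18.CM


/-- Let A be a Noetherian local ring, B a Noetherian ring, A → B a ring homomorphism and M a nonzero
B-module which is finite as an A-module. Then M is a Cohen–Macaulay A-module if and only if, for all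
primes q of B lying over the maximal ideal of A and belonging to the support of M, the B_q-module
M_q is Cohen–Macaulay and all these modules M_q have the same dimension. -/
theorem result (A B : Type u) [CommRing A] [CommRing B]
    [IsNoetherianRing A] [IsLocalRing A] [IsNoetherianRing B] [Algebra A B]
    (M : Type u) [AddCommGroup M] [Module B M] [Module A M] [IsScalarTower A B M] [Module.Finite A M]
    [Nontrivial M] :
    LocCoh.IsCohenMacaulayModule A M ↔
      (∀ q ∈ {q : PrimeSpectrum B | q.asIdeal.comap (algebraMap A B) = IsLocalRing.maximalIdeal A ∧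
          q ∈ Module.support B M},
        LocCoh.IsCohenMacaulayModule (Localization.AtPrime q.asIdeal) (LocalizedModule q.asIdeal.primeCompl M)) ∧
      (∀ q ∈ {q : PrimeSpectrum B | q.asIdeal.comap (algebraMap A B) = IsLocalRing.maximalIdeal A ∧
          q ∈ Module.support B M},
        ∀ q' ∈ {q : PrimeSpectrum B | q.asIdeal.comap (algebraMap A B) = IsLocalRing.maximalIdeal A ∧
          q ∈ Module.support B M},
          Module.supportDim (Localization.AtPrime q.asIdeal) (LocalizedModule q.asIdeal.primeCompl M) =
            Module.supportDim (Localization.AtPrime q'.asIdeal) (LocalizedModule q'.asIdeal.primeCompl M)) := by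
  have hdim := supportDim_eq_iSup A B M (IsLocalRing.maximalIdeal A)
  have hdep := depth_eq_iInf A B M (IsLocalRing.maximalIdeal A)
  rw [supportDim_localizedModule_maximalIdeal] at hdim
  rw [depth_localizedModule_maximalIdeal] at hdep
  haveI hfB : Module.Finite B M := Module.Finite.of_restrictScalars_finite A B M
  have hle : ∀ q ∈ {q : PrimeSpectrum B | q.asIdeal.comap (algebraMap A B) =
        IsLocalRing.maximalIdeal A ∧ q ∈ Module.support B M},
      ((LocCoh.depth (Localization.AtPrime q.asIdeal)
        (LocalizedModule q.asIdeal.primeCompl M) : ℕ∞) : WithBot ℕ∞) ≤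
      Module.supportDim (Localization.AtPrime q.asIdeal)
        (LocalizedModule q.asIdeal.primeCompl M) := by
    rintro q ⟨-, hq2⟩
    haveI : IsNoetherianRing (Localization.AtPrime q.asIdeal) :=
      IsLocalization.isNoetherianRing q.asIdeal.primeCompl _ inferInstance
    haveI : Nontrivial (LocalizedModule q.asIdeal.primeCompl M) := Module.mem_support_iff.mp hq2
    exact depth_le_supportDim _
  unfold LocCoh.IsCohenMacaulayModule
  constructor
  · intro hCM
    have key : ∀ q ∈ {q : PrimeSpectrum B | q.asIdeal.comap (algebraMap A B) =
          IsLocalRing.maximalIdeal A ∧ q ∈ Module.support B M},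
        Module.supportDim (Localization.AtPrime q.asIdeal)
          (LocalizedModule q.asIdeal.primeCompl M) = Module.supportDim A M ∧
        ((LocCoh.depth (Localization.AtPrime q.asIdeal)
          (LocalizedModule q.asIdeal.primeCompl M) : ℕ∞) : WithBot ℕ∞) = Module.supportDim A M := by
      intro q hq
      have h1 : LocCoh.depth A M ≤ LocCoh.depth (Localization.AtPrime q.asIdeal)
          (LocalizedModule q.asIdeal.primeCompl M) := by
        rw [hdep]; exact iInf₂_le q hq
      have h2 := hle q hq
      have h3 : Module.supportDim (Localization.AtPrime q.asIdeal)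
          (LocalizedModule q.asIdeal.primeCompl M) ≤ Module.supportDim A M := by
        rw [hdim]; exact le_iSup₂ (f := fun q _ => Module.supportDim
          (Localization.AtPrime q.asIdeal) (LocalizedModule q.asIdeal.primeCompl M)) q hq
      have h1' : ((LocCoh.depth A M : ℕ∞) : WithBot ℕ∞) ≤
          ((LocCoh.depth (Localization.AtPrime q.asIdeal)
            (LocalizedModule q.asIdeal.primeCompl M) : ℕ∞) : WithBot ℕ∞) :=
        WithBot.coe_le_coe.mpr h1
      rw [← hCM] at h1'
      exact ⟨le_antisymm h3 (h1'.trans h2), le_antisymm (h2.trans h3) h1'⟩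
    refine ⟨fun q hq => ?_, fun q hq q' hq' => ?_⟩
    · rw [(key q hq).1, (key q hq).2]
    · rw [(key q hq).1, (key q' hq').1]
  · rintro ⟨hCMq, heq⟩
    have hne : ∃ q₀, q₀ ∈ {q : PrimeSpectrum B | q.asIdeal.comap (algebraMap A B) =
          IsLocalRing.maximalIdeal A ∧ q ∈ Module.support B M} := by
      by_contra hcon
      push_neg at hcon
      have : Module.supportDim A M = ⊥ := by
        rw [hdim, iSup₂_eq_bot]
        intro q hq
        exact absurd hq (hcon q)
      exact Module.supportDim_ne_bot_of_nontrivial A M this
    obtain ⟨q₀, hq₀⟩ := hne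
    have hD : Module.supportDim A M = Module.supportDim (Localization.AtPrime q₀.asIdeal)
        (LocalizedModule q₀.asIdeal.primeCompl M) := by
      rw [hdim]
      apply le_antisymm
      · exact iSup₂_le fun q hq => (heq q hq q₀ hq₀).le
      · exact le_iSup₂ (f := fun q _ => Module.supportDim
          (Localization.AtPrime q.asIdeal) (LocalizedModule q.asIdeal.primeCompl M)) q₀ hq₀
    have hdq : ∀ q ∈ {q : PrimeSpectrum B | q.asIdeal.comap (algebraMap A B) =
          IsLocalRing.maximalIdeal A ∧ q ∈ Module.support B M},
        LocCoh.depth (Localization.AtPrime q.asIdeal) (LocalizedModule q.asIdeal.primeCompl M) =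
          LocCoh.depth (Localization.AtPrime q₀.asIdeal)
            (LocalizedModule q₀.asIdeal.primeCompl M) := by
      intro q hq
      have h1 := hCMq q hq
      have h2 := hCMq q₀ hq₀
      unfold LocCoh.IsCohenMacaulayModule at h1 h2
      rw [heq q hq q₀ hq₀, h2] at h1
      exact (WithBot.coe_injective h1).symm
    have hδ : LocCoh.depth A M = LocCoh.depth (Localization.AtPrime q₀.asIdeal)
        (LocalizedModule q₀.asIdeal.primeCompl M) := by
      rw [hdep]
      apply le_antisymm
      · exact iInf₂_le q₀ hq₀
      · exact le_iInf₂ fun q hq => (hdq q hq).ge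
    rw [hD, hδ]
    exact hCMq q₀ hq₀

end Groth.Agent.S4718
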