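import Groth.Statements.S4719
import Mathlib
import Groth.Agent.Lib.Helper23.FinDD1
import Groth.Agent.Lib.Helper23.FinDD2
import Groth.Agent.Lib.Helper18.CM1
-- import your own Groth.Agent.* helpers here

set_option autoImplicit false
universe u
open EGA4

namespace Groth.Agent.S4719
open Groth.Agent.Lib.Helper23.FinDD Groth.Agent.Lib.Helper18.CM

theorem le_coe_of_forall {x : WithBot ℕ∞} {y : ℕ∞}
    (h : ∀ z : ℕ∞, x = (z : WithBot ℕ∞) → z ≤ y) : x ≤ (y : WithBot ℕ∞) := by
  induction x with
  | bot => exact bot_le
  | coe x => exact WithBot.coe_le_coe.mpr (h x rfl)


/-- Let A → B be a homomorphism of Noetherian rings and M a B-module which is finite as an A-module. (i)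
If M satisfies (S_k) as an A-module, it satisfies (S_k) as a B-module. (ii) If for every two primes
q, q' of B in the support of M having the same contraction to A the modules M_q and M_{q'} have the
same dimension, then (S_k) for M as a B-module implies (S_k) for M as an A-module. (The published
statement asks the equal-dimension condition for all pairs of primes of B with the same contraction;
this row asks it only for primes in the support of M, which is all its proof uses.) -/
theorem result (k : ℕ) (A B : Type u) [CommRing A] [CommRing B] [IsNoetherianRing A]
    [IsNoetherianRing B] [Algebra A B] (M : Type u) [AddCommGroup M] [Module B M] [Module A M]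
    [IsScalarTower A B M] [Module.Finite A M] :
    (LocCoh.HasSk k A M → LocCoh.HasSk k B M) ∧
      ((∀ q ∈ Module.support B M, ∀ q' ∈ Module.support B M,
          q.asIdeal.comap (algebraMap A B) = q'.asIdeal.comap (algebraMap A B) →
            Module.supportDim (Localization.AtPrime q.asIdeal) (LocalizedModule q.asIdeal.primeCompl M) =
              Module.supportDim (Localization.AtPrime q'.asIdeal) (LocalizedModule q'.asIdeal.primeCompl M)) →
        LocCoh.HasSk k B M → LocCoh.HasSk k A M) := by
  constructor
  · intro h q hq
    by_cases hsupp : (⟨q, hq⟩ : PrimeSpectrum B) ∈ Module.support B M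
    · have hdim := supportDim_eq_iSup A B M (q.comap (algebraMap A B))
      have hdep := depth_eq_iInf A B M (q.comap (algebraMap A B))
      have hidx : (⟨q, hq⟩ : PrimeSpectrum B) ∈ {q' : PrimeSpectrum B |
          q'.asIdeal.comap (algebraMap A B) = q.comap (algebraMap A B) ∧
            q' ∈ Module.support B M} := ⟨rfl, hsupp⟩
      have h1 : LocCoh.depth (Localization.AtPrime (q.comap (algebraMap A B)))
          (LocalizedModule (q.comap (algebraMap A B)).primeCompl M) ≤
          LocCoh.depth (Localization.AtPrime q) (LocalizedModule q.primeCompl M) := by
        rw [hdep]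
        exact iInf₂_le (⟨q, hq⟩ : PrimeSpectrum B) hidx
      have h2 : Module.supportDim (Localization.AtPrime q) (LocalizedModule q.primeCompl M) ≤
          Module.supportDim (Localization.AtPrime (q.comap (algebraMap A B)))
            (LocalizedModule (q.comap (algebraMap A B)).primeCompl M) := by
        rw [hdim]
        exact le_iSup₂ (f := fun q' _ => Module.supportDim
          (Localization.AtPrime q'.asIdeal) (LocalizedModule q'.asIdeal.primeCompl M))
          (⟨q, hq⟩ : PrimeSpectrum B) hidx
      have h3 := h (q.comap (algebraMap A B))
      exact (min_le_min le_rfl h2).trans (h3.trans (WithBot.coe_le_coe.mpr h1))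
    · rw [Module.mem_support_iff, not_nontrivial_iff_subsingleton] at hsupp
      haveI := hsupp
      rw [Module.supportDim_eq_bot_of_subsingleton]
      simp
  · intro heq h p hp
    have hdim := supportDim_eq_iSup A B M p
    have hdep := depth_eq_iInf A B M p
    by_cases hne : ∃ q₀, q₀ ∈ {q : PrimeSpectrum B | q.asIdeal.comap (algebraMap A B) = p ∧
          q ∈ Module.support B M}
    · obtain ⟨q₀, hq₀⟩ := hne
      have hD : Module.supportDim (Localization.AtPrime p) (LocalizedModule p.primeCompl M) =
          Module.supportDim (Localization.AtPrime q₀.asIdeal)
            (LocalizedModule q₀.asIdeal.primeCompl M) := by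
        rw [hdim]
        apply le_antisymm
        · exact iSup₂_le fun q hq => (heq q hq.2 q₀ hq₀.2 (hq.1.trans hq₀.1.symm)).le
        · exact le_iSup₂ (f := fun q _ => Module.supportDim
            (Localization.AtPrime q.asIdeal) (LocalizedModule q.asIdeal.primeCompl M)) q₀ hq₀
      rw [hD, hdep]
      apply le_coe_of_forall
      intro z hz
      refine le_iInf₂ fun q hq => ?_
      have h1 := h q.asIdeal
      rw [heq q hq.2 q₀ hq₀.2 (hq.1.trans hq₀.1.symm), hz] at h1
      exact WithBot.coe_le_coe.mp h1
    · push_neg at hne
      have : Module.supportDim (Localization.AtPrime p) (LocalizedModule p.primeCompl M) = ⊥ := by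
        rw [hdim, iSup₂_eq_bot]
        intro q hq
        exact absurd hq (hne q)
      rw [this]
      simp

end Groth.Agent.S4719
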