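import Groth.Statements.S4723
import Groth.Agent.Lib.Helper16.S2ify2
import Groth.Agent.Lib.Helper16.S2ify3

set_option autoImplicit false
universe u
open EGA4

namespace Groth.Agent.S4723

section helpers
open EGA4

theorem result_aux (A : Type u) [CommRing A] [IsNoetherianRing A]
    (hA : (∃ (R : Type u) (_ : CommRing R), IsNoetherianRing R ∧ IsRegularRing R ∧
        ∃ f : R →+* A, Function.Surjective f) ∨
      (CAlg.IsUniversallyCatenary A ∧ CAlg.IsUniversallyJapanese A))
    (q : Ideal A) [q.IsPrime] (J : Ideal (A ⧸ q)) (hJ2 : (2 : ℕ∞) ≤ J.height) :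
    ∃ B' : Subalgebra (A ⧸ q) (FractionRing (A ⧸ q)),
      (B' : Set (FractionRing (A ⧸ q))) =
          {x | ∀ (p : Ideal (A ⧸ q)) [p.IsPrime], ¬ J ≤ p →
            ∃ s : A ⧸ q, s ∉ p ∧ ∃ a : A ⧸ q,
              algebraMap (A ⧸ q) (FractionRing (A ⧸ q)) a = algebraMap (A ⧸ q) (FractionRing (A ⧸ q)) s * x} ∧
        Module.Finite (A ⧸ q) B' := by
  classical
  haveI : IsDomain (A ⧸ q) := Ideal.Quotient.isDomain q
  refine ⟨Groth.Agent.Lib.Helper16.S2ify.secAlg (A ⧸ q) (FractionRing (A ⧸ q)) J, rfl, ?_⟩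
  rcases hA with ⟨R, _, _, hRreg, f, hf⟩ | ⟨hUC, hUJ⟩
  · haveI := hRreg
    exact Groth.Agent.Lib.Helper16.S2ify.finite_secAlg_of_regular (A ⧸ q) (FractionRing (A ⧸ q)) J R
      ((Ideal.Quotient.mk q).comp f) (Ideal.Quotient.mk_surjective.comp hf) hJ2
  · have hUCB : CAlg.IsUniversallyCatenary (A ⧸ q) := by
      refine ⟨inferInstance, fun S _ _ hS => ?_⟩
      letI : Algebra A S := ((algebraMap (A ⧸ q) S).comp (algebraMap A (A ⧸ q))).toAlgebra
      haveI : IsScalarTower A (A ⧸ q) S := IsScalarTower.of_algebraMap_eq (fun _ => rfl)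
      have hft : Algebra.FiniteType A (A ⧸ q) := inferInstance
      exact hUC.2 S (Algebra.FiniteType.trans hft hS)
    have hN2 : CAlg.IsN2 (A ⧸ q) := hUJ (A ⧸ q) (inferInstance : Algebra.FiniteType A (A ⧸ q))
    have hfin : Module.Finite (A ⧸ q) (integralClosure (A ⧸ q) (FractionRing (A ⧸ q))) :=
      hN2 (FractionRing (A ⧸ q)) inferInstance
    exact Groth.Agent.Lib.Helper16.S2ify.finite_secAlg_of_univCat (A ⧸ q) (FractionRing (A ⧸ q)) J
      hUCB hfin hJ2

end helpers

/-- Let A be a Noetherian ring which is either a quotient of a regular Noetherian ring or universally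
catenary and universally Japanese. Then for every prime q of A, writing B = A/q with fraction field
K, and every ideal J of B of height at least 2, the subring of K consisting of the elements lying in
B_p for every prime p of B not containing J (the ring of sections of the structure sheaf of Spec B
over the open complement of V(J)) is a finite B-algebra (some B-subalgebra of K with exactly this
underlying set is a finitely generated B-module). -/
theorem result (A : Type u) [CommRing A] [IsNoetherianRing A]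
    (hA : (∃ (R : Type u) (_ : CommRing R), IsNoetherianRing R ∧ IsRegularRing R ∧
        ∃ f : R →+* A, Function.Surjective f) ∨
      (CAlg.IsUniversallyCatenary A ∧ CAlg.IsUniversallyJapanese A))
    (q : Ideal A) [q.IsPrime] (J : Ideal (A ⧸ q)) (hJ2 : (2 : ℕ∞) ≤ J.height) :
    ∃ B' : Subalgebra (A ⧸ q) (FractionRing (A ⧸ q)),
      (B' : Set (FractionRing (A ⧸ q))) =
          {x | ∀ (p : Ideal (A ⧸ q)) [p.IsPrime], ¬ J ≤ p →
            ∃ s : A ⧸ q, s ∉ p ∧ ∃ a : A ⧸ q,
              algebraMap (A ⧸ q) (FractionRing (A ⧸ q)) a = algebraMap (A ⧸ q) (FractionRing (A ⧸ q)) s * x} ∧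
        Module.Finite (A ⧸ q) B' := by
  exact result_aux A hA q J hJ2

end Groth.Agent.S4723
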