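import Groth.Statements.S4728
import Mathlib
import Groth.Agent.Lib.Helper9.NormalFF2

set_option autoImplicit false
universe u
open EGA4

namespace Groth.Agent.S4728
open TensorProduct IsLocalRing

theorem main (A A' : Type u) [CommRing A] [CommRing A']
    [IsNoetherianRing A] [IsNoetherianRing A'] [IsLocalRing A] [IsLocalRing A'] [IsDomain A]
    (hA : ringKrullDim A = 1) [Algebra A A'] [IsLocalHom (algebraMap A A')] (h : EGA4.IsNormalHom A A') :
    ((IsLocalRing.maximalIdeal A).map (algebraMap A A')).IsPrime ∧
      ((IsLocalRing.maximalIdeal A).map (algebraMap A A')).height = 1 := by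
  haveI := h.1
  haveI : Module.FaithfullyFlat A A' := Module.FaithfullyFlat.of_flat_of_isLocalHom
  set m := maximalIdeal A with hm
  set P := m.map (algebraMap A A') with hP
  have hle : P ≤ maximalIdeal A' := IsLocalRing.map_maximalIdeal_le (algebraMap A A')
  have hne : P ≠ ⊤ := fun htop => (maximalIdeal.isMaximal A').ne_top (top_le_iff.mp (htop ▸ hle))
  -- the closed fibre
  have hF : EGA4.IsNormalRing (m.Fiber A') :=
    Groth.Agent.Lib.Helper18.FormFib.isNormalRing_of_isGeomNormal (h.2 m)
  let e0 : (A ⧸ m) ≃ₐ[A] m.ResidueField :=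
    AlgEquiv.ofBijective (IsScalarTower.toAlgHom A (A ⧸ m) m.ResidueField)
      m.bijective_algebraMap_quotient_residueField
  let e1 : (A' ⧸ P) ≃+* (A ⧸ m) ⊗[A] A' :=
    (Algebra.TensorProduct.quotIdealMapEquivQuotTensor A' m).toRingEquiv
  let e2 : (A ⧸ m) ⊗[A] A' ≃+* m.Fiber A' :=
    (Algebra.TensorProduct.congr e0 (AlgEquiv.refl : A' ≃ₐ[A] A')).toRingEquiv
  have hQn : EGA4.IsNormalRing (A' ⧸ P) :=
    Groth.Agent.Lib.Helper18.FormFib.isNormalRing_of_ringEquiv (e1.trans e2).symm hF
  haveI : Nontrivial (A' ⧸ P) := Ideal.Quotient.nontrivial_iff.mpr hne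
  haveI : IsLocalRing (A' ⧸ P) :=
    IsLocalRing.of_surjective' (Ideal.Quotient.mk P) Ideal.Quotient.mk_surjective
  haveI hdom : IsDomain (A' ⧸ P) :=
    Groth.Agent.Lib.Helper9.NormalFF.isDomain_of_isLocalRing_of_isNormalRing _ hQn
  haveI hPprime : P.IsPrime := (Ideal.Quotient.isDomain_iff_prime P).mp hdom
  refine ⟨hPprime, ?_⟩
  haveI : P.LiesOver m := ⟨by
    rw [Ideal.under_def, hP, Ideal.comap_map_eq_self_of_faithfullyFlat]⟩
  haveI : Algebra.HasGoingDown A A' := inferInstance
  have h1 := Ideal.height_eq_height_add_of_liesOver_of_hasGoingDown m P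
  have h2 : (P.map (Ideal.Quotient.mk (m.map (algebraMap A A')))) = ⊥ := by
    rw [← hP, Ideal.map_quotient_self]
  rw [h2, Ideal.height_bot, add_zero] at h1
  rw [h1]
  have h3 : (m.height : WithBot ℕ∞) = ringKrullDim A :=
    IsLocalRing.maximalIdeal_height_eq_ringKrullDim
  rw [hA] at h3
  exact_mod_cast h3


/-- Let A be a Noetherian local domain of dimension 1 with maximal ideal m, A' a Noetherian local ring
and A → A' a local homomorphism which is normal (flat, with geometrically normal fibres). Then the
ideal m A' of A' is prime and the local ring of A' at m A' has dimension 1. (The remaining clauses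
of the published item, describing A' inside its total ring of fractions, are not restated.) -/
theorem result (A A' : Type u) [CommRing A] [CommRing A']
    [IsNoetherianRing A] [IsNoetherianRing A'] [IsLocalRing A] [IsLocalRing A'] [IsDomain A]
    (hA : ringKrullDim A = 1) [Algebra A A'] [IsLocalHom (algebraMap A A')] (h : EGA4.IsNormalHom A A') :
    ((IsLocalRing.maximalIdeal A).map (algebraMap A A')).IsPrime ∧
      ((IsLocalRing.maximalIdeal A).map (algebraMap A A')).height = 1 := by
  exact main A A' hA h

end Groth.Agent.S4728
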