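import Groth.Statements.S4729
import Mathlib
import Groth.Agent.Lib.Helper18.QGor7

set_option autoImplicit false
universe u
open EGA4

namespace Groth.Agent.S4729

/-- Let A be a commutative ring, M a finite A-module and p ⊆ q prime ideals of A (so that p is a
generization of q). Then the dimension of the A_p-module M_p is at most the dimension of the
A_q-module M_q. -/
theorem result (A : Type u) [CommRing A] (M : Type u) [AddCommGroup M] [Module A M]
    [Module.Finite A M] (p q : Ideal A) [p.IsPrime] [q.IsPrime] (hpq : p ≤ q) :
    Module.supportDim (Localization.AtPrime p) (LocalizedModule p.primeCompl M) ≤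
      Module.supportDim (Localization.AtPrime q) (LocalizedModule q.primeCompl M) := by
  unfold Module.supportDim
  have hdisj : ∀ Q : PrimeSpectrum (Localization.AtPrime p),
      Disjoint (q.primeCompl : Set A)
        ((PrimeSpectrum.comap (algebraMap A (Localization.AtPrime p)) Q).asIdeal : Set A) := by
    intro Q
    rw [Set.disjoint_left]
    intro x hx hxQ
    apply hx
    apply hpq
    by_contra hxp
    have hu : IsUnit (algebraMap A (Localization.AtPrime p) x) :=
      IsLocalization.map_units (Localization.AtPrime p) (⟨x, hxp⟩ : p.primeCompl)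
    exact Q.isPrime.ne_top (Ideal.eq_top_of_isUnit_mem _ hxQ hu)
  have hcm : ∀ Q : PrimeSpectrum (Localization.AtPrime p),
      Ideal.comap (algebraMap A (Localization.AtPrime q))
        (Ideal.map (algebraMap A (Localization.AtPrime q))
          (PrimeSpectrum.comap (algebraMap A (Localization.AtPrime p)) Q).asIdeal) =
      (PrimeSpectrum.comap (algebraMap A (Localization.AtPrime p)) Q).asIdeal := fun Q =>
    IsLocalization.under_map_of_isPrime_disjoint q.primeCompl (Localization.AtPrime q)
      (PrimeSpectrum.comap (algebraMap A (Localization.AtPrime p)) Q).isPrime (hdisj Q)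
  let g : PrimeSpectrum (Localization.AtPrime p) → PrimeSpectrum (Localization.AtPrime q) :=
    fun Q => ⟨Ideal.map (algebraMap A (Localization.AtPrime q))
        (PrimeSpectrum.comap (algebraMap A (Localization.AtPrime p)) Q).asIdeal,
      IsLocalization.isPrime_of_isPrime_disjoint q.primeCompl (Localization.AtPrime q) _
        (PrimeSpectrum.comap (algebraMap A (Localization.AtPrime p)) Q).isPrime (hdisj Q)⟩
  have hg : ∀ Q, PrimeSpectrum.comap (algebraMap A (Localization.AtPrime q)) (g Q) =
      PrimeSpectrum.comap (algebraMap A (Localization.AtPrime p)) Q := by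
    intro Q
    ext1
    exact hcm Q
  let f : Module.support (Localization.AtPrime p) (LocalizedModule p.primeCompl M) →
      Module.support (Localization.AtPrime q) (LocalizedModule q.primeCompl M) := fun Q =>
    ⟨g Q.1, by
      rw [Groth.Agent.Lib.Helper18.QGor.mem_support_localizedModule_iff, hg]
      exact (Groth.Agent.Lib.Helper18.QGor.mem_support_localizedModule_iff p M Q.1).mp Q.2⟩
  refine Order.krullDim_le_of_strictMono f ?_
  intro Q₁ Q₂ hlt
  have hle : Q₁.1.asIdeal ≤ Q₂.1.asIdeal := (PrimeSpectrum.asIdeal_le_asIdeal _ _).mpr hlt.le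
  refine lt_of_le_of_ne ?_ ?_
  · change (g Q₁.1).asIdeal ≤ (g Q₂.1).asIdeal
    exact Ideal.map_mono (Ideal.comap_mono hle)
  · intro heq
    have h1 : g Q₁.1 = g Q₂.1 := congrArg Subtype.val heq
    have h2 : PrimeSpectrum.comap (algebraMap A (Localization.AtPrime p)) Q₁.1 =
        PrimeSpectrum.comap (algebraMap A (Localization.AtPrime p)) Q₂.1 := by
      rw [← hg, ← hg, h1]
    have h3 : Q₁.1 = Q₂.1 :=
      PrimeSpectrum.localization_comap_injective (Localization.AtPrime p) p.primeCompl h2
    exact hlt.ne (Subtype.ext h3)

end Groth.Agent.S4729
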