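import Groth.Statements.S4730
import Mathlib.RingTheory.KrullDimension.Polynomial
import Mathlib.RingTheory.KrullDimension.Field
import Mathlib.RingTheory.AlgebraicIndependent.TranscendenceBasis
import Mathlib.RingTheory.Polynomial.Quotient
import Mathlib.RingTheory.Localization.Algebra

set_option autoImplicit false
universe u
open EGA4

namespace Groth.Agent.S4730


open Polynomial in
attribute [local instance] Polynomial.algebra Polynomial.isLocalization in
theorem height_le_one_of_comap_C_eq_bot {D : Type*} [CommRing D] [IsDomain D]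
    (Q : Ideal D[X]) [hQ : Q.IsPrime] (h : Q.comap C = ⊥) : Q.height ≤ 1 := by
  let K := FractionRing D
  have disj : Disjoint ((((nonZeroDivisors D).map (C : D →+* D[X]) : Submonoid D[X])) : Set D[X])
      (Q : Set D[X]) := by
    rw [Set.disjoint_left]
    rintro _ ⟨d, hd, rfl⟩ hdQ
    have : d ∈ Q.comap C := hdQ
    rw [h] at this
    exact nonZeroDivisors.ne_zero hd (by simpa using this)
  have h1 : (Q.map (algebraMap D[X] K[X])).height = Q.height :=
    IsLocalization.height_map_of_disjoint ((nonZeroDivisors D).map (C : D →+* D[X])) Q disj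
  have hprime : (Q.map (algebraMap D[X] K[X])).IsPrime :=
    IsLocalization.isPrime_of_isPrime_disjoint ((nonZeroDivisors D).map (C : D →+* D[X])) K[X] Q hQ disj
  have h2 := Ideal.height_le_ringKrullDim_of_ne_top hprime.ne_top
  rw [Polynomial.ringKrullDim_of_isNoetherianRing, ringKrullDim_eq_zero_of_field, zero_add] at h2
  rw [← h1]
  exact_mod_cast h2

open Polynomial in
theorem aux (A : Type u) [CommRing A] [IsNoetherianRing A]
    (p : Ideal A) [p.IsPrime] (q : Ideal A[X]) [q.IsPrime] [q.LiesOver p] :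
    (p.height : Cardinal.{u}) + 1 = (q.height : Cardinal.{u}) + Algebra.trdeg (A ⧸ p) (A[X] ⧸ q) := by
  have hgd := Ideal.height_eq_height_add_of_liesOver_of_hasGoingDown p q
  have hover : q.comap C = p := (Ideal.LiesOver.over (p := p) (P := q)).symm
  have hIq : p.map (C : A →+* A[X]) ≤ q := by
    rw [Ideal.map_le_iff_le_comap, hover]
  set π : A[X] →+* (A ⧸ p)[X] := mapRingHom (Ideal.Quotient.mk p) with hπ
  have hπsurj : Function.Surjective π := map_surjective _ Ideal.Quotient.mk_surjective
  have hker : RingHom.ker π = p.map (C : A →+* A[X]) := by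
    rw [hπ, Polynomial.ker_mapRingHom, Ideal.mk_ker]
  set Q : Ideal (A ⧸ p)[X] := q.map π with hQdef
  have hQprime : Q.IsPrime := Ideal.map_isPrime_of_surjective hπsurj (by rw [hker]; exact hIq)
  have hcomapQ : Q.comap π = q := by
    rw [hQdef, Ideal.comap_map_of_surjective π hπsurj, ← RingHom.ker_eq_comap_bot, hker]
    exact sup_eq_left.mpr hIq
  let e : (A[X] ⧸ p.map (C : A →+* A[X])) ≃+* (A ⧸ p)[X] :=
    (Ideal.polynomialQuotientEquivQuotientPolynomial p).symm
  have hcomp : (e : (A[X] ⧸ p.map (C : A →+* A[X])) →+* (A ⧸ p)[X]).comp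
      (Ideal.Quotient.mk (p.map (C : A →+* A[X]))) = π := by
    refine RingHom.ext fun f => ?_
    simp only [RingHom.comp_apply, RingEquiv.coe_toRingHom]
    exact Ideal.polynomialQuotientEquivQuotientPolynomial_symm_mk p f
  have hQeq : (q.map (Ideal.Quotient.mk (p.map (algebraMap A A[X])))).map
      (e : (A[X] ⧸ p.map (C : A →+* A[X])) →+* (A ⧸ p)[X]) = Q := by
    rw [hQdef, ← hcomp, ← Ideal.map_map]
    rfl
  have hheight : (q.map (Ideal.Quotient.mk (p.map (algebraMap A A[X])))).height = Q.height := by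
    rw [← hQeq]
    exact (RingEquiv.height_map e _).symm
  rw [hheight] at hgd
  have hQC : Q.comap C = ⊥ := by
    rw [eq_bot_iff]
    intro d hd
    obtain ⟨a, rfl⟩ := Ideal.Quotient.mk_surjective d
    have h1 : π (C a) ∈ Q := by
      have : π (C a) = C (Ideal.Quotient.mk p a) := by simp [hπ]
      rw [this]; exact hd
    have h2 : C a ∈ Q.comap π := h1
    rw [hcomapQ] at h2
    have h3 : a ∈ q.comap C := h2
    rw [hover] at h3
    rw [Ideal.mem_bot, Ideal.Quotient.eq_zero_iff_mem]
    exact h3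
  suffices hsuff : (Q.height : Cardinal.{u}) + Algebra.trdeg (A ⧸ p) (A[X] ⧸ q) = 1 by
    rw [hgd, Cardinal.ofENat_add, add_assoc, hsuff]
  by_cases hQbot : Q = ⊥
  · have hq : q = p.map (C : A →+* A[X]) := by
      rw [← hcomapQ, hQbot, ← RingHom.ker_eq_comap_bot, hker]
    have hQh : Q.height = 0 := by
      rw [hQbot]; exact Ideal.height_bot
    let e' : (A[X] ⧸ q) ≃+* (A ⧸ p)[X] := (Ideal.quotEquivOfEq hq).trans e
    let e'' : (A[X] ⧸ q) ≃ₐ[A ⧸ p] (A ⧸ p)[X] := AlgEquiv.ofRingEquiv (f := e') (by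
      intro r
      obtain ⟨a, rfl⟩ := Ideal.Quotient.mk_surjective r
      have : algebraMap (A ⧸ p) (A[X] ⧸ q) (Ideal.Quotient.mk p a) =
          Ideal.Quotient.mk q (C a) := rfl
      rw [this]
      simp [e', e])
    rw [hQh, e''.trdeg_eq, Polynomial.trdeg_of_isDomain]
    simp
  · have hQh : Q.height = 1 := by
      refine le_antisymm (height_le_one_of_comap_C_eq_bot Q hQC) ?_
      rw [Order.one_le_iff_pos, pos_iff_ne_zero, Ne, Ideal.height_eq_zero_iff_eq_bot]
      exact hQbot
    obtain ⟨g, hgQ, hg0⟩ : ∃ g ∈ Q, g ≠ 0 := by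
      by_contra hcon
      push Not at hcon
      exact hQbot (eq_bot_iff.mpr fun g hg => (Ideal.mem_bot).mpr (hcon g hg))
    obtain ⟨f, hfq, rfl⟩ := (Ideal.mem_map_iff_of_surjective π hπsurj).mp hgQ
    have hcompalg : (algebraMap (A ⧸ p) (A[X] ⧸ q)).comp (Ideal.Quotient.mk p) =
        (Ideal.Quotient.mk q).comp C := rfl
    have haeval : ∀ h : A[X], aeval (Ideal.Quotient.mk q X) (π h) = Ideal.Quotient.mk q h := by
      intro h
      rw [hπ, coe_mapRingHom, aeval_def, eval₂_map, hcompalg, ← Polynomial.hom_eval₂, eval₂_C_X]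
    have halg : IsAlgebraic (A ⧸ p) (Ideal.Quotient.mk q X) := by
      refine ⟨π f, hg0, ?_⟩
      rw [haeval, Ideal.Quotient.eq_zero_iff_mem]
      exact hfq
    have hadj : Algebra.adjoin (A ⧸ p) {Ideal.Quotient.mk q (X : A[X])} = ⊤ := by
      rw [eq_top_iff]
      intro y _
      obtain ⟨h, rfl⟩ := Ideal.Quotient.mk_surjective y
      rw [Algebra.adjoin_singleton_eq_range_aeval]
      exact ⟨π h, haeval h⟩
    have : Algebra.IsAlgebraic (A ⧸ p) (A[X] ⧸ q) := by
      refine ⟨fun y => ?_⟩
      have := (Algebra.isAlgebraic_adjoin_singleton_iff (R := A ⧸ p)).mpr halg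
      exact this y (by rw [hadj]; trivial)
    rw [hQh, _root_.trdeg_eq_zero]
    simp

open Polynomial in
/-- Let A be a Noetherian ring, p a prime ideal of A and q a prime ideal of the polynomial ring A[T]
lying over p. Then ht(p) + 1 = ht(q) + deg.tr_{κ(p)} κ(q), the transcendence degree being that of
the domain A[T]/q over the domain A/p. -/
theorem result (A : Type u) [CommRing A] [IsNoetherianRing A]
    (p : Ideal A) [p.IsPrime] (q : Ideal A[X]) [q.IsPrime] [q.LiesOver p] :
    (p.height : Cardinal.{u}) + 1 = (q.height : Cardinal.{u}) + Algebra.trdeg (A ⧸ p) (A[X] ⧸ q) := by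
  exact aux A p q

end Groth.Agent.S4730
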