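import Groth.Statements.S4731
import Mathlib

set_option autoImplicit false
universe u
open EGA4

namespace Groth.Agent.S4731

theorem isNoetherian_quotient_smul_top {S : Type*} [CommRing S] (c : Ideal S)
    [IsNoetherianRing (S ⧸ c)] (M : Type*) [AddCommGroup M] [Module S M] [Module.Finite S M] :
    IsNoetherian S (M ⧸ c • (⊤ : Submodule S M)) := by
  have hT := Module.isTorsionBySet_quotient_ideal_smul M c
  have hfin : Module.Finite (S ⧸ c) (M ⧸ c • (⊤ : Submodule S M)) :=
    Module.Finite.of_restrictScalars_finite S (S ⧸ c) _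
  have hN : IsNoetherian (S ⧸ c) (M ⧸ c • (⊤ : Submodule S M)) :=
    isNoetherian_of_isNoetherianRing_of_finite _ _
  exact (LinearMap.isNoetherian_iff_of_bijective hT.semilinearMap Function.bijective_id).mpr hN


/-- Let S → R be an injective homomorphism of commutative rings making R a finite S-module, with R
Noetherian; let c be the conductor of S in R, the ideal of those s in S with s R contained in (the
image of) S. If S/c is Noetherian, then every increasing sequence of ideals of S contained in c is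
eventually constant. -/
theorem result (S R : Type u) [CommRing S] [CommRing R] [Algebra S R]
    [FaithfulSMul S R] [IsNoetherianRing R] [Module.Finite S R] (c : Ideal S)
    (hc : ∀ s : S, s ∈ c ↔ ∀ r : R, ∃ s' : S, algebraMap S R s' = algebraMap S R s * r)
    [IsNoetherianRing (S ⧸ c)] (a : ℕ →o Ideal S) (ha : ∀ n, a n ≤ c) :
    ∃ N : ℕ, ∀ n, N ≤ n → a n = a N := by
  classical
  have hinj : Function.Injective (algebraMap S R) := FaithfulSMul.algebraMap_injective S R
  -- extended ideals stabilize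
  let J : ℕ →o Ideal R := ⟨fun n => (a n).map (algebraMap S R),
    fun m n hmn => Ideal.map_mono (a.monotone hmn)⟩
  obtain ⟨N₁, hN₁⟩ := monotone_stabilizes_iff_noetherian.mpr
    (inferInstance : IsNoetherian R R) J
  -- the S-module J N₁
  obtain ⟨Js, hJs⟩ : ∃ Js : Submodule S R, Js = (J N₁).restrictScalars S := ⟨_, rfl⟩
  have hmemJs : ∀ x : R, x ∈ Js ↔ x ∈ J N₁ := fun x => by rw [hJs]; rfl
  have hfinJ : Module.Finite R (J N₁) := Module.IsNoetherian.finite R _
  have hfinJs : Module.Finite S Js := by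
    rw [hJs]
    have : Module.Finite R ((J N₁).restrictScalars S) :=
      Module.Finite.equiv (Submodule.restrictScalarsEquiv S R R (J N₁)).symm
    exact Module.Finite.trans R ((J N₁).restrictScalars S)
  have hNoeth : IsNoetherian S (Js ⧸ c • (⊤ : Submodule S Js)) :=
    isNoetherian_quotient_smul_top c Js
  -- key inclusions
  have hA_le : ∀ n, N₁ ≤ n → ∀ s ∈ a n, algebraMap S R s ∈ Js := by
    intro n hn s hs
    rw [hmemJs, hN₁ n hn]
    exact Ideal.mem_map_of_mem _ hs
  have hc_smul : ∀ n, N₁ ≤ n → ∀ x ∈ Js, ∀ s ∈ c, ∃ t ∈ a n, algebraMap S R t = s • x := by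
    intro n hn x hx
    rw [hmemJs, hN₁ n hn] at hx
    change x ∈ Ideal.span (algebraMap S R '' (a n : Set S)) at hx
    induction hx using Submodule.span_induction with
    | mem y hy =>
      intro s hs
      obtain ⟨t, ht, rfl⟩ := hy
      exact ⟨s * t, Ideal.mul_mem_left _ _ ht, by rw [map_mul, Algebra.smul_def]⟩
    | zero => intro s hs; exact ⟨0, Ideal.zero_mem _, by simp⟩
    | add y z _ _ hy hz =>
      intro s hs
      obtain ⟨t₁, h₁, e₁⟩ := hy s hs
      obtain ⟨t₂, h₂, e₂⟩ := hz s hs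
      exact ⟨t₁ + t₂, Ideal.add_mem _ h₁ h₂, by rw [map_add, e₁, e₂, smul_add]⟩
    | smul r y _ hy =>
      intro s hs
      obtain ⟨s', hs'⟩ := (hc s).mp hs r
      have hs'c : s' ∈ c := by
        rw [hc]
        intro r'
        obtain ⟨s'', hs''⟩ := (hc s).mp hs (r * r')
        exact ⟨s'', by rw [hs'', hs', mul_assoc]⟩
      obtain ⟨t, ht, e⟩ := hy s' hs'c
      refine ⟨t, ht, ?_⟩
      rw [e, Algebra.smul_def, Algebra.smul_def, hs', smul_eq_mul, mul_assoc]
  -- images in the Noetherian quotient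
  let B : ℕ →o Submodule S (Js ⧸ c • (⊤ : Submodule S Js)) :=
    ⟨fun n => Submodule.map (c • (⊤ : Submodule S Js)).mkQ
      (Submodule.comap Js.subtype (Submodule.map (Algebra.linearMap S R) (a n))),
      fun m n hmn => Submodule.map_mono (Submodule.comap_mono
        (Submodule.map_mono (a.monotone hmn)))⟩
  obtain ⟨N₂, hN₂⟩ := monotone_stabilizes_iff_noetherian.mpr hNoeth B
  refine ⟨max N₁ N₂, fun n hn => ?_⟩
  have hn1 : N₁ ≤ n := le_trans (le_max_left _ _) hn
  have hn2 : N₂ ≤ n := le_trans (le_max_right _ _) hn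
  refine le_antisymm ?_ (a.monotone hn)
  intro s hs
  -- the class of ι s in B n = B (max N₁ N₂)
  have h1 : (c • (⊤ : Submodule S Js)).mkQ ⟨algebraMap S R s, hA_le n hn1 s hs⟩ ∈ B n :=
    ⟨⟨algebraMap S R s, hA_le n hn1 s hs⟩, ⟨s, hs, rfl⟩, rfl⟩
  have hBeq : B n = B (max N₁ N₂) := by
    rw [← hN₂ n hn2, ← hN₂ (max N₁ N₂) (le_max_right _ _)]
  rw [hBeq] at h1
  obtain ⟨⟨y, hyJ⟩, ⟨t, ht, hty⟩, hyq⟩ := h1
  have hty' : algebraMap S R t = y := hty
  -- difference lies in c • ⊤
  have hdiff : (⟨y, hyJ⟩ : Js) - ⟨algebraMap S R s, hA_le n hn1 s hs⟩ ∈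
      c • (⊤ : Submodule S Js) := by
    rw [← Submodule.Quotient.eq]
    exact hyq
  -- elements of c • ⊤ come from a (max N₁ N₂)
  have hkey : ∀ z ∈ c • (⊤ : Submodule S Js), ∃ t ∈ a (max N₁ N₂), algebraMap S R t = (z : R) := by
    intro z hz
    induction hz using Submodule.smul_induction_on' with
    | smul r hr w _ =>
      obtain ⟨t, ht, e⟩ := hc_smul (max N₁ N₂) (le_max_left _ _) w.1 w.2 r hr
      exact ⟨t, ht, by rw [e]; rfl⟩
    | add z₁ _ z₂ _ h₁ h₂ =>
      obtain ⟨t₁, ht₁, e₁⟩ := h₁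
      obtain ⟨t₂, ht₂, e₂⟩ := h₂
      exact ⟨t₁ + t₂, Ideal.add_mem _ ht₁ ht₂, by rw [map_add, e₁, e₂]; rfl⟩
  obtain ⟨t', ht', e'⟩ := hkey _ hdiff
  have : s = t - t' := by
    apply hinj
    rw [map_sub, e', hty']
    simp
  rw [this]
  exact Ideal.sub_mem _ ht ht'

end Groth.Agent.S4731
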