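import Groth.Statements.S4732
-- import your own Groth.Agent.* helpers here
import Mathlib.RingTheory.RegularLocalRing.Polynomial
import Mathlib.AlgebraicGeometry.Morphisms.ClosedImmersion
import Mathlib.AlgebraicGeometry.Stalk

set_option autoImplicit false
universe u
open EGA4

namespace Groth.Agent.S4732

open AlgebraicGeometry CategoryTheory in
theorem isRegularLocalRing_stalk_Spec (R : CommRingCat.{u}) [IsRegularRing R] (y : Spec R) :
    IsRegularLocalRing ((Spec R).presheaf.stalk y) :=
  IsRegularLocalRing.of_ringEquiv (StructureSheaf.stalkIso R y).toRingEquiv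


open AlgebraicGeometry CategoryTheory in
/-- Let k be a field, X a scheme locally of finite type over k and x a point of X. Then there are an
open neighbourhood U of x, a k-scheme Y all of whose local rings are regular, and an immersion U → Y
compatible with the structure morphisms to Spec k. -/
theorem result (k : Type u) [Field k] {X : Scheme.{u}}
    (f : X ⟶ Spec (CommRingCat.of k)) [LocallyOfFiniteType f] (x : X) :
    ∃ (U : X.Opens) (_ : x ∈ U) (Y : Scheme.{u}) (g : Y ⟶ Spec (CommRingCat.of k)) (i : (U : Scheme.{u}) ⟶ Y),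
      IsImmersion i ∧ i ≫ g = U.ι ≫ f ∧ ∀ y : Y, IsRegularLocalRing (Y.presheaf.stalk y) := by
  obtain ⟨U, hU, hxU⟩ : ∃ U : X.Opens, IsAffineOpen U ∧ x ∈ U := by
    obtain ⟨_, ⟨U, hU : IsAffineOpen U, rfl⟩, hxU, -⟩ :=
      X.isBasis_affineOpens.exists_subset_of_mem_open (Set.mem_univ x) isOpen_univ
    exact ⟨U, hU, hxU⟩
  have : IsAffine U.toScheme := hU
  let h : U.toScheme ⟶ Spec (CommRingCat.of k) := U.ι ≫ f
  let φ : CommRingCat.of k ⟶ Γ(U.toScheme, ⊤) := (Scheme.ΓSpecIso (CommRingCat.of k)).inv ≫ h.appTop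
  have hφ : h = U.toScheme.isoSpec.hom ≫ Spec.map φ := by
    simp only [φ, Spec.map_comp]
    rw [← Scheme.isoSpec_Spec_inv, Scheme.isoSpec_hom_naturality_assoc, Iso.hom_inv_id,
      Category.comp_id]
  have hft : φ.hom.FiniteType := by
    have : LocallyOfFiniteType (Spec.map φ) := by
      have : Spec.map φ = U.toScheme.isoSpec.inv ≫ h := by rw [hφ, Iso.inv_hom_id_assoc]
      rw [this]
      infer_instance
    exact (HasRingHomProperty.Spec_iff (P := @LocallyOfFiniteType)).mp this
  let _ := φ.hom.toAlgebra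
  obtain ⟨n, π, hπ⟩ := Algebra.FiniteType.iff_quotient_mvPolynomial''.mp hft
  let πc : CommRingCat.of (MvPolynomial (Fin n) k) ⟶ Γ(U.toScheme, ⊤) :=
    CommRingCat.ofHom (π.toRingHom : MvPolynomial (Fin n) k →+* Γ(U.toScheme, ⊤))
  let Cc : CommRingCat.of k ⟶ CommRingCat.of (MvPolynomial (Fin n) k) :=
    CommRingCat.ofHom (MvPolynomial.C : k →+* MvPolynomial (Fin n) k)
  have hcl : IsClosedImmersion (Spec.map πc) := IsClosedImmersion.spec_of_surjective πc hπ
  have hcomp : Cc ≫ πc = φ := by
    ext a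
    exact π.commutes a
  refine ⟨U, hxU, Spec (CommRingCat.of (MvPolynomial (Fin n) k)), Spec.map Cc,
    U.toScheme.isoSpec.hom ≫ Spec.map πc, ?_, ?_, ?_⟩
  · infer_instance
  · rw [Category.assoc, ← Spec.map_comp, hcomp]
    exact hφ.symm
  · intro y
    exact isRegularLocalRing_stalk_Spec _ y

end Groth.Agent.S4732
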