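import Groth.Statements.S4733
import Mathlib
import Groth.Agent.Lib.Helper23.FieldSep3
import Groth.Agent.Lib.Helper18.SerreReg2
import Groth.Agent.Lib.Helper18.FlatLocal
-- import your own Groth.Agent.* helpers here

set_option autoImplicit false
universe u
open EGA4

namespace Groth.Agent.S4733

open Groth.Agent.Lib.Helper23.FieldSep

open TensorProduct in

open TensorProduct in
/-- For the property 'regular' (affine form): let k be a field, S a Noetherian k-algebra and k' an
extension field of k such that S is of finite type over k or k' is essentially of finite type over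
k; let q' be a prime of S ⊗_k k' and q its contraction to S. If (S ⊗_k k')_{q'} is a regular local
ring then so is S_q; conversely, if k' is separable over k (geometrically reduced) and S_q is
regular, then (S ⊗_k k')_{q'} is regular. -/
theorem result (k S k' : Type u) [Field k] [CommRing S] [Algebra k S]
    [IsNoetherianRing S] [Field k'] [Algebra k k'] (hft : Algebra.FiniteType k S ∨ Algebra.EssFiniteType k k')
    [IsNoetherianRing (S ⊗[k] k')] (q' : Ideal (S ⊗[k] k')) [q'.IsPrime] :
    (IsRegularLocalRing (Localization.AtPrime q') →
        IsRegularLocalRing (Localization.AtPrime (q'.comap (algebraMap S (S ⊗[k] k'))))) ∧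
      (Algebra.IsGeometricallyReduced k k' →
        IsRegularLocalRing (Localization.AtPrime (q'.comap (algebraMap S (S ⊗[k] k')))) →
          IsRegularLocalRing (Localization.AtPrime q')) := by
  have hover : q'.LiesOver (q'.comap (algebraMap S (S ⊗[k] k'))) := ⟨rfl⟩
  letI := Localization.AtPrime.algebraOfLiesOver (q'.comap (algebraMap S (S ⊗[k] k'))) q'
  haveI : IsLocalHom (algebraMap (Localization.AtPrime (q'.comap (algebraMap S (S ⊗[k] k'))))
      (Localization.AtPrime q')) :=
    Localization.isLocalHom_localRingHom _ _ _ _
  haveI : IsNoetherianRing (Localization.AtPrime (q'.comap (algebraMap S (S ⊗[k] k')))) :=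
    IsLocalization.isNoetherianRing (q'.comap (algebraMap S (S ⊗[k] k'))).primeCompl _ inferInstance
  haveI : IsNoetherianRing (Localization.AtPrime q') :=
    IsLocalization.isNoetherianRing q'.primeCompl _ inferInstance
  haveI : Module.Flat (Localization.AtPrime (q'.comap (algebraMap S (S ⊗[k] k'))))
      (Localization.AtPrime q') := inferInstance
  constructor
  · intro h
    exact Groth.Agent.Lib.Helper18.SerreReg.isRegularLocalRing_of_flat_of_isLocalHom
      (Localization.AtPrime (q'.comap (algebraMap S (S ⊗[k] k')))) (Localization.AtPrime q')
  · intro hGR hreg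
    haveI : Algebra.FormallySmooth k k' := (formallySmooth_iff_isGeometricallyReduced k k').mpr hGR
    haveI : Algebra.FormallySmooth S (S ⊗[k] k') := inferInstance
    haveI : Algebra.FormallySmooth S (Localization.AtPrime q') :=
      Algebra.FormallySmooth.comp S (S ⊗[k] k') _
    haveI : Algebra.FormallySmooth (Localization.AtPrime (q'.comap (algebraMap S (S ⊗[k] k'))))
        (Localization.AtPrime q') :=
      Algebra.FormallySmooth.localization_base (q'.comap (algebraMap S (S ⊗[k] k'))).primeCompl
    have hK : (IsLocalRing.maximalIdeal (Localization.AtPrime (q'.comap (algebraMap S (S ⊗[k] k'))))).map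
        (algebraMap (Localization.AtPrime (q'.comap (algebraMap S (S ⊗[k] k'))))
          (Localization.AtPrime q')) ≤ IsLocalRing.maximalIdeal (Localization.AtPrime q') :=
      IsLocalRing.map_maximalIdeal_le _
    haveI : Nontrivial (Localization.AtPrime q' ⧸
        (IsLocalRing.maximalIdeal (Localization.AtPrime (q'.comap (algebraMap S (S ⊗[k] k'))))).map
        (algebraMap (Localization.AtPrime (q'.comap (algebraMap S (S ⊗[k] k'))))
          (Localization.AtPrime q'))) :=
      Ideal.Quotient.nontrivial_iff.mpr (fun h => by
        rw [h] at hK
        exact (IsLocalRing.maximalIdeal.isMaximal _).ne_top (top_le_iff.mp hK))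
    haveI : IsLocalRing (Localization.AtPrime q' ⧸
        (IsLocalRing.maximalIdeal (Localization.AtPrime (q'.comap (algebraMap S (S ⊗[k] k'))))).map
        (algebraMap (Localization.AtPrime (q'.comap (algebraMap S (S ⊗[k] k'))))
          (Localization.AtPrime q'))) :=
      IsLocalRing.of_surjective' (Ideal.Quotient.mk _) Ideal.Quotient.mk_surjective
    letI : Field (Localization.AtPrime (q'.comap (algebraMap S (S ⊗[k] k'))) ⧸
        IsLocalRing.maximalIdeal (Localization.AtPrime (q'.comap (algebraMap S (S ⊗[k] k'))))) :=
      Ideal.Quotient.field _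
    haveI : Algebra.FormallySmooth (Localization.AtPrime (q'.comap (algebraMap S (S ⊗[k] k'))) ⧸
        IsLocalRing.maximalIdeal (Localization.AtPrime (q'.comap (algebraMap S (S ⊗[k] k')))))
        (Localization.AtPrime q' ⧸
        (IsLocalRing.maximalIdeal (Localization.AtPrime (q'.comap (algebraMap S (S ⊗[k] k'))))).map
        (algebraMap (Localization.AtPrime (q'.comap (algebraMap S (S ⊗[k] k'))))
          (Localization.AtPrime q'))) :=
      Algebra.FormallySmooth.of_equiv
        (Algebra.TensorProduct.quotIdealMapEquivQuotTensor (Localization.AtPrime q')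
          (IsLocalRing.maximalIdeal (Localization.AtPrime (q'.comap (algebraMap S (S ⊗[k] k')))))).symm
    haveI : IsRegularLocalRing (Localization.AtPrime q' ⧸
        (IsLocalRing.maximalIdeal (Localization.AtPrime (q'.comap (algebraMap S (S ⊗[k] k'))))).map
        (algebraMap (Localization.AtPrime (q'.comap (algebraMap S (S ⊗[k] k'))))
          (Localization.AtPrime q'))) :=
      isRegularLocalRing_of_formallySmooth_field
        (Localization.AtPrime (q'.comap (algebraMap S (S ⊗[k] k'))) ⧸
          IsLocalRing.maximalIdeal (Localization.AtPrime (q'.comap (algebraMap S (S ⊗[k] k'))))) _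
    exact Groth.Agent.Lib.Helper18.FlatLocal.isRegularLocalRing_of_flat_of_fibre
      (Localization.AtPrime (q'.comap (algebraMap S (S ⊗[k] k')))) (Localization.AtPrime q')

end Groth.Agent.S4733
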