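import Groth.Statements.S4737
import Mathlib
import Groth.Agent.Lib.Helper18.FibQuot
import Groth.Agent.Lib.Helper18.FibBridge2

set_option autoImplicit false
universe u
open EGA4

namespace Groth.Agent.S4737

/-- The property 'geometrically regular', case of a local ring: let A be a Noetherian local ring whose
completion map A → Â is regular (the formal fibres of A are geometrically regular). Then for every
proper ideal I of A, the completion map of the local ring A/I is regular. -/
theorem result (A : Type u) [CommRing A] [IsNoetherianRing A] [IsLocalRing A]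
    (hA : CAlg.IsRegularHom A (EGA4.Cpl A)) (I : Ideal A) [Nontrivial (A ⧸ I)] :
    CAlg.IsRegularHom (A ⧸ I) (EGA4.Cpl (A ⧸ I)) := by
  obtain ⟨hflat, hfib⟩ := hA
  refine ⟨inferInstance, ?_⟩
  intro qb hqb
  refine ⟨inferInstance, ?_⟩
  intro k' _ _ hfin
  letI alg : Algebra (qb.comap (algebraMap A (A ⧸ I))).ResidueField k' :=
    ((algebraMap qb.ResidueField k').comp (Groth.Agent.Lib.Helper18.FibQuot.resMap A I qb)).toAlgebra
  have hfin' : Module.Finite (qb.comap (algebraMap A (A ⧸ I))).ResidueField k' :=
    Groth.Agent.Lib.Helper18.FibQuot.finite_of_finite A I qb k'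
  obtain ⟨e⟩ := Groth.Agent.Lib.Helper18.FibQuot.nonempty_ringEquiv_formalFibre A I qb k' rfl
  have := (hfib (qb.comap (algebraMap A (A ⧸ I)))).2 k' hfin'
  exact @IsRegularRing.of_ringEquiv _ _ _ _ e.symm this

end Groth.Agent.S4737
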