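import Groth.Statements.S4738
import Mathlib
import Groth.Agent.Lib.Helper18.FibQuot

set_option autoImplicit false
universe u
open EGA4

namespace Groth.Agent.S4738

/-- For the property 'geometrically reduced', case of a local ring: if the formal fibres of a Noetherian
local ring A are geometrically reduced, then so are the formal fibres of A/I for every proper ideal
I of A. -/
theorem result (A : Type u) [CommRing A] [IsNoetherianRing A] [IsLocalRing A]
    (hA : EGA4.HasGeomReducedFormalFibres A) (I : Ideal A) [Nontrivial (A ⧸ I)] :
    EGA4.HasGeomReducedFormalFibres (A ⧸ I) := by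
  intro qb hqb
  rw [Algebra.isGeometricallyReduced_field_iff]
  letI alg2 : Algebra (qb.comap (algebraMap A (A ⧸ I))).ResidueField qb.ResidueField :=
    (Groth.Agent.Lib.Helper18.FibQuot.resMap A I qb).toAlgebra
  have : Module.Finite (qb.comap (algebraMap A (A ⧸ I))).ResidueField qb.ResidueField :=
    Module.Finite.of_surjective
      (Algebra.linearMap (qb.comap (algebraMap A (A ⧸ I))).ResidueField qb.ResidueField)
      (Groth.Agent.Lib.Helper18.FibQuot.resMap_bijective A I qb).2
  have : Algebra.IsAlgebraic (qb.comap (algebraMap A (A ⧸ I))).ResidueField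
      (AlgebraicClosure qb.ResidueField) :=
    Algebra.IsAlgebraic.trans (qb.comap (algebraMap A (A ⧸ I))).ResidueField qb.ResidueField
      (AlgebraicClosure qb.ResidueField)
  obtain ⟨e⟩ := Groth.Agent.Lib.Helper18.FibQuot.nonempty_ringEquiv_formalFibre A I qb
    (AlgebraicClosure qb.ResidueField)
    (IsScalarTower.algebraMap_eq (qb.comap (algebraMap A (A ⧸ I))).ResidueField qb.ResidueField
      (AlgebraicClosure qb.ResidueField))
  have h1 := hA (qb.comap (algebraMap A (A ⧸ I)))
  have h2 : IsReduced (TensorProduct (qb.comap (algebraMap A (A ⧸ I))).ResidueField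
      (AlgebraicClosure qb.ResidueField)
      (EGA4.formalFibre A (qb.comap (algebraMap A (A ⧸ I))))) := inferInstance
  exact @Groth.Agent.Lib.Helper18.FibQuot.isReduced_of_ringEquiv'
    (TensorProduct qb.ResidueField (AlgebraicClosure qb.ResidueField)
      (EGA4.formalFibre (A ⧸ I) qb))
    (TensorProduct (qb.comap (algebraMap A (A ⧸ I))).ResidueField
      (AlgebraicClosure qb.ResidueField)
      (EGA4.formalFibre A (qb.comap (algebraMap A (A ⧸ I))))) _ _ e h2

end Groth.Agent.S4738
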