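import Groth.Statements.S4739
import Mathlib
import Groth.Agent.Lib.Helper18.CplIso

set_option autoImplicit false
universe u
open EGA4

namespace Groth.Agent.S4739

open TensorProduct in
/-- Let A → B be a local homomorphism of Noetherian local rings and Â the completion of A, and suppose
B' = B ⊗_A Â is Noetherian. Then for every prime ideal n' of B' lying over the maximal ideal of B
and containing the image of the maximal ideal of A through Â (that is, lying over the maximal ideal
m_A Â of Â), the completion of B and the completion of the local ring B'_{n'} are isomorphic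
(existence of a ring isomorphism only). -/
theorem result (A B : Type u) [CommRing A] [CommRing B] [IsNoetherianRing A]
    [IsNoetherianRing B] [IsLocalRing A] [IsLocalRing B] [Algebra A B] [IsLocalHom (algebraMap A B)]
    [IsNoetherianRing (B ⊗[A] EGA4.Cpl A)] (n' : Ideal (B ⊗[A] EGA4.Cpl A)) [n'.IsPrime]
    (h1 : n'.comap (algebraMap B (B ⊗[A] EGA4.Cpl A)) = IsLocalRing.maximalIdeal B)
    (h2 : (IsLocalRing.maximalIdeal A).map
        ((Algebra.TensorProduct.includeRight.toRingHom : EGA4.Cpl A →+* B ⊗[A] EGA4.Cpl A).comp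
          (algebraMap A (EGA4.Cpl A))) ≤ n') :
    Nonempty (EGA4.Cpl B ≃+* EGA4.Cpl (Localization.AtPrime n')) := by
  classical
  obtain ⟨J, hJ⟩ : ∃ J : Ideal (B ⊗[A] EGA4.Cpl A),
      J = (IsLocalRing.maximalIdeal B).map (algebraMap B (B ⊗[A] EGA4.Cpl A)) := ⟨_, rfl⟩
  have hmA : ∀ a ∈ IsLocalRing.maximalIdeal A, algebraMap A B a ∈ IsLocalRing.maximalIdeal B := by
    intro a ha
    have := ((IsLocalRing.local_hom_TFAE (algebraMap A B)).out 0 2).mp ‹_›
    exact this (Ideal.mem_map_of_mem _ ha)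
  have hkey : ∀ (a : A) (b : B), (b ⊗ₜ[A] (algebraMap A (EGA4.Cpl A) a) : B ⊗[A] EGA4.Cpl A) =
      algebraMap B (B ⊗[A] EGA4.Cpl A) (algebraMap A B a * b) := by
    intro a b
    rw [Algebra.TensorProduct.algebraMap_apply, Algebra.algebraMap_eq_smul_one,
      TensorProduct.tmul_smul, TensorProduct.smul_tmul', Algebra.smul_def]
    rfl
  let T : Ideal (EGA4.Cpl A) :=
    { carrier := {t | ∀ b : B, (b ⊗ₜ[A] t : B ⊗[A] EGA4.Cpl A) ∈ J}
      add_mem' := by
        intro s t hs ht b
        rw [TensorProduct.tmul_add]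
        exact Ideal.add_mem _ (hs b) (ht b)
      zero_mem' := by
        intro b
        rw [TensorProduct.tmul_zero]
        exact Ideal.zero_mem _
      smul_mem' := by
        intro s t ht b
        have : (b ⊗ₜ[A] (s • t) : B ⊗[A] EGA4.Cpl A) = ((1 : B) ⊗ₜ[A] s) * (b ⊗ₜ[A] t) := by
          rw [Algebra.TensorProduct.tmul_mul_tmul, one_mul, smul_eq_mul]
        rw [this]
        exact Ideal.mul_mem_left _ _ (ht b) }
  have hT : (IsLocalRing.maximalIdeal A).map (algebraMap A (EGA4.Cpl A)) ≤ T := by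
    rw [Ideal.map_le_iff_le_comap]
    intro a ha b
    rw [hkey, hJ]
    exact Ideal.mem_map_of_mem _ (Ideal.mul_mem_right _ _ (hmA a ha))
  have ha : ∀ x : B ⊗[A] EGA4.Cpl A, ∃ b : B, x - algebraMap B (B ⊗[A] EGA4.Cpl A) b ∈ J := by
    intro x
    induction x using TensorProduct.induction_on with
    | zero => exact ⟨0, by simp⟩
    | tmul b t =>
      obtain ⟨a, hat⟩ := Groth.Agent.Lib.Helper18.AdicHom.exists_sub_mem A
        (IsLocalRing.maximalIdeal A) t
      refine ⟨algebraMap A B a * b, ?_⟩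
      rw [← hkey, ← TensorProduct.tmul_sub]
      exact hT hat b
    | add x y hx hy =>
      obtain ⟨b1, h1⟩ := hx
      obtain ⟨b2, h2⟩ := hy
      refine ⟨b1 + b2, ?_⟩
      rw [map_add]
      have : x + y - (algebraMap B (B ⊗[A] EGA4.Cpl A) b1 + algebraMap B (B ⊗[A] EGA4.Cpl A) b2) =
          (x - algebraMap B (B ⊗[A] EGA4.Cpl A) b1) +
            (y - algebraMap B (B ⊗[A] EGA4.Cpl A) b2) := by abel
      rw [this]
      exact Ideal.add_mem _ h1 h2
  rw [hJ] at ha
  exact Groth.Agent.Lib.Helper18.CplIso.nonempty_ringEquiv_cpl_localization B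
    (B ⊗[A] EGA4.Cpl A) n' h1 ha

end Groth.Agent.S4739
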