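import Groth.Statements.S4740
import Mathlib
import Groth.Agent.Lib.Helper23.CTens7
import Groth.Agent.Lib.Helper21.BrR2
import Groth.Agent.Lib.Helper23.CTens9
-- import your own Groth.Agent.* helpers here

set_option autoImplicit false
universe u
attribute [local instance] Algebra.TensorProduct.rightAlgebra
open EGA4

namespace Groth.Agent.S4740

open IsLocalRing TensorProduct MvPowerSeries Groth.Agent.Lib.Helper23.CTens Groth.Agent.Lib.Helper1.ArtFunLib Groth.Agent.Lib.Helper23.CTensStr



open TensorProduct in
/-- Let k be a field and A, B complete Noetherian local rings containing k, the residue field of A being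
a finite extension of k; let C be the completed tensor product of A and B over k (the completion of
A ⊗_k B at the ideal m_A ⊗ B + A ⊗ m_B). Then (i) C is Noetherian with finitely many maximal ideals;
(ii) C is flat over A and over B; (iii) m_A C is contained in the Jacobson radical of C and C/m_A C
is isomorphic to (A/m_A) ⊗_k B; (iv) the residue field of C at each of its maximal ideals is a
finite B-module. (Completeness of C, also asserted in the published item, is not restated; the
isomorphism in (iii) is asserted to exist only.) -/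
theorem result (k A B : Type u) [Field k] [CommRing A] [CommRing B] [Algebra k A] [Algebra k B]
    [IsNoetherianRing A] [IsNoetherianRing B] [IsLocalRing A] [IsLocalRing B]
    [IsAdicComplete (IsLocalRing.maximalIdeal A) A] [IsAdicComplete (IsLocalRing.maximalIdeal B) B]
    [Module.Finite k (IsLocalRing.ResidueField A)] :
    (IsNoetherianRing (EGA4.CTensor k A B) ∧ (Set.univ : Set (MaximalSpectrum (EGA4.CTensor k A B))).Finite) ∧
      (Module.Flat A (EGA4.CTensor k A B) ∧ Module.Flat B (EGA4.CTensor k A B)) ∧
      ((IsLocalRing.maximalIdeal A).map (algebraMap A (EGA4.CTensor k A B)) ≤ (⊥ : Ideal (EGA4.CTensor k A B)).jacobson ∧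
        Nonempty ((EGA4.CTensor k A B ⧸ (IsLocalRing.maximalIdeal A).map (algebraMap A (EGA4.CTensor k A B))) ≃+*
          ((A ⧸ IsLocalRing.maximalIdeal A) ⊗[k] B))) ∧
      (∀ (M : Ideal (EGA4.CTensor k A B)) [M.IsMaximal], Module.Finite B (EGA4.CTensor k A B ⧸ M)) := by
  classical
  have hfg : (maximalIdeal A).FG := (isNoetherianRing_iff_ideal_fg A).mp inferInstance _
  obtain ⟨d, u, hspan⟩ := Submodule.fg_iff_exists_fin_generating_family.mp hfg
  have hu : ∀ i, u i ∈ maximalIdeal A := fun i => by
    rw [← hspan]; exact Submodule.subset_span ⟨i, rfl⟩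
  letI algP : Algebra (MvPowerSeries (Fin d) k) A := psAlgebra k A d u hu
  haveI : IsScalarTower k (MvPowerSeries (Fin d) k) A := psAlgebra_tower k A d u hu
  have huu : uu k A d = u := funext (fun i => psAlgebra_X k A d u hu i)
  have hX : ∀ i, uu k A d i ∈ maximalIdeal A := fun i => by rw [huu]; exact hu i
  have hN : maximalIdeal A ^ 1 ≤ Ideal.span (Set.range (uu k A d)) := by
    rw [huu, pow_one]; exact hspan.ge
  haveI hfin : Module.Finite (MvPowerSeries (Fin d) k) A := finite_ps k A d hX 1 hN
  obtain ⟨e, he⟩ := exists_cTensor_equiv_swap k A B d hX 1 hN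
  set P := MvPowerSeries (Fin d) k with hP
  set MB := MvPowerSeries (Fin d) B with hMB
  set CC := EGA4.CTensor k A B with hCC
  have heA : ∀ a : A, e (algebraMap A CC a) = (1 : MB) ⊗ₜ[P] a := by
    intro a
    have h1 : algebraMap A CC a =
        AdicCompletion.of (EGA4.cTensorIdeal k A B) (A ⊗[k] B) (a ⊗ₜ[k] (1 : B)) := rfl
    rw [h1, he, Algebra.TensorProduct.comm_tmul, theta_tmul, map_one]
  have heB : ∀ b : B, e (algebraMap B CC b) = (C b : MB) ⊗ₜ[P] (1 : A) := by
    intro b
    have h1 : algebraMap B CC b =
        AdicCompletion.of (EGA4.cTensorIdeal k A B) (A ⊗[k] B) ((1 : A) ⊗ₜ[k] b) := rfl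
    rw [h1, he, Algebra.TensorProduct.comm_tmul, theta_tmul]
  -- the `B[[U]]`-algebra structure on the completed tensor product
  letI algMB : Algebra MB CC :=
    ((e.symm : MB ⊗[P] A →+* CC).comp (algebraMap MB (MB ⊗[P] A))).toAlgebra
  have halg : ∀ f : MB, e (algebraMap MB CC f) = f ⊗ₜ[P] (1 : A) := by
    intro f
    change e (e.symm (algebraMap MB (MB ⊗[P] A) f)) = _
    rw [e.apply_symm_apply, Algebra.TensorProduct.algebraMap_apply, Algebra.algebraMap_self,
      RingHom.id_apply]
  let eL : CC ≃ₗ[MB] MB ⊗[P] A :=
    { e with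
      map_smul' := fun f x => by
        change e (f • x) = f • e x
        have h2 : f • e x = algebraMap MB (MB ⊗[P] A) f * e x := Algebra.smul_def f (e x)
        rw [Algebra.smul_def, map_mul, halg, h2,
          Algebra.TensorProduct.algebraMap_apply, Algebra.algebraMap_self, RingHom.id_apply] }
  haveI : Module.Finite MB CC := Module.Finite.equiv eL.symm
  haveI : IsScalarTower B MB CC := IsScalarTower.of_algebraMap_eq (fun b => by
    apply e.injective
    rw [heB, halg, MvPowerSeries.algebraMap_apply, Algebra.algebraMap_self, RingHom.id_apply])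
  have hAX : ∀ i, algebraMap A CC (u i) = algebraMap MB CC (X i) := by
    intro i
    apply e.injective
    rw [heA, halg, X_tmul, mul_one, ← huu]
  have hXM : ∀ (M : Ideal CC) [M.IsMaximal], ∀ i, algebraMap MB CC (X i) ∈ M := by
    intro M hM i
    have h1 := Groth.Agent.Lib.Helper21.BrR.comap_maximal MB CC ⟨M, hM⟩
    have h2 : (X i : MB) ∈ maximalIdeal MB := PS.X_mem_maximalIdeal i
    rw [← h1] at h2
    exact h2
  refine ⟨⟨?_, ?_⟩, ⟨?_, ?_⟩, ⟨?_, ?_⟩, ?_⟩
  · exact IsNoetherianRing.of_finite MB CC
  · haveI := Groth.Agent.Lib.Helper21.BrR.finite_maximalSpectrum MB CC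
    exact Set.finite_univ
  · -- flat over `A`
    haveI := flat_ps k B d
    let ε' : CC ≃+* A ⊗[P] MB := e.trans (Algebra.TensorProduct.comm P MB A).toRingEquiv
    have h : algebraMap A CC = (ε'.symm : A ⊗[P] MB →+* CC).comp (algebraMap A (A ⊗[P] MB)) := by
      refine RingHom.ext (fun a => ?_)
      apply ε'.injective
      change (Algebra.TensorProduct.comm P MB A) (e (algebraMap A CC a)) =
        ε' (ε'.symm (algebraMap A (A ⊗[P] MB) a))
      rw [ε'.apply_symm_apply, heA, Algebra.TensorProduct.comm_tmul,
        Algebra.TensorProduct.algebraMap_apply, Algebra.algebraMap_self, RingHom.id_apply]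
    rw [← RingHom.flat_algebraMap_iff, h]
    exact RingHom.Flat.comp (RingHom.flat_algebraMap_iff.mpr inferInstance)
      (RingHom.Flat.of_bijective ε'.symm.bijective)
  · -- flat over `B`
    haveI := flat_B k B d A
    have h : algebraMap B CC = (e.symm : MB ⊗[P] A →+* CC).comp (algebraMap B (MB ⊗[P] A)) := by
      refine RingHom.ext (fun b => ?_)
      apply e.injective
      change e (algebraMap B CC b) = e (e.symm (algebraMap B (MB ⊗[P] A) b))
      rw [e.apply_symm_apply, heB, Algebra.TensorProduct.algebraMap_apply,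
        MvPowerSeries.algebraMap_apply, Algebra.algebraMap_self, RingHom.id_apply]
    rw [← RingHom.flat_algebraMap_iff, h]
    exact RingHom.Flat.comp (RingHom.flat_algebraMap_iff.mpr inferInstance)
      (RingHom.Flat.of_bijective e.symm.bijective)
  · rw [← hspan, Ideal.map_span, Ideal.span_le]
    rintro _ ⟨_, ⟨i, rfl⟩, rfl⟩
    rw [SetLike.mem_coe, Ideal.jacobson, Ideal.mem_sInf]
    rintro M ⟨-, hM⟩
    rw [hAX]
    exact hXM M i
  · -- the quotient by `m_A`
    set I₁ : Ideal CC := (maximalIdeal A).map (algebraMap A CC) with hI₁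
    set I₂ : Ideal (MB ⊗[P] A) :=
      (maximalIdeal A).map (Algebra.TensorProduct.includeRight (R := P) (A := MB) (B := A)) with hI₂
    have hI : I₂ = I₁.map (e : CC →+* MB ⊗[P] A) := by
      apply le_antisymm
      · rw [hI₂, Ideal.map_le_iff_le_comap]
        intro a ha
        rw [Ideal.mem_comap]
        have : (Algebra.TensorProduct.includeRight (R := P) (A := MB) (B := A)) a =
            (e : CC →+* MB ⊗[P] A) (algebraMap A CC a) := (heA a).symm
        rw [this]
        exact Ideal.mem_map_of_mem _ (Ideal.mem_map_of_mem _ ha)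
      · rw [Ideal.map_le_iff_le_comap, hI₁, Ideal.map_le_iff_le_comap]
        intro a ha
        rw [Ideal.mem_comap, Ideal.mem_comap]
        change e (algebraMap A CC a) ∈ I₂
        rw [heA]
        exact Ideal.mem_map_of_mem _ ha
    let α := Ideal.quotientEquiv I₁ I₂ e hI
    let β := (Algebra.TensorProduct.tensorQuotientEquiv (R := P) MB A MB (maximalIdeal A)).toRingEquiv
    obtain ⟨γ, -⟩ := exists_equiv_residue k A B d hX
    let δ := (Algebra.TensorProduct.comm k (A ⧸ maximalIdeal A) B).toRingEquiv
    exact ⟨α.trans (β.symm.trans (γ.symm.trans δ.symm))⟩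
  · intro M hM
    exact finite_quotient_of_X_mem B d CC M (fun i => hXM M i)

end Groth.Agent.S4740
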