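import Groth.Statements.S4741
import Groth.Agent.Lib.Helper5.OrderDim
import Mathlib.RingTheory.Ideal.KrullsHeightTheorem
import Mathlib.AlgebraicGeometry.Noetherian
import Mathlib.AlgebraicGeometry.Morphisms.Flat
import Mathlib.AlgebraicGeometry.Morphisms.UniversallyOpen

set_option autoImplicit false
universe u
open EGA4

namespace Groth.Agent.S4741


theorem exists_prime_le_liesOver_height_le {R S : Type*} [CommRing R] [CommRing S]
    [IsNoetherianRing R] [IsNoetherianRing S] [Algebra R S]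
    (p : Ideal R) [p.IsPrime] (P₀ : Ideal S) [P₀.IsPrime] (h0 : P₀.comap (algebraMap R S) = p) :
    ∃ P : Ideal S, P.IsPrime ∧ P ≤ P₀ ∧ P.comap (algebraMap R S) = p ∧ P.height ≤ p.height := by
  have hle : p.map (algebraMap R S) ≤ P₀ := by
    rw [Ideal.map_le_iff_le_comap, h0]
  obtain ⟨P, hPmin, hPle⟩ := Ideal.exists_minimalPrimes_le hle
  have hPprime : P.IsPrime := hPmin.1.1
  have hcomap : P.comap (algebraMap R S) = p := by
    apply le_antisymm
    · rw [← h0]; exact Ideal.comap_mono hPle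
    · rw [← Ideal.map_le_iff_le_comap]; exact hPmin.1.2
  refine ⟨P, hPprime, hPle, hcomap, ?_⟩
  have : P.LiesOver p := ⟨hcomap.symm⟩
  have h1 := Ideal.height_le_height_add_of_liesOver p P
  have h2 : (P.map (Ideal.Quotient.mk <| p.map (algebraMap R S))).height = 0 := by
    rw [Ideal.minimalPrimes_eq_comap] at hPmin
    obtain ⟨Q, hQ, rfl⟩ := hPmin
    rw [Ideal.map_comap_of_surjective _ Ideal.Quotient.mk_surjective]
    have : Q.IsPrime := hQ.1.1
    exact Ideal.height_eq_zero_iff.mpr hQ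
  rwa [h2, add_zero] at h1

open AlgebraicGeometry CategoryTheory in
theorem exists_point_over_dim_le {X Y : Scheme.{u}} (f : X ⟶ Y) [IsLocallyNoetherian X]
    [IsLocallyNoetherian Y] (x₀ : X) :
    ∃ x : X, f x = f x₀ ∧
      ringKrullDim (X.presheaf.stalk x) ≤ ringKrullDim (Y.presheaf.stalk (f x₀)) := by
  obtain ⟨V, hV, hyV, -⟩ := exists_isAffineOpen_mem_and_subset (x := f x₀) (U := ⊤) trivial
  obtain ⟨U, hU, hxU, hUsub⟩ := exists_isAffineOpen_mem_and_subset (x := x₀) (U := f ⁻¹ᵁ V) hyV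
  have e : U ≤ f ⁻¹ᵁ V := hUsub
  have hNX : IsNoetherianRing Γ(X, U) := IsLocallyNoetherian.component_noetherian ⟨U, hU⟩
  have hNY : IsNoetherianRing Γ(Y, V) := IsLocallyNoetherian.component_noetherian ⟨V, hV⟩
  let φ : Γ(Y, V) →+* Γ(X, U) := (f.appLE V U e).hom
  let _ : Algebra Γ(Y, V) Γ(X, U) := φ.toAlgebra
  have h0 : (hU.primeIdealOf ⟨x₀, hxU⟩).asIdeal.comap (algebraMap Γ(Y, V) Γ(X, U)) =
      (hV.primeIdealOf ⟨f x₀, hyV⟩).asIdeal :=
    congrArg PrimeSpectrum.asIdeal (IsAffineOpen.comap_primeIdealOf_appLE V hV U hU e hxU)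
  obtain ⟨P, hP, -, hPcomap, hPht⟩ := exists_prime_le_liesOver_height_le
    (hV.primeIdealOf ⟨f x₀, hyV⟩).asIdeal (hU.primeIdealOf ⟨x₀, hxU⟩).asIdeal h0
  let x : U := hU.isoSpec.inv ⟨P, hP⟩
  have hx : hU.primeIdealOf x = ⟨P, hP⟩ := by
    simp [IsAffineOpen.primeIdealOf, x]
  have hfx : f x.1 = f x₀ := by
    have h1 := IsAffineOpen.comap_primeIdealOf_appLE (f := f) V hV U hU e x.2
    have h2 : hV.primeIdealOf ⟨f x.1, e x.2⟩ = hV.primeIdealOf ⟨f x₀, hyV⟩ := by
      rw [← h1]
      apply PrimeSpectrum.ext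
      rw [← hPcomap]
      change ((hU.primeIdealOf ⟨x.1, x.2⟩).comap φ).asIdeal = _
      rw [show (⟨x.1, x.2⟩ : U) = x from rfl, hx]
      rfl
    have hinj : Function.Injective hV.primeIdealOf := by
      intro a b hab
      have h3 := congrArg hV.isoSpec.inv hab
      simp only [IsAffineOpen.primeIdealOf] at h3
      rw [← Scheme.Hom.comp_apply, ← Scheme.Hom.comp_apply, Iso.hom_inv_id] at h3
      exact h3
    exact congrArg Subtype.val (hinj h2)
  refine ⟨x.1, hfx, ?_⟩
  have hlocX := hU.isLocalization_stalk x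
  have hlocY := hV.isLocalization_stalk ⟨f x₀, hyV⟩
  have e1 : ringKrullDim (X.presheaf.stalk x.1) = (hU.primeIdealOf x).asIdeal.height :=
    IsLocalization.AtPrime.ringKrullDim_eq_height (hU.primeIdealOf x).asIdeal _
  have e2 : ringKrullDim (Y.presheaf.stalk (f x₀)) =
      (hV.primeIdealOf ⟨f x₀, hyV⟩).asIdeal.height :=
    @IsLocalization.AtPrime.ringKrullDim_eq_height _ _ (hV.primeIdealOf ⟨f x₀, hyV⟩).asIdeal _
      (Y.presheaf.stalk (f x₀)) _ (Y.presheaf.algebra_section_stalk ⟨f x₀, hyV⟩) hlocY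
  rw [e1, e2, hx]
  exact WithBot.coe_le_coe.mpr hPht

open AlgebraicGeometry CategoryTheory in
theorem coheight_le_of_flat {X Y : Scheme.{u}} (f : X ⟶ Y) [Flat f] (x : X) :
    Order.coheight (f x) ≤ Order.coheight x := by
  have hgen : GeneralizingMap f := Flat.generalizingMap f
  refine Lib.Helper5.height_apply_le_of_strictGoingDown (α := Xᵒᵈ) (β := Yᵒᵈ)
    (fun a => OrderDual.toDual (f (OrderDual.ofDual a))) ?_ (OrderDual.toDual x)
  intro a b hb
  have hb' : f (OrderDual.ofDual a) < OrderDual.ofDual b := hb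
  have hspec : OrderDual.ofDual b ⤳ f (OrderDual.ofDual a) := hb'.le
  obtain ⟨x', hx', hfx'⟩ := hgen hspec
  refine ⟨OrderDual.toDual x', ?_, congrArg OrderDual.toDual hfx'⟩
  change OrderDual.ofDual a < x'
  refine lt_of_le_not_ge hx' ?_
  intro hcon
  have : f (OrderDual.ofDual a) ⤳ f x' := (hcon : OrderDual.ofDual a ⤳ x').map f.continuous
  rw [hfx'] at this
  exact hb'.not_ge this

open AlgebraicGeometry CategoryTheory in
/-- Suppose X and Y are locally Noetherian schemes, f : X → Y is a morphism that is surjective, and Z is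
a closed subset of Y. Then codim(f⁻¹(Z), X) ≤ codim(Z, Y), where the codimension of a closed subset
means the infimum over its points of the dimensions of the local rings there; when f is in addition
flat, these two codimensions coincide. (In the published version the equality part assumes f
quasi-flat; here f is taken to be flat.) -/
theorem result {X Y : Scheme.{u}} (f : X ⟶ Y) [IsLocallyNoetherian X]
    [IsLocallyNoetherian Y] (hf : Function.Surjective f.base) (Z : Set Y) (hZ : IsClosed Z) :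
    (⨅ x ∈ f.base ⁻¹' Z, ringKrullDim (X.presheaf.stalk x)) ≤ ⨅ y ∈ Z, ringKrullDim (Y.presheaf.stalk y) ∧
      (Flat f → (⨅ x ∈ f.base ⁻¹' Z, ringKrullDim (X.presheaf.stalk x)) = ⨅ y ∈ Z, ringKrullDim (Y.presheaf.stalk y)) := by
  have part1 : (⨅ x ∈ f.base ⁻¹' Z, ringKrullDim (X.presheaf.stalk x)) ≤
      ⨅ y ∈ Z, ringKrullDim (Y.presheaf.stalk y) := by
    refine le_iInf₂ fun y hy => ?_
    obtain ⟨x₀, rfl⟩ := hf y
    obtain ⟨x, hx, hdim⟩ := exists_point_over_dim_le f x₀
    exact iInf₂_le_of_le x (show f x ∈ Z from hx ▸ hy) hdim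
  refine ⟨part1, fun hflat => le_antisymm part1 ?_⟩
  refine le_iInf₂ fun x hx => ?_
  refine iInf₂_le_of_le (f x) hx ?_
  rw [ringKrullDim_stalk_eq_coheight, ringKrullDim_stalk_eq_coheight]
  exact WithBot.coe_le_coe.mpr (coheight_le_of_flat f x)

end Groth.Agent.S4741
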