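import Groth.Statements.S4742
import Mathlib
import Groth.Agent.Lib.Helper18.CatHt
import Groth.Agent.Lib.Helper18.SkLift

set_option autoImplicit false
universe u
open EGA4

namespace Groth.Agent.S4742

theorem height_add_le (R : Type u) [CommRing R] (p : Ideal R) [hp : p.IsPrime] :
    ((p.height : ℕ∞) : WithBot ℕ∞) + ringKrullDim (R ⧸ p) ≤ ringKrullDim R := by
  have h0 : ringKrullDim (R ⧸ p) =
      ((Order.coheight (⟨p, hp⟩ : PrimeSpectrum R) : ℕ∞) : WithBot ℕ∞) := by
    rw [ringKrullDim_quotient, Order.coheight_eq_krullDim_Ici]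
    have : PrimeSpectrum.zeroLocus (p : Set R) = Set.Ici (⟨p, hp⟩ : PrimeSpectrum R) := by
      ext q
      rw [PrimeSpectrum.mem_zeroLocus, Set.mem_Ici]
      rfl
    rw [this]
  rw [h0]
  have : Nonempty (PrimeSpectrum R) := ⟨⟨p, hp⟩⟩
  unfold ringKrullDim
  rw [Order.krullDim_eq_iSup_height_add_coheight_of_nonempty]
  have h1 : p.height = Order.height (⟨p, hp⟩ : PrimeSpectrum R) :=
    PrimeSpectrum.height_eq_orderHeight ⟨p, hp⟩
  rw [h1, ← WithBot.coe_add, WithBot.coe_le_coe]
  exact le_iSup (fun a : PrimeSpectrum R => Order.height a + Order.coheight a) ⟨p, hp⟩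

theorem key (A : Type u) [CommRing A] [IsNoetherianRing A] [IsLocalRing A]
    (hA : EGA4.IsEquidim A) (hA' : CAlg.IsCatenary A) (t : A)
    (ht : ringKrullDim (A ⧸ Ideal.span {t}) + 1 = ringKrullDim A)
    (p : Ideal A) [hp : p.IsPrime] (htp : t ∈ p) :
    (p.map (Ideal.Quotient.mk (Ideal.span {t}))).height + 1 ≤ p.height := by
  have hp' := Groth.Agent.Lib.Helper18.SkLift.isPrime_map_mk t p htp
  have h1 := height_add_le (A ⧸ Ideal.span {t}) (p.map (Ideal.Quotient.mk (Ideal.span {t})))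
  have hle : Ideal.span {t} ≤ p := (Ideal.span_singleton_le_iff_mem _).mpr htp
  have e : ((A ⧸ Ideal.span {t}) ⧸ p.map (Ideal.Quotient.mk (Ideal.span {t}))) ≃+* A ⧸ p :=
    DoubleQuot.quotQuotEquivQuotOfLE hle
  rw [ringKrullDim_eq_of_ringEquiv e] at h1
  have h2 := Groth.Agent.Lib.Helper18.CatHt.height_add_ringKrullDim_quotient A hA' hA p
  have hne : Nontrivial (A ⧸ p) := Ideal.Quotient.nontrivial_iff.mpr hp.ne_top
  have hloc : IsLocalRing (A ⧸ p) := IsLocalRing.of_surjective' (Ideal.Quotient.mk p)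
    Ideal.Quotient.mk_surjective
  obtain ⟨d, hd⟩ := Groth.Agent.Lib.Helper18.SerreReg.exists_ringKrullDim_eq_nat (A ⧸ p)
  rw [hd] at h1 h2
  rw [← h2] at ht
  have hpfin : p.height ≠ ⊤ := Ideal.height_ne_top hp.ne_top
  obtain ⟨a, ha⟩ := ENat.ne_top_iff_exists.mp hpfin
  have hp'fin : (p.map (Ideal.Quotient.mk (Ideal.span {t}))).height ≠ ⊤ :=
    Ideal.height_ne_top hp'.ne_top
  obtain ⟨b, hb⟩ := ENat.ne_top_iff_exists.mp hp'fin
  rw [← ha] at ht ⊢
  rw [← hb] at h1 ⊢
  have h3 : ((b : ℕ∞) : WithBot ℕ∞) + (d : WithBot ℕ∞) + 1 ≤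
      ((a : ℕ∞) : WithBot ℕ∞) + (d : WithBot ℕ∞) := by
    rw [← ht]
    exact add_le_add h1 le_rfl
  have h4 : b + d + 1 ≤ a + d := by exact_mod_cast h3
  have h5 : b + 1 ≤ a := by omega
  exact_mod_cast h5

/-- Let A be a Noetherian local ring which is equidimensional and catenary, t an element of A belonging
to a system of parameters (dim A/tA + 1 = dim A), and Z a set of prime ideals of A stable under
specialization. Write X = Spec A, X₀ = V(t), X₁ = X ∖ X₀ and Z₀ = Z ∩ X₀, Z₁ = Z ∩ X₁. Then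
codim(Z₀, X₀) ≤ codim(Z, X) ≤ codim(Z₁, X₁), where each codimension is the infimum of the heights of
the primes concerned, heights for Z₀ being taken in A/tA. -/
theorem result (A : Type u) [CommRing A] [IsNoetherianRing A] [IsLocalRing A]
    (hA : EGA4.IsEquidim A) (hA' : CAlg.IsCatenary A) (t : A)
    (ht : ringKrullDim (A ⧸ Ideal.span {t}) + 1 = ringKrullDim A) (Z : Set (PrimeSpectrum A))
    (hZ : StableUnderSpecialization Z) :
    (⨅ p ∈ {p ∈ Z | t ∈ p.asIdeal}, (p.asIdeal.map (Ideal.Quotient.mk (Ideal.span {t}))).height) ≤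
        ⨅ p ∈ Z, p.asIdeal.height ∧
      (⨅ p ∈ Z, p.asIdeal.height) ≤ ⨅ p ∈ {p ∈ Z | t ∉ p.asIdeal}, p.asIdeal.height := by
  constructor
  · refine le_iInf₂ fun p hp => ?_
    by_cases htp : t ∈ p.asIdeal
    · refine iInf₂_le_of_le p ⟨hp, htp⟩ ?_
      have := key A hA hA' t ht p.asIdeal htp
      exact le_trans le_self_add this
    · -- take a minimal prime over p + (t)
      have htm : t ∈ IsLocalRing.maximalIdeal A := by
        by_contra hnm
        have hu : IsUnit t := by
          by_contra hnu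
          exact hnm ((IsLocalRing.mem_maximalIdeal t).mpr hnu)
        have htop : Ideal.span {t} = (⊤ : Ideal A) := Ideal.span_singleton_eq_top.mpr hu
        have hsub : Subsingleton (A ⧸ Ideal.span {t}) := by
          rw [htop]
          exact Ideal.Quotient.subsingleton_iff.mpr rfl
        rw [ringKrullDim_eq_bot_of_subsingleton] at ht
        have hne : ringKrullDim A ≠ ⊥ := ringKrullDim_ne_bot
        exact hne (by rw [← ht]; rfl)
      have hne : p.asIdeal ⊔ Ideal.span {t} ≠ ⊤ := by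
        intro h
        have hle : p.asIdeal ⊔ Ideal.span {t} ≤ IsLocalRing.maximalIdeal A :=
          sup_le (IsLocalRing.le_maximalIdeal p.2.ne_top)
            ((Ideal.span_singleton_le_iff_mem _).mpr htm)
        rw [h] at hle
        exact (IsLocalRing.maximalIdeal.isMaximal A).ne_top (top_le_iff.mp hle)
      obtain ⟨⟨q, hq⟩⟩ := Ideal.nonempty_minimalPrimes hne
      have hqp : q.IsPrime := hq.1.1
      have hpq : p.asIdeal ≤ q := le_sup_left.trans hq.1.2
      have htq : t ∈ q := hq.1.2 (Ideal.mem_sup_right (Ideal.mem_span_singleton_self t))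
      have hqZ : (⟨q, hqp⟩ : PrimeSpectrum A) ∈ Z := by
        refine hZ ?_ hp
        rw [← PrimeSpectrum.le_iff_specializes]
        exact hpq
      refine iInf₂_le_of_le ⟨q, hqp⟩ ⟨hqZ, htq⟩ ?_
      have h1 := key A hA hA' t ht q htq
      have h2 := Groth.Agent.Lib.Helper18.CatHt.height_le_succ_of_mem_minimalPrimes A hA' hA t
        p.asIdeal q hq
      have h3 := le_trans h1 h2
      exact (ENat.add_le_add_iff_right ENat.one_ne_top).1 h3
  · refine le_iInf₂ fun p hp => ?_
    exact iInf₂_le p hp.1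

end Groth.Agent.S4742
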