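import Groth.Statements.S4743
import Mathlib
import Groth.Agent.Lib.Helper18.FinDom

set_option autoImplicit false
universe u
open EGA4

namespace Groth.Agent.S4743

open TensorProduct in
/-- For the property 'geometrically reduced', case of a local ring: let A be a Noetherian local ring
with completion Â. Then the formal fibres of A are geometrically reduced if and only if, for every
finite A-algebra B which is a domain and every prime ideal q of B ⊗_A Â whose contraction to B is
zero, the local ring of B ⊗_A Â at q is reduced. (The published statement is for semi-local rings;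
this row takes A local.) -/
theorem result (A : Type u) [CommRing A] [IsNoetherianRing A]
    [IsLocalRing A] :
    EGA4.HasGeomReducedFormalFibres A ↔
      ∀ (B : Type u) [CommRing B] [IsDomain B] [Algebra A B] [Module.Finite A B]
        (q : Ideal (B ⊗[A] EGA4.Cpl A)) [q.IsPrime],
        q.comap (algebraMap B (B ⊗[A] EGA4.Cpl A)) = ⊥ → IsReduced (Localization.AtPrime q) := by
  constructor
  · intro h B _ _ _ _ q _ hq
    have h1 := Groth.Agent.Lib.Helper18.PMor.isGeometricallyReduced_fiber_baseChange
      (EGA4.Cpl A) B h (⊥ : Ideal B)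
    have h2 : IsReduced ((⊥ : Ideal B).Fiber (B ⊗[A] EGA4.Cpl A)) :=
      Algebra.isReduced_of_isGeometricallyReduced
        (A := (⊥ : Ideal B).Fiber (B ⊗[A] EGA4.Cpl A)) (⊥ : Ideal B).ResidueField
    exact Groth.Agent.Lib.Helper18.FinDom.isReduced_atPrime_of_isReduced_fiber
      B (B ⊗[A] EGA4.Cpl A) h2 q hq
  · intro hyp p _
    apply Groth.Agent.Lib.Helper18.PMor.isGeometricallyReduced_of_forall_finite
    intro K _ _ hfin
    letI : Algebra A K :=
      ((algebraMap p.ResidueField K).comp (algebraMap A p.ResidueField)).toAlgebra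
    haveI : IsScalarTower A p.ResidueField K := IsScalarTower.of_algebraMap_eq (fun _ => rfl)
    obtain ⟨B, hBfin, hBfrac⟩ :=
      Groth.Agent.Lib.Helper18.FinDom.exists_finite_subalgebra_isFractionRing A p K
    haveI := hBfin
    haveI := hBfrac
    have hF : IsReduced ((⊥ : Ideal B).Fiber (B ⊗[A] EGA4.Cpl A)) :=
      Groth.Agent.Lib.Helper18.FinDom.isReduced_fiber_of_forall B (B ⊗[A] EGA4.Cpl A)
        (fun q _ hq => hyp B q hq)
    obtain ⟨e⟩ := Groth.Agent.Lib.Helper18.FinDom.nonempty_ringEquiv_fiber_bot
      A p K (EGA4.Cpl A) B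
    exact @isReduced_of_injective _ ((⊥ : Ideal B).Fiber (B ⊗[A] EGA4.Cpl A)) _ _ _ _ _
      e.symm.toRingHom e.symm.injective hF

end Groth.Agent.S4743
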