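import Groth.Statements.S4744
import Mathlib
import Groth.Agent.Lib.Helper18.PMor4
import Groth.Agent.Lib.Helper18.CplFlat

set_option autoImplicit false
universe u
open EGA4

namespace Groth.Agent.S4744

/-- Let A → A' be a flat local homomorphism of Noetherian local rings all of whose fibre rings k(p) ⊗_A
A' are Cohen–Macaulay. If the completion map of A' is regular (the formal fibres of A' are
geometrically regular), then the formal fibres of A are Cohen–Macaulay. -/
theorem result (A A' : Type u) [CommRing A] [CommRing A'] [IsNoetherianRing A]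
    [IsNoetherianRing A'] [IsLocalRing A] [IsLocalRing A'] [Algebra A A'] [IsLocalHom (algebraMap A A')]
    [Module.Flat A A'] (hf : ∀ (p : Ideal A) [p.IsPrime], LocCoh.IsCohenMacaulayRing (p.Fiber A'))
    (hA' : CAlg.IsRegularHom A' (EGA4.Cpl A')) : EGA4.HasCMFormalFibres A := by
  intro p _
  letI : Algebra (EGA4.Cpl A) (EGA4.Cpl A') :=
    (Groth.Agent.Lib.Helper18.CplFlat.cplMap A A').toAlgebra
  haveI : IsScalarTower A (EGA4.Cpl A) (EGA4.Cpl A') :=
    IsScalarTower.of_algebraMap_eq
      (fun a => (Groth.Agent.Lib.Helper18.CplFlat.cplMap_of A A' a).symm)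
  haveI : Module.Flat (EGA4.Cpl A) (EGA4.Cpl A') :=
    Groth.Agent.Lib.Helper18.CplFlat.flat_cplMap A A'
  haveI : IsLocalHom (algebraMap (EGA4.Cpl A) (EGA4.Cpl A')) :=
    Groth.Agent.Lib.Helper18.CplFlat.isLocalHom_cplMap A A'
  haveI : Module.FaithfullyFlat (EGA4.Cpl A) (EGA4.Cpl A') :=
    Module.FaithfullyFlat.of_flat_of_isLocalHom
  haveI : Module.Flat A (EGA4.Cpl A') := Module.Flat.trans A A' (EGA4.Cpl A')
  have h1 : ∀ (p : Ideal A) [p.IsPrime], LocCoh.IsCohenMacaulayRing (p.Fiber (EGA4.Cpl A')) :=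
    Groth.Agent.Lib.Helper18.PMor.isCohenMacaulayRing_fiber_comp A A' (EGA4.Cpl A') hf
      (fun q _ => Groth.Agent.Lib.Helper18.PMor.isCohenMacaulayRing_of_isRegularRing
        (Groth.Agent.Lib.Helper18.PMor.isRegularRing_of_isGeometricallyRegular (hA'.2 q).2))
  exact Groth.Agent.Lib.Helper18.PMor.isCohenMacaulayRing_fiber_of_comp_of_faithfullyFlat
    A (EGA4.Cpl A) (EGA4.Cpl A') h1 p

end Groth.Agent.S4744
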