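import Groth.Statements.S4748
import Groth.Agent.Lib.Helper1.NormalField

set_option autoImplicit false
universe u
open EGA4

namespace Groth.Agent.S4748

open TensorProduct in
/-- For the property 'normal' (affine form): let k be a field, S a Noetherian k-algebra and k' an
extension field of k such that S is of finite type over k or k' is essentially of finite type over
k; let q' be a prime of S ⊗_k k' and q its contraction to S. If (S ⊗_k k')_{q'} is an integrally
closed domain then so is S_q; conversely, if k' is separable over k (geometrically reduced) and S_q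
is an integrally closed domain, then so is (S ⊗_k k')_{q'}. -/
theorem result (k S k' : Type u) [Field k] [CommRing S] [Algebra k S]
    [IsNoetherianRing S] [Field k'] [Algebra k k'] (hft : Algebra.FiniteType k S ∨ Algebra.EssFiniteType k k')
    [IsNoetherianRing (S ⊗[k] k')] (q' : Ideal (S ⊗[k] k')) [q'.IsPrime] :
    ((IsDomain (Localization.AtPrime q') ∧ IsIntegrallyClosed (Localization.AtPrime q')) →
        (IsDomain (Localization.AtPrime (q'.comap (algebraMap S (S ⊗[k] k')))) ∧
          IsIntegrallyClosed (Localization.AtPrime (q'.comap (algebraMap S (S ⊗[k] k')))))) ∧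
      (Algebra.IsGeometricallyReduced k k' →
        (IsDomain (Localization.AtPrime (q'.comap (algebraMap S (S ⊗[k] k')))) ∧
          IsIntegrallyClosed (Localization.AtPrime (q'.comap (algebraMap S (S ⊗[k] k'))))) →
          (IsDomain (Localization.AtPrime q') ∧ IsIntegrallyClosed (Localization.AtPrime q'))) := by
  refine ⟨fun ⟨h1, h2⟩ => ?_, fun hsep ⟨h1, h2⟩ => ?_⟩
  · haveI := h1
    haveI := h2
    exact Groth.Agent.Lib.Helper1.NormalField.normal_comap_of_flat S (S ⊗[k] k') q'
  · haveI := hsep
    haveI := h1
    haveI := h2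
    have hU : EGA4.IsNormalRing (Localization.AtPrime (q'.comap (algebraMap S (S ⊗[k] k')))) :=
      Groth.Agent.Lib.Helper12.Normal.isNormalRing_of_domain _
    have h3 : EGA4.IsNormalRing (k' ⊗[k] Localization.AtPrime (q'.comap (algebraMap S (S ⊗[k] k')))) :=
      Groth.Agent.Lib.Helper1.NormalField.isNormalRing_tensor_of_isGeometricallyReduced k k' _ hU
    have h4 : EGA4.IsNormalRing (Localization.AtPrime (q'.comap (algebraMap S (S ⊗[k] k'))) ⊗[k] k') :=
      Groth.Agent.Lib.Helper18.FormFib.isNormalRing_of_ringEquiv
        (Algebra.TensorProduct.comm k k' _).toRingEquiv h3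
    letI alg : Algebra (S ⊗[k] k')
        (Localization.AtPrime (q'.comap (algebraMap S (S ⊗[k] k'))) ⊗[k] k') :=
      (Algebra.TensorProduct.map (IsScalarTower.toAlgHom k S
        (Localization.AtPrime (q'.comap (algebraMap S (S ⊗[k] k'))))) (AlgHom.id k k')).toRingHom.toAlgebra
    haveI : IsScalarTower S (S ⊗[k] k')
        (Localization.AtPrime (q'.comap (algebraMap S (S ⊗[k] k'))) ⊗[k] k') :=
      @IsScalarTower.of_algebraMap_eq' S (S ⊗[k] k')
        (Localization.AtPrime (q'.comap (algebraMap S (S ⊗[k] k'))) ⊗[k] k') _ _ _ _ _ _ (by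
        ext x
        simp [RingHom.algebraMap_toAlgebra])
    have hloc := IsLocalization.tensorProduct_tensorProduct k k'
      (q'.comap (algebraMap S (S ⊗[k] k'))).primeCompl
      (Localization.AtPrime (q'.comap (algebraMap S (S ⊗[k] k'))))
      (by ext; simp [RingHom.algebraMap_toAlgebra])
    refine @Groth.Agent.Lib.Helper1.NormalField.normal_atPrime_of_isLocalization _ _ _ _ _ _ hloc h4 q' _ ?_
    rw [Set.disjoint_left]
    rintro x ⟨s, hs, rfl⟩ hx
    exact hs hx

end Groth.Agent.S4748
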