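import Groth.Statements.S4750
import Mathlib
import Groth.Agent.Lib.Helper18.FibBridge

set_option autoImplicit false
universe u
open EGA4

namespace Groth.Agent.S4750

/-- Let A → B → C be homomorphisms of Noetherian rings, both flat and with (S_n) fibres. Then the
composite A → C is flat with (S_n) fibres. -/
theorem result (n : ℕ) (A B C : Type u) [CommRing A] [CommRing B] [CommRing C] [IsNoetherianRing A]
    [IsNoetherianRing B] [IsNoetherianRing C] [Algebra A B] [Algebra B C] [Algebra A C] [IsScalarTower A B C]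
    [Module.Flat A B] [Module.Flat B C]
    (hAB : ∀ (p : Ideal A) [p.IsPrime], LocCoh.HasSk n (p.Fiber B) (p.Fiber B))
    (hBC : ∀ (q : Ideal B) [q.IsPrime], LocCoh.HasSk n (q.Fiber C) (q.Fiber C)) :
    Module.Flat A C ∧ ∀ (p : Ideal A) [p.IsPrime], LocCoh.HasSk n (p.Fiber C) (p.Fiber C) := by
  have hAC : Module.Flat A C := Module.Flat.trans A B C
  refine ⟨hAC, fun p _ => ?_⟩
  rw [Groth.Agent.Lib.Helper18.FibBridge.hasSk_fiber_iff]
  intro r _ _ hr
  have hq : (r.comap (algebraMap B C)).comap (algebraMap A B) = p := by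
    rw [Groth.Agent.Lib.Helper18.FibBridge.comap_comap_eq, hr]
  have l2 := Groth.Agent.Lib.Helper18.RkFlat.isLocalRing_fibLocRing B C r
  have l3 := Groth.Agent.Lib.Helper18.RkFlat.isLocalRing_fibLocRing A B (r.comap (algebraMap B C))
  rw [Groth.Agent.Lib.Helper18.FibBridge.ringKrullDim_fibLocRing_comp A B C r,
    Groth.Agent.Lib.Helper18.FibBridge.depth_fibLocRing_comp A B C r]
  have h1 := (Groth.Agent.Lib.Helper18.FibBridge.hasSk_fiber_iff p n).mp (hAB p)
    (r.comap (algebraMap B C)) hq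
  have h2 := (Groth.Agent.Lib.Helper18.FibBridge.hasSk_fiber_iff
    (r.comap (algebraMap B C)) n).mp (hBC _) r rfl
  obtain ⟨a, ha⟩ := Groth.Agent.Lib.Helper18.SerreReg.exists_ringKrullDim_eq_nat
    (EGA4.FibLocRing A B (r.comap (algebraMap B C)))
  obtain ⟨b, hb⟩ := Groth.Agent.Lib.Helper18.SerreReg.exists_ringKrullDim_eq_nat
    (EGA4.FibLocRing B C r)
  rw [ha] at h1 ⊢
  rw [hb] at h2 ⊢
  exact Groth.Agent.Lib.Helper18.FibBridge.sk_add h1 h2

end Groth.Agent.S4750
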