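import Groth.Statements.S4751
import Mathlib
import Groth.Agent.Lib.Helper18.FibBridge

set_option autoImplicit false
universe u
open EGA4

namespace Groth.Agent.S4751

/-- Let A → B → C be homomorphisms of Noetherian rings such that B → C is faithfully flat with (S_n)
fibres and the composite A → C is flat with (S_n) fibres. Then A → B is flat with (S_n) fibres. -/
theorem result (n : ℕ) (A B C : Type u) [CommRing A] [CommRing B] [CommRing C]
    [IsNoetherianRing A] [IsNoetherianRing B] [IsNoetherianRing C] [Algebra A B] [Algebra B C] [Algebra A C]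
    [IsScalarTower A B C] [Module.FaithfullyFlat B C] [Module.Flat A C]
    (hBC : ∀ (q : Ideal B) [q.IsPrime], LocCoh.HasSk n (q.Fiber C) (q.Fiber C))
    (hAC : ∀ (p : Ideal A) [p.IsPrime], LocCoh.HasSk n (p.Fiber C) (p.Fiber C)) :
    Module.Flat A B ∧ ∀ (p : Ideal A) [p.IsPrime], LocCoh.HasSk n (p.Fiber B) (p.Fiber B) := by
  have hAB : Module.Flat A B := Groth.Agent.Lib.Helper18.FibBridge.flat_of_faithfullyFlat_comp A B C
  have hBC' : Module.Flat B C := inferInstance
  refine ⟨hAB, fun p _ => ?_⟩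
  rw [Groth.Agent.Lib.Helper18.FibBridge.hasSk_fiber_iff]
  intro q _ _ hq
  obtain ⟨r, hr, hrq, hdim⟩ := Groth.Agent.Lib.Helper18.FibBridge.exists_prime_fib_dim_zero B C q
  subst hrq
  have hrp : r.comap (algebraMap A C) = p := by
    rw [← Groth.Agent.Lib.Helper18.FibBridge.comap_comap_eq A B C r, hq]
  have l1 := Groth.Agent.Lib.Helper18.RkFlat.isLocalRing_fibLocRing A C r
  have l2 := Groth.Agent.Lib.Helper18.RkFlat.isLocalRing_fibLocRing B C r
  have h1 := (Groth.Agent.Lib.Helper18.FibBridge.hasSk_fiber_iff p n).mp (hAC p) r hrp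
  rw [Groth.Agent.Lib.Helper18.FibBridge.ringKrullDim_fibLocRing_comp A B C r,
    Groth.Agent.Lib.Helper18.FibBridge.depth_fibLocRing_comp A B C r, hdim,
    Groth.Agent.Lib.Helper18.FibBridge.depth_eq_zero_of_ringKrullDim_eq_zero _ hdim] at h1
  simpa using h1

end Groth.Agent.S4751
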