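import Groth.Statements.S4756
import Mathlib
import Groth.Agent.Lib.Helper18.PMor

set_option autoImplicit false
universe u
open EGA4

namespace Groth.Agent.S4756

open TensorProduct in
theorem isNormalHom_of_algEquiv {R S T : Type u} [CommRing R] [CommRing S] [CommRing T]
    [Algebra R S] [Algebra R T] (e : S ≃ₐ[R] T) (h : EGA4.IsNormalHom R S) :
    EGA4.IsNormalHom R T := by
  haveI := h.1
  refine ⟨Module.Flat.of_linearEquiv e.toLinearEquiv.symm, ?_⟩
  intro p _ K _ _ hfin
  have e1 : p.Fiber S ≃ₐ[p.ResidueField] p.Fiber T :=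
    Algebra.TensorProduct.congr AlgEquiv.refl e
  have e2 : K ⊗[p.ResidueField] (p.Fiber S) ≃ₐ[K] K ⊗[p.ResidueField] (p.Fiber T) :=
    Algebra.TensorProduct.congr AlgEquiv.refl e1
  exact Groth.Agent.Lib.Helper18.FormFib.isNormalRing_of_ringEquiv e2.toRingEquiv (h.2 p K hfin)

/-- Let A → B be a normal homomorphism of Noetherian rings (flat, with geometrically normal fibres) and
S a multiplicative subset of A. Then the induced homomorphism S⁻¹A → S⁻¹B (arbitrary localizations
at S and at its image) is normal. -/
theorem result (A B : Type u) [CommRing A] [CommRing B] [IsNoetherianRing A] [IsNoetherianRing B]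
    [Algebra A B] (h : EGA4.IsNormalHom A B) (S : Submonoid A)
    (A' B' : Type u) [CommRing A'] [CommRing B'] [Algebra A A'] [Algebra B B'] [Algebra A' B'] [Algebra A B']
    [IsScalarTower A A' B'] [IsScalarTower A B B'] [IsLocalization S A']
    [IsLocalization (Algebra.algebraMapSubmonoid B S) B'] :
    EGA4.IsNormalHom A' B' := by
  haveI : Algebra.QuasiFinite A A' := Algebra.QuasiFinite.of_isLocalization (R := A) (S := A) S
  have h1 := Groth.Agent.Lib.Helper18.PMor.isNormalHom_baseChange B A' h
  haveI : Algebra.IsPushout A B A' B' := Algebra.isPushout_of_isLocalization S A' B B'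
  haveI : Algebra.IsPushout A A' B B' := Algebra.IsPushout.symm inferInstance
  exact isNormalHom_of_algEquiv (Algebra.IsPushout.equiv A A' B B') h1

end Groth.Agent.S4756
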