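import Groth.Statements.S4757
import Mathlib
import Groth.Agent.Lib.Helper18.PMor

set_option autoImplicit false
universe u
open EGA4 TensorProduct

namespace Groth.Agent.S4757

/-- Let A → B be a flat homomorphism of Noetherian rings with geometrically reduced fibres and S a
multiplicative subset of A. Then the induced homomorphism S⁻¹A → S⁻¹B (arbitrary localizations at S
and at its image) is flat with geometrically reduced fibres. -/
theorem result (A B : Type u) [CommRing A] [CommRing B] [IsNoetherianRing A]
    [IsNoetherianRing B] [Algebra A B] [Module.Flat A B]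
    (h : ∀ (p : Ideal A) [p.IsPrime], Algebra.IsGeometricallyReduced p.ResidueField (p.Fiber B)) (S : Submonoid A)
    (A' B' : Type u) [CommRing A'] [CommRing B'] [Algebra A A'] [Algebra B B'] [Algebra A' B'] [Algebra A B']
    [IsScalarTower A A' B'] [IsScalarTower A B B'] [IsLocalization S A']
    [IsLocalization (Algebra.algebraMapSubmonoid B S) B'] :
    Module.Flat A' B' ∧ ∀ (p' : Ideal A') [p'.IsPrime], Algebra.IsGeometricallyReduced p'.ResidueField (p'.Fiber B') := by
  have h1 : Algebra.IsPushout A B A' B' := Algebra.isPushout_of_isLocalization S A' B B'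
  haveI h2 : Algebra.IsPushout A A' B B' := (Algebra.IsPushout.comm A B A' B').mp h1
  let e : A' ⊗[A] B ≃ₐ[A'] B' := Algebra.IsPushout.equiv A A' B B'
  refine ⟨Module.Flat.of_linearEquiv e.symm.toLinearEquiv, ?_⟩
  intro p' _
  haveI : Algebra.QuasiFinite A A' := Algebra.QuasiFinite.of_isLocalization (R := A) (S := A) S
  haveI h3 := Groth.Agent.Lib.Helper18.PMor.isGeometricallyReduced_fiber_baseChange (B := A) B A' h p'
  refine Algebra.IsGeometricallyReduced.of_injective
    (Algebra.TensorProduct.map (AlgHom.id p'.ResidueField p'.ResidueField) e.symm.toAlgHom) ?_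
  exact (Algebra.TensorProduct.congr AlgEquiv.refl e.symm).injective

end Groth.Agent.S4757
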