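import Groth.Statements.S4758
-- import your own Groth.Agent.* helpers here
import Groth.Agent.Lib.Helper5.LimitBaseChange
import Mathlib.AlgebraicGeometry.PullbackCarrier
import Mathlib.AlgebraicGeometry.ResidueField

set_option autoImplicit false
universe u
open CategoryTheory AlgebraicGeometry
open Lim8

namespace Groth.Agent.S4758

/-- Let S = lim S_i be a cofiltered limit of schemes with affine transition maps and let i be an index.
The canonical projection S ⟶ S_i is surjective if and only if every transition map S_j ⟶ S_i is
surjective. -/
theorem result {I : Type u} [SmallCategory I] [IsCofiltered I]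
    (D : I ⥤ Scheme.{u}) (c : Limits.Cone D) (hc : Limits.IsLimit c)
    [∀ (i j : I) (f : i ⟶ j), IsAffineHom (D.map f)] (i : I) :
    Surjective (c.π.app i) ↔ ∀ (j : I) (φ : j ⟶ i), Surjective (D.map φ) := by
  constructor
  · intro h j φ
    have : Surjective (c.π.app j ≫ D.map φ) := by rw [c.w φ]; exact h
    exact Surjective.of_comp (c.π.app j) (D.map φ)
  · intro h
    refine ⟨fun s => ?_⟩
    let g := (D.obj i).fromSpecResidueField s
    have hne : ∀ j : Over i, Nonempty ((Groth.Agent.Lib.Helper5.bcDiagram D i g).obj j) := by
      intro j
      have : Surjective (D.map j.hom) := h j.left j.hom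
      have : Surjective (Limits.pullback.snd (D.map j.hom) g) := inferInstance
      obtain ⟨z, _⟩ := (Limits.pullback.snd (D.map j.hom) g).surjective (Classical.arbitrary _)
      exact ⟨z⟩
    have hcpt : ∀ j : Over i, CompactSpace ((Groth.Agent.Lib.Helper5.bcDiagram D i g).obj j) := by
      intro j
      have : IsAffineHom (Limits.pullback.snd (D.map j.hom) g) := inferInstance
      have : IsAffine (Limits.pullback (D.map j.hom) g) :=
        isAffine_of_isAffineHom (Limits.pullback.snd (D.map j.hom) g)
      show CompactSpace ↥(Limits.pullback (D.map j.hom) g)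
      infer_instance
    obtain ⟨x⟩ := Scheme.nonempty_of_isLimit (Groth.Agent.Lib.Helper5.bcDiagram D i g)
      (Groth.Agent.Lib.Helper5.bcCone D c i g) (Groth.Agent.Lib.Helper5.isLimitBcCone D c hc i g)
    refine ⟨Limits.pullback.fst (c.π.app i) g x, ?_⟩
    have e : c.π.app i (Limits.pullback.fst (c.π.app i) g x) =
        g (Limits.pullback.snd (c.π.app i) g x) := by
      rw [← Scheme.Hom.comp_apply, ← Scheme.Hom.comp_apply, Limits.pullback.condition]
    rw [e]
    have hr := Scheme.range_fromSpecResidueField s
    have : g (Limits.pullback.snd (c.π.app i) g x) ∈ Set.range g := Set.mem_range_self _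
    rw [hr] at this
    exact this

end Groth.Agent.S4758
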