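import Groth.Statements.S4764
-- import your own Groth.Agent.* helpers here
import Groth.Agent.Lib.Helper5.FlatColimit
import Mathlib.AlgebraicGeometry.Morphisms.Flat

set_option autoImplicit false
universe u
open CategoryTheory AlgebraicGeometry
open Lim8

namespace Groth.Agent.S4764

/-- Let S = lim S_i be a cofiltered limit of schemes with affine transition maps and let i be an index
such that every transition map S_j ⟶ S_i is flat. Then the canonical projection S ⟶ S_i is flat. -/
theorem result {I : Type u} [SmallCategory I] [IsCofiltered I]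
    (D : I ⥤ Scheme.{u}) (c : Limits.Cone D) (hc : Limits.IsLimit c)
    [∀ (i j : I) (f : i ⟶ j), IsAffineHom (D.map f)] (i : I)
    (hf : ∀ (j : I) (φ : j ⟶ i), Flat (D.map φ)) : Flat (c.π.app i) := by
  refine IsZariskiLocalAtTarget.of_iSup_eq_top (P := @Flat)
    (fun U : (D.obj i).affineOpens => (U : (D.obj i).Opens)) (iSup_affineOpens_eq_top (D.obj i)) ?_
  rintro ⟨U, hU⟩
  have haff : ∀ j : Over i, IsAffine ((opensDiagram D i U).obj j) := fun j => hU.preimage _
  obtain ⟨hcolim⟩ := nonempty_isColimit_Γ_mapCocone (opensDiagram D i U) (opensCone D c i U)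
    (isLimitOpensCone D c hc i U)
  have hpt : IsAffine (opensCone D c i U).pt :=
    Scheme.isAffine_of_isLimit _ (isLimitOpensCone D c hc i U)
  have key := Groth.Agent.Lib.Helper5.flat_ι_of_isColimit
    ((opensDiagram D i U).op ⋙ Scheme.Γ) (Scheme.Γ.mapCocone (opensCone D c i U).op) hcolim
    (Opposite.op (Over.mk (𝟙 i))) (by
      intro j φ
      have hfl : Flat (D.map φ.unop.left) := hf _ _
      have : Flat ((opensDiagram D i U).map φ.unop) := by
        dsimp only [opensDiagram]
        infer_instance
      exact Scheme.Hom.flat_appTop ((opensDiagram D i U).map φ.unop))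
  let g : (opensCone D c i U).pt ⟶ (opensDiagram D i U).obj (Over.mk (𝟙 i)) :=
    (opensCone D c i U).π.app (Over.mk (𝟙 i))
  have h1 : Flat g := (HasRingHomProperty.iff_of_isAffine (P := @Flat)).mpr key
  dsimp only [g, opensCone] at h1
  rw [← Scheme.Hom.resLE_eq_morphismRestrict]
  refine (Scheme.Hom.resLE_congr (c.π.app i) _ ?_ rfl @Flat).mp h1
  simp

end Groth.Agent.S4764
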