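import Groth.Statements.S4765
-- import your own Groth.Agent.* helpers here

set_option autoImplicit false
universe u
open CategoryTheory AlgebraicGeometry
open Lim8

namespace Groth.Agent.S4765

/-- Let S = lim S_i be a cofiltered limit of schemes with affine transition maps and let i be an index
such that the projection S ⟶ S_j is surjective for every j over i. Then the projection S ⟶ S_i is an
open map if and only if every transition map S_j ⟶ S_i is an open map. This is the case of open
morphisms. -/
theorem result {I : Type u} [SmallCategory I] [IsCofiltered I]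
    (D : I ⥤ Scheme.{u}) (c : Limits.Cone D) (hc : Limits.IsLimit c)
    [∀ (i j : I) (f : i ⟶ j), IsAffineHom (D.map f)] (i : I)
    (hs : ∀ (j : I) (φ : j ⟶ i), Surjective (c.π.app j)) :
    IsOpenMap ⇑(c.π.app i) ↔ ∀ (j : I) (φ : j ⟶ i), IsOpenMap ⇑(D.map φ) := by
  constructor
  · intro h j φ U hU
    have hsurj : Function.Surjective (c.π.app j) := (hs j φ).surj
    have : ⇑(D.map φ) '' U = ⇑(c.π.app i) '' (⇑(c.π.app j) ⁻¹' U) := by
      ext y
      constructor
      · rintro ⟨x, hx, rfl⟩
        obtain ⟨z, rfl⟩ := hsurj x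
        refine ⟨z, hx, ?_⟩
        rw [← c.w φ]
        rfl
      · rintro ⟨z, hz, rfl⟩
        refine ⟨c.π.app j z, hz, ?_⟩
        rw [← c.w φ]
        rfl
    rw [this]
    exact h _ (hU.preimage (c.π.app j).continuous)
  · intro h W hW
    rw [isOpen_iff_forall_mem_open]
    rintro _ ⟨x, hx, rfl⟩
    have hx' : x ∈ (⟨W, hW⟩ : c.pt.Opens) := hx
    obtain ⟨_, ⟨j, V, hV, rfl⟩, hxV, hVW⟩ :=
      (TopologicalSpace.Opens.isBasis_iff_nbhd.mp (isBasis_preimage_isAffineOpen D c hc)) hx'
    let k := IsCofiltered.min j i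
    let a : k ⟶ j := IsCofiltered.minToLeft j i
    let b : k ⟶ i := IsCofiltered.minToRight j i
    have hsurj : Function.Surjective (c.π.app k) := (hs k b).surj
    have himg : ⇑(c.π.app i) '' (⇑(c.π.app j) ⁻¹' (V : Set (D.obj j))) =
        ⇑(D.map b) '' (⇑(D.map a) ⁻¹' (V : Set (D.obj j))) := by
      ext y
      constructor
      · rintro ⟨z, hz, rfl⟩
        refine ⟨c.π.app k z, ?_, ?_⟩
        · show (D.map a) (c.π.app k z) ∈ V
          have : (D.map a) (c.π.app k z) = c.π.app j z := by
            rw [← c.w a]; rfl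
          rw [this]; exact hz
        · rw [← c.w b]; rfl
      · rintro ⟨w, hw, rfl⟩
        obtain ⟨z, rfl⟩ := hsurj w
        refine ⟨z, ?_, ?_⟩
        · show c.π.app j z ∈ V
          have : (D.map a) (c.π.app k z) = c.π.app j z := by
            rw [← c.w a]; rfl
          rw [← this]; exact hw
        · rw [← c.w b]; rfl
    refine ⟨⇑(c.π.app i) '' (⇑(c.π.app j) ⁻¹' (V : Set (D.obj j))), ?_, ?_, ?_⟩
    · exact Set.image_mono hVW
    · rw [himg]
      exact h k b _ (V.2.preimage (D.map a).continuous)
    · exact ⟨x, hxV, rfl⟩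

end Groth.Agent.S4765
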