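import Groth.Statements.S4766
-- import your own Groth.Agent.* helpers here
import Groth.Agent.Lib.Helper5.LimitBaseChange
import Groth.Agent.S4765
import Mathlib.AlgebraicGeometry.PullbackCarrier
import Mathlib.AlgebraicGeometry.Morphisms.UniversallyOpen

set_option autoImplicit false
universe u
open CategoryTheory AlgebraicGeometry
open Lim8

namespace Groth.Agent.S4766

open Limits MorphismProperty in
theorem universallyOpen_of_comp_of_surjective {X Y Z : Scheme.{u}} (f : X ⟶ Y) (g : Y ⟶ Z)
    [Surjective f] [UniversallyOpen (f ≫ g)] : UniversallyOpen g := by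
  refine ⟨universally_mk' _ _ fun {T} t _ => ?_⟩
  have hpb : IsPullback (pullback.fst (pullback.snd t g) f ≫ pullback.fst t g)
      (pullback.snd (pullback.snd t g) f) t (f ≫ g) :=
    (IsPullback.of_hasPullback (pullback.snd t g) f).paste_horiz (IsPullback.of_hasPullback t g)
  have hopen : IsOpenMap (pullback.fst (pullback.snd t g) f ≫ pullback.fst t g) :=
    UniversallyOpen.universally_isOpenMap (f := f ≫ g) _ _ _ hpb
  have hsurj : Function.Surjective (pullback.fst (pullback.snd t g) f) :=
    (pullback.fst (pullback.snd t g) f).surjective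
  intro U hU
  have : ⇑(pullback.fst t g) '' U =
      ⇑(pullback.fst (pullback.snd t g) f ≫ pullback.fst t g) ''
        (⇑(pullback.fst (pullback.snd t g) f) ⁻¹' U) := by
    ext y
    constructor
    · rintro ⟨x, hx, rfl⟩
      obtain ⟨z, rfl⟩ := hsurj x
      exact ⟨z, hx, rfl⟩
    · rintro ⟨z, hz, rfl⟩
      exact ⟨_, hz, rfl⟩
  rw [this]
  exact hopen _ (hU.preimage (pullback.fst (pullback.snd t g) f).continuous)


/-- Let S = lim S_i be a cofiltered limit of schemes with affine transition maps and let i be an index
such that the projection S ⟶ S_j is surjective for every j over i. Then the projection S ⟶ S_i is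
universally open if and only if every transition map S_j ⟶ S_i is universally open. This is the case
of universally open morphisms. -/
theorem result {I : Type u} [SmallCategory I] [IsCofiltered I]
    (D : I ⥤ Scheme.{u}) (c : Limits.Cone D) (hc : Limits.IsLimit c)
    [∀ (i j : I) (f : i ⟶ j), IsAffineHom (D.map f)] (i : I)
    (hs : ∀ (j : I) (φ : j ⟶ i), Surjective (c.π.app j)) :
    UniversallyOpen (c.π.app i) ↔ ∀ (j : I) (φ : j ⟶ i), UniversallyOpen (D.map φ) := by
  constructor
  · intro h j φ
    have : Surjective (c.π.app j) := hs j φ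
    have : UniversallyOpen (c.π.app j ≫ D.map φ) := by rw [c.w φ]; exact h
    exact universallyOpen_of_comp_of_surjective (c.π.app j) (D.map φ)
  · intro h
    refine ⟨MorphismProperty.universally_mk' _ _ fun {T} t _ => ?_⟩
    have key : IsOpenMap ((Groth.Agent.Lib.Helper5.bcCone D c i t).π.app (Over.mk (𝟙 i))) := by
      refine (Groth.Agent.S4765.result (Groth.Agent.Lib.Helper5.bcDiagram D i t)
        (Groth.Agent.Lib.Helper5.bcCone D c i t)
        (Groth.Agent.Lib.Helper5.isLimitBcCone D c hc i t) (Over.mk (𝟙 i)) ?_).mpr ?_
      · intro j' φ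
        have : Surjective (c.π.app j'.left) := hs j'.left j'.hom
        exact MorphismProperty.of_isPullback (P := @Surjective)
          (Groth.Agent.Lib.Helper5.isPullback_bcCone D c i t j').flip this
      · intro j' φ
        have h1 : UniversallyOpen (D.map φ.left) := h j'.left φ.left
        have h2 : UniversallyOpen ((Groth.Agent.Lib.Helper5.bcDiagram D i t).map φ) :=
          MorphismProperty.of_isPullback (P := @UniversallyOpen)
            (Groth.Agent.Lib.Helper5.isPullback_bcDiagram_map D i t φ).flip h1
        exact ((Groth.Agent.Lib.Helper5.bcDiagram D i t).map φ).isOpenMap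
    have e1 : Limits.pullback.snd (c.π.app i) t =
        (Groth.Agent.Lib.Helper5.bcCone D c i t).π.app (Over.mk (𝟙 i)) ≫
          Limits.pullback.snd (D.map (𝟙 i)) t :=
      (Groth.Agent.Lib.Helper5.bcCone_π_app_snd D c i t (Over.mk (𝟙 i))).symm
    have e2 : Limits.pullback.fst t (c.π.app i) =
        (Limits.pullbackSymmetry t (c.π.app i)).hom ≫ Limits.pullback.snd (c.π.app i) t := by
      simp
    show IsOpenMap (Limits.pullback.fst t (c.π.app i))
    rw [e2, e1]
    have h3 : IsOpenMap (Limits.pullback.snd (D.map (𝟙 i)) t) :=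
      (Limits.pullback.snd (D.map (𝟙 i)) t).homeomorph.isOpenMap
    have h4 : IsOpenMap (Limits.pullbackSymmetry t (c.π.app i)).hom :=
      (Limits.pullbackSymmetry t (c.π.app i)).hom.homeomorph.isOpenMap
    exact (h3.comp key).comp h4

end Groth.Agent.S4766
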