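import Groth.Statements.S4777
import Groth.Agent.Lib27.Misc.FPColim3

set_option autoImplicit false
universe u
open CategoryTheory
open Lim8

namespace Groth.Agent.S4777

theorem result {A B : CommRingCat.{u}} (f : A ⟶ B)
    (h : ∀ (J : Type u) [Preorder J] [IsDirected J (· ≤ ·)] [Nonempty J] (F : J ⥤ Under A),
      Limits.PreservesColimit F (coyoneda.obj (Opposite.op (Under.mk f)))) :
    f.hom.FinitePresentation := by
  letI : Algebra A B := f.hom.toAlgebra
  have hP : Groth.Agent.Lib27.FPColim.Pres A B := by
    intro J _ _ _ F
    exact h J F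
  exact Groth.Agent.Lib27.FPColim.finitePresentation_of_pres hP

end Groth.Agent.S4777
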