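import Groth.Statements.S4779
import Groth.Agent.Lib.Helper13.Rebase
import Groth.Agent.Lib.Helper13.Localize

set_option autoImplicit false
universe u
open CategoryTheory AlgebraicGeometry
open Lim8

namespace Groth.Agent.S4779
open CategoryTheory.Limits Groth.Agent.Lib.Helper5 Groth.Agent.Lib.Helper13 Groth.Agent.Lib.Helper13.LimitDescent

/-- Let S = lim S_i be a cofiltered limit of schemes with affine transition maps, let f₀ : X₀ ⟶ Y₀ be a
morphism of schemes over a stage S_{i₀}, and let f : X ⟶ Y be its base change along S ⟶ S_{i₀} (all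
base changes are expressed by pullback squares). If there is an index i over i₀ such that, for every
j over i, the base change f_j : X_j ⟶ Y_j of f₀ along S_j ⟶ S_{i₀} is an open map, then f is an open
map. (The corresponding statement for universally open morphisms follows from this one by base
change.) -/
theorem result {I : Type u} [SmallCategory I] [IsCofiltered I]
    (D : I ⥤ Scheme.{u}) (c : Limits.Cone D) (hc : Limits.IsLimit c)
    [∀ (i j : I) (f : i ⟶ j), IsAffineHom (D.map f)] (i₀ : I)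
    {X₀ Y₀ : Scheme.{u}} (f₀ : X₀ ⟶ Y₀) (g₀ : Y₀ ⟶ D.obj i₀)
    {X Y : Scheme.{u}} (f : X ⟶ Y) (g : Y ⟶ c.pt) (qY : Y ⟶ Y₀) (qX : X ⟶ X₀)
    (hY : IsPullback qY g g₀ (c.π.app i₀)) (hX : IsPullback qX f f₀ qY)
    (h : ∃ (i : I) (φ : i ⟶ i₀), ∀ (j : I) (ψ : j ⟶ i) (Xj Yj : Scheme.{u}) (fj : Xj ⟶ Yj)
      (gj : Yj ⟶ D.obj j) (pY : Yj ⟶ Y₀) (pX : Xj ⟶ X₀),
      IsPullback pY gj g₀ (D.map (ψ ≫ φ)) → IsPullback pX fj f₀ pY → IsOpenMap ⇑fj) :
    IsOpenMap ⇑f := by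
  haveI hAff : ∀ {i j : I} (t : i ⟶ j), IsAffineHom (D.map t) := fun t => inferInstance
  obtain ⟨i, φ, hopen⟩ := h
  let DX := bcDiagram D i₀ (f₀ ≫ g₀)
  let cX := bcCone D c i₀ (f₀ ≫ g₀)
  have hcX : IsLimit cX := isLimitBcCone D c hc i₀ (f₀ ≫ g₀)
  have hbasis := isBasis_preimage_isAffineOpen DX cX hcX
  let e := isoX hY hX
  rw [isOpenMap_iff_nhds_le]
  intro x
  rw [Filter.le_map_iff]
  intro s hs
  obtain ⟨U, hUs, hUo, hxU⟩ := mem_nhds_iff.mp hs
  -- transport `U` to the cone point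
  let U' : cX.pt.Opens := e.inv ⁻¹ᵁ ⟨U, hUo⟩
  have hxU' : e.hom x ∈ U' := by
    show e.inv (e.hom x) ∈ U
    rw [← Scheme.Hom.comp_apply, Iso.hom_inv_id]
    exact hxU
  obtain ⟨_, ⟨j, V, hV, rfl⟩, hxV, hVU⟩ :=
    TopologicalSpace.Opens.isBasis_iff_nbhd.mp hbasis hxU'
  -- refine the index
  let l := IsCofiltered.min j (Over.mk φ)
  let e1 : l ⟶ j := IsCofiltered.minToLeft j (Over.mk φ)
  let e2 : l ⟶ Over.mk φ := IsCofiltered.minToRight j (Over.mk φ)
  let V' : (DX.obj l).Opens := DX.map e1 ⁻¹ᵁ V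
  have hπ : cX.π.app l ≫ DX.map e1 = cX.π.app j := cX.w e1
  have hV' : cX.π.app l ⁻¹ᵁ V' = cX.π.app j ⁻¹ᵁ V := by
    rw [← Scheme.Hom.comp_preimage, hπ]
  have hfl : IsOpenMap (fj D i₀ f₀ g₀ l) := by
    have hl : l.hom = e2.left ≫ φ := (Over.w e2).symm
    refine hopen l.left e2.left _ _ (fj D i₀ f₀ g₀ l) (gj D i₀ g₀ l) (pYj D i₀ g₀ l)
      (pXj D i₀ f₀ g₀ l) ?_ (isPullback_Xj D i₀ f₀ g₀ l)
    rw [← hl]
    exact isPullback_Yj D i₀ g₀ l
  have hsq := isPullback_πX hY hX l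
  have himg := Scheme.image_preimage_eq_of_isPullback hsq (V' : Set (DX.obj l))
  have hπX : πX hY hX l = e.hom ≫ cX.π.app l := rfl
  -- the open neighbourhood
  have hopen' : IsOpen (πY hY l ⁻¹' (fj D i₀ f₀ g₀ l '' (V' : Set (DX.obj l)))) :=
    (hfl _ V'.isOpen).preimage (πY hY l).continuous
  have hmem : f x ∈ πY hY l ⁻¹' (fj D i₀ f₀ g₀ l '' (V' : Set (DX.obj l))) := by
    rw [← himg]
    refine ⟨x, ?_, rfl⟩
    have : e.hom x ∈ cX.π.app l ⁻¹ᵁ V' := by rw [hV']; exact hxV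
    exact this
  refine Filter.mem_of_superset (hopen'.mem_nhds hmem) ?_
  rw [← himg]
  rintro _ ⟨z, hz, rfl⟩
  refine Set.mem_image_of_mem _ (hUs ?_)
  have hz' : e.hom z ∈ cX.π.app j ⁻¹ᵁ V := by
    rw [← hV']
    exact hz
  have := hVU hz'
  have h2 : e.inv (e.hom z) ∈ U := this
  rwa [← Scheme.Hom.comp_apply, Iso.hom_inv_id] at h2

end Groth.Agent.S4779
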