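import Groth.Statements.S4781
import Groth.Agent.Lib.Helper21.IrrFib4
import Groth.Agent.Lib.Helper18.FibSemi
-- import your own Groth.Agent.* helpers here

set_option autoImplicit false
universe u
open CategoryTheory AlgebraicGeometry
open Cons9

namespace Groth.Agent.S4781

/-- Let S be a Noetherian irreducible scheme with generic point η, let X be an irreducible scheme and f
: X ⟶ S a dominant morphism of finite type. Then there is an open neighbourhood U of η in S such
that, for every s ∈ U, all irreducible components of the fibre f⁻¹(s) have dimension equal to dim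
f⁻¹(η). Fibres are taken as subspaces of X and dimensions are topological Krull dimensions. -/
theorem result {X S : Scheme.{u}} (f : X ⟶ S)
    [IsNoetherian S] [IrreducibleSpace S] [IrreducibleSpace X] [IsDominant f]
    [LocallyOfFiniteType f] [QuasiCompact f] :
    ∃ U : S.Opens, genericPoint S ∈ U ∧ ∀ s ∈ U, ∀ T ∈ irreducibleComponents ↥(⇑f ⁻¹' {s}),
      topologicalKrullDim ↥T = topologicalKrullDim ↥(⇑f ⁻¹' {genericPoint S}) := by
  have : CompactSpace X := QuasiCompact.compactSpace_of_compactSpace f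
  have : IsLocallyNoetherian X := LocallyOfFiniteType.isLocallyNoetherian f
  have : IsNoetherian X := {}
  have hξη : f (genericPoint X) = genericPoint S :=
    Groth.Agent.Lib.Helper21.GenFin.map_genericPoint f
  have hmaxξ : ∀ x' : X, x' ⤳ genericPoint X → x' = genericPoint X :=
    fun x' hx' => (hx'.antisymm (genericPoint_specializes x')).eq
  obtain ⟨e, he1, he2⟩ :=
    Groth.Agent.Lib.Helper21.FibDim.fibreDimAt_eq_trdeg_of_maximal' f (genericPoint X) hmaxξ
  -- the dimension of the generic fibre
  have hgen : topologicalKrullDim ↥(⇑f ⁻¹' {genericPoint S}) = e := by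
    have := Groth.Agent.Lib.Helper21.IrrFib.topologicalKrullDim_preimage_singleton_eq f
      (genericPoint X) e (fun x _ => genericPoint_specializes x) he2
    rwa [hξη] at this
  -- the bad locus
  have hBcl : IsClosed {x : X | ((e + 1 : ℕ) : WithBot ℕ∞) ≤ FlatMor.fibreDimAt f x} :=
    Groth.Agent.Lib.Helper18.FibSemi.isClosed_setOf_le_fibreDimAt f (e + 1)
  have hE : Topology.IsConstructible
      (f '' {x : X | ((e + 1 : ℕ) : WithBot ℕ∞) ≤ FlatMor.fibreDimAt f x}) :=
    f.isConstructible_image (Groth.Agent.Lib.Helper12.isConstructible_of_isClosed hBcl)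
  have hηE : genericPoint S ∉
      f '' {x : X | ((e + 1 : ℕ) : WithBot ℕ∞) ≤ FlatMor.fibreDimAt f x} := by
    rintro ⟨b, hb, hfb⟩
    have h1 : ((e + 1 : ℕ) : WithBot ℕ∞) ≤ FlatMor.fibreDimAt f b := hb
    have h2 := Groth.Agent.Lib.Helper21.FibDim.fibreDimAt_le_topologicalKrullDim_fiber f b
    rw [(f.fiberHomeo (f b)).isHomeomorph.topologicalKrullDim_eq, hfb] at h2
    have h2' : FlatMor.fibreDimAt f b ≤ (e : WithBot ℕ∞) := by
      rw [← hgen]; exact h2
    have h3 := h1.trans h2'
    have : e + 1 ≤ e := by exact_mod_cast h3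
    omega
  obtain ⟨U, hUo, hUne, hU⟩ := Groth.Agent.Lib.Helper12.constructible_dichotomy hE
    (IrreducibleSpace.isIrreducible_univ S)
  rw [Set.inter_univ] at hUne hU
  have hηU : genericPoint S ∈ U := by
    rw [(genericPoint_spec S).mem_open_set_iff hUo, Set.univ_inter]
    exact hUne
  have hUc : U ⊆ (f '' {x : X | ((e + 1 : ℕ) : WithBot ℕ∞) ≤ FlatMor.fibreDimAt f x})ᶜ := by
    rcases hU with hU | hU
    · exact absurd (hU hηU) hηE
    · exact hU
  refine ⟨⟨U, hUo⟩, hηU, ?_⟩
  intro s hs T hT
  rw [hgen]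
  -- transport to the fibre scheme
  have hT' := Groth.Agent.Lib.Helper21.IrrFib.preimage_mem_irreducibleComponents
    (f.fiberHomeo s) T hT
  rw [← Groth.Agent.Lib.Helper21.IrrFib.topologicalKrullDim_preimage_homeomorph
    (f.fiberHomeo s) T]
  obtain ⟨z, hz, hzdim, hzmax⟩ :=
    Groth.Agent.Lib.Helper21.FibDim.exists_isGenericPoint_fiber f s _ hT'
  rw [hzdim]
  have hfz : f (f.fiberι s z) = s := (f.fiberHomeo s z).2
  obtain ⟨n, hn1, hn2⟩ :=
    Groth.Agent.Lib.Helper21.FibDim.fibreDimAt_eq_trdeg_of_maximal f (f.fiberι s z) hzmax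
  rw [hn1]
  -- upper bound
  have hle : n ≤ e := by
    by_contra hlt
    have hmem : f.fiberι s z ∈ {x : X | ((e + 1 : ℕ) : WithBot ℕ∞) ≤ FlatMor.fibreDimAt f x} := by
      change ((e + 1 : ℕ) : WithBot ℕ∞) ≤ FlatMor.fibreDimAt f (f.fiberι s z)
      rw [hn1]
      have : e + 1 ≤ n := by omega
      exact_mod_cast this
    exact hUc hs ⟨_, hmem, hfz⟩
  -- lower bound
  have hge : e ≤ n := by
    obtain ⟨τ, m, h1, h2, h3, h4, h5⟩ :=
      Groth.Agent.Lib.Helper21.IrrFib.exists_fibre_generization f
        (genericPoint_specializes (f.fiberι s z)) e he2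
    have := hzmax τ h2 h3
    subst this
    have : (m : Cardinal) = n := by rw [← h5, ← hn2]
    have : m = n := by exact_mod_cast this
    omega
  have : n = e := le_antisymm hle hge
  rw [this]

end Groth.Agent.S4781
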