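import Groth.Statements.S4795
import Groth.Agent.Lib.Helper1.ObjDescIso

set_option autoImplicit false
universe u
open CategoryTheory AlgebraicGeometry
open Lim8

namespace Groth.Agent.S4795
open CategoryTheory.Limits

/-- Let S = lim S_i be a cofiltered limit of schemes with affine transition maps and S_{i₀} a
quasi-compact quasi-separated stage; let X₀ and Y₀ be schemes of finite presentation over S_{i₀},
and let X, Y be their base changes along S ⟶ S_{i₀} (base changes are expressed by pullback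
squares). Then X and Y are isomorphic over S if and only if, for some index j over i₀, the base
changes X_j and Y_j of X₀ and Y₀ along S_j ⟶ S_{i₀} are isomorphic over S_j. -/
theorem result {I : Type u} [SmallCategory I] [IsCofiltered I]
    (D : I ⥤ Scheme.{u}) (c : Limits.Cone D) (hc : Limits.IsLimit c)
    [∀ (i j : I) (f : i ⟶ j), IsAffineHom (D.map f)] (i₀ : I)
    [CompactSpace (D.obj i₀)] [QuasiSeparatedSpace (D.obj i₀)]
    {X₀ Y₀ : Scheme.{u}} (a₀ : X₀ ⟶ D.obj i₀) (b₀ : Y₀ ⟶ D.obj i₀)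
    [LocallyOfFinitePresentation a₀] [QuasiCompact a₀] [QuasiSeparated a₀]
    [LocallyOfFinitePresentation b₀] [QuasiCompact b₀] [QuasiSeparated b₀]
    {X Y : Scheme.{u}} (a : X ⟶ c.pt) (b : Y ⟶ c.pt) (qX : X ⟶ X₀) (qY : Y ⟶ Y₀)
    (hX : IsPullback qX a a₀ (c.π.app i₀)) (hY : IsPullback qY b b₀ (c.π.app i₀)) :
    (∃ e : X ≅ Y, e.hom ≫ b = a) ↔
      ∃ (j : I) (φ : j ⟶ i₀) (Xj Yj : Scheme.{u}) (aj : Xj ⟶ D.obj j) (bj : Yj ⟶ D.obj j)
        (pX : Xj ⟶ X₀) (pY : Yj ⟶ Y₀), IsPullback pX aj a₀ (D.map φ) ∧ IsPullback pY bj b₀ (D.map φ) ∧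
        ∃ e : Xj ≅ Yj, e.hom ≫ bj = aj := by
  haveI hAff : ∀ {i j : I} (t : i ⟶ j), IsAffineHom (D.map t) := fun t => inferInstance
  haveI : ∀ i : Over i₀, CompactSpace ((Over.forget i₀ ⋙ D).obj i) := fun i =>
    QuasiCompact.compactSpace_of_compactSpace (D.map i.hom)
  haveI : ∀ i : Over i₀, QuasiSeparatedSpace ((Over.forget i₀ ⋙ D).obj i) := fun i =>
    quasiSeparatedSpace_of_quasiSeparated (D.map i.hom)
  haveI : ∀ {i j : Over i₀} (t : i ⟶ j), IsAffineHom ((Over.forget i₀ ⋙ D).map t) := fun t => by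
    dsimp; infer_instance
  have hc' := (Functor.Initial.isLimitWhiskerEquiv (Over.forget i₀) c).symm hc
  constructor
  · rintro ⟨e, he⟩
    let MX : Groth.Agent.Lib.Helper1.ObjDesc.Model (Over.forget i₀ ⋙ D)
      (c.whisker (Over.forget i₀)) a (Over.mk (𝟙 i₀)) := ⟨X₀, a₀, qX, hX⟩
    let MY : Groth.Agent.Lib.Helper1.ObjDesc.Model (Over.forget i₀ ⋙ D)
      (c.whisker (Over.forget i₀)) b (Over.mk (𝟙 i₀)) := ⟨Y₀, b₀, qY, hY⟩
    have hMX : MX.IsFP := ⟨inferInstanceAs (LocallyOfFinitePresentation a₀),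
      inferInstanceAs (QuasiCompact a₀), inferInstanceAs (QuasiSeparated a₀)⟩
    have hMY : MY.IsFP := ⟨inferInstanceAs (LocallyOfFinitePresentation b₀),
      inferInstanceAs (QuasiCompact b₀), inferInstanceAs (QuasiSeparated b₀)⟩
    obtain ⟨j, φ, Xj, Yj, aj, bj, pX, pY, h1, h2, ε, hε⟩ := MX.exists_iso hc' MY hMX hMY e he
    exact ⟨j.left, φ.left, Xj, Yj, aj, bj, pX, pY, h1, h2, ε, hε⟩
  · rintro ⟨j, φ, Xj, Yj, aj, bj, pX, pY, h1, h2, ε, hε⟩
    have wX : qX ≫ a₀ = (a ≫ c.π.app j) ≫ D.map φ := by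
      rw [Category.assoc, c.w]; exact hX.w
    have wY : qY ≫ b₀ = (b ≫ c.π.app j) ≫ D.map φ := by
      rw [Category.assoc, c.w]; exact hY.w
    have sX : IsPullback (h1.lift qX (a ≫ c.π.app j) wX) a aj (c.π.app j) := by
      refine IsPullback.of_right ?_ (h1.lift_snd _ _ wX) h1
      rw [h1.lift_fst, c.w]
      exact hX
    have sY : IsPullback (h2.lift qY (b ≫ c.π.app j) wY) b bj (c.π.app j) := by
      refine IsPullback.of_right ?_ (h2.lift_snd _ _ wY) h2
      rw [h2.lift_fst, c.w]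
      exact hY
    have sX' : IsPullback (h1.lift qX (a ≫ c.π.app j) wX ≫ ε.hom) a bj (c.π.app j) := by
      refine sX.of_iso (Iso.refl _) ε (Iso.refl _) (Iso.refl _) ?_ ?_ ?_ ?_
      · simp
      · simp
      · simpa using hε.symm
      · simp
    refine ⟨IsPullback.isoIsPullback _ _ sX' sY, ?_⟩
    exact IsPullback.isoIsPullback_hom_snd _ _ sX' sY

end Groth.Agent.S4795
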