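import Groth.Statements.S4806
import Mathlib
import Groth.Agent.S3042

set_option autoImplicit false
universe u
open CategoryTheory AlgebraicGeometry
open Lim8

namespace Groth.Agent.S4806


/-- Let f : X ⟶ Y be a proper morphism of finite presentation. Then f is a closed immersion if and only
if, for every point y of Y, the scheme-theoretic fibre of f at y is empty or its structure morphism
to Spec κ(y) is an isomorphism. -/
theorem result {X Y : Scheme.{u}} (f : X ⟶ Y) [IsProper f]
    [LocallyOfFinitePresentation f] :
    IsClosedImmersion f ↔ ∀ y : Y, IsEmpty (f.fiber y) ∨ IsIso (f.fiberToSpecResidueField y) := by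

  constructor
  · intro hf y
    by_cases hne : IsEmpty (f.fiber y)
    · exact Or.inl hne
    · right
      rw [not_isEmpty_iff] at hne
      haveI : IsClosedImmersion (f.fiberToSpecResidueField y) := by
        show IsClosedImmersion (Limits.pullback.snd f (Y.fromSpecResidueField y))
        infer_instance
      haveI : Surjective (f.fiberToSpecResidueField y) := ⟨fun z => by
        obtain ⟨w⟩ := hne
        exact ⟨w, Subsingleton.elim _ _⟩⟩
      exact isIso_of_isClosedImmersion_of_surjective _
  · intro h
    have hmono : ∀ y : Y, Mono (f.fiberToSpecResidueField y) := by
      intro y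
      rcases h y with he | hi
      · constructor
        intro T g₁ g₂ _
        haveI : IsEmpty T := Function.isEmpty g₁
        exact (isInitialOfIsEmpty (X := T)).hom_ext _ _
      · infer_instance
    have : Mono f := (Groth.Agent.S3042.result X Y f).mpr hmono
    exact (IsClosedImmersion.iff_isProper_and_mono f).mpr ⟨inferInstance, this⟩

end Groth.Agent.S4806
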