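import Groth.Statements.S4815
import Groth.Agent.Lib.Helper1.ObjDescCover
import Groth.Agent.Lib.Helper13.ImmersionDescent

set_option autoImplicit false
universe u
open CategoryTheory AlgebraicGeometry
open Lim8

namespace Groth.Agent.S4815

/-- Let S = lim S_i be a cofiltered limit of schemes with affine transition maps and S_{i₀} a
quasi-compact quasi-separated stage. Then every subscheme of finite presentation of S, that is every
immersion ι : Z ⟶ S which is locally of finite presentation and quasi-compact, is the base change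
along S ⟶ S_j of an immersion of finite presentation Z_j ⟶ S_j, for some index j over i₀ (the base
change is expressed by a pullback square). -/
theorem result {I : Type u} [SmallCategory I] [IsCofiltered I]
    (D : I ⥤ Scheme.{u}) (c : Limits.Cone D) (hc : Limits.IsLimit c)
    [∀ (i j : I) (f : i ⟶ j), IsAffineHom (D.map f)] (i₀ : I)
    [CompactSpace (D.obj i₀)] [QuasiSeparatedSpace (D.obj i₀)]
    {Z : Scheme.{u}} (ι : Z ⟶ c.pt) [IsImmersion ι] [LocallyOfFinitePresentation ι] [QuasiCompact ι] :
    ∃ (j : I) (_ : j ⟶ i₀) (Zj : Scheme.{u}) (ιj : Zj ⟶ D.obj j) (q : Z ⟶ Zj),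
      IsImmersion ιj ∧ LocallyOfFinitePresentation ιj ∧ QuasiCompact ιj ∧ IsPullback q ι ιj (c.π.app j) := by
  haveI hAff : ∀ {i j : I} (t : i ⟶ j), IsAffineHom (D.map t) := fun t => inferInstance
  haveI : ∀ i : Over i₀, CompactSpace ((Over.forget i₀ ⋙ D).obj i) := fun i =>
    QuasiCompact.compactSpace_of_compactSpace (D.map i.hom)
  haveI : ∀ i : Over i₀, QuasiSeparatedSpace ((Over.forget i₀ ⋙ D).obj i) := fun i =>
    quasiSeparatedSpace_of_quasiSeparated (D.map i.hom)
  haveI : ∀ {i j : Over i₀} (t : i ⟶ j), IsAffineHom ((Over.forget i₀ ⋙ D).map t) := fun t => by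
    dsimp; infer_instance
  have hc' := (Functor.Initial.isLimitWhiskerEquiv (Over.forget i₀) c).symm hc
  obtain ⟨i, V, v, g, h1, h2, h3, sq⟩ :=
    Groth.Agent.Lib.Helper1.ObjDesc.desc_of_finitePresentation hc' (X := Z) ι
  let M : Groth.Agent.Lib.Helper1.ObjDesc.Model (Over.forget i₀ ⋙ D)
    (c.whisker (Over.forget i₀)) ι i := ⟨V, v, g, sq⟩
  have hM : M.IsFP := ⟨h1, h2, h3⟩
  haveI : LocallyOfFinitePresentation M.v := h1
  haveI : QuasiCompact M.v := h2
  haveI : QuasiSeparated M.v := h3
  obtain ⟨j, hj⟩ := M.exists_of_conclusion @IsImmersion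
    (Groth.Agent.Lib.Helper13.LimitDescent.exists_isImmersion_descend hc'
      (g₀ := 𝟙 _) (g := 𝟙 _) (qY := (c.whisker (Over.forget i₀)).π.app i) IsPullback.of_id_snd M.sq)
  have hM' := Groth.Agent.Lib.Helper1.ObjDesc.Model.reindex_isFP hM j
  exact ⟨j.left.left, j.left.hom, (M.reindex j).V, (M.reindex j).v, (M.reindex j).g, hj,
    hM'.1, hM'.2.1, (M.reindex j).sq⟩

end Groth.Agent.S4815
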