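import Groth.Statements.S4816
import Groth.Agent.Lib.Helper1.ObjDescApps

set_option autoImplicit false
universe u
open CategoryTheory AlgebraicGeometry
open Lim8

namespace Groth.Agent.S4816
open CategoryTheory.Limits

open CategoryTheory.Limits in
/-- Let S = lim S_i be a cofiltered limit of schemes with affine transition maps and S_{i₀} a
quasi-compact stage; let ι₁ : Z₁ ⟶ S_{i₀} and ι₂ : Z₂ ⟶ S_{i₀} be two subschemes of finite
presentation of S_{i₀} (immersions which are locally of finite presentation and quasi-compact), with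
base changes Z₁ ×_{S_{i₀}} T ⟶ T to T = S and to T = S_j. Then Z₁ ×_{S_{i₀}} S is a subscheme of Z₂
×_{S_{i₀}} S (its immersion into S factors through that of Z₂ ×_{S_{i₀}} S) if and only if, for some
index j over i₀, Z₁ ×_{S_{i₀}} S_j is a subscheme of Z₂ ×_{S_{i₀}} S_j. -/
theorem result {I : Type u} [SmallCategory I] [IsCofiltered I]
    (D : I ⥤ Scheme.{u}) (c : Limits.Cone D) (hc : Limits.IsLimit c)
    [∀ (i j : I) (f : i ⟶ j), IsAffineHom (D.map f)] (i₀ : I) [CompactSpace (D.obj i₀)]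
    {Z₁ Z₂ : Scheme.{u}} (ι₁ : Z₁ ⟶ D.obj i₀) (ι₂ : Z₂ ⟶ D.obj i₀)
    [IsImmersion ι₁] [LocallyOfFinitePresentation ι₁] [QuasiCompact ι₁]
    [IsImmersion ι₂] [LocallyOfFinitePresentation ι₂] [QuasiCompact ι₂] :
    (∃ k : pullback ι₁ (c.π.app i₀) ⟶ pullback ι₂ (c.π.app i₀),
        k ≫ pullback.snd ι₂ (c.π.app i₀) = pullback.snd ι₁ (c.π.app i₀)) ↔
      ∃ (j : I) (φ : j ⟶ i₀) (k : pullback ι₁ (D.map φ) ⟶ pullback ι₂ (D.map φ)),
        k ≫ pullback.snd ι₂ (D.map φ) = pullback.snd ι₁ (D.map φ) := by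
  haveI hAff : ∀ {i j : I} (t : i ⟶ j), IsAffineHom (D.map t) := fun t => inferInstance
  haveI : CompactSpace Z₁ := QuasiCompact.compactSpace_of_compactSpace ι₁
  haveI : Mono ι₂ := inferInstance
  have hY : IsPullback (pullback.fst ι₁ (c.π.app i₀)) (pullback.snd ι₁ (c.π.app i₀)) ι₁
      (c.π.app i₀) := IsPullback.of_hasPullback _ _
  have hX : IsPullback (pullback.fst (pullback.fst ι₁ ι₂) (pullback.fst ι₁ (c.π.app i₀)))
      (pullback.snd (pullback.fst ι₁ ι₂) (pullback.fst ι₁ (c.π.app i₀))) (pullback.fst ι₁ ι₂)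
      (pullback.fst ι₁ (c.π.app i₀)) := IsPullback.of_hasPullback _ _
  rw [Groth.Agent.Lib.Helper1.ObjDesc.exists_factor_iff_isIso ι₁ ι₂ (c.π.app i₀)]
  constructor
  · intro h
    obtain ⟨j, hj⟩ := Groth.Agent.Lib.Helper1.ObjDesc.exists_stage_of_affineBase hc
      (MorphismProperty.isomorphisms Scheme.{u}) (MorphismProperty.isomorphisms Scheme.{u})
      (@LocallyOfFinitePresentation ⊓ @QuasiCompact)
      Groth.Agent.Lib.Helper1.ObjDesc.affineBaseDescent_isIso hY hX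
      ⟨inferInstanceAs (LocallyOfFinitePresentation (pullback.fst ι₁ ι₂)),
        inferInstanceAs (QuasiCompact (pullback.fst ι₁ ι₂))⟩ h
    refine ⟨j.left, j.hom, ?_⟩
    exact (Groth.Agent.Lib.Helper1.ObjDesc.exists_factor_iff_isIso ι₁ ι₂ (D.map j.hom)).mpr
      (Groth.Agent.Lib.Helper1.ObjDesc.snd_fst_of_stage
        (MorphismProperty.isomorphisms Scheme.{u}) (pullback.fst ι₁ ι₂) ι₁ j hj)
  · rintro ⟨j, φ, k, hk⟩
    have hiso := (Groth.Agent.Lib.Helper1.ObjDesc.exists_factor_iff_isIso ι₁ ι₂ (D.map φ)).mp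
      ⟨k, hk⟩
    exact Groth.Agent.Lib.Helper1.ObjDesc.of_conclusion
      (MorphismProperty.isomorphisms Scheme.{u}) hY hX
      ⟨j, φ, _, _, pullback.snd (pullback.fst ι₁ ι₂) (pullback.fst ι₁ (D.map φ)),
        pullback.snd ι₁ (D.map φ), pullback.fst ι₁ (D.map φ),
        pullback.fst (pullback.fst ι₁ ι₂) (pullback.fst ι₁ (D.map φ)),
        IsPullback.of_hasPullback _ _, IsPullback.of_hasPullback _ _, hiso⟩

end Groth.Agent.S4816
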