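import Groth.Statements.S4818
import Groth.Agent.Lib.Helper1.ObjDescApps

set_option autoImplicit false
universe u
open CategoryTheory AlgebraicGeometry
open Lim8

namespace Groth.Agent.S4818
open CategoryTheory.Limits

open CategoryTheory.Limits in
/-- Let S = lim S_i be a cofiltered limit of schemes with affine transition maps and S_{i₀} a
quasi-compact stage; let ι₀ : Z₀ ⟶ S_{i₀} be a subscheme of finite presentation (an immersion which
is locally of finite presentation and quasi-compact). Then the base change Z₀ ×_{S_{i₀}} S ⟶ S of ι₀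
is a closed immersion if and only if, for some index j over i₀, the base change Z₀ ×_{S_{i₀}} S_j ⟶
S_j is a closed immersion. This is the case of closed subschemes. -/
theorem result {I : Type u} [SmallCategory I] [IsCofiltered I]
    (D : I ⥤ Scheme.{u}) (c : Limits.Cone D) (hc : Limits.IsLimit c)
    [∀ (i j : I) (f : i ⟶ j), IsAffineHom (D.map f)] (i₀ : I) [CompactSpace (D.obj i₀)]
    {Z₀ : Scheme.{u}} (ι₀ : Z₀ ⟶ D.obj i₀) [IsImmersion ι₀] [LocallyOfFinitePresentation ι₀] [QuasiCompact ι₀] :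
    IsClosedImmersion (pullback.snd ι₀ (c.π.app i₀)) ↔
      ∃ (j : I) (φ : j ⟶ i₀), IsClosedImmersion (pullback.snd ι₀ (D.map φ)) := by
  haveI hAff : ∀ {i j : I} (t : i ⟶ j), IsAffineHom (D.map t) := fun t => inferInstance
  haveI : QuasiSeparated ι₀ := inferInstance
  have hY : IsPullback (c.π.app i₀) (𝟙 c.pt) (𝟙 (D.obj i₀)) (c.π.app i₀) := IsPullback.of_id_snd
  have hX : IsPullback (pullback.fst ι₀ (c.π.app i₀)) (pullback.snd ι₀ (c.π.app i₀)) ι₀
      (c.π.app i₀) := IsPullback.of_hasPullback _ _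
  constructor
  · intro h
    obtain ⟨j, hj⟩ := Groth.Agent.Lib.Helper1.ObjDesc.exists_stage_of_affineBase hc
      @IsClosedImmersion @IsClosedImmersion
      (@LocallyOfFiniteType ⊓ @QuasiCompact ⊓ @QuasiSeparated)
      Groth.Agent.Lib.Helper1.ObjDesc.affineBaseDescent_isClosedImmersion hY hX
      ⟨⟨inferInstanceAs (LocallyOfFiniteType ι₀), inferInstanceAs (QuasiCompact ι₀)⟩,
        inferInstanceAs (QuasiSeparated ι₀)⟩ h
    exact ⟨j.left, j.hom,
      Groth.Agent.Lib.Helper1.ObjDesc.snd_of_stage @IsClosedImmersion ι₀ j hj⟩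
  · rintro ⟨j, φ, h⟩
    exact Groth.Agent.Lib.Helper1.ObjDesc.of_conclusion @IsClosedImmersion hY hX
      ⟨j, φ, _, _, pullback.snd ι₀ (D.map φ), 𝟙 _, D.map φ, pullback.fst ι₀ (D.map φ),
        IsPullback.of_id_snd, IsPullback.of_hasPullback _ _, h⟩

end Groth.Agent.S4818
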