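import Groth.Statements.S4824
import Groth.Agent.Lib.Helper21.GI3
import Groth.Agent.Lib.Helper21.GI5
-- import your own Groth.Agent.* helpers here

set_option autoImplicit false
open CategoryTheory AlgebraicGeometry
universe u
open Cons9

namespace Groth.Agent.S4824

/-- Let k be a field, Ω an algebraically closed extension of k and F a non-constant polynomial in k[T_1,
…, T_n]. The following are equivalent: (a) the k-scheme Spec(k[T_1, …, T_n]/(F)) is geometrically
integral; (b) for every extension field K of k the image of F in K[T_1, …, T_n] is irreducible; (c)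
the image of F in Ω[T_1, …, T_n] is irreducible. (Such an F is called geometrically irreducible.) -/
theorem result {k : Type u} [Field k] (Ω : Type u) [Field Ω] [Algebra k Ω]
    [IsAlgClosed Ω] {n : ℕ} (F : MvPolynomial (Fin n) k) (hF : 0 < F.totalDegree) :
    List.TFAE [
      GeometricallyIntegral (Spec.map (CommRingCat.ofHom
        (algebraMap k (MvPolynomial (Fin n) k ⧸ Ideal.span ({F} : Set (MvPolynomial (Fin n) k)))))),
      ∀ (K : Type u) [Field K] [Algebra k K], Irreducible (MvPolynomial.map (algebraMap k K) F),
      Irreducible (MvPolynomial.map (algebraMap k Ω) F)] := by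
  classical
  set S := MvPolynomial (Fin n) k ⧸ Ideal.span ({F} : Set (MvPolynomial (Fin n) k)) with hS
  have hF0 : F ≠ 0 := by
    rintro rfl
    simp at hF
  -- integrality of the base change to `K` versus irreducibility of `F_K`
  have key : ∀ (K : Type u) [Field K] [Algebra k K],
      IsIntegral (Limits.pullback (Spec.map (CommRingCat.ofHom (algebraMap k S)))
        (Spec.map (CommRingCat.ofHom (algebraMap k K)))) ↔
      Irreducible (MvPolynomial.map (algebraMap k K) F) := by
    intro K _ _
    have hFK0 : MvPolynomial.map (algebraMap k K) F ≠ 0 := by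
      intro h0
      apply hF0
      exact (MvPolynomial.map_injective _ (algebraMap k K).injective) (by rw [h0, map_zero])
    let e₁ := pullbackSpecIso k S K
    have h1 : IsIntegral (Limits.pullback (Spec.map (CommRingCat.ofHom (algebraMap k S)))
        (Spec.map (CommRingCat.ofHom (algebraMap k K)))) ↔
        IsIntegral (Spec (CommRingCat.of (TensorProduct k S K))) :=
      ⟨fun h => by
        haveI : Nonempty ↥(Spec (CommRingCat.of (TensorProduct k S K))) :=
          ⟨e₁.hom.base (Nonempty.some inferInstance)⟩
        exact isIntegral_of_isOpenImmersion e₁.inv,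
       fun h => by
        haveI : Nonempty ↥(Limits.pullback (Spec.map (CommRingCat.ofHom (algebraMap k S)))
            (Spec.map (CommRingCat.ofHom (algebraMap k K)))) :=
          ⟨e₁.inv.base (Nonempty.some inferInstance)⟩
        exact isIntegral_of_isOpenImmersion e₁.hom⟩
    rw [h1, affine_isIntegral_iff]
    let e₂ : TensorProduct k S K ≃ₐ[k] TensorProduct k K S := Algebra.TensorProduct.comm k S K
    let e₃ := Groth.Agent.Lib.Helper21.GI.tensorQuotEquiv k K F
    have h2 : IsDomain (TensorProduct k S K) ↔
        IsDomain (MvPolynomial (Fin n) K ⧸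
          Ideal.span {MvPolynomial.map (algebraMap k K) F}) := by
      constructor
      · intro h
        let ψ : (MvPolynomial (Fin n) K ⧸ Ideal.span {MvPolynomial.map (algebraMap k K) F}) →+*
            TensorProduct k S K := (e₂.symm.toAlgHom.toRingHom).comp e₃.symm.toAlgHom.toRingHom
        have hψ : Function.Injective ψ := e₂.symm.injective.comp e₃.symm.injective
        exact hψ.isDomain ψ
      · intro h
        let ψ : TensorProduct k S K →+*
            (MvPolynomial (Fin n) K ⧸ Ideal.span {MvPolynomial.map (algebraMap k K) F}) :=
          (e₃.toAlgHom.toRingHom).comp e₂.toAlgHom.toRingHom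
        have hψ : Function.Injective ψ := e₃.injective.comp e₂.injective
        exact hψ.isDomain ψ
    change IsDomain (TensorProduct k S K) ↔ _
    rw [h2, Ideal.Quotient.isDomain_iff_prime, Ideal.span_singleton_prime hFK0]
    exact ⟨fun h => h.irreducible, fun h => h.prime⟩
  have hab : GeometricallyIntegral (Spec.map (CommRingCat.ofHom (algebraMap k S))) ↔
      ∀ (K : Type u) [Field K] [Algebra k K],
        Irreducible (MvPolynomial.map (algebraMap k K) F) := by
    rw [GeometricallyIntegral.eq_geometrically]
    constructor
    · intro h K _ _
      exact (key K).mp (pullback_of_geometrically h K _)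
    · intro h
      rw [geometrically_iff_of_commRing]
      intro K _ _ Z fst snd hsq
      have hI := (key K).mpr (h K)
      haveI : Nonempty ↥Z := ⟨hsq.isoPullback.inv.base (Nonempty.some inferInstance)⟩
      exact isIntegral_of_isOpenImmersion hsq.isoPullback.hom
  tfae_have 1 ↔ 2 := hab
  tfae_have 2 → 3 := fun h => h Ω
  tfae_have 3 → 2 := by
    intro h K _ _
    obtain ⟨a, ha, H⟩ := Groth.Agent.Lib.Helper21.GI.exists_ne_zero_forall_irreducible_map.{u, 0, u, u}
      F Ω (algebraMap k Ω).injective h
    exact H K (algebraMap k K) (fun h0 => ha ((algebraMap k K).injective (by rw [h0, map_zero])))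
  tfae_finish

end Groth.Agent.S4824
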