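import Groth.Statements.S8255
import Mathlib

set_option autoImplicit false
universe u
open CategoryTheory CategoryTheory.Limits AlgebraicGeometry Opposite TopologicalSpace
open EGA2

namespace Groth.Agent.S8255

theorem isIso_gammaAff {S : Scheme.{u}} (A : RelSpec.QCAlg S) (U : S.Opens) (hU : IsAffineOpen U) :
    IsIso (A.gammaAff U hU) := by
  have hW : (A.ι U hU) ''ᵁ (⊤ : (Spec (A.presheaf.obj (op U))).Opens) = A.π ⁻¹ᵁ U := by
    rw [Scheme.Hom.image_top_eq_opensRange, A.π_preimage U hU]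
  have e : (⊤ : (Spec (A.presheaf.obj (op U))).Opens) ≤
      A.ι U hU ⁻¹ᵁ ((A.ι U hU) ''ᵁ (⊤ : (Spec (A.presheaf.obj (op U))).Opens)) :=
    (Scheme.Hom.preimage_image_eq (A.ι U hU) ⊤).ge
  rw [← A.gammaAff_eq hU hW e]
  have : IsIso ((A.ι U hU).appLE ((A.ι U hU) ''ᵁ ⊤) ⊤ e) := by
    rw [← Scheme.Hom.appIso_hom']
    infer_instance
  infer_instance

/-- Let S be a scheme and A a quasi-coherent O_S-algebra, and let π : Spec(A) → S be its relative
spectrum (glued from the affine schemes Spec A(U), U an affine open of S). Then the canonical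
comparison map π_* O_{Spec(A)} → A (which over an affine open U is restriction to the chart Spec
A(U) followed by Γ(Spec R) = R) is an isomorphism; in other words the direct-image algebra of
Spec(A) is A. -/
theorem result {S : Scheme.{u}} (A : RelSpec.QCAlg S) : IsIso A.gammaMap := by
  let G := Scheme.AffineZariskiSite.toOpensFunctor S
  let ℱ : TopCat.Sheaf CommRingCat.{u} S.carrier :=
    ⟨A.π.base _* A.spec.presheaf, TopCat.Sheaf.pushforward_sheaf_of_sheaf _ A.spec.sheaf.property⟩
  let ℱ' : TopCat.Sheaf CommRingCat.{u} S.carrier := ⟨A.presheaf, A.isSheaf⟩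
  have hiso : IsIso A.gammaRestrict := by
    have : ∀ U, IsIso (A.gammaRestrict.app U) := fun U => isIso_gammaAff A U.unop.1 U.unop.2
    exact NatIso.isIso_of_isIso_app _
  let β : G.op ⋙ ℱ'.obj ⟶ G.op ⋙ ℱ.obj := inv A.gammaRestrict
  let invMap : ℱ'.obj ⟶ ℱ.obj :=
    Functor.IsCoverDense.restrictHomEquivHom (G := G) (K := Opens.grothendieckTopology S)
      (ℱ := ℱ'.obj) (ℱ' := ℱ) β
  have hinv : G.op.whiskerLeft invMap = β :=
    (Functor.IsCoverDense.restrictHomEquivHom (G := G) (K := Opens.grothendieckTopology S)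
      (ℱ := ℱ'.obj) (ℱ' := ℱ)).symm_apply_apply β
  refine ⟨invMap, ?_, ?_⟩
  · apply (Functor.IsCoverDense.restrictHomEquivHom (G := G) (K := Opens.grothendieckTopology S)
      (ℱ := ℱ.obj) (ℱ' := ℱ)).symm.injective
    change G.op.whiskerLeft (A.gammaMap ≫ invMap) = G.op.whiskerLeft (𝟙 _)
    rw [Functor.whiskerLeft_comp, A.gammaMap_restrict, hinv]
    simp [β]
  · apply (Functor.IsCoverDense.restrictHomEquivHom (G := G) (K := Opens.grothendieckTopology S)
      (ℱ := ℱ'.obj) (ℱ' := ℱ')).symm.injective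
    change G.op.whiskerLeft (invMap ≫ A.gammaMap) = G.op.whiskerLeft (𝟙 _)
    rw [Functor.whiskerLeft_comp, A.gammaMap_restrict, hinv]
    simp [β]

end Groth.Agent.S8255
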