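import Groth.Statements.S4837
import Groth.Agent.S8255
import Mathlib.AlgebraicGeometry.IdealSheaf.Subscheme
import Mathlib.AlgebraicGeometry.Morphisms.Immersion

set_option autoImplicit false
open CategoryTheory AlgebraicGeometry
universe u
open Lim8

namespace Groth.Agent.S4837

/-- Let f : X ⟶ Y be a quasi-compact quasi-separated morphism, C a quasi-coherent O_Y-algebra with
relative spectrum Z = Spec(C) over Y, g : X ⟶ Z a Y-morphism which is an immersion, and φ : C ⟶
f_*O_X the homomorphism of O_Y-algebras corresponding to g (the canonical identification of C with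
the direct image of O_Z followed by the map induced by g). Then the scheme-theoretic image of g is
the whole of Z, i.e. the kernel ideal of g vanishes, if and only if φ is injective; and when this
holds g is an open immersion. -/
theorem result {X Y : Scheme.{u}} (f : X ⟶ Y)
    [QuasiCompact f] [QuasiSeparated f] (C : RelSpec.QCAlg Y) (g : X ⟶ C.spec) (w : g ≫ C.π = f)
    [IsImmersion g] (φ : C ⟶ RelSpec.QCAlg.directImage f)
    (hφ : C.gammaMap ≫ φ.hom = AffAlg.algHom C.π f g w) :
    (g.ker = ⊥ ↔ ∀ U : Y.Opens, Function.Injective (φ.hom.app (Opposite.op U)).hom) ∧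
      (g.ker = ⊥ → IsOpenImmersion g) := by
  subst w
  haveI : QuasiCompact g := QuasiCompact.of_comp g C.π
  have hγ : IsIso C.gammaMap := Groth.Agent.S8255.result C
  -- injectivity on all opens from affine opens
  have hall : (∀ T : C.spec.affineOpens, Function.Injective (g.app T.1).hom) →
      ∀ T : C.spec.Opens, Function.Injective (g.app T).hom := by
    intro h T
    rw [injective_iff_map_eq_zero]
    intro s hs
    refine TopCat.Sheaf.eq_of_locally_eq' C.spec.sheaf
      (fun T' : {T' : C.spec.affineOpens // T'.1 ≤ T} => T'.1.1) T (fun T' => homOfLE T'.2) ?_ _ _ ?_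
    · intro x hx
      obtain ⟨T', hT', hxT', hT'T⟩ := exists_isAffineOpen_mem_and_subset (x := x) (U := T) hx
      exact TopologicalSpace.Opens.mem_iSup.mpr ⟨⟨⟨T', hT'⟩, hT'T⟩, hxT'⟩
    · intro T'
      apply h T'.1
      have hnat := congrArg (fun k => k.hom s) (g.naturality (homOfLE T'.2).op)
      change (g.app T'.1.1).hom ((C.spec.presheaf.map (homOfLE T'.2).op).hom s) =
        (g.app T'.1.1).hom ((C.spec.presheaf.map (homOfLE T'.2).op).hom 0)
      rw [map_zero, map_zero]
      change (g.app T'.1.1).hom ((C.spec.presheaf.map (homOfLE T'.2).op).hom s) =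
        (X.presheaf.map _).hom ((g.app T).hom s) at hnat
      rw [hnat, hs, map_zero]
  -- the key comparison
  have key : ∀ U : Y.Opens, Function.Injective (φ.hom.app (Opposite.op U)).hom ↔
      Function.Injective (g.app (C.π ⁻¹ᵁ U)).hom := by
    intro U
    have h1 := congrArg (fun k => k.app (Opposite.op U)) hφ
    have h2 : (AffAlg.algHom C.π (g ≫ C.π) g rfl).app (Opposite.op U) = g.app (C.π ⁻¹ᵁ U) := by
      simp [AffAlg.algHom]
      rfl
    have h3 : C.gammaMap.app (Opposite.op U) ≫ φ.hom.app (Opposite.op U) = g.app (C.π ⁻¹ᵁ U) := h1.trans h2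
    have hb : Function.Bijective (C.gammaMap.app (Opposite.op U)).hom :=
      ConcreteCategory.bijective_of_isIso (C.gammaMap.app (Opposite.op U))
    have h4 : ∀ z, (φ.hom.app (Opposite.op U)).hom ((C.gammaMap.app (Opposite.op U)).hom z) =
        (g.app (C.π ⁻¹ᵁ U)).hom z := fun z => congrArg (fun k => k.hom z) h3
    constructor
    · intro hinj a b hab
      apply hb.1
      apply hinj
      rw [h4, h4]
      exact hab
    · intro hinj c d hcd
      obtain ⟨a, rfl⟩ := hb.2 c
      obtain ⟨b, rfl⟩ := hb.2 d
      rw [h4, h4] at hcd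
      rw [hinj hcd]
  have part1 : g.ker = ⊥ ↔ ∀ U : Y.Opens, Function.Injective (φ.hom.app (Opposite.op U)).hom := by
    constructor
    · intro hk U
      rw [key U]
      refine hall (fun T => ?_) _
      rw [RingHom.injective_iff_ker_eq_bot, ← Scheme.Hom.ker_apply, hk]
      rfl
    · intro h
      refine Scheme.IdealSheafData.ext_of_iSup_eq_top
        (fun V : Y.affineOpens => (⟨C.π ⁻¹ᵁ V.1, V.2.preimage C.π⟩ : C.spec.affineOpens)) ?_ fun V => ?_
      · rw [eq_top_iff]
        intro x _
        obtain ⟨V, hV, hxV, -⟩ := exists_isAffineOpen_mem_and_subset (x := C.π.base x) (U := ⊤) trivial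
        exact TopologicalSpace.Opens.mem_iSup.mpr ⟨⟨V, hV⟩, hxV⟩
      · rw [Scheme.Hom.ker_apply]
        change _ = (⊥ : Ideal _)
        rw [← RingHom.injective_iff_ker_eq_bot]
        exact (key V.1).mp (h V.1)
  refine ⟨part1, fun hk => ?_⟩
  have hiso : IsIso g.imageι := (Scheme.isIso_subschemeι_iff_eq_bot _).mpr hk
  rw [← g.toImage_imageι]
  infer_instance

end Groth.Agent.S4837
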