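import Groth.Statements.S4859
-- import your own Groth.Agent.* helpers here

set_option autoImplicit false
universe u
open EGA43

namespace Groth.Agent.S4859

/-- Conditions a), a′), b) (quasi-homeomorphisms): for a continuous map f : X₀ → X the following are
equivalent: taking preimages is a bijection from the open subsets of X onto the open subsets of X₀;
taking preimages is a bijection from the closed subsets of X onto the closed subsets of X₀; the
topology of X₀ is induced from X through f and the image f(X₀) is very dense in X, in the sense that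
two open subsets of X with the same trace on f(X₀) coincide. -/
theorem result {X₀ X : Type u} [TopologicalSpace X₀] [TopologicalSpace X]
    (f : X₀ → X) (hf : Continuous f) :
    [Function.Bijective (fun U : TopologicalSpace.Opens X =>
        (⟨f ⁻¹' (U : Set X), U.isOpen.preimage hf⟩ : TopologicalSpace.Opens X₀)),
      Function.Bijective (fun F : TopologicalSpace.Closeds X =>
        (⟨f ⁻¹' (F : Set X), F.isClosed.preimage hf⟩ : TopologicalSpace.Closeds X₀)),
      Topology.IsInducing f ∧
        ∀ U V : Set X, IsOpen U → IsOpen V → U ∩ Set.range f = V ∩ Set.range f → U = V].TFAE := by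
  tfae_have 1 → 2 := by
    rintro ⟨hi, hs⟩
    refine ⟨?_, ?_⟩
    · intro F F' e
      have e' : f ⁻¹' (F : Set X) = f ⁻¹' (F' : Set X) := congrArg (fun G : TopologicalSpace.Closeds X₀ => (G : Set X₀)) e
      have : (⟨(F : Set X)ᶜ, F.isClosed.isOpen_compl⟩ : TopologicalSpace.Opens X) =
          ⟨(F' : Set X)ᶜ, F'.isClosed.isOpen_compl⟩ := by
        apply hi
        apply TopologicalSpace.Opens.ext
        show f ⁻¹' (F : Set X)ᶜ = f ⁻¹' (F' : Set X)ᶜ
        rw [Set.preimage_compl, Set.preimage_compl, e']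
      have h2 : (F : Set X)ᶜ = (F' : Set X)ᶜ := congrArg (fun U : TopologicalSpace.Opens X => (U : Set X)) this
      exact TopologicalSpace.Closeds.ext (compl_injective h2)
    · intro G
      obtain ⟨U, hU⟩ := hs ⟨(G : Set X₀)ᶜ, G.isClosed.isOpen_compl⟩
      have hU' : f ⁻¹' (U : Set X) = (G : Set X₀)ᶜ := congrArg (fun U : TopologicalSpace.Opens X₀ => (U : Set X₀)) hU
      refine ⟨⟨(U : Set X)ᶜ, U.isOpen.isClosed_compl⟩, ?_⟩
      apply TopologicalSpace.Closeds.ext
      show f ⁻¹' (U : Set X)ᶜ = (G : Set X₀)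
      rw [Set.preimage_compl, hU', compl_compl]
  tfae_have 2 → 1 := by
    rintro ⟨hi, hs⟩
    refine ⟨?_, ?_⟩
    · intro U V e
      have e' : f ⁻¹' (U : Set X) = f ⁻¹' (V : Set X) := congrArg (fun G : TopologicalSpace.Opens X₀ => (G : Set X₀)) e
      have : (⟨(U : Set X)ᶜ, U.isOpen.isClosed_compl⟩ : TopologicalSpace.Closeds X) =
          ⟨(V : Set X)ᶜ, V.isOpen.isClosed_compl⟩ := by
        apply hi
        apply TopologicalSpace.Closeds.ext
        show f ⁻¹' (U : Set X)ᶜ = f ⁻¹' (V : Set X)ᶜ
        rw [Set.preimage_compl, Set.preimage_compl, e']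
      have h2 : (U : Set X)ᶜ = (V : Set X)ᶜ := congrArg (fun U : TopologicalSpace.Closeds X => (U : Set X)) this
      exact TopologicalSpace.Opens.ext (compl_injective h2)
    · intro G
      obtain ⟨F, hF⟩ := hs ⟨(G : Set X₀)ᶜ, G.isOpen.isClosed_compl⟩
      have hF' : f ⁻¹' (F : Set X) = (G : Set X₀)ᶜ := congrArg (fun U : TopologicalSpace.Closeds X₀ => (U : Set X₀)) hF
      refine ⟨⟨(F : Set X)ᶜ, F.isClosed.isOpen_compl⟩, ?_⟩
      apply TopologicalSpace.Opens.ext
      show f ⁻¹' (F : Set X)ᶜ = (G : Set X₀)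
      rw [Set.preimage_compl, hF', compl_compl]
  tfae_have 1 → 3 := by
    rintro ⟨hi, hs⟩
    refine ⟨⟨?_⟩, ?_⟩
    · rw [TopologicalSpace.ext_iff]
      intro W
      rw [isOpen_induced_iff]
      constructor
      · intro hW
        obtain ⟨U, hU⟩ := hs ⟨W, hW⟩
        exact ⟨U, U.isOpen, congrArg (fun U : TopologicalSpace.Opens X₀ => (U : Set X₀)) hU⟩
      · rintro ⟨U, hU, rfl⟩
        exact hU.preimage hf
    · intro U V hU hV e
      have : (⟨U, hU⟩ : TopologicalSpace.Opens X) = ⟨V, hV⟩ := by
        apply hi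
        apply TopologicalSpace.Opens.ext
        show f ⁻¹' U = f ⁻¹' V
        rw [← Set.preimage_inter_range (s := U), ← Set.preimage_inter_range (s := V), e]
      exact congrArg (fun U : TopologicalSpace.Opens X => (U : Set X)) this
  tfae_have 3 → 1 := by
    rintro ⟨hind, hd⟩
    refine ⟨?_, ?_⟩
    · intro U V e
      have e' : f ⁻¹' (U : Set X) = f ⁻¹' (V : Set X) := congrArg (fun G : TopologicalSpace.Opens X₀ => (G : Set X₀)) e
      apply TopologicalSpace.Opens.ext
      apply hd _ _ U.isOpen V.isOpen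
      rw [← Set.image_preimage_eq_inter_range, ← Set.image_preimage_eq_inter_range, e']
    · intro W
      obtain ⟨U, hU, hUW⟩ := hind.isOpen_iff.mp W.isOpen
      exact ⟨⟨U, hU⟩, TopologicalSpace.Opens.ext hUW⟩
  tfae_finish

end Groth.Agent.S4859
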