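import Groth.Statements.S4860
import Mathlib.RingTheory.Localization.Away.AdjoinRoot
import Mathlib.RingTheory.IntegralClosure.IsIntegralClosure.Basic
import Mathlib.RingTheory.Localization.Ideal
import Mathlib.RingTheory.Jacobson.Ring
import Mathlib.RingTheory.Localization.Integral
import Mathlib.RingTheory.Ideal.GoingUp
import Mathlib.RingTheory.Algebraic.Integral

set_option autoImplicit false
universe u
open EGA43

namespace Groth.Agent.S4860

theorem isField_away_of_forall_mem {D : Type u} [CommRing D] [IsDomain D] (f : D) (hf : f ≠ 0)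
    (h : ∀ p : Ideal D, p.IsPrime → p ≠ ⊥ → f ∈ p) : IsField (Localization.Away f) := by
  have hle : Submonoid.powers f ≤ nonZeroDivisors D :=
    powers_le_nonZeroDivisors_of_noZeroDivisors hf
  have : IsDomain (Localization.Away f) := IsLocalization.isDomain_localization hle
  by_contra hF
  obtain ⟨p', hp'0, hp'⟩ := Ring.not_isField_iff_exists_prime.mp hF
  have hp : (p'.comap (algebraMap D (Localization.Away f))).IsPrime := inferInstance
  have hp0 : p'.comap (algebraMap D (Localization.Away f)) ≠ ⊥ := by
    intro h0
    apply hp'0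
    have h0' : Ideal.under D p' = ⊥ := h0
    rw [← IsLocalization.map_under (Submonoid.powers f) (Localization.Away f) p', h0', Ideal.map_bot]
  have hfp : algebraMap D (Localization.Away f) f ∈ p' := h _ hp hp0
  exact hp'.ne_top (Ideal.eq_top_of_isUnit_mem _ hfp (IsLocalization.Away.algebraMap_isUnit f))

theorem forall_mem_of_isField_away {D : Type u} [CommRing D] [IsDomain D] (f : D) (hf : f ≠ 0)
    (hF : IsField (Localization.Away f)) (p : Ideal D) (hp : p.IsPrime) (hp0 : p ≠ ⊥) : f ∈ p := by
  by_contra hfp
  have hdisj : Disjoint (Submonoid.powers f : Set D) (p : Set D) := by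
    rw [Set.disjoint_left]
    rintro _ ⟨n, rfl⟩ hn
    exact hfp (hp.mem_of_pow_mem n hn)
  have hprime : (p.map (algebraMap D (Localization.Away f))).IsPrime :=
    IsLocalization.isPrime_of_isPrime_disjoint (Submonoid.powers f) _ p hp hdisj
  let _ := hF.toField
  have hbot : p.map (algebraMap D (Localization.Away f)) = ⊥ :=
    (Ideal.eq_bot_or_top _).resolve_right hprime.ne_top
  have := IsLocalization.under_map_of_isPrime_disjoint (Submonoid.powers f) (Localization.Away f)
    hp hdisj
  rw [hbot] at this
  apply hp0
  rw [← this]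
  rw [eq_bot_iff]
  intro x hx
  have hx' : algebraMap D (Localization.Away f) x = 0 := hx
  have hinj : Function.Injective (algebraMap D (Localization.Away f)) :=
    IsLocalization.injective _ (powers_le_nonZeroDivisors_of_noZeroDivisors hf)
  rw [← map_zero (algebraMap D (Localization.Away f))] at hx'
  exact hinj hx'

theorem isOpen_bot_iff (B : Type u) [CommRing B] [IsDomain B] :
    IsOpen ({⟨⊥, Ideal.bot_prime⟩} : Set (PrimeSpectrum B)) ↔
      ∃ f : B, f ≠ 0 ∧ ∀ p : Ideal B, p.IsPrime → p ≠ ⊥ → f ∈ p := by
  constructor
  · intro h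
    obtain ⟨_, ⟨f, rfl⟩, hf1, hf2⟩ := PrimeSpectrum.isTopologicalBasis_basic_opens.exists_subset_of_mem_open
      (Set.mem_singleton _) h
    refine ⟨f, ?_, ?_⟩
    · rintro rfl
      simp at hf1
    · intro p hp hp0
      by_contra hfp
      have : (⟨p, hp⟩ : PrimeSpectrum B) ∈ ({⟨⊥, Ideal.bot_prime⟩} : Set (PrimeSpectrum B)) :=
        hf2 hfp
      rw [Set.mem_singleton_iff, PrimeSpectrum.ext_iff] at this
      exact hp0 this
  · rintro ⟨f, hf0, hf⟩
    have : ({⟨⊥, Ideal.bot_prime⟩} : Set (PrimeSpectrum B)) = PrimeSpectrum.basicOpen f := by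
      ext q
      simp only [Set.mem_singleton_iff, SetLike.mem_coe, PrimeSpectrum.mem_basicOpen]
      constructor
      · rintro rfl
        simpa using hf0
      · intro hq
        by_contra hne
        apply hq
        apply hf q.asIdeal q.2
        intro h0
        apply hne
        ext1
        exact h0
    rw [this]
    exact (PrimeSpectrum.basicOpen f).isOpen

theorem exists_of_field {B : Type u} [CommRing B] [IsDomain B] (K : Type u) [Field K] [Algebra B K]
    (hinj : Function.Injective (algebraMap B K)) (hft : Algebra.FiniteType B K) :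
    ∃ f : B, f ≠ 0 ∧ ∀ p : Ideal B, p.IsPrime → p ≠ ⊥ → f ∈ p := by
  classical
  have : FaithfulSMul B K := (faithfulSMul_iff_algebraMap_injective B K).mpr hinj
  let _ : Algebra (FractionRing B) K := FractionRing.liftAlgebra B K
  have : IsScalarTower B (FractionRing B) K := FractionRing.isScalarTower_liftAlgebra B K
  have : Algebra.FiniteType (FractionRing B) K :=
    Algebra.FiniteType.of_restrictScalars_finiteType B (FractionRing B) K
  have : Module.Finite (FractionRing B) K :=
    finite_of_finite_type_of_isJacobsonRing (FractionRing B) K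
  have : Algebra.IsAlgebraic (FractionRing B) K := Algebra.IsAlgebraic.of_finite (FractionRing B) K
  have halg : Algebra.IsAlgebraic B K :=
    (IsFractionRing.comap_isAlgebraic_iff (A := B) (K := FractionRing B) (C := K)).mpr this
  obtain ⟨s, hs⟩ := hft.out
  obtain ⟨y, hy0, hyint⟩ := Algebra.IsAlgebraic.exists_integral_multiples B s
  refine ⟨y, hy0, ?_⟩
  intro p hp hp0
  have hC : ∀ x : K, ∃ n : ℕ, y ^ n • x ∈ integralClosure B K := by
    intro x
    have hx : x ∈ Algebra.adjoin B (s : Set K) := hs ▸ Algebra.mem_top
    induction hx using Algebra.adjoin_induction with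
    | mem x hx => exact ⟨1, by rw [pow_one]; exact hyint x hx⟩
    | algebraMap r => exact ⟨0, by rw [pow_zero, one_smul]; exact Subalgebra.algebraMap_mem _ r⟩
    | add a b _ _ ha hb =>
      obtain ⟨n, hn⟩ := ha
      obtain ⟨m, hm⟩ := hb
      refine ⟨n + m, ?_⟩
      have : y ^ (n + m) • (a + b) = y ^ m • (y ^ n • a) + y ^ n • (y ^ m • b) := by
        rw [smul_add, smul_smul, smul_smul, ← pow_add, ← pow_add, add_comm m n]
      rw [this]
      exact Subalgebra.add_mem _ (Subalgebra.smul_mem _ hn _) (Subalgebra.smul_mem _ hm _)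
    | mul a b _ _ ha hb =>
      obtain ⟨n, hn⟩ := ha
      obtain ⟨m, hm⟩ := hb
      refine ⟨n + m, ?_⟩
      have : y ^ (n + m) • (a * b) = (y ^ n • a) * (y ^ m • b) := by
        rw [smul_mul_smul_comm, pow_add]
      rw [this]
      exact Subalgebra.mul_mem _ hn hm
  obtain ⟨b, hbp, hb0⟩ : ∃ b ∈ p, b ≠ 0 := Submodule.exists_mem_ne_zero_of_ne_bot hp0
  obtain ⟨n, hn⟩ := hC (algebraMap B K b)⁻¹
  have hker : RingHom.ker (algebraMap B (integralClosure B K)) ≤ p := by
    intro x hx
    rw [RingHom.mem_ker] at hx
    have : algebraMap B K x = 0 := by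
      have := congrArg (Subtype.val) hx
      simpa using this
    rw [← map_zero (algebraMap B K)] at this
    rw [hinj this]
    exact p.zero_mem
  obtain ⟨Q, hQ, hQp⟩ := Ideal.exists_ideal_over_prime_of_isIntegral_of_isDomain
    (S := integralClosure B K) p hker
  have hbK : algebraMap B K b ≠ 0 := by
    rw [Ne, ← map_zero (algebraMap B K)]
    exact fun h => hb0 (hinj h)
  have key : (⟨_, hn⟩ : integralClosure B K) * algebraMap B (integralClosure B K) b =
      algebraMap B (integralClosure B K) (y ^ n) := by
    apply Subtype.ext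
    simp only [MulMemClass.coe_mul, Algebra.smul_def]
    change algebraMap B K (y ^ n) * (algebraMap B K b)⁻¹ * algebraMap B K b = algebraMap B K (y ^ n)
    rw [mul_assoc, inv_mul_cancel₀ hbK, mul_one]
  have h1 : algebraMap B (integralClosure B K) b ∈ Q := by
    have : b ∈ Q.comap (algebraMap B (integralClosure B K)) := hQp ▸ hbp
    exact this
  have h2 : algebraMap B (integralClosure B K) (y ^ n) ∈ Q := key ▸ Q.mul_mem_left _ h1
  have h3 : y ^ n ∈ p := by
    rw [← hQp]
    exact h2
  exact hp.mem_of_pow_mem n h3


/-- For an integral domain B the following are equivalent: a) the localization B_f is a field for some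
nonzero f; b) the fraction field of B is a finitely generated B-algebra; c) there is a field
containing B (an injective algebra map from B) which is a finitely generated B-algebra; d) the
generic point of Spec B is open. -/
theorem result (B : Type u) [CommRing B] [IsDomain B] :
    [∃ f : B, f ≠ 0 ∧ IsField (Localization.Away f),
      Algebra.FiniteType B (FractionRing B),
      ∃ (K : Type u) (_ : Field K) (_ : Algebra B K), Function.Injective (algebraMap B K) ∧ Algebra.FiniteType B K,
      IsOpen ({⟨⊥, Ideal.bot_prime⟩} : Set (PrimeSpectrum B))].TFAE := by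
  have hae : (∃ f : B, f ≠ 0 ∧ IsField (Localization.Away f)) ↔
      ∃ f : B, f ≠ 0 ∧ ∀ p : Ideal B, p.IsPrime → p ≠ ⊥ → f ∈ p := by
    constructor
    · rintro ⟨f, hf0, hF⟩
      exact ⟨f, hf0, forall_mem_of_isField_away f hf0 hF⟩
    · rintro ⟨f, hf0, hf⟩
      exact ⟨f, hf0, isField_away_of_forall_mem f hf0 hf⟩
  tfae_have 1 → 2 := by
    rintro ⟨f, hf0, hF⟩
    have hle : Submonoid.powers f ≤ nonZeroDivisors B :=
      powers_le_nonZeroDivisors_of_noZeroDivisors hf0
    have hinj : Function.Injective (algebraMap B (Localization.Away f)) :=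
      IsLocalization.injective _ hle
    have : IsFractionRing B (Localization.Away f) := by
      refine IsLocalization.of_le (Submonoid.powers f) (nonZeroDivisors B) hle ?_
      intro r hr
      let _ := hF.toField
      have : algebraMap B (Localization.Away f) r ≠ 0 := by
        rw [Ne, ← map_zero (algebraMap B (Localization.Away f))]
        exact fun h => nonZeroDivisors.ne_zero hr (hinj h)
      exact this.isUnit
    exact Algebra.FiniteType.equiv inferInstance (FractionRing.algEquiv B (Localization.Away f)).symm
  tfae_have 2 → 3 := by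
    intro h
    exact ⟨FractionRing B, inferInstance, inferInstance, IsFractionRing.injective B _, h⟩
  tfae_have 3 → 1 := by
    rintro ⟨K, _, _, hinj, hft⟩
    exact hae.mpr (exists_of_field K hinj hft)
  tfae_have 1 ↔ 4 := by
    rw [hae, isOpen_bot_iff]
  tfae_finish

end Groth.Agent.S4860
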