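import Groth.Statements.S4861
import Mathlib.RingTheory.Localization.Ideal
import Mathlib.RingTheory.Ideal.KrullsHeightTheorem
import Mathlib.RingTheory.Ideal.MinimalPrime.Noetherian

set_option autoImplicit false
universe u
open EGA43

namespace Groth.Agent.S4861

theorem isField_away_of_forall_mem {D : Type u} [CommRing D] [IsDomain D] (f : D) (hf : f ≠ 0)
    (h : ∀ p : Ideal D, p.IsPrime → p ≠ ⊥ → f ∈ p) : IsField (Localization.Away f) := by
  have hle : Submonoid.powers f ≤ nonZeroDivisors D :=
    powers_le_nonZeroDivisors_of_noZeroDivisors hf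
  have : IsDomain (Localization.Away f) := IsLocalization.isDomain_localization hle
  by_contra hF
  obtain ⟨p', hp'0, hp'⟩ := Ring.not_isField_iff_exists_prime.mp hF
  have hp : (p'.comap (algebraMap D (Localization.Away f))).IsPrime := inferInstance
  have hp0 : p'.comap (algebraMap D (Localization.Away f)) ≠ ⊥ := by
    intro h0
    apply hp'0
    have h0' : Ideal.under D p' = ⊥ := h0
    rw [← IsLocalization.map_under (Submonoid.powers f) (Localization.Away f) p', h0', Ideal.map_bot]
  have hfp : algebraMap D (Localization.Away f) f ∈ p' := h _ hp hp0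
  exact hp'.ne_top (Ideal.eq_top_of_isUnit_mem _ hfp (IsLocalization.Away.algebraMap_isUnit f))

theorem forall_mem_of_isField_away {D : Type u} [CommRing D] [IsDomain D] (f : D) (hf : f ≠ 0)
    (hF : IsField (Localization.Away f)) (p : Ideal D) (hp : p.IsPrime) (hp0 : p ≠ ⊥) : f ∈ p := by
  by_contra hfp
  have hdisj : Disjoint (Submonoid.powers f : Set D) (p : Set D) := by
    rw [Set.disjoint_left]
    rintro _ ⟨n, rfl⟩ hn
    exact hfp (hp.mem_of_pow_mem n hn)
  have hprime : (p.map (algebraMap D (Localization.Away f))).IsPrime :=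
    IsLocalization.isPrime_of_isPrime_disjoint (Submonoid.powers f) _ p hp hdisj
  let _ := hF.toField
  have hbot : p.map (algebraMap D (Localization.Away f)) = ⊥ :=
    (Ideal.eq_bot_or_top _).resolve_right hprime.ne_top
  have := IsLocalization.under_map_of_isPrime_disjoint (Submonoid.powers f) (Localization.Away f)
    hp hdisj
  rw [hbot] at this
  apply hp0
  rw [← this]
  rw [eq_bot_iff]
  intro x hx
  have hx' : algebraMap D (Localization.Away f) x = 0 := hx
  have hinj : Function.Injective (algebraMap D (Localization.Away f)) :=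
    IsLocalization.injective _ (powers_le_nonZeroDivisors_of_noZeroDivisors hf)
  rw [← map_zero (algebraMap D (Localization.Away f))] at hx'
  exact hinj hx'


theorem eq_of_bot_lt_of_le_of_height_le_one {B : Type u} [CommRing B] [IsDomain B]
    {q p : Ideal B} [q.IsPrime] [p.IsPrime] (hq : q ≠ ⊥) (hqp : q ≤ p) (hp : p.height ≤ 1) :
    q = p := by
  by_contra hne
  have hlt : q < p := lt_of_le_of_ne hqp hne
  have h1 : q.height + 1 ≤ p.height := Ideal.height_add_one_le_of_lt_of_isPrime hlt
  have h2 : q.height + 1 ≤ 1 := h1.trans hp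
  have h3 : q.height = 0 := by
    have h4 : q.height < 1 := (ENat.add_one_le_iff' (by simp)).mp h2
    exact Order.lt_one_iff.mp h4
  exact hq (Ideal.height_eq_zero_iff_eq_bot.mp h3)

theorem height_le_one_of_finite {B : Type u} [CommRing B] [IsDomain B] [IsNoetherianRing B]
    (S : Set (Ideal B)) (hS : S.Finite) (hSp : ∀ q ∈ S, q.IsPrime)
    (hall : ∀ p' : Ideal B, p'.IsPrime → p' ≠ ⊥ → p'.height ≤ 1 → p' ∈ S)
    (p : Ideal B) (hp : p.IsPrime) : p.height ≤ 1 := by
  classical
  by_contra hgt
  have hp0 : p ≠ ⊥ := by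
    rintro rfl
    apply hgt
    rw [Ideal.height_bot]
    exact bot_le
  let T : Finset (Ideal B) := (insert ⊥ hS.toFinset).filter (fun q => ¬ p ≤ q)
  have hTprime : ∀ i ∈ T, i ≠ ⊥ → i ≠ ⊥ → i.IsPrime := by
    intro i hi h0 _
    simp only [T, Finset.mem_filter, Finset.mem_insert, Set.Finite.mem_toFinset] at hi
    rcases hi.1 with h | h
    · exact absurd h h0
    · exact hSp i h
  have havoid := Ideal.subset_union_prime (s := T) (f := fun q => q) ⊥ ⊥ hTprime (I := p)
  have hnot : ¬ ∃ i ∈ T, p ≤ i := by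
    rintro ⟨i, hi, hpi⟩
    simp only [T, Finset.mem_filter] at hi
    exact hi.2 hpi
  rw [← havoid, Set.not_subset] at hnot
  obtain ⟨g, hgp, hgT⟩ := hnot
  have hbotT : (⊥ : Ideal B) ∈ T := by
    simp only [T, Finset.mem_filter, Finset.mem_insert, true_or, true_and]
    intro h
    exact hp0 (le_bot_iff.mp h)
  have hg0 : g ≠ 0 := by
    rintro rfl
    apply hgT
    simp only [Set.mem_iUnion]
    exact ⟨⊥, hbotT, Ideal.zero_mem _⟩
  have hspan : Ideal.span {g} ≤ p := (Ideal.span_singleton_le_iff_mem _).mpr hgp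
  obtain ⟨p', hp'min, hp'p⟩ := Ideal.exists_minimalPrimes_le hspan
  have hp'prime : p'.IsPrime := hp'min.1.1
  have hp'h : p'.height ≤ 1 :=
    Ideal.height_le_one_of_isPrincipal_of_mem_minimalPrimes (Ideal.span {g}) p' hp'min
  have hgp' : g ∈ p' := hp'min.1.2 (Ideal.mem_span_singleton_self g)
  have hp'0 : p' ≠ ⊥ := by
    rintro rfl
    exact hg0 (by simpa using hgp')
  have hp'S : p' ∈ S := hall p' hp'prime hp'0 hp'h
  by_cases hpp' : p ≤ p'
  · have : p = p' := le_antisymm hpp' hp'p
    exact hgt (this ▸ hp'h)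
  · apply hgT
    simp only [Set.mem_iUnion]
    refine ⟨p', ?_, hgp'⟩
    simp only [T, Finset.coe_filter, Finset.mem_insert, Set.Finite.mem_toFinset, Set.mem_setOf_eq]
    exact ⟨Or.inr hp'S, hpp'⟩


/-- For a Noetherian integral domain B the following are equivalent (and hence equivalent to: the
fraction field of B is a finitely generated B-algebra; the generic point of Spec B is open): a) the
localization B_f is a field for some nonzero f; e) Spec B is finite; f) B is semi-local (finitely
many maximal ideals) of Krull dimension at most 1. -/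
theorem result (B : Type u) [CommRing B] [IsDomain B]
    [IsNoetherianRing B] :
    [∃ f : B, f ≠ 0 ∧ IsField (Localization.Away f),
      Finite (PrimeSpectrum B),
      Finite (MaximalSpectrum B) ∧ ringKrullDim B ≤ 1].TFAE := by
  have hae : (∃ f : B, f ≠ 0 ∧ IsField (Localization.Away f)) ↔
      ∃ f : B, f ≠ 0 ∧ ∀ p : Ideal B, p.IsPrime → p ≠ ⊥ → f ∈ p := by
    constructor
    · rintro ⟨f, hf0, hF⟩
      exact ⟨f, hf0, forall_mem_of_isField_away f hf0 hF⟩
    · rintro ⟨f, hf0, hf⟩
      exact ⟨f, hf0, isField_away_of_forall_mem f hf0 hf⟩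
  tfae_have 1 → 2 := by
    rw [hae]
    rintro ⟨f, hf0, hf⟩
    let S : Set (Ideal B) := (Ideal.span {f}).minimalPrimes
    have hS : S.Finite := Ideal.finite_minimalPrimes_of_isNoetherianRing B _
    have hSp : ∀ q ∈ S, q.IsPrime := fun q hq => hq.1.1
    have hall : ∀ p' : Ideal B, p'.IsPrime → p' ≠ ⊥ → p'.height ≤ 1 → p' ∈ S := by
      intro p' hp' hp'0 hp'h
      have hfp' : Ideal.span {f} ≤ p' := (Ideal.span_singleton_le_iff_mem _).mpr (hf p' hp' hp'0)
      obtain ⟨q, hq, hqp'⟩ := Ideal.exists_minimalPrimes_le hfp'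
      have : q.IsPrime := hq.1.1
      have hq0 : q ≠ ⊥ := by
        rintro rfl
        have : f ∈ (⊥ : Ideal B) := hq.1.2 (Ideal.mem_span_singleton_self f)
        exact hf0 (by simpa using this)
      have := eq_of_bot_lt_of_le_of_height_le_one hq0 hqp' hp'h
      exact this ▸ hq
    have hh := height_le_one_of_finite S hS hSp hall
    have hrange : Set.range (PrimeSpectrum.asIdeal (R := B)) ⊆ insert ⊥ S := by
      rintro _ ⟨p, rfl⟩
      by_cases hp0 : p.asIdeal = ⊥
      · exact Or.inl hp0
      · exact Or.inr (hall _ p.2 hp0 (hh _ p.2))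
    have : Finite (Set.range (PrimeSpectrum.asIdeal (R := B))) :=
      ((hS.insert ⊥).subset hrange).to_subtype
    exact Finite.of_injective_finite_range (f := PrimeSpectrum.asIdeal)
      (fun p q h => PrimeSpectrum.ext h)
  tfae_have 2 → 3 := by
    intro hfin
    refine ⟨Finite.of_injective MaximalSpectrum.toPrimeSpectrum
      MaximalSpectrum.toPrimeSpectrum_injective, ?_⟩
    rw [ringKrullDim_le_iff_height_le]
    intro p hp
    have hS : (Set.range (PrimeSpectrum.asIdeal (R := B))).Finite := Set.finite_range _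
    have := height_le_one_of_finite _ hS (by rintro _ ⟨q, rfl⟩; exact q.2)
      (fun p' hp' _ _ => ⟨⟨p', hp'⟩, rfl⟩) p hp
    exact_mod_cast this
  tfae_have 3 → 1 := by
    rw [hae]
    rintro ⟨hfin, hdim⟩
    classical
    have : Fintype (MaximalSpectrum B) := Fintype.ofFinite _
    have hc : ∀ m : MaximalSpectrum B, ∃ c : B, c ≠ 0 ∧ (m.asIdeal ≠ ⊥ → c ∈ m.asIdeal) := by
      intro m
      by_cases hm : m.asIdeal = ⊥
      · exact ⟨1, one_ne_zero, fun h => absurd hm h⟩
      · obtain ⟨c, hc, hc0⟩ := Submodule.exists_mem_ne_zero_of_ne_bot hm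
        exact ⟨c, hc0, fun _ => hc⟩
    choose c hc0 hcm using hc
    refine ⟨∏ m, c m, Finset.prod_ne_zero_iff.mpr fun m _ => hc0 m, ?_⟩
    intro p hp hp0
    obtain ⟨m, hm, hpm⟩ := Ideal.exists_le_maximal p hp.ne_top
    have hmh : m.height ≤ 1 := by
      have := (ringKrullDim_le_iff_height_le 1).mp hdim hm.isPrime
      exact_mod_cast this
    have : m.IsPrime := hm.isPrime
    have hpm' : p = m := eq_of_bot_lt_of_le_of_height_le_one hp0 hpm hmh
    have hm0 : m ≠ ⊥ := hpm' ▸ hp0
    rw [hpm']
    have hcmem : c ⟨m, hm⟩ ∈ m := hcm ⟨m, hm⟩ hm0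
    obtain ⟨d, hd⟩ := Finset.dvd_prod_of_mem c (Finset.mem_univ (⟨m, hm⟩ : MaximalSpectrum B))
    rw [hd]
    exact Ideal.mul_mem_right _ _ hcmem
  tfae_finish

end Groth.Agent.S4861
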