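import Groth.Statements.S4862
import Mathlib.RingTheory.Localization.Away.AdjoinRoot
import Mathlib.RingTheory.IntegralClosure.IsIntegralClosure.Basic
import Mathlib.RingTheory.Localization.Ideal

set_option autoImplicit false
universe u
open EGA43

namespace Groth.Agent.S4862

theorem isField_away_of_forall_mem {D : Type u} [CommRing D] [IsDomain D] (f : D) (hf : f ≠ 0)
    (h : ∀ p : Ideal D, p.IsPrime → p ≠ ⊥ → f ∈ p) : IsField (Localization.Away f) := by
  have hle : Submonoid.powers f ≤ nonZeroDivisors D :=
    powers_le_nonZeroDivisors_of_noZeroDivisors hf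
  have : IsDomain (Localization.Away f) := IsLocalization.isDomain_localization hle
  by_contra hF
  obtain ⟨p', hp'0, hp'⟩ := Ring.not_isField_iff_exists_prime.mp hF
  have hp : (p'.comap (algebraMap D (Localization.Away f))).IsPrime := inferInstance
  have hp0 : p'.comap (algebraMap D (Localization.Away f)) ≠ ⊥ := by
    intro h0
    apply hp'0
    have h0' : Ideal.under D p' = ⊥ := h0
    rw [← IsLocalization.map_under (Submonoid.powers f) (Localization.Away f) p', h0', Ideal.map_bot]
  have hfp : algebraMap D (Localization.Away f) f ∈ p' := h _ hp hp0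
  exact hp'.ne_top (Ideal.eq_top_of_isUnit_mem _ hfp (IsLocalization.Away.algebraMap_isUnit f))

theorem exists_maximal_of_cond {A : Type u} [CommRing A]
    (h2 : ∀ (p : Ideal A) [p.IsPrime], ¬ p.IsMaximal → ∀ f : A ⧸ p, f ≠ 0 →
      ¬ IsField (Localization.Away f))
    (P : Ideal A) [P.IsPrime] (f : A) (hf : f ∉ P) :
    ∃ Q : Ideal A, Q.IsMaximal ∧ P ≤ Q ∧ f ∉ Q := by
  let Af := Localization.Away f
  have hdisj : ∀ I : Ideal A, I.IsPrime → f ∉ I → Disjoint (Submonoid.powers f : Set A) (I : Set A) := by
    intro I hI hfI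
    rw [Set.disjoint_left]
    rintro _ ⟨n, rfl⟩ hn
    exact hfI (hI.mem_of_pow_mem n hn)
  have hP' : P.map (algebraMap A Af) ≠ ⊤ := by
    rw [IsLocalization.map_algebraMap_ne_top_iff_disjoint (Submonoid.powers f)]
    exact hdisj P inferInstance hf
  obtain ⟨M, hM, hPM⟩ := Ideal.exists_le_maximal _ hP'
  let Q : Ideal A := M.comap (algebraMap A Af)
  have hQprime : Q.IsPrime := inferInstance
  have hPQ : P ≤ Q := Ideal.map_le_iff_le_comap.mp hPM
  have hfQ : f ∉ Q := by
    intro hfQ
    exact hM.ne_top (Ideal.eq_top_of_isUnit_mem _ hfQ (IsLocalization.Away.algebraMap_isUnit f))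
  refine ⟨Q, ?_, hPQ, hfQ⟩
  by_contra hQmax
  have hfQ' : (Ideal.Quotient.mk Q f) ≠ 0 := by
    rwa [Ne, Ideal.Quotient.eq_zero_iff_mem]
  apply h2 Q hQmax (Ideal.Quotient.mk Q f) hfQ'
  apply isField_away_of_forall_mem _ hfQ'
  intro p hp hp0
  by_contra hfp
  let Q₂ : Ideal A := p.comap (Ideal.Quotient.mk Q)
  have hQ₂prime : Q₂.IsPrime := inferInstance
  have hfQ₂ : f ∉ Q₂ := hfp
  have hQQ₂ : Q ≤ Q₂ := by
    intro x hx
    show Ideal.Quotient.mk Q x ∈ p
    rw [Ideal.Quotient.eq_zero_iff_mem.mpr hx]
    exact p.zero_mem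
  have hmapprime : (Q₂.map (algebraMap A Af)).IsPrime :=
    IsLocalization.isPrime_of_isPrime_disjoint (Submonoid.powers f) Af Q₂ hQ₂prime
      (hdisj Q₂ hQ₂prime hfQ₂)
  have hMle : M ≤ Q₂.map (algebraMap A Af) := by
    rw [← IsLocalization.map_under (Submonoid.powers f) Af M]
    exact Ideal.map_mono hQQ₂
  have hMeq : M = Q₂.map (algebraMap A Af) := hM.eq_of_le hmapprime.ne_top hMle
  have hQ₂Q : Q₂ = Q := by
    have := IsLocalization.under_map_of_isPrime_disjoint (Submonoid.powers f) Af hQ₂prime
      (hdisj Q₂ hQ₂prime hfQ₂)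
    rw [← this, ← hMeq]
  apply hp0
  rw [← Ideal.map_comap_of_surjective (Ideal.Quotient.mk Q) Ideal.Quotient.mk_surjective p]
  show Q₂.map (Ideal.Quotient.mk Q) = ⊥
  rw [hQ₂Q, Ideal.map_quotient_self]

/-- For a commutative ring A the following are equivalent: a) A is a Jacobson ring; b) for every prime
ideal p of A which is not maximal and every nonzero f of B = A/p, the localization B_f is not a
field; b′) every finitely generated A-algebra which is a field is a finite A-module. -/
theorem result (A : Type u) [CommRing A] :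
    [IsJacobsonRing A,
      ∀ (p : Ideal A) [p.IsPrime], ¬ p.IsMaximal → ∀ f : A ⧸ p, f ≠ 0 → ¬ IsField (Localization.Away f),
      ∀ (K : Type u) [Field K] [Algebra A K], Algebra.FiniteType A K → Module.Finite A K].TFAE := by
  tfae_have 1 → 3 := by
    intro h K _ _ hK
    exact finite_of_finite_type_of_isJacobsonRing A K
  tfae_have 3 → 2 := by
    intro h p hp hpm f hf hF
    let _ := hF.toField
    have hft : Algebra.FiniteType A (Localization.Away f) := inferInstance
    have hfin : Module.Finite A (Localization.Away f) := h _ hft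
    have h1 : Algebra.IsIntegral A (Localization.Away f) := Algebra.IsIntegral.of_finite A _
    have h2 : Algebra.IsIntegral (A ⧸ p) (Localization.Away f) := Algebra.IsIntegral.tower_top A
    have hinj : Function.Injective (algebraMap (A ⧸ p) (Localization.Away f)) :=
      IsLocalization.injective _ (powers_le_nonZeroDivisors_of_noZeroDivisors hf)
    have : IsField (A ⧸ p) := isField_of_isIntegral_of_isField hinj hF
    exact hpm (Ideal.Quotient.maximal_of_isField p this)
  tfae_have 2 → 1 := by
    intro h2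
    rw [isJacobsonRing_iff_prime_eq]
    intro P hP
    refine le_antisymm ?_ Ideal.le_jacobson
    intro f hf
    by_contra hfP
    obtain ⟨m, hm, hPm, hfm⟩ := exists_maximal_of_cond h2 P f hfP
    exact hfm (Ideal.mem_sInf.mp hf ⟨hPm, hm⟩)
  tfae_finish

end Groth.Agent.S4862
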