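import Groth.Statements.S4863
import Mathlib
import Groth.Agent.Lib.Helper18.FlH

set_option autoImplicit false
universe u
open EGA43

namespace Groth.Agent.S4863

open AlgebraicGeometry CategoryTheory Limits in
/-- First assertion, for a module: let f : X ⟶ Y be locally of finite presentation and F a
quasi-coherent O_X-module of finite presentation. Then the set of points of X at which F is f-flat
is open. -/
theorem result {X Y : Scheme.{u}} (f : X ⟶ Y)
    [LocallyOfFinitePresentation f] (F : X.Modules) [Coh.IsQCoh F] (hF : CohB1.IsFP F) :
    IsOpen {x : X | FlatMod.IsFlatOverAt f F x} := by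
  haveI : F.IsQuasicoherent := ‹Coh.IsQCoh F›
  haveI : F.IsFinitePresentation := hF
  exact Groth.Agent.Lib.Helper18.Fl.isOpen_isFlatOverAt f F

end Groth.Agent.S4863
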