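import Groth.Statements.S4872
import Mathlib

set_option autoImplicit false
universe u
open CategoryTheory AlgebraicGeometry
open EGA43

namespace Groth.Agent.S4872



theorem b_to_c {X : Scheme.{u}} {ι : Type u} (Z : ι → Scheme.{u}) (f : ∀ i, Z i ⟶ X)
    (hb : ∀ (V : (X).Opens) (t : Γ(X, V)), (∀ i, (f i).app V t = 0) → t = 0)
    (U : X.Opens) (Y : Scheme.{u}) (j : Y ⟶ (U : Scheme.{u})) (hj : IsClosedImmersion j)
    (hfac : ∀ i, ∃ g : ((f i) ⁻¹ᵁ U : Scheme.{u}) ⟶ Y, g ≫ j = (f i) ∣_ U) : IsIso j := by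
  rw [IsClosedImmersion.isIso_iff_ker_eq_bot, eq_bot_iff]
  intro A x hx
  have hx0 : j.app A x = 0 := (j.ideal_ker_le A) hx
  have hx1 : x = 0 := by
    apply hb (U.ι ''ᵁ A) x
    intro i
    obtain ⟨g, hg⟩ := hfac i
    have h1 : ((f i) ∣_ U).app A x = 0 := by
      have h3 : (g ≫ j).app A x = 0 := by
        rw [Scheme.Hom.comp_app]
        show (g.app (j ⁻¹ᵁ A)) ((j.app A) x) = 0
        rw [hx0, map_zero]
      rw [Scheme.Hom.congr_app hg.symm A, CommRingCat.comp_apply, h3, map_zero]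
    rw [morphismRestrict_app] at h1
    have h2 : ((Z i).presheaf.map (eqToHom (image_morphismRestrict_preimage (f i) U A)).op).hom
        (((f i).app (U.ι ''ᵁ A)).hom x) = 0 := h1
    have hinj : Function.Injective
        ((Z i).presheaf.map (eqToHom (image_morphismRestrict_preimage (f i) U A)).op).hom :=
      (ConcreteCategory.bijective_of_isIso _).1
    apply hinj
    rw [map_zero]
    exact h2
  rw [hx1]
  exact zero_mem _

theorem c_to_d {X S : Scheme.{u}} (p : X ⟶ S) {ι : Type u} (Z : ι → Scheme.{u})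
    (f : ∀ i, Z i ⟶ X)
    (hc : ∀ (U : X.Opens) (Y : Scheme.{u}) (j : Y ⟶ (U : Scheme.{u})), IsClosedImmersion j →
        (∀ i, ∃ g : ((f i) ⁻¹ᵁ U : Scheme.{u}) ⟶ Y, g ≫ j = (f i) ∣_ U) → IsIso j)
    (X' : Scheme.{u}) (q : X' ⟶ S) (hq : IsSeparated q) (U : X.Opens)
    (u v : (U : Scheme.{u}) ⟶ X')
    (hu : u ≫ q = U.ι ≫ p) (hv : v ≫ q = U.ι ≫ p)
    (huv : ∀ i, ((f i) ∣_ U) ≫ u = ((f i) ∣_ U) ≫ v) : u = v := by
  let UO : Over S := Over.mk (U.ι ≫ p)
  let XO : Over S := Over.mk q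
  let u' : UO ⟶ XO := Over.homMk u hu
  let v' : UO ⟶ XO := Over.homMk v hv
  have : IsSeparated XO.hom := hq
  have hci : IsClosedImmersion (Limits.equalizer.ι u' v').left := inferInstance
  have hiso : IsIso (Limits.equalizer.ι u' v').left := by
    apply hc U _ _ hci
    intro i
    let ZO : Over S := Over.mk (((f i) ∣_ U) ≫ U.ι ≫ p)
    let fi' : ZO ⟶ UO := Over.homMk ((f i) ∣_ U) rfl
    have hcond : fi' ≫ u' = fi' ≫ v' := by ext1; exact huv i
    refine ⟨(Limits.equalizer.lift fi' hcond).left, ?_⟩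
    rw [← Over.comp_left, Limits.equalizer.lift_ι]
    rfl
  rw [← cancel_epi (Limits.equalizer.ι u' v').left]
  exact congr($(Limits.equalizer.condition u' v').left)

open AffineSpace in
theorem d_to_b {X S : Scheme.{u}} (p : X ⟶ S) {ι : Type u} (Z : ι → Scheme.{u})
    (f : ∀ i, Z i ⟶ X)
    (hd : ∀ (X' : Scheme.{u}) (q : X' ⟶ S), IsSeparated q → ∀ (U : X.Opens)
        (u v : (U : Scheme.{u}) ⟶ X'),
        u ≫ q = U.ι ≫ p → v ≫ q = U.ι ≫ p →
        (∀ i, ((f i) ∣_ U) ≫ u = ((f i) ∣_ U) ≫ v) → u = v)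
    (V : X.Opens) (t : Γ(X, V)) (ht : ∀ i, (f i).app V t = 0) : t = 0 := by
  let n : Type u := PUnit.{u+1}
  let t' : Γ(V.toScheme, ⊤) := V.topIso.inv t
  let u : V.toScheme ⟶ 𝔸(n; S) := homOfVector (V.ι ≫ p) (fun _ => t')
  let v : V.toScheme ⟶ 𝔸(n; S) := homOfVector (V.ι ≫ p) (fun _ => 0)
  have hsep : IsSeparated (𝔸(n; S) ↘ S) := inferInstance
  have huv : u = v := by
    apply hd _ (𝔸(n; S) ↘ S) hsep V u v (homOfVector_over _ _) (homOfVector_over _ _)
    intro i
    apply AffineSpace.hom_ext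
    · simp only [Category.assoc, u, v, homOfVector_over]
    · intro k
      rw [Scheme.Hom.comp_appTop, Scheme.Hom.comp_appTop, CommRingCat.comp_apply,
        CommRingCat.comp_apply]
      simp only [u, v, homOfVector_appTop_coord]
      rw [map_zero]
      have h6 : ((f i) ∣_ V).appTop t' = ((Z i).presheaf.map
          (eqToHom (image_morphismRestrict_preimage (f i) V ⊤)).op)
          ((f i).app (V.ι ''ᵁ ⊤) t') := by
        rw [morphismRestrict_appTop]; rfl
      rw [h6]
      have key : ∀ (O : X.Opens) (e : O = V),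
          (f i).app O (X.presheaf.map (eqToHom e).op t) = 0 := by
        rintro _ rfl
        simpa using ht i
      have h3 : (f i).app (V.ι ''ᵁ ⊤) t' = 0 := key _ V.ι_image_top
      rw [h3, map_zero]
      rfl
  have h1 : u.appTop (coord S PUnit.unit) = t' := homOfVector_appTop_coord _ _ _
  have h2 : v.appTop (coord S PUnit.unit) = 0 := homOfVector_appTop_coord _ _ _
  have h4 : t' = 0 := by rw [← h1, huv, h2]
  have h5 : t = V.topIso.hom t' := (Iso.inv_hom_id_apply V.topIso t).symm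
  rw [h5, h4, map_zero]

/-- Conditions b), c), d) (schematically dominant families): let p : X ⟶ S be a morphism and (f_i : Z_i
⟶ X) a family of morphisms. The following are equivalent: b) for every open V of X, a section of O_X
over V whose images in all the Γ(f_i⁻¹(V), O_{Z_i}) are zero is zero; c) for every open U of X, a
closed immersion j : Y ⟶ U through which each restriction f_i⁻¹(U) ⟶ U factors is an isomorphism; d)
for every separated S-scheme X', every open U of X and every pair of S-morphisms u, v : U ⟶ X'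
having the same composite with each f_i⁻¹(U) ⟶ U, one has u = v. -/
theorem result {X S : Scheme.{u}} (p : X ⟶ S) {ι : Type u} (Z : ι → Scheme.{u})
    (f : ∀ i, Z i ⟶ X) :
    [(∀ (V : (X).Opens) (t : Γ(X, V)), (∀ i, (f i).app V t = 0) → t = 0),
      ∀ (U : X.Opens) (Y : Scheme.{u}) (j : Y ⟶ (U : Scheme.{u})), IsClosedImmersion j →
        (∀ i, ∃ g : ((f i) ⁻¹ᵁ U : Scheme.{u}) ⟶ Y, g ≫ j = (f i) ∣_ U) → IsIso j,
      ∀ (X' : Scheme.{u}) (q : X' ⟶ S), IsSeparated q → ∀ (U : X.Opens) (u v : (U : Scheme.{u}) ⟶ X'),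
        u ≫ q = U.ι ≫ p → v ≫ q = U.ι ≫ p → (∀ i, ((f i) ∣_ U) ≫ u = ((f i) ∣_ U) ≫ v) → u = v].TFAE := by

  tfae_have 1 → 2 := fun hb U Y j hj hfac => b_to_c Z f hb U Y j hj hfac
  tfae_have 2 → 3 := fun hc X' q hq U u v hu hv huv => c_to_d p Z f hc X' q hq U u v hu hv huv
  tfae_have 3 → 1 := fun hd V t ht => d_to_b p Z f hd V t ht
  tfae_finish

end Groth.Agent.S4872
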