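import Groth.Statements.S4874
-- import your own Groth.Agent.* helpers here

set_option autoImplicit false
universe u
open CategoryTheory AlgebraicGeometry
open EGA43

namespace Groth.Agent.S4874

theorem app_injective_of_flat_of_surjective {X X' : Scheme.{u}} (g : X' ⟶ X) [Flat g] [Surjective g]
    (V : X.Opens) : Function.Injective (g.app V) := by
  rw [injective_iff_map_eq_zero]
  intro t ht
  apply TopCat.Presheaf.section_ext X.sheaf V t 0
  intro x hx
  obtain ⟨x', rfl⟩ := g.surjective x
  have hinj : Function.Injective (g.stalkMap x') := by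
    algebraize [(g.stalkMap x').hom]
    have : Module.FaithfullyFlat (X.presheaf.stalk (g x')) (X'.presheaf.stalk x') :=
      @Module.FaithfullyFlat.of_flat_of_isLocalHom _ _ _ _ _ _ _
        (Flat.stalkMap g x') (g.toLRSHom.prop x')
    exact ‹RingHom.FaithfullyFlat _›.injective
  have h0 : g.stalkMap x' (X.presheaf.germ V (g x') hx t) = 0 := by
    rw [Scheme.Hom.germ_stalkMap_apply, ht, map_zero]
  have h1 : X.presheaf.germ V (g x') hx t = 0 := hinj (h0.trans (map_zero _).symm)
  show X.presheaf.germ V (g x') hx t = X.presheaf.germ V (g x') hx 0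
  rw [h1, map_zero]


/-- Let (f_i : Z_i ⟶ X) be a family of morphisms, g : X' ⟶ X a faithfully flat morphism and f'_i : Z_i
×_X X' ⟶ X' the base changes. If the family (f'_i) is schematically dominant, then so is the family
(f_i). (Schematically dominant: a section of the structure sheaf over an open whose pullback along
every member of the family vanishes is zero.) -/
theorem result {X X' : Scheme.{u}} {ι : Type u} (Z : ι → Scheme.{u})
    (f : ∀ i, Z i ⟶ X) (g : X' ⟶ X) [Flat g] [Surjective g]
    (h : (∀ (V : (X').Opens) (t : Γ(X', V)), (∀ i, (Limits.pullback.snd (f i) g).app V t = 0) → t = 0)) :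
    (∀ (V : (X).Opens) (t : Γ(X, V)), (∀ i, (f i).app V t = 0) → t = 0) := by
  intro V t ht
  apply app_injective_of_flat_of_surjective g V
  rw [map_zero]
  apply h (g ⁻¹ᵁ V) (g.app V t)
  intro i
  have e : Limits.pullback.snd (f i) g ≫ g = Limits.pullback.fst (f i) g ≫ f i :=
    Limits.pullback.condition.symm
  have h3 : (Limits.pullback.fst (f i) g ≫ f i).app V t = 0 := by
    show (Limits.pullback.fst (f i) g).app _ ((f i).app V t) = 0
    rw [ht i, map_zero]
  have h1 := Scheme.Hom.congr_app e V
  have h2 := congr($h1 t)
  rw [ConcreteCategory.comp_apply, h3, map_zero] at h2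
  exact h2

end Groth.Agent.S4874
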