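import Groth.Statements.S4878
import Mathlib.LinearAlgebra.DirectSum.Finsupp
import Mathlib.Algebra.Module.Projective

set_option autoImplicit false
universe u
open TensorProduct
open EGA43

namespace Groth.Agent.S4878

/-- Let A be a commutative ring, (u_i : M → M_i) a family of A-linear maps whose kernels have zero
intersection, and N a projective A-module. Then the kernels of the maps u_i ⊗ 1 : M ⊗_A N → M_i ⊗_A
N have zero intersection. -/
theorem result {A : Type u} [CommRing A]
    {M : Type u} [AddCommGroup M] [Module A M] {ι : Type u} (M' : ι → Type u)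
    [∀ i, AddCommGroup (M' i)] [∀ i, Module A (M' i)] (u : ∀ i, M →ₗ[A] M' i)
    (hu : ⨅ i, LinearMap.ker (u i) = ⊥)
    (N : Type u) [AddCommGroup N] [Module A N] [Module.Projective A N] :
    ⨅ i, LinearMap.ker ((u i).rTensor N) = ⊥ := by
  classical
  obtain ⟨s, hs⟩ := Module.projective_def'.mp (inferInstance : Module.Projective A N)
  rw [eq_bot_iff]
  intro z hz
  rw [Submodule.mem_iInf] at hz
  rw [Submodule.mem_bot]
  have hnat : ∀ (i : ι) (φ : N →ₗ[A] A),
      (u i) ∘ₗ (TensorProduct.rid A M).toLinearMap ∘ₗ LinearMap.lTensor M φ =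
        (TensorProduct.rid A (M' i)).toLinearMap ∘ₗ LinearMap.lTensor (M' i) φ ∘ₗ
          LinearMap.rTensor N (u i) := by
    intro i φ
    apply TensorProduct.ext'
    intro m n
    simp
  have hφ : ∀ φ : N →ₗ[A] A, LinearMap.lTensor M φ z = 0 := by
    intro φ
    apply (TensorProduct.rid A M).injective
    rw [map_zero]
    have hmem : (TensorProduct.rid A M) (LinearMap.lTensor M φ z) ∈ ⨅ i, LinearMap.ker (u i) := by
      rw [Submodule.mem_iInf]
      intro i
      rw [LinearMap.mem_ker]
      have := DFunLike.congr_fun (hnat i φ) z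
      simp only [LinearMap.comp_apply, LinearEquiv.coe_coe] at this
      rw [this, LinearMap.mem_ker.mp (hz i), map_zero, map_zero]
    rw [hu] at hmem
    exact hmem
  have hz' : LinearMap.lTensor M s z = 0 := by
    apply (TensorProduct.finsuppRight A A M A N).injective
    rw [map_zero]
    ext j
    rw [TensorProduct.finsuppRight_apply, ← LinearMap.comp_apply, ← LinearMap.lTensor_comp, hφ]
    rfl
  have : z = LinearMap.lTensor M (Finsupp.linearCombination A id ∘ₗ s) z := by
    rw [hs, LinearMap.lTensor_id, LinearMap.id_apply]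
  rw [this, LinearMap.lTensor_comp, LinearMap.comp_apply, hz', map_zero]

end Groth.Agent.S4878
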