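import Groth.Statements.S4880
import Mathlib
import Groth.Agent.S4861

set_option autoImplicit false
universe u
open CategoryTheory AlgebraicGeometry
open EGA43

namespace Groth.Agent.S4880



open AlgebraicGeometry TopologicalSpace

open PrimeSpectrum in
theorem quot_setup {A : Type u} [CommRing A] (z : PrimeSpectrum A)
    (hz : ∀ p : PrimeSpectrum A, z.asIdeal ≤ p.asIdeal) :
    Function.Bijective (comap (Ideal.Quotient.mk z.asIdeal)) := by
  have hmk : Function.Surjective (Ideal.Quotient.mk z.asIdeal) := Ideal.Quotient.mk_surjective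
  refine ⟨comap_injective_of_surjective _ hmk, ?_⟩
  rw [← Set.range_eq_univ, range_comap_of_surjective _ _ hmk, Ideal.mk_ker]
  ext p
  simp only [mem_zeroLocus, SetLike.coe_subset_coe, Set.mem_univ, iff_true]
  exact hz p

open PrimeSpectrum in
theorem affA {A : Type u} [CommRing A] [IsNoetherianRing A] (z : PrimeSpectrum A)
    (hz : ∀ p : PrimeSpectrum A, z.asIdeal ≤ p.asIdeal)
    (hopen : IsOpen ({z} : Set (PrimeSpectrum A))) : Finite (PrimeSpectrum A) := by
  obtain ⟨hinj, hsurj⟩ := quot_setup z hz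
  let b : PrimeSpectrum (A ⧸ z.asIdeal) := ⟨⊥, Ideal.isPrime_bot⟩
  have hb : comap (Ideal.Quotient.mk z.asIdeal) b = z := by
    ext1
    show Ideal.comap (Ideal.Quotient.mk z.asIdeal) ⊥ = z.asIdeal
    rw [← RingHom.ker_eq_comap_bot, Ideal.mk_ker]
  have hopenB : IsOpen ({b} : Set (PrimeSpectrum (A ⧸ z.asIdeal))) := by
    have h1 : ({b} : Set (PrimeSpectrum (A ⧸ z.asIdeal))) =
        comap (Ideal.Quotient.mk z.asIdeal) ⁻¹' {z} := by
      ext q
      simp only [Set.mem_singleton_iff, Set.mem_preimage]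
      constructor
      · rintro rfl; exact hb
      · intro h; exact hinj (h.trans hb.symm)
    rw [h1]
    exact hopen.preimage (continuous_comap _)
  obtain ⟨_, ⟨g, rfl⟩, hbg, hgb⟩ := isTopologicalBasis_basic_opens.isOpen_iff.mp hopenB b rfl
  have hg0 : g ≠ 0 := by
    rintro rfl
    exact hbg (Ideal.zero_mem _)
  have hprime : ∀ q : Ideal (A ⧸ z.asIdeal), q.IsPrime → g ∉ q → q = ⊥ := by
    intro q hq hgq
    have h1 : (⟨q, hq⟩ : PrimeSpectrum (A ⧸ z.asIdeal)) ∈ ({b} : Set _) := hgb hgq
    exact congrArg PrimeSpectrum.asIdeal (Set.mem_singleton_iff.mp h1)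
  haveI : IsDomain (Localization.Away g) :=
    IsLocalization.isDomain_localization (powers_le_nonZeroDivisors_of_noZeroDivisors hg0)
  have hfield : IsField (Localization.Away g) := by
    rw [Ring.isField_iff_maximal_bot]
    obtain ⟨M, hM⟩ := Ideal.exists_maximal (Localization.Away g)
    have hMp : M.IsPrime := hM.isPrime
    have hq : (M.comap (algebraMap (A ⧸ z.asIdeal) (Localization.Away g))).IsPrime :=
      Ideal.comap_isPrime _ _
    have hgq : g ∉ M.comap (algebraMap (A ⧸ z.asIdeal) (Localization.Away g)) := by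
      intro hmem
      rw [Ideal.mem_comap] at hmem
      have hu : IsUnit (algebraMap (A ⧸ z.asIdeal) (Localization.Away g) g) :=
        IsLocalization.map_units (Localization.Away g)
          (⟨g, Submonoid.mem_powers g⟩ : Submonoid.powers g)
      exact hM.ne_top (Ideal.eq_top_of_isUnit_mem _ hmem hu)
    have h2 := hprime _ hq hgq
    have h3 : M = ⊥ := by
      have h4 := IsLocalization.map_comap (Submonoid.powers g) (Localization.Away g) M
      rw [← h4]
      change Ideal.map _ (Ideal.comap (algebraMap (A ⧸ z.asIdeal) (Localization.Away g)) M) = ⊥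
      rw [h2, Ideal.map_bot]
    rw [← h3]
    exact hM
  have hB : Finite (PrimeSpectrum (A ⧸ z.asIdeal)) :=
    ((Groth.Agent.S4861.result (A ⧸ z.asIdeal)).out 0 1).mp
      (⟨g, hg0, hfield⟩ : ∃ f : A ⧸ z.asIdeal, f ≠ 0 ∧ IsField (Localization.Away f))
  exact Finite.of_surjective _ hsurj

open PrimeSpectrum in
theorem affB {A : Type u} [CommRing A] [IsNoetherianRing A] (z : PrimeSpectrum A)
    (hz : ∀ p : PrimeSpectrum A, z.asIdeal ≤ p.asIdeal) [Finite (PrimeSpectrum A)]
    (p2 p1 p0 : PrimeSpectrum A) (h21 : p2.asIdeal < p1.asIdeal) (h10 : p1.asIdeal < p0.asIdeal) :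
    False := by
  obtain ⟨hinj, hsurj⟩ := quot_setup z hz
  haveI : Finite (PrimeSpectrum (A ⧸ z.asIdeal)) := Finite.of_injective _ hinj
  have htf : Finite (PrimeSpectrum (A ⧸ z.asIdeal)) ↔
      (Finite (MaximalSpectrum (A ⧸ z.asIdeal)) ∧ ringKrullDim (A ⧸ z.asIdeal) ≤ 1) :=
    (Groth.Agent.S4861.result (A ⧸ z.asIdeal)).out 1 2
  have hdim : ringKrullDim (A ⧸ z.asIdeal) ≤ 1 := (htf.mp inferInstance).2
  obtain ⟨q2, rfl⟩ := hsurj p2
  obtain ⟨q1, rfl⟩ := hsurj p1
  obtain ⟨q0, rfl⟩ := hsurj p0
  have hmk : Function.Surjective (Ideal.Quotient.mk z.asIdeal) := Ideal.Quotient.mk_surjective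
  have hrefl : ∀ q q' : PrimeSpectrum (A ⧸ z.asIdeal),
      (comap (Ideal.Quotient.mk z.asIdeal) q).asIdeal < (comap (Ideal.Quotient.mk z.asIdeal) q').asIdeal →
      q.asIdeal < q'.asIdeal := by
    intro q q' h
    rw [lt_iff_le_and_ne] at h ⊢
    refine ⟨(Ideal.comap_le_comap_iff_of_surjective _ hmk _ _).mp h.1, fun h' => h.2 ?_⟩
    show Ideal.comap _ q.asIdeal = Ideal.comap _ q'.asIdeal
    rw [h']
  have h21' := hrefl _ _ h21
  have h10' := hrefl _ _ h10
  have hht1 := Ideal.height_strict_mono_of_isPrime h21'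
  have hht0 := Ideal.height_strict_mono_of_isPrime h10'
  have h2 : (2 : ℕ∞) ≤ q0.asIdeal.height := by
    have e1 : q2.asIdeal.height + 1 ≤ q1.asIdeal.height := Order.add_one_le_of_lt hht1
    have e0 : q1.asIdeal.height + 1 ≤ q0.asIdeal.height := Order.add_one_le_of_lt hht0
    calc (2 : ℕ∞) = 0 + 1 + 1 := by norm_num
      _ ≤ q2.asIdeal.height + 1 + 1 := by gcongr; exact zero_le
      _ ≤ q1.asIdeal.height + 1 := by gcongr
      _ ≤ q0.asIdeal.height := e0
  have h3 := Ideal.height_le_ringKrullDim_of_ne_top q0.2.ne_top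
  have h4 : ((2 : ℕ∞) : WithBot ℕ∞) ≤ ((1 : ℕ∞) : WithBot ℕ∞) :=
    (WithBot.coe_le_coe.mpr h2).trans (h3.trans hdim)
  rw [WithBot.coe_le_coe] at h4
  exact absurd h4 (by decide)

theorem chart_generic (X : Scheme.{u}) [IrreducibleSpace X] (U : X.Opens) (hU : IsAffineOpen U)
    (hη : genericPoint X ∈ U) :
    ∃ z : PrimeSpectrum Γ(X, U), hU.fromSpec z = genericPoint X ∧
      ∀ p : PrimeSpectrum Γ(X, U), z.asIdeal ≤ p.asIdeal := by
  obtain ⟨z, hz⟩ : genericPoint X ∈ Set.range hU.fromSpec := by
    rw [hU.range_fromSpec]; exact hη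
  refine ⟨z, hz, fun p => ?_⟩
  have h1 : hU.fromSpec z ⤳ hU.fromSpec p := by
    rw [hz]; exact genericPoint_specializes _
  rw [hU.fromSpec.isOpenEmbedding.isInducing.specializes_iff] at h1
  exact (PrimeSpectrum.le_iff_specializes z p).mpr h1

theorem finite_affine_of_isOpen (X : Scheme.{u}) [IsNoetherian X] [IrreducibleSpace X]
    (hopen : IsOpen ({genericPoint X} : Set X)) (U : X.Opens) (hU : IsAffineOpen U) :
    (U : Set X).Finite := by
  by_cases hne : (U : Set X).Nonempty
  · have hη : genericPoint X ∈ U := by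
      show genericPoint X ∈ (U : Set X)
      rw [(genericPoint_spec X).mem_open_set_iff U.isOpen]
      simpa using hne
    obtain ⟨z, hz, hzgen⟩ := chart_generic X U hU hη
    haveI : IsNoetherianRing Γ(X, U) := IsLocallyNoetherian.component_noetherian ⟨U, hU⟩
    have hinj : Function.Injective hU.fromSpec := hU.fromSpec.isOpenEmbedding.injective
    have hzopen : IsOpen ({z} : Set (PrimeSpectrum Γ(X, U))) := by
      have h1 : ({z} : Set (PrimeSpectrum Γ(X, U))) = hU.fromSpec ⁻¹' {genericPoint X} := by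
        ext q
        simp only [Set.mem_singleton_iff, Set.mem_preimage]
        constructor
        · rintro rfl; exact hz
        · intro h; exact hinj (h.trans hz.symm)
      rw [h1]
      exact hopen.preimage hU.fromSpec.continuous
    haveI : Finite (PrimeSpectrum Γ(X, U)) := affA z hzgen hzopen
    have h2 : (U : Set X) = Set.range (fun q : PrimeSpectrum Γ(X, U) => hU.fromSpec q) :=
      hU.range_fromSpec.symm
    rw [h2]
    exact Set.finite_range _
  · rw [Set.not_nonempty_iff_eq_empty] at hne
    rw [hne]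
    exact Set.finite_empty

/-- For a Noetherian irreducible scheme X the following are equivalent: a) the generic point of X is an
isolated point; b) the underlying set of X is finite; c) X has dimension at most 1 and finitely many
closed points. -/
theorem result (X : Scheme.{u}) [IsNoetherian X]
    [IrreducibleSpace X] :
    [IsOpen ({genericPoint X} : Set X),
      Finite X,
      topologicalKrullDim X ≤ 1 ∧ {x : X | IsClosed ({x} : Set X)}.Finite].TFAE := by

  have hη : ∀ (U : X.Opens), (U : Set X).Nonempty → genericPoint X ∈ U := by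
    intro U hU
    show genericPoint X ∈ (U : Set X)
    rw [(genericPoint_spec X).mem_open_set_iff U.isOpen]
    simpa using hU
  have hbasis : ∀ x : X, ∃ U' ∈ X.affineOpens, x ∈ U' ∧ U' ≤ (⊤ : X.Opens) := fun x =>
    Opens.isBasis_iff_nbhd.mp X.isBasis_affineOpens (show x ∈ (⊤ : X.Opens) from trivial)
  choose U hU hxU _ using hbasis
  tfae_have 1 → 2 := by
    intro hopen
    obtain ⟨t, ht⟩ := isCompact_univ.elim_finite_subcover (fun x : X => ((U x : X.Opens) : Set X))
      (fun x => (U x).isOpen) (fun x _ => Set.mem_iUnion.mpr ⟨x, hxU x⟩)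
    have h1 : (⋃ x ∈ t, ((U x : X.Opens) : Set X)).Finite :=
      t.finite_toSet.biUnion fun x _ => finite_affine_of_isOpen X hopen (U x) (hU x)
    exact Set.finite_univ_iff.mp (h1.subset ht)
  tfae_have 2 → 1 := by
    intro hfin
    have h1 : ({genericPoint X} : Set X)ᶜ = ⋃ x ∈ ({genericPoint X} : Set X)ᶜ, closure {x} := by
      ext y
      simp only [Set.mem_compl_iff, Set.mem_singleton_iff, Set.mem_iUnion, exists_prop]
      constructor
      · intro hy
        exact ⟨y, hy, subset_closure rfl⟩
      · rintro ⟨x, hx, hyx⟩ rfl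
        have h2 : x ⤳ genericPoint X := specializes_iff_mem_closure.mpr hyx
        exact hx (h2.antisymm (genericPoint_specializes x)).eq
    rw [← isClosed_compl_iff, h1]
    exact (Set.toFinite _).isClosed_biUnion fun x _ => isClosed_closure
  tfae_have 2 → 3 := by
    intro hfin
    refine ⟨?_, Set.toFinite _⟩
    show Order.krullDim (IrreducibleCloseds X) ≤ 1
    rw [Order.krullDim_le_one_iff]
    intro Z
    by_contra hcon
    rw [not_or, not_isMin_iff, not_isMax_iff] at hcon
    obtain ⟨⟨Z0, hZ0⟩, ⟨Z2, hZ2⟩⟩ := hcon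
    obtain ⟨z0, hz0⟩ := QuasiSober.sober Z0.isIrreducible' Z0.isClosed'
    obtain ⟨z1, hz1⟩ := QuasiSober.sober Z.isIrreducible' Z.isClosed'
    obtain ⟨z2, hz2⟩ := QuasiSober.sober Z2.isIrreducible' Z2.isClosed'
    have hmem : ∀ (W : IrreducibleCloseds X) (w : X), IsGenericPoint w W.carrier → w ∈ W.carrier :=
      fun W w hw => by rw [← hw.def]; exact subset_closure rfl
    have hsp : ∀ (W W' : IrreducibleCloseds X) (w w' : X), IsGenericPoint w W.carrier →
        IsGenericPoint w' W'.carrier → W < W' → w' ⤳ w ∧ w' ≠ w := by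
      intro W W' w w' hw hw' hlt
      constructor
      · rw [specializes_iff_mem_closure, hw'.def]
        exact hlt.le (hmem W w hw)
      · rintro rfl
        have : W.carrier = W'.carrier := by rw [← hw.def, ← hw'.def]
        exact hlt.ne (IrreducibleCloseds.ext this)
    obtain ⟨h10, hne10⟩ := hsp Z0 Z z0 z1 hz0 hz1 hZ0
    obtain ⟨h21, hne21⟩ := hsp Z Z2 z1 z2 hz1 hz2 hZ2
    have hz0U : z0 ∈ U z0 := hxU z0
    have hz1U : z1 ∈ U z0 := h10.mem_open (U z0).isOpen hz0U
    have hz2U : z2 ∈ U z0 := h21.mem_open (U z0).isOpen hz1U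
    have hηU : genericPoint X ∈ U z0 := hη _ ⟨z0, hz0U⟩
    obtain ⟨z, hz, hzgen⟩ := chart_generic X (U z0) (hU z0) hηU
    haveI : IsNoetherianRing Γ(X, U z0) := IsLocallyNoetherian.component_noetherian ⟨U z0, hU z0⟩
    have hinj : Function.Injective (hU z0).fromSpec := (hU z0).fromSpec.isOpenEmbedding.injective
    haveI : Finite (PrimeSpectrum Γ(X, U z0)) := Finite.of_injective _ hinj
    have hlift : ∀ w : X, w ∈ U z0 → ∃ p : PrimeSpectrum Γ(X, U z0), (hU z0).fromSpec p = w := by
      intro w hw
      have : w ∈ Set.range (hU z0).fromSpec := by rw [(hU z0).range_fromSpec]; exact hw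
      exact this
    obtain ⟨p0, hp0⟩ := hlift z0 hz0U
    obtain ⟨p1, hp1⟩ := hlift z1 hz1U
    obtain ⟨p2, hp2⟩ := hlift z2 hz2U
    have hlt : ∀ (p p' : PrimeSpectrum Γ(X, U z0)), (hU z0).fromSpec p ⤳ (hU z0).fromSpec p' →
        (hU z0).fromSpec p ≠ (hU z0).fromSpec p' → p.asIdeal < p'.asIdeal := by
      intro p p' hs hne
      rw [(hU z0).fromSpec.isOpenEmbedding.isInducing.specializes_iff] at hs
      refine lt_of_le_of_ne ((PrimeSpectrum.le_iff_specializes p p').mpr hs) fun h => hne ?_
      rw [PrimeSpectrum.ext h]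
    refine affB z hzgen p2 p1 p0 (hlt p2 p1 ?_ ?_) (hlt p1 p0 ?_ ?_)
    · rw [hp2, hp1]; exact h21
    · rw [hp2, hp1]; exact hne21
    · rw [hp1, hp0]; exact h10
    · rw [hp1, hp0]; exact hne10
  tfae_have 3 → 2 := by
    rintro ⟨hdim, hcl⟩
    have hdim' : Order.krullDim (IrreducibleCloseds X) ≤ 1 := hdim
    rw [Order.krullDim_le_one_iff] at hdim'
    have hpt : ∀ x : X, x = genericPoint X ∨ IsClosed ({x} : Set X) := by
      intro x
      let Zx : IrreducibleCloseds X := ⟨closure {x}, isIrreducible_singleton.closure, isClosed_closure⟩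
      rcases hdim' Zx with hmin | hmax
      · right
        have h1 : closure ({x} : Set X) = {x} := by
          apply Set.Subset.antisymm _ subset_closure
          intro y hy
          let Zy : IrreducibleCloseds X :=
            ⟨closure {y}, isIrreducible_singleton.closure, isClosed_closure⟩
          have hle : Zy ≤ Zx := by
            show closure {y} ⊆ closure {x}
            exact closure_minimal (Set.singleton_subset_iff.mpr hy) isClosed_closure
          have hge : Zx ≤ Zy := hmin hle
          have hxy : x ∈ closure {y} := hge (subset_closure rfl)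
          have h2 : x ⤳ y := specializes_iff_mem_closure.mpr hy
          have h3 : y ⤳ x := specializes_iff_mem_closure.mpr hxy
          exact (h3.antisymm h2).eq
        rw [← h1]
        exact isClosed_closure
      · left
        let Ztop : IrreducibleCloseds X :=
          ⟨Set.univ, IrreducibleSpace.isIrreducible_univ X, isClosed_univ⟩
        have hle : Zx ≤ Ztop := fun _ _ => trivial
        have hge : Ztop ≤ Zx := hmax hle
        have h1 : IsGenericPoint x Set.univ := Set.eq_univ_of_univ_subset hge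
        exact h1.eq (genericPoint_spec X)
    have h2 : (Set.univ : Set X) ⊆ {genericPoint X} ∪ {x : X | IsClosed ({x} : Set X)} := by
      intro x _
      rcases hpt x with h | h
      · exact Or.inl h
      · exact Or.inr h
    exact Set.finite_univ_iff.mp (((Set.finite_singleton _).union hcl).subset h2)
  tfae_finish

end Groth.Agent.S4880
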