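import Groth.Statements.S4882
import Groth.Agent.Lib.Helper22.QuasiHomeo

set_option autoImplicit false
universe u
open EGA43

namespace Groth.Agent.S4882

/-- Let X be a Jacobson space and Z a locally quasi-constructible subset of X, i.e. every point of X has
an open neighbourhood U such that U ∩ Z is a finite union of locally closed subsets of X. Then the
subspace Z is a Jacobson space, and a point of Z is closed in Z if and only if it is closed in X. -/
theorem result {X : Type u} [TopologicalSpace X] [JacobsonSpace X]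
    (Z : Set X)
    (hZ : ∀ x : X, ∃ U : Set X, IsOpen U ∧ x ∈ U ∧
      ∃ T : Set (Set X), T.Finite ∧ (∀ t ∈ T, IsLocallyClosed t) ∧ U ∩ Z = ⋃₀ T) :
    JacobsonSpace ↥Z ∧ ∀ z : ↥Z, IsClosed ({z} : Set ↥Z) ↔ IsClosed ({(z : X)} : Set X) := by
  have hL : Groth.Agent.Lib.Helper22.LQC Z := hZ
  have hB : ∀ z : ↥Z, IsClosed ({(z : X)} : Set X) → IsClosed ({z} : Set ↥Z) := by
    intro z hz
    have := hz.preimage (continuous_subtype_val (p := fun x => x ∈ Z))
    convert this using 1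
    ext w
    simp [Subtype.ext_iff]
  have hA : ∀ z : ↥Z, IsClosed ({z} : Set ↥Z) → IsClosed ({(z : X)} : Set X) := by
    intro z hz
    apply isClosed_singleton_of_isLocallyClosed_singleton
    obtain ⟨U, hU, hzU, T, -, hT, hUT⟩ := hZ z
    have hzT : (z : X) ∈ ⋃₀ T := hUT ▸ ⟨hzU, z.2⟩
    obtain ⟨t₀, ht₀, hzt₀⟩ := hzT
    obtain ⟨W, C, hW, hC, rfl⟩ := hT t₀ ht₀
    have hcl : closure ({(z : X)} : Set X) ∩ Z = {(z : X)} := by
      have h1 := Topology.IsInducing.subtypeVal.closure_eq_preimage_closure_image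
        ({z} : Set ↥Z)
      rw [hz.closure_eq, Set.image_singleton] at h1
      ext x
      constructor
      · rintro ⟨hx1, hx2⟩
        have : (⟨x, hx2⟩ : ↥Z) ∈ ({z} : Set ↥Z) := by rw [h1]; exact hx1
        simpa [Subtype.ext_iff] using this
      · rintro rfl
        exact ⟨subset_closure rfl, z.2⟩
    refine ⟨W ∩ U, closure {(z : X)}, hW.inter hU, isClosed_closure, ?_⟩
    apply Set.Subset.antisymm
    · rintro x rfl
      exact ⟨⟨hzt₀.1, hzU⟩, subset_closure rfl⟩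
    · rintro x ⟨⟨hxW, hxU⟩, hxcl⟩
      have hxC : x ∈ C := (hC.closure_subset_iff.mpr (Set.singleton_subset_iff.mpr hzt₀.2)) hxcl
      have hxZ : x ∈ Z := by
        have h3 : x ∈ ⋃₀ T := Set.mem_sUnion_of_mem (⟨hxW, hxC⟩ : x ∈ W ∩ C) ht₀
        rw [← hUT] at h3
        exact h3.2
      rw [← hcl]; exact ⟨hxcl, hxZ⟩
  refine ⟨?_, fun z => ⟨hA z, hB z⟩⟩
  rw [jacobsonSpace_iff_locallyClosed]
  intro S hS hS'
  obtain ⟨S', hS'lc, rfl⟩ := Topology.IsInducing.subtypeVal.isLocallyClosed_iff.mp hS'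
  obtain ⟨⟨y, hyZ⟩, hyS⟩ := hS
  have hL' := hL.inter_isLocallyClosed hS'lc
  obtain ⟨U, hU, hyU, T, -, hT, hUT⟩ := hL' y
  have hyT : y ∈ ⋃₀ T := hUT ▸ ⟨hyU, hyZ, hyS⟩
  obtain ⟨t₀, ht₀, hyt₀⟩ := hyT
  obtain ⟨x, hxt, hxcl⟩ := nonempty_inter_closedPoints ⟨y, hyt₀⟩ (hT t₀ ht₀)
  have hx : x ∈ U ∩ (Z ∩ S') := by
    rw [hUT]; exact Set.mem_sUnion_of_mem hxt ht₀
  exact ⟨⟨x, hx.2.1⟩, hx.2.2, hB ⟨x, hx.2.1⟩ hxcl⟩

end Groth.Agent.S4882
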