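import Groth.Statements.S4883
import Mathlib
import Groth.Agent.S3431
-- import your own Groth.Agent.* helpers here

set_option autoImplicit false
universe u
open CategoryTheory AlgebraicGeometry
open EGA43

namespace Groth.Agent.S4883

section helpers

theorem finite_primes_above {A : Type u} [CommRing A] [IsNoetherianRing A] (p : Ideal A) [p.IsPrime]
    (g : A) (hg : g ∉ p) (h : ∀ q : Ideal A, q.IsPrime → p < q → g ∈ q) :
    {q : PrimeSpectrum A | p ≤ q.asIdeal}.Finite := by
  have hfin : (p ⊔ Ideal.span {g}).minimalPrimes.Finite :=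
    Ideal.finite_minimalPrimes_of_isNoetherianRing A _
  have hsub : {q : PrimeSpectrum A | p ≤ q.asIdeal} ⊆
      insert (⟨p, inferInstance⟩ : PrimeSpectrum A)
        (PrimeSpectrum.asIdeal ⁻¹' (p ⊔ Ideal.span {g}).minimalPrimes) := by
    intro q hq
    by_cases hqp : q.asIdeal = p
    · left; exact PrimeSpectrum.ext hqp
    · right
      have hlt : p < q.asIdeal := lt_of_le_of_ne hq (Ne.symm hqp)
      have hgq := h q.asIdeal q.2 hlt
      refine ⟨⟨q.2, sup_le hq ((Ideal.span_singleton_le_iff_mem _).mpr hgq)⟩, ?_⟩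
      intro q' hq'' hq'q
      obtain ⟨hq'prime, hq'le⟩ := hq''
      by_contra hnot
      have hlt' : q' < q.asIdeal := lt_of_le_not_ge hq'q hnot
      have hpq' : p < q' := by
        refine lt_of_le_of_ne (le_sup_left.trans hq'le) ?_
        intro heq
        apply hg
        rw [heq]
        exact hq'le (Ideal.mem_sup_right (Ideal.mem_span_singleton_self g))
      haveI := hq'prime
      haveI := q.2
      obtain ⟨p', hp'⟩ :=
        (Groth.Agent.S3431.infinite_primes_between p q' q.asIdeal hpq' hlt' g hg).nonempty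
      exact hp'.2.2.2 (h p' hp'.1 hp'.2.1)
  refine Set.Finite.subset (Set.Finite.insert _ (hfin.preimage ?_)) hsub
  intro a _ b _ hab
  exact PrimeSpectrum.ext hab

theorem finite_closure_primeSpectrum {A : Type u} [CommRing A] [IsNoetherianRing A]
    (x : PrimeSpectrum A) (U : Set (PrimeSpectrum A)) (hU : IsOpen U) (hx : x ∈ U)
    (h : ∀ y, x ⤳ y → y ∈ U → y = x) : (closure ({x} : Set (PrimeSpectrum A))).Finite := by
  obtain ⟨_, ⟨_, ⟨g, rfl⟩, rfl⟩, hxg, hgU⟩ :=
    PrimeSpectrum.isBasis_basic_opens.exists_subset_of_mem_open hx hU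
  have hg : g ∉ x.asIdeal := hxg
  haveI := x.2
  have hfin := finite_primes_above x.asIdeal g hg (fun q hq hlt => by
    by_contra hgq
    have hy : (⟨q, hq⟩ : PrimeSpectrum A) = x :=
      h ⟨q, hq⟩ ((PrimeSpectrum.le_iff_specializes x ⟨q, hq⟩).mp hlt.le) (hgU hgq)
    exact absurd (congrArg PrimeSpectrum.asIdeal hy) hlt.ne')
  refine hfin.subset ?_
  intro y hy
  exact (PrimeSpectrum.le_iff_specializes x y).mpr (specializes_iff_mem_closure.mpr hy)

theorem finite_closure_inter_affine (X : Scheme.{u}) (W : X.Opens) (hW : IsAffineOpen W)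
    [IsNoetherianRing Γ(X, W)] (x : X) (hxW : x ∈ W) (U : Set X) (hU : IsOpen U) (hxU : x ∈ U)
    (h : ∀ y, x ⤳ y → y ∈ U → y = x) : (closure ({x} : Set X) ∩ (W : Set X)).Finite := by
  obtain ⟨x', hx'⟩ : ∃ x', hW.fromSpec x' = x := by
    have : x ∈ Set.range hW.fromSpec := by rw [hW.range_fromSpec]; exact hxW
    exact this
  have hemb : Topology.IsOpenEmbedding hW.fromSpec := hW.fromSpec.isOpenEmbedding
  have hfin := finite_closure_primeSpectrum (A := Γ(X, W)) x' (hW.fromSpec ⁻¹' U)
    (hU.preimage hW.fromSpec.continuous) (by show hW.fromSpec x' ∈ U; rw [hx']; exact hxU)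
     (fun y' hy' hy'U => by
        have h1 : hW.fromSpec x' ⤳ hW.fromSpec y' := hy'.map hW.fromSpec.continuous
        rw [hx'] at h1
        have h2 := h _ h1 hy'U
        exact hemb.injective (h2.trans hx'.symm))
  refine (hfin.image hW.fromSpec).subset ?_
  rintro y ⟨hy, hyW⟩
  obtain ⟨y', rfl⟩ : ∃ y', hW.fromSpec y' = y := by
    have : y ∈ Set.range hW.fromSpec := by rw [hW.range_fromSpec]; exact hyW
    exact this
  refine ⟨y', ?_, rfl⟩
  have h3 : x' ⤳ y' := by
    rw [← hemb.isInducing.specializes_iff, hx']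
    exact specializes_iff_mem_closure.mpr hy
  exact specializes_iff_mem_closure.mp h3

end helpers

/-- Let X be a Noetherian scheme. Then the set of points x of X whose closure is finite is very dense in
X: every nonempty locally closed subset of X contains a point with finite closure. -/
theorem result (X : Scheme.{u}) [IsNoetherian X]
    (Z : Set X) (hZ : IsLocallyClosed Z) (hne : Z.Nonempty) :
    ∃ x ∈ Z, (closure ({x} : Set X)).Finite := by
  classical
  haveI : TopologicalSpace.NoetherianSpace X := inferInstance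
  obtain ⟨x, hxZ, hmin⟩ : ∃ x ∈ Z, ∀ y ∈ Z, closure ({y} : Set X) ⊆ closure {x} →
      closure ({y} : Set X) = closure {x} := by
    have hwf : WellFounded (fun a b : TopologicalSpace.Closeds X => a < b) := wellFounded_lt
    obtain ⟨C, ⟨x, hxZ, rfl⟩, hC⟩ := hwf.has_min
      {C | ∃ z ∈ Z, C = ⟨closure {z}, isClosed_closure⟩}
      (by obtain ⟨z, hz⟩ := hne; exact ⟨_, z, hz, rfl⟩)
    refine ⟨x, hxZ, fun y hy hle => ?_⟩
    by_contra hne'
    exact hC ⟨closure {y}, isClosed_closure⟩ ⟨y, hy, rfl⟩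
      (lt_of_le_of_ne hle (fun h => hne' (congrArg (fun C : TopologicalSpace.Closeds X => (C : Set X)) h)))
  obtain ⟨U, C, hU, hC, rfl⟩ := hZ
  have h : ∀ y, x ⤳ y → y ∈ U → y = x := by
    intro y hxy hyU
    have hyC : y ∈ C := hxy.mem_closed hC hxZ.2
    have hycl : y ∈ closure ({x} : Set X) := specializes_iff_mem_closure.mp hxy
    have hle : closure ({y} : Set X) ⊆ closure {x} :=
      closure_minimal (Set.singleton_subset_iff.mpr hycl) isClosed_closure
    have heq := hmin y ⟨hyU, hyC⟩ hle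
    have hyx : y ⤳ x := by
      rw [specializes_iff_mem_closure, heq]
      exact subset_closure rfl
    exact (hyx.antisymm hxy).eq
  have hcover : ∀ y : X, ∃ W : X.Opens, IsAffineOpen W ∧ y ∈ W := by
    intro y
    obtain ⟨_, ⟨W, hW, rfl⟩, hy, -⟩ :=
      X.isBasis_affineOpens.exists_subset_of_mem_open (Set.mem_univ y) isOpen_univ
    exact ⟨W, hW, hy⟩
  choose W hW hyW using hcover
  obtain ⟨t, ht⟩ := isCompact_univ.elim_finite_subcover (fun y => (W y : Set X))
    (fun y => (W y).2) (fun y _ => Set.mem_iUnion.mpr ⟨y, hyW y⟩)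
  have hsub : closure ({x} : Set X) ⊆ ⋃ y ∈ t, (closure ({x} : Set X) ∩ (W y : Set X)) := by
    intro z hz
    have := ht (Set.mem_univ z)
    rw [Set.mem_iUnion₂] at this
    obtain ⟨y, hy, hzy⟩ := this
    exact Set.mem_iUnion₂.mpr ⟨y, hy, hz, hzy⟩
  refine ⟨x, hxZ, Set.Finite.subset (Set.Finite.biUnion t.finite_toSet (fun y _ => ?_)) hsub⟩
  by_cases hxW : x ∈ W y
  · haveI : IsNoetherianRing Γ(X, W y) := IsLocallyNoetherian.component_noetherian ⟨W y, hW y⟩
    exact finite_closure_inter_affine X (W y) (hW y) x hxW U hU hxZ.1 h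
  · convert Set.finite_empty
    rw [Set.eq_empty_iff_forall_notMem]
    rintro z ⟨hz, hzW⟩
    exact hxW ((specializes_iff_mem_closure.mpr hz).mem_open (W y).2 hzW)

end Groth.Agent.S4883
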