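import Groth.Statements.S4885
-- (no extra imports)

set_option autoImplicit false
universe u
open EGA43

namespace Groth.Agent.S4885


/-- Every finite algebra A' over a commutative ring A is a directed colimit (filtered inductive limit)
of A-algebras which are finite and of finite presentation over A. -/
theorem result (A A' : Type u) [CommRing A] [CommRing A']
    [Algebra A A'] [Module.Finite A A'] :
    ∃ (ι : Type u) (_ : Preorder ι) (G : ι → Type u) (_ : ∀ i, CommRing (G i)) (_ : ∀ i, Algebra A (G i))
      (g : ∀ i j, i ≤ j → G i →ₐ[A] G j) (_ : ∀ i, Algebra (G i) A') (_ : ∀ i, IsScalarTower A (G i) A'),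
      FlatCA.IsDirectedColimitRing G (fun i j h => (g i j h).toRingHom) A' ∧
        ∀ i, Module.Finite A (G i) ∧ Algebra.FinitePresentation A (G i) := by
  classical
  have hft : Algebra.FiniteType A A' := inferInstance
  obtain ⟨n, φ, hφ⟩ := Algebra.FiniteType.iff_quotient_mvPolynomial''.mp hft
  set Q := MvPolynomial (Fin n) A with hQ
  set K : Ideal Q := RingHom.ker φ.toRingHom with hK
  -- integrality relations
  have hint : ∀ i : Fin n, ∃ p : Polynomial A, p.Monic ∧ Polynomial.aeval (φ (MvPolynomial.X i)) p = 0 := by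
    intro i
    obtain ⟨p, hp, hp0⟩ := Algebra.IsIntegral.isIntegral (R := A) (φ (MvPolynomial.X i))
    exact ⟨p, hp, by rwa [Polynomial.aeval_def]⟩
  choose p hpm hp0 using hint
  let P : Fin n → Q := fun i => Polynomial.aeval (MvPolynomial.X i : Q) (p i)
  have hPK : ∀ i, P i ∈ K := by
    intro i
    show φ.toRingHom (P i) = 0
    show φ (Polynomial.aeval (MvPolynomial.X i : Q) (p i)) = 0
    rw [← Polynomial.aeval_algHom_apply]
    exact hp0 i
  let s₀ : Finset K := Finset.univ.image fun i => (⟨P i, hPK i⟩ : K)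
  let ι := {s : Finset K // s₀ ⊆ s}
  let J : ι → Ideal Q := fun s => Ideal.span ((fun x : K => (x : Q)) '' (s.1 : Set K))
  have hJK : ∀ s, J s ≤ K := by
    intro s
    rw [Ideal.span_le]
    rintro _ ⟨x, _, rfl⟩
    exact x.2
  have hJmono : ∀ s t : ι, s ≤ t → J s ≤ J t := by
    intro s t hst
    apply Ideal.span_mono
    apply Set.image_mono
    exact_mod_cast hst
  let G : ι → Type u := fun s => Q ⧸ J s
  let lift : ∀ s : ι, G s →ₐ[A] A' := fun s =>
    Ideal.Quotient.liftₐ (J s) φ (fun a ha => hJK s ha)
  refine ⟨ι, inferInstance, G, fun s => inferInstance, fun s => inferInstance,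
    fun s t hst => Ideal.Quotient.factorₐ A (hJmono s t hst),
    fun s => (lift s).toRingHom.toAlgebra, ?_, ?_, ?_⟩
  · intro s
    let _ : Algebra (G s) A' := (lift s).toRingHom.toAlgebra
    apply IsScalarTower.of_algebraMap_eq
    intro a
    show algebraMap A A' a = lift s (algebraMap A (G s) a)
    rw [AlgHom.commutes]
  · refine ⟨?_, ?_, ?_, ?_, ?_, ?_, ?_⟩
    · constructor
      intro s t
      refine ⟨⟨s.1 ∪ t.1, s.2.trans Finset.subset_union_left⟩, ?_, ?_⟩
      · exact Finset.subset_union_left
      · exact Finset.subset_union_right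
    · exact ⟨⟨s₀, le_rfl⟩⟩
    · intro s
      refine RingHom.ext fun x => ?_
      obtain ⟨x, rfl⟩ := Ideal.Quotient.mk_surjective x
      rfl
    · intro s t r hst htr
      refine RingHom.ext fun x => ?_
      obtain ⟨x, rfl⟩ := Ideal.Quotient.mk_surjective x
      rfl
    · intro s t hst
      refine RingHom.ext fun x => ?_
      obtain ⟨x, rfl⟩ := Ideal.Quotient.mk_surjective x
      rfl
    · intro a
      obtain ⟨q, rfl⟩ := hφ a
      exact ⟨⟨s₀, le_rfl⟩, Ideal.Quotient.mk _ q, rfl⟩
    · intro s x hx
      obtain ⟨q, rfl⟩ := Ideal.Quotient.mk_surjective x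
      have hqK : q ∈ K := hx
      refine ⟨⟨insert ⟨q, hqK⟩ s.1, s.2.trans (Finset.subset_insert _ _)⟩,
        Finset.subset_insert _ _, ?_⟩
      show Ideal.Quotient.mk _ q = 0
      rw [Ideal.Quotient.eq_zero_iff_mem]
      apply Ideal.subset_span
      exact ⟨⟨q, hqK⟩, by simp, rfl⟩
  · intro s
    constructor
    · -- finiteness
      have htop : Algebra.adjoin A (Set.range fun i : Fin n => (Ideal.Quotient.mkₐ A (J s)) (MvPolynomial.X i)) = ⊤ := by
        have h1 : (Algebra.adjoin A (Set.range (MvPolynomial.X : Fin n → Q))).map (Ideal.Quotient.mkₐ A (J s)) = ⊤ := by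
          rw [MvPolynomial.adjoin_range_X, Algebra.map_top, AlgHom.range_eq_top]
          exact Ideal.Quotient.mkₐ_surjective A (J s)
        rw [AlgHom.map_adjoin, ← Set.range_comp] at h1
        exact h1
      have hfg := fg_adjoin_of_finite (R := A) (Set.finite_range fun i : Fin n => (Ideal.Quotient.mkₐ A (J s)) (MvPolynomial.X i)) (by
        rintro _ ⟨i, rfl⟩
        refine ⟨p i, hpm i, ?_⟩
        rw [← Polynomial.aeval_def, Polynomial.aeval_algHom_apply]
        show Ideal.Quotient.mk (J s) (P i) = 0
        rw [Ideal.Quotient.eq_zero_iff_mem]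
        apply Ideal.subset_span
        refine ⟨⟨P i, hPK i⟩, ?_, rfl⟩
        apply s.2
        simp [s₀])
      rw [htop] at hfg
      exact ⟨by simpa using hfg⟩
    · exact Algebra.FinitePresentation.quotient
        ⟨(s.1.image fun x : K => (x : Q)), by simp [J]⟩

end Groth.Agent.S4885
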