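import Groth.Statements.S4888
import Mathlib
import Groth.Agent.Lib.Helper18.JacDim6

set_option autoImplicit false
universe u
open CategoryTheory AlgebraicGeometry
open EGA43

namespace Groth.Agent.S4888

/-- Let X be a locally Noetherian Jacobson scheme whose local rings are universally catenary and whose
irreducible components are equidimensional (for every irreducible component X' and closed point x of
X', dim X' equals the dimension of the space of generizations of x in X'); let Y be a closed subset
of X and x a point of Y. Then dim_x(Y) = dim(U ∩ Y) = dim cl{x} + codim(cl{x}, Y) = sup_i dim(Y_i);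
that is, the local dimension of Y at x equals the dimension of the closure of x plus the codimension
of that closure in Y (the Krull dimension of the space of generizations of x in Y), equals the
supremum of the dimensions of the irreducible components Y_i of Y through x, and equals dim(U ∩ Y)
for every open neighbourhood U of x meeting no irreducible component of Y that avoids x. (The
published statement assumes only the Jacobson and universally-catenary conditions; its proof applies
the dimension formula for dense opens to the irreducible components, which needs their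
equidimensionality, and for an irreducible Noetherian Jacobson scheme with universally catenary
local rings having two closed points with local rings of different dimensions n − 1 and n — such
schemes exist — the two sides differ at the first of these points; so equidimensionality of the
components is assumed here.) -/
theorem result (X : Scheme.{u}) [IsLocallyNoetherian X] [JacobsonSpace X]
    (h2 : ∀ x : X, CAlg.IsUniversallyCatenary (X.presheaf.stalk x))
    (h3 : ∀ X' ∈ irreducibleComponents (X : Type u), ∀ x ∈ X', IsClosed ({x} : Set X) →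
      topologicalKrullDim (↥X' : Type u) = topologicalKrullDim ↥{t : X | t ∈ X' ∧ t ⤳ x})
    (Y : Set X) (hY : IsClosed Y) (x : X) (hx : x ∈ Y) :
    FlatMor.localDim ↥Y ⟨x, hx⟩ =
        topologicalKrullDim ↥(closure ({x} : Set X)) + topologicalKrullDim ↥{t : X | t ∈ Y ∧ t ⤳ x} ∧
      FlatMor.localDim ↥Y ⟨x, hx⟩ =
        ⨆ C ∈ {C : Set ↥Y | C ∈ irreducibleComponents ↥Y ∧ (⟨x, hx⟩ : ↥Y) ∈ C}, topologicalKrullDim ↥C ∧
      ∀ U : Set X, IsOpen U → x ∈ U →
        (∀ C ∈ irreducibleComponents ↥Y, (⟨x, hx⟩ : ↥Y) ∉ C → Disjoint (Subtype.val ⁻¹' U) C) →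
        topologicalKrullDim ↥(U ∩ Y) = FlatMor.localDim ↥Y ⟨x, hx⟩ := by
  classical
  have hlf := Groth.Agent.Lib.Helper18.JacDim.locallyFinite_irreducibleComponents_closed (X := X) Y
  have hP := Groth.Agent.Lib.Helper18.JacDim.topologicalKrullDim_open_inter_component h2 h3 Y hY
  have hloc : FlatMor.localDim ↥Y ⟨x, hx⟩ =
      ⨆ C ∈ {C : Set ↥Y | C ∈ irreducibleComponents ↥Y ∧ (⟨x, hx⟩ : ↥Y) ∈ C},
        topologicalKrullDim ↥C :=
    Groth.Agent.Lib.Helper18.JacDim.localDim_eq_iSup hlf hP ⟨x, hx⟩
  refine ⟨?_, hloc, ?_⟩
  · rw [hloc, Groth.Agent.Lib.Helper18.JacDim.topologicalKrullDim_generizations_eq_iSup Y hY x hx]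
    set S : Set (Set ↥Y) := {C : Set ↥Y | C ∈ irreducibleComponents ↥Y ∧ (⟨x, hx⟩ : ↥Y) ∈ C} with hS
    set g : Set ↥Y → WithBot ℕ∞ := fun C =>
      topologicalKrullDim ↥{t : X | t ∈ Subtype.val '' C ∧ t ⤳ x} with hg
    apply le_antisymm
    · refine iSup₂_le fun C hC => ?_
      obtain ⟨h1, -⟩ := Groth.Agent.Lib.Helper18.JacDim.topologicalKrullDim_component_eq_add
        h2 h3 Y hY x hx C hC.1 hC.2
      rw [h1]
      exact add_le_add_right (le_iSup₂ (f := fun C (_ : C ∈ S) => g C) C hC) _
    · have hSfin : S.Finite := by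
        have hpf := hlf.point_finite (⟨x, hx⟩ : ↥Y)
        refine (hpf.image Subtype.val).subset ?_
        rintro C ⟨hC, hxC⟩
        exact ⟨⟨C, hC⟩, hxC, rfl⟩
      have hSne : S.Nonempty := by
        have ht : (⟨x, hx⟩ : ↥Y) ∈ ⋃₀ irreducibleComponents ↥Y := by
          rw [sUnion_irreducibleComponents]; trivial
        obtain ⟨Z, hZ, htZ⟩ := ht
        exact ⟨Z, hZ, htZ⟩
      obtain ⟨C₀, hC₀, hmax⟩ := Set.exists_max_image S g hSfin hSne
      have hle : (⨆ C ∈ S, g C) ≤ g C₀ := iSup₂_le fun C hC => hmax C hC
      obtain ⟨h1, -⟩ := Groth.Agent.Lib.Helper18.JacDim.topologicalKrullDim_component_eq_add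
        h2 h3 Y hY x hx C₀ hC₀.1 hC₀.2
      calc topologicalKrullDim ↥(closure ({x} : Set X)) + ⨆ C ∈ S, g C
          ≤ topologicalKrullDim ↥(closure ({x} : Set X)) + g C₀ := add_le_add_right hle _
        _ = topologicalKrullDim ↥C₀ := h1.symm
        _ ≤ _ := le_iSup₂ (f := fun C (_ : C ∈ S) => topologicalKrullDim ↥C) C₀ hC₀
  · intro U hU hxU hdis
    rw [hloc]
    have h1 := Groth.Agent.Lib.Helper18.JacDim.topologicalKrullDim_open_eq_iSup hlf hP ⟨x, hx⟩
      (Subtype.val ⁻¹' U) (hU.preimage continuous_subtype_val) hxU hdis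
    rw [← h1, ← Groth.Agent.Lib.Helper18.JacDim.topologicalKrullDim_image_eq
      (Topology.IsEmbedding.subtypeVal (p := fun t => t ∈ Y)) (Subtype.val ⁻¹' U),
      Subtype.image_preimage_coe, Set.inter_comm]

end Groth.Agent.S4888
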