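import Groth.Statements.S4891
import Groth.Agent.Lib.Helper9.FlatCrit

set_option autoImplicit false
universe u
open TensorProduct
open EGA43

namespace Groth.Agent.S4891

open Groth.Agent.Lib.Helper9


/-- Let A be a commutative ring, J a nilpotent ideal of A, B a commutative A-algebra and M a B-module.
If M is flat over A, M/JM is flat over B/JB, B/JB is flat over A/J and mM ≠ M for every maximal
ideal m of B containing JB, then B is flat over A. (Under the first two hypotheses M is also flat
over B; that implication is stated elsewhere and not repeated here.) -/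
theorem result {A B : Type u} [CommRing A] [CommRing B] [Algebra A B]
    (J : Ideal A) (hJ : IsNilpotent J) (M : Type u) [AddCommGroup M] [Module B M] [Module A M] [IsScalarTower A B M]
    (hc1 : Module.Flat A M)
    (hc2 : Module.Flat (B ⧸ J.map (algebraMap A B)) ((B ⧸ J.map (algebraMap A B)) ⊗[B] M))
    (hd1 : Module.Flat (A ⧸ J) ((A ⧸ J) ⊗[A] B))
    (hd2 : ∀ m : Ideal B, m.IsMaximal → J.map (algebraMap A B) ≤ m → (m • (⊤ : Submodule B M)) ≠ ⊤) :
    Module.Flat A B := by
  have hI : Function.Injective (J.subtype.rTensor M) :=
    Module.Flat.rTensor_preserves_injective_linearMap _ J.injective_subtype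
  have hIB := rTensor_map_subtype_injective (S := B) (M := M) J hI
  have hnil : IsNilpotent (J.map (algebraMap A B)) := by
    obtain ⟨n, hn⟩ := hJ
    refine ⟨n, ?_⟩
    rw [← Ideal.map_pow, hn]
    exact Ideal.map_bot
  have hflatB : Module.Flat B M := flat_of_isNilpotent_of_rTensor_injective _ hnil hIB
  have hff : Module.FaithfullyFlat B M := by
    refine ⟨fun m hm => hd2 m hm ?_⟩
    obtain ⟨n, hn⟩ := hnil
    have : (J.map (algebraMap A B)) ^ n ≤ m := by rw [hn]; exact bot_le
    exact hm.isPrime.le_of_pow_le this
  exact flat_of_faithfullyFlat_of_flat (R := A) (S := B) (M := M)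

end Groth.Agent.S4891
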