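import Groth.Statements.S4895
import Mathlib
import Groth.Agent.Lib.Helper18.RectDepth5

set_option autoImplicit false
universe u
open CategoryTheory AlgebraicGeometry
open EGA43

namespace Groth.Agent.S4895

/-- Let S be a locally Noetherian scheme which is Jacobson and regular and whose irreducible components
are equidimensional (for every irreducible component S' and every closed point s of S', dim S'
equals the dimension of the space of generizations of s in S'); let g : X ⟶ S be locally of finite
type and F a coherent O_X-module. Then the rectified depth prof*_x(F) = prof(F_x) + dim cl{x} is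
lower semicontinuous on X: for every integer n, the set of points x of X with prof(F_x) + dim cl{x}
≥ n is open. -/
theorem result {X S : Scheme.{u}} [IsLocallyNoetherian S] [JacobsonSpace S]
    (hreg : ∀ s : S, IsRegularLocalRing ↑(S.presheaf.stalk s))
    (h3 : ∀ S' ∈ irreducibleComponents (S : Type u), ∀ s ∈ S', IsClosed ({s} : Set S) →
      topologicalKrullDim (↥S' : Type u) = topologicalKrullDim ↥{t : S | t ∈ S' ∧ t ⤳ s})
    (g : X ⟶ S) [LocallyOfFiniteType g] (F : X.Modules) (hF : Coh.IsCoh F) (n : ℕ) :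
    IsOpen {x : X | (n : WithBot ℕ∞) ≤
      ((LocCoh.depth ↑(X.presheaf.stalk x) ↑(F.presheaf.stalk x) : ℕ∞) : WithBot ℕ∞) +
        topologicalKrullDim ↥(closure ({x} : Set X))} := by
  obtain ⟨hqc, hft⟩ := hF
  haveI : F.IsQuasicoherent := hqc
  haveI : F.IsFiniteType := hft
  rw [isOpen_iff_forall_mem_open]
  intro x₀ hx₀
  by_cases hxs : x₀ ∈ CohB1.support F
  · obtain ⟨W, D, e, hWo, hx₀W, hnum, husc⟩ :=
      Groth.Agent.Lib.Helper18.RectDepth.exists_chart_data hreg h3 F g x₀
    obtain ⟨c₀, k₀, hc₀, hk₀, hsum₀⟩ := hnum x₀ hx₀W hxs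
    obtain ⟨W', hW'o, hx₀W', hle⟩ := husc x₀ hx₀W hxs
    have hn₀ : n ≤ c₀ + k₀ := by
      have h := hx₀
      rw [Set.mem_setOf_eq, hc₀, hk₀] at h
      exact_mod_cast h
    refine ⟨W ∩ W', ?_, hWo.inter hW'o, ⟨hx₀W, hx₀W'⟩⟩
    intro x hx
    by_cases hxF : x ∈ CohB1.support F
    · obtain ⟨c, k, hc, hk, hsum⟩ := hnum x hx.1 hxF
      have h1 := hle x hx.2 hx.1 hxF
      rw [Set.mem_setOf_eq, hc, hk]
      have : n ≤ c + k := by omega
      exact_mod_cast this
    · have := Groth.Agent.Lib.Helper18.RectDepth.mem_of_notMem_support' F (n : ℕ∞) x hxF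
      exact_mod_cast this
  · refine ⟨(CohB1.support F)ᶜ, ?_,
      (Groth.Agent.Lib.Helper29.QCoh.isClosed_support_of_isFiniteType F).isOpen_compl, hxs⟩
    intro x hx
    have := Groth.Agent.Lib.Helper18.RectDepth.mem_of_notMem_support' F (n : ℕ∞) x hx
    exact_mod_cast this

end Groth.Agent.S4895
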