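import Groth.Statements.S4896
import Mathlib
import Groth.Agent.Lib.Helper18.RectDepth5

set_option autoImplicit false
universe u
open CategoryTheory AlgebraicGeometry
open EGA43

namespace Groth.Agent.S4896

/-- Let S be locally Noetherian, Jacobson and regular with equidimensional irreducible components, g : X
⟶ S locally of finite type and F a coherent O_X-module. For every point x of X the rectified depth
prof*_x(F) = prof(F_x) + dim cl{x} is the unique n (a natural number or ∞) such that, for some open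
neighbourhood U of x, prof(F_{x'}) = n for every point x' of U ∩ cl{x} which is closed in U. -/
theorem result {X S : Scheme.{u}} [IsLocallyNoetherian S] [JacobsonSpace S]
    (hreg : ∀ s : S, IsRegularLocalRing ↑(S.presheaf.stalk s))
    (h3 : ∀ S' ∈ irreducibleComponents (S : Type u), ∀ s ∈ S', IsClosed ({s} : Set S) →
      topologicalKrullDim (↥S' : Type u) = topologicalKrullDim ↥{t : S | t ∈ S' ∧ t ⤳ s})
    (g : X ⟶ S) [LocallyOfFiniteType g] (F : X.Modules) (hF : Coh.IsCoh F) (x : X) :
    letI pstar : WithBot ℕ∞ :=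
      ((LocCoh.depth ↑(X.presheaf.stalk x) ↑(F.presheaf.stalk x) : ℕ∞) : WithBot ℕ∞) +
        topologicalKrullDim ↥(closure ({x} : Set X))
    ∀ n : ℕ∞,
      (∃ U : X.Opens, x ∈ U ∧ ∀ x' : ↥U, (x' : X) ∈ closure ({x} : Set X) → IsClosed ({x'} : Set ↥U) →
        LocCoh.depth ↑(X.presheaf.stalk (x' : X)) ↑(F.presheaf.stalk (x' : X)) = n) ↔
      ((n : WithBot ℕ∞) = pstar) := by
  classical
  obtain ⟨hqc, hft⟩ := hF
  haveI : F.IsQuasicoherent := hqc
  haveI : F.IsFiniteType := hft
  haveI : IsLocallyNoetherian X := LocallyOfFiniteType.isLocallyNoetherian g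
  haveI : JacobsonSpace X := LocallyOfFiniteType.jacobsonSpace g
  have hsuppcl : IsClosed (CohB1.support F) :=
    Groth.Agent.Lib.Helper29.QCoh.isClosed_support_of_isFiniteType F
  -- (B) points closed in an open subset are closed
  have hB : ∀ (U : X.Opens) (x' : ↥U), IsClosed ({x'} : Set ↥U) → IsClosed ({(x' : X)} : Set X) := by
    intro U x' hcl
    have h1 := Topology.IsInducing.subtypeVal.closure_eq_preimage_closure_image ({x'} : Set ↥U)
    rw [Set.image_singleton] at h1
    have h2 : ({(x' : X)} : Set X) = (U : Set X) ∩ closure ({(x' : X)} : Set X) := by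
      ext t
      constructor
      · intro ht
        rw [Set.mem_singleton_iff] at ht
        rw [ht]
        exact ⟨x'.2, subset_closure rfl⟩
      · rintro ⟨htU, htcl⟩
        have : (⟨t, htU⟩ : ↥U) ∈ closure ({x'} : Set ↥U) := by
          rw [h1]; exact htcl
        rw [hcl.closure_eq, Set.mem_singleton_iff] at this
        rw [Set.mem_singleton_iff, ← this]
    have hlc : IsLocallyClosed ({(x' : X)} : Set X) := by
      rw [h2]
      exact U.2.isLocallyClosed.inter isClosed_closure.isLocallyClosed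
    obtain ⟨t, ht, htcl⟩ := nonempty_inter_closedPoints (Z := ({(x' : X)} : Set X))
      ⟨_, rfl⟩ hlc
    rw [Set.mem_singleton_iff] at ht
    rw [← ht]
    exact htcl
  -- (A) the key neighbourhood
  have hA : ∃ U₀ : Set X, IsOpen U₀ ∧ x ∈ U₀ ∧ ∀ x' ∈ U₀, x' ∈ closure ({x} : Set X) →
      IsClosed ({x'} : Set X) →
      ((LocCoh.depth ↑(X.presheaf.stalk x') ↑(F.presheaf.stalk x') : ℕ∞) : WithBot ℕ∞) =
        ((LocCoh.depth ↑(X.presheaf.stalk x) ↑(F.presheaf.stalk x) : ℕ∞) : WithBot ℕ∞) +
          topologicalKrullDim ↥(closure ({x} : Set X)) := by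
    by_cases hxs : x ∈ CohB1.support F
    · obtain ⟨W, D, e, hWo, hxW, hnum, husc⟩ :=
        Groth.Agent.Lib.Helper18.RectDepth.exists_chart_data hreg h3 F g x
      obtain ⟨c, k, hc, hk, hsum⟩ := hnum x hxW hxs
      obtain ⟨W', hW'o, hxW', hle⟩ := husc x hxW hxs
      refine ⟨W ∩ W', hWo.inter hW'o, ⟨hxW, hxW'⟩, ?_⟩
      intro x' hx' hx'cl hx'closed
      have hxx' : x ⤳ x' := specializes_iff_mem_closure.2 hx'cl
      have hx'F : x' ∈ CohB1.support F := hxx'.mem_closed hsuppcl hxs
      obtain ⟨c', k', hc', hk', hsum'⟩ := hnum x' hx'.1 hx'F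
      have h1 := hle x' hx'.2 hx'.1 hx'F
      obtain ⟨W'', hW''o, hx'W'', hle'⟩ := husc x' hx'.1 hx'F
      have hxW'' : x ∈ W'' := hxx'.mem_open hW''o hx'W''
      have h2 := hle' x hxW'' hxW hxs
      have hk'0 : k' = 0 := by
        rw [hx'closed.closure_eq] at hk'
        haveI : Subsingleton ↥({x'} : Set X) := (Set.subsingleton_singleton).coe_sort
        haveI : Nonempty ↥({x'} : Set X) := ⟨⟨x', rfl⟩⟩
        have h0 : topologicalKrullDim ↥({x'} : Set X) = 0 :=
          le_antisymm (topologicalKrullDim_zero_of_discreteTopology _)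
            Groth.Agent.Lib.Helper18.TopDim.zero_le_topologicalKrullDim
        rw [h0] at hk'
        exact_mod_cast hk'.symm
      rw [hc', hc, hk]
      have : c' = c + k := by omega
      rw [this]
      push_cast
      rfl
    · refine ⟨(CohB1.support F)ᶜ, hsuppcl.isOpen_compl, hxs, ?_⟩
      intro x' hx' _ _
      rw [Groth.Agent.Lib.Helper18.RectDepth.depth_eq_top_of_notMem_support F x' hx',
        Groth.Agent.Lib.Helper18.RectDepth.depth_eq_top_of_notMem_support F x hxs]
      haveI : Nonempty ↥(closure ({x} : Set X)) := ⟨⟨x, subset_closure rfl⟩⟩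
      rw [Groth.Agent.Lib.Helper18.RectDepth.top_add_of_zero_le
        Groth.Agent.Lib.Helper18.TopDim.zero_le_topologicalKrullDim]
  obtain ⟨U₀, hU₀o, hxU₀, hU₀⟩ := hA
  intro n
  constructor
  · rintro ⟨U, hxU, hU⟩
    obtain ⟨t, ⟨⟨htU, htU₀⟩, htcl⟩, htclosed⟩ := nonempty_inter_closedPoints
      (Z := ((U : Set X) ∩ U₀) ∩ closure ({x} : Set X)) ⟨x, ⟨hxU, hxU₀⟩, subset_closure rfl⟩
      ((U.2.inter hU₀o).isLocallyClosed.inter isClosed_closure.isLocallyClosed)
    have htclosed' : IsClosed ({t} : Set X) := htclosed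
    have h1 := hU ⟨t, htU⟩ htcl (by
      have : ({(⟨t, htU⟩ : ↥U)} : Set ↥U) = Subtype.val ⁻¹' ({t} : Set X) := by
        ext y
        simp only [Set.mem_singleton_iff, Set.mem_preimage]
        exact ⟨fun h => by rw [h], fun h => Subtype.ext h⟩
      rw [this]
      exact htclosed'.preimage continuous_subtype_val)
    have h2 := hU₀ t htU₀ htcl htclosed'
    rw [← h2, h1]
  · intro hn
    refine ⟨⟨U₀, hU₀o⟩, hxU₀, ?_⟩
    intro x' hx'cl hx'closed
    have h1 := hB ⟨U₀, hU₀o⟩ x' hx'closed
    have h2 := hU₀ x' x'.2 hx'cl h1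
    rw [← hn] at h2
    exact WithBot.coe_injective h2

end Groth.Agent.S4896
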