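import Groth.Statements.S4898
import Mathlib
import Groth.Agent.Lib.Helper18.GFl7

set_option autoImplicit false
universe u
open CategoryTheory AlgebraicGeometry
open EGA43

namespace Groth.Agent.S4898

open CategoryTheory.Limits in
/-- Over an affine irreducible base, tested on affine base changes, to which the general statement
reduces: let A be a commutative ring whose spectrum is irreducible, f : X ⟶ Spec A a morphism of
finite presentation and F a quasi-coherent O_X-module of finite presentation. Then there are an
element h of A which is not nilpotent (so that U = Spec A_h is a nonempty open subset of Spec A) and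
a finitely generated ideal J of A_h contained in the nilradical (so that the closed subscheme Z =
V(J) of U, of finite presentation over U, has the same underlying space as U) such that for every
A_h-algebra A' the pullback of F to X ×_{Spec A} Spec A' is flat over Spec A' if and only if J
generates the zero ideal of A', i.e. if and only if Spec A' ⟶ U factors through Z. (The published
statement also asserts that, for a finite affine open cover (W_i) of X, U can be chosen so that the
sections of the pullback of F over each W_i ×_{Spec A} Spec A' form a free A'-module whenever Spec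
A' ⟶ U factors through Z; this row omits that assertion.) -/
theorem result {A : Type u} [CommRing A] [IrreducibleSpace (PrimeSpectrum A)]
    {X : Scheme.{u}} (f : X ⟶ Spec (CommRingCat.of A))
    [LocallyOfFinitePresentation f] [QuasiCompact f] [QuasiSeparated f]
    (F : X.Modules) [Coh.IsQCoh F] (hF : CohB1.IsFP F) :
    ∃ (h : A) (_ : ¬ IsNilpotent h) (J : Ideal (Localization.Away h)) (_ : J.FG)
      (_ : J ≤ nilradical (Localization.Away h)),
      ∀ (A' : Type u) [CommRing A'] [Algebra (Localization.Away h) A'],
        letI g : Spec (CommRingCat.of A') ⟶ Spec (CommRingCat.of A) :=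
          Spec.map (CommRingCat.ofHom ((algebraMap (Localization.Away h) A').comp (algebraMap A (Localization.Away h))))
        (FlatMod.IsFlatOver (pullback.snd f g) ((Scheme.Modules.pullback (pullback.fst f g)).obj F) ↔
          Ideal.map (algebraMap (Localization.Away h) A') J = ⊥) := by
  classical
  haveI : F.IsQuasicoherent := ‹Coh.IsQCoh F›
  haveI : F.IsFinitePresentation := hF
  have hprime : (nilradical A).IsPrime :=
    PrimeSpectrum.irreducibleSpace_iff_isPrime_nilradical.mp inferInstance
  haveI : CompactSpace X := QuasiCompact.compactSpace_of_compactSpace f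
  obtain ⟨s, hsfin, hs⟩ :=
    (isCompact_and_isOpen_iff_finite_and_eq_biUnion_affineOpens (X := X) (U := Set.univ)).mp
      ⟨isCompact_univ, isOpen_univ⟩
  have hSL : ∀ W : X.affineOpens, ∃ (h : A) (J : Ideal A), ¬ IsNilpotent h ∧ J.FG ∧
      J ≤ nilradical A ∧
      ∀ (A' : Type u) [CommRing A'] (ψ : A →+* A'), IsUnit (ψ h) →
        ((∀ y ∈ (pullback.fst f (Spec.map (CommRingCat.ofHom ψ))) ⁻¹ᵁ W.1,
            FlatMod.IsFlatOverAt (pullback.snd f (Spec.map (CommRingCat.ofHom ψ)))
              ((Scheme.Modules.pullback
                (pullback.fst f (Spec.map (CommRingCat.ofHom ψ)))).obj F) y) ↔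
          J.map ψ = ⊥) := fun W =>
    Groth.Agent.Lib.Helper18.GFl.exists_flattening_ideal_affineOpen hprime f F W.2
  choose hh JJ hnil hfg hle hiff using hSL
  let t : Finset X.affineOpens := hsfin.toFinset
  have hcov : ∀ x : X, ∃ W ∈ t, x ∈ W.1 := by
    intro x
    have hx : x ∈ (Set.univ : Set X) := Set.mem_univ x
    rw [hs] at hx
    simp only [Set.mem_iUnion] at hx
    obtain ⟨W, hW, hxW⟩ := hx
    exact ⟨W, hsfin.mem_toFinset.mpr hW, hxW⟩
  let h : A := ∏ W ∈ t, hh W
  let J0 : Ideal A := ⨆ W ∈ t, JJ W
  have hhn : ¬ IsNilpotent h := by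
    intro hn
    have : h ∈ nilradical A := mem_nilradical.mpr hn
    obtain ⟨W, _, hW⟩ := (hprime.prod_mem_iff).mp this
    exact hnil W (mem_nilradical.mp hW)
  have hJ0fg : J0.FG := Submodule.fg_biSup t JJ (fun W _ => hfg W)
  have hJ0le : J0 ≤ nilradical A := iSup₂_le (fun W _ => hle W)
  refine ⟨h, hhn, J0.map (algebraMap A (Localization.Away h)), hJ0fg.map _, ?_, ?_⟩
  · rw [Ideal.map_le_iff_le_comap]
    intro x hx
    rw [Ideal.mem_comap, mem_nilradical]
    exact (mem_nilradical.mp (hJ0le hx)).map _
  · intro A' _ _
    set ψ : A →+* A' :=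
      (algebraMap (Localization.Away h) A').comp (algebraMap A (Localization.Away h)) with hψ
    have huh : IsUnit (ψ h) := by
      rw [hψ, RingHom.comp_apply]
      exact (IsLocalization.Away.algebraMap_isUnit h).map _
    have hu : ∀ W ∈ t, IsUnit (ψ (hh W)) := fun W hW =>
      isUnit_of_dvd_unit (map_dvd ψ (Finset.dvd_prod_of_mem hh hW)) huh
    rw [Ideal.map_map]
    change FlatMod.IsFlatOver (pullback.snd f (Spec.map (CommRingCat.ofHom ψ)))
      ((Scheme.Modules.pullback (pullback.fst f (Spec.map (CommRingCat.ofHom ψ)))).obj F) ↔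
      Ideal.map ψ J0 = ⊥
    have h1 : FlatMod.IsFlatOver (pullback.snd f (Spec.map (CommRingCat.ofHom ψ)))
        ((Scheme.Modules.pullback (pullback.fst f (Spec.map (CommRingCat.ofHom ψ)))).obj F) ↔
        ∀ W ∈ t, ∀ y ∈ (pullback.fst f (Spec.map (CommRingCat.ofHom ψ))) ⁻¹ᵁ W.1,
          FlatMod.IsFlatOverAt (pullback.snd f (Spec.map (CommRingCat.ofHom ψ)))
            ((Scheme.Modules.pullback
              (pullback.fst f (Spec.map (CommRingCat.ofHom ψ)))).obj F) y := by
      constructor
      · intro hfl W _ y _
        exact hfl y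
      · intro hfl y
        obtain ⟨W, hW, hyW⟩ := hcov ((pullback.fst f (Spec.map (CommRingCat.ofHom ψ))) y)
        exact hfl W hW y hyW
    rw [h1]
    have h2 : Ideal.map ψ J0 = ⊥ ↔ ∀ W ∈ t, (JJ W).map ψ = ⊥ := by
      simp only [J0, Ideal.map_iSup, iSup_eq_bot]
    rw [h2]
    exact forall₂_congr (fun W hW => hiff W A' ψ (hu W hW))

end Groth.Agent.S4898
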