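import Groth.Statements.S4903
import Mathlib
import Groth.Agent.Lib.Helper20.QuasiHomeoC

set_option autoImplicit false
universe u
open EGA43

namespace Groth.Agent.S4903


/-- Conditions a), b), b′), c″), c‴) and its last assertion: given a topological space X and a subset X₀
⊆ X, the statements below are equivalent. Every locally closed subset of X that is nonempty
intersects X₀. Every nonempty locally quasi-constructible subset of X intersects X₀; here a subset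
is locally quasi-constructible when each point of X has an open neighbourhood on which the subset's
trace can be written as a union of finitely many locally closed sets. Each locally
quasi-constructible Z ⊆ X is contained in the closure of Z ∩ X₀. Any two quasi-constructible subsets
of X (unions of finitely many locally closed sets) having equal traces on X₀ coincide. Any two
locally quasi-constructible subsets of X having equal traces on X₀ coincide. Assuming these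
conditions, each locally quasi-constructible subset of the subspace X₀ arises as the trace on X₀ of
some locally quasi-constructible subset of X. -/
theorem result {X : Type u} [TopologicalSpace X] (X₀ : Set X) :
    [∀ Z : Set X, IsLocallyClosed Z → Z.Nonempty → (Z ∩ X₀).Nonempty,
      ∀ Z : Set X, (∀ x : X, ∃ U : Set X, IsOpen U ∧ x ∈ U ∧ ∃ T : Set (Set X), T.Finite ∧ (∀ t ∈ T, IsLocallyClosed t) ∧ U ∩ Z = ⋃₀ T) → Z.Nonempty → (Z ∩ X₀).Nonempty,
      ∀ Z : Set X, (∀ x : X, ∃ U : Set X, IsOpen U ∧ x ∈ U ∧ ∃ T : Set (Set X), T.Finite ∧ (∀ t ∈ T, IsLocallyClosed t) ∧ U ∩ Z = ⋃₀ T) → Z ⊆ closure (Z ∩ X₀),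
      ∀ Z Z' : Set X, (∃ T : Set (Set X), T.Finite ∧ (∀ t ∈ T, IsLocallyClosed t) ∧ Z = ⋃₀ T) → (∃ T : Set (Set X), T.Finite ∧ (∀ t ∈ T, IsLocallyClosed t) ∧ Z' = ⋃₀ T) → Z ∩ X₀ = Z' ∩ X₀ → Z = Z',
      ∀ Z Z' : Set X, (∀ x : X, ∃ U : Set X, IsOpen U ∧ x ∈ U ∧ ∃ T : Set (Set X), T.Finite ∧ (∀ t ∈ T, IsLocallyClosed t) ∧ U ∩ Z = ⋃₀ T) → (∀ x : X, ∃ U : Set X, IsOpen U ∧ x ∈ U ∧ ∃ T : Set (Set X), T.Finite ∧ (∀ t ∈ T, IsLocallyClosed t) ∧ U ∩ Z' = ⋃₀ T) → Z ∩ X₀ = Z' ∩ X₀ → Z = Z'].TFAE ∧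
    ((∀ Z : Set X, IsLocallyClosed Z → Z.Nonempty → (Z ∩ X₀).Nonempty) →
      ∀ Z₀ : Set ↥X₀, (∀ x : ↥X₀, ∃ U : Set ↥X₀, IsOpen U ∧ x ∈ U ∧ ∃ T : Set (Set ↥X₀), T.Finite ∧ (∀ t ∈ T, IsLocallyClosed t) ∧ U ∩ Z₀ = ⋃₀ T) →
        ∃ Z : Set X, (∀ x : X, ∃ U : Set X, IsOpen U ∧ x ∈ U ∧ ∃ T : Set (Set X), T.Finite ∧ (∀ t ∈ T, IsLocallyClosed t) ∧ U ∩ Z = ⋃₀ T) ∧ Subtype.val ⁻¹' Z = Z₀) := by
  have lq : ∀ Z : Set X, (∀ x : X, ∃ U : Set X, IsOpen U ∧ x ∈ U ∧ ∃ T : Set (Set X), T.Finite ∧ (∀ t ∈ T, IsLocallyClosed t) ∧ U ∩ Z = ⋃₀ T) → Groth.Agent.Lib.Helper22.LQC Z := fun Z h => h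
  refine ⟨?_, ?_⟩
  · tfae_have 1 → 2 := by
      intro ha Z hZ hne
      obtain ⟨y, hy⟩ := hne
      obtain ⟨t, ht, hyt, hts⟩ := (Groth.Agent.Lib.Helper20.QuasiHomeoC.lcP_of_lqc (lq Z hZ)).1 y hy
      obtain ⟨z, hz, hz0⟩ := ha t ht ⟨y, hyt⟩
      exact ⟨z, hts hz, hz0⟩
    tfae_have 2 → 3 := by
      intro hb Z hZ y hy
      rw [mem_closure_iff]
      intro V hV hyV
      have hlq : Groth.Agent.Lib.Helper22.LQC (Z ∩ V) :=
        Groth.Agent.Lib.Helper22.LQC.inter_isLocallyClosed (lq Z hZ) hV.isLocallyClosed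
      obtain ⟨z, ⟨hzZ, hzV⟩, hz0⟩ := hb (Z ∩ V) hlq ⟨y, hy, hyV⟩
      exact ⟨z, hzV, hzZ, hz0⟩
    tfae_have 3 → 1 := by
      intro hb Z hZ hne
      by_contra hemp
      rw [Set.not_nonempty_iff_eq_empty] at hemp
      have := hb Z (Groth.Agent.Lib.Helper22.LQC.of_isLocallyClosed hZ)
      rw [hemp, closure_empty] at this
      obtain ⟨y, hy⟩ := hne
      exact this hy
    tfae_have 1 → 5 := by
      intro ha Z Z' hZ hZ' he
      exact Groth.Agent.Lib.Helper20.QuasiHomeoC.eq_of_lcP_of_dense ha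
        (Groth.Agent.Lib.Helper20.QuasiHomeoC.lcP_of_lqc (lq Z hZ))
        (Groth.Agent.Lib.Helper20.QuasiHomeoC.lcP_of_lqc (lq Z' hZ')) he
    tfae_have 5 → 4 := by
      intro hc Z Z' hZ hZ' he
      refine hc Z Z' ?_ ?_ he
      · intro x
        obtain ⟨T, hTf, hT, hTe⟩ := hZ
        exact ⟨Set.univ, isOpen_univ, trivial, T, hTf, hT, by rw [Set.univ_inter]; exact hTe⟩
      · intro x
        obtain ⟨T, hTf, hT, hTe⟩ := hZ'
        exact ⟨Set.univ, isOpen_univ, trivial, T, hTf, hT, by rw [Set.univ_inter]; exact hTe⟩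
    tfae_have 4 → 1 := by
      intro hc Z hZ hne
      by_contra hemp
      rw [Set.not_nonempty_iff_eq_empty] at hemp
      have : Z = ∅ := hc Z ∅ ⟨{Z}, Set.finite_singleton _, by rintro t rfl; exact hZ, by simp⟩
        ⟨∅, Set.finite_empty, by simp, by simp⟩ (by rw [hemp, Set.empty_inter])
      rw [this] at hne
      exact Set.not_nonempty_empty hne
    tfae_finish
  · intro ha Z₀ hZ₀
    obtain ⟨Z, hZ, hZe⟩ := Groth.Agent.Lib.Helper20.QuasiHomeoC.exists_lqc_lift ha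
      (Z₀ := Z₀) hZ₀
    exact ⟨Z, hZ, hZe⟩

end Groth.Agent.S4903
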