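import Groth.Statements.S4914
-- (no extra imports)

set_option autoImplicit false
open CategoryTheory AlgebraicGeometry
universe u v w
open EGA43

namespace Groth.Agent.S4914


/-- Let ψ : X → Y be a continuous map, x a point of X, and (Y_i) a locally finite covering of Y by
closed subsets. If for every index i with ψ x ∈ Y_i the restriction ψ⁻¹(Y_i) → Y_i of ψ is open at
x, then ψ is open at x. -/
theorem result {α : Type u} {β : Type v} {ι : Type w} [TopologicalSpace α]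
    [TopologicalSpace β] (ψ : α → β) (hψ : Continuous ψ) (x : α) (Y : ι → Set β) (hY : LocallyFinite Y)
    (hcl : ∀ i, IsClosed (Y i)) (hcov : ⋃ i, Y i = Set.univ)
    (h : ∀ i, ∀ hi : ψ x ∈ Y i, EGA43.IsOpenAt ((Y i).restrictPreimage ψ) ⟨x, hi⟩) :
    EGA43.IsOpenAt ψ x := by
  intro U hU
  set y := ψ x with hy
  have hW : (⋂ (i) (_ : y ∉ Y i), (Y i)ᶜ) ∈ nhds y := hY.iInter_compl_mem_nhds hcl y
  have hfin : {i | y ∈ Y i}.Finite := hY.point_finite y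
  have hS : ∀ i ∈ {i | y ∈ Y i}, ((Y i)ᶜ ∪ ψ '' U) ∈ nhds y := by
    intro i hi
    have hi' : ψ x ∈ Y i := hi
    have hU' : (Subtype.val ⁻¹' U : Set ↥(ψ ⁻¹' Y i)) ∈ nhds (⟨x, hi'⟩ : ↥(ψ ⁻¹' Y i)) :=
      continuous_subtype_val.continuousAt hU
    have h1 := h i hi' _ hU'
    rw [mem_nhds_subtype] at h1
    obtain ⟨V, hV, hVsub⟩ := h1
    refine Filter.mem_of_superset hV ?_
    intro y' hy'V
    by_cases hy'Y : y' ∈ Y i
    · right
      obtain ⟨⟨x₁, hx₁Y⟩, hx₁U, hx₁⟩ := hVsub (show (⟨y', hy'Y⟩ : ↥(Y i)) ∈ Subtype.val ⁻¹' V from hy'V)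
      exact ⟨x₁, hx₁U, congrArg Subtype.val hx₁⟩
    · left; exact hy'Y
  have hV : ((⋂ (i) (_ : y ∉ Y i), (Y i)ᶜ) ∩ ⋂ i ∈ {i | y ∈ Y i}, ((Y i)ᶜ ∪ ψ '' U)) ∈ nhds y :=
    Filter.inter_mem hW ((Filter.biInter_mem hfin).mpr hS)
  refine Filter.mem_of_superset hV ?_
  rintro y' ⟨hy'1, hy'2⟩
  have : y' ∈ ⋃ i, Y i := by rw [hcov]; trivial
  obtain ⟨i, hi⟩ := Set.mem_iUnion.mp this
  by_cases hyi : y ∈ Y i
  · have := Set.mem_iInter₂.mp hy'2 i hyi
    rcases this with h1 | h1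
    · exact absurd hi h1
    · exact h1
  · have := Set.mem_iInter₂.mp hy'1 i hyi
    exact absurd hi this

end Groth.Agent.S4914
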