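import Groth.Statements.S4925
import Groth.Agent.Lib.Helper14.UnivOpenAt

set_option autoImplicit false
open CategoryTheory AlgebraicGeometry
universe u v w
open EGA43

namespace Groth.Agent.S4925

open Groth.Agent.Lib.Helper14.UOA CategoryTheory.Limits

/-- Let f : X ⟶ Y and g : Y ⟶ Z be morphisms of schemes and x a point of X. If f is universally open at
x and g is universally open at f x, then f ≫ g is universally open at x. -/
theorem result {X Y Z : Scheme.{u}} (f : X ⟶ Y) (g : Y ⟶ Z) (x : X)
    (hf : EGA43.IsUnivOpenAt f x) (hg : EGA43.IsUnivOpenAt g (f.base x)) :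
    EGA43.IsUnivOpenAt (f ≫ g) x := by
  refine isUnivOpenAt_of_forall fun Z' g' => ?_
  have sq1 := IsPullback.of_hasPullback f (pullback.fst g g')
  have sq2 := IsPullback.of_hasPullback g g'
  refine ⟨_, _, _, sq1.paste_vert sq2, fun x' hx' => ?_⟩
  rw [comp_base_eq]
  refine isOpenAt_comp _ _ _ (isOpenAt_snd_of_isUnivOpenAt hf sq1 x' hx')
    (isOpenAt_snd_of_isUnivOpenAt hg sq2 _ ?_)
  rw [← hx']
  exact (congrArg (fun k => k.base x') sq1.w).symm

end Groth.Agent.S4925
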