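import Groth.Statements.S4926
import Groth.Agent.Lib.Helper14.UnivOpenAt

set_option autoImplicit false
open CategoryTheory AlgebraicGeometry
universe u v w
open EGA43

namespace Groth.Agent.S4926

open Groth.Agent.Lib.Helper14.UOA CategoryTheory.Limits

/-- Let f : X ⟶ Y and g : Y ⟶ Z be morphisms of schemes and x a point of X. If f ≫ g is universally open
at x, then g is universally open at the point f x. -/
theorem result {X Y Z : Scheme.{u}} (f : X ⟶ Y) (g : Y ⟶ Z) (x : X)
    (h : EGA43.IsUnivOpenAt (f ≫ g) x) : EGA43.IsUnivOpenAt g (f.base x) := by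
  intro Z' g' y' hy'
  have sq1 := IsPullback.of_hasPullback f (pullback.fst g g')
  have sq2 := IsPullback.of_hasPullback g g'
  obtain ⟨x', hx'1, hx'2⟩ := Scheme.Pullback.exists_preimage_pullback x y' hy'.symm
  have := isOpenAt_snd_of_isUnivOpenAt h (sq1.paste_vert sq2) x' hx'1
  rw [comp_base_eq] at this
  have h2 := isOpenAt_of_comp _ _ _ (pullback.snd f (pullback.fst g g')).continuous.continuousAt this
  rw [show (pullback.snd f (pullback.fst g g')).base x' = y' from hx'2] at h2
  exact h2

end Groth.Agent.S4926
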