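import Groth.Statements.S4927
import Groth.Agent.Lib.Helper14.UnivOpenAt

set_option autoImplicit false
open CategoryTheory AlgebraicGeometry
universe u v w
open EGA43

namespace Groth.Agent.S4927

open Groth.Agent.Lib.Helper14.UOA CategoryTheory.Limits

open CategoryTheory.Limits in
/-- Let f : X ⟶ Y be a morphism of S-schemes (structure morphisms p and q) which is universally open at
the point x, and let g : S' ⟶ S be a morphism. Then the morphism X ×_S S' ⟶ Y ×_S S' induced by f is
universally open at every point of X ×_S S' lying over x. -/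
theorem result {X Y S S' : Scheme.{u}} (p : X ⟶ S) (q : Y ⟶ S) (f : X ⟶ Y)
    (g : S' ⟶ S) (e₁ : p ≫ 𝟙 S = f ≫ q) (e₂ : g ≫ 𝟙 S = 𝟙 S' ≫ g) (x : X) (h : EGA43.IsUnivOpenAt f x)
    (x' : ↥(pullback p g)) (hx' : (pullback.fst p g).base x' = x) :
    EGA43.IsUnivOpenAt (pullback.map p g q g f (𝟙 S') (𝟙 S) e₁ e₂) x' := by
  have hp : p = f ≫ q := by rw [← e₁, Category.comp_id]
  subst hp
  have big : IsPullback (pullback.map (f ≫ q) g q g f (𝟙 S') (𝟙 S) e₁ e₂ ≫ pullback.snd q g)
      (pullback.fst (f ≫ q) g) g (f ≫ q) := by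
    have := (IsPullback.of_hasPullback (f ≫ q) g).flip
    have e : pullback.map (f ≫ q) g q g f (𝟙 S') (𝟙 S) e₁ e₂ ≫ pullback.snd q g =
        pullback.snd (f ≫ q) g := by
      rw [pullback.lift_snd, Category.comp_id]
    rw [e]; exact this
  have sqL : IsPullback (pullback.fst (f ≫ q) g)
      (pullback.map (f ≫ q) g q g f (𝟙 S') (𝟙 S) e₁ e₂) f (pullback.fst q g) :=
    (IsPullback.of_right big (by rw [pullback.lift_fst]) (IsPullback.of_hasPullback q g).flip).flip
  intro T t x'' hx''
  have sqT := IsPullback.of_hasPullback (pullback.map (f ≫ q) g q g f (𝟙 S') (𝟙 S) e₁ e₂) t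
  refine isOpenAt_snd_of_isUnivOpenAt h (sqT.paste_horiz sqL) x'' ?_
  rw [comp_base_eq, Function.comp_apply, hx'', hx']

end Groth.Agent.S4927
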