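import Groth.Statements.S4929
import Groth.Agent.Lib.Helper14.UnivOpenAt

set_option autoImplicit false
open CategoryTheory AlgebraicGeometry
universe u v w
open EGA43

namespace Groth.Agent.S4929

open Groth.Agent.Lib.Helper14.UOA CategoryTheory.Limits

open CategoryTheory.Limits in
/-- Let f : X ⟶ Y be a morphism of schemes, x a point of X, and (Y_i ⟶ Y) a finite family of closed
immersions whose images cover Y. If for every i the base change X ×_Y Y_i ⟶ Y_i is universally open
at every point lying over x, then f is universally open at x. -/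
theorem result {X Y : Scheme.{u}} (f : X ⟶ Y) (x : X) {ι : Type w}
    [Finite ι] (T : ι → Scheme.{u}) (g : ∀ i, T i ⟶ Y) [∀ i, IsClosedImmersion (g i)]
    (hcov : ⋃ i, Set.range (g i).base = Set.univ)
    (h : ∀ i, ∀ x' : ↥(pullback f (g i)), (pullback.fst f (g i)).base x' = x →
      EGA43.IsUnivOpenAt (pullback.snd f (g i)) x') :
    EGA43.IsUnivOpenAt f x := by
  intro Y' g₀ x' hx'
  refine isOpenAt_of_finite_closed_cover _ x'
    (fun i => Set.range (pullback.fst g₀ (g i)).base) (fun i => ?_) ?_ ?_
  · exact (pullback.fst g₀ (g i)).isClosedEmbedding.isClosed_range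
  · rw [Set.eq_univ_iff_forall]
    intro y'
    have : g₀.base y' ∈ ⋃ i, Set.range (g i).base := hcov ▸ Set.mem_univ _
    obtain ⟨i, t, ht⟩ := Set.mem_iUnion.1 this
    obtain ⟨z, hz1, -⟩ := Scheme.Pullback.exists_preimage_pullback y' t ht.symm
    exact Set.mem_iUnion.2 ⟨i, z, hz1⟩
  · rintro i ⟨s, hs⟩ U hU
    set c := pullback.fst g₀ (g i) with hc
    set ψ := pullback.snd f g₀ with hψ
    set a := pullback.fst ψ c with ha
    set b := pullback.snd ψ c with hb
    -- the point of the double fibre product over x' and s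
    obtain ⟨t, ht1, ht2⟩ := Scheme.Pullback.exists_preimage_pullback (f := ψ) (g := c) x' s hs.symm
    -- the comparison with `X ×_Y T i`
    have sqA : IsPullback a b ψ c := IsPullback.of_hasPullback ψ c
    have sqB : IsPullback (pullback.fst f g₀) ψ f g₀ := IsPullback.of_hasPullback f g₀
    have big : IsPullback (a ≫ pullback.fst f g₀) b f (c ≫ g₀) := sqA.paste_horiz sqB
    have hcg : c ≫ g₀ = pullback.snd g₀ (g i) ≫ g i := pullback.condition
    rw [hcg] at big
    have sqR : IsPullback (pullback.fst f (g i)) (pullback.snd f (g i)) f (g i) :=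
      IsPullback.of_hasPullback f (g i)
    let l : pullback ψ c ⟶ pullback f (g i) :=
      pullback.lift (a ≫ pullback.fst f g₀) (b ≫ pullback.snd g₀ (g i)) (by rw [big.w, Category.assoc])
    have sqL : IsPullback l b (pullback.snd f (g i)) (pullback.snd g₀ (g i)) := by
      refine IsPullback.of_right (h₁₂ := pullback.fst f (g i)) (h₂₂ := g i) (v₁₃ := f) ?_ ?_ sqR
      · have e : l ≫ pullback.fst f (g i) = a ≫ pullback.fst f g₀ := pullback.lift_fst _ _ _
        rw [e]; exact big
      · exact pullback.lift_snd _ _ _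
    have hl : (pullback.fst f (g i)).base (l.base t) = x := by
      rw [← hx', ← ht1]
      have := congrArg (fun k => k.base t) (pullback.lift_fst (a ≫ pullback.fst f g₀)
        (b ≫ pullback.snd g₀ (g i)) (by rw [big.w, Category.assoc]))
      simpa [comp_base_eq] using this
    have hopen : IsOpenAt b.base t := isOpenAt_snd_of_isUnivOpenAt (h i _ hl) sqL t rfl
    have hUa : a.base ⁻¹' U ∈ nhds t := a.continuous.continuousAt (by rw [ht1]; exact hU)
    have hbU := hopen _ hUa
    rw [show b.base t = s from ht2, c.isClosedEmbedding.isEmbedding.nhds_eq_comap, Filter.mem_comap] at hbU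
    obtain ⟨V, hV, hVs⟩ := hbU
    rw [hs] at hV
    refine ⟨V, hV, ?_⟩
    rintro y ⟨hyV, s', rfl⟩
    obtain ⟨t', ht'U, rfl⟩ := hVs hyV
    refine ⟨a.base t', ht'U, ?_⟩
    exact congrArg (fun k => k.base t') sqA.w

end Groth.Agent.S4929
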