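import Groth.Statements.S4938
import Mathlib
import Groth.Agent.Lib.Helper6.PUO7
-- import your own Groth.Agent.* helpers here

set_option autoImplicit false
open CategoryTheory AlgebraicGeometry
universe u v w
open EGA43

namespace Groth.Agent.S4938

/-- Let Y be a locally Noetherian scheme, f : X ⟶ Y a morphism locally of finite type, and y a
geometrically unibranch point of Y, lying on the unique irreducible component Y₀ of Y with generic
point η. The following are equivalent: a) f is universally open at every point of X_y; b) every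
point x of X_y lies on an irreducible component Z of X dominating Y₀ with dim_x(Z ∩ X_y) = dim(Z ∩
X_η); b'') for every open subset U of X, dim(U ∩ X_η) ≥ dim(U ∩ X_y); c) f is open at every point of
X_y. (The published statement assumes Y locally Noetherian only for c) and also lists b′), the
pointwise form of b″) (for every x in X_y and every open U ∋ x, dim(U ∩ X_η) ≥ dim_x(U ∩ X_y)); over
the spectrum of an infinite product of copies of a field, the inclusion of a non-open closed point
satisfies b) and b″) but not a), so this row takes Y locally Noetherian throughout, and b′) is not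
listed.) -/
theorem result {X Y : Scheme.{u}} [IsLocallyNoetherian Y] (f : X ⟶ Y)
    [LocallyOfFiniteType f] (y : Y) (hy : CAlg2.IsGeomUnibranch (Y.presheaf.stalk y)) :
    List.TFAE [∀ x : X, f.base x = y → EGA43.IsUnivOpenAt f x,
      ∀ x : X, f.base x = y → ∀ Y₀ ∈ irreducibleComponents (Y : Type u), y ∈ Y₀ →
        ∃ Z ∈ irreducibleComponents (X : Type u), ∃ hx : x ∈ Z, closure (f.base '' Z) = Y₀ ∧
          ∀ η : Y, closure ({η} : Set Y) = Y₀ →
            FlatMor.localDim ↥(Z ∩ f.base ⁻¹' {f.base x}) ⟨x, ⟨hx, rfl⟩⟩ = topologicalKrullDim ↥(Z ∩ f.base ⁻¹' {η}),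
      ∀ U : X.Opens, ∀ Y₀ ∈ irreducibleComponents (Y : Type u), y ∈ Y₀ → ∀ η : Y, closure ({η} : Set Y) = Y₀ →
        topologicalKrullDim ↥((U : Set X) ∩ f.base ⁻¹' {y}) ≤ topologicalKrullDim ↥((U : Set X) ∩ f.base ⁻¹' {η}),
      ∀ x : X, f.base x = y → EGA43.IsOpenAt f.base x] := by
  have hnil := Groth.Agent.Lib.Helper6.PUO.nilradical_isPrime_of_isGeomUnibranch _ hy
  tfae_have 1 → 4 := fun h x hx =>
    Groth.Agent.Lib.Helper6.PUO.isOpenAt_of_isUnivOpenAt f x (h x hx)
  tfae_have 4 → 2 := by
    intro hop x hx Y₀ hY₀ hyY₀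
    subst hx
    obtain ⟨ξ, hξx, hξmax, hfξmax, N, hN, hFN⟩ :=
      Groth.Agent.Lib.Helper6.PUO.exists_maximal_of_isOpenAt f x (fun ζ _ hfζ => hop ζ hfζ)
    have hY' := Groth.Agent.Lib.Helper21.FibDim.closure_mem_irreducibleComponents_of_maximal
      (f.base ξ) hfξmax
    have hyY' : f.base x ∈ closure {f.base ξ} := (hξx.map f.continuous).mem_closure
    have hY₀eq := Groth.Agent.Lib.Helper6.PUO.eq_of_mem_irreducibleComponents (f.base x) hnil _ _
      hY' hY₀ hyY' hyY₀
    exact Groth.Agent.Lib.Helper6.PUO.exists_component_of_maximal f x ξ hξx hξmax hfξmax N hN hFN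
      Y₀ hY₀eq
  tfae_have 2 → 1 := by
    intro hb x hx
    subst hx
    have hY₀ : irreducibleComponent (f.base x) ∈ irreducibleComponents (Y : Type u) :=
      irreducibleComponent_mem_irreducibleComponents _
    obtain ⟨Z, hZ, hxZ, hcl, hdim⟩ := hb x rfl _ hY₀ mem_irreducibleComponent
    refine Groth.Agent.Lib.Helper6.PUO.isUnivOpenAt_of_component f x hy Z hZ.1
      (isClosed_of_mem_irreducibleComponents Z hZ) hxZ ?_ (fun η hη => hdim η (hη.trans hcl))
    rw [hcl]
    exact hY₀
  tfae_have 4 → 3 := by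
    intro hop U Y₀ hY₀ hyY₀ η hη
    have hηy : η ⤳ y := by
      rw [specializes_iff_mem_closure, hη]
      exact hyY₀
    have h1 := Groth.Agent.Lib.Helper21.OpenAt.topologicalKrullDim_fiber_le_of_specializes
      (U.ι ≫ f) y (fun u hu => by
        rw [Groth.Agent.Lib.Helper14.UOA.comp_base_eq]
        refine Groth.Agent.Lib.Helper6.UBO.isOpenAt_comp_of_isOpenEmbedding u
          U.ι.isOpenEmbedding (hop _ ?_)
        rw [← hu, Groth.Agent.Lib.Helper14.UOA.comp_base_eq]
        rfl) η hηy
    rw [Groth.Agent.Lib.Helper21.OpenAt.topologicalKrullDim_fiber_ι_comp f U,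
      Groth.Agent.Lib.Helper21.OpenAt.topologicalKrullDim_fiber_ι_comp f U] at h1
    exact h1
  tfae_have 3 → 2 := by
    intro hb'' x hx Y₀ hY₀ hyY₀
    subst hx
    obtain ⟨η, hη⟩ :=
      Groth.Agent.Lib.Helper21.FibDim.exists_isGenericPoint_of_mem_irreducibleComponents Y₀ hY₀
    have hηmax : ∀ t : Y, t ⤳ η → t = η := fun t ht =>
      Groth.Agent.Lib.Helper21.FibDim.eq_of_specializes_isGenericPoint Y₀ hY₀ η t hη ht
    obtain ⟨ξ, hξx, hξmax, hfξ, N, hN, hFN⟩ :=
      Groth.Agent.Lib.Helper6.PUO.exists_maximal_of_dim_le f x η hηmax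
        (fun U hxU => (Groth.Agent.Lib.Helper6.PUO.fibreDimAt_le_topologicalKrullDim_inter f U x
          hxU).trans (hb'' U Y₀ hY₀ hyY₀ η hη.def))
    refine Groth.Agent.Lib.Helper6.PUO.exists_component_of_maximal f x ξ hξx hξmax
      (by rw [hfξ]; exact hηmax) N hN hFN Y₀ ?_
    rw [hfξ]
    exact hη.def
  tfae_finish

end Groth.Agent.S4938
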