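import Groth.Statements.S4939
import Groth.Agent.Lib.Helper21.EquiGU1
import Groth.Agent.S4918
-- import your own Groth.Agent.* helpers here

set_option autoImplicit false
open CategoryTheory AlgebraicGeometry
universe u v w
open EGA43

namespace Groth.Agent.S4939

/-- Suppose Y is a locally Noetherian scheme and f : X ⟶ Y is locally of finite type; take a point x of
X whose image y = f x is geometrically unibranch on Y. Then these three conditions are equivalent:
a) f is equidimensional at x; b) O_{X,x} is an equidimensional local ring, and f is open at every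
generic point of an irreducible component of the fibre X_y that contains x; c) O_{X,x} is
equidimensional, and f is universally open at every such generic point of an irreducible component
of X_y passing through x. (Not formalized here is the additional claim that, when these hold,
restricting f to any reduced irreducible component of X through x gives a morphism equidimensional
at x and universally open at the points of the components of its fibre through x.) -/
theorem result {X Y : Scheme.{u}} [IsLocallyNoetherian Y] (f : X ⟶ Y)
    [LocallyOfFiniteType f] (x : X) (hy : CAlg2.IsGeomUnibranch (Y.presheaf.stalk (f.base x))) :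
    List.TFAE [EGA43.IsEquidimAt f x,
      EGA4.IsEquidim (X.presheaf.stalk x) ∧ (∀ z : ↥(f.fiber (f.base x)), f.asFiber x ∈ closure {z} →
        (∀ z' : ↥(f.fiber (f.base x)), z ∈ closure {z'} → z' = z) → EGA43.IsOpenAt f.base ((f.fiberι (f.base x)).base z)),
      EGA4.IsEquidim (X.presheaf.stalk x) ∧ (∀ z : ↥(f.fiber (f.base x)), f.asFiber x ∈ closure {z} →
        (∀ z' : ↥(f.fiber (f.base x)), z ∈ closure {z'} → z' = z) → EGA43.IsUnivOpenAt f ((f.fiberι (f.base x)).base z))] := by
  have hnil := Groth.Agent.Lib.Helper6.PUO.nilradical_isPrime_of_isGeomUnibranch _ hy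
  tfae_have 1 → 3 := by
    intro h
    refine ⟨Groth.Agent.Lib.Helper21.EquiGU.isEquidim_stalk_of_isEquidimAt_of_geomUnibranch
      f x h hy, ?_⟩
    intro z hz _
    have hzx : (f.fiberι (f.base x)).base z ⤳ x := by
      have h1 : z ⤳ f.asFiber x := specializes_iff_mem_closure.mpr hz
      have h2 := h1.map (f.fiberι (f.base x)).continuous
      have h3 : (f.fiberι (f.base x)) (f.asFiber x) = x :=
        AlgebraicGeometry.Scheme.Hom.fiberι_asFiber f x
      rw [h3] at h2
      exact h2
    have hfz : f.base ((f.fiberι (f.base x)).base z) = f.base x := by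
      have : (f.fiberι (f.base x)).base z ∈ Set.range (f.fiberι (f.base x)) := ⟨z, rfl⟩
      rw [AlgebraicGeometry.Scheme.Hom.range_fiberι] at this
      exact this
    have heq := Groth.Agent.Lib.Helper21.EquiGU.isEquidimAt_of_specializes f x _ h hzx hfz
    refine Groth.Agent.Lib.Helper21.EquiGU.isUnivOpenAt_of_isEquidimAt f _ heq ?_
    rw [hfz]
    exact hy
  tfae_have 3 → 2 := by
    rintro ⟨h1, h2⟩
    exact ⟨h1, fun z hz hmax =>
      Groth.Agent.Lib.Helper6.PUO.isOpenAt_of_isUnivOpenAt f _ (h2 z hz hmax)⟩
  tfae_have 2 → 1 := by
    rintro ⟨h1, h2⟩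
    exact Groth.Agent.S4918.result f x h1
      (Groth.Agent.Lib.Helper21.EquiGU.isEquidim_of_nilradical_isPrime _ hnil) h2
  tfae_finish

end Groth.Agent.S4939
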