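import Groth.Statements.S4942
import Groth.Agent.Lib.Helper14.UnivOpenAt

set_option autoImplicit false
open CategoryTheory AlgebraicGeometry
universe u v w
open EGA43

namespace Groth.Agent.S4942

open Groth.Agent.Lib.Helper14.UOA CategoryTheory.Limits

open CategoryTheory.Limits in
/-- Let v : Y₁ ⟶ Y be a universally closed surjective morphism of schemes, f : X ⟶ Y a morphism and x a
point of X. If the base change f₁ : X ×_Y Y₁ ⟶ Y₁ is universally open at every point of X ×_Y Y₁
lying over x, then f is universally open at x. -/
theorem result {X Y Y₁ : Scheme.{u}} (v : Y₁ ⟶ Y)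
    [UniversallyClosed v] [Surjective v] (f : X ⟶ Y) (x : X)
    (h : ∀ x₁ : ↥(pullback f v), (pullback.fst f v).base x₁ = x → EGA43.IsUnivOpenAt (pullback.snd f v) x₁) :
    EGA43.IsUnivOpenAt f x := by
  intro Y' g x' hx'
  set f' := pullback.snd f g with hf'
  set v' := pullback.fst g v with hv'
  set w := pullback.snd g v with hw
  have sqP := IsPullback.of_hasPullback f' v'
  refine isOpenAt_of_closed_surjective sqP v'.isClosedMap v'.surjective x' fun t ht => ?_
  have sqB : IsPullback (pullback.fst f g) f' f g := IsPullback.of_hasPullback f g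
  have big : IsPullback (pullback.fst f' v' ≫ pullback.fst f g) (pullback.snd f' v') f (v' ≫ g) :=
    sqP.paste_horiz sqB
  have hcg : v' ≫ g = w ≫ v := pullback.condition
  rw [hcg] at big
  have sqR : IsPullback (pullback.fst f v) (pullback.snd f v) f v := IsPullback.of_hasPullback f v
  let l : pullback f' v' ⟶ pullback f v :=
    pullback.lift (pullback.fst f' v' ≫ pullback.fst f g) (pullback.snd f' v' ≫ w)
      (by rw [big.w, Category.assoc])
  have sqL : IsPullback l (pullback.snd f' v') (pullback.snd f v) w := by
    refine IsPullback.of_right (h₁₂ := pullback.fst f v) (h₂₂ := v) (v₁₃ := f) ?_ ?_ sqR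
    · have e : l ≫ pullback.fst f v = pullback.fst f' v' ≫ pullback.fst f g := pullback.lift_fst _ _ _
      rw [e]; exact big
    · exact pullback.lift_snd _ _ _
  have hl : (pullback.fst f v).base (l.base t) = x := by
    rw [← hx', ← ht]
    have := congrArg (fun k => k.base t) (pullback.lift_fst (pullback.fst f' v' ≫ pullback.fst f g)
      (pullback.snd f' v' ≫ w) (by rw [big.w, Category.assoc]))
    simpa [comp_base_eq] using this
  exact isOpenAt_snd_of_isUnivOpenAt (h _ hl) sqL t rfl

end Groth.Agent.S4942
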