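import Groth.Statements.S4945
import Mathlib
import Groth.Agent.Lib.Helper6.PUO9
-- import your own Groth.Agent.* helpers here

set_option autoImplicit false
open CategoryTheory AlgebraicGeometry
universe u v w
open EGA43

namespace Groth.Agent.S4945

/-- Let Y be an irreducible locally Noetherian scheme with generic point η, f : X ⟶ Y a morphism locally
of finite type and y a geometrically unibranch point of Y. The following are equivalent: a) f is
universally open at every point of X_y; b) f is open at every point of X_y; c) for every maximal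
point z of X_y there is an irreducible component Z of X containing z and dominating Y with dim_z(Z ∩
X_y) = dim(Z ∩ X_η); d) for every point x closed in X_y there are an irreducible reduced scheme T
and an immersion T ⟶ X with image containing x such that T ⟶ Y is quasi-finite and dominant. -/
theorem result {X Y : Scheme.{u}} [IrreducibleSpace Y]
    [IsLocallyNoetherian Y] (f : X ⟶ Y) [LocallyOfFiniteType f] (y : Y) (hy : CAlg2.IsGeomUnibranch (Y.presheaf.stalk y)) :
    List.TFAE [∀ x : X, f.base x = y → EGA43.IsUnivOpenAt f x,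
      ∀ x : X, f.base x = y → EGA43.IsOpenAt f.base x,
      ∀ z : X, ∀ hzy : f.base z = y, (∀ z' : X, f.base z' = y → z ∈ closure {z'} → z' = z) →
        ∃ Z ∈ irreducibleComponents (X : Type u), ∃ hz : z ∈ Z, Dense (f.base '' Z) ∧
          FlatMor.localDim ↥(Z ∩ f.base ⁻¹' {y}) ⟨z, ⟨hz, hzy⟩⟩ = topologicalKrullDim ↥(Z ∩ f.base ⁻¹' {genericPoint Y}),
      ∀ x : X, f.base x = y → (∀ x' : X, f.base x' = y → x ⤳ x' → x' = x) →
        ∃ (T : Scheme.{u}) (i : T ⟶ X), IsImmersion i ∧ IrreducibleSpace ↥T ∧ IsReduced T ∧ x ∈ Set.range i.base ∧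
        LocallyOfFiniteType (i ≫ f) ∧ LocallyQuasiFinite (i ≫ f) ∧ QuasiCompact (i ≫ f) ∧ IsDominant (i ≫ f)] := by
  tfae_have 1 → 2 := fun h x hx =>
    Groth.Agent.Lib.Helper6.PUO.isOpenAt_of_isUnivOpenAt f x (h x hx)
  tfae_have 2 → 3 := by
    intro hop z hzy hzmax
    subst hzy
    obtain ⟨ξ, hξz, hξmax, hfξmax, N, hN, hFN⟩ :=
      Groth.Agent.Lib.Helper6.PUO.exists_maximal_of_isOpenAt f z (fun ζ _ hfζ => hop ζ hfζ)
    have hfξ : genericPoint Y = f.base ξ := hfξmax _ (genericPoint_specializes _)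
    have hcl0 : closure {f.base ξ} = (Set.univ : Set Y) := by
      rw [← hfξ]
      exact (genericPoint_spec Y).def
    obtain ⟨Z, hZ, hzZ, hcl, hdim⟩ :=
      Groth.Agent.Lib.Helper6.PUO.exists_component_of_maximal f z ξ hξz hξmax hfξmax N hN hFN
        Set.univ hcl0
    exact ⟨Z, hZ, hzZ, dense_iff_closure_eq.mpr hcl,
      hdim (genericPoint Y) (genericPoint_spec Y).def⟩
  tfae_have 3 → 4 := by
    intro hc x hx hxcl
    obtain ⟨ζ, N, hζx, hfζ, hζmax, hζN, hFN⟩ :=
      Groth.Agent.Lib.Helper21.OpenAt.exists_maximal_generization_fibreDimAt f x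
    have hζy : f.base ζ = y := hfζ.trans hx
    obtain ⟨Z, hZ, hζZ, hdense, hdim⟩ := hc ζ hζy (fun z' hz' hcl =>
      hζmax z' (specializes_iff_mem_closure.mpr hcl) (hz'.trans hζy.symm))
    exact Groth.Agent.Lib.Helper6.PUO.exists_quasiSection_of_component f x ζ
      (fun x' hx' hsp => hxcl x' (hx'.trans hx) hsp) hζx hζmax N hζN hFN Z hZ.1
      (isClosed_of_mem_irreducibleComponents Z hZ) hζZ hdense y hζy hdim
  tfae_have 4 → 1 := by
    intro hd
    refine Groth.Agent.Lib.Helper6.PUO.isUnivOpenAt_of_forall_closed f y ?_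
    intro x hx hxcl
    obtain ⟨T, i, h1, h2, h3, h4, h5, h6, h7, h8⟩ := hd x hx hxcl
    haveI := h2
    haveI := h5
    haveI := h6
    haveI := h8
    exact Groth.Agent.Lib.Helper6.PUO.isUnivOpenAt_of_quasiSection f i x h4 (by rw [hx]; exact hy)
  tfae_finish

end Groth.Agent.S4945
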