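import Groth.Statements.S4951
-- import your own Groth.Agent.* helpers here

set_option autoImplicit false
universe u
open EGA43

namespace Groth.Agent.S4951

section aux

variable {α : Type u} [TopologicalSpace α]

theorem exists_generization_of_noetherian [QuasiSober α] [TopologicalSpace.NoetherianSpace α]
    {A : Set α} (hA : IsOpen A) {x : α} (hx : x ∈ closure A) : ∃ a ∈ A, a ⤳ x := by
  have hfin : (irreducibleComponents α).Finite :=
    TopologicalSpace.NoetherianSpace.finite_irreducibleComponents
  have hA' : A = ⋃ C ∈ irreducibleComponents α, A ∩ C := by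
    rw [← Set.inter_iUnion₂, ← Set.sUnion_eq_biUnion, sUnion_irreducibleComponents, Set.inter_univ]
  rw [hA', hfin.closure_biUnion] at hx
  simp only [Set.mem_iUnion] at hx
  obtain ⟨C, hC, hxC⟩ := hx
  have hCcl : IsClosed C := isClosed_of_mem_irreducibleComponents C hC
  have hgen := hC.1.isGenericPoint_genericPoint hCcl
  have hne : (A ∩ C).Nonempty := by
    by_contra h
    rw [Set.not_nonempty_iff_eq_empty] at h
    rw [h, closure_empty] at hxC
    exact hxC
  refine ⟨hC.1.genericPoint, ?_, ?_⟩
  · rw [hgen.mem_open_set_iff hA, Set.inter_comm]; exact hne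
  · apply hgen.specializes
    exact (hCcl.closure_subset_iff.mpr Set.inter_subset_right) hxC

theorem exists_generization_of_locallyNoetherian [QuasiSober α]
    (hloc : ∀ x : α, ∃ U ∈ nhds x, TopologicalSpace.NoetherianSpace ↥U)
    {A : Set α} (hA : IsOpen A) {x : α} (hx : x ∈ closure A) : ∃ a ∈ A, a ⤳ x := by
  obtain ⟨U, hU, hN⟩ := hloc x
  let N : Set α := interior U
  have hNo : IsOpen N := isOpen_interior
  have hxN : x ∈ N := mem_interior_iff_mem_nhds.mpr hU
  have hNN : TopologicalSpace.NoetherianSpace ↥N := by
    rw [TopologicalSpace.noetherianSpace_set_iff] at hN ⊢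
    exact fun t ht => hN t (ht.trans interior_subset)
  have hQS : QuasiSober ↥N := hNo.isOpenEmbedding_subtypeVal.quasiSober
  have hx' : (⟨x, hxN⟩ : ↥N) ∈ closure (Subtype.val ⁻¹' A : Set ↥N) := by
    rw [Topology.IsInducing.subtypeVal.closure_eq_preimage_closure_image, Set.mem_preimage,
      Subtype.image_preimage_coe]
    exact hNo.inter_closure ⟨hxN, hx⟩
  obtain ⟨a, haA, hax⟩ := exists_generization_of_noetherian
    (hA.preimage continuous_subtype_val) hx'
  exact ⟨a.1, haA, hax.map continuous_subtype_val⟩

theorem exists_maximal_generization [QuasiSober α] [T0Space α] {F : Set α} (hF : IsClosed F)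
    {x₀ : α} (hx₀ : x₀ ∈ F) : ∃ x ∈ F, ∀ x' ∈ F, x' ⤳ x → x' = x := by
  have hQS : QuasiSober ↥F := hF.isClosedEmbedding_subtypeVal.quasiSober
  let c : Set ↥F := irreducibleComponent (⟨x₀, hx₀⟩ : ↥F)
  have hc : IsIrreducible c := isIrreducible_irreducibleComponent
  have hccl : IsClosed c := isClosed_irreducibleComponent
  have hgen := hc.isGenericPoint_genericPoint hccl
  refine ⟨hc.genericPoint.1, hc.genericPoint.2, ?_⟩
  intro x' hx' hsp
  have hsp' : (⟨x', hx'⟩ : ↥F) ⤳ hc.genericPoint :=
    Topology.IsInducing.subtypeVal.specializes_iff.mp hsp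
  have h1 : c ⊆ closure ({(⟨x', hx'⟩ : ↥F)} : Set ↥F) := by
    rw [← hgen.def]
    exact closure_minimal (Set.singleton_subset_iff.mpr (specializes_iff_mem_closure.mp hsp'))
      isClosed_closure
  have h2 : closure ({(⟨x', hx'⟩ : ↥F)} : Set ↥F) = c :=
    (irreducibleComponent_property (⟨x₀, hx₀⟩ : ↥F)).2.2 _
      isIrreducible_singleton.closure.isPreirreducible h1
  have h3 : IsGenericPoint (⟨x', hx'⟩ : ↥F) c := h2
  exact congrArg Subtype.val (h3.eq hgen)

end aux

/-- Let X be a locally Noetherian topological space in which every irreducible closed subset has a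
unique generic point (X quasi-sober and T₀), and Z a closed nowhere dense subset of X such that for
every point x of Z the set of generizations of x distinct from x is connected (possibly empty). If X
is connected, then X − Z is connected. (Uniqueness of generic points, automatic for the underlying
space of a scheme, is needed: in the four-point space {u, v, z₁, z₂} whose open sets are ∅, {u},
{v}, {u, v} and the whole space, the closed nowhere dense set Z = {z₁, z₂} satisfies the hypothesis,
since z₂ is a generization of z₁ and conversely, yet X − Z = {u, v} is not connected.) -/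
theorem result {X : Type u} [TopologicalSpace X]
    [QuasiSober X] [T0Space X] (hloc : ∀ x : X, ∃ U ∈ nhds x, TopologicalSpace.NoetherianSpace ↥U) [ConnectedSpace X]
    (Z : Set X) (hZ : IsClosed Z) (hZn : IsNowhereDense Z)
    (hgen : ∀ x ∈ Z, IsPreconnected ({x' : X | x' ⤳ x} \ {x})) :
    IsConnected Zᶜ := by
  have hdense : closure Zᶜ = Set.univ := by
    rw [closure_compl, ← hZ.closure_eq, hZn, Set.compl_empty]
  constructor
  · by_contra h
    rw [Set.not_nonempty_iff_eq_empty] at h
    rw [h, closure_empty] at hdense
    exact Set.empty_ne_univ hdense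
  · intro u v hu hv hcov hAne hBne
    by_contra hne
    rw [Set.not_nonempty_iff_eq_empty] at hne
    set A := Zᶜ ∩ u with hAdef
    set B := Zᶜ ∩ v with hBdef
    have hAo : IsOpen A := hZ.isOpen_compl.inter hu
    have hBo : IsOpen B := hZ.isOpen_compl.inter hv
    have hAB : A ∩ B = ∅ := by
      rw [← hne]; ext y; simp only [A, B, Set.mem_inter_iff]; tauto
    have hcl : closure A ∪ closure B = Set.univ := by
      rw [← closure_union, ← hdense]
      congr 1
      ext y; simp only [A, B, Set.mem_union, Set.mem_inter_iff]
      constructor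
      · rintro (h | h) <;> exact h.1
      · intro hy; rcases hcov hy with h | h
        · exact Or.inl ⟨hy, h⟩
        · exact Or.inr ⟨hy, h⟩
    have hAclB : ∀ y ∈ A, y ∉ closure B := by
      intro y hyA hyB
      have : (A ∩ B).Nonempty := by
        have := hAo.inter_closure ⟨hyA, hyB⟩
        exact closure_nonempty_iff.mp ⟨y, this⟩
      rw [hAB] at this; exact Set.not_nonempty_empty this
    have hBclA : ∀ y ∈ B, y ∉ closure A := by
      intro y hyB hyA
      have : (B ∩ A).Nonempty := by
        have := hBo.inter_closure ⟨hyB, hyA⟩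
        exact closure_nonempty_iff.mp ⟨y, this⟩
      rw [Set.inter_comm, hAB] at this; exact Set.not_nonempty_empty this
    have hFne : (closure A ∩ closure B).Nonempty := by
      have := isPreconnected_closed_iff.mp isPreconnected_univ (closure A) (closure B)
        isClosed_closure isClosed_closure (by rw [hcl])
        (by obtain ⟨a, ha⟩ := hAne; exact ⟨a, trivial, subset_closure ha⟩)
        (by obtain ⟨b, hb⟩ := hBne; exact ⟨b, trivial, subset_closure hb⟩)
      simpa using this
    obtain ⟨x₀, hx₀⟩ := hFne
    obtain ⟨x, hxF, hxmax⟩ := exists_maximal_generization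
      (isClosed_closure.inter isClosed_closure) hx₀
    have hxZ : x ∈ Z := by
      by_contra hxZ
      rcases hcov hxZ with h | h
      · exact hAclB x ⟨hxZ, h⟩ hxF.2
      · exact hBclA x ⟨hxZ, h⟩ hxF.1
    obtain ⟨a, haA, hax⟩ := exists_generization_of_locallyNoetherian hloc hAo hxF.1
    obtain ⟨b, hbB, hbx⟩ := exists_generization_of_locallyNoetherian hloc hBo hxF.2
    have hane : a ≠ x := fun h => haA.1 (h ▸ hxZ)
    have hbne : b ≠ x := fun h => hbB.1 (h ▸ hxZ)
    have := hgen x hxZ (closure B)ᶜ (closure A)ᶜ isClosed_closure.isOpen_compl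
      isClosed_closure.isOpen_compl ?_ ⟨a, ⟨hax, hane⟩, hAclB a haA⟩ ⟨b, ⟨hbx, hbne⟩, hBclA b hbB⟩
    · obtain ⟨y, -, hy1, hy2⟩ := this
      have : y ∈ closure A ∪ closure B := hcl ▸ Set.mem_univ y
      rcases this with h | h
      · exact hy2 h
      · exact hy1 h
    · rintro y ⟨hy, hyne⟩
      by_contra hcon
      simp only [Set.mem_union, Set.mem_compl_iff, not_or, not_not] at hcon
      exact hyne (hxmax y ⟨hcon.2, hcon.1⟩ hy)

end Groth.Agent.S4951
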