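import Groth.Statements.S4954
import Groth.Agent.Lib.Helper21.OpenAt21
-- import your own Groth.Agent.* helpers here

set_option autoImplicit false
open CategoryTheory AlgebraicGeometry
universe u v w
open EGA43

namespace Groth.Agent.S4954

/-- Let f : X ⟶ Y be a morphism of finite presentation with a section g : Y ⟶ X, and for y in Y let
X_y^0 be the connected component of f⁻¹(y) containing g y. Suppose that every X_y^0 is geometrically
irreducible over κ(y) (its preimage in X_y ⊗ K is irreducible for every field extension K of κ(y)).
Then the function y ↦ dim X_y^0 is upper semicontinuous on Y. -/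
theorem result {X Y : Scheme.{u}} (f : X ⟶ Y)
    [LocallyOfFinitePresentation f] [QuasiCompact f] [QuasiSeparated f] (g : Y ⟶ X) (hg : g ≫ f = 𝟙 Y)
    (hirr : ∀ y : Y, (∀ (K : Type u) [Field K] [Algebra (IsLocalRing.ResidueField (Y.presheaf.stalk y)) K],
        IsIrreducible ((FBase.bcπ (f.fiberToSpecResidueField y) K ≫ f.fiberι y).base ⁻¹' connectedComponentIn (f.base ⁻¹' {y}) (g.base y)))) :
    UpperSemicontinuous (fun y : Y => topologicalKrullDim ↥(connectedComponentIn (f.base ⁻¹' {y}) (g.base y))) := by
  have hirr' : ∀ y : Y, IsIrreducible (connectedComponentIn (f.base ⁻¹' {y}) (g.base y)) := by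
    intro y
    have h := hirr y (IsLocalRing.ResidueField (Y.presheaf.stalk y))
    set C := connectedComponentIn (f.base ⁻¹' {y}) (g.base y) with hC
    set φ := FBase.bcπ (f.fiberToSpecResidueField y)
      (IsLocalRing.ResidueField (Y.presheaf.stalk y)) ≫ f.fiberι y with hφ
    have hiso : IsIso (Spec.map (CommRingCat.ofHom (algebraMap
        (IsLocalRing.ResidueField (Y.presheaf.stalk y))
        (IsLocalRing.ResidueField (Y.presheaf.stalk y))))) := by
      rw [Algebra.algebraMap_self]
      have : CommRingCat.ofHom (RingHom.id (IsLocalRing.ResidueField (Y.presheaf.stalk y))) =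
          𝟙 (CommRingCat.of (IsLocalRing.ResidueField (Y.presheaf.stalk y))) := rfl
      rw [this, Spec.map_id]
      infer_instance
    have hsurj : Function.Surjective (FBase.bcπ (f.fiberToSpecResidueField y)
        (IsLocalRing.ResidueField (Y.presheaf.stalk y))).base := by
      unfold FBase.bcπ
      have h1 : Surjective (Spec.map (CommRingCat.ofHom (algebraMap
        (IsLocalRing.ResidueField (Y.presheaf.stalk y))
        (IsLocalRing.ResidueField (Y.presheaf.stalk y))))) := inferInstance
      have h2 := MorphismProperty.pullback_fst (P := @Surjective)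
        (f.fiberToSpecResidueField y) _ h1
      exact h2.surj
    have hCsub : C ⊆ Set.range φ.base := by
      intro c hc
      have hcF : c ∈ f.base ⁻¹' {y} := connectedComponentIn_subset _ _ hc
      rw [← Scheme.Hom.range_fiberι] at hcF
      obtain ⟨z, hz⟩ := hcF
      obtain ⟨w, hw⟩ := hsurj z
      refine ⟨w, ?_⟩
      rw [hφ]
      simp only [Scheme.Hom.comp_base, TopCat.hom_comp, ContinuousMap.comp_apply]
      rw [hw, hz]
    have himg : φ.base '' (φ.base ⁻¹' C) = C := Set.image_preimage_eq_of_subset hCsub
    rw [← himg]
    exact h.image _ φ.continuous.continuousOn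
  exact (Groth.Agent.Lib.Helper21.OpenAt.sectionComponent_usc_and_closure f g hg hirr').1

end Groth.Agent.S4954
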