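import Groth.Statements.S4959
-- import your own Groth.Agent.* helpers here

set_option autoImplicit false
open CategoryTheory AlgebraicGeometry
universe u v w
open EGA43

namespace Groth.Agent.S4959

open CategoryTheory.Limits in
/-- Let f : X ⟶ Y be a morphism of schemes and g : Y' ⟶ Y a surjective morphism which is either proper,
or flat and quasi-compact. If the base change f' : X ×_Y Y' ⟶ Y' is universally submersive (all of
its base changes are topological quotient maps), then f is universally submersive. -/
theorem result {X Y Y' : Scheme.{u}} (f : X ⟶ Y) (g : Y' ⟶ Y) [Surjective g]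
    (hg : IsProper g ∨ (Flat g ∧ QuasiCompact g))
    (h : MorphismProperty.universally (topologically @Topology.IsQuotientMap) (pullback.snd f g)) :
    MorphismProperty.universally (topologically @Topology.IsQuotientMap) f := by
  intro X₁ T i₁ i₂ f₁ hpb
  let gT := pullback.fst i₂ g
  let r := pullback.snd i₂ g
  have hgT : Topology.IsQuotientMap gT.base := by
    rcases hg with hg | ⟨hg1, hg2⟩
    · exact (gT.isClosedMap).isQuotientMap gT.continuous gT.surjective
    · exact Flat.isQuotientMap_of_surjective gT
  let q' := pullback.fst f₁ gT
  let p' := pullback.snd f₁ gT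
  have h1 : IsPullback q' p' f₁ gT := IsPullback.of_hasPullback f₁ gT
  have h2 : IsPullback (q' ≫ i₁) p' f (gT ≫ i₂) := h1.paste_horiz hpb.flip
  have hcond : gT ≫ i₂ = r ≫ g := pullback.condition
  rw [hcond] at h2
  let l : pullback f₁ gT ⟶ pullback f g :=
    pullback.lift (q' ≫ i₁) (p' ≫ r) (by rw [h2.w, Category.assoc])
  have h3 : IsPullback l p' (pullback.snd f g) r := by
    refine IsPullback.of_right (h₁₂ := pullback.fst f g) (h₂₂ := g) (v₁₃ := f) ?_ ?_
      (IsPullback.of_hasPullback f g)
    · have : l ≫ pullback.fst f g = q' ≫ i₁ := pullback.lift_fst _ _ _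
      rw [this]; exact h2
    · exact pullback.lift_snd _ _ _
  have h4 : Topology.IsQuotientMap p'.base := h _ _ _ h3.flip
  have h5 : Topology.IsQuotientMap (gT.base ∘ p'.base) := hgT.comp h4
  have h6 : gT.base ∘ p'.base = f₁.base ∘ q'.base := by
    have := congrArg (fun φ => (φ.base : _ → _)) h1.w
    simp only [Scheme.Hom.comp_base, TopCat.coe_comp] at this
    exact this.symm
  rw [h6] at h5
  exact Topology.IsQuotientMap.of_comp q'.continuous f₁.continuous h5

end Groth.Agent.S4959
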