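import Groth.Statements.S4963
import Groth.Agent.Lib.Helper21.SCmp28
import Groth.Agent.S0386
-- import your own Groth.Agent.* helpers here

set_option autoImplicit false
open CategoryTheory AlgebraicGeometry
universe u v w
open EGA43

namespace Groth.Agent.S4963

/-- Let f : X ⟶ Y be a morphism locally of finite presentation. The set of points x of X such that f is
flat at x and the fibre of f through x is geometrically reduced at x over the residue field of f x
(f is a reduced morphism at x) is open in X. -/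
theorem result {X Y : Scheme.{u}} (f : X ⟶ Y)
    [LocallyOfFinitePresentation f] :
    IsOpen {x : X | (f.stalkMap x).hom.Flat ∧ FBase.IsGeomReducedAt (f.fiberToSpecResidueField (f.base x)) (f.asFiber x)} := by
  let W : X.Opens := ⟨{x : X | (f.stalkMap x).hom.Flat}, Groth.Agent.S0386.result f⟩
  let fW := W.ι ≫ f
  have : LocallyOfFinitePresentation fW := inferInstance
  have : Flat fW := by
    apply Flat.of_stalkMap
    intro ξ
    have h1 : (fW.stalkMap ξ) = f.stalkMap (W.ι ξ) ≫ W.ι.stalkMap ξ :=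
      Scheme.Hom.stalkMap_comp W.ι f ξ
    have h2 : (f.stalkMap (W.ι ξ) ≫ W.ι.stalkMap ξ).hom.Flat := by
      rw [CommRingCat.hom_comp]
      refine RingHom.Flat.comp ?_ ?_
      · exact ξ.2
      · exact RingHom.Flat.of_bijective
          (ConcreteCategory.bijective_of_isIso (W.ι.stalkMap ξ))
    rw [h1]
    exact h2
  have hopen := Groth.Agent.Lib.Helper21.SCmp.isOpen_gRAt fW
  have heq : {x : X | (f.stalkMap x).hom.Flat ∧
      FBase.IsGeomReducedAt (f.fiberToSpecResidueField (f.base x)) (f.asFiber x)} =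
      W.ι '' {ξ | Groth.Agent.Lib.Helper21.SCmp.GRAt fW ξ} := by
    ext x
    constructor
    · rintro ⟨hx1, hx2⟩
      refine ⟨⟨x, hx1⟩, ?_, rfl⟩
      exact (Groth.Agent.Lib.Helper21.SCmp.gRAt_ι_comp_iff W.ι f ⟨x, hx1⟩).mpr hx2
    · rintro ⟨ξ, hξ, rfl⟩
      exact ⟨ξ.2, (Groth.Agent.Lib.Helper21.SCmp.gRAt_ι_comp_iff W.ι f ξ).mp hξ⟩
  rw [heq]
  exact W.ι.isOpenEmbedding.isOpenMap _ hopen

end Groth.Agent.S4963
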