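import Groth.Statements.S4988
-- import your own Groth.Agent.* helpers here

set_option autoImplicit false
universe u
open CategoryTheory CategoryTheory.Limits AlgebraicGeometry TopologicalSpace
open Unram17

namespace Groth.Agent.S4988

open CategoryTheory.Limits in
theorem exists_clopen_eq_locus {X Y S : Scheme.{u}} (h : Y ⟶ S) [FormallyUnramified h]
    [LocallyOfFiniteType h] [IsSeparated h] (f g : X ⟶ Y) (w : g ≫ h = f ≫ h) :
    ∃ (E : Scheme.{u}) (e : E ⟶ X), IsOpenImmersion e ∧ IsClosedImmersion e ∧ e ≫ f = e ≫ g ∧
      ∀ {T : Scheme.{u}} (t : T ⟶ X), t ≫ f = t ≫ g → Set.range t.base ⊆ Set.range e.base := by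
  let φ : X ⟶ pullback h h := pullback.lift f g w.symm
  refine ⟨pullback φ (pullback.diagonal h), pullback.fst φ (pullback.diagonal h), inferInstance,
    inferInstance, ?_, ?_⟩
  · have hc : pullback.fst φ (pullback.diagonal h) ≫ φ =
        pullback.snd φ (pullback.diagonal h) ≫ pullback.diagonal h := pullback.condition
    have h1 := congrArg (· ≫ pullback.fst h h) hc
    have h2 := congrArg (· ≫ pullback.snd h h) hc
    simp only [Category.assoc, φ, pullback.lift_fst, pullback.lift_snd, pullback.diagonal_fst,
      pullback.diagonal_snd, Category.comp_id] at h1 h2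
    rw [h1, h2]
  · intro T t ht
    let l : T ⟶ pullback φ (pullback.diagonal h) := pullback.lift t (t ≫ f) (by
      apply pullback.hom_ext
      · simp only [Category.assoc, φ, pullback.lift_fst, pullback.diagonal_fst, Category.comp_id]
      · simp only [Category.assoc, φ, pullback.lift_snd, pullback.diagonal_snd, Category.comp_id,
          ht])
    have hl : l ≫ pullback.fst φ (pullback.diagonal h) = t := pullback.lift_fst _ _ _
    rw [← hl]
    simp only [Scheme.Hom.comp_base, TopCat.coe_comp]
    exact Set.range_comp_subset_range _ _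

/-- Let h : Y ⟶ S be formally unramified, locally of finite type and separated, let f, g : X ⟶ Y be
morphisms over S whose common composite X ⟶ S is both open and closed as a map of topological
spaces, and let s be a point of S. If f and g have the same restriction to the scheme-theoretic
fibre of X over s, then there is an open and closed subset V of S containing s such that f and g
agree on the preimage of V; in particular f = g when S is connected. -/
theorem result {X Y S : Scheme.{u}} (h : Y ⟶ S)
    [FormallyUnramified h] [LocallyOfFiniteType h] [IsSeparated h]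
    (f g : X ⟶ Y) (w : g ≫ h = f ≫ h)
    (ho : IsOpenMap (f ≫ h).base) (hc : IsClosedMap (f ≫ h).base) (s : ↥S)
    (hs : (f ≫ h).fiberι s ≫ f = (f ≫ h).fiberι s ≫ g) :
    ∃ V : S.Opens, IsClosed (V : Set ↥S) ∧ s ∈ V ∧
      ((f ≫ h) ⁻¹ᵁ V).ι ≫ f = ((f ≫ h) ⁻¹ᵁ V).ι ≫ g := by
  obtain ⟨E, e, he, he', hfg, huniv⟩ := exists_clopen_eq_locus h f g w
  have hfib : (f ≫ h).base ⁻¹' {s} ⊆ Set.range e.base := by
    rw [← (f ≫ h).range_fiberι s]
    exact huniv _ hs
  have hEo : IsOpen (Set.range e.base) := e.isOpenEmbedding.isOpen_range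
  have hEc : IsClosed (Set.range e.base) := e.isClosedEmbedding.isClosed_range
  let V : S.Opens := ⟨((f ≫ h).base '' (Set.range e.base)ᶜ)ᶜ,
    (hc _ hEo.isClosed_compl).isOpen_compl⟩
  refine ⟨V, ?_, ?_, ?_⟩
  · exact (ho _ hEc.isOpen_compl).isClosed_compl
  · rintro ⟨x, hx, hxs⟩
    exact hx (hfib hxs)
  · have hsub : Set.range ((f ≫ h) ⁻¹ᵁ V).ι.base ⊆ Set.range e.base := by
      rw [Scheme.Opens.range_ι]
      intro x hx
      by_contra hxe
      exact hx ⟨x, hxe, rfl⟩
    rw [← IsOpenImmersion.lift_fac e _ hsub, Category.assoc, Category.assoc, hfg]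

end Groth.Agent.S4988
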