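import Groth.Statements.S4990
import Groth.Agent.Lib.Helper21.BaseChg5
-- import your own Groth.Agent.* helpers here

set_option autoImplicit false
universe u
open CategoryTheory CategoryTheory.Limits AlgebraicGeometry TopologicalSpace
open Unram17

namespace Groth.Agent.S4990

/-- Let Y be locally Noetherian and f : X ⟶ Y locally of finite type, smooth on an open neighbourhood of
a point x with image y. Then the Krull dimension of the local ring of X at x is the sum of the Krull
dimension of the local ring of Y at y and of the Krull dimension of the local ring of the fibre, the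
quotient of the local ring at x by the extension of the maximal ideal at y. -/
theorem result {X Y : Scheme.{u}} (f : X ⟶ Y)
    [IsLocallyNoetherian Y] [LocallyOfFiniteType f] (x : ↥X)
    (hx : ∃ U : X.Opens, x ∈ U ∧ Smooth (U.ι ≫ f)) :
    ringKrullDim ↑(X.presheaf.stalk x) =
      ringKrullDim ↑(Y.presheaf.stalk (f.base x)) +
        ringKrullDim (↑(X.presheaf.stalk x) ⧸
          (IsLocalRing.maximalIdeal ↑(Y.presheaf.stalk (f.base x))).map (f.stalkMap x).hom) := by
  obtain ⟨U, hxU, hsm⟩ := hx
  have : Flat (U.ι ≫ f) := inferInstance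
  have : IsLocallyNoetherian X := LocallyOfFiniteType.isLocallyNoetherian f
  let u : U.toScheme := ⟨x, hxU⟩
  have h1 : ((U.ι ≫ f).stalkMap u).hom.Flat := Flat.stalkMap (U.ι ≫ f) u
  have h2 : (U.ι ≫ f).stalkMap u = f.stalkMap (U.ι u) ≫ U.ι.stalkMap u :=
    Scheme.Hom.stalkMap_comp U.ι f u
  have h3 : f.stalkMap (U.ι u) = (U.ι ≫ f).stalkMap u ≫ inv (U.ι.stalkMap u) :=
    (IsIso.eq_comp_inv (U.ι.stalkMap u)).mpr h2.symm
  have h4 : ((U.ι ≫ f).stalkMap u ≫ inv (U.ι.stalkMap u)).hom.Flat :=
    RingHom.Flat.comp h1 (RingHom.Flat.of_bijective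
      (ConcreteCategory.bijective_of_isIso (inv (U.ι.stalkMap u))))
  have h5 : (f.stalkMap (U.ι u)).hom.Flat := h3 ▸ h4
  have h6 : (f.stalkMap x).hom.Flat := h5
  exact Groth.Agent.Lib.Helper21.BaseChg.ringKrullDim_eq_add_of_flat_local _ _
    (f.stalkMap x).hom h6

end Groth.Agent.S4990
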