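import Groth.Statements.S4996
import Mathlib
import Groth.Agent.Lib.Helper23.GeomRegular2
-- import your own Groth.Agent.* helpers here

set_option autoImplicit false
universe u
open Unram17

namespace Groth.Agent.S4996

open Groth.Agent.Lib.Helper23

theorem smooth_fibre_iff (K C : Type u) [Field K] [CommRing C] [Algebra K C]
    [Algebra.FiniteType K C] :
    Algebra.FormallySmooth K C ↔ CAlg.IsGeometricallyRegular K C :=
  (SmoothField.tfae_global (k₀ := K) (k := K) (C := C)).out 0 3


open TensorProduct in
/-- Let B be a finitely presented algebra over a commutative ring A. Then B is smooth over A if and only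
if B is flat over A and every fibre ring κ(p) ⊗_A B, p a prime of A, is geometrically regular over
the residue field κ(p), i.e. stays a regular ring after base change to any finite extension of κ(p). -/
theorem result (A B : Type u) [CommRing A] [CommRing B]
    [Algebra A B] [Algebra.FinitePresentation A B] :
    Algebra.Smooth A B ↔
      Module.Flat A B ∧ ∀ (p : Ideal A) [p.IsPrime], CAlg.IsGeometricallyRegular p.ResidueField (p.Fiber B) := by
  constructor
  · intro h
    refine ⟨inferInstance, fun p _ => ?_⟩
    haveI : Algebra.Smooth p.ResidueField (p.Fiber B) := inferInstance
    haveI : Algebra.FiniteType p.ResidueField (p.Fiber B) := inferInstance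
    exact (smooth_fibre_iff _ _).mp inferInstance
  · rintro ⟨hflat, h⟩
    apply Algebra.Smooth.of_formallySmooth_fiber
    intro p _
    haveI : Algebra.FiniteType p.ResidueField (p.Fiber B) := inferInstance
    exact (smooth_fibre_iff _ _).mpr (h p)

end Groth.Agent.S4996
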