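import Groth.Statements.S4997
import Mathlib
import Groth.Agent.S3830

set_option autoImplicit false
universe u
open CategoryTheory CategoryTheory.Limits AlgebraicGeometry TopologicalSpace
open Unram17

namespace Groth.Agent.S4997

/-- A morphism of schemes is etale if and only if it is smooth and locally quasi-finite. -/
theorem result {X Y : Scheme.{u}} (f : X ⟶ Y) :
    Etale f ↔ Smooth f ∧ LocallyQuasiFinite f := by
  constructor
  · intro h
    refine ⟨inferInstance, ?_⟩
    rw [HasRingHomProperty.iff_appLE (P := @LocallyQuasiFinite)]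
    intro U V e
    have he := (HasRingHomProperty.iff_appLE (P := @Etale)).mp h U V e
    generalize (f.appLE U V e).hom = φ at he
    algebraize [φ]
    have : Algebra.Etale Γ(Y, U) Γ(X, V) := he
    rw [RingHom.QuasiFinite]
    infer_instance
  · rintro ⟨h1, h2⟩
    rw [HasRingHomProperty.iff_appLE (P := @Etale)]
    intro U V e
    have hs := (HasRingHomProperty.iff_appLE (P := @Smooth)).mp h1 U V e
    have hq := (HasRingHomProperty.iff_appLE (P := @LocallyQuasiFinite)).mp h2 U V e
    generalize (f.appLE U V e).hom = φ at hs hq
    algebraize [φ]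
    rw [RingHom.Etale]
    rw [← Algebra.etaleLocus_eq_univ_iff_etale]
    ext q
    simp only [Set.mem_univ, iff_true]
    have hsm : Algebra.IsSmoothAt Γ(Y, U) q.asIdeal := by
      have h3 := Algebra.smoothLocus_eq_univ (R := Γ(Y, U)) (A := Γ(X, V))
      have : q ∈ Algebra.smoothLocus Γ(Y, U) Γ(X, V) := by rw [h3]; trivial
      exact this
    exact Groth.Agent.S3830.result Γ(Y, U) Γ(X, V) q.asIdeal hsm

end Groth.Agent.S4997
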