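import Groth.Statements.S4998
import Mathlib
-- import your own Groth.Agent.* helpers here

set_option autoImplicit false
universe u
open Unram17

namespace Groth.Agent.S4998

open Polynomial

/-- An element of a finite product of algebras all of whose coordinates are separable is separable. -/
theorem isSeparable_pi {k : Type*} [Field k] {ι : Type*} [Finite ι] (L : ι → Type*)
    [∀ i, Field (L i)] [∀ i, Algebra k (L i)] (x : ∀ i, L i) (hx : ∀ i, IsSeparable k (x i)) :
    IsSeparable k x := by
  classical
  have := Fintype.ofFinite ι
  let S : Finset k[X] := Finset.univ.image fun i => minpoly k (x i)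
  let P : k[X] := ∏ p ∈ S, p
  have hP : P.Separable := by
    apply separable_prod'
    · intro p hp q hq hpq
      simp only [S, Finset.mem_image, Finset.mem_univ, true_and] at hp hq
      obtain ⟨i, rfl⟩ := hp
      obtain ⟨j, rfl⟩ := hq
      have hi := (hx i).isIntegral
      have hj := (hx j).isIntegral
      refine (minpoly.irreducible hi).isCoprime_or_dvd _ |>.resolve_right ?_
      intro hdvd
      apply hpq
      exact eq_of_monic_of_associated (minpoly.monic hi) (minpoly.monic hj)
        ((minpoly.irreducible hi).associated_of_dvd (minpoly.irreducible hj) hdvd)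
    · intro p hp
      simp only [S, Finset.mem_image, Finset.mem_univ, true_and] at hp
      obtain ⟨i, rfl⟩ := hp
      exact hx i
  have hPx : aeval x P = 0 := by
    funext i
    have : aeval (x i) P = 0 := by
      have hmem : minpoly k (x i) ∈ S := Finset.mem_image_of_mem _ (Finset.mem_univ i)
      obtain ⟨Q, hQ⟩ := Finset.dvd_prod_of_mem (fun p => p) hmem
      change P = _ at hQ
      rw [hQ, map_mul, minpoly.aeval, zero_mul]
    have h2 : aeval (x i) P = (aeval x P) i := by
      rw [← Pi.evalAlgHom_apply k L i (aeval x P), ← aeval_algHom_apply]
      rfl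
    rw [← h2, this]; rfl
  exact hP.of_dvd (minpoly.dvd k x hPx)


/-- Let A be an algebra of finite type over a field k. Then A is formally unramified over k if and only
if A is finite over k and every element of A has separable minimal polynomial over k (equivalently,
A is a finite product of finite separable extensions of k). -/
theorem result (k A : Type u) [Field k] [CommRing A]
    [Algebra k A] [Algebra.FiniteType k A] :
    Algebra.FormallyUnramified k A ↔ Module.Finite k A ∧ Algebra.IsSeparable k A := by
  constructor
  · intro h
    have hfin := Algebra.FormallyUnramified.finite_of_free k A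
    refine ⟨hfin, ?_⟩
    have het : Algebra.FormallyEtale k A := Algebra.FormallyEtale.of_formallyUnramified_of_field k A
    obtain ⟨I, hI, Ai, hF, hAlg, e, hsep⟩ :=
      (Algebra.FormallyEtale.iff_exists_algEquiv_prod k A).mp het
    refine ⟨fun x => ?_⟩
    rw [← e.isSeparable_iff]
    exact isSeparable_pi Ai (e x) fun i => Algebra.IsSeparable.isSeparable k _
  · rintro ⟨hfin, hsep⟩
    have hart : IsArtinianRing A := isArtinian_of_tower k inferInstance
    have hred : IsReduced A := by
      refine ⟨fun x hx => ?_⟩
      obtain ⟨n, hn⟩ := hx
      rcases Nat.eq_zero_or_pos n with rfl | hpos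
      · have : (1 : A) = 0 := by simpa using hn
        calc x = x * 1 := (mul_one x).symm
          _ = 0 := by rw [this, mul_zero]
      have hsx := Algebra.IsSeparable.isSeparable k x
      have hdvd : minpoly k x ∣ X ^ n := minpoly.dvd k x (by simp [hn])
      have h1 : minpoly k x ∣ X :=
        (hsx.squarefree.dvd_pow_iff_dvd hpos.ne').mp hdvd
      simpa using (minpoly.dvd_iff (A := k) (x := x)).mp h1
    rw [Algebra.FormallyUnramified.iff_of_equiv ((IsArtinianRing.equivPi A).restrictScalars k),
      Algebra.FormallyUnramified.pi_iff]
    intro m
    let _ : Field (A ⧸ m.asIdeal) := Ideal.Quotient.field m.asIdeal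
    have : Algebra.IsSeparable k (A ⧸ m.asIdeal) := by
      refine ⟨fun y => ?_⟩
      obtain ⟨x, rfl⟩ := Ideal.Quotient.mk_surjective y
      have hsx := Algebra.IsSeparable.isSeparable k x
      refine hsx.of_dvd (minpoly.dvd k _ ?_)
      have : aeval (Ideal.Quotient.mk m.asIdeal x) (minpoly k x) =
          Ideal.Quotient.mkₐ k m.asIdeal (aeval x (minpoly k x)) := by
        rw [← aeval_algHom_apply]; rfl
      rw [this, minpoly.aeval, map_zero]
    exact Algebra.FormallyUnramified.of_isSeparable k _

end Groth.Agent.S4998
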