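import Groth.Statements.S5002
import Mathlib.Tactic
import Mathlib.RingTheory.FiniteStability
import Mathlib.RingTheory.IntegralClosure.IsIntegralClosure.Basic
import Mathlib.RingTheory.IntegralClosure.Algebra.Basic
-- import your own Groth.Agent.* helpers here

set_option autoImplicit false
universe u
open PP16

namespace Groth.Agent.S5002

open scoped TensorProduct

/-- Suppose A is a commutative ring and B is a finite-type A-algebra. For each n, the ring of principal
parts of order n of B over A is then finitely generated as a B-module, where B acts via the first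
factor. -/
theorem result (n : ℕ) (A B : Type u) [CommRing A] [CommRing B] [Algebra A B]
    [Algebra.FiniteType A B] : Module.Finite B (PP16.P n A B) := by
  have : Algebra.FiniteType B (B ⊗[A] B) := inferInstance
  have : Algebra.FiniteType B (PP16.P n A B) :=
    Algebra.FiniteType.of_surjective
      (Ideal.Quotient.mkₐ B ((KaehlerDifferential.ideal A B) ^ (n + 1)))
      (Ideal.Quotient.mkₐ_surjective B _)
  have : Algebra.IsIntegral B (PP16.P n A B) := by
    constructor
    intro y
    obtain ⟨x, rfl⟩ := Ideal.Quotient.mk_surjective y
    have hx : x - (Algebra.TensorProduct.lmul' A (S := B) x) ⊗ₜ[A] (1 : B) ∈ KaehlerDifferential.ideal A B := by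
      rw [KaehlerDifferential.ideal, RingHom.mem_ker, map_sub]
      simp
    have hsplit : Ideal.Quotient.mk ((KaehlerDifferential.ideal A B) ^ (n + 1)) x =
        algebraMap B (PP16.P n A B) (Algebra.TensorProduct.lmul' A (S := B) x) +
          Ideal.Quotient.mk ((KaehlerDifferential.ideal A B) ^ (n + 1))
            (x - (Algebra.TensorProduct.lmul' A (S := B) x) ⊗ₜ[A] (1 : B)) := by
      rw [map_sub]
      have : algebraMap B (PP16.P n A B) (Algebra.TensorProduct.lmul' A (S := B) x) =
          Ideal.Quotient.mk ((KaehlerDifferential.ideal A B) ^ (n + 1))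
            ((Algebra.TensorProduct.lmul' A (S := B) x) ⊗ₜ[A] (1 : B)) := rfl
      rw [this]
      abel
    rw [hsplit]
    refine IsIntegral.add isIntegral_algebraMap (IsIntegral.of_pow (Nat.succ_pos n) ?_)
    have h0 : (Ideal.Quotient.mk ((KaehlerDifferential.ideal A B) ^ (n + 1))
        (x - (Algebra.TensorProduct.lmul' A (S := B) x) ⊗ₜ[A] (1 : B))) ^ (n + 1) = 0 := by
      rw [← map_pow, Ideal.Quotient.eq_zero_iff_mem]
      exact Ideal.pow_mem_pow hx (n + 1)
    rw [h0]
    exact isIntegral_zero
  exact Algebra.IsIntegral.finite

end Groth.Agent.S5002
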