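import Groth.Statements.S5007
import Groth.Agent.Lib.Helper25.PullbackStalk

set_option autoImplicit false
universe u
open CategoryTheory CategoryTheory.Limits AlgebraicGeometry TopologicalSpace
open Unram17

namespace Groth.Agent.S5007

/-- Let g : Y ⟶ S and h : X ⟶ S be locally of finite presentation and f : X ⟶ Y a morphism over S. Then
f is (formally) unramified if and only if for every point s of S the base change of f along the
fibre Y_s ⟶ Y, which is the fibre map X_s ⟶ Y_s, is (formally) unramified. -/
theorem result {X Y S : Scheme.{u}} (g : Y ⟶ S) (h : X ⟶ S)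
    [LocallyOfFinitePresentation g] [LocallyOfFinitePresentation h] (f : X ⟶ Y) (w : f ≫ g = h) :
    FormallyUnramified f ↔ ∀ s : ↥S, FormallyUnramified (pullback.snd f (g.fiberι s)) := by
  subst w
  have : LocallyOfFiniteType f := locallyOfFiniteType_of_comp f g
  constructor
  · intro hf s
    exact MorphismProperty.pullback_snd (P := @FormallyUnramified) _ _ hf
  · intro H
    refine HasRingHomProperty.of_stalkMap RingHom.FormallyUnramified.ofLocalizationPrime fun x => ?_
    have hmem : f x ∈ Set.range (g.fiberι (g (f x))) := by
      rw [Scheme.Hom.range_fiberι]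
      rfl
    obtain ⟨y, hy⟩ := hmem
    obtain ⟨u, hu1, hu2⟩ := Scheme.Pullback.exists_preimage_pullback (f := f)
      (g := g.fiberι (g (f x))) x y hy.symm
    have := H (g (f x))
    have H' : IsPullback (pullback.fst f (g.fiberι (g (f x)))) (pullback.snd f (g.fiberι (g (f x))))
        f (g.fiberι (g (f x))) := IsPullback.of_hasPullback _ _
    have h1 := FormallyUnramified.stalkMap (pullback.snd f (g.fiberι (g (f x)))) u
    have h2 := Groth.Agent.Lib.Helper25.PullbackStalk.formallyUnramified_stalkMap_of_isPullback H' u h1
    rw [hu1] at h2
    exact h2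


end Groth.Agent.S5007
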