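import Groth.Statements.S5008
import Groth.Agent.Lib.Helper25.LocalLifting

set_option autoImplicit false
universe u
open CategoryTheory CategoryTheory.Limits AlgebraicGeometry TopologicalSpace
open Unram17

namespace Groth.Agent.S5008

/-- Let f : X ⟶ Y be locally of finite presentation and x a point of X. Then f is smooth at x if and
only if for every surjection of local rings B' → B with square-zero kernel, every morphism Spec B ⟶
X sending the closed point to x and every morphism Spec B' ⟶ Y making the square commute, there is a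
lift Spec B' ⟶ X compatible with both. (No Noetherian hypothesis on Y.) -/
theorem result {X Y : Scheme.{u}} (f : X ⟶ Y)
    [LocallyOfFinitePresentation f] (x : ↥X) :
    x ∈ f.smoothLocus ↔ ∀ (B B' : Type u) [CommRing B] [CommRing B'] [IsLocalRing B] [IsLocalRing B'] (φ : B' →+* B),
      Function.Surjective φ → RingHom.ker φ ^ 2 = ⊥ →
      ∀ (α : Spec (CommRingCat.of B) ⟶ X) (β : Spec (CommRingCat.of B') ⟶ Y),
        α.base (IsLocalRing.closedPoint B) = x → Spec.map (CommRingCat.ofHom φ) ≫ β = α ≫ f →
        ∃ γ : Spec (CommRingCat.of B') ⟶ X, Spec.map (CommRingCat.ofHom φ) ≫ γ = α ∧ γ ≫ f = β := by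
  have inj : ∀ {Z : Scheme.{u}} (z : Z) {R : CommRingCat.{u}} (a a' : Z.presheaf.stalk z ⟶ R),
      Spec.map a ≫ Z.fromSpecStalk z = Spec.map a' ≫ Z.fromSpecStalk z → a = a' := by
    intro Z z R a a' h
    rw [cancel_mono] at h
    exact Spec.map_injective h
  rw [Scheme.Hom.mem_smoothLocus]
  constructor
  · intro hs B B' _ _ _ _ φ hφ hker α β hα hαβ
    obtain ⟨a, ha⟩ := Groth.Agent.Lib.Helper25.GrpTangent.exists_of_closedPoint
      (R := CommRingCat.of B) α x hα
    have hlocφ : IsLocalHom φ := IsLocalHom.of_surjective φ hφ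
    have hcp : Spec.map (CommRingCat.ofHom φ) (IsLocalRing.closedPoint B) =
        IsLocalRing.closedPoint B' := IsLocalRing.comap_closedPoint φ
    have hβ : β (IsLocalRing.closedPoint B') = f x := by
      rw [← hcp]
      have := congrArg (fun g => g (IsLocalRing.closedPoint B)) hαβ
      simp only [Scheme.Hom.comp_apply] at this
      rw [this, hα]
    obtain ⟨b, hb⟩ := Groth.Agent.Lib.Helper25.GrpTangent.exists_of_closedPoint
      (R := CommRingCat.of B') β (f x) hβ
    have hcompat : f.stalkMap x ≫ a = b ≫ CommRingCat.ofHom φ := by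
      apply inj (f x)
      rw [Spec.map_comp, Spec.map_comp, Category.assoc, Category.assoc, hb,
        Scheme.SpecMap_stalkMap_fromSpecStalk, ← Category.assoc, ha, hαβ]
    obtain ⟨c, hc1, hc2⟩ := Groth.Agent.Lib.Helper25.LocalLifting.exists_lift_of_formallySmooth
      (f.stalkMap x).hom hs a.hom b.hom φ hφ hker (congrArg (fun g => g.hom) hcompat)
    refine ⟨Spec.map (CommRingCat.ofHom c) ≫ X.fromSpecStalk x, ?_, ?_⟩
    · rw [← Category.assoc, ← Spec.map_comp, ← ha]
      congr 2
      exact CommRingCat.hom_ext hc1
    · rw [Category.assoc, ← Scheme.SpecMap_stalkMap_fromSpecStalk, ← Category.assoc,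
        ← Spec.map_comp, ← hb]
      congr 2
      exact CommRingCat.hom_ext hc2
  · intro H
    apply Groth.Agent.Lib.Helper25.LocalLifting.formallySmooth_of_lifting
    intro B' _ _ b φ hφ hker hcomp
    have hlocφ : IsLocalHom φ := IsLocalHom.of_surjective φ hφ
    have hcp : Spec.map (CommRingCat.ofHom φ) (IsLocalRing.closedPoint (X.presheaf.stalk x)) =
        IsLocalRing.closedPoint B' := IsLocalRing.comap_closedPoint φ
    obtain ⟨γ, hγ1, hγ2⟩ := H (X.presheaf.stalk x) B' φ hφ hker (X.fromSpecStalk x)
      (Spec.map (CommRingCat.ofHom b) ≫ Y.fromSpecStalk (f x))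
      (Scheme.fromSpecStalk_closedPoint) (by
        rw [← Category.assoc, ← Spec.map_comp, ← Scheme.SpecMap_stalkMap_fromSpecStalk]
        congr 2
        exact CommRingCat.hom_ext hcomp)
    have hγ : γ (IsLocalRing.closedPoint B') = x := by
      rw [← hcp]
      have := congrArg (fun g => g (IsLocalRing.closedPoint (X.presheaf.stalk x))) hγ1
      simp only [Scheme.Hom.comp_apply] at this
      rw [this]
      exact Scheme.fromSpecStalk_closedPoint
    obtain ⟨c, hc⟩ := Groth.Agent.Lib.Helper25.GrpTangent.exists_of_closedPoint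
      (R := CommRingCat.of B') γ x hγ
    refine ⟨c.hom, ?_, ?_⟩
    · have : c ≫ CommRingCat.ofHom φ = 𝟙 _ := by
        apply inj x
        rw [Spec.map_comp, Category.assoc, hc, hγ1, Spec.map_id]
        exact (Category.id_comp _).symm
      exact congrArg (fun g => g.hom) this
    · have : f.stalkMap x ≫ c = CommRingCat.ofHom b := by
        apply inj (f x)
        rw [Spec.map_comp, Category.assoc, Scheme.SpecMap_stalkMap_fromSpecStalk,
          ← Category.assoc, hc, hγ2]
      exact congrArg (fun g => g.hom) this


end Groth.Agent.S5008
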