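import Groth.Statements.S5009
import Groth.Agent.Lib.Helper25.LocalLifting
import Groth.Agent.Lib.Helper25.LocalLiftingUnram
import Groth.Agent.Lib.Helper25.NhdStalk

set_option autoImplicit false
universe u
open CategoryTheory CategoryTheory.Limits AlgebraicGeometry TopologicalSpace
open Unram17

namespace Groth.Agent.S5009

/-- Let f : X ⟶ Y be locally of finite presentation and x a point of X. Then f is (formally) unramified
on an open neighbourhood of x if and only if for every surjection of local rings B' → B with
square-zero kernel, every morphism Spec B ⟶ X sending the closed point to x and every morphism Spec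
B' ⟶ Y making the square commute, any two lifts Spec B' ⟶ X compatible with both are equal. -/
theorem result {X Y : Scheme.{u}} (f : X ⟶ Y)
    [LocallyOfFinitePresentation f] (x : ↥X) :
    (∃ U : X.Opens, x ∈ U ∧ FormallyUnramified (U.ι ≫ f)) ↔
      ∀ (B B' : Type u) [CommRing B] [CommRing B'] [IsLocalRing B] [IsLocalRing B'] (φ : B' →+* B),
      Function.Surjective φ → RingHom.ker φ ^ 2 = ⊥ →
      ∀ (α : Spec (CommRingCat.of B) ⟶ X) (β : Spec (CommRingCat.of B') ⟶ Y),
        α.base (IsLocalRing.closedPoint B) = x → Spec.map (CommRingCat.ofHom φ) ≫ β = α ≫ f →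
        ∀ γ₁ γ₂ : Spec (CommRingCat.of B') ⟶ X,
          Spec.map (CommRingCat.ofHom φ) ≫ γ₁ = α → γ₁ ≫ f = β →
          Spec.map (CommRingCat.ofHom φ) ≫ γ₂ = α → γ₂ ≫ f = β → γ₁ = γ₂ := by
  have inj : ∀ {Z : Scheme.{u}} (z : Z) {R : CommRingCat.{u}} (a a' : Z.presheaf.stalk z ⟶ R),
      Spec.map a ≫ Z.fromSpecStalk z = Spec.map a' ≫ Z.fromSpecStalk z → a = a' := by
    intro Z z R a a' h
    rw [cancel_mono] at h
    exact Spec.map_injective h
  rw [Groth.Agent.Lib.Helper25.NhdStalk.exists_unramified_nhd_iff f x]
  constructor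
  · intro hs B B' _ _ _ _ φ hφ hker α β hα hαβ γ₁ γ₂ h11 h12 h21 h22
    have hlocφ : IsLocalHom φ := IsLocalHom.of_surjective φ hφ
    have hcp : Spec.map (CommRingCat.ofHom φ) (IsLocalRing.closedPoint B) =
        IsLocalRing.closedPoint B' := IsLocalRing.comap_closedPoint φ
    have hγ : ∀ γ : Spec (CommRingCat.of B') ⟶ X, Spec.map (CommRingCat.ofHom φ) ≫ γ = α →
        γ (IsLocalRing.closedPoint B') = x := by
      intro γ h
      rw [← hcp]
      have := congrArg (fun g => g (IsLocalRing.closedPoint B)) h
      simp only [Scheme.Hom.comp_apply] at this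
      rw [this, hα]
    obtain ⟨c₁, hc₁⟩ := Groth.Agent.Lib.Helper25.GrpTangent.exists_of_closedPoint
      (R := CommRingCat.of B') γ₁ x (hγ γ₁ h11)
    obtain ⟨c₂, hc₂⟩ := Groth.Agent.Lib.Helper25.GrpTangent.exists_of_closedPoint
      (R := CommRingCat.of B') γ₂ x (hγ γ₂ h21)
    have e1 : f.stalkMap x ≫ c₁ = f.stalkMap x ≫ c₂ := by
      apply inj (f x)
      rw [Spec.map_comp, Spec.map_comp, Category.assoc, Category.assoc,
        Scheme.SpecMap_stalkMap_fromSpecStalk, ← Category.assoc, ← Category.assoc, hc₁, hc₂,
        h12, h22]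
    have e2 : c₁ ≫ CommRingCat.ofHom φ = c₂ ≫ CommRingCat.ofHom φ := by
      apply inj x
      rw [Spec.map_comp, Spec.map_comp, Category.assoc, Category.assoc, hc₁, hc₂, h11, h21]
    have := Groth.Agent.Lib.Helper25.LocalLiftingUnram.lift_unique_of_formallyUnramified
      (f.stalkMap x).hom hs φ hker c₁.hom c₂.hom (congrArg (fun g => g.hom) e1)
      (congrArg (fun g => g.hom) e2)
    rw [← hc₁, ← hc₂]
    congr 2
    exact CommRingCat.hom_ext this
  · intro H
    apply Groth.Agent.Lib.Helper25.LocalLiftingUnram.formallyUnramified_of_unique_lifting _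
      (LocallyOfFiniteType.stalkMap f x)
    intro c₁ c₂ h1 h2 h12
    have : IsLocalRing (TrivSqZeroExt (IsLocalRing.ResidueField (X.presheaf.stalk x))
        (IsLocalRing.ResidueField (X.presheaf.stalk x))) :=
      Groth.Agent.Lib.Helper25.DualPoint.isLocalRing_tsze
    have hcpres : Spec.map (CommRingCat.ofHom (IsLocalRing.residue (X.presheaf.stalk x)))
        (IsLocalRing.closedPoint (IsLocalRing.ResidueField (X.presheaf.stalk x))) =
        IsLocalRing.closedPoint (X.presheaf.stalk x) :=
      IsLocalRing.comap_closedPoint (IsLocalRing.residue (X.presheaf.stalk x))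
    have := H (IsLocalRing.ResidueField (X.presheaf.stalk x))
      (TrivSqZeroExt (IsLocalRing.ResidueField (X.presheaf.stalk x))
        (IsLocalRing.ResidueField (X.presheaf.stalk x)))
      Groth.Agent.Lib.Helper25.DualPoint.fstR
      (Groth.Agent.Lib.Helper25.LocalLiftingUnram.fstR_surjective _)
      (Groth.Agent.Lib.Helper25.LocalLiftingUnram.ker_fstR_sq _)
      (Spec.map (CommRingCat.ofHom (IsLocalRing.residue (X.presheaf.stalk x))) ≫
        X.fromSpecStalk x)
      (Spec.map (CommRingCat.ofHom (c₁.comp (f.stalkMap x).hom)) ≫ Y.fromSpecStalk (f x))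
      (by
        rw [Scheme.Hom.comp_apply, hcpres]
        exact Scheme.fromSpecStalk_closedPoint)
      (by
        rw [← Category.assoc, ← Spec.map_comp, Category.assoc,
          ← Scheme.SpecMap_stalkMap_fromSpecStalk, ← Category.assoc, ← Spec.map_comp]
        congr 2
        apply CommRingCat.hom_ext
        rw [← h1]
        rfl)
      (Spec.map (CommRingCat.ofHom c₁) ≫ X.fromSpecStalk x)
      (Spec.map (CommRingCat.ofHom c₂) ≫ X.fromSpecStalk x)
      (by
        rw [← Category.assoc, ← Spec.map_comp]
        congr 2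
        apply CommRingCat.hom_ext
        exact h1)
      (by
        rw [Category.assoc, ← Scheme.SpecMap_stalkMap_fromSpecStalk, ← Category.assoc,
          ← Spec.map_comp]
        rfl)
      (by
        rw [← Category.assoc, ← Spec.map_comp]
        congr 2
        apply CommRingCat.hom_ext
        exact h2)
      (by
        rw [Category.assoc, ← Scheme.SpecMap_stalkMap_fromSpecStalk, ← Category.assoc,
          ← Spec.map_comp]
        congr 2
        apply CommRingCat.hom_ext
        exact h12.symm)
    have h3 := inj x _ _ this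
    exact congrArg (fun g => g.hom) h3


end Groth.Agent.S5009
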