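import Groth.Statements.S5012
import Mathlib
import Groth.Agent.Lib.Helper9.SmoothRed

set_option autoImplicit false
universe u
open Unram17

namespace Groth.Agent.S5012

open TensorProduct KaehlerDifferential IsLocalRing Groth.Agent.Lib.Helper9.SmoothRed

variable (k A : Type u) [Field k] [CommRing A] [Algebra k A] [Algebra.FiniteType k A]

omit [Algebra.FiniteType k A] in
theorem isSmoothAt_of_geomReduced (p : Ideal A) [p.IsPrime] (hp : p ∈ minimalPrimes A)
    [Algebra.IsGeometricallyReduced k (Localization.AtPrime p)] : Algebra.IsSmoothAt k p := by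
  have hred : IsReduced (Localization.AtPrime p) :=
    Algebra.isReduced_of_isGeometricallyReduced k
  have hdim : Ring.KrullDimLE 0 (Localization.AtPrime p) :=
    Ring.KrullDimLE.of_isLocalization p hp _
  have hF : IsField (Localization.AtPrime p) := Ring.KrullDimLE.isField_of_isReduced
  let e : Localization.AtPrime p ≃ₐ[Localization.AtPrime p] p.ResidueField :=
    AlgEquiv.ofBijective (Algebra.ofId _ _) (bijective_residue p hF)
  have h6 : Algebra.IsGeometricallyReduced k p.ResidueField :=
    Algebra.IsGeometricallyReduced.of_injective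
      (((e.restrictScalars k).symm : p.ResidueField ≃ₐ[k] Localization.AtPrime p) :
        p.ResidueField →ₐ[k] Localization.AtPrime p)
      (AlgEquiv.injective _)
  have h7 : Algebra.FormallySmooth k p.ResidueField :=
    (Groth.Agent.Lib.Helper23.FieldSep.formallySmooth_iff_isGeometricallyReduced k _).mpr h6
  exact Algebra.FormallySmooth.of_equiv (e.restrictScalars k).symm

theorem main :
    (∃ U : TopologicalSpace.Opens (PrimeSpectrum A), Dense (U : Set (PrimeSpectrum A)) ∧
        ∀ p ∈ U, Algebra.IsSmoothAt k p.asIdeal) ↔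
      ∀ (p : Ideal A) [p.IsPrime], p ∈ minimalPrimes A →
        Algebra.IsGeometricallyReduced k (Localization.AtPrime p) := by
  have hfp : Algebra.FinitePresentation k A := Algebra.FinitePresentation.of_finiteType.mp inferInstance
  have hN : IsNoetherianRing A := Algebra.FiniteType.isNoetherianRing k A
  constructor
  · rintro ⟨U, hU, hsm⟩ p hp hmin
    -- the generic point lies in U
    have hfin : (minimalPrimes A).Finite := minimalPrimes.finite_of_isNoetherianRing A
    let Z : Set (PrimeSpectrum A) := ⋃ q ∈ (minimalPrimes A \ {p}), PrimeSpectrum.zeroLocus (q : Set A)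
    have hZ : IsClosed Z := by
      apply Set.Finite.isClosed_biUnion (hfin.subset Set.sdiff_subset)
      intro q _
      exact PrimeSpectrum.isClosed_zeroLocus _
    have hpZ : (⟨p, hp⟩ : PrimeSpectrum A) ∈ Zᶜ := by
      intro hmem
      simp only [Z, Set.mem_iUnion, PrimeSpectrum.mem_zeroLocus, SetLike.coe_subset_coe] at hmem
      obtain ⟨q, hq, hqp⟩ := hmem
      have : p ≤ q := hmin.2 ⟨hq.1.1.1, bot_le⟩ hqp
      exact hq.2 (le_antisymm hqp this)
    obtain ⟨x, hxZ, hxU⟩ := hU.inter_open_nonempty Zᶜ hZ.isOpen_compl ⟨_, hpZ⟩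
    obtain ⟨q₀, hq₀, hq₀x⟩ := Ideal.exists_minimalPrimes_le (I := (⊥ : Ideal A)) (J := x.asIdeal) bot_le
    have hq₀p : q₀ = p := by
      by_contra hne
      apply hxZ
      simp only [Z, Set.mem_iUnion, PrimeSpectrum.mem_zeroLocus, SetLike.coe_subset_coe]
      exact ⟨q₀, ⟨hq₀, hne⟩, hq₀x⟩
    subst hq₀p
    have hpU : (⟨q₀, hp⟩ : PrimeSpectrum A) ∈ U := by
      have hspec : (⟨q₀, hp⟩ : PrimeSpectrum A) ⤳ x := by
        rw [← PrimeSpectrum.le_iff_specializes]
        exact hq₀x
      exact hspec.mem_open U.2 hxU
    have hs : Algebra.IsSmoothAt k q₀ := hsm _ hpU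
    exact Groth.Agent.Lib.Helper23.FieldSep.isGeometricallyReduced_of_formallySmooth k _
  · intro h
    refine ⟨⟨Algebra.smoothLocus k A, Algebra.isOpen_smoothLocus⟩, ?_, fun p hp => hp⟩
    intro x
    rw [mem_closure_iff]
    intro o ho hxo
    obtain ⟨q₀, hq₀, hq₀x⟩ := Ideal.exists_minimalPrimes_le (I := (⊥ : Ideal A)) (J := x.asIdeal) bot_le
    have hq₀p : q₀.IsPrime := hq₀.1.1
    have hspec : (⟨q₀, hq₀p⟩ : PrimeSpectrum A) ⤳ x := by
      rw [← PrimeSpectrum.le_iff_specializes]
      exact hq₀x
    refine ⟨⟨q₀, hq₀p⟩, hspec.mem_open ho hxo, ?_⟩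
    have := h q₀ hq₀
    exact isSmoothAt_of_geomReduced k A q₀ hq₀



/-- Let A be an algebra of finite type over a field k. Then Spec A has a dense open subset consisting of
points at which A is smooth over k if and only if, for every minimal prime p of A, the local ring
A_p is geometrically reduced over k (that is, A_p is a field and a separable extension of k). -/
theorem result (k A : Type u) [Field k] [CommRing A] [Algebra k A]
    [Algebra.FiniteType k A] :
    (∃ U : TopologicalSpace.Opens (PrimeSpectrum A), Dense (U : Set (PrimeSpectrum A)) ∧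
        ∀ p ∈ U, Algebra.IsSmoothAt k p.asIdeal) ↔
      ∀ (p : Ideal A) [p.IsPrime], p ∈ minimalPrimes A →
        Algebra.IsGeometricallyReduced k (Localization.AtPrime p) := by
  exact main k A

end Groth.Agent.S5012
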