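import Groth.Statements.S5014
import Mathlib
import Groth.Agent.S2789
-- import your own Groth.Agent.* helpers here

set_option autoImplicit false
universe u
open Unram17

namespace Groth.Agent.S5014

open scoped TensorProduct

theorem bijective_iff_of_basis {R M N ι : Type*} [CommRing R] [AddCommGroup M] [Module R M]
    [AddCommGroup N] [Module R N] (b : Module.Basis ι R M) (φ : M →ₗ[R] N) :
    Function.Bijective φ ↔
      LinearIndependent R (φ ∘ b) ∧ Submodule.span R (Set.range (φ ∘ b)) = ⊤ := by
  constructor
  · intro hbij
    refine ⟨b.linearIndependent.map' φ (LinearMap.ker_eq_bot.mpr hbij.1), ?_⟩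
    rw [Set.range_comp, ← Submodule.map_span, b.span_eq, Submodule.map_top,
      LinearMap.range_eq_top.mpr hbij.2]
  · rintro ⟨hli, hsp⟩
    let b' : Module.Basis ι R N := Module.Basis.mk hli hsp.ge
    let e := b.equiv b' (Equiv.refl _)
    have : φ = e.toLinearMap := by
      apply b.ext
      intro i
      simp [e, b']
    rw [this]
    exact e.bijective


/-- Let C be a smooth algebra over a commutative ring A, equipped with an A-algebra map from the
polynomial ring in r variables (images s_i of the variables), and let q be a prime of C. Then C is
etale at q over the polynomial ring if and only if the differentials of the s_i are linearly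
independent and generate the module of differentials of the local ring C_q over A, i.e. form a basis
of it. -/
theorem result (A C : Type u) [CommRing A] [CommRing C]
    [Algebra A C] [Algebra.Smooth A C] (r : ℕ) [Algebra (MvPolynomial (Fin r) A) C]
    [IsScalarTower A (MvPolynomial (Fin r) A) C] (q : Ideal C) [q.IsPrime] :
    Algebra.IsEtaleAt (MvPolynomial (Fin r) A) q ↔
      LinearIndependent (Localization.AtPrime q)
          (fun i : Fin r => KaehlerDifferential.D A (Localization.AtPrime q)
            (algebraMap C (Localization.AtPrime q) (algebraMap (MvPolynomial (Fin r) A) C (MvPolynomial.X i)))) ∧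
        Submodule.span (Localization.AtPrime q)
          (Set.range fun i : Fin r => KaehlerDifferential.D A (Localization.AtPrime q)
            (algebraMap C (Localization.AtPrime q) (algebraMap (MvPolynomial (Fin r) A) C (MvPolynomial.X i)))) = ⊤ := by
  have hsmC : Algebra.FormallySmooth C (Localization.AtPrime q) :=
    Algebra.FormallySmooth.of_isLocalization q.primeCompl
  have hsm : Algebra.FormallySmooth A (Localization.AtPrime q) :=
    Algebra.FormallySmooth.comp A C (Localization.AtPrime q)
  unfold Algebra.IsEtaleAt
  rw [Groth.Agent.S2789.etale_tower_iff A (MvPolynomial (Fin r) A) (Localization.AtPrime q)]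
  rw [bijective_iff_of_basis ((KaehlerDifferential.mvPolynomialBasis A (Fin r)).baseChange
    (Localization.AtPrime q))]
  have hfun : (fun i : Fin r => KaehlerDifferential.D A (Localization.AtPrime q)
      (algebraMap C (Localization.AtPrime q)
        (algebraMap (MvPolynomial (Fin r) A) C (MvPolynomial.X i)))) =
      (KaehlerDifferential.mapBaseChange A (MvPolynomial (Fin r) A) (Localization.AtPrime q)) ∘
        ((KaehlerDifferential.mvPolynomialBasis A (Fin r)).baseChange
          (Localization.AtPrime q)) := by
    funext i
    simp only [Function.comp_apply, Module.Basis.baseChange_apply,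
      KaehlerDifferential.mvPolynomialBasis_apply,
      KaehlerDifferential.mapBaseChange_tmul, one_smul, KaehlerDifferential.map_D]
    rw [IsScalarTower.algebraMap_apply (MvPolynomial (Fin r) A) C (Localization.AtPrime q)]
  rw [hfun]

end Groth.Agent.S5014
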