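import Groth.Statements.S5016
import Mathlib
import Groth.Agent.Helper19.OmegaD8
import Groth.Agent.Helper19.FSmooth
-- import your own Groth.Agent.* helpers here

set_option autoImplicit false
universe u
open CategoryTheory CategoryTheory.Limits AlgebraicGeometry TopologicalSpace
open Unram17

namespace Groth.Agent.S5016

section helpers

open scoped TensorProduct
open Groth.Agent.Lib.Helper29.QCoh Groth.Agent.Helper19.OmegaD Groth.Agent.Helper19.OmegaLocal
open Groth.Agent.Helper19.OmegaAlg

theorem mapBaseChange_injective_of_formallySmooth (R A B : Type u) [CommRing R] [CommRing A]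
    [CommRing B] [Algebra R A] [Algebra A B] [Algebra R B] [IsScalarTower R A B]
    [Algebra.FormallySmooth A B] :
    Function.Injective (KaehlerDifferential.mapBaseChange R A B) := by
  rw [injective_iff_map_eq_zero]
  intro x hx
  obtain ⟨y, rfl⟩ := (Algebra.H1Cotangent.exact_δ_mapBaseChange R A B x).mp hx
  rw [Subsingleton.elim y 0, map_zero]

variable {X Y S : Scheme.{u}} (g : Y ⟶ S) (f : X ⟶ Y) (hf : MoreMor.IsFormallySmoothHom f)
  (ΩY : Y.Modules) (dY : OmegaSh.Der g ΩY) (hY : OmegaSh.IsUniversal dY)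
  (ΩX : X.Modules) (dX : OmegaSh.Der (f ≫ g) ΩX) (hX : OmegaSh.IsUniversal dX)
  (c : (Scheme.Modules.pullback f).obj ΩY ⟶ ΩX) (hc : OmegaSh.IsDiffCompat f dY dX c)

include hf hY hX hc in
theorem app_injective {U : X.Opens} (hU : IsAffineOpen U) {V : Y.Opens} (hV : IsAffineOpen V)
    {W : S.Opens} (hW : IsAffineOpen W) (hUV : U ≤ f ⁻¹ᵁ V) (hVW : V ≤ g ⁻¹ᵁ W) :
    Function.Injective (c.app U) := by
  have hUW := le_comp_preimage g f hUV hVW
  letI := algΓ g hVW
  letI := algΓ (f ≫ g) hUW
  letI := algΓ f hUV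
  haveI := isScalarTower_tri g f hUV hVW
  haveI : Algebra.FormallySmooth Γ(Y, V) Γ(X, U) :=
    Groth.Agent.Helper19.FSmooth.formallySmooth_appLE_of_isFormallySmoothHom f hf U V hU hV hUV
  obtain ⟨P, EX, -, hPE⟩ :=
    exists_local_diffCompat' g (f ≫ g) f dY hY dX hX c hc hV hW hVW hU hW hUW hUV
  let κ₁ : Γ(X, U) ⊗[Γ(Y, V)] Ω[Γ(Y, V)⁄Γ(S, W)] →ₗ[Γ(X, U)] Ω[Γ(X, U)⁄Γ(S, W)] :=
    EX.toLinearMap ∘ₗ (appₗ c U) ∘ₗ P.symm.toLinearMap
  have hκ₁ : κ₁ = KaehlerDifferential.mapBaseChange Γ(S, W) Γ(Y, V) Γ(X, U) :=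
    eq_mapBaseChange _ _ _ κ₁ (fun b' b => hPE b' b)
  have hinj : Function.Injective κ₁ := by
    rw [hκ₁]
    exact mapBaseChange_injective_of_formallySmooth _ _ _
  intro m₁ m₂ hm
  have h1 : κ₁ (P m₁) = κ₁ (P m₂) := by
    change EX (c.app U (P.symm (P m₁))) = EX (c.app U (P.symm (P m₂)))
    rw [LinearEquiv.symm_apply_apply, LinearEquiv.symm_apply_apply, hm]
  exact P.injective (hinj h1)

end helpers

/-- Let g : Y ⟶ S, h : X ⟶ S and f : X ⟶ Y with f ≫ g = h, and suppose f is formally smooth. Given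
sheaves of differentials of Y over S and of X over S (universal derivations) and the canonical
compatible map c from the pullback of the former to the latter, c is a monomorphism of O_X-modules.
(The published statement also identifies the cokernel of this map with the sheaf of differentials of
X over Y and splits the sequence locally; this row states only that the map is injective.) -/
theorem result {X Y S : Scheme.{u}} (g : Y ⟶ S) (h : X ⟶ S)
    (f : X ⟶ Y) (w : f ≫ g = h) (hf : MoreMor.IsFormallySmoothHom f)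
    (ΩY : Y.Modules) (dY : OmegaSh.Der g ΩY) (hY : OmegaSh.IsUniversal dY)
    (ΩX : X.Modules) (dX : OmegaSh.Der h ΩX) (hX : OmegaSh.IsUniversal dX)
    (c : (Scheme.Modules.pullback f).obj ΩY ⟶ ΩX) (hc : OmegaSh.IsDiffCompat f dY dX c) :
    Mono c := by
  subst w
  apply Groth.Agent.Helper19.OmegaD.mono_of_injective_on_basis c
    (Groth.Agent.Helper19.OmegaD.triOpens g f) (Groth.Agent.Helper19.OmegaD.isBasis_triOpens g f)
  rintro U ⟨hU, V, W, hV, hW, hUV, hVW⟩
  exact app_injective g f hf ΩY dY hY ΩX dX hX c hc hU hV hW hUV hVW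

end Groth.Agent.S5016
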