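import Groth.Statements.S5018
import Mathlib
import Groth.Agent.Helper19.OmegaD8
import Groth.Agent.Helper19.FSmooth
import Groth.Agent.Lib.Helper29.QCohLocFree
-- import your own Groth.Agent.* helpers here

set_option autoImplicit false
universe u
open CategoryTheory CategoryTheory.Limits AlgebraicGeometry TopologicalSpace
open Unram17

namespace Groth.Agent.S5018

/-- Let f : X ⟶ Y be formally smooth and locally of finite type, and let (Ω', d) be a sheaf of
differentials of X over Y, i.e. d a universal Y-derivation of O_X into Ω'. Then Ω' is finite locally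
free. (The published statement also shows that the sheaf of differentials is locally projective for
every formally smooth f; this row states only the case of f locally of finite type.) -/
theorem result {X Y : Scheme.{u}} (f : X ⟶ Y)
    (hf : MoreMor.IsFormallySmoothHom f) [LocallyOfFiniteType f]
    (Ω' : X.Modules) (d : OmegaSh.Der f Ω') (hd : OmegaSh.IsUniversal d) :
    FlatMod.IsFinLocFree Ω' := by
  haveI := Groth.Agent.Helper19.OmegaD.isQuasicoherent_of_universal f d hd
  have key : ∀ p : Groth.Agent.Helper19.OmegaD.GoodPair f,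
      Module.Finite Γ(X, p.1.1) Γ(Ω', p.1.1) ∧ Module.Projective Γ(X, p.1.1) Γ(Ω', p.1.1) := by
    intro p
    letI := Groth.Agent.Helper19.OmegaLocal.algΓ f p.2.2.2
    obtain ⟨L⟩ := Groth.Agent.Helper19.OmegaD.nonempty_linearEquiv_sections_of_universal f d hd
      p.2.1 p.2.2.1 p.2.2.2
    have hft : Algebra.FiniteType Γ(Y, p.1.2) Γ(X, p.1.1) :=
      f.finiteType_appLE p.2.2.1 p.2.1 p.2.2.2
    haveI : Algebra.EssFiniteType Γ(Y, p.1.2) Γ(X, p.1.1) := inferInstance
    haveI : Algebra.FormallySmooth Γ(Y, p.1.2) Γ(X, p.1.1) :=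
      Groth.Agent.Helper19.FSmooth.formallySmooth_appLE_of_isFormallySmoothHom f hf _ _
        p.2.1 p.2.2.1 p.2.2.2
    exact ⟨Module.Finite.equiv L.symm, Module.Projective.of_equiv L.symm⟩
  exact Groth.Agent.Lib.Helper29.QCoh.isFinLocFree_of_finite_projective_sections Ω'
    (fun p : Groth.Agent.Helper19.OmegaD.GoodPair f => p.1.1)
    (Groth.Agent.Helper19.OmegaD.isOpenCover_goodPair f) (fun p => p.2.1)
    (fun p => (key p).1) (fun p => (key p).2)

end Groth.Agent.S5018
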