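import Groth.Statements.S5027
import Groth.Agent.Lib.Helper25.AdaptedGerms
import Groth.Agent.Lib.Helper25.LocalDimRing

set_option autoImplicit false
universe u
open Unram17

namespace Groth.Agent.S5027

/-- Let A be an algebra of finite type over a field k, p a prime of A such that Spec A has local
dimension n at p, and r the Krull dimension of the local ring A_p. Then A_p is regular and the
residue field κ(p) is a separable extension of k (geometrically reduced over k) if and only if there
exist n elements of the local ring A_p (germs at p in place of sections over an open neighbourhood
of p, which is equivalent) of which those with index < r generate the maximal ideal and the residue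
classes of the remaining ones have differentials generating the module of differentials of κ(p) over
k. -/
theorem result (k A : Type u) [Field k]
    [CommRing A] [Algebra k A] [Algebra.FiniteType k A] (n r : ℕ) (p : Ideal A) [p.IsPrime]
    (hn : FlatMor.localDim (PrimeSpectrum A) ⟨p, inferInstance⟩ = (n : WithBot ℕ∞))
    (hr : ringKrullDim (Localization.AtPrime p) = (r : WithBot ℕ∞)) :
    (IsRegularLocalRing (Localization.AtPrime p) ∧ Algebra.IsGeometricallyReduced k p.ResidueField) ↔
      ∃ g : Fin n → Localization.AtPrime p,
        Ideal.span (g '' {i : Fin n | (i : ℕ) < r}) = IsLocalRing.maximalIdeal (Localization.AtPrime p) ∧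
          Submodule.span p.ResidueField ((fun i : Fin n =>
            KaehlerDifferential.D k p.ResidueField (IsLocalRing.residue (Localization.AtPrime p) (g i))) ''
              {i : Fin n | r ≤ (i : ℕ)}) = ⊤ := by
  have : IsNoetherianRing A := Algebra.FiniteType.isNoetherianRing k A
  have : IsNoetherianRing (Localization.AtPrime p) :=
    IsLocalization.isNoetherianRing p.primeCompl _ inferInstance
  have : Algebra.EssFiniteType k (Localization.AtPrime p) := Algebra.EssFiniteType.comp k A _
  obtain ⟨a, ha⟩ := Groth.Agent.Lib.Helper25.FieldKaehlerSep.exists_nat_trdeg k p.ResidueField
  have hnar : n = a + r := by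
    have h := Groth.Agent.Lib.Helper25.LocalDimRing.localDim_eq_add k A p a r ha hr
    rw [hn] at h
    exact_mod_cast h
  constructor
  · rintro ⟨hreg, hsep⟩
    exact Groth.Agent.Lib.Helper25.AdaptedGerms.exists_adapted_of_regular_sep k
      (Localization.AtPrime p) n r a hnar ha hr hreg hsep
  · rintro ⟨g, h1, h2⟩
    exact Groth.Agent.Lib.Helper25.AdaptedGerms.regular_sep_of_exists_adapted k
      (Localization.AtPrime p) n r a hnar ha hr g h1 h2


end Groth.Agent.S5027
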