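import Groth.Statements.S5029
import Mathlib
import Groth.Agent.Lib.Helper3.SymQCAlg2
import Groth.Agent.Lib.Helper3.QCAlgLift
import Groth.Agent.Lib.Helper29.QCohLocFree
-- import your own Groth.Agent.* helpers here

set_option autoImplicit false
universe u
open CategoryTheory CategoryTheory.Limits AlgebraicGeometry TopologicalSpace
open Unram17

namespace Groth.Agent.S5029

open CategoryTheory CategoryTheory.Limits AlgebraicGeometry TopologicalSpace Opposite


open Groth.Agent.Lib.Helper29.QCoh
open Groth.Agent.Lib.Helper3 Groth.Agent.Lib.Helper3.SymQC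

/-- Let S be a scheme and E a quasi-coherent O_S-module that is finite locally free. If A is a
quasi-coherent O_S-algebra which is the symmetric algebra of E (through j : E ⟶ A), then the
structure morphism of the relative spectrum of A, i.e. of the vector bundle V(E), is smooth. -/
theorem result {S : Scheme.{u}} (E : S.Modules) (hE : Coh.IsQCoh E)
    (hlf : FlatMod.IsFinLocFree E) (A : RelSpec.QCAlg S) (j : E ⟶ A.toModule) (hA : RelSpec.IsSymAlg E A j) :
    Smooth A.π := by
  haveI : E.IsQuasicoherent := hE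
  rw [HasRingHomProperty.iff_exists_appLE (P := @Smooth)
    (RingHom.Smooth.stableUnderComposition.stableUnderCompositionWithLocalizationAway
      RingHom.Smooth.holdsForLocalizationAway).1]
  intro x
  obtain ⟨U, n, hU, hxU, ⟨le⟩⟩ := exists_affine_linearEquiv_of_isFinLocFree hlf (A.π x)
  refine ⟨⟨U, hU⟩, ⟨A.π ⁻¹ᵁ U, hU.preimage A.π⟩, hxU, le_rfl, ?_⟩
  change (A.π.appLE U (A.π ⁻¹ᵁ U) le_rfl).hom.Smooth
  rw [Scheme.Hom.appLE_eq_app]
  obtain ⟨e, he1, he2⟩ := exists_ringEquiv_of_isSymAlg hA U hU
  haveI := isIso_gammaAff A U hU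
  have h1 := A.π_app_gammaAff U hU
  -- π.app U = str ≫ inv gammaAff
  have h2 : A.π.app U = A.str.app (op U) ≫ inv (A.gammaAff U hU) := by
    rw [← h1, Category.assoc, IsIso.hom_inv_id, Category.comp_id]
  rw [h2]
  -- the structure map is smooth
  have hstr : (A.str.app (op U)).hom.Smooth := by
    have h3 : (A.str.app (op U)).hom =
        (e : SymmetricAlgebra Γ(S, U) Γ(E, U) →+* _).comp
          (algebraMap Γ(S, U) (SymmetricAlgebra Γ(S, U) Γ(E, U))) := by
      ext r
      exact (he1 r).symm
    rw [h3]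
    refine RingHom.Smooth.comp ?_ (RingHom.Smooth.of_bijective e.bijective)
    rw [RingHom.smooth_algebraMap]
    let b : Module.Basis (Fin n) Γ(S, U) Γ(E, U) := ⟨le⟩
    haveI : Algebra.Smooth Γ(S, U) (MvPolynomial (Fin n) Γ(S, U)) :=
      ⟨inferInstance, inferInstance⟩
    exact Algebra.Smooth.of_equiv (SymmetricAlgebra.equivMvPolynomial b).symm
  rw [CommRingCat.hom_comp]
  exact RingHom.Smooth.comp hstr
    (RingHom.Smooth.of_bijective (ConcreteCategory.bijective_of_isIso (inv (A.gammaAff U hU))))

end Groth.Agent.S5029
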