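import Groth.Statements.S5033
import Groth.Agent.Lib.Helper21.RegularQuotient
import Mathlib.Tactic
-- import your own Groth.Agent.* helpers here

set_option autoImplicit false
universe u
open CInt

namespace Groth.Agent.S5033

open IsLocalRing Groth.Agent.Lib.Helper21

theorem ofList_ofFn {R : Type*} [CommRing R] {n : ℕ} (x : Fin n → R) :
    Ideal.ofList (List.ofFn x) = Ideal.span (Set.range x) := by
  unfold Ideal.ofList
  congr 1
  ext r
  simp [List.mem_ofFn]

theorem forward (A : Type u) [CommRing A] [IsRegularLocalRing A] (J : Ideal A)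
    [IsRegularLocalRing (A ⧸ J)] : CInt.IsRegularIdeal J := by
  obtain ⟨d, hd⟩ := exists_nat_eq_ringKrullDim (R := A)
  obtain ⟨x, c, hc, hx, hJ⟩ := exists_generators_of_regular_quotient A d hd J
  have hreg := isRegular_ofFn_of_span_eq_maximalIdeal d A hd x hx
  refine ⟨List.ofFn (fun i : Fin c => x (Fin.castLE hc i)), ?_, ?_⟩
  · apply RingTheory.Sequence.IsRegular.of_isWeaklyRegular_of_mem_maximalIdeal
    · intro r hr
      rw [List.mem_ofFn] at hr
      obtain ⟨i, rfl⟩ := hr
      rw [← hx]
      exact Ideal.subset_span ⟨_, rfl⟩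
    · have hsplit : List.ofFn x = List.ofFn (fun i : Fin c => x (Fin.castLE hc i)) ++
          (List.ofFn x).drop c := by
        have : List.ofFn (fun i : Fin c => x (Fin.castLE hc i)) = (List.ofFn x).take c := by
          apply List.ext_getElem
          · simp [hc]
          · intro i h1 h2
            simp
        rw [this, List.take_append_drop]
      have := hreg.toIsWeaklyRegular
      rw [hsplit, RingTheory.Sequence.isWeaklyRegular_append_iff] at this
      exact this.1
  · rw [ofList_ofFn, hJ]

theorem backward (A : Type u) [CommRing A] [IsNoetherianRing A]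
    [IsLocalRing A] (J : Ideal A) [IsRegularLocalRing (A ⧸ J)] (h : CInt.IsRegularIdeal J) :
    IsRegularLocalRing A := by
  classical
  obtain ⟨rs, hreg, rfl⟩ := h
  have hdim := ringKrullDim_add_length_eq_ringKrullDim_of_isRegular rs hreg
  apply IsRegularLocalRing.of_spanFinrank_maximalIdeal_le
  set I := Ideal.ofList rs with hI
  obtain ⟨t, htcard, htspan⟩ := Submodule.FG.exists_span_finset_card_eq_spanFinrank
    (maximalIdeal (A ⧸ I)).fg_of_isNoetherianRing
  have hs : Function.Surjective (Ideal.Quotient.mk I) := Ideal.Quotient.mk_surjective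
  let g : A ⧸ I → A := Function.surjInv hs
  have hg : ∀ y, Ideal.Quotient.mk I (g y) = y := Function.surjInv_eq hs
  have : IsLocalHom (Ideal.Quotient.mk I) := IsLocalHom.of_surjective _ hs
  have h1 : maximalIdeal A = Ideal.span (g '' (t : Set (A ⧸ I))) ⊔ I := by
    rw [← IsLocalRing.maximalIdeal_comap (Ideal.Quotient.mk I), ← htspan]
    change (Ideal.span _).comap _ = _
    rw [comap_span_eq_span_image_sup_ker _ hs g hg, Ideal.mk_ker]
  have h2 : maximalIdeal A = Ideal.span (g '' (t : Set (A ⧸ I)) ∪ {r | r ∈ rs}) := by
    rw [h1, Ideal.span_union]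
  have hfin : (g '' (t : Set (A ⧸ I)) ∪ {r | r ∈ rs}).Finite :=
    ((Finset.finite_toSet t).image g).union (List.finite_toSet rs)
  have h3 : (maximalIdeal A).spanFinrank ≤ t.card + rs.length := by
    rw [h2]
    refine (Submodule.spanFinrank_span_le_ncard_of_finite hfin).trans ?_
    refine (Set.ncard_union_le _ _).trans ?_
    have e1 := Set.ncard_image_le (f := g) (Finset.finite_toSet t)
    rw [Set.ncard_coe_finset] at e1
    have e2 : ({r | r ∈ rs} : Set A).ncard ≤ rs.length := by
      have : ({r | r ∈ rs} : Set A) = (rs.toFinset : Set A) := by ext; simp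
      rw [this, Set.ncard_coe_finset]
      exact List.toFinset_card_le rs
    omega
  have h4 : ((maximalIdeal (A ⧸ I)).spanFinrank : WithBot ℕ∞) = ringKrullDim (A ⧸ I) :=
    IsRegularLocalRing.spanFinrank_maximalIdeal
  rw [← hdim, ← h4, ← htcard]
  exact_mod_cast h3

/-- Let A be a Noetherian local ring and J an ideal such that A/J is a regular local ring. Then A is a
regular local ring if and only if J is generated by a regular sequence of A. -/
theorem result (A : Type u) [CommRing A] [IsNoetherianRing A]
    [IsLocalRing A] (J : Ideal A) [IsRegularLocalRing (A ⧸ J)] :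
    IsRegularLocalRing A ↔ CInt.IsRegularIdeal J := by
  constructor
  · intro h
    exact forward A J
  · exact backward A J

end Groth.Agent.S5033
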