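import Groth.Statements.S5035
import Mathlib
import Groth.Agent.Lib.Helper4.HznQF
import Groth.Agent.S0502

set_option autoImplicit false
universe u
open Hensel

namespace Groth.Agent.S5035

open Groth.Agent.Lib.Helper4 in
/-- a) iff c') (affine form): a local ring R is henselian if and only if, for every R-algebra S of
finite type and every prime q of S lying over the maximal ideal of R such that S is quasi-finite
over R at q, the local ring S_q is a finitely generated R-module. -/
theorem result (R : Type u) [CommRing R] [IsLocalRing R] :
    HenselianLocalRing R ↔
      ∀ (S : Type u) [CommRing S] [Algebra R S] [Algebra.FiniteType R S] (q : Ideal S) [q.IsPrime],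
        q.LiesOver (IsLocalRing.maximalIdeal R) → Algebra.QuasiFiniteAt R q →
          Module.Finite R (Localization.AtPrime q) := by
  constructor
  · intro hR S _ _ _ q _ hlies hqf
    refine Hzn.finite_localization_of_quasiFiniteAt R S q ?_
    rw [Ideal.map_le_iff_le_comap]
    exact le_of_eq hlies.over
  · intro h
    refine Groth.Agent.S0502.result R ?_
    intro S _ _ _ q _ hlies hsurj
    have hQ : (IsLocalRing.maximalIdeal R).map (algebraMap R S) ≤ q := by
      rw [Ideal.map_le_iff_le_comap]
      exact le_of_eq hlies.over
    have hEFT : Algebra.EssFiniteType R (Localization.AtPrime q) :=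
      Algebra.EssFiniteType.comp R S _
    have hFU : Algebra.FormallyUnramified R (Localization.AtPrime q) :=
      Algebra.FormallyUnramified.comp R S _
    have hqf : Algebra.QuasiFiniteAt R q := inferInstance
    have hfin : Module.Finite R (Localization.AtPrime q) := h S q hlies hqf
    have hloc : IsLocalHom (algebraMap R (Localization.AtPrime q)) :=
      Hzn.isLocalHom_algebraMap_atPrime R S q hQ
    have hflat : Module.Flat R (Localization.AtPrime q) := Module.Flat.trans R S _
    have hmax : (IsLocalRing.maximalIdeal R).map (algebraMap R (Localization.AtPrime q)) =
        IsLocalRing.maximalIdeal (Localization.AtPrime q) :=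
      Algebra.FormallyUnramified.map_maximalIdeal
    -- surjectivity via Nakayama
    have hsurjL : Function.Surjective (algebraMap R (Localization.AtPrime q)) := by
      have hle : (⊤ : Submodule R (Localization.AtPrime q)) ≤
          LinearMap.range (Algebra.linearMap R (Localization.AtPrime q)) := by
        refine Submodule.le_of_le_smul_of_le_jacobson_bot (I := IsLocalRing.maximalIdeal R)
          Module.Finite.fg_top ?_ ?_
        · rw [IsLocalRing.jacobson_eq_maximalIdeal ⊥ bot_ne_top]
        · intro x _
          obtain ⟨r, hr⟩ := hsurj (IsLocalRing.residue (Localization.AtPrime q) x)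
          have h1 : x - algebraMap R (Localization.AtPrime q) r ∈
              IsLocalRing.maximalIdeal (Localization.AtPrime q) := by
            rw [← Ideal.Quotient.eq_zero_iff_mem]
            change IsLocalRing.residue (Localization.AtPrime q) _ = 0
            rw [map_sub, ← hr, sub_eq_zero]
            rfl
          rw [← hmax] at h1
          have h2 : x - algebraMap R (Localization.AtPrime q) r ∈
              (IsLocalRing.maximalIdeal R • ⊤ : Submodule R (Localization.AtPrime q)) := by
            rw [Ideal.smul_top_eq_map]
            exact h1
          have h3 : x = algebraMap R (Localization.AtPrime q) r +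
              (x - algebraMap R (Localization.AtPrime q) r) := by ring
          rw [h3]
          exact Submodule.add_mem_sup ⟨r, rfl⟩ h2
      intro x
      obtain ⟨r, hr⟩ := hle (Submodule.mem_top : x ∈ ⊤)
      exact ⟨r, hr⟩
    have hff : Module.FaithfullyFlat R (Localization.AtPrime q) :=
      Module.FaithfullyFlat.of_flat_of_isLocalHom
    have hinj : Function.Injective (algebraMap R (Localization.AtPrime q)) :=
      FaithfulSMul.algebraMap_injective R _
    let e : R ≃ₐ[R] Localization.AtPrime q :=
      AlgEquiv.ofBijective (Algebra.ofId R _) ⟨hinj, hsurjL⟩
    exact ⟨(e.symm : Localization.AtPrime q →ₐ[R] R).comp (IsScalarTower.toAlgHom R S _)⟩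

end Groth.Agent.S5035
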