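import Groth.Statements.S5038
import Mathlib
import Groth.Agent.S0536

set_option autoImplicit false
open CategoryTheory AlgebraicGeometry
universe u
open Hensel

namespace Groth.Agent.S5038

open Groth.Agent.Lib.Helper4 in
/-- Let A be a henselian local ring with residue field k, S = Spec A, and f : X ⟶ S a smooth morphism.
Then the map from sections of f to k-points of the closed fibre is surjective: every u₀ : Spec k ⟶ X
lying over the closed point extends to a section u of f. -/
theorem result (A : Type u) [CommRing A] [HenselianLocalRing A]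
    {X : Scheme.{u}} (f : X ⟶ Spec (CommRingCat.of A)) [Smooth f]
    (u₀ : Spec (CommRingCat.of (IsLocalRing.ResidueField A)) ⟶ X)
    (h₀ : u₀ ≫ f = Spec.map (CommRingCat.ofHom (IsLocalRing.residue A))) :
    ∃ u : Spec (CommRingCat.of A) ⟶ X, u ≫ f = 𝟙 _ ∧
      Spec.map (CommRingCat.ofHom (IsLocalRing.residue A)) ≫ u = u₀ := by
  classical
  let k := IsLocalRing.ResidueField A
  let pt : (Spec (CommRingCat.of k) : Scheme.{u}) := default
  let x : X := u₀ pt
  let R : CommRingCat.{u} := X.affineOpenCover.X (X.affineOpenCover.idx x)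
  let j : Spec R ⟶ X := X.affineOpenCover.f (X.affineOpenCover.idx x)
  have hj : IsOpenImmersion j := X.affineOpenCover.map_prop _
  have hx : x ∈ Set.range j := X.affineOpenCover.covers x
  have hrange : Set.range u₀ ⊆ Set.range j := by
    rintro _ ⟨y, rfl⟩
    have : y = pt := Subsingleton.elim _ _
    rw [this]
    exact hx
  let v₀ : Spec (CommRingCat.of k) ⟶ Spec R :=
    IsOpenImmersion.lift j u₀ hrange
  have hv₀ : v₀ ≫ j = u₀ := IsOpenImmersion.lift_fac j u₀ hrange
  obtain ⟨φ, hφ⟩ := Spec.map_surjective (j ≫ f)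
  obtain ⟨ψ, hψ⟩ := Spec.map_surjective v₀
  have hsm : Smooth (Spec.map φ) := by
    rw [hφ]; infer_instance
  have hφsm : φ.hom.Smooth := (HasRingHomProperty.Spec_iff (P := @Smooth)).mp hsm
  have hcomp : φ ≫ ψ = CommRingCat.ofHom (IsLocalRing.residue A) := by
    apply Spec.map_injective
    rw [Spec.map_comp, hφ, hψ, ← Category.assoc, hv₀, h₀]
  let _ : Algebra A R := φ.hom.toAlgebra
  have _ : Algebra.Smooth A R := hφsm
  let σ : R →ₐ[A] A ⧸ IsLocalRing.maximalIdeal A :=
    { ψ.hom with
      commutes' := fun a => by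
        have := congrArg (fun g => g.hom a) hcomp
        exact this }
  obtain ⟨τ, hτ⟩ := Groth.Agent.S0536.result A R A (IsLocalRing.maximalIdeal A) σ
  refine ⟨Spec.map (CommRingCat.ofHom τ.toRingHom) ≫ j, ?_, ?_⟩
  · rw [Category.assoc, ← hφ, ← Spec.map_comp]
    have : φ ≫ CommRingCat.ofHom τ.toRingHom = 𝟙 _ := by
      ext a
      exact τ.commutes a
    exact (congrArg Spec.map this).trans (Spec.map_id _)
  · rw [← Category.assoc, ← Spec.map_comp, ← hv₀, ← hψ]
    congr 2
    ext r
    exact DFunLike.congr_fun hτ r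

end Groth.Agent.S5038
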