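import Groth.Statements.S5039
import Mathlib
import Groth.Agent.Lib.Helper23.ReducedDescent
import Groth.Agent.S2772
import Groth.Agent.Lib.Helper18.GenFib2
import Groth.Agent.Lib.Helper18.Nag8
import Groth.Agent.Lib.Helper18.NagFT12
import Groth.Agent.Lib.Helper18.PMor2
import Groth.Agent.Lib.Helper18.PMor4
-- import your own Groth.Agent.* helpers here

set_option autoImplicit false
universe u
open Hensel

namespace Groth.Agent.S5039

open TensorProduct Function IsLocalRing
open Groth.Agent.Lib.Helper18.Nag

/-- transport of geometric reducedness of fibres along an isomorphism of algebras. -/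
theorem geomReduced_fiber_of_algEquiv {R T T' : Type u} [CommRing R] [CommRing T] [CommRing T']
    [Algebra R T] [Algebra R T'] (e : T ≃ₐ[R] T') (p : Ideal R) [p.IsPrime]
    (h : Algebra.IsGeometricallyReduced p.ResidueField (p.Fiber T')) :
    Algebra.IsGeometricallyReduced p.ResidueField (p.Fiber T) := by
  haveI := h
  let ε : p.Fiber T ≃ₐ[p.ResidueField] p.Fiber T' :=
    Algebra.TensorProduct.congr (AlgEquiv.refl : p.ResidueField ≃ₐ[p.ResidueField] p.ResidueField) e
  exact Algebra.IsGeometricallyReduced.of_injective ε.toAlgHom ε.injective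

set_option maxHeartbeats 1600000 in

/-- Let R be a Noetherian local ring and S its henselization. Then S is universally Japanese if and only
if R is. -/
theorem result (R S : Type u) [CommRing R] [IsLocalRing R] [IsNoetherianRing R]
    [CommRing S] [IsLocalRing S] [Algebra R S] [IsLocalHom (algebraMap R S)] [Hensel.IsHenselization R S] :
    CAlg.IsUniversallyJapanese S ↔ CAlg.IsUniversallyJapanese R := by
  haveI : IsNoetherianRing S :=
    (Groth.Agent.Lib.Helper4.Hzn.isNoetherianRing_iff_of_isHenselization R S).mp inferInstance
  haveI := Groth.Agent.Lib.Helper4.Hzn.faithfullyFlat_of_isHenselization R S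
  have hind := Groth.Agent.Lib.Helper4.IndEt.isIndEtale_of_isHenselization R S
  obtain ⟨e⟩ := Groth.Agent.S2772.nonempty_algEquiv_cpl R S
  haveI : IsScalarTower R S (EGA4.Cpl S) := IsScalarTower.of_algebraMap_eq fun a => rfl
  haveI : IsNoetherianRing (EGA4.Cpl S) :=
    Groth.Agent.Lib.Helper21.isNoetherianRing_adicCompletion_of_fg _
      (maximalIdeal S).fg_of_isNoetherianRing
  constructor
  · intro hS
    have hNS : CAlg.IsNagata S := (isNagata_iff_isUniversallyJapanese S).mpr ⟨inferInstance, hS⟩
    have hFS := hasGeomReducedFormalFibres_of_isNagata S hNS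
    have hRS := Groth.Agent.Lib.Helper9.IndEtaleRegular.isRegularHom_of_isIndEtale R S hind
    have hFR : EGA4.HasGeomReducedFormalFibres R := by
      intro p _
      have h1 := Groth.Agent.Lib.Helper18.PMor.isGeometricallyReduced_fiber_comp R S (EGA4.Cpl S)
        (fun p' _ => Groth.Agent.Lib.Helper18.PMor.isGeometricallyReduced_of_isGeometricallyRegular
          (hRS.2 p').2)
        (fun q _ => hFS q) p
      exact geomReduced_fiber_of_algEquiv e p h1
    exact ((isNagata_iff_isUniversallyJapanese R).mp
      (isNagata_of_hasGeomReducedFormalFibres R hFR)).2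
  · intro hR
    have hNR : CAlg.IsNagata R := (isNagata_iff_isUniversallyJapanese R).mpr ⟨inferInstance, hR⟩
    have hFR := hasGeomReducedFormalFibres_of_isNagata R hNR
    have hFS : EGA4.HasGeomReducedFormalFibres S := by
      intro q _
      refine Groth.Agent.Lib.Helper23.ReducedDescent.isGeometricallyReduced_fiber_of_base R S (EGA4.Cpl S) q
        (fun x hx => Groth.Agent.Lib.Helper9.IndEtaleRegular.exists_mul_mem_map R S hind q x hx)
        (Groth.Agent.Lib.Helper9.IndEtaleRegular.isSeparable_residueField R S hind q) ?_
      exact geomReduced_fiber_of_algEquiv e.symm (q.under R) (hFR (q.under R))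
    exact ((isNagata_iff_isUniversallyJapanese S).mp
      (isNagata_of_hasGeomReducedFormalFibres S hFS)).2

end Groth.Agent.S5039
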