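import Groth.Statements.S5040
import Mathlib
import Groth.Agent.Lib.Helper18.Ratliff4
import Groth.Agent.Lib.Helper4.HznNoethC
import Groth.Agent.Lib.Helper4.HznAss
import Groth.Agent.Lib.Helper4.HznProps

set_option autoImplicit false
universe u
open Hensel

namespace Groth.Agent.S5040

/-- Let R be a Noetherian local ring with henselization S. If R is formally catenary (the completion of
R/p is equidimensional for every prime ideal p), then S is formally catenary. -/
theorem result (R S : Type u) [CommRing R] [IsLocalRing R] [IsNoetherianRing R]
    [CommRing S] [IsLocalRing S] [Algebra R S] [IsLocalHom (algebraMap R S)] [Hensel.IsHenselization R S]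
    (h : EGA4.IsFormallyCatenary R) : EGA4.IsFormallyCatenary S := by
  open Groth.Agent.Lib.Helper4.Hzn in
  · haveI : IsNoetherianRing S := (isNoetherianRing_iff_of_isHenselization R S).mp inferInstance
    haveI : Module.FaithfullyFlat R S := faithfullyFlat_of_isHenselization R S
    have hm := map_maximalIdeal_of_isHenselization R S
    have hres : Function.Surjective
        ((Ideal.Quotient.mk (IsLocalRing.maximalIdeal S)).comp (algebraMap R S)) := by
      intro y
      obtain ⟨x, rfl⟩ := Ideal.Quotient.mk_surjective y
      obtain ⟨a, ha⟩ := exists_sub_mem_of_isHenselization R S x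
      refine ⟨a, ?_⟩
      rw [RingHom.comp_apply, eq_comm, Ideal.Quotient.eq]
      exact ha
    exact Groth.Agent.Lib.Helper18.Ratliff.isFormallyCatenary_of_flat_incomparable R S hm hres
      (fun P Q _ _ hPQ hu => incomparable_of_isHenselization R S P Q hPQ hu) h

end Groth.Agent.S5040
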