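import Groth.Statements.S5048
import Mathlib.AlgebraicGeometry.Morphisms.UniversallyOpen
import Mathlib.AlgebraicGeometry.Morphisms.QuasiFinite
-- import your own Groth.Agent.* helpers here

set_option autoImplicit false
open CategoryTheory AlgebraicGeometry
universe u
open Unram

namespace Groth.Agent.S5048


lemma mem_irreducibleComponents_iff {α : Type*} [TopologicalSpace α] [QuasiSober α] [T0Space α] (x : α) :
    closure ({x} : Set α) ∈ irreducibleComponents α ↔ ∀ x' : α, x' ⤳ x → x' = x := by
  constructor
  · intro h x' hx'
    have hirr : IsIrreducible (closure ({x'} : Set α)) := isIrreducible_singleton.closure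
    have hle : closure ({x} : Set α) ⊆ closure ({x'} : Set α) :=
      closure_minimal (Set.singleton_subset_iff.mpr hx'.mem_closure) isClosed_closure
    have hge : closure ({x'} : Set α) ⊆ closure ({x} : Set α) := h.2 hirr hle
    have heq : closure ({x'} : Set α) = closure ({x} : Set α) := Set.Subset.antisymm hge hle
    exact (show IsGenericPoint x' (closure {x}) from heq).eq (show IsGenericPoint x (closure {x}) from rfl)
  · intro h
    have hirr : IsIrreducible (closure ({x} : Set α)) := isIrreducible_singleton.closure
    obtain ⟨C, hC, hxC⟩ := exists_mem_irreducibleComponents_subset_of_isIrreducible _ hirr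
    have hCclosed : IsClosed C := isClosed_of_mem_irreducibleComponents C hC
    have hgen := hC.1.isGenericPoint_genericPoint hCclosed
    have hx' : hC.1.genericPoint ⤳ x := by
      rw [specializes_iff_mem_closure, hgen.def]
      exact hxC (subset_closure rfl)
    have := h _ hx'
    rw [this] at hgen
    rw [hgen.def]
    exact hC

/-- Let Y be an irreducible scheme with generic point η and f : X ⟶ Y flat, locally of finite type and
locally quasi-finite. Then a point x of X maps to η if and only if its closure is an irreducible
component of X; thus the irreducible components of X are in canonical bijection with the fibre over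
η. -/
theorem result {X Y : Scheme.{u}} [IrreducibleSpace ↥Y] (f : X ⟶ Y)
    [Flat f] [LocallyOfFiniteType f] [LocallyQuasiFinite f] (x : X) :
    f.base x = genericPoint Y ↔ closure ({x} : Set ↥X) ∈ irreducibleComponents ↥X := by
  rw [mem_irreducibleComponents_iff]
  constructor
  · intro hx x' hx'
    have h1 : f.base x' ⤳ f.base x := hx'.map f.continuous
    have h2 : f.base x' = genericPoint Y := by
      rw [hx] at h1
      exact (h1.antisymm (genericPoint_specializes _)).eq
    have hdisc : DiscreteTopology (f.base ⁻¹' {genericPoint Y}) :=
      isDiscrete_iff_discreteTopology.mp (f.isDiscrete_preimage_singleton (genericPoint Y))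
    have h3 : (⟨x', h2⟩ : f.base ⁻¹' {genericPoint Y}) ⤳ ⟨x, hx⟩ := by
      rw [subtype_specializes_iff]; exact hx'
    exact congrArg Subtype.val h3.eq
  · intro h
    obtain ⟨x', hx', hfx'⟩ := (Flat.generalizingMap f) (genericPoint_specializes (f.base x))
    rw [h x' hx'] at hfx'
    exact hfx'

end Groth.Agent.S5048
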