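import Groth.Statements.S5049
import Groth.Agent.S5048
import Mathlib.AlgebraicGeometry.Morphisms.UniversallyOpen
import Mathlib.AlgebraicGeometry.Morphisms.QuasiFinite
-- import your own Groth.Agent.* helpers here

set_option autoImplicit false
open CategoryTheory AlgebraicGeometry
universe u
open Unram

namespace Groth.Agent.S5049

/-- Let f : X ⟶ Y be flat, locally of finite type and locally quasi-finite. If the irreducible
components of Y form a locally finite family of subsets, then so do the irreducible components of X. -/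
theorem result {X Y : Scheme.{u}} (f : X ⟶ Y)
    [Flat f] [LocallyOfFiniteType f] [LocallyQuasiFinite f]
    (hY : LocallyFinite (fun Z : ↥(irreducibleComponents ↥Y) => (Z : Set ↥Y))) :
    LocallyFinite (fun Z : ↥(irreducibleComponents ↥X) => (Z : Set ↥X)) := by
  intro x
  obtain ⟨W, hW, hWfin⟩ := hY (f.base x)
  obtain ⟨W', hW'W, hW'open, hxW'⟩ := mem_nhds_iff.mp hW
  obtain ⟨V, hVaff, hxV, hVW'⟩ : ∃ V : Y.Opens, IsAffineOpen V ∧ f.base x ∈ V ∧ V ≤ (⟨W', hW'open⟩ : Y.Opens) :=
    TopologicalSpace.Opens.isBasis_iff_nbhd.mp Y.isBasis_affineOpens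
      (show f.base x ∈ (⟨W', hW'open⟩ : Y.Opens) from hxW')
  obtain ⟨U, hUaff, hxU, hUV⟩ : ∃ U : X.Opens, IsAffineOpen U ∧ x ∈ U ∧ U ≤ f ⁻¹ᵁ V :=
    TopologicalSpace.Opens.isBasis_iff_nbhd.mp X.isBasis_affineOpens
      (show x ∈ f ⁻¹ᵁ V from hxV)
  refine ⟨U, U.2.mem_nhds hxU, ?_⟩
  have : IsAffine U.toScheme := hUaff
  have : IsAffine V.toScheme := hVaff
  -- finite set of generic points in Y
  let G : Set Y := ⋃ C ∈ {C : ↥(irreducibleComponents ↥Y) | ((C : Set Y) ∩ W).Nonempty}, {y | closure {y} = (C : Set Y)}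
  have hG : G.Finite := by
    refine Set.Finite.biUnion hWfin (fun C _ => Set.Subsingleton.finite ?_)
    intro y hy y' hy'
    exact (show IsGenericPoint y (C : Set Y) from hy).eq (show IsGenericPoint y' (C : Set Y) from hy')
  have hG' : (Subtype.val ⁻¹' G : Set V).Finite := hG.preimage Subtype.val_injective.injOn
  have hT : (U.ι.base '' ((f.resLE V U hUV).base ⁻¹' (Subtype.val ⁻¹' G))).Finite :=
    ((f.resLE V U hUV).finite_preimage hG').image _
  refine Set.Finite.subset (hT.image (fun ξ => closure {ξ}) |>.preimage Subtype.val_injective.injOn) ?_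
  rintro ⟨Z, hZ⟩ hZU
  have hZclosed : IsClosed Z := isClosed_of_mem_irreducibleComponents Z hZ
  have hgen := hZ.1.isGenericPoint_genericPoint hZclosed
  set ξ := hZ.1.genericPoint with hξ
  have hξU : ξ ∈ U := (hgen.mem_open_set_iff U.2).mpr hZU
  have hξmax : ∀ x' : X, x' ⤳ ξ → x' = ξ := by
    rw [← Groth.Agent.S5048.mem_irreducibleComponents_iff, hgen.def]
    exact hZ
  have hfξ : closure ({f.base ξ} : Set Y) ∈ irreducibleComponents ↥Y := by
    rw [Groth.Agent.S5048.mem_irreducibleComponents_iff]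
    intro y' hy'
    obtain ⟨x', hx', hfx'⟩ := (Flat.generalizingMap f) hy'
    rw [← hfx', hξmax x' hx']
  have hfξG : f.base ξ ∈ G := by
    refine Set.mem_biUnion (x := (⟨closure {f.base ξ}, hfξ⟩ : ↥(irreducibleComponents ↥Y))) ?_ ?_
    · exact ⟨f.base ξ, subset_closure rfl, hW'W (hVW' (hUV hξU))⟩
    · show closure {f.base ξ} = closure {f.base ξ}
      rfl
  refine ⟨ξ, ⟨⟨ξ, hξU⟩, ?_, rfl⟩, hgen.def⟩
  show ((f.resLE V U hUV).base ⟨ξ, hξU⟩).1 ∈ G
  rw [Scheme.Hom.coe_resLE_apply]
  exact hfξG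

end Groth.Agent.S5049
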