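import Groth.Statements.S5050
import Mathlib.RingTheory.Filtration
-- import your own Groth.Agent.* helpers here

set_option autoImplicit false
universe u v
open CInt

namespace Groth.Agent.S5050

/-- Let A be a Noetherian ring, N a finitely generated A-module, E and F submodules of N and Q an ideal
of A. For every natural number k there is h > 0 with E ⊓ (F ⊔ Q^h N) ≤ (E ⊓ F) ⊔ Q^k N. -/
theorem result {A : Type u} [CommRing A] [IsNoetherianRing A] {N : Type v} [AddCommGroup N]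
    [Module A N] [Module.Finite A N] (E F : Submodule A N) (Q : Ideal A) (k : ℕ) :
    ∃ h : ℕ, 0 < h ∧ E ⊓ (F ⊔ Q ^ h • (⊤ : Submodule A N)) ≤ (E ⊓ F) ⊔ Q ^ k • (⊤ : Submodule A N) := by
  obtain ⟨c, hc⟩ := Ideal.exists_pow_inf_eq_pow_smul Q (E.map F.mkQ)
  refine ⟨k + c + 1, Nat.succ_pos _, ?_⟩
  rintro x ⟨hxE, hx⟩
  obtain ⟨f, hf, y, hy, rfl⟩ := Submodule.mem_sup.mp hx
  have h1 : F.mkQ (f + y) ∈ Q ^ (k + c + 1) • (⊤ : Submodule A (N ⧸ F)) := by
    have : F.mkQ (f + y) = F.mkQ y := by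
      rw [map_add, Submodule.mkQ_apply, Submodule.mkQ_apply, (Submodule.Quotient.mk_eq_zero F).mpr hf, zero_add]
    rw [this]
    have h2 : F.mkQ y ∈ Submodule.map F.mkQ (Q ^ (k + c + 1) • (⊤ : Submodule A N)) :=
      Submodule.mem_map_of_mem hy
    rw [Submodule.map_smul''] at h2
    exact Submodule.smul_mono le_rfl le_top h2
  have h3 : F.mkQ (f + y) ∈ Q ^ (k + c + 1) • (⊤ : Submodule A (N ⧸ F)) ⊓ E.map F.mkQ :=
    ⟨h1, Submodule.mem_map_of_mem hxE⟩
  rw [hc (k + c + 1) (by omega)] at h3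
  have h4 : F.mkQ (f + y) ∈ Q ^ k • E.map F.mkQ := by
    have hle : Q ^ (k + c + 1 - c) • (Q ^ c • (⊤ : Submodule A (N ⧸ F)) ⊓ E.map F.mkQ) ≤ Q ^ k • E.map F.mkQ :=
      Submodule.smul_mono (Ideal.pow_le_pow_right (by omega)) inf_le_right
    exact hle h3
  rw [← Submodule.map_smul''] at h4
  obtain ⟨e, he, hee⟩ := h4
  have heE : e ∈ E := Submodule.smul_le_right he
  have heQ : e ∈ Q ^ k • (⊤ : Submodule A N) := Submodule.smul_mono le_rfl le_top he
  have hker : (f + y) - e ∈ F := by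
    rw [← Submodule.Quotient.mk_eq_zero F, Submodule.Quotient.mk_sub]
    exact sub_eq_zero.mpr hee.symm
  have : f + y = ((f + y) - e) + e := by abel
  rw [this]
  exact Submodule.add_mem_sup ⟨E.sub_mem hxE heE, hker⟩ heQ

end Groth.Agent.S5050
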