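import Groth.Statements.S5051
import Mathlib
import Groth.Agent.Lib.Helper6.GN4
import Groth.Agent.Lib.Helper6.EtaleSq
-- import your own Groth.Agent.* helpers here

set_option autoImplicit false
open CategoryTheory AlgebraicGeometry
universe u
open Unram

namespace Groth.Agent.S5051

/-- Let f : X ⟶ Y be étale, separated and of finite type. Then y ↦ (number of points of the geometric
fibre of f at y) is lower semicontinuous on Y. -/
theorem result {X Y : Scheme.{u}} (f : X ⟶ Y) [Etale f] [IsSeparated f]
    [LocallyOfFiniteType f] [QuasiCompact f] :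
    LowerSemicontinuous (fun y : Y => ENat.card ↥(MoreMor.geomFiber f y)) := by
  haveI : AlgebraicGeometry.LocallyQuasiFinite f :=
    Groth.Agent.Lib.Helper6.EtaleSq.locallyQuasiFinite_of_etale f
  have h : (fun y : Y => ENat.card ↥(MoreMor.geomFiber f y)) =
      fun y : Y => MoreMor.nGeomConnComp f y := by
    ext y
    exact Groth.Agent.Lib.Helper6.GN.card_geomFiber_eq f y
  rw [h]
  intro y c hc
  obtain ⟨V, hV, hVc⟩ := Groth.Agent.Lib.Helper6.GN.exists_nhds_le f y
    (fun x _ => Groth.Agent.Lib.Helper6.GN.isUnivOpenAt_of_universallyOpen f x)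
  exact Filter.mem_of_superset hV fun z hz => lt_of_lt_of_le hc (hVc z hz)

end Groth.Agent.S5051
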