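import Groth.Statements.S5052
import Mathlib
import Groth.Agent.Lib.Helper6.GN4
import Groth.Agent.Lib.Helper6.EtaleSq
-- import your own Groth.Agent.* helpers here

set_option autoImplicit false
open CategoryTheory AlgebraicGeometry
universe u
open Unram

namespace Groth.Agent.S5052

/-- Let f : X ⟶ Y be étale, separated and of finite type, and y a point of Y. The number of points of
the geometric fibre is constant on a neighbourhood of y if and only if the restriction of f over
some open neighbourhood of y is a finite morphism. -/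
theorem result {X Y : Scheme.{u}} (f : X ⟶ Y) [Etale f] [IsSeparated f]
    [LocallyOfFiniteType f] [QuasiCompact f] (y : Y) :
    (∃ U : Y.Opens, y ∈ U ∧ ∀ y' : Y, y' ∈ U → ENat.card ↥(MoreMor.geomFiber f y') = ENat.card ↥(MoreMor.geomFiber f y)) ↔
      ∃ U : Y.Opens, y ∈ U ∧ IsFinite (f ∣_ U) := by
  haveI : AlgebraicGeometry.LocallyQuasiFinite f :=
    Groth.Agent.Lib.Helper6.EtaleSq.locallyQuasiFinite_of_etale f
  simp only [Groth.Agent.Lib.Helper6.GN.card_geomFiber_eq]
  constructor
  · rintro ⟨U, hyU, hU⟩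
    exact Groth.Agent.Lib.Helper6.GN.exists_isFinite_restrict f y
      (fun x _ => Groth.Agent.Lib.Helper6.GN.isUnivOpenAt_of_universallyOpen f x)
      ⟨U, U.isOpen.mem_nhds hyU, fun z hz => hU z hz⟩
  · rintro ⟨U, hyU, hfin⟩
    haveI := hfin
    have hlc := Groth.Agent.Lib.Helper6.GN.isLocallyConstant_nGeomConnComp (f ∣_ U)
    have hbc : ∀ u : U, MoreMor.nGeomConnComp (f ∣_ U) u = MoreMor.nGeomConnComp f (U.ι u) :=
      fun u => Groth.Agent.Lib.Helper6.GN.nGeomConnComp_baseChange
        (AlgebraicGeometry.isPullback_morphismRestrict f U).flip u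
    obtain ⟨W, hWo, hyW, hW⟩ := (IsLocallyConstant.iff_exists_open _).mp hlc ⟨y, hyU⟩
    refine ⟨⟨U.ι '' W, U.ι.isOpenEmbedding.isOpenMap _ hWo⟩, ⟨⟨y, hyU⟩, hyW, rfl⟩, ?_⟩
    rintro _ ⟨w, hw, rfl⟩
    have h1 := hW w hw
    rw [hbc, hbc] at h1
    exact h1

end Groth.Agent.S5052
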