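import Groth.Statements.S5053
import Mathlib
import Groth.Agent.Lib.Helper6.GN4
import Groth.Agent.Lib.Helper6.EtaleSq
-- import your own Groth.Agent.* helpers here

set_option autoImplicit false
open CategoryTheory AlgebraicGeometry
universe u
open Unram

namespace Groth.Agent.S5053

/-- Let Y be a connected scheme and f : X ⟶ Y étale, separated and of finite type. Then f is finite if
and only if all geometric fibres of f have the same number of points. -/
theorem result {X Y : Scheme.{u}} [ConnectedSpace ↥Y] (f : X ⟶ Y)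
    [Etale f] [IsSeparated f] [LocallyOfFiniteType f] [QuasiCompact f] :
    IsFinite f ↔ ∃ n : ℕ∞, ∀ y : Y, ENat.card ↥(MoreMor.geomFiber f y) = n := by
  haveI : AlgebraicGeometry.LocallyQuasiFinite f :=
    Groth.Agent.Lib.Helper6.EtaleSq.locallyQuasiFinite_of_etale f
  simp only [Groth.Agent.Lib.Helper6.GN.card_geomFiber_eq]
  constructor
  · intro hfin
    haveI := hfin
    have hlc := Groth.Agent.Lib.Helper6.GN.isLocallyConstant_nGeomConnComp f
    obtain ⟨y₀⟩ : Nonempty ↥Y := inferInstance
    exact ⟨MoreMor.nGeomConnComp f y₀, fun y => hlc.apply_eq_of_preconnectedSpace y y₀⟩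
  · rintro ⟨n, hn⟩
    refine AlgebraicGeometry.IsZariskiLocalAtTarget.of_forall_exists_morphismRestrict
      (P := @AlgebraicGeometry.IsFinite) fun y => ?_
    obtain ⟨U, hyU, hU⟩ := Groth.Agent.Lib.Helper6.GN.exists_isFinite_restrict f y
      (fun x _ => Groth.Agent.Lib.Helper6.GN.isUnivOpenAt_of_universallyOpen f x)
      ⟨Set.univ, Filter.univ_mem, fun z _ => by rw [hn, hn]⟩
    exact ⟨U, hyU, hU⟩

end Groth.Agent.S5053
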