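import Groth.Statements.S5057
-- import your own Groth.Agent.* helpers here

set_option autoImplicit false
open CategoryTheory CategoryTheory.Limits AlgebraicGeometry
universe u
open Hensel

namespace Groth.Agent.S5057

/-- Let i : S₀ ⟶ S be a closed immersion such that for every finite morphism g : S' ⟶ S every
open-closed subset of S' ×_S S₀ is the inverse image under the first projection of exactly one
open-closed subset of S'. Then for every finite morphism g : S' ⟶ S, every open subset of S'
containing the image of S' ×_S S₀ is all of S'. -/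
theorem result {S S₀ : Scheme.{u}} (i : S₀ ⟶ S) [IsClosedImmersion i]
    (ha : ∀ (S' : Scheme.{u}) (g : S' ⟶ S), IsFinite g →
      ∀ V : Set ↥(pullback g i), IsClopen V → ∃! U : Set ↥S', IsClopen U ∧ (pullback.fst g i).base ⁻¹' U = V)
    {S' : Scheme.{u}} (g : S' ⟶ S) [IsFinite g] (U : Set ↥S') (hU : IsOpen U)
    (hU₀ : Set.range (pullback.fst g i).base ⊆ U) : U = Set.univ := by
  let Z : TopologicalSpace.Closeds S' := ⟨Uᶜ, hU.isClosed_compl⟩
  let I := Scheme.IdealSheafData.vanishingIdeal Z
  have hrange : Set.range I.subschemeι = Uᶜ := by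
    rw [Scheme.IdealSheafData.range_subschemeι, Scheme.IdealSheafData.coe_support_vanishingIdeal]
    rfl
  have hfin : IsFinite (I.subschemeι ≫ g) := inferInstance
  have hempty : IsEmpty ↑(pullback (I.subschemeι ≫ g) i) := by
    refine ⟨fun w => ?_⟩
    set z := pullback.fst (I.subschemeι ≫ g) i w with hz
    set s₀ := pullback.snd (I.subschemeι ≫ g) i w with hs₀
    have hcond : g (I.subschemeι z) = i s₀ := by
      have := congrArg (fun t : pullback (I.subschemeι ≫ g) i ⟶ S => t w) (pullback.condition (f := I.subschemeι ≫ g) (g := i))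
      simpa [hz, hs₀] using this
    obtain ⟨w', hw', -⟩ := Scheme.Pullback.exists_preimage_pullback (f := g) (g := i) _ _ hcond
    have h1 : I.subschemeι z ∈ U := hU₀ ⟨w', hw'⟩
    have h2 : I.subschemeι z ∈ Uᶜ := hrange ▸ Set.mem_range_self z
    exact h2 h1
  obtain ⟨U', -, huniq⟩ := ha I.subscheme (I.subschemeι ≫ g) hfin ∅ isClopen_empty
  have e1 : (∅ : Set I.subscheme) = U' :=
    huniq ∅ ⟨isClopen_empty, Set.eq_empty_of_isEmpty _⟩
  have e2 : (Set.univ : Set I.subscheme) = U' :=
    huniq Set.univ ⟨isClopen_univ, Set.eq_empty_of_isEmpty _⟩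
  have hsub : IsEmpty I.subscheme := by
    rw [← Set.univ_eq_empty_iff, e2, ← e1]
  have : Uᶜ = (∅ : Set S') := by
    rw [← hrange]
    exact Set.range_eq_empty _
  exact Set.compl_empty_iff.mp this

end Groth.Agent.S5057
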