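import Groth.Statements.S5060
import Groth.Agent.Lib.Helper16.HNF8

set_option autoImplicit false
universe u
open CInt

namespace Groth.Agent.S5060

section helpers
open CInt

theorem result_aux (A : Type u) [CommRing A] [IsNoetherianRing A]
    (R : Ideal A) {n : ℕ} (f : Fin n → A) (hrad : ∀ i, f i ∈ (⊥ : Ideal A).jacobson)
    (hreg : RingTheory.Sequence.IsWeaklyRegular (A ⧸ R) (List.ofFn f))
    (hreggr : ∀ k : ℕ, RingTheory.Sequence.IsWeaklyRegular (↥(R ^ k • (⊤ : Submodule A A)) ⧸ (R • (⊤ : Submodule A ↥(R ^ k • (⊤ : Submodule A A))))) (List.ofFn f))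
    (M : Type u) [AddCommGroup M] [Module A M] [Module.Finite A M] :
    EGA4.IsNormallyFlat R M ↔
      EGA4.IsNormallyFlat (R ⊔ Ideal.span (Set.range f)) M ∧
        ∀ (p : Ideal (A ⧸ R)) [p.IsPrime],
          p ∈ associatedPrimes (A ⧸ R) ((A ⧸ R) ⧸ Ideal.map (Ideal.Quotient.mk R) (R ⊔ Ideal.span (Set.range f))) →
            ∀ k : ℕ, Module.Flat (Localization.AtPrime p) (LocalizedModule p.primeCompl (↥(R ^ k • (⊤ : Submodule A M)) ⧸ (R • (⊤ : Submodule A ↥(R ^ k • (⊤ : Submodule A M)))))) := by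
  classical
  have hJ : ∀ x ∈ List.ofFn f, x ∈ (⊥ : Ideal A).jacobson := by
    intro x hx
    obtain ⟨i, rfl⟩ := (List.mem_ofFn' f x).mp hx
    exact hrad i
  have hQ : R ⊔ Ideal.span (Set.range f) = R ⊔ Ideal.ofList (List.ofFn f) := by
    congr 1
    unfold Ideal.ofList
    congr 1
    ext x
    simp [List.mem_ofFn']
  constructor
  · intro hNF
    have h1 : Groth.Agent.Lib.Helper16.HNF.NF (R ⊔ Ideal.ofList (List.ofFn f)) M :=
      Groth.Agent.Lib.Helper16.HNF.NF_sup_ofList M (List.ofFn f) R hreg hNF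
    refine ⟨(Groth.Agent.Lib.Helper16.HNF.NF_congr hQ M).mpr h1, ?_⟩
    intro p _ _ k
    have := hNF k
    infer_instance
  · rintro ⟨hNFQ, hH⟩
    refine Groth.Agent.Lib.Helper16.HNF.NF_of_NF_sup M (List.ofFn f) hJ R hreg
      ((Groth.Agent.Lib.Helper16.HNF.NF_congr hQ M).mp hNFQ) ?_
    intro P _ hP k
    have hP' : P ∈ associatedPrimes A (A ⧸ (R ⊔ Ideal.span (Set.range f))) :=
      (Groth.Agent.Lib.Helper16.HNF.ass_congr hQ P).mpr hP
    have hRP : R ≤ P := le_sup_left.trans (Groth.Agent.Lib.Helper16.HNF.le_of_mem_ass _ P hP')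
    have hmem := Groth.Agent.Lib.Helper16.HNF.map_mem_ass R _ P le_sup_left hP'
    have hprime : (P.map (Ideal.Quotient.mk R)).IsPrime := hmem.isPrime
    exact Groth.Agent.Lib.Helper16.HNF.flat_Gn_localizedModule R P hRP M k
      (hH (P.map (Ideal.Quotient.mk R)) hmem k)

end helpers

/-- a) iff d) in the Noetherian case: let A be a Noetherian ring, R an ideal, f_1, …, f_n elements of
the Jacobson radical of A forming a regular sequence on A/R and on every R^k/R^(k+1), Q = R + (f_1,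
…, f_n), and M a finitely generated A-module. Then every R^k M / R^(k+1) M is flat over A/R if and
only if every Q^k M / Q^(k+1) M is flat over A/Q and, for every associated prime p of A/Q viewed as
an (A/R)-module, every localized piece (R^k M / R^(k+1) M)_p is flat over (A/R)_p. -/
theorem result (A : Type u) [CommRing A] [IsNoetherianRing A]
    (R : Ideal A) {n : ℕ} (f : Fin n → A) (hrad : ∀ i, f i ∈ (⊥ : Ideal A).jacobson)
    (hreg : RingTheory.Sequence.IsWeaklyRegular (A ⧸ R) (List.ofFn f))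
    (hreggr : ∀ k : ℕ, RingTheory.Sequence.IsWeaklyRegular (↥(R ^ k • (⊤ : Submodule A A)) ⧸ (R • (⊤ : Submodule A ↥(R ^ k • (⊤ : Submodule A A))))) (List.ofFn f))
    (M : Type u) [AddCommGroup M] [Module A M] [Module.Finite A M] :
    EGA4.IsNormallyFlat R M ↔
      EGA4.IsNormallyFlat (R ⊔ Ideal.span (Set.range f)) M ∧
        ∀ (p : Ideal (A ⧸ R)) [p.IsPrime],
          p ∈ associatedPrimes (A ⧸ R) ((A ⧸ R) ⧸ Ideal.map (Ideal.Quotient.mk R) (R ⊔ Ideal.span (Set.range f))) →
            ∀ k : ℕ, Module.Flat (Localization.AtPrime p) (LocalizedModule p.primeCompl (↥(R ^ k • (⊤ : Submodule A M)) ⧸ (R • (⊤ : Submodule A ↥(R ^ k • (⊤ : Submodule A M)))))) := by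
  exact result_aux A R f hrad hreg hreggr M

end Groth.Agent.S5060
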