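import Groth.Statements.S5063
import Groth.Agent.Lib.Helper25.PullbackStalk
import Groth.Agent.Lib.Helper25.UnramLocalStructure

set_option autoImplicit false
open CategoryTheory CategoryTheory.Limits AlgebraicGeometry
universe u
open Unram

namespace Groth.Agent.S5063

/-- Let f : X ⟶ Y be locally of finite presentation. If f is unramified then there are étale morphisms
g_a : Y'_a ⟶ Y and opens U_a of the fibre products X ×_Y Y'_a whose images under the first
projections cover X, such that each U_a ⟶ Y'_a (inclusion followed by the second projection) is a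
closed immersion. Conversely, the existence of such a family with the g_a only assumed flat implies
that f is unramified. -/
theorem result {X Y : Scheme.{u}} (f : X ⟶ Y) [LocallyOfFinitePresentation f] :
    (FormallyUnramified f → ∃ (ι : Type u) (Y' : ι → Scheme.{u}) (g : ∀ a, Y' a ⟶ Y) (U : ∀ a, (pullback f (g a)).Opens),
      (∀ a, Etale (g a)) ∧ (∀ x : X, ∃ a, x ∈ (pullback.fst f (g a)).base '' (U a : Set ↥(pullback f (g a)))) ∧
        ∀ a, IsClosedImmersion ((U a).ι ≫ pullback.snd f (g a))) ∧
    ((∃ (ι : Type u) (Y' : ι → Scheme.{u}) (g : ∀ a, Y' a ⟶ Y) (U : ∀ a, (pullback f (g a)).Opens),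
      (∀ a, Flat (g a)) ∧ (∀ x : X, ∃ a, x ∈ (pullback.fst f (g a)).base '' (U a : Set ↥(pullback f (g a)))) ∧
        ∀ a, IsClosedImmersion ((U a).ι ≫ pullback.snd f (g a))) → FormallyUnramified f) := by
  constructor
  · intro hf
    have H : ∀ x : X, ∃ (Y' : Scheme.{u}) (g : Y' ⟶ Y) (U : (pullback f g).Opens), Etale g ∧
        x ∈ (pullback.fst f g).base '' (U : Set ↥(pullback f g)) ∧
        IsClosedImmersion (U.ι ≫ pullback.snd f g) := fun x =>
      Groth.Agent.Lib.Helper25.UnramLocalStructure.exists_etale_nhd_closedImmersion f x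
        (FormallyUnramified.stalkMap f x)
    choose Y' g U hg hx hU using H
    exact ⟨X, Y', g, U, hg, fun x => ⟨x, hx x⟩, hU⟩
  · rintro ⟨ι, Y', g, U, hg, hcov, hU⟩
    refine HasRingHomProperty.of_stalkMap RingHom.FormallyUnramified.ofLocalizationPrime fun x => ?_
    obtain ⟨a, u, huU, rfl⟩ := hcov x
    have := hU a
    have H : IsPullback (pullback.fst f (g a)) (pullback.snd f (g a)) f (g a) :=
      IsPullback.of_hasPullback f (g a)
    have h1 : ((pullback.snd f (g a)).stalkMap u).hom.FormallyUnramified :=
      Groth.Agent.Lib.Helper13.formallyUnramified_stalkMap_of_ι_comp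
        (pullback.snd f (g a)) (U a) huU
    exact Groth.Agent.Lib.Helper25.PullbackStalk.formallyUnramified_stalkMap_of_isPullback H u h1


end Groth.Agent.S5063
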