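import Groth.Statements.S5064
import Groth.Agent.Lib.Helper25.PullbackStalk

set_option autoImplicit false
open CategoryTheory CategoryTheory.Limits AlgebraicGeometry
universe u
open Unram

namespace Groth.Agent.S5064

/-- Let f : X ⟶ Y be locally of finite presentation. If f is étale then there are étale morphisms g_a :
Y'_a ⟶ Y and opens U_a of the fibre products X ×_Y Y'_a whose images under the first projections
cover X, such that each U_a ⟶ Y'_a (inclusion followed by the second projection) is an open
immersion. Conversely, the existence of such a family with the g_a only assumed flat implies that f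
is étale. -/
theorem result {X Y : Scheme.{u}} (f : X ⟶ Y) [LocallyOfFinitePresentation f] :
    (Etale f → ∃ (ι : Type u) (Y' : ι → Scheme.{u}) (g : ∀ a, Y' a ⟶ Y) (U : ∀ a, (pullback f (g a)).Opens),
      (∀ a, Etale (g a)) ∧ (∀ x : X, ∃ a, x ∈ (pullback.fst f (g a)).base '' (U a : Set ↥(pullback f (g a)))) ∧
        ∀ a, IsOpenImmersion ((U a).ι ≫ pullback.snd f (g a))) ∧
    ((∃ (ι : Type u) (Y' : ι → Scheme.{u}) (g : ∀ a, Y' a ⟶ Y) (U : ∀ a, (pullback f (g a)).Opens),
      (∀ a, Flat (g a)) ∧ (∀ x : X, ∃ a, x ∈ (pullback.fst f (g a)).base '' (U a : Set ↥(pullback f (g a)))) ∧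
        ∀ a, IsOpenImmersion ((U a).ι ≫ pullback.snd f (g a))) → Etale f) := by
  constructor
  · intro hf
    refine ⟨PUnit, fun _ => X, fun _ => f, fun _ => (pullback.diagonal f).opensRange,
      fun _ => hf, fun x => ⟨PUnit.unit, ⟨pullback.diagonal f x, ⟨x, rfl⟩, ?_⟩⟩, fun _ => ?_⟩
    · rw [← Scheme.Hom.comp_apply, pullback.diagonal_fst]
      rfl
    · have e : (pullback.diagonal f).opensRange.ι ≫ pullback.snd f f =
          (pullback.diagonal f).isoOpensRange.inv := by
        rw [← Scheme.Hom.isoOpensRange_inv_comp, Category.assoc, pullback.diagonal_snd,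
          Category.comp_id]
      rw [e]
      infer_instance
  · rintro ⟨ι, Y', g, U, hg, hcov, hU⟩
    have key : ∀ x : X, (f.stalkMap x).hom.FormallyUnramified ∧ (f.stalkMap x).hom.Flat := by
      intro x
      obtain ⟨a, u, huU, rfl⟩ := hcov x
      have := hg a
      have := hU a
      have H : IsPullback (pullback.fst f (g a)) (pullback.snd f (g a)) f (g a) :=
        IsPullback.of_hasPullback f (g a)
      have h1 : ((pullback.snd f (g a)).stalkMap u).hom.FormallyUnramified :=
        Groth.Agent.Lib.Helper13.formallyUnramified_stalkMap_of_ι_comp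
          (pullback.snd f (g a)) (U a) huU
      have h2 : ((pullback.snd f (g a)).stalkMap u).hom.Flat :=
        (Groth.Agent.Lib.Helper13.stalkMap_ι_comp_iff RingHom.Flat.respectsIso
          (pullback.snd f (g a)) (U a) ⟨u, huU⟩).mp
          (Flat.stalkMap ((U a).ι ≫ pullback.snd f (g a)) ⟨u, huU⟩)
      exact ⟨Groth.Agent.Lib.Helper25.PullbackStalk.formallyUnramified_stalkMap_of_isPullback H u h1,
        Groth.Agent.Lib.Helper25.PullbackStalk.flat_stalkMap_of_isPullback H u h2⟩
    have hfl : Flat f := Flat.of_stalkMap f fun x => (key x).2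
    have hun : FormallyUnramified f :=
      HasRingHomProperty.of_stalkMap RingHom.FormallyUnramified.ofLocalizationPrime
        fun x => (key x).1
    exact Etale.iff_flat_and_formallyUnramified.mpr ⟨hfl, hun, inferInstance⟩


end Groth.Agent.S5064
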