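import Groth.Statements.S5066
import Mathlib
import Groth.Agent.Lib.Helper4.HenselPairL
import Groth.Agent.S0523

set_option autoImplicit false
universe u
open Hensel

namespace Groth.Agent.S5066

open Groth.Agent.Lib.Helper4.HenselPair in
/-- Case of a local ring, affine étale schemes: a local ring A with maximal ideal m is henselian if and
only if, for every finite A-algebra C and every étale A-algebra E, composing with the projection C →
C/mC is a bijection from the set of A-algebra homomorphisms E → C onto the set of A-algebra
homomorphisms E → C/mC. -/
theorem result (A : Type u) [CommRing A] [IsLocalRing A] :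
    HenselianLocalRing A ↔
      ∀ (C : Type u) [CommRing C] [Algebra A C] [Module.Finite A C] (E : Type u) [CommRing E] [Algebra A E] [Algebra.Etale A E],
        Function.Bijective (fun φ : E →ₐ[A] C =>
          (Ideal.Quotient.mkₐ A (Ideal.map (algebraMap A C) (IsLocalRing.maximalIdeal A))).comp φ) := by
  constructor
  · intro hA C _ _ _ E _ _ _
    constructor
    · intro φ₁ φ₂ h
      refine algHom_ext_of_etale_of_isIntegral (IsLocalRing.maximalIdeal A) φ₁ φ₂ fun b => ?_
      have h1 := congrArg (fun g => g b) h
      simp only [AlgHom.comp_apply] at h1
      exact Ideal.Quotient.eq.mp h1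
    · intro σ
      exact exists_lift_of_etale_of_isIntegral (IsLocalRing.maximalIdeal A) σ
  · intro h
    have hpair : HenselianRing A (IsLocalRing.maximalIdeal A) := by
      rw [Groth.Agent.S0523.result]
      intro A' _ _ _ σ
      have heq : IsLocalRing.maximalIdeal A =
          Ideal.map (algebraMap A A) (IsLocalRing.maximalIdeal A) := by
        rw [Algebra.algebraMap_self, Ideal.map_id]
      let θ := Ideal.quotientEquivAlgOfEq A heq
      obtain ⟨τ, hτ⟩ := (h A A').2 (θ.toAlgHom.comp σ)
      refine ⟨τ, ?_⟩
      ext b
      have h1 := congrArg (fun g => g b) hτ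
      simp only [AlgHom.comp_apply] at h1
      have h2 : θ (Ideal.Quotient.mk _ (τ b)) = θ (σ b) := h1
      exact θ.injective h2
    exact
      { is_henselian := fun f hf a₀ h0 hu =>
          HenselianRing.is_henselian f hf a₀ h0 (hu.map (Ideal.Quotient.mk _)) }

end Groth.Agent.S5066
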