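import Groth.Statements.S5067
import Groth.Agent.S5048
import Mathlib.AlgebraicGeometry.Morphisms.UniversallyOpen
import Mathlib.AlgebraicGeometry.Morphisms.FlatMono
import Mathlib.AlgebraicGeometry.PullbackCarrier
-- import your own Groth.Agent.* helpers here

set_option autoImplicit false
open CategoryTheory AlgebraicGeometry
universe u
open Unram

namespace Groth.Agent.S5067


open CategoryTheory.Limits in
lemma eq_of_fst_eq_of_snd_eq {X Y S : Scheme.{u}} (f : X ⟶ S) (g : Y ⟶ S) (p p' : ↑(pullback f g))
    (h1 : pullback.fst f g p = pullback.fst f g p') (h2 : pullback.snd f g p = pullback.snd f g p')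
    (hiso : IsIso (f.residueFieldMap (pullback.fst f g p'))) : p = p' := by
  apply Scheme.Pullback.carrierEquiv.injective
  rw [Scheme.Pullback.carrierEquiv_eq_iff]
  refine ⟨Scheme.Pullback.Triplet.ext h1 h2, ?_⟩
  let T := Scheme.Pullback.Triplet.ofPoint p'
  have ha : IsIso ((S.residueFieldCongr T.hx).inv ≫ f.residueFieldMap T.x) := by
    have : IsIso (f.residueFieldMap T.x) := hiso
    infer_instance
  have hinr : IsIso T.tensorInr := by
    unfold Scheme.Pullback.Triplet.tensorInr
    exact pushout_inr_iso_of_left_iso _ _
  let e : Y.residueField T.y ≃+* T.tensor := (asIso T.tensorInr).commRingCatIsoToRingEquiv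
  have hsub : Subsingleton (PrimeSpectrum T.tensor) := (PrimeSpectrum.comapEquiv e).symm.toEquiv.subsingleton
  exact Subsingleton.elim (α := PrimeSpectrum T.tensor) _ _

/-- Let f : X ⟶ Y be an étale separated morphism of integral schemes which maps the generic point of X
to the generic point of Y and induces a bijection between the residue fields of the generic points
(f is birational). Then f is an open immersion. -/
theorem result {X Y : Scheme.{u}} [IsIntegral X] [IsIntegral Y]
    (f : X ⟶ Y) [Etale f] [IsSeparated f] (hgen : f.base (genericPoint X) = genericPoint Y)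
    (hbir : Function.Bijective (f.residueFieldMap (genericPoint X)).hom) : IsOpenImmersion f := by
  have hsurj : Surjective (Limits.pullback.diagonal f) := by
    refine ⟨fun p => ?_⟩
    have hC : irreducibleComponent p ∈ irreducibleComponents ↥(Limits.pullback f f) :=
      irreducibleComponent_mem_irreducibleComponents p
    have hCclosed : IsClosed (irreducibleComponent p) := isClosed_irreducibleComponent
    have hgenp := hC.1.isGenericPoint_genericPoint hCclosed
    set p₀ := hC.1.genericPoint with hp₀
    have hmax : ∀ p' : ↥(Limits.pullback f f), p' ⤳ p₀ → p' = p₀ := by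
      rw [← Groth.Agent.S5048.mem_irreducibleComponents_iff, hgenp.def]
      exact hC
    have h1 : (Limits.pullback.fst f f).base p₀ = genericPoint X := by
      obtain ⟨p', hp', hfp'⟩ := (Flat.generalizingMap (Limits.pullback.fst f f))
        (genericPoint_specializes ((Limits.pullback.fst f f).base p₀))
      rw [hmax p' hp'] at hfp'
      exact hfp'
    have h2 : (Limits.pullback.snd f f).base p₀ = genericPoint X := by
      obtain ⟨p', hp', hfp'⟩ := (Flat.generalizingMap (Limits.pullback.snd f f))
        (genericPoint_specializes ((Limits.pullback.snd f f).base p₀))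
      rw [hmax p' hp'] at hfp'
      exact hfp'
    have hd1 : (Limits.pullback.fst f f).base ((Limits.pullback.diagonal f).base (genericPoint X)) = genericPoint X := by
      rw [← Scheme.Hom.comp_apply, Limits.pullback.diagonal_fst]; rfl
    have hd2 : (Limits.pullback.snd f f).base ((Limits.pullback.diagonal f).base (genericPoint X)) = genericPoint X := by
      rw [← Scheme.Hom.comp_apply, Limits.pullback.diagonal_snd]; rfl
    have hiso₀ : IsIso (f.residueFieldMap (genericPoint X)) :=
      (ConcreteCategory.isIso_iff_bijective _).mpr hbir
    have h3 : p₀ = (Limits.pullback.diagonal f).base (genericPoint X) := by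
      apply eq_of_fst_eq_of_snd_eq f f _ _ (h1.trans hd1.symm) (h2.trans hd2.symm)
      rw [hd1]
      exact hiso₀
    have hrange : IsClosed (Set.range (Limits.pullback.diagonal f).base) :=
      (Limits.pullback.diagonal f).isClosedEmbedding.isClosed_range
    have hsub : irreducibleComponent p ⊆ Set.range (Limits.pullback.diagonal f).base := by
      rw [← hgenp.def]
      exact closure_minimal (Set.singleton_subset_iff.mpr ⟨_, h3.symm⟩) hrange
    exact hsub mem_irreducibleComponent
  have hiso : IsIso (Limits.pullback.diagonal f) := by
    apply isIso_of_isOpenImmersion_of_opensRange_eq_top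
    apply TopologicalSpace.Opens.ext
    simp [Set.range_eq_univ.mpr hsurj.surj]
  have : Mono f := (Limits.pullback.isIso_diagonal_iff f).mp hiso
  exact IsOpenImmersion.of_flat_of_mono f

end Groth.Agent.S5067
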