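import Groth.Statements.S5072
import Mathlib
import Groth.Agent.Lib.Helper4.HzsLocal

set_option autoImplicit false
open scoped TensorProduct
universe u
open Hensel

namespace Groth.Agent.S5072

open Groth.Agent.Lib.Helper4 in
/-- Case of a local ring A and a local finite A-algebra B: let S be a strict henselization of A and T a
strict henselization of B. Then there is a maximal ideal q of B ⊗_A S such that T is isomorphic, as
a B-algebra, to the local ring (B ⊗_A S)_q. -/
theorem result (A B S T : Type u) [CommRing A] [IsLocalRing A]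
    [CommRing B] [IsLocalRing B] [Algebra A B] [Module.Finite A B]
    [CommRing S] [IsLocalRing S] [Algebra A S] [IsLocalHom (algebraMap A S)] [Hensel.IsStrictHenselization A S]
    [CommRing T] [IsLocalRing T] [Algebra B T] [IsLocalHom (algebraMap B T)] [Hensel.IsStrictHenselization B T] :
    ∃ (q : Ideal (B ⊗[A] S)) (_ : q.IsMaximal), Nonempty (Localization.AtPrime q ≃ₐ[B] T) := by
  have hAB : IsLocalHom (algebraMap A B) := by
    apply ((IsLocalRing.local_hom_TFAE (algebraMap A B)).out 0 4).mpr
    have hmax : ((IsLocalRing.maximalIdeal B).comap (algebraMap A B)).IsMaximal :=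
      Ideal.isMaximal_comap_of_isIntegral_of_isMaximal (IsLocalRing.maximalIdeal B)
    exact IsLocalRing.eq_maximalIdeal hmax
  let _ : Algebra A T := ((algebraMap B T).comp (algebraMap A B)).toAlgebra
  have : IsScalarTower A B T := IsScalarTower.of_algebraMap_eq fun _ => rfl
  have hAT : IsLocalHom (algebraMap A T) := by
    change IsLocalHom ((algebraMap B T).comp (algebraMap A B))
    exact RingHom.isLocalHom_comp _ _
  have hS : Hensel.IsStrictHenselization A S := inferInstance
  have hT : Hensel.IsStrictHenselization B T := inferInstance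
  have hHT : HenselianLocalRing T := hT.henselian
  have hsep : Algebra.IsSeparable (IsLocalRing.ResidueField A) (IsLocalRing.ResidueField S) :=
    hS.isSepClosure.separable
  have hsc : IsSepClosed (IsLocalRing.ResidueField T) := hT.isSepClosure.sep_closed
  let τ : IsLocalRing.ResidueField S →ₐ[IsLocalRing.ResidueField A] IsLocalRing.ResidueField T :=
    IsSepClosed.lift
  obtain ⟨g₀, ⟨hg₀, hg₀τ⟩, -⟩ := hS.universal T (algebraMap A T)
    (τ : IsLocalRing.ResidueField S →+* IsLocalRing.ResidueField T) (Hzs.comp_residueField_map A τ)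
  let g : S →ₐ[A] T := { g₀ with commutes' := fun r => congrArg (fun m => m r) hg₀ }
  have hgloc : IsLocalHom g := by
    refine ⟨fun x hx => ?_⟩
    have hx' : IsUnit (g₀ x) := hx
    have h1 : IsLocalRing.residue T (g₀ x) ≠ 0 := by
      intro h0
      rw [IsLocalRing.residue_eq_zero_iff] at h0
      exact (IsLocalRing.mem_maximalIdeal _).mp h0 hx'
    rw [hg₀τ] at h1
    have h2 : IsLocalRing.residue S x ≠ 0 := by
      intro h0
      rw [h0, map_zero] at h1
      exact h1 rfl
    by_contra hnu
    exact h2 ((IsLocalRing.residue_eq_zero_iff x).mpr ((IsLocalRing.mem_maximalIdeal x).mpr hnu))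
  obtain ⟨hQmax, hbij⟩ := Hzs.bijective_lψ_of_finite A B S T g hgloc
  refine ⟨Hzs.lQ A B S T g, hQmax, ⟨?_⟩⟩
  let ψ : Localization.AtPrime (Hzs.lQ A B S T g) →ₐ[B] T :=
    { Hzs.lψ A B S T g with
      commutes' := fun b => congrArg (fun m => m b) (Hzs.lψ_comp_algebraMap A B S T g) }
  exact AlgEquiv.ofBijective ψ hbij

end Groth.Agent.S5072
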