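import Groth.Statements.S5073
import Mathlib.RingTheory.Ideal.MinimalPrime.Noetherian
import Mathlib.RingTheory.Ideal.MinimalPrime.Localization
-- import your own Groth.Agent.* helpers here

set_option autoImplicit false
universe u
open EGA418

namespace Groth.Agent.S5073

/-- Let A be a Noetherian local ring, p a prime ideal and x an element of A. Then there is an element x'
of A whose image in A_p equals that of x and which belongs to no minimal prime ideal of A not
contained in p. -/
theorem result (A : Type u) [CommRing A] [IsNoetherianRing A] [IsLocalRing A]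
    (p : Ideal A) [p.IsPrime] (x : A) :
    ∃ x' : A, algebraMap A (Localization.AtPrime p) x' = algebraMap A (Localization.AtPrime p) x ∧
      ∀ q ∈ minimalPrimes A, ¬ q ≤ p → x' ∉ q := by
  classical
  have hfin : (minimalPrimes A).Finite := minimalPrimes.finite_of_isNoetherianRing A
  let T : Finset (Ideal A) := hfin.toFinset.filter (fun q => ¬ q ≤ p)
  have hT : ∀ q, q ∈ T ↔ q ∈ minimalPrimes A ∧ ¬ q ≤ p := by
    intro q; simp [T]
  -- for each q in T, an element of the kernel not in q
  have h1 : ∀ q ∈ T, ∃ t : A, t ∉ q ∧ algebraMap A (Localization.AtPrime p) t = 0 := by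
    intro q hq
    obtain ⟨hqmin, hqp⟩ := (hT q).mp hq
    have hqprime : q.IsPrime := Ideal.IsMinimalPrime.isPrime hqmin
    obtain ⟨s, hsq, hsp⟩ := Set.not_subset.mp hqp
    have hrad := IsLocalization.AtPrime.radical_map_of_mem_minimalPrimes
      (A := Localization.AtPrime q) q ⊥ hqmin
    have hs : algebraMap A (Localization.AtPrime q) s ∈ (q.map (algebraMap A (Localization.AtPrime q))) :=
      Ideal.mem_map_of_mem _ hsq
    rw [← hrad, Ideal.map_bot] at hs
    obtain ⟨n, hn⟩ := hs
    rw [Ideal.mem_bot, ← map_pow] at hn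
    have hn' : algebraMap A (Localization.AtPrime q) (s ^ n) = algebraMap A (Localization.AtPrime q) 0 := by
      rw [hn, map_zero]
    obtain ⟨c, hc⟩ := IsLocalization.exists_of_eq (M := q.primeCompl) hn'
    refine ⟨c, c.2, ?_⟩
    rw [mul_zero] at hc
    have hunit : IsUnit (algebraMap A (Localization.AtPrime p) (s ^ n)) :=
      IsLocalization.map_units (Localization.AtPrime p) (⟨s ^ n, fun h => hsp (Ideal.IsPrime.mem_of_pow_mem inferInstance n h)⟩ : p.primeCompl)
    have h0 : algebraMap A (Localization.AtPrime p) (c : A) * algebraMap A (Localization.AtPrime p) (s ^ n) = 0 := by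
      rw [← map_mul, hc, map_zero]
    exact (hunit.mul_left_eq_zero).mp h0
  choose! t ht1 ht2 using h1
  -- separating elements
  have h2 : ∀ q ∈ T, ∀ q' ∈ T, q' ≠ q → ∃ r : A, r ∈ q' ∧ r ∉ q := by
    intro q hq q' hq' hne
    have hqmin := ((hT q).mp hq).1
    have hq'min := ((hT q').mp hq').1
    have : ¬ q' ≤ q := by
      intro hle
      have hq'prime : q'.IsPrime := Ideal.IsMinimalPrime.isPrime hq'min
      exact hne (le_antisymm hle (hqmin.2 ⟨hq'prime, bot_le⟩ hle))
    obtain ⟨r, hr1, hr2⟩ := Set.not_subset.mp this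
    exact ⟨r, hr1, hr2⟩
  choose! r hr1 hr2 using h2
  let a : Ideal A → A := fun q => t q * ∏ q' ∈ T.erase q, r q q'
  have ha1 : ∀ q ∈ T, a q ∉ q := by
    intro q hq
    have hqprime : q.IsPrime := Ideal.IsMinimalPrime.isPrime ((hT q).mp hq).1
    intro h
    rcases hqprime.mem_or_mem h with h | h
    · exact ht1 q hq h
    · rw [Ideal.IsPrime.prod_mem_iff] at h
      obtain ⟨q', hq', hr⟩ := h
      exact hr2 q hq q' (Finset.mem_of_mem_erase hq') (Finset.ne_of_mem_erase hq') hr
  have ha2 : ∀ q ∈ T, ∀ q' ∈ T, q' ≠ q → a q ∈ q' := by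
    intro q hq q' hq' hne
    apply Ideal.mul_mem_left
    exact Ideal.mem_of_dvd _ (Finset.dvd_prod_of_mem _ (Finset.mem_erase.mpr ⟨hne, hq'⟩)) (hr1 q hq q' hq' hne)
  have ha3 : ∀ q ∈ T, algebraMap A (Localization.AtPrime p) (a q) = 0 := by
    intro q hq
    simp only [a, map_mul, ht2 q hq, zero_mul]
  refine ⟨x + ∑ q ∈ T.filter (fun q => x ∈ q), a q, ?_, ?_⟩
  · rw [map_add, map_sum, Finset.sum_eq_zero, add_zero]
    intro q hq
    exact ha3 q (Finset.mem_of_mem_filter q hq)
  · intro q hqmin hqp
    have hqT : q ∈ T := (hT q).mpr ⟨hqmin, hqp⟩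
    have hqprime : q.IsPrime := Ideal.IsMinimalPrime.isPrime hqmin
    by_cases hxq : x ∈ q
    · have hmem : q ∈ T.filter (fun q => x ∈ q) := Finset.mem_filter.mpr ⟨hqT, hxq⟩
      rw [← Finset.add_sum_erase _ _ hmem]
      intro h
      have h3 : ∑ q' ∈ (T.filter (fun q => x ∈ q)).erase q, a q' ∈ q := by
        apply Submodule.sum_mem
        intro q' hq'
        have hq'T : q' ∈ T := Finset.mem_of_mem_filter q' (Finset.mem_of_mem_erase hq')
        exact ha2 q' hq'T q hqT (Finset.ne_of_mem_erase hq').symm
      have h4 : a q ∈ q := by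
        have : a q = (x + (a q + ∑ q' ∈ (T.filter (fun q => x ∈ q)).erase q, a q')) - x -
            ∑ q' ∈ (T.filter (fun q => x ∈ q)).erase q, a q' := by ring
        rw [this]
        exact q.sub_mem (q.sub_mem h hxq) h3
      exact ha1 q hqT h4
    · intro h
      have h3 : ∑ q' ∈ T.filter (fun q => x ∈ q), a q' ∈ q := by
        apply Submodule.sum_mem
        intro q' hq'
        have hq'T : q' ∈ T := Finset.mem_of_mem_filter q' hq'
        have hne : q ≠ q' := by
          rintro rfl
          exact hxq (Finset.mem_filter.mp hq').2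
        exact ha2 q' hq'T q hqT hne
      apply hxq
      have : x = (x + ∑ q' ∈ T.filter (fun q => x ∈ q), a q') - ∑ q' ∈ T.filter (fun q => x ∈ q), a q' := by ring
      rw [this]
      exact q.sub_mem h h3

end Groth.Agent.S5073
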