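import Groth.Statements.S5078
import Mathlib.RingTheory.AdicCompletion.Exactness
import Mathlib.RingTheory.AdicCompletion.Functoriality
-- import your own Groth.Agent.* helpers here

set_option autoImplicit false
universe u v
open Hensel

namespace Groth.Agent.S5078


lemma precomplete_pi (A : Type u) [CommRing A] (J : Ideal A) [IsPrecomplete J A] (n : ℕ) :
    IsPrecomplete J (Fin n → A) := by
  rw [← AdicCompletion.of_surjective_iff]
  intro y
  have hz : ∀ j, ∃ a : A, AdicCompletion.of J A a = AdicCompletion.piEquivOfFintype J (fun _ : Fin n => A) y j :=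
    fun j => AdicCompletion.of_surjective J A _
  choose a ha using hz
  refine ⟨a, ?_⟩
  apply (AdicCompletion.piEquivOfFintype J (fun _ : Fin n => A)).injective
  funext j
  rw [← ha j, AdicCompletion.piEquivOfFintype_apply]
  simp [AdicCompletion.pi, AdicCompletion.map_of]

lemma precomplete_of_surjective {A : Type u} [CommRing A] (J : Ideal A)
    {M : Type u} {N : Type v} [AddCommGroup M] [Module A M] [AddCommGroup N] [Module A N]
    [IsPrecomplete J M] (f : M →ₗ[A] N) (hf : Function.Surjective f) : IsPrecomplete J N := by
  rw [← AdicCompletion.of_surjective_iff]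
  intro y
  obtain ⟨x', rfl⟩ := AdicCompletion.map_surjective J hf y
  obtain ⟨x, rfl⟩ := AdicCompletion.of_surjective J M x'
  exact ⟨f x, (AdicCompletion.map_of J f x).symm⟩

lemma hausdorff_pi (A : Type u) [CommRing A] (J : Ideal A) [IsHausdorff J A] (n : ℕ) :
    IsHausdorff J (Fin n → A) := by
  refine ⟨fun x hx => ?_⟩
  funext j
  apply IsHausdorff.haus (I := J) (M := A) inferInstance
  intro k
  have h1 := hx k
  rw [SModEq.zero] at h1 ⊢
  have h2 : (LinearMap.proj j : (Fin n → A) →ₗ[A] A) x ∈
      Submodule.map (LinearMap.proj j : (Fin n → A) →ₗ[A] A) (J ^ k • (⊤ : Submodule A (Fin n → A))) :=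
    Submodule.mem_map_of_mem h1
  rw [Submodule.map_smul''] at h2
  exact Submodule.smul_mono le_rfl le_top h2

lemma hausdorff_of_injective {A : Type u} [CommRing A] (J : Ideal A)
    {M : Type v} {N : Type u} [AddCommGroup M] [Module A M] [AddCommGroup N] [Module A N]
    [IsHausdorff J N] (f : M →ₗ[A] N) (hf : Function.Injective f) : IsHausdorff J M := by
  refine ⟨fun x hx => ?_⟩
  apply hf
  rw [map_zero]
  apply IsHausdorff.haus (I := J) (M := N) inferInstance
  intro k
  have h1 := hx k
  rw [SModEq.zero] at h1 ⊢
  have h2 : f x ∈ Submodule.map f (J ^ k • (⊤ : Submodule A M)) := Submodule.mem_map_of_mem h1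
  rw [Submodule.map_smul''] at h2
  exact Submodule.smul_mono le_rfl le_top h2

/-- Let A be a ring, I an ideal such that A is I-adically separated and complete, and M a finitely
generated projective A-module. Then M is I-adically separated and complete. -/
theorem result {A : Type u} [CommRing A] (I : Ideal A) [IsAdicComplete I A]
    (M : Type v) [AddCommGroup M] [Module A M] [Module.Finite A M] [Module.Projective A M] :
    IsAdicComplete I M := by
  obtain ⟨n, f, hf⟩ := Module.Finite.exists_fin' A M
  obtain ⟨s, hs⟩ := Module.projective_lifting_property f LinearMap.id hf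
  have hsinj : Function.Injective s := fun x y hxy => by
    have := congrArg f hxy
    simpa [← LinearMap.comp_apply, hs] using this
  have h1 : IsPrecomplete I (Fin n → A) := precomplete_pi A I n
  have h2 : IsHausdorff I (Fin n → A) := hausdorff_pi A I n
  have hP : IsPrecomplete I M := precomplete_of_surjective I f hf
  have hH : IsHausdorff I M := hausdorff_of_injective I s hsinj
  exact { toIsHausdorff := hH, toIsPrecomplete := hP }

end Groth.Agent.S5078
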