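import Groth.Statements.S5080
import Mathlib
import Groth.Agent.Lib.Helper23.CK6
-- import your own Groth.Agent.* helpers here

set_option autoImplicit false
universe u
open EGA418

namespace Groth.Agent.S5080

open IsLocalRing TensorProduct KaehlerDifferential
open Groth.Agent.Lib.Helper23.CompletedKaehlerSep Groth.Agent.Lib.Helper23.CK

section Perturb

variable {K V : Type*} [Field K] [AddCommGroup V] [Module K V] [FiniteDimensional K V]

/-- perturbation lemma with a spanning set depending on the index. -/
theorem exists_perturbation' {ι : Type*} [Fintype ι] (S : ι → Set V)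
    (hS : ∀ i, Submodule.span K (S i) = ⊤) (h0 : ∀ i, (0 : V) ∈ S i)
    (hι : Module.finrank K V ≤ Fintype.card ι) (v : ι → V) :
    ∃ w : ι → V, (∀ i, w i ∈ S i) ∧ Submodule.span K (Set.range (v + w)) = ⊤ := by
  classical
  have key : ∀ s : Finset ι, ∃ w : ι → V, (∀ i, w i ∈ S i) ∧
      min s.card (Module.finrank K V) ≤
        Module.finrank K (Submodule.span K ((v + w) '' (s : Set ι))) := by
    intro s
    induction s using Finset.induction_on with
    | empty => exact ⟨fun _ => 0, fun i => h0 i, by simp⟩
    | insert a s ha ih =>
      obtain ⟨w, hw, hle⟩ := ih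
      set U := Submodule.span K ((v + w) '' (s : Set ι)) with hU
      by_cases hfull : Module.finrank K V ≤ Module.finrank K U
      · refine ⟨w, hw, le_trans (min_le_right _ _) (le_trans hfull ?_)⟩
        apply Submodule.finrank_mono
        apply Submodule.span_mono
        apply Set.image_mono
        rw [Finset.coe_insert]
        exact Set.subset_insert _ _
      · push_neg at hfull
        have hUne : U ≠ ⊤ := by
          intro h
          rw [h, finrank_top] at hfull
          exact lt_irrefl _ hfull
        obtain ⟨y, hyS, hyU⟩ : ∃ y ∈ S a, y ∉ U := by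
          by_contra hcon
          push_neg at hcon
          apply hUne
          rw [eq_top_iff, ← hS a, Submodule.span_le]
          exact hcon
        obtain ⟨z, hzS, hzU⟩ : ∃ z ∈ S a, v a + z ∉ U := by
          by_cases hva : v a ∈ U
          · refine ⟨y, hyS, fun h => hyU ?_⟩
            have := U.sub_mem h hva
            rwa [add_sub_cancel_left] at this
          · exact ⟨0, h0 a, by rwa [add_zero]⟩
        refine ⟨Function.update w a z, ?_, ?_⟩
        · intro i
          by_cases hi : i = a
          · subst hi; rw [Function.update_self]; exact hzS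
          · rw [Function.update_of_ne hi]; exact hw i
        · have himg : (v + Function.update w a z) '' ((insert a s : Finset ι) : Set ι) =
              insert (v a + z) ((v + w) '' (s : Set ι)) := by
            rw [Finset.coe_insert, Set.image_insert_eq]
            congr 1
            · simp
            · apply Set.image_congr
              intro i hi
              have hia : i ≠ a := fun h => ha (h ▸ hi)
              simp [Function.update_of_ne hia]
          rw [himg]
          have hlt : U < Submodule.span K (insert (v a + z) ((v + w) '' (s : Set ι))) := by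
            refine lt_of_le_of_ne (Submodule.span_mono (Set.subset_insert _ _)) ?_
            intro h
            apply hzU
            rw [h]
            exact Submodule.subset_span (Set.mem_insert _ _)
          have h1 := Submodule.finrank_lt_finrank_of_lt hlt
          rw [Finset.card_insert_of_notMem ha]
          have h2 : min s.card (Module.finrank K V) ≤ Module.finrank K U := hle
          omega
  obtain ⟨w, hw, hle⟩ := key Finset.univ
  refine ⟨w, hw, ?_⟩
  rw [Finset.coe_univ, Set.image_univ, Finset.card_univ, min_eq_right hι] at hle
  exact Submodule.eq_top_of_finrank_eq (le_antisymm (Submodule.finrank_le _) hle)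

end Perturb


/-- Let k be a field, A a complete Noetherian local k-algebra with maximal ideal m whose residue field
is a finite extension of k, p a prime ideal distinct from m, Ω̂ the completion of the module of
differentials of A over k, and M the least number of generators of the A_p-module Ω̂_p. Then for
every family x_1, …, x_M of elements of m not in p there are units u_1, …, u_M of A such that the
images in Ω̂_p of the differentials d(u_i x_i) generate Ω̂_p. -/
theorem result (k A : Type u) [Field k] [CommRing A]
    [IsLocalRing A] [IsNoetherianRing A] [Algebra k A] [IsAdicComplete (IsLocalRing.maximalIdeal A) A]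
    [Module.Finite k (IsLocalRing.ResidueField A)] (p : Ideal A) [p.IsPrime] (hp : p ≠ IsLocalRing.maximalIdeal A)
    (M : ℕ) (hgen : ∃ s : Fin M → (LocalizedModule p.primeCompl (AdicCompletion (IsLocalRing.maximalIdeal A) (KaehlerDifferential k A))), Submodule.span (Localization.AtPrime p) (Set.range s) = ⊤)
    (hmin : ∀ (s : Finset (LocalizedModule p.primeCompl (AdicCompletion (IsLocalRing.maximalIdeal A) (KaehlerDifferential k A)))), Submodule.span (Localization.AtPrime p) (↑s : Set (LocalizedModule p.primeCompl (AdicCompletion (IsLocalRing.maximalIdeal A) (KaehlerDifferential k A)))) = ⊤ → M ≤ s.card)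
    (x : Fin M → A) (hx : ∀ i, x i ∈ IsLocalRing.maximalIdeal A ∧ x i ∉ p) :
    ∃ u : Fin M → Aˣ, Submodule.span (Localization.AtPrime p)
      (Set.range (fun i => LocalizedModule.mkLinearMap p.primeCompl (AdicCompletion (IsLocalRing.maximalIdeal A) (KaehlerDifferential k A)) (AdicCompletion.of (IsLocalRing.maximalIdeal A) (KaehlerDifferential k A) (KaehlerDifferential.D k A ((u i : A) * x i))))) = ⊤ := by
  classical
  obtain ⟨s, hs⟩ := hgen
  obtain ⟨y, hy⟩ := exists_genAt_of_span_localized s hs
  have hrk := hy.finrank_le
  haveI := finite_mhat' (k := k) (A := A)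
  -- an element of `𝔪 ∖ p`
  have hlt : p < maximalIdeal A :=
    lt_of_le_of_ne (le_maximalIdeal (Ideal.IsPrime.ne_top inferInstance)) hp
  obtain ⟨σ, hσm, hσp⟩ := SetLike.exists_of_lt hlt
  -- the ideals `J i = 𝔪 * (x i)`
  let J : Fin M → Ideal A := fun i => maximalIdeal A * Ideal.span {x i}
  have hJ : ∀ i, σ * x i ∈ J i ∧ σ * x i ∉ p := fun i =>
    ⟨Ideal.mul_mem_mul hσm (Ideal.subset_span rfl),
      fun h => (Ideal.IsPrime.mem_or_mem inferInstance h).elim hσp (hx i).2⟩
  have hS : ∀ i, Submodule.span p.ResidueField (delta k p '' (J i : Set A)) = ⊤ := fun i =>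
    span_delta_image (k := k) p (J i) (σ * x i) (hJ i).1 (hJ i).2
  have h0 : ∀ i, (0 : p.ResidueField ⊗[A] AdicCompletion (maximalIdeal A) (Ω[A⁄k])) ∈
      delta k p '' (J i : Set A) := fun i =>
    ⟨0, (J i).zero_mem, by unfold delta; rw [map_zero, TensorProduct.tmul_zero]⟩
  obtain ⟨w, hwS, hwspan⟩ := exists_perturbation' (fun i => delta k p '' (J i : Set A)) hS h0
    (ι := Fin M) (by rw [Fintype.card_fin]; exact hrk) (fun i => delta k p (x i))
  choose z hzJ hzw using hwS
  -- `z i = c i * x i` with `c i ∈ 𝔪`
  have hc : ∀ i, ∃ c ∈ maximalIdeal A, z i = c * x i := by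
    intro i
    have h1 : z i ∈ maximalIdeal A * Ideal.span {x i} := hzJ i
    rw [Ideal.mem_mul_span_singleton] at h1
    obtain ⟨c, hc, hcz⟩ := h1
    exact ⟨c, hc, hcz.symm⟩
  choose c hcm hcz using hc
  have hunit : ∀ i, IsUnit (1 + c i) := by
    intro i
    by_contra hnu
    have h1 : 1 + c i ∈ maximalIdeal A := (mem_maximalIdeal _).mpr hnu
    have h2 : (1 : A) ∈ maximalIdeal A := by
      have := (maximalIdeal A).sub_mem h1 (hcm i)
      rwa [add_sub_cancel_right] at this
    exact (Ideal.ne_top_iff_one _).mp (maximalIdeal.isMaximal A).ne_top h2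
  refine ⟨fun i => (hunit i).unit, ?_⟩
  have hgen' : GenAt p (fun i : Fin M => dhat (k := k) (((hunit i).unit : A) * x i)) := by
    apply genAt_of_span_tmul
    have : (fun i : Fin M => (1 : p.ResidueField) ⊗ₜ[A]
        dhat (k := k) (((hunit i).unit : A) * x i)) = (fun i => delta k p (x i)) + w := by
      funext i
      rw [Pi.add_apply, ← hzw i, ← delta_add, hcz i, IsUnit.unit_spec]
      show delta k p ((1 + c i) * x i) = _
      congr 1
      ring
    rw [this]
    exact hwspan
  exact hgen'.span_localized

end Groth.Agent.S5080
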