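import Groth.Statements.S5081
import Mathlib.Algebra.Polynomial.Derivation

set_option autoImplicit false
universe u
open Unram

namespace Groth.Agent.S5081

open Polynomial

section

variable {A B : Type u} [CommRing A] [CommRing B] [Algebra A B] (u : B) (F : A[X])

/-- `P ↦ [P'(u)]` as a linear map into `B ⧸ (F'(u))`. -/
noncomputable def gmap : A[X] →ₗ[A] (B ⧸ Ideal.span {aeval u (derivative F)}) :=
  ((Ideal.Quotient.mkₐ A (Ideal.span {aeval u (derivative F)})).toLinearMap).comp
    ((aeval u).toLinearMap.comp (derivative (R := A)))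

theorem gmap_apply (P : A[X]) :
    gmap u F P = Ideal.Quotient.mk _ (aeval u (derivative P)) := rfl

theorem ker_le_ker_gmap (hF : aeval u F = 0)
    (hker : RingHom.ker (aeval u : A[X] →ₐ[A] B) = Ideal.span {F}) :
    LinearMap.ker (aeval u : A[X] →ₐ[A] B).toLinearMap ≤ LinearMap.ker (gmap u F) := by
  intro P hP
  have hP' : P ∈ RingHom.ker (aeval u : A[X] →ₐ[A] B) := hP
  rw [hker, Ideal.mem_span_singleton] at hP'
  obtain ⟨Q, rfl⟩ := hP'
  rw [LinearMap.mem_ker, gmap_apply, Ideal.Quotient.eq_zero_iff_mem, derivative_mul, map_add,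
    map_mul, map_mul, hF, zero_mul, add_zero]
  exact Ideal.mul_mem_right _ _ (Ideal.mem_span_singleton_self _)

/-- The linear map `B → B ⧸ (F'(u))`, `P(u) ↦ [P'(u)]`. -/
noncomputable def derLin (hsurj : Function.Surjective (aeval u : A[X] →ₐ[A] B).toLinearMap)
    (hF : aeval u F = 0)
    (hker : RingHom.ker (aeval u : A[X] →ₐ[A] B) = Ideal.span {F}) :
    B →ₗ[A] (B ⧸ Ideal.span {aeval u (derivative F)}) :=
  ((LinearMap.ker (aeval u : A[X] →ₐ[A] B).toLinearMap).liftQ (gmap u F)
      (ker_le_ker_gmap u F hF hker)).comp
    ((aeval u : A[X] →ₐ[A] B).toLinearMap.quotKerEquivOfSurjective hsurj).symm.toLinearMap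

theorem derLin_apply (hsurj : Function.Surjective (aeval u : A[X] →ₐ[A] B).toLinearMap)
    (hF : aeval u F = 0)
    (hker : RingHom.ker (aeval u : A[X] →ₐ[A] B) = Ideal.span {F}) (P : A[X]) :
    derLin u F hsurj hF hker (aeval u P) = Ideal.Quotient.mk _ (aeval u (derivative P)) := by
  have : ((aeval u : A[X] →ₐ[A] B).toLinearMap.quotKerEquivOfSurjective hsurj).symm
      (aeval u P) = Submodule.Quotient.mk P := by
    rw [LinearEquiv.symm_apply_eq]
    rfl
  simp only [derLin, LinearMap.coe_comp, LinearEquiv.coe_coe, Function.comp_apply, this,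
    Submodule.liftQ_apply, gmap_apply]

/-- The derivation `B → B ⧸ (F'(u))`, `P(u) ↦ [P'(u)]`. -/
noncomputable def der (hsurj : Function.Surjective (aeval u : A[X] →ₐ[A] B).toLinearMap)
    (hF : aeval u F = 0)
    (hker : RingHom.ker (aeval u : A[X] →ₐ[A] B) = Ideal.span {F}) :
    Derivation A B (B ⧸ Ideal.span {aeval u (derivative F)}) :=
  Derivation.mk' (derLin u F hsurj hF hker)
    (by
      intro a b
      obtain ⟨P, rfl⟩ := hsurj a
      obtain ⟨Q, rfl⟩ := hsurj b
      simp only [AlgHom.toLinearMap_apply]
      rw [← map_mul, derLin_apply, derLin_apply, derLin_apply, derivative_mul, map_add,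
        map_mul, map_mul, map_add, map_mul, map_mul]
      simp only [Algebra.smul_def, Ideal.Quotient.algebraMap_eq]
      ring)

theorem der_apply (hsurj : Function.Surjective (aeval u : A[X] →ₐ[A] B).toLinearMap)
    (hF : aeval u F = 0)
    (hker : RingHom.ker (aeval u : A[X] →ₐ[A] B) = Ideal.span {F}) (P : A[X]) :
    der u F hsurj hF hker (aeval u P) = Ideal.Quotient.mk _ (aeval u (derivative P)) :=
  derLin_apply u F hsurj hF hker P

end

/-- Let B be a finite A-algebra generated by a single element u and F a polynomial with coefficients in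
A such that F(u) = 0. Then the ideal generated by F'(u) is contained in the annihilator of the
module of differentials of B over A, and equals it when the kernel of the surjection A[T] → B
sending T to u is generated by F. -/
theorem result (A B : Type u) [CommRing A] [CommRing B] [Algebra A B]
    [Module.Finite A B] (u : B) (hu : Algebra.adjoin A ({u} : Set B) = ⊤) (F : Polynomial A) (hF : Polynomial.aeval u F = 0) :
    Ideal.span {Polynomial.aeval u (Polynomial.derivative F)} ≤ Module.annihilator B (KaehlerDifferential A B) ∧
      (RingHom.ker (Polynomial.aeval u : Polynomial A →ₐ[A] B) = Ideal.span {F} →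
        Module.annihilator B (KaehlerDifferential A B) = Ideal.span {Polynomial.aeval u (Polynomial.derivative F)}) := by
  have hsurj : Function.Surjective (aeval u : A[X] →ₐ[A] B).toLinearMap := by
    intro b
    have hb : b ∈ Algebra.adjoin A ({u} : Set B) := hu ▸ Algebra.mem_top
    rw [Algebra.adjoin_singleton_eq_range_aeval] at hb
    exact hb
  have hD : ∀ b : B, KaehlerDifferential.D A B b ∈
      Submodule.span B {KaehlerDifferential.D A B u} := by
    intro b
    obtain ⟨P, rfl⟩ := hsurj b
    rw [AlgHom.toLinearMap_apply, Derivation.comp_aeval_eq]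
    exact Submodule.smul_mem _ _ (Submodule.subset_span rfl)
  have htop : Submodule.span B {KaehlerDifferential.D A B u} = ⊤ := by
    rw [eq_top_iff, ← KaehlerDifferential.span_range_derivation, Submodule.span_le]
    rintro _ ⟨b, rfl⟩
    exact hD b
  have hkill : aeval u (derivative F) • KaehlerDifferential.D A B u = 0 := by
    rw [← Derivation.comp_aeval_eq, hF, map_zero]
  have h1 : Ideal.span {aeval u (derivative F)} ≤ Module.annihilator B (KaehlerDifferential A B) := by
    rw [Ideal.span_le, Set.singleton_subset_iff, SetLike.mem_coe, Module.mem_annihilator]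
    intro m
    have hm : m ∈ Submodule.span B {KaehlerDifferential.D A B u} := htop ▸ Submodule.mem_top
    obtain ⟨c, rfl⟩ := Submodule.mem_span_singleton.mp hm
    rw [smul_comm, hkill, smul_zero]
  refine ⟨h1, fun hker => le_antisymm ?_ h1⟩
  intro b hb
  rw [Module.mem_annihilator] at hb
  have hb' := hb (KaehlerDifferential.D A B u)
  have := congrArg (der u F hsurj hF hker).liftKaehlerDifferential hb'
  rw [map_smul, Derivation.liftKaehlerDifferential_comp_D, map_zero] at this
  have hu' : der u F hsurj hF hker u = 1 := by
    have := der_apply u F hsurj hF hker X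
    rw [aeval_X, derivative_X, map_one, map_one] at this
    exact this
  rw [hu', Algebra.smul_def, mul_one, Ideal.Quotient.algebraMap_eq,
    Ideal.Quotient.eq_zero_iff_mem] at this
  exact this

end Groth.Agent.S5081
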