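import Groth.Statements.S5098
-- import your own Groth.Agent.* helpers here
import Groth.Agent.Lib.Helper29.Depth1M

set_option autoImplicit false
universe u
open CategoryTheory CategoryTheory.Limits AlgebraicGeometry TopologicalSpace
open Mero

namespace Groth.Agent.S5098

/-- General form, for divisors on a scheme that need not be integral: let X be a locally Noetherian
scheme and D a divisor on X. If the germ of D is effective (resp. trivial) at every point x whose
local ring O_{X,x} has depth 1, then D is effective (resp. D is the unit divisor, in the
multiplicative notation used here). -/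
theorem result (X : Scheme.{u}) [IsLocallyNoetherian X] (D : Mero.Divisor X) :
    ((∀ x : ↥X, LocCoh.depth ↑(X.presheaf.stalk x) ↑(X.presheaf.stalk x) = 1 → Mero.IsEffectiveAt D x) →
        Mero.IsEffective D) ∧
      ((∀ x : ↥X, LocCoh.depth ↑(X.presheaf.stalk x) ↑(X.presheaf.stalk x) = 1 → D.1 x = 1) → D = 1) := by
  constructor
  · intro h x
    exact Groth.Agent.Lib.Helper29.Depth1.eff_of_depth_one x
      (Groth.Agent.Lib.Helper29.Depth1.hasLocalRep_mero D x) h
  · intro h
    apply Subtype.ext
    funext x
    exact Groth.Agent.Lib.Helper29.Depth1.triv_of_depth_one x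
      (Groth.Agent.Lib.Helper29.Depth1.hasLocalRep_mero D x) h

end Groth.Agent.S5098
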