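import Groth.Statements.S5113
-- import your own Groth.Agent.* helpers here

set_option autoImplicit false
universe u
open SGA1

namespace Groth.Agent.S5113

open AlgebraicGeometry CategoryTheory CategoryTheory.Limits in
/-- Let g : S' ⟶ S be submersive, i.e. surjective and making S a topological quotient of S'. Then the
sequence of sets of open subsets Ouv(S) → Ouv(S') ⇉ Ouv(S' ×_S S') (inverse images along g and along
the two projections) is exact: an open subset U' of S' whose inverse images under the two
projections of S' ×_S S' agree is the inverse image of one and only one open subset of S. -/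
theorem result {S' S : Scheme.{u}} (g : S' ⟶ S)
    (hg : Topology.IsQuotientMap g.base) (U' : S'.Opens)
    (h : (pullback.fst g g) ⁻¹ᵁ U' = (pullback.snd g g) ⁻¹ᵁ U') :
    ∃! U : S.Opens, g ⁻¹ᵁ U = U' := by
  have hsat : g.base ⁻¹' (g.base '' (U' : Set S')) = (U' : Set S') := by
    apply Set.Subset.antisymm
    · rintro x ⟨y, hy, hxy⟩
      obtain ⟨w, hw1, hw2⟩ := Scheme.Pullback.exists_preimage_pullback (f := g) (g := g) x y
        hxy.symm
      have h1 : w ∈ (pullback.snd g g) ⁻¹ᵁ U' := by
        change pullback.snd g g w ∈ U'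
        rw [hw2]; exact hy
      rw [← h] at h1
      have h2 : pullback.fst g g w ∈ U' := h1
      rw [hw1] at h2
      exact h2
    · exact Set.subset_preimage_image _ _
  have hopen : IsOpen (g.base '' (U' : Set S')) := by
    rw [← hg.isOpen_preimage, hsat]
    exact U'.2
  refine ⟨⟨g.base '' (U' : Set S'), hopen⟩, ?_, ?_⟩
  · ext x
    change x ∈ g.base ⁻¹' (g.base '' (U' : Set S')) ↔ x ∈ (U' : Set S')
    rw [hsat]
  · intro V hV
    ext s
    obtain ⟨s', rfl⟩ := hg.surjective s
    constructor
    · intro hs
      have : s' ∈ g ⁻¹ᵁ V := hs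
      rw [hV] at this
      exact ⟨s', this, rfl⟩
    · rintro ⟨t, ht, hts⟩
      have : t ∈ g ⁻¹ᵁ V := by rw [hV]; exact ht
      have h3 : g.base t ∈ V := this
      rw [hts] at h3
      exact h3

end Groth.Agent.S5113
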