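import Groth.Statements.S5114
import Groth.Agent.Lib.Helper10.HensFin3

set_option autoImplicit false
universe u
open SGA1

namespace Groth.Agent.S5114

open AlgebraicGeometry CategoryTheory CategoryTheory.Limits in
/-- Let A be a complete Noetherian local ring, S = Spec A, and g : S' ⟶ S a surjective morphism of
finite type whose fibre over the closed point s is finite. If every point of S' specialises to some
point of the fibre over s (equivalently: the disjoint union of the spectra of the local rings of S'
at the points over s maps onto S'), then g is universally submersive. (The published statement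
asserts an equivalence and does not mention surjectivity of g; the converse fails: for A a complete
discrete valuation ring with fraction field K, S' = S ⊔ Spec K ⟶ S has a section, hence is
universally submersive, while the isolated point Spec K specialises to no point over s. This row
states the implication the published proof establishes, with the surjectivity it uses.) -/
theorem result (A : Type u) [CommRing A]
    [IsNoetherianRing A] [IsLocalRing A] [IsAdicComplete (IsLocalRing.maximalIdeal A) A]
    {S' : Scheme.{u}} (g : S' ⟶ Spec (CommRingCat.of A)) [LocallyOfFiniteType g] [QuasiCompact g]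
    [Surjective g]
    (hfin : (g.base ⁻¹' {IsLocalRing.closedPoint A}).Finite)
    (hsp : ∀ t : S', ∃ s' : S', g.base s' = IsLocalRing.closedPoint A ∧ t ⤳ s') :
    SGA1.UnivSubmersive g := by
  haveI : HenselianRing A (IsLocalRing.maximalIdeal A) := inferInstance
  haveI : HenselianLocalRing A :=
    { is_henselian := fun f hf a₀ h₁ h₂ =>
        HenselianRing.is_henselian (I := IsLocalRing.maximalIdeal A) f hf a₀ h₁ (h₂.map _) }
  have hfin' : (g ⁻¹' {IsLocalRing.closedPoint A}).Finite := hfin
  classical
  let F : Set S' := g ⁻¹' {IsLocalRing.closedPoint A}
  haveI : Finite F := hfin'.to_subtype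
  choose T p hcl hrange using fun s' : F =>
    Groth.Agent.Lib.Helper10.HensFin.exists_piece A g hfin' s'.1 s'.2
  refine Groth.Agent.Lib.Helper10.HensFin.univSubmersive_of_family g T p ?_ hcl
  intro x
  obtain ⟨s', hs', hx⟩ := hsp x
  exact ⟨⟨s', hs'⟩, hrange ⟨s', hs'⟩ x hx⟩

end Groth.Agent.S5114
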