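import Groth.Statements.S5128
import Groth.Agent.S3694

set_option autoImplicit false
universe u
open SGA1

namespace Groth.Agent.S5128

open AlgebraicGeometry CategoryTheory CategoryTheory.Limits

lemma graph_isOpenImmersion {S X Y : Scheme.{u}} (p : X ⟶ S) (q : Y ⟶ S) [Etale q]
    (f : X ⟶ Y) (hf : f ≫ q = p) :
    IsOpenImmersion (pullback.lift (𝟙 X) f ((Category.id_comp p).trans hf.symm) : X ⟶ pullback p q) := by
  set s : X ⟶ pullback p q := pullback.lift (𝟙 X) f ((Category.id_comp p).trans hf.symm) with hs
  have h1 : s ≫ pullback.fst p q = 𝟙 X := pullback.lift_fst _ _ _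
  have : Etale (pullback.fst p q) := inferInstance
  have : Etale (s ≫ pullback.fst p q) := by rw [h1]; infer_instance
  have : Etale s := Etale.of_comp s (pullback.fst p q)
  have : Mono s := mono_of_mono_fac h1
  exact Groth.Agent.S3694.result s


open AlgebraicGeometry CategoryTheory CategoryTheory.Limits in
/-- Let X and Y be S-schemes with Y etale over S. The map f ↦ Γ_f sending an S-morphism f : X ⟶ Y to the
subset of X ×_S Y underlying its graph is a bijection from Hom_S(X, Y) onto the set of open subsets
Γ of X ×_S Y for which the restriction Γ → X of the first projection is radicial (universally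
injective) and surjective. Stated as: the graph of every S-morphism is an open immersion, and every
such open Γ is the image of the graph of exactly one S-morphism. -/
theorem result {S X Y : Scheme.{u}} (p : X ⟶ S)
    (q : Y ⟶ S) [Etale q] :
    (∀ f : {f : X ⟶ Y // f ≫ q = p},
      IsOpenImmersion (pullback.lift (𝟙 X) f.1 ((Category.id_comp p).trans f.2.symm) : X ⟶ pullback p q)) ∧
    ∀ Γ : (pullback p q).Opens, UniversallyInjective (Γ.ι ≫ pullback.fst p q) → Surjective (Γ.ι ≫ pullback.fst p q) →
      ∃! f : {f : X ⟶ Y // f ≫ q = p},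
        Set.range (pullback.lift (𝟙 X) f.1 ((Category.id_comp p).trans f.2.symm) : X ⟶ pullback p q).base =
          (Γ : Set ↥(pullback p q)) := by
  refine ⟨fun f => graph_isOpenImmersion p q f.1 f.2, ?_⟩
  intro Γ hinj hsurj
  set π : Γ.toScheme ⟶ X := Γ.ι ≫ pullback.fst p q with hπ
  have : Etale (pullback.fst p q) := inferInstance
  have : Etale π := by rw [hπ]; infer_instance
  have : IsOpenImmersion π := Groth.Agent.S3694.result π
  have : IsIso π := (isIso_iff_isOpenImmersion_and_surjective π).mpr ⟨inferInstance, hsurj⟩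
  set f : X ⟶ Y := inv π ≫ Γ.ι ≫ pullback.snd p q with hf
  have hfq : f ≫ q = p := by
    rw [hf, Category.assoc, Category.assoc, ← pullback.condition, ← Category.assoc Γ.ι, ← hπ,
      IsIso.inv_hom_id_assoc]
  have hgraph : (pullback.lift (𝟙 X) f ((Category.id_comp p).trans hfq.symm) : X ⟶ pullback p q)
      = inv π ≫ Γ.ι := by
    apply pullback.hom_ext
    · rw [pullback.lift_fst, Category.assoc, ← hπ, IsIso.inv_hom_id]
    · rw [pullback.lift_snd, hf, Category.assoc]
  refine ⟨⟨f, hfq⟩, ?_, ?_⟩
  · show Set.range (pullback.lift (𝟙 X) f ((Category.id_comp p).trans hfq.symm) : X ⟶ pullback p q).base = _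
    rw [hgraph]
    have : Function.Surjective (inv π).base := (inferInstance : Surjective (inv π)).surj
    rw [Scheme.Hom.comp_base, TopCat.coe_comp, Set.range_comp, this.range_eq, Set.image_univ]
    exact Γ.range_ι
  · rintro ⟨f', hf'q⟩ hrange
    simp only at hrange
    set s' : X ⟶ pullback p q := pullback.lift (𝟙 X) f' ((Category.id_comp p).trans hf'q.symm) with hs'
    have hle : Set.range s'.base ⊆ Set.range Γ.ι.base := by
      rw [hrange, Γ.range_ι]
    set t : X ⟶ Γ.toScheme := IsOpenImmersion.lift Γ.ι s' hle with ht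
    have ht' : t ≫ Γ.ι = s' := IsOpenImmersion.lift_fac _ _ _
    have h1 : t ≫ π = 𝟙 X := by
      rw [hπ, ← Category.assoc, ht', hs', pullback.lift_fst]
    have h2 : t = inv π := by
      rw [← cancel_mono π, h1, IsIso.inv_hom_id]
    have h3 : s' = inv π ≫ Γ.ι := by rw [← ht', h2]
    have h4 : f' = f := by
      have : s' ≫ pullback.snd p q = f' := pullback.lift_snd _ _ _
      rw [← this, h3, hf, Category.assoc]
    exact Subtype.ext h4

end Groth.Agent.S5128
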