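import Groth.Statements.S5133
import Groth.Agent.Lib.Helper26.QuasiCompactClosure

set_option autoImplicit false
open CategoryTheory CategoryTheory.Limits AlgebraicGeometry
universe u
open SGA1

namespace Groth.Agent.S5133

/-- For a quasi-compact morphism f : X ⟶ Y and a flat surjective base change g : Y' ⟶ Y, with no
quasi-compactness asked of g, if the base change of f along g is a homeomorphism onto its image then
f is a homeomorphism onto its image. -/
theorem result {X Y Y' : Scheme.{u}} (f : X ⟶ Y)
    (g : Y' ⟶ Y) [QuasiCompact f] [Flat g] [Surjective g]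
    (h : Topology.IsEmbedding (pullback.snd f g).base) : Topology.IsEmbedding f.base := by
  have hcond : ∀ a : ↑(pullback f g), f (pullback.fst f g a) = g (pullback.snd f g a) := by
    intro a
    rw [← Scheme.Hom.comp_apply, pullback.condition, Scheme.Hom.comp_apply]
  have hinj : Function.Injective f := by
    intro x₁ x₂ hx
    obtain ⟨y', hy'⟩ := g.surjective (f x₁)
    obtain ⟨z₁, hz₁, hz₁'⟩ := Scheme.Pullback.exists_preimage_pullback (f := f) (g := g) x₁ y' hy'.symm
    obtain ⟨z₂, hz₂, hz₂'⟩ := Scheme.Pullback.exists_preimage_pullback (f := f) (g := g) x₂ y'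
      (hx ▸ hy'.symm)
    have : z₁ = z₂ := h.injective (hz₁'.trans hz₂'.symm)
    rw [← hz₁, ← hz₂, this]
  have key : ∀ (Z : Set X), IsClosed Z → ∀ x : X, f x ∈ closure (f '' Z) → x ∈ Z := by
    intro Z hZ x hx
    obtain ⟨z, hz, hsp⟩ :=
      Groth.Agent.Lib.Helper26.exists_specializes_of_mem_closure_image f Z hZ (f x) hx
    obtain ⟨x', rfl⟩ := (pullback.fst f g).surjective x
    rw [hcond] at hsp
    obtain ⟨y'', hy''sp, hy''⟩ := Flat.generalizingMap g hsp
    obtain ⟨z', hz'1, hz'2⟩ := Scheme.Pullback.exists_preimage_pullback (f := f) (g := g) z y''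
      hy''.symm
    have hsp' : z' ⤳ x' := by
      rw [← h.isInducing.specializes_iff]
      rw [hz'2]
      exact hy''sp
    have := hsp'.map (pullback.fst f g).continuous
    rw [hz'1] at this
    exact hZ.stableUnderSpecialization this hz
  refine ⟨⟨le_antisymm (continuous_iff_le_induced.mp f.continuous) ?_⟩, hinj⟩
  intro U hU
  refine isOpen_induced_iff.mpr ⟨(closure (f '' Uᶜ))ᶜ, isClosed_closure.isOpen_compl, ?_⟩
  ext x
  simp only [Set.mem_preimage, Set.mem_compl_iff]
  constructor
  · intro hx
    by_contra hxU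
    exact hx (subset_closure ⟨x, hxU, rfl⟩)
  · intro hxU hx
    exact key Uᶜ hU.isClosed_compl x hx hxU

end Groth.Agent.S5133
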