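import Groth.Statements.S5134
-- import your own Groth.Agent.* helpers here
import Groth.Agent.Lib.Helper29.QCohDescent

set_option autoImplicit false
open CategoryTheory AlgebraicGeometry
universe u
open SGA1

namespace Groth.Agent.S5134

/-- For g : S' ⟶ S flat, surjective and quasi-compact and F a quasi-coherent module on S, if the
pullback of F to S' is of finite presentation then F is of finite presentation. -/
theorem result {S S' : Scheme.{u}} (g : S' ⟶ S) [Flat g] [Surjective g] [QuasiCompact g]
    (F : S.Modules) (hF : Coh.IsQCoh F)
    (h : CohB1.IsFP ((Scheme.Modules.pullback g).obj F)) : CohB1.IsFP F := by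
  have : F.IsQuasicoherent := hF
  have : ((Scheme.Modules.pullback g).obj F).IsFinitePresentation := h
  exact Groth.Agent.Lib.Helper29.QCoh.isFinitePresentation_of_pullback g F

end Groth.Agent.S5134
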