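import Groth.Statements.S5135
-- import your own Groth.Agent.* helpers here

set_option autoImplicit false
universe u
open scoped TensorProduct
open SGA1

namespace Groth.Agent.S5135

open TensorProduct

section

variable (A A' : Type u) [CommRing A] [CommRing A'] [Algebra A A']
  (M : Type u) [AddCommGroup M] [Module A M] (N' : Submodule A' (A' ⊗[A] M))

/-- The quotient map `A' ⊗ M → (A' ⊗ M) ⧸ N'`, as an `A`-linear map. -/
noncomputable def qmap : A' ⊗[A] M →ₗ[A] (A' ⊗[A] M) ⧸ N' := N'.mkQ.restrictScalars A

/-- `m ↦ [1 ⊗ m]`. -/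
noncomputable def kmap : M →ₗ[A] (A' ⊗[A] M) ⧸ N' := (qmap A A' M N').comp (TensorProduct.mk A A' M 1)

/-- `(a ⊗ b) ⊗ m ↦ a ⊗ [b ⊗ m]`. -/
noncomputable def rho : (A' ⊗[A] A') ⊗[A] M →ₗ[A] A' ⊗[A] ((A' ⊗[A] M) ⧸ N') :=
  (LinearMap.lTensor A' (qmap A A' M N')).comp (TensorProduct.assoc A A' A' M).toLinearMap

theorem rho_tmul (a b : A') (m : M) :
    rho A A' M N' ((a ⊗ₜ b) ⊗ₜ m) = a ⊗ₜ (N'.mkQ (b ⊗ₜ m)) := rfl

theorem rho_smul (a b : A') (z : (A' ⊗[A] A') ⊗[A] M) :
    rho A A' M N' ((a ⊗ₜ[A] b) • z) =
      TensorProduct.map ((LinearMap.lsmul A' A' a).restrictScalars A)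
        ((LinearMap.lsmul A' ((A' ⊗[A] M) ⧸ N') b).restrictScalars A) (rho A A' M N' z) := by
  induction z using TensorProduct.induction_on with
  | zero => simp
  | add x y hx hy => simp only [smul_add, map_add, hx, hy]
  | tmul t m =>
    induction t using TensorProduct.induction_on with
    | zero => simp
    | add x y hx hy => simp only [add_tmul, smul_add, map_add, hx, hy]
    | tmul c d =>
      rw [TensorProduct.smul_tmul', smul_eq_mul, Algebra.TensorProduct.tmul_mul_tmul, rho_tmul,
        rho_tmul, TensorProduct.map_tmul]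
      simp only [LinearMap.coe_restrictScalars, LinearMap.lsmul_apply, smul_eq_mul]
      rw [← map_smul, TensorProduct.smul_tmul', smul_eq_mul]

/-- The kernel of `rho` as a submodule over `A' ⊗ A'`. -/
noncomputable def kerRho : Submodule (A' ⊗[A] A') ((A' ⊗[A] A') ⊗[A] M) where
  carrier := {z | rho A A' M N' z = 0}
  add_mem' := by
    intro x y hx hy
    simp only [Set.mem_ofPred_eq] at hx hy ⊢
    rw [map_add, hx, hy, add_zero]
  zero_mem' := by simp
  smul_mem' := by
    intro t z hz
    simp only [Set.mem_ofPred_eq] at hz ⊢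
    induction t using TensorProduct.induction_on with
    | zero => simp
    | add x y hx hy => rw [add_smul, map_add, hx, hy, add_zero]
    | tmul a b => rw [rho_smul, hz, map_zero]

theorem rho_includeRight (y : A' ⊗[A] M) :
    rho A A' M N' ((Algebra.TensorProduct.includeRight : A' →ₐ[A] A' ⊗[A] A').toLinearMap.rTensor M y) =
      (1 : A') ⊗ₜ[A] (N'.mkQ y) := by
  induction y using TensorProduct.induction_on with
  | zero => simp
  | add x y hx hy => simp only [map_add, tmul_add, hx, hy]
  | tmul b m => rfl

theorem rho_includeLeft (y : A' ⊗[A] M) :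
    rho A A' M N' ((Algebra.TensorProduct.includeLeft : A' →ₐ[A] A' ⊗[A] A').toLinearMap.rTensor M y) =
      LinearMap.lTensor A' (kmap A A' M N') y := by
  induction y using TensorProduct.induction_on with
  | zero => simp
  | add x y hx hy => simp only [map_add, hx, hy]
  | tmul b m => rfl

end

/-- The affine case, in submodule form (descent of submodules, equivalently of quotient modules): for A
⟶ A' faithfully flat, M an A-module and N' an A'-submodule of A' ⊗ M whose two extensions to (A' ⊗
A') ⊗ M, along a ↦ a ⊗ 1 and a ↦ 1 ⊗ a, generate the same submodule, N' is the base change of the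
submodule of M formed by the elements m with 1 ⊗ m in N'. -/
theorem result (A A' : Type u) [CommRing A] [CommRing A'] [Algebra A A']
    [Module.FaithfullyFlat A A'] (M : Type u) [AddCommGroup M] [Module A M] (N' : Submodule A' (A' ⊗[A] M))
    (h : Submodule.span (A' ⊗[A] A')
          ((N'.restrictScalars A).map
            ((Algebra.TensorProduct.includeLeft : A' →ₐ[A] A' ⊗[A] A').toLinearMap.rTensor M) : Set ((A' ⊗[A] A') ⊗[A] M)) =
        Submodule.span (A' ⊗[A] A')
          ((N'.restrictScalars A).map
            ((Algebra.TensorProduct.includeRight : A' →ₐ[A] A' ⊗[A] A').toLinearMap.rTensor M) : Set ((A' ⊗[A] A') ⊗[A] M))) :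
    ((N'.restrictScalars A).comap (TensorProduct.mk A A' M 1)).baseChange A' = N' := by
  apply le_antisymm
  · rw [Submodule.baseChange_eq_span, Submodule.span_le]
    rintro _ ⟨m, hm, rfl⟩
    exact hm
  · intro x hx
    -- `j₁ x` lies in the kernel of `rho`
    have h1 : (Algebra.TensorProduct.includeLeft : A' →ₐ[A] A' ⊗[A] A').toLinearMap.rTensor M x ∈
        Submodule.span (A' ⊗[A] A')
          ((N'.restrictScalars A).map
            ((Algebra.TensorProduct.includeLeft : A' →ₐ[A] A' ⊗[A] A').toLinearMap.rTensor M) :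
              Set ((A' ⊗[A] A') ⊗[A] M)) :=
      Submodule.subset_span ⟨x, hx, rfl⟩
    rw [h] at h1
    have h2 : Submodule.span (A' ⊗[A] A')
          ((N'.restrictScalars A).map
            ((Algebra.TensorProduct.includeRight : A' →ₐ[A] A' ⊗[A] A').toLinearMap.rTensor M) :
              Set ((A' ⊗[A] A') ⊗[A] M)) ≤ kerRho A A' M N' := by
      rw [Submodule.span_le]
      rintro _ ⟨y, hy, rfl⟩
      change rho A A' M N' _ = 0
      rw [rho_includeRight, Submodule.mkQ_apply, (Submodule.Quotient.mk_eq_zero N').mpr hy,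
        tmul_zero]
    have h3 : rho A A' M N'
        ((Algebra.TensorProduct.includeLeft : A' →ₐ[A] A' ⊗[A] A').toLinearMap.rTensor M x) = 0 :=
      h2 h1
    rw [rho_includeLeft] at h3
    -- exactness
    have hex : Function.Exact ((N'.restrictScalars A).comap (TensorProduct.mk A A' M 1)).subtype
        (kmap A A' M N') := by
      intro m
      constructor
      · intro hm
        refine ⟨⟨m, ?_⟩, rfl⟩
        change (TensorProduct.mk A A' M 1) m ∈ N'.restrictScalars A
        exact (Submodule.Quotient.mk_eq_zero N').mp hm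
      · rintro ⟨⟨m, hm⟩, rfl⟩
        exact (Submodule.Quotient.mk_eq_zero N').mpr hm
    have hex' := Module.Flat.lTensor_exact A' hex
    obtain ⟨w, hw⟩ := (hex' x).mp h3
    exact ⟨w, hw⟩

end Groth.Agent.S5135
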