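import Groth.Statements.S5136
import Groth.Agent.Lib.Helper26.SchemeImage

set_option autoImplicit false
open CategoryTheory CategoryTheory.Limits AlgebraicGeometry
universe u
open SGA1

namespace Groth.Agent.S5136

/-- The existence half of the exactness of H(S) ⟶ H(S') ⇉ H(S'') for closed subschemes: for g : S' ⟶ S
flat, surjective and quasi-compact, a quasi-coherent ideal sheaf on S' whose pullbacks along the two
projections of S' ×_S S' agree is the pullback of a quasi-coherent ideal sheaf on S. (Injectivity of
the pullback of ideal sheaves along g is the other half.) -/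
theorem result {S S' : Scheme.{u}} (g : S' ⟶ S) [Flat g] [Surjective g]
    [QuasiCompact g] (J' : S'.IdealSheafData)
    (h : J'.comap (pullback.fst g g) = J'.comap (pullback.snd g g)) :
    ∃ J : S.IdealSheafData, J.comap g = J' := by
  refine ⟨J'.map g, le_antisymm (Scheme.IdealSheafData.comap_map_le _ _) ?_⟩
  have hF : (pullback.snd (J'.subschemeι ≫ g) g).ker = (J'.map g).comap g :=
    Groth.Agent.Lib.Helper26.ker_pullback_snd_eq_comap (J'.subschemeι ≫ g) g
  rw [← hF]
  -- the map `Q → S' ×[S] S'`
  let k : pullback (J'.subschemeι ≫ g) g ⟶ pullback g g :=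
    pullback.lift (pullback.fst (J'.subschemeι ≫ g) g ≫ J'.subschemeι)
      (pullback.snd (J'.subschemeι ≫ g) g) (by simp [pullback.condition])
  have hk1 : k ≫ pullback.fst g g = pullback.fst (J'.subschemeι ≫ g) g ≫ J'.subschemeι :=
    pullback.lift_fst _ _ _
  have hk2 : k ≫ pullback.snd g g = pullback.snd (J'.subschemeι ≫ g) g :=
    pullback.lift_snd _ _ _
  let l : pullback (J'.subschemeι ≫ g) g ⟶ pullback (pullback.fst g g) J'.subschemeι :=
    pullback.lift k (pullback.fst (J'.subschemeι ≫ g) g) hk1
  have hl : l ≫ pullback.fst (pullback.fst g g) J'.subschemeι = k := pullback.lift_fst _ _ _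
  have h1 : J'.comap (pullback.fst g g) ≤ k.ker := by
    rw [← hl]
    exact Scheme.Hom.le_ker_comp _ _
  rw [h] at h1
  have h2 : J' ≤ k.ker.map (pullback.snd g g) :=
    Scheme.IdealSheafData.le_map_iff_comap_le.mpr h1
  rwa [Scheme.IdealSheafData.map_ker, hk2] at h2

end Groth.Agent.S5136
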