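import Groth.Statements.S5138
import Groth.Agent.S2806
import Groth.Agent.Lib.Helper13.SchemeLocal

set_option autoImplicit false
open CategoryTheory AlgebraicGeometry
universe u
open SGA1

namespace Groth.Agent.S5138

open SGA1
/-- For X ⟶ X' ⟶ Y locally of finite type over a locally Noetherian Y and a point x of X, if X ⟶ X' and
the composite X ⟶ Y are both etale near x then X' ⟶ Y is etale near the image of x; 'etale near a
point' is membership in the etale locus, the union of the opens on which the morphism is etale. (The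
published statement takes the morphisms of finite type; quasi-compactness plays no role in this
assertion about single points, so only local finiteness is assumed.) -/
theorem result {X X' Y : Scheme.{u}} (f : X ⟶ X') (g : X' ⟶ Y)
    [IsLocallyNoetherian Y] [LocallyOfFiniteType f] [LocallyOfFiniteType g] (x : X)
    (hf : x ∈ Pi1X.etaleLocus f) (hfg : x ∈ Pi1X.etaleLocus (f ≫ g)) : f.base x ∈ Pi1X.etaleLocus g := by
  have key : ∀ {Z : Scheme.{u}} (k : Z ⟶ Y) [LocallyOfFiniteType k], LocallyOfFinitePresentation k := by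
    intro Z k _
    constructor
    intro U hU V hV e
    have : IsNoetherianRing Γ(Y, U) := IsLocallyNoetherian.component_noetherian ⟨U, hU⟩
    exact RingHom.FinitePresentation.of_finiteType.1 (k.finiteType_appLE hU hV e)
  have h1 : LocallyOfFinitePresentation g := key g
  have h2 : LocallyOfFinitePresentation (f ≫ g) := key (f ≫ g)
  obtain ⟨U, hU, hxU⟩ := TopologicalSpace.Opens.mem_sSup.mp hf
  obtain ⟨W, hW, hxW⟩ := TopologicalSpace.Opens.mem_sSup.mp hfg
  have hU' : Etale (Scheme.Opens.ι (X := X) U ≫ f) := hU
  have hW' : Etale (Scheme.Opens.ι (X := X) W ≫ f ≫ g) := hW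
  have hflat : (f.stalkMap x).hom.Flat :=
    (Groth.Agent.Lib.Helper13.stalkMap_ι_comp_iff RingHom.Flat.respectsIso f U ⟨x, hxU⟩).mp
      (Flat.stalkMap (Scheme.Opens.ι (X := X) U ≫ f) ⟨x, hxU⟩)
  obtain ⟨V, hxV, hV⟩ := Groth.Agent.S2806.result g (f ≫ g) f rfl x hflat ⟨W, hxW, hW'⟩
  exact TopologicalSpace.Opens.mem_sSup.mpr ⟨V, hV, hxV⟩


end Groth.Agent.S5138
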