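import Groth.Statements.S5140
import Groth.Agent.Lib.Helper24.FibCatEquiv

set_option autoImplicit false
open CategoryTheory
universe u v u₂ v₂
open FibCat

namespace Groth.Agent.S5140

open CategoryTheory
open Groth.Agent.Lib.Helper24.FibCatEquiv


/-- If the structure functor of 𝒳 is transportable (isomorphisms of C lift to isomorphisms of 𝒳 with any
prescribed source over their source), then a functor 𝒳 ⟶ 𝒴 over C whose underlying functor is an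
equivalence of categories is an equivalence over C. -/
theorem result {C : Type u} [Category.{v} C]
    {𝒳 𝒴 : BasedCategory.{v₂, u₂} C}
    (h𝒳 : ∀ ⦃T S : C⦄ (α : T ≅ S) (ξ : 𝒳.obj), 𝒳.p.obj ξ = T →
      ∃ (ξ' : 𝒳.obj) (e : ξ ≅ ξ'), 𝒳.p.IsHomLift α.hom e.hom)
    (F : 𝒳 ⥤ᵇ 𝒴) [F.toFunctor.IsEquivalence] : FibCat.IsEquivOver F := by
  have key : ∀ η : 𝒴.obj, ∃ (ξ : 𝒳.obj) (e : F.toFunctor.obj ξ ≅ η),
      𝒴.p.IsHomLift (𝟙 (𝒴.p.obj η)) e.hom := by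
    intro η
    set ξ₀ := F.toFunctor.objPreimage η with hξ₀
    set e₀ : F.toFunctor.obj ξ₀ ≅ η := F.toFunctor.objObjPreimageIso η with he₀
    let α₀ : 𝒳.p.obj ξ₀ ≅ 𝒴.p.obj η := eqToIso (F.w_obj ξ₀).symm ≪≫ 𝒴.p.mapIso e₀
    obtain ⟨ξ', e', he'⟩ := h𝒳 α₀ ξ₀ rfl
    refine ⟨ξ', (F.toFunctor.mapIso e').symm ≪≫ e₀, ?_⟩
    have h1 : 𝒳.p.IsHomLift α₀.inv e'.inv := inferInstance
    have h2 : 𝒴.p.IsHomLift α₀.inv (F.toFunctor.map e'.inv) := inferInstance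
    have h3 : 𝒴.p.IsHomLift α₀.hom e₀.hom := by
      show 𝒴.p.IsHomLift (eqToHom (F.w_obj ξ₀).symm ≫ 𝒴.p.map e₀.hom) e₀.hom
      infer_instance
    have h4 : 𝒴.p.IsHomLift (α₀.inv ≫ α₀.hom) (F.toFunctor.map e'.inv ≫ e₀.hom) := inferInstance
    rw [Iso.inv_hom_id] at h4
    exact h4
  choose ξ e he using key
  exact isEquivOver_of_liftData ⟨ξ, e, he⟩

end Groth.Agent.S5140
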