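import Groth.Statements.S5143
import Groth.Agent.Lib.Helper24.FibCatFp

set_option autoImplicit false
open CategoryTheory
universe u v u₂ v₂
open FibCat

namespace Groth.Agent.S5143

open CategoryTheory
open Groth.Agent.Lib.Helper24.FibCatFp

lemma preFibered {C : Type u} [Category.{v} C] {𝒳 𝒴 : BasedCategory.{v₂, u₂} C}
    (h1 : 𝒳.p.IsPreFibered) (h2 : 𝒴.p.IsPreFibered) : (P 𝒳 𝒴).p.IsPreFibered := by
  constructor
  intro x R f
  have key : ∀ (f' : R ⟶ 𝒳.p.obj x.obj.fst), ∃ (b : (P 𝒳 𝒴).obj) (φ : b ⟶ x),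
      (P 𝒳 𝒴).p.IsCartesian f' φ := by
    intro f'
    obtain ⟨b₁, φ₁, hφ₁⟩ := CategoryTheory.IsPreFibered.exists_isCartesian 𝒳.p rfl f'
    obtain ⟨b₂, φ₂, hφ₂⟩ := CategoryTheory.IsPreFibered.exists_isCartesian 𝒴.p (p_eq x).symm f'
    have hz : 𝒳.p.obj b₁ = 𝒴.p.obj b₂ :=
      (IsHomLift.domain_eq 𝒳.p f' φ₁).trans (IsHomLift.domain_eq 𝒴.p f' φ₂).symm
    refine ⟨mkObj b₁ b₂ hz, mkHom f' φ₁ φ₂, ?_⟩
    rw [isCartesian_fp_iff]
    exact ⟨hφ₁, hφ₂⟩
  exact key f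


/-- The fibre product over C of two fibred (resp. prefibred) categories over C is fibred (resp.
prefibred); fibred and prefibred are Mathlib's notions for the structure functors, and the fibre
product is the 2-fibre product over C of the two structure functors. -/
theorem result {C : Type u} [Category.{v} C] {𝒳 𝒴 : BasedCategory.{v₂, u₂} C} :
    (𝒳.p.IsFibered → 𝒴.p.IsFibered → (FibCat.fp (FibCat.toSelf 𝒳) (FibCat.toSelf 𝒴)).p.IsFibered) ∧
      (𝒳.p.IsPreFibered → 𝒴.p.IsPreFibered → (FibCat.fp (FibCat.toSelf 𝒳) (FibCat.toSelf 𝒴)).p.IsPreFibered) := by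
  refine ⟨?_, fun h1 h2 => preFibered h1 h2⟩
  intro h1 h2
  have hpre : (P 𝒳 𝒴).p.IsPreFibered := preFibered h1.toIsPreFibered h2.toIsPreFibered
  refine { toIsPreFibered := hpre, comp := ?_ }
  intro R S T f g a b c φ ψ hφ hψ
  rw [isCartesian_fp_iff] at hφ hψ ⊢
  obtain ⟨hφ1, hφ2⟩ := hφ
  obtain ⟨hψ1, hψ2⟩ := hψ
  rw [comp_fst, comp_snd]
  exact ⟨Functor.IsFibered.comp f g _ _, Functor.IsFibered.comp f g _ _⟩

end Groth.Agent.S5143
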