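import Groth.Statements.S5147
import Mathlib
import Groth.Agent.S1189

set_option autoImplicit false
universe u v w
open CategoryTheory PreGaloisCategory
open Pi1

namespace Groth.Agent.S5147

section helpers
open CategoryTheory PreGaloisCategory
open Pi1

open Limits

theorem main {C C' : Type u} [Category.{v} C] [Category.{v} C']
    [GaloisCategory C] [GaloisCategory C'] (H : C ⥤ C') [PreservesFiniteLimits H] [PreservesFiniteColimits H]
    (F' : C' ⥤ FintypeCat.{w}) [FiberFunctor F'] [FiberFunctor (H ⋙ F')] (X : C) [IsConnected X]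
    (a : (H ⋙ F').obj X) :
    Subgroup.normalClosure ((Pi1X.autWhisker H F').range : Set (Aut (H ⋙ F'))) ≤ MulAction.stabilizer (Aut (H ⋙ F')) a ↔
      ∃ n : ℕ, Nonempty (H.obj X ≅ ∐ fun _ : Fin n => ⊤_ C') := by
  constructor
  · intro hle
    apply Groth.Agent.S1189.exists_iso_coprod_terminal_of_smul_eq F'
    intro σ x
    obtain ⟨τ, hτ⟩ := MulAction.exists_smul_eq (Aut (H ⋙ F')) a (show (H ⋙ F').obj X from x)
    have hmem : τ⁻¹ * Pi1X.autWhisker H F' σ * τ ∈
        Subgroup.normalClosure ((Pi1X.autWhisker H F').range : Set (Aut (H ⋙ F'))) := by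
      have h1 : Pi1X.autWhisker H F' σ ∈
          Subgroup.normalClosure ((Pi1X.autWhisker H F').range : Set (Aut (H ⋙ F'))) :=
        Subgroup.subset_normalClosure ⟨σ, rfl⟩
      have := Subgroup.Normal.conj_mem Subgroup.normalClosure_normal _ h1 τ⁻¹
      simpa using this
    have h2 := hle hmem
    rw [MulAction.mem_stabilizer_iff, mul_smul, mul_smul, hτ, inv_smul_eq_iff, hτ] at h2
    exact h2
  · rintro ⟨n, ⟨e⟩⟩
    have hK : ((Pi1X.autWhisker H F').range : Set (Aut (H ⋙ F'))) ⊆
        ((MulAction.toPermHom (Aut (H ⋙ F')) ((H ⋙ F').obj X)).ker : Set (Aut (H ⋙ F'))) := by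
      rintro _ ⟨σ, rfl⟩
      rw [SetLike.mem_coe, MonoidHom.mem_ker]
      ext x
      exact Groth.Agent.S1189.smul_eq_of_iso_coprod_terminal F' e σ x
    refine (Subgroup.normalClosure_le_normal hK).trans ?_
    intro τ hτ
    rw [MonoidHom.mem_ker] at hτ
    rw [MulAction.mem_stabilizer_iff]
    have := congrArg (fun p : Equiv.Perm ((H ⋙ F').obj X) => p a) hτ
    exact this

end helpers

open CategoryTheory.Limits in
/-- In the situation of the first assertion, the stabilizer U of a contains the normal subgroup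
generated by the image of u (hence also its closure, U being open) if and only if H(X) is isomorphic
to a finite coproduct of copies of the final object of C'. -/
theorem result {C C' : Type u} [Category.{v} C] [Category.{v} C']
    [GaloisCategory C] [GaloisCategory C'] (H : C ⥤ C') [PreservesFiniteLimits H] [PreservesFiniteColimits H]
    (F' : C' ⥤ FintypeCat.{w}) [FiberFunctor F'] [FiberFunctor (H ⋙ F')] (X : C) [IsConnected X]
    (a : (H ⋙ F').obj X) :
    Subgroup.normalClosure ((Pi1X.autWhisker H F').range : Set (Aut (H ⋙ F'))) ≤ MulAction.stabilizer (Aut (H ⋙ F')) a ↔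
      ∃ n : ℕ, Nonempty (H.obj X ≅ ∐ fun _ : Fin n => ⊤_ C') := by
  exact main H F' X a

end Groth.Agent.S5147
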