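import Groth.Statements.S5155
import Groth.Agent.Lib.Helper25.Matlis

set_option autoImplicit false
universe u
open Matlis

namespace Groth.Agent.S5155

/-- Let A be a Noetherian local ring with residue field k. An A-module E is an injective hull of k if
and only if E is injective, E is m-power torsion, and Hom_A(k, E) is simple (one-dimensional over
k). (The torsion condition is needed: for a prime p ≠ m the module E(k) ⊕ E(A/p) is injective with
Hom_A(k, −) simple, represents the same functor on modules of finite length, and is not an injective
hull of k; the published definition of a dualizing module leaves this condition implicit and the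
published proof uses it.) -/
theorem result (A : Type u) [CommRing A] [IsLocalRing A] [IsNoetherianRing A] (E : Type u) [AddCommGroup E] [Module A E] : (∃ f : IsLocalRing.ResidueField A →ₗ[A] E, InjHull.IsInjectiveHull f) ↔ (Module.Injective A E ∧ LocCoh.IsPowerTorsion (IsLocalRing.maximalIdeal A) E ∧ IsSimpleModule A (IsLocalRing.ResidueField A →ₗ[A] E)) := by
  open Groth.Agent.Lib.Helper25 in
  constructor
  · rintro ⟨f, hf⟩
    refine ⟨hf.isInjective, isPowerTorsion_of_isInjectiveHull f hf, ?_⟩
    exact IsSimpleModule.congr (homResidueEquiv f hf.toIsEssentialInj)
  · rintro ⟨hinj, hpt, hsimple⟩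
    have hs : IsSimpleModule A (LocCoh.torsionBy (IsLocalRing.maximalIdeal A) E) :=
      IsSimpleModule.congr (homResidueEquivSocle E).symm
    obtain ⟨e⟩ := nonempty_equiv_residueField_of_isSimpleModule (R := A)
      (LocCoh.torsionBy (IsLocalRing.maximalIdeal A) E)
    refine ⟨(LocCoh.torsionBy (IsLocalRing.maximalIdeal A) E).subtype ∘ₗ e.symm.toLinearMap, ?_, hinj⟩
    exact essInj_comp (isEssentialInj_of_bijective e.symm.bijective)
      (essIn_top_iff.1 (essIn_socle_of_isPowerTorsion hpt))

end Groth.Agent.S5155
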