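import Groth.Statements.S5163
import Mathlib.RingTheory.Ideal.AssociatedPrime.Basic
import Mathlib.RingTheory.LocalRing.Module
import Mathlib.RingTheory.LocalRing.ResidueField.Ideal
import Mathlib.RingTheory.Localization.Integer
import Mathlib.LinearAlgebra.Dual.Lemmas

set_option autoImplicit false
universe u
open LocCoh

namespace Groth.Agent.S5163

/-- For modules over a Noetherian ring. Let P be a finite A-module and H any A-module with Supp H ⊆ Supp
P. If Hom_A(P, H) = 0 then H = 0. (The published lemma is stated over an arbitrary prescheme; its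
proof uses that a nonzero module has an associated prime, so the ring is taken Noetherian here.) -/
theorem result (A : Type u) [CommRing A] [IsNoetherianRing A] (P H : Type u) [AddCommGroup P] [Module A P] [Module.Finite A P] [AddCommGroup H] [Module A H] (hsupp : Module.support A H ⊆ Module.support A P) (hhom : Subsingleton (P →ₗ[A] H)) : Subsingleton H := by
  classical
  by_contra hH
  rw [not_subsingleton_iff_nontrivial] at hH
  obtain ⟨𝔭, h𝔭⟩ := associatedPrimes.nonempty A H
  obtain ⟨hprime, ι, hι⟩ := (isAssociatedPrime_iff_exists_injective_linearMap 𝔭 H).1 h𝔭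
  -- `𝔭` is in the support of `H`, hence of `P`
  have hsuppH : (⟨𝔭, hprime⟩ : PrimeSpectrum A) ∈ Module.support A H := by
    rw [Module.mem_support_iff_exists_annihilator]
    refine ⟨ι 1, ?_⟩
    intro a ha
    rw [Submodule.mem_annihilator_span_singleton] at ha
    have h1 : ι (a • (1 : A ⧸ 𝔭)) = 0 := by rw [map_smul]; exact ha
    have h2 : a • (1 : A ⧸ 𝔭) = 0 := hι (h1.trans (map_zero ι).symm)
    have h3 : Ideal.Quotient.mk 𝔭 a = 0 := by
      rw [← h2, Algebra.smul_def, mul_one]; rfl
    exact Ideal.Quotient.eq_zero_iff_mem.mp h3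
  have hsuppP := hsupp hsuppH
  rw [Module.mem_support_iff_nontrivial_residueField_tensorProduct] at hsuppP
  change Nontrivial (TensorProduct A 𝔭.ResidueField P) at hsuppP
  -- a nonzero `A`-linear map `P → κ(𝔭)`
  obtain ⟨v, hv⟩ := exists_ne (0 : TensorProduct A 𝔭.ResidueField P)
  obtain ⟨f, hf⟩ := Module.Projective.exists_dual_ne_zero 𝔭.ResidueField hv
  let ψ : P →ₗ[A] 𝔭.ResidueField :=
    (f.restrictScalars A).comp (TensorProduct.mk A 𝔭.ResidueField P 1)
  have hψ : ψ ≠ 0 := by
    intro h0
    apply hf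
    have : ∀ w : TensorProduct A 𝔭.ResidueField P, f w = 0 := by
      intro w
      induction w using TensorProduct.induction_on with
      | zero => exact map_zero f
      | tmul k p =>
        have e : k ⊗ₜ[A] p = k • ((1 : 𝔭.ResidueField) ⊗ₜ[A] p) := by
          rw [TensorProduct.smul_tmul', smul_eq_mul, mul_one]
        rw [e, map_smul]
        have : f ((1 : 𝔭.ResidueField) ⊗ₜ[A] p) = ψ p := rfl
        rw [this, h0]
        simp
      | add x y hx hy => rw [map_add, hx, hy, add_zero]
    exact this v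
  -- clear denominators
  obtain ⟨gens, hgens⟩ := (Module.Finite.fg_top : (⊤ : Submodule A P).FG)
  obtain ⟨b, hb⟩ := IsLocalization.exist_integer_multiples_of_finset (nonZeroDivisors (A ⧸ 𝔭))
    (gens.image ψ)
  obtain ⟨a, ha⟩ := Ideal.Quotient.mk_surjective (b : A ⧸ 𝔭)
  let g : (A ⧸ 𝔭) →ₗ[A] 𝔭.ResidueField :=
    (Algebra.linearMap (A ⧸ 𝔭) 𝔭.ResidueField).restrictScalars A
  have hg : Function.Injective g := Ideal.injective_algebraMap_quotient_residueField 𝔭
  have hrange : ∀ p : P, (a • ψ) p ∈ LinearMap.range g := by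
    intro p
    have hp : p ∈ Submodule.span A (gens : Set P) := by rw [hgens]; trivial
    induction hp using Submodule.span_induction with
    | mem x hx =>
      obtain ⟨d, hd⟩ := hb (ψ x) (Finset.mem_image_of_mem ψ hx)
      refine ⟨d, ?_⟩
      change algebraMap (A ⧸ 𝔭) 𝔭.ResidueField d = a • ψ x
      rw [hd, ← ha, Algebra.smul_def, Algebra.smul_def]
      rfl
    | zero => simp
    | add x y _ _ hx hy =>
      rw [map_add]
      exact Submodule.add_mem _ hx hy
    | smul c x _ hx =>
      rw [map_smul]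
      exact Submodule.smul_mem _ c hx
  let φ : P →ₗ[A] (A ⧸ 𝔭) :=
    (LinearEquiv.ofInjective g hg).symm.toLinearMap.comp (LinearMap.codRestrict _ (a • ψ) hrange)
  have hφ : ∀ p, g (φ p) = a • ψ p := by
    intro p
    have := (LinearEquiv.ofInjective g hg).apply_symm_apply (LinearMap.codRestrict _ (a • ψ) hrange p)
    exact congrArg Subtype.val this
  -- the composite `P → A/𝔭 → H` is nonzero
  have hzero : ι.comp φ = 0 := Subsingleton.elim _ _
  apply hψ
  ext p
  have h1 : ι (φ p) = 0 := LinearMap.congr_fun hzero p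
  have h2 : φ p = 0 := hι (h1.trans (map_zero ι).symm)
  have h3 : a • ψ p = 0 := by rw [← hφ, h2, map_zero]
  have hb0 : algebraMap (A ⧸ 𝔭) 𝔭.ResidueField (b : A ⧸ 𝔭) ≠ 0 :=
    map_ne_zero_of_mem_nonZeroDivisors _ (Ideal.injective_algebraMap_quotient_residueField 𝔭) b.2
  have h4 : a • ψ p = algebraMap (A ⧸ 𝔭) 𝔭.ResidueField (b : A ⧸ 𝔭) * ψ p := by
    rw [← ha, Algebra.smul_def]; rfl
  rw [h4] at h3
  rcases mul_eq_zero.mp h3 with h | h
  · exact absurd h hb0
  · simpa using h

end Groth.Agent.S5163
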