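import Groth.Statements.S5165
import Groth.Agent.Lib.Helper16.FaltingsAnnRegular2
import Mathlib.RingTheory.LocalProperties.ProjectiveDimension

set_option autoImplicit false
universe u
open CategoryTheory
open LocCoh

namespace Groth.Agent.S5165

section helpers
open CategoryTheory
open LocCoh

theorem result_aux (A : Type u) [CommRing A] [IsRegularRing A] (M : Type u) [AddCommGroup M] [Module A M] [Module.Finite A M] : ∃ d : ℕ, HasProjectiveDimensionLE (ModuleCat.of A M) d := by
  obtain ⟨T, hT⟩ := Groth.Agent.Lib.Helper16.FAT.exists_forall_hasProjectiveDimensionLT_of_isRegularRing A M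
  refine ⟨T, ?_⟩
  rw [ModuleCat.hasProjectiveDimensionLE_iff_forall_primeSpectrum]
  intro p
  have h1 := hT p.asIdeal
  have e : (ModuleCat.of A M).localizedModule p.asIdeal.primeCompl ≅
      ModuleCat.of (Localization.AtPrime p.asIdeal) (LocalizedModule p.asIdeal.primeCompl M) :=
    (Shrink.linearEquiv (Localization p.asIdeal.primeCompl) (LocalizedModule p.asIdeal.primeCompl M)).toModuleIso
  have h2 : HasProjectiveDimensionLT ((ModuleCat.of A M).localizedModule p.asIdeal.primeCompl) T :=
    hasProjectiveDimensionLT_of_iso e.symm T
  exact hasProjectiveDimensionLT_of_ge _ T (T+1) (Nat.le_succ T)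

end helpers

/-- Suppose A is a regular Noetherian ring and consider a finitely generated A-module M. Then some
natural number d bounds the projective dimension of M (equivalently, p ↦ proj.dim M_p stays bounded
as p ranges over Spec A, and this holds even if the Krull dimension of A is infinite). -/
theorem result (A : Type u) [CommRing A] [IsRegularRing A] (M : Type u) [AddCommGroup M] [Module A M] [Module.Finite A M] : ∃ d : ℕ, HasProjectiveDimensionLE (ModuleCat.of A M) d := by
  exact result_aux A M

end Groth.Agent.S5165
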