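import Groth.Statements.S5166
import Mathlib.RingTheory.Ideal.KrullsHeightTheorem
import Mathlib.RingTheory.Ideal.Height
import Mathlib.RingTheory.Ideal.MinimalPrime.Noetherian
import Mathlib.RingTheory.LocalRing.Quotient

set_option autoImplicit false
universe u
open LocCoh

namespace Groth.Agent.S5166

/-- A Noetherian local domain in which every nonzero prime contains a fixed nonzero element
has dimension at most one. -/
theorem height_maximalIdeal_le_one (D : Type u) [CommRing D] [IsDomain D] [IsLocalRing D]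
    [IsNoetherianRing D] (a : D) (ha0 : a ≠ 0) (ham : a ∈ IsLocalRing.maximalIdeal D)
    (h : ∀ Q : Ideal D, Q.IsPrime → Q ≠ ⊥ → a ∈ Q) :
    (IsLocalRing.maximalIdeal D).height ≤ 1 := by
  classical
  by_contra hlt
  push Not at hlt
  set 𝔪 := IsLocalRing.maximalIdeal D with h𝔪
  have hfin : (Ideal.span {a}).minimalPrimes.Finite :=
    Ideal.finite_minimalPrimes_of_isNoetherianRing D _
  -- prime avoidance: find `x ∈ 𝔪` outside `⊥` and all minimal primes over `(a)`
  let s : Finset (Ideal D) := insert ⊥ hfin.toFinset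
  have hprime : ∀ i ∈ s, (i : Ideal D).IsPrime := by
    intro i hi
    rcases Finset.mem_insert.mp hi with rfl | hi
    · exact Ideal.isPrime_bot
    · exact (hfin.mem_toFinset.mp hi).1.1
  have hnot : ¬ ∃ i ∈ s, 𝔪 ≤ id i := by
    rintro ⟨i, hi, hle⟩
    rcases Finset.mem_insert.mp hi with rfl | hi
    · exact ha0 (by simpa using hle ham)
    · have hi' := hfin.mem_toFinset.mp hi
      have h1 : (i : Ideal D).height ≤ 1 :=
        Ideal.height_le_one_of_isPrincipal_of_mem_minimalPrimes (Ideal.span {a}) i hi'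
      exact absurd (le_trans (Ideal.height_mono hle) h1) (not_le.mpr hlt)
  have hav := (Ideal.subset_union_prime (R := D) (s := s) (f := id) ⊥ ⊥
    (fun i hi _ _ => hprime i hi) (I := 𝔪)).not.mpr hnot
  rw [Set.not_subset] at hav
  obtain ⟨x, hx𝔪, hxnot⟩ := hav
  simp only [Set.mem_iUnion, not_exists] at hxnot
  have hx0 : x ≠ 0 := by
    intro hx
    exact hxnot ⊥ (Finset.mem_coe.mpr (Finset.mem_insert_self _ _)) (by simp [hx])
  have hxtop : Ideal.span {x} ≠ ⊤ := by
    intro htop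
    have : (1 : D) ∈ 𝔪 := by
      have h1 : (1 : D) ∈ Ideal.span {x} := by rw [htop]; trivial
      exact ((Ideal.span_singleton_le_iff_mem _).mpr hx𝔪) h1
    exact (Ideal.ne_top_iff_one _).mp (IsLocalRing.maximalIdeal.isMaximal D).ne_top this
  obtain ⟨⟨Q, hQ⟩⟩ := Ideal.nonempty_minimalPrimes hxtop
  have hQprime : Q.IsPrime := hQ.1.1
  have hxQ : x ∈ Q := hQ.1.2 (Ideal.subset_span rfl)
  have hQht : Q.height ≤ 1 :=
    Ideal.height_le_one_of_isPrincipal_of_mem_minimalPrimes (Ideal.span {x}) Q hQ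
  have hQbot : Q ≠ ⊥ := fun hb => hx0 (by simpa [hb] using hxQ)
  have haQ : a ∈ Q := h Q hQprime hQbot
  obtain ⟨P, hP, hPQ⟩ := Ideal.exists_minimalPrimes_le
    (show Ideal.span {a} ≤ Q from (Ideal.span_singleton_le_iff_mem _).mpr haQ)
  have hPprime : P.IsPrime := hP.1.1
  have haP : a ∈ P := hP.1.2 (Ideal.subset_span rfl)
  have hPbot : (⊥ : Ideal D) < P := bot_lt_iff_ne_bot.mpr (fun hb => ha0 (by simpa [hb] using haP))
  have hxP : x ∉ P := hxnot P
    (Finset.mem_coe.mpr (Finset.mem_insert_of_mem (hfin.mem_toFinset.mpr hP)))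
  have hPltQ : P < Q := lt_of_le_of_ne hPQ (fun heq => hxP (heq ▸ hxQ))
  have h1 : (⊥ : Ideal D).height + 1 ≤ P.height :=
    Ideal.height_add_one_le_of_lt_of_isPrime hPbot
  have h2 : P.height + 1 ≤ Q.height := Ideal.height_add_one_le_of_lt_of_isPrime hPltQ
  have h3 : (2 : ℕ∞) ≤ Q.height := by
    calc (2 : ℕ∞) = 0 + 1 + 1 := by norm_num
      _ ≤ (⊥ : Ideal D).height + 1 + 1 := by gcongr; exact zero_le
      _ ≤ P.height + 1 := by gcongr
      _ ≤ Q.height := h2
  have : (2 : ℕ∞) ≤ 1 := le_trans h3 hQht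
  norm_num at this

/-- In its local form at a point y ∈ Y (A = O_{X,y}). Let A be a Noetherian local ring and I ≠ A an
ideal contained in no minimal prime of A. Then some prime p ⊉ I has dim A/p = 1. -/
theorem result (A : Type u) [CommRing A] [IsLocalRing A] [IsNoetherianRing A] (I : Ideal A) (hI : I ≠ ⊤) (hdense : ∀ q ∈ minimalPrimes A, ¬ I ≤ q) : ∃ p : PrimeSpectrum A, ¬ I ≤ p.asIdeal ∧ ringKrullDim (A ⧸ p.asIdeal) = 1 := by
  classical
  -- pick `a ∈ I` outside some minimal prime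
  obtain ⟨⟨q₀, hq₀⟩⟩ := Ideal.nonempty_minimalPrimes (show (⊥ : Ideal A) ≠ ⊤ from bot_ne_top)
  have hIq₀ : ¬ I ≤ q₀ := hdense q₀ hq₀
  obtain ⟨a, haI, haq₀⟩ := SetLike.not_le_iff_exists.mp hIq₀
  -- a prime maximal among those not containing `a`
  let S : Set (Ideal A) := {J | J.IsPrime ∧ a ∉ J}
  have hSne : S.Nonempty := ⟨q₀, hq₀.1.1, haq₀⟩
  have hwf : WellFoundedGT (Ideal A) := inferInstance
  obtain ⟨P, ⟨hPprime, haP⟩, hPmax⟩ := hwf.wf.has_min S hSne
  have hmax : ∀ Q : Ideal A, Q.IsPrime → P < Q → a ∈ Q := by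
    intro Q hQ hPQ
    by_contra haQ
    exact hPmax Q ⟨hQ, haQ⟩ hPQ
  have ham : a ∈ IsLocalRing.maximalIdeal A := IsLocalRing.le_maximalIdeal hI haI
  refine ⟨⟨P, hPprime⟩, fun hIP => haP (hIP haI), ?_⟩
  change ringKrullDim (A ⧸ P) = 1
  have : IsDomain (A ⧸ P) := Ideal.Quotient.isDomain P
  have : IsLocalRing (A ⧸ P) :=
    IsLocalRing.of_surjective' (Ideal.Quotient.mk P) Ideal.Quotient.mk_surjective
  have ha0 : Ideal.Quotient.mk P a ≠ 0 := fun h => haP (Ideal.Quotient.eq_zero_iff_mem.mp h)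
  have hamD : Ideal.Quotient.mk P a ∈ IsLocalRing.maximalIdeal (A ⧸ P) := by
    rw [IsLocalRing.mem_maximalIdeal, mem_nonunits_iff]
    intro hu
    obtain ⟨y, hy⟩ := hu.exists_right_inv
    obtain ⟨b, rfl⟩ := Ideal.Quotient.mk_surjective y
    have h1 : a * b - 1 ∈ P := by
      rw [← Ideal.Quotient.eq_zero_iff_mem, map_sub, map_mul, hy, map_one, sub_self]
    have hPm : P ≤ IsLocalRing.maximalIdeal A := IsLocalRing.le_maximalIdeal hPprime.ne_top
    have h2 : a * b ∈ IsLocalRing.maximalIdeal A := Ideal.mul_mem_right _ _ ham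
    have h3 : (1 : A) ∈ IsLocalRing.maximalIdeal A := by
      have := Ideal.sub_mem _ h2 (hPm h1)
      simpa using this
    exact (Ideal.ne_top_iff_one _).mp (IsLocalRing.maximalIdeal.isMaximal A).ne_top h3
  have hall : ∀ Q : Ideal (A ⧸ P), Q.IsPrime → Q ≠ ⊥ → Ideal.Quotient.mk P a ∈ Q := by
    intro Q hQ hQbot
    have hlt : P < Q.comap (Ideal.Quotient.mk P) := by
      refine lt_of_le_of_ne ?_ ?_
      · intro x hx
        rw [Ideal.mem_comap, Ideal.Quotient.eq_zero_iff_mem.mpr hx]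
        exact Q.zero_mem
      · intro heq
        apply hQbot
        rw [eq_bot_iff]
        intro y hy
        obtain ⟨x, rfl⟩ := Ideal.Quotient.mk_surjective y
        have : x ∈ Q.comap (Ideal.Quotient.mk P) := hy
        rw [← heq] at this
        exact Ideal.Quotient.eq_zero_iff_mem.mpr this
    exact hmax _ (Ideal.IsPrime.comap _) hlt
  have hle := height_maximalIdeal_le_one (A ⧸ P) _ ha0 hamD hall
  have hge : (1 : ℕ∞) ≤ (IsLocalRing.maximalIdeal (A ⧸ P)).height := by
    have hlt : (⊥ : Ideal (A ⧸ P)) < IsLocalRing.maximalIdeal (A ⧸ P) :=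
      bot_lt_iff_ne_bot.mpr (fun hb => ha0 (by simpa [hb] using hamD))
    have := Ideal.height_add_one_le_of_lt_of_isPrime hlt
    exact le_trans (by simp) this
  rw [← IsLocalRing.maximalIdeal_height_eq_ringKrullDim, le_antisymm hle hge]
  rfl

end Groth.Agent.S5166
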