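import Groth.Statements.S5167
import Groth.Agent.Lib.Helper16.FaltingsFinite
import Groth.Agent.Lib.Helper16.FiniteLengthLC
import Groth.Agent.Lib.Helper18.SerreReg2

set_option autoImplicit false
universe u
open LocCoh

namespace Groth.Agent.S5167

section helpers
open LocCoh

theorem result_aux (R : Type u) [CommRing R] [IsRegularLocalRing R] (A : Type u) [CommRing A] [IsLocalRing A] [IsNoetherianRing A] (π : R →+* A) (hπ : Function.Surjective π) (M : Type u) [AddCommGroup M] [Module A M] [Module.Finite A M] (n : ℕ) : (∀ i : ℕ, i ≤ n → IsFiniteLength A (LocCoh.H (IsLocalRing.maximalIdeal A) i M)) ↔ ∀ p : PrimeSpectrum A, p.asIdeal ≠ IsLocalRing.maximalIdeal A → ∀ e : ℕ, ringKrullDim (A ⧸ p.asIdeal) = e → (n : ℕ∞) < LocCoh.depth (Localization.AtPrime p.asIdeal) (LocalizedModule p.asIdeal.primeCompl M) + e := by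
  have hreg : IsRegularRing R := isRegularRing_iff.mpr fun p _ =>
    Groth.Agent.Lib.Helper18.SerreReg.isRegularLocalRing_localization_atPrime R p
  simp_rw [Groth.Agent.Lib.Helper16.FL.isFiniteLength_H_iff_finite]
  rw [Groth.Agent.Lib.Helper16.FF.finite_iff_forall_lt_depth_add_relCodim R A π hπ (IsLocalRing.maximalIdeal A) M n]
  constructor
  · intro h p hp e he
    have h1 := h p ((Groth.Agent.Lib.Helper16.FL.not_maximalIdeal_le_iff p).mpr hp)
    have h2 := Groth.Agent.Lib.Helper16.FL.relCodim_maximalIdeal p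
    rw [he] at h2
    have h3 : SGA2.relCodim (IsLocalRing.maximalIdeal A) p = (e : ℕ∞) := by exact_mod_cast h2
    rwa [h3] at h1
  · intro h p hp
    have hp2 := (Groth.Agent.Lib.Helper16.FL.not_maximalIdeal_le_iff p).mp hp
    rcases hc : SGA2.relCodim (IsLocalRing.maximalIdeal A) p with _ | c
    · change (n : ℕ∞) < _ + ⊤
      rw [add_top]
      exact ENat.natCast_lt_top n
    · change (n : ℕ∞) < _ + ((c : ℕ) : ℕ∞)
      refine h p hp2 c ?_
      rw [← Groth.Agent.Lib.Helper16.FL.relCodim_maximalIdeal, hc]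
      rfl

end helpers

/-- Let A be a Noetherian local ring which is a quotient of a regular local ring, m its maximal ideal, M
a finite A-module and n ≥ 0. Then H^i_m(M) is of finite length for all i ≤ n if and only if
depth(M_p) > n − dim(A/p) for every prime p ≠ m. -/
theorem result (R : Type u) [CommRing R] [IsRegularLocalRing R] (A : Type u) [CommRing A] [IsLocalRing A] [IsNoetherianRing A] (π : R →+* A) (hπ : Function.Surjective π) (M : Type u) [AddCommGroup M] [Module A M] [Module.Finite A M] (n : ℕ) : (∀ i : ℕ, i ≤ n → IsFiniteLength A (LocCoh.H (IsLocalRing.maximalIdeal A) i M)) ↔ ∀ p : PrimeSpectrum A, p.asIdeal ≠ IsLocalRing.maximalIdeal A → ∀ e : ℕ, ringKrullDim (A ⧸ p.asIdeal) = e → (n : ℕ∞) < LocCoh.depth (Localization.AtPrime p.asIdeal) (LocalizedModule p.asIdeal.primeCompl M) + e := by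
  exact result_aux R A π hπ M n

end Groth.Agent.S5167
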