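import Groth.Statements.S5171
import Groth.Agent.Lib.Helper16.LocCohLocalVanish
import Groth.Agent.Lib.Helper16.LocCohVanish
import Groth.Agent.Lib.Helper16.LocCohGrothVanish
import Groth.Agent.Lib.Helper18.CM1

set_option autoImplicit false
universe u
open LocCoh

namespace Groth.Agent.S5171

section helpers
open LocCoh

open Groth.Agent.Lib.Helper16.LC Groth.Agent.Lib.Helper16.Depth Groth.Agent.Lib.Helper18.CM in
theorem idealDepth_le_depth_localizedModule' {A : Type u} [CommRing A] [IsNoetherianRing A]
    (J : Ideal A) (G : Type u) [AddCommGroup G] [Module A G] [Module.Finite A G]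
    (p : Ideal A) [p.IsPrime] (hJp : J ≤ p) [Nontrivial (LocalizedModule p.primeCompl G)] :
    LocCoh.idealDepth J G ≤
      LocCoh.depth (Localization.AtPrime p) (LocalizedModule p.primeCompl G) := by
  rw [← ENat.forall_natCast_le_iff_le]
  intro n hn
  rw [le_idealDepth_iff] at hn
  unfold LocCoh.depth
  rw [le_idealDepth_iff]
  right
  rcases hn with hn | ⟨rs, hlen, hreg, hmem⟩
  · exfalso
    -- `J G = G` and `J ≤ p` force `G_p = 0`
    have hsupp : (⟨p, inferInstance⟩ : PrimeSpectrum A) ∈ Module.support A G :=
      Module.mem_support_iff.mpr ‹_›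
    have h1 : Module.support A (G ⧸ J • (⊤ : Submodule A G)) =
        Module.support A G ∩ PrimeSpectrum.zeroLocus (J : Set A) := Module.support_quotient J
    have h2 : (⟨p, inferInstance⟩ : PrimeSpectrum A) ∈
        Module.support A (G ⧸ J • (⊤ : Submodule A G)) := by
      rw [h1]
      exact ⟨hsupp, by rw [PrimeSpectrum.mem_zeroLocus]; exact SetLike.coe_subset_coe.mpr hJp⟩
    have h3 : Subsingleton (G ⧸ J • (⊤ : Submodule A G)) := by
      rw [hn]
      exact Submodule.Quotient.subsingleton_iff.mpr rfl
    rw [Module.support_eq_empty] at h2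
    exact h2
  · refine ⟨rs.map (algebraMap A (Localization.AtPrime p)), by simpa using hlen, ?_, ?_⟩
    · exact RingTheory.Sequence.IsWeaklyRegular.of_isLocalizedModule (Localization.AtPrime p)
        p.primeCompl (LocalizedModule.mkLinearMap p.primeCompl G) hreg
    · intro r hr
      obtain ⟨a, ha, rfl⟩ := List.mem_map.mp hr
      exact (IsLocalization.AtPrime.to_map_mem_maximal_iff (Localization.AtPrime p) p a).mpr
        (hJp (hmem a ha))

theorem result_aux (A : Type u) [CommRing A] [IsNoetherianRing A] (J : Ideal A) (G : Type u) [AddCommGroup G] [Module A G] [Module.Finite A G] (hCM : ∀ p : PrimeSpectrum A, Subsingleton (LocalizedModule p.asIdeal.primeCompl G) ∨ LocCoh.IsCohenMacaulayModule (Localization.AtPrime p.asIdeal) (LocalizedModule p.asIdeal.primeCompl G)) (n : ℕ) : (∀ i : ℕ, i < n → Subsingleton (LocCoh.H J i G)) ↔ ∀ p : PrimeSpectrum A, J ≤ p.asIdeal → p ∈ Module.support A G → (n : WithBot ℕ∞) ≤ Module.supportDim (Localization.AtPrime p.asIdeal) (LocalizedModule p.asIdeal.primeCompl G) := by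
  open Groth.Agent.Lib.Helper16.LC Groth.Agent.Lib.Helper16.Depth Groth.Agent.Lib.Helper18.CM in
  constructor
  · intro hH p hJp hsupp
    have hnt : Nontrivial (LocalizedModule p.asIdeal.primeCompl G) := Module.mem_support_iff.mp hsupp
    have hCMp := (hCM p).resolve_left (not_subsingleton_iff_nontrivial.mpr hnt)
    unfold LocCoh.IsCohenMacaulayModule at hCMp
    rw [hCMp]
    -- n ≤ idealDepth J G
    have hJG : J • (⊤ : Submodule A G) ≠ ⊤ := by
      intro hn
      have h1 : Module.support A (G ⧸ J • (⊤ : Submodule A G)) =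
          Module.support A G ∩ PrimeSpectrum.zeroLocus (J : Set A) := Module.support_quotient J
      have h2 : p ∈ Module.support A (G ⧸ J • (⊤ : Submodule A G)) := by
        rw [h1]
        exact ⟨hsupp, by rw [PrimeSpectrum.mem_zeroLocus]; exact SetLike.coe_subset_coe.mpr hJp⟩
      have h3 : Subsingleton (G ⧸ J • (⊤ : Submodule A G)) := by
        rw [hn]
        exact Submodule.Quotient.subsingleton_iff.mpr rfl
      rw [Module.support_eq_empty] at h2
      exact h2
    have hvan := extVanishBelow_of_H J (ModuleCat.of A G) n hH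
    have h1 : (n : ℕ∞) ≤ LocCoh.idealDepth J G := by
      rw [le_idealDepth_iff_ext J G hJG]
      intro i hi
      refine hvan (A ⧸ J) inferInstance ?_ i hi
      rw [Module.support_eq_zeroLocus, Ideal.annihilator_quotient]
    have h2 := idealDepth_le_depth_localizedModule' J G p.asIdeal hJp
    exact_mod_cast h1.trans h2
  · intro h i hi
    apply subsingleton_H_of_forall_prime i G J
    intro p _ hJp
    by_cases hsub : Subsingleton (LocalizedModule p.primeCompl G)
    · exact subsingleton_H_of_subsingleton _ i _
    · have hnt : Nontrivial (LocalizedModule p.primeCompl G) := not_subsingleton_iff_nontrivial.mp hsub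
      have hsupp : (⟨p, inferInstance⟩ : PrimeSpectrum A) ∈ Module.support A G := Module.mem_support_iff.mpr hnt
      have hCMp := (hCM ⟨p, inferInstance⟩).resolve_left hsub
      have h1 := h ⟨p, inferInstance⟩ hJp hsupp
      unfold LocCoh.IsCohenMacaulayModule at hCMp
      rw [hCMp] at h1
      have h2 : (n : ℕ∞) ≤ LocCoh.depth (Localization.AtPrime p) (LocalizedModule p.primeCompl G) := by
        exact_mod_cast h1
      have hnoe : IsNoetherianRing (Localization.AtPrime p) :=
        IsLocalization.isNoetherianRing p.primeCompl _ inferInstance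
      exact subsingleton_H_of_lt_idealDepth (IsLocalRing.maximalIdeal (Localization.AtPrime p))
        (LocalizedModule p.primeCompl G) (maximalIdeal_smul_top_ne_top _) n h2 i hi

end helpers

/-- Let A be a Noetherian ring, J an ideal, n ≥ 0 and G a finite Cohen–Macaulay A-module (each
localization G_p is zero or Cohen–Macaulay). Then H^i_J(G) = 0 for i < n if and only if codim(V(J) ∩
Supp G, Supp G) ≥ n, i.e. dim Supp(G_p) ≥ n for every p ∈ V(J) ∩ Supp G. -/
theorem result (A : Type u) [CommRing A] [IsNoetherianRing A] (J : Ideal A) (G : Type u) [AddCommGroup G] [Module A G] [Module.Finite A G] (hCM : ∀ p : PrimeSpectrum A, Subsingleton (LocalizedModule p.asIdeal.primeCompl G) ∨ LocCoh.IsCohenMacaulayModule (Localization.AtPrime p.asIdeal) (LocalizedModule p.asIdeal.primeCompl G)) (n : ℕ) : (∀ i : ℕ, i < n → Subsingleton (LocCoh.H J i G)) ↔ ∀ p : PrimeSpectrum A, J ≤ p.asIdeal → p ∈ Module.support A G → (n : WithBot ℕ∞) ≤ Module.supportDim (Localization.AtPrime p.asIdeal) (LocalizedModule p.asIdeal.primeCompl G) := by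
  exact result_aux A J G hCM n

end Groth.Agent.S5171
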