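import Groth.Statements.S5176
import Groth.Agent.S3364
import Groth.Agent.Lib.Helper22.EtLoc.SecSuppRange
import Groth.Agent.Lib.Helper22.EtLoc.TripleSupp
import Groth.Agent.Lib.Helper22.EtLoc.SuppLES

set_option autoImplicit false
universe u
open CategoryTheory CategoryTheory.Limits AlgebraicGeometry Opposite
open EtDepth

namespace Groth.Agent.S5176

open Groth.Agent.Lib.Helper22.EtLoc Groth.Agent.Lib.Helper22.EtLoc.SecSuppLoc
  Groth.Agent.Lib.Helper22.EtLoc.SuppLES Groth.Agent.Lib.Helper22.EtLoc.TripleSupp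
  Groth.Agent.Lib.Helper22.EdgeIso Groth.Agent.Lib.Helper22.CechU.Etale
  Groth.Agent.Lib.Helper22.EtLoc.SecSuppRange Groth.Agent.Lib.Helper22
  Groth.Agent.Lib.Helper22.EtLoc.ExcisionH


/-- For an abelian sheaf. Let X be a scheme, j : U → X and k : V → X open immersions with U ⊆ V, so that
the closed complement Z of V is contained in the closed complement Y of U, F an abelian sheaf on the
small étale site of X and n ≥ 0. If the Y-étale depth of F is ≥ n (the local cohomology sheaves
H^p_Y(F) vanish for p < n), then the Z-étale depth of F is ≥ n. -/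
theorem result {X U V : Scheme.{u}} (j : U ⟶ X) [IsOpenImmersion j] [EtCoh.BCCont j] (k : V ⟶ X) [IsOpenImmersion k] [EtCoh.BCCont k] (hUV : Set.range j.base ⊆ Set.range k.base) (F : EtCoh.Ab X) (n : ℕ) (h : EtDepth.DepthGE j F n) : EtDepth.DepthGE k F n := by
  refine (Groth.Agent.S3364.result k F n).2 ?_
  intro X' g _ _
  let l : U ⟶ V := IsOpenImmersion.lift k j hUV
  have hl : l ≫ k = j := IsOpenImmersion.lift_fac k j hUV
  let G := (EtCoh.pull g).obj F
  let m : pullback j g ⟶ pullback k g :=
    pullback.lift (pullback.fst j g ≫ l) (pullback.snd j g) (by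
      rw [Category.assoc, hl]; exact pullback.condition)
  have hm : m ≫ jW k g = jW j g := pullback.lift_snd _ _ _
  have : IsOpenImmersion (m ≫ jW k g) := by rw [hm]; infer_instance
  have : IsOpenImmersion m := IsOpenImmersion.of_comp m (jW k g)
  have hdU : EtDepth.DepthGE (jW j g) G n := Groth.Agent.S3364.depth_pull j g F n h
  have hHU : ∀ p, p < n → IsZero ((EtDual.HY (jW j g) p).obj G) := fun p hp =>
    isZero_HY_of_isZero_locCoh (jW j g) G n hdU p hp
  have hd1 : EtDepth.DepthGE (jW (jW j g) (jW k g)) ((res (jW k g)).obj G) n := by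
    intro p hp
    obtain ⟨e⟩ := nonempty_locCoh_res_iso (jW j g) (jW k g) p G
    exact IsZero.of_iso (Functor.map_isZero _ (hdU p hp)) e.symm
  have hr : Set.range (jW (jW j g) (jW k g)) = Set.range m := by
    rw [Scheme.Pullback.range_snd]
    exact (hU' (jW j g) (jW k g) m hm).symm
  have hd2 : EtDepth.DepthGE m ((res (jW k g)).obj G) n :=
    depthGE_of_range_eq _ _ hr _ n hd1
  have hHm : ∀ p, p < n → IsZero ((EtDual.HY m p).obj ((res (jW k g)).obj G)) := fun p hp =>
    isZero_HY_of_isZero_locCoh m _ n hd2 p hp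
  have hH3 : ∀ p, p < n →
      IsZero (((res (jW k g) ⋙ EtDual.gammaSupp m).rightDerived p).obj G) := by
    intro p hp
    obtain ⟨e2⟩ := DimShift.nonempty_rightDerived_comp_iso (res (jW k g)) (EtDual.gammaSupp m)
      (res (jW k g) ⋙ EtDual.gammaSupp m) (Iso.refl _) (fun I hI => injective_res (jW k g) I) p G
      (fun q => isZero_rightDerived_succ_of_exact _ q G)
    exact IsZero.of_iso (hHm p hp) e2.symm
  have hHV : ∀ p, p < n → IsZero ((EtDual.HY (jW k g) p).obj G) := by
    refine (isZero_rightDerived_iff (α (jW j g) (jW k g) m hm) (β (jW j g) (jW k g) m hm)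
      (w (jW j g) (jW k g) m hm) (hex (jW j g) (jW k g) m hm) G n).2 ⟨?_, ?_⟩
    · intro p hp
      have h1 := hHU p (by omega)
      have h2 := hH3 p (by omega)
      exact ⟨⟨0, h1.eq_of_src _ _, h2.eq_of_src _ _⟩⟩
    · intro p hp
      have h1 := hHU p (by omega)
      exact ⟨fun a b _ => h1.eq_of_tgt a b⟩
  exact (isZero_HY_iff (jW k g) G n).1 hHV

end Groth.Agent.S5176
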