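import Groth.Statements.S5182
import Groth.Agent.Lib.Helper16.RegSeqKrull

set_option autoImplicit false
universe u
open CInt

namespace Groth.Agent.S5182

section helpers
open CInt

theorem result_aux (A : Type u) [CommRing A] [IsLocalRing A] [IsNoetherianRing A] (J : Ideal A) (hJ : J ≠ ⊤) (hflat : ∀ k : ℕ, Module.Flat (A ⧸ J) (↥(J ^ k) ⧸ (J • (⊤ : Submodule A ↥(J ^ k))))) (fs : List A) (hreg : RingTheory.Sequence.IsWeaklyRegular (A ⧸ J) fs) (k : ℕ) : RingTheory.Sequence.IsWeaklyRegular (↥(J ^ k)) fs ∧ RingTheory.Sequence.IsWeaklyRegular (↥(J ^ k) ⧸ (J • (⊤ : Submodule A ↥(J ^ k)))) fs := by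
  classical
  -- (1) the pieces
  have hpiece : ∀ n : ℕ, RingTheory.Sequence.IsWeaklyRegular
      (↥(J ^ n) ⧸ (J • (⊤ : Submodule A ↥(J ^ n)))) fs := by
    intro n
    have h1 : RingTheory.Sequence.IsWeaklyRegular (A ⧸ J) (fs.map (algebraMap A (A ⧸ J))) :=
      (RingTheory.Sequence.isWeaklyRegular_map_algebraMap_iff (A ⧸ J) (A ⧸ J) fs).mpr hreg
    have := hflat n
    have h2 := h1.isWeaklyRegular_rTensor (M₂ := ↥(J ^ n) ⧸ (J • (⊤ : Submodule A ↥(J ^ n))))
    have h3 := ((TensorProduct.lid (A ⧸ J) (↥(J ^ n) ⧸ (J • (⊤ : Submodule A ↥(J ^ n))))).isWeaklyRegular_congr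
      (fs.map (algebraMap A (A ⧸ J)))).mp h2
    exact (RingTheory.Sequence.isWeaklyRegular_map_algebraMap_iff (A ⧸ J) _ fs).mp h3
  -- membership in `J • ⊤`
  have hmem : ∀ (n : ℕ) (x : ↥(J ^ n)), x ∈ J • (⊤ : Submodule A ↥(J ^ n)) ↔ (x : A) ∈ J ^ (n + 1) := by
    intro n x
    have h1 : Submodule.map (J ^ n).subtype (J • (⊤ : Submodule A ↥(J ^ n))) = J ^ (n + 1) := by
      rw [Submodule.map_smul'', Submodule.map_subtype_top, pow_succ', smul_eq_mul]
    rw [← h1]
    constructor
    · intro hx
      exact ⟨x, hx, rfl⟩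
    · rintro ⟨y, hy, hxy⟩
      have : y = x := Subtype.ext hxy
      rwa [← this]
  -- (2) the quotients `A / J^n`
  have hquot : ∀ n : ℕ, RingTheory.Sequence.IsWeaklyRegular (A ⧸ J ^ n) fs := by
    intro n
    induction n with
    | zero =>
      have : Subsingleton (A ⧸ J ^ 0) := by
        rw [pow_zero, Ideal.one_eq_top]
        exact Ideal.Quotient.subsingleton_iff.mpr rfl
      exact Groth.Agent.Lib.Helper16.RegSeqKrull.isWeaklyRegular_of_subsingleton fs _
    | succ n ih =>
      let ι : (↥(J ^ n) ⧸ (J • (⊤ : Submodule A ↥(J ^ n)))) →ₗ[A] A ⧸ J ^ (n + 1) :=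
        Submodule.liftQ _ ((J ^ (n + 1)).mkQ ∘ₗ (J ^ n).subtype) (by
          intro x hx
          rw [LinearMap.mem_ker, LinearMap.comp_apply, Submodule.mkQ_apply,
            Submodule.Quotient.mk_eq_zero]
          exact (hmem n x).mp hx)
      let π : (A ⧸ J ^ (n + 1)) →ₗ[A] A ⧸ J ^ n :=
        Submodule.mapQ (J ^ (n + 1)) (J ^ n) LinearMap.id (by
          intro x hx
          exact Ideal.pow_le_pow_right (Nat.le_succ n) hx)
      have hι : Function.Injective ι := by
        rw [injective_iff_map_eq_zero]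
        intro y hy
        obtain ⟨x, rfl⟩ := Submodule.mkQ_surjective _ y
        rw [Submodule.mkQ_apply, Submodule.Quotient.mk_eq_zero, hmem n x]
        have : (J ^ (n + 1)).mkQ (x : A) = 0 := hy
        rwa [Submodule.mkQ_apply, Submodule.Quotient.mk_eq_zero] at this
      have hπ : Function.Surjective π := by
        intro y
        obtain ⟨a, rfl⟩ := Submodule.mkQ_surjective _ y
        exact ⟨(J ^ (n + 1)).mkQ a, rfl⟩
      have hex : Function.Exact ι π := by
        intro y
        obtain ⟨a, rfl⟩ := Submodule.mkQ_surjective _ y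
        constructor
        · intro hy
          have ha : a ∈ J ^ n := by
            have : (J ^ n).mkQ a = 0 := hy
            rwa [Submodule.mkQ_apply, Submodule.Quotient.mk_eq_zero] at this
          exact ⟨Submodule.mkQ _ ⟨a, ha⟩, rfl⟩
        · rintro ⟨z, hz⟩
          obtain ⟨x, rfl⟩ := Submodule.mkQ_surjective _ z
          rw [← hz]
          change (J ^ n).mkQ (x : A) = 0
          rw [Submodule.mkQ_apply, Submodule.Quotient.mk_eq_zero]
          exact x.2
      exact Groth.Agent.Lib.Helper16.RegSeqKrull.isWeaklyRegular_mid fs _ _ _ ι π hι hπ hex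
        (hpiece n) ih
  -- (3) `A` itself
  have hA : RingTheory.Sequence.IsWeaklyRegular A fs := by
    apply Groth.Agent.Lib.Helper16.RegSeqKrull.isWeaklyRegular_of_forall_quot J hJ fs A
    intro n
    have hn : (J ^ n • ⊤ : Submodule A A) = J ^ n := by rw [smul_eq_mul, Ideal.mul_top]
    exact ((Submodule.quotEquivOfEq _ _ hn).isWeaklyRegular_congr fs).mpr (hquot n)
  refine ⟨?_, hpiece k⟩
  -- (4) the powers
  have htake : RingTheory.Sequence.IsWeaklyRegular (A ⧸ J ^ k) (fs.take (fs.length - 1)) := by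
    have h1 := hquot k
    rw [← List.take_append_drop (fs.length - 1) fs,
      RingTheory.Sequence.isWeaklyRegular_append_iff] at h1
    exact h1.1
  exact Groth.Agent.Lib.Helper16.RegSeqExact.isWeaklyRegular_of_exact fs ↥(J ^ k) A (A ⧸ J ^ k)
    (J ^ k).subtype (J ^ k).mkQ (Submodule.injective_subtype _) (Submodule.mkQ_surjective _)
    (LinearMap.exact_subtype_mkQ _) hA htake

end helpers

/-- In the local algebraic form to which its proof reduces. Let A be a Noetherian local ring, J a proper
ideal such that A is normally flat along J, i.e. every J^k/J^{k+1} is a flat (equivalently free)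
A/J-module, and f_1, …, f_r elements of A whose images form a weakly regular sequence on A/J (each
f_i a non-zero-divisor on A/J modulo the preceding ones). Then for every k ≥ 0 the f_i form a weakly
regular sequence on the A-module J^k and on the A-module J^k/J^{k+1}; in particular (k = 0) on A
itself, so that they are regular on the Rees algebra ⊕ J^k and on the associated graded ring ⊕
J^k/J^{k+1}. -/
theorem result (A : Type u) [CommRing A] [IsLocalRing A] [IsNoetherianRing A] (J : Ideal A) (hJ : J ≠ ⊤) (hflat : ∀ k : ℕ, Module.Flat (A ⧸ J) (↥(J ^ k) ⧸ (J • (⊤ : Submodule A ↥(J ^ k))))) (fs : List A) (hreg : RingTheory.Sequence.IsWeaklyRegular (A ⧸ J) fs) (k : ℕ) : RingTheory.Sequence.IsWeaklyRegular (↥(J ^ k)) fs ∧ RingTheory.Sequence.IsWeaklyRegular (↥(J ^ k) ⧸ (J • (⊤ : Submodule A ↥(J ^ k)))) fs := by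
  exact result_aux A J hJ hflat fs hreg k

end Groth.Agent.S5182
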