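import Groth.Statements.S5201
import Groth.Agent.Lib.Helper22.EtLoc.LGroup

set_option autoImplicit false
universe u
open CategoryTheory CategoryTheory.Limits AlgebraicGeometry Opposite
open EtDepth

namespace Groth.Agent.S5201

open Groth.Agent.Lib.Helper22 Groth.Agent.Lib.Helper22.EtStalk Groth.Agent.Lib.Helper22.EtLoc
open Groth.Agent.Lib.Helper22.EtLoc.ConstHom Groth.Agent.Lib.Helper22.EtLoc.ExcisionH
open Groth.Agent.Lib.Helper22.EtLoc.SecSuppLoc Groth.Agent.Lib.Helper22.EtLoc.FlcKer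
open Groth.Agent.Lib.Helper22.EtLoc.LGroup Groth.Agent.Lib.Helper22.EtLoc.Flc

/-- Vanishing of local cohomology sheaves of constant sheaves with finite `ℓ`-group values. -/
lemma isZero_locCoh_cst {W V : Scheme.{u}} (k : V ⟶ W) [IsOpenImmersion k] (ℓ : ℕ) (hℓ : ℓ.Prime)
    (p : ℕ)
    (hbase : IsZero ((EtDual.locCoh k p).obj
      (cst (U := W) (AddCommGrpCat.of (ULift.{u + 1} (ZMod ℓ))))))
    (M : AddCommGrpCat.{u + 1}) [Finite M] (hM : ∀ m : M, ∃ r : ℕ, ℓ ^ r • m = 0) :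
    IsZero ((EtDual.locCoh k p).obj (cst (U := W) M)) := by
  let cs := constantSheaf W.smallEtaleTopology AddCommGrpCat.{u + 1}
  have : (EtDual.locCoh k p).Additive := by unfold EtDual.locCoh; infer_instance
  refine lgroup_induction ℓ hℓ (fun M => IsZero ((EtDual.locCoh k p).obj (cs.obj M)))
    ?_ hbase ?_ (Nat.card M) M rfl hM
  · intro A hA
    exact (EtDual.locCoh k p).map_isZero (cs.map_isZero hA)
  · intro S hS h1 h3
    have hS' : (S.map cs).ShortExact := hS.map_of_exact cs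
    have hex := (Horseshoe.derivedLES (EtDual.secSupp k)).exact₂ (S.map cs) hS' p
    exact hex.isZero_X₂ (h1.eq_of_src _ _) (h3.eq_of_tgt _ _)


/-- For a finite locally constant sheaf and a single prime ℓ. Let X be a scheme, j : U → X a
quasi-compact open immersion (U retrocompact in X) with closed complement Y, ℓ a prime and n ≥ 0,
and suppose the Y-étale depth of X for ℓ is ≥ n, i.e. the local cohomology sheaves H^p_Y(Z/ℓ) vanish
for p < n. Then for every finite locally constant abelian sheaf F on the small étale site of X which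
is ℓ-torsion (every section étale-locally killed by a power of ℓ), the Y-étale depth of F is ≥ n. -/
theorem result {X U : Scheme.{u}} (j : U ⟶ X) [IsOpenImmersion j] [QuasiCompact j] [EtCoh.BCCont j] (ℓ : ℕ) (hℓ : ℓ.Prime) (n : ℕ) (hX : EtDepth.DepthGE j (EtCoh.const X (ZMod ℓ)) n) (F : EtCoh.Ab X) (hFlc : EtCoh.IsFiniteLocallyConstant F) (hFt : EtDepth.IsLTorsion ℓ F) : EtDepth.DepthGE j F n := by
  intro p hp
  apply isZero_of_res
  intro x
  obtain ⟨W, w, hw, ⟨y, hy⟩, M, i1, i2, ⟨e⟩⟩ := (flc_iff F).1 hFlc x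
  refine ⟨W, w, hw, ⟨y, hy⟩, ?_⟩
  obtain ⟨e1⟩ := nonempty_locCoh_res_iso j w p F
  refine IsZero.of_iso ?_ e1
  let e2 : (res w).obj F ≅ cst (U := W) (AddCommGrpCat.of (ULift.{u + 1} M)) :=
    (pullIsoRes w).symm.app F ≪≫ e
  refine IsZero.of_iso ?_ ((EtDual.locCoh (jW j w) p).mapIso e2)
  have hbase : IsZero ((EtDual.locCoh (jW j w) p).obj
      (cst (U := W) (AddCommGrpCat.of (ULift.{u + 1} (ZMod ℓ))))) := by
    obtain ⟨e3⟩ := nonempty_locCoh_res_iso j w p (EtCoh.const X (ZMod ℓ))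
    have h0 := hX p hp
    have h1 : IsZero ((res w).obj ((EtDual.locCoh j p).obj (EtCoh.const X (ZMod ℓ)))) :=
      (res w).map_isZero h0
    have h2 := IsZero.of_iso h1 e3.symm
    exact IsZero.of_iso h2 ((EtDual.locCoh (jW j w) p).mapIso (ResSheafify.resCstIso w _))
  have hfin : Finite (AddCommGrpCat.of (ULift.{u + 1} M)) := Finite.of_equiv M Equiv.ulift.symm
  refine isZero_locCoh_cst (jW j w) ℓ hℓ p hbase _ ?_
  -- the value group is `ℓ`-power torsion, by looking at a stalk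
  obtain ⟨Ω, _, _, ξ, -, -⟩ := AC.exists_geomPoint (EtCoh.top W) y
  let eS : (EtCoh.stalk (ξ ≫ w)).obj F ≅ AddCommGrpCat.of (ULift.{u + 1} M) :=
    ((stalkPullIso w ξ).app F).symm ≪≫ (EtCoh.stalk ξ).mapIso e ≪≫
      ConstStalk.stalkConstIso ξ _
  intro m
  obtain ⟨r, hr⟩ := stalk_lTorsion ℓ F hFt (ξ ≫ w) (eS.inv m)
  refine ⟨r, ?_⟩
  have h1 : eS.hom (eS.inv m) = m := congrArg (fun φ => φ.hom m) eS.inv_hom_id
  rw [← h1, ← map_nsmul, hr, map_zero]

end Groth.Agent.S5201
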