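import Groth.Statements.S5204
-- import your own Groth.Agent.* helpers here

set_option autoImplicit false
open CategoryTheory CategoryTheory.Limits
universe w v₁ u₁
open DescCat

namespace Groth.Agent.S5204

/-- In a category with pullbacks: if `u` and `v` are effective epimorphisms and `v` is a universal
epimorphism (all its base changes are epimorphisms), then the composite `v ≫ u` is an effective
epimorphism. -/
theorem result {C : Type u₁} [Category.{v₁} C] [HasPullbacks C]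
    {U T S : C} (v : U ⟶ T) (u : T ⟶ S) [EffectiveEpi u] [EffectiveEpi v]
    (hv : MorphismProperty.universally (MorphismProperty.epimorphisms C) v) :
    EffectiveEpi (v ≫ u) := by
  have key : ∀ {W : C} (e : U ⟶ W)
      (h : ∀ {Z : C} (g₁ g₂ : Z ⟶ U), g₁ ≫ v ≫ u = g₂ ≫ v ≫ u → g₁ ≫ e = g₂ ≫ e),
      ∃ h1 : (∀ {Z : C} (g₁ g₂ : Z ⟶ U), g₁ ≫ v = g₂ ≫ v → g₁ ≫ e = g₂ ≫ e),
        ∀ {Z : C} (g₁ g₂ : Z ⟶ T), g₁ ≫ u = g₂ ≫ u →
          g₁ ≫ EffectiveEpi.desc v e h1 = g₂ ≫ EffectiveEpi.desc v e h1 := by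
    intro W e h
    have h1 : ∀ {Z : C} (g₁ g₂ : Z ⟶ U), g₁ ≫ v = g₂ ≫ v → g₁ ≫ e = g₂ ≫ e :=
      fun g₁ g₂ hg => h g₁ g₂ (by rw [← Category.assoc, hg, Category.assoc])
    refine ⟨h1, ?_⟩
    intro Z g₁ g₂ hg
    have hepi1 : Epi (pullback.fst g₁ v) := hv _ _ _ (IsPullback.of_hasPullback g₁ v)
    have hepi2 : Epi (pullback.fst (pullback.fst g₁ v ≫ g₂) v) :=
      hv _ _ _ (IsPullback.of_hasPullback (pullback.fst g₁ v ≫ g₂) v)
    have c1 : pullback.fst g₁ v ≫ g₁ = pullback.snd g₁ v ≫ v := pullback.condition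
    have c2 : pullback.fst (pullback.fst g₁ v ≫ g₂) v ≫ pullback.fst g₁ v ≫ g₂ =
        pullback.snd (pullback.fst g₁ v ≫ g₂) v ≫ v := pullback.condition
    have hh := h (pullback.fst (pullback.fst g₁ v ≫ g₂) v ≫ pullback.snd g₁ v)
      (pullback.snd (pullback.fst g₁ v ≫ g₂) v) (by
        rw [Category.assoc, ← reassoc_of% c1, hg, reassoc_of% c2])
    rw [← EffectiveEpi.fac v e h1, Category.assoc, ← reassoc_of% c1, ← reassoc_of% c2] at hh
    rw [← cancel_epi (pullback.fst g₁ v), ← cancel_epi (pullback.fst (pullback.fst g₁ v ≫ g₂) v)]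
    exact hh
  refine ⟨⟨{ desc := fun e h => EffectiveEpi.desc u (EffectiveEpi.desc v e (key e @h).choose)
                (key e @h).choose_spec
             fac := ?_
             uniq := ?_ }⟩⟩
  · intro W e h
    simp
  · intro W e h m hm
    apply EffectiveEpi.uniq
    apply EffectiveEpi.uniq
    simpa using hm

end Groth.Agent.S5204
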