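import Groth.Statements.S5205
import Groth.Agent.S5204

set_option autoImplicit false
open CategoryTheory CategoryTheory.Limits
universe w v₁ u₁
open DescCat

namespace Groth.Agent.S5205

/-- First assertion: in a category with pullbacks: universal effective epimorphisms (morphisms all of
whose base changes are effective epimorphisms) are stable under composition. -/
theorem result {C : Type u₁} [Category.{v₁} C] [HasPullbacks C]
    {U T S : C} (v : U ⟶ T) (u : T ⟶ S)
    (hu : (MorphismProperty.universally (fun (A B : C) (p : A ⟶ B) => EffectiveEpi p)) u) (hv : (MorphismProperty.universally (fun (A B : C) (p : A ⟶ B) => EffectiveEpi p)) v) :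
    (MorphismProperty.universally (fun (A B : C) (p : A ⟶ B) => EffectiveEpi p)) (v ≫ u) := by
  intro X' Z' i₁ i₂ f' H
  have w : f' ≫ i₂ = (i₁ ≫ v) ≫ u := H.w.trans (Category.assoc _ _ _).symm
  obtain ⟨l, hl1, hl2⟩ : ∃ l : X' ⟶ pullback i₂ u, l ≫ pullback.fst i₂ u = f' ∧
      l ≫ pullback.snd i₂ u = i₁ ≫ v :=
    ⟨pullback.lift f' (i₁ ≫ v) w, pullback.lift_fst _ _ _, pullback.lift_snd _ _ _⟩
  rw [← hl1] at H ⊢
  have hu' : EffectiveEpi (pullback.fst i₂ u) := hu _ _ _ (IsPullback.of_hasPullback i₂ u)
  have hpb := H.of_right hl2 (IsPullback.of_hasPullback i₂ u)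
  have hv' : (MorphismProperty.universally (fun (A B : C) (p : A ⟶ B) => EffectiveEpi p)) l :=
    MorphismProperty.of_isPullback hpb.flip hv
  have hv'' : EffectiveEpi l := MorphismProperty.universally_le _ _ hv'
  have hv3 : MorphismProperty.universally (MorphismProperty.epimorphisms C) l :=
    MorphismProperty.universally_mono (fun _ _ p (hp : EffectiveEpi p) =>
      (inferInstance : Epi p)) _ hv'
  exact Groth.Agent.S5204.result _ _ hv3

end Groth.Agent.S5205
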