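import Groth.Statements.S5206
-- import your own Groth.Agent.* helpers here

set_option autoImplicit false
open CategoryTheory CategoryTheory.Limits
universe w v₁ u₁
open DescCat

namespace Groth.Agent.S5206

theorem effectiveEpi_of_comp {C : Type u₁} [Category.{v₁} C] [HasPullbacks C]
    {U T S : C} (a : U ⟶ T) (b : T ⟶ S)
    (h : (MorphismProperty.universally (fun (A B : C) (p : A ⟶ B) => EffectiveEpi p)) (a ≫ b)) :
    EffectiveEpi b := by
  have hab : EffectiveEpi (a ≫ b) := MorphismProperty.universally_le _ _ h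
  have hπ : EffectiveEpi (pullback.snd (a ≫ b) b) :=
    h _ _ _ (IsPullback.of_hasPullback (a ≫ b) b).flip
  have hcond : pullback.fst (a ≫ b) b ≫ a ≫ b = pullback.snd (a ≫ b) b ≫ b := pullback.condition
  have key : ∀ {W : C} (e : T ⟶ W)
      (he : ∀ {Z : C} (g₁ g₂ : Z ⟶ T), g₁ ≫ b = g₂ ≫ b → g₁ ≫ e = g₂ ≫ e),
      ∀ {Z : C} (g₁ g₂ : Z ⟶ U), g₁ ≫ a ≫ b = g₂ ≫ a ≫ b → g₁ ≫ a ≫ e = g₂ ≫ a ≫ e := by
    intro W e he Z g₁ g₂ hg
    simpa using he (g₁ ≫ a) (g₂ ≫ a) (by simpa using hg)
  refine ⟨⟨{ desc := fun e he => EffectiveEpi.desc (a ≫ b) (a ≫ e) (key e @he)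
             fac := ?_
             uniq := ?_ }⟩⟩
  · intro W e he
    rw [← cancel_epi (pullback.snd (a ≫ b) b), ← reassoc_of% hcond]
    have := EffectiveEpi.fac (a ≫ b) (a ≫ e) (key e @he)
    rw [Category.assoc] at this
    rw [this]
    simpa using he (pullback.fst (a ≫ b) b ≫ a) (pullback.snd (a ≫ b) b) (by simpa using hcond)
  · intro W e he m hm
    apply EffectiveEpi.uniq
    rw [Category.assoc, hm]

/-- Second assertion: in a category with pullbacks: if `v ≫ u` is a universal effective epimorphism (all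
base changes are effective epimorphisms), then so is `u`; nothing is assumed about `v`. -/
theorem result {C : Type u₁} [Category.{v₁} C] [HasPullbacks C]
    {U T S : C} (v : U ⟶ T) (u : T ⟶ S)
    (h : (MorphismProperty.universally (fun (A B : C) (p : A ⟶ B) => EffectiveEpi p)) (v ≫ u)) :
    (MorphismProperty.universally (fun (A B : C) (p : A ⟶ B) => EffectiveEpi p)) u := by
  intro X' Z' i₁ i₂ f' H
  have hpb : IsPullback (pullback.fst i₁ v ≫ f') (pullback.snd i₁ v) i₂ (v ≫ u) :=
    (IsPullback.of_hasPullback i₁ v).paste_horiz H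
  have h' : (MorphismProperty.universally (fun (A B : C) (p : A ⟶ B) => EffectiveEpi p))
      (pullback.fst i₁ v ≫ f') := MorphismProperty.of_isPullback hpb.flip h
  exact effectiveEpi_of_comp _ _ h'

end Groth.Agent.S5206
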