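import Groth.Statements.S5209
import Groth.Agent.Lib.Helper12.DescCat

set_option autoImplicit false
open CategoryTheory CategoryTheory.Limits
universe w v₁ u₁
open DescCat

namespace Groth.Agent.S5209

variable {C : Type u₁} [Category.{v₁} C] [HasPullbacks C]

theorem nat_left {S' S : C} (f : S' ⟶ S) {X Y : Over S} (g : X ⟶ Y) :
    ((Over.pullback f).map g).left ≫ pullback.fst Y.hom f = pullback.fst X.hom f ≫ g.left :=
  pullback.lift_fst _ _ _

theorem mono_left_of_mono_map {S' S : C} (f : S' ⟶ S)
    (hf : Groth.Agent.Lib.Helper12.UEE f) {X Y : Over S} (g : X ⟶ Y)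
    (h : Mono ((Over.pullback f).map g)) : Mono g.left := by
  constructor
  intro W a b hab
  have hb : b ≫ X.hom = a ≫ X.hom := by
    rw [← Over.w g, ← Category.assoc, ← Category.assoc, hab]
  let a' : Over.mk (a ≫ X.hom) ⟶ X := Over.homMk a rfl
  let b' : Over.mk (a ≫ X.hom) ⟶ X := Over.homMk b hb
  have hab' : a' ≫ g = b' ≫ g := by
    ext
    exact hab
  have h2 : (Over.pullback f).map a' = (Over.pullback f).map b' := by
    rw [← cancel_mono ((Over.pullback f).map g), ← Functor.map_comp, ← Functor.map_comp, hab']
  have h3 := congrArg (fun k => k.left ≫ pullback.fst X.hom f) h2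
  simp only [nat_left] at h3
  have : EffectiveEpi (pullback.fst (Over.mk (a ≫ X.hom)).hom f) := Groth.Agent.Lib.Helper12.UEE.effectiveEpi_fst hf _
  exact (cancel_epi _).mp h3


/-- In a category with pullbacks, let `f : S' ⟶ S` be a universal effective epimorphism, that is, a
morphism all of whose base changes are effective epimorphisms. Then a morphism `g` over `S` is an
isomorphism (resp. a monomorphism) if and only if its base change along `f` is. -/
theorem result {C : Type u₁} [Category.{v₁} C] [HasPullbacks C]
    {S' S : C} (f : S' ⟶ S) (hf : (MorphismProperty.universally (fun (A B : C) (p : A ⟶ B) => EffectiveEpi p)) f) {X Y : Over S} (g : X ⟶ Y) :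
    (IsIso g ↔ IsIso ((Over.pullback f).map g)) ∧ (Mono g ↔ Mono ((Over.pullback f).map g)) := by
  have hmono : Mono ((Over.pullback f).map g) → Mono g := by
    intro h
    have := mono_left_of_mono_map f hf g h
    exact (Over.forget S).mono_of_mono_map this
  refine ⟨⟨fun h => inferInstance, fun h => ?_⟩, ⟨fun h => inferInstance, hmono⟩⟩
  have hm : Mono g.left := mono_left_of_mono_map f hf g inferInstance
  have hY : EffectiveEpi (pullback.fst Y.hom f) := Groth.Agent.Lib.Helper12.UEE.effectiveEpi_fst hf _
  have hk : (inv ((Over.pullback f).map g)).left ≫ pullback.fst X.hom f ≫ g.left =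
      pullback.fst Y.hom f := by
    rw [← nat_left, ← Category.assoc, ← Over.comp_left, IsIso.inv_hom_id]
    simp
  let h' : Y.left ⟶ X.left := EffectiveEpi.desc (pullback.fst Y.hom f)
    ((inv ((Over.pullback f).map g)).left ≫ pullback.fst X.hom f) (by
      intro Z u v huv
      rw [← cancel_mono g.left]
      simp only [Category.assoc, hk, huv])
  have hfac : pullback.fst Y.hom f ≫ h' =
      (inv ((Over.pullback f).map g)).left ≫ pullback.fst X.hom f := EffectiveEpi.fac _ _ _
  have h1 : h' ≫ g.left = 𝟙 _ := by
    rw [← cancel_epi (pullback.fst Y.hom f), ← Category.assoc, hfac, Category.assoc, hk]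
    simp
  have h2 : g.left ≫ h' = 𝟙 _ := by
    rw [← cancel_mono g.left, Category.assoc, h1]
    simp
  have : IsIso ((Over.forget S).map g) := ⟨h', h2, h1⟩
  exact isIso_of_reflects_iso g (Over.forget S)

end Groth.Agent.S5209
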