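import Groth.Statements.S5212
import Mathlib.LinearAlgebra.Charpoly.BaseChange
import Mathlib.RingTheory.Ideal.Basis
import Mathlib.RingTheory.Norm.Basic

set_option autoImplicit false
universe u
open GrpQ

namespace Groth.Agent.S5212

open Polynomial in
theorem algebraMap_norm_mem_span {A A' : Type u} [CommRing A] [CommRing A'] [Algebra A A']
    [Module.Free A A'] [Module.Finite A A'] (a : A') :
    algebraMap A A' (Algebra.norm A a) ∈ Ideal.span {a} := by
  have h0 := Algebra.aeval_self_charpoly_lmul (R := A) a
  set χ := (Algebra.lmul A A' a).charpoly with hχ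
  have h1 : aeval a χ = aeval a χ.divX * a + algebraMap A A' (χ.coeff 0) := by
    conv_lhs => rw [← Polynomial.divX_mul_X_add χ]
    simp
  have h2 : Algebra.norm A a = (-1) ^ Module.finrank A A' * χ.coeff 0 := by
    rw [Algebra.norm_apply, LinearMap.det_eq_sign_charpoly_coeff]
  rw [h0] at h1
  have h3 : algebraMap A A' (χ.coeff 0) = -(aeval a χ.divX * a) := by
    rw [eq_neg_iff_add_eq_zero, add_comm]; exact h1.symm
  rw [h2, map_mul, h3, Ideal.mem_span_singleton']
  exact ⟨-(algebraMap A A' ((-1) ^ Module.finrank A A') * aeval a χ.divX), by ring⟩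

theorem repr_mem_of_mem_smul_top {ι A M : Type u} [CommRing A] [AddCommGroup M] [Module A M]
    (b : Module.Basis ι A M) (p : Ideal A) {z : M} (hz : z ∈ p • (⊤ : Submodule A M)) (i : ι) :
    b.repr z i ∈ p := by
  rw [← b.span_eq, Submodule.mem_ideal_smul_span_iff_exists_sum] at hz
  obtain ⟨c, hc, rfl⟩ := hz
  have : b.repr (c.sum fun i a => a • b i) = c := by
    rw [← Finsupp.linearCombination_apply, Module.Basis.repr_linearCombination]
  rw [this]
  exact hc i

theorem quot_norm_sub {A A' : Type u} [CommRing A] [Nontrivial A] [CommRing A'] [Algebra A A']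
    [Module.Free A A'] [Module.Finite A A'] (p : Ideal A) (s : A) (x : A')
    (hx : x ∈ p.map (algebraMap A A')) :
    Ideal.Quotient.mk p (Algebra.norm A (algebraMap A A' s - x)) =
      (Ideal.Quotient.mk p s) ^ Module.finrank A A' := by
  classical
  let b := Module.Free.chooseBasis A A'
  rw [Algebra.norm_eq_matrix_det b, RingHom.map_det]
  have hM : (Ideal.Quotient.mk p).mapMatrix (Algebra.leftMulMatrix b (algebraMap A A' s - x)) =
      (Ideal.Quotient.mk p s) • (1 : Matrix _ _ (A ⧸ p)) := by
    ext i j
    have hxj : x * b j ∈ p • (⊤ : Submodule A A') := by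
      rw [Ideal.smul_top_eq_map]
      exact Ideal.mul_mem_right _ _ hx
    have hrepr : b.repr (x * b j) i ∈ p := repr_mem_of_mem_smul_top b p hxj i
    have hentry : Algebra.leftMulMatrix b (algebraMap A A' s - x) i j =
        (if i = j then s else 0) - b.repr (x * b j) i := by
      rw [map_sub, AlgHom.commutes, Matrix.sub_apply, Algebra.leftMulMatrix_eq_repr_mul,
        Matrix.algebraMap_matrix_apply]
      simp
    rw [RingHom.mapMatrix_apply, Matrix.map_apply, hentry, map_sub,
      Ideal.Quotient.eq_zero_iff_mem.mpr hrepr, sub_zero, Matrix.smul_apply, Matrix.one_apply]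
    split_ifs <;> simp
  rw [hM, Matrix.det_smul, Matrix.det_one, mul_one, Module.finrank_eq_card_chooseBasisIndex]

/-- For `A'` finite and free as an `A`-module, a prime `p` of `A` and `a ∈ A'`, the element `a` belongs
to some prime of `A'` lying over `p` if and only if its norm belongs to `p`. (The published
statement allows `A'` projective of constant rank over `A`; this row takes `A'` free, where the norm
is the determinant of multiplication.) -/
theorem result {A A' : Type u} [CommRing A] [CommRing A'] [Algebra A A']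
    [Module.Free A A'] [Module.Finite A A'] (p : Ideal A) [p.IsPrime] (a : A') :
    (∃ q : Ideal A', q.IsPrime ∧ q.LiesOver p ∧ a ∈ q) ↔ Algebra.norm A a ∈ p := by
  constructor
  · rintro ⟨q, hq, hqp, haq⟩
    have h1 : algebraMap A A' (Algebra.norm A a) ∈ q :=
      (Ideal.span_singleton_le_iff_mem q).mpr haq (algebraMap_norm_mem_span a)
    rw [hqp.over]
    exact h1
  · intro hN
    have hnt : Nontrivial A := ⟨⟨0, 1, fun h => (inferInstance : p.IsPrime).ne_top (by
      rw [Ideal.eq_top_iff_one, ← h]; exact p.zero_mem)⟩⟩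
    have hdisj : Disjoint ((p.map (algebraMap A A') ⊔ Ideal.span {a} : Ideal A') : Set A')
        (Submonoid.map (algebraMap A A') p.primeCompl : Submonoid A') := by
      rw [Set.disjoint_left]
      rintro y hy ⟨s, hs, rfl⟩
      obtain ⟨x, hx, z, hz, hxz⟩ := Submodule.mem_sup.mp hy
      obtain ⟨c, rfl⟩ := Ideal.mem_span_singleton'.mp hz
      have e : algebraMap A A' s - x = c * a := by rw [← hxz]; ring
      have h1 := quot_norm_sub p s x hx
      rw [e, map_mul, map_mul, Ideal.Quotient.eq_zero_iff_mem.mpr hN, mul_zero] at h1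
      have h2 : Ideal.Quotient.mk p s = 0 := eq_zero_of_pow_eq_zero h1.symm
      exact hs (Ideal.Quotient.eq_zero_iff_mem.mp h2)
    obtain ⟨q, hq, hIq, hqd⟩ := Ideal.exists_le_prime_disjoint _ _ hdisj
    refine ⟨q, hq, ⟨?_⟩, hIq (Ideal.mem_sup_right (Ideal.mem_span_singleton_self a))⟩
    apply le_antisymm
    · intro x hx
      exact hIq (Ideal.mem_sup_left (Ideal.mem_map_of_mem _ hx))
    · intro x hx
      by_contra hxp
      exact Set.disjoint_left.mp hqd hx ⟨x, hxp, rfl⟩

end Groth.Agent.S5212
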