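import Groth.Statements.S5214
import Groth.Agent.Lib.Helper12.DescCat

set_option autoImplicit false
open CategoryTheory CategoryTheory.Limits
universe w v₁ u₁
open DescCat

namespace Groth.Agent.S5214

/-- In a category with pullbacks and binary products: the product `u × u'` of two universal effective
epimorphisms (morphisms all of whose base changes are effective epimorphisms) is a universal
effective epimorphism. -/
theorem result {C : Type u₁} [Category.{v₁} C] [HasPullbacks C] [HasBinaryProducts C]
    {X Y X' Y' : C} (u : X ⟶ Y) (u' : X' ⟶ Y')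
    (hu : (MorphismProperty.universally (fun (A B : C) (p : A ⟶ B) => EffectiveEpi p)) u) (hu' : (MorphismProperty.universally (fun (A B : C) (p : A ⟶ B) => EffectiveEpi p)) u') :
    (MorphismProperty.universally (fun (A B : C) (p : A ⟶ B) => EffectiveEpi p)) (prod.map u u') := by
  have h1 : IsPullback (prod.map u (𝟙 X')) prod.fst prod.fst u :=
    (IsPullback.of_prod_fst_with_id u X').flip
  have h2 : IsPullback (prod.map (𝟙 Y) u') prod.snd prod.snd u' := by
    refine IsPullback.mk' (by simp) ?_ ?_
    · intro T φ φ' e₁ e₂
      ext
      · have := congrArg (fun k => k ≫ prod.fst) e₁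
        simpa using this
      · exact e₂
    · intro T a b hab
      refine ⟨prod.lift (a ≫ prod.fst) b, ?_, prod.lift_snd _ _⟩
      ext
      · rw [Category.assoc, prod.map_fst, Category.comp_id, prod.lift_fst]
      · rw [Category.assoc, prod.map_snd, prod.lift_snd_assoc, hab]
  have e : prod.map u u' = prod.map u (𝟙 X') ≫ prod.map (𝟙 Y) u' := by simp
  rw [e]
  exact Groth.Agent.Lib.Helper12.UEE.comp (Groth.Agent.Lib.Helper12.UEE.of_isPullback hu h1)
    (Groth.Agent.Lib.Helper12.UEE.of_isPullback hu' h2)

end Groth.Agent.S5214
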