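import Groth.Statements.S5216
import Mathlib
import Groth.Agent.Lib.Lead.SheafExact
open Groth.Agent.Lib.Lead.SheafExact

set_option autoImplicit false
open CategoryTheory CategoryTheory.Limits
universe w v₁ u₁
open ShfCat

namespace Groth.Agent.S5216

/-- The case of the chaotic topology, i.e. for presheaves of sets on an arbitrary category: every
equivalence relation is universally effective (its quotient exists, the relation is the kernel pair
of the quotient map, and that map is a universal effective epimorphism). -/
theorem result (C : Type u₁) [Category.{v₁} C]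
    {R X : Cᵒᵖ ⥤ Type w} (p₁ p₂ : R ⟶ X) [IsEquivalenceRelation p₁ p₂] :
    IsUniversallyEffectiveEquivalenceRelation p₁ p₂ := by
  obtain ⟨e⟩ := (inferInstance : IsEquivalenceRelation p₁ p₂).nonempty_equivalenceRelation
  haveI : JointlyMono₂ p₁ p₂ := e.toJointlyMono₂
  exact ⟨⟨{
    toEquivalenceRelation := e
    B := quotPsh p₁ p₂
    π := quotMk p₁ p₂
    isKernelPair := quot_isPullback p₁ p₂ (hinj_of_jointlyMono p₁ p₂) (secRel_equivalence_of p₁ p₂ e)
    isPushout := quot_isPushout p₁ p₂ e.r e.reflexivity₁ e.reflexivity₂
    universally_effectiveEpi_π := universally_effectiveEpi_quotMk p₁ p₂ }⟩⟩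

end Groth.Agent.S5216
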