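import Groth.Statements.S5220


set_option autoImplicit false
open CategoryTheory CategoryTheory.Limits
universe w v₁ u₁
open GrpQ

namespace Groth.Agent.S5220

section
variable {C : Type u₁} [Category.{v₁} C] [HasPullbacks C]
  {X₁ X₀ Y₀ : C} (d₀ d₁ : X₁ ⟶ X₀) (f₀ : Y₀ ⟶ X₀)

/-- the map `Y₁ ⟶ X₁` -/
noncomputable abbrev q : pullback (pullback.snd f₀ d₁ ≫ d₀) f₀ ⟶ X₁ :=
  pullback.fst (pullback.snd f₀ d₁ ≫ d₀) f₀ ≫ pullback.snd f₀ d₁

theorem q_d₁ : q d₀ d₁ f₀ ≫ d₁ =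
    (pullback.fst (pullback.snd f₀ d₁ ≫ d₀) f₀ ≫ pullback.fst f₀ d₁) ≫ f₀ := by
  simp only [Category.assoc, pullback.condition]

theorem q_d₀ : q d₀ d₁ f₀ ≫ d₀ = pullback.snd (pullback.snd f₀ d₁ ≫ d₀) f₀ ≫ f₀ := by
  rw [← pullback.condition]
  simp only [Category.assoc]

theorem epi_q (hf : MorphismProperty.universally (MorphismProperty.epimorphisms C) f₀) :
    Epi (q d₀ d₁ f₀) := by
  have h1 : Epi (pullback.snd f₀ d₁) :=
    hf _ _ _ (IsPullback.of_hasPullback f₀ d₁).flip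
  have h2 : Epi (pullback.fst (pullback.snd f₀ d₁ ≫ d₀) f₀) :=
    hf _ _ _ (IsPullback.of_hasPullback (pullback.snd f₀ d₁ ≫ d₀) f₀)
  exact epi_comp _ _

end


/-- In a category with pullbacks: let `d₀ d₁ : X₁ ⇉ X₀` admit a common section and let `f₀ : Y₀ ⟶ X₀` be
an effective epimorphism which is also a universal epimorphism. For the inverse-image pair `Y₁ :=
(Y₀ ×_{X₀,d₁} X₁) ×_{d₀,X₀} Y₀ ⇉ Y₀`, every morphism out of `Y₀` equalized by the two projections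
descends uniquely to a morphism out of `X₀` equalized by `d₀, d₁`. (Only the common section of the
groupoid structure is used.) -/
theorem result {C : Type u₁} [Category.{v₁} C] [HasPullbacks C]
    {X₁ X₀ Y₀ : C} (d₀ d₁ : X₁ ⟶ X₀) (s : X₀ ⟶ X₁) (hs₀ : s ≫ d₀ = 𝟙 X₀) (hs₁ : s ≫ d₁ = 𝟙 X₀)
    (f₀ : Y₀ ⟶ X₀) [EffectiveEpi f₀]
    (hf : MorphismProperty.universally (MorphismProperty.epimorphisms C) f₀)
    {T : C} (g : Y₀ ⟶ T)
    (hg : (pullback.fst (pullback.snd f₀ d₁ ≫ d₀) f₀ ≫ pullback.fst f₀ d₁) ≫ g =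
      pullback.snd (pullback.snd f₀ d₁ ≫ d₀) f₀ ≫ g) :
    ∃! h : X₀ ⟶ T, d₁ ≫ h = d₀ ≫ h ∧ f₀ ≫ h = g := by
  have hepi : Epi (q d₀ d₁ f₀) := epi_q d₀ d₁ f₀ hf
  have hdesc : ∀ {Z : C} (a b : Z ⟶ Y₀), a ≫ f₀ = b ≫ f₀ → a ≫ g = b ≫ g := by
    intro Z a b hab
    have w1 : a ≫ f₀ = ((a ≫ f₀) ≫ s) ≫ d₁ := by
      rw [Category.assoc, hs₁, Category.comp_id]
    have w2 : pullback.lift a ((a ≫ f₀) ≫ s) w1 ≫ pullback.snd f₀ d₁ ≫ d₀ = b ≫ f₀ := by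
      rw [pullback.lift_snd_assoc, Category.assoc, hs₀, Category.comp_id, hab]
    have h1 : pullback.lift (pullback.lift a ((a ≫ f₀) ≫ s) w1) b w2 ≫
        (pullback.fst (pullback.snd f₀ d₁ ≫ d₀) f₀ ≫ pullback.fst f₀ d₁) ≫ g =
        pullback.lift (pullback.lift a ((a ≫ f₀) ≫ s) w1) b w2 ≫
          pullback.snd (pullback.snd f₀ d₁ ≫ d₀) f₀ ≫ g := by rw [hg]
    rw [← Category.assoc, ← Category.assoc, ← Category.assoc, pullback.lift_fst, pullback.lift_fst,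
      pullback.lift_snd] at h1
    exact h1
  refine ⟨EffectiveEpi.desc f₀ g hdesc, ⟨?_, EffectiveEpi.fac _ _ _⟩, ?_⟩
  · rw [← cancel_epi (q d₀ d₁ f₀), ← Category.assoc, ← Category.assoc, q_d₁, q_d₀,
      Category.assoc _ f₀, Category.assoc _ f₀, EffectiveEpi.fac, hg]
  · rintro h' ⟨-, h2⟩
    rw [← cancel_epi f₀, h2, EffectiveEpi.fac]

end Groth.Agent.S5220
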