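import Groth.Statements.S5221
import Groth.Agent.S5220

set_option autoImplicit false
open CategoryTheory CategoryTheory.Limits
universe w v₁ u₁
open GrpQ

namespace Groth.Agent.S5221

theorem hasCoequalizer_of_existsUnique {C : Type u₁} [Category.{v₁} C] {A B Q : C}
    (u v : A ⟶ B) (c : B ⟶ Q) (w : u ≫ c = v ≫ c)
    (H : ∀ {T : C} (g : B ⟶ T), u ≫ g = v ≫ g → ∃! m : Q ⟶ T, c ≫ m = g) :
    HasCoequalizer u v := by
  refine ⟨⟨⟨Cofork.ofπ c w, Cofork.IsColimit.mk _ (fun s => (H s.π s.condition).choose) ?_ ?_⟩⟩⟩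
  · intro s
    exact (H s.π s.condition).choose_spec.1
  · intro s m hm
    exact (H s.π s.condition).choose_spec.2 m hm


/-- Existence part: in a category with pullbacks: with `d₀ d₁ : X₁ ⇉ X₀` admitting a common section and
`f₀ : Y₀ ⟶ X₀` an effective and universal epimorphism, the pair `(d₀, d₁)` has a coequalizer if and
only if its inverse-image pair on `Y₀` has one. -/
theorem result {C : Type u₁} [Category.{v₁} C] [HasPullbacks C]
    {X₁ X₀ Y₀ : C} (d₀ d₁ : X₁ ⟶ X₀) (s : X₀ ⟶ X₁) (hs₀ : s ≫ d₀ = 𝟙 X₀) (hs₁ : s ≫ d₁ = 𝟙 X₀)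
    (f₀ : Y₀ ⟶ X₀) [EffectiveEpi f₀]
    (hf : MorphismProperty.universally (MorphismProperty.epimorphisms C) f₀) :
    HasCoequalizer d₁ d₀ ↔
      HasCoequalizer (pullback.fst (pullback.snd f₀ d₁ ≫ d₀) f₀ ≫ pullback.fst f₀ d₁)
        (pullback.snd (pullback.snd f₀ d₁ ≫ d₀) f₀) := by
  have hq : ∀ {T : C} (h : X₀ ⟶ T), d₁ ≫ h = d₀ ≫ h →
      (pullback.fst (pullback.snd f₀ d₁ ≫ d₀) f₀ ≫ pullback.fst f₀ d₁) ≫ f₀ ≫ h =
        pullback.snd (pullback.snd f₀ d₁ ≫ d₀) f₀ ≫ f₀ ≫ h := by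
    intro T h hh
    have e1 := Groth.Agent.S5220.q_d₁ d₀ d₁ f₀
    have e0 := Groth.Agent.S5220.q_d₀ d₀ d₁ f₀
    calc (pullback.fst (pullback.snd f₀ d₁ ≫ d₀) f₀ ≫ pullback.fst f₀ d₁) ≫ f₀ ≫ h
        = (Groth.Agent.S5220.q d₀ d₁ f₀ ≫ d₁) ≫ h := by rw [e1]; simp only [Category.assoc]
      _ = (Groth.Agent.S5220.q d₀ d₁ f₀ ≫ d₀) ≫ h := by
          rw [Category.assoc, hh, ← Category.assoc]
      _ = pullback.snd (pullback.snd f₀ d₁ ≫ d₀) f₀ ≫ f₀ ≫ h := by rw [e0]; simp only [Category.assoc]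
  constructor
  · intro H
    refine hasCoequalizer_of_existsUnique _ _ (f₀ ≫ coequalizer.π d₁ d₀)
      (hq _ (coequalizer.condition d₁ d₀)) ?_
    intro T g hg
    obtain ⟨h, ⟨hh1, hh2⟩, huniq⟩ := Groth.Agent.S5220.result d₀ d₁ s hs₀ hs₁ f₀ hf g hg
    refine ⟨coequalizer.desc h hh1, ?_, ?_⟩
    · change (f₀ ≫ coequalizer.π d₁ d₀) ≫ coequalizer.desc h hh1 = g
      rw [Category.assoc, coequalizer.π_desc, hh2]
    · intro m' hm'
      have := huniq (coequalizer.π d₁ d₀ ≫ m') ⟨by rw [coequalizer.condition_assoc], by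
        rw [← Category.assoc]; exact hm'⟩
      apply coequalizer.hom_ext
      rw [this, coequalizer.π_desc]
  · intro H
    obtain ⟨h₀, ⟨h01, h02⟩, -⟩ := Groth.Agent.S5220.result d₀ d₁ s hs₀ hs₁ f₀ hf
      (coequalizer.π _ _) (coequalizer.condition
        (pullback.fst (pullback.snd f₀ d₁ ≫ d₀) f₀ ≫ pullback.fst f₀ d₁)
        (pullback.snd (pullback.snd f₀ d₁ ≫ d₀) f₀))
    refine hasCoequalizer_of_existsUnique _ _ h₀ h01 ?_
    intro T h hh
    refine ⟨coequalizer.desc (f₀ ≫ h) (hq h hh), ?_, ?_⟩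
    · change h₀ ≫ coequalizer.desc (f₀ ≫ h) (hq h hh) = h
      rw [← cancel_epi f₀, ← Category.assoc, h02, coequalizer.π_desc]
    · intro m' hm'
      apply coequalizer.hom_ext
      rw [coequalizer.π_desc, ← h02, Category.assoc, hm']

end Groth.Agent.S5221
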