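import Groth.Statements.S5222
import Mathlib.CategoryTheory.Monoidal.Cartesian.Grp

set_option autoImplicit false
open CategoryTheory CategoryTheory.Limits MonoidalCategory
universe v₁ u₁
open DescCat

namespace Groth.Agent.S5222

section
open MonObj CartesianMonoidalCategory SemiCartesianMonoidalCategory

variable {C : Type u₁} [Category.{v₁} C] [CartesianMonoidalCategory C] [HasPullbacks C]
  {G G' : C} [GrpObj G] [GrpObj G'] (f : G ⟶ G') [IsMonHom f]

omit [GrpObj G] [IsMonHom f] in
theorem k_comp_f : pullback.fst f η[G'] ≫ f = 1 := by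
  rw [pullback.condition, Hom.one_def]
  congr 1
  exact toUnit_unique _ _

omit [IsMonHom f] in
theorem factB {T : C} (φ : T ⟶ G ⊗ pullback f η[G']) :
    φ ≫ (G ◁ pullback.fst f η[G']) ≫ μ[G] =
      (φ ≫ fst G _) * (φ ≫ snd G _ ≫ pullback.fst f η[G']) := by
  rw [Hom.mul_def, ← Category.assoc]
  congr 1
  apply CartesianMonoidalCategory.hom_ext
  · rw [Category.assoc, whiskerLeft_fst, lift_fst]
  · rw [Category.assoc, whiskerLeft_snd, lift_snd]

theorem kp : IsPullback (fst G (pullback f η[G']))
    ((G ◁ pullback.fst f η[G']) ≫ μ[G]) f f := by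
  refine IsPullback.mk' ?_ ?_ ?_
  · have h := factB f (𝟙 (G ⊗ pullback f η[G']))
    rw [Category.id_comp, Category.id_comp, Category.id_comp] at h
    rw [h, MonObj.mul_comp, Category.assoc, k_comp_f, MonObj.comp_one, _root_.mul_one]
  · intro T φ φ' e₁ e₂
    rw [factB, factB, e₁] at e₂
    have e₃ := _root_.mul_left_cancel e₂
    have e₄ : φ ≫ snd G _ = φ' ≫ snd G _ := by
      rw [← cancel_mono (pullback.fst f η[G'])]
      simpa only [Category.assoc] using e₃
    exact CartesianMonoidalCategory.hom_ext _ _ e₁ e₄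
  · intro T a b hab
    have hκ : (a⁻¹ * b) ≫ f = toUnit T ≫ η[G'] := by
      rw [MonObj.mul_comp, GrpObj.inv_comp, hab, _root_.inv_mul_cancel, Hom.one_def]
    refine ⟨lift a (pullback.lift (a⁻¹ * b) (toUnit T) hκ), lift_fst _ _, ?_⟩
    rw [factB, lift_fst, lift_snd_assoc, pullback.lift_fst, _root_.mul_inv_cancel_left]

end


open MonObj CartesianMonoidalCategory SemiCartesianMonoidalCategory in
/-- In a cartesian monoidal category with pullbacks: for a homomorphism `f : G ⟶ G'` of group objects
with kernel `K = G ×_{G'} e`, the pair `G × K ⇉ G` given by the projection and by multiplication is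
the kernel pair of `f`. -/
theorem result {C : Type u₁} [Category.{v₁} C]
    [CartesianMonoidalCategory C] [HasPullbacks C]
    {G G' : C} [GrpObj G] [GrpObj G'] (f : G ⟶ G') [IsMonHom f] :
    IsKernelPair f (fst G (pullback f η[G']))
      ((G ◁ pullback.fst f η[G']) ≫ μ[G]) := by
  exact kp f

end Groth.Agent.S5222
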