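import Groth.Statements.S5223
import Mathlib
import Groth.Agent.S4366

set_option autoImplicit false
open CategoryTheory CategoryTheory.Limits AlgebraicGeometry
universe u
open GrpQ

namespace Groth.Agent.S5223



open TensorProduct in
theorem flat_of_comp_faithfullyFlat (A B C : Type u) [CommRing A] [CommRing B] [CommRing C]
    [Algebra A B] [Algebra B C] [Algebra A C] [IsScalarTower A B C]
    [Module.FaithfullyFlat B C] [Module.Flat A C] : Module.Flat A B := by
  rw [Module.Flat.iff_lTensor_preserves_injective_linearMap]
  intro N P _ _ _ _ f hf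
  have h1 : Function.Injective (f.baseChange B) := by
    rw [← Module.FaithfullyFlat.lTensor_injective_iff_injective B C]
    have h2 : Function.Injective (f.lTensor C) :=
      Module.Flat.lTensor_preserves_injective_linearMap f hf
    have h3 : ∀ z, (AlgebraTensorModule.cancelBaseChange A B B C P)
        (LinearMap.lTensor C (f.baseChange B) z) =
        (f.lTensor C) ((AlgebraTensorModule.cancelBaseChange A B B C N) z) := by
      intro z
      induction z using TensorProduct.induction_on with
      | zero => simp
      | tmul c y =>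
        induction y using TensorProduct.induction_on with
        | zero => simp
        | tmul b n => simp
        | add y1 y2 h1 h2 =>
          rw [tmul_add, map_add, map_add, h1, h2, map_add, map_add]
      | add z1 z2 h1 h2 => simp only [map_add, h1, h2]
    intro z1 z2 hz
    apply (AlgebraTensorModule.cancelBaseChange A B B C N).injective
    apply h2
    rw [← h3, ← h3, hz]
  exact h1

/-- In a cartesian square of schemes `F₂ = F₁ ×_{X₀} X₁` whose bottom map `u : X₁ ⟶ X₀` is flat, the
base-changed map `d' : F₂ ⟶ X₁` is flat at a point `x` if and only if `d : F₁ ⟶ X₀` is flat at the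
image of `x` in `F₁`. -/
theorem result {F₂ F₁ X₁ X₀ : Scheme.{u}}
    {v : F₂ ⟶ F₁} {d' : F₂ ⟶ X₁} {d : F₁ ⟶ X₀} {u : X₁ ⟶ X₀}
    (h : IsPullback v d' d u) [Flat u] (x : F₂) :
    (d'.stalkMap x).hom.Flat ↔ (d.stalkMap (v.base x)).hom.Flat := by

  have hv : Flat v := MorphismProperty.of_isPullback h.flip inferInstance
  constructor
  · intro hd'
    have h1 : ((d' ≫ u).stalkMap x).hom.Flat := by
      rw [Scheme.Hom.stalkMap_comp]
      show ((d'.stalkMap x).hom.comp (u.stalkMap (d' x)).hom).Flat
      exact RingHom.Flat.comp (Flat.stalkMap u (d' x)) hd'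
    have key : ∀ (g : F₂ ⟶ X₀), g = d' ≫ u → (g.stalkMap x).hom.Flat := by
      rintro g rfl; exact h1
    have h2 := key (v ≫ d) h.w
    rw [Scheme.Hom.stalkMap_comp] at h2
    replace h2 : ((v.stalkMap x).hom.comp (d.stalkMap (v x)).hom).Flat := h2
    have hvx : (v.stalkMap x).hom.Flat := Flat.stalkMap v x
    algebraize [(d.stalkMap (v x)).hom, (v.stalkMap x).hom,
      (v.stalkMap x).hom.comp (d.stalkMap (v x)).hom]
    have hloc : IsLocalHom (algebraMap (F₁.presheaf.stalk (v x)) (F₂.presheaf.stalk x)) := by
      show IsLocalHom (v.stalkMap x).hom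
      infer_instance
    have : Module.FaithfullyFlat (F₁.presheaf.stalk (v x)) (F₂.presheaf.stalk x) :=
      Module.FaithfullyFlat.of_flat_of_isLocalHom
    exact flat_of_comp_faithfullyFlat _ (F₁.presheaf.stalk (v x)) (F₂.presheaf.stalk x)
  · intro hd
    let ι := F₁.fromSpecStalk (v x)
    have hι : Flat ι := Groth.Agent.S4366.flat_fromSpecStalk F₁ (v x)
    have hfl : Flat (ι ≫ d) := by
      show Flat (F₁.fromSpecStalk (v x) ≫ d)
      rw [← Scheme.SpecMap_stalkMap_fromSpecStalk]
      have : Flat (Spec.map (d.stalkMap (v x))) := by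
        rw [HasRingHomProperty.Spec_iff (P := @Flat)]; exact hd
      have := Groth.Agent.S4366.flat_fromSpecStalk X₀ (d (v x))
      infer_instance
    have hP : IsPullback (pullback.snd v ι) (pullback.fst v ι ≫ d') (ι ≫ d) u :=
      (IsPullback.of_hasPullback v ι).flip.paste_vert h
    have hfl' : Flat (pullback.fst v ι ≫ d') := MorphismProperty.of_isPullback hP hfl
    obtain ⟨t, ht1, ht2⟩ := Scheme.Pullback.exists_preimage_pullback (f := v) (g := ι) x
      (IsLocalRing.closedPoint _) (by rw [Scheme.fromSpecStalk_closedPoint])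
    have hiso : IsIso ((pullback.fst v ι).stalkMap t) := Groth.Agent.S4366.result v (v x) t
    have h1 : ((pullback.fst v ι ≫ d').stalkMap t).hom.Flat := Flat.stalkMap _ t
    rw [Scheme.Hom.stalkMap_comp] at h1
    have h2 : (d'.stalkMap ((pullback.fst v ι) t)).hom.Flat := by
      have e : d'.stalkMap ((pullback.fst v ι) t) =
          (d'.stalkMap ((pullback.fst v ι) t) ≫ (pullback.fst v ι).stalkMap t) ≫
            inv ((pullback.fst v ι).stalkMap t) := by simp
      rw [e, CommRingCat.hom_comp]
      exact RingHom.Flat.comp h1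
        (RingHom.Flat.of_bijective (ConcreteCategory.bijective_of_isIso (inv _)))
    have key : ∀ x' (_ : x' = x), (d'.stalkMap x').hom.Flat → (d'.stalkMap x).hom.Flat := by
      rintro _ rfl h; exact h
    exact key _ ht1 h2

end Groth.Agent.S5223
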