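import Groth.Statements.S5224
import Mathlib
import Groth.Agent.S7490
import Groth.Agent.Lib.Helper10.QuotShBr2

set_option autoImplicit false
open CategoryTheory CategoryTheory.Limits AlgebraicGeometry
universe u
open GrpQ

namespace Groth.Agent.S5224

/-- For the fppf topology: let `s, t : R ⇉ U` be an equivalence relation of schemes over `S` with `s`
faithfully flat and locally of finite presentation. A morphism `q : U ⟶ Y` over `S` is a faithfully
flat, locally finitely presented quotient with kernel pair `R` if and only if `q` identifies `h_Y`
with the fppf quotient sheaf `U/R`. -/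
theorem result {S : Scheme.{u}} {R U Y : Over S} (s t : R ⟶ U)
    [IsEquivalenceRelation s t]
    [Flat s.left] [Surjective s.left] [LocallyOfFinitePresentation s.left]
    (q : U ⟶ Y) :
    (IsKernelPair q s t ∧ Flat q.left ∧ Surjective q.left ∧ LocallyOfFinitePresentation q.left) ↔
      QuotSh.IsQuotient Scheme.fppfPrecoverage s t q := by
  constructor
  · rintro ⟨hkp, hfl, hsu, hlf⟩
    have w : s ≫ q = t ≫ q := hkp.w
    have w' : t.left ≫ q.left = s.left ≫ q.left := (congrArg CommaMorphism.left w).symm
    have hpb : IsPullback t.left s.left q.left q.left := hkp.flip.map (Over.forget S)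
    have hlift : Limits.pullback.lift t.left s.left w' = hpb.isoPullback.hom := by
      apply Limits.pullback.hom_ext
      · rw [Limits.pullback.lift_fst, IsPullback.isoPullback_hom_fst]
      · rw [Limits.pullback.lift_snd, IsPullback.isoPullback_hom_snd]
    refine Groth.Agent.S7490.result Scheme.fppfPrecoverage s t q w w' ?_ ?_
    · exact Groth.Agent.Lib.Helper10.QuotShBr.epi_repMap_of_fppf q
    · haveI : IsIso (Limits.pullback.lift t.left s.left w') := by
        rw [hlift]; infer_instance
      haveI : Flat (Over.homMk (Limits.pullback.lift t.left s.left w')
          (((Category.assoc _ _ _).symm.trans (congrArg (fun k => k ≫ U.hom)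
            (Limits.pullback.lift_fst t.left s.left w'))).trans (Over.w t)) :
          R ⟶ Over.mk (Limits.pullback.fst q.left q.left ≫ U.hom)).left := by
        show Flat (Limits.pullback.lift t.left s.left w')
        infer_instance
      haveI : Surjective (Over.homMk (Limits.pullback.lift t.left s.left w')
          (((Category.assoc _ _ _).symm.trans (congrArg (fun k => k ≫ U.hom)
            (Limits.pullback.lift_fst t.left s.left w'))).trans (Over.w t)) :
          R ⟶ Over.mk (Limits.pullback.fst q.left q.left ≫ U.hom)).left := by
        show Surjective (Limits.pullback.lift t.left s.left w')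
        infer_instance
      haveI : LocallyOfFinitePresentation (Over.homMk (Limits.pullback.lift t.left s.left w')
          (((Category.assoc _ _ _).symm.trans (congrArg (fun k => k ≫ U.hom)
            (Limits.pullback.lift_fst t.left s.left w'))).trans (Over.w t)) :
          R ⟶ Over.mk (Limits.pullback.fst q.left q.left ≫ U.hom)).left := by
        show LocallyOfFinitePresentation (Limits.pullback.lift t.left s.left w')
        infer_instance
      exact Groth.Agent.Lib.Helper10.QuotShBr.epi_repMap_of_fppf _
  · intro h
    obtain ⟨hkp, hepi⟩ := Groth.Agent.Lib.Helper10.QuotShBr.isKernelPair_of_isQuotient q h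
    exact ⟨hkp, Groth.Agent.Lib.Helper10.QuotShBr.fppf_of_epi_of_isKernelPair q hkp hepi⟩

end Groth.Agent.S5224
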