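import Groth.Statements.S5226
import Mathlib
import Groth.Agent.Lib.Lead.SheafExact
open Groth.Agent.Lib.Lead.SheafExact

set_option autoImplicit false
open CategoryTheory CategoryTheory.Limits
universe w v₁ u₁
open ShfCat

namespace Groth.Agent.S5226

/-- For sheaves of sets on a site with sheafification: if `R ⇉ X` is an equivalence relation with
(universally effective) quotient `X/R` and `Y ⊆ X` is a subsheaf with induced relation `R_Y`, then
the canonical map `Y/R_Y ⟶ X/R` is a monomorphism. Here `R_Y` is built as the iterated pullback of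
`R` along `Y ⟶ X` on both sides. -/
theorem result {C : Type u₁} [Category.{v₁} C]
    (J : GrothendieckTopology C) [HasSheafify J (Type w)]
    {R X Y : Sheaf J (Type w)} {p₁ p₂ : R ⟶ X} (e : UniversallyEffectiveEquivalenceRelation p₁ p₂)
    (ι : Y ⟶ X) [Mono ι]
    [HasCoequalizer (pullback.fst (pullback.fst p₁ ι ≫ p₂) ι ≫ pullback.snd p₁ ι)
      (pullback.snd (pullback.fst p₁ ι ≫ p₂) ι)]
    (g : coequalizer (pullback.fst (pullback.fst p₁ ι ≫ p₂) ι ≫ pullback.snd p₁ ι)
      (pullback.snd (pullback.fst p₁ ι ≫ p₂) ι) ⟶ e.B)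
    (hg : coequalizer.π _ _ ≫ g = ι ≫ e.π) :
    Mono g := by
  have hls : Sheaf.IsLocallySurjective
      (coequalizer.π (pullback.fst (pullback.fst p₁ ι ≫ p₂) ι ≫ pullback.snd p₁ ι)
        (pullback.snd (pullback.fst p₁ ι ≫ p₂) ι)) :=
    (Sheaf.isLocallySurjective_iff_epi _).2 inferInstance
  apply mono_of_injective
  intro U a b hab
  obtain ⟨U⟩ := U
  have hS := J.intersection_covering
    (Presheaf.imageSieve_mem J (coequalizer.π (pullback.fst (pullback.fst p₁ ι ≫ p₂) ι ≫
      pullback.snd p₁ ι) (pullback.snd (pullback.fst p₁ ι ≫ p₂) ι)).hom a)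
    (Presheaf.imageSieve_mem J (coequalizer.π (pullback.fst (pullback.fst p₁ ι ≫ p₂) ι ≫
      pullback.snd p₁ ι) (pullback.snd (pullback.fst p₁ ι ≫ p₂) ι)).hom b)
  refine section_ext_of_covering _ hS ?_
  rintro V k ⟨⟨y, hy⟩, ⟨y', hy'⟩⟩
  rw [← hy, ← hy']
  -- e.π (ι y) = e.π (ι y')
  have h1 : e.π.hom.app _ (ι.hom.app _ y) = e.π.hom.app _ (ι.hom.app _ y') := by
    have e1 := congrArg (fun m => m.hom.app (Opposite.op V) y) hg
    have e2 := congrArg (fun m => m.hom.app (Opposite.op V) y') hg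
    have n1 := NatTrans.naturality_apply g.hom k.op a
    have n2 := NatTrans.naturality_apply g.hom k.op b
    have e3 : g.hom.app _ ((coequalizer.π (pullback.fst (pullback.fst p₁ ι ≫ p₂) ι ≫
          pullback.snd p₁ ι) (pullback.snd (pullback.fst p₁ ι ≫ p₂) ι)).hom.app _ y) =
        g.hom.app _ ((coequalizer.π (pullback.fst (pullback.fst p₁ ι ≫ p₂) ι ≫
          pullback.snd p₁ ι) (pullback.snd (pullback.fst p₁ ι ≫ p₂) ι)).hom.app _ y') := by
      refine (congrArg (fun t => g.hom.app _ t) hy).trans (n1.trans (Eq.trans ?_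
        (n2.symm.trans (congrArg (fun t => g.hom.app _ t) hy').symm)))
      exact congrArg _ hab
    exact e1.symm.trans (e3.trans e2)
  obtain ⟨r, hr1, hr2⟩ := exists_section_of_isPullback e.isKernelPair _ _ h1
  obtain ⟨z1, hz1, hz1'⟩ := exists_section_of_isPullback (IsPullback.of_hasPullback p₁ ι) r y hr1
  obtain ⟨z2, hz2, hz2'⟩ := exists_section_of_isPullback
    (IsPullback.of_hasPullback (pullback.fst p₁ ι ≫ p₂) ι) z1 y' (by
      show p₂.hom.app _ ((pullback.fst p₁ ι).hom.app _ z1) = _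
      rw [hz1, hr2])
  have hc := congrArg (fun m => m.hom.app (Opposite.op V) z2)
    (coequalizer.condition (pullback.fst (pullback.fst p₁ ι ≫ p₂) ι ≫ pullback.snd p₁ ι)
      (pullback.snd (pullback.fst p₁ ι ≫ p₂) ι))
  have hc' : (coequalizer.π (pullback.fst (pullback.fst p₁ ι ≫ p₂) ι ≫ pullback.snd p₁ ι)
      (pullback.snd (pullback.fst p₁ ι ≫ p₂) ι)).hom.app _
        ((pullback.snd p₁ ι).hom.app _ ((pullback.fst (pullback.fst p₁ ι ≫ p₂) ι).hom.app _ z2)) =
      (coequalizer.π (pullback.fst (pullback.fst p₁ ι ≫ p₂) ι ≫ pullback.snd p₁ ι)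
      (pullback.snd (pullback.fst p₁ ι ≫ p₂) ι)).hom.app _
        ((pullback.snd (pullback.fst p₁ ι ≫ p₂) ι).hom.app _ z2) := hc
  rw [hz2, hz1', hz2'] at hc'
  exact hc'

end Groth.Agent.S5226
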