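import Groth.Statements.S5227
import Mathlib
import Groth.Agent.Lib.Lead.SheafExact
open Groth.Agent.Lib.Lead.SheafExact

set_option autoImplicit false
open CategoryTheory CategoryTheory.Limits
universe w v₁ u₁
open ShfCat

namespace Groth.Agent.S5227

section Helpers

variable {C : Type u₁} [Category.{v₁} C] {J : GrothendieckTopology C} [HasSheafify J (Type w)]

theorem exists_section_of_subobject_eq {X : Sheaf J (Type w)} {A B : Subobject X} (h : A = B)
    {U : Cᵒᵖ} (a : (A : Sheaf J (Type w)).obj.obj U) :
    ∃ b : (B : Sheaf J (Type w)).obj.obj U, B.arrow.hom.app U b = A.arrow.hom.app U a := by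
  subst h
  exact ⟨a, rfl⟩

theorem le_of_pullback_eq {X B : Sheaf J (Type w)} (π : X ⟶ B) [Epi π] {S S' : Subobject B}
    (h : (Subobject.pullback π).obj S = (Subobject.pullback π).obj S') : S ≤ S' := by
  have hP := Subobject.isPullback π S
  have hP' := Subobject.isPullback π S'
  haveI : Epi (Subobject.pullbackπ π S) := Groth.Agent.S5218.epi_of_isPullback J hP
  have hls : Sheaf.IsLocallySurjective (Subobject.pullbackπ π S) :=
    (Sheaf.isLocallySurjective_iff_epi _).2 inferInstance
  obtain ⟨g, hg⟩ := exists_factor_of_locally S'.arrow S.arrow (fun U s =>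
    ⟨_, Presheaf.imageSieve_mem J (Subobject.pullbackπ π S).hom s, fun V k hk => by
      obtain ⟨x, hx⟩ := hk
      obtain ⟨x', hx'⟩ := exists_section_of_subobject_eq h x
      refine ⟨(Subobject.pullbackπ π S').hom.app _ x', ?_⟩
      have e1 := congrArg (fun m => m.hom.app (Opposite.op V) x') hP'.w
      have e2 := congrArg (fun m => m.hom.app (Opposite.op V) x) hP.w
      refine e1.trans (Eq.trans ?_ (e2.symm.trans ?_))
      · exact congrArg (fun t => π.hom.app _ t) hx'
      · exact congrArg (fun t => S.arrow.hom.app _ t) hx⟩)
  exact Subobject.le_of_comm g hg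

end Helpers


/-- For sheaves of sets on a site with sheafification: for an equivalence relation `R ⇉ X` with
(universally effective) quotient `π : X ⟶ X/R`, inverse image along `π` is a bijection from the
subsheaves of `X/R` onto the subsheaves of `X` stable under `R` (those whose two inverse images in
`R` agree). -/
theorem result {C : Type u₁} [Category.{v₁} C]
    (J : GrothendieckTopology C) [HasSheafify J (Type w)]
    {R X : Sheaf J (Type w)} {p₁ p₂ : R ⟶ X} (e : UniversallyEffectiveEquivalenceRelation p₁ p₂) :
    Function.Injective (Subobject.pullback e.π).obj ∧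
      Set.range (Subobject.pullback e.π).obj =
        {Y : Subobject X | (Subobject.pullback p₁).obj Y = (Subobject.pullback p₂).obj Y} := by
  haveI : Epi e.π := by
    have h1 : IsRegularEpi e.π := inferInstance
    infer_instance
  refine ⟨?_, ?_⟩
  · intro S S' h
    exact le_antisymm (le_of_pullback_eq e.π h) (le_of_pullback_eq e.π h.symm)
  · ext Y
    constructor
    · rintro ⟨S, rfl⟩
      show (Subobject.pullback p₁).obj ((Subobject.pullback e.π).obj S) =
        (Subobject.pullback p₂).obj ((Subobject.pullback e.π).obj S)
      rw [← Subobject.pullback_comp, ← Subobject.pullback_comp, e.isKernelPair.w]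
    · intro hY
      have hY' : (Subobject.pullback p₁).obj Y = (Subobject.pullback p₂).obj Y := hY
      refine ⟨Subobject.mk (Sheaf.imageι (Y.arrow ≫ e.π)), ?_⟩
      have hP := Subobject.isPullback e.π (Subobject.mk (Sheaf.imageι (Y.arrow ≫ e.π)))
      -- the epimorphism `Y ⟶ S`
      let q : (Y : Sheaf J (Type w)) ⟶ (Subobject.mk (Sheaf.imageι (Y.arrow ≫ e.π)) : Sheaf J (Type w)) :=
        Sheaf.toImage (Y.arrow ≫ e.π) ≫ (Subobject.underlyingIso (Sheaf.imageι (Y.arrow ≫ e.π))).inv
      have hq : q ≫ (Subobject.mk (Sheaf.imageι (Y.arrow ≫ e.π))).arrow = Y.arrow ≫ e.π := by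
        simp [q]
      haveI : Epi q := epi_comp _ _
      apply le_antisymm
      · -- π*S ≤ Y
        have hls : Sheaf.IsLocallySurjective q := (Sheaf.isLocallySurjective_iff_epi _).2 inferInstance
        obtain ⟨g, hg⟩ := exists_factor_of_locally Y.arrow
          ((Subobject.pullback e.π).obj (Subobject.mk (Sheaf.imageι (Y.arrow ≫ e.π)))).arrow
          (fun U x => ⟨_, Presheaf.imageSieve_mem J q.hom
            ((Subobject.pullbackπ e.π _).hom.app _ x), fun V k hk => by
            obtain ⟨y, hy⟩ := hk
            -- π (Y.arrow y) = π (P.arrow (x|V))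
            have e1 := congrArg (fun m => m.hom.app (Opposite.op V) y) hq
            have e2 := congrArg (fun m => m.hom.app (Opposite.op V)
              (((Subobject.pullback e.π).obj (Subobject.mk (Sheaf.imageι (Y.arrow ≫ e.π))) :
                Sheaf J (Type w)).obj.map k.op x)) hP.w
            have n1 := NatTrans.naturality_apply (Subobject.pullbackπ e.π
              (Subobject.mk (Sheaf.imageι (Y.arrow ≫ e.π)))).hom k.op x
            have e3 : e.π.hom.app _ (Y.arrow.hom.app _ y) = e.π.hom.app _
                (((Subobject.pullback e.π).obj (Subobject.mk (Sheaf.imageι (Y.arrow ≫ e.π)))).arrow.hom.app _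
                  (((Subobject.pullback e.π).obj (Subobject.mk (Sheaf.imageι (Y.arrow ≫ e.π))) :
                    Sheaf J (Type w)).obj.map k.op x)) := by
              refine e1.symm.trans (Eq.trans ?_ e2)
              exact congrArg (fun t => (Subobject.mk (Sheaf.imageι (Y.arrow ≫ e.π))).arrow.hom.app _ t)
                (hy.trans n1.symm)
            obtain ⟨r, hr1, hr2⟩ := exists_section_of_isPullback e.isKernelPair _ _ e3
            obtain ⟨z, hz1, hz2⟩ := exists_section_of_isPullback (Subobject.isPullback p₁ Y) y r hr1.symm
            obtain ⟨z', hz'⟩ := exists_section_of_subobject_eq hY' z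
            refine ⟨(Subobject.pullbackπ p₂ Y).hom.app _ z', ?_⟩
            have e4 := congrArg (fun m => m.hom.app (Opposite.op V) z') (Subobject.isPullback p₂ Y).w
            refine e4.trans (Eq.trans ?_ hr2)
            exact congrArg (fun t => p₂.hom.app _ t) (hz'.trans hz2)⟩)
        exact Subobject.le_of_comm g hg
      · -- Y ≤ π*S
        exact Subobject.le_of_comm (hP.lift q Y.arrow hq) (hP.lift_snd _ _ _)

end Groth.Agent.S5227
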