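import Groth.Statements.S5229


set_option autoImplicit false
open CategoryTheory CategoryTheory.Limits
universe v₁ u₁
open DescCat

namespace Groth.Agent.S5229

theorem isPullback_prodMap {C : Type u₁} [Category.{v₁} C] [HasBinaryProducts C]
    {R X B R' X' B' : C} {p₁ p₂ : R ⟶ X} {π : X ⟶ B} {p₁' p₂' : R' ⟶ X'} {π' : X' ⟶ B'}
    (h : IsPullback p₁ p₂ π π) (h' : IsPullback p₁' p₂' π' π') :
    IsPullback (prod.map p₁ p₁') (prod.map p₂ p₂') (prod.map π π') (prod.map π π') := by
  refine IsPullback.mk' ?_ ?_ ?_
  · rw [prod.map_map, prod.map_map, h.w, h'.w]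
  · intro T φ φ' e₁ e₂
    ext
    · apply h.hom_ext
      · have := congrArg (fun k => k ≫ prod.fst) e₁
        simpa only [Category.assoc, prod.map_fst] using this
      · have := congrArg (fun k => k ≫ prod.fst) e₂
        simpa only [Category.assoc, prod.map_fst] using this
    · apply h'.hom_ext
      · have := congrArg (fun k => k ≫ prod.snd) e₁
        simpa only [Category.assoc, prod.map_snd] using this
      · have := congrArg (fun k => k ≫ prod.snd) e₂
        simpa only [Category.assoc, prod.map_snd] using this
  · intro T a b hab
    have e₁ : (a ≫ prod.fst) ≫ π = (b ≫ prod.fst) ≫ π := by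
      have := congrArg (fun k => k ≫ prod.fst) hab
      simpa only [Category.assoc, prod.map_fst] using this
    have e₂ : (a ≫ prod.snd) ≫ π' = (b ≫ prod.snd) ≫ π' := by
      have := congrArg (fun k => k ≫ prod.snd) hab
      simpa only [Category.assoc, prod.map_snd] using this
    refine ⟨prod.lift (h.lift _ _ e₁) (h'.lift _ _ e₂), ?_, ?_⟩
    · ext
      · rw [Category.assoc, prod.map_fst, prod.lift_fst_assoc, h.lift_fst]
      · rw [Category.assoc, prod.map_snd, prod.lift_snd_assoc, h'.lift_fst]
    · ext
      · rw [Category.assoc, prod.map_fst, prod.lift_fst_assoc, h.lift_snd]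
      · rw [Category.assoc, prod.map_snd, prod.lift_snd_assoc, h'.lift_snd]


/-- For universal effective epimorphisms, in a category with pullbacks and binary products: for two
universally effective equivalence relations `R ⇉ X` and `R' ⇉ X'` with quotient maps `π` and `π'`,
the product relation `R × R' ⇉ X × X'` is the kernel pair of `π × π'`. (Together with the fact that
a product of two universal effective epimorphisms is again one, this says that `(X × X')/(R × R')`
is `(X/R) × (X'/R')`; only the kernel-pair assertion is stated here.) -/
theorem result {C : Type u₁} [Category.{v₁} C]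
    [HasPullbacks C] [HasBinaryProducts C]
    {R X R' X' : C} {p₁ p₂ : R ⟶ X} {p₁' p₂' : R' ⟶ X'}
    (e : UniversallyEffectiveEquivalenceRelation p₁ p₂)
    (e' : UniversallyEffectiveEquivalenceRelation p₁' p₂') :
    IsKernelPair (prod.map e.π e'.π) (prod.map p₁ p₁') (prod.map p₂ p₂') := by
  exact isPullback_prodMap e.isKernelPair e'.isKernelPair

end Groth.Agent.S5229
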