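import Groth.Statements.S5234
import Mathlib
import Groth.Agent.Lib.Helper10.HomSp1
import Groth.Agent.Lib.Helper10.QuotCov1

set_option autoImplicit false
open CategoryTheory CategoryTheory.Limits AlgebraicGeometry MonoidalCategory
universe u
open RedSub

namespace Groth.Agent.S5234

open CartesianMonoidalCategory SemiCartesianMonoidalCategory in
/-- (ii) ⇔ (iii), for schemes with the fppf topology: let `G` be an `S`-group scheme which is faithfully
flat and locally of finite presentation over `S`, acting on `X` so that `X` is formally principal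
homogeneous. Then `X` is a torsor (its structure map is faithfully flat and locally of finite
presentation) if and only if `X` has a point over some faithfully flat, locally finitely presented
`S' ⟶ S`. -/
theorem result {S : Scheme.{u}} {G X : Over S} [GrpObj G]
    (a : AlgGrp.Action G X)
    [Flat G.hom] [Surjective G.hom] [LocallyOfFinitePresentation G.hom]
    (hX : IsIso (lift a.act (snd G X))) :
    RedSub.IsTorsor a ↔
      ∃ S' : Over S, Surjective S'.hom ∧ Flat S'.hom ∧ LocallyOfFinitePresentation S'.hom ∧
        Nonempty (S' ⟶ X) := by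
  constructor
  · rintro ⟨hs, hf, hp, -⟩
    exact ⟨X, hs, hf, hp, ⟨𝟙 X⟩⟩
  · rintro ⟨S', hs, hf, hp, ⟨x₀⟩⟩
    have sqo := Groth.Agent.Lib.Helper10.HomSp.isPullback_orb_shear a x₀
    haveI : IsIso (Groth.Agent.Lib.Helper10.HomSp.orb a x₀) := sqo.isIso_fst_of_isIso hX
    have e : fst S' X = inv (Groth.Agent.Lib.Helper10.HomSp.orb a x₀) ≫ fst S' G := by
      rw [IsIso.eq_inv_comp]
      exact Groth.Agent.Lib.Helper10.HomSp.orb_fst a x₀
    haveI : IsIso (inv (Groth.Agent.Lib.Helper10.HomSp.orb a x₀)).left :=
      inferInstanceAs (IsIso ((Over.forget _).map (inv (Groth.Agent.Lib.Helper10.HomSp.orb a x₀))))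
    have e' : pullback.fst S'.hom X.hom =
        (inv (Groth.Agent.Lib.Helper10.HomSp.orb a x₀)).left ≫ pullback.fst S'.hom G.hom := by
      rw [← Over.fst_left, ← Over.fst_left, ← Over.comp_left, ← e]
    have h1 : Flat (pullback.fst S'.hom X.hom) := by rw [e']; infer_instance
    have h2 : Surjective (pullback.fst S'.hom X.hom) := by rw [e']; infer_instance
    have h3 : LocallyOfFinitePresentation (pullback.fst S'.hom X.hom) := by rw [e']; infer_instance
    have sq : IsPullback (pullback.fst S'.hom X.hom) (pullback.snd S'.hom X.hom) S'.hom X.hom :=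
      IsPullback.of_hasPullback _ _
    refine ⟨?_, ?_, ?_, hX⟩
    · haveI : Surjective (pullback.snd S'.hom X.hom ≫ X.hom) := by
        rw [← pullback.condition]; infer_instance
      exact Surjective.of_comp (pullback.snd S'.hom X.hom) X.hom
    · exact Groth.Agent.Lib.Helper10.QuotCov.flat_of_flat_baseChange sq S'.hom (𝟙 _)
        (Category.id_comp _) h1
    · exact MorphismProperty.of_isPullback_of_descendsAlong (P := @LocallyOfFinitePresentation)
        (Q := @Surjective ⊓ @Flat ⊓ @LocallyOfFinitePresentation) sq ⟨⟨hs, hf⟩, hp⟩ h3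

end Groth.Agent.S5234
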