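import Groth.Statements.S5235
import Groth.Agent.Lib.Helper25.SubobjOpen
import Mathlib.AlgebraicGeometry.Morphisms.Flat

set_option autoImplicit false
open CategoryTheory CategoryTheory.Limits AlgebraicGeometry
universe u
open GrpQ

namespace Groth.Agent.S5235

open Groth.Agent.Lib.Helper25.SubobjOpen in
/-- For schemes, with (M) the faithfully flat quasi-compact morphisms and (N) the open immersions: if `π
: X ⟶ X'` is flat, surjective and quasi-compact, then `Y' ↦ π⁻¹(Y')` is a bijection from open
subschemes of `X'` onto the open subschemes of `X` stable under the kernel pair of `π`. -/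
theorem result {X X' : Scheme.{u}} (π : X ⟶ X')
    [Flat π] [Surjective π] [QuasiCompact π] :
    Set.BijOn (Subobject.pullback π).obj
      {Y' : Subobject X' | IsOpenImmersion Y'.arrow}
      {Y : Subobject X | IsOpenImmersion Y.arrow ∧
        (Subobject.pullback (pullback.fst π π)).obj Y = (Subobject.pullback (pullback.snd π π)).obj Y} := by
  refine ⟨?_, ?_, ?_⟩
  · intro Y' hY'
    have : IsOpenImmersion Y'.arrow := hY'
    refine ⟨isOpenImmersion_pullback_arrow π Y', ?_⟩
    rw [← Subobject.pullback_comp, ← Subobject.pullback_comp, pullback.condition]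
  · intro Y₁ h₁ Y₂ h₂ h
    have : IsOpenImmersion Y₁.arrow := h₁
    have : IsOpenImmersion Y₂.arrow := h₂
    apply subobject_eq_of_range_eq
    have h' := congrArg (fun Y : Subobject X => Set.range Y.arrow) h
    simp only [range_pullback_arrow] at h'
    have hs : Function.Surjective π := π.surjective
    rw [← Set.image_preimage_eq (Set.range Y₁.arrow) hs, h', Set.image_preimage_eq _ hs]
  · rintro Y ⟨hY, hst⟩
    have : IsOpenImmersion Y.arrow := hY
    have hs : Function.Surjective π := π.surjective
    set U : Set X := Set.range Y.arrow with hU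
    have hUo : IsOpen U := Y.arrow.isOpenEmbedding.isOpen_range
    -- saturation
    have hsat : π ⁻¹' (π '' U) = U := by
      refine subset_antisymm ?_ (Set.subset_preimage_image _ _)
      rintro x' ⟨x, hx, hxx'⟩
      obtain ⟨z, hz1, hz2⟩ := Scheme.Pullback.exists_preimage_pullback (f := π) (g := π) x x' hxx'
      have h' := congrArg (fun Y : Subobject (pullback π π) => Set.range Y.arrow) hst
      simp only [range_pullback_arrow] at h'
      have : z ∈ (pullback.fst π π) ⁻¹' U := by
        change (pullback.fst π π) z ∈ U
        rw [hz1]; exact hx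
      rw [hU, h'] at this
      change (pullback.snd π π) z ∈ U at this
      rwa [hz2] at this
    have hVo : IsOpen (π '' U) := by
      rw [← (Flat.isQuotientMap_of_surjective π).isOpen_preimage, hsat]; exact hUo
    let V : X'.Opens := ⟨π '' U, hVo⟩
    have hVι : IsOpenImmersion (Subobject.mk V.ι).arrow := by
      rw [← Subobject.underlyingIso_hom_comp_eq_mk]; infer_instance
    refine ⟨Subobject.mk V.ι, hVι, ?_⟩
    have := isOpenImmersion_pullback_arrow π (Subobject.mk V.ι)
    apply subobject_eq_of_range_eq
    rw [range_pullback_arrow]
    have : Set.range (Subobject.mk V.ι).arrow = π '' U := by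
      rw [← Subobject.underlyingIso_hom_comp_eq_mk, Scheme.Hom.comp_base, TopCat.coe_comp,
        Set.range_comp]
      have hsurj : Set.range (Subobject.underlyingIso V.ι).hom = Set.univ :=
        Set.range_eq_univ.2 (Subobject.underlyingIso V.ι).hom.homeomorph.surjective
      rw [hsurj, Set.image_univ, Scheme.Opens.range_ι]
      rfl
    rw [this, hsat]


end Groth.Agent.S5235
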