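import Groth.Statements.S5239
import Groth.Agent.Lib.Helper7.HH7


set_option autoImplicit false
universe u
open TensorProduct SGA3b
open SGA3b

namespace Groth.Agent.S5239

/-- Existence of the lifting; case of an affine target group: Let R be a ring, I a nilpotent ideal of R,
H = Spec A an R-group of multiplicative type and G = Spec C an affine R-group with C smooth over R.
Then every homomorphism of (R/I)-groups H₀ ⟶ G₀ between the reductions modulo I, i.e. every
bialgebra map φ₀ : C₀ → A₀ over R/I, is the reduction of a homomorphism of R-groups H ⟶ G: there is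
a bialgebra map φ : C → A over R with φ₀ (1 ⊗ c) = 1 ⊗ φ c for all c. (The published statement
allows any S-group G smooth over the base; this row takes G affine.) (Affine group schemes over an
affine base are taken in Hopf-algebra form; base change is the tensor product; a homomorphism of
groups Spec A ⟶ Spec C is a bialgebra map C → A.) -/
theorem result (R : Type u) [CommRing R] (I : Ideal R) (hI : IsNilpotent I)
    (A : Type u) [CommRing A] [HopfAlgebra R A] (hH : IsMultType R A)
    (C : Type u) [CommRing C] [HopfAlgebra R C] [Algebra.Smooth R C]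
    (φ₀ : ((R ⧸ I) ⊗[R] C) →ₐc[R ⧸ I] ((R ⧸ I) ⊗[R] A)) :
    ∃ φ : C →ₐc[R] A, ∀ c : C, φ₀ ((1 : R ⧸ I) ⊗ₜ[R] c) = (1 : R ⧸ I) ⊗ₜ[R] (φ c) := by
  obtain ⟨J, hJ⟩ := Groth.Agent.Lib.Helper7.HH.exists_isInvInt_of_isMultType hH
  obtain ⟨n, hn⟩ := hI
  have hk : Function.Surjective (algebraMap R (R ⧸ I)) := Ideal.Quotient.mk_surjective
  have hker : RingHom.ker (algebraMap R (R ⧸ I)) ^ (n + 1) = ⊥ := by
    have : RingHom.ker (algebraMap R (R ⧸ I)) = I := Ideal.mk_ker
    rw [this, pow_succ, hn, Ideal.zero_eq_bot, Ideal.bot_mul]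
  obtain ⟨φ', hφ'⟩ := Groth.Agent.Lib.Helper7.HH.rel_nilp (R₀ := R) (B := A) (C := C) hJ n R (R ⧸ I)
    hk hker φ₀
  refine ⟨((Bialgebra.TensorProduct.lid R A : _ →ₐc[R] _).comp φ').comp
    ((Bialgebra.TensorProduct.lid R C).symm : _ →ₐc[R] _), fun c => ?_⟩
  rw [hφ' c]
  have h2 : ∀ y : R ⊗[R] A, Groth.Agent.Lib.Helper7.HH.red (R₀ := R) R (R ⧸ I) A y =
      (1 : R ⧸ I) ⊗ₜ[R] (Bialgebra.TensorProduct.lid R A y) := by
    intro y
    induction y using TensorProduct.induction_on with
    | zero => simp
    | tmul r a =>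
      rw [Algebra.TensorProduct.map_tmul, AlgHom.id_apply, IsScalarTower.coe_toAlgHom',
        Bialgebra.TensorProduct.lid_tmul, TensorProduct.tmul_smul, TensorProduct.smul_tmul',
        Algebra.algebraMap_eq_smul_one]
    | add x y hx hy => simp only [map_add, TensorProduct.tmul_add, hx, hy]
  rw [h2]
  rfl

end Groth.Agent.S5239
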