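import Groth.Statements.S5263
import Groth.Agent.Lib.Helper10.HomGrp
import Groth.Agent.Lib.Helper10.AffLocProjDescent
import Groth.Agent.Lib.Helper10.MultTypeProj
import Groth.Agent.Lib.Helper10.MultTypeHom2

set_option autoImplicit false
open CategoryTheory MonoidalCategory CartesianMonoidalCategory MonObj GrpObj AlgebraicGeometry
universe u
open SGA3x

namespace Groth.Agent.S5263

/-- Let G and H be S-groups of multiplicative type which are finite over S. Then the functor of group
homomorphisms from G to H is representable by an S-scheme which is finite and etale over S (with its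
universal family of homomorphisms). -/
theorem result {S : Scheme.{u}} (G H : Over S) [GrpObj G] [GrpObj H]
    (hG : SGA3x.IsMultTypeFT G) [IsFinite G.hom] (hH : SGA3x.IsMultTypeFT H) [IsFinite H.hom] :
    ∃ (A : Over S) (υ : G ⊗ A ⟶ H), AutFam.RepresentsHom G H A υ ∧ IsFinite A.hom ∧ Etale A.hom := by
  have hproj : Groth.Agent.Lib.Helper10.WeilClosed.AffLocProj G.hom := by
    obtain ⟨S', f, hfl, hsurj, hfpqc, hloc⟩ := hG
    haveI := hfl
    have hp' := Groth.Agent.Lib.Helper10.WeilClosed.affLocProj_of_multType G f hloc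
    exact Groth.Agent.Lib.Helper10.WeilClosed.affLocProj_of_fpqc_of_isFinite hfpqc
      (CategoryTheory.IsPullback.of_hasPullback G.hom f) hp'
  haveI : IsAffineHom H.hom := inferInstance
  obtain ⟨A, υ, hAa, hAft, -, hυ, hA⟩ :=
    Groth.Agent.Lib.Helper10.HomGrp.exists_homGrp G H inferInstance hproj
  haveI := hAa
  haveI : LocallyOfFiniteType A.hom := hAft inferInstance
  obtain ⟨h1, h2⟩ := Groth.Agent.Lib.Helper10.MultTypeHom.finite_etale_of_multType G H hG hH A υ
    hυ hA
  exact ⟨A, υ, ⟨hυ, hA⟩, h1, h2⟩

end Groth.Agent.S5263
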