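import Groth.Statements.S5266
import Groth.Agent.Lib.Helper10.TwCQc2

set_option autoImplicit false
open CategoryTheory MonoidalCategory CartesianMonoidalCategory MonObj GrpObj AlgebraicGeometry
universe u
open SGA3x

namespace Groth.Agent.S5266

/-- Let R be a twisted constant S-scheme (fpqc-locally on S isomorphic to a constant scheme, the index
set being allowed to vary) and Z a closed subscheme of R which is quasi-compact over S. Then Z is
finite over S. -/
theorem result {S : Scheme.{u}} (R : Over S) (hR : TwC.IsTwConst TwC.Topology.fpqc R)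
    {Z : Scheme.{u}} (z : Z ⟶ R.left) [IsClosedImmersion z] [QuasiCompact (z ≫ R.hom)] :
    IsFinite (z ≫ R.hom) := by
  obtain ⟨S', f, hf, -, hqc, hchart⟩ := hR
  haveI := hf
  refine Groth.Agent.Lib.Helper10.TwCQc.isFinite_of_fpqc_charts R.hom z f hqc (fun s' => ?_)
  obtain ⟨U, hU, I, ⟨e⟩⟩ := hchart s'
  let ε : Limits.pullback R.hom (U.ι ≫ f) ≅ ∐ fun _ : I => (U : Scheme.{u}) :=
    (Over.forget _).mapIso e
  have hε : ε.hom ≫ Limits.Sigma.desc (fun _ : I => 𝟙 (U : Scheme.{u})) =
      Limits.pullback.snd R.hom (U.ι ≫ f) := Over.w e.hom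
  exact ⟨U, hU, I, ε, hε⟩

end Groth.Agent.S5266
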