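import Groth.Statements.S5267
import Groth.Agent.Lib.Helper10.TwCFin3
import Groth.Agent.Lib.Helper21.SCmp2

set_option autoImplicit false
open CategoryTheory MonoidalCategory CartesianMonoidalCategory MonObj GrpObj AlgebraicGeometry
universe u
open SGA3x

namespace Groth.Agent.S5267

/-- Let S be a locally Noetherian connected scheme, P a quasi-isotrivial twisted constant S-scheme
(etale-locally on S isomorphic to a constant scheme) and Z an open and closed subscheme of P such
that for some s ∈ S the fibre Z_s is finite. Then Z is finite over S. -/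
theorem result {S : Scheme.{u}} [IsLocallyNoetherian S] [ConnectedSpace S]
    (P : Over S) (hP : TwC.IsTwConst TwC.Topology.etale P)
    {Z : Scheme.{u}} (z : Z ⟶ P.left) [IsOpenImmersion z] [IsClosedImmersion z]
    (hs : ∃ s : S, Set.Finite ((z ≫ P.hom).base ⁻¹' {s})) :
    IsFinite (z ≫ P.hom) := by
  refine Groth.Agent.Lib.Helper10.TwCFin.isFinite_of_charts P.hom z (fun s => ?_) hs
  obtain ⟨S', f, hf, ⟨s', hs'⟩, I, ⟨e⟩⟩ := hP s
  haveI := hf
  haveI : IsLocallyNoetherian S' := LocallyOfFiniteType.isLocallyNoetherian f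
  haveI : LocallyConnectedSpace S' :=
    Groth.Agent.Lib.Helper21.SCmp.locallyConnectedSpace_of_isLocallyNoetherian S'
  obtain ⟨_, ⟨V, hV, rfl⟩, hs'V, -⟩ := S'.isBasis_affineOpens.exists_subset_of_mem_open
    (Set.mem_univ s') isOpen_univ
  let W : S'.Opens := ⟨connectedComponentIn (V : Set S') s', V.isOpen.connectedComponentIn⟩
  have hWc : IsCompact (W : Set S') := by
    change IsCompact (connectedComponentIn (V : Set S') s')
    rw [connectedComponentIn_eq_image hs'V]
    haveI : CompactSpace ↥(V : Set S') := isCompact_iff_compactSpace.mp hV.isCompact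
    exact (isClosed_connectedComponent.isCompact).image continuous_subtype_val
  haveI : CompactSpace ↥(W : Scheme.{u}) := isCompact_iff_compactSpace.mp hWc
  let ε : Limits.pullback P.hom f ≅ ∐ fun _ : I => S' := (Over.forget _).mapIso e
  have hε : ε.hom ≫ Limits.Sigma.desc (fun _ : I => 𝟙 S') = Limits.pullback.snd P.hom f :=
    Over.w e.hom
  refine ⟨S', f, hf, I, ε, hε, W, isPreconnected_connectedComponentIn, inferInstance, ?_⟩
  refine ⟨⟨s', mem_connectedComponentIn hs'V⟩, ?_⟩
  rw [Scheme.Hom.comp_apply]
  exact hs'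

end Groth.Agent.S5267
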