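import Groth.Statements.S5268
import Groth.Agent.Lib.Helper10.TwCFin5

set_option autoImplicit false
open CategoryTheory MonoidalCategory CartesianMonoidalCategory MonObj GrpObj AlgebraicGeometry
universe u
open SGA3x

namespace Groth.Agent.S5268

/-- Let S be a locally Noetherian scheme all of whose local rings are geometrically unibranch, and P a
quasi-isotrivial twisted constant S-scheme (etale-locally on S isomorphic to a constant scheme).
Then every connected component of P is open, and as an open subscheme of P it is finite over S. -/
theorem result {S : Scheme.{u}} [IsLocallyNoetherian S]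
    (hS : ∀ s : S, CAlg2.IsGeomUnibranch (S.presheaf.stalk s))
    (P : Over S) (hP : TwC.IsTwConst TwC.Topology.etale P) (x : P.left) :
    ∃ U : P.left.Opens, (U : Set P.left) = connectedComponent x ∧ IsFinite (U.ι ≫ P.hom) := by
  refine Groth.Agent.Lib.Helper10.TwCFin.exists_opens_connectedComponent hS P.hom (fun s => ?_) x
  obtain ⟨S', f, hf, hs', I, ⟨e⟩⟩ := hP s
  let ε : Limits.pullback P.hom f ≅ ∐ fun _ : I => S' := (Over.forget _).mapIso e
  have hε : ε.hom ≫ Limits.Sigma.desc (fun _ : I => 𝟙 S') = Limits.pullback.snd P.hom f :=
    Over.w e.hom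
  exact ⟨S', f, hf, I, ε, hε, hs'⟩

end Groth.Agent.S5268
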