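import Groth.Statements.S5269
import Groth.Agent.Lib.Helper10.TwCFp5

set_option autoImplicit false
open CategoryTheory MonoidalCategory CartesianMonoidalCategory MonObj GrpObj AlgebraicGeometry
universe u
open SGA3x

namespace Groth.Agent.S5269

/-- Let S be a locally Noetherian scheme and X an S-scheme which is a twisted constant scheme locally
trivial for the fppf topology (every point of S is in the image of a flat, locally finitely
presented S' ⟶ S over which X becomes a constant scheme). Then X is quasi-isotrivial: it becomes
constant etale-locally on S. -/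
theorem result {S : Scheme.{u}} [IsLocallyNoetherian S] (X : Over S)
    (hX : TwC.IsTwConst TwC.Topology.fppf X) : TwC.IsTwConst TwC.Topology.etale X := by
  intro s
  obtain ⟨S', f, hf1, hf2, hs, I, ⟨e⟩⟩ := hX s
  haveI := hf1
  haveI := hf2
  let ε : Limits.pullback X.hom f ≅ ∐ fun _ : I => S' := (Over.forget _).mapIso e
  have hε : ε.hom ≫ Limits.Sigma.desc (fun _ : I => 𝟙 S') = Limits.pullback.snd X.hom f :=
    Over.w e.hom
  obtain ⟨S'', g, hg, hsg, J, ε'', hε''⟩ :=
    Groth.Agent.Lib.Helper10.TwCFp.exists_etale_chart_of_fppf_chart X.hom f s hs ε hε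
  refine ⟨S'', g, hg, hsg, J, ⟨Over.isoMk ε'' ?_⟩⟩
  exact hε''

end Groth.Agent.S5269
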