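import Groth.Statements.S5278
import Mathlib

set_option autoImplicit false
open CategoryTheory AlgebraicGeometry
universe u
open SGA3x

namespace Groth.Agent.S5278

theorem topo_aux {X' X : Type*} [TopologicalSpace X'] [TopologicalSpace X] [PreconnectedSpace X]
    (f : X' → X) (hc : Continuous f) (ho : IsOpenMap f) (hcl : IsClosedMap f) (x : X)
    (hfin : (f ⁻¹' {x}).Finite) (c : X') :
    ∃ x' : X', f x' = x ∧ x' ∈ connectedComponent c := by
  classical
  -- every nonempty clopen meets the fibre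
  have hstar : ∀ Z : Set X', IsClopen Z → Z.Nonempty → (Z ∩ f ⁻¹' {x}).Nonempty := by
    intro Z hZ hne
    have h1 : IsClopen (f '' Z) := ⟨hcl _ hZ.1, ho _ hZ.2⟩
    have h2 : f '' Z = Set.univ := h1.eq_univ (hne.image f)
    have h3 : x ∈ f '' Z := h2 ▸ Set.mem_univ x
    obtain ⟨z, hz, hzx⟩ := h3
    exact ⟨z, hz, hzx⟩
  -- a clopen neighbourhood of `c` meeting the fibre in the least number of points
  have hex : ∃ n : ℕ, ∃ Z : Set X', IsClopen Z ∧ c ∈ Z ∧ (Z ∩ f ⁻¹' {x}).ncard = n :=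
    ⟨_, Set.univ, isClopen_univ, Set.mem_univ c, rfl⟩
  obtain ⟨Z₀, hZ₀, hcZ₀, hn⟩ := Nat.find_spec hex
  have hmin : ∀ Z : Set X', IsClopen Z → c ∈ Z →
      (Z₀ ∩ f ⁻¹' {x}).ncard ≤ (Z ∩ f ⁻¹' {x}).ncard := by
    intro Z hZ hcZ
    rw [hn]
    exact Nat.find_min' hex ⟨Z, hZ, hcZ, rfl⟩
  have hpre : IsPreconnected Z₀ := by
    rw [isPreconnected_iff_subset_of_disjoint_closed]
    intro u v hu hv huv hdisj
    have hA : IsClopen (Z₀ ∩ u) := by
      refine ⟨hZ₀.1.inter hu, ?_⟩
      have : Z₀ ∩ u = Z₀ ∩ vᶜ := by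
        ext y
        constructor
        · rintro ⟨hy, hyu⟩
          refine ⟨hy, fun hyv => ?_⟩
          have : y ∈ Z₀ ∩ (u ∩ v) := ⟨hy, hyu, hyv⟩
          rw [hdisj] at this
          exact this
        · rintro ⟨hy, hyv⟩
          rcases huv hy with h | h
          · exact ⟨hy, h⟩
          · exact absurd h hyv
      rw [this]
      exact hZ₀.2.inter hv.isOpen_compl
    have hB : IsClopen (Z₀ ∩ v) := by
      refine ⟨hZ₀.1.inter hv, ?_⟩
      have : Z₀ ∩ v = Z₀ ∩ uᶜ := by
        ext y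
        constructor
        · rintro ⟨hy, hyv⟩
          refine ⟨hy, fun hyu => ?_⟩
          have : y ∈ Z₀ ∩ (u ∩ v) := ⟨hy, hyu, hyv⟩
          rw [hdisj] at this
          exact this
        · rintro ⟨hy, hyu⟩
          rcases huv hy with h | h
          · exact absurd h hyu
          · exact ⟨hy, h⟩
      rw [this]
      exact hZ₀.2.inter hu.isOpen_compl
    -- the key: a clopen piece containing `c` whose complement piece is nonempty is too small
    have key : ∀ (P Q : Set X'), IsClopen (Z₀ ∩ P) → IsClopen (Z₀ ∩ Q) → c ∈ Z₀ ∩ P →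
        Z₀ ∩ (P ∩ Q) = ∅ → (Z₀ ∩ Q).Nonempty → False := by
      intro P Q hP hQ hcP hPQ hQne
      obtain ⟨y, ⟨hyZ, hyQ⟩, hyx⟩ := hstar _ hQ hQne
      have h1 := hmin _ hP hcP
      have hfinZ : (Z₀ ∩ f ⁻¹' {x}).Finite := hfin.subset Set.inter_subset_right
      have hss : Z₀ ∩ P ∩ f ⁻¹' {x} ⊂ Z₀ ∩ f ⁻¹' {x} := by
        refine ⟨fun z hz => ⟨hz.1.1, hz.2⟩, fun hsub => ?_⟩
        have h2 : y ∈ Z₀ ∩ P ∩ f ⁻¹' {x} := hsub ⟨hyZ, hyx⟩
        have h3 : y ∈ Z₀ ∩ (P ∩ Q) := ⟨hyZ, h2.1.2, hyQ⟩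
        rw [hPQ] at h3
        exact h3
      have h4 := Set.ncard_lt_ncard hss hfinZ
      omega
    rcases huv hcZ₀ with hcu | hcv
    · left
      intro y hy
      rcases huv hy with h | h
      · exact h
      · exact (key u v hA hB ⟨hcZ₀, hcu⟩ hdisj ⟨y, hy, h⟩).elim
    · right
      intro y hy
      rcases huv hy with h | h
      · exact (key v u hB hA ⟨hcZ₀, hcv⟩ (by rw [Set.inter_comm v u]; exact hdisj)
          ⟨y, hy, h⟩).elim
      · exact h
  obtain ⟨x', hx'Z, hx'x⟩ := hstar Z₀ hZ₀ ⟨c, hcZ₀⟩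
  exact ⟨x', hx'x, hpre.subset_connectedComponent hcZ₀ hx'Z⟩

/-- Let X be a connected scheme, f : X' ⟶ X a finite etale morphism and x a point of X. Then every
connected component of X' meets the fibre of f over x; equivalently the map from the connected
components of the fibre (or of the geometric fibre) to those of X' is surjective. -/
theorem result {X X' : Scheme.{u}} [ConnectedSpace X] (f : X' ⟶ X)
    [IsFinite f] [Etale f] (x : X) (c : X') :
    ∃ x' : X', f.base x' = x ∧ x' ∈ connectedComponent c := by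
  haveI : UniversallyOpen f := inferInstance
  exact topo_aux f.base f.continuous f.isOpenMap f.isClosedMap x (f.finite_preimage_singleton x) c

end Groth.Agent.S5278
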