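import Groth.Statements.S5291
import Groth.Agent.Lib.Helper7.HH9


set_option autoImplicit false
universe u
open TensorProduct SGA3b
open SGA3b

namespace Groth.Agent.S5291

/-- Let R be a ring, I a nilpotent ideal of R, u : H₁ ⟶ H₂ a homomorphism of R-groups of multiplicative
type (H₁ = Spec A₁, H₂ = Spec A₂, u given by the bialgebra map α : A₂ → A₁), G = Spec C an affine
R-group with C smooth over R, v : H₁ ⟶ G a homomorphism (bialgebra map β : C → A₁) and w₀ : H₂,₀ ⟶
G₀ a homomorphism over R/I (bialgebra map γ₀ : C₀ → A₂,₀) with w₀ ∘ u₀ = v₀ (the reduction of α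
composed with γ₀ is the reduction of β). Then there is a homomorphism w : H₂ ⟶ G (bialgebra map γ :
C → A₂) lifting w₀ with w ∘ u = v, i.e. α ∘ γ = β. (The published statement says that the map of
homomorphism functors w ↦ w ∘ u is formally smooth, for any smooth S-group G; this row states the
lifting property this means over an affine base, for G affine.) (Affine group schemes over an affine
base are taken in Hopf-algebra form; base change is the tensor product; a homomorphism of groups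
Spec A ⟶ Spec C is a bialgebra map C → A.) -/
theorem result (R : Type u) [CommRing R] (I : Ideal R) (hI : IsNilpotent I)
    (A₁ : Type u) [CommRing A₁] [HopfAlgebra R A₁] (h₁ : IsMultType R A₁)
    (A₂ : Type u) [CommRing A₂] [HopfAlgebra R A₂] (h₂ : IsMultType R A₂) (α : A₂ →ₐc[R] A₁)
    (C : Type u) [CommRing C] [HopfAlgebra R C] [Algebra.Smooth R C] (β : C →ₐc[R] A₁)
    (γ₀ : ((R ⧸ I) ⊗[R] C) →ₐc[R ⧸ I] ((R ⧸ I) ⊗[R] A₂))
    (h0 : ∀ c : C, Algebra.TensorProduct.map (AlgHom.id (R ⧸ I) (R ⧸ I)) (α : A₂ →ₐ[R] A₁) (γ₀ ((1 : R ⧸ I) ⊗ₜ[R] c)) =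
      (1 : R ⧸ I) ⊗ₜ[R] (β c)) :
    ∃ γ : C →ₐc[R] A₂, (∀ c : C, γ₀ ((1 : R ⧸ I) ⊗ₜ[R] c) = (1 : R ⧸ I) ⊗ₜ[R] (γ c)) ∧ ∀ c : C, α (γ c) = β c := by
  obtain ⟨J₁, hJ₁⟩ := Groth.Agent.Lib.Helper7.HH.exists_isInvInt_of_isMultType h₁
  obtain ⟨J₂, hJ₂⟩ := Groth.Agent.Lib.Helper7.HH.exists_isInvInt_of_isMultType h₂
  obtain ⟨n, hn⟩ := hI
  have hk : Function.Surjective (algebraMap R (R ⧸ I)) := Ideal.Quotient.mk_surjective
  have hker : RingHom.ker (algebraMap R (R ⧸ I)) ^ (n + 1) = ⊥ := by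
    have : RingHom.ker (algebraMap R (R ⧸ I)) = I := Ideal.mk_ker
    rw [this, pow_succ, hn, Ideal.zero_eq_bot, Ideal.bot_mul]
  obtain ⟨γ', hγ'1, hγ'2⟩ := Groth.Agent.Lib.Helper7.HH.rel_nilp2 (R₀ := R) hJ₁ hJ₂ α β n R (R ⧸ I)
    hk hker γ₀ h0
  have h2 : ∀ y : R ⊗[R] A₂, Groth.Agent.Lib.Helper7.HH.red (R₀ := R) R (R ⧸ I) A₂ y =
      (1 : R ⧸ I) ⊗ₜ[R] (Bialgebra.TensorProduct.lid R A₂ y) := by
    intro y
    induction y using TensorProduct.induction_on with
    | zero => simp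
    | tmul r a =>
      rw [Algebra.TensorProduct.map_tmul, AlgHom.id_apply, IsScalarTower.coe_toAlgHom',
        Bialgebra.TensorProduct.lid_tmul, TensorProduct.tmul_smul, TensorProduct.smul_tmul',
        Algebra.algebraMap_eq_smul_one]
    | add x y hx hy => simp only [map_add, TensorProduct.tmul_add, hx, hy]
  have h3 : ∀ y : R ⊗[R] A₂, α (Bialgebra.TensorProduct.lid R A₂ y) =
      Bialgebra.TensorProduct.lid R A₁
        (Algebra.TensorProduct.map (AlgHom.id R R) (α : A₂ →ₐ[R] A₁) y) := by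
    intro y
    induction y using TensorProduct.induction_on with
    | zero => simp
    | tmul r a =>
      rw [Algebra.TensorProduct.map_tmul, AlgHom.id_apply, Bialgebra.TensorProduct.lid_tmul,
        Bialgebra.TensorProduct.lid_tmul, map_smul]
      rfl
    | add x y hx hy => simp only [map_add, hx, hy]
  refine ⟨((Bialgebra.TensorProduct.lid R A₂ : _ →ₐc[R] _).comp γ').comp
    ((Bialgebra.TensorProduct.lid R C).symm : _ →ₐc[R] _), fun c => ?_, fun c => ?_⟩
  · rw [hγ'1 c, h2]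
    rfl
  · change α (Bialgebra.TensorProduct.lid R A₂ (γ' ((1 : R) ⊗ₜ[R] c))) = β c
    rw [h3, hγ'2 c, Bialgebra.TensorProduct.lid_tmul, one_smul]

end Groth.Agent.S5291
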