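import Groth.Statements.S5333
import Mathlib
import Groth.Agent.Lib.Helper16.ReducedSub

set_option autoImplicit false
universe u
open CategoryTheory CategoryTheory.Limits MonoidalCategory CartesianMonoidalCategory MonObj GrpObj AlgebraicGeometry
open SGA3

namespace Groth.Agent.S5333

theorem isSeparated_of_isClosed_range_diagonal {X S : Scheme.{u}} (f : X ⟶ S)
    (h : IsClosed (Set.range (pullback.diagonal f))) : IsSeparated f :=
  ⟨IsClosedImmersion.of_isPreimmersion _ h⟩

theorem eq_comp_diagonal {X S T : Scheme.{u}} (f : X ⟶ S) (h : T ⟶ pullback f f)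
    (e : h ≫ pullback.fst f f = h ≫ pullback.snd f f) :
    h = (h ≫ pullback.fst f f) ≫ pullback.diagonal f := by
  apply pullback.hom_ext
  · simp
  · simp [e]

theorem isSeparated_of_crit {X S : Scheme.{u}} (f : X ⟶ S)
    (crit : ∀ (T : Scheme.{u}) [IsReduced T] (g₁ g₂ : T ⟶ X) (U : T.Opens), g₁ ≫ f = g₂ ≫ f →
      Dense (U : Set T) → U.ι ≫ g₁ = U.ι ≫ g₂ → g₁ = g₂) : IsSeparated f := by
  apply isSeparated_of_isClosed_range_diagonal
  rw [← closure_subset_iff_isClosed]
  let Zc : TopologicalSpace.Closeds ↥(pullback f f) :=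
    ⟨closure (Set.range (pullback.diagonal f)), isClosed_closure⟩
  let I := Scheme.IdealSheafData.vanishingIdeal Zc
  haveI : IsReduced I.subscheme := Groth.Agent.Lib.Helper16.isReduced_subscheme_vanishingIdeal Zc
  have hrange : Set.range I.subschemeι = closure (Set.range (pullback.diagonal f)) := by
    rw [Scheme.IdealSheafData.range_subschemeι]
    simp [I, Zc]
  have hlc : IsLocallyClosed (Set.range (pullback.diagonal f)) :=
    IsImmersion.isLocallyClosed_range (f := pullback.diagonal f)
  let O : (pullback f f).Opens := ⟨coborder (Set.range (pullback.diagonal f)), hlc.isOpen_coborder⟩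
  have hCO : closure (Set.range (pullback.diagonal f)) ∩ coborder (Set.range (pullback.diagonal f))
      = Set.range (pullback.diagonal f) := closure_inter_coborder
  let U : I.subscheme.Opens := I.subschemeι ⁻¹ᵁ O
  have hUmem : ∀ u : ↥I.subscheme, u ∈ U ↔
      I.subschemeι u ∈ coborder (Set.range (pullback.diagonal f)) := fun u => Iff.rfl
  have hUdense : Dense (U : Set ↥I.subscheme) := by
    rw [dense_iff_closure_eq, I.subschemeι.isEmbedding.closure_eq_preimage_closure_image]
    have h1 : I.subschemeι '' (U : Set ↥I.subscheme) = Set.range (pullback.diagonal f) := by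
      change I.subschemeι '' (I.subschemeι ⁻¹' coborder (Set.range (pullback.diagonal f))) = _
      rw [Set.image_preimage_eq_range_inter, hrange, hCO]
    rw [h1, ← hrange]
    exact Set.preimage_range _
  have hg : (I.subschemeι ≫ pullback.fst f f) ≫ f = (I.subschemeι ≫ pullback.snd f f) ≫ f := by
    simp only [Category.assoc, pullback.condition]
  have hU : U.ι ≫ (I.subschemeι ≫ pullback.fst f f) = U.ι ≫ (I.subschemeι ≫ pullback.snd f f) := by
    obtain ⟨l, hl⟩ : ∃ l : (U : Scheme.{u}) ⟶ X, l ≫ pullback.diagonal f = U.ι ≫ I.subschemeι := by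
      haveI : IsImmersion (pullback.fst (U.ι ≫ I.subschemeι) (pullback.diagonal f)) := inferInstance
      haveI : Surjective (pullback.fst (U.ι ≫ I.subschemeι) (pullback.diagonal f)) := by
        refine ⟨fun u => ?_⟩
        have hu : (U.ι ≫ I.subschemeι) u ∈ Set.range (pullback.diagonal f) := by
          rw [← hCO, Scheme.Hom.comp_apply]
          refine ⟨?_, (hUmem _).mp u.2⟩
          rw [← hrange]
          exact ⟨_, rfl⟩
        obtain ⟨x, hx⟩ := hu
        obtain ⟨z, hz1, -⟩ := Scheme.Pullback.exists_preimage_pullback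
          (f := U.ι ≫ I.subschemeι) (g := pullback.diagonal f) u x hx.symm
        exact ⟨z, hz1⟩
      haveI : IsClosedImmersion (pullback.fst (U.ι ≫ I.subschemeι) (pullback.diagonal f)) :=
        IsClosedImmersion.of_isPreimmersion _ (by
          rw [(pullback.fst (U.ι ≫ I.subschemeι) (pullback.diagonal f)).surjective.range_eq]
          exact isClosed_univ)
      haveI : IsReduced (U : Scheme.{u}) := inferInstance
      haveI : IsIso (pullback.fst (U.ι ≫ I.subschemeι) (pullback.diagonal f)) :=
        isIso_of_isClosedImmersion_of_surjective _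
      refine ⟨inv (pullback.fst (U.ι ≫ I.subschemeι) (pullback.diagonal f)) ≫
        pullback.snd (U.ι ≫ I.subschemeι) (pullback.diagonal f), ?_⟩
      rw [Category.assoc, ← pullback.condition, IsIso.inv_hom_id_assoc]
    rw [← Category.assoc, ← Category.assoc, ← hl]
    simp
  have hgg := crit I.subscheme _ _ U hg hUdense hU
  have h2 := eq_comp_diagonal f I.subschemeι hgg
  rw [← hrange, h2]
  rintro _ ⟨w, rfl⟩
  exact ⟨(I.subschemeι ≫ pullback.fst f f) w, by simp only [Scheme.Hom.comp_apply]⟩

theorem isSeparated_of_pairs {X S : Scheme.{u}} (f : X ⟶ S)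
    (h : ∀ x₁ x₂ : X, f.base x₁ = f.base x₂ →
      ∃ V : X.Opens, x₁ ∈ V ∧ x₂ ∈ V ∧ IsSeparated (V.ι ≫ f)) : IsSeparated f := by
  apply isSeparated_of_isClosed_range_diagonal
  rw [← closure_subset_iff_isClosed]
  intro z hz
  have hx : f.base (pullback.fst f f z) = f.base (pullback.snd f f z) := by
    change f (pullback.fst f f z) = f (pullback.snd f f z)
    rw [← Scheme.Hom.comp_apply, ← Scheme.Hom.comp_apply, pullback.condition]
  obtain ⟨V, h1, h2, hV⟩ := h _ _ hx
  let j : pullback (V.ι ≫ f) (V.ι ≫ f) ⟶ pullback f f :=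
    pullback.map (V.ι ≫ f) (V.ι ≫ f) f f V.ι V.ι (𝟙 S) (by simp) (by simp)
  haveI : IsOpenImmersion j := inferInstance
  have hjr : Set.range j =
      pullback.fst f f ⁻¹' Set.range V.ι ∩ pullback.snd f f ⁻¹' Set.range V.ι :=
    Scheme.Pullback.range_map ..
  have hzj : z ∈ Set.range j := by
    rw [hjr, Scheme.Opens.range_ι]
    exact ⟨h1, h2⟩
  obtain ⟨w, rfl⟩ := hzj
  have hΔ : pullback.diagonal (V.ι ≫ f) ≫ j = V.ι ≫ pullback.diagonal f := by
    apply pullback.hom_ext
    · rw [Category.assoc, Category.assoc, pullback.lift_fst, pullback.diagonal_fst_assoc,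
        pullback.diagonal_fst, Category.comp_id]
    · rw [Category.assoc, Category.assoc, pullback.lift_snd, pullback.diagonal_snd_assoc,
        pullback.diagonal_snd, Category.comp_id]
  have hΔapp : ∀ v, j (pullback.diagonal (V.ι ≫ f) v) = pullback.diagonal f (V.ι v) := by
    intro v
    rw [← Scheme.Hom.comp_apply, hΔ, Scheme.Hom.comp_apply]
  have hpre : j ⁻¹' Set.range (pullback.diagonal f) =
      Set.range (pullback.diagonal (V.ι ≫ f)) := by
    ext w'
    constructor
    · rintro ⟨x, hx'⟩
      have hxV : x ∈ V := by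
        have h3 : j w' ∈ Set.range j := ⟨w', rfl⟩
        rw [hjr, Scheme.Opens.range_ι] at h3
        have h4 : pullback.fst f f (j w') ∈ (V : Set ↥X) := h3.1
        rw [← hx', ← Scheme.Hom.comp_apply, pullback.diagonal_fst] at h4
        exact h4
      refine ⟨⟨x, hxV⟩, j.isOpenEmbedding.injective ?_⟩
      rw [hΔapp, ← hx']
      rfl
    · rintro ⟨v, rfl⟩
      exact ⟨V.ι v, (hΔapp v).symm⟩
  have hw : w ∈ closure (j ⁻¹' Set.range (pullback.diagonal f)) := by
    rw [← j.isOpenEmbedding.isOpenMap.preimage_closure_eq_closure_preimage j.continuous]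
    exact hz
  rw [hpre] at hw
  haveI := hV
  have hcl : IsClosed (Set.range (pullback.diagonal (V.ι ≫ f))) :=
    (pullback.diagonal (V.ι ≫ f)).isClosedEmbedding.isClosed_range
  rw [hcl.closure_eq] at hw
  obtain ⟨v, rfl⟩ := hw
  exact ⟨V.ι v, (hΔapp v).symm⟩

/-- (i) ⟺ (iii) ⟺ (iv'): let f : X → S be a morphism of schemes. Then X is separated over S if and only
if for every reduced scheme T and every two morphisms T → X with the same composite to S which agree
on a dense open subscheme of T are equal; and X is separated over S if and only if every two points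
of X in the same fibre over S lie in a common open subscheme of X which is separated over S. -/
theorem result (X S : Scheme.{u}) (f : X ⟶ S) :
    (IsSeparated f ↔ ∀ (T : Scheme.{u}) [IsReduced T] (g₁ g₂ : T ⟶ X) (U : T.Opens), g₁ ≫ f = g₂ ≫ f →
      Dense (U : Set T) → U.ι ≫ g₁ = U.ι ≫ g₂ → g₁ = g₂) ∧
    (IsSeparated f ↔ ∀ x₁ x₂ : X, f.base x₁ = f.base x₂ →
      ∃ V : X.Opens, x₁ ∈ V ∧ x₂ ∈ V ∧ IsSeparated (V.ι ≫ f)) := by
  refine ⟨⟨?_, isSeparated_of_crit f⟩, ⟨?_, isSeparated_of_pairs f⟩⟩
  · intro hsep T _ g₁ g₂ U hg hd hU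
    haveI : IsDominant U.ι := ⟨by
      rw [DenseRange, Scheme.Opens.range_ι]
      exact hd⟩
    exact ext_of_isDominant_of_isSeparated f hg U.ι hU
  · intro hsep x₁ x₂ _
    exact ⟨⊤, trivial, trivial, inferInstance⟩

end Groth.Agent.S5333
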