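import Groth.Statements.S5338
import Mathlib
import Groth.Agent.Lib.Helper10.Deform

set_option autoImplicit false
universe u
open CategoryTheory CategoryTheory.Limits MonoidalCategory CartesianMonoidalCategory MonObj GrpObj AlgebraicGeometry
open SGA3

namespace Groth.Agent.S5338

namespace Groth.Agent.S5338.Aux

open CategoryTheory CategoryTheory.Limits

/-- The quotient square is a pushout of commutative rings. -/
theorem isPushout_quotient {B C : Type u} [CommRing B] [CommRing C] (ψ : B →+* C) (J : Ideal B) :
    IsPushout (CommRingCat.ofHom (Ideal.Quotient.mk J)) (CommRingCat.ofHom ψ)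
      (CommRingCat.ofHom (Ideal.quotientMap (J.map ψ) ψ Ideal.le_comap_map))
      (CommRingCat.ofHom (Ideal.Quotient.mk (J.map ψ))) := by
  have hw : CommRingCat.ofHom (Ideal.Quotient.mk J) ≫
      CommRingCat.ofHom (Ideal.quotientMap (J.map ψ) ψ Ideal.le_comap_map) =
      CommRingCat.ofHom ψ ≫ CommRingCat.ofHom (Ideal.Quotient.mk (J.map ψ)) := by
    ext x
    simp
  refine ⟨⟨hw⟩, ⟨PushoutCocone.IsColimit.mk _ (fun s => CommRingCat.ofHom
    (Ideal.Quotient.lift (J.map ψ) s.inr.hom (by
      intro c hc
      have hle : J.map ψ ≤ RingHom.ker s.inr.hom := by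
        rw [Ideal.map_le_iff_le_comap]
        intro j hj
        rw [Ideal.mem_comap, RingHom.mem_ker]
        have h1 : s.inl.hom (Ideal.Quotient.mk J j) = s.inr.hom (ψ j) :=
          congrArg (fun m => m.hom j) s.condition
        rw [← h1, Ideal.Quotient.eq_zero_iff_mem.mpr hj, map_zero]
      exact hle hc))) ?_ ?_ ?_⟩⟩
  · intro s
    ext b
    have h1 : s.inl.hom (Ideal.Quotient.mk J b) = s.inr.hom (ψ b) :=
      congrArg (fun m => m.hom b) s.condition
    simp only [CommRingCat.hom_comp, CommRingCat.hom_ofHom, RingHom.comp_apply,
      Ideal.quotientMap_mk, h1]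
    exact Ideal.Quotient.lift_mk (J.map ψ) _ _
  · intro s
    ext x
    simp only [CommRingCat.hom_comp, CommRingCat.hom_ofHom, RingHom.comp_apply]
    exact Ideal.Quotient.lift_mk (J.map ψ) _ _
  · intro s m _ h2
    ext c
    have := congrArg (fun m => m.hom c) h2
    simp only [CommRingCat.hom_comp, CommRingCat.hom_ofHom, RingHom.comp_apply] at this ⊢
    rw [this]
    exact (Ideal.Quotient.lift_mk (J.map ψ) _ _).symm

end Groth.Agent.S5338.Aux

/-- Let A → B → C be homomorphisms of commutative rings and n a nilpotent ideal of A; write nB and nC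
for the extended ideals. (i) If C/nC is a (B/nB)-algebra of finite type, then C is a B-algebra of
finite type. (ii) If moreover C is flat over A and C/nC is a (B/nB)-algebra of finite presentation,
then C is a B-algebra of finite presentation. -/
theorem result (A B C : Type u) [CommRing A] [CommRing B] [CommRing C]
    [Algebra A B] [Algebra B C] [Algebra A C] [IsScalarTower A B C] (n : Ideal A) (hn : IsNilpotent n) :
    (Algebra.FiniteType (B ⧸ n.map (algebraMap A B)) (C ⧸ (n.map (algebraMap A B)).map (algebraMap B C)) →
      Algebra.FiniteType B C) ∧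
    (Module.Flat A C →
      Algebra.FinitePresentation (B ⧸ n.map (algebraMap A B)) (C ⧸ (n.map (algebraMap A B)).map (algebraMap B C)) →
      Algebra.FinitePresentation B C) := by
  have hpo := Groth.Agent.S5338.Aux.isPushout_quotient (algebraMap B C) (n.map (algebraMap A B))
  have hsurj : Function.Surjective (Ideal.Quotient.mk (n.map (algebraMap A B))) :=
    Ideal.Quotient.mk_surjective
  have hker : RingHom.ker (Ideal.Quotient.mk (n.map (algebraMap A B))) = n.map (algebraMap A B) :=
    Ideal.mk_ker
  have hnil : IsNilpotent (RingHom.ker (Ideal.Quotient.mk (n.map (algebraMap A B)))) := by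
    rw [hker]
    exact Groth.Agent.Lib.Helper10.Deform.isNilpotent_map (algebraMap A B) hn
  have halg : algebraMap (B ⧸ n.map (algebraMap A B))
      (C ⧸ (n.map (algebraMap A B)).map (algebraMap B C)) =
      Ideal.quotientMap ((n.map (algebraMap A B)).map (algebraMap B C)) (algebraMap B C)
        Ideal.le_comap_map := rfl
  constructor
  · intro h
    have hα : (Ideal.quotientMap ((n.map (algebraMap A B)).map (algebraMap B C)) (algebraMap B C)
        Ideal.le_comap_map).FiniteType := by
      rw [← halg]
      exact RingHom.finiteType_algebraMap.mpr h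
    have := Groth.Agent.Lib.Helper10.Thick.finiteType_of_isPushout_nilpotent _ _ _ _ hpo hsurj hnil hα
    exact RingHom.finiteType_algebraMap.mp this
  · intro hflat h
    have hα : (Ideal.quotientMap ((n.map (algebraMap A B)).map (algebraMap B C)) (algebraMap B C)
        Ideal.le_comap_map).FinitePresentation := by
      rw [← halg]
      exact RingHom.finitePresentation_algebraMap.mpr h
    have hfl : ((algebraMap B C).comp (algebraMap A B)).Flat := by
      rw [← IsScalarTower.algebraMap_eq A B C]
      exact RingHom.flat_algebraMap_iff.mpr hflat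
    have := Groth.Agent.Lib.Helper10.Deform.finitePresentation_of_isPushout (algebraMap A B)
      _ _ _ _ hpo hsurj n hn hker hfl hα
    exact RingHom.finitePresentation_algebraMap.mp this

end Groth.Agent.S5338
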