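import Groth.Statements.S5342
import Groth.Agent.Lib.Helper12.GeomComp

set_option autoImplicit false
universe u
open CategoryTheory CategoryTheory.Limits MonoidalCategory CartesianMonoidalCategory MonObj GrpObj AlgebraicGeometry
open SGA3

namespace Groth.Agent.S5342

/-- Let X and Y be connected schemes over a field k such that X has a k-rational point (a section of X →
Spec k). Then X ×_k Y is connected. -/
theorem result (k : Type u) [Field k] (X Y : Scheme.{u})
    (f : X ⟶ Spec (CommRingCat.of k)) (g : Y ⟶ Spec (CommRingCat.of k)) [ConnectedSpace X] [ConnectedSpace Y]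
    (x : Spec (CommRingCat.of k) ⟶ X) (hx : x ≫ f = 𝟙 _) : ConnectedSpace ↥(pullback f g) := by
  set Ω := AlgebraicClosure k with hΩ
  set t : Spec (CommRingCat.of Ω) ⟶ Spec (CommRingCat.of k) :=
    Spec.map (CommRingCat.ofHom (algebraMap k Ω)) with ht
  set π := pullback.fst f t with hπ
  have hsk : Subsingleton ↥(Spec (CommRingCat.of k)) :=
    inferInstanceAs (Subsingleton (PrimeSpectrum k))
  obtain ⟨pt⟩ : Nonempty ↥(Spec (CommRingCat.of k)) :=
    inferInstanceAs (Nonempty (PrimeSpectrum k))
  -- the fibre of `π` over the rational point is a subsingleton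
  have hE : IsPullback (pullback.fst x π) (pullback.snd x π ≫ pullback.snd f t) (x ≫ f) t :=
    (IsPullback.of_hasPullback x π).paste_vert (IsPullback.of_hasPullback f t)
  have hiso : IsIso (x ≫ f) := by rw [hx]; infer_instance
  haveI : IsIso (pullback.snd x π ≫ pullback.snd f t) := hE.isIso_snd_of_isIso hiso
  have hsΩ : Subsingleton ↥(Spec (CommRingCat.of Ω)) :=
    inferInstanceAs (Subsingleton (PrimeSpectrum Ω))
  have hsE : Subsingleton ↥(pullback x π) :=
    (pullback.snd x π ≫ pullback.snd f t).homeomorph.injective.subsingleton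
  have hfib : (π ⁻¹' {x pt}).Subsingleton := by
    intro w hw w' hw'
    obtain ⟨z, -, hz⟩ := Scheme.Pullback.exists_preimage_pullback (f := x) (g := π)
      pt w (Set.mem_singleton_iff.mp hw).symm
    obtain ⟨z', -, hz'⟩ := Scheme.Pullback.exists_preimage_pullback (f := x) (g := π)
      pt w' (Set.mem_singleton_iff.mp hw').symm
    rw [← hz, ← hz', Subsingleton.elim z z']
  have hconn : ∀ (K : Type u) [Field K] [Algebra k K],
      ConnectedSpace ↥(pullback f (Spec.map (CommRingCat.ofHom (algebraMap k K)))) := by
    intro K _ _
    have h1 := H12GeomComp.isConnected_preimage_connectedComponent_bc f (x pt)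
      (π ⁻¹' {x pt}) hfib.isPreconnected (le_refl _) K
    have h2 : connectedComponent (x pt) = Set.univ :=
      PreconnectedSpace.connectedComponent_eq_univ _
    rw [h2, Set.preimage_univ] at h1
    exact connectedSpace_iff_univ.mpr h1
  haveI : GeometricallyConnected f := by
    refine ⟨geometrically_iff_of_isClosedUnderIsomorphisms.mpr fun K _ y => ?_⟩
    obtain ⟨φ, rfl⟩ := Spec.map_surjective y
    letI : Algebra k K := φ.hom.toAlgebra
    exact hconn K
  haveI : UniversallyOpen f := inferInstance
  infer_instance

end Groth.Agent.S5342
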