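import Groth.Statements.S5343
import Mathlib


set_option autoImplicit false
universe u
open CategoryTheory CategoryTheory.Limits MonoidalCategory CartesianMonoidalCategory MonObj GrpObj AlgebraicGeometry
open SGA3

namespace Groth.Agent.S5343

/-- Let R be a commutative ring and B a commutative R-algebra which is projective as an R-module. Then
the image of Spec B → Spec R is an open and closed subset of Spec R. (The published statement
concerns a quasi-coherent algebra on any scheme which is a direct summand of a free module; this row
is the affine case.) -/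
theorem result (R B : Type u) [CommRing R] [CommRing B] [Algebra R B] [Module.Projective R B] :
    IsClopen (Set.range (PrimeSpectrum.comap (algebraMap R B))) := by
  classical
  obtain ⟨s, hs⟩ := (Module.projective_def' (R := R) (P := B)).1 inferInstance
  set v : B →₀ R := s 1 with hv
  have h1 : (1 : B) = ∑ b ∈ v.support, v b • b := by
    have := LinearMap.congr_fun hs (1 : B)
    simp only [LinearMap.coe_comp, Function.comp_apply, LinearMap.id_coe, id_eq] at this
    rw [← this, ← hv, Finsupp.linearCombination_apply, Finsupp.sum]
    rfl
  set I : Ideal R := Ideal.span ((fun b => v b) '' (v.support : Set B)) with hI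
  have hcI : ∀ b, v b ∈ I := by
    intro b
    by_cases hb : b ∈ v.support
    · exact Ideal.subset_span ⟨b, hb, rfl⟩
    · rw [Finsupp.notMem_support_iff.1 hb]; exact I.zero_mem
  -- every functional has values in I
  have hφ : ∀ (φ : B →ₗ[R] R) (x : B), φ x ∈ I := by
    intro φ x
    have hx : x = ∑ b ∈ v.support, v b • (x * b) := by
      conv_lhs => rw [← mul_one x, h1, Finset.mul_sum]
      exact Finset.sum_congr rfl fun b _ => by rw [mul_smul_comm]
    rw [hx, map_sum]
    refine I.sum_mem fun b _ => ?_
    rw [map_smul, smul_eq_mul]
    exact I.mul_mem_right _ (hcI b)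
  -- I is idempotent
  have hidem : IsIdempotentElem I := by
    apply le_antisymm
    · exact Ideal.mul_le_left
    · rw [hI, Ideal.span_le]
      rintro _ ⟨b, -, rfl⟩
      let φb : B →ₗ[R] R := (Finsupp.lapply b).comp s
      have e1 : v b = φb 1 := rfl
      show v b ∈ I * I
      rw [e1, h1, map_sum]
      refine (I * I).sum_mem fun b' _ => ?_
      rw [map_smul, smul_eq_mul]
      exact Ideal.mul_mem_mul (hcI b') (hφ φb b')
  have hfg : I.FG := ⟨(v.support.image fun b => v b), by rw [hI, Finset.coe_image]⟩
  obtain ⟨e, he, hIe⟩ := (Ideal.isIdempotentElem_iff_of_fg I hfg).1 hidem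
  have hrange : Set.range (PrimeSpectrum.comap (algebraMap R B)) =
      (PrimeSpectrum.basicOpen e : Set (PrimeSpectrum R)) := by
    ext p
    rw [PrimeSpectrum.mem_range_comap_iff, SetLike.mem_coe, PrimeSpectrum.mem_basicOpen]
    constructor
    · intro hp heP
      -- I ≤ p, so 1 ∈ p B
      have hIp : I ≤ p.asIdeal := by
        rw [hIe, Ideal.span_le]; intro x hx; rw [Set.mem_singleton_iff.1 hx]; exact heP
      have h1mem : (1 : B) ∈ p.asIdeal.map (algebraMap R B) := by
        rw [h1]
        refine Ideal.sum_mem _ fun b _ => ?_
        rw [Algebra.smul_def]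
        exact Ideal.mul_mem_right _ _ (Ideal.mem_map_of_mem _ (hIp (hcI b)))
      have h1p : (1 : R) ∈ (p.asIdeal.map (algebraMap R B)).comap (algebraMap R B) := by
        rw [Ideal.mem_comap, map_one]; exact h1mem
      rw [hp] at h1p
      exact p.2.ne_top ((Ideal.eq_top_iff_one _).2 h1p)
    · intro hep
      apply le_antisymm
      · intro r hr
        rw [Ideal.mem_comap] at hr
        -- some c_b ∉ p
        have : ∃ b, v b ∉ p.asIdeal := by
          by_contra hcon
          push Not at hcon
          apply hep
          have : I ≤ p.asIdeal := by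
            rw [hI, Ideal.span_le]; rintro _ ⟨b, -, rfl⟩; exact hcon b
          exact this (hIe ▸ Ideal.subset_span rfl)
        obtain ⟨b, hb⟩ := this
        let φb : B →ₗ[R] R := (Finsupp.lapply b).comp s
        -- φb maps pB into p
        have hmap : ∀ y ∈ p.asIdeal.map (algebraMap R B), ∀ x : B, φb (x * y) ∈ p.asIdeal := by
          intro y hy
          refine Submodule.span_induction (p := fun y _ => ∀ x : B, φb (x * y) ∈ p.asIdeal)
            ?_ ?_ ?_ ?_ hy
          · rintro _ ⟨a, ha, rfl⟩ x
            have : φb (x * algebraMap R B a) = a * φb x := by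
              rw [mul_comm, ← Algebra.smul_def, map_smul, smul_eq_mul]
            rw [this]
            exact p.asIdeal.mul_mem_right _ ha
          · intro x; rw [mul_zero, map_zero]; exact p.asIdeal.zero_mem
          · intro x y _ _ hx hy z; rw [mul_add, map_add]; exact p.asIdeal.add_mem (hx z) (hy z)
          · intro a x _ hx z
            rw [smul_eq_mul, ← _root_.mul_assoc]
            exact hx (z * a)
        have h2 := hmap _ hr 1
        rw [_root_.one_mul] at h2
        have h3 : φb (algebraMap R B r) = r * v b := by
          rw [Algebra.algebraMap_eq_smul_one, map_smul, smul_eq_mul]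
          rfl
        rw [h3] at h2
        rcases p.2.mem_or_mem h2 with h | h
        · exact h
        · exact absurd h hb
      · exact Ideal.le_comap_map
  rw [hrange]
  exact PrimeSpectrum.isClopen_basicOpen_of_mul_add e (1 - e)
    (by rw [mul_sub, _root_.mul_one, he.eq, sub_self]) (by ring)

end Groth.Agent.S5343
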