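import Groth.Statements.S5344
import Groth.Agent.Lib.Helper10.HomSp6
import Groth.Agent.Lib.Helper16.LocNoeth

set_option autoImplicit false
universe u
open CategoryTheory CategoryTheory.Limits MonoidalCategory CartesianMonoidalCategory MonObj GrpObj AlgebraicGeometry
open SGA3

namespace Groth.Agent.S5344

/-- Let A be a local artinian ring and G an A-group scheme locally of finite type, and let G⁰ be the
connected component of the unit point. Then G⁰ is open in G; it is stable under the group law: for
every A-scheme T and all points g, h : T → G whose images lie in G⁰, the image of g h⁻¹ lies in G⁰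
(so G⁰ carries an open subgroup scheme, the neutral component); and it is normal: for every A-scheme
T, every point g : T → G and every point n : T → G whose image lies in G⁰, the image of g n g⁻¹ lies
in G⁰. -/
theorem result (A : Type u) [CommRing A] [IsArtinianRing A] [IsLocalRing A] (G : Over (Spec (CommRingCat.of A))) [GrpObj G] [LocallyOfFiniteType G.hom]
    (pt : ↥(𝟙_ (Over (Spec (CommRingCat.of A)))).left) :
    IsOpen (connectedComponent (η[G].left.base pt)) ∧
    (∀ (T : Over (Spec (CommRingCat.of A))) (g h : T ⟶ G), Set.range g.left.base ⊆ connectedComponent (η[G].left.base pt) →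
      Set.range h.left.base ⊆ connectedComponent (η[G].left.base pt) →
      Set.range (g * h⁻¹).left.base ⊆ connectedComponent (η[G].left.base pt)) ∧
    ∀ (T : Over (Spec (CommRingCat.of A))) (g n : T ⟶ G), Set.range n.left.base ⊆ connectedComponent (η[G].left.base pt) →
      Set.range (g * n * g⁻¹).left.base ⊆ connectedComponent (η[G].left.base pt) := by
  refine ⟨?_, ?_, ?_⟩
  · haveI : IsLocallyNoetherian (Spec (CommRingCat.of A)) := inferInstance
    haveI : IsLocallyNoetherian G.left := LocallyOfFiniteType.isLocallyNoetherian G.hom
    haveI : LocallyConnectedSpace ↥G.left := by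
      apply Groth.Agent.Lib.Helper16.locallyConnectedSpace_of_locallyNoetherian
      intro x
      obtain ⟨_, ⟨U, hU, rfl⟩, hxU, -⟩ := G.left.isBasis_affineOpens.exists_subset_of_mem_open
        (Set.mem_univ x) isOpen_univ
      refine ⟨(U : Set ↥G.left), U.2.mem_nhds hxU, ?_⟩
      have := IsLocallyNoetherian.component_noetherian (X := G.left) ⟨U, hU⟩
      exact noetherianSpace_of_isAffineOpen U hU
    exact isOpen_connectedComponent
  · intro T g h hg hh
    exact Groth.Agent.Lib.Helper10.HomSp.mul_inv_mem_cc_artin A G pt g h hg hh
  · intro T g n hn
    exact Groth.Agent.Lib.Helper10.HomSp.conj_mem_cc_artin A G pt g n hn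

end Groth.Agent.S5344
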