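import Groth.Statements.S5348
import Groth.Agent.Lib.Helper10.HomSp4

set_option autoImplicit false
universe u
open CategoryTheory CategoryTheory.Limits MonoidalCategory CartesianMonoidalCategory MonObj GrpObj AlgebraicGeometry
open SGA3

namespace Groth.Agent.S5348

/-- Let G be a group scheme over a field k (not assumed of finite type) acting on a k-scheme X so that
the morphism G ×_k X → X ×_k X, (g, x) ↦ (gx, x), is surjective. (i) For every field extension K of
k, every point of X ⊗_k K lies in exactly one irreducible component of X ⊗_k K. (iv) If x is a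
k-rational point of X and C the irreducible component of X containing x, then for every field
extension K of k the inverse image of C in X ⊗_k K is irreducible. -/
theorem result (k : Type u) [Field k] (G X : Over (Spec (CommRingCat.of k))) [GrpObj G] (a : AlgGrp.Action G X) (hΦ : Surjective (lift a.act (snd G X)).left) :
    (∀ (K : Type u) [Field K] [Algebra k K] (z : ↥(pullback X.hom (Spec.map (CommRingCat.ofHom (algebraMap k K))))),
      ∃! C, C ∈ irreducibleComponents ↥(pullback X.hom (Spec.map (CommRingCat.ofHom (algebraMap k K)))) ∧ z ∈ C) ∧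
    (∀ (x : 𝟙_ (Over (Spec (CommRingCat.of k))) ⟶ X) (pt : ↥(𝟙_ (Over (Spec (CommRingCat.of k)))).left) (C : Set X.left),
      C ∈ irreducibleComponents ↥X.left → x.left.base pt ∈ C →
      ∀ (K : Type u) [Field K] [Algebra k K],
        IsIrreducible ((pullback.fst X.hom (Spec.map (CommRingCat.ofHom (algebraMap k K)))).base ⁻¹' C)) := by
  refine ⟨?_, ?_⟩
  · intro K _ _ z
    have hT := Groth.Agent.Lib.Helper10.HomSp.isFieldPt_mk K
      (Spec.map (CommRingCat.ofHom (algebraMap k K)))
    let e : pullback (Spec.map (CommRingCat.ofHom (algebraMap k K))) X.hom ≅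
        pullback X.hom (Spec.map (CommRingCat.ofHom (algebraMap k K))) := pullbackSymmetry _ _
    have h1 := Groth.Agent.Lib.Helper10.HomSp.uniqueComp_TX a hΦ
      (Over.mk (Spec.map (CommRingCat.ofHom (algebraMap k K)))) hT (e.inv z)
    have h2 := Groth.Agent.Lib.Helper10.IdComp.uniqueComp_of_homeomorph e.hom.homeomorph _ h1
    have h3 : e.hom.homeomorph (e.inv z) = z := by
      change e.hom (e.inv z) = z
      rw [← Scheme.Hom.comp_apply, e.inv_hom_id]
      rfl
    rw [h3] at h2
    refine ⟨irreducibleComponent z,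
      ⟨irreducibleComponent_mem_irreducibleComponents z, mem_irreducibleComponent⟩, ?_⟩
    rintro C ⟨hC, hzC⟩
    exact h2.eq_irreducibleComponent hC hzC
  · intro x pt C hC hxC K _ _
    let tK : Spec (CommRingCat.of K) ⟶ Spec (CommRingCat.of k) :=
      Spec.map (CommRingCat.ofHom (algebraMap k K))
    let sKL : Spec (CommRingCat.of (AlgebraicClosure K)) ⟶ Spec (CommRingCat.of K) :=
      Spec.map (CommRingCat.ofHom (algebraMap K (AlgebraicClosure K)))
    have hT := Groth.Agent.Lib.Helper10.HomSp.isGeomPt_mk (AlgebraicClosure K) (sKL ≫ tK)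
    have h1 : IsIrreducible ((pullback.snd (sKL ≫ tK) X.hom) ⁻¹' C) :=
      Groth.Agent.Lib.Helper10.HomSp.isIrreducible_preimage_snd_comp a pt hΦ x C hC hxC
        (Over.mk (sKL ≫ tK)) hT
    haveI : Surjective sKL := by
      refine ⟨fun w => ?_⟩
      obtain ⟨y⟩ : Nonempty ↥(Spec (CommRingCat.of (AlgebraicClosure K))) :=
        inferInstanceAs (Nonempty (PrimeSpectrum (AlgebraicClosure K)))
      haveI : Subsingleton ↥(Spec (CommRingCat.of K)) :=
        inferInstanceAs (Subsingleton (PrimeSpectrum K))
      exact ⟨y, Subsingleton.elim _ _⟩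
    haveI : Surjective (pullback.fst (pullback.snd X.hom tK) sKL) := inferInstance
    obtain ⟨c, hc1, hcs⟩ : ∃ c : pullback (sKL ≫ tK) X.hom ⟶ pullback X.hom tK,
        c ≫ pullback.fst X.hom tK = pullback.snd (sKL ≫ tK) X.hom ∧ Function.Surjective c := by
      refine ⟨(pullbackSymmetry (sKL ≫ tK) X.hom).hom ≫
        (pullbackLeftPullbackSndIso X.hom tK sKL).inv ≫
        pullback.fst (pullback.snd X.hom tK) sKL, ?_, ?_⟩
      · simp only [Category.assoc, pullbackLeftPullbackSndIso_inv_fst,
          pullbackSymmetry_hom_comp_fst]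
      · haveI : Surjective ((pullbackSymmetry (sKL ≫ tK) X.hom).hom ≫
            (pullbackLeftPullbackSndIso X.hom tK sKL).inv ≫
            pullback.fst (pullback.snd X.hom tK) sKL) := inferInstance
        exact Scheme.Hom.surjective _
    have h2 : (pullback.fst X.hom tK) ⁻¹' C = c '' ((pullback.snd (sKL ≫ tK) X.hom) ⁻¹' C) := by
      have h3 : (pullback.snd (sKL ≫ tK) X.hom) ⁻¹' C =
          c ⁻¹' ((pullback.fst X.hom tK) ⁻¹' C) := by
        rw [← hc1]
        rfl
      rw [h3, Set.image_preimage_eq _ hcs]
    change IsIrreducible ((pullback.fst X.hom tK) ⁻¹' C)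
    rw [h2]
    exact h1.image _ c.continuous.continuousOn

end Groth.Agent.S5348
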