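import Groth.Statements.S5349
import Groth.Agent.Lib.Helper10.HomSp4

set_option autoImplicit false
universe u
open CategoryTheory CategoryTheory.Limits MonoidalCategory CartesianMonoidalCategory MonObj GrpObj AlgebraicGeometry
open SGA3

namespace Groth.Agent.S5349

/-- Let G be a group scheme over a field k (not assumed of finite type) acting on an irreducible
k-scheme X so that the morphism G ×_k X → X ×_k X, (g, x) ↦ (gx, x), is surjective. Then X is
quasi-compact. -/
theorem result (k : Type u) [Field k] (G X : Over (Spec (CommRingCat.of k))) [GrpObj G] (a : AlgGrp.Action G X) (hΦ : Surjective (lift a.act (snd G X)).left)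
    [IrreducibleSpace X.left] : CompactSpace X.left := by
  obtain ⟨pt⟩ := Groth.Agent.Lib.Helper10.HomSp.exists_pt (k := k)
  obtain ⟨x0⟩ : Nonempty ↥X.left := inferInstance
  obtain ⟨_, ⟨U₀, hU₀, rfl⟩, hx₀, -⟩ := X.left.isBasis_affineOpens.exists_subset_of_mem_open
    (Set.mem_univ x0) isOpen_univ
  obtain ⟨U, hU, hxU⟩ : ∃ U : X.left.Opens, IsAffineOpen U ∧ x0 ∈ U := ⟨U₀, hU₀, hx₀⟩
  have hC : (Set.univ : Set ↥X.left) ∈ irreducibleComponents ↥X.left :=
    ⟨IrreducibleSpace.isIrreducible_univ _, fun S _ _ => Set.subset_univ S⟩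
  have hsub := Groth.Agent.Lib.Helper10.HomSp.comp_subset_smulSet_Z0 a pt hΦ Set.univ hC
    (U : Set ↥X.left) U.isOpen ⟨x0, Set.mem_univ _, hxU⟩
  have hcpt := Groth.Agent.Lib.Helper10.HomSp.isCompact_smulSet_Z0 a pt U hU.isCompact
  exact ⟨hcpt.of_isClosed_subset isClosed_univ hsub⟩

end Groth.Agent.S5349
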