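import Groth.Statements.S5353
import Mathlib
import Groth.Agent.Lib.Helper10.FppfQuot2
import Groth.Agent.Lib.Helper10.QuotCov1
import Groth.Agent.Lib.Helper10.GrpTranslate
import Groth.Agent.Lib.Helper14.FppfDesc2

set_option autoImplicit false
universe u
open CategoryTheory CategoryTheory.Limits MonoidalCategory CartesianMonoidalCategory MonObj GrpObj AlgebraicGeometry
open SGA3

namespace Groth.Agent.S5353

/-- Let A be a local artinian ring, G an A-group scheme which is flat and locally of finite type, i : G⁰
→ G an open subgroup scheme whose image is the connected component of the unit (the neutral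
component), and p : G → Q a homomorphism of A-group schemes which is surjective, flat and locally of
finite presentation with kernel G⁰ (Q is the quotient of G by G⁰). Then Q is etale over A. -/
theorem result (A : Type u) [CommRing A] [IsArtinianRing A] [IsLocalRing A] (G0 G Q : Over (Spec (CommRingCat.of A))) [GrpObj G0] [GrpObj G] [GrpObj Q]
    [Flat G.hom] [LocallyOfFiniteType G.hom] (i : G0 ⟶ G) [IsMonHom i] [IsOpenImmersion i.left]
    (pt : ↥(𝟙_ (Over (Spec (CommRingCat.of A)))).left) (hi : Set.range i.left.base = connectedComponent (η[G].left.base pt))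
    (p : G ⟶ Q) [IsMonHom p] [Surjective p.left] [Flat p.left] [LocallyOfFinitePresentation p.left]
    (hK : AlgGrp.IsKernel i p) : Etale Q.hom := by
  have hpf : Groth.Agent.Lib.Helper10.FppfQuot.Fppf p.left :=
    ⟨inferInstance, inferInstance, inferInstance⟩
  -- flatness of Q
  haveI hQflat : Flat Q.hom := by
    refine Groth.Agent.Lib.Helper10.QuotCov.flat_of_comp_surjective p.left Q.hom ?_
    rw [Over.w]; infer_instance
  -- lfp of Q
  haveI : IsNoetherianRing A := inferInstance
  haveI hGlfp : LocallyOfFinitePresentation G.hom := inferInstance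
  haveI hQlfp : LocallyOfFinitePresentation Q.hom := by
    haveI : LocallyOfFinitePresentation (p.left ≫ Q.hom) := by rw [Over.w]; infer_instance
    exact Groth.Agent.Lib.Helper14.AS.lfp_of_fppf_comp p.left Q.hom
  -- the kernel pair
  have hkp : IsPullback (fst G G0) ((G ◁ i) ≫ μ[G]) p p :=
    Groth.Agent.Lib.Helper10.FppfQuot.isPullback_of_kernel i p hK
  -- the graph of the kernel pair is an open immersion
  have hgraph : lift (fst G G0) ((G ◁ i) ≫ μ[G]) =
      (G ◁ i) ≫ Groth.Agent.Lib.Helper10.GrpTranslate.transl (𝟙 G) := by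
    apply CartesianMonoidalCategory.hom_ext
    · rw [lift_fst, Category.assoc, Groth.Agent.Lib.Helper10.GrpTranslate.transl_fst,
        whiskerLeft_fst]
    · rw [lift_snd, Category.assoc, Groth.Agent.Lib.Helper10.GrpTranslate.transl_snd,
        Category.comp_id, Hom.mul_def, comp_lift_assoc, whiskerLeft_fst, whiskerLeft_snd]
      congr 1
  haveI hwl : IsOpenImmersion (G ◁ i).left := by
    have sq : IsPullback (G ◁ i).left (snd G G0).left (snd G G).left i.left :=
      (Groth.Agent.Lib.Helper10.HomSp.isPullback_whiskerLeft_snd G i).map (Over.forget _)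
    exact MorphismProperty.of_isPullback (P := @IsOpenImmersion) sq.flip inferInstance
  haveI htr : IsIso (Groth.Agent.Lib.Helper10.GrpTranslate.transl (𝟙 G)).left :=
    inferInstanceAs (IsIso ((Over.forget _).map
      (Groth.Agent.Lib.Helper10.GrpTranslate.transl (𝟙 G))))
  have hgo : IsOpenImmersion (lift (fst G G0) ((G ◁ i) ≫ μ[G])).left := by
    rw [hgraph, Over.comp_left]; infer_instance
  -- transport to the chosen pullback
  have hgo' : IsOpenImmersion (lift (pullback.fst p p) (pullback.snd p p)).left := by
    have e : lift (pullback.fst p p) (pullback.snd p p) =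
        hkp.isoPullback.inv ≫ lift (fst G G0) ((G ◁ i) ≫ μ[G]) := by
      apply CartesianMonoidalCategory.hom_ext
      · rw [lift_fst, Category.assoc, lift_fst, IsPullback.isoPullback_inv_fst]
      · rw [lift_snd, Category.assoc, lift_snd, IsPullback.isoPullback_inv_snd]
    rw [e, Over.comp_left]
    haveI : IsIso hkp.isoPullback.inv.left :=
      inferInstanceAs (IsIso ((Over.forget _).map hkp.isoPullback.inv))
    infer_instance
  -- descend along p ⊗ p
  have hpp : Groth.Agent.Lib.Helper10.FppfQuot.Fppf (p ⊗ₘ p).left :=
    Groth.Agent.Lib.Helper10.FppfQuot.fppf_tensorHom p p hpf hpf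
  have sq := ((Groth.Agent.Lib.Helper10.QuotCov.isPullback_graph p).map (Over.forget _)).flip
  have hdiag : IsOpenImmersion ((Over.forget _).map (lift (𝟙 Q) (𝟙 Q))) :=
    MorphismProperty.of_isPullback_of_descendsAlong
      (P := @IsOpenImmersion) (Q := @Surjective ⊓ @Flat ⊓ @LocallyOfFinitePresentation)
      sq ⟨⟨hpp.1, hpp.2.1⟩, hpp.2.2⟩ hgo'
  haveI : IsOpenImmersion (pullback.diagonal Q.hom) := by
    rw [← Groth.Agent.Lib.Helper10.QuotCov.diag_left_eq]
    exact hdiag
  exact Etale.of_formallyUnramified_of_flat _

end Groth.Agent.S5353
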