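import Groth.Statements.S5371
import Mathlib
import Groth.Agent.Lib.Helper10.QuotCov2
import Groth.Agent.Lib.Helper10.QuotCov3
import Groth.Agent.Lib.Helper14.FppfDesc2
import Groth.Agent.Lib.Helper14.SmoothDesc1
import Groth.Agent.Lib.Helper14.EtDesc1
import Groth.Agent.Lib.Helper14.FppfLocalInst2

set_option autoImplicit false
universe u
open CategoryTheory CategoryTheory.Limits MonoidalCategory CartesianMonoidalCategory MonObj GrpObj AlgebraicGeometry
open SGA3

namespace Groth.Agent.S5371

/-- Let u : G' → G be a monomorphism of S-group schemes and p : G → G'' a morphism of S-schemes which is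
covering for the fpqc topology (some Z → G'' which is flat, surjective, with every affine open of
G'' the image of a quasi-compact open of Z, factors through p) and such that the square (g, h) ↦
g·u(h), first projection G ×_S G' → G, p, p is cartesian, so that G'' represents the fpqc quotient
sheaf G/G'. (xii) G' is flat and locally of finite presentation over S if and only if p is
surjective, flat and locally of finite presentation; in that case, if G is locally of finite
presentation (resp. locally of finite type, of finite type, smooth, etale, unramified, locally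
quasi-finite) over S, so is G''. (xiii) If G' is flat and of finite presentation over S then p is of
finite presentation, and G is of finite presentation over S if and only if G'' is. -/
theorem result (S : Scheme.{u}) (G G' G'' : Over S) [GrpObj G] [GrpObj G']
    (u : G' ⟶ G) [IsMonHom u] [Mono u] (p : G ⟶ G'')
    (hcov : (∃ (Z : Scheme.{u}) (q : Z ⟶ G''.left) (r : Z ⟶ G.left), r ≫ p.left = q ∧ Surjective q ∧ Flat q ∧
        ∀ V : G''.left.Opens, IsAffineOpen V → ∃ W : Z.Opens, IsCompact (W : Set Z) ∧ q.base '' (W : Set Z) = (V : Set G''.left)))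
    (hsq : IsPullback ((G ◁ u) ≫ μ[G]) (fst G G') p p) :
    ((Flat G'.hom ∧ LocallyOfFinitePresentation G'.hom) ↔
      (Surjective p.left ∧ Flat p.left ∧ LocallyOfFinitePresentation p.left)) ∧
    (Flat p.left → LocallyOfFinitePresentation p.left →
      (LocallyOfFinitePresentation G.hom → LocallyOfFinitePresentation G''.hom) ∧
      (LocallyOfFiniteType G.hom → LocallyOfFiniteType G''.hom) ∧
      (LocallyOfFiniteType G.hom → QuasiCompact G.hom → QuasiCompact G''.hom) ∧
      (Smooth G.hom → Smooth G''.hom) ∧ (Etale G.hom → Etale G''.hom) ∧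
      (FormallyUnramified G.hom → LocallyOfFinitePresentation G.hom → FormallyUnramified G''.hom) ∧
      (LocallyQuasiFinite G.hom → LocallyOfFiniteType G.hom → LocallyQuasiFinite G''.hom)) ∧
    (Flat G'.hom → LocallyOfFinitePresentation G'.hom → QuasiCompact G'.hom → QuasiSeparated G'.hom →
      QuasiCompact p.left ∧ QuasiSeparated p.left ∧ LocallyOfFinitePresentation p.left ∧
      ((LocallyOfFinitePresentation G.hom ∧ QuasiCompact G.hom ∧ QuasiSeparated G.hom) ↔
        (LocallyOfFinitePresentation G''.hom ∧ QuasiCompact G''.hom ∧ QuasiSeparated G''.hom))) := by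
  obtain ⟨Z, q, r, fac, hsurj, hflat, hqc⟩ := hcov
  haveI := hflat
  haveI := hsurj
  have hsq' : IsPullback (fst G G').left ((G ◁ u) ≫ μ[G]).left p.left p.left :=
    (hsq.map (Over.forget _)).flip
  have hker : IsPullback u.left (toUnit G').left p.left (η[G] ≫ p).left :=
    (Groth.Agent.Lib.Helper10.QuotCov.isPullback_kernel u p hsq).map (Over.forget _)
  have htu : (toUnit G').left = G'.hom := by
    rw [Over.toUnit_left]
  haveI hps : Surjective p.left := by
    refine ⟨fun y => ?_⟩
    obtain ⟨z, rfl⟩ := q.surjective y
    exact ⟨r z, by rw [← Scheme.Hom.comp_apply, fac]⟩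
  have hfst : ∀ (P : MorphismProperty Scheme.{u}) [P.IsStableUnderBaseChange],
      P G'.hom → P (fst G G').left := by
    intro P _ h
    rw [Over.fst_left]
    exact P.pullback_fst _ _ h
  -- descent from G' to p
  have hdesc : ∀ (P : MorphismProperty Scheme.{u}) [P.IsStableUnderBaseChange]
      [IsZariskiLocalAtTarget P]
      [P.DescendsAlong (@Surjective ⊓ @Flat ⊓ @QuasiCompact : MorphismProperty Scheme.{u})],
      P G'.hom → P p.left := by
    intro P _ _ _ h
    exact Groth.Agent.Lib.Helper10.QuotCov.descends_of_cover P hsq' q r fac hqc (hfst P h)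
  -- base change from p to G'
  have hbc : ∀ (P : MorphismProperty Scheme.{u}) [P.IsStableUnderBaseChange],
      P p.left → P G'.hom := by
    intro P _ h
    rw [← htu]
    exact MorphismProperty.of_isPullback (P := P) hker h
  have hflatiff := (Groth.Agent.Lib.Helper10.QuotCov.reduced_flat u p q r fac hsq).2.1
  refine ⟨⟨?_, ?_⟩, ?_, ?_⟩
  · rintro ⟨h1, h2⟩
    exact ⟨hps, hflatiff.mp h1, hdesc @LocallyOfFinitePresentation h2⟩
  · rintro ⟨-, h2, h3⟩
    exact ⟨hflatiff.mpr h2, hbc @LocallyOfFinitePresentation h3⟩
  · intro hpf hpfp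
    haveI := hpf
    haveI := hpfp
    refine ⟨?_, ?_, ?_, ?_, ?_, ?_, ?_⟩
    · intro h
      haveI : LocallyOfFinitePresentation (p.left ≫ G''.hom) := by rw [Over.w]; exact h
      exact Groth.Agent.Lib.Helper14.AS.lfp_of_fppf_comp p.left G''.hom
    · intro h
      haveI : LocallyOfFiniteType (p.left ≫ G''.hom) := by rw [Over.w]; exact h
      exact Groth.Agent.Lib.Helper14.AS.lft_of_fppf_comp p.left G''.hom
    · intro _ h
      haveI : QuasiCompact (p.left ≫ G''.hom) := by rw [Over.w]; exact h
      exact Groth.Agent.Lib.Helper14.AS.quasiCompact_of_surjective_comp p.left G''.hom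
    · intro h
      haveI : Smooth (p.left ≫ G''.hom) := by rw [Over.w]; exact h
      exact Groth.Agent.Lib.Helper14.AS.smooth_of_fppf_comp p.left G''.hom
    · intro h
      haveI : Etale (p.left ≫ G''.hom) := by rw [Over.w]; exact h
      exact Groth.Agent.Lib.Helper14.AS.etale_of_fppf_comp p.left G''.hom
    · intro h h'
      haveI : FormallyUnramified (p.left ≫ G''.hom) := by rw [Over.w]; exact h
      haveI : LocallyOfFiniteType (p.left ≫ G''.hom) := by rw [Over.w]; infer_instance
      exact Groth.Agent.Lib.Helper10.QuotCov.formallyUnramified_of_fppf_comp p.left G''.hom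
    · intro h h'
      haveI : LocallyQuasiFinite (p.left ≫ G''.hom) := by rw [Over.w]; exact h
      haveI : LocallyOfFiniteType (p.left ≫ G''.hom) := by rw [Over.w]; exact h'
      exact Groth.Agent.Lib.Helper10.QuotCov.locallyQuasiFinite_of_fppf_comp p.left G''.hom
  · intro h1 h2 h3 h4
    haveI hpflat : Flat p.left := hflatiff.mp h1
    haveI hplfp : LocallyOfFinitePresentation p.left := hdesc @LocallyOfFinitePresentation h2
    haveI hpqc : QuasiCompact p.left := hdesc @QuasiCompact h3
    haveI hpqs : QuasiSeparated p.left := hdesc @QuasiSeparated h4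
    refine ⟨hpqc, hpqs, hplfp, ⟨?_, ?_⟩⟩
    · rintro ⟨g1, g2, g3⟩
      haveI : LocallyOfFinitePresentation (p.left ≫ G''.hom) := by rw [Over.w]; exact g1
      haveI : QuasiCompact (p.left ≫ G''.hom) := by rw [Over.w]; exact g2
      haveI : QuasiSeparated (p.left ≫ G''.hom) := by rw [Over.w]; exact g3
      exact ⟨Groth.Agent.Lib.Helper14.AS.lfp_of_fppf_comp p.left G''.hom,
        Groth.Agent.Lib.Helper14.AS.quasiCompact_of_surjective_comp p.left G''.hom,
        Groth.Agent.Lib.Helper14.AS.quasiSeparated_of_surjective_comp p.left G''.hom⟩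
    · rintro ⟨g1, g2, g3⟩
      haveI := g1
      haveI := g2
      haveI := g3
      rw [← Over.w p]
      exact ⟨inferInstance, inferInstance, inferInstance⟩

end Groth.Agent.S5371
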