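import Groth.Statements.S5375
import Mathlib
import Groth.Agent.Lib.Helper7.CoeffSpace
import Groth.Agent.Lib.Helper7.HopfAntipode

set_option autoImplicit false
universe u
open CategoryTheory CategoryTheory.Limits MonoidalCategory CartesianMonoidalCategory MonObj GrpObj AlgebraicGeometry
open SGA3

namespace Groth.Agent.S5375

open Groth.Agent.Lib.Helper7.Comod Groth.Agent.Lib.Helper7.HopfConv HopfRep TensorProduct WithConv in
/-- `S ∘ S = id` for a commutative Hopf algebra. -/
theorem antipode_antipode' (k : Type u) [Field k] (A : Type u) [CommRing A] [HopfAlgebra k A]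
    (a : A) : HopfAlgebra.antipode k (HopfAlgebra.antipode k a) = a := by
  have h1 : (toConv (AlgHom.id k A))⁻¹ = toConv (HopfAlgebra.antipodeAlgHom k A) := rfl
  have h2 : (toConv (HopfAlgebra.antipodeAlgHom k A))⁻¹ =
      toConv ((HopfAlgebra.antipodeAlgHom k A).comp (HopfAlgebra.antipodeAlgHom k A)) := rfl
  have h3 : toConv ((HopfAlgebra.antipodeAlgHom k A).comp (HopfAlgebra.antipodeAlgHom k A)) =
      toConv (AlgHom.id k A) := by
    rw [← h2, ← h1, _root_.inv_inv]
  have h4 := congrArg (fun f : WithConv (A →ₐ[k] A) => f.ofConv a) h3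
  simpa using h4

open Groth.Agent.Lib.Helper7.Comod Groth.Agent.Lib.Helper7.HopfConv HopfRep TensorProduct in
theorem isSubcoalg_map_antipode (k : Type u) [Field k] (A : Type u) [CommRing A] [HopfAlgebra k A]
    (U : Submodule k A) (hU : IsSubcoalg U) : IsSubcoalg (U.map (HopfAlgebra.antipode k)) := by
  rintro _ ⟨u, hu, rfl⟩
  obtain ⟨z, hz⟩ := hU u hu
  rw [comul_antipode, ← hz]
  let SU : U →ₗ[k] (U.map (HopfAlgebra.antipode k (A := A))) :=
    (HopfAlgebra.antipode k (A := A)).restrict (p := U) (q := U.map (HopfAlgebra.antipode k))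
      (fun x hx => ⟨x, hx, rfl⟩)
  refine ⟨TensorProduct.map SU SU (TensorProduct.comm k U U z), ?_⟩
  clear hz
  induction z using TensorProduct.induction_on with
  | zero => simp
  | tmul b c => simp [SU]
  | add y z hy hz => simp only [map_add, hy, hz]

open Groth.Agent.Lib.Helper7.Comod Groth.Agent.Lib.Helper7.HopfConv HopfRep TensorProduct in
theorem isSubcoalg_sup (k : Type u) [Field k] (A : Type u) [CommRing A] [HopfAlgebra k A]
    (U V : Submodule k A) (hU : IsSubcoalg U) (hV : IsSubcoalg V) : IsSubcoalg (U ⊔ V) := by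
  have : U ⊔ V = ⨆ b : Bool, (if b then U else V) := by
    rw [iSup_bool_eq]; simp
  rw [this]
  apply isSubcoalg_iSup
  intro b
  cases b <;> simpa


/-- Let A be a commutative Hopf algebra over a field k (an affine k-group, not necessarily of finite
type) and x an element of A. Then there is a subalgebra B of A of finite type over k containing x
which is a sub-Hopf-algebra: the comultiplication sends B into B ⊗ B and the antipode preserves B. -/
theorem result (k : Type u) [Field k] (A : Type u) [CommRing A] [HopfAlgebra k A] (x : A) :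
    ∃ B : Subalgebra k A, x ∈ B ∧ B.FG ∧ SGA3.IsHopfSubalgebra k A B := by
  classical
  -- finite-dimensional subcomodule containing x
  obtain ⟨W, hWfin, hxW, hW⟩ :=
    Groth.Agent.Lib.Helper7.Comod.exists_finite_subcomod_mem (k := k) (C := A) (V := A) x
  letI cW : HopfRep.Comod k A W := ComodSub.Comod.restr (HopfRep.Comod.regular k A) W hW
  let U : Submodule k A := Groth.Agent.Lib.Helper7.Comod.coeffSpace k A W
  have hUfin : Module.Finite k U := Groth.Agent.Lib.Helper7.Comod.finite_coeffSpace
  have hUsub : Groth.Agent.Lib.Helper7.Comod.IsSubcoalg U :=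
    Groth.Agent.Lib.Helper7.Comod.isSubcoalg_coeffSpace
  have hxU : x ∈ U := by
    have := Groth.Agent.Lib.Helper7.Comod.apply_mem_coeffSpace_of_isComodHom (k := k) (C := A)
      (V := W) (f := W.subtype)
      (ComodSub.isComodHom_subtype (HopfRep.Comod.regular k A) W hW) ⟨x, hxW⟩
    exact this
  -- add the antipode image
  let U' : Submodule k A := U ⊔ U.map (HopfAlgebra.antipode k)
  have hU'sub : Groth.Agent.Lib.Helper7.Comod.IsSubcoalg U' :=
    isSubcoalg_sup k A _ _ hUsub (isSubcoalg_map_antipode k A U hUsub)
  have hU'S : U'.map (HopfAlgebra.antipode k) ≤ U' := by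
    rw [Submodule.map_sup]
    apply sup_le
    · exact le_sup_right
    · rintro _ ⟨_, ⟨u, hu, rfl⟩, rfl⟩
      rw [antipode_antipode']
      exact Submodule.mem_sup_left hu
  have hU'fg : U'.FG := by
    apply Submodule.FG.sup
    · exact Module.Finite.iff_fg.1 hUfin
    · exact (Module.Finite.iff_fg.1 hUfin).map _
  let B : Subalgebra k A := Algebra.adjoin k (U' : Set A)
  have hU'B : ∀ u ∈ U', u ∈ B := fun u hu => Algebra.subset_adjoin hu
  refine ⟨B, hU'B x (Submodule.mem_sup_left hxU), ?_, ?_, ?_⟩
  · obtain ⟨s, hs⟩ := hU'fg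
    have : B = Algebra.adjoin k (s : Set A) := by
      change Algebra.adjoin k (U' : Set A) = _
      rw [← hs, Algebra.adjoin_span]
    rw [this]
    exact Subalgebra.fg_adjoin_finset s
  · -- comultiplication
    let R : Subalgebra k (TensorProduct k A A) := (Algebra.TensorProduct.map B.val B.val).range
    have hle : B ≤ R.comap (Bialgebra.comulAlgHom k A) := by
      apply Algebra.adjoin_le
      intro u hu
      obtain ⟨z, hz⟩ := hU'sub u hu
      change Bialgebra.comulAlgHom k A u ∈ R
      rw [Bialgebra.comulAlgHom_apply, ← hz]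
      let j : U' →ₗ[k] B := (LinearMap.id (R := k) (M := A)).restrict (p := U') (q := Subalgebra.toSubmodule B)
        (fun a ha => hU'B a ha)
      refine ⟨TensorProduct.map j j z, ?_⟩
      clear hz
      induction z using TensorProduct.induction_on with
      | zero => simp
      | tmul b c => simp [j]; rfl
      | add y z hy hz => simp only [map_add, hy, hz]
    intro b hb
    obtain ⟨z, hz⟩ := hle hb
    refine ⟨z, ?_⟩
    exact hz
  · have hle : B ≤ B.comap (HopfAlgebra.antipodeAlgHom k A) := by
      apply Algebra.adjoin_le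
      intro u hu
      exact hU'B _ (hU'S ⟨u, hu, rfl⟩)
    intro b hb
    exact hle hb

end Groth.Agent.S5375
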