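import Groth.Statements.S5376
import Groth.Agent.Lib.Helper7.ComodAct
import Groth.Agent.Lib.Helper7.GITBasic


set_option autoImplicit false
universe u
open CategoryTheory CategoryTheory.Limits MonoidalCategory CartesianMonoidalCategory MonObj GrpObj AlgebraicGeometry
open SGA3

namespace Groth.Agent.S5376

/-- Let k be an algebraically closed field, A a finitely generated commutative Hopf algebra over k which
is reduced (a reduced affine algebraic k-group G), V a finite-dimensional A-comodule and v a vector
of V. Let E be the k-subspace of V spanned by the vectors g·v for g running over the k-points of G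
(algebra maps A → k). Then E is a subcomodule of V containing v, and it is the smallest one. -/
theorem result (k : Type u) [Field k] [IsAlgClosed k] (A : Type u) [CommRing A] [HopfAlgebra k A]
    [Algebra.FiniteType k A] [IsReduced A] (V : Type u) [AddCommGroup V] [Module k V] [HopfRep.Comod k A V]
    [Module.Finite k V] (v : V) :
    letI E : Submodule k V := Submodule.span k (Set.range fun g : A →ₐ[k] k => HopfRep.Comod.act k A V g v)
    HopfRep.IsSubcomod (k := k) (A := A) E ∧ v ∈ E ∧
      ∀ W : Submodule k V, HopfRep.IsSubcomod (k := k) (A := A) W → v ∈ W → E ≤ W := by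
  set E : Submodule k V :=
    Submodule.span k (Set.range fun g : A →ₐ[k] k => HopfRep.Comod.act k A V g v) with hE
  have hS : ∀ a : A, (∀ g ∈ (Set.univ : Set (A →ₐ[k] k)), g a = 0) → a = 0 := by
    intro a ha
    have hn := Groth.Agent.Lib.Helper7.Comod.isNilpotent_of_forall_algHom_eq_zero (k := k) a
      (fun g => ha g (Set.mem_univ g))
    exact hn.eq_zero
  refine ⟨?_, ?_, ?_⟩
  · rw [Groth.Agent.Lib.Helper7.Comod.isSubcomod_iff_forall_act_le Set.univ hS]
    intro g _
    rw [Submodule.map_le_iff_le_comap, hE, Submodule.span_le]
    rintro _ ⟨h, rfl⟩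
    change HopfRep.Comod.act k A V g (HopfRep.Comod.act k A V h v) ∈ E
    have := Groth.Agent.Lib.Helper7.Comod.act_convMul (V := V) (WithConv.toConv g) (WithConv.toConv h)
    have h2 : HopfRep.Comod.act k A V g (HopfRep.Comod.act k A V h v) =
        HopfRep.Comod.act k A V (WithConv.toConv g * WithConv.toConv h).ofConv v := by
      rw [this]
      rfl
    rw [h2]
    exact Submodule.subset_span ⟨_, rfl⟩
  · have h1 := Groth.Agent.Lib.Helper7.Comod.act_convOne (k := k) (A := A) (V := V)
    have h2 : HopfRep.Comod.act k A V (WithConv.ofConv (1 : WithConv (A →ₐ[k] k))) v = v := by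
      rw [h1]
      rfl
    have : v ∈ Set.range fun g : A →ₐ[k] k => HopfRep.Comod.act k A V g v := ⟨_, h2⟩
    exact Submodule.subset_span this
  · intro W hW hv
    rw [hE, Submodule.span_le]
    rintro _ ⟨g, rfl⟩
    have := (Groth.Agent.Lib.Helper7.Comod.isSubcomod_iff_forall_act_le Set.univ hS W).1 hW g
      (Set.mem_univ g)
    exact this ⟨v, hv, rfl⟩

end Groth.Agent.S5376
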