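import Groth.Statements.S5380
import Groth.Agent.Lib.Helper9.FlatFibre

set_option autoImplicit false
universe u
open CategoryTheory CategoryTheory.Limits MonoidalCategory CartesianMonoidalCategory MonObj GrpObj AlgebraicGeometry
open SGA3

namespace Groth.Agent.S5380

/-- Let R be a discrete valuation ring with uniformizer π, A a flat commutative R-algebra and M an
A-module which is flat over R. Suppose that M/πM is a flat module over A/πA and that M ⊗_R K is a
flat module over A ⊗_R K, K the fraction field of R (equivalently, M[1/π] is flat over A[1/π], the
form used here). Then M is a flat A-module. -/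
theorem result (R : Type u) [CommRing R] [IsDomain R] [IsDiscreteValuationRing R]
    (π : R) (hπ : Irreducible π) (A : Type u) [CommRing A] [Algebra R A] [Module.Flat R A]
    (M : Type u) [AddCommGroup M] [Module A M] [Module R M] [IsScalarTower R A M] [Module.Flat R M]
    (h1 : Module.Flat (A ⧸ Ideal.span {algebraMap R A π}) (M ⧸ (Ideal.span {algebraMap R A π} • (⊤ : Submodule A M))))
    (h2 : Module.Flat (Localization.Away (algebraMap R A π)) (LocalizedModule (Submonoid.powers (algebraMap R A π)) M)) :
    Module.Flat A M := by
  have hπ0 : π ∈ nonZeroDivisors R := mem_nonZeroDivisors_of_ne_zero hπ.ne_zero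
  have hA : IsSMulRegular A π := Module.Flat.isSMulRegular_of_nonZeroDivisors hπ0
  have hM : IsSMulRegular M π := Module.Flat.isSMulRegular_of_nonZeroDivisors hπ0
  apply Groth.Agent.Lib.Helper9.FlatFibre.flat_of_flat_quot_of_flat_away (algebraMap R A π) M
    _ _ h1 h2
  · intro b hb
    apply hA
    show π • b = π • (0 : A)
    rw [smul_zero, Algebra.smul_def]
    exact hb
  · intro m hm
    apply hM
    show π • m = π • (0 : M)
    rw [smul_zero, ← algebraMap_smul A π m]
    exact hm

end Groth.Agent.S5380
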