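import Groth.Statements.S5381
import Mathlib

set_option autoImplicit false
universe u
open CategoryTheory CategoryTheory.Limits MonoidalCategory CartesianMonoidalCategory MonObj GrpObj AlgebraicGeometry
open SGA3

namespace Groth.Agent.S5381

/-- For S the spectrum of a Dedekind domain R: let X be a scheme which is flat, quasi-compact and
quasi-separated over R. Then the ring of global sections Γ(X, O_X) is a flat R-module. (The
published remark takes S locally noetherian and regular of dimension 1 and also observes, when S is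
local with closed point s and uniformizer π, that Γ(X, O_X)/πΓ(X, O_X) → Γ(X_s, O_{X_s}) is
injective; this row takes S the spectrum of a Dedekind domain and omits the injectivity.) -/
theorem result (R : Type u) [CommRing R] [IsDedekindDomain R]
    (X : Scheme.{u}) (f : X ⟶ Spec (CommRingCat.of R)) [Flat f] [QuasiCompact f] [QuasiSeparated f] :
    letI := ((Scheme.ΓSpecIso (CommRingCat.of R)).inv ≫ f.appTop).hom.toAlgebra
    Module.Flat R Γ(X, ⊤) := by
  letI alg : Algebra R Γ(X, ⊤) := ((Scheme.ΓSpecIso (CommRingCat.of R)).inv ≫ f.appTop).hom.toAlgebra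
  change Module.Flat R Γ(X, ⊤)
  rw [IsDedekindDomain.flat_iff_torsion_eq_bot, Submodule.eq_bot_iff]
  intro s hs
  rw [Submodule.mem_torsion_iff] at hs
  obtain ⟨a, ha⟩ := hs
  -- work locally on affine opens
  refine TopCat.Sheaf.eq_of_locally_eq' X.sheaf (fun U : X.affineOpens => (U : X.Opens)) ⊤
    (fun U => homOfLE le_top) ?_ s 0 ?_
  · rw [AlgebraicGeometry.iSup_affineOpens_eq_top]
  · intro U
    change X.presheaf.map (homOfLE (le_top : (U : X.Opens) ≤ ⊤)).op s =
      X.presheaf.map (homOfLE (le_top : (U : X.Opens) ≤ ⊤)).op 0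
    rw [map_zero]
    -- the ring hom R → Γ(X, U)
    let φ : R →+* Γ(X, (U : X.Opens)) :=
      ((Scheme.ΓSpecIso (CommRingCat.of R)).inv ≫ f.appLE ⊤ U (by simp)).hom
    have hφ : φ.Flat := by
      have h1 : (f.appLE ⊤ U (by simp)).hom.Flat :=
        HasRingHomProperty.appLE (P := @Flat) f inferInstance ⟨⊤, isAffineOpen_top _⟩ U (by simp)
      have h2 : ((Scheme.ΓSpecIso (CommRingCat.of R)).inv).hom.Flat :=
        RingHom.Flat.of_bijective
          (ConcreteCategory.bijective_of_isIso (Scheme.ΓSpecIso (CommRingCat.of R)).inv)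
      exact RingHom.Flat.comp h2 h1
    letI algU : Algebra R Γ(X, (U : X.Opens)) := φ.toAlgebra
    haveI : Module.Flat R Γ(X, (U : X.Opens)) := hφ
    have htors := Module.Flat.torsion_eq_bot (R := R) (M := Γ(X, (U : X.Opens)))
    set sU : Γ(X, (U : X.Opens)) := X.presheaf.map (homOfLE (le_top : (U : X.Opens) ≤ ⊤)).op s with hsU
    have hmem : sU ∈ Submodule.torsion R Γ(X, (U : X.Opens)) := by
      rw [Submodule.mem_torsion_iff]
      refine ⟨a, ?_⟩
      have h3 : (a : R) • sU = φ a * sU := rfl
      have h4 : (a : R) • s = ((Scheme.ΓSpecIso (CommRingCat.of R)).inv ≫ f.appTop).hom a * s := rfl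
      have h5 : φ a = X.presheaf.map (homOfLE (le_top : (U : X.Opens) ≤ ⊤)).op
          (((Scheme.ΓSpecIso (CommRingCat.of R)).inv ≫ f.appTop).hom a) := by
        simp only [φ, Scheme.Hom.appLE, Scheme.Hom.appTop]
        rfl
      change (a : R) • sU = 0
      rw [h3, h5, hsU, ← map_mul]
      have : ((Scheme.ΓSpecIso (CommRingCat.of R)).inv ≫ f.appTop).hom a * s = 0 := by
        rw [← h4]; exact ha
      rw [this, map_zero]
    rw [htors] at hmem
    exact (Submodule.mem_bot R).mp hmem

end Groth.Agent.S5381
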