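import Groth.Statements.S5384
import Groth.Agent.Lib.Helper10.HomSp6

set_option autoImplicit false
universe u
open CategoryTheory CategoryTheory.Limits MonoidalCategory CartesianMonoidalCategory MonObj GrpObj AlgebraicGeometry
open SGA3

namespace Groth.Agent.S5384

open scoped CategoryTheory.Obj in
open Groth.Agent.Lib.Helper10.HomSp in
theorem isClosed_range_artin (A : Type u) [CommRing A] [IsArtinianRing A] [IsLocalRing A]
    (G H : Over (Spec (CommRingCat.of A))) [GrpObj G] [GrpObj H]
    (u : H ⟶ G) [IsMonHom u] (hlc : IsLocallyClosed (Set.range u.left)) :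
    IsClosed (Set.range u.left) := by
  have h1 : Set.range ((Over.pullback (resMap A)).map u).left =
      (fibreHomeo A G) ⁻¹' Set.range u.left := by
    ext w
    constructor
    · rintro ⟨v, rfl⟩
      exact ⟨fibreHomeo A H v, (fibreHomeo_map A u v).symm⟩
    · rintro ⟨y, hy⟩
      obtain ⟨v, rfl⟩ := (fibreHomeo A H).surjective y
      refine ⟨v, (fibreHomeo A G).injective ?_⟩
      rw [fibreHomeo_map, hy]
  have h2 : IsLocallyClosed (Set.range ((Over.pullback (resMap A)).map u).left) := by
    rw [h1]
    exact hlc.preimage (fibreHomeo A G).continuous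
  have h3 := Groth.Agent.Lib.Helper10.GrpTranslate.isClosed_range_of_isLocallyClosed
    ((Over.pullback (resMap A)).map u) h2
  rw [h1] at h3
  have h4 := (fibreHomeo A G).isClosedMap _ h3
  rwa [Set.image_preimage_eq _ (fibreHomeo A G).surjective] at h4

/-- Let A be a local artinian ring, G an A-group scheme and u : H → G a homomorphism of A-group schemes
which is an immersion (a subgroup scheme; no finiteness is assumed). Then u is a closed immersion. -/
theorem result (A : Type u) [CommRing A] [IsArtinianRing A] [IsLocalRing A] (G H : Over (Spec (CommRingCat.of A))) [GrpObj G] [GrpObj H]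
    (u : H ⟶ G) [IsMonHom u] [IsImmersion u.left] : IsClosedImmersion u.left := by
  have hlc : IsLocallyClosed (Set.range u.left) := IsImmersion.isLocallyClosed_range (f := u.left)
  exact IsClosedImmersion.of_isPreimmersion u.left (isClosed_range_artin A G H u hlc)

end Groth.Agent.S5384
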