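import Groth.Statements.S5387
import Mathlib

set_option autoImplicit false
universe u
open CategoryTheory CategoryTheory.Limits MonoidalCategory CartesianMonoidalCategory MonObj GrpObj AlgebraicGeometry
open SGA3

namespace Groth.Agent.S5387

/-- Let k be an algebraically closed field, G a group scheme locally of finite type over k and x a
closed point of G. Then the local ring of G at x is isomorphic to the local ring of G at the unit
point (an isomorphism is induced by a translation; this row asserts the existence of an isomorphism
of rings). -/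
theorem result (k : Type u) [Field k] [IsAlgClosed k] (G : Over (Spec (CommRingCat.of k))) [GrpObj G]
    [LocallyOfFiniteType G.hom] (pt : ↥(𝟙_ (Over (Spec (CommRingCat.of k)))).left) (x : G.left) (hx : IsClosed ({x} : Set G.left)) :
    Nonempty (G.left.presheaf.stalk (η[G].left.base pt) ≅ G.left.presheaf.stalk x) := by
  let p : Spec (CommRingCat.of k) ⟶ G.left := pointOfClosedPoint G.hom x hx
  have hp : p ≫ G.hom = 𝟙 _ := pointOfClosedPoint_comp G.hom x hx
  let x' : 𝟙_ (Over (Spec (CommRingCat.of k))) ⟶ G := Over.homMk p hp
  let α : G ≅ G := GrpObj.mulRight x'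
  have h1 : η[G] ≫ α.hom = x' := by
    change η[G] ≫ lift (𝟙 G) (toUnit G ≫ x') ≫ μ[G] = x'
    rw [← Category.assoc, comp_lift, Category.comp_id, ← Category.assoc,
      toUnit_unique (η[G] ≫ toUnit G) (𝟙 _), Category.id_comp, ← Hom.mul_def]
    have h0 : (1 : 𝟙_ (Over (Spec (CommRingCat.of k))) ⟶ G) = η[G] := by
      rw [Hom.one_def, toUnit_unique (toUnit _) (𝟙 _), Category.id_comp]
    rw [← h0]
    exact _root_.one_mul x'
  have h2 : α.hom.left (η[G].left pt) = x := by
    have := congrArg (fun ψ => ψ.left pt) h1
    simp only [Over.comp_left, Scheme.Hom.comp_apply] at this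
    rw [this]
    exact pointOfClosedPoint_apply G.hom x hx pt
  haveI : IsIso α.hom.left := inferInstanceAs (IsIso ((Over.forget _).map α.hom))
  exact ⟨(asIso (α.hom.left.stalkMap (η[G].left pt))).symm ≪≫
    G.left.presheaf.stalkCongr (Inseparable.of_eq h2)⟩

end Groth.Agent.S5387
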