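import Groth.Statements.S5391
import Mathlib
import Groth.Agent.Lib.Helper6.QSec5
import Groth.Agent.Lib.Helper21.OpenAt4
import Groth.Agent.Lib.Helper21.FibDim11
-- import your own Groth.Agent.* helpers here

set_option autoImplicit false
universe u
open CategoryTheory CategoryTheory.Limits MonoidalCategory CartesianMonoidalCategory MonObj GrpObj AlgebraicGeometry
open SGA3

namespace Groth.Agent.S5391

/-- Let f : X → S be a morphism locally of finite presentation, s a point of S and x a point of the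
fibre X_s = f⁻¹(s) which is closed in it. Suppose f is universally open at the generic point z of
some irreducible component Z of the fibre X_s containing x, with the local dimension of X_s at x
equal to dim Z. Then there are an affine scheme S', an etale morphism w : S' → S, a finite
surjective morphism of finite presentation π : S'' → S', and a morphism h : S'' → X with h f = π w,
such that exactly one point s'' of S'' lies over s, h(s'') = x, and h induces an isomorphism κ(x) ≅
κ(s''). -/
theorem result (X S : Scheme.{u}) (f : X ⟶ S) [LocallyOfFinitePresentation f]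
    (s : S) (x : X) (hxs : f.base x = s) (hx : IsClosed ((Subtype.val : ↥(f.base ⁻¹' {s}) → X) ⁻¹' {x}))
    (Z : Set ↥(f.base ⁻¹' {s})) (hZ : Z ∈ irreducibleComponents ↥(f.base ⁻¹' {s})) (hxZ : x ∈ (Subtype.val '' Z))
    (z : X) (hz : z ∈ Subtype.val '' Z ∧ Subtype.val '' Z ⊆ closure {z}) (hopen : EGA43.IsUnivOpenAt f z)
    (hdim : FlatMor.localDim ↥(f.base ⁻¹' {s}) ⟨x, hxs⟩ = topologicalKrullDim ↥Z) :
    ∃ (S' S'' : Scheme.{u}) (_ : IsAffine S') (w : S' ⟶ S) (π : S'' ⟶ S') (h : S'' ⟶ X),
      Etale w ∧ IsFinite π ∧ Surjective π ∧ LocallyOfFinitePresentation π ∧ h ≫ f = π ≫ w ∧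
      ∃ s'' : S'', (π ≫ w).base ⁻¹' {s} = {s''} ∧ h.base s'' = x ∧ IsIso (h.residueFieldMap s'') := by
  subst hxs
  obtain ⟨⟨ξ, hξZ, hξx⟩, ⟨ζ, hζZ, hζz⟩, hZcl⟩ := And.intro hxZ hz
  have hZirr : IsIrreducible Z := hZ.1
  have hZclosed : IsClosed Z := isClosed_of_mem_irreducibleComponents Z hZ
  -- pointwise forms
  have hxcl : ∀ t : X, f t = f x → x ⤳ t → t = x := by
    intro t hft hxt
    have h1 : (⟨x, rfl⟩ : ↥(f.base ⁻¹' {f.base x})) ⤳ ⟨t, hft⟩ :=
      (subtype_specializes_iff _ _).mpr hxt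
    have h2 := h1.mem_closed hx rfl
    exact h2
  have hzx : z ⤳ x := specializes_iff_mem_closure.mpr (hZcl hxZ)
  have hfz : f z = f x := by
    rw [← hζz]; exact ζ.2
  have hζeq : ζ = ⟨z, hfz⟩ := Subtype.ext hζz
  -- Z = closure {ζ}
  have hZeq : Z = closure {ζ} := by
    apply Set.Subset.antisymm
    · intro y hy
      have h1 : z ⤳ y.1 := specializes_iff_mem_closure.mpr (hZcl ⟨y, hy, rfl⟩)
      have h2 : ζ ⤳ y := by
        rw [hζeq]
        exact (subtype_specializes_iff _ _).mpr h1
      exact h2.mem_closure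
    · exact closure_minimal (Set.singleton_subset_iff.mpr hζZ) hZclosed
  have hzmax : ∀ τ : X, τ ⤳ z → f τ = f z → τ = z := by
    intro τ hτz hfτ
    let τ' : ↥(f.base ⁻¹' {f.base x}) := ⟨τ, hfτ.trans hfz⟩
    have h1 : τ' ⤳ ζ := by
      rw [hζeq]
      exact (subtype_specializes_iff _ _).mpr hτz
    have hirr : IsIrreducible (closure {τ'}) := isIrreducible_singleton.closure
    have hsub : Z ⊆ closure {τ'} := by
      rw [hZeq]
      exact closure_minimal (Set.singleton_subset_iff.mpr h1.mem_closure) isClosed_closure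
    have hsub' : closure {τ'} ⊆ Z := hZ.2 hirr hsub
    have hτZ : τ' ∈ Z := hsub' (subset_closure rfl)
    have h2 : z ⤳ τ := specializes_iff_mem_closure.mpr (hZcl ⟨τ', hτZ, rfl⟩)
    exact (hτz.antisymm h2).eq
  obtain ⟨N, hN⟩ := Groth.Agent.Lib.Helper21.FibDim.exists_nat_trdeg_residueFieldMap f z
  -- dim Z = N
  have himg : (Subtype.val '' Z : Set X) = closure {z} ∩ f.base ⁻¹' {f z} := by
    apply Set.Subset.antisymm
    · rintro _ ⟨y, hy, rfl⟩
      refine ⟨hZcl ⟨y, hy, rfl⟩, ?_⟩
      change f y.1 = f z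
      rw [hfz]; exact y.2
    · rintro y ⟨hy1, hy2⟩
      have hy2' : f y = f x := by
        have : f y = f z := hy2
        rw [this, hfz]
      refine ⟨⟨y, hy2'⟩, ?_, rfl⟩
      rw [hZeq, hζeq]
      have h1 : z ⤳ y := specializes_iff_mem_closure.mpr hy1
      have h2 : (⟨z, hfz⟩ : ↥(f.base ⁻¹' {f.base x})) ⤳ ⟨y, hy2'⟩ :=
        (subtype_specializes_iff _ _).mpr h1
      exact h2.mem_closure
  have hdimZ : topologicalKrullDim ↥Z = N := by
    have e1 := (Topology.IsEmbedding.subtypeVal.homeomorphImage Z).isHomeomorph.topologicalKrullDim_eq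
    rw [e1, himg]
    exact Groth.Agent.Lib.Helper21.OpenAt.topologicalKrullDim_closure_inter_fiber f z N hN
  have hFN : FlatMor.fibreDimAt f x = N := by
    rw [Groth.Agent.Lib.Helper21.EquiSub.fibreDimAt_eq_localDim_preimage, hdim, hdimZ]
  obtain ⟨X', i, x', hi, rfl, hlfp, hlqf, hop'⟩ :=
    Groth.Agent.Lib.Helper6.QSec.exists_quasiSection f x z hxcl hzx hfz hzmax N hN hFN hopen
  exact Groth.Agent.Lib.Helper6.QSec.etale_localization f i x' hop'

end Groth.Agent.S5391
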