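import Groth.Statements.S5395
import Groth.Agent.Lib.Helper10.IndCons1
import Groth.Agent.Lib.Helper10.FlatPt2
import Groth.Agent.Lib.Helper10.PreLocus

set_option autoImplicit false
universe u
open CategoryTheory CategoryTheory.Limits MonoidalCategory CartesianMonoidalCategory MonObj GrpObj AlgebraicGeometry
open SGA3

namespace Groth.Agent.S5395

/-- Let k be an algebraically closed field, G a group scheme locally of finite type over k, and A, B two
ind-constructible subsets of G. Let A·B be the image under the multiplication of the set of points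
of G ×_k G whose two projections lie in A and B. Then every closed point z of G lying in A·B is the
product of a closed point of G ×_k G whose two projections lie in A and B (and are then closed
points): the rational points of A·B are the products of rational points of A and of B. -/
theorem result (k : Type u) [Field k] [IsAlgClosed k] (G : Over (Spec (CommRingCat.of k))) [GrpObj G]
    [LocallyOfFiniteType G.hom] (A B : Set G.left) (hA : ProCons.IsIndConstructible A) (hB : ProCons.IsIndConstructible B)
    (z : G.left) (hz : IsClosed ({z} : Set G.left))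
    (hzAB : z ∈ μ[G].left.base '' {w : ↥(G ⊗ G).left | (fst G G).left.base w ∈ A ∧ (snd G G).left.base w ∈ B}) :
    ∃ w : ↥(G ⊗ G).left, IsClosed ({w} : Set ↥(G ⊗ G).left) ∧ (fst G G).left.base w ∈ A ∧ (snd G G).left.base w ∈ B ∧
      μ[G].left.base w = z := by
  obtain ⟨w₀, ⟨hw₀A, hw₀B⟩, hw₀z⟩ := hzAB
  have hJ := LocallyOfFiniteType.jacobsonSpace G.hom
  obtain ⟨pt⟩ : Nonempty ↥(𝟙_ (Over (Spec (CommRingCat.of k)))).left :=
    inferInstanceAs (Nonempty (PrimeSpectrum k))
  -- the rational point attached to `z`
  let pz : Spec (CommRingCat.of k) ⟶ G.left := pointOfClosedPoint G.hom z hz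
  have hpz : pz ≫ G.hom = 𝟙 _ := pointOfClosedPoint_comp G.hom z hz
  let z' : 𝟙_ (Over (Spec (CommRingCat.of k))) ⟶ G := Over.homMk pz hpz
  have hz' : ∀ t, z'.left t = z := fun t => pointOfClosedPoint_apply G.hom z hz t
  -- the parametrization of the fibre of the multiplication over `z`
  let θ : G ⟶ G ⊗ G := lift (𝟙 G) (ι[G] * (toUnit G ≫ z'))
  have hθ1 : θ ≫ fst G G = 𝟙 G := lift_fst _ _
  have hιinv : ι[G] = (𝟙 G)⁻¹ := by rw [Hom.inv_def, Category.id_comp]
  have hθμ : θ ≫ μ[G] = toUnit G ≫ z' := by
    rw [Groth.Agent.Lib.Helper10.FlatPt.lift_comp_mul, hιinv, mul_inv_cancel_left]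
  have sq : IsPullback θ (toUnit G) μ[G] z' := by
    refine Groth.Agent.Lib.Helper10.HomSp.isPullback_of_lift _ _ _ _ hθμ
      (fun {W} α _ _ => α ≫ fst G G) ?_ ?_ ?_
    · intro W α β h
      have hm : α ≫ μ[G] = (α ≫ fst G G) * (α ≫ snd G G) := by
        rw [← Groth.Agent.Lib.Helper10.FlatPt.lift_comp_mul, lift_comp_fst_snd]
      rw [hm] at h
      apply CartesianMonoidalCategory.hom_ext
      · rw [Category.assoc, hθ1, Category.comp_id]
      · rw [Category.assoc, lift_snd, MonObj.comp_mul, ← Category.assoc,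
          toUnit_unique ((α ≫ fst G G) ≫ toUnit G) β, ← h, hιinv, GrpObj.comp_inv,
          Category.comp_id, inv_mul_cancel_left]
    · intro W α β h
      exact toUnit_unique _ _
    · intro W m m' e1 _
      have := congrArg (fun φ => φ ≫ fst G G) e1
      simp only [Category.assoc, hθ1, Category.comp_id] at this
      exact this
  have sq' : IsPullback θ.left (toUnit G).left μ[G].left z'.left := sq.map (Over.forget _)
  obtain ⟨a, ha, -⟩ := Groth.Agent.Lib.Helper10.FlatPt.exists_preimage_of_isPullback sq' w₀ pt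
    (hw₀z.trans (hz' pt).symm)
  have hfst : ∀ t : G.left, (fst G G).left (θ.left t) = t := by
    intro t
    have := congrArg (fun ψ => ψ.left t) hθ1
    simp only [Over.comp_left, Scheme.Hom.comp_apply] at this
    exact this
  have haA : a ∈ A := by
    have h1 := hfst a
    rw [ha] at h1
    rw [← h1]
    exact hw₀A
  let ψ : G.left ⟶ G.left := (θ ≫ snd G G).left
  have hψ : ∀ t : G.left, (snd G G).left (θ.left t) = ψ t := fun t => rfl
  have haB : ψ a ∈ B := by
    rw [← hψ, ha]
    exact hw₀B
  obtain ⟨ZA, hZA, haZA, hZAA⟩ :=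
    Groth.Agent.Lib.Helper10.IndCons.exists_locallyClosed_of_indConstructible hA a haA
  obtain ⟨ZB, hZB, haZB, hZBB⟩ :=
    Groth.Agent.Lib.Helper10.IndCons.exists_locallyClosed_of_indConstructible hB (ψ a) haB
  have hZ : IsLocallyClosed (ZA ∩ ψ ⁻¹' ZB) := hZA.inter (hZB.preimage ψ.continuous)
  obtain ⟨a₁, ⟨ha₁A, ha₁B⟩, ha₁c⟩ := nonempty_inter_closedPoints
    (Z := ZA ∩ ψ ⁻¹' ZB) ⟨a, haZA, haZB⟩ hZ
  -- `θ` is a closed immersion
  haveI : IsSeparated G.hom := Groth.Agent.Lib.Helper10.PreLocus.isSeparated_of_grpObj G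
  haveI : IsSeparated (fst G G).left := by
    rw [Over.fst_left]
    infer_instance
  haveI : IsClosedImmersion θ.left := by
    haveI : IsClosedImmersion (θ.left ≫ (fst G G).left) := by
      rw [← Over.comp_left, hθ1]
      exact MorphismProperty.id_mem @IsClosedImmersion G.left
    exact IsClosedImmersion.of_comp θ.left (fst G G).left
  refine ⟨θ.left a₁, ?_, ?_, ?_, ?_⟩
  · have := θ.left.isClosedEmbedding.isClosedMap _ ha₁c
    rwa [Set.image_singleton] at this
  · change (fst G G).left (θ.left a₁) ∈ A
    rw [hfst]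
    exact hZAA ha₁A
  · change (snd G G).left (θ.left a₁) ∈ B
    rw [hψ]
    exact hZBB ha₁B
  · have := congrArg (fun φ => φ.left a₁) hθμ
    simp only [Over.comp_left, Scheme.Hom.comp_apply] at this
    exact this.trans (hz' _)

end Groth.Agent.S5395
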