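import Groth.Statements.S5423
import Groth.Agent.Lib.Helper7.Kolchin
import Groth.Agent.Lib.Helper7.ComodAct
import Groth.Agent.Lib.Helper7.GITBasic
import Groth.Agent.Lib.Helper7.ComodUnip


set_option autoImplicit false
universe u
open TensorProduct
open SGA3t2b

namespace Groth.Agent.S5423

/-- Let k be an algebraically closed field and A a reduced finitely generated commutative Hopf algebra
over k (a smooth affine algebraic k-group G). Then G is unipotent (every non-zero finite-dimensional
representation has a non-zero fixed vector) if and only if every element of G(k) is unipotent, i.e.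
every k-point g : A → k acts on every finite-dimensional comodule V by an endomorphism g_V with g_V
− 1 nilpotent. -/
theorem result (k : Type u) [Field k] [IsAlgClosed k] (A : Type u) [CommRing A] [HopfAlgebra k A] [Algebra.FiniteType k A]
    [IsReduced A] :
    HopfRep.IsUnipotent k A ↔
      ∀ (g : A →ₐ[k] k) (V : Type u) [AddCommGroup V] [Module k V] [HopfRep.Comod k A V],
        Module.Finite k V → IsNilpotent (HopfRep.Comod.act k A V g - LinearMap.id) := by
  constructor
  · intro hU g V _ _ _ hfin
    haveI := hfin
    refine ⟨Module.finrank k V, ?_⟩
    apply LinearMap.ext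
    intro v
    have hv : v ∈ Groth.Agent.Lib.Helper7.Comod.fixFilt k A V (Module.finrank k V) := by
      rw [Groth.Agent.Lib.Helper7.Comod.fixFilt_finrank_eq_top hU]
      trivial
    have := Groth.Agent.Lib.Helper7.Comod.act_sub_one_pow_eq_zero_of_mem_fixFilt g
      (Module.finrank k V) v hv
    exact this
  · intro h V _ _ cV hfin hnt
    haveI := hfin
    haveI := hnt
    obtain ⟨v, hv0, hv⟩ := Groth.Agent.Lib.Helper7.Kolchin.exists_fixed
      (Groth.Agent.Lib.Helper7.Comod.actHom k A V) (fun g => h g.ofConv V hfin)
    intro hbot
    apply hv0
    have hmem : v ∈ HopfRep.fixedPts k A V := by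
      rw [Groth.Agent.Lib.Helper7.Comod.mem_fixedPts_iff_forall_points (K := k)
        (fun a ha => (Groth.Agent.Lib.Helper7.Comod.isNilpotent_of_forall_algHom_eq_zero
          (k := k) a ha).eq_zero)]
      intro g
      have h1 : HopfRep.Comod.act k A V g v = v := hv (WithConv.toConv g)
      have h2 : (TensorProduct.rid k V) (LinearMap.lTensor V g.toLinearMap
          (HopfRep.Comod.coact (k := k) (A := A) v)) = v := h1
      apply (TensorProduct.rid k V).injective
      rw [h2, TensorProduct.rid_tmul, one_smul]
    rw [hbot, Submodule.mem_bot] at hmem
    exact hmem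

end Groth.Agent.S5423
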