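import Groth.Statements.S5433
import Groth.Agent.Lib.Helper7.MT6
import Groth.Agent.Lib.Helper7.MultMin
import Groth.Agent.Lib.Helper7.DiagIso


set_option autoImplicit false
universe u
open TensorProduct
open SGA3

namespace Groth.Agent.S5433

open TensorProduct Groth.Agent.Lib.Helper7.MT Groth.Agent.Lib.Helper7.UnipPart
  Groth.Agent.Lib.Helper7.UnipQuot Groth.Agent.Lib.Helper7.HopfCoinv Groth.Agent.Lib.Helper7.HopfSub
  Groth.Agent.Lib.Helper7.DiagCocomm Groth.Agent.Lib.Helper7.DiagIso Groth.Agent.Lib.Helper7.MultMin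
  Groth.Agent.Lib.Helper7.HopfRetract Groth.Agent.Lib.Helper7.UnipExt Groth.Agent.Lib.Helper7.Chevalley


/-- Let k be a perfect field and A a finitely generated commutative and cocommutative Hopf algebra over
k (a commutative affine algebraic group G). Let J be the Hopf ideal of the largest subgroup of
multiplicative type M (A/J is of multiplicative type and J lies in every Hopf ideal whose quotient
is of multiplicative type). Then there is exactly one Hopf ideal I of A (a unipotent subgroup U)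
such that A/I is unipotent in the fixed-vector sense and the map A → (A/J) ⊗ (A/I), a ↦ Σ ā₁ ⊗ ā₂
(the comorphism of the multiplication M × U → G), is bijective. -/
theorem result (k : Type u) [Field k] [PerfectField k] (A : Type u) [CommRing A] [HopfAlgebra k A] [Algebra.FiniteType k A]
    [Coalgebra.IsCocomm k A] (J : Ideal A) [J.IsHopfIdeal k] (hJ : SGA3b.IsMultTypeConst k (A ⧸ J))
    (hJmax : ∀ (I : Ideal A) [I.IsHopfIdeal k], SGA3b.IsMultTypeConst k (A ⧸ I) → J ≤ I) :
    ∃! I : Ideal A, ∃ (_ : I.IsHopfIdeal k), HopfRep.IsUnipotent k (A ⧸ I) ∧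
      Function.Bijective ((Algebra.TensorProduct.map (Ideal.Quotient.mkₐ k J) (Ideal.Quotient.mkₐ k I)).comp
        (Bialgebra.comulAlgHom k A)) := by
  classical
  have hU := isHopfSub_unipSub (k := k) (A := A)
  haveI hJ0 : (augSpan (unipSub k A)).IsHopfIdeal k := isHopfIdeal_augSpan hU
  haveI hcc0 : Coalgebra.IsCocomm k (A ⧸ augSpan (unipSub k A)) :=
    isCocomm_of_surjective' (Bialgebra.Quotient.mkBialgHom (R := k) (augSpan (unipSub k A)))
      Ideal.Quotient.mk_surjective
  have hdiag0 : HopfRep.IsDiagonalizable (AlgebraicClosure k)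
      (AlgebraicClosure k ⊗[k] (A ⧸ augSpan (unipSub k A))) :=
    isDiagonalizable_of_isCocomm (primitive_baseChange_eq_zero
      (primitive_eq_zero_quot (k := k) (augSpan (unipSub k A)) rfl))
  have hmt0 : SGA3b.IsMultTypeConst k (A ⧸ augSpan (unipSub k A)) :=
    ⟨AlgebraicClosure k, inferInstance, inferInstance, inferInstance,
      isDiag_of_isDiagonalizable hdiag0⟩
  have hJeq : J = augSpan (unipSub k A) := le_antisymm (hJmax _ hmt0) (augSpan_unipSub_le J hJ)
  subst hJeq
  obtain ⟨s, hs⟩ := exists_bialgHom_section (augSpan (unipSub k A)) rfl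
  set J := augSpan (unipSub k A) with hJdef
  let π : A →ₐc[k] A ⧸ J := Bialgebra.Quotient.mkBialgHom (R := k) J
  have hπσ : ∀ x, π (s x) = x := hs
  haveI hI : (kerIdeal s).IsHopfIdeal k := isHopfIdeal_kerIdeal s
  have hbij : Function.Bijective ((Algebra.TensorProduct.map (Ideal.Quotient.mkₐ k J)
      (Ideal.Quotient.mkₐ k (kerIdeal s))).comp (Bialgebra.comulAlgHom k A)) := by
    have h0 := eq_zero_of_mem_kerIdeal s _ (tau_comp_section s π hπσ)
    exact Phi_bijective s π hπσ
      (Ideal.Quotient.mkₐ k (kerIdeal s)) (mk_comp_section s)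
      (Ideal.Quotient.liftₐ (kerIdeal s) (tau s π) h0)
      (Ideal.Quotient.liftₐ_comp _ _ h0) (Ideal.Quotient.mkₐ_surjective k _)
  have hex : Function.Exact ((J.restrictScalars k).subtype)
      (Ideal.Quotient.mkₐ k J).toLinearMap := by
    intro a
    constructor
    · intro h
      exact ⟨⟨a, Ideal.Quotient.eq_zero_iff_mem.1 h⟩, rfl⟩
    · rintro ⟨j, rfl⟩
      exact Ideal.Quotient.eq_zero_iff_mem.2 j.2
  have hex' := lTensor_exact A hex (Ideal.Quotient.mkₐ_surjective k J)
  have hmapl : ∀ z : A ⊗[k] A, (Algebra.TensorProduct.map (AlgHom.id k A) (π : A →ₐ[k] A ⧸ J)) z =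
      (Ideal.Quotient.mkₐ k J).toLinearMap.lTensor A z := by
    intro z
    induction z using TensorProduct.induction_on with
    | zero => simp
    | tmul x y => rfl
    | add y z hy hz => rw [map_add, hy, hz, map_add]
  have htau : ∀ a : A, tau s π a ∈ unipSub k A := by
    intro a
    apply mem_of_comul_sub_mem hU
    have h1 := AlgHom.congr_fun (map_comul_tau s π hπσ) a
    simp only [AlgHom.comp_apply, Bialgebra.comulAlgHom_apply,
      Algebra.TensorProduct.includeLeft_apply] at h1
    rw [hmapl] at h1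
    apply (hex' _).1
    rw [map_sub, h1, LinearMap.lTensor_tmul, sub_eq_zero]
    congr 1
  have hunip : HopfRep.IsUnipotent k (A ⧸ kerIdeal s) := by
    letI := hopfAlgebra hU
    let ψ : ↥(unipSub k A) →ₐc[k] A ⧸ kerIdeal s :=
      (Bialgebra.Quotient.mkBialgHom (R := k) (kerIdeal s)).comp (valBialgHom hU)
    have hψ : Function.Surjective ψ := by
      intro y
      obtain ⟨a, rfl⟩ := Ideal.Quotient.mk_surjective y
      refine ⟨⟨tau s π a, htau a⟩, ?_⟩
      exact AlgHom.congr_fun (mk_comp_tau s π) a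
    exact isUnipotent_of_surjective ψ hψ isUnipotent_unipSub
  refine ⟨kerIdeal s, ⟨hI, hunip, hbij⟩, ?_⟩
  rintro I' ⟨hI', hU', hb'⟩
  have hle : kerIdeal s ≤ I' := by
    rw [kerIdeal, Ideal.map_le_iff_le_comap]
    intro x hx
    rw [Ideal.mem_comap, ← Ideal.Quotient.eq_zero_iff_mem]
    let φ : (A ⧸ J) →ₐc[k] A ⧸ I' := (Bialgebra.Quotient.mkBialgHom (R := k) I').comp s
    have h1 := bialgHom_trivial_of_diag_unip (K := AlgebraicClosure k) hdiag0 hU' φ x
    rw [RingHom.mem_ker] at hx
    have hx' : Coalgebra.counit (R := k) x = 0 := hx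
    rw [hx', map_zero] at h1
    exact h1
  apply le_antisymm _ hle
  intro a ha
  rw [← Ideal.Quotient.eq_zero_iff_mem]
  let ρ : (A ⧸ kerIdeal s) →ₐ[k] A ⧸ I' := Ideal.Quotient.factorₐ k hle
  have hρ : ρ.comp (Ideal.Quotient.mkₐ k (kerIdeal s)) = Ideal.Quotient.mkₐ k I' := by
    ext x; rfl
  have hcomp : (Algebra.TensorProduct.map (AlgHom.id k (A ⧸ J)) ρ).comp
      ((Algebra.TensorProduct.map (Ideal.Quotient.mkₐ k J)
        (Ideal.Quotient.mkₐ k (kerIdeal s))).comp (Bialgebra.comulAlgHom k A)) =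
      (Algebra.TensorProduct.map (Ideal.Quotient.mkₐ k J)
        (Ideal.Quotient.mkₐ k I')).comp (Bialgebra.comulAlgHom k A) := by
    rw [← AlgHom.comp_assoc, ← Algebra.TensorProduct.map_comp, AlgHom.id_comp, hρ]
  obtain ⟨a', ha'⟩ := hbij.2 ((1 : A ⧸ J) ⊗ₜ[k] Ideal.Quotient.mk (kerIdeal s) a)
  have h2 := AlgHom.congr_fun hcomp a'
  rw [AlgHom.comp_apply, ha', Algebra.TensorProduct.map_tmul] at h2
  have h3 : ρ (Ideal.Quotient.mk (kerIdeal s) a) = 0 := by
    change Ideal.Quotient.mk I' a = 0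
    exact Ideal.Quotient.eq_zero_iff_mem.2 ha
  rw [h3, TensorProduct.tmul_zero] at h2
  have h4 : a' = 0 := hb'.1 (by rw [← h2, map_zero])
  rw [h4, map_zero] at ha'
  haveI hnt : Nontrivial (A ⧸ J) :=
    (Bialgebra.counitAlgHom k (A ⧸ J)).toRingHom.domain_nontrivial
  by_contra hne
  exact tmul_ne_zero (k := k) (one_ne_zero (α := A ⧸ J)) hne ha'.symm

end Groth.Agent.S5433
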