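import Groth.Statements.S5439
import Groth.Agent.Lib.Helper7.ER4


set_option autoImplicit false
universe u
open TensorProduct
open SGA3

namespace Groth.Agent.S5439

open TensorProduct Groth.Agent.Lib.Helper7.ER


/-- Let k be a field, A a finitely generated commutative Hopf algebra (an algebraic group E), ψ : B → A
an injective bialgebra map from a finitely generated Hopf algebra B of multiplicative type (the
quotient H), J the Hopf ideal generated by the image of the augmentation ideal of B (the kernel U =
Spec (A/J)), with U unipotent in the fixed-vector sense and étale over k (A/J an étale k-algebra).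
If H is connected (B has no idempotents other than 0 and 1), then there is exactly one lifting of H
in E, i.e. exactly one bialgebra map r : A → B with r ∘ ψ = id. (The published statement also
identifies this lifting as the identity component of E; this row omits that.) -/
theorem result (k : Type u) [Field k] (A B : Type u) [CommRing A] [HopfAlgebra k A] [Algebra.FiniteType k A] [CommRing B] [HopfAlgebra k B]
    [Algebra.FiniteType k B] (hB : SGA3b.IsMultTypeConst k B) (ψ : B →ₐc[k] A) (hψ : Function.Injective ψ)
    (J : Ideal A) [J.IsHopfIdeal k] (hJ : J = Ideal.map (ψ : B →+* A) (RingHom.ker (Bialgebra.counitAlgHom k B)))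
    (hU : HopfRep.IsUnipotent k (A ⧸ J)) [Algebra.Etale k (A ⧸ J)]
    (hH : ∀ e : B, IsIdempotentElem e → e = 0 ∨ e = 1) :
    ∃! r : A →ₐc[k] B, r.comp ψ = BialgHom.id k B := by
  classical
  obtain ⟨r, hr⟩ := exists_retraction_of_etale_aux k (SeparableClosure k) A B hB ψ hψ J hJ hU hH
  refine ⟨r, hr, ?_⟩
  intro r' hr'
  have h1 : (r' : A →ₐ[k] B).comp (ψ : B →ₐ[k] A) = AlgHom.id k B := by
    apply AlgHom.ext
    intro b
    exact DFunLike.congr_fun hr' b
  have h2 : (r : A →ₐ[k] B).comp (ψ : B →ₐ[k] A) = AlgHom.id k B := by
    apply AlgHom.ext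
    intro b
    exact DFunLike.congr_fun hr b
  have h3 : (Bialgebra.counitAlgHom k B).comp (r' : A →ₐ[k] B) = Bialgebra.counitAlgHom k A := by
    apply AlgHom.ext
    intro x
    exact CoalgHomClass.counit_comp_apply r' x
  have h4 : (Bialgebra.counitAlgHom k B).comp (r : A →ₐ[k] B) = Bialgebra.counitAlgHom k A := by
    apply AlgHom.ext
    intro x
    exact CoalgHomClass.counit_comp_apply r x
  have h5 := retraction_unique ψ J hJ hH (r' : A →ₐ[k] B) (r : A →ₐ[k] B) h1 h2 h3 h4
  apply DFunLike.ext
  intro a
  exact AlgHom.congr_fun h5 a

end Groth.Agent.S5439
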