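import Groth.Statements.S5443
import Groth.Agent.Lib.Helper7.KoRo6


set_option autoImplicit false
universe u
open TensorProduct CategoryTheory MonoidalCategory CartesianMonoidalCategory MonObj GrpObj AlgebraicGeometry
open SGA3x

namespace Groth.Agent.S5443

/-- Let k be a field, A a finitely generated commutative Hopf algebra over k which is unipotent in the
fixed-vector sense (a unipotent algebraic group U = Spec A), X a k-scheme of finite type which is
quasi-affine, with an action of U, and x a k-rational point of X. Then the orbit of x — the
set-theoretic image of U under the orbit map g ↦ g · x — is closed in X. (The published statement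
does not ask X to be of finite type over k; this row does.) -/
theorem result (k : Type u) [Field k] (A : Type u) [CommRing A] [HopfAlgebra k A] [Algebra.FiniteType k A]
    (hU : HopfRep.IsUnipotent k A) (X : Over (Spec (CommRingCat.of k))) [LocallyOfFiniteType X.hom]
    (hX : Mor2.IsQuasiAffine X.hom)
    (a : AlgGrp.Action ((Spec (CommRingCat.of A)).asOver (Spec (CommRingCat.of k))) X)
    (x : 𝟙_ (Over (Spec (CommRingCat.of k))) ⟶ X) :
    IsClosed (Set.range (a.orbitMap x).left.base) := by
  haveI : QuasiCompact X.hom := hX.1
  haveI : CompactSpace ↥X.left := QuasiCompact.compactSpace_of_compactSpace X.hom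
  have h1 : Scheme.IsQuasiAffine ((X.hom ⁻¹ᵁ ⊤ : X.left.Opens) : Scheme.{u}) :=
    hX.2 ⊤ (isAffineOpen_top _)
  have h2 : (X.hom ⁻¹ᵁ ⊤ : X.left.Opens) = ⊤ := rfl
  rw [h2] at h1
  haveI := h1
  haveI : X.left.IsQuasiAffine := Scheme.IsQuasiAffine.of_isImmersion (Scheme.topIso X.left).inv
  exact Groth.Agent.Lib.Helper7.KoRo.isClosed_orbit_aux hU X a x

end Groth.Agent.S5443
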