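import Mathlib
import Groth.Statements.S5446
import Groth.Agent.Lib.Helper4.RootDPos
-- import your own Groth.Agent.* helpers here

set_option autoImplicit false
open RootD

namespace Groth.Agent.S5446

open Groth.Agent.Lib.Helper4.RootDLib in
/-- If the roots indexed by Δ are indivisible and linearly independent and every root is, up to sign, a
non-negative rational combination of them (some positive multiple is a non-negative integer
combination), then Δ is a system of simple roots: every root is, up to sign, a non-negative integer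
combination of Δ. -/
theorem result {ι M N : Type*} [AddCommGroup M] [AddCommGroup N]
    (P : RootPairing ι ℤ M N) [Finite ι] (Δ : Set ι)
    (hind : ∀ i ∈ Δ, RootD.IsIndiv P i) (hli : LinearIndepOn ℤ P.root Δ)
    (hcone : ∀ k : ι, ∃ n : ℕ, 0 < n ∧
      (n • P.root k ∈ RootD.natSpan P Δ ∨ n • (-P.root k) ∈ RootD.natSpan P Δ)) :
    RootD.IsSimpleSys P Δ := by
  classical
  have hrefl : Module.IsReflexive ℤ M := Module.IsReflexive.of_isPerfPair P.toLinearMap
  have htf : IsAddTorsionFree M := .of_isTorsionFree ℤ M
  -- uniqueness of non-negative combinations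
  have huniq : ∀ b c : ι →₀ ℕ, (↑b.support : Set ι) ⊆ Δ → (↑c.support : Set ι) ⊆ Δ →
      (b.sum fun i n => n • P.root i) = (c.sum fun i n => n • P.root i) → b = c := by
    intro b c hb hc hbc
    set l : ι →₀ ℤ := b.mapRange (Nat.cast : ℕ → ℤ) Nat.cast_zero -
      c.mapRange (Nat.cast : ℕ → ℤ) Nat.cast_zero with hl
    have hlsupp : l ∈ Finsupp.supported ℤ ℤ Δ := by
      rw [Finsupp.mem_supported]
      intro i hi
      by_contra hiΔ
      have hb0 : b i = 0 := by
        by_contra h
        exact hiΔ (hb (Finsupp.mem_support_iff.mpr h))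
      have hc0 : c i = 0 := by
        by_contra h
        exact hiΔ (hc (Finsupp.mem_support_iff.mpr h))
      have : l i = 0 := by
        simp [hl, hb0, hc0]
      exact (Finsupp.mem_support_iff.mp hi) this
    have hl0 : Finsupp.linearCombination ℤ P.root l = 0 := by
      rw [hl, map_sub, Finsupp.linearCombination_apply, Finsupp.linearCombination_apply,
        Finsupp.sum_mapRange_index (by simp), Finsupp.sum_mapRange_index (by simp)]
      simp only [natCast_zsmul]
      rw [hbc, sub_self]
    have hl_zero := (linearIndepOn_iff.mp hli) l hlsupp hl0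
    ext i
    have := DFunLike.congr_fun hl_zero i
    simp only [hl, Finsupp.coe_sub, Pi.sub_apply, Finsupp.mapRange_apply,
      Finsupp.coe_zero, Pi.zero_apply] at this
    omega
  -- pointedness
  have hpt : ∀ x : M, x ∈ natSpan P Δ → -x ∈ natSpan P Δ → x = 0 := by
    intro x hx hx'
    obtain ⟨b, hb, hbx⟩ := exists_finsupp_of_mem_natSpan hx
    obtain ⟨c, hc, hcx⟩ := exists_finsupp_of_mem_natSpan hx'
    have h1 : b + c = 0 := by
      apply huniq
      · intro j hj
        rcases Finset.mem_union.mp (Finsupp.support_add hj) with h | h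
        · exact hb h
        · exact hc h
      · simp
      · rw [Finsupp.sum_add_index' (by simp) (by intro i m n; rw [add_smul]), hbx, hcx]
        simp
    have hb0 : b = 0 := by
      ext i
      have := DFunLike.congr_fun h1 i
      simp only [Finsupp.coe_add, Pi.add_apply, Finsupp.coe_zero, Pi.zero_apply] at this ⊢
      omega
    rw [← hbx, hb0]
    simp
  -- the positive system
  set S : Set ι := {k | ∃ n : ℕ, 0 < n ∧ n • P.root k ∈ natSpan P Δ} with hSdef
  have hSspan : ∀ x ∈ natSpan P S, ∃ m : ℕ, 0 < m ∧ m • x ∈ natSpan P Δ := by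
    intro x hx
    induction hx using AddSubmonoid.closure_induction with
    | mem x hx =>
      obtain ⟨i, hi, rfl⟩ := hx
      exact hi
    | zero => exact ⟨1, one_pos, by simp⟩
    | add a b _ _ iha ihb =>
      obtain ⟨m₁, h₁, h₁'⟩ := iha
      obtain ⟨m₂, h₂, h₂'⟩ := ihb
      refine ⟨m₁ * m₂, Nat.mul_pos h₁ h₂, ?_⟩
      rw [smul_add]
      refine add_mem ?_ ?_
      · rw [mul_comm, mul_smul]
        exact nsmul_mem h₁' _
      · rw [mul_smul]
        exact nsmul_mem h₂' _
  have hS : IsPosSys P S := by
    refine ⟨?_, ?_, ?_⟩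
    · rintro i ⟨n, hn, hni⟩ ⟨m, hm, hmi⟩
      rw [root_reflectionPerm_self] at hmi
      have h1 : (n * m) • P.root i ∈ natSpan P Δ := by
        rw [mul_comm, mul_smul]
        exact nsmul_mem hni _
      have h2 : -((n * m) • P.root i) ∈ natSpan P Δ := by
        rw [← smul_neg, mul_smul]
        exact nsmul_mem hmi _
      have h3 := hpt _ h1 h2
      have h4 : ((n * m : ℕ) : ℤ) • P.root i = 0 := by
        rw [natCast_zsmul]
        exact h3
      exact smul_root_ne_zero P i _ (by
        have := Nat.mul_pos hn hm
        exact_mod_cast this.ne') h4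
    · intro k
      obtain ⟨n, hn, h | h⟩ := hcone k
      · exact Or.inl ⟨n, hn, h⟩
      · refine Or.inr ⟨n, hn, ?_⟩
        rw [root_reflectionPerm_self]
        exact h
    · intro k n hn hk
      obtain ⟨m, hm, hmk⟩ := hSspan _ hk
      refine ⟨m * n, Nat.mul_pos hm hn, ?_⟩
      rw [mul_smul]
      exact hmk
  -- Δ consists of indecomposable elements
  have hΔS : Δ ⊆ S := fun δ hδ => ⟨1, one_pos, by rw [one_smul]; exact root_mem_natSpan P hδ⟩
  have hΔind : Δ ⊆ indec P S := by
    intro δ hδ
    refine ⟨hΔS hδ, fun j hj k hk hjk => ?_⟩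
    exfalso
    obtain ⟨n, hn, hnj⟩ := hj
    obtain ⟨m, hm, hmk⟩ := hk
    have hN : 0 < n * m := Nat.mul_pos hn hm
    have h1 : (n * m) • P.root j ∈ natSpan P Δ := by
      rw [mul_comm, mul_smul]
      exact nsmul_mem hnj _
    have h2 : (n * m) • P.root k ∈ natSpan P Δ := by
      rw [mul_smul]
      exact nsmul_mem hmk _
    obtain ⟨b, hb, hbj⟩ := exists_finsupp_of_mem_natSpan h1
    obtain ⟨c, hc, hck⟩ := exists_finsupp_of_mem_natSpan h2
    have h3 : b + c = Finsupp.single δ (n * m) := by
      apply huniq
      · intro i hi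
        rcases Finset.mem_union.mp (Finsupp.support_add hi) with h | h
        · exact hb h
        · exact hc h
      · intro i hi
        rw [Finsupp.support_single_ne_zero _ hN.ne', Finset.coe_singleton,
          Set.mem_singleton_iff] at hi
        rw [hi]
        exact hδ
      · rw [Finsupp.sum_add_index' (by simp) (by intro i m n; rw [add_smul]), hbj, hck,
          Finsupp.sum_single_index (by simp), hjk, smul_add]
    have hbc : ∀ i, b i + c i = if δ = i then n * m else 0 := by
      intro i
      have := DFunLike.congr_fun h3 i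
      rw [Finsupp.single_apply, Finsupp.add_apply] at this
      exact this
    have hb_single : b = Finsupp.single δ (b δ) := by
      ext i
      rw [Finsupp.single_apply]
      split_ifs with h
      · rw [h]
      · have := hbc i
        rw [if_neg h] at this
        omega
    have hc_single : c = Finsupp.single δ (c δ) := by
      ext i
      rw [Finsupp.single_apply]
      split_ifs with h
      · rw [h]
      · have := hbc i
        rw [if_neg h] at this
        omega
    have hbj' : (n * m) • P.root j = (b δ) • P.root δ := by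
      rw [← hbj]
      conv_lhs => rw [hb_single]
      rw [Finsupp.sum_single_index (by simp)]
    have hck' : (n * m) • P.root k = (c δ) • P.root δ := by
      rw [← hck]
      conv_lhs => rw [hc_single]
      rw [Finsupp.sum_single_index (by simp)]
    have hδ1 := hbc δ
    rw [if_pos rfl] at hδ1
    have hbpos : 0 < b δ := by
      rcases Nat.eq_zero_or_pos (b δ) with h0 | h0
      · exfalso
        rw [h0, zero_smul] at hbj'
        have h4 : ((n * m : ℕ) : ℤ) • P.root j = 0 := by
          rw [natCast_zsmul]
          exact hbj'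
        exact smul_root_ne_zero P j _ (by exact_mod_cast hN.ne') h4
      · exact h0
    have hcpos : 0 < c δ := by
      rcases Nat.eq_zero_or_pos (c δ) with h0 | h0
      · exfalso
        rw [h0, zero_smul] at hck'
        have h4 : ((n * m : ℕ) : ℤ) • P.root k = 0 := by
          rw [natCast_zsmul]
          exact hck'
        exact smul_root_ne_zero P k _ (by exact_mod_cast hN.ne') h4
      · exact h0
    -- pair with the coroot of δ
    have hpair : ((n * m : ℕ) : ℤ) * P.pairing j δ = (b δ : ℤ) * 2 := by
      have := congrArg (fun x => P.toLinearMap x (P.coroot δ)) hbj'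
      simp only [map_nsmul, LinearMap.smul_apply] at this
      rw [P.root_coroot_two] at this
      rw [RootPairing.pairing]
      rw [nsmul_eq_mul, nsmul_eq_mul] at this
      exact this
    have hp1 : P.pairing j δ = 1 := by
      have hN' : (0 : ℤ) < ((n * m : ℕ) : ℤ) := by exact_mod_cast hN
      have hb' : (0 : ℤ) < (b δ : ℤ) := by exact_mod_cast hbpos
      have hc' : (0 : ℤ) < (c δ : ℤ) := by exact_mod_cast hcpos
      have hsum : (b δ : ℤ) + (c δ : ℤ) = ((n * m : ℕ) : ℤ) := by exact_mod_cast hδ1
      have hlt : ((n * m : ℕ) : ℤ) * P.pairing j δ < ((n * m : ℕ) : ℤ) * 2 := by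
        rw [hpair]; nlinarith
      have hgt : ((n * m : ℕ) : ℤ) * 0 < ((n * m : ℕ) : ℤ) * P.pairing j δ := by
        rw [hpair]; nlinarith
      have h5 := lt_of_mul_lt_mul_left hlt hN'.le
      have h6 := lt_of_mul_lt_mul_left hgt hN'.le
      omega
    rw [hp1, mul_one] at hpair
    have hNb : n * m = b δ * 2 := by exact_mod_cast hpair
    rw [hNb, mul_smul] at hbj'
    have h7 : (2 : ℕ) • P.root j = P.root δ := nsmul_right_injective hbpos.ne' hbj'
    apply hind δ hδ j
    rw [← h7, ← natCast_zsmul]
    rfl
  -- every indecomposable element lies in Δ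
  have hindΔ : indec P S ⊆ Δ := by
    intro β hβ
    by_contra hβΔ
    obtain ⟨n, hn, hnβ⟩ := hβ.1
    obtain ⟨b, hb, hbβ⟩ := exists_finsupp_of_mem_natSpan hnβ
    set l : ι →₀ ℤ := Finsupp.single β (n : ℤ) -
      b.mapRange (Nat.cast : ℕ → ℤ) Nat.cast_zero with hl
    have hbβ0 : b β = 0 := by
      by_contra h
      exact hβΔ (hb (Finsupp.mem_support_iff.mpr h))
    have hlsupp : l ∈ Finsupp.supported ℤ ℤ (indec P S) := by
      rw [Finsupp.mem_supported]
      intro i hi
      by_contra hiΔ
      have hb0 : b i = 0 := by
        by_contra h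
        exact hiΔ (hΔind (hb (Finsupp.mem_support_iff.mpr h)))
      have hiβ : β ≠ i := fun h => hiΔ (h ▸ hβ)
      have : l i = 0 := by
        simp [hl, hb0, hiβ]
      exact (Finsupp.mem_support_iff.mp hi) this
    have hl0 : Finsupp.linearCombination ℤ P.root l = 0 := by
      rw [hl, map_sub, Finsupp.linearCombination_single, Finsupp.linearCombination_apply,
        Finsupp.sum_mapRange_index (by simp)]
      simp only [natCast_zsmul]
      rw [hbβ, sub_self]
    have hl_zero := (linearIndepOn_iff.mp (linearIndepOn_indec hS)) l hlsupp hl0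
    have := DFunLike.congr_fun hl_zero β
    simp only [hl, Finsupp.coe_sub, Pi.sub_apply, Finsupp.mapRange_apply, Finsupp.single_apply,
      Finsupp.coe_zero, Pi.zero_apply, if_true, hbβ0] at this
    simp at this
    omega
  refine ⟨hli, fun i => ?_⟩
  rcases (isSimpleSys_indec hS).mem_or_neg_mem i with h | h
  · exact Or.inl (natSpan_mono P hindΔ h)
  · exact Or.inr (natSpan_mono P hindΔ h)

end Groth.Agent.S5446
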