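import Mathlib
import Groth.Statements.S5447
import Groth.Agent.Lib.Helper4.RootDPos
-- import your own Groth.Agent.* helpers here

set_option autoImplicit false
open RootD

namespace Groth.Agent.S5447

open Groth.Agent.Lib.Helper4.RootDLib in
/-- If every root can be written in exactly one way as an integer combination of the roots indexed by Δ
with coefficients all of the same sign, then these roots are linearly independent (so Δ is a system
of simple roots) and indivisible. -/
theorem result {ι M N : Type*} [AddCommGroup M] [AddCommGroup N]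
    (P : RootPairing ι ℤ M N) [Finite ι] (Δ : Set ι)
    (h : ∀ k : ι, ∃! c : ι →₀ ℤ, (↑c.support ⊆ Δ ∧ ((∀ j, 0 ≤ c j) ∨ (∀ j, c j ≤ 0)) ∧
      Finsupp.linearCombination ℤ P.root c = P.root k)) :
    RootD.IsSimpleSys P Δ ∧ ∀ i ∈ Δ, RootD.IsIndiv P i := by
  classical
  -- support of sums
  have hsupp_add : ∀ (b c : ι →₀ ℤ), (↑b.support : Set ι) ⊆ Δ → (↑c.support : Set ι) ⊆ Δ →
      (↑(b + c).support : Set ι) ⊆ Δ := by
    intro b c hb hc j hj
    rcases Finset.mem_union.mp (Finsupp.support_add hj) with h' | h'
    · exact hb h'
    · exact hc h'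
  have hsupp_single : ∀ δ ∈ Δ, (↑(Finsupp.single δ (1 : ℤ)).support : Set ι) ⊆ Δ := by
    intro δ hδ j hj
    rw [Finsupp.support_single_ne_zero _ one_ne_zero, Finset.coe_singleton,
      Set.mem_singleton_iff] at hj
    rw [hj]
    exact hδ
  -- pointedness
  have hpt : ∀ c : ι →₀ ℤ, (↑c.support : Set ι) ⊆ Δ → (∀ j, 0 ≤ c j) →
      Finsupp.linearCombination ℤ P.root c = 0 → c = 0 := by
    intro c hc hc0 hlc
    by_contra hne
    obtain ⟨δ, hδ⟩ := Finsupp.support_nonempty_iff.mpr hne
    have hδΔ : δ ∈ Δ := hc hδ
    have h1 := (h δ).unique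
      (y₁ := Finsupp.single δ 1) (y₂ := Finsupp.single δ 1 + c)
      ⟨hsupp_single δ hδΔ, Or.inl (fun j => by
        rw [Finsupp.single_apply]; split_ifs <;> norm_num), by simp⟩
      ⟨hsupp_add _ _ (hsupp_single δ hδΔ) hc, Or.inl (fun j => by
        rw [Finsupp.add_apply, Finsupp.single_apply]
        have := hc0 j
        split_ifs <;> omega), by rw [map_add, hlc]; simp⟩
    apply hne
    have : Finsupp.single δ (1 : ℤ) + 0 = Finsupp.single δ 1 + c := by rw [add_zero]; exact h1
    exact (add_left_cancel this).symm
  -- nonneg combinations and natSpan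
  have hnat_of : ∀ (c : ι →₀ ℤ), (↑c.support : Set ι) ⊆ Δ → (∀ j, 0 ≤ c j) →
      Finsupp.linearCombination ℤ P.root c ∈ natSpan P Δ := by
    intro c hc hc0
    rw [Finsupp.linearCombination_apply, Finsupp.sum]
    refine sum_mem (fun j hj => ?_)
    have h1 : c j • P.root j = (c j).toNat • P.root j := by
      rw [← natCast_zsmul, Int.toNat_of_nonneg (hc0 j)]
    rw [h1]
    exact nsmul_mem (root_mem_natSpan P (hc hj)) _
  have hof_nat : ∀ x ∈ natSpan P Δ, ∃ c : ι →₀ ℤ, (↑c.support : Set ι) ⊆ Δ ∧ (∀ j, 0 ≤ c j) ∧
      Finsupp.linearCombination ℤ P.root c = x := by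
    intro x hx
    obtain ⟨l, hl, rfl⟩ := exists_finsupp_of_mem_natSpan hx
    refine ⟨l.mapRange (Nat.cast : ℕ → ℤ) Nat.cast_zero, ?_, ?_, ?_⟩
    · intro j hj
      apply hl
      rw [Finset.mem_coe, Finsupp.mem_support_iff] at hj ⊢
      intro h0
      apply hj
      rw [Finsupp.mapRange_apply, h0]
      rfl
    · intro j
      rw [Finsupp.mapRange_apply]
      exact Int.natCast_nonneg _
    · rw [Finsupp.linearCombination_apply, Finsupp.sum_mapRange_index (by simp)]
      simp only [natCast_zsmul]
  -- the positive system
  set S : Set ι := {k | P.root k ∈ natSpan P Δ} with hSdef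
  have hS : IsPosSys P S := by
    refine ⟨?_, ?_, ?_⟩
    · intro i hi hi'
      obtain ⟨c, hc, hc0, hci⟩ := hof_nat _ hi
      obtain ⟨c', hc', hc0', hci'⟩ := hof_nat _ hi'
      rw [root_reflectionPerm_self] at hci'
      have h1 := hpt (c + c') (hsupp_add _ _ hc hc') (fun j => by
        rw [Finsupp.add_apply]; have := hc0 j; have := hc0' j; omega)
        (by rw [map_add, hci, hci']; abel)
      have hc_zero : c = 0 := by
        ext j
        have := DFunLike.congr_fun h1 j
        rw [Finsupp.add_apply] at this
        have h2 := hc0 j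
        have h3 := hc0' j
        simp only [Finsupp.coe_zero, Pi.zero_apply] at this ⊢
        omega
      rw [hc_zero, map_zero] at hci
      exact P.ne_zero i hci.symm
    · intro i
      obtain ⟨c, ⟨hc, hsign, hci⟩, -⟩ := h i
      rcases hsign with h0 | h0
      · left
        change P.root i ∈ natSpan P Δ
        rw [← hci]
        exact hnat_of c hc h0
      · right
        change P.root (P.reflectionPerm i i) ∈ natSpan P Δ
        rw [root_reflectionPerm_self, ← hci, ← map_neg]
        refine hnat_of (-c) ?_ (fun j => by rw [Finsupp.neg_apply]; have := h0 j; omega)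
        rw [Finsupp.support_neg]
        exact hc
    · intro k n hn hk
      have hle : natSpan P S ≤ natSpan P Δ := by
        apply AddSubmonoid.closure_le.mpr
        rintro _ ⟨i, hi, rfl⟩
        exact hi
      have hk' := hle hk
      obtain ⟨c, hc, hc0, hck⟩ := hof_nat _ hk'
      obtain ⟨c', ⟨hc', hsign, hck'⟩, -⟩ := h k
      rcases hsign with h0 | h0
      · change P.root k ∈ natSpan P Δ
        rw [← hck']
        exact hnat_of c' hc' h0
      · exfalso
        have h1 := hpt (c + (n : ℤ) • (-c')) (hsupp_add _ _ hc (by
            intro j hj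
            apply hc'
            rw [Finset.mem_coe, Finsupp.mem_support_iff] at hj ⊢
            intro h0'
            apply hj
            simp [h0']))
          (fun j => by
            rw [Finsupp.add_apply, Finsupp.smul_apply, Finsupp.neg_apply, smul_eq_mul]
            have h2 := hc0 j
            have h3 := h0 j
            have : 0 ≤ (n : ℤ) * -c' j := mul_nonneg (Int.natCast_nonneg n) (by omega)
            omega)
          (by rw [map_add, map_smul, map_neg, hck, hck', natCast_zsmul]; simp)
        have hc'_zero : c' = 0 := by
          ext j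
          have := DFunLike.congr_fun h1 j
          rw [Finsupp.add_apply, Finsupp.smul_apply, Finsupp.neg_apply, smul_eq_mul] at this
          have h2 := hc0 j
          have h3 := h0 j
          simp only [Finsupp.coe_zero, Pi.zero_apply] at this ⊢
          have h4 : 0 ≤ (n : ℤ) * -c' j := mul_nonneg (Int.natCast_nonneg n) (by omega)
          have h5 : (n : ℤ) * -c' j = 0 := by omega
          rcases mul_eq_zero.mp h5 with h6 | h6
          · omega
          · omega
        rw [hc'_zero, map_zero] at hck'
        exact P.ne_zero k hck'.symm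
  -- Δ consists of indecomposables
  have hΔind : Δ ⊆ indec P S := by
    intro δ hδ
    refine ⟨root_mem_natSpan P hδ, fun j hj k hk hjk => ?_⟩
    obtain ⟨b, hb, hb0, hbj⟩ := hof_nat _ hj
    obtain ⟨c, hc, hc0, hck⟩ := hof_nat _ hk
    have h1 := (h δ).unique
      (y₁ := Finsupp.single δ 1) (y₂ := b + c)
      ⟨hsupp_single δ hδ, Or.inl (fun j => by
        rw [Finsupp.single_apply]; split_ifs <;> norm_num), by simp⟩
      ⟨hsupp_add _ _ hb hc, Or.inl (fun j => by
        rw [Finsupp.add_apply]; have := hb0 j; have := hc0 j; omega),
        by rw [map_add, hbj, hck, hjk]⟩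
    have hbc : ∀ i, b i + c i = if δ = i then 1 else 0 := by
      intro i
      have := DFunLike.congr_fun h1 i
      rw [Finsupp.single_apply, Finsupp.add_apply] at this
      exact this.symm
    have hδ1 := hbc δ
    rw [if_pos rfl] at hδ1
    have hb_or : b δ = 0 ∨ c δ = 0 := by
      have := hb0 δ
      have := hc0 δ
      omega
    rcases hb_or with h0 | h0
    · left
      have : b = 0 := by
        ext i
        by_cases hia : δ = i
        · rw [← hia, h0]; rfl
        · have := hbc i
          rw [if_neg hia] at this
          have := hb0 i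
          have := hc0 i
          simp only [Finsupp.coe_zero, Pi.zero_apply]
          omega
      rw [← hbj, this, map_zero]
    · right
      have : c = 0 := by
        ext i
        by_cases hia : δ = i
        · rw [← hia, h0]; rfl
        · have := hbc i
          rw [if_neg hia] at this
          have := hb0 i
          have := hc0 i
          simp only [Finsupp.coe_zero, Pi.zero_apply]
          omega
      rw [← hck, this, map_zero]
  refine ⟨⟨(linearIndepOn_indec hS).mono hΔind, ?_⟩, ?_⟩
  · intro i
    obtain ⟨c, ⟨hc, hsign, hci⟩, -⟩ := h i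
    rcases hsign with h0 | h0
    · left
      rw [← hci]
      exact hnat_of c hc h0
    · right
      rw [← hci, ← map_neg]
      refine hnat_of (-c) ?_ (fun j => by rw [Finsupp.neg_apply]; have := h0 j; omega)
      rw [Finsupp.support_neg]
      exact hc
  · intro i hi j hj
    obtain ⟨c, ⟨hc, hsign, hcj⟩, -⟩ := h j
    have h1 := (h i).unique
      (y₁ := Finsupp.single i 1) (y₂ := (2 : ℤ) • c)
      ⟨hsupp_single i hi, Or.inl (fun j => by
        rw [Finsupp.single_apply]; split_ifs <;> norm_num), by simp⟩
      ⟨by
        intro k hk
        apply hc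
        rw [Finset.mem_coe, Finsupp.mem_support_iff] at hk ⊢
        intro h0'
        apply hk
        simp [h0'],
       by
        rcases hsign with h0 | h0
        · left
          intro k
          rw [Finsupp.smul_apply, smul_eq_mul]
          have := h0 k
          omega
        · right
          intro k
          rw [Finsupp.smul_apply, smul_eq_mul]
          have := h0 k
          omega,
       by rw [map_smul, hcj]; exact hj⟩
    have := DFunLike.congr_fun h1 i
    rw [Finsupp.single_apply, if_pos rfl, Finsupp.smul_apply, smul_eq_mul] at this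
    omega

end Groth.Agent.S5447
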