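import Groth.Statements.S5449
import Mathlib
import Groth.Agent.Lib.Helper4.RootDSimple

set_option autoImplicit false
open RootD

namespace Groth.Agent.S5449

open Groth.Agent.Lib.Helper4.RootDLib in
/-- For a system of simple roots Δ, the roots that are non-negative integer combinations of Δ form a
system of positive roots; and a system of positive roots S contains Δ if and only if S is that set. -/
theorem result {ι M N : Type*} [AddCommGroup M] [AddCommGroup N]
    (P : RootPairing ι ℤ M N) [Finite ι] (Δ : Set ι) (hΔ : RootD.IsSimpleSys P Δ)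
    (S : Set ι) (hS : RootD.IsPosSys P S) :
    RootD.IsPosSys P (RootD.posOf P Δ) ∧ (Δ ⊆ S ↔ S = RootD.posOf P Δ) := by
  refine ⟨posOf_isPosSys hΔ, fun h => eq_posOf_of_subset hS hΔ h, fun h => ?_⟩
  rw [h]
  exact subset_posOf P Δ

end Groth.Agent.S5449
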