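import Groth.Statements.S5450
import Mathlib
import Groth.Agent.Lib.Helper4.RootDSimple

set_option autoImplicit false
open RootD

namespace Groth.Agent.S5450

open Groth.Agent.Lib.Helper4.RootDLib in
/-- A positive root (relative to a system of simple roots Δ) is simple if and only if it is not the sum
of two positive roots. -/
theorem result {ι M N : Type*} [AddCommGroup M] [AddCommGroup N]
    (P : RootPairing ι ℤ M N) [Finite ι] (Δ : Set ι) (hΔ : RootD.IsSimpleSys P Δ)
    (k : ι) (hk : k ∈ RootD.posOf P Δ) :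
    k ∈ Δ ↔ ¬ ∃ i j : ι, i ∈ RootD.posOf P Δ ∧ j ∈ RootD.posOf P Δ ∧ P.root k = P.root i + P.root j := by
  have h := eq_indec_posOf hΔ
  constructor
  · intro hkΔ
    rintro ⟨i, j, hi, hj, hkij⟩
    rw [h] at hkΔ
    rcases hkΔ.2 i hi j hj hkij with h0 | h0
    · exact P.ne_zero i h0
    · exact P.ne_zero j h0
  · intro hno
    rw [h]
    refine ⟨hk, fun i hi j hj hkij => ?_⟩
    exact absurd ⟨i, j, hi, hj, hkij⟩ hno

end Groth.Agent.S5450
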