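import Groth.Statements.S5457
import Mathlib
import Groth.Agent.Lib.Helper4.RootDProp

set_option autoImplicit false
open RootD

namespace Groth.Agent.S5457

open Groth.Agent.Lib.Helper4.RootDLib in
/-- Given a translation-invariant partial order (pulled back along an additive map to an ordered abelian
group) for which every root is > 0 or < 0, the roots > 0 form a system of positive roots. -/
theorem result {ι M N : Type*} [AddCommGroup M] [AddCommGroup N]
    (P : RootPairing ι ℤ M N) [Finite ι] {G : Type*} [AddCommGroup G] [PartialOrder G]
    [IsOrderedAddMonoid G] (φ : M →+ G) (hφ : ∀ i : ι, 0 < φ (P.root i) ∨ φ (P.root i) < 0) :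
    RootD.IsPosSys P {i : ι | 0 < φ (P.root i)} := by
  refine ⟨?_, ?_, ?_⟩
  · intro i hi hi'
    have h1 : 0 < φ (P.root i) := hi
    have h2 : 0 < φ (P.root (P.reflectionPerm i i)) := hi'
    rw [root_reflectionPerm_self, map_neg, neg_pos] at h2
    exact lt_asymm h1 h2
  · intro i
    rcases hφ i with h | h
    · exact Or.inl h
    · refine Or.inr ?_
      change 0 < φ (P.root (P.reflectionPerm i i))
      rw [root_reflectionPerm_self, map_neg, neg_pos]
      exact h
  · intro k n hn hk
    have hnonneg : ∀ x ∈ natSpan P {i : ι | 0 < φ (P.root i)}, 0 ≤ φ x := by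
      intro x hx
      induction hx using AddSubmonoid.closure_induction with
      | mem x hx =>
        obtain ⟨i, hi, rfl⟩ := hx
        exact le_of_lt hi
      | zero => rw [map_zero]
      | add a b _ _ iha ihb =>
        rw [map_add]
        exact add_nonneg iha ihb
    have h1 := hnonneg _ hk
    rw [map_nsmul] at h1
    rcases hφ k with h | h
    · exact h
    · exfalso
      have h2 : n • φ (P.root k) < 0 := nsmul_neg h hn.ne'
      exact not_le_of_gt h2 h1

end Groth.Agent.S5457
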