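import Groth.Statements.S5473
import Mathlib
import Groth.Agent.Lib.Helper4.RootDRank2

set_option autoImplicit false
open RootD

namespace Groth.Agent.S5473

open Groth.Agent.Lib.Helper4.RootDLib in
/-- If a linear map f and its transpose g induce bijections from the roots of R' onto the roots of R and
from the coroots of R onto the coroots of R' respectively (a morphism of root data in the
two-bijection sense), then the two bijections correspond: the coroot of α' is g applied to the
coroot of f(α'). -/
theorem result {ι M N ι' M' N' : Type*} [AddCommGroup M] [AddCommGroup N] [AddCommGroup M'] [AddCommGroup N']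
    (P : RootPairing ι ℤ M N) (P' : RootPairing ι' ℤ M' N') [Finite ι] [Finite ι']
    (f : M' →ₗ[ℤ] M) (g : N →ₗ[ℤ] N') (hfg : ∀ (m' : M') (n : N), P.toLinearMap (f m') n = P'.toLinearMap m' (g n))
    (e : ι' ≃ ι) (he : ∀ i' : ι', f (P'.root i') = P.root (e i'))
    (e' : ι ≃ ι') (he' : ∀ i : ι, g (P.coroot i) = P'.coroot (e' i)) :
    ∀ i' : ι', g (P.coroot (e i')) = P'.coroot i' := by
  classical
  intro i'
  haveI : Fintype ι := Fintype.ofFinite ι
  haveI : Fintype ι' := Fintype.ofFinite ι'
  have h1 : ∀ (i : ι) (z' : M'), P.coroot' i (f z') = P'.coroot' (e' i) z' := by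
    intro i z'
    change P.toLinearMap (f z') (P.coroot i) = P'.toLinearMap z' (P'.coroot (e' i))
    rw [hfg, he']
  have hiso : ∀ x' y' : M', P.RootForm (f x') (f y') = P'.RootForm x' y' := by
    intro x' y'
    rw [P.rootForm_apply_apply, P'.rootForm_apply_apply,
      ← Equiv.sum_comp e' (fun i' => P'.coroot' i' x' * P'.coroot' i' y')]
    refine Finset.sum_congr rfl (fun i _ => ?_)
    rw [h1, h1]
  have hpol : ∀ x' : M', g (P.Polarization (f x')) = P'.Polarization x' := by
    intro x'
    apply (LinearMap.IsPerfPair.bijective_right P'.toLinearMap).injective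
    ext y'
    change P'.toLinearMap y' (g (P.Polarization (f x'))) = P'.toLinearMap y' (P'.Polarization x')
    rw [← hfg, P.toLinearMap_apply_apply_Polarization, P'.toLinearMap_apply_apply_Polarization, hiso]
  have hℓ := rootForm_root_self_pos P (e i')
  have htf : IsAddTorsionFree N' := isAddTorsionFree_weight P'.flip
  have h2 : P.RootForm (P.root (e i')) (P.root (e i')) • g (P.coroot (e i')) =
      P.RootForm (P.root (e i')) (P.root (e i')) • P'.coroot i' := by
    rw [← map_zsmul, P.rootForm_self_smul_coroot, map_nsmul, ← he, hpol, hiso,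
      P'.rootForm_self_smul_coroot]
  exact smul_right_injective N' hℓ.ne' h2

end Groth.Agent.S5473
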