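import Groth.Statements.S5475
import Mathlib
import Groth.Agent.Lib.Helper4.RootDLattice

set_option autoImplicit false
open RootD

namespace Groth.Agent.S5475

open Groth.Agent.Lib.Helper4.RootDLib in
/-- In an adjoint root datum every indivisible root is an indivisible element of the weight lattice. -/
theorem result {ι M N : Type*} [AddCommGroup M] [AddCommGroup N]
    (P : RootPairing ι ℤ M N) [Finite ι] (had : Submodule.span ℤ (Set.range P.root) = ⊤)
    (i : ι) (hind : RootD.IsIndiv P i) (m : M) (n : ℤ) (h : n • m = P.root i) : n = 1 ∨ n = -1 := by
  exact smul_eq_root_of_adjoint had hind h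

end Groth.Agent.S5475
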