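import Groth.Statements.S5479
import Mathlib
import Groth.Agent.Lib.Helper4.RootDWord

set_option autoImplicit false
open RootPairing
open scoped Pointwise
open RootD

namespace Groth.Agent.S5479

open Groth.Agent.Lib.Helper4.RootDLib in
/-- Aut(R) is the semidirect product of the Weyl group by the stabiliser E_Δ of a system of simple
roots: every automorphism is uniquely w · e with w ∈ W and e(Δ) = Δ. -/
theorem result {ι M N : Type*} [AddCommGroup M] [AddCommGroup N]
    (P : RootPairing ι ℤ M N) [Finite ι] (Δ : Set ι) (hΔ : RootD.IsSimpleSys P Δ) (u : P.Aut) :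
    ∃! w : P.weylGroup, (fun i : ι => ((w : P.Aut)⁻¹ * u) • i) '' Δ = Δ := by
  have himage : ∀ (a b : P.Aut) (T : Set ι), (fun i : ι => (a * b) • i) '' T =
      (fun i : ι => a • i) '' ((fun i : ι => b • i) '' T) := by
    intro a b T
    rw [Set.image_image]
    simp only [mul_smul]
  obtain ⟨g, hg, hgΔ⟩ := weylGroup_transitive_simpleSys hΔ (isSimpleSys_image u hΔ)
  refine ⟨⟨g, hg⟩, ?_, ?_⟩
  · change (fun i : ι => (g⁻¹ * u) • i) '' Δ = Δ
    rw [himage, ← hgΔ, image_inv_image]
  · rintro ⟨w, hw⟩ hwΔ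
    have hwΔ' : (fun i : ι => (w⁻¹ * u) • i) '' Δ = Δ := hwΔ
    rw [himage, ← hgΔ, ← himage] at hwΔ'
    have h1 : w⁻¹ * g = 1 := by
      apply eq_one_of_image_subset_posOf hΔ (mul_mem (inv_mem hw) hg)
      intro a ha
      apply subset_posOf P Δ
      rw [← hwΔ']
      exact ⟨a, ha, rfl⟩
    apply Subtype.ext
    change w = g
    rw [inv_mul_eq_one] at h1
    exact h1

end Groth.Agent.S5479
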