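import Groth.Statements.S5484
import Mathlib
import Groth.Agent.Lib.Helper4.RootDCartan

set_option autoImplicit false
open RootD

namespace Groth.Agent.S5484

open Classical in
open Groth.Agent.Lib.Helper4.RootDLib in
/-- Every principal minor of the Cartan matrix (a_{α,β} = (α^v, β), α, β simple) is strictly positive. -/
theorem result {ι M N : Type*} [AddCommGroup M] [AddCommGroup N]
    (P : RootPairing ι ℤ M N) [Finite ι] (Δ : Finset ι) (hΔ : RootD.IsSimpleSys P (↑Δ : Set ι))
    (Δ' : Finset ι) (hsub : Δ' ⊆ Δ) :
    0 < Matrix.det (Matrix.of fun (a b : ↥Δ') => P.pairing (b : ι) (a : ι)) := by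
  exact det_cartan_principalMinor_pos Δ hΔ Δ' hsub

end Groth.Agent.S5484
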