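import Groth.Statements.S5485
import Mathlib
import Groth.Agent.Lib.Helper4.RootDDual

set_option autoImplicit false
open RootD

namespace Groth.Agent.S5485

open Groth.Agent.Lib.Helper4.RootDLib in
/-- If Δ is a system of simple roots then ind(Δ^v), the set of coroots of Δ with each divisible coroot
replaced by its half, is a system of simple coroots (a system of simple roots of the dual datum). -/
theorem result {ι M N : Type*} [AddCommGroup M] [AddCommGroup N]
    (P : RootPairing ι ℤ M N) [Finite ι] (Δ : Set ι) (hΔ : RootD.IsSimpleSys P Δ) :
    RootD.IsSimpleSys P.flip {j : ι | ∃ i ∈ Δ, (j = i ∧ RootD.IsIndiv P.flip i) ∨ (2 : ℤ) • P.coroot j = P.coroot i} := by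
  exact isSimpleSys_flip_indCoroots hΔ

end Groth.Agent.S5485
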