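import Groth.Statements.S5491
import Mathlib
import Groth.Agent.Lib.Helper4.RootDPos

set_option autoImplicit false
open RootD

namespace Groth.Agent.S5491

open Classical in
open Groth.Agent.Lib.Helper4.RootDLib in
/-- With ρ^v the half-sum of the positive coroots, the order (height) of any root α relative to the
simple system equals (ρ^v, α); equivalently 2·height(α) = Σ_{β > 0} (β^v, α). -/
theorem result {ι M N : Type*} [AddCommGroup M] [AddCommGroup N]
    (P : RootPairing ι ℤ M N) [Finite ι] [Fintype ι] [P.IsReduced] (b : P.Base) (i : ι) :
    2 * b.height i = ∑ j, if b.IsPos j then P.pairing i j else 0 := by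
  have hsimple : ∀ s ∈ b.support,
      ∑ j ∈ Finset.univ.filter (fun j => b.IsPos j), P.pairing s j = 2 := by
    intro s hs
    have hsmem : s ∈ Finset.univ.filter (fun j => b.IsPos j) := by
      rw [Finset.mem_filter]
      exact ⟨Finset.mem_univ _, RootPairing.Base.isPos_of_mem_support hs⟩
    rw [← Finset.add_sum_erase _ _ hsmem, P.pairing_same]
    have hflip : ∀ j, P.pairing s (P.reflectionPerm s j) = - P.pairing s j := by
      intro j
      rw [P.pairing_reflectionPerm, P.pairing_reflectionPerm_self_left]
    have : ∑ j ∈ (Finset.univ.filter (fun j => b.IsPos j)).erase s, P.pairing s j = 0 := by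
      refine Finset.sum_involution (fun j _ => P.reflectionPerm s j) ?_ ?_ ?_ ?_
      · intro j hj
        rw [hflip]; ring
      · intro j hj hne heq
        have h1 := hflip j
        rw [heq] at h1
        omega
      · intro j hj
        rw [Finset.mem_erase, Finset.mem_filter] at hj ⊢
        refine ⟨?_, Finset.mem_univ _, ?_⟩
        · intro h
          have h2 : j = P.reflectionPerm s s := by
            have := congrArg (P.reflectionPerm s) h
            rw [P.reflectionPerm_self] at this
            exact this
          have h4 : b.IsPos (P.reflectionPerm s s) := h2 ▸ hj.2.2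
          have h5 := (RootPairing.Base.IsPos.neg_iff_not b s).mp h4
          exact h5 (RootPairing.Base.isPos_of_mem_support hs)
        · exact RootPairing.Base.IsPos.reflectionPerm hj.2.2 hs hj.1
      · intro j hj
        exact P.reflectionPerm_self s j
    rw [this, add_zero]
  obtain ⟨f, -, -, hf⟩ := b.exists_root_eq_sum_int i
  rw [RootPairing.Base.height_eq_sum hf, ← Finset.sum_filter]
  have hpair : ∀ j, P.pairing i j = ∑ s ∈ b.support, f s * P.pairing s j := by
    intro j
    change P.toLinearMap (P.root i) (P.coroot j) = _
    rw [hf, map_sum, LinearMap.sum_apply]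
    refine Finset.sum_congr rfl (fun s _ => ?_)
    rw [map_zsmul, LinearMap.smul_apply, smul_eq_mul]
    rfl
  rw [Finset.sum_congr rfl (fun j _ => hpair j), Finset.sum_comm, Finset.mul_sum]
  refine Finset.sum_congr rfl (fun s hs => ?_)
  rw [← Finset.mul_sum, hsimple s hs, mul_comm]

end Groth.Agent.S5491
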