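import Groth.Statements.S5580
import Mathlib
import Groth.Agent.Lib.Lead.ToposFinCoprod2
open Groth.Agent.Lib.Lead.ToposFin

set_option autoImplicit false
open CategoryTheory CategoryTheory.Limits Opposite
universe u
open ToposFin

namespace Groth.Agent.S5580

/-- Quasi-compact and coherent cases: for the topos of sheaves of sets on a small site: let (X_i) be a
finite family of objects with coproduct X (given as a colimit cofan) and f : X -> Y a morphism with
components f_i : X_i -> Y. Then f is quasi-compact (resp. coherent) if and only if every f_i is. -/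
theorem result {C : Type u} [SmallCategory C] {J : GrothendieckTopology C}
    {Y : ToposFin.Sh J} {n : ℕ} (X : Fin n → ToposFin.Sh J) (c : Cofan X) (hc : IsColimit c)
    (f : c.pt ⟶ Y) :
    (ToposFin.IsQCHom f ↔ ∀ i, ToposFin.IsQCHom (c.inj i ≫ f)) ∧
    (ToposFin.IsCohHom f ↔ ∀ i, ToposFin.IsCohHom (c.inj i ≫ f)) := by
  let X' := fun k : ULift.{u} (Fin n) => X k.down
  let c' : Cofan X' := Cofan.mk c.pt (fun k => c.inj k.down)
  have hc' : IsColimit c' := Cofan.IsColimit.mk _
    (fun t => Cofan.IsColimit.desc hc (fun i => t.inj ⟨i⟩))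
    (fun t k => by
      show c.inj k.down ≫ Cofan.IsColimit.desc hc (fun i => t.inj ⟨i⟩) = t.inj k
      rw [Cofan.IsColimit.fac])
    (fun t m hm => Cofan.IsColimit.hom_ext hc _ _ (fun i => by
      rw [Cofan.IsColimit.fac]
      exact hm ⟨i⟩))
  have hqcinj : ∀ i, ToposFin.IsQCHom (c.inj i) := fun i => isQCHom_cofan_inj hc' ⟨i⟩
  have hmono : ∀ i, Mono (c.inj i) := fun i => mono_cofan_inj hc' ⟨i⟩
  have hJE : JE c.inj := JE_cofan c hc
  have A : (∀ i, ToposFin.IsQCHom (c.inj i ≫ f)) → ToposFin.IsQCHom f := fun h =>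
    isQCHom_of_finite_cover_of_source f c.inj hJE h
  refine ⟨⟨fun hf i => IsQCHom.comp (hqcinj i) hf, A⟩, ⟨fun hf i => ⟨IsQCHom.comp (hqcinj i) hf.1, ?_⟩,
    fun h => ⟨A (fun i => (h i).1), ?_⟩⟩⟩
  · haveI := hmono i
    exact IsQSHom.comp (isQSHom_of_mono (c.inj i)) hf.2
  · exact isQSHom_of_cover_of_source' f c'.inj (JE_cofan c' hc') (fun k => isQCHom_cofan_inj hc' k)
      (fun k => (h k.down).2)

end Groth.Agent.S5580
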