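import Groth.Statements.S5582
import Groth.Agent.Lib.Lead.ToposFinFP3

set_option autoImplicit false
open CategoryTheory CategoryTheory.Limits Opposite
universe u
open ToposFin

namespace Groth.Agent.S5582

/-- Equivalence of (i), (ii bis) and (iii), for the topos of sheaves of sets on a small site admitting a
generating family of coherent objects: the coequalizer of every pair of arrows between coherent
objects is coherent if and only if every object X for which Hom(X, -) commutes with small filtered
colimits is coherent; and every object is a small filtered colimit of coherent objects if and only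
if that same condition holds. -/
theorem result {C : Type u} [SmallCategory C]
    {J : GrothendieckTopology C} (hE : ToposFin.HasCoherentGenerators J) :
    ((∀ (X₀ X₁ : ToposFin.Sh J) (a b : X₁ ⟶ X₀), ToposFin.IsCoherent X₀ → ToposFin.IsCoherent X₁ →
        ToposFin.IsCoherent (coequalizer a b)) ↔
      (∀ X : ToposFin.Sh J, ToposFin.IsFP X → ToposFin.IsCoherent X)) ∧
    ((∀ X : ToposFin.Sh J, ∃ (I : Type u) (_ : SmallCategory I) (_ : IsFiltered I) (D : I ⥤ ToposFin.Sh J),
        (∀ i, ToposFin.IsCoherent (D.obj i)) ∧ Nonempty (X ≅ colimit D)) ↔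
      (∀ X : ToposFin.Sh J, ToposFin.IsFP X → ToposFin.IsCoherent X)) := by
  have hQC := Groth.Agent.Lib.Lead.ToposFin.hasQCGenerators_of_coherent hE
  refine ⟨⟨fun h X hX => ?_, fun h X₀ X₁ a b h₀ h₁ => ?_⟩, ⟨fun h X hX => ?_, fun h X => ?_⟩⟩
  · obtain ⟨X₀, X₁, a, b, i, p, h₀, h₁, hip⟩ :=
      Groth.Agent.Lib.Lead.ToposFin.exists_presentation_of_isFP hE hX
    exact Groth.Agent.Lib.Lead.ToposFin.isCoherent_of_retract i p hip (h X₀ X₁ a b h₀ h₁)
  · exact h _ (Groth.Agent.Lib.Lead.ToposFin.isFP_coequalizer a b
      (Groth.Agent.Lib.Lead.ToposFin.isFP_of_isCoherent hQC h₀) h₁.1)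
  · exact Groth.Agent.Lib.Lead.ToposFin.isCoherent_of_isFP_of_presentation h X hX
  · exact Groth.Agent.Lib.Lead.ToposFin.exists_filtered_presentation hE h X

end Groth.Agent.S5582
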