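import Groth.Statements.S5586
import Mathlib
import Groth.Agent.Lib.Lead.ToposFin5
open Groth.Agent.Lib.Lead.ToposFin

set_option autoImplicit false
open CategoryTheory CategoryTheory.Limits Opposite
universe u
open ToposFin

namespace Groth.Agent.S5586

/-- Quasi-separated and coherent cases: for an algebraic topos of sheaves of sets on a small site: let f
: X -> Y be a morphism and (Y_i -> Y) a jointly epimorphic family. If the Y_i are quasi-separated
(resp. coherent), then f is quasi-separated (resp. coherent) if and only if every X x_Y Y_i is a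
quasi-separated (resp. coherent) object. -/
theorem result {C : Type u} [SmallCategory C]
    {J : GrothendieckTopology C} (hE : ToposFin.IsAlgebraic J) {X Y : ToposFin.Sh J} (f : X ⟶ Y)
    {ι : Type u} (Yi : ι → ToposFin.Sh J) (g : ∀ i, Yi i ⟶ Y)
    (hg : ∀ (Z : ToposFin.Sh J) (a b : Y ⟶ Z), (∀ i, g i ≫ a = g i ≫ b) → a = b) :
    ((∀ i, ToposFin.IsQS (Yi i)) → (ToposFin.IsQSHom f ↔ ∀ i, ToposFin.IsQS (pullback f (g i)))) ∧
    ((∀ i, ToposFin.IsCoherent (Yi i)) →
      (ToposFin.IsCohHom f ↔ ∀ i, ToposFin.IsCoherent (pullback f (g i)))) := by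
  have hJE : JE g := JE.of_hom_ext hg
  have hEq : ToposFin.HasQCGenerators J := by
    obtain ⟨S, hqc, hgen, -, -⟩ := hE
    exact hasQCGenerators_of_isGenerating hqc hgen
  constructor
  · intro hYi
    constructor
    · intro hf i
      exact isQS_of_isQSHom (pullback.snd f (g i))
        (IsQSHom.of_isPullback (IsPullback.of_hasPullback f (g i)) hf) (hYi i)
    · intro h
      exact isQSHom_of_local hEq f g hJE (fun i => pullback.fst f (g i))
        (fun i => pullback.snd f (g i)) (fun i => IsPullback.of_hasPullback _ _)
        (fun i => ((algebraic_qs_coh_iff hE (pullback.snd f (g i))).1 (hYi i)).1 (h i))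
  · intro hYi
    constructor
    · intro hf i
      refine ((algebraic_qs_coh_iff hE (pullback.snd f (g i))).2 (hYi i)).2 ⟨?_, ?_⟩
      · exact IsQCHom.of_isPullback (IsPullback.of_hasPullback f (g i)) hf.1
      · exact IsQSHom.of_isPullback (IsPullback.of_hasPullback f (g i)) hf.2
    · intro h
      have h' := fun i => ((algebraic_qs_coh_iff hE (pullback.snd f (g i))).2 (hYi i)).1 (h i)
      exact ⟨isQCHom_of_local hEq f g hJE (fun i => pullback.fst f (g i))
          (fun i => pullback.snd f (g i)) (fun i => IsPullback.of_hasPullback _ _)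
          (fun i => (h' i).1),
        isQSHom_of_local hEq f g hJE (fun i => pullback.fst f (g i))
          (fun i => pullback.snd f (g i)) (fun i => IsPullback.of_hasPullback _ _)
          (fun i => (h' i).2)⟩

end Groth.Agent.S5586
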