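import Groth.Statements.S5587
import Mathlib
import Groth.Agent.Lib.Lead.ToposFin5
open Groth.Agent.Lib.Lead.ToposFin

set_option autoImplicit false
open CategoryTheory CategoryTheory.Limits Opposite
universe u
open ToposFin

namespace Groth.Agent.S5587

/-- For a locally coherent topos of sheaves of sets on a small site (given by a generating set of
quasi-compact objects stable under fibre products): a morphism f : X -> Y is quasi-separated if and
only if for every quasi-separated object Y' over Y the fibre product X x_Y Y' is quasi-separated. -/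
theorem result {C : Type u} [SmallCategory C]
    {J : GrothendieckTopology C} (S : Set (ToposFin.Sh J)) (hqc : ∀ K ∈ S, ToposFin.IsQC K)
    (hgen : ToposFin.IsGenerating S) (hpb : ToposFin.ClosedUnderPullbacks S) {X Y : ToposFin.Sh J} (f : X ⟶ Y) :
    ToposFin.IsQSHom f ↔
      ∀ (Y' : ToposFin.Sh J) (g : Y' ⟶ Y), ToposFin.IsQS Y' → ToposFin.IsQS (pullback f g) := by
  have hEq := hasQCGenerators_of_isGenerating hqc hgen
  constructor
  · intro hf Y' g hY'
    exact isQS_of_isQSHom (pullback.snd f g)
      (IsQSHom.of_isPullback (IsPullback.of_hasPullback f g) hf) hY'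
  · intro h
    obtain ⟨ι, K, π, hK, hπ⟩ := IsGenerating.exists_cover hgen Y
    refine isQSHom_of_local hEq f π hπ (fun i => pullback.fst f (π i))
      (fun i => pullback.snd f (π i)) (fun i => IsPullback.of_hasPullback _ _) (fun i => ?_)
    have hXi : ToposFin.IsQS (pullback f (π i)) :=
      h _ (π i) (isCoherent_of_mem hqc hgen hpb (hK i)).2
    obtain ⟨κ, G, ρ, hG, hρ⟩ := IsGenerating.exists_cover hgen (pullback f (π i))
    refine isQSHom_of_cover_with_qs_products hEq _ ρ hρ (fun k => hqc _ (hG k)) (fun k l => ?_) hXi
    obtain ⟨P, p, q, hP, hpq⟩ := hpb (ρ k ≫ pullback.snd f (π i)) (ρ l ≫ pullback.snd f (π i))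
      (hG k) (hG l) (hK i)
    exact isQS_of_iso hpq.isoPullback (isCoherent_of_mem hqc hgen hpb hP).2

end Groth.Agent.S5587
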