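import Groth.Statements.S5591
import Mathlib
import Groth.Agent.Lib.Lead.ToposFin6
open Groth.Agent.Lib.Lead.ToposFin

set_option autoImplicit false
open CategoryTheory CategoryTheory.Limits Opposite
universe u
open ToposFin

namespace Groth.Agent.S5591

/-- Let f be a coherent morphism between locally coherent topoi of sheaves of sets on small sites, with
inverse image functor F (left adjoint, preserving finite limits), coherent meaning that F preserves
quasi-compact objects and quasi-separated objects. Then F carries quasi-compact morphisms to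
quasi-compact morphisms. -/
theorem result {C D : Type u} [SmallCategory C] [SmallCategory D]
    {J : GrothendieckTopology C} {K : GrothendieckTopology D}
    (F : ToposFin.Sh K ⥤ ToposFin.Sh J) (R : ToposFin.Sh J ⥤ ToposFin.Sh K) (adj : F ⊣ R)
    [PreservesFiniteLimits F]
    (S : Set (ToposFin.Sh K)) (hqc : ∀ X ∈ S, ToposFin.IsQC X) (hgen : ToposFin.IsGenerating S)
    (hpb : ToposFin.ClosedUnderPullbacks S)
    (S' : Set (ToposFin.Sh J)) (hqc' : ∀ X ∈ S', ToposFin.IsQC X) (hgen' : ToposFin.IsGenerating S')
    (hpb' : ToposFin.ClosedUnderPullbacks S')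
    (hFqc : ∀ X : ToposFin.Sh K, ToposFin.IsQC X → ToposFin.IsQC (F.obj X))
    (hFqs : ∀ X : ToposFin.Sh K, ToposFin.IsQS X → ToposFin.IsQS (F.obj X))
    {X Y : ToposFin.Sh K} (v : X ⟶ Y) (hv : ToposFin.IsQCHom v) :
    ToposFin.IsQCHom (F.map v) := by
  have hE' := hasQCGenerators_of_isGenerating hqc' hgen'
  obtain ⟨ι, G, π, hG, hπ⟩ := IsGenerating.exists_cover hgen Y
  refine isQCHom_of_local hE' (F.map v) (fun i => F.map (π i)) (hπ.map_of_adj F R adj)
    (fun i => F.map (pullback.fst v (π i))) (fun i => F.map (pullback.snd v (π i)))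
    (fun i => (IsPullback.of_hasPullback v (π i)).map F) (fun i => ?_)
  exact isQCHom_of_isQC_of_isQS _ (hFqc _ (hv _ (π i) (hqc _ (hG i))))
    (hFqs _ (isCoherent_of_mem hqc hgen hpb (hG i)).2)

end Groth.Agent.S5591
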