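import Groth.Statements.S5593
import Mathlib
import Groth.Agent.Lib.Helper4.StrictSpec1

set_option autoImplicit false
open CategoryTheory CategoryTheory.Limits AlgebraicGeometry Opposite
universe u
open EtDesc

namespace Groth.Agent.S5593

open Groth.Agent.Lib.Helper4 in
/-- Let X be a scheme, x, x' points of X with strict localisations Spec R -> X and Spec R' -> X (R, R'
strict henselisations of the local rings at x and x'). There is an X-morphism Spec R' -> Spec R,
i.e. the geometric point over x is a specialization of the one over x', if and only if x lies in the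
closure of x'. -/
theorem result (X : Scheme.{u}) (x x' : X)
    (R : Type u) [CommRing R] [IsLocalRing R] [Algebra (X.presheaf.stalk x) R]
    [IsLocalHom (algebraMap (X.presheaf.stalk x) R)] [Hensel.IsStrictHenselization (X.presheaf.stalk x) R]
    (R' : Type u) [CommRing R'] [IsLocalRing R'] [Algebra (X.presheaf.stalk x') R']
    [IsLocalHom (algebraMap (X.presheaf.stalk x') R')] [Hensel.IsStrictHenselization (X.presheaf.stalk x') R'] :
    (∃ g : Spec (CommRingCat.of R') ⟶ Spec (CommRingCat.of R), g ≫ Hens2.specOf X x R = Hens2.specOf X x' R') ↔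
      x' ⤳ x := by
  constructor
  · rintro ⟨g, hg⟩
    have h1 : (Hens2.specOf X x' R') (IsLocalRing.closedPoint R') = x' :=
      StrictSpec.comp_fromSpecStalk_closedPoint X x' R' (algebraMap _ R')
    have h2 := StrictSpec.specializes_of_specOf X x R (g (IsLocalRing.closedPoint R'))
    have h3 : (Hens2.specOf X x R) (g (IsLocalRing.closedPoint R')) = x' := by
      rw [← h1, ← hg]
      rfl
    rw [h3] at h2
    exact h2
  · intro h
    have hsc : IsSepClosed (IsLocalRing.ResidueField R') :=
      (Hensel.IsStrictHenselization.isSepClosure (R := X.presheaf.stalk x') (S := R')).sep_closed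
    let φ : X.presheaf.stalk x →+* IsLocalRing.ResidueField R' :=
      (IsLocalRing.residue R').comp
        ((algebraMap (X.presheaf.stalk x') R').comp (X.presheaf.stalkSpecializes h).hom)
    have hwe : Algebra.WeaklyEtale (X.presheaf.stalk x) R :=
      IndEt.weaklyEtale_of_isStrictHenselization (X.presheaf.stalk x) R
    have hff : Module.FaithfullyFlat (X.presheaf.stalk x) R :=
      Hzs.faithfullyFlat_of_isStrictHenselization (X.presheaf.stalk x) R
    obtain ⟨v, hv⟩ := StrictSpec.exists_ringHom_extending (X.presheaf.stalk x) R
      (IsLocalRing.ResidueField R') φ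
    let _ : Algebra (X.presheaf.stalk x) R' :=
      ((algebraMap (X.presheaf.stalk x') R').comp (X.presheaf.stalkSpecializes h).hom).toAlgebra
    let _ : Algebra (X.presheaf.stalk x) (IsLocalRing.ResidueField R') := φ.toAlgebra
    let uT : R' →ₐ[X.presheaf.stalk x] IsLocalRing.ResidueField R' :=
      { IsLocalRing.residue R' with commutes' := fun a => rfl }
    let v' : R →ₐ[X.presheaf.stalk x] IsLocalRing.ResidueField R' :=
      { v with commutes' := fun a => RingHom.congr_fun hv a }
    have hH : HenselianLocalRing R' :=
      Hensel.IsStrictHenselization.henselian (X.presheaf.stalk x')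
    have hind : EtPBC.IsIndEtale (X.presheaf.stalk x) R :=
      IndEt.isIndEtale_of_isStrictHenselization (X.presheaf.stalk x) R
    obtain ⟨w, hw, -⟩ := IndEt.existsUnique_lift_indEtale uT IsLocalRing.residue_surjective
      (IsLocalRing.ker_residue (R := R')) R hind v'
    refine ⟨Spec.map (CommRingCat.ofHom w.toRingHom), ?_⟩
    change _ = Spec.map (CommRingCat.ofHom (algebraMap (X.presheaf.stalk x') R')) ≫
      X.fromSpecStalk x'
    rw [StrictSpec.comp_specOf_eq_iff X x x' R h R' (algebraMap (X.presheaf.stalk x') R')
      w.toRingHom]
    ext a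
    exact w.commutes a

end Groth.Agent.S5593
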