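import Groth.Statements.S5594
import Mathlib
import Groth.Agent.Lib.Helper4.StrictSpec1

set_option autoImplicit false
open CategoryTheory CategoryTheory.Limits AlgebraicGeometry Opposite
universe u
open EtDesc

namespace Groth.Agent.S5594

open Groth.Agent.Lib.Helper4 in
/-- Let X be a scheme, x, x' points of X with strict localisations Spec R -> X and Spec R' -> X, and ξ'
: Spec κ(R') -> Spec R' the closed point, a geometric point of X over x'. Then restricting along ξ'
is a bijection from the X-morphisms Spec R' -> Spec R (specialization arrows) onto the X-morphisms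
from the geometric point Spec κ(R') to Spec R: injectivity and surjectivity are stated separately. -/
theorem result (X : Scheme.{u}) (x x' : X)
    (R : Type u) [CommRing R] [IsLocalRing R] [Algebra (X.presheaf.stalk x) R]
    [IsLocalHom (algebraMap (X.presheaf.stalk x) R)] [Hensel.IsStrictHenselization (X.presheaf.stalk x) R]
    (R' : Type u) [CommRing R'] [IsLocalRing R'] [Algebra (X.presheaf.stalk x') R']
    [IsLocalHom (algebraMap (X.presheaf.stalk x') R')] [Hensel.IsStrictHenselization (X.presheaf.stalk x') R'] :
    (∀ g₁ g₂ : Spec (CommRingCat.of R') ⟶ Spec (CommRingCat.of R),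
      g₁ ≫ Hens2.specOf X x R = Hens2.specOf X x' R' → g₂ ≫ Hens2.specOf X x R = Hens2.specOf X x' R' →
      Spec.map (CommRingCat.ofHom (IsLocalRing.residue R')) ≫ g₁ =
        Spec.map (CommRingCat.ofHom (IsLocalRing.residue R')) ≫ g₂ → g₁ = g₂) ∧
    (∀ h : Spec (CommRingCat.of (IsLocalRing.ResidueField R')) ⟶ Spec (CommRingCat.of R),
      h ≫ Hens2.specOf X x R = Hens2.geomPt X x' R' →
      ∃ g : Spec (CommRingCat.of R') ⟶ Spec (CommRingCat.of R),
        g ≫ Hens2.specOf X x R = Hens2.specOf X x' R' ∧
        Spec.map (CommRingCat.ofHom (IsLocalRing.residue R')) ≫ g = h) := by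
  have hH : HenselianLocalRing R' :=
    Hensel.IsStrictHenselization.henselian (X.presheaf.stalk x')
  have hind : EtPBC.IsIndEtale (X.presheaf.stalk x) R :=
    IndEt.isIndEtale_of_isStrictHenselization (X.presheaf.stalk x) R
  have hcl : (Hens2.specOf X x' R') (IsLocalRing.closedPoint R') = x' :=
    StrictSpec.comp_fromSpecStalk_closedPoint X x' R' (algebraMap _ R')
  constructor
  · intro g₁ g₂ hg₁ hg₂ hres
    -- x' specializes to x
    have h : x' ⤳ x := by
      have h2 := StrictSpec.specializes_of_specOf X x R (g₁ (IsLocalRing.closedPoint R'))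
      have h3 : (Hens2.specOf X x R) (g₁ (IsLocalRing.closedPoint R')) = x' := by
        rw [← hcl, ← hg₁]
        rfl
      rw [h3] at h2
      exact h2
    obtain ⟨φ₁, rfl⟩ := Spec.map_surjective g₁
    obtain ⟨φ₂, rfl⟩ := Spec.map_surjective g₂
    let _ : Algebra (X.presheaf.stalk x) R' :=
      ((algebraMap (X.presheaf.stalk x') R').comp (X.presheaf.stalkSpecializes h).hom).toAlgebra
    let _ : Algebra (X.presheaf.stalk x) (IsLocalRing.ResidueField R') :=
      ((IsLocalRing.residue R').comp
        ((algebraMap (X.presheaf.stalk x') R').comp (X.presheaf.stalkSpecializes h).hom)).toAlgebra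
    let uT : R' →ₐ[X.presheaf.stalk x] IsLocalRing.ResidueField R' :=
      { IsLocalRing.residue R' with commutes' := fun a => rfl }
    have e₁ := (StrictSpec.comp_specOf_eq_iff X x x' R h R' (algebraMap (X.presheaf.stalk x') R')
      φ₁.hom).mp hg₁
    have e₂ := (StrictSpec.comp_specOf_eq_iff X x x' R h R' (algebraMap (X.presheaf.stalk x') R')
      φ₂.hom).mp hg₂
    let w₁ : R →ₐ[X.presheaf.stalk x] R' :=
      { φ₁.hom with commutes' := fun a => RingHom.congr_fun e₁ a }
    let w₂ : R →ₐ[X.presheaf.stalk x] R' :=
      { φ₂.hom with commutes' := fun a => RingHom.congr_fun e₂ a }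
    have hres' : (IsLocalRing.residue R').comp φ₁.hom = (IsLocalRing.residue R').comp φ₂.hom := by
      rw [← Spec.map_comp, ← Spec.map_comp] at hres
      have h4 := Spec.map_injective hres
      exact congrArg (fun f => f.hom) h4
    obtain ⟨w, -, huniq⟩ := IndEt.existsUnique_lift_indEtale uT IsLocalRing.residue_surjective
      (IsLocalRing.ker_residue (R := R')) R hind (uT.comp w₁)
    have hw₁ : w₁ = w := huniq w₁ rfl
    have hw₂ : w₂ = w := huniq w₂ (by
      ext a
      exact (RingHom.congr_fun hres' a).symm)
    have h5 : φ₁.hom = φ₂.hom := by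
      have := hw₁.trans hw₂.symm
      ext a
      exact congrArg (fun f => f a) this
    have h6 : φ₁ = φ₂ := CommRingCat.hom_ext h5
    rw [h6]
  · intro hh hcomp
    let z : Spec (CommRingCat.of (IsLocalRing.ResidueField R')) :=
      IsLocalRing.closedPoint (IsLocalRing.ResidueField R')
    have hgp : (Hens2.geomPt X x' R') z = x' := by
      have h1 : (Hens2.geomPt X x' R') z =
          (Hens2.specOf X x' R') ((Spec.map (CommRingCat.ofHom (IsLocalRing.residue R'))) z) := rfl
      rw [h1]
      have h2 : (Spec.map (CommRingCat.ofHom (IsLocalRing.residue R'))) z =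
          IsLocalRing.closedPoint R' := by
        have : IsLocalHom (CommRingCat.ofHom (IsLocalRing.residue R')).hom :=
          inferInstanceAs (IsLocalHom (IsLocalRing.residue R'))
        exact Spec_closedPoint (f := CommRingCat.ofHom (IsLocalRing.residue R'))
      rw [h2, hcl]
    have h : x' ⤳ x := by
      have h2 := StrictSpec.specializes_of_specOf X x R (hh z)
      have h3 : (Hens2.specOf X x R) (hh z) = x' := by
        rw [← hgp, ← hcomp]
        rfl
      rw [h3] at h2
      exact h2
    obtain ⟨ψ, rfl⟩ := Spec.map_surjective hh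
    let _ : Algebra (X.presheaf.stalk x) R' :=
      ((algebraMap (X.presheaf.stalk x') R').comp (X.presheaf.stalkSpecializes h).hom).toAlgebra
    let _ : Algebra (X.presheaf.stalk x) (IsLocalRing.ResidueField R') :=
      ((IsLocalRing.residue R').comp
        ((algebraMap (X.presheaf.stalk x') R').comp (X.presheaf.stalkSpecializes h).hom)).toAlgebra
    let uT : R' →ₐ[X.presheaf.stalk x] IsLocalRing.ResidueField R' :=
      { IsLocalRing.residue R' with commutes' := fun a => rfl }
    have hcomp' : Spec.map (CommRingCat.ofHom ψ.hom) ≫ Hens2.specOf X x R =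
        Spec.map (CommRingCat.ofHom ((IsLocalRing.residue R').comp
          (algebraMap (X.presheaf.stalk x') R'))) ≫ X.fromSpecStalk x' := by
      have h1 : Hens2.geomPt X x' R' =
          Spec.map (CommRingCat.ofHom ((IsLocalRing.residue R').comp
            (algebraMap (X.presheaf.stalk x') R'))) ≫ X.fromSpecStalk x' := by
        change Spec.map (CommRingCat.ofHom (IsLocalRing.residue R')) ≫
          Spec.map (CommRingCat.ofHom (algebraMap (X.presheaf.stalk x') R')) ≫
            X.fromSpecStalk x' = _
        rw [← Category.assoc, ← Spec.map_comp]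
        rfl
      rw [← h1]
      exact hcomp
    have e := (StrictSpec.comp_specOf_eq_iff X x x' R h (IsLocalRing.ResidueField R')
      ((IsLocalRing.residue R').comp (algebraMap (X.presheaf.stalk x') R')) ψ.hom).mp hcomp'
    let v' : R →ₐ[X.presheaf.stalk x] IsLocalRing.ResidueField R' :=
      { ψ.hom with commutes' := fun a => RingHom.congr_fun e a }
    obtain ⟨w, hw, -⟩ := IndEt.existsUnique_lift_indEtale uT IsLocalRing.residue_surjective
      (IsLocalRing.ker_residue (R := R')) R hind v'
    refine ⟨Spec.map (CommRingCat.ofHom w.toRingHom), ?_, ?_⟩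
    · change _ = Spec.map (CommRingCat.ofHom (algebraMap (X.presheaf.stalk x') R')) ≫
        X.fromSpecStalk x'
      rw [StrictSpec.comp_specOf_eq_iff X x x' R h R' (algebraMap (X.presheaf.stalk x') R')
        w.toRingHom]
      ext a
      exact w.commutes a
    · rw [← Spec.map_comp]
      congr 1
      ext a
      exact congrArg (fun f => f a) hw

end Groth.Agent.S5594
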