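import Groth.Statements.S5625
import Mathlib
import Groth.Agent.Lib.Helper29.QCohPullback
import Groth.Agent.Lib.Helper29.QCohQcqs

set_option autoImplicit false
universe u
open CategoryTheory AlgebraicGeometry
open QCohCat

namespace Groth.Agent.S5625

/-- Let f : X ⟶ Y be a morphism of quasi-compact quasi-separated schemes and Q_X, Q_Y coherators (right
adjoints of the inclusions QCoh ⥤ Mod) on X and Y. Then Q_Y ∘ f_* and f_* ∘ Q_X agree: the two
composite functors Mod(O_X) ⥤ Mod(O_Y) are naturally isomorphic (existence of a natural isomorphism;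
the source's isomorphism is the canonical one between two right adjoints of the same functor). -/
theorem result {X Y : Scheme.{u}} [CompactSpace X] [QuasiSeparatedSpace X]
    [CompactSpace Y] [QuasiSeparatedSpace Y] (f : X ⟶ Y)
    (QX : X.Modules ⥤ QCohCat.QCoh X) (adjX : (QCohCat.isQCoh X).ι ⊣ QX)
    (QY : Y.Modules ⥤ QCohCat.QCoh Y) (adjY : (QCohCat.isQCoh Y).ι ⊣ QY) :
    Nonempty ((QX ⋙ (QCohCat.isQCoh X).ι ⋙ Scheme.Modules.pushforward f) ≅
      (Scheme.Modules.pushforward f ⋙ QY ⋙ (QCohCat.isQCoh Y).ι)) := by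
  haveI : QuasiCompact f := inferInstance
  haveI : QuasiSeparated f := inferInstance
  let pullQ : QCohCat.QCoh Y ⥤ QCohCat.QCoh X :=
    (QCohCat.isQCoh X).lift ((QCohCat.isQCoh Y).ι ⋙ Scheme.Modules.pullback f) (fun N => by
      haveI : N.obj.IsQuasicoherent := N.property
      exact Groth.Agent.Lib.Helper29.QCoh.isQuasicoherent_pullback f N.obj)
  let pushQ : QCohCat.QCoh X ⥤ QCohCat.QCoh Y :=
    (QCohCat.isQCoh Y).lift ((QCohCat.isQCoh X).ι ⋙ Scheme.Modules.pushforward f) (fun M => by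
      haveI : M.obj.IsQuasicoherent := M.property
      exact Groth.Agent.Lib.Helper29.QCoh.isQuasicoherent_pushforward_of_qcqs f M.obj)
  let adjQ : pullQ ⊣ pushQ :=
    (Scheme.Modules.pullbackPushforwardAdjunction f).restrictFullyFaithful
      (QCohCat.isQCoh Y).fullyFaithfulι (QCohCat.isQCoh X).fullyFaithfulι (Iso.refl _) (Iso.refl _)
  let a1 : (QCohCat.isQCoh Y).ι ⋙ Scheme.Modules.pullback f ⊣ Scheme.Modules.pushforward f ⋙ QY :=
    adjY.comp (Scheme.Modules.pullbackPushforwardAdjunction f)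
  let a2 : pullQ ⋙ (QCohCat.isQCoh X).ι ⊣ QX ⋙ pushQ := adjQ.comp adjX
  let a2' : (QCohCat.isQCoh Y).ι ⋙ Scheme.Modules.pullback f ⊣ QX ⋙ pushQ :=
    a2.ofNatIsoLeft (Iso.refl _)
  let e : QX ⋙ pushQ ≅ Scheme.Modules.pushforward f ⋙ QY := a2'.rightAdjointUniq a1
  exact ⟨Functor.isoWhiskerRight e (QCohCat.isQCoh Y).ι⟩

end Groth.Agent.S5625
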