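import Groth.Statements.S5628
import Groth.Agent.Lib.Helper13.PCTwist
import Groth.Agent.Lib.Helper13.PCBasic

set_option autoImplicit false
universe v u
open CategoryTheory CategoryTheory.Limits
open PCoh

namespace Groth.Agent.S5628

/-- Let C be an abelian category and C₀ a strictly full additive subcategory which is quasi-liftable in
C. Let u : E ⟶ F be an (n+1)-quasi-isomorphism of cochain complexes (isomorphism on H^i for i > n+1,
epimorphism on H^{n+1}) such that H^n of the mapping cone of u is of C₀-finite type. Then, modifying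
E in degree n only by adding an object of C₀, u becomes an n-quasi-isomorphism: u = v ≫ u' with v :
E ⟶ E' a monomorphism in each degree, an isomorphism in every degree ≠ n, with cokernel in degree n
an object of C₀, and u' : E' ⟶ F an isomorphism on H^i for i > n and an epimorphism on H^n. -/
theorem result {C : Type u} [Category.{v} C] [Abelian C]
    (P : ObjectProperty C) [P.IsClosedUnderIsomorphisms] [P.ContainsZero] (hsum : ∀ X Y : C, P X → P Y → P (X ⨯ Y))
    (hql : PCoh.IsQuasiLiftable P)
    (n : ℤ) (E F : CochainComplex C ℤ) (u : E ⟶ F)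
    (hiso : ∀ i : ℤ, n + 1 < i → IsIso (HomologicalComplex.homologyMap u i))
    (hepi : Epi (HomologicalComplex.homologyMap u (n + 1)))
    (hcone : PCoh.IsOfFiniteType P ((CochainComplex.mappingCone u).homology n)) :
    ∃ (E' : CochainComplex C ℤ) (v : E ⟶ E') (u' : E' ⟶ F), v ≫ u' = u ∧ (∀ i : ℤ, Mono (v.f i)) ∧
      (∀ i : ℤ, i ≠ n → IsIso (v.f i)) ∧ P (cokernel (v.f n)) ∧
      (∀ i : ℤ, n < i → IsIso (HomologicalComplex.homologyMap u' i)) ∧
      Epi (HomologicalComplex.homologyMap u' n) := by
  obtain ⟨Q₀, π₀, hQ₀, hπ₀⟩ := hcone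
  obtain ⟨Q', w, q, hQ', hq, hwq⟩ := Groth.Agent.Lib.Helper13.PC.exists_lift_of_quasiLiftable hql
    ((CochainComplex.mappingCone u).homologyπ n) π₀ hQ₀
  have hw : Epi (w ≫ (CochainComplex.mappingCone u).homologyπ n) := by
    rw [hwq]; exact epi_comp _ _
  let ι := Groth.Agent.Lib.Helper13.PC.singleToCycles n w
  have hex : ∀ j : ℤ, n < j → (CochainComplex.mappingCone u).ExactAt j := fun j hj => by
    have := hiso (j + 1) (by lia)
    have : Epi (HomologicalComplex.homologyMap u j) := by
      rcases (show n + 1 ≤ j from hj).lt_or_eq with h | h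
      · have := hiso j h; infer_instance
      · subst h; exact hepi
    exact Groth.Agent.Lib.Helper13.PC.exactAt_mappingCone u j (j + 1) rfl inferInstance inferInstance
  obtain ⟨h₁, h₂⟩ := Groth.Agent.Lib.Helper13.PC.nQuasiIso_twistDesc u ι n
    (fun j hj => HomologicalComplex.isZero_single_obj_X _ n Q' j (by lia))
    (Groth.Agent.Lib.Helper13.PC.epi_homologyMap_singleToCycles n w hw) hex
  refine ⟨_, Groth.Agent.Lib.Helper13.PC.twistInr u ι, Groth.Agent.Lib.Helper13.PC.twistDesc u ι,
    Groth.Agent.Lib.Helper13.PC.twistInr_desc u ι, fun i => inferInstance,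
    fun i hi => Groth.Agent.Lib.Helper13.PC.isIso_twistInr_f u ι i
      (HomologicalComplex.isZero_single_obj_X _ n Q' i hi), ?_, h₁, h₂⟩
  exact (P.prop_iff_of_iso ((Groth.Agent.Lib.Helper13.PC.cokernelTwInrIso u ι n).trans
    (HomologicalComplex.singleObjXSelf _ n Q'))).2 hQ'

end Groth.Agent.S5628
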