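import Groth.Statements.S5657
import Mathlib

set_option autoImplicit false
universe u
open TensorProduct
open W4sga6xxiii

namespace Groth.Agent.S5657



theorem E_mul {A : Type u} [CommRing A] (y : A) (m : ℕ) (hy : y ^ (m + 1) = 0) (n : ℤ) :
    (∑ j ∈ Finset.range (m + 1), Ring.choose n j • y ^ j) * (1 + y) =
      ∑ j ∈ Finset.range (m + 1), Ring.choose (n + 1) j • y ^ j := by
  rw [mul_add, mul_one, Finset.sum_mul]
  have h2 : ∑ j ∈ Finset.range (m + 1), (Ring.choose n j • y ^ j) * y =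
      ∑ j ∈ Finset.range m, Ring.choose n j • y ^ (j + 1) := by
    rw [Finset.sum_range_succ, smul_mul_assoc, ← pow_succ, hy, smul_zero, add_zero]
    refine Finset.sum_congr rfl fun j _ => ?_
    rw [smul_mul_assoc, ← pow_succ]
  rw [h2, Finset.sum_range_succ' (fun j => Ring.choose n j • y ^ j),
    Finset.sum_range_succ' (fun j => Ring.choose (n + 1) j • y ^ j)]
  simp only [Ring.choose_zero_right, Ring.choose_succ_succ, add_smul, Finset.sum_add_distrib]
  abel

theorem key {A : Type u} [CommRing A] (u : Aˣ) (y : A) (hu : (u : A) = 1 + y) (m : ℕ)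
    (hy : y ^ (m + 1) = 0) (n : ℤ) :
    ((u ^ n : Aˣ) : A) = ∑ j ∈ Finset.range (m + 1), Ring.choose n j • y ^ j := by
  induction n using Int.induction_on with
  | zero =>
    rw [zpow_zero, Units.val_one, Finset.sum_range_succ']
    simp [Ring.choose_zero_succ]
  | succ n ih =>
    rw [zpow_add_one, Units.val_mul, ih, hu, E_mul y m hy]
  | pred n ih =>
    have h := E_mul y m hy (-(n : ℤ) - 1)
    rw [sub_add_cancel] at h
    rw [zpow_sub_one, Units.val_mul, ih, ← h, ← hu, mul_assoc, Units.mul_inv, mul_one]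

/-- Let A be a commutative ring, I an ideal of A with I^{m+1} = 0, and P ⊆ Aˣ the subgroup of units of
the form 1 + y with y ∈ I. Then the map P → A ⊗_ℤ ℚ, x ↦ x ⊗ 1, is a polynomial map of degree ≤ m on
the abelian group P (written additively): along every finite sequence x_1, …, x_r in P one has
x_1^{n_1}⋯x_r^{n_r} ⊗ 1 = Σ_k Π_i C(n_i, k_i) y_k with y_k = 0 whenever k_1 + ⋯ + k_r > m. -/
theorem result (A : Type u) [CommRing A] (I : Ideal A) (m : ℕ) (hI : I ^ (m + 1) = ⊥)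
    (P : Subgroup Aˣ) (hP : ∀ u : Aˣ, u ∈ P ↔ (u : A) - 1 ∈ I) :
    W4sga6xxiii.IsPolyMapLE (fun u : Additive P => (((Additive.toMul u : P) : Aˣ) : A) ⊗ₜ[ℤ] (1 : ℚ)) m := by

  intro r x
  have hpow : ∀ z : A, z ∈ I → z ^ (m + 1) = 0 := fun z hz => by
    have : z ^ (m + 1) ∈ I ^ (m + 1) := Ideal.pow_mem_pow hz _
    rwa [hI, Ideal.mem_bot] at this
  set u : Fin r → Aˣ := fun i => ((Additive.toMul (x i) : P) : Aˣ) with hu
  set yv : Fin r → A := fun i => (u i : A) - 1 with hyv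
  have hy : ∀ i, yv i ∈ I := fun i => (hP (u i)).mp (Additive.toMul (x i)).2
  refine ⟨fun k => (∏ i, yv i ^ (k i : ℕ)) ⊗ₜ[ℤ] (1 : ℚ), ?_, ?_⟩
  · intro k hk
    have h1 : (∏ i, yv i ^ (k i : ℕ)) ∈ I ^ (∑ i, (k i : ℕ)) := by
      rw [← Finset.prod_pow_eq_pow_sum]
      exact Ideal.prod_mem_prod fun i _ => Ideal.pow_mem_pow (hy i) _
    have h2 : I ^ (∑ i, (k i : ℕ)) ≤ I ^ (m + 1) := Ideal.pow_le_pow_right hk
    have h3 := h2 h1
    rw [hI, Ideal.mem_bot] at h3
    show (∏ i, yv i ^ (k i : ℕ)) ⊗ₜ[ℤ] (1 : ℚ) = 0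
    rw [h3, TensorProduct.zero_tmul]
  · intro n
    have h1 : ((Additive.toMul (∑ i, n i • x i) : P) : Aˣ) = ∏ i, u i ^ n i := by
      rw [toMul_sum, SubmonoidClass.coe_finsetProd]
      refine Finset.prod_congr rfl fun i _ => ?_
      rw [toMul_zsmul, Subgroup.coe_zpow]
    show (((Additive.toMul (∑ i, n i • x i) : P) : Aˣ) : A) ⊗ₜ[ℤ] (1 : ℚ) = _
    rw [h1, Units.coe_prod]
    have h4 : ∀ i, ((u i ^ n i : Aˣ) : A) =
        ∑ j : Fin (m + 1), Ring.choose (n i) (j : ℕ) • yv i ^ (j : ℕ) := by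
      intro i
      rw [key (u i) (yv i) (by simp [hyv]) m (hpow _ (hy i)) (n i),
        Fin.sum_univ_eq_sum_range (fun j => Ring.choose (n i) j • yv i ^ j)]
    simp_rw [h4]
    rw [Finset.prod_univ_sum, Fintype.piFinset_univ, TensorProduct.sum_tmul]
    refine Finset.sum_congr rfl fun k _ => ?_
    have h5 : ∏ i, Ring.choose (n i) (k i : ℕ) • yv i ^ (k i : ℕ) =
        (∏ i, Ring.choose (n i) (k i : ℕ)) • ∏ i, yv i ^ (k i : ℕ) := by
      simp only [zsmul_eq_mul, Finset.prod_mul_distrib, Int.cast_prod]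
    rw [h5, TensorProduct.smul_tmul']

end Groth.Agent.S5657
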