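import Groth.Statements.S5658
import Groth.Agent.Lib.Helper15.GLLoc
import Groth.Agent.Lib.Helper15.GLComm
import Groth.Agent.Lib.Helper15.GLEt

-- import your own Groth.Agent.* helpers here

set_option autoImplicit false
universe u
open CAlg

namespace Groth.Agent.S5658

/-- On the big étale site of a scheme the sheaf of commutator subgroups of Gl(n) is Sl(n) = Ker(det).
Concretely: let A be a commutative ring, n ≥ 0, s ∈ SL_n(A) and p a prime ideal of A. Then there are
an étale A-algebra A' with a prime ideal lying over p such that the image of s in GL_n(A') lies in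
the commutator subgroup of GL_n(A'). (The inclusion of commutators in SL_n being clear, this is the
content of the statement.) -/
theorem result (A : Type u) [CommRing A] (n : ℕ)
    (s : Matrix.SpecialLinearGroup (Fin n) A) (p : PrimeSpectrum A) :
    ∃ (A' : Type u) (_ : CommRing A') (_ : Algebra A A'), Algebra.Etale A A' ∧
      (∃ q : PrimeSpectrum A', q.asIdeal.comap (algebraMap A A') = p.asIdeal) ∧
      (Matrix.GeneralLinearGroup.map (algebraMap A A')) (Matrix.SpecialLinearGroup.toGL s) ∈
        commutator (Matrix.GeneralLinearGroup (Fin n) A') := by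
  obtain ⟨A₁, _, _, hEt₁, ⟨q₁, hq₁⟩, hmem⟩ :=
    Groth.Agent.Lib.Helper15.GLLoc.exists_etale_mem_H A p (Matrix.SpecialLinearGroup.toGL s)
  obtain ⟨A₂, _, _, hEt₂, ⟨q₂, hq₂⟩, u, hu⟩ := Groth.Agent.Lib.Helper15.GLEt.exists_etale_unit A₁ q₁
  letI : Algebra A A₂ := ((algebraMap A₁ A₂).comp (algebraMap A A₁)).toAlgebra
  haveI : IsScalarTower A A₁ A₂ := IsScalarTower.of_algebraMap_eq (fun _ => rfl)
  refine ⟨A₂, inferInstance, inferInstance, Algebra.Etale.comp A A₁ A₂, ⟨q₂, ?_⟩, ?_⟩
  · rw [IsScalarTower.algebraMap_eq A A₁ A₂, ← Ideal.comap_comap, hq₂, hq₁]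
  · have hcomp : Matrix.GeneralLinearGroup.map (algebraMap A A₂) (Matrix.SpecialLinearGroup.toGL s) =
        Matrix.GeneralLinearGroup.map (algebraMap A₁ A₂)
          (Matrix.GeneralLinearGroup.map (algebraMap A A₁) (Matrix.SpecialLinearGroup.toGL s)) := by
      rw [← Matrix.GeneralLinearGroup.map_comp_apply]
      rfl
    rw [hcomp]
    apply Groth.Agent.Lib.Helper15.GLComm.mem_commutator_of_mem_H u hu
    · exact Groth.Agent.Lib.Helper15.GLLoc.map_mem_H _ _ hmem
    · rw [Matrix.GeneralLinearGroup.map_det, Matrix.GeneralLinearGroup.map_det]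
      have : Matrix.GeneralLinearGroup.det (Matrix.SpecialLinearGroup.toGL s) = 1 := by
        apply Units.ext
        show Matrix.det (s : Matrix (Fin n) (Fin n) A) = 1
        exact s.2
      rw [this, map_one, map_one]


end Groth.Agent.S5658
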