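import Groth.Statements.S5659
import Groth.Agent.Lib.Helper15.GLChar

-- import your own Groth.Agent.* helpers here

set_option autoImplicit false
universe u
open CAlg

namespace Groth.Agent.S5659

/-- Every homomorphism of group sheaves Gl(n_1) × ⋯ × Gl(n_r) → G_m is (s_1, …, s_r) ↦ det(s_1)^{m_1} ⋯
det(s_r)^{m_r} with locally constant integers m_i uniquely determined by it. Concretely, over a
commutative ring R whose prime spectrum is connected and for ranks n_i ≥ 1: every family of group
homomorphisms α_B : GL_{n_1}(B) × ⋯ × GL_{n_r}(B) → Bˣ, one for each commutative R-algebra B and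
natural in B, is given by α_B(s) = Π_i det(s_i)^{m_i} for a unique m ∈ ℤ^r. (The published statement
allows ranks n_i ≥ 0; uniqueness of m_i needs n_i ≥ 1, since Gl(0) is trivial.) -/
theorem result (R : Type u) [CommRing R] [ConnectedSpace (PrimeSpectrum R)]
    (r : ℕ) (n : Fin r → ℕ) (hn : ∀ i, 0 < n i)
    (α : ∀ (B : Type u) [CommRing B] [Algebra R B], (∀ i, Matrix.GeneralLinearGroup (Fin (n i)) B) →* Bˣ)
    (hα : ∀ (B C : Type u) [CommRing B] [Algebra R B] [CommRing C] [Algebra R C] (φ : B →ₐ[R] C)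
      (s : ∀ i, Matrix.GeneralLinearGroup (Fin (n i)) B),
      α C (fun i => Matrix.GeneralLinearGroup.map φ.toRingHom (s i)) = Units.map (φ.toRingHom : B →* C) (α B s)) :
    ∃! m : Fin r → ℤ, ∀ (B : Type u) [CommRing B] [Algebra R B] (s : ∀ i, Matrix.GeneralLinearGroup (Fin (n i)) B),
      α B s = ∏ i, Matrix.GeneralLinearGroup.det (s i) ^ (m i) := by
  classical
  haveI := Groth.Agent.Lib.Helper15.GLChar.nontrivial_of_connected R
  haveI hne : ∀ i, Nonempty (Fin (n i)) := fun i => Fin.pos_iff_nonempty.mp (hn i)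
  -- existence of the exponents
  have hex : ∀ i : Fin r, ∃ e : ℤ, ∀ (B : Type u) [CommRing B] [Algebra R B]
      (g : (Matrix (Fin (n i)) (Fin (n i)) B)ˣ),
      α B (Pi.mulSingle i g) = (Matrix.GeneralLinearGroup.det g) ^ e := by
    intro i
    refine Groth.Agent.Lib.Helper15.GLChar.char_eq_det_zpow R
      (fun B _ _ => (α B).comp
        (MonoidHom.mulSingle (fun k => Matrix.GeneralLinearGroup (Fin (n k)) B) i)) ?_
    intro B C _ _ _ _ φ g
    show α C (Pi.mulSingle i (Matrix.GeneralLinearGroup.map φ.toRingHom g)) =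
      Units.map (φ.toRingHom : B →* C) (α B (Pi.mulSingle i g))
    rw [← hα]
    congr 1
    funext k
    by_cases hk : k = i
    · subst hk; simp
    · simp [Pi.mulSingle_apply, hk]
  choose m hm using hex
  have hform : ∀ (B : Type u) [CommRing B] [Algebra R B]
      (s : ∀ i, Matrix.GeneralLinearGroup (Fin (n i)) B),
      α B s = ∏ i, Matrix.GeneralLinearGroup.det (s i) ^ (m i) := by
    intro B _ _ s
    let Ψ : (∀ i, Matrix.GeneralLinearGroup (Fin (n i)) B) →* Bˣ :=
      { toFun := fun s => ∏ i, Matrix.GeneralLinearGroup.det (s i) ^ (m i)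
        map_one' := by simp
        map_mul' := fun s t => by simp [mul_zpow, Finset.prod_mul_distrib] }
    have : α B = Ψ := by
      apply MonoidHom.pi_ext
      intro i x
      rw [hm i B x]
      show _ = ∏ k, Matrix.GeneralLinearGroup.det ((Pi.mulSingle i x :
        ∀ i, Matrix.GeneralLinearGroup (Fin (n i)) B) k) ^ (m k)
      rw [Finset.prod_eq_single i]
      · rw [Pi.mulSingle_eq_same]
      · intro k _ hk
        rw [Pi.mulSingle_eq_of_ne hk, map_one, one_zpow]
      · intro h; exact absurd (Finset.mem_univ i) h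
    rw [this]
    rfl
  refine ⟨m, hform, ?_⟩
  intro m' hm'
  funext i
  obtain ⟨j₀⟩ := hne i
  let T := Groth.Agent.Lib.Helper15.GLChar.su R ℤ (Multiplicative.ofAdd 1)
  let g : (Matrix (Fin (n i)) (Fin (n i)) (AddMonoidAlgebra R ℤ))ˣ :=
    Groth.Agent.Lib.Helper15.GLGen.diagU (Pi.mulSingle j₀ T)
  have hdet : Matrix.GeneralLinearGroup.det g = T := by
    rw [Groth.Agent.Lib.Helper15.GLChar.det_diagU, Finset.prod_eq_single j₀]
    · rw [Pi.mulSingle_eq_same]
    · intro k _ hk
      rw [Pi.mulSingle_eq_of_ne hk]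
    · intro h; exact absurd (Finset.mem_univ j₀) h
  have h1 := hm' (AddMonoidAlgebra R ℤ) (Pi.mulSingle i g)
  rw [hm i] at h1
  rw [Finset.prod_eq_single i] at h1
  · rw [Pi.mulSingle_eq_same, hdet] at h1
    have h2 : ∀ k : ℤ, ((T ^ k : (AddMonoidAlgebra R ℤ)ˣ) : AddMonoidAlgebra R ℤ) =
        AddMonoidAlgebra.single k 1 := by
      intro k
      show ((Groth.Agent.Lib.Helper15.GLChar.su R ℤ (Multiplicative.ofAdd 1) ^ k :
        (AddMonoidAlgebra R ℤ)ˣ) : AddMonoidAlgebra R ℤ) = _
      rw [← map_zpow, ← ofAdd_zsmul, Groth.Agent.Lib.Helper15.GLChar.su_val]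
      simp
    have h3 := congrArg Units.val h1
    rw [h2, h2] at h3
    exact ((AddMonoidAlgebra.single_left_inj one_ne_zero).mp h3).symm
  · intro k _ hk
    rw [Pi.mulSingle_eq_of_ne hk, map_one, one_zpow]
  · intro h; exact absurd (Finset.mem_univ i) h


end Groth.Agent.S5659
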