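import Groth.Statements.S5663
import Mathlib

set_option autoImplicit false
universe u
open TensorProduct
open CAlg

namespace Groth.Agent.S5663

open TensorProduct

/-- G1: for a minimal prime `p` over `I` in a Noetherian ring, some `s ∉ p` and `k` satisfy
`s • p^k ⊆ I`. -/
theorem exists_notMem_mul_pow_le {A : Type*} [CommRing A] [IsNoetherianRing A] (I p : Ideal A)
    (hp : p ∈ I.minimalPrimes) : ∃ s ∉ p, ∃ k : ℕ, ∀ a ∈ p ^ k, s * a ∈ I := by
  classical
  have hpp : p.IsPrime := hp.1.1
  have hM : (I.minimalPrimes).Finite := Ideal.finite_minimalPrimes_of_isNoetherianRing A I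
  let F := hM.toFinset.erase p
  have hJ : ¬ (F.inf id ≤ p) := by
    intro hle
    rw [Ideal.IsPrime.inf_le' hpp] at hle
    obtain ⟨q, hqF, hqp⟩ := hle
    rw [Finset.mem_erase, Set.Finite.mem_toFinset] at hqF
    have := hp.2 hqF.2.1 hqp
    exact hqF.1 (le_antisymm hqp this)
  obtain ⟨s, hsJ, hsp⟩ := SetLike.not_le_iff_exists.mp hJ
  have hrad : Ideal.span {s} * p ≤ I.radical := by
    rw [← Ideal.sInf_minimalPrimes]
    apply le_sInf
    intro q hq
    by_cases hqp : q = p
    · rw [hqp]; exact Ideal.mul_le_right (I := Ideal.span {s}) (J := p)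
    · have hqF : q ∈ F := by
        rw [Finset.mem_erase, Set.Finite.mem_toFinset]; exact ⟨hqp, hq⟩
      have : s ∈ q := (Finset.inf_le hqF : F.inf id ≤ id q) hsJ
      exact (Ideal.mul_le_left (I := Ideal.span {s}) (J := p)).trans
        ((Ideal.span_singleton_le_iff_mem q).mpr this)
  obtain ⟨k, hk⟩ := Ideal.exists_radical_pow_le_of_fg I (IsNoetherian.noetherian _)
  refine ⟨s ^ k, fun h => hsp (hpp.mem_of_pow_mem k h), k, fun a ha => ?_⟩
  apply hk
  have h1 : (Ideal.span {s} * p) ^ k ≤ I.radical ^ k := Ideal.pow_right_mono hrad k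
  apply h1
  rw [mul_pow, Ideal.span_singleton_pow]
  exact Ideal.mul_mem_mul (Ideal.mem_span_singleton_self _) ha

/-- κ-vanishing: if `1 ⊗ x = 0` in `κ(p) ⊗ M` then `t • x ∈ p M` for some `t ∉ p`. -/
theorem exists_smul_mem_of_tmul_eq_zero {A M : Type*} [CommRing A] [AddCommGroup M] [Module A M]
    (p : Ideal A) [p.IsPrime] (x : M) (h : (1 : p.ResidueField) ⊗ₜ[A] x = 0) :
    ∃ t ∉ p, t • x ∈ (p • ⊤ : Submodule A M) := by
  let D := A ⧸ p
  let M' := M ⧸ (p • ⊤ : Submodule A M)
  let κ := p.ResidueField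
  let Θ : κ ⊗[A] M →ₗ[A] κ ⊗[D] M' := TensorProduct.lift (LinearMap.mk₂ A
    (fun c m => c ⊗ₜ[D] (Submodule.Quotient.mk m : M'))
    (fun c c' m => by rw [TensorProduct.add_tmul])
    (fun a c m => by rw [TensorProduct.smul_tmul'])
    (fun c m m' => by rw [Submodule.Quotient.mk_add, TensorProduct.tmul_add])
    (fun a c m => by
      rw [Submodule.Quotient.mk_smul, TensorProduct.smul_tmul']
      have h1 : (a • (Submodule.Quotient.mk m : M')) = (Ideal.Quotient.mk p a : D) • (Submodule.Quotient.mk m : M') := rfl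
      rw [h1, TensorProduct.tmul_smul, TensorProduct.smul_tmul']
      congr 1
      exact (IsScalarTower.algebraMap_smul (A ⧸ p) a c)))
  have h2 : (1 : κ) ⊗ₜ[D] (Submodule.Quotient.mk x : M') = 0 := by
    have := congrArg Θ h
    simpa [Θ] using this
  have h3 : TensorProduct.mk D κ M' 1 (Submodule.Quotient.mk x) = 0 := h2
  rw [IsLocalizedModule.eq_zero_iff (nonZeroDivisors D)] at h3
  obtain ⟨d, hd⟩ := h3
  obtain ⟨t, ht⟩ := Ideal.Quotient.mk_surjective (d : D)
  refine ⟨t, ?_, ?_⟩
  · intro htp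
    have : (d : D) = 0 := by rw [← ht]; exact Ideal.Quotient.eq_zero_iff_mem.mpr htp
    exact nonZeroDivisors.coe_ne_zero d this
  · rw [← Submodule.Quotient.mk_eq_zero, Submodule.Quotient.mk_smul]
    have : (d : D) • (Submodule.Quotient.mk x : M') = 0 := hd
    rw [← ht] at this
    exact this

/-- F2': the core step. -/
theorem step {A B : Type*} [CommRing A] [CommRing B] [Algebra A B] (C : Subalgebra A B)
    [Module.Finite A C] (p : Ideal A) [p.IsPrime]
    (hsupp : ∀ a : A, (∀ c ∈ C, a • c ∈ (⊥ : Subalgebra A B)) → a ∈ p)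
    (x : C) (hx : x ⊗ₜ[A] (1 : C) = (1 : C) ⊗ₜ[A] x) :
    ∃ t ∉ p, t • (x : B) ∈
      (p • Subalgebra.toSubmodule C ⊔ Subalgebra.toSubmodule (⊥ : Subalgebra A B)) := by
  let L : Submodule A C := LinearMap.range (Algebra.linearMap A C)
  let q : C →ₗ[A] (C ⧸ L) := L.mkQ
  have hq1 : q 1 = 0 := by
    rw [Submodule.mkQ_apply, Submodule.Quotient.mk_eq_zero]
    exact ⟨1, by simp⟩
  let κ := p.ResidueField
  have hann : Module.annihilator A (C ⧸ L) ≤ p := by
    intro a ha
    apply hsupp
    intro c hc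
    have h0 : a • q ⟨c, hc⟩ = 0 := Module.mem_annihilator.mp ha _
    rw [← map_smul, Submodule.mkQ_apply, Submodule.Quotient.mk_eq_zero] at h0
    obtain ⟨a', ha'⟩ := h0
    rw [Algebra.mem_bot]
    refine ⟨a', ?_⟩
    have := congrArg Subtype.val ha'
    simpa using this
  have hV : Nontrivial (κ ⊗[A] (C ⧸ L)) :=
    (Module.mem_support_iff_nontrivial_residueField_tensorProduct ⟨p, inferInstance⟩).mp
      (Module.mem_support_iff_of_finite.mpr hann)
  obtain ⟨v, hv⟩ := exists_ne (0 : κ ⊗[A] (C ⧸ L))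
  obtain ⟨lam, hlam⟩ : ∃ lam : Module.Dual κ (κ ⊗[A] (C ⧸ L)), lam v ≠ 0 := by
    by_contra hcon
    push Not at hcon
    exact hv ((Module.forall_dual_apply_eq_zero_iff κ v).mp hcon)
  obtain ⟨y, hy⟩ : ∃ y : C, lam ((1 : κ) ⊗ₜ[A] q y) ≠ 0 := by
    by_contra hcon
    push Not at hcon
    apply hlam
    have : lam = 0 := by
      apply TensorProduct.AlgebraTensorModule.ext
      intro c z
      obtain ⟨y, rfl⟩ := L.mkQ_surjective z
      have h1 : c ⊗ₜ[A] (L.mkQ y) = c • ((1 : κ) ⊗ₜ[A] q y) := by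
        rw [TensorProduct.smul_tmul', smul_eq_mul, mul_one]
      rw [h1, map_smul, hcon y, smul_zero]
      rfl
    rw [this]; rfl
  let Ψ : C ⊗[A] C →ₗ[A] κ ⊗[A] (C ⧸ L) := TensorProduct.lift (LinearMap.mk₂ A
    (fun a b => lam ((1 : κ) ⊗ₜ[A] q b) • ((1 : κ) ⊗ₜ[A] q a))
    (fun a a' b => by rw [map_add, TensorProduct.tmul_add, smul_add])
    (fun r a b => by rw [map_smul, TensorProduct.tmul_smul, smul_comm])
    (fun a b b' => by rw [map_add, TensorProduct.tmul_add, map_add, add_smul])
    (fun r a b => by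
      rw [map_smul, TensorProduct.tmul_smul]
      rw [LinearMap.map_smul_of_tower, smul_assoc]))
  have hkey : x ⊗ₜ[A] y = (1 : C) ⊗ₜ[A] (x * y) := by
    calc x ⊗ₜ[A] y = (x ⊗ₜ[A] (1 : C)) * ((1 : C) ⊗ₜ[A] y) := by
          rw [Algebra.TensorProduct.tmul_mul_tmul, mul_one, one_mul]
      _ = ((1 : C) ⊗ₜ[A] x) * ((1 : C) ⊗ₜ[A] y) := by rw [hx]
      _ = (1 : C) ⊗ₜ[A] (x * y) := by rw [Algebra.TensorProduct.tmul_mul_tmul, mul_one]
  have hΨ := congrArg Ψ hkey
  simp only [Ψ, TensorProduct.lift.tmul, LinearMap.mk₂_apply, hq1, TensorProduct.tmul_zero,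
    smul_zero] at hΨ
  have hx0 : (1 : κ) ⊗ₜ[A] q x = 0 := (smul_eq_zero.mp hΨ).resolve_left hy
  obtain ⟨t, htp, ht⟩ := exists_smul_mem_of_tmul_eq_zero p (q x) hx0
  refine ⟨t, htp, ?_⟩
  have h1 : (p • ⊤ : Submodule A (C ⧸ L)) = Submodule.map q (p • ⊤) := by
    rw [Submodule.map_smul'', Submodule.map_top, LinearMap.range_eq_top.mpr L.mkQ_surjective]
  rw [h1] at ht
  obtain ⟨w, hw, hwq⟩ := ht
  have h2 : t • x - w ∈ L := by
    rw [← Submodule.Quotient.mk_eq_zero, Submodule.Quotient.mk_sub]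
    have : q w = q (t • x) := by rw [hwq, map_smul]
    rw [sub_eq_zero]
    exact this.symm
  obtain ⟨a, ha⟩ := h2
  have h3 : t • (x : B) = (w : B) + algebraMap A B a := by
    have := congrArg Subtype.val ha
    simp only [Algebra.linearMap_apply, Subalgebra.coe_algebraMap, AddSubgroupClass.coe_sub,
      Subalgebra.coe_smul] at this
    rw [this]; ring
  rw [h3]
  apply Submodule.add_mem_sup
  · have h4 : (p • Subalgebra.toSubmodule C) = Submodule.map C.val.toLinearMap (p • ⊤) := by
      rw [Submodule.map_smul'', Submodule.map_top]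
      congr 1
      ext b
      simp
    rw [h4]
    exact ⟨w, hw, rfl⟩
  · exact Subalgebra.algebraMap_mem _ a

/-- Uniform multiplier for a finitely generated submodule. -/
theorem exists_uniform {A M : Type*} [CommRing A] [AddCommGroup M] [Module A M]
    (p : Ideal A) [hp : p.IsPrime] (N P : Submodule A M) (hfg : P.FG)
    (h : ∀ z ∈ P, ∃ t ∉ p, t • z ∈ N) : ∃ t ∉ p, ∀ z ∈ P, t • z ∈ N := by
  classical
  obtain ⟨G, hG⟩ := hfg
  have h' : ∀ z : M, ∃ t : A, z ∈ P → (t ∉ p ∧ t • z ∈ N) := by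
    intro z
    by_cases hz : z ∈ P
    · obtain ⟨t, h1, h2⟩ := h z hz
      exact ⟨t, fun _ => ⟨h1, h2⟩⟩
    · exact ⟨0, fun h => absurd h hz⟩
  choose τ hτ using h'
  have hGP : ∀ g ∈ G, g ∈ P := fun g hg => hG ▸ Submodule.subset_span hg
  refine ⟨∏ g ∈ G, τ g, ?_, ?_⟩
  · rw [Ideal.IsPrime.prod_mem_iff]
    rintro ⟨g, hg, hgp⟩
    exact (hτ g (hGP g hg)).1 hgp
  · intro z hz
    rw [← hG] at hz
    induction hz using Submodule.span_induction with
    | mem g hg =>
      rw [← Finset.prod_erase_mul G τ hg, mul_smul]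
      exact N.smul_mem _ (hτ g (hGP g hg)).2
    | zero => rw [smul_zero]; exact N.zero_mem
    | add x y _ _ hx hy => rw [smul_add]; exact N.add_mem hx hy
    | smul a x _ hx => rw [smul_comm]; exact N.smul_mem _ hx


/-- Let A be a Noetherian ring and B a finite A-algebra with A → B injective (a finite schematically
dominant morphism Spec B → Spec A). Define subalgebras B_0 = B and B_{i+1} = the equalizer of the
two maps B_i ⇉ B_i ⊗_A B_i, b ↦ b ⊗ 1, 1 ⊗ b. Then B_m = A (the image of A) for some m; equivalently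
Spec B → Spec A factors as a finite chain of finite morphisms Spec B_i → Spec B_{i+1} each of which
is an effective epimorphism (B_{i+1} is the equalizer of B_i ⇉ B_i ⊗_{B_{i+1}} B_i). The sequence is
given here as any family C of subalgebras satisfying the recursion. (The published statement is for
a finite morphism X → Y of schemes with Y Noetherian and O_Y → f_*O_X injective; this row is the
affine case.) -/
theorem result (A B : Type u) [CommRing A] [CommRing B] [Algebra A B]
    [IsNoetherianRing A] [Module.Finite A B] (hinj : Function.Injective (algebraMap A B))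
    (C : ℕ → Subalgebra A B) (h0 : C 0 = ⊤)
    (hstep : ∀ (i : ℕ) (b : B), b ∈ C (i + 1) ↔ ∃ hb : b ∈ C i,
      ((⟨b, hb⟩ : C i) ⊗ₜ[A] (1 : C i) : C i ⊗[A] C i) = (1 : C i) ⊗ₜ[A] (⟨b, hb⟩ : C i)) :
    ∃ m : ℕ, C m = ⊥ := by
  classical
  have hNoeth : IsNoetherian A B := isNoetherian_of_isNoetherianRing_of_finite A B
  have hsucc : ∀ i, C (i + 1) ≤ C i := fun i b hb => ((hstep i b).mp hb).1
  have hanti : ∀ i j, i ≤ j → C j ≤ C i := by
    intro i j hij
    induction hij with
    | refl => exact le_rfl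
    | step _ ih => exact (hsucc _).trans ih
  let A' : Submodule A B := Subalgebra.toSubmodule (⊥ : Subalgebra A B)
  let S : ℕ → Submodule A B := fun i => Subalgebra.toSubmodule (C i)
  have hSanti : ∀ i j, i ≤ j → S j ≤ S i := fun i j hij => hanti i j hij
  let I : ℕ →o Ideal A :=
    { toFun := fun i => A'.colon (S i : Set B)
      monotone' := fun i j hij a ha => by
        rw [Submodule.mem_colon] at ha ⊢
        exact fun z hz => ha z (hSanti i j hij hz) }
  obtain ⟨N, hN⟩ := (monotone_stabilizes_iff_noetherian (R := A) (M := A)).mpr inferInstance I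
  by_cases htop : I N = ⊤
  · refine ⟨N, ?_⟩
    rw [eq_bot_iff]
    intro b hb
    have h1 : (1 : A) ∈ I N := by rw [htop]; trivial
    have := (Submodule.mem_colon.mp h1) b hb
    rw [one_smul] at this
    exact this
  exfalso
  obtain ⟨⟨p, hp⟩⟩ := Ideal.nonempty_minimalPrimes htop
  have hpp : p.IsPrime := hp.1.1
  have hIp : I N ≤ p := hp.1.2
  obtain ⟨s, hsp, k, hsk⟩ := exists_notMem_mul_pow_le (I N) p hp
  -- one step
  have hone : ∀ i, N ≤ i → ∃ t ∉ p, ∀ z ∈ S (i + 1), t • z ∈ p • S i ⊔ A' := by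
    intro i hi
    apply exists_uniform p _ _ (IsNoetherian.noetherian _)
    intro z hz
    obtain ⟨hb, hten⟩ := (hstep i z).mp hz
    have hfin : Module.Finite A (C i) := Module.Finite.of_fg (IsNoetherian.noetherian (S i))
    apply step (C i) p _ ⟨z, hb⟩ hten
    intro a ha
    apply hIp
    rw [hN i hi]
    exact Submodule.mem_colon.mpr ha
  -- induction
  have hind : ∀ j, ∃ u ∉ p, ∀ z ∈ S (N + j), u • z ∈ p ^ j • S N ⊔ A' := by
    intro j
    induction j with
    | zero =>
      refine ⟨1, fun h => hpp.ne_top ((Ideal.eq_top_iff_one p).mpr h), fun z hz => ?_⟩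
      rw [one_smul, pow_zero, Ideal.one_eq_top, Submodule.top_smul]
      exact Submodule.mem_sup_left hz
    | succ j ih =>
      obtain ⟨u, hup, hu⟩ := ih
      obtain ⟨t, htp, ht⟩ := hone (N + j) (Nat.le_add_right N j)
      refine ⟨u * t, fun h => (hpp.mem_or_mem h).elim hup htp, fun z hz => ?_⟩
      have h1 := ht z hz
      rw [mul_smul]
      have hmap : Submodule.map (LinearMap.lsmul A B u) (p • S (N + j) ⊔ A') ≤
          p ^ (j + 1) • S N ⊔ A' := by
        rw [Submodule.map_sup, Submodule.map_smul'']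
        apply sup_le
        · have h2 : Submodule.map (LinearMap.lsmul A B u) (S (N + j)) ≤ p ^ j • S N ⊔ A' := by
            rintro _ ⟨w, hw, rfl⟩
            exact hu w hw
          refine (Submodule.smul_mono (le_refl p) h2).trans ?_
          rw [Submodule.smul_sup, ← Submodule.mul_smul, ← pow_succ']
          exact sup_le_sup_left Submodule.smul_le_right _
        · rintro _ ⟨w, hw, rfl⟩
          exact Submodule.mem_sup_right (A'.smul_mem u hw)
      exact hmap ⟨t • z, h1, rfl⟩
  obtain ⟨u, hup, hu⟩ := hind k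
  have hmem : s * u ∈ I (N + k) := by
    change s * u ∈ A'.colon (S (N + k) : Set B)
    rw [Submodule.mem_colon]
    intro z hz
    rw [mul_smul]
    have h1 := hu z hz
    have hmap : Submodule.map (LinearMap.lsmul A B s) (p ^ k • S N ⊔ A') ≤ A' := by
      rw [Submodule.map_sup]
      apply sup_le
      · rw [Submodule.map_le_iff_le_comap]
        rw [Submodule.smul_le]
        intro a ha w hw
        rw [Submodule.mem_comap, LinearMap.lsmul_apply, ← mul_smul]
        have : s * a ∈ I N := hsk a ha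
        exact (Submodule.mem_colon.mp this) w hw
      · rintro _ ⟨w, hw, rfl⟩
        exact A'.smul_mem s hw
    exact hmap ⟨u • z, h1, rfl⟩
  rw [← hN (N + k) (Nat.le_add_right N k)] at hmem
  exact (hpp.mem_or_mem (hIp hmem)).elim hsp hup

end Groth.Agent.S5663
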