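import Groth.Statements.S5670
import Mathlib
import Groth.Agent.Lib.Helper10.FEtDirect

set_option autoImplicit false
universe u
open Pi1

namespace Groth.Agent.S5670

open CategoryTheory CategoryTheory.Limits AlgebraicGeometry in
/-- Let `f : X → Y` be a proper morphism of Noetherian schemes such that `O_Y → f_* O_X` is an
isomorphism (bijective on sections over every open of `Y`). Then for every connected finite étale
`Y'` over `Y`, the base change `X ×_Y Y'` is connected; equivalently, `f` induces a surjection on
étale fundamental groups. -/
theorem result {X Y Y' : Scheme.{u}} (f : X ⟶ Y) [IsProper f] [IsNoetherian X] [IsNoetherian Y] (hf : ∀ U : Y.Opens, Function.Bijective (f.app U)) (g : Y' ⟶ Y) [IsFinite g] [Etale g] [ConnectedSpace Y'] : ConnectedSpace ↥(pullback f g) := by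
  have hpb : IsPullback (pullback.snd f g) (pullback.fst f g) g f :=
    (IsPullback.of_hasPullback f g).flip
  have hd : DenseRange f :=
    Groth.Agent.Lib.Helper10.FEtDirect.denseRange_of_app_injective f (fun U => (hf U).1)
  have hne : Nonempty ↥(pullback f g) := by
    obtain ⟨z, -⟩ := Groth.Agent.Lib.Helper10.FEtDirect.exists_mem_of_isPullback f hd g
      g.isOpenMap (pullback.snd f g) (pullback.fst f g) hpb Set.univ isOpen_univ Set.univ_nonempty
    exact ⟨z⟩
  have hpre : PreconnectedSpace ↥(pullback f g) := by
    rw [preconnectedSpace_iff_clopen]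
    intro C hC
    obtain ⟨T, hT, hTC⟩ := Groth.Agent.Lib.Helper10.FEtDirect.exists_clopen_preimage f hf g
      (pullback.snd f g) (pullback.fst f g) hpb C hC
    rcases isClopen_iff.mp hT with h | h
    · left
      rw [← hTC, h, Set.preimage_empty]
    · right
      rw [← hTC, h, Set.preimage_univ]
  exact { toPreconnectedSpace := hpre, toNonempty := hne }

end Groth.Agent.S5670
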