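import Groth.Statements.S5671
import Groth.Agent.Lib.Helper16.GorensteinTopLC
import Groth.Agent.Lib.Helper16.RegularGorenstein
import Groth.Agent.Lib.Helper18.Ischebeck

set_option autoImplicit false
universe u
open CategoryTheory
open Dual

namespace Groth.Agent.S5671

section helpers
open CategoryTheory
open Dual

theorem result_aux (A : Type u) [CommRing A] [IsRegularLocalRing A] (M : Type u) [AddCommGroup M] [Module A M] [Module.Finite A M] (p : ℕ) (hdim : Module.supportDim A M + p ≤ ringKrullDim A) (i : ℕ) (hi : i < p) : Subsingleton (Abelian.Ext (ModuleCat.of A M) (ModuleCat.of A A) i) := by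
  have := Groth.Agent.Lib.Helper16.RegGor.isGorensteinLocalRing_of_isRegularLocalRing A
  by_cases hM : Subsingleton M
  · exact Groth.Agent.Lib.Helper16.Depth.subsingleton_ext_of_isZero_left
      (ModuleCat.isZero_of_subsingleton (ModuleCat.of A M)) _ i
  · rw [not_subsingleton_iff_nontrivial] at hM
    have hfin : ((IsLocalRing.maximalIdeal A).spanFinrank : WithBot ℕ∞) = ringKrullDim A :=
      IsRegularLocalRing.spanFinrank_maximalIdeal
    obtain ⟨n, hn⟩ : ∃ n : ℕ, ringKrullDim A = n := ⟨_, hfin.symm⟩
    obtain ⟨r, hr⟩ := Groth.Agent.Lib.Helper18.CM.exists_nat_eq_supportDim (R := A) M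
    have hd : LocCoh.depth A A = n := Groth.Agent.Lib.Helper16.GorTop.depth_eq hn
    rw [hr, hn] at hdim
    have hrp : r + p ≤ n := by exact_mod_cast hdim
    exact Groth.Agent.Lib.Helper18.CM.ischebeck_aux A n (by rw [hd]) r M (by rw [hr]) i (by omega)

end helpers

/-- First assertion, in the local-algebra form to which its proof reduces it: let `A` be a regular local
ring of dimension `n`, `p ≥ 0`, and `M` a finite `A`-module whose support has dimension at most `n -
p`. Then `Ext^i_A(M, A) = 0` for every `i < p`. (The geometric statement: on a nonsingular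
`n`-dimensional variety the sheaves `Ext^i(F, L)` vanish for `i < p` when `F` is coherent with
support of dimension `≤ n - p` and `L` is locally free.) -/
theorem result (A : Type u) [CommRing A] [IsRegularLocalRing A] (M : Type u) [AddCommGroup M] [Module A M] [Module.Finite A M] (p : ℕ) (hdim : Module.supportDim A M + p ≤ ringKrullDim A) (i : ℕ) (hi : i < p) : Subsingleton (Abelian.Ext (ModuleCat.of A M) (ModuleCat.of A A) i) := by
  exact result_aux A M p hdim i hi

end Groth.Agent.S5671
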