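import Groth.Statements.S5672
import Groth.Agent.Lib.Helper16.ExtRepresentOne
import Groth.Agent.S5671

set_option autoImplicit false
universe u
open CategoryTheory
open Dual

namespace Groth.Agent.S5672

section helpers
open CategoryTheory
open Dual

theorem result_aux (A : Type u) [CommRing A] [IsRegularLocalRing A] (p : ℕ) (J : Ideal A) (hJ : ringKrullDim (A ⧸ J) + p ≤ ringKrullDim A) (M : Type u) [AddCommGroup M] [Module A M] [Module.Finite A M] (hJM : J • (⊤ : Submodule A M) = ⊥) : Function.Injective (fun ξ : Abelian.Ext (ModuleCat.of A M) (ModuleCat.of A A) p => fun u : (A ⧸ J) →ₗ[A] M => (Abelian.Ext.mk₀ (ModuleCat.ofHom u)).comp ξ (zero_add p)) ∧ ∀ g : ((A ⧸ J) →ₗ[A] M) →ₗ[A] Abelian.Ext (ModuleCat.of A (A ⧸ J)) (ModuleCat.of A A) p, ∃ ξ : Abelian.Ext (ModuleCat.of A M) (ModuleCat.of A A) p, ∀ u : (A ⧸ J) →ₗ[A] M, g u = (Abelian.Ext.mk₀ (ModuleCat.ofHom u)).comp ξ (zero_add p) := by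
  have hV : Groth.Agent.Lib.Helper16.ExtRep.Vanish J p (ModuleCat.of A A) := by
    intro F' _ k hk i hi
    have hsub : Module.support A F' ⊆ Module.support A (A ⧸ J) := by
      intro q hq
      rw [Module.support_eq_zeroLocus, Ideal.annihilator_quotient, PrimeSpectrum.mem_zeroLocus]
      have h1 : Module.annihilator A F' ≤ q.asIdeal := Module.mem_support_iff_of_finite.mp hq
      have h2 : J ^ k ≤ Module.annihilator A F' := by
        intro a ha
        rw [Module.mem_annihilator]
        exact fun x => hk a ha x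
      have := q.isPrime
      exact Ideal.IsPrime.le_of_pow_le (h2.trans h1)
    have hle : Module.supportDim A F' ≤ ringKrullDim (A ⧸ J) := by
      rw [← Module.supportDim_quotient_eq_ringKrullDim]
      exact Order.krullDim_le_of_strictMono (fun a => ⟨a.1, hsub a.2⟩) (fun {_ _} lt => lt)
    have hdim : Module.supportDim A F' + (p : WithBot ℕ∞) ≤ ringKrullDim A :=
      (add_le_add_left hle _).trans hJ
    exact Groth.Agent.S5671.result A F' p hdim i (by omega)
  have hJM' : ∀ a ∈ J, ∀ x : M, a • x = 0 := by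
    intro a ha x
    have : a • x ∈ J • (⊤ : Submodule A M) := Submodule.smul_mem_smul ha Submodule.mem_top
    rw [hJM] at this
    exact (Submodule.mem_bot A).1 this
  exact Groth.Agent.Lib.Helper16.ExtRep.psi_bijective hV M hJM'

end helpers

/-- Let `A` be a regular local ring of dimension `n`, `J` an ideal with `dim(A/J) ≤ n - p`, and `M` a
finite `A`-module with `JM = 0`. For `ξ ∈ Ext^p_A(M, A)` and an `A`-linear `u : A/J → M` write `u^*ξ
∈ Ext^p_A(A/J, A)` for the pullback. Then `ξ ↦ (u ↦ u^*ξ)` is injective, and every `A`-linear map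
`Hom_A(A/J, M) → Ext^p_A(A/J, A)` is of the form `u ↦ u^*ξ` for some `ξ`. Since `Hom_A(A/J, M) = M`
here, this says that the canonical map `Ext^p_A(M, A) → Hom_A(M, Ext^p_A(A/J, A))` is bijective. -/
theorem result (A : Type u) [CommRing A] [IsRegularLocalRing A] (p : ℕ) (J : Ideal A) (hJ : ringKrullDim (A ⧸ J) + p ≤ ringKrullDim A) (M : Type u) [AddCommGroup M] [Module A M] [Module.Finite A M] (hJM : J • (⊤ : Submodule A M) = ⊥) : Function.Injective (fun ξ : Abelian.Ext (ModuleCat.of A M) (ModuleCat.of A A) p => fun u : (A ⧸ J) →ₗ[A] M => (Abelian.Ext.mk₀ (ModuleCat.ofHom u)).comp ξ (zero_add p)) ∧ ∀ g : ((A ⧸ J) →ₗ[A] M) →ₗ[A] Abelian.Ext (ModuleCat.of A (A ⧸ J)) (ModuleCat.of A A) p, ∃ ξ : Abelian.Ext (ModuleCat.of A M) (ModuleCat.of A A) p, ∀ u : (A ⧸ J) →ₗ[A] M, g u = (Abelian.Ext.mk₀ (ModuleCat.ofHom u)).comp ξ (zero_add p) := by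
  exact result_aux A p J hJ M hJM

end Groth.Agent.S5672
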