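import Groth.Statements.S5674
import Mathlib
import Groth.Agent.Lib.Helper17.LGExt
import Groth.Agent.Lib.Helper17.ExtDepth
import Groth.Agent.Lib.Helper18.MCMFree
import Groth.Agent.Lib.Helper28.DCohRes22
import Groth.Agent.Lib.Helper25.BlowUpRegGen
import Groth.Agent.Lib.Helper24.GerbRes8
import Groth.Agent.Lib.Helper25.SmoothLocalDimScheme
import Groth.Agent.Lib.Helper21.FibDim5
import Groth.Agent.Lib.Helper21.Img1
import Groth.Agent.Lib.Helper29.ZeroDim
import Groth.Agent.Lib.Lead.SD.LowVanish
import Groth.Agent.S0485

set_option autoImplicit false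
universe u
open CategoryTheory CategoryTheory.Limits AlgebraicGeometry
open ProjDual

namespace Groth.Agent.S5674

/-- Let `k` be an algebraically closed field, `X` a nonsingular algebraic set of dimension `n` over `k`
— here: a quasi-compact `k`-scheme smooth of relative dimension `n` over `k` — `F` a coherent
`O_X`-module whose support has dimension at most `n - p`, and `L` a finite locally free
`O_X`-module. Then the (global) groups `Ext^i_{O_X}(F, L)` vanish for `i < p`. (All components of
`X` have dimension `n`; for a nonsingular algebraic set with a component of smaller dimension the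
conclusion fails. The Ext instance on the category of `O_X`-modules is taken as a hypothesis; it
holds since that category is Grothendieck abelian.) -/
theorem result (k : Type u) [Field k] [IsAlgClosed k] (n : ℕ) (X : Scheme.{u}) [X.Over (Spec (CommRingCat.of k))] [SmoothOfRelativeDimension n (X ↘ Spec (CommRingCat.of k))] [CompactSpace X] [HasExt.{u} X.Modules] (F : X.Modules) (hF : Coh.IsCoh F) (L : X.Modules) (hL : FlatMod.IsFinLocFree L) (p : ℕ) (hsupp : topologicalKrullDim ↥(CohB1.support F) + p ≤ n) (i : ℕ) (hi : i < p) : Subsingleton (Abelian.Ext F L i) := by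
  haveI : Smooth (X ↘ Spec (CommRingCat.of k)) :=
    SmoothOfRelativeDimension.smooth n (X ↘ Spec (CommRingCat.of k))
  haveI : LocallyOfFiniteType (X ↘ Spec (CommRingCat.of k)) := inferInstance
  haveI : IsLocallyNoetherian X :=
    LocallyOfFiniteType.isLocallyNoetherian (X ↘ Spec (CommRingCat.of k))
  haveI : EnoughInjectives X.Modules :=
    Groth.Agent.S0485.result (Opens.grothendieckTopology X) X.ringCatSheaf
  haveI : HasInjectiveResolutions (ModSite.Mod X.sheaf) :=
    inferInstanceAs (HasInjectiveResolutions X.Modules)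
  haveI : ModSite.HasSheafHom (O := X.sheaf) F := Groth.Agent.Lib.Helper17.IHom.hasSheafHom _
  have hLc : Coh.IsCoh L := Groth.Agent.Lib.Lead.SD.isCoh_of_isFinLocFree hL
  haveI : F.IsFiniteType := hF.2
  have hcl : IsClosed (CohB1.support F) :=
    Groth.Agent.Lib.Helper29.QCoh.isClosed_support_of_isFiniteType F
  have hz : ∀ q, q < p → IsZero ((ModSite.extSh (O := X.sheaf) F q).obj L) := by
    intro q hq
    refine Groth.Agent.Lib.Helper17.ExtDepth.isZero_extSh_of_le_depth F L hF hLc p ?_ q hq
    intro x hx
    haveI : IsRegularLocalRing ((Spec (CommRingCat.of k)).presheaf.stalk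
        ((X ↘ Spec (CommRingCat.of k)) x)) :=
      Groth.Agent.Lib.Helper24.GerbRes8.isRegularLocalRing_stalk_spec_field k _
    haveI : IsRegularLocalRing (X.presheaf.stalk x) :=
      Groth.Agent.Lib.Helper25.BlowUpRegGen.isRegularLocalRing_stalk_of_smooth
        (X ↘ Spec (CommRingCat.of k)) x
    haveI : Module.Flat (X.presheaf.stalk x) (L.presheaf.stalk x) :=
      Groth.Agent.Lib.Helper28.DCohRes.isFlat_of_isFinLocFree hL x
    have h1 := Groth.Agent.Lib.Helper18.CM.ringKrullDim_le_depth_of_free
      (X.presheaf.stalk x) (L.presheaf.stalk x)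
    obtain ⟨a, ha⟩ := Groth.Agent.Lib.Helper21.FibDim.exists_nat_trdeg k X x
    have h2 := Groth.Agent.Lib.Helper21.FibDim.topologicalKrullDim_closure_singleton k X x a ha
    obtain ⟨b, hb⟩ := Groth.Agent.Lib.Helper21.exists_nat_eq_ringKrullDim
      (R := X.presheaf.stalk x)
    have h3 := Groth.Agent.Lib.Helper21.ChartPt.localDim_eq_add k X x a b ha hb
    have h4 := Groth.Agent.Lib.Helper25.SmoothRelDimRank.localDim_eq_of_smoothOfRelativeDimension
      (X ↘ Spec (CommRingCat.of k)) n x
    have h5 : topologicalKrullDim ↥(closure ({x} : Set X)) ≤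
        topologicalKrullDim ↥(CohB1.support F) :=
      Groth.Agent.Lib.Helper21.Img.topologicalKrullDim_mono
        (hcl.closure_subset_iff.mpr (Set.singleton_subset_iff.mpr hx))
    have hab : a + b = n := by
      rw [h3] at h4
      exact_mod_cast h4
    have hap : a + p ≤ n := by
      have h6 : ((a : WithBot ℕ∞)) + (p : WithBot ℕ∞) ≤ (n : WithBot ℕ∞) := by
        rw [← h2]
        exact (add_le_add_left h5 _).trans hsupp
      exact_mod_cast h6
    have hpb : p ≤ b := by omega
    rw [hb] at h1
    have h7 : ((p : ℕ∞) : WithBot ℕ∞) ≤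
        ((LocCoh.depth (X.presheaf.stalk x) (L.presheaf.stalk x) : ℕ∞) : WithBot ℕ∞) :=
      le_trans (by exact_mod_cast hpb) h1
    exact_mod_cast h7
  obtain ⟨e⟩ := Groth.Agent.Lib.Helper17.LGExt.nonempty_ext_linearEquiv k F L i
    (fun q hq p' => Groth.Agent.Lib.Lead.Koszul.subsingleton_HH_of_isZero k (hz q (hq.trans hi)) _)
  haveI := Groth.Agent.Lib.Lead.Koszul.subsingleton_HH_of_isZero k (hz i hi) 0
  exact e.toEquiv.subsingleton

end Groth.Agent.S5674
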