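import Groth.Statements.S5675
import Mathlib
import Groth.Agent.Lib.Helper11.FundLoc3
import Groth.Agent.Lib.Helper16.ReesExt

set_option autoImplicit false
universe u
open CategoryTheory
open Dual

namespace Groth.Agent.S5675

/-- Let `k` be a perfect field, `A` a regular affine `k`-algebra of dimension `n` — here: `A` finitely
generated and smooth over `k` with `Ω_{A/k}` of rank `n` at every prime — and `xs = (x_1, …, x_p)`,
`p ≤ n`, a sequence with each `x_i` a non-zero-divisor on `A/(x_1, …, x_{i-1})`, generating an ideal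
`J` such that `A/J` is again a regular (smooth) affine `k`-algebra. Write `Ω^m` for `m`-th exterior
powers of Kähler differentials. Then `Ext^p_A(Ω^(n-p)(A/J), Ω^n(A))` is isomorphic to `A/J` as an
`A`-module. (Existence of an `A`-linear isomorphism only; the published one is canonical and
compatible with localisation, its unit being the fundamental class of `J` in `A`.) -/
theorem result (k : Type u) [Field k] [PerfectField k] (A : Type u) [CommRing A] [Algebra k A] [Algebra.FiniteType k A] [Algebra.Smooth k A] (n : ℕ) (hn : ∀ q : PrimeSpectrum A, Module.rankAtStalk (Ω[A⁄k]) q = n) (xs : List A) (hreg : RingTheory.Sequence.IsWeaklyRegular A xs) (J : Ideal A) (hJ : Ideal.ofList xs = J) [Algebra.Smooth k (A ⧸ J)] (p : ℕ) (hp : xs.length = p) (hpn : p ≤ n) : Nonempty (Abelian.Ext (ModuleCat.of A ↥((⋀[A ⧸ J]^(n - p) (Ω[(A ⧸ J)⁄k])).restrictScalars A)) (ModuleCat.of A ↥(⋀[A]^n (Ω[A⁄k]))) p ≃ₗ[A] (A ⧸ J)) :=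 by
  classical
  subst hJ
  subst hp
  set J := Ideal.ofList xs with hJdef
  have hf : Function.Surjective (algebraMap A (A ⧸ J)) := Ideal.Quotient.mk_surjective
  have hreg' : RingTheory.Sequence.IsWeaklyRegular A (List.ofFn xs.get) := by
    rw [List.ofFn_get]; exact hreg
  have hI : J = Ideal.span (Set.range xs.get) := by rw [Set.range_list_get]
  obtain ⟨hrank, ⟨χ⟩⟩ := Groth.Agent.Lib.Helper11.FundLoc.exists_det_restrict k A n hn xs.length
    xs.get hreg' J hI hpn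
  obtain ⟨m, f, g, -, -, hfg⟩ := Module.Finite.exists_comp_eq_id_of_projective A Ω[A⁄k]
  have hMproj : Module.Projective A (⋀[A]^n Ω[A⁄k]) :=
    Module.Projective.of_split (exteriorPower.map n g) (exteriorPower.map n f)
      (by rw [← exteriorPower.map_comp, hfg, exteriorPower.map_id])
  have hMreg : RingTheory.Sequence.IsWeaklyRegular (⋀[A]^n Ω[A⁄k]) xs :=
    (LinearEquiv.isWeaklyRegular_congr (TensorProduct.rid A _) xs).1
      (hreg.isWeaklyRegular_lTensor (M₂ := ⋀[A]^n Ω[A⁄k]))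
  have hN : ∀ r ∈ xs, ∀ y : ↥((⋀[A ⧸ J]^(n - xs.length) (Ω[(A ⧸ J)⁄k])).restrictScalars A),
      r • y = 0 := by
    intro r hr y
    have h0 : algebraMap A (A ⧸ J) r = 0 :=
      Ideal.Quotient.eq_zero_iff_mem.2 (Ideal.subset_span hr)
    apply Subtype.ext
    have : ((r • y : _) : ExteriorAlgebra (A ⧸ J) (Ω[(A ⧸ J)⁄k])) = algebraMap A (A ⧸ J) r • (y : ExteriorAlgebra (A ⧸ J) (Ω[(A ⧸ J)⁄k])) := by
      rw [algebraMap_smul]
      rfl
    rw [this, h0, zero_smul]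
    rfl
  obtain ⟨-, ⟨eR⟩⟩ := Groth.Agent.Lib.Helper16.Rees.rees
    ↥((⋀[A ⧸ J]^(n - xs.length) (Ω[(A ⧸ J)⁄k])).restrictScalars A) xs hN (⋀[A]^n Ω[A⁄k]) hMreg
  obtain ⟨eE⟩ := Groth.Agent.Lib.Helper11.FundLoc.exists_end_top_equiv (A ⧸ J) Ω[(A ⧸ J)⁄k]
    (n - xs.length) hrank
  let e1 : ↥((⋀[A ⧸ J]^(n - xs.length) (Ω[(A ⧸ J)⁄k])).restrictScalars A) ≃ₗ[A]
      ⋀[A ⧸ J]^(n - xs.length) (Ω[(A ⧸ J)⁄k]) :=
    (Submodule.restrictScalarsEquiv A (A ⧸ J) _ _).restrictScalars A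
  let e2 : ((⋀[A]^n Ω[A⁄k]) ⧸ (J • ⊤ : Submodule A (⋀[A]^n Ω[A⁄k]))) ≃ₗ[A]
      ⋀[A ⧸ J]^(n - xs.length) (Ω[(A ⧸ J)⁄k]) :=
    (TensorProduct.quotTensorEquivQuotSMul _ J).symm.trans (χ.restrictScalars A)
  let e4 : ((⋀[A ⧸ J]^(n - xs.length) (Ω[(A ⧸ J)⁄k])) →ₗ[A] (⋀[A ⧸ J]^(n - xs.length) (Ω[(A ⧸ J)⁄k])))
      ≃ₗ[A] ((⋀[A ⧸ J]^(n - xs.length) (Ω[(A ⧸ J)⁄k])) →ₗ[A ⧸ J] (⋀[A ⧸ J]^(n - xs.length) (Ω[(A ⧸ J)⁄k]))) :=
    LinearMap.extendScalarsOfSurjectiveEquiv hf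
  exact ⟨eR.trans ((LinearEquiv.arrowCongr e1 e2).trans (e4.trans (eE.restrictScalars A)))⟩

end Groth.Agent.S5675
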