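import Groth.Statements.S5683
-- import your own Groth.Agent.* helpers here
import Groth.Agent.Lib.Helper29.UnitIso

set_option autoImplicit false
universe u
open CategoryTheory CategoryTheory.Limits AlgebraicGeometry
open FGA

namespace Groth.Agent.S5683

/-- Let f : X ⟶ S be a morphism of schemes such that for every open U of S the induced map from sections
of the structure sheaf of S over U to sections of the structure sheaf of X over the inverse image of
U is bijective. If L is an invertible module on S whose pullback to X is isomorphic to the structure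
sheaf of X, then L is isomorphic to the structure sheaf of S: pullback of invertible modules along f
is injective on isomorphism classes. This is exactness at Pic(S). -/
theorem result {X S : Scheme.{u}} (f : X ⟶ S)
    (hf : ∀ U : S.Opens, Function.Bijective (f.app U)) (L : S.Modules) (hL : PicF.IsInvertible L)
    (htriv : Nonempty ((Scheme.Modules.pullback f).obj L ≅ Coh.structureModule X)) :
    Nonempty (L ≅ Coh.structureModule S) := by
  obtain ⟨e⟩ := htriv
  let adj := Scheme.Modules.pullbackPushforwardAdjunction f
  have hL' : FlatMod.IsFinLocFree L :=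
    Groth.Agent.Lib.Helper29.QCoh.isFinLocFree_of_isFinLocFreeOfRank
      ((Groth.Agent.Lib.Helper29.QCoh.isInvertible_iff_isFinLocFreeOfRank_one L).mp hL)
  have hO : FlatMod.IsFinLocFree (Groth.Agent.Lib.Helper29.QCoh.unitM S) :=
    Groth.Agent.Lib.Helper29.QCoh.isFinLocFree_of_isFinLocFreeOfRank
      ((Groth.Agent.Lib.Helper29.QCoh.isInvertible_iff_isFinLocFreeOfRank_one _).mp
        (Groth.Agent.Lib.Helper29.QCoh.isInvertible_unit S))
  haveI := Groth.Agent.Lib.Helper29.QCoh.isIso_unit_of_isFinLocFree f hf hL'
  haveI := Groth.Agent.Lib.Helper29.QCoh.isIso_unit_of_isFinLocFree f hf hO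
  exact ⟨asIso (adj.unit.app L) ≪≫ (Scheme.Modules.pushforward f).mapIso e ≪≫
    (Scheme.Modules.pushforward f).mapIso (Groth.Agent.Lib.Helper29.QCoh.pullbackUnitIso f).symm ≪≫
    (asIso (adj.unit.app (Groth.Agent.Lib.Helper29.QCoh.unitM S))).symm⟩

end Groth.Agent.S5683
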