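import Groth.Statements.S5684
-- import your own Groth.Agent.* helpers here
import Groth.Agent.Lib.Helper29.PTD4

set_option autoImplicit false
universe u
open CategoryTheory CategoryTheory.Limits AlgebraicGeometry
open FGA

namespace Groth.Agent.S5684

open Groth.Agent.Lib.Helper29.QCoh Groth.Agent.Lib.Helper29.FBCFlat Groth.Agent.Lib.Helper29.PTD
  Groth.Agent.Lib.Helper29.AmpDesc Groth.Agent.Lib.Helper29 TopologicalSpace Opposite in
theorem hloc_aux {X S S' : Scheme.{u}} (f : X ⟶ S)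
    [QuasiCompact f] [IsSeparated f] (hf : ∀ U : S.Opens, Function.Bijective (f.app U))
    (g : S' ⟶ S) [Flat g] [Surjective g] [QuasiCompact g]
    (L : X.Modules) (hL : PicF.IsInvertible L) (N' : S'.Modules) (hN' : PicF.IsInvertible N')
    (φ : (Scheme.Modules.pullback (pullback.fst f g)).obj L ≅
      (Scheme.Modules.pullback (pullback.snd f g)).obj N') (y : S) :
    ∃ U : S.Opens, y ∈ U ∧ ∃ t : Γ(L, f ⁻¹ᵁ U), IsTriv L (f ⁻¹ᵁ U) t := by
  obtain ⟨V, hV, hyV, -⟩ := exists_isAffineOpen_mem_and_subset (x := y) (U := ⊤) trivial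
  have hc : IsCompact ((g ⁻¹ᵁ V : S'.Opens) : Set S') :=
    QuasiCompact.isCompact_preimage (f := g) _ V.2 hV.isCompact
  have hz : ∀ z : ↥(g ⁻¹ᵁ V), ∃ W : S'.Opens, IsAffineOpen W ∧ z.1 ∈ W ∧ W ≤ g ⁻¹ᵁ V ∧
      ∃ e : Γ(N', W), IsTriv N' W e := by
    intro z
    obtain ⟨W, e, hWaff, hzW, hWle, he⟩ := exists_affine_isTriv hN' (W := g ⁻¹ᵁ V) z.1 z.2
    exact ⟨W, hWaff, hzW, hWle, e, he⟩
  choose Wz hWaff hzW hWle e he using hz
  obtain ⟨t, ht⟩ := hc.elim_finite_subcover (fun z : ↥(g ⁻¹ᵁ V) => ((Wz z : S'.Opens) : Set S'))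
    (fun z => (Wz z).2) (fun x hx => Set.mem_iUnion.mpr ⟨⟨x, hx⟩, hzW _⟩)
  refine exists_isTriv_of_affine_cover f hf g L hL hV (ι := ↥t) (fun i => Wz i.1)
    (fun i => hWaff i.1) (fun i => hWle i.1) ?_ ?_ y hyV
  · intro x hx
    obtain ⟨z, hzt, hxz⟩ := Set.mem_iUnion₂.mp (ht hx)
    exact Opens.mem_iSup.mpr ⟨⟨z, hzt⟩, hxz⟩
  · intro i
    obtain ⟨σ, -⟩ := (he i.1).exists_iso_restrict
    exact ⟨(Scheme.Modules.restrictFunctor ((pullback.snd f g) ⁻¹ᵁ (Wz i.1)).ι).mapIso φ ≪≫
      restrictIsoPullback _ _ ≪≫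
      pullbackCompIso ((pullback.snd f g) ⁻¹ᵁ (Wz i.1)).ι (pullback.snd f g) N' ≪≫
      pullbackCongrIso (Scheme.Hom.resLE_comp_ι (pullback.snd f g)
        (le_refl ((pullback.snd f g) ⁻¹ᵁ (Wz i.1)))).symm N' ≪≫
      (pullbackCompIso ((pullback.snd f g).resLE (Wz i.1) ((pullback.snd f g) ⁻¹ᵁ (Wz i.1))
        le_rfl) (Wz i.1).ι N').symm ≪≫
      (Scheme.Modules.pullback ((pullback.snd f g).resLE (Wz i.1)
        ((pullback.snd f g) ⁻¹ᵁ (Wz i.1)) le_rfl)).mapIso
        ((restrictIsoPullback (Wz i.1).ι N').symm ≪≫ σ.symm) ≪≫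
      pullbackUnitIso _⟩

/-- Let f : X ⟶ S be quasi-compact and separated with the induced maps from sections of the structure
sheaf of S to sections of the structure sheaf of X bijective over every open of S, and let g : S' ⟶
S be flat, surjective and quasi-compact. If L is an invertible module on X whose pullback to X ×_S
S' is isomorphic to the pullback along the second projection of some invertible module on S', then L
is isomorphic to the pullback along f of some invertible module on S. -/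
theorem result {X S S' : Scheme.{u}} (f : X ⟶ S)
    [QuasiCompact f] [IsSeparated f] (hf : ∀ U : S.Opens, Function.Bijective (f.app U))
    (g : S' ⟶ S) [Flat g] [Surjective g] [QuasiCompact g]
    (L : X.Modules) (hL : PicF.IsInvertible L)
    (hdesc : ∃ N' : S'.Modules, PicF.IsInvertible N' ∧
      Nonempty ((Scheme.Modules.pullback (pullback.fst f g)).obj L ≅ (Scheme.Modules.pullback (pullback.snd f g)).obj N')) :
    ∃ N : S.Modules, PicF.IsInvertible N ∧ Nonempty (L ≅ (Scheme.Modules.pullback f).obj N) := by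
  obtain ⟨N', hN', ⟨φ⟩⟩ := hdesc
  obtain ⟨h1, h2⟩ := Groth.Agent.Lib.Helper29.PTD.isInvertible_pushforward_and_isIso_counit' f hf L
    (fun y => hloc_aux f hf g L hL N' hN' φ y)
  exact ⟨(Scheme.Modules.pushforward f).obj L, h1,
    ⟨(asIso ((Scheme.Modules.pullbackPushforwardAdjunction f).counit.app L)).symm⟩⟩

end Groth.Agent.S5684
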