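import Groth.Statements.S5691
import Mathlib

set_option autoImplicit false
universe u
open CategoryTheory CategoryTheory.Limits
open FGA

namespace Groth.Agent.S5691
section Aux
open Opposite

variable {C : Type u} [SmallCategory C] [HasFiniteLimits C] (F : C ⥤ Type u)

/-- minimal element -/
def IsMinEl (X : C) (ξ : F.obj X) : Prop :=
  ∀ ⦃Z : C⦄ (j : Z ⟶ X) [Mono j], ξ ∈ Set.range (F.map j) → IsIso j

variable {F}

lemma exists_min (hart : ∀ X : C, IsArtinianObject X) (Y : C) (η : F.obj Y) :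
    ∃ (X : C) (i : X ⟶ Y) (_ : Mono i) (ξ : F.obj X), F.map i ξ = η ∧ IsMinEl F X ξ := by
  haveI := hart Y
  let P : Set (Subobject Y) := {S | η ∈ Set.range (F.map S.arrow)}
  have hne : P.Nonempty := by
    refine ⟨⊤, F.map (inv (⊤ : Subobject Y).arrow) η, ?_⟩
    rw [← FunctorToTypes.map_comp_apply, IsIso.inv_hom_id, FunctorToTypes.map_id_apply]
  obtain ⟨S, hS, hmin⟩ := (wellFounded_lt (α := Subobject Y)).has_min P hne
  obtain ⟨ξ, hξ⟩ := hS
  refine ⟨(S : C), S.arrow, inferInstance, ξ, hξ, ?_⟩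
  intro Z j _ hj
  obtain ⟨ζ, hζ⟩ := hj
  have hle : Subobject.mk (j ≫ S.arrow) ≤ S := Subobject.mk_le_of_comm j rfl
  have hmem : Subobject.mk (j ≫ S.arrow) ∈ P := by
    refine ⟨F.map (Subobject.underlyingIso (j ≫ S.arrow)).inv ζ, ?_⟩
    rw [← FunctorToTypes.map_comp_apply, Subobject.underlyingIso_arrow,
      FunctorToTypes.map_comp_apply, hζ, hξ]
  have heq : Subobject.mk (j ≫ S.arrow) = S := by
    rcases hle.lt_or_eq with h | h
    · exact absurd h (hmin _ hmem)
    · exact h
  have heq' : Subobject.mk (j ≫ S.arrow) = Subobject.mk S.arrow := by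
    rw [heq, Subobject.mk_arrow]
  have hcomm : (Subobject.isoOfMkEqMk _ _ heq').hom ≫ S.arrow = j ≫ S.arrow := by
    rw [Subobject.isoOfMkEqMk_hom, Subobject.ofMkLEMk_comp]
  have : (Subobject.isoOfMkEqMk _ _ heq').hom = j := (cancel_mono S.arrow).1 hcomm
  rw [← this]
  infer_instance

variable [PreservesFiniteLimits F]

lemma map_injective_of_mono {X Y : C} (i : X ⟶ Y) [Mono i] : Function.Injective (F.map i) := by
  haveI : Mono (F.map i) := inferInstance
  exact (mono_iff_injective (F.map i)).1 inferInstance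

lemma eq_of_isMinEl {X : C} {ξ : F.obj X} (h : IsMinEl F X ξ) {Y : C} (a b : X ⟶ Y)
    (hab : F.map a ξ = F.map b ξ) : a = b := by
  have hl := isLimitForkMapOfIsLimit F (equalizer.condition a b) (equalizerIsEqualizer a b)
  obtain ⟨ζ, hζ, -⟩ := Types.unique_of_type_equalizer _ _ hl ξ hab
  haveI := h (equalizer.ι a b) ⟨ζ, hζ⟩
  exact (cancel_epi (equalizer.ι a b)).1 (equalizer.condition a b)

lemma epi_of_isMinEl {X Y : C} {ξ : F.obj X} {η : F.obj Y} (h : IsMinEl F Y η) (u : X ⟶ Y)
    (hu : F.map u ξ = η) : Epi u := by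
  refine ⟨fun {Z} a b hab => eq_of_isMinEl h a b ?_⟩
  rw [← hu, ← FunctorToTypes.map_comp_apply, ← FunctorToTypes.map_comp_apply, hab]

variable (F) in
/-- minimal elements of `F` -/
structure MinEl where
  X : C
  ξ : F.obj X
  min : IsMinEl F X ξ

instance : Category.{u} (MinEl F) where
  Hom p q := {f : p.X ⟶ q.X // F.map f p.ξ = q.ξ}
  id p := ⟨𝟙 _, by simp⟩
  comp f g := ⟨f.1 ≫ g.1, by rw [FunctorToTypes.map_comp_apply, f.2, g.2]⟩

lemma MinEl.hom_ext {p q : MinEl F} (f g : p ⟶ q) : f = g :=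
  Subtype.ext (eq_of_isMinEl p.min f.1 g.1 (f.2.trans g.2.symm))

variable (F) in
/-- the diagram of minimal elements -/
def D : MinEl F ⥤ C where
  obj p := p.X
  map f := f.1

lemma exists_minEl (hart : ∀ X : C, IsArtinianObject X) (Y : C) (η : F.obj Y) :
    ∃ (p : MinEl F) (i : p.X ⟶ Y), F.map i p.ξ = η := by
  obtain ⟨X, i, _, ξ, h1, h2⟩ := exists_min hart Y η
  exact ⟨⟨X, ξ, h2⟩, i, h1⟩

lemma exists_pair (X Y : C) (ξ : F.obj X) (η : F.obj Y) :
    ∃ ζ : F.obj (X ⨯ Y), F.map prod.fst ζ = ξ ∧ F.map prod.snd ζ = η := by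
  let e := PreservesLimitPair.iso F X Y ≪≫ Types.binaryProductIso (F.obj X) (F.obj Y)
  refine ⟨e.inv (ξ, η), ?_, ?_⟩
  · have h1 : e.hom ≫ (↾ (Prod.fst : F.obj X × F.obj Y → F.obj X)) = F.map prod.fst := by
      simp [e]
    rw [← h1]
    simp
  · have h1 : e.hom ≫ (↾ (Prod.snd : F.obj X × F.obj Y → F.obj Y)) = F.map prod.snd := by
      simp [e]
    rw [← h1]
    simp

lemma exists_elt : ∃ (X : C), Nonempty (F.obj X) := by
  refine ⟨⊤_ C, ?_⟩
  let e := PreservesTerminal.iso F ≪≫ Types.terminalIso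
  exact ⟨e.inv PUnit.unit⟩

lemma exists_cone (hart : ∀ X : C, IsArtinianObject X) (p q : MinEl F) :
    ∃ (r : MinEl F), Nonempty (r ⟶ p) ∧ Nonempty (r ⟶ q) := by
  obtain ⟨ζ, h1, h2⟩ := exists_pair p.X q.X p.ξ q.ξ
  obtain ⟨r, i, hi⟩ := exists_minEl hart _ ζ
  refine ⟨r, ⟨⟨i ≫ prod.fst, ?_⟩⟩, ⟨⟨i ≫ prod.snd, ?_⟩⟩⟩
  · rw [FunctorToTypes.map_comp_apply, hi, h1]
  · rw [FunctorToTypes.map_comp_apply, hi, h2]

lemma isCofiltered_minEl (hart : ∀ X : C, IsArtinianObject X) : IsCofiltered (MinEl F) := by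
  haveI : IsCofilteredOrEmpty (MinEl F) :=
    { cone_objs := fun p q => by
        obtain ⟨r, ⟨a⟩, ⟨b⟩⟩ := exists_cone hart p q
        exact ⟨r, a, b, trivial⟩
      cone_maps := fun {p q} f g => ⟨p, 𝟙 p, MinEl.hom_ext _ _⟩ }
  obtain ⟨X, ⟨x⟩⟩ := exists_elt (F := F)
  obtain ⟨p, -, -⟩ := exists_minEl hart X x
  exact { nonempty := ⟨p⟩ }

lemma epi_D_map {p q : MinEl F} (a : p ⟶ q) : Epi ((D F).map a) :=
  epi_of_isMinEl q.min a.1 a.2

variable (F) in
/-- the cocone exhibiting `F` as colimit of corepresentables -/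
def coconeF : Cocone ((D F).op ⋙ coyoneda) where
  pt := F
  ι :=
    { app := fun j =>
        { app := fun Y => ↾ (fun (u : (D F).obj j.unop ⟶ Y) => F.map u j.unop.ξ)
          naturality := by
            intro Y Z f
            ext u
            simp }
      naturality := by
        intro j k a
        ext Y u
        have := a.unop.2
        simp only [Functor.comp_obj, Functor.op_obj, Functor.const_obj_obj, Functor.comp_map,
          Functor.op_map, Functor.const_obj_map, Category.comp_id]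
        show F.map ((D F).map a.unop ≫ u) k.unop.ξ = F.map u j.unop.ξ
        rw [FunctorToTypes.map_comp_apply]
        exact congrArg (F.map u) this }

noncomputable def isColimitCoconeF (hart : ∀ X : C, IsArtinianObject X) :
    IsColimit (coconeF F) := by
  haveI := isCofiltered_minEl (F := F) hart
  refine evaluationJointlyReflectsColimits _ (fun Y => ?_)
  refine Types.FilteredColimit.isColimitOf _ _ ?_ ?_
  · intro η
    obtain ⟨p, i, hi⟩ := exists_minEl (F := F) hart Y η
    exact ⟨Opposite.op p, i, hi.symm⟩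
  · intro j k u v huv
    obtain ⟨r, ⟨a⟩, ⟨b⟩⟩ := exists_cone (F := F) hart j.unop k.unop
    refine ⟨Opposite.op r, a.op, b.op, ?_⟩
    show a.1 ≫ u = b.1 ≫ v
    apply eq_of_isMinEl r.min
    rw [FunctorToTypes.map_comp_apply, FunctorToTypes.map_comp_apply, a.2, b.2]
    exact huv

end Aux


/-- Let C be a small category with finite limits all of whose objects are artinian (the subobjects of
each object satisfy the descending chain condition), and let F be a set-valued functor on C
preserving finite limits. Then F is strictly pro-representable: there are a small cofiltered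
category J and a diagram D : J ⥤ C all of whose transition morphisms are epimorphisms such that F is
isomorphic to the colimit of the corepresentable functors Hom(D j, -). -/
theorem result {C : Type u} [SmallCategory C]
    [HasFiniteLimits C] (hart : ∀ X : C, IsArtinianObject X) (F : C ⥤ Type u) [PreservesFiniteLimits F] :
    ∃ (J : Type u) (_ : SmallCategory J) (_ : IsCofiltered J) (D : J ⥤ C),
      (∀ ⦃j j' : J⦄ (a : j ⟶ j'), Epi (D.map a)) ∧ Nonempty (F ≅ colimit (D.op ⋙ coyoneda)) := by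
  classical
  refine ⟨MinEl F, inferInstance, isCofiltered_minEl hart, D F, fun j j' a => epi_D_map a, ?_⟩
  exact ⟨((colimit.isColimit _).coconePointUniqueUpToIso (isColimitCoconeF hart)).symm⟩

end Groth.Agent.S5691
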