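import Groth.Statements.S5692
import Mathlib
import Groth.Agent.Helper19.FittSheaf2
import Groth.Agent.Lib.Helper29.QCohPullback
import Groth.Agent.S8872
import Groth.Agent.S8874
import Groth.Agent.S8875
import Groth.Agent.S10847
-- import your own Groth.Agent.* helpers here

set_option autoImplicit false
universe u
open CategoryTheory CategoryTheory.Limits AlgebraicGeometry
open FGA

namespace Groth.Agent.S5692

open Groth.Agent.S10847 in

/-- Let S be a locally Noetherian scheme, M a coherent module on S and r a natural number. Then there is
an immersion e : Z ⟶ S with the following universal property: for every scheme T and every morphism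
g : T ⟶ S, the pullback of M along g is locally free of rank r if and only if g factors through e.
If moreover M is generated by r sections on a neighbourhood of every point of S (equivalently all
fibres of M have rank at most r), then e is a closed immersion. -/
theorem result (S : Scheme.{u}) [IsLocallyNoetherian S]
    (M : S.Modules) (hM : Coh.IsCoh M) (r : ℕ) :
    ∃ (Z : Scheme.{u}) (e : Z ⟶ S), IsImmersion e ∧
      (∀ (T : Scheme.{u}) (g : T ⟶ S),
        FlatMod.IsFinLocFreeOfRank r ((Scheme.Modules.pullback g).obj M) ↔ ∃ g' : T ⟶ Z, g' ≫ e = g) ∧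
      ((∀ s : ↥S, ∃ U : S.Opens, s ∈ U ∧ ∃ p : FlatMod.freeMod (↑U) r ⟶ M.restrict U.ι, Epi p) →
        IsClosedImmersion e) := by
  haveI hq : M.IsQuasicoherent := hM.1
  haveI hft : M.IsFiniteType := hM.2
  let Ir : S.IdealSheafData := Fitt.sheafIdeal M r
  let J : S.IdealSheafData := if r = 0 then ⊥ else Fitt.sheafIdeal M (r - 1)
  let W : S.Opens := ⟨(Ir.support : Set S)ᶜ, Ir.support.isClosed.isOpen_compl⟩
  let J' : (W : Scheme.{u}).IdealSheafData := J.comap W.ι
  refine ⟨J'.subscheme, J'.subschemeι ≫ W.ι, inferInstance, fun T f => ?_, fun hgen => ?_⟩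
  · -- (A) factorization criterion
    have hA : (∃ g : T ⟶ J'.subscheme, g ≫ J'.subschemeι ≫ W.ι = f) ↔
        (Ir.comap f = ⊤ ∧ J.comap f = ⊥) := by
      constructor
      · rintro ⟨g, rfl⟩
        constructor
        · rw [← range_subset_compl_support_iff]
          intro x hx
          have h1 : (g ≫ J'.subschemeι ≫ W.ι) x = W.ι ((g ≫ J'.subschemeι) x) := by
            rw [← Scheme.Hom.comp_apply, Category.assoc]
          rw [h1] at hx
          exact ((g ≫ J'.subschemeι) x).2 hx
        · rw [← Category.assoc, Scheme.IdealSheafData.comap_comp]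
          exact (factors_subscheme_iff J' (g ≫ J'.subschemeι)).mp ⟨g, rfl⟩
      · rintro ⟨h1, h2⟩
        rw [← range_subset_compl_support_iff] at h1
        have hrange : Set.range f ⊆ Set.range W.ι := by
          rintro _ ⟨x, rfl⟩
          rw [Scheme.Opens.range_ι]
          exact h1 x
        let h := IsOpenImmersion.lift W.ι f hrange
        have hh : h ≫ W.ι = f := IsOpenImmersion.lift_fac _ _ _
        have h3 : J'.comap h = ⊥ := by
          rw [← Scheme.IdealSheafData.comap_comp, hh]
          exact h2
        obtain ⟨g, hg⟩ := (factors_subscheme_iff J' h).mpr h3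
        exact ⟨g, by rw [← Category.assoc, hg, hh]⟩
    rw [hA]
    rw [Groth.Agent.S8875.result T ((Scheme.Modules.pullback f).obj M)
      (Groth.Agent.Lib.Helper29.QCoh.isQuasicoherent_pullback f M)
      (Groth.Agent.Lib.Helper29.QCoh.isFiniteType_pullback f M) r]
    have hcomap : ∀ k, Fitt.sheafIdeal ((Scheme.Modules.pullback f).obj M) k =
        (Fitt.sheafIdeal M k).comap f := fun k =>
      (Groth.Agent.S8872.result f M hq hft k).symm
    constructor
    · rintro ⟨h1, h2⟩
      constructor
      · rw [← hcomap]
        exact h2 r le_rfl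
      · by_cases hr : r = 0
        · have hJ : J = ⊥ := if_pos hr
          rw [hJ, Scheme.IdealSheafData.comap_bot]
        · have hJ : J = Fitt.sheafIdeal M (r - 1) := if_neg hr
          rw [hJ, ← hcomap]
          exact h1 (r - 1) (by omega)
    · rintro ⟨h1, h2⟩
      constructor
      · intro k hk
        rw [hcomap, ← le_bot_iff, ← h2]
        have hr : r ≠ 0 := by omega
        have hJ : J = Fitt.sheafIdeal M (r - 1) := if_neg hr
        rw [hJ]
        exact Scheme.IdealSheafData.comap_mono f (sheafIdeal_mono M (by omega))
      · intro k hk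
        rw [hcomap, ← top_le_iff, ← h1]
        exact Scheme.IdealSheafData.comap_mono f (sheafIdeal_mono M hk)
  · -- closed immersion when generated by r sections
    have hW : W = ⊤ := by
      rw [eq_top_iff]
      intro s _
      exact (Groth.Agent.S8874.result S M hq hft s r).mp (hgen s)
    haveI : IsIso W.ι := isIso_of_isOpenImmersion_of_opensRange_eq_top W.ι (by
      rw [Scheme.Opens.opensRange_ι, hW])
    infer_instance

end Groth.Agent.S5692
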