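import Groth.Statements.S5702
import Groth.Agent.Lib.Helper15.RegularExists
-- import your own Groth.Agent.* helpers here

set_option autoImplicit false
universe u v
open TensorProduct
open Dix

namespace Groth.Agent.S5702

/-- Let A be a finite-dimensional central simple algebra over a field k, of dimension r² over k. Then
there is an element x of A such that the commutative subalgebra k[x] it generates is étale over k
(all its elements are separable over k) and has dimension r over k. -/
theorem result (k : Type u) [Field k] (A : Type v) [Ring A] [Algebra k A] [Algebra.IsCentral k A] [IsSimpleRing A] [FiniteDimensional k A] (r : ℕ) (hA : Module.finrank k A = r ^ 2) : ∃ x : A, Algebra.IsSeparable k (Algebra.adjoin k ({x} : Set A)) ∧ Module.finrank k (Algebra.adjoin k ({x} : Set A)) = r := by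
  obtain ⟨z, hsep, hdeg⟩ := Groth.Agent.Lib.Helper15.RegularExists.exists_regular k A r hA
  refine ⟨z, Groth.Agent.Lib.Helper15.SepAdjoin.isSeparable_adjoin k z hsep, ?_⟩
  rw [Groth.Agent.Lib.Helper15.RegularElt.finrank_adjoin_eq k z (Algebra.IsIntegral.isIntegral z),
    hdeg]

end Groth.Agent.S5702
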