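import Groth.Statements.S5710
import Groth.Agent.Lib.Helper15.MaxEtale
-- import your own Groth.Agent.* helpers here

set_option autoImplicit false
universe u v
open TensorProduct
open Dix

namespace Groth.Agent.S5710

/-- Over a local base where the open neighbourhood is the whole scheme. Let R be a local ring with
residue field k and A an Azumaya algebra over R whose rank as a (free) R-module is r². Then A has a
maximal étale subalgebra: there are a commutative R-algebra E, finite étale and free of rank r over
R, and an R-algebra homomorphism u : E → A which is injective on the special fibre, k ⊗_R E → k ⊗_R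
A. -/
theorem result (R : Type u) [CommRing R] [IsLocalRing R] (A : Type u) [Ring A] [Algebra R A] [IsAzumaya R A] (r : ℕ) (hA : Module.finrank R A = r ^ 2) : ∃ (E : Type u) (_ : CommRing E) (_ : Algebra R E), Algebra.Etale R E ∧ Module.Finite R E ∧ Module.Free R E ∧ Module.finrank R E = r ∧ ∃ u : E →ₐ[R] A, Function.Injective (u.toLinearMap.lTensor (IsLocalRing.ResidueField R)) := by
  classical
  obtain ⟨ξ, P, hPm, hPd, hPξ, ⟨p₁, p₂, hbez⟩, hli, hliK⟩ :=
    Groth.Agent.Lib.Helper15.MaxEtale.exists_regular_poly R A r hA
  subst hPd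
  let pb := AdjoinRoot.powerBasis' hPm
  have hdim : pb.dim = P.natDegree := AdjoinRoot.powerBasis'_dim hPm
  let u : AdjoinRoot P →ₐ[R] A :=
    Ideal.Quotient.liftₐ (Ideal.span {P}) (Polynomial.aeval ξ) (fun q hq => by
      obtain ⟨s, rfl⟩ := Ideal.mem_span_singleton.mp hq
      rw [map_mul, hPξ, zero_mul])
  have hu : ∀ q : Polynomial R, u (AdjoinRoot.mk P q) = Polynomial.aeval ξ q := fun q => rfl
  refine ⟨AdjoinRoot P, inferInstance, inferInstance,
    Groth.Agent.S14457.etale_of_bezout P hPm p₁ p₂ hbez, pb.finite,
    Module.Free.of_basis pb.basis, ?_, u, ?_⟩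
  · rw [pb.finrank, hdim]
  · -- injectivity on the closed fibre
    let b : Module.Basis (Fin P.natDegree) R (AdjoinRoot P) := pb.basis.reindex (finCongr hdim)
    have hb : ∀ i : Fin P.natDegree, b i = AdjoinRoot.root P ^ (i : ℕ) := by
      intro i
      simp only [b, Module.Basis.reindex_apply, PowerBasis.coe_basis, finCongr_symm,
        finCongr_apply, Fin.val_cast]
      rw [AdjoinRoot.powerBasis'_gen]
    let bκ := Algebra.TensorProduct.basis (IsLocalRing.ResidueField R) b
    rw [injective_iff_map_eq_zero]
    intro t ht
    have h1 := bκ.sum_repr t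
    rw [← h1, map_sum] at ht
    have h2 : ∀ i, (u.toLinearMap.lTensor (IsLocalRing.ResidueField R))
        (bκ.repr t i • bκ i) = bκ.repr t i •
          ((1 : IsLocalRing.ResidueField R) ⊗ₜ[R] (ξ ^ (i : ℕ)) :
            IsLocalRing.ResidueField R ⊗[R] A) := by
      intro i
      rw [Algebra.TensorProduct.basis_apply, hb, TensorProduct.smul_tmul', LinearMap.lTensor_tmul,
        TensorProduct.smul_tmul']
      congr 1
      change u (AdjoinRoot.root P ^ (i : ℕ)) = ξ ^ (i : ℕ)
      rw [map_pow]
      congr 1
      have := hu Polynomial.X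
      rwa [Polynomial.aeval_X] at this
    simp_rw [h2] at ht
    have h3 := Fintype.linearIndependent_iff.mp hliK (fun i => bκ.repr t i) ht
    rw [← h1]
    exact Finset.sum_eq_zero fun i _ => by rw [h3 i, zero_smul]

end Groth.Agent.S5710
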