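import Groth.Statements.S5725
import Groth.Agent.Lib.Helper3.VACounit
import Groth.Agent.Lib.Helper3.RelTwistAmpleP

set_option autoImplicit false
universe u
open CategoryTheory CategoryTheory.Limits AlgebraicGeometry TopologicalSpace Opposite
open scoped HomogeneousIdeal
open EGA2

namespace Groth.Agent.S5725
open Groth.Agent.Lib.Helper3

/-- Let q : X → Y be a quasi-compact morphism and L an invertible O_X-module. If L is very ample
relative to q (isomorphic to i^*O_{P(E)}(1) for a Y-immersion i : X → P(E) into the projective
bundle of a quasi-coherent O_Y-module E), then the canonical morphism q^*(q_*L) → L, the counit of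
the adjunction between inverse and direct image, is an epimorphism. (The published statement also
records that q_*L is quasi-coherent, which holds because q is then quasi-compact and separated, and
lists a further property, that the morphism into the projective bundle of q_*L attached to this
epimorphism is an immersion; with that property the converse holds. Those parts are not stated
here.) -/
theorem result {X Y : Scheme.{u}} (q : X ⟶ Y) [QuasiCompact q] (L : X.Modules)
    (hL : PicF.IsInvertible L) (h : RelProj.IsRelVeryAmple q L) :
    Epi ((Scheme.Modules.pullbackPushforwardAdjunction q).counit.app L) := by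
  obtain ⟨E, hE, 𝒮, j, hj, P, p, chart, hP, O1, lam, hO1, i, hi, rfl, ⟨θ⟩⟩ := h
  have : E.IsQuasicoherent := hE
  exact RelGlued.epi_counit_of_iso (i ≫ p) θ.symm
    (RelGlued.epi_counit_pullback_relTwist_one p chart
      (RelGlued.isGenDegOne_of_isGrSymAlg E 𝒮 j hj) hO1 i)

end Groth.Agent.S5725
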