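import Groth.Statements.S5727
import Groth.Agent.Lib.Helper3.TwistQuot2
import Groth.Agent.Lib.Helper3.QCAlgFT
import Groth.Agent.Lib.Helper3.RelTwistAmpleP
import Groth.Agent.Lib.Helper29.VA6
import Groth.Agent.Lib.Helper29.CE1

set_option autoImplicit false
universe u
open CategoryTheory CategoryTheory.Limits AlgebraicGeometry TopologicalSpace Opposite
open scoped HomogeneousIdeal
open EGA2

namespace Groth.Agent.S5727
open Groth.Agent.Lib.Helper3 Groth.Agent.Lib.Helper29 Groth.Agent.Lib.Helper29.QCoh

/-- Let Z be a scheme which is either quasi-compact and separated or has Noetherian underlying space, g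
: Y → Z a quasi-compact morphism, K an invertible O_Y-module which is very ample relative to g, and
E a quasi-coherent O_Y-module of finite type. Then there is m₀ such that for every m ≥ m₀ there are
a quasi-coherent O_Z-module F of finite type (depending on m) and an epimorphism g^*F → E ⊗ K^{⊗m}.
(The published statement says that E is isomorphic to a quotient of g^*F ⊗ K^{⊗(-m)}; for invertible
K this is the same as E ⊗ K^{⊗m} being a quotient of g^*F, the form used here, which avoids negative
tensor powers.) -/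
theorem result {Y Z : Scheme.{u}}
    (hZ : (CompactSpace Z ∧ Z.IsSeparated) ∨ TopologicalSpace.NoetherianSpace Z) (g : Y ⟶ Z) [QuasiCompact g]
    (K : Y.Modules) (hK : PicF.IsInvertible K) (hKva : RelProj.IsRelVeryAmple g K)
    (E : Y.Modules) (hE : Coh.IsQCoh E) (hEft : CohB1.IsFT E) :
    ∃ m₀ : ℕ, ∀ m : ℕ, m₀ ≤ m →
      ∃ (F : Z.Modules) (φ : (Scheme.Modules.pullback g).obj F ⟶ CohB1.tensorMod E (CohB1.tensorPow K m)),
        Coh.IsQCoh F ∧ CohB1.IsFT F ∧ Epi φ := by
  haveI : E.IsQuasicoherent := hE
  haveI : E.IsFiniteType := hEft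
  have hFT : HasFTThrough Z ∧ CompactSpace Z := by
    rcases hZ with ⟨h1, h2⟩ | h2
    · haveI := h1
      haveI := h2
      exact ⟨hasFTThrough_of_qcqs, h1⟩
    · haveI := h2
      refine ⟨hasFTThrough_of_locallyNoetherian fun x => ⟨⊤, trivial, ?_⟩, inferInstance⟩
      exact NoetherianSpace.set _
  haveI := hFT.2
  haveI : CompactSpace Y := QuasiCompact.compactSpace_of_compactSpace g
  obtain ⟨E₁, hE₁, 𝒮, j, hj, P, p, chart, hP, O1, lam, hO1, i, hi, hip, ⟨eK⟩⟩ := hKva
  haveI : E₁.IsQuasicoherent := hE₁
  haveI := hi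
  have hgen := RelGlued.isGenDegOne_of_isGrSymAlg E₁ 𝒮 j hj
  have hamp : RelAmple.IsRelAmple g K :=
    isRelAmple_of_iso g eK.symm
      (RelGlued.isRelAmple_pullback_relTwist_one p chart hgen g hO1 i hip i.isEmbedding)
  haveI : IsSeparated p := VAF.isSeparated_of_isRelProj chart
  haveI : IsSeparated g := by rw [← hip]; infer_instance
  obtain ⟨N, hN⟩ := exists_epi_counit_twist_of_isRelAmple g hamp E
  refine ⟨N, fun m hm => ?_⟩
  have hKm : PicF.IsInvertible (CohB1.tensorPow K m) := isInvertible_tensorPow hK m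
  haveI : (CohB1.tensorPow K m).IsQuasicoherent := isQuasicoherent_of_isInvertible hKm
  haveI : (CohB1.tensorPow K m).IsFiniteType := isFiniteType_of_isInvertible hKm
  haveI : Epi ((Scheme.Modules.pullbackPushforwardAdjunction g).counit.app
      (CohB1.tensorMod E (CohB1.tensorPow K m))) := hN m hm
  haveI : ((Scheme.Modules.pushforward g).obj (CohB1.tensorMod E (CohB1.tensorPow K m))).IsQuasicoherent :=
    isQuasicoherent_pushforward_of_qcqs g _
  obtain ⟨K', hKq, hKft, hKepi⟩ :=
    TwistQuot.exists_ft_subSh_epi g hFT.1 (CohB1.tensorMod E (CohB1.tensorPow K m))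
  exact ⟨K'.toModules, _, hKq, hKft, hKepi⟩

end Groth.Agent.S5727
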