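import Groth.Statements.S5749
import Groth.Agent.Lib.Lead.Koszul.ClosedSub
import Groth.Agent.Lib.Lead.Koszul.SerreVanish

set_option autoImplicit false
universe u
open Coherent

namespace Groth.Agent.S5749

open AlgebraicGeometry CategoryTheory in
/-- Let A be an Artinian local ring, i : X → P^r_A a closed immersion compatible with the structure
morphisms to Spec A (X projective over A with the very ample module i^* O(1)), F a coherent
O_X-module and F(n) = F ⊗ i^* O(n). Then for all sufficiently large n the Euler characteristic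
χ_A(F(n)) = Σ_{j ≤ r} (-1)^j length_A H^j(X, F(n)) equals the length of H^0(X, F(n)), the A-module
of global sections of F(n). -/
theorem result (A : Type u) [CommRing A]
    [IsArtinianRing A] [IsLocalRing A] (r : ℕ) (X : Scheme.{u}) [X.Over (Spec (CommRingCat.of A))]
    (i : X ⟶ CohB1.ProjSpace r A) [IsClosedImmersion i]
    (hi : i ≫ CohB1.ProjSpace.toSpec r A = X ↘ Spec (CommRingCat.of A)) (F : X.Modules) (hF : Coh.IsCoh F) :
    ∃ N : ℤ, ∀ n : ℤ, N ≤ n →
      ((Finset.range (r + 1)).sum fun j => (-1 : ℤ) ^ j *
        ((Module.length A (Coh.HH X (CohB1.tensorMod F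
          ((Scheme.Modules.pullback i).obj (Twist.twistProjSpace r A n))) j)).toNat : ℤ)) =
      ((Module.length A (Coh.HH X (CohB1.tensorMod F
          ((Scheme.Modules.pullback i).obj (Twist.twistProjSpace r A n))) 0)).toNat : ℤ) := by
  open Groth.Agent.Lib.Lead.Koszul Groth.Agent.Lib.Lead.Pn Groth.Agent.Lib.Helper29.QCoh in
  haveI : F.IsQuasicoherent := hF.1
  haveI : F.IsFiniteType := hF.2
  have hpush : Coh.IsCoh ((Scheme.Modules.pushforward i).obj F) :=
    ⟨isQuasicoherent_pushforward_of_isAffineHom i F, isFiniteType_pushforward_of_isFinite i F⟩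
  obtain ⟨N, hN⟩ := exists_vanishing_tw r A _ hpush
  refine ⟨N, fun n hn => ?_⟩
  have hvan : ∀ j : ℕ, 1 ≤ j → Subsingleton (Coh.HH X (CohB1.tensorMod F
      ((Scheme.Modules.pullback i).obj (Twist.twistProjSpace r A n))) j) := by
    intro j hj
    haveI : (Twist.twistProjSpace r A n).IsQuasicoherent := twist_isQuasicoherent r A n
    exact (subsingleton_HH_iff_push i (Twist.twistProjSpace r A n) (isFinLocFree_twist r A n) F j).2
      (hN n hn j hj)
  rw [Finset.sum_eq_single 0]
  · simp
  · intro j _ hj0
    haveI := hvan j (Nat.one_le_iff_ne_zero.mpr hj0)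
    rw [Module.length_eq_zero]
    simp
  · intro h0
    exact absurd (Finset.mem_range.mpr (Nat.succ_pos r)) h0

end Groth.Agent.S5749
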