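import Groth.Statements.S5750
import Groth.Agent.S5749
import Mathlib.Analysis.Polynomial.Basic

set_option autoImplicit false
universe u
open Coherent

namespace Groth.Agent.S5750

open AlgebraicGeometry CategoryTheory in
/-- Let A be an Artinian local ring, i : X → P^r_A a closed immersion compatible with the structure
morphisms to Spec A, F a coherent O_X-module and F(n) = F ⊗ i^* O(n). If a polynomial P over ℚ
satisfies P(n) = χ_A(F(n)) = Σ_{j ≤ r} (-1)^j length_A H^j(X, F(n)) for every integer n (the Hilbert
polynomial of F), then the leading coefficient of P is non-negative. -/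
theorem result (A : Type u) [CommRing A]
    [IsArtinianRing A] [IsLocalRing A] (r : ℕ) (X : Scheme.{u}) [X.Over (Spec (CommRingCat.of A))]
    (i : X ⟶ CohB1.ProjSpace r A) [IsClosedImmersion i]
    (hi : i ≫ CohB1.ProjSpace.toSpec r A = X ↘ Spec (CommRingCat.of A)) (F : X.Modules) (hF : Coh.IsCoh F)
    (P : Polynomial ℚ)
    (hP : ∀ n : ℤ, ((Finset.range (r + 1)).sum fun j => (-1 : ℚ) ^ j *
        ((Module.length A (Coh.HH X (CohB1.tensorMod F
          ((Scheme.Modules.pullback i).obj (Twist.twistProjSpace r A n))) j)).toNat : ℚ)) = P.eval (n : ℚ)) :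
    0 ≤ P.leadingCoeff := by
  obtain ⟨N, hN⟩ := Groth.Agent.S5749.result A r X i hi F hF
  -- `P` is nonnegative at all large integers
  have hpos : ∀ n : ℤ, N ≤ n → 0 ≤ P.eval (n : ℚ) := by
    intro n hn
    rw [← hP n]
    have h := hN n hn
    have h' : ((Finset.range (r + 1)).sum fun j => (-1 : ℚ) ^ j *
        ((Module.length A (Coh.HH X (CohB1.tensorMod F
          ((Scheme.Modules.pullback i).obj (Twist.twistProjSpace r A n))) j)).toNat : ℚ)) =
        ((Module.length A (Coh.HH X (CohB1.tensorMod F
          ((Scheme.Modules.pullback i).obj (Twist.twistProjSpace r A n))) 0)).toNat : ℚ) := by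
      have := congrArg (fun z : ℤ => (z : ℚ)) h
      push_cast at this
      exact this
    rw [h']
    positivity
  by_contra hneg
  rw [not_le] at hneg
  by_cases hdeg : 0 < P.degree
  · have htend := P.tendsto_atBot_of_leadingCoeff_nonpos hdeg hneg.le
    have hcast : Filter.Tendsto (fun m : ℕ => ((m : ℚ))) Filter.atTop Filter.atTop :=
      tendsto_natCast_atTop_atTop
    have h2 := htend.comp hcast
    have h3 := (h2.eventually (Filter.eventually_lt_atBot (0 : ℚ))).and
      (Filter.eventually_ge_atTop N.toNat)
    obtain ⟨m, hm1, hm2⟩ := h3.exists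
    have hNm : N ≤ (m : ℤ) := by
      have := Int.self_le_toNat N
      omega
    have h4 := hpos (m : ℤ) hNm
    simp only [Function.comp_apply] at hm1
    have h5 : ((m : ℤ) : ℚ) = (m : ℚ) := by push_cast; rfl
    rw [h5] at h4
    linarith
  · have hdeg' : P.degree ≤ 0 := not_lt.mp hdeg
    have hC := Polynomial.eq_C_of_degree_le_zero hdeg'
    have h4 := hpos (max N 0) (le_max_left _ _)
    rw [hC, Polynomial.eval_C] at h4
    have hlc : P.leadingCoeff = P.coeff 0 := by
      conv_lhs => rw [hC, Polynomial.leadingCoeff_C]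
    rw [hlc] at hneg
    linarith

end Groth.Agent.S5750
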