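import Groth.Statements.S5755
import Mathlib
import Groth.Agent.Lib.Helper18.CM2

set_option autoImplicit false
universe u
open EGA41

open IsLocalRing
namespace Groth.Agent.S5755

/-- A reduced Noetherian local ring A has depth 0 if and only if A is a field. -/
theorem result (A : Type u) [CommRing A] [IsLocalRing A]
    [IsNoetherianRing A] [IsReduced A] : LocCoh.depth A A = 0 ↔ IsField A := by
  rw [Groth.Agent.Lib.Helper18.CM.depth_eq_zero_iff, IsLocalRing.isField_iff_maximalIdeal_eq]
  constructor
  · intro h
    obtain ⟨hpp, z, hz⟩ := isAssociatedPrime_iff.mp h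
    have hmem : ∀ a : A, a ∈ maximalIdeal A ↔ a * z = 0 := by
      intro a
      rw [hz, Submodule.mem_colon_singleton, Submodule.mem_bot, smul_eq_mul]
    have hz0 : z ≠ 0 := by
      intro h0
      have : (1 : A) ∈ maximalIdeal A := by rw [hmem, h0, mul_zero]
      exact (IsLocalRing.maximalIdeal.isMaximal A).ne_top ((Ideal.eq_top_iff_one _).mpr this)
    have hzu : IsUnit z := by
      by_contra hnu
      have hzm : z ∈ maximalIdeal A := (IsLocalRing.mem_maximalIdeal z).mpr hnu
      have : z * z = 0 := (hmem z).mp hzm
      exact hz0 (IsReduced.eq_zero _ ⟨2, by rw [pow_two]; exact this⟩)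
    rw [eq_bot_iff]
    intro a ha
    have := (hmem a).mp ha
    exact (hzu.mul_left_eq_zero).mp this
  · intro h
    refine isAssociatedPrime_iff.mpr ⟨inferInstance, 1, ?_⟩
    ext a
    rw [Submodule.mem_colon_singleton, Submodule.mem_bot, h]
    simp

end Groth.Agent.S5755
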