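import Groth.Statements.S5764
import Mathlib.RingTheory.Ideal.Height
import Mathlib.RingTheory.Ideal.GoingUp

set_option autoImplicit false
universe u
open EGA41

namespace Groth.Agent.S5764

/-- Let B be an integral domain, A a local subring of B which is integrally closed (in its field of
fractions), and suppose B is integral over A. Then dim(B_n) = dim(A) for every maximal ideal n of B. -/
theorem result (A B : Type u) [CommRing A]
    [CommRing B] [IsDomain B] [Algebra A B] (hinj : Function.Injective (algebraMap A B)) [IsDomain A]
    [IsLocalRing A] [IsIntegrallyClosed A] [Algebra.IsIntegral A B] (n : Ideal B) [n.IsMaximal] :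
    ringKrullDim (Localization.AtPrime n) = ringKrullDim A := by
  have : FaithfulSMul A B := (faithfulSMul_iff_algebraMap_injective A B).mpr hinj
  have hGD : Algebra.HasGoingDown A B := inferInstance
  have hnmax : (n.under A).IsMaximal := Ideal.isMaximal_comap_of_isIntegral_of_isMaximal n
  have hnm : n.under A = IsLocalRing.maximalIdeal A := IsLocalRing.eq_maximalIdeal hnmax
  rw [IsLocalization.AtPrime.ringKrullDim_eq_height n,
    ← IsLocalRing.maximalIdeal_height_eq_ringKrullDim]
  congr 1
  let N : PrimeSpectrum B := ⟨n, inferInstance⟩
  let M : PrimeSpectrum A := ⟨IsLocalRing.maximalIdeal A, inferInstance⟩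
  have hNM : PrimeSpectrum.comap (algebraMap A B) N = M := PrimeSpectrum.ext hnm
  change N.asIdeal.height = M.asIdeal.height
  rw [PrimeSpectrum.height_eq_orderHeight, PrimeSpectrum.height_eq_orderHeight]
  apply le_antisymm
  · rw [← hNM]
    refine Order.height_le_height_apply_of_strictMono _ ?_ N
    intro P Q hPQ
    have h : P.asIdeal < Q.asIdeal := hPQ
    exact Ideal.IsIntegral.comap_lt_comap (R := A) h
  · apply Order.height_le
    intro p hp
    have : n.LiesOver p.last.asIdeal := ⟨by rw [hp]; exact hnm.symm⟩
    obtain ⟨L, hlen, hlast, -⟩ := Ideal.exists_ltSeries_of_hasGoingDown p n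
    rw [← hlen]
    have := Order.length_le_height_last (p := L)
    rwa [hlast] at this

end Groth.Agent.S5764
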