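import Groth.Statements.S5765
import Mathlib.RingTheory.Localization.Ideal

set_option autoImplicit false
universe u
open EGA41

namespace Groth.Agent.S5765

lemma comap_mem_support (A : Type u) [CommRing A] (M : Type u)
    [AddCommGroup M] [Module A M] (p : Ideal A) [p.IsPrime]
    (q : PrimeSpectrum (Localization.AtPrime p))
    (hq : q ∈ Module.support (Localization.AtPrime p) (LocalizedModule p.primeCompl M)) :
    PrimeSpectrum.comap (algebraMap A (Localization.AtPrime p)) q ∈ Module.support A M := by
  rw [Module.mem_support_iff'] at hq ⊢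
  obtain ⟨x, hx⟩ := hq
  induction x using LocalizedModule.induction_on with
  | h m s =>
    refine ⟨m, fun r hr hrm => ?_⟩
    refine hx (algebraMap A (Localization.AtPrime p) r) hr ?_
    rw [algebraMap_smul, LocalizedModule.smul'_mk, hrm, LocalizedModule.zero_mk]

/-- Let A be a ring, M a finitely generated A-module and p a prime ideal of A. Then dim_{A_p}(M_p) +
dim_A(M/pM) ≤ dim_A(M). -/
theorem result (A : Type u) [CommRing A] (M : Type u)
    [AddCommGroup M] [Module A M] [Module.Finite A M] (p : Ideal A) [p.IsPrime] :
    Module.supportDim (Localization.AtPrime p) (LocalizedModule p.primeCompl M) +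
        Module.supportDim A (M ⧸ (p • (⊤ : Submodule A M))) ≤ Module.supportDim A M := by
  by_cases hp : (⟨p, inferInstance⟩ : PrimeSpectrum A) ∈ Module.support A M
  swap
  · have : Subsingleton (LocalizedModule p.primeCompl M) := Module.notMem_support_iff.mp hp
    rw [Module.supportDim_eq_bot_of_subsingleton, WithBot.bot_add]
    exact bot_le
  · let P : Module.support A M := ⟨⟨p, inferInstance⟩, hp⟩
    have h1 : Module.supportDim (Localization.AtPrime p) (LocalizedModule p.primeCompl M) ≤
        ((Order.height P : ℕ∞) : WithBot ℕ∞) := by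
      rw [Order.height_eq_krullDim_Iic]
      let f : Module.support (Localization.AtPrime p) (LocalizedModule p.primeCompl M) →
          Set.Iic P := fun q =>
        ⟨⟨PrimeSpectrum.comap (algebraMap A (Localization.AtPrime p)) q.1,
          comap_mem_support A M p q.1 q.2⟩, by
          change (q.1.asIdeal.comap (algebraMap A (Localization.AtPrime p))) ≤ p
          exact (Ideal.comap_mono (IsLocalRing.le_maximalIdeal q.1.2.ne_top)).trans
            (Localization.AtPrime.under_maximalIdeal (I := p)).le⟩
      refine Order.krullDim_le_of_strictMono f ?_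
      intro q₁ q₂ h
      have h' : q₁.1.asIdeal < q₂.1.asIdeal := h
      exact (IsLocalization.orderEmbedding p.primeCompl (Localization.AtPrime p)).strictMono h'
    have h2 : Module.supportDim A (M ⧸ (p • (⊤ : Submodule A M))) ≤
        ((Order.coheight P : ℕ∞) : WithBot ℕ∞) := by
      rw [Order.coheight_eq_krullDim_Ici]
      have hsupp := Module.support_quotient (R := A) (M := M) p
      let g : Module.support A (M ⧸ (p • (⊤ : Submodule A M))) → Set.Ici P := fun q =>
        ⟨⟨q.1, (hsupp ▸ q.2 : q.1 ∈ Module.support A M ∩ PrimeSpectrum.zeroLocus p).1⟩,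
          (hsupp ▸ q.2 : q.1 ∈ Module.support A M ∩ PrimeSpectrum.zeroLocus p).2⟩
      refine Order.krullDim_le_of_strictMono g ?_
      intro q₁ q₂ h
      exact h
    have h3 : (((Order.height P + Order.coheight P : ℕ∞)) : WithBot ℕ∞) ≤
        Module.supportDim A M := by
      have : Nonempty (Module.support A M) := ⟨P⟩
      unfold Module.supportDim
      rw [Order.krullDim_eq_iSup_height_add_coheight_of_nonempty, WithBot.coe_le_coe]
      exact le_iSup (fun a : Module.support A M => Order.height a + Order.coheight a) P
    calc _ ≤ ((Order.height P : ℕ∞) : WithBot ℕ∞) + ((Order.coheight P : ℕ∞) : WithBot ℕ∞) :=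
          add_le_add h1 h2
      _ = (((Order.height P + Order.coheight P : ℕ∞)) : WithBot ℕ∞) := (WithBot.coe_add _ _).symm
      _ ≤ _ := h3

end Groth.Agent.S5765
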