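import Groth.Statements.S5766
import Groth.Agent.S5763
import Mathlib.RingTheory.IntegralClosure.Algebra.Basic

set_option autoImplicit false
universe u
open EGA41

namespace Groth.Agent.S5766

/-- Let A be a Noetherian ring, ρ : A → B a ring homomorphism and M a B-module which is finitely
generated as an A-module via ρ. Then the dimension of M as an A-module equals its dimension as a
B-module. -/
theorem result (A B : Type u) [CommRing A] [CommRing B] [IsNoetherianRing A]
    [Algebra A B] (M : Type u) [AddCommGroup M] [Module B M] [Module A M] [IsScalarTower A B M]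
    [Module.Finite A M] : Module.supportDim A M = Module.supportDim B M := by
  have hfinB : Module.Finite B M := Module.Finite.of_restrictScalars_finite A B M
  set J := Module.annihilator B M with hJ
  have hI : Module.annihilator A M = J.comap (algebraMap A B) := by
    ext a
    simp only [Ideal.mem_comap, hJ, Module.mem_annihilator, algebraMap_smul]
  rw [Module.supportDim_eq_ringKrullDim_quotient_annihilator,
    Module.supportDim_eq_ringKrullDim_quotient_annihilator, hI]
  -- integrality of B ⧸ J over A
  let ψ : B →ₐ[A] Module.End A M := Algebra.lsmul A A M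
  have hker : RingHom.ker ψ.toRingHom = J := by
    ext b
    simp only [RingHom.mem_ker, hJ, Module.mem_annihilator]
    constructor
    · intro h m
      have := LinearMap.congr_fun h m
      simpa [ψ] using this
    · intro h
      apply LinearMap.ext
      intro m
      simpa [ψ] using h m
  have hintA : Algebra.IsIntegral A (B ⧸ J) := by
    refine ⟨fun x => ?_⟩
    obtain ⟨b, rfl⟩ := Ideal.Quotient.mk_surjective x
    have hb : IsIntegral A (ψ b) := Algebra.IsIntegral.isIntegral _
    obtain ⟨P, hP, hPb⟩ := hb
    refine ⟨P, hP, ?_⟩
    have h1 : ψ (Polynomial.aeval b P) = 0 := by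
      rw [← Polynomial.aeval_algHom_apply]
      exact hPb
    have h2 : Polynomial.aeval b P ∈ J := by
      rw [← hker]; exact h1
    have h3 : Polynomial.aeval (Ideal.Quotient.mk J b) P =
        Ideal.Quotient.mk J (Polynomial.aeval b P) := by
      rw [← Ideal.Quotient.mkₐ_eq_mk A, Polynomial.aeval_algHom_apply]
    change Polynomial.aeval (Ideal.Quotient.mk J b) P = 0
    rw [h3, Ideal.Quotient.eq_zero_iff_mem]
    exact h2
  have hint : Algebra.IsIntegral (A ⧸ J.comap (algebraMap A B)) (B ⧸ J) :=
    ⟨fun x => (hintA.isIntegral x).tower_top⟩
  exact ((Groth.Agent.S5763.result (A ⧸ J.comap (algebraMap A B)) (B ⧸ J)).2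
    Ideal.algebraMap_quotient_injective).symm

end Groth.Agent.S5766
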