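import Groth.Statements.S5767
import Groth.Agent.Lib.Helper24.SemiLocalDim
import Mathlib.RingTheory.KrullDimension.NonZeroDivisors

set_option autoImplicit false
universe u
open EGA41

namespace Groth.Agent.S5767

/-- Let A be a semi-local Noetherian ring, M a finitely generated A-module and x an element of the
Jacobson radical of A. One always has dim(M/xM) ≥ dim(M) - 1; equality dim(M/xM) = dim(M) - 1 holds
if and only if x belongs to none of the prime ideals p of Supp(M) with dim(A/p) = dim(M). Stated as:
dim(M/xM) + 1 = dim(M) iff x avoids those primes. -/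
theorem result (A : Type u) [CommRing A] [IsNoetherianRing A]
    [Finite (MaximalSpectrum A)] (M : Type u) [AddCommGroup M] [Module A M] [Module.Finite A M] (x : A)
    (hx : x ∈ Ring.jacobson A) :
    Module.supportDim A (QuotSMulTop x M) + 1 = Module.supportDim A M ↔
      ∀ p : PrimeSpectrum A, p ∈ Module.support A M →
        ringKrullDim (A ⧸ p.asIdeal) = Module.supportDim A M → x ∉ p.asIdeal := by
  have hfin : Module.supportDim A M < ⊤ :=
    Groth.Agent.Lib.Helper24.supportDim_lt_top_of_semilocal A M
  have hxj : x ∈ (Module.annihilator A M).jacobson :=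
    (Ideal.jacobson_bot.symm.trans_le (Ideal.jacobson_mono bot_le)) hx
  have hge := Module.supportDim_le_supportDim_quotSMulTop_succ_of_mem_jacobson (M := M) hxj
  have hsupp : Module.support A (QuotSMulTop x M) =
      Module.support A M ∩ PrimeSpectrum.zeroLocus {x} := Module.support_quotSMulTop x
  -- dimension of `A ⧸ p` is at most the dimension of a module whose support contains `V(p)`
  have hVle : ∀ (N : Type u) [AddCommGroup N] [Module A N] (p : PrimeSpectrum A),
      p ∈ Module.support A N → ringKrullDim (A ⧸ p.asIdeal) ≤ Module.supportDim A N := by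
    intro N _ _ p hp
    rw [ringKrullDim_quotient]
    unfold Module.supportDim
    refine Order.krullDim_le_of_strictMono
      (fun q : PrimeSpectrum.zeroLocus (p.asIdeal : Set A) =>
        (⟨q.1, Module.mem_support_mono (p := p) q.2 hp⟩ : Module.support A N)) ?_
    intro q₁ q₂ h
    exact h
  constructor
  · intro heq p hp hdim hxp
    have hp' : p ∈ Module.support A (QuotSMulTop x M) := by
      rw [hsupp]
      exact ⟨hp, by simpa using hxp⟩
    have h1 := hVle (QuotSMulTop x M) p hp'
    rw [hdim] at h1
    have hne : Module.supportDim A M ≠ ⊥ := by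
      rw [Module.supportDim_ne_bot_iff_nontrivial]
      exact (Module.nonempty_support_iff (R := A)).mp ⟨p, hp⟩
    obtain ⟨d, hd⟩ := WithBot.ne_bot_iff_exists.mp hne
    rw [← hd] at hfin h1 heq
    have hdtop : d ≠ ⊤ := by
      intro h
      rw [h] at hfin
      exact lt_irrefl _ hfin
    obtain ⟨n, rfl⟩ := ENat.ne_top_iff_exists.mp hdtop
    have h2 : ((n : ℕ∞) : WithBot ℕ∞) + 1 ≤ ((n : ℕ∞) : WithBot ℕ∞) := by
      calc ((n : ℕ∞) : WithBot ℕ∞) + 1 ≤ Module.supportDim A (QuotSMulTop x M) + 1 :=
            add_le_add_left h1 1
        _ = _ := heq
    have h3 : ((n + 1 : ℕ) : WithBot ℕ∞) ≤ ((n : ℕ) : WithBot ℕ∞) := by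
      simpa using h2
    have h4 : n + 1 ≤ n := by exact_mod_cast h3
    omega
  · intro h
    refine le_antisymm ?_ hge
    cases subsingleton_or_nontrivial (QuotSMulTop x M) with
    | inl hs =>
      rw [Module.supportDim_eq_bot_of_subsingleton, WithBot.bot_add]
      exact bot_le
    | inr hnt =>
      have hMnt : Nontrivial M := by
        by_contra hM
        rw [not_nontrivial_iff_subsingleton] at hM
        exact not_subsingleton (QuotSMulTop x M) (Function.Surjective.subsingleton
          (Submodule.mkQ_surjective _))
      have hne : Module.supportDim A M ≠ ⊥ :=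
        (Module.supportDim_ne_bot_iff_nontrivial A M).mpr hMnt
      obtain ⟨d, hd⟩ := WithBot.ne_bot_iff_exists.mp hne
      have hdtop : d ≠ ⊤ := by
        intro h'
        rw [← hd, h'] at hfin
        exact lt_irrefl _ hfin
      obtain ⟨n, rfl⟩ := ENat.ne_top_iff_exists.mp hdtop
      -- every chain in the support of the quotient has length `< n`
      have key : ∀ q : LTSeries (Module.support A (QuotSMulTop x M)), q.length + 1 ≤ n := by
        intro q
        by_contra hlt
        push Not at hlt
        have hq0 : q.head.1 ∈ Module.support A M ∩ PrimeSpectrum.zeroLocus {x} :=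
          hsupp ▸ q.head.2
        -- the chain lives in `V(q.head)`
        have hlen : ((q.length : ℕ) : WithBot ℕ∞) ≤ ringKrullDim (A ⧸ q.head.1.asIdeal) := by
          rw [ringKrullDim_quotient]
          calc ((q.length : ℕ) : WithBot ℕ∞) ≤ ((Order.coheight q.head : ℕ∞) : WithBot ℕ∞) := by
                exact_mod_cast Order.length_le_coheight_head (p := q)
            _ = Order.krullDim (Set.Ici q.head) := Order.coheight_eq_krullDim_Ici _
            _ ≤ _ := by
                refine Order.krullDim_le_of_strictMono
                  (fun r : Set.Ici q.head =>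
                    (⟨r.1.1, r.2⟩ : PrimeSpectrum.zeroLocus (q.head.1.asIdeal : Set A))) ?_
                intro a b hab
                exact hab
        have hle := hVle M q.head.1 hq0.1
        rw [← hd] at hle
        have hdim : ringKrullDim (A ⧸ q.head.1.asIdeal) = Module.supportDim A M := by
          rw [← hd]
          refine le_antisymm hle ?_
          refine le_trans ?_ hlen
          have : n ≤ q.length := by omega
          exact_mod_cast this
        exact h q.head.1 hq0.1 hdim (by simpa using hq0.2)
      have : Nonempty (Module.support A (QuotSMulTop x M)) :=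
        Module.nonempty_support_of_nontrivial.to_subtype
      have hn1 : 1 ≤ n := by
        have := key (RelSeries.singleton _ (Classical.arbitrary _))
        simpa using this
      rw [← hd]
      have hle' : Module.supportDim A (QuotSMulTop x M) ≤ ((n - 1 : ℕ) : WithBot ℕ∞) := by
        unfold Module.supportDim Order.krullDim
        refine iSup_le fun q => ?_
        have := key q
        have h' : q.length ≤ n - 1 := by omega
        exact_mod_cast h'
      calc Module.supportDim A (QuotSMulTop x M) + 1 ≤ ((n - 1 : ℕ) : WithBot ℕ∞) + 1 :=
            add_le_add_left hle' 1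
        _ = ((n : ℕ∞) : WithBot ℕ∞) := by
            obtain ⟨m, rfl⟩ : ∃ m, n = m + 1 := ⟨n - 1, by omega⟩
            simp only [Nat.add_sub_cancel]
            norm_cast

end Groth.Agent.S5767
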