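import Groth.Statements.S5768
import Groth.Agent.S5767
import Groth.Agent.Lib.Helper24.SystemOfParams
import Mathlib.RingTheory.KrullDimension.Field

set_option autoImplicit false
universe u
open EGA41

namespace Groth.Agent.S5768

open Groth.Agent.Lib.Helper24 in
/-- Existence of a parameter element. -/
lemma exists_param (A : Type u) [CommRing A] [IsNoetherianRing A] [Finite (MaximalSpectrum A)]
    (N : Type u) [AddCommGroup N] [Module A N] [Module.Finite A N] (e : ℕ)
    (he : Module.supportDim A N = ((e + 1 : ℕ) : WithBot ℕ∞)) :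
    ∃ y ∈ Ring.jacobson A, Module.supportDim A (QuotSMulTop y N) + 1 = Module.supportDim A N := by
  classical
  let T : Set (PrimeSpectrum A) := {p | p ∈ Module.support A N ∧
    ringKrullDim (A ⧸ p.asIdeal) = Module.supportDim A N}
  have hTmin : ∀ p ∈ T, p.asIdeal ∈ (Module.annihilator A N).minimalPrimes := by
    rintro p ⟨hp, hdim⟩
    have hle : Module.annihilator A N ≤ p.asIdeal := Module.annihilator_le_of_mem_support hp
    obtain ⟨p', hp', hp'p⟩ := Ideal.exists_minimalPrimes_le hle
    rcases eq_or_lt_of_le hp'p with h | h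
    · exact h ▸ hp'
    · exfalso
      have hp'prime : p'.IsPrime := hp'.1.1
      let P' : PrimeSpectrum A := ⟨p', hp'prime⟩
      have hP' : P' ∈ Module.support A N := Module.mem_support_iff_of_finite.mpr hp'.1.2
      have h1 := ringKrullDim_quotient_le_supportDim P' hP'
      obtain ⟨x, hxp, hxp'⟩ := SetLike.exists_of_lt h
      have h2 : ringKrullDim (A ⧸ p.asIdeal) + 1 ≤ ringKrullDim (A ⧸ p') :=
        ringKrullDim_succ_le_of_surjective (Ideal.Quotient.factor hp'p)
          (Ideal.Quotient.factor_surjective hp'p) (r := Ideal.Quotient.mk p' x)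
          (mem_nonZeroDivisors_of_ne_zero (by
            rwa [Ne, Ideal.Quotient.eq_zero_iff_mem]))
          (by
            rw [Ideal.Quotient.factor_mk, Ideal.Quotient.eq_zero_iff_mem]
            exact hxp)
      rw [hdim, he] at h2
      rw [he] at h1
      have h3 : ((e + 1 + 1 : ℕ) : WithBot ℕ∞) ≤ ((e + 1 : ℕ) : WithBot ℕ∞) := by
        refine le_trans ?_ (h2.trans h1)
        push_cast
        rfl
      have h4 : e + 1 + 1 ≤ e + 1 := by exact_mod_cast h3
      omega
  have hTfin : T.Finite := by
    have h1 : (PrimeSpectrum.asIdeal ⁻¹' (Module.annihilator A N).minimalPrimes).Finite :=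
      Set.Finite.preimage (fun a _ b _ hab => PrimeSpectrum.ext hab)
        (Ideal.finite_minimalPrimes_of_isNoetherianRing A _)
    exact h1.subset hTmin
  have hTjac : ∀ p ∈ T, ¬ Ring.jacobson A ≤ p.asIdeal := by
    rintro p ⟨hp, hdim⟩ hle
    have := Fintype.ofFinite (MaximalSpectrum A)
    have h1 : (Finset.univ.inf fun m : MaximalSpectrum A => m.asIdeal) ≤ p.asIdeal := by
      refine le_trans ?_ hle
      rw [← Ideal.jacobson_bot]
      refine le_sInf fun J hJ => ?_
      exact Finset.inf_le (f := fun m : MaximalSpectrum A => m.asIdeal)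
        (Finset.mem_univ (⟨J, hJ.2⟩ : MaximalSpectrum A))
    obtain ⟨m, -, hm⟩ := (Ideal.IsPrime.inf_le' p.2).mp h1
    have hpm : m.asIdeal = p.asIdeal := m.isMaximal.eq_of_le p.2.ne_top hm
    have hmax : p.asIdeal.IsMaximal := hpm ▸ m.isMaximal
    have hfield : IsField (A ⧸ p.asIdeal) :=
      (Ideal.Quotient.maximal_ideal_iff_isField_quotient _).mp hmax
    rw [ringKrullDim_eq_zero_of_isField hfield, he] at hdim
    have : ((0 : ℕ) : WithBot ℕ∞) = ((e + 1 : ℕ) : WithBot ℕ∞) := by exact_mod_cast hdim
    have : 0 = e + 1 := by exact_mod_cast this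
    omega
  -- prime avoidance
  let S : Finset (Ideal A) := (hTfin.image PrimeSpectrum.asIdeal).toFinset
  have hS : ∀ I ∈ S, ∃ p ∈ T, p.asIdeal = I := by
    intro I hI
    simpa [S] using hI
  have havoid : ¬ ((Ring.jacobson A : Set A) ⊆ ⋃ I ∈ (S : Set (Ideal A)), (id I : Ideal A)) := by
    intro hsub
    rw [Ideal.subset_union_prime (f := id) (⊥ : Ideal A) (⊥ : Ideal A)
      (fun I hI _ _ => by
        obtain ⟨p, -, rfl⟩ := hS I hI
        exact p.2)] at hsub
    obtain ⟨I, hI, hle⟩ := hsub
    obtain ⟨p, hp, rfl⟩ := hS I hI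
    exact hTjac p hp hle
  obtain ⟨y, hyj, hyT⟩ := Set.not_subset.mp havoid
  refine ⟨y, hyj, (Groth.Agent.S5767.result A N y hyj).mpr fun p hp hdim hyp => ?_⟩
  apply hyT
  simp only [Set.mem_iUnion]
  exact ⟨p.asIdeal, by simpa [S] using ⟨p, ⟨hp, hdim⟩, rfl⟩, hyp⟩

/-- Existence of a sequence of parameters cutting down to dimension zero. -/
lemma exists_params (A : Type u) [CommRing A] [IsNoetherianRing A] [Finite (MaximalSpectrum A)]
    (e : ℕ) : ∀ (N : Type u) [AddCommGroup N] [Module A N] [Module.Finite A N],
      Module.supportDim A N = ((e : ℕ) : WithBot ℕ∞) →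
      ∃ ys : List A, (∀ y ∈ ys, y ∈ Ring.jacobson A) ∧ ys.length = e ∧
        Module.supportDim A (N ⧸ (Ideal.ofList ys • (⊤ : Submodule A N))) = 0 := by
  induction e with
  | zero =>
    intro N _ _ _ he
    refine ⟨[], by simp, rfl, ?_⟩
    have hbot : (Ideal.ofList ([] : List A) • (⊤ : Submodule A N)) = ⊥ := by
      rw [Ideal.ofList_nil, Submodule.bot_smul]
    rw [Module.supportDim_eq_of_equiv (Submodule.quotEquivOfEqBot _ hbot), he]
    rfl
  | succ e ih =>
    intro N _ _ _ he
    obtain ⟨y, hyj, hy⟩ := exists_param A N e he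
    have hy' : Module.supportDim A (QuotSMulTop y N) = ((e : ℕ) : WithBot ℕ∞) := by
      rw [he] at hy
      generalize Module.supportDim A (QuotSMulTop y N) = a at hy
      induction a using WithBot.recBotCoe with
      | bot =>
        rw [WithBot.bot_add] at hy
        exact absurd hy.symm (WithBot.natCast_ne_bot _)
      | coe a =>
        induction a using ENat.recTopCoe with
        | top =>
          exfalso
          have : ((⊤ : ℕ∞) : WithBot ℕ∞) + 1 = ((⊤ : ℕ∞) : WithBot ℕ∞) := rfl
          rw [this] at hy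
          have h2 : (⊤ : ℕ∞) = ((e + 1 : ℕ) : ℕ∞) := by exact_mod_cast hy
          exact ENat.top_ne_natCast _ h2
        | coe n =>
          have h2 : ((n + 1 : ℕ) : WithBot ℕ∞) = ((e + 1 : ℕ) : WithBot ℕ∞) := by
            rw [← hy]; push_cast; rfl
          have h3 : n + 1 = e + 1 := by exact_mod_cast h2
          have h4 : n = e := by omega
          rw [h4]
          rfl
    obtain ⟨ys, hys, hlen, hdim⟩ := ih (QuotSMulTop y N) hy'
    refine ⟨y :: ys, ?_, by simp [hlen], ?_⟩
    · intro z hz
      rcases List.mem_cons.mp hz with rfl | hz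
      · exact hyj
      · exact hys z hz
    · rw [Module.supportDim_eq_of_equiv
        (Submodule.quotOfListConsSMulTopEquivQuotSMulTopInner N y ys)]
      exact hdim

/-- Let A be a semi-local Noetherian ring with Jacobson radical r, M a nonzero finitely generated
A-module and x_1, ..., x_k elements of r. One always has dim(M/(x_1 M + ... + x_k M)) ≥ dim(M) - k,
and equality holds if and only if there exist further elements of r which together with the x_i form
a system of parameters for M (dim(M) elements of r modulo which M has finite length). -/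
theorem result (A : Type u) [CommRing A]
    [IsNoetherianRing A] [Finite (MaximalSpectrum A)] (M : Type u) [AddCommGroup M] [Module A M]
    [Module.Finite A M] [Nontrivial M] (xs : List A) (hxs : ∀ x ∈ xs, x ∈ Ring.jacobson A) :
    Module.supportDim A (M ⧸ (Ideal.ofList xs • (⊤ : Submodule A M))) + xs.length = Module.supportDim A M ↔
      ∃ ys : List A, (∀ y ∈ ys, y ∈ Ring.jacobson A) ∧
        ((xs ++ ys).length : WithBot ℕ∞) = Module.supportDim A M ∧
        IsFiniteLength A (M ⧸ (Ideal.ofList (xs ++ ys) • (⊤ : Submodule A M))) := by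
  have hL1 := Groth.Agent.Lib.Helper24.supportDim_le_supportDim_quot_ofList_add_length xs hxs M
  constructor
  · intro h
    set N := M ⧸ (Ideal.ofList xs • (⊤ : Submodule A M)) with hN
    have hNnt : Nontrivial N := by
      rw [hN, Submodule.Quotient.nontrivial_iff]
      refine (Submodule.top_ne_ideal_smul_of_le_jacobson_annihilator ?_).symm
      refine le_trans ?_ (Ideal.jacobson_bot.symm.trans_le (Ideal.jacobson_mono bot_le))
      rw [Ideal.ofList, Ideal.span_le]
      intro x hx
      exact hxs x hx
    have hne : Module.supportDim A N ≠ ⊥ := (Module.supportDim_ne_bot_iff_nontrivial A N).mpr hNnt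
    have hfin : Module.supportDim A N < ⊤ :=
      Groth.Agent.Lib.Helper24.supportDim_lt_top_of_semilocal A N
    obtain ⟨d, hd⟩ := WithBot.ne_bot_iff_exists.mp hne
    have hdtop : d ≠ ⊤ := by
      intro h'
      rw [← hd, h'] at hfin
      exact lt_irrefl _ hfin
    obtain ⟨e, rfl⟩ := ENat.ne_top_iff_exists.mp hdtop
    obtain ⟨ys, hys, hlen, hdim⟩ := exists_params A e N hd.symm
    refine ⟨ys, hys, ?_, ?_⟩
    · rw [← h, ← hd, List.length_append, hlen]
      push_cast
      rw [add_comm]
    · apply Groth.Agent.Lib.Helper24.isFiniteLength_of_supportDim_le_zero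
      rw [← Groth.Agent.Lib.Helper24.supportDim_quot_quot_eq, hdim]
  · rintro ⟨ys, hys, hlen, hfl⟩
    have h0 := Groth.Agent.Lib.Helper24.supportDim_le_zero_of_isFiniteLength hfl
    rw [← Groth.Agent.Lib.Helper24.supportDim_quot_quot_eq] at h0
    have h1 := Groth.Agent.Lib.Helper24.supportDim_le_supportDim_quot_ofList_add_length ys hys
      (M ⧸ (Ideal.ofList xs • (⊤ : Submodule A M)))
    refine le_antisymm ?_ hL1
    rw [← hlen]
    calc Module.supportDim A (M ⧸ (Ideal.ofList xs • (⊤ : Submodule A M))) + (xs.length : WithBot ℕ∞)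
        ≤ (0 + (ys.length : WithBot ℕ∞)) + (xs.length : WithBot ℕ∞) :=
          add_le_add_left (h1.trans (add_le_add_left h0 _)) _
      _ = _ := by
          rw [zero_add, List.length_append, add_comm]
          push_cast
          rfl

end Groth.Agent.S5768
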