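import Groth.Statements.S5769
import Mathlib.RingTheory.Ideal.KrullsHeightTheorem

set_option autoImplicit false
universe u
open EGA41

namespace Groth.Agent.S5769

/-- Let φ : A → B be a local homomorphism of Noetherian local rings, m the maximal ideal of A and k its
residue field. Then dim(B) ≤ dim(A) + dim(B ⊗_A k), where B ⊗_A k = B/mB. -/
theorem result (A B : Type u) [CommRing A] [CommRing B]
    [IsLocalRing A] [IsLocalRing B] [IsNoetherianRing A] [IsNoetherianRing B] [Algebra A B]
    [IsLocalHom (algebraMap A B)] :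
    ringKrullDim B ≤ ringKrullDim A +
      ringKrullDim (B ⧸ (IsLocalRing.maximalIdeal A).map (algebraMap A B)) := by
  set mA := IsLocalRing.maximalIdeal A
  set mB := IsLocalRing.maximalIdeal B
  set J := mA.map (algebraMap A B) with hJ
  have hJle : J ≤ mB := by
    exact ((IsLocalRing.local_hom_TFAE (algebraMap A B)).out 0 2 rfl rfl).mp inferInstance
  have h1 := Ideal.height_le_height_add_of_liesOver mA mB
  have hne : mB.map (Ideal.Quotient.mk J) ≠ ⊤ := by
    intro h
    have h2 := Ideal.comap_map_of_surjective (Ideal.Quotient.mk J) Ideal.Quotient.mk_surjective mB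
    rw [h, Ideal.comap_top, ← RingHom.ker_eq_comap_bot, Ideal.mk_ker, sup_eq_left.mpr hJle] at h2
    exact (IsLocalRing.maximalIdeal.isMaximal B).ne_top h2.symm
  have h3 := Ideal.height_le_ringKrullDim_of_ne_top hne
  rw [← IsLocalRing.maximalIdeal_height_eq_ringKrullDim (R := B),
    ← IsLocalRing.maximalIdeal_height_eq_ringKrullDim (R := A)]
  calc ((mB.height : ℕ∞) : WithBot ℕ∞)
      ≤ ((mA.height + (mB.map (Ideal.Quotient.mk J)).height : ℕ∞) : WithBot ℕ∞) :=
        WithBot.coe_le_coe.mpr h1
    _ = ((mA.height : ℕ∞) : WithBot ℕ∞) +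
        (((mB.map (Ideal.Quotient.mk J)).height : ℕ∞) : WithBot ℕ∞) := WithBot.coe_add _ _
    _ ≤ _ := add_le_add_right h3 _

end Groth.Agent.S5769
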