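import Groth.Statements.S5770
import Groth.Agent.S5769
import Mathlib.RingTheory.KrullDimension.NonZeroDivisors
import Mathlib.RingTheory.LocalRing.Quotient
import Mathlib.RingTheory.Spectrum.Prime.RingHom

set_option autoImplicit false
universe u
open EGA41

namespace Groth.Agent.S5770

open TensorProduct in
/-- Let φ : A → B be a local homomorphism of Noetherian local rings, m the maximal ideal of A, k = A/m,
M a finitely generated A-module and N a finitely generated B-module. Then dim_B(M ⊗_A N) ≤ dim_A(M)
+ dim(N ⊗_A k), the last dimension being that of N/mN (over B ⊗_A k or, equivalently by finiteness,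
over B). -/
theorem result (A B : Type u) [CommRing A] [CommRing B] [IsLocalRing A]
    [IsLocalRing B] [IsNoetherianRing A] [IsNoetherianRing B] [Algebra A B] [IsLocalHom (algebraMap A B)]
    (M : Type u) [AddCommGroup M] [Module A M] [Module.Finite A M] (N : Type u) [AddCommGroup N] [Module B N]
    [Module A N] [IsScalarTower A B N] [Module.Finite B N] :
    Module.supportDim B (N ⊗[A] M) ≤ Module.supportDim A M +
      Module.supportDim B (N ⧸ ((IsLocalRing.maximalIdeal A).map (algebraMap A B) • (⊤ : Submodule B N))) := by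
  classical
  cases subsingleton_or_nontrivial M with
  | inl hM =>
    have : Subsingleton (N ⊗[A] M) := inferInstance
    rw [Module.supportDim_eq_bot_of_subsingleton B (N ⊗[A] M)]
    exact bot_le
  | inr hM =>
  cases subsingleton_or_nontrivial N with
  | inl hN =>
    have : Subsingleton (N ⊗[A] M) := inferInstance
    rw [Module.supportDim_eq_bot_of_subsingleton B (N ⊗[A] M)]
    exact bot_le
  | inr hN =>
  set mA := IsLocalRing.maximalIdeal A
  set mB := mA.map (algebraMap A B) with hmB
  set I := Module.annihilator A M with hI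
  set J := Module.annihilator B N with hJ
  have hmBle : mB ≤ IsLocalRing.maximalIdeal B :=
    ((IsLocalRing.local_hom_TFAE (algebraMap A B)).out 0 2 rfl rfl).mp inferInstance
  have hItop : I ≠ ⊤ := by
    rw [Ne, hI, Module.annihilator_eq_top_iff]
    exact not_subsingleton M
  have hJtop : J ≠ ⊤ := by
    rw [Ne, hJ, Module.annihilator_eq_top_iff]
    exact not_subsingleton N
  have hIle : I ≤ mA := IsLocalRing.le_maximalIdeal hItop
  have hJle : J ≤ IsLocalRing.maximalIdeal B := IsLocalRing.le_maximalIdeal hJtop
  set K := J ⊔ I.map (algebraMap A B) with hK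
  have hImap : I.map (algebraMap A B) ≤ mB := Ideal.map_mono hIle
  have hKle : K ≤ IsLocalRing.maximalIdeal B := sup_le hJle (hImap.trans hmBle)
  have hKtop : K ≠ ⊤ := fun h => (IsLocalRing.maximalIdeal.isMaximal B).ne_top (top_le_iff.mp (h ▸ hKle))
  -- Step 1
  have hKann : K ≤ Module.annihilator B (N ⊗[A] M) := by
    refine sup_le ?_ ?_
    · intro b hb
      rw [Module.mem_annihilator]
      intro x
      induction x using TensorProduct.induction_on with
      | zero => simp
      | tmul n m =>
        rw [TensorProduct.smul_tmul', (Module.mem_annihilator.mp hb) n, TensorProduct.zero_tmul]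
      | add x y hx hy => rw [smul_add, hx, hy, add_zero]
    · rw [Ideal.map_le_iff_le_comap]
      intro a ha
      rw [Ideal.mem_comap, Module.mem_annihilator]
      intro x
      induction x using TensorProduct.induction_on with
      | zero => simp
      | tmul n m =>
        rw [TensorProduct.smul_tmul', algebraMap_smul, TensorProduct.smul_tmul,
          (Module.mem_annihilator.mp ha) m, TensorProduct.tmul_zero]
      | add x y hx hy => rw [smul_add, hx, hy, add_zero]
  have step1 : Module.supportDim B (N ⊗[A] M) ≤ ringKrullDim (B ⧸ K) := by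
    rw [ringKrullDim_quotient]
    unfold Module.supportDim
    refine Order.krullDim_le_of_strictMono
      (fun q : Module.support B (N ⊗[A] M) =>
        (⟨q.1, fun x hx => Module.annihilator_le_of_mem_support q.2 (hKann hx)⟩ :
          PrimeSpectrum.zeroLocus (K : Set B))) ?_
    intro a b hab
    exact hab
  -- Step 2: the local homomorphism `A ⧸ I → B ⧸ K`
  have hIK : I ≤ K.comap (algebraMap A B) :=
    Ideal.map_le_iff_le_comap.mp le_sup_right
  have : Nontrivial (A ⧸ I) := Ideal.Quotient.nontrivial_iff.mpr hItop
  have : Nontrivial (B ⧸ K) := Ideal.Quotient.nontrivial_iff.mpr hKtop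
  have : IsLocalRing (A ⧸ I) :=
    IsLocalRing.of_surjective' (Ideal.Quotient.mk I) Ideal.Quotient.mk_surjective
  have : IsLocalRing (B ⧸ K) :=
    IsLocalRing.of_surjective' (Ideal.Quotient.mk K) Ideal.Quotient.mk_surjective
  have hlocA : IsLocalHom (Ideal.Quotient.mk I) :=
    IsLocalHom.of_surjective (Ideal.Quotient.mk I) Ideal.Quotient.mk_surjective
  have hlocB : IsLocalHom (Ideal.Quotient.mk K) :=
    IsLocalHom.of_surjective (Ideal.Quotient.mk K) Ideal.Quotient.mk_surjective
  let _ : Algebra (A ⧸ I) (B ⧸ K) := Ideal.Quotient.algebraQuotientOfLEComap hIK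
  have halg : ∀ a : A, algebraMap (A ⧸ I) (B ⧸ K) (Ideal.Quotient.mk I a) =
      Ideal.Quotient.mk K (algebraMap A B a) := fun a => rfl
  have : IsLocalHom (algebraMap (A ⧸ I) (B ⧸ K)) := by
    constructor
    intro x hx
    obtain ⟨a, rfl⟩ := Ideal.Quotient.mk_surjective x
    rw [halg] at hx
    have h1 : IsUnit (algebraMap A B a) := isUnit_of_map_unit (Ideal.Quotient.mk K) _ hx
    exact (isUnit_of_map_unit (algebraMap A B) a h1).map (Ideal.Quotient.mk I)
  have step2 := Groth.Agent.S5769.result (A ⧸ I) (B ⧸ K)
  have hdimA : ringKrullDim (A ⧸ I) = Module.supportDim A M :=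
    (Module.supportDim_eq_ringKrullDim_quotient_annihilator A M).symm
  rw [hdimA] at step2
  -- Step 3: the dimension of the fibre ring
  set C := (B ⧸ K) ⧸ (IsLocalRing.maximalIdeal (A ⧸ I)).map (algebraMap (A ⧸ I) (B ⧸ K)) with hC
  have hmaxA : (IsLocalRing.maximalIdeal A).map (Ideal.Quotient.mk I) =
      IsLocalRing.maximalIdeal (A ⧸ I) := by
    ext x
    obtain ⟨x, rfl⟩ := Ideal.Quotient.mk_surjective x
    simp [sup_eq_left.mpr (IsLocalRing.le_maximalIdeal hItop)]
  let π : B →+* C := (Ideal.Quotient.mk _).comp (Ideal.Quotient.mk K)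
  have hπ : Function.Surjective π :=
    Ideal.Quotient.mk_surjective.comp Ideal.Quotient.mk_surjective
  have hπJ : ∀ b ∈ J, π b = 0 := by
    intro b hb
    have : Ideal.Quotient.mk K b = 0 := Ideal.Quotient.eq_zero_iff_mem.mpr (le_sup_left (a := J) hb)
    simp [π, this]
  have hπm : ∀ b ∈ mB, π b = 0 := by
    intro b hb
    have h1 : Ideal.Quotient.mk K b ∈
        (IsLocalRing.maximalIdeal (A ⧸ I)).map (algebraMap (A ⧸ I) (B ⧸ K)) := by
      rw [← hmaxA, Ideal.map_map]
      have h2 : (algebraMap (A ⧸ I) (B ⧸ K)).comp (Ideal.Quotient.mk I) =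
          (Ideal.Quotient.mk K).comp (algebraMap A B) := rfl
      rw [h2, ← Ideal.map_map]
      exact Ideal.mem_map_of_mem _ hb
    exact Ideal.Quotient.eq_zero_iff_mem.mpr h1
  have hsuppN : Module.support B (N ⧸ (mB • (⊤ : Submodule B N))) =
      Module.support B N ∩ PrimeSpectrum.zeroLocus mB := Module.support_quotient mB
  have step3 : ringKrullDim C ≤ Module.supportDim B (N ⧸ (mB • (⊤ : Submodule B N))) := by
    unfold ringKrullDim Module.supportDim
    refine Order.krullDim_le_of_strictMono
      (fun q : PrimeSpectrum C =>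
        (⟨PrimeSpectrum.comap π q, by
          rw [hsuppN, Module.support_eq_zeroLocus]
          refine ⟨fun b hb => ?_, fun b hb => ?_⟩
          · change π b ∈ q.asIdeal
            rw [hπJ b hb]; exact Ideal.zero_mem _
          · change π b ∈ q.asIdeal
            rw [hπm b hb]; exact Ideal.zero_mem _⟩ :
          Module.support B (N ⧸ (mB • (⊤ : Submodule B N))))) ?_
    intro a b hab
    exact RingHom.strictMono_comap_of_surjective hπ hab
  calc Module.supportDim B (N ⊗[A] M) ≤ ringKrullDim (B ⧸ K) := step1
    _ ≤ Module.supportDim A M + ringKrullDim C := step2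
    _ ≤ _ := add_le_add_right step3 _

end Groth.Agent.S5770
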