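import Groth.Statements.S5771
import Groth.Agent.S5769
import Mathlib.RingTheory.KrullDimension.NonZeroDivisors
import Mathlib.RingTheory.LocalRing.Quotient

set_option autoImplicit false
universe u
open EGA41

namespace Groth.Agent.S5771

lemma dim_le_aux (A B : Type u) [CommRing A] [CommRing B]
    [IsLocalRing A] [IsLocalRing B] [IsNoetherianRing A] [IsNoetherianRing B] [Algebra A B]
    [IsLocalHom (algebraMap A B)]
    (hdef : ringKrullDim (B ⧸ (IsLocalRing.maximalIdeal A).map (algebraMap A B)) = 0) :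
    ringKrullDim B ≤ ringKrullDim A := by
  have := Groth.Agent.S5769.result A B
  rwa [hdef, add_zero] at this

/-- Let φ : A → B be a local homomorphism of Noetherian local rings, m the maximal ideal of A, and
suppose mB is an ideal of definition of B (equivalently dim(B/mB) = 0). Then dim(B) ≤ dim(A); if
moreover A is an integral domain and dim(A) = dim(B), then φ is injective. -/
theorem result (A B : Type u) [CommRing A] [CommRing B]
    [IsLocalRing A] [IsLocalRing B] [IsNoetherianRing A] [IsNoetherianRing B] [Algebra A B]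
    [IsLocalHom (algebraMap A B)]
    (hdef : ringKrullDim (B ⧸ (IsLocalRing.maximalIdeal A).map (algebraMap A B)) = 0) :
    ringKrullDim B ≤ ringKrullDim A ∧
      (IsDomain A → ringKrullDim A = ringKrullDim B → Function.Injective (algebraMap A B)) := by
  refine ⟨dim_le_aux A B hdef, fun hdom heq => ?_⟩
  rw [injective_iff_map_eq_zero]
  intro k hk
  by_contra hk0
  let K := RingHom.ker (algebraMap A B)
  have hKtop : K ≠ ⊤ := RingHom.ker_ne_top _
  have : Nontrivial (A ⧸ K) := Ideal.Quotient.nontrivial_iff.mpr hKtop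
  have : IsLocalRing (A ⧸ K) :=
    IsLocalRing.of_surjective' (Ideal.Quotient.mk K) Ideal.Quotient.mk_surjective
  have : IsLocalHom (Ideal.Quotient.mk K) :=
    IsLocalHom.of_surjective (Ideal.Quotient.mk K) Ideal.Quotient.mk_surjective
  let _ : Algebra (A ⧸ K) B := (RingHom.kerLift (algebraMap A B)).toAlgebra
  have halg : ∀ a : A, algebraMap (A ⧸ K) B (Ideal.Quotient.mk K a) = algebraMap A B a :=
    fun a => RingHom.kerLift_mk (algebraMap A B) a
  have : IsLocalHom (algebraMap (A ⧸ K) B) := by
    constructor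
    intro x hx
    obtain ⟨a, rfl⟩ := Ideal.Quotient.mk_surjective x
    rw [halg] at hx
    exact (isUnit_of_map_unit (algebraMap A B) a hx).map (Ideal.Quotient.mk K)
  have hmax : (IsLocalRing.maximalIdeal A).map (Ideal.Quotient.mk K) =
      IsLocalRing.maximalIdeal (A ⧸ K) := by
    ext x
    obtain ⟨x, rfl⟩ := Ideal.Quotient.mk_surjective x
    simp [sup_eq_left.mpr (IsLocalRing.le_maximalIdeal hKtop)]
  have hmap : (IsLocalRing.maximalIdeal (A ⧸ K)).map (algebraMap (A ⧸ K) B) =
      (IsLocalRing.maximalIdeal A).map (algebraMap A B) := by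
    rw [← hmax, Ideal.map_map]
    congr 1
  have h1 : ringKrullDim B ≤ ringKrullDim (A ⧸ K) :=
    dim_le_aux (A ⧸ K) B (by rw [hmap]; exact hdef)
  have h2 : ringKrullDim (A ⧸ K) + 1 ≤ ringKrullDim A :=
    ringKrullDim_succ_le_of_surjective (Ideal.Quotient.mk K) Ideal.Quotient.mk_surjective
      (r := k) (mem_nonZeroDivisors_of_ne_zero hk0)
      (Ideal.Quotient.eq_zero_iff_mem.mpr hk)
  have h3 : ringKrullDim A + 1 ≤ ringKrullDim A :=
    le_trans (add_le_add_left (heq ▸ h1) 1) h2
  obtain ⟨d, hd⟩ := WithBot.ne_bot_iff_exists.mp (ringKrullDim_ne_bot (R := A))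
  have hdtop : d ≠ ⊤ := by
    intro h
    exact ringKrullDim_ne_top (R := A) (by rw [← hd, h]; rfl)
  obtain ⟨n, rfl⟩ := ENat.ne_top_iff_exists.mp hdtop
  rw [← hd] at h3
  have h4 : ((n + 1 : ℕ) : WithBot ℕ∞) ≤ ((n : ℕ) : WithBot ℕ∞) := by simpa using h3
  have h5 : n + 1 ≤ n := by exact_mod_cast h4
  omega

end Groth.Agent.S5771
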