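import Groth.Statements.S5772
import Mathlib.RingTheory.Filtration

set_option autoImplicit false
universe u
open scoped Pointwise
open EGA41

namespace Groth.Agent.S5772

/-- Let A be a Noetherian ring, M a finitely generated A-module and f an element of A. Then f is
M-regular (multiplication by f on M is injective) if and only if f is M-quasi-regular, i.e. the
canonical surjection (M/fM)[T] → gr(M) for the (f)-adic filtration is bijective, which amounts to:
for every k ≥ 0 and x ∈ M, f^k x ∈ f^(k+1) M implies x ∈ fM. -/
theorem result (A : Type u) [CommRing A] [IsNoetherianRing A] (M : Type u)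
    [AddCommGroup M] [Module A M] [Module.Finite A M] (f : A) :
    IsSMulRegular M f ↔
      ∀ (k : ℕ) (x : M), f ^ k • x ∈ f ^ (k + 1) • (⊤ : Submodule A M) → x ∈ f • (⊤ : Submodule A M) := by
  constructor
  · intro hreg k x hx
    rw [Submodule.mem_smul_pointwise_iff_exists] at hx ⊢
    obtain ⟨y, -, hy⟩ := hx
    refine ⟨y, Submodule.mem_top, ?_⟩
    have hk : IsSMulRegular M (f ^ k) := hreg.pow k
    apply hk
    change f ^ k • f • y = f ^ k • x
    rw [← hy, pow_succ, mul_smul]
  · intro h
    rw [isSMulRegular_iff_right_eq_zero_of_smul]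
    intro x hx
    -- `x` is divisible by every power of `f`
    have hdiv : ∀ n : ℕ, ∃ y : M, f ^ n • y = x := by
      intro n
      induction n with
      | zero => exact ⟨x, by simp⟩
      | succ n ih =>
        obtain ⟨y, hy⟩ := ih
        have h1 : f ^ (n + 1) • y ∈ f ^ (n + 1 + 1) • (⊤ : Submodule A M) := by
          have h0 : f ^ (n + 1) • y = 0 := by rw [pow_succ', mul_smul, hy, hx]
          rw [h0]
          exact Submodule.zero_mem _
        have h2 := h (n + 1) y h1
        rw [Submodule.mem_smul_pointwise_iff_exists] at h2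
        obtain ⟨z, -, hz⟩ := h2
        exact ⟨z, by rw [pow_succ, mul_smul, hz, hy]⟩
    have hmem : x ∈ (⨅ i : ℕ, (Ideal.span {f}) ^ i • ⊤ : Submodule A M) := by
      rw [Submodule.mem_iInf]
      intro n
      rw [Ideal.span_singleton_pow, Submodule.ideal_span_singleton_smul,
        Submodule.mem_smul_pointwise_iff_exists]
      obtain ⟨y, hy⟩ := hdiv n
      exact ⟨y, Submodule.mem_top, hy⟩
    obtain ⟨⟨r, hr⟩, hrx⟩ := (Ideal.mem_iInf_smul_pow_eq_bot_iff (Ideal.span {f}) x).mp hmem
    obtain ⟨a, rfl⟩ := Ideal.mem_span_singleton'.mp hr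
    rw [← hrx]
    change (a * f) • x = 0
    rw [mul_smul, hx, smul_zero]

end Groth.Agent.S5772
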