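import Groth.Statements.S5773
import Groth.Agent.Lib.Helper24.FlatRegular

set_option autoImplicit false
universe u
open EGA41

namespace Groth.Agent.S5773

open RingTheory.Sequence in
theorem aux (A B : Type u) [CommRing A] [CommRing B]
    [IsLocalRing A] [IsLocalRing B] [IsNoetherianRing A] [IsNoetherianRing B] [Algebra A B]
    [IsLocalHom (algebraMap A B)] (fs : List B) :
    ∀ (M : Type u) [AddCommGroup M] [Module B M] [Module A M]
      [IsScalarTower A B M] [Module.Finite B M],
      (∀ f ∈ fs, f ∈ IsLocalRing.maximalIdeal B) → IsWeaklyRegular M fs →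
      Module.Flat A (M ⧸ (Ideal.ofList fs • (⊤ : Submodule B M))) →
      ∀ i : ℕ, i ≤ fs.length →
        Module.Flat A (M ⧸ (Ideal.ofList (fs.take i) • (⊤ : Submodule B M))) := by
  induction fs with
  | nil =>
    intro M _ _ _ _ _ _ _ hflat i _
    rw [List.take_nil]
    exact hflat
  | cons f fs ih =>
    intro M _ _ _ _ _ hfs hreg hflat i hi
    rw [isWeaklyRegular_cons_iff] at hreg
    obtain ⟨hf, hreg'⟩ := hreg
    have hfs' : ∀ g ∈ fs, g ∈ IsLocalRing.maximalIdeal B :=
      fun g hg => hfs g (List.mem_cons_of_mem _ hg)
    have hflat' : Module.Flat A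
        (QuotSMulTop f M ⧸ (Ideal.ofList fs • (⊤ : Submodule B (QuotSMulTop f M)))) :=
      Module.Flat.of_linearEquiv
        ((Submodule.quotOfListConsSMulTopEquivQuotSMulTopInner M f fs).restrictScalars A).symm
    have key := ih (QuotSMulTop f M) hfs' hreg' hflat'
    have hM' : Module.Flat A (QuotSMulTop f M) := by
      have h0 := key 0 (Nat.zero_le _)
      rw [List.take_zero] at h0
      have hbot : (Ideal.ofList ([] : List B) • (⊤ : Submodule B (QuotSMulTop f M))) = ⊥ := by
        rw [Ideal.ofList_nil, Submodule.bot_smul]
      exact Module.Flat.of_linearEquiv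
        ((Submodule.quotEquivOfEqBot _ hbot).restrictScalars A).symm
    have hM : Module.Flat A M :=
      Groth.Agent.Lib.Helper24.flat_of_regular_of_flat_quotSMulTop A B M f
        (hfs f List.mem_cons_self) hf hM'
    cases i with
    | zero =>
      rw [List.take_zero]
      have hbot : (Ideal.ofList ([] : List B) • (⊤ : Submodule B M)) = ⊥ := by
        rw [Ideal.ofList_nil, Submodule.bot_smul]
      exact Module.Flat.of_linearEquiv ((Submodule.quotEquivOfEqBot _ hbot).restrictScalars A)
    | succ j =>
      rw [List.take_succ_cons]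
      have hj : j ≤ fs.length := by simpa using hi
      have := key j hj
      exact Module.Flat.of_linearEquiv
        ((Submodule.quotOfListConsSMulTopEquivQuotSMulTopInner M f (fs.take j)).restrictScalars A)

/-- Let A → B be a local homomorphism of Noetherian local rings, M a finitely generated B-module and
f_1, ..., f_n elements of the maximal ideal of B forming an M-regular sequence. If the quotient
M/(f_1 M + ... + f_n M) is flat over A, then all the quotients M/(f_1 M + ... + f_i M) for 0 ≤ i ≤ n
(in particular M) are flat over A. -/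
theorem result (A B : Type u) [CommRing A] [CommRing B]
    [IsLocalRing A] [IsLocalRing B] [IsNoetherianRing A] [IsNoetherianRing B] [Algebra A B]
    [IsLocalHom (algebraMap A B)] (M : Type u) [AddCommGroup M] [Module B M] [Module A M]
    [IsScalarTower A B M] [Module.Finite B M] (fs : List B) (hfs : ∀ f ∈ fs, f ∈ IsLocalRing.maximalIdeal B)
    (hreg : RingTheory.Sequence.IsWeaklyRegular M fs)
    (hflat : Module.Flat A (M ⧸ (Ideal.ofList fs • (⊤ : Submodule B M)))) (i : ℕ) (hi : i ≤ fs.length) :
    Module.Flat A (M ⧸ (Ideal.ofList (fs.take i) • (⊤ : Submodule B M))) := by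
  exact aux A B fs M hfs hreg hflat i hi

end Groth.Agent.S5773
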