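import Groth.Statements.S5776
import Groth.Agent.Lib.Helper18.RegSeq

set_option autoImplicit false
universe u
open EGA41

namespace Groth.Agent.S5776

open RingTheory.Sequence in
lemma aux (A : Type u) [CommRing A] (n : ℕ) : ∀ (M : Type u) [AddCommGroup M]
    [Module A M] (f : Fin n → A) (v : Fin n → ℕ) (_ : ∀ i, 1 ≤ v i)
    (_ : IsWeaklyRegular M (List.ofFn f)),
    IsWeaklyRegular M (List.ofFn fun i => f i ^ v i) := by
  induction n with
  | zero => intro M _ _ f v _ _; simp
  | succ n ih =>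
    intro M _ _ f v hv hf
    rw [List.ofFn_succ, isWeaklyRegular_cons_iff] at hf ⊢
    refine ⟨hf.1.pow _, ?_⟩
    apply ih
    · intro i; exact hv _
    · obtain ⟨w, hw⟩ : ∃ w, v 0 = w + 1 := ⟨v 0 - 1, (Nat.sub_add_cancel (hv 0)).symm⟩
      rw [hw]
      exact Groth.Agent.Lib.Helper18.isWeaklyRegular_quotSMulTop_pow hf.1 hf.2 w

/-- Let A be a ring, M an A-module and (f_i)_{1 ≤ i ≤ n} an M-regular sequence of elements of A. Then
for any exponents v_i ≥ 1 the sequence (f_i ^ v_i) is again M-regular. -/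
theorem result (A : Type u) [CommRing A] (M : Type u) [AddCommGroup M]
    [Module A M] (n : ℕ) (f : Fin n → A) (v : Fin n → ℕ) (hv : ∀ i, 1 ≤ v i)
    (hf : RingTheory.Sequence.IsWeaklyRegular M (List.ofFn f)) :
    RingTheory.Sequence.IsWeaklyRegular M (List.ofFn fun i => f i ^ v i) := by
  exact aux A n M f v hv hf

end Groth.Agent.S5776
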