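import Groth.Statements.S5778
import Mathlib
import Groth.Agent.Lib.Helper11.HSReg

set_option autoImplicit false
universe u
open EGA41

namespace Groth.Agent.S5778

section helpers
open EGA41

open Polynomial in
/-- if the lengths are given by binomial coefficients then the dimension is `r` -/
theorem dim_of_length (A : Type u) [CommRing A] [IsLocalRing A] [IsNoetherianRing A] (r : ℕ)
    (h : ∀ s : ℕ, Module.length A (A ⧸ IsLocalRing.maximalIdeal A ^ (s + 1)) =
        ((s + r).choose r : ℕ∞)) : ringKrullDim A = r := by
  have hFL : Groth.Agent.Lib.Helper11.HS.FL (IsLocalRing.maximalIdeal A) A :=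
    Groth.Agent.Lib.Helper11.HS.FL_maximalIdeal
  have hev : Groth.Agent.Lib.Helper11.HS.IsEvPoly
      (Groth.Agent.Lib.Helper11.HS.samuel (IsLocalRing.maximalIdeal A) A)
      (preHilbertPoly ℚ r 1) := by
    refine ⟨1, fun n hn => ?_⟩
    obtain ⟨N, rfl⟩ : ∃ N, n = N + 1 := ⟨n - 1, by omega⟩
    rw [preHilbertPoly_eq_choose_sub_add ℚ r (by omega : 1 ≤ N + 1)]
    have e : (IsLocalRing.maximalIdeal A ^ (N + 1) • ⊤ : Submodule A A) =
        IsLocalRing.maximalIdeal A ^ (N + 1) := by
      rw [smul_eq_mul, Ideal.mul_top]
    unfold Groth.Agent.Lib.Helper11.HS.samuel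
    rw [(Submodule.quotEquivOfEq _ _ e).length_eq, h N]
    have : N + 1 - 1 + r = N + r := by omega
    rw [this, ENat.toNat_natCast]
    push_cast
    rfl
  have hP := Groth.Agent.Lib.Helper11.HS.samuelPoly_eq (IsLocalRing.maximalIdeal A) A hev
  have h1 := Groth.Agent.Lib.Helper11.HS.natDegree_samuelPoly_eq_supportDim
    (IsLocalRing.maximalIdeal A) Groth.Agent.Lib.Helper11.HS.maximalIdeal_le_ringJacobson A hFL
  rw [hP, natDegree_preHilbertPoly, Module.supportDim_self_eq_ringKrullDim] at h1
  exact h1.symm

end helpers

/-- Let A be a Noetherian local ring with maximal ideal m, residue field k, and let r be the dimension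
of the k-vector space m/m². Then A is regular if and only if the canonical surjection of graded
k-algebras from the symmetric algebra of m/m² onto the associated graded ring of A for the m-adic
filtration is bijective. Since that surjection is bijective exactly when source and target have the
same length in every degree, the condition is expressed here as: length_A(A/m^(s+1)) equals the
binomial coefficient C(s+r, r) for every s ≥ 0. -/
theorem result (A : Type u) [CommRing A] [IsLocalRing A]
    [IsNoetherianRing A] :
    IsRegularLocalRing A ↔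
      ∀ s : ℕ, Module.length A (A ⧸ IsLocalRing.maximalIdeal A ^ (s + 1)) =
        ((s + Module.finrank (IsLocalRing.ResidueField A) (IsLocalRing.CotangentSpace A)).choose s : ℕ∞) := by
  constructor
  · intro hreg s
    have hr := (IsRegularLocalRing.iff_finrank_cotangentSpace A).1 hreg
    obtain ⟨x, hx⟩ := Groth.Agent.Lib.Helper11.HS.exists_gens_of_spanFinrank (A := A) _
      (IsLocalRing.spanFinrank_maximalIdeal_eq_finrank_cotangentSpace A)
    have h1 := Groth.Agent.Lib.Helper11.HS.length_Sq_succ_eq_choose x hx hr.symm s
    have e : (IsLocalRing.maximalIdeal A ^ (s + 1) • ⊤ : Submodule A A) =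
        IsLocalRing.maximalIdeal A ^ (s + 1) := by
      rw [smul_eq_mul, Ideal.mul_top]
    rw [← (Submodule.quotEquivOfEq _ _ e).length_eq, h1, Nat.choose_symm_add]
  · intro h
    rw [IsRegularLocalRing.iff_finrank_cotangentSpace]
    refine (dim_of_length A _ (fun s => ?_)).symm
    rw [h s, Nat.choose_symm_add]

end Groth.Agent.S5778
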