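import Groth.Statements.S5780
import Mathlib.RingTheory.Ideal.AssociatedPrime.Finiteness
import Mathlib.RingTheory.Nakayama
import Mathlib.RingTheory.Ideal.Operations

set_option autoImplicit false
universe u
open EGA41

namespace Groth.Agent.S5780

/-- Let A be a Noetherian local ring with maximal ideal m. If every element of m which is not in m² is a
zero divisor in A, then there is a nonzero c in A with c m = 0, i.e. m is an associated prime of A. -/
theorem result (A : Type u) [CommRing A]
    [IsLocalRing A] [IsNoetherianRing A]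
    (h : ∀ a ∈ IsLocalRing.maximalIdeal A, a ∉ IsLocalRing.maximalIdeal A ^ 2 → ¬ IsSMulRegular A a) :
    IsLocalRing.maximalIdeal A ∈ associatedPrimes A A := by
  classical
  have hfin := associatedPrimes.finite A A
  have hsub : ((IsLocalRing.maximalIdeal A : Ideal A) : Set A) ⊆
      ((IsLocalRing.maximalIdeal A ^ 2 : Ideal A) : Set A) ∪ ((IsLocalRing.maximalIdeal A ^ 2 : Ideal A) : Set A) ∪
        ⋃ p ∈ (hfin.toFinset : Set (Ideal A)), (p : Set A) := by
    intro a ha
    by_cases h2 : a ∈ IsLocalRing.maximalIdeal A ^ 2
    · exact Or.inl (Or.inl h2)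
    · right
      have h3 := h a ha h2
      have h4 : a ∈ ({ r : A | IsSMulRegular A r }ᶜ : Set A) := h3
      rw [← biUnion_associatedPrimes_eq_compl_regular A A] at h4
      simpa using h4
  have hp : ∀ p ∈ hfin.toFinset, Ideal.IsPrime (id p : Ideal A) := by
    intro p hp
    rw [Set.Finite.mem_toFinset] at hp
    exact hp.isPrime
  have final : ∀ p ∈ associatedPrimes A A, IsLocalRing.maximalIdeal A ≤ p →
      IsLocalRing.maximalIdeal A ∈ associatedPrimes A A := by
    intro p hp1 hp2
    have : IsLocalRing.maximalIdeal A = p :=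
      (IsLocalRing.maximalIdeal.isMaximal A).eq_of_le hp1.isPrime.ne_top hp2
    rw [this]
    exact hp1
  have case1 : IsLocalRing.maximalIdeal A ≤ IsLocalRing.maximalIdeal A ^ 2 →
      IsLocalRing.maximalIdeal A ∈ associatedPrimes A A := by
    intro h1
    have hbot : IsLocalRing.maximalIdeal A = ⊥ := by
      apply Submodule.eq_bot_of_le_smul_of_le_jacobson_bot (IsLocalRing.maximalIdeal A)
        (IsLocalRing.maximalIdeal A) (IsNoetherian.noetherian _)
      · rwa [pow_two] at h1
      · exact IsLocalRing.maximalIdeal_le_jacobson _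
    obtain ⟨P, hP⟩ := associatedPrimes.nonempty A A
    exact final P hP (hbot ▸ bot_le)
  rcases (Ideal.subset_union_prime' (f := id) hp).mp hsub with h1 | h1 | ⟨p, hp1, hp2⟩
  · exact case1 h1
  · exact case1 h1
  · rw [Set.Finite.mem_toFinset] at hp1
    exact final p hp1 hp2

end Groth.Agent.S5780
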