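import Groth.Statements.S5781
import Mathlib.RingTheory.Ideal.Cotangent
import Mathlib.LinearAlgebra.Dual.Lemmas
import Mathlib.RingTheory.LocalRing.ResidueField.Basic

set_option autoImplicit false
universe u
open EGA41

namespace Groth.Agent.S5781

open Pointwise in
/-- Suppose A is a Noetherian local ring whose maximal ideal is m, and take a ∈ m with a ∉ m². Then the
quotient m/am contains a direct summand isomorphic to m/Aa: concretely, one can find A-linear maps f
: m/Aa → m/am and g : m/am → m/Aa such that g ∘ f is the identity. -/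
theorem result (A : Type u) [CommRing A] [IsLocalRing A]
    [IsNoetherianRing A] (a : A) (ha : a ∈ IsLocalRing.maximalIdeal A) (ha2 : a ∉ IsLocalRing.maximalIdeal A ^ 2) :
    ∃ (f : (↥(IsLocalRing.maximalIdeal A) ⧸ Submodule.span A {(⟨a, ha⟩ : ↥(IsLocalRing.maximalIdeal A))}) →ₗ[A]
          QuotSMulTop a ↥(IsLocalRing.maximalIdeal A))
      (g : QuotSMulTop a ↥(IsLocalRing.maximalIdeal A) →ₗ[A]
          (↥(IsLocalRing.maximalIdeal A) ⧸ Submodule.span A {(⟨a, ha⟩ : ↥(IsLocalRing.maximalIdeal A))})),
      g.comp f = LinearMap.id := by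
  classical
  let m := IsLocalRing.maximalIdeal A
  let k := IsLocalRing.ResidueField A
  let am : ↥m := ⟨a, ha⟩
  have hne : m.toCotangent am ≠ 0 := by
    rw [Ne, Ideal.toCotangent_eq_zero]
    exact ha2
  obtain ⟨φ0, hφ0⟩ : ∃ φ : Module.Dual k (IsLocalRing.CotangentSpace A), φ (m.toCotangent am) ≠ 0 := by
    by_contra hcon
    push Not at hcon
    exact hne ((Module.forall_dual_apply_eq_zero_iff k _).mp hcon)
  let lam : Module.Dual k (IsLocalRing.CotangentSpace A) := (φ0 (m.toCotangent am))⁻¹ • φ0
  have hlam : lam (m.toCotangent am) = 1 := by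
    simp [lam, inv_mul_cancel₀ hφ0]
  let lam' : ↥m →ₗ[A] k := (lam.restrictScalars A).comp m.toCotangent
  let Q := QuotSMulTop a ↥m
  let qa : Q := Submodule.Quotient.mk am
  have hker : m ≤ LinearMap.ker (LinearMap.toSpanSingleton A Q qa) := by
    intro c hc
    rw [LinearMap.mem_ker, LinearMap.toSpanSingleton_apply]
    change c • Submodule.Quotient.mk am = (0 : Q)
    rw [← Submodule.Quotient.mk_smul, Submodule.Quotient.mk_eq_zero]
    refine (Submodule.mem_smul_pointwise_iff_exists _ _ _).mpr ⟨⟨c, hc⟩, Submodule.mem_top, ?_⟩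
    ext
    simp [am, mul_comm]
  let idk : k →ₗ[A] (A ⧸ (m : Submodule A A)) :=
    { toFun := fun x => x, map_add' := fun _ _ => rfl, map_smul' := fun _ _ => rfl }
  let ψ' : (A ⧸ (m : Submodule A A)) →ₗ[A] Q :=
    Submodule.liftQ m (LinearMap.toSpanSingleton A Q qa) hker
  have hψ'1 : ψ' (Submodule.Quotient.mk (1 : A)) = qa := by
    have := Submodule.liftQ_apply m (LinearMap.toSpanSingleton A Q qa) (1 : A) (h := hker)
    simpa using this
  let ψ : k →ₗ[A] Q := ψ'.comp idk
  have hψ1 : ψ 1 = qa := hψ'1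
  let φ : ↥m →ₗ[A] Q := (Submodule.mkQ _) - ψ.comp lam'
  have hφa : φ am = 0 := by
    simp only [φ, LinearMap.sub_apply, LinearMap.comp_apply, lam', LinearMap.restrictScalars_apply,
      Submodule.mkQ_apply]
    rw [hlam, hψ1]
    exact sub_self _
  let f : (↥m ⧸ Submodule.span A {am}) →ₗ[A] Q :=
    Submodule.liftQ _ φ (by
      rw [Submodule.span_le, Set.singleton_subset_iff]
      exact hφa)
  have hle : (a • (⊤ : Submodule A ↥m)) ≤ (Submodule.span A {am}).comap LinearMap.id := by
    intro x hx
    obtain ⟨y, -, rfl⟩ := (Submodule.mem_smul_pointwise_iff_exists _ _ _).mp hx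
    rw [Submodule.mem_comap, LinearMap.id_apply]
    have : a • y = (y : A) • am := by
      ext
      simp [am, mul_comm]
    rw [this]
    exact Submodule.smul_mem _ _ (Submodule.mem_span_singleton_self _)
  let g : Q →ₗ[A] (↥m ⧸ Submodule.span A {am}) := Submodule.mapQ _ _ LinearMap.id hle
  have hgψ : g.comp ψ = 0 := by
    have h0 : g.comp ψ' = 0 := by
      apply Submodule.linearMap_qext
      ext
      simp only [LinearMap.comp_apply, Submodule.mkQ_apply, LinearMap.zero_apply]
      rw [hψ'1]
      change Submodule.mapQ _ _ LinearMap.id hle (Submodule.Quotient.mk am) = 0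
      rw [Submodule.mapQ_apply, LinearMap.id_apply, Submodule.Quotient.mk_eq_zero]
      exact Submodule.mem_span_singleton_self _
    change (g.comp ψ').comp idk = 0
    rw [h0, LinearMap.zero_comp]
  refine ⟨f, g, ?_⟩
  apply Submodule.linearMap_qext
  ext x
  have : g (ψ (lam' x)) = 0 := by
    rw [← LinearMap.comp_apply, hgψ, LinearMap.zero_apply]
  simp [f, φ, g, this]

end Groth.Agent.S5781
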