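import Groth.Statements.S5783
import Mathlib
import Groth.Agent.Lib.Helper18.MCMFree

set_option autoImplicit false
universe u
open EGA41

namespace Groth.Agent.S5783

/-- Let A be a regular local ring, B a local ring and ρ : A → B a local homomorphism making B a finitely
generated A-module. Then B is a free A-module if and only if B is a Cohen-Macaulay ring and ρ is
injective (the latter being equivalent to dim(B) = dim(A)). -/
theorem result (A B : Type u) [CommRing A] [CommRing B]
    [IsRegularLocalRing A] [IsLocalRing B] [Algebra A B] [IsLocalHom (algebraMap A B)] [Module.Finite A B] :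
    Module.Free A B ↔ LocCoh.IsCohenMacaulayLocalRing B ∧ Function.Injective (algebraMap A B) := by
  have hNB : IsNoetherianRing B :=
    isNoetherian_of_tower A (isNoetherian_of_isNoetherianRing_of_finite A B)
  have hint : Algebra.IsIntegral A B := Algebra.IsIntegral.of_finite A B
  constructor
  · intro hfree
    have hinj : Function.Injective (algebraMap A B) := FaithfulSMul.algebraMap_injective A B
    refine ⟨?_, hinj⟩
    have hdim := Groth.Agent.Lib.Helper12.ringKrullDim_eq_of_isIntegral_of_injective A B hinj
    have h1 := Groth.Agent.Lib.Helper18.CM.ringKrullDim_le_depth_of_free A B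
    rw [Groth.Agent.Lib.Helper18.CM.depth_eq_of_finite (A := A) (B := B) B, hdim] at h1
    have h2 := Groth.Agent.Lib.Helper18.CM.depth_le_supportDim (R := B) B
    rw [Module.supportDim_self_eq_ringKrullDim] at h2
    exact
      { supportDim_eq_depth := by
          rw [Module.supportDim_self_eq_ringKrullDim]
          exact le_antisymm h1 h2 }
  · rintro ⟨hCM, hinj⟩
    have hdim := Groth.Agent.Lib.Helper12.ringKrullDim_eq_of_isIntegral_of_injective A B hinj
    have h1 := hCM.supportDim_eq_depth
    rw [Module.supportDim_self_eq_ringKrullDim, ← hdim,
      ← Groth.Agent.Lib.Helper18.CM.depth_eq_of_finite (A := A) (B := B) B] at h1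
    exact Groth.Agent.Lib.Helper18.CM.free_of_le_depth A B h1.le

end Groth.Agent.S5783
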