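import Groth.Statements.S5793
import Mathlib
import Groth.Agent.Lib.Helper18.TopDim

set_option autoImplicit false
universe u
open TopDim

namespace Groth.Agent.S5793

/-- Let X be a Noetherian Kolmogoroff space. Then dim(X) = sup dim_x(X), the supremum being over the
closed points x of X only. -/
theorem result (X : Type u) [TopologicalSpace X]
    [TopologicalSpace.NoetherianSpace X] [T0Space X] :
    topologicalKrullDim X = ⨆ x ∈ {x : X | IsClosed ({x} : Set X)}, FlatMor.localDim X x := by
  exact Groth.Agent.Lib.Helper18.TopDim.topologicalKrullDim_eq_biSup_closedPoints

end Groth.Agent.S5793
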