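import Groth.Statements.S5794
import Mathlib
import Groth.Agent.Lib.Helper18.TopDim

set_option autoImplicit false
universe u
open TopDim

namespace Groth.Agent.S5794

/-- Let X be a nonempty Noetherian Kolmogoroff space. Then dim(X) = 0 if and only if X is finite and
discrete. -/
theorem result (X : Type u) [TopologicalSpace X]
    [TopologicalSpace.NoetherianSpace X] [T0Space X] [Nonempty X] :
    topologicalKrullDim X = 0 ↔ Finite X ∧ DiscreteTopology X := by
  exact Groth.Agent.Lib.Helper18.TopDim.topologicalKrullDim_eq_zero_iff

end Groth.Agent.S5794
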