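import Groth.Statements.S5800
import Mathlib.Tactic
-- import your own Groth.Agent.* helpers here

set_option autoImplicit false
universe u
open TopDim

namespace Groth.Agent.S5800

open TopologicalSpace Topology

theorem isPreirreducible_of_image {X Y : Type*} [TopologicalSpace X] [TopologicalSpace Y]
    {f : Y → X} (hf : IsInducing f) {s : Set Y} (h : IsPreirreducible (f '' s)) :
    IsPreirreducible s := by
  intro u v hu hv ⟨a, has, hau⟩ ⟨b, hbs, hbv⟩
  obtain ⟨u', hu', rfl⟩ := hf.isOpen_iff.mp hu
  obtain ⟨v', hv', rfl⟩ := hf.isOpen_iff.mp hv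
  obtain ⟨z, ⟨y, hys, rfl⟩, hzu, hzv⟩ := h u' v' hu' hv' ⟨f a, ⟨a, has, rfl⟩, hau⟩
    ⟨f b, ⟨b, hbs, rfl⟩, hbv⟩
  exact ⟨y, hys, hzu, hzv⟩

/-- the dimension of a space is bounded by the dimensions of a finite closed cover -/
theorem dim_le_of_finite_closed_cover {X : Type*} [TopologicalSpace X] {ι : Type*} [Finite ι]
    (C : ι → Set X) (hC : ∀ i, IsClosed (C i)) (hcov : ⋃ i, C i = Set.univ) :
    topologicalKrullDim X ≤ ⨆ i, topologicalKrullDim (C i) := by
  classical
  unfold topologicalKrullDim
  rw [Order.krullDim]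
  apply iSup_le
  intro p
  -- the last element is contained in some `C i`
  have hlast : ∃ i, (p.last : Set X) ⊆ C i := by
    have hirr := p.last.isIrreducible
    rw [isIrreducible_iff_sUnion_isClosed] at hirr
    have := Fintype.ofFinite ι
    obtain ⟨z, hz, hsub⟩ := hirr (Finset.univ.image C) (by
      intro z hz
      obtain ⟨i, _, rfl⟩ := Finset.mem_image.mp hz
      exact hC i) (by
      intro y _
      have : y ∈ ⋃ i, C i := hcov ▸ Set.mem_univ y
      obtain ⟨i, hi⟩ := Set.mem_iUnion.mp this
      exact ⟨C i, by simp, hi⟩)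
    obtain ⟨i, _, rfl⟩ := Finset.mem_image.mp hz
    exact ⟨i, hsub⟩
  obtain ⟨i, hi⟩ := hlast
  have hsub : ∀ k, (p k : Set X) ⊆ C i := fun k =>
    (show (p k : Set X) ⊆ p.last from
      SetLike.coe_subset_coe.mpr (p.monotone (Fin.le_last k))).trans hi
  have himg : ∀ k, ((↑) : C i → X) '' (((↑) : C i → X) ⁻¹' (p k : Set X)) = (p k : Set X) := by
    intro k
    rw [Subtype.image_preimage_coe]
    exact Set.inter_eq_right.mpr (hsub k)
  let q : LTSeries (IrreducibleCloseds (C i)) :=
    { length := p.length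
      toFun := fun k =>
        { carrier := ((↑) : C i → X) ⁻¹' (p k : Set X)
          isIrreducible' := by
            constructor
            · obtain ⟨y, hy⟩ := (p k).isIrreducible.nonempty
              exact ⟨⟨y, hsub k hy⟩, hy⟩
            · apply isPreirreducible_of_image IsInducing.subtypeVal
              rw [himg k]
              exact (p k).isIrreducible.isPreirreducible
          isClosed' := (p k).isClosed.preimage continuous_subtype_val }
      step := by
        intro k
        have hlt : p k.castSucc < p k.succ := p.step k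
        change (_ : IrreducibleCloseds (C i)) < _
        rw [← SetLike.coe_ssubset_coe] at hlt ⊢
        change ((↑) : C i → X) ⁻¹' (p k.castSucc : Set X) ⊂ ((↑) : C i → X) ⁻¹' (p k.succ : Set X)
        refine ⟨Set.preimage_mono hlt.1, fun hle => hlt.2 ?_⟩
        rw [← himg k.succ, ← himg k.castSucc]
        exact Set.image_mono hle }
  have h1 : (p.length : WithBot ℕ∞) ≤ Order.krullDim (IrreducibleCloseds (C i)) :=
    Order.LTSeries.length_le_krullDim q
  exact h1.trans (le_iSup (fun i => Order.krullDim (IrreducibleCloseds (C i))) i)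

/-- Let X be a topological space, x a point of X and (Y_i) a finite family of closed subsets each
containing x whose union is X. Then dim_x(X) = sup_i dim_x(Y_i). (The published statement lets the
Y_i be closed subsets of a neighbourhood U of x covering U; this row is the case U = X.) -/
theorem result (X : Type u) [TopologicalSpace X] (x : X)
    (ι : Type u) [Finite ι] (Y : ι → Set X) (hY : ∀ i, IsClosed (Y i)) (hx : ∀ i, x ∈ Y i)
    (hcov : ⋃ i, Y i = Set.univ) :
    FlatMor.localDim X x = ⨆ i, FlatMor.localDim (Y i) ⟨x, hx i⟩ := by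
  apply le_antisymm
  · -- choose neighbourhoods realising the local dimensions
    have hatt : ∀ i, ∃ V : {V : Opens (Y i) // (⟨x, hx i⟩ : Y i) ∈ V},
        topologicalKrullDim (V.1 : Set (Y i)) = FlatMor.localDim (Y i) ⟨x, hx i⟩ := by
      intro i
      have : Nonempty {V : Opens (Y i) // (⟨x, hx i⟩ : Y i) ∈ V} := ⟨⟨⊤, trivial⟩⟩
      obtain ⟨V, hV⟩ := ciInf_mem (fun V : {V : Opens (Y i) // (⟨x, hx i⟩ : Y i) ∈ V} =>
        topologicalKrullDim (V.1 : Set (Y i)))
      exact ⟨V, hV⟩
    choose V hV using hatt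
    have hopen : ∀ i, ∃ U : Set X, IsOpen U ∧ ((↑) : Y i → X) ⁻¹' U = ((V i).1 : Set (Y i)) := by
      intro i
      exact isOpen_induced_iff.mp (V i).1.isOpen
    choose U hUo hUV using hopen
    have hxU : ∀ i, x ∈ U i := by
      intro i
      have h1 : (⟨x, hx i⟩ : Y i) ∈ ((V i).1 : Set (Y i)) := (V i).2
      rw [← hUV i] at h1
      exact h1
    let W : Opens X := ⟨⋂ i, U i, isOpen_iInter_of_finite hUo⟩
    have hxW : x ∈ W := Set.mem_iInter.mpr hxU
    have h1 : FlatMor.localDim X x ≤ topologicalKrullDim (W : Set X) :=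
      iInf_le (fun U : {U : Opens X // x ∈ U} => topologicalKrullDim (U.1 : Set X)) ⟨W, hxW⟩
    refine h1.trans ?_
    -- closed cover of `W`
    have h2 := dim_le_of_finite_closed_cover (X := (W : Set X))
      (fun i => (Subtype.val : ↥(W : Set X) → X) ⁻¹' (Y i))
      (fun i => (hY i).preimage continuous_subtype_val) (by
        ext y
        simp only [Set.mem_iUnion, Set.mem_preimage, Set.mem_univ, iff_true]
        have : y.1 ∈ ⋃ i, Y i := hcov ▸ Set.mem_univ _
        exact Set.mem_iUnion.mp this)
    refine h2.trans ?_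
    apply iSup_mono
    intro i
    rw [← hV i]
    -- an inducing map
    let g : ((Subtype.val : ↥(W : Set X) → X) ⁻¹' (Y i)) → ((V i).1 : Set (Y i)) := fun y =>
      ⟨⟨y.1.1, y.2⟩, by
        have h3 : (y.1.1 : X) ∈ U i := Set.mem_iInter.mp y.1.2 i
        have h4 : (⟨y.1.1, y.2⟩ : Y i) ∈ ((↑) : Y i → X) ⁻¹' (U i) := h3
        rw [hUV i] at h4
        exact h4⟩
    have hg : IsInducing g := by
      have h5 : IsInducing (((↑) : Y i → X) ∘ ((↑) : ((V i).1 : Set (Y i)) → Y i)) :=
        IsInducing.subtypeVal.comp IsInducing.subtypeVal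
      have h6 : IsInducing ((((↑) : Y i → X) ∘ ((↑) : ((V i).1 : Set (Y i)) → Y i)) ∘ g) := by
        have : (((↑) : Y i → X) ∘ ((↑) : ((V i).1 : Set (Y i)) → Y i)) ∘ g =
            (Subtype.val : ↥(W : Set X) → X) ∘ (Subtype.val : ((Subtype.val : ↥(W : Set X) → X) ⁻¹' (Y i)) → (W : Set X)) := by
          funext y; rfl
        rw [this]
        exact IsInducing.subtypeVal.comp IsInducing.subtypeVal
      exact (h5.of_comp_iff).mp h6
    exact hg.topologicalKrullDim_le
  · apply iSup_le
    intro i
    apply le_iInf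
    intro U
    let V' : {V : Opens (Y i) // (⟨x, hx i⟩ : Y i) ∈ V} :=
      ⟨⟨((↑) : Y i → X) ⁻¹' (U.1 : Set X), U.1.isOpen.preimage continuous_subtype_val⟩, U.2⟩
    have h1 : FlatMor.localDim (Y i) ⟨x, hx i⟩ ≤ topologicalKrullDim (V'.1 : Set (Y i)) :=
      iInf_le (fun V : {V : Opens (Y i) // (⟨x, hx i⟩ : Y i) ∈ V} =>
        topologicalKrullDim (V.1 : Set (Y i))) V'
    refine h1.trans ?_
    let g : ((V'.1 : Opens (Y i)) : Set (Y i)) → (U.1 : Set X) := fun y => ⟨y.1.1, y.2⟩
    have hg : IsInducing g := by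
      have h5 : IsInducing ((↑) : (U.1 : Set X) → X) := IsInducing.subtypeVal
      have h6 : IsInducing (((↑) : (U.1 : Set X) → X) ∘ g) := by
        have : ((↑) : (U.1 : Set X) → X) ∘ g =
            ((↑) : Y i → X) ∘ ((↑) : ((V'.1 : Opens (Y i)) : Set (Y i)) → Y i) := by
          funext y; rfl
        rw [this]
        exact IsInducing.subtypeVal.comp IsInducing.subtypeVal
      exact (h5.of_comp_iff).mp h6
    exact hg.topologicalKrullDim_le

end Groth.Agent.S5800
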