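import Groth.Statements.S5805
import Groth.Agent.Lib.Helper4.GlobalDim
import Groth.Agent.S5804

set_option autoImplicit false
universe u
open CategoryTheory
open EGA41

namespace Groth.Agent.S5805

theorem result (A : Type u) [CommRing A] [IsLocalRing A]
    [IsNoetherianRing A] (n : ℕ)
    (hk : HasProjectiveDimensionLT (ModuleCat.of A (IsLocalRing.ResidueField A)) (n + 1)) (M : Type u)
    [AddCommGroup M] [Module A M] : HasProjectiveDimensionLT (ModuleCat.of A M) (n + 1) := by
  refine Groth.Agent.S5804.result A n (fun I => ?_) M
  exact Groth.Agent.Lib.Helper4.hasProjectiveDimensionLT_of_residueField_of_finite n hk (A ⧸ I)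

end Groth.Agent.S5805
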