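import Groth.Statements.S5807
import Mathlib.RingTheory.RegularLocalRing.Polynomial
import Mathlib.RingTheory.Localization.LocalizationLocalization
-- import your own Groth.Agent.* helpers here

set_option autoImplicit false
universe u
open EGA41

namespace Groth.Agent.S5807


theorem isRegularRing_localization {R : Type u} [CommRing R] [IsRegularRing R] (T : Submonoid R) :
    IsRegularRing (Localization T) := by
  have : IsNoetherianRing (Localization T) := IsLocalization.isNoetherianRing T _ inferInstance
  rw [isRegularRing_iff]
  intro p hp
  exact IsRegularLocalRing.of_ringEquiv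
    (IsLocalization.localizationLocalizationAtPrimeIsoLocalization T p).toRingEquiv

/-- Let A be a Noetherian ring which is a quotient of a regular ring B, and C an A-algebra of finite
type. Then every ring of fractions of C is a quotient of a regular ring. -/
theorem result (B A C : Type u) [CommRing B]
    [IsRegularRing B] [CommRing A] (π : B →+* A) (hπ : Function.Surjective π) [CommRing C] [Algebra A C]
    [Algebra.FiniteType A C] (S : Submonoid C) :
    ∃ (R : Type u) (_ : CommRing R) (_ : IsRegularRing R) (f : R →+* Localization S),
      Function.Surjective f := by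
  obtain ⟨n, φ, hφ⟩ := Algebra.FiniteType.iff_quotient_mvPolynomial''.mp
    (inferInstance : Algebra.FiniteType A C)
  let ψ : MvPolynomial (Fin n) B →+* C := φ.toRingHom.comp (MvPolynomial.map π)
  have hψ : Function.Surjective ψ := hφ.comp (MvPolynomial.map_surjective π hπ)
  let T : Submonoid (MvPolynomial (Fin n) B) := S.comap ψ
  have hT : T ≤ S.comap ψ := le_rfl
  refine ⟨Localization T, inferInstance, isRegularRing_localization T,
    IsLocalization.map (Localization S) ψ hT, ?_⟩
  intro x
  obtain ⟨⟨c, s⟩, rfl⟩ := IsLocalization.mk'_surjective S x
  obtain ⟨p, rfl⟩ := hψ c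
  obtain ⟨t, ht⟩ := hψ s
  have htT : t ∈ T := by
    change ψ t ∈ S
    rw [ht]
    exact s.2
  refine ⟨IsLocalization.mk' (Localization T) p ⟨t, htT⟩, ?_⟩
  rw [IsLocalization.map_mk']
  congr 1
  exact Subtype.ext ht

end Groth.Agent.S5807
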