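import Groth.Statements.S5809
import Groth.Agent.Lib.Helper10.Resolution
import Mathlib.Tactic
import Mathlib.RingTheory.LocalRing.Module
import Mathlib.CategoryTheory.Monoidal.Tor
import Mathlib.Algebra.Category.ModuleCat.Monoidal.Basic
import Mathlib.CategoryTheory.Abelian.Projective.Dimension
-- import your own Groth.Agent.* helpers here

set_option autoImplicit false
universe u
open CategoryTheory
open EGA41

namespace Groth.Agent.S5809

open Limits Groth.Agent.Lib.Helper10

section shift

variable {C D : Type (u + 1)} [Category.{u} C] [Category.{u} D] [Abelian C] [Abelian D]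
  [EnoughProjectives C] (G : C ⥤ D) [G.Additive]

set_option backward.defeqAttrib.useBackward true in
set_option backward.isDefEq.respectTransparency false in
/-- dimension shifting for left derived functors in degrees `≥ 2` -/
theorem shift_succ {Z K P₀ : C} (hP₀ : Projective P₀) (i : K ⟶ P₀) (p : P₀ ⟶ Z)
    (w : i ≫ p = 0) (hS : (ShortComplex.mk i p w).ShortExact) (j : ℕ) :
    IsZero ((G.leftDerived (j + 2)).obj Z) ↔ IsZero ((G.leftDerived (j + 1)).obj K) := by
  let Q := projectiveResolution K
  let P := spliceResolution hP₀ i p w hS Q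
  have e1 : IsZero ((G.leftDerived (j + 2)).obj Z) ↔
      ((G.mapHomologicalComplex _).obj P.complex).ExactAt (j + 2) := by
    rw [HomologicalComplex.exactAt_iff_isZero_homology]
    exact (P.isoLeftDerivedObj G (j + 2)).isZero_iff
  have e2 : IsZero ((G.leftDerived (j + 1)).obj K) ↔
      ((G.mapHomologicalComplex _).obj Q.complex).ExactAt (j + 1) := by
    rw [HomologicalComplex.exactAt_iff_isZero_homology]
    exact (Q.isoLeftDerivedObj G (j + 1)).isZero_iff
  rw [e1, e2, HomologicalComplex.exactAt_iff' _ (j + 3) (j + 2) (j + 1) (by simp) (by simp),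
    HomologicalComplex.exactAt_iff' _ (j + 2) (j + 1) j (by simp) (by simp)]
  have hj : Q.complex.d 1 0 ≫ Q.π.f 0 ≫ i = 0 := by
    rw [← Category.assoc, Q.complex_d_comp_π_f_zero, zero_comp]
  apply ShortComplex.exact_iff_of_iso
  refine ShortComplex.isoMk (Iso.refl _) (Iso.refl _) (Iso.refl _) ?_ ?_
  · dsimp
    have : P.complex.d (j + 3) (j + 2) = Q.complex.d (j + 2) (j + 1) :=
      spliceComplex_d_succ _ Q.complex (Q.π.f 0 ≫ i) hj (j + 1)
    rw [this]
    exact (Category.id_comp _).trans (Category.comp_id _).symm
  · dsimp
    have : P.complex.d (j + 2) (j + 1) = Q.complex.d (j + 1) j :=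
      spliceComplex_d_succ _ Q.complex (Q.π.f 0 ≫ i) hj j
    rw [this]
    exact (Category.id_comp _).trans (Category.comp_id _).symm

end shift

section modules

variable (A : Type u) [CommRing A]

/-- the functor `k ⊗ -` -/
noncomputable abbrev G (X : ModuleCat.{u} A) : ModuleCat.{u} A ⥤ ModuleCat.{u} A :=
  (MonoidalCategory.tensoringLeft (ModuleCat.{u} A)).obj X

variable {A}

/-- the short exact sequence of a surjection -/
theorem shortExact_of_surjective {F M : Type u} [AddCommGroup F] [Module A F] [AddCommGroup M]
    [Module A M] (g : F →ₗ[A] M) (hg : Function.Surjective g) :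
    ∃ w : (ModuleCat.ofHom (LinearMap.ker g).subtype : ModuleCat.of A (LinearMap.ker g) ⟶ _) ≫
        (ModuleCat.ofHom g : ModuleCat.of A F ⟶ ModuleCat.of A M) = 0,
      (ShortComplex.mk _ _ w).ShortExact := by
  have w : (ModuleCat.ofHom (LinearMap.ker g).subtype : ModuleCat.of A (LinearMap.ker g) ⟶ _) ≫
        (ModuleCat.ofHom g : ModuleCat.of A F ⟶ ModuleCat.of A M) = 0 := by
    ext x
    exact x.2
  exact ⟨w, ModuleCat.shortComplex_shortExact _ (LinearMap.exact_subtype_ker_map g)
    (Submodule.injective_subtype _) hg⟩

set_option backward.defeqAttrib.useBackward true in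
set_option backward.isDefEq.respectTransparency false in
/-- vanishing of `Tor₁(X, M)` gives injectivity of `X ⊗ K → X ⊗ F` -/
theorem injective_of_isZero_tor_one (X : ModuleCat.{u} A) {F M : Type u} [AddCommGroup F] [Module A F]
    [AddCommGroup M] [Module A M] [Module.Projective A F] (g : F →ₗ[A] M)
    (hg : Function.Surjective g)
    (hz : IsZero (((G A X).leftDerived 1).obj (ModuleCat.of A M))) :
    Function.Injective (LinearMap.lTensor X (LinearMap.ker g).subtype) := by
  obtain ⟨w, hS⟩ := shortExact_of_surjective g hg
  let i : ModuleCat.of A (LinearMap.ker g) ⟶ ModuleCat.of A F :=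
    ModuleCat.ofHom (LinearMap.ker g).subtype
  let p : ModuleCat.of A F ⟶ ModuleCat.of A M := ModuleCat.ofHom g
  let Q := projectiveResolution (ModuleCat.of A (LinearMap.ker g))
  have hR : Projective (ModuleCat.of A F) := ModuleCat.projective_of_categoryTheory_projective _
  let P := spliceResolution hR i p w hS Q
  have hz' := hz.of_iso (P.isoLeftDerivedObj (G A X) 1).symm
  have hex : (((G A X).mapHomologicalComplex _).obj P.complex).ExactAt 1 := by
    rw [HomologicalComplex.exactAt_iff_isZero_homology]
    exact hz'
  rw [HomologicalComplex.exactAt_iff' _ 2 1 0 (by simp) (by simp),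
    ShortComplex.moduleCat_exact_iff] at hex
  rw [injective_iff_map_eq_zero]
  intro x hx
  let q : Q.complex.X 0 ⟶ ModuleCat.of A (LinearMap.ker g) := Q.π.f 0
  have hqs : Function.Surjective q.hom := by
    have : Epi q := by
      change Epi (Q.π.f 0)
      infer_instance
    exact (ModuleCat.epi_iff_surjective q).1 this
  have hdq : Q.complex.d 1 0 ≫ q = 0 := Q.complex_d_comp_π_f_zero
  have hj : Q.complex.d 1 0 ≫ q ≫ i = 0 := by rw [← Category.assoc, hdq, Limits.zero_comp]
  have hd1 : P.complex.d 1 0 = q ≫ i := spliceComplex_d_zero _ Q.complex (q ≫ i) hj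
  have hd2 : P.complex.d 2 1 = Q.complex.d 1 0 := spliceComplex_d_succ _ Q.complex (q ≫ i) hj 0
  have e1 : ((((G A X).mapHomologicalComplex (ComplexShape.down ℕ)).obj P.complex).sc' 2 1 0).g
      = (G A X).map (q ≫ i) := by
    change (G A X).map (P.complex.d 1 0) = _
    rw [hd1]
  have e2 : ((((G A X).mapHomologicalComplex (ComplexShape.down ℕ)).obj P.complex).sc' 2 1 0).f
      = (G A X).map (Q.complex.d 1 0) := by
    change (G A X).map (P.complex.d 2 1) = _
    rw [hd2]
  obtain ⟨y, rfl⟩ := LinearMap.lTensor_surjective X hqs x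
  obtain ⟨z, hz⟩ := hex y (by
    rw [e1]
    change (LinearMap.lTensor X (q ≫ i).hom) y = 0
    rw [ModuleCat.hom_comp, LinearMap.lTensor_comp]
    exact hx)
  rw [e2] at hz
  change (LinearMap.lTensor X (Q.complex.d 1 0).hom) z = y at hz
  rw [← hz, ← LinearMap.comp_apply, ← LinearMap.lTensor_comp, ← ModuleCat.hom_comp, hdq]
  simp

variable (A) [IsLocalRing A] [IsNoetherianRing A]

theorem claim2 : ∀ (n : ℕ) (M : Type u) [AddCommGroup M] [Module A M] [Module.Finite A M],
    IsZero (((G A (ModuleCat.of A (IsLocalRing.ResidueField A))).leftDerived (n + 1)).obj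
      (ModuleCat.of A M)) → HasProjectiveDimensionLT (ModuleCat.of A M) (n + 1) := by
  intro n
  induction n with
  | zero =>
    intro M _ _ _ hz
    obtain ⟨m, g, hg⟩ := Module.Finite.exists_fin' A M
    have hinj := injective_of_isZero_tor_one _ g hg hz
    have hfree : Module.Free A M :=
      Module.free_of_lTensor_residueField_injective (LinearMap.ker g).subtype g hg
        (LinearMap.exact_subtype_ker_map g) hinj
    have : Projective (ModuleCat.of A M) := ModuleCat.projective_of_categoryTheory_projective _
    infer_instance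
  | succ n ih =>
    intro M _ _ _ hz
    obtain ⟨m, g, hg⟩ := Module.Finite.exists_fin' A M
    obtain ⟨w, hS⟩ := shortExact_of_surjective g hg
    have hR : Projective (ModuleCat.of A (Fin m → A)) :=
      ModuleCat.projective_of_categoryTheory_projective _
    have h1 := (shift_succ (G A (ModuleCat.of A (IsLocalRing.ResidueField A))) hR _ _ w hS n).mp hz
    have h2 := ih (LinearMap.ker g) h1
    exact (hS.hasProjectiveDimensionLT_X₃_iff n hR).mpr h2

omit [IsLocalRing A] [IsNoetherianRing A] in
theorem claim1 (X : ModuleCat.{u} A) : ∀ (n : ℕ) (M : ModuleCat.{u} A),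
    HasProjectiveDimensionLT M (n + 1) → ∀ i : ℕ, n < i →
      IsZero (((G A X).leftDerived i).obj M) := by
  intro n
  induction n with
  | zero =>
    intro M hM i hi
    obtain ⟨j, rfl⟩ : ∃ j, i = j + 1 := ⟨i - 1, by omega⟩
    have : Projective M := projective_iff_hasProjectiveDimensionLT_one.mpr hM
    exact Functor.isZero_leftDerived_obj_projective_succ _ _ _
  | succ n ih =>
    intro M hM i hi
    obtain ⟨j, rfl⟩ : ∃ j, i = j + 2 := ⟨i - 2, by omega⟩
    have hS : (ShortComplex.mk (kernel.ι (Projective.π M)) (Projective.π M)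
        (kernel.condition _)).ShortExact :=
      { exact := ShortComplex.exact_of_f_is_kernel _ (kernelIsKernel _)
        mono_f := by dsimp; infer_instance
        epi_g := by dsimp; infer_instance }
    have hR : Projective (Projective.over M) := inferInstance
    have h2 : HasProjectiveDimensionLT (kernel (Projective.π M)) (n + 1) :=
      (hS.hasProjectiveDimensionLT_X₃_iff n hR).mp hM
    exact (shift_succ (G A X) hR _ _ _ hS j).mpr (ih _ h2 (j + 1) (by omega))

end modules

/-- Let A be a Noetherian local ring with residue field k, M a finitely generated A-module and n ≥ 0.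
For M to have projective dimension at most n it is necessary that Tor^A_i(M, k) = 0 for all i > n,
and it suffices that Tor^A_(n+1)(M, k) = 0. (Tor is written here as the left derived functors of k ⊗
- evaluated at M, i.e. computed from a projective resolution of M.) -/
theorem result (A : Type u) [CommRing A] [IsLocalRing A]
    [IsNoetherianRing A] (M : Type u) [AddCommGroup M] [Module A M] [Module.Finite A M] (n : ℕ) :
    (HasProjectiveDimensionLT (ModuleCat.of A M) (n + 1) →
        ∀ i : ℕ, n < i → Limits.IsZero (((Tor (ModuleCat.{u} A) i).obj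
          (ModuleCat.of A (IsLocalRing.ResidueField A))).obj (ModuleCat.of A M))) ∧
      (Limits.IsZero (((Tor (ModuleCat.{u} A) (n + 1)).obj
          (ModuleCat.of A (IsLocalRing.ResidueField A))).obj (ModuleCat.of A M)) →
        HasProjectiveDimensionLT (ModuleCat.of A M) (n + 1)) := by
  constructor
  · intro h i hi
    exact claim1 A _ n _ h i hi
  · intro h
    exact claim2 A n M h

end Groth.Agent.S5809
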