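import Groth.Statements.S5815
import Mathlib.Tactic
-- import your own Groth.Agent.* helpers here

set_option autoImplicit false
universe u
open EGA41

namespace Groth.Agent.S5815

section ext

variable {A B E : Type u} [CommRing A] [CommRing B] [Algebra A B] [CommRing E] [Algebra A E]
  (π : E →ₐ[A] B) (hsurj : Function.Surjective π)
  (hsq : ∀ x y : E, π x = 0 → π y = 0 → x * y = 0)

/-- the `B`-action on the kernel of a square-zero surjection -/
@[reducible] noncomputable def kerSMul : SMul B (RingHom.ker π.toRingHom) :=
  ⟨fun b z => (Function.surjInv hsurj b) • z⟩

include hsq in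
theorem kerSMul_spec (c : E) (z : RingHom.ker π.toRingHom) :
    (Function.surjInv hsurj (π c)) • z = c • z := by
  apply Subtype.ext
  change Function.surjInv hsurj (π c) * (z : E) = c * (z : E)
  have h1 : π (Function.surjInv hsurj (π c) - c) = 0 := by
    rw [map_sub, Function.surjInv_eq hsurj, sub_self]
  have h2 : π (z : E) = 0 := z.2
  have := hsq _ _ h1 h2
  linear_combination this

/-- the `B`-module structure on the kernel of a square-zero surjection -/
@[reducible] noncomputable def kerModule : Module B (RingHom.ker π.toRingHom) :=
  letI := kerSMul π hsurj
  Function.Surjective.moduleLeft (R := E) (S := B) (M := RingHom.ker π.toRingHom)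
    π.toRingHom hsurj (fun c z => kerSMul_spec π hsurj hsq c z)

/-- the extension attached to a square-zero surjection -/
noncomputable def extOf :
    letI := kerModule π hsurj hsq
    Exal.Ext A B (RingHom.ker π.toRingHom) :=
  letI := kerModule π hsurj hsq
  { E := E
    proj := π
    incl := (RingHom.ker π.toRingHom).subtype.toAddMonoidHom
    isExtension :=
      { proj_surjective := hsurj
        incl_injective := Subtype.val_injective
        exact := fun x => by
          constructor
          · intro hx
            exact ⟨⟨x, hx⟩, rfl⟩
          · rintro ⟨z, rfl⟩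
            exact z.2
        mul_incl := fun x z => by
          have := kerSMul_spec π hsurj hsq x z
          have h2 := congrArg Subtype.val this
          exact h2.symm } }

end ext

/-- Discrete case. A commutative A-algebra B is formally smooth if and only if every A-extension of B by
a B-module L is trivial (has an A-algebra section). A and B are taken in one universe and L ranges
over that universe. (The published statement is for topological rings, with direct-limit classes of
extensions; this row is its discrete case.) -/
theorem result (A B : Type u) [CommRing A] [CommRing B] [Algebra A B] :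
    Algebra.FormallySmooth A B ↔
      ∀ (L : Type u) [AddCommGroup L] [Module B L] (X : Exal.Ext A B L), X.IsTrivial := by
  constructor
  · intro h L _ _ X
    have hnil : IsNilpotent (RingHom.ker (X.proj : X.E →+* B)) := by
      refine ⟨2, ?_⟩
      rw [pow_two, Ideal.zero_eq_bot, eq_bot_iff, Ideal.mul_le]
      intro x hx y hy
      obtain ⟨z, rfl⟩ := (X.isExtension.exact y).mp hy
      rw [X.isExtension.mul_incl]
      have : X.proj x = 0 := hx
      rw [this, zero_smul, map_zero]
      exact Ideal.zero_mem _
    refine ⟨Algebra.FormallySmooth.liftOfSurjective (AlgHom.id A B) X.proj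
      X.isExtension.proj_surjective hnil, fun b => ?_⟩
    rw [Algebra.FormallySmooth.liftOfSurjective_apply]
    rfl
  · intro h
    let f : MvPolynomial B A →ₐ[A] B := MvPolynomial.aeval id
    have hf : Function.Surjective f := fun b => ⟨MvPolynomial.X b, by simp [f]⟩
    rw [Algebra.FormallySmooth.iff_split_surjection f hf]
    have hsurj : Function.Surjective f.kerSquareLift := by
      intro b
      obtain ⟨x, rfl⟩ := hf b
      exact ⟨Ideal.Quotient.mk _ x, rfl⟩
    have hsq : ∀ x y : MvPolynomial B A ⧸ RingHom.ker f.toRingHom ^ 2,
        f.kerSquareLift x = 0 → f.kerSquareLift y = 0 → x * y = 0 := by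
      intro x y hx hy
      obtain ⟨x, rfl⟩ := Ideal.Quotient.mk_surjective x
      obtain ⟨y, rfl⟩ := Ideal.Quotient.mk_surjective y
      rw [← map_mul, Ideal.Quotient.eq_zero_iff_mem, pow_two]
      exact Ideal.mul_mem_mul hx hy
    letI := kerModule f.kerSquareLift hsurj hsq
    obtain ⟨s, hs⟩ := h _ (extOf f.kerSquareLift hsurj hsq)
    exact ⟨s, AlgHom.ext hs⟩

end Groth.Agent.S5815
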