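import Groth.Statements.S5816
import Groth.Agent.Lib.Helper10.ExalLib

set_option autoImplicit false
universe u
open EGA41

namespace Groth.Agent.S5816

open Groth.Agent.Lib.Helper10.ExalLib in
theorem forward (Λ A B : Type u) [CommRing Λ]
    [CommRing A] [CommRing B] [Algebra Λ A] [Algebra Λ B] [Algebra A B] [IsScalarTower Λ A B]
    (hfs : EGA41.IsFormallySmoothRel Λ A B)
    (L : Type u) [AddCommGroup L] [Module B L] (X : Exal.Ext A B L)
    (hΛ : X.IsTrivialOver Λ) : X.IsTrivial := by
  obtain ⟨s0, hs0⟩ := hΛ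
  let s : B →ₐ[Λ] X.RestrictCarrier Λ := s0
  have hs : ∀ b, X.proj (s b) = b := hs0
  let iA : Algebra A (X.RestrictCarrier Λ) := inferInstanceAs (Algebra A X.E)
  have iT : IsScalarTower Λ A (X.RestrictCarrier Λ) := IsScalarTower.of_algebraMap_eq (fun _ => rfl)
  let p : X.RestrictCarrier Λ →ₐ[A] B := X.proj
  have hp : Function.Surjective p := X.isExtension.proj_surjective
  let J : Ideal (X.RestrictCarrier Λ) := RingHom.ker p
  have hJ : J ^ 2 = ⊥ := by
    rw [eq_bot_iff, pow_two, Ideal.mul_le]
    intro x hx y hy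
    obtain ⟨m, rfl⟩ := (X.isExtension.exact x).1 hx
    obtain ⟨m', rfl⟩ := (X.isExtension.exact y).1 hy
    exact incl_mul_incl X m m'
  let eq : (X.RestrictCarrier Λ ⧸ J) ≃ₐ[A] B := Ideal.quotientKerAlgEquivOfSurjective hp
  have heq : ∀ x : X.RestrictCarrier Λ, eq (Ideal.Quotient.mk J x) = p x := fun x => rfl
  obtain ⟨v, hv⟩ := @hfs (X.RestrictCarrier Λ) _ iA _ iT J hJ eq.symm ⟨s, by
    ext b
    apply eq.injective
    change eq (Ideal.Quotient.mk J (s b)) = eq (eq.symm b)
    rw [heq, AlgEquiv.apply_symm_apply]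
    exact hs b⟩
  refine ⟨v, fun b => ?_⟩
  have := AlgHom.congr_fun hv b
  change Ideal.Quotient.mk J (v b) = eq.symm b at this
  have h2 := congrArg eq this
  rwa [heq, AlgEquiv.apply_symm_apply] at h2

open Groth.Agent.Lib.Helper10.ExalLib in
theorem backward (Λ A B : Type u) [CommRing Λ]
    [CommRing A] [CommRing B] [Algebra Λ A] [Algebra Λ B] [Algebra A B] [IsScalarTower Λ A B]
    (H : ∀ (L : Type u) [AddCommGroup L] [Module B L] (X : Exal.Ext A B L),
        X.IsTrivialOver Λ → X.IsTrivial) : EGA41.IsFormallySmoothRel Λ A B := by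
  intro C _ _ _ _ J hJ u₀ ⟨u, hu⟩
  let E : Subalgebra A (C × B) :=
    AlgHom.equalizer ((Ideal.Quotient.mkₐ A J).comp (AlgHom.fst A C B)) (u₀.comp (AlgHom.snd A C B))
  have hmem : ∀ (c : C) (b : B), (c, b) ∈ E ↔ Ideal.Quotient.mk J c = u₀ b := fun c b => Iff.rfl
  let p : E →ₐ[A] B := (AlgHom.snd A C B).comp E.val
  have hp : Function.Surjective p := by
    intro b
    obtain ⟨c, hc⟩ := Ideal.Quotient.mk_surjective (u₀ b)
    exact ⟨⟨(c, b), (hmem c b).2 hc⟩, rfl⟩
  have hker : ∀ x : E, p x = 0 → x.1.1 ∈ J := by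
    intro x hx
    have h1 : Ideal.Quotient.mk J x.1.1 = u₀ x.1.2 := x.2
    have h2 : x.1.2 = 0 := hx
    rwa [h2, map_zero, Ideal.Quotient.eq_zero_iff_mem] at h1
  have hsq : ∀ x y : E, p x = 0 → p y = 0 → x * y = 0 := by
    intro x y hx hy
    apply Subtype.ext
    refine Prod.ext ?_ ?_
    · change x.1.1 * y.1.1 = 0
      have : x.1.1 * y.1.1 ∈ J ^ 2 := by
        rw [pow_two]; exact Ideal.mul_mem_mul (hker x hx) (hker y hy)
      rwa [hJ, Ideal.mem_bot] at this
    · change x.1.2 * y.1.2 = 0
      have h2 : x.1.2 = 0 := hx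
      rw [h2, zero_mul]
  let iM := kerModule p hp hsq
  obtain ⟨s', hs'⟩ := H (RingHom.ker p) (kerExt p hp hsq) (by
    have hmem' : ∀ b : B, (u b, b) ∈ E := by
      intro b
      rw [hmem]
      exact AlgHom.congr_fun hu b
    refine ⟨{ toFun := fun b => ⟨(u b, b), hmem' b⟩
              map_one' := ?_, map_mul' := ?_, map_zero' := ?_, map_add' := ?_, commutes' := ?_ }, ?_⟩
    · apply Subtype.ext
      refine Prod.ext ?_ rfl
      exact map_one u
    · intro b b'
      apply Subtype.ext
      refine Prod.ext ?_ rfl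
      exact map_mul u b b'
    · apply Subtype.ext
      refine Prod.ext ?_ rfl
      exact map_zero u
    · intro b b'
      apply Subtype.ext
      refine Prod.ext ?_ rfl
      exact map_add u b b'
    · intro l
      apply Subtype.ext
      refine Prod.ext ?_ ?_
      · change u (algebraMap Λ B l) = algebraMap A C (algebraMap Λ A l)
        rw [u.commutes, ← IsScalarTower.algebraMap_apply]
      · change algebraMap Λ B l = algebraMap A B (algebraMap Λ A l)
        rw [← IsScalarTower.algebraMap_apply]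
    · intro b
      rfl)
  have hs'' : ∀ b, (s' b : E).1.2 = b := hs'
  refine ⟨(AlgHom.fst A C B).comp (E.val.comp s'), ?_⟩
  ext b
  change Ideal.Quotient.mk J (s' b : E).1.1 = u₀ b
  have h1 : Ideal.Quotient.mk J (s' b : E).1.1 = u₀ (s' b : E).1.2 := (s' b : E).2
  rw [h1, hs'']

/-- Discrete case. For ring maps Λ → A → B, B is formally smooth over A relative to Λ (square-zero test
ideals) if and only if every A-extension of B by a B-module L which is Λ-trivial is A-trivial. Λ, A,
B are taken in one universe and L ranges over it. (The published statement is for topological rings;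
this row is its discrete case.) -/
theorem result (Λ A B : Type u) [CommRing Λ]
    [CommRing A] [CommRing B] [Algebra Λ A] [Algebra Λ B] [Algebra A B] [IsScalarTower Λ A B] :
    EGA41.IsFormallySmoothRel Λ A B ↔
      ∀ (L : Type u) [AddCommGroup L] [Module B L] (X : Exal.Ext A B L),
        X.IsTrivialOver Λ → X.IsTrivial := by
  exact ⟨fun h L _ _ X hX => forward Λ A B h L X hX, backward Λ A B⟩

end Groth.Agent.S5816
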