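import Groth.Statements.S5817
import Groth.Agent.Lib.Helper10.ExalLib

set_option autoImplicit false
universe u v
open EGA41

namespace Groth.Agent.S5817

attribute [local instance] Exal.opModule Exal.isCentralScalar_opModule in
theorem aux {A : Type u} {B C L : Type v} [CommRing A] [CommRing B] [CommRing C]
    [Algebra A B] [Algebra B C] [Algebra A C] [IsScalarTower A B C]
    [AddCommGroup L] [Module C L] [Module B L] [IsScalarTower B C L] [Module A L] [IsScalarTower A B L]
    [IsScalarTower A C L]
    (D : Derivation A B L) :
    (Exal.Ext.ofDerivation (C := C) D).IsTrivial ↔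
      ∃ D' : Derivation A C L, D'.compAlgebraMap B = D := by
  constructor
  · rintro ⟨s, hs⟩
    have hfst : ∀ c, TrivSqZeroExt.fst (s c) = c := hs
    have halg : ∀ b : B, s (algebraMap B C b) =
        (TrivSqZeroExt.inl (algebraMap B C b) + TrivSqZeroExt.inr (D b) : TrivSqZeroExt C L) :=
      fun b => s.commutes b
    let D'lin : C →ₗ[A] L :=
      { toFun := fun c => TrivSqZeroExt.snd (s c)
        map_add' := fun c c' => by
          rw [map_add]; exact TrivSqZeroExt.snd_add _ _
        map_smul' := fun a c => by
          have e : a • c = algebraMap B C (algebraMap A B a) * c := by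
            rw [← IsScalarTower.algebraMap_apply, Algebra.smul_def]
          rw [e, map_mul, halg, Derivation.map_algebraMap, TrivSqZeroExt.inr_zero, add_zero,
            RingHom.id_apply]
          refine (TrivSqZeroExt.snd_mul _ _).trans ?_
          rw [TrivSqZeroExt.fst_inl, TrivSqZeroExt.snd_inl, smul_zero, add_zero,
            ← IsScalarTower.algebraMap_apply, algebraMap_smul] }
    refine ⟨Derivation.mk' D'lin ?_, ?_⟩
    · intro c c'
      change TrivSqZeroExt.snd (s (c * c')) = c • TrivSqZeroExt.snd (s c') + c' • TrivSqZeroExt.snd (s c)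
      rw [map_mul]
      refine (TrivSqZeroExt.snd_mul _ _).trans ?_
      rw [hfst, hfst, op_smul_eq_smul]
    · ext b
      change TrivSqZeroExt.snd (s (algebraMap B C b)) = D b
      rw [halg]
      simp
  · rintro ⟨D', rfl⟩
    refine ⟨{ toFun := fun c => (TrivSqZeroExt.inl c + TrivSqZeroExt.inr (D' c) : TrivSqZeroExt C L)
              map_one' := ?_, map_mul' := ?_, map_zero' := ?_, map_add' := ?_, commutes' := ?_ }, ?_⟩
    · rw [Derivation.map_one_eq_zero, TrivSqZeroExt.inr_zero, add_zero]; rfl
    · intro c c'
      change (TrivSqZeroExt.inl (c * c') + TrivSqZeroExt.inr (D' (c * c')) : TrivSqZeroExt C L) =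
        ((TrivSqZeroExt.inl c + TrivSqZeroExt.inr (D' c) : TrivSqZeroExt C L) *
          (TrivSqZeroExt.inl c' + TrivSqZeroExt.inr (D' c') : TrivSqZeroExt C L) : TrivSqZeroExt C L)
      refine TrivSqZeroExt.ext ?_ ?_
      · simp
      · simp [Derivation.leibniz, op_smul_eq_smul, add_comm]
    · rw [map_zero, TrivSqZeroExt.inr_zero, add_zero]; rfl
    · intro c c'
      rw [map_add, TrivSqZeroExt.inl_add, TrivSqZeroExt.inr_add]; abel
    · intro b
      rfl
    · intro c
      change TrivSqZeroExt.fst (TrivSqZeroExt.inl c + TrivSqZeroExt.inr (D' c) : TrivSqZeroExt C L) = c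
      simp

/-- Commutative rings, exactness at Der_A(B, L). For ring maps A → B → C and a C-module L, the
B-extension of C by L attached to an A-derivation D : B → L (middle ring C ⊕ L, made a B-algebra
through x ↦ (x, D x)) is trivial if and only if D is the composite of B → C with an A-derivation C →
L. -/
theorem result {A : Type u} {B C L : Type v} [CommRing A] [CommRing B] [CommRing C]
    [Algebra A B] [Algebra B C] [Algebra A C] [IsScalarTower A B C]
    [AddCommGroup L] [Module C L] [Module B L] [IsScalarTower B C L] [Module A L] [IsScalarTower A B L]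
    [IsScalarTower A C L]
    (D : Derivation A B L) :
    (Exal.Ext.ofDerivation (C := C) D).IsTrivial ↔
      ∃ D' : Derivation A C L, D'.compAlgebraMap B = D := by
  exact aux D

end Groth.Agent.S5817
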