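import Groth.Statements.S5819
import Groth.Agent.Lib.Helper10.ExalLib

set_option autoImplicit false
universe u v
open EGA41

namespace Groth.Agent.S5819

section
variable {A : Type u} {B C L : Type v} [CommRing A]
    [CommRing B] [CommRing C] [Algebra A B] [Algebra B C] [Algebra A C] [IsScalarTower A B C]
    [AddCommGroup L] [Module C L] [Module B L] [IsScalarTower B C L]

/-- The `B`-extension obtained from an `A`-extension and a compatible ring map `B → E`. -/
def extOfHom (Y : Exal.Ext A C L) (φ : B →+* Y.E) (hφ : ∀ b, Y.proj (φ b) = algebraMap B C b) :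
    Exal.Ext B C L :=
  letI : Algebra B Y.E := φ.toAlgebra
  { E := Y.E
    proj :=
      { toFun := fun x => Y.proj x
        map_one' := map_one Y.proj
        map_mul' := map_mul Y.proj
        map_zero' := map_zero Y.proj
        map_add' := map_add Y.proj
        commutes' := hφ }
    incl := Y.incl
    isExtension :=
      { proj_surjective := Y.isExtension.proj_surjective
        incl_injective := Y.isExtension.incl_injective
        exact := Y.isExtension.exact
        mul_incl := Y.isExtension.mul_incl } }

/-- Restricting `extOfHom` back to `A` gives the original extension. -/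
def extOfHomEquiv (Y : Exal.Ext A C L) (φ : B →+* Y.E) (hφ : ∀ b, Y.proj (φ b) = algebraMap B C b)
    (hA : ∀ a : A, φ (algebraMap A B a) = algebraMap A Y.E a) :
    ((extOfHom Y φ hφ).restrictBase A).Equiv Y where
  toAlgEquiv :=
    { toFun := fun x => x
      invFun := fun x => x
      left_inv := fun _ => rfl
      right_inv := fun _ => rfl
      map_mul' := fun _ _ => rfl
      map_add' := fun _ _ => rfl
      commutes' := hA }
  proj_apply _ := rfl
  apply_incl _ := rfl
end

/-- Commutative rings, exactness at Exalcom_A(C, L) on underlying pointed sets. For ring maps A → B → C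
and a C-module L, an A-extension Y of C by L pulls back to a trivial A-extension of B if and only if
Y is equivalent to some B-extension of C by L viewed as an A-extension. -/
theorem result {A : Type u} {B C L : Type v} [CommRing A]
    [CommRing B] [CommRing C] [Algebra A B] [Algebra B C] [Algebra A C] [IsScalarTower A B C]
    [AddCommGroup L] [Module C L] [Module B L] [IsScalarTower B C L]
    (Y : Exal.Ext A C L) :
    (Y.pullback B).IsTrivial ↔
      ∃ X : Exal.Ext B C L, Nonempty ((X.restrictBase A).Equiv Y) := by
  constructor
  · rintro ⟨s, hs⟩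
    have hs' : ∀ b, (s b).1.2 = b := hs
    have hmem : ∀ b, Y.proj (s b).1.1 = algebraMap B C (s b).1.2 := fun b => (s b).2
    let φ : B →+* Y.E := (RingHom.fst Y.E B).comp ((Y.fiberProd B).val.toRingHom.comp s.toRingHom)
    have hφ : ∀ b, Y.proj (φ b) = algebraMap B C b := by
      intro b
      change Y.proj (s b).1.1 = _
      rw [hmem, hs']
    have hA : ∀ a : A, φ (algebraMap A B a) = algebraMap A Y.E a := by
      intro a
      change (s (algebraMap A B a)).1.1 = _
      rw [s.commutes]
      rfl
    exact ⟨extOfHom Y φ hφ, ⟨extOfHomEquiv Y φ hφ hA⟩⟩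
  · rintro ⟨X, ⟨e⟩⟩
    have hmem : ∀ b : B, (e.toAlgEquiv (algebraMap B X.E b), b) ∈ Y.fiberProd B := by
      intro b
      change Y.proj (e.toAlgEquiv (algebraMap B X.E b)) = algebraMap B C b
      refine (e.proj_apply _).trans ?_
      exact X.proj.commutes b
    refine ⟨{ toFun := fun b => ⟨(e.toAlgEquiv (algebraMap B X.E b), b), hmem b⟩
              map_one' := ?_, map_mul' := ?_, map_zero' := ?_, map_add' := ?_, commutes' := ?_ }, ?_⟩
    · apply Subtype.ext
      refine Prod.ext ?_ rfl
      change e.toAlgEquiv (algebraMap B X.E 1) = 1
      rw [map_one]; exact map_one e.toAlgEquiv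
    · intro b b'
      apply Subtype.ext
      refine Prod.ext ?_ rfl
      change e.toAlgEquiv (algebraMap B X.E (b * b')) =
        e.toAlgEquiv (algebraMap B X.E b) * e.toAlgEquiv (algebraMap B X.E b')
      rw [map_mul]; exact map_mul e.toAlgEquiv _ _
    · apply Subtype.ext
      refine Prod.ext ?_ rfl
      change e.toAlgEquiv (algebraMap B X.E 0) = 0
      rw [map_zero]; exact map_zero e.toAlgEquiv
    · intro b b'
      apply Subtype.ext
      refine Prod.ext ?_ rfl
      change e.toAlgEquiv (algebraMap B X.E (b + b')) =
        e.toAlgEquiv (algebraMap B X.E b) + e.toAlgEquiv (algebraMap B X.E b')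
      rw [map_add]; exact map_add e.toAlgEquiv _ _
    · intro a
      apply Subtype.ext
      refine Prod.ext ?_ rfl
      change e.toAlgEquiv (algebraMap B X.E (algebraMap A B a)) = algebraMap A Y.E a
      exact e.toAlgEquiv.commutes a
    · intro b
      rfl

end Groth.Agent.S5819
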