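import Groth.Statements.S5821
import Groth.Agent.Lib.Helper10.ExalLib

set_option autoImplicit false
universe u v
open EGA41

namespace Groth.Agent.S5821

open Groth.Agent.Lib.Helper10.ExalLib TensorProduct KaehlerDifferential in
theorem aux {A : Type u} {B : Type v} [CommRing A] [CommRing B] [Algebra A B]
    (K : Ideal B) (hK : (Exal.Ext.infinitesimal K).IsTrivialOver A)
    (χ : ↥(EGA41.imperfection A B (B ⧸ K)) →ₗ[B ⧸ K] K.Cotangent)
    (hχ : (Exal.Ext.infinitesimal K).IsCharHom A χ) :
    Function.Bijective χ := by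
  have hI : RingHom.ker (algebraMap B (B ⧸ K)) = K := by
    rw [Ideal.Quotient.algebraMap_eq]; exact Ideal.mk_ker
  have hmemΥ : ∀ k : K, ((1 : B ⧸ K) ⊗ₜ[B] KaehlerDifferential.D A B (k : B)) ∈
      EGA41.imperfection A B (B ⧸ K) := by
    intro k
    change KaehlerDifferential.mapBaseChange A B (B ⧸ K) _ = 0
    rw [KaehlerDifferential.mapBaseChange_tmul, KaehlerDifferential.map_D, one_smul,
      Ideal.Quotient.algebraMap_eq, Ideal.Quotient.eq_zero_iff_mem.2 k.2, map_zero]
  have key : ∀ k : K, χ ⟨_, hmemΥ k⟩ = K.toCotangent k := by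
    intro k
    apply Groth.Agent.Lib.Helper10.ExalLib.deltaL_injective A (Exal.Ext.infinitesimal K) hK
    rw [hχ]
    change (1 : B ⧸ K) ⊗ₜ[(Exal.Ext.infinitesimal K).CharCarrier A]
        KaehlerDifferential.map A A B ((Exal.Ext.infinitesimal K).CharCarrier A)
          (KaehlerDifferential.D A B (k : B)) =
      (1 : B ⧸ K) ⊗ₜ[(Exal.Ext.infinitesimal K).CharCarrier A]
        KaehlerDifferential.D A ((Exal.Ext.infinitesimal K).CharCarrier A)
          (K.cotangentToQuotientSquare (K.toCotangent k))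
    rw [KaehlerDifferential.map_D, Ideal.toCotangent_to_quotient_square]
    rfl
  constructor
  · rw [injective_iff_map_eq_zero]
    intro z hz
    have hz0 : KaehlerDifferential.mapBaseChange A B (B ⧸ K) (z : (B ⧸ K) ⊗[B] Ω[B⁄A]) = 0 := z.2
    have hsurj : Function.Surjective (algebraMap B (B ⧸ K)) := Ideal.Quotient.mk_surjective
    obtain ⟨k, hk⟩ :=
      (KaehlerDifferential.exact_kerCotangentToTensor_mapBaseChange A B (B ⧸ K) hsurj _).1 hz0
    obtain ⟨k, rfl⟩ := Ideal.toCotangent_surjective _ k
    have hkK : (k : B) ∈ K := (SetLike.ext_iff.1 hI _).1 k.2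
    have hz' : z = ⟨_, hmemΥ ⟨k, hkK⟩⟩ := by
      apply Subtype.ext
      rw [← hk, KaehlerDifferential.kerCotangentToTensor_toCotangent]
    rw [hz', key, Ideal.toCotangent_eq_zero] at hz
    have : (RingHom.ker (algebraMap B (B ⧸ K))).toCotangent k = 0 := by
      rw [Ideal.toCotangent_eq_zero]
      have e2 : RingHom.ker (algebraMap B (B ⧸ K)) ^ 2 = K ^ 2 := by rw [hI]
      exact (SetLike.ext_iff.1 e2 _).2 hz
    apply Subtype.ext
    rw [← hk, this, map_zero]
    rfl
  · intro y
    obtain ⟨k, rfl⟩ := K.toCotangent_surjective y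
    exact ⟨_, key k⟩

/-- For a ring map A → B, an ideal K of B, C = B ⧸ K and the B-extension E = B ⧸ K² of C by K/K², if E
is A-trivial then its characteristic homomorphism Υ_{C/B/A} → K/K² is bijective (stated for every
C-linear χ satisfying the defining square, of which there is exactly one). -/
theorem result {A : Type u} {B : Type v} [CommRing A] [CommRing B] [Algebra A B]
    (K : Ideal B) (hK : (Exal.Ext.infinitesimal K).IsTrivialOver A)
    (χ : ↥(EGA41.imperfection A B (B ⧸ K)) →ₗ[B ⧸ K] K.Cotangent)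
    (hχ : (Exal.Ext.infinitesimal K).IsCharHom A χ) :
    Function.Bijective χ := by
  exact aux K hK χ hχ

end Groth.Agent.S5821
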