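import Groth.Statements.S5822
import Groth.Agent.Lib.Helper10.ExalLib

set_option autoImplicit false
universe u v
open scoped TensorProduct
open EGA41

namespace Groth.Agent.S5822

open Groth.Agent.Lib.Helper10.ExalLib TensorProduct KaehlerDifferential in
theorem aux {A : Type u} {B C L : Type v} [CommRing A] [CommRing B] [CommRing C]
    [Algebra A B] [Algebra B C] [Algebra A C] [IsScalarTower A B C] [AddCommGroup L] [Module C L]
    (h : Module.Injective C L ∨
        ∃ s : Ω[C⁄B] →ₗ[C] Ω[C⁄A], ∀ ω : Ω[C⁄B], KaehlerDifferential.map A B C C (s ω) = ω)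
    (X Y : Exal.Ext B C L) (hX : X.IsTrivialOver A) (hY : Y.IsTrivialOver A)
    (χ : ↥(EGA41.imperfection A B C) →ₗ[C] L) (hXχ : X.IsCharHom A χ) (hYχ : Y.IsCharHom A χ) :
    Nonempty (X.Equiv Y) := by
  letI : Module B L := Module.compHom L (algebraMap B C)
  haveI : IsScalarTower B C L := IsScalarTower.of_compHom B C L
  letI : Module A L := Module.compHom L (algebraMap A C)
  haveI : IsScalarTower A C L := IsScalarTower.of_compHom A C L
  haveI : IsScalarTower A B L := ⟨fun a b l => by
    change algebraMap B C (a • b) • l = algebraMap A C a • (algebraMap B C b • l)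
    rw [Algebra.smul_def, map_mul, ← IsScalarTower.algebraMap_apply, mul_smul]⟩
  obtain ⟨sX, hsX⟩ := hX
  obtain ⟨sY, hsY⟩ := hY
  have hsX' : ∀ c, X.proj (secRing X sX c) = c := hsX
  have hsY' : ∀ c, Y.proj (secRing Y sY c) = c := hsY
  set DX := derOfSection X sX hsX' with hDX
  set DY := derOfSection Y sY hsY' with hDY
  obtain ⟨ψ, hψ⟩ := exists_extension A h (derLift A DX - derLift A DY) (by
    intro z hz
    have e1 := charHom_eq_derLift A X sX hsX' χ hXχ ⟨z, hz⟩
    have e2 := charHom_eq_derLift A Y sY hsY' χ hYχ ⟨z, hz⟩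
    rw [LinearMap.sub_apply, ← e1, ← e2, sub_self])
  let T : Derivation A C L := ψ.compDer (KaehlerDifferential.D A C)
  have hT : ∀ b, DX b = DY b + T (algebraMap B C b) := by
    intro b
    have := hψ ((1 : C) ⊗ₜ[B] KaehlerDifferential.D A B b)
    rw [mapBaseChange_tmul, map_D, one_smul, LinearMap.sub_apply, derLift_tmul_D, derLift_tmul_D, one_smul,
      one_smul] at this
    change DX b = DY b + ψ (KaehlerDifferential.D A C (algebraMap B C b))
    rw [this]; abel
  exact ⟨(equivOfDer X sX hsX').trans ((ofDerivationEquiv A DX DY T hT).trans (equivOfDer Y sY hsY').symm)⟩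

/-- Injectivity. For ring maps A → B → C and a C-module L, assume (i) L is an injective C-module, or
(ii) Υ_{C/B/A} is a direct summand of C ⊗_B Ω_{B/A} and Ω_{C/A} → Ω_{C/B} has a right inverse. Then
two A-trivial B-extensions of C by L with a common characteristic homomorphism are equivalent: the
map from classes of A-trivial extensions to Hom_C(Υ_{C/B/A}, L) is injective. -/
theorem result {A : Type u} {B C L : Type v} [CommRing A] [CommRing B] [CommRing C]
    [Algebra A B] [Algebra B C] [Algebra A C] [IsScalarTower A B C] [AddCommGroup L] [Module C L]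
    (h : Module.Injective C L ∨
      ((∃ r : C ⊗[B] Ω[B⁄A] →ₗ[C] ↥(EGA41.imperfection A B C), ∀ z : ↥(EGA41.imperfection A B C), r z = z) ∧
        ∃ s : Ω[C⁄B] →ₗ[C] Ω[C⁄A], ∀ ω : Ω[C⁄B], KaehlerDifferential.map A B C C (s ω) = ω))
    (X Y : Exal.Ext B C L) (hX : X.IsTrivialOver A) (hY : Y.IsTrivialOver A)
    (χ : ↥(EGA41.imperfection A B C) →ₗ[C] L) (hXχ : X.IsCharHom A χ) (hYχ : Y.IsCharHom A χ) :
    Nonempty (X.Equiv Y) := by
  exact aux (h.imp id And.right) X Y hX hY χ hXχ hYχ

end Groth.Agent.S5822
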