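import Groth.Statements.S5823
import Groth.Agent.Lib.Helper10.ExalLib

set_option autoImplicit false
universe u v
open scoped TensorProduct
open EGA41

namespace Groth.Agent.S5823

open Groth.Agent.Lib.Helper10.ExalLib TensorProduct KaehlerDifferential in
theorem aux {A : Type u} {B C L : Type v} [CommRing A] [CommRing B] [CommRing C]
    [Algebra A B] [Algebra B C] [Algebra A C] [IsScalarTower A B C] [AddCommGroup L] [Module C L]
    (h : Module.Injective C L ∨
        ∃ r : C ⊗[B] Ω[B⁄A] →ₗ[C] ↥(EGA41.imperfection A B C), ∀ z : ↥(EGA41.imperfection A B C), r z = z)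
    (χ : ↥(EGA41.imperfection A B C) →ₗ[C] L) :
    ∃ X : Exal.Ext B C L, X.IsTrivialOver A ∧ X.IsCharHom A χ := by
  letI : Module B L := Module.compHom L (algebraMap B C)
  haveI : IsScalarTower B C L := IsScalarTower.of_compHom B C L
  letI : Module A L := Module.compHom L (algebraMap A C)
  haveI : IsScalarTower A C L := IsScalarTower.of_compHom A C L
  haveI : IsScalarTower A B L := ⟨fun a b l => by
    change algebraMap B C (a • b) • l = algebraMap A C a • (algebraMap B C b • l)
    rw [Algebra.smul_def, map_mul, ← IsScalarTower.algebraMap_apply, mul_smul]⟩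
  have hDt : ∃ Dt : C ⊗[B] Ω[B⁄A] →ₗ[C] L, ∀ z : EGA41.imperfection A B C, Dt z = χ z := by
    rcases h with h | ⟨r, hr⟩
    · exact h.out (X := EGA41.imperfection A B C) (Y := C ⊗[B] Ω[B⁄A])
        (EGA41.imperfection A B C).subtype Subtype.val_injective χ
    · exact ⟨χ.comp r, fun z => by rw [LinearMap.comp_apply, hr]⟩
  obtain ⟨Dt, hDt⟩ := hDt
  obtain ⟨D, hD⟩ := exists_der_of_lin A Dt
  refine ⟨Exal.Ext.ofDerivation (C := C) D, ofDerivation_isTrivialOver D,
    isCharHom_ofDerivation A D χ (fun z => ?_)⟩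
  rw [hD, hDt]

/-- Surjectivity. For ring maps A → B → C and a C-module L, assume (i) L is an injective C-module, or
(ii) Υ_{C/B/A} is a direct summand of C ⊗_B Ω_{B/A} and Ω_{C/A} → Ω_{C/B} has a right inverse. Then
every C-linear map Υ_{C/B/A} → L is the characteristic homomorphism of an A-trivial B-extension of C
by L. -/
theorem result {A : Type u} {B C L : Type v} [CommRing A] [CommRing B] [CommRing C]
    [Algebra A B] [Algebra B C] [Algebra A C] [IsScalarTower A B C] [AddCommGroup L] [Module C L]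
    (h : Module.Injective C L ∨
      ((∃ r : C ⊗[B] Ω[B⁄A] →ₗ[C] ↥(EGA41.imperfection A B C), ∀ z : ↥(EGA41.imperfection A B C), r z = z) ∧
        ∃ s : Ω[C⁄B] →ₗ[C] Ω[C⁄A], ∀ ω : Ω[C⁄B], KaehlerDifferential.map A B C C (s ω) = ω))
    (χ : ↥(EGA41.imperfection A B C) →ₗ[C] L) :
    ∃ X : Exal.Ext B C L, X.IsTrivialOver A ∧ X.IsCharHom A χ := by
  exact aux (h.imp id And.left) χ

end Groth.Agent.S5823
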