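import Groth.Statements.S5826
import Mathlib.Tactic
import Mathlib.Topology.Algebra.Group.Quotient
import Mathlib.Topology.Algebra.OpenSubgroup
-- import your own Groth.Agent.* helpers here

set_option autoImplicit false
universe u v w
open EGA41

namespace Groth.Agent.S5826

theorem isOpen_smul_top {A : Type u} {M : Type v} [CommRing A] [TopologicalSpace A] [AddCommGroup M]
    [Module A M] [TopologicalSpace M] (hM : TopMod.IsDeduced A M) (J : Ideal A)
    (hJ : IsOpen (J : Set A)) : IsOpen ((J • ⊤ : Submodule A M) : Set M) := by
  have := hM.1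
  have h1 : ((J • ⊤ : Submodule A M) : Set M) ∈ nhds (0 : M) := hM.2.mem_of_mem hJ
  exact AddSubgroup.isOpen_of_mem_nhds (J • ⊤ : Submodule A M).toAddSubgroup h1

/-- Let A be a topological ring, M, N topological A-modules with the topologies deduced from that of A,
u : M → N a continuous linear map. Then u is formally left invertible if and only if, for every open
ideal J of A, the induced map M/JM → N/JN is left invertible, i.e. some linear map N → M/JM composes
with u to the projection M → M/JM. -/
theorem result {A : Type u} {M : Type v} {N : Type w}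
    [CommRing A] [TopologicalSpace A] [AddCommGroup M] [Module A M] [TopologicalSpace M] [AddCommGroup N]
    [Module A N] [TopologicalSpace N] (hM : TopMod.IsDeduced A M) (hN : TopMod.IsDeduced A N)
    (u : M →L[A] N) :
    TopMod.IsFormallyLeftInvertible u ↔
      ∀ J : Ideal A, IsOpen (J : Set A) →
        ∃ w : N →ₗ[A] M ⧸ (J • ⊤ : Submodule A M), ∀ x : M, w (u x) = Submodule.Quotient.mk x := by
  have := hM.1
  have := hN.1
  constructor
  · intro h J hJ
    have hopen := isOpen_smul_top hM J hJ
    have : DiscreteTopology (M ⧸ (J • ⊤ : Submodule A M)) :=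
      QuotientAddGroup.discreteTopology (N := (J • ⊤ : Submodule A M).toAddSubgroup) hopen
    let v : M →L[A] M ⧸ (J • ⊤ : Submodule A M) :=
      ⟨(J • ⊤ : Submodule A M).mkQ, continuous_quot_mk⟩
    obtain ⟨w, hw⟩ := h _ v
    exact ⟨w.toLinearMap, fun x => hw x⟩
  · intro h E _ _ _ _ v
    -- the kernel of `v` is an open neighbourhood of zero
    have hker : (v ⁻¹' {0} : Set M) ∈ nhds (0 : M) := by
      apply (v.continuous.isOpen_preimage _ (isOpen_discrete _)).mem_nhds
      simp
    obtain ⟨J, hJ, hJker⟩ := hM.2.mem_iff.mp hker
    obtain ⟨w, hw⟩ := h J hJ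
    have hle : (J • ⊤ : Submodule A M) ≤ LinearMap.ker v.toLinearMap := by
      intro x hx
      have := hJker hx
      simpa using this
    let vbar : M ⧸ (J • ⊤ : Submodule A M) →ₗ[A] E := (J • ⊤ : Submodule A M).liftQ v.toLinearMap hle
    let w' : N →ₗ[A] E := vbar.comp w
    have hkill : ∀ n ∈ (J • ⊤ : Submodule A N), w n = 0 := by
      intro n hn
      refine Submodule.smul_induction_on hn ?_ ?_
      · intro j hj n _
        rw [map_smul]
        obtain ⟨m, hm⟩ := Submodule.Quotient.mk_surjective _ (w n)
        rw [← hm, ← Submodule.Quotient.mk_smul, Submodule.Quotient.mk_eq_zero]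
        exact Submodule.smul_mem_smul hj Submodule.mem_top
      · intro x y hx hy
        rw [map_add, hx, hy, add_zero]
    have hcont : Continuous w' := by
      apply continuous_of_continuousAt_zero w'.toAddMonoidHom
      change ContinuousAt w' 0
      rw [ContinuousAt, map_zero, nhds_discrete E]
      rw [Filter.tendsto_pure]
      have h1 : ((J • ⊤ : Submodule A N) : Set N) ∈ nhds (0 : N) := hN.2.mem_of_mem hJ
      refine Filter.mem_of_superset h1 ?_
      intro n hn
      change vbar (w n) = 0
      rw [hkill n hn, map_zero]
    refine ⟨⟨w', hcont⟩, fun x => ?_⟩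
    change vbar (w (u x)) = v x
    rw [hw x]
    rfl

end Groth.Agent.S5826
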