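import Groth.Statements.S5825
import Groth.Agent.S5826
import Mathlib.Tactic
-- import your own Groth.Agent.* helpers here

set_option autoImplicit false
universe u v w
open EGA41

namespace Groth.Agent.S5825

open Groth.Agent.S5826

theorem dense_mod {A : Type u} {M : Type v} {N : Type w} [CommRing A]
    [TopologicalSpace A] [AddCommGroup M] [Module A M] [TopologicalSpace M] [AddCommGroup N] [Module A N]
    [TopologicalSpace N] (hN : TopMod.IsDeduced A N) (u : M →L[A] N)
    (hu : DenseRange u) (J : Ideal A) (hJ : IsOpen (J : Set A)) (y : N) :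
    ∃ x : M, y - u x ∈ (J • ⊤ : Submodule A N) := by
  have := hN.1
  have hopen := isOpen_smul_top hN J hJ
  have h1 : IsOpen ((fun n => y - n) ⁻¹' ((J • ⊤ : Submodule A N) : Set N)) :=
    hopen.preimage (continuous_const.sub continuous_id)
  obtain ⟨x, hx⟩ := hu.exists_mem_open h1 ⟨y, by
    change y - y ∈ (J • ⊤ : Submodule A N)
    rw [sub_self]; exact Submodule.zero_mem _⟩
  exact ⟨x, hx⟩

/-- Let A be a topological ring, M, N topological A-modules with the topologies deduced from that of A,
and u : M → N a continuous linear map with dense image (a formal epimorphism). Then u is a formal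
bimorphism (dense image and inducing) if and only if, for every open ideal J of A, the induced map
M/JM → N/JN is bijective (injectivity and surjectivity are written out elementwise). -/
theorem result {A : Type u} {M : Type v} {N : Type w} [CommRing A]
    [TopologicalSpace A] [AddCommGroup M] [Module A M] [TopologicalSpace M] [AddCommGroup N] [Module A N]
    [TopologicalSpace N] (hM : TopMod.IsDeduced A M) (hN : TopMod.IsDeduced A N) (u : M →L[A] N)
    (hu : DenseRange u) :
    IsDenseInducing u ↔
      ∀ J : Ideal A, IsOpen (J : Set A) →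
        (∀ x : M, u x ∈ (J • ⊤ : Submodule A N) → x ∈ (J • ⊤ : Submodule A M)) ∧
          ∀ y : N, ∃ x : M, y - u x ∈ (J • ⊤ : Submodule A N) := by
  have := hM.1
  have := hN.1
  have hmap : ∀ (J : Ideal A) (m : M), m ∈ (J • ⊤ : Submodule A M) → u m ∈ (J • ⊤ : Submodule A N) := by
    intro J m hm
    refine Submodule.smul_induction_on hm ?_ ?_
    · intro j hj m _
      rw [map_smul]
      exact Submodule.smul_mem_smul hj Submodule.mem_top
    · intro x y hx hy
      rw [map_add]
      exact Submodule.add_mem _ hx hy
  constructor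
  · intro h J hJ
    refine ⟨?_, dense_mod hN u hu J hJ⟩
    have hind : nhds (0 : M) = (nhds (0 : N)).comap u :=
      IsTopologicalAddGroup.isInducing_iff_nhds_zero.mp h.toIsInducing
    have h1 : ((J • ⊤ : Submodule A M) : Set M) ∈ (nhds (0 : N)).comap u := by
      rw [← hind]; exact hM.2.mem_of_mem hJ
    obtain ⟨J', hJ', hJ'sub⟩ := (hN.2.comap u).mem_iff.mp h1
    -- the intersection ideal
    have hJ''open : IsOpen ((J ⊓ J' : Ideal A) : Set A) := by
      have : ((J ⊓ J' : Ideal A) : Set A) = (J : Set A) ∩ (J' : Set A) := rfl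
      rw [this]; exact hJ.inter hJ'
    have hle : ((J ⊓ J') • ⊤ : Submodule A N) ≤ (J' • ⊤ : Submodule A N) :=
      Submodule.smul_mono_left inf_le_right
    have hS : ∀ n ∈ (J • ⊤ : Submodule A N), ∃ m ∈ (J • ⊤ : Submodule A M),
        n - u m ∈ ((J ⊓ J') • ⊤ : Submodule A N) := by
      intro n hn
      refine Submodule.smul_induction_on hn ?_ ?_
      · intro j hj n _
        obtain ⟨m0, hm0⟩ := dense_mod hN u hu (J ⊓ J') hJ''open n
        refine ⟨j • m0, Submodule.smul_mem_smul hj Submodule.mem_top, ?_⟩
        rw [map_smul, ← smul_sub]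
        exact Submodule.smul_mem _ _ hm0
      · rintro x y ⟨m1, hm1, h1⟩ ⟨m2, hm2, h2⟩
        refine ⟨m1 + m2, Submodule.add_mem _ hm1 hm2, ?_⟩
        have : x + y - u (m1 + m2) = (x - u m1) + (y - u m2) := by rw [map_add]; abel
        rw [this]
        exact Submodule.add_mem _ h1 h2
    intro x hx
    obtain ⟨m, hm, hxm⟩ := hS (u x) hx
    have h2 : x - m ∈ (J • ⊤ : Submodule A M) := by
      apply hJ'sub
      change u (x - m) ∈ (J' • ⊤ : Submodule A N)
      rw [map_sub]
      exact hle hxm
    have := Submodule.add_mem _ h2 hm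
    simpa using this
  · intro h
    refine ⟨?_, hu⟩
    rw [IsTopologicalAddGroup.isInducing_iff_nhds_zero]
    apply le_antisymm
    · have := u.continuous.tendsto 0
      rw [map_zero] at this
      exact Filter.tendsto_iff_comap.mp this
    · intro s hs
      obtain ⟨J, hJ, hJs⟩ := hM.2.mem_iff.mp hs
      rw [(hN.2.comap u).mem_iff]
      refine ⟨J, hJ, fun x hx => hJs ((h J hJ).1 x hx)⟩

end Groth.Agent.S5825
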