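import Groth.Statements.S5827
import Groth.Agent.Lib27.TopMod.LeftInv
import Groth.Agent.Lib27.TopMod.Deduced

set_option autoImplicit false
universe u v w
open EGA41

namespace Groth.Agent.S5827

open Groth.Agent.Lib27.TopMod

/-- Let A be a preadmissible topological ring with an ideal of definition 𝔏, M, N topological A-modules
with the topologies deduced from that of A such that N/JN is a projective (A/J)-module for every
open ideal J, and u : M → N a continuous linear map. Then u is formally left invertible if and only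
if the induced map M/𝔏M → N/𝔏N is left invertible. -/
theorem result {A : Type u} {M : Type v}
    {N : Type w} [CommRing A] [TopologicalSpace A] [AddCommGroup M] [Module A M] [TopologicalSpace M]
    [AddCommGroup N] [Module A N] [TopologicalSpace N] (hA : LinTop.IsPreadmissible A) (𝔏 : Ideal A)
    (h𝔏 : LinTop.IsIdealOfDefinition A 𝔏) (hM : TopMod.IsDeduced A M) (hN : TopMod.IsDeduced A N)
    (hproj : ∀ J : Ideal A, IsOpen (J : Set A) → Module.Projective (A ⧸ J) (N ⧸ (J • (⊤ : Submodule A N))))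
    (u : M →L[A] N) :
    TopMod.IsFormallyLeftInvertible u ↔
      ∃ w : N →ₗ[A] M ⧸ (𝔏 • ⊤ : Submodule A M), ∀ x : M, w (u x) = Submodule.Quotient.mk x := by
  haveI := hM.1
  haveI := hN.1
  constructor
  · intro hu
    letI : TopologicalSpace (M ⧸ (𝔏 • ⊤ : Submodule A M)) := ⊥
    haveI : DiscreteTopology (M ⧸ (𝔏 • ⊤ : Submodule A M)) := ⟨rfl⟩
    have hc : Continuous (𝔏 • ⊤ : Submodule A M).mkQ := by
      apply continuous_of_open_le_ker (𝔏 • ⊤ : Submodule A M).mkQ.toAddMonoidHom _
        (isOpen_smul_top hM 𝔏 h𝔏.1) (zero_mem _)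
      intro x hx
      exact (Submodule.Quotient.mk_eq_zero _).2 hx
    let v : M →L[A] (M ⧸ (𝔏 • ⊤ : Submodule A M)) := ⟨(𝔏 • ⊤ : Submodule A M).mkQ, hc⟩
    obtain ⟨w, hw⟩ := hu (M ⧸ (𝔏 • ⊤ : Submodule A M)) v
    exact ⟨w.toLinearMap, fun x => hw x⟩
  · rintro ⟨w₀, hw₀⟩
    intro E _ _ _ _ v
    obtain ⟨J₀, hJ₀, hJ₀v⟩ := exists_open_ideal_le_ker hM v
    set J' : Ideal A := J₀ ⊓ 𝔏 with hJ'
    have hJ'open : IsOpen (J' : Set A) := by
      rw [hJ', Submodule.coe_inf]
      exact hJ₀.inter h𝔏.1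
    obtain ⟨n, -, hn⟩ := h𝔏.2 (J' : Set A) (hJ'open.mem_nhds (zero_mem _))
    haveI := hproj J' hJ'open
    obtain ⟨w', hw', -⟩ := exists_leftInverse_step u.toLinearMap J' 𝔏 inf_le_right n
      (fun x hx => hn hx) w₀ hw₀
    have hle : (J' • ⊤ : Submodule A M) ≤ LinearMap.ker v.toLinearMap :=
      (Submodule.smul_mono_left inf_le_left).trans hJ₀v
    let vb : (M ⧸ (J' • ⊤ : Submodule A M)) →ₗ[A] E := (J' • ⊤ : Submodule A M).liftQ _ hle
    let W : N →ₗ[A] E := vb ∘ₗ w'
    have hWc : Continuous W := by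
      apply continuous_of_open_le_ker W.toAddMonoidHom _
        (isOpen_smul_top hN J' hJ'open) (zero_mem _)
      intro x hx
      change vb (w' x) = 0
      have h1 : w' x = 0 := by
        have h2 : (J' • ⊤ : Submodule A N) ≤ LinearMap.ker w' := by
          rw [Submodule.smul_le]
          intro a ha y _
          rw [LinearMap.mem_ker, map_smul]
          exact @Module.isTorsionBySet_quotient_ideal_smul A M _ _ _ J' _ ⟨a, ha⟩
        exact h2 hx
      rw [h1, map_zero]
    refine ⟨⟨W, hWc⟩, ?_⟩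
    intro x
    change vb (w' (u x)) = v x
    rw [show w' (u x) = Submodule.Quotient.mk x from hw' x]
    rfl

end Groth.Agent.S5827
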