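import Groth.Statements.S5828
import Mathlib.Tactic
-- import your own Groth.Agent.* helpers here

set_option autoImplicit false
universe u v
open EGA41

namespace Groth.Agent.S5828

section

variable {A : Type u} {C L : Type v} [CommRing A] [CommRing C] [Algebra A C]
    [AddCommGroup L] [Module C L] [Module A L] [IsScalarTower A C L] (X : Exal.Ext A C L)

theorem proj_incl (z : L) : X.proj (X.incl z) = 0 :=
  (X.isExtension.exact _).mpr ⟨z, rfl⟩

theorem incl_mul_incl (z z' : L) : X.incl z * X.incl z' = 0 := by
  rw [X.isExtension.mul_incl, proj_incl, zero_smul, map_zero]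

theorem smul_incl (a : A) (z : L) : a • X.incl z = X.incl (a • z) := by
  rw [Algebra.smul_def, X.isExtension.mul_incl, AlgHom.commutes, algebraMap_smul]

/-- the algebra endomorphism attached to a derivation -/
noncomputable def phi (D : Derivation A C L) : X.E →ₐ[A] X.E where
  toFun x := x + X.incl (D (X.proj x))
  map_one' := by simp
  map_mul' x y := by
    have h1 : X.incl (D (X.proj (x * y))) =
        x * X.incl (D (X.proj y)) + y * X.incl (D (X.proj x)) := by
      rw [map_mul, Derivation.leibniz, map_add, X.isExtension.mul_incl, X.isExtension.mul_incl]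
    rw [h1]
    have h2 := incl_mul_incl X (D (X.proj x)) (D (X.proj y))
    linear_combination -h2
  map_zero' := by simp
  map_add' x y := by
    simp only [map_add]
    abel
  commutes' a := by
    simp

theorem phi_apply (D : Derivation A C L) (x : X.E) : phi X D x = x + X.incl (D (X.proj x)) := rfl

theorem phi_phi (D D' : Derivation A C L) (h : D' = -D) (x : X.E) : phi X D' (phi X D x) = x := by
  rw [phi_apply, phi_apply, map_add, proj_incl, add_zero, h, Derivation.neg_apply, map_neg]
  abel

/-- the self-equivalence attached to a derivation -/
noncomputable def equivOf (D : Derivation A C L) : X.Equiv X where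
  toAlgEquiv := AlgEquiv.ofAlgHom (phi X D) (phi X (-D))
    (AlgHom.ext fun x => phi_phi X (-D) D (by simp) x)
    (AlgHom.ext fun x => phi_phi X D (-D) rfl x)
  proj_apply x := by
    change X.proj (phi X D x) = _
    rw [phi_apply, map_add, proj_incl, add_zero]
  apply_incl z := by
    change phi X D (X.incl z) = _
    rw [phi_apply, proj_incl, map_zero, map_zero, add_zero]

variable (e : X.Equiv X)

theorem exists_incl (x : X.E) : ∃ z : L, e.toAlgEquiv x - x = X.incl z := by
  have : X.proj (e.toAlgEquiv x - x) = 0 := by
    rw [map_sub, e.proj_apply, sub_self]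
  obtain ⟨z, hz⟩ := (X.isExtension.exact _).mp this
  exact ⟨z, hz.symm⟩

/-- the function underlying the derivation of a self-equivalence -/
noncomputable def dfun (c : C) : L :=
  Classical.choose (exists_incl X e (Function.surjInv X.isExtension.proj_surjective c))

theorem key (x : X.E) : e.toAlgEquiv x = x + X.incl (dfun X e (X.proj x)) := by
  obtain ⟨s, hs⟩ : ∃ s, s = Function.surjInv X.isExtension.proj_surjective (X.proj x) := ⟨_, rfl⟩
  have h1 : e.toAlgEquiv s - s = X.incl (dfun X e (X.proj x)) := by
    rw [hs]
    exact Classical.choose_spec
      (exists_incl X e (Function.surjInv X.isExtension.proj_surjective (X.proj x)))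
  have h2 : X.proj (x - s) = 0 := by
    rw [map_sub, hs, Function.surjInv_eq X.isExtension.proj_surjective, sub_self]
  obtain ⟨z, hz⟩ := (X.isExtension.exact _).mp h2
  have h3 : e.toAlgEquiv (x - s) = x - s := by
    rw [← hz, e.apply_incl]
  rw [map_sub] at h3
  linear_combination h3 + h1

theorem key' (c : C) (x : X.E) (hx : X.proj x = c) :
    X.incl (dfun X e c) = e.toAlgEquiv x - x := by
  rw [key X e x, hx]; abel

/-- the derivation of a self-equivalence -/
noncomputable def derOf : Derivation A C L where
  toFun := dfun X e
  map_add' c c' := by
    obtain ⟨x, rfl⟩ := X.isExtension.proj_surjective c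
    obtain ⟨x', rfl⟩ := X.isExtension.proj_surjective c'
    apply X.isExtension.incl_injective
    rw [map_add, key' X e _ (x + x') (map_add _ _ _), key' X e _ x rfl, key' X e _ x' rfl, map_add]
    abel
  map_smul' a c := by
    obtain ⟨x, rfl⟩ := X.isExtension.proj_surjective c
    apply X.isExtension.incl_injective
    rw [RingHom.id_apply, ← smul_incl, key' X e _ (a • x) (map_smul _ _ _), key' X e _ x rfl,
      map_smul, smul_sub]
  map_one_eq_zero' := by
    apply X.isExtension.incl_injective
    change X.incl (dfun X e 1) = _
    rw [key' X e 1 1 (map_one _), map_one, sub_self, map_zero]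
  leibniz' c c' := by
    obtain ⟨x, rfl⟩ := X.isExtension.proj_surjective c
    obtain ⟨x', rfl⟩ := X.isExtension.proj_surjective c'
    apply X.isExtension.incl_injective
    change X.incl (dfun X e (X.proj x * X.proj x')) =
      X.incl (X.proj x • dfun X e (X.proj x') + X.proj x' • dfun X e (X.proj x))
    rw [map_add, ← X.isExtension.mul_incl, ← X.isExtension.mul_incl,
      key' X e _ (x * x') (map_mul _ _ _), key' X e _ x rfl, key' X e _ x' rfl, map_mul]
    have h2 := incl_mul_incl X (dfun X e (X.proj x)) (dfun X e (X.proj x'))
    rw [key' X e _ x rfl, key' X e _ x' rfl] at h2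
    linear_combination h2

end

/-- Commutative case. For an A-extension X of C by a C-module L, with middle ring E, projection p and
inclusion i, the A-derivations D : C → L and the self-equivalences of X correspond under D ↦ (x ↦ x
+ i (D (p x))): every derivation defines a self-equivalence with this formula, and every
self-equivalence is of this form for exactly one derivation. (Bijection of sets; the published
statement also records compatibility with the group laws.) -/
theorem result {A : Type u} {C L : Type v} [CommRing A] [CommRing C] [Algebra A C]
    [AddCommGroup L] [Module C L] [Module A L] [IsScalarTower A C L] (X : Exal.Ext A C L) :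
    (∀ D : Derivation A C L, ∃ e : X.Equiv X, ∀ x : X.E, e.toAlgEquiv x = x + X.incl (D (X.proj x))) ∧
      ∀ e : X.Equiv X, ∃! D : Derivation A C L, ∀ x : X.E, e.toAlgEquiv x = x + X.incl (D (X.proj x)) := by
  refine ⟨fun D => ⟨equivOf X D, fun x => rfl⟩, fun e => ⟨derOf X e, fun x => key X e x, ?_⟩⟩
  intro D' hD'
  ext c
  obtain ⟨x, rfl⟩ := X.isExtension.proj_surjective c
  apply X.isExtension.incl_injective
  have h1 := hD' x
  have h2 := key X e x
  change X.incl (D' (X.proj x)) = X.incl (dfun X e (X.proj x))
  rw [h1] at h2
  exact add_left_cancel h2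

end Groth.Agent.S5828
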