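import Groth.Statements.S5832
import Groth.Agent.Lib.Helper10.ExalLib

set_option autoImplicit false
universe u u' v
open EGA41

namespace Groth.Agent.S5832

/-- Surjectivity at the end of the sequence. For ring maps Λ → A → B → C and a C-module L, every
Λ-trivial A-extension of B by L is equivalent to the inverse image along B → C of a Λ-trivial
A-extension of C by L. (Exactness at the other places is that of the six-term derivation-extension
sequence restricted to Λ-trivial classes.) -/
theorem result {Λ : Type u} {A : Type u'} {B C L : Type v}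
    [CommRing Λ] [CommRing A] [CommRing B] [CommRing C] [Algebra Λ A] [Algebra Λ B] [Algebra Λ C]
    [Algebra A B] [Algebra B C] [Algebra A C] [IsScalarTower Λ A B] [IsScalarTower Λ A C] [IsScalarTower A B C]
    [AddCommGroup L] [Module C L] [Module B L] [IsScalarTower B C L]
    (Y : Exal.Ext A B L) (hY : Y.IsTrivialOver Λ) :
    ∃ X : Exal.Ext A C L, X.IsTrivialOver Λ ∧ Nonempty ((X.pullback B).Equiv Y) := by
  obtain ⟨s, hs⟩ := hY
  let σ : B →+* Y.E := show B →+* Y.RestrictCarrier Λ from s.toRingHom
  have hσ : ∀ b, Y.proj (σ b) = b := hs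
  refine ⟨Groth.Agent.Lib.Helper10.ExalLib.twistExt (C := C)
      (Groth.Agent.Lib.Helper10.ExalLib.secDerBase Y σ hσ)
      (Groth.Agent.Lib.Helper10.ExalLib.secDerBase_mul Y σ hσ),
    Groth.Agent.Lib.Helper10.ExalLib.twistExt_isTrivialOver Λ _ _ (fun l => ?_),
    ⟨Groth.Agent.Lib.Helper10.ExalLib.pullbackTwistEquiv Y σ hσ⟩⟩
  change Groth.Agent.Lib.Helper10.ExalLib.secDer Y σ hσ (algebraMap A Y.E (algebraMap Λ A l)) = 0
  have h1 : algebraMap A Y.E (algebraMap Λ A l) = σ (algebraMap Λ B l) := (s.commutes l).symm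
  rw [h1, Groth.Agent.Lib.Helper10.ExalLib.secDer_sec]

end Groth.Agent.S5832
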