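import Groth.Statements.S5835
import Mathlib
import Groth.Agent.Lib.Helper23.FieldSep2
-- import your own Groth.Agent.* helpers here

set_option autoImplicit false
universe v w
open scoped TensorProduct
open EGA41

namespace Groth.Agent.S5835

open EGA41 TensorProduct KaehlerDifferential

open Groth.Agent.Lib.Helper23.FieldSep Groth.Agent.Lib.Helper23.PBasisField
  Groth.Agent.Lib.Helper23.FieldSmooth Groth.Agent.Lib.Helper23.PBasisDer


/-- For fields k₀ ⊆ k ⊆ K ⊆ L, the map of imperfection modules Υ_{L/K/k₀} → Υ_{L/K/k} induced by
Ω_{K/k₀} → Ω_{K/k} is injective (k is k₀-admissible for the extension L of K) in each of the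
following cases: L is separable over k; L is separable over K; k lies in k₀(K^p), p the
characteristic exponent. Separable means geometrically reduced (not necessarily algebraic). -/
theorem result {k : Type v} {k₀ K L : Type w}
    [Field k₀] [Field k] [Field K] [Field L] [Algebra k₀ k] [Algebra k₀ K] [Algebra k₀ L] [Algebra k K]
    [Algebra k L] [Algebra K L] [IsScalarTower k₀ k K] [IsScalarTower k₀ k L] [IsScalarTower k₀ K L]
    [IsScalarTower k K L] (p : ℕ) [ExpChar K p]
    (h : Algebra.IsGeometricallyReduced k L ∨ Algebra.IsGeometricallyReduced K L ∨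
      ∀ x : k, algebraMap k K x ∈ EGA41.pPowerSubalgebra p k₀ K) :
    ∀ z : L ⊗[K] Ω[K⁄k₀], z ∈ EGA41.imperfection k₀ K L →
      (KaehlerDifferential.map k₀ k K K).baseChange L z = 0 → z = 0 := by
  intro z hz1 hz2
  have hz1' : mapBaseChange k₀ K L z = 0 := hz1
  have hFS : Algebra.FormallySmooth K L → z = 0 := fun _ =>
    injective_mapBaseChange_of_formallySmooth k₀ K L (by rw [hz1', map_zero])
  rcases ‹ExpChar K p› with _ | hp
  · exact hFS (formallySmooth_of_charZero K L)
  rcases h with h | h | h
  · -- (a)
    have hex := KaehlerDifferential.exact_mapBaseChange_map k₀ k K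
    have hex' := lTensor_exact L hex (KaehlerDifferential.map_surjective k₀ k K)
    have hz2' : (KaehlerDifferential.map k₀ k K K).lTensor L z = 0 := by
      rw [← hz2, LinearMap.baseChange_eq_ltensor]
    obtain ⟨w, rfl⟩ := (hex' z).mp hz2'
    rw [mapBaseChange_lTensor] at hz1'
    have h0 := injective_mapBaseChange_of_isGeometricallyReduced' k₀ k L
      (hz1'.trans (map_zero _).symm)
    rw [LinearEquiv.map_eq_zero_iff] at h0
    rw [h0, map_zero]
  · exact hFS ((formallySmooth_iff_isGeometricallyReduced K L).mpr h)
  · -- (c)
    haveI : Fact p.Prime := ⟨hp⟩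
    let D₀ : Derivation k K Ω[K⁄k₀] :=
      Derivation.mk' ({ (KaehlerDifferential.D k₀ K).toLinearMap.toAddMonoidHom with
        map_smul' := fun c x => by
          show KaehlerDifferential.D k₀ K (c • x) = c • KaehlerDifferential.D k₀ K x
          rw [Algebra.smul_def, Derivation.leibniz,
            derivation_eq_zero_of_mem_pPower p (KaehlerDifferential.D k₀ K) _ (h c), smul_zero,
            add_zero, algebraMap_smul] } : K →ₗ[k] Ω[K⁄k₀])
        (fun a b => (KaehlerDifferential.D k₀ K).leibniz a b)
    let inv : Ω[K⁄k] →ₗ[K] Ω[K⁄k₀] := D₀.liftKaehlerDifferential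
    have hcomp : inv ∘ₗ (KaehlerDifferential.map k₀ k K K) = LinearMap.id := by
      apply Derivation.liftKaehlerDifferential_unique
      ext x
      show inv (KaehlerDifferential.map k₀ k K K (KaehlerDifferential.D k₀ K x))
        = KaehlerDifferential.D k₀ K x
      rw [KaehlerDifferential.map_D]
      show D₀.liftKaehlerDifferential (KaehlerDifferential.D k K x) = _
      rw [Derivation.liftKaehlerDifferential_comp_D]
      rfl
    have h1 : (inv.baseChange L) ((KaehlerDifferential.map k₀ k K K).baseChange L z) = z := by
      rw [← LinearMap.comp_apply, ← LinearMap.baseChange_comp, hcomp, LinearMap.baseChange_id]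
      rfl
    rw [← h1, hz2, map_zero]

end Groth.Agent.S5835
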