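import Groth.Statements.S5838
import Mathlib
-- import your own Groth.Agent.* helpers here

set_option autoImplicit false
universe u v w
open EGA41

namespace Groth.Agent.S5838

section helpers

/-- lifting along surjections of modules killed by `J`, for a projective `A/J`-module -/
lemma exists_lift_of_projective_quotient {A : Type*} [CommRing A] (J : Ideal A)
    {P X Y : Type*} [AddCommGroup P] [Module A P] [Module (A ⧸ J) P] [IsScalarTower A (A ⧸ J) P]
    [Module.Projective (A ⧸ J) P] [AddCommGroup X] [Module A X] [AddCommGroup Y] [Module A Y]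
    (hX : Module.IsTorsionBySet A X J) (hY : Module.IsTorsionBySet A Y J)
    (f : X →ₗ[A] Y) (hf : Function.Surjective f) (h : P →ₗ[A] Y) :
    ∃ g : P →ₗ[A] X, ∀ p, f (g p) = h p := by
  letI := hX.module
  letI := hY.module
  have hsurj : Function.Surjective (algebraMap A (A ⧸ J)) := Ideal.Quotient.mk_surjective
  obtain ⟨g, hg⟩ := Module.projective_lifting_property (f.extendScalarsOfSurjective hsurj)
    (h.extendScalarsOfSurjective hsurj) hf
  refine ⟨g.restrictScalars A, fun p => ?_⟩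
  exact LinearMap.congr_fun hg p


section topo

variable {A : Type u} {M : Type v} [CommRing A] [TopologicalSpace A] [AddCommGroup M] [Module A M]
  [UniformSpace M] [IsUniformAddGroup M]
  (𝔍 : ℕ → Ideal A) (h𝔍open : ∀ n, IsOpen (𝔍 n : Set A)) (h𝔍anti : Antitone 𝔍)
  (h𝔍basis : (nhds (0 : A)).HasBasis (fun _ : ℕ => True) (fun n => (𝔍 n : Set A)))
  (hM : TopMod.IsDeduced A M)

include h𝔍open h𝔍basis hM in
lemma hasBasis_nat : (nhds (0 : M)).HasBasis (fun _ : ℕ => True)
    (fun n => ((𝔍 n • ⊤ : Submodule A M) : Set M)) := by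
  refine hM.2.to_hasBasis ?_ ?_
  · intro J hJ
    obtain ⟨n, -, hn⟩ := h𝔍basis.mem_iff.mp (hJ.mem_nhds J.zero_mem)
    refine ⟨n, trivial, ?_⟩
    have : (𝔍 n • ⊤ : Submodule A M) ≤ J • ⊤ := Submodule.smul_mono hn le_rfl
    exact this
  · intro n _
    exact ⟨𝔍 n, h𝔍open n, subset_rfl⟩

include h𝔍open h𝔍basis hM in
lemma isOpen_smul_top (n : ℕ) : IsOpen ((𝔍 n • ⊤ : Submodule A M) : Set M) := by
  have h1 : ((𝔍 n • ⊤ : Submodule A M) : Set M) ∈ nhds (0 : M) :=
    (hasBasis_nat 𝔍 h𝔍open h𝔍basis hM).mem_of_mem (i := n) trivial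
  exact AddSubgroup.isOpen_of_mem_nhds (𝔍 n • ⊤ : Submodule A M).toAddSubgroup h1

include h𝔍open h𝔍basis hM in
lemma isClosed_smul_top (n : ℕ) : IsClosed ((𝔍 n • ⊤ : Submodule A M) : Set M) :=
  AddSubgroup.isClosed_of_isOpen (𝔍 n • ⊤ : Submodule A M).toAddSubgroup
    (isOpen_smul_top 𝔍 h𝔍open h𝔍basis hM n)

include h𝔍anti in
lemma diff_mem (m : ℕ → M) (hm : ∀ n, m (n + 1) - m n ∈ (𝔍 n • ⊤ : Submodule A M))
    (n k : ℕ) (hnk : n ≤ k) : m k - m n ∈ (𝔍 n • ⊤ : Submodule A M) := by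
  induction k, hnk using Nat.le_induction with
  | base => simp
  | succ k hk ih =>
    have h1 : m (k + 1) - m n = (m (k + 1) - m k) + (m k - m n) := by abel
    rw [h1]
    refine Submodule.add_mem _ ?_ ih
    have : (𝔍 k • ⊤ : Submodule A M) ≤ 𝔍 n • ⊤ := Submodule.smul_mono (h𝔍anti hk) le_rfl
    exact this (hm k)

include h𝔍open h𝔍anti h𝔍basis hM in
lemma exists_limit [CompleteSpace M] (m : ℕ → M)
    (hm : ∀ n, m (n + 1) - m n ∈ (𝔍 n • ⊤ : Submodule A M)) :
    ∃ x : M, ∀ n, x - m n ∈ (𝔍 n • ⊤ : Submodule A M) := by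
  have hb := hasBasis_nat 𝔍 h𝔍open h𝔍basis hM
  have hcs : CauchySeq m := by
    rw [hb.uniformity_of_nhds_zero.cauchySeq_iff]
    intro n _
    refine ⟨n, fun k hk l hl => ?_⟩
    change m l - m k ∈ (𝔍 n • ⊤ : Submodule A M)
    have h1 : m l - m k = (m l - m n) - (m k - m n) := by abel
    rw [h1]
    exact Submodule.sub_mem _ (diff_mem 𝔍 h𝔍anti m hm n l hl) (diff_mem 𝔍 h𝔍anti m hm n k hk)
  obtain ⟨x, hx⟩ := cauchySeq_tendsto_of_complete hcs
  refine ⟨x, fun n => ?_⟩
  have hcl : IsClosed {y : M | y - m n ∈ (𝔍 n • ⊤ : Submodule A M)} := by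
    have hcont : Continuous fun y : M => y - m n := continuous_id.sub continuous_const
    exact (isClosed_smul_top 𝔍 h𝔍open h𝔍basis hM n).preimage hcont
  refine hcl.mem_of_tendsto hx ?_
  filter_upwards [Filter.eventually_ge_atTop n] with k hk
  exact diff_mem 𝔍 h𝔍anti m hm n k hk

include h𝔍open h𝔍basis hM in
lemma eq_zero_of_forall_mem [T2Space M] (x : M)
    (hx : ∀ n, x ∈ (𝔍 n • ⊤ : Submodule A M)) : x = 0 := by
  by_contra hne
  have hb := hasBasis_nat 𝔍 h𝔍open h𝔍basis hM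
  have h1 : ({x}ᶜ : Set M) ∈ nhds (0 : M) :=
    isOpen_compl_singleton.mem_nhds (by simpa using Ne.symm hne)
  obtain ⟨n, -, hn⟩ := hb.mem_iff.mp h1
  exact hn (hx n) rfl

end topo


section algebra

variable {A : Type u} {M : Type v} {N : Type w} [CommRing A] [AddCommGroup M] [Module A M]
  [AddCommGroup N] [Module A N] (𝔍 : ℕ → Ideal A) (h𝔍anti : Antitone 𝔍) (u : M →ₗ[A] N)

lemma smul_top_le (n : ℕ) (h𝔍anti : Antitone 𝔍) :
    (𝔍 (n + 1) • ⊤ : Submodule A M) ≤ 𝔍 n • ⊤ :=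
  Submodule.smul_mono (h𝔍anti (Nat.le_succ n)) le_rfl

lemma smul_quot_eq_zero (n : ℕ) (a : A) (ha : a ∈ 𝔍 n) (q : M ⧸ (𝔍 n • ⊤ : Submodule A M)) :
    a • q = 0 := by
  obtain ⟨m, rfl⟩ := Submodule.Quotient.mk_surjective _ q
  rw [← Submodule.Quotient.mk_smul, Submodule.Quotient.mk_eq_zero]
  exact Submodule.smul_mem_smul ha Submodule.mem_top

include h𝔍anti in
lemma step (n : ℕ)
    (hproj : Module.Projective (A ⧸ 𝔍 (n + 1))
      ((N ⧸ LinearMap.range u) ⧸ (𝔍 (n + 1) • (⊤ : Submodule A (N ⧸ LinearMap.range u)))))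
    (wn : N →ₗ[A] M ⧸ (𝔍 n • ⊤ : Submodule A M))
    (hwn : ∀ x, wn (u x) = Submodule.Quotient.mk x)
    (wn1 : N →ₗ[A] M ⧸ (𝔍 (n + 1) • ⊤ : Submodule A M))
    (hwn1 : ∀ x, wn1 (u x) = Submodule.Quotient.mk x) :
    ∃ w' : N →ₗ[A] M ⧸ (𝔍 (n + 1) • ⊤ : Submodule A M),
      (∀ x, w' (u x) = Submodule.Quotient.mk x) ∧
      ∀ y, Submodule.factor (smul_top_le 𝔍 n h𝔍anti) (w' y) = wn y := by
  obtain ⟨ρ, hρ⟩ : ∃ ρ : (M ⧸ (𝔍 (n + 1) • ⊤ : Submodule A M)) →ₗ[A] M ⧸ (𝔍 n • ⊤ : Submodule A M),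
      ρ = Submodule.factor (smul_top_le 𝔍 n h𝔍anti) := ⟨_, rfl⟩
  have hρmk : ∀ x : M, ρ (Submodule.Quotient.mk x) = Submodule.Quotient.mk x := by
    intro x; rw [hρ]; exact Submodule.factor_mk _ x
  have hρsurj : Function.Surjective ρ := by
    intro q
    obtain ⟨m, rfl⟩ := Submodule.Quotient.mk_surjective _ q
    exact ⟨Submodule.Quotient.mk m, hρmk m⟩
  rw [← hρ]
  -- the difference
  obtain ⟨d, hd⟩ : ∃ d : N →ₗ[A] M ⧸ (𝔍 n • ⊤ : Submodule A M), d = ρ ∘ₗ wn1 - wn := ⟨_, rfl⟩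
  have hdu : LinearMap.range u ≤ LinearMap.ker d := by
    rintro _ ⟨x, rfl⟩
    rw [LinearMap.mem_ker, hd, LinearMap.sub_apply, LinearMap.comp_apply, hwn1, hwn, hρmk, sub_self]
  obtain ⟨dbar, hdbar⟩ : ∃ dbar : (N ⧸ LinearMap.range u) →ₗ[A] M ⧸ (𝔍 n • ⊤ : Submodule A M),
      dbar = (LinearMap.range u).liftQ d hdu := ⟨_, rfl⟩
  have hdbar_mk : ∀ y : N, dbar (Submodule.Quotient.mk y) = d y := by
    intro y; rw [hdbar]; exact Submodule.liftQ_apply _ _ _
  have hkill : (𝔍 (n + 1) • (⊤ : Submodule A (N ⧸ LinearMap.range u))) ≤ LinearMap.ker dbar := by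
    rw [Submodule.smul_le]
    intro a ha c _
    rw [LinearMap.mem_ker, map_smul]
    exact smul_quot_eq_zero 𝔍 n a (h𝔍anti (Nat.le_succ n) ha) _
  obtain ⟨h, hh⟩ : ∃ h : ((N ⧸ LinearMap.range u) ⧸
      (𝔍 (n + 1) • (⊤ : Submodule A (N ⧸ LinearMap.range u)))) →ₗ[A]
      M ⧸ (𝔍 n • ⊤ : Submodule A M), h = Submodule.liftQ _ dbar hkill := ⟨_, rfl⟩
  have hh_mk : ∀ c, h (Submodule.Quotient.mk c) = dbar c := by
    intro c; rw [hh]; exact Submodule.liftQ_apply _ _ _
  have hX : Module.IsTorsionBySet A (M ⧸ (𝔍 (n + 1) • ⊤ : Submodule A M)) (𝔍 (n + 1)) :=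
    Module.isTorsionBySet_quotient_ideal_smul M (𝔍 (n + 1))
  have hY : Module.IsTorsionBySet A (M ⧸ (𝔍 n • ⊤ : Submodule A M)) (𝔍 (n + 1)) := by
    intro q a
    exact smul_quot_eq_zero 𝔍 n a (h𝔍anti (Nat.le_succ n) a.2) q
  obtain ⟨g, hg⟩ := exists_lift_of_projective_quotient (𝔍 (n + 1)) hX hY ρ hρsurj h
  refine ⟨wn1 - g ∘ₗ (Submodule.mkQ _) ∘ₗ (Submodule.mkQ (LinearMap.range u)), ?_, ?_⟩
  · intro x
    have h0 : (Submodule.mkQ (LinearMap.range u)) (u x) = 0 := by
      rw [Submodule.mkQ_apply, Submodule.Quotient.mk_eq_zero]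
      exact ⟨x, rfl⟩
    rw [LinearMap.sub_apply, LinearMap.comp_apply, LinearMap.comp_apply, h0, map_zero, map_zero,
      sub_zero, hwn1]
  · intro y
    rw [LinearMap.sub_apply, map_sub, LinearMap.comp_apply, LinearMap.comp_apply, hg,
      Submodule.mkQ_apply, Submodule.mkQ_apply, hh_mk, hdbar_mk, hd, LinearMap.sub_apply,
      LinearMap.comp_apply]
    abel

end algebra


section system

variable {A : Type u} {M : Type v} {N : Type w} [CommRing A] [AddCommGroup M] [Module A M]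
  [AddCommGroup N] [Module A N] (𝔍 : ℕ → Ideal A) (h𝔍anti : Antitone 𝔍) (u : M →ₗ[A] N)

include h𝔍anti in
lemma exists_system
    (hproj : ∀ n, Module.Projective (A ⧸ 𝔍 n)
      ((N ⧸ LinearMap.range u) ⧸ (𝔍 n • (⊤ : Submodule A (N ⧸ LinearMap.range u)))))
    (H : ∀ n, ∃ w : N →ₗ[A] M ⧸ (𝔍 n • ⊤ : Submodule A M),
      ∀ x, w (u x) = Submodule.Quotient.mk x) :
    ∃ W : ∀ n, N →ₗ[A] M ⧸ (𝔍 n • ⊤ : Submodule A M),
      (∀ n x, W n (u x) = Submodule.Quotient.mk x) ∧
      ∀ n y, Submodule.factor (smul_top_le 𝔍 n h𝔍anti) (W (n + 1) y) = W n y := by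
  have step' : ∀ (n : ℕ) (w : {w : N →ₗ[A] M ⧸ (𝔍 n • ⊤ : Submodule A M) //
      ∀ x, w (u x) = Submodule.Quotient.mk x}),
      ∃ w' : {w : N →ₗ[A] M ⧸ (𝔍 (n + 1) • ⊤ : Submodule A M) //
        ∀ x, w (u x) = Submodule.Quotient.mk x},
        ∀ y, Submodule.factor (smul_top_le 𝔍 n h𝔍anti) (w'.1 y) = w.1 y := by
    intro n w
    obtain ⟨w1, hw1⟩ := H (n + 1)
    obtain ⟨w', hw', hc⟩ := step 𝔍 h𝔍anti u n (hproj (n + 1)) w.1 w.2 w1 hw1
    exact ⟨⟨w', hw'⟩, hc⟩
  choose stepf hstepf using step'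
  obtain ⟨w0, hw0⟩ := H 0
  let W : ∀ n, {w : N →ₗ[A] M ⧸ (𝔍 n • ⊤ : Submodule A M) //
      ∀ x, w (u x) = Submodule.Quotient.mk x} :=
    fun n => Nat.rec ⟨w0, hw0⟩ (fun n w => stepf n w) n
  exact ⟨fun n => (W n).1, fun n => (W n).2, fun n y => hstepf n (W n) y⟩

end system

end helpers

/-- Let A be a topological ring with a countable decreasing fundamental system (𝔍_n) of open ideals, M
and N topological A-modules with the topologies deduced from that of A, M Hausdorff and complete,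
and u : M → N a continuous linear map such that for every n the cokernel of M/𝔍_n M → N/𝔍_n N is a
projective (A/𝔍_n)-module. Then u is formally left invertible if and only if it has a linear left
inverse. (The published statement adds that u is then a topological isomorphism onto a topological
direct factor.) -/
theorem result {A : Type u} {M : Type v} {N : Type w}
    [CommRing A] [TopologicalSpace A] [AddCommGroup M] [Module A M] [UniformSpace M] [IsUniformAddGroup M]
    [CompleteSpace M] [T2Space M] [AddCommGroup N] [Module A N] [TopologicalSpace N]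
    (𝔍 : ℕ → Ideal A) (h𝔍open : ∀ n, IsOpen (𝔍 n : Set A)) (h𝔍anti : Antitone 𝔍)
    (h𝔍basis : (nhds (0 : A)).HasBasis (fun _ : ℕ => True) (fun n => (𝔍 n : Set A)))
    (hM : TopMod.IsDeduced A M) (hN : TopMod.IsDeduced A N) (u : M →L[A] N)
    (hcoker : ∀ n, Module.Projective (A ⧸ 𝔍 n)
      ((N ⧸ LinearMap.range u.toLinearMap) ⧸ (𝔍 n • (⊤ : Submodule A (N ⧸ LinearMap.range u.toLinearMap))))) :
    TopMod.IsFormallyLeftInvertible u ↔ ∃ w : N →ₗ[A] M, ∀ x : M, w (u x) = x := by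
  constructor
  · -- formally left invertible ⇒ left inverse
    intro hfl
    -- the maps to the discrete quotients
    have H : ∀ n, ∃ w : N →ₗ[A] M ⧸ (𝔍 n • ⊤ : Submodule A M),
        ∀ x, w (u.toLinearMap x) = Submodule.Quotient.mk x := by
      intro n
      letI : TopologicalSpace (M ⧸ (𝔍 n • ⊤ : Submodule A M)) := ⊥
      haveI : DiscreteTopology (M ⧸ (𝔍 n • ⊤ : Submodule A M)) := ⟨rfl⟩
      have hcont : Continuous (Submodule.mkQ (𝔍 n • ⊤ : Submodule A M)) := by
        rw [continuous_discrete_rng]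
        intro q
        obtain ⟨m₀, rfl⟩ := Submodule.Quotient.mk_surjective _ q
        have : (Submodule.mkQ (𝔍 n • ⊤ : Submodule A M)) ⁻¹' {Submodule.Quotient.mk m₀} =
            (fun y : M => y - m₀) ⁻¹' ((𝔍 n • ⊤ : Submodule A M) : Set M) := by
          ext y
          simp only [Set.mem_preimage, Set.mem_singleton_iff, Submodule.mkQ_apply, SetLike.mem_coe]
          exact Submodule.Quotient.eq _
        rw [this]
        exact (isOpen_smul_top 𝔍 h𝔍open h𝔍basis hM n).preimage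
          (continuous_id.sub continuous_const)
      obtain ⟨w, hw⟩ := hfl (M ⧸ (𝔍 n • ⊤ : Submodule A M))
        ⟨Submodule.mkQ (𝔍 n • ⊤ : Submodule A M), hcont⟩
      exact ⟨w.toLinearMap, fun x => hw x⟩
    obtain ⟨W, hWu, hWc⟩ := exists_system 𝔍 h𝔍anti u.toLinearMap hcoker H
    -- the limit
    have hex : ∀ y : N, ∃ x : M, ∀ n, (Submodule.Quotient.mk x : M ⧸ (𝔍 n • ⊤ : Submodule A M)) =
        W n y := by
      intro y
      have hrep : ∀ n, ∃ m : M, (Submodule.Quotient.mk m : M ⧸ (𝔍 n • ⊤ : Submodule A M)) =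
          W n y := fun n => Submodule.Quotient.mk_surjective _ (W n y)
      choose m hm using hrep
      have hdiff : ∀ n, m (n + 1) - m n ∈ (𝔍 n • ⊤ : Submodule A M) := by
        intro n
        rw [← Submodule.Quotient.eq, hm n, ← hWc n y, ← hm (n + 1)]
        exact (Submodule.factor_mk _ _).symm
      obtain ⟨x, hx⟩ := exists_limit 𝔍 h𝔍open h𝔍anti h𝔍basis hM m hdiff
      refine ⟨x, fun n => ?_⟩
      rw [← hm n]
      exact (Submodule.Quotient.eq _).mpr (hx n)
    have huniq : ∀ (x x' : M), (∀ n, (Submodule.Quotient.mk x : M ⧸ (𝔍 n • ⊤ : Submodule A M)) =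
        Submodule.Quotient.mk x') → x = x' := by
      intro x x' h
      rw [← sub_eq_zero]
      apply eq_zero_of_forall_mem 𝔍 h𝔍open h𝔍basis hM
      intro n
      exact (Submodule.Quotient.eq _).mp (h n)
    choose wf hwf using hex
    refine ⟨{ toFun := wf, map_add' := ?_, map_smul' := ?_ }, ?_⟩
    · intro y y'
      apply huniq
      intro n
      rw [hwf, Submodule.Quotient.mk_add, hwf, hwf, map_add]
    · intro a y
      apply huniq
      intro n
      rw [hwf, RingHom.id_apply, Submodule.Quotient.mk_smul, hwf, map_smul]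
    · intro x
      apply huniq
      intro n
      change Submodule.Quotient.mk (wf (u x)) = _
      rw [hwf]
      exact hWu n x
  · -- left inverse ⇒ formally left invertible
    rintro ⟨w, hw⟩ E _ _ _ _ v
    haveI : IsTopologicalAddGroup N := hN.1
    haveI : IsTopologicalAddGroup M := hM.1
    have hcont : Continuous (v.toLinearMap ∘ₗ w) := by
      apply continuous_of_continuousAt_zero (v.toLinearMap ∘ₗ w).toAddMonoidHom
      change Filter.Tendsto (fun y => v (w y)) (nhds 0) (nhds (v (w 0)))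
      rw [map_zero, map_zero, nhds_discrete E, Filter.tendsto_pure]
      have h1 : {x : M | v x = 0} ∈ nhds (0 : M) := by
        have := v.continuous.continuousAt (x := (0 : M))
        rw [ContinuousAt, map_zero, nhds_discrete E, Filter.tendsto_pure] at this
        exact this
      obtain ⟨J, hJ, hJsub⟩ := hM.2.mem_iff.mp h1
      have h2 : ((J • ⊤ : Submodule A N) : Set N) ∈ nhds (0 : N) := hN.2.mem_of_mem hJ
      filter_upwards [h2] with y hy
      have h3 : w y ∈ (J • ⊤ : Submodule A M) := by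
        have : (J • ⊤ : Submodule A N) ≤ (J • ⊤ : Submodule A M).comap w := by
          rw [Submodule.smul_le]
          intro a ha c _
          rw [Submodule.mem_comap, map_smul]
          exact Submodule.smul_mem_smul ha Submodule.mem_top
        exact this hy
      exact hJsub h3
    refine ⟨⟨v.toLinearMap ∘ₗ w, hcont⟩, fun x => ?_⟩
    change v (w (u x)) = v x
    rw [hw]

end Groth.Agent.S5838
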