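import Groth.Statements.S5839
import Groth.Agent.Lib27.TopMod.LeftInv
import Groth.Agent.Lib27.TopMod.Deduced
import Groth.Agent.Lib27.TopMod.Complete

set_option autoImplicit false
universe u v w
open EGA41

namespace Groth.Agent.S5839

open Groth.Agent.Lib27.TopMod

/-- Let A be preadmissible with ideal of definition 𝔏, the topologies of M and N deduced from that of A,
N/JN projective over A/J for every open ideal J; assuming moreover a countable decreasing
fundamental system of open ideals and M Hausdorff and complete, u : M → N has a linear left inverse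
if and only if the induced map M/𝔏M → N/𝔏N has one (both being equivalent to formal left
invertibility). -/
theorem result {A : Type u} {M : Type v} {N : Type w}
    [CommRing A] [TopologicalSpace A] [AddCommGroup M] [Module A M] [UniformSpace M] [IsUniformAddGroup M]
    [CompleteSpace M] [T2Space M] [AddCommGroup N] [Module A N] [TopologicalSpace N]
    (𝔍 : ℕ → Ideal A) (h𝔍open : ∀ n, IsOpen (𝔍 n : Set A)) (h𝔍anti : Antitone 𝔍)
    (h𝔍basis : (nhds (0 : A)).HasBasis (fun _ : ℕ => True) (fun n => (𝔍 n : Set A)))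
    (hM : TopMod.IsDeduced A M) (hN : TopMod.IsDeduced A N) (u : M →L[A] N)
    (hA : LinTop.IsPreadmissible A) (𝔏 : Ideal A) (h𝔏 : LinTop.IsIdealOfDefinition A 𝔏)
    (hproj : ∀ J : Ideal A, IsOpen (J : Set A) → Module.Projective (A ⧸ J) (N ⧸ (J • (⊤ : Submodule A N)))) :
    (∃ w : N →ₗ[A] M, ∀ x : M, w (u x) = x) ↔
      ∃ w₀ : N →ₗ[A] M ⧸ (𝔏 • ⊤ : Submodule A M), ∀ x : M, w₀ (u x) = Submodule.Quotient.mk x := by
  constructor
  · rintro ⟨w, hw⟩
    refine ⟨(𝔏 • ⊤ : Submodule A M).mkQ ∘ₗ w, fun x => ?_⟩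
    rw [LinearMap.comp_apply, hw]
    rfl
  · rintro ⟨w₀, hw₀⟩
    classical
    set J : ℕ → Ideal A := fun k => 𝔍 k ⊓ 𝔏 with hJdef
    have hJopen : ∀ k, IsOpen (J k : Set A) := by
      intro k
      change IsOpen ((𝔍 k ⊓ 𝔏 : Ideal A) : Set A)
      rw [Submodule.coe_inf]
      exact (h𝔍open k).inter h𝔏.1
    have hJanti : Antitone J := fun k l hkl => inf_le_inf_right _ (h𝔍anti hkl)
    have hJ𝔏 : ∀ k, J k ≤ 𝔏 := fun k => inf_le_right
    have hpow : ∀ k, ∃ n : ℕ, 𝔏 ^ n ≤ J k := by
      intro k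
      obtain ⟨n, -, hn⟩ := h𝔏.2 (J k : Set A) ((hJopen k).mem_nhds (zero_mem _))
      exact ⟨n, fun x hx => hn hx⟩
    have hJbasis : ∀ I : Ideal A, IsOpen (I : Set A) → ∃ k, J k ≤ I := by
      intro I hI
      obtain ⟨k, -, hk⟩ := h𝔍basis.mem_iff.1 (hI.mem_nhds (zero_mem I))
      exact ⟨k, fun x hx => hk (inf_le_left (a := 𝔍 k) (b := 𝔏) hx)⟩
    -- the tower
    have hstep0 : ∃ w : N →ₗ[A] M ⧸ (J 0 • ⊤ : Submodule A M),
        ∀ x : M, w (u x) = Submodule.Quotient.mk x := by
      obtain ⟨n, hn⟩ := hpow 0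
      haveI := hproj (J 0) (hJopen 0)
      obtain ⟨w', hw', -⟩ := exists_leftInverse_step u.toLinearMap (J 0) 𝔏 (hJ𝔏 0) n hn w₀ hw₀
      exact ⟨w', hw'⟩
    obtain ⟨w0, hw0⟩ := hstep0
    have hstep : ∀ (k : ℕ) (w : {w : N →ₗ[A] M ⧸ (J k • ⊤ : Submodule A M) //
          ∀ x : M, w (u x) = Submodule.Quotient.mk x}),
        ∃ w' : {w' : N →ₗ[A] M ⧸ (J (k + 1) • ⊤ : Submodule A M) //
          ∀ x : M, w' (u x) = Submodule.Quotient.mk x},
          (Submodule.factor (Submodule.smul_mono_left (hJanti (Nat.le_succ k)))) ∘ₗ w'.1 = w.1 := by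
      intro k w
      obtain ⟨n, hn⟩ := hpow (k + 1)
      haveI := hproj (J (k + 1)) (hJopen (k + 1))
      obtain ⟨w', hw', hfac⟩ := exists_leftInverse_step u.toLinearMap (J (k + 1)) (J k)
        (hJanti (Nat.le_succ k)) n ((Ideal.pow_right_mono (hJ𝔏 k) n).trans hn) w.1 w.2
      exact ⟨⟨w', hw'⟩, hfac⟩
    choose next hnext using hstep
    let W : ∀ k, {w : N →ₗ[A] M ⧸ (J k • ⊤ : Submodule A M) //
          ∀ x : M, w (u x) = Submodule.Quotient.mk x} := fun k =>
      Nat.rec (motive := fun k => {w : N →ₗ[A] M ⧸ (J k • ⊤ : Submodule A M) //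
          ∀ x : M, w (u x) = Submodule.Quotient.mk x}) ⟨w0, hw0⟩ (fun k wk => next k wk) k
    have hW : ∀ k, (Submodule.factor (Submodule.smul_mono_left (hJanti (Nat.le_succ k)))) ∘ₗ
        (W (k + 1)).1 = (W k).1 := fun k => hnext k (W k)
    -- the limit
    have hex : ∀ y : N, ∃! x : M, ∀ k, Submodule.Quotient.mk x = (W k).1 y := by
      intro y
      apply existsUnique_of_compatible hM J hJopen hJanti hJbasis (fun k => (W k).1 y)
      intro k
      exact LinearMap.congr_fun (hW k) y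
    choose wf hwf huniq using hex
    refine ⟨{ toFun := wf, map_add' := ?_, map_smul' := ?_ }, ?_⟩
    · intro y y'
      symm
      apply huniq (y + y')
      intro k
      rw [Submodule.Quotient.mk_add, hwf y k, hwf y' k, map_add]
    · intro a y
      symm
      apply huniq (a • y)
      intro k
      rw [RingHom.id_apply, Submodule.Quotient.mk_smul, hwf y k, map_smul]
    · intro x
      symm
      apply huniq (u x)
      intro k
      exact ((W k).2 x).symm

end Groth.Agent.S5839
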