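import Groth.Statements.S5854
import Mathlib
import Groth.Agent.Lib.Helper17.ZClosFlat3

set_option autoImplicit false
universe u
open ZClos

namespace Groth.Agent.S5854

open CategoryTheory CategoryTheory.Limits AlgebraicGeometry in
/-- Let f : X' → X be a flat morphism of locally Noetherian schemes, Z a subset of X stable under
specialization, Z' = f⁻¹(Z) and F a quasi-coherent O_X-module. If H⁰_{X/Z}(F) is coherent then
H⁰_{X'/Z'}(f^* F) is coherent; the converse holds when f is moreover surjective (faithfully flat)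
and quasi-compact. -/
theorem result {X X' : Scheme.{u}} [IsLocallyNoetherian X] [IsLocallyNoetherian X'] (f : X' ⟶ X) [Flat f]
    (Z : Set X) (hZ : StableUnderSpecialization Z) (F : X.Modules) (hF : Coh.IsQCoh F) :
    (Coh.IsCoh ((ZClos.H0 Z).obj F) →
      Coh.IsCoh ((ZClos.H0 (f.base ⁻¹' Z)).obj ((Scheme.Modules.pullback f).obj F))) ∧
    (Surjective f → QuasiCompact f →
      Coh.IsCoh ((ZClos.H0 (f.base ⁻¹' Z)).obj ((Scheme.Modules.pullback f).obj F)) →
        Coh.IsCoh ((ZClos.H0 Z).obj F)) := by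
  haveI : F.IsQuasicoherent := hF
  obtain ⟨e⟩ := Groth.Agent.Lib.Helper17.ZClosFlat.main f hZ F
  haveI hH : ((ZClos.H0 Z).obj F).IsQuasicoherent :=
    Groth.Agent.Lib.Helper17.ZClosFlat.isQuasicoherent_H0 Z F
  refine ⟨fun h => ?_, fun hs hq h => ?_⟩
  · haveI : ((ZClos.H0 Z).obj F).IsFiniteType := h.2
    haveI : ((Scheme.Modules.pullback f).obj ((ZClos.H0 Z).obj F)).IsFiniteType := inferInstance
    exact ⟨Groth.Agent.Lib.Helper29.QCoh.isQuasicoherent_of_iso e,
      Groth.Agent.Lib.Helper29.QCoh.isFiniteType_of_iso e⟩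
  · haveI := hs
    haveI := hq
    haveI : ((ZClos.H0 (f.base ⁻¹' Z)).obj
      ((Scheme.Modules.pullback f).obj F)).IsQuasicoherent := h.1
    haveI : ((ZClos.H0 (f.base ⁻¹' Z)).obj
      ((Scheme.Modules.pullback f).obj F)).IsFiniteType := h.2
    haveI : ((Scheme.Modules.pullback f).obj ((ZClos.H0 Z).obj F)).IsFiniteType :=
      Groth.Agent.Lib.Helper29.QCoh.isFiniteType_of_iso e.symm
    exact ⟨hH, Groth.Agent.Lib.Helper29.QCoh.isFiniteType_of_pullback f _⟩

end Groth.Agent.S5854
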