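import Groth.Statements.S5862
import Mathlib


set_option autoImplicit false
universe u
open RadPt

namespace Groth.Agent.S5862

open CategoryTheory AlgebraicGeometry in
/-- Let f : X → Y and g : Y → Z be morphisms of schemes and y a point of Y. If f is radicial at y (fibre
with at most one point, purely inseparable residue field extension) and g is radicial at g(y), then
g ∘ f is radicial at g(y). Conversely, if f is surjective and g ∘ f is radicial at g(y), then f is
radicial at y and g is radicial at g(y). -/
theorem result {X Y Z : Scheme.{u}} (f : X ⟶ Y) (g : Y ⟶ Z) (y : Y) :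
    (RadPt.IsRadicialAt f y → RadPt.IsRadicialAt g (g y) → RadPt.IsRadicialAt (f ≫ g) (g y)) ∧
      (Surjective f → RadPt.IsRadicialAt (f ≫ g) (g y) →
        RadPt.IsRadicialAt f y ∧ RadPt.IsRadicialAt g (g y)) := by
  constructor
  · rintro ⟨hf1, hf2⟩ ⟨hg1, hg2⟩
    refine ⟨fun x x' hx hx' => ?_, fun x hx => ?_⟩
    · have h1 : f x = y := hg1 (f x) y hx rfl
      have h2 : f x' = y := hg1 (f x') y hx' rfl
      exact hf1 x x' h1 h2
    · have h1 : f x = y := hg1 (f x) y hx rfl
      have e : (f ≫ g).residueFieldMap x = g.residueFieldMap (f x) ≫ f.residueFieldMap x :=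
        Scheme.residueFieldMap_comp f g x
      rw [e]
      exact RingHom.IsPurelyInseparable.comp (hg2 (f x) hx) (hf2 x h1)
  · rintro hsurj ⟨h1, h2⟩
    refine ⟨⟨fun x x' hx hx' => ?_, fun x hx => ?_⟩, ⟨fun y' y'' hy' hy'' => ?_, fun y' hy' => ?_⟩⟩
    · exact h1 x x' (by show g (f x) = g y; rw [hx]) (by show g (f x') = g y; rw [hx'])
    · have h3 := h2 x (by show g (f x) = g y; rw [hx])
      have e : (f ≫ g).residueFieldMap x = g.residueFieldMap (f x) ≫ f.residueFieldMap x :=
        Scheme.residueFieldMap_comp f g x
      rw [e] at h3
      let F1 := Z.residueField (g (f x))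
      let F2 := Y.residueField (f x)
      let F3 := X.residueField x
      algebraize [(g.residueFieldMap (f x)).hom, (f.residueFieldMap x).hom,
        (g.residueFieldMap (f x) ≫ f.residueFieldMap x).hom]
      have : IsScalarTower (Z.residueField (g (f x))) (Y.residueField (f x)) (X.residueField x) :=
        IsScalarTower.of_algebraMap_eq (fun _ => rfl)
      have h4 : IsPurelyInseparable (Z.residueField (g (f x))) (X.residueField x) := h3
      exact IsPurelyInseparable.tower_top (Z.residueField (g (f x))) (Y.residueField (f x))
        (X.residueField x)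
    · obtain ⟨x', rfl⟩ := hsurj.surj y'
      obtain ⟨x'', rfl⟩ := hsurj.surj y''
      rw [h1 x' x'' hy' hy'']
    · obtain ⟨x', rfl⟩ := hsurj.surj y'
      have h3 := h2 x' hy'
      have e : (f ≫ g).residueFieldMap x' = g.residueFieldMap (f x') ≫ f.residueFieldMap x' :=
        Scheme.residueFieldMap_comp f g x'
      rw [e] at h3
      algebraize [(g.residueFieldMap (f x')).hom, (f.residueFieldMap x').hom,
        (g.residueFieldMap (f x') ≫ f.residueFieldMap x').hom]
      have : IsScalarTower (Z.residueField (g (f x'))) (Y.residueField (f x')) (X.residueField x') :=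
        IsScalarTower.of_algebraMap_eq (fun _ => rfl)
      have h4 : IsPurelyInseparable (Z.residueField (g (f x'))) (X.residueField x') := h3
      exact IsPurelyInseparable.tower_bot (Z.residueField (g (f x'))) (Y.residueField (f x'))
        (X.residueField x')

end Groth.Agent.S5862
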