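import Groth.Statements.S5866
import Mathlib
import Groth.Agent.Lib.Helper6.RP10
-- import your own Groth.Agent.* helpers here

set_option autoImplicit false
universe u
open RadPt

namespace Groth.Agent.S5866

open CategoryTheory AlgebraicGeometry in
/-- Let f : X → Y be a morphism of schemes which is integral and whose induced morphism of reduced
schemes is birational. Then Y is geometrically unibranch (at every point) if and only if X is
geometrically unibranch and f is radicial (universally injective). -/
theorem result {X Y : Scheme.{u}} (f : X ⟶ Y) [IsIntegralHom f] (hf : RadPt.IsBirational f) :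
    (∀ y : Y, CAlg2.IsGeomUnibranch (Y.presheaf.stalk y)) ↔
      ((∀ x : X, CAlg2.IsGeomUnibranch (X.presheaf.stalk x)) ∧ UniversallyInjective f) := by
  have key := fun y => Groth.Agent.Lib.Helper6.RP.isGeomUnibranch_iff f hf y
  have htfae := (AlgebraicGeometry.tfae_universallyInjective f).out 0 2
  constructor
  · intro hY
    refine ⟨fun x => ((key (f x)).mp (hY (f x))).2 x rfl, ?_⟩
    rw [htfae]
    refine ⟨fun x x' hxx' => ((key (f x')).mp (hY (f x'))).1.1 x x' hxx' rfl, fun x => ?_⟩
    exact ((key (f x)).mp (hY (f x))).1.2 x rfl
  · rintro ⟨hX, hUI⟩ y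
    rw [htfae] at hUI
    refine (key y).mpr ⟨⟨fun x x' hx hx' => hUI.1 (hx.trans hx'.symm), fun x _ => hUI.2 x⟩,
      fun x _ => hX x⟩

end Groth.Agent.S5866
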