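import Groth.Statements.S5876
import Groth.Agent.Lib.Helper3.QCAlgColim
import Groth.Agent.Lib.Helper3.QCAlgSpecHom

set_option autoImplicit false
universe u
open CategoryTheory CategoryTheory.Limits AlgebraicGeometry
open Lim8

namespace Groth.Agent.S5876

section Aux
open Opposite TopologicalSpace
open RelSpec Groth.Agent.Lib.Helper3 Groth.Agent.Lib.Helper3.QCAlgColim
open AlgebraicGeometry.Scheme.AffineZariskiSite

variable {S : Scheme.{u}} {J : Type u} [SmallCategory J] [IsFiltered J]
    (A : J ⥤ RelSpec.QCAlg S) (c : Cocone A) (hc : IsColimit c)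
    (T : Scheme.{u}) (v : ∀ j : J, T ⟶ (A.obj j).spec)
    (hv : ∀ (j j' : J) (φ : j ⟶ j'), v j' ≫ RelSpec.QCAlg.specMap (A.map φ) = v j)

/-- The common morphism to the base. -/
noncomputable def t : T ⟶ S := v (j₀ J) ≫ (A.obj (j₀ J)).π

omit [IsFiltered J] in
include hv in
theorem v_π_of_hom {j k : J} (φ : j ⟶ k) : v j ≫ (A.obj j).π = v k ≫ (A.obj k).π := by
  rw [← hv j k φ, Category.assoc, QCAlg.specMap_π]

include hv in
theorem ht (j : J) : v j ≫ (A.obj j).π = t A T v := by
  obtain ⟨k, φ, φ', -⟩ := IsFilteredOrEmpty.cocone_objs j (j₀ J)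
  exact (v_π_of_hom A T v hv φ).trans (v_π_of_hom A T v hv φ').symm

/-- The legs. -/
noncomputable def leg (j : J) (U : S.Opens) (hU : IsAffineOpen U) :
    (A.obj j).presheaf.obj (op U) ⟶ Γ(T, t A T v ⁻¹ᵁ U) :=
  haveI := isIso_gammaAff (A.obj j) U hU
  inv ((A.obj j).gammaAff U hU) ≫
    (v j).appLE ((A.obj j).π ⁻¹ᵁ U) (t A T v ⁻¹ᵁ U)
      (QCAlg.le_preimage_of_comp_π (A.obj j) (ht A T v hv j) U)

theorem gamma_leg (j : J) (U : S.Opens) (hU : IsAffineOpen U) :
    (A.obj j).gammaAff U hU ≫ leg A T v hv j U hU =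
      (v j).appLE ((A.obj j).π ⁻¹ᵁ U) (t A T v ⁻¹ᵁ U)
        (QCAlg.le_preimage_of_comp_π (A.obj j) (ht A T v hv j) U) := by
  have := isIso_gammaAff (A.obj j) U hU
  unfold leg
  rw [IsIso.hom_inv_id_assoc]

set_option backward.isDefEq.respectTransparency false in
theorem map_leg {j j' : J} (φ : j ⟶ j') (U : S.Opens) (hU : IsAffineOpen U) :
    (A.map φ).hom.app (op U) ≫ leg A T v hv j' U hU = leg A T v hv j U hU := by
  have := isIso_gammaAff (A.obj j) U hU
  rw [← cancel_epi ((A.obj j).gammaAff U hU), gamma_leg, ← Category.assoc,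
    ← QCAlg.specMap_appLE_gammaAff (A.map φ) U hU, Category.assoc, gamma_leg,
    Scheme.Hom.appLE_comp_appLE]
  exact appLE_congr' (hv j j' φ) _ _ _

set_option backward.isDefEq.respectTransparency false in
theorem leg_res (j : J) {U V : S.Opens} (hU : IsAffineOpen U) (hV : IsAffineOpen V) (i : V ≤ U) :
    (A.obj j).presheaf.map (homOfLE i).op ≫ leg A T v hv j V hV =
      leg A T v hv j U hU ≫ T.presheaf.map (homOfLE ((t A T v).preimage_mono i)).op := by
  have := isIso_gammaAff (A.obj j) U hU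
  rw [← cancel_epi ((A.obj j).gammaAff U hU)]
  have h1 : (A.obj j).gammaAff U hU ≫ (A.obj j).presheaf.map (homOfLE i).op =
      (A.obj j).spec.presheaf.map (homOfLE ((A.obj j).π.preimage_mono i)).op ≫
        (A.obj j).gammaAff V hV := by
    rw [← (A.obj j).gammaMap_app U hU, ← (A.obj j).gammaMap_app V hV]
    exact ((A.obj j).gammaMap.naturality (homOfLE i).op).symm
  rw [← Category.assoc, h1, Category.assoc, gamma_leg, ← Category.assoc, gamma_leg,
    Scheme.Hom.map_appLE, Scheme.Hom.appLE_map]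


/-- The coprojections, with their expected type. -/
def cι (j : J) : A.obj j ⟶ c.pt := c.ι.app j

/-- The cocone of legs over an affine open. -/
noncomputable def legCocone (U : S.Opens) (hU : IsAffineOpen U) : Cocone (A ⋙ secF U) where
  pt := Γ(T, t A T v ⁻¹ᵁ U)
  ι :=
    { app := fun j => leg A T v hv j U hU
      naturality := fun j j' φ => by
        change (A.map φ).hom.app (op U) ≫ leg A T v hv j' U hU = leg A T v hv j U hU ≫ 𝟙 _
        rw [Category.comp_id, map_leg] }

/-- The induced map on sections of the colimit. -/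
noncomputable def ωApp (U : S.Opens) (hU : IsAffineOpen U) :
    c.pt.presheaf.obj (op U) ⟶ Γ(T, t A T v ⁻¹ᵁ U) :=
  (secIsColimit A hc U hU).desc (legCocone A T v hv U hU)

theorem ι_ωApp (j : J) (U : S.Opens) (hU : IsAffineOpen U) :
    (cι A c j).hom.app (op U) ≫ ωApp A c hc T v hv U hU = leg A T v hv j U hU :=
  (secIsColimit A hc U hU).fac (legCocone A T v hv U hU) j

include hc in
theorem sec_hom_ext (U : S.Opens) (hU : IsAffineOpen U) {R : CommRingCat.{u}}
    (f g : c.pt.presheaf.obj (op U) ⟶ R)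
    (h : ∀ j, (cι A c j).hom.app (op U) ≫ f = (cι A c j).hom.app (op U) ≫ g) : f = g :=
  (secIsColimit A hc U hU).hom_ext h

theorem ωApp_res {U V : S.Opens} (hU : IsAffineOpen U) (hV : IsAffineOpen V) (i : V ≤ U) :
    c.pt.presheaf.map (homOfLE i).op ≫ ωApp A c hc T v hv V hV =
      ωApp A c hc T v hv U hU ≫ T.presheaf.map (homOfLE ((t A T v).preimage_mono i)).op := by
  refine sec_hom_ext A c hc U hU _ _ fun j => ?_
  rw [← Category.assoc, ← (cι A c j).hom.naturality, Category.assoc, ι_ωApp, ← Category.assoc,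
    ι_ωApp, leg_res]

/-- The maps `ωApp` as a natural transformation on the affine site. -/
noncomputable def ωNat : (toOpensFunctor S).op ⋙ c.pt.presheaf ⟶
    (toOpensFunctor S).op ⋙ ((t A T v).base _* T.presheaf) where
  app W := ωApp A c hc T v hv W.unop.1 W.unop.2
  naturality W W' i := ωApp_res A c hc T v hv W.unop.2 W'.unop.2 (toOpens_mono i.unop.le)

set_option backward.isDefEq.respectTransparency false in
theorem str_ωApp (U : S.Opens) (hU : IsAffineOpen U) :
    c.pt.str.app (op U) ≫ ωApp A c hc T v hv U hU = (t A T v).app U := by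
  have h1 : c.pt.str.app (op U) =
      (A.obj (j₀ J)).str.app (op U) ≫ (cι A c (j₀ J)).hom.app (op U) :=
    (congrArg (fun k => k.app (op U)) (cι A c (j₀ J)).comm).symm
  rw [h1, Category.assoc, ι_ωApp, ← (A.obj (j₀ J)).π_app_gammaAff U hU, Category.assoc, gamma_leg,
    Scheme.Hom.app_eq_appLE, Scheme.Hom.appLE_comp_appLE, Scheme.Hom.app_eq_appLE]
  exact appLE_congr' (ht A T v hv (j₀ J)) _ _ _

/-- The morphism to the spectrum of the colimit. -/
noncomputable def w : T ⟶ c.pt.spec :=
  QCAlg.liftAff c.pt (t A T v) (ωNat A c hc T v hv)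

theorem w_π : w A c hc T v hv ≫ c.pt.π = t A T v :=
  QCAlg.liftAff_π c.pt (t A T v) (ωNat A c hc T v hv) (str_ωApp A c hc T v hv)

theorem w_appLE (U : S.Opens) (hU : IsAffineOpen U) :
    (w A c hc T v hv).appLE (c.pt.π ⁻¹ᵁ U) (t A T v ⁻¹ᵁ U)
      (QCAlg.le_preimage_of_comp_π c.pt (w_π A c hc T v hv) U) =
      c.pt.gammaAff U hU ≫ ωApp A c hc T v hv U hU :=
  QCAlg.liftAff_appLE c.pt (t A T v) (ωNat A c hc T v hv) (str_ωApp A c hc T v hv) U hU

set_option backward.isDefEq.respectTransparency false in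
theorem w_specMap (j : J) : w A c hc T v hv ≫ QCAlg.specMap (cι A c j) = v j := by
  have h1 : (w A c hc T v hv ≫ QCAlg.specMap (cι A c j)) ≫ (A.obj j).π = t A T v := by
    rw [Category.assoc, QCAlg.specMap_π, w_π]
  refine QCAlg.spec_hom_ext (A.obj j) (t A T v) _ _ h1 (ht A T v hv j) fun U hU => ?_
  rw [← gamma_leg A T v hv j U hU, ← ι_ωApp A c hc T v hv j U hU, ← Category.assoc,
    ← QCAlg.specMap_appLE_gammaAff (cι A c j) U hU, Category.assoc, ← w_appLE,
    Scheme.Hom.appLE_comp_appLE]

set_option backward.isDefEq.respectTransparency false in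
theorem w_unique (w' : T ⟶ c.pt.spec)
    (hw' : ∀ j, w' ≫ QCAlg.specMap (cι A c j) = v j) : w' = w A c hc T v hv := by
  have h1 : w' ≫ c.pt.π = t A T v := by
    rw [← QCAlg.specMap_π (cι A c (j₀ J)), ← Category.assoc, hw']
    rfl
  refine QCAlg.spec_hom_ext c.pt (t A T v) _ _ h1 (w_π A c hc T v hv) fun U hU => ?_
  rw [w_appLE A c hc T v hv U hU]
  have := isIso_gammaAff c.pt U hU
  rw [← cancel_epi (inv (c.pt.gammaAff U hU)), IsIso.inv_hom_id_assoc]
  refine sec_hom_ext A c hc U hU _ _ fun j => ?_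
  rw [ι_ωApp]
  have := isIso_gammaAff (A.obj j) U hU
  rw [← cancel_epi ((A.obj j).gammaAff U hU), gamma_leg, ← Category.assoc, ← Category.assoc,
    ← QCAlg.specMap_appLE_gammaAff (cι A c j) U hU, Category.assoc, Category.assoc,
    IsIso.hom_inv_id_assoc, Scheme.Hom.appLE_comp_appLE]
  exact appLE_congr' (hw' j) _ _ _

end Aux



/-- Let S be a scheme and (A_j) a filtered direct system of quasi-coherent O_S-algebras, indexed by a
small filtered category, with a colimit cocone with vertex A. Write S_j = Spec(A_j) and S' = Spec(A)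
for the relative spectra, and u_j : S' ⟶ S_j for the morphisms induced by the coprojections A_j ⟶ A.
Then (S', (u_j)) is a limit of the inverse system (S_j) in the category of all schemes (not only of
S-schemes): for every scheme T and every family of morphisms v_j : T ⟶ S_j compatible with the
transition morphisms, there is exactly one morphism w : T ⟶ S' whose composite with each u_j is v_j. -/
theorem result {S : Scheme.{u}} {J : Type u} [SmallCategory J] [IsFiltered J]
    (A : J ⥤ RelSpec.QCAlg S) (c : Cocone A) (hc : IsColimit c)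
    (T : Scheme.{u}) (v : ∀ j : J, T ⟶ (A.obj j).spec)
    (hv : ∀ (j j' : J) (φ : j ⟶ j'), v j' ≫ RelSpec.QCAlg.specMap (A.map φ) = v j) :
    ∃! w : T ⟶ c.pt.spec, ∀ j : J, w ≫ RelSpec.QCAlg.specMap (c.ι.app j) = v j := by
  exact ⟨w A c hc T v hv, w_specMap A c hc T v hv, fun w' hw' => w_unique A c hc T v hv w' hw'⟩

end Groth.Agent.S5876
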