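import Groth.Statements.S5911
import Groth.Agent.Lib.Helper9.IdeallySep

set_option autoImplicit false
universe u
open TensorProduct
open EGA43
open Groth.Agent.Lib.Helper9 Function

namespace Groth.Agent.S5911

/-- Let A be a Noetherian ring, J an ideal of A and M an A-module which is ideally separated for the
J-adic topology (for every ideal a of A the module a ⊗_A M is J-adically separated). Let (p_i) be a
finite family of prime ideals of A containing J, let J_n be the intersection of the symbolic powers
p_i^{(n)} (preimages in A of the n-th powers of the maximal ideals of the local rings A_{p_i}), and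
assume every power J^n contains some J_m. Then M is flat if and only if (A/J) ⊗_A M is flat over A/J
and M_{p_i} is flat over A_{p_i} for every i. -/
theorem result {A : Type u} [CommRing A] [IsNoetherianRing A]
    (J : Ideal A) (M : Type u) [AddCommGroup M] [Module A M]
    (hsep : ∀ a : Ideal A, IsHausdorff J (↥a ⊗[A] M))
    {r : ℕ} (p : Fin r → Ideal A) [∀ i, (p i).IsPrime] (hp : ∀ i, J ≤ p i)
    (htop : ∀ n : ℕ, ∃ m : ℕ,
      ⨅ i, Ideal.comap (algebraMap A (Localization.AtPrime (p i))) (IsLocalRing.maximalIdeal (Localization.AtPrime (p i)) ^ m) ≤ J ^ n) :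
    Module.Flat A M ↔
      Module.Flat (A ⧸ J) ((A ⧸ J) ⊗[A] M) ∧
        ∀ i, Module.Flat (Localization.AtPrime (p i)) (LocalizedModule (p i).primeCompl M) := by
  constructor
  · intro h
    exact ⟨inferInstance, fun i => inferInstance⟩
  · rintro ⟨h1, h2⟩
    have hinj : Injective (J.subtype.rTensor M) := by
      refine rTensor_injective_of_chain J (hsep J)
        (fun m => J ⊓ ⨅ i, Ideal.comap (algebraMap A (Localization.AtPrime (p i)))
          (IsLocalRing.maximalIdeal (Localization.AtPrime (p i)) ^ m))
        (by simp) inf_le_left ?_ ?_ ?_ ?_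
      · intro m
        refine inf_le_inf le_rfl (iInf_mono fun i => Ideal.comap_mono ?_)
        exact Ideal.pow_le_pow_right (Nat.le_succ m)
      · intro m
        rw [Ideal.mul_le]
        intro a ha b hb
        refine ⟨Ideal.mul_mem_right _ _ ha, Ideal.mem_iInf.mpr fun i => ?_⟩
        rw [Ideal.mem_comap, map_mul, pow_succ']
        refine Ideal.mul_mem_mul ?_ ?_
        · rw [IsLocalization.AtPrime.to_map_mem_maximal_iff _ (p i)]
          exact hp i ha
        · have := (Ideal.mem_iInf.mp hb.2) i
          exact this
      · intro m y hy
        obtain ⟨a, hay, ha⟩ := exists_smul_eq_zero_forall_notMem Finset.univ p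
          (fun i _ => inferInstance) y (by
            intro i _
            have := h2 i
            exact exists_smul_eq_zero_of_flat_localizedModule (p i) _ y hy)
        refine ⟨a, hay, ?_⟩
        intro b hb hab
        refine ⟨hb.1, Ideal.mem_iInf.mpr fun i => ?_⟩
        have h3 := (Ideal.mem_iInf.mp hab.2) i
        rw [Ideal.mem_comap, map_mul] at h3
        rw [Ideal.mem_comap]
        have hu : IsUnit (algebraMap A (Localization.AtPrime (p i)) a) :=
          IsLocalization.map_units (M := (p i).primeCompl) _ ⟨a, ha i (Finset.mem_univ i)⟩
        exact (Ideal.unit_mul_mem_iff_mem _ hu).mp h3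
      · intro n
        obtain ⟨m, hm⟩ := htop n
        exact ⟨m, inf_le_right.trans hm⟩
    exact flat_of_rTensor_injective_of_isHausdorff J hsep hinj

end Groth.Agent.S5911
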