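import Groth.Statements.S5912
import Groth.Agent.Lib.Helper9.IdeallySep
import Groth.Agent.Lib.Helper9.QuotTensor

set_option autoImplicit false
universe u
open TensorProduct
open EGA43
open Groth.Agent.Lib.Helper9 Groth.Agent.Lib.Helper9.QuotTensor Function

namespace Groth.Agent.S5912

/-- Let A be a Noetherian ring, J an ideal of A and M an A-module which is ideally separated for the
J-adic topology (for every ideal a of A the module a ⊗_A M is J-adically separated), and suppose
every quotient J^k/J^{k+1} is a flat (A/J)-module (the associated graded ring of A along J is flat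
over A/J). Then M is flat if and only if (A/J) ⊗_A M is flat over A/J and M_p is flat over A_p for
every associated prime p of the A-module A/J. -/
theorem result {A : Type u} [CommRing A] [IsNoetherianRing A]
    (J : Ideal A) (M : Type u) [AddCommGroup M] [Module A M]
    (hsep : ∀ a : Ideal A, IsHausdorff J (↥a ⊗[A] M))
    (hgr : ∀ k : ℕ, Module.Flat (A ⧸ J) ((A ⧸ J) ⊗[A] ↥(J ^ k))) :
    Module.Flat A M ↔
      Module.Flat (A ⧸ J) ((A ⧸ J) ⊗[A] M) ∧
        ∀ q : associatedPrimes A (A ⧸ J),
          haveI : q.1.IsPrime := IsAssociatedPrime.isPrime q.2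
          Module.Flat (Localization.AtPrime q.1) (LocalizedModule q.1.primeCompl M) := by
  constructor
  · intro h
    refine ⟨inferInstance, fun q => ?_⟩
    have : q.1.IsPrime := IsAssociatedPrime.isPrime q.2
    infer_instance
  · rintro ⟨h1, h2⟩
    have hinj : Injective (J.subtype.rTensor M) := by
      refine rTensor_injective_of_chain J (hsep J) (fun m => J ^ (m + 1)) (by simp) (by simp)
        ?_ ?_ ?_ ?_
      · intro m
        exact Ideal.pow_le_pow_right (by omega)
      · intro m
        rw [← pow_succ']
      · intro m y hy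
        have hfin := associatedPrimes.finite A (A ⧸ J)
        obtain ⟨a, hay, ha⟩ := exists_smul_eq_zero_forall_notMem hfin.toFinset id
          (fun q hq => IsAssociatedPrime.isPrime (hfin.mem_toFinset.mp hq)) y (by
            intro q hq
            have hq' := hfin.mem_toFinset.mp hq
            have : q.IsPrime := IsAssociatedPrime.isPrime hq'
            have := h2 ⟨q, hq'⟩
            exact exists_smul_eq_zero_of_flat_localizedModule q (J ^ (m + 1)) y hy)
        refine ⟨a, hay, ?_⟩
        -- `a` is a nonzerodivisor on `A ⧸ J`
        have hreg : ∀ z : A ⧸ J, a • z = 0 → z = 0 := by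
          intro z hz
          by_contra hne
          have hmem : a ∈ ⋃ p ∈ associatedPrimes A (A ⧸ J), (p : Set A) := by
            rw [biUnion_associatedPrimes_eq_zero_divisors]
            exact ⟨z, hne, hz⟩
          obtain ⟨q, hq, haq⟩ := Set.mem_iUnion₂.mp hmem
          exact ha q (hfin.mem_toFinset.mpr hq) haq
        have hnzd : Ideal.Quotient.mk J a ∈ nonZeroDivisors (A ⧸ J) := by
          rw [mem_nonZeroDivisors_iff_right]
          intro z hz
          apply hreg
          rw [Algebra.smul_def, mul_comm]
          exact hz
        have := hgr (m + 1)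
        have hsm := Module.Flat.isSMulRegular_of_nonZeroDivisors
          (M := (A ⧸ J) ⊗[A] ↥(J ^ (m + 1))) hnzd
        intro b hb hab
        have h3 : (⟨b, hb⟩ : ↥(J ^ (m + 1))) ∈ J • (⊤ : Submodule A ↥(J ^ (m + 1))) := by
          rw [← one_tmul_eq_zero_iff]
          apply hsm
          change Ideal.Quotient.mk J a • ((1 : A ⧸ J) ⊗ₜ[A] (⟨b, hb⟩ : ↥(J ^ (m + 1)))) =
            Ideal.Quotient.mk J a • 0
          rw [smul_zero]
          rw [TensorProduct.smul_tmul', smul_eq_mul, mul_one]
          have : (Ideal.Quotient.mk J a) ⊗ₜ[A] (⟨b, hb⟩ : ↥(J ^ (m + 1))) =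
              (1 : A ⧸ J) ⊗ₜ[A] (a • (⟨b, hb⟩ : ↥(J ^ (m + 1)))) := by
            rw [TensorProduct.tmul_smul, TensorProduct.smul_tmul', Algebra.smul_def, mul_one]
            rfl
          rw [this, one_tmul_eq_zero_iff, Submodule.mem_smul_top_iff]
          change a * b ∈ J • J ^ (m + 1)
          rw [smul_eq_mul, ← pow_succ']
          exact hab
        rw [Submodule.mem_smul_top_iff] at h3
        change b ∈ J • J ^ (m + 1) at h3
        rw [smul_eq_mul, ← pow_succ'] at h3
        exact h3
      · intro n
        exact ⟨n, Ideal.pow_le_pow_right (Nat.le_succ n)⟩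
    exact flat_of_rTensor_injective_of_isHausdorff J hsep hinj

end Groth.Agent.S5912
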