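import Groth.Statements.S5913
import Mathlib
import Groth.Agent.S3432
-- import your own Groth.Agent.* helpers here

set_option autoImplicit false
universe u
open CategoryTheory AlgebraicGeometry
open EGA43

namespace Groth.Agent.S5913

section helpers

/-- a locally closed subspace of a Jacobson space is Jacobson. -/
theorem jacobsonSpace_of_isEmbedding {T X : Type*} [TopologicalSpace T] [TopologicalSpace X]
    [JacobsonSpace X] {f : T → X} (hf : Topology.IsEmbedding f)
    (hr : IsLocallyClosed (Set.range f)) : JacobsonSpace T := by
  rw [jacobsonSpace_iff_locallyClosed]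
  intro Z hZ hZ'
  obtain ⟨_, ⟨z, hz, rfl⟩, hx'⟩ := nonempty_inter_closedPoints (hZ.image f)
    (hZ'.image hf.isInducing hr)
  refine ⟨z, hz, ?_⟩
  have h1 : ({z} : Set T) = f ⁻¹' {f z} := by
    ext w
    simp [hf.injective.eq_iff]
  rw [mem_closedPoints_iff, h1]
  exact (mem_closedPoints_iff.mp hx').preimage hf.continuous

end helpers

/-- In the locally Noetherian form: a locally Noetherian scheme X is Jacobson if and only if it has no
subscheme isomorphic to the spectrum of a semi-local integral domain of dimension 1, i.e. there is
no immersion Spec R ⟶ X with R an integral domain having finitely many maximal ideals and Krull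
dimension 1. -/
theorem result (X : Scheme.{u}) [IsLocallyNoetherian X] :
    JacobsonSpace X ↔
      ∀ (R : CommRingCat.{u}) [IsDomain R] (i : Spec R ⟶ X) [IsImmersion i],
        ¬ (Finite (MaximalSpectrum R) ∧ ringKrullDim R = 1) := by
  constructor
  · intro hX R hR i hi ⟨hfin, hdim⟩
    haveI : JacobsonSpace (Spec R) :=
      jacobsonSpace_of_isEmbedding i.isEmbedding i.isLocallyClosed_range
    haveI : IsJacobsonRing R := (PrimeSpectrum.isJacobsonRing_iff_jacobsonSpace).mpr
      (inferInstanceAs (JacobsonSpace (Spec R)))
    have hmax : (⊥ : Ideal R).IsMaximal := Groth.Agent.S3431.isMaximal_bot_of_semilocal_jacobson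
    have hfield : IsField R := Ring.isField_iff_maximal_bot.mpr hmax
    rw [ringKrullDim_eq_zero_of_isField hfield] at hdim
    exact absurd hdim (by norm_num)
  · intro h
    have hcover : TopologicalSpace.IsOpenCover (fun W : X.affineOpens => (W : X.Opens)) :=
      iSup_affineOpens_eq_top X
    rw [hcover.jacobsonSpace_iff]
    intro W
    haveI : IsNoetherianRing Γ(X, W.1) := IsLocallyNoetherian.component_noetherian W
    haveI : IsJacobsonRing Γ(X, W.1) := by
      rw [Groth.Agent.S3431.result]
      intro p hp hbad
      haveI : IsDomain (CommRingCat.of (Γ(X, W.1) ⧸ p)) :=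
        inferInstanceAs (IsDomain (Γ(X, W.1) ⧸ p))
      exact h (CommRingCat.of (Γ(X, W.1) ⧸ p))
        (Spec.map (CommRingCat.ofHom (Ideal.Quotient.mk p)) ≫ W.2.fromSpec) hbad
    exact Groth.Agent.S3432.jacobsonSpace_of_affine X W.1 W.2

end Groth.Agent.S5913
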