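import Groth.Statements.S5915
import Mathlib
import Groth.Agent.Lib.Helper18.FFD3
import Groth.Agent.Lib.Helper10.FibreProductStalk
import Groth.Agent.Lib.Helper29.RegDim1

set_option autoImplicit false
universe u
open CategoryTheory AlgebraicGeometry
open EGA43

namespace Groth.Agent.S5915

open CategoryTheory.Limits in
/-- Let Y be locally Noetherian, f : X ⟶ Y locally of finite type, F a coherent O_X-module, x a point of
X and y = f x. Let φ : O_{Y,y} ⟶ A' be an injective ring homomorphism which is finite (A' finitely
generated as an O_{Y,y}-module), Y' = Spec A' ⟶ Y the induced Y-scheme, X' = X ×_Y Y' and F' the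
pullback of F to X'. Then F is f-flat at x if and only if F' is flat over Y' at every point of X'
lying over x and over a closed point of Y'. (The published statement treats more generally a Zariski
ring A' whose radical pulls back to the maximal ideal and whose map on completions is injective;
this row is the case of a finite algebra with injective structure map, in which those conditions
hold.) -/
theorem result {X Y : Scheme.{u}} [IsLocallyNoetherian Y]
    (f : X ⟶ Y) [LocallyOfFiniteType f] (F : X.Modules) (hF : Coh.IsCoh F) (x : X)
    (A' : CommRingCat.{u}) (φ : Y.presheaf.stalk (f.base x) ⟶ A') (hfin : φ.hom.Finite)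
    (hinj : Function.Injective φ.hom) :
    FlatMod.IsFlatOverAt f F x ↔
      ∀ x' : ↥(pullback f (Spec.map φ ≫ Y.fromSpecStalk (f.base x))), pullback.fst f (Spec.map φ ≫ Y.fromSpecStalk (f.base x)) x' = x →
        IsClosed ({pullback.snd f (Spec.map φ ≫ Y.fromSpecStalk (f.base x)) x'} : Set ↥(Spec A')) →
          FlatMod.IsFlatOverAt (pullback.snd f (Spec.map φ ≫ Y.fromSpecStalk (f.base x))) ((Scheme.Modules.pullback (pullback.fst f (Spec.map φ ≫ Y.fromSpecStalk (f.base x)))).obj F) x' := by
  haveI := hF.1
  haveI : IsLocallyNoetherian X := LocallyOfFiniteType.isLocallyNoetherian f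
  haveI := Groth.Agent.Lib.Helper29.QCoh.isFinitePresentation_of_isCoh F hF
  have H := IsPullback.of_hasPullback f (Spec.map φ ≫ Y.fromSpecStalk (f.base x))
  constructor
  · intro h x' hx' _
    refine Groth.Agent.Lib.Helper10.FibreProductStalk.isFlatOverAt_baseChange x' F H ?_
    rw [show (pullback.fst f (Spec.map φ ≫ Y.fromSpecStalk (f.base x))).base x' = x from hx']
    exact h
  · intro h
    refine Groth.Agent.Lib.Helper18.FFD.isFlatOverAt_of_forall_over f F x A' φ hfin hinj H ?_
    intro x' hx'
    refine h x' hx' ?_
    refine Groth.Agent.Lib.Helper18.FFD.isClosed_singleton_of_map_eq (f x) φ hfin.to_isIntegral _ ?_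
    have hc := pullback.condition (f := f) (g := Spec.map φ ≫ Y.fromSpecStalk (f.base x))
    have h1 := congrArg (fun k => k.base x') hc
    simp only [Scheme.Hom.comp_base, TopCat.hom_comp, ContinuousMap.comp_apply] at h1
    rw [show (pullback.fst f (Spec.map φ ≫ Y.fromSpecStalk (f.base x))).base x' = x from hx'] at h1
    exact h1.symm

end Groth.Agent.S5915
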