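import Groth.Statements.S5917
import Groth.Agent.Lib.Helper2.QHomeo.Fwd
import Groth.Agent.Lib.Helper2.QHomeo.BwdSet
import Groth.Agent.Lib.Helper2.QHomeo.BwdAb

set_option autoImplicit false
universe u
open CategoryTheory
open EGA43

open Groth.Agent.Lib.Helper2.QHomeo

namespace Groth.Agent.S5917

/-- (a) ⇔ (c): for a continuous map f : X₀ ⟶ X of topological spaces the following are equivalent: U ↦
f⁻¹(U) is a bijection from the open subsets of X onto those of X₀ (that is, f is a
quasi-homeomorphism); the inverse image functor f^* from sheaves of sets on X to sheaves of sets on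
X₀ is an equivalence of categories; the inverse image functor f^* from sheaves of abelian groups on
X to sheaves of abelian groups on X₀ is an equivalence of categories. (Sheaves are taken with values
in sets, resp. abelian groups, of the universe of the two spaces.) -/
theorem result (X₀ X : TopCat.{u}) (f : X₀ ⟶ X) :
    [Function.Bijective (fun U : TopologicalSpace.Opens X => (TopologicalSpace.Opens.map f).obj U),
      (TopCat.Sheaf.pullback (Type u) f).IsEquivalence,
      (TopCat.Sheaf.pullback AddCommGrpCat.{u} f).IsEquivalence].TFAE := by
  tfae_have 1 → 2 := by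
    intro h
    have := isEquivalence_pushforward (f := f) (Type u) h
    exact (TopCat.Sheaf.pullbackPushforwardAdjunction (Type u) f).isEquivalence_left_of_isEquivalence_right
  tfae_have 1 → 3 := by
    intro h
    have := isEquivalence_pushforward (f := f) AddCommGrpCat.{u} h
    exact (TopCat.Sheaf.pullbackPushforwardAdjunction AddCommGrpCat.{u} f).isEquivalence_left_of_isEquivalence_right
  tfae_have 2 → 1 := by
    intro h
    have : (TopCat.Sheaf.pushforward (Type u) f).IsEquivalence :=
      (TopCat.Sheaf.pullbackPushforwardAdjunction (Type u) f).isEquivalence_right_of_isEquivalence_left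
    exact ⟨set_injective f, fun W₀ => set_exists_preimage f W₀⟩
  tfae_have 3 → 1 := by
    intro h
    have : (TopCat.Sheaf.pushforward AddCommGrpCat.{u} f).IsEquivalence :=
      (TopCat.Sheaf.pullbackPushforwardAdjunction AddCommGrpCat.{u} f).isEquivalence_right_of_isEquivalence_left
    exact ⟨ab_injective f, fun W₀ => ab_exists_preimage f W₀⟩
  tfae_finish

end Groth.Agent.S5917
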