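import Groth.Statements.S5934
import Groth.Agent.Lib.Helper25.FiberSmoothScheme2

set_option autoImplicit false
open CategoryTheory AlgebraicGeometry
universe u
open EGA43

namespace Groth.Agent.S5934

/-- Let f : X ⟶ Y be a proper, flat morphism of finite presentation. The set of points y of Y whose
fibre X_y is geometrically regular, i.e. smooth over the residue field κ(y), is open in Y. -/
theorem result {X Y : Scheme.{u}} (f : X ⟶ Y) [IsProper f] [Flat f]
    [LocallyOfFinitePresentation f] :
    IsOpen {y : Y | Smooth (f.fiberToSpecResidueField y)} := by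
  have hclosed : IsClosed (f.base '' ((f.smoothLocus : Set X)ᶜ)) :=
    f.isClosedMap _ f.smoothLocus.2.isClosed_compl
  have heq : {y : Y | Smooth (f.fiberToSpecResidueField y)} =
      (f.base '' ((f.smoothLocus : Set X)ᶜ))ᶜ := by
    ext y
    simp only [Set.mem_ofPred_eq, Set.mem_compl_iff, Set.mem_image, not_exists, not_and]
    have H : IsPullback (f.fiberι y) (f.fiberToSpecResidueField y) f
        (Y.fromSpecResidueField y) := IsPullback.of_hasPullback f _
    haveI : LocallyOfFinitePresentation (f.fiberToSpecResidueField y) :=
      MorphismProperty.pullback_snd (P := @LocallyOfFinitePresentation) _ _ inferInstance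
    constructor
    · intro hsm x hx hxy
      apply hx
      have hxr : x ∈ Set.range (f.fiberι y) := by
        rw [f.range_fiberι]
        exact hxy
      obtain ⟨z, rfl⟩ := hxr
      refine Groth.Agent.Lib.Helper25.FiberSmoothScheme.mem_smoothLocus_of_flat_of_fiber f y z
        (Flat.stalkMap f _) ?_
      rw [(f.fiberToSpecResidueField y).smoothLocus_eq_top]
      trivial
    · intro h
      rw [← Scheme.Hom.smoothLocus_eq_top_iff]
      refine top_le_iff.mp fun z _ => ?_
      refine Groth.Agent.Lib.Helper25.FiberSmoothScheme.preimage_smoothLocus_le_of_isPullback H ?_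
      show f.fiberι y z ∈ f.smoothLocus
      by_contra hcon
      refine h (f.fiberι y z) hcon ?_
      have : f.fiberι y z ∈ Set.range (f.fiberι y) := ⟨z, rfl⟩
      rw [f.range_fiberι] at this
      exact this
  rw [heq]
  exact hclosed.isOpen_compl


end Groth.Agent.S5934
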