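import Groth.Statements.S5937
import Mathlib
import Groth.Agent.Helper19.OmegaD5
-- import your own Groth.Agent.* helpers here

set_option autoImplicit false
universe u
open CategoryTheory CategoryTheory.Limits AlgebraicGeometry
open Unram17

namespace Groth.Agent.S5937

section helpers

open Groth.Agent.Lib.Helper29.QCoh Groth.Agent.Helper19.OmegaD Groth.Agent.Helper19.OmegaLocal
open Groth.Agent.S5005

theorem subsingleton_sections_iff {X Y : Scheme.{u}} (f : X ⟶ Y)
    (Ω' : X.Modules) (d : OmegaSh.Der f Ω') (hd : OmegaSh.IsUniversal d)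
    {U : X.Opens} (hU : IsAffineOpen U) {V : Y.Opens} (hV : IsAffineOpen V) (h : U ≤ f ⁻¹ᵁ V) :
    Subsingleton Γ(Ω', U) ↔ (f.appLE V U h).hom.FormallyUnramified := by
  letI := algΓ f h
  obtain ⟨E, -, -⟩ := exists_addEquiv_sections_of_universal f d hd hU hV h
  constructor
  · intro hs
    have : Subsingleton Ω[Γ(X, U)⁄Γ(Y, V)] := E.symm.injective.subsingleton
    exact (⟨this⟩ : Algebra.FormallyUnramified Γ(Y, V) Γ(X, U))
  · intro hf
    have hf' : Algebra.FormallyUnramified Γ(Y, V) Γ(X, U) := hf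
    have : Subsingleton Ω[Γ(X, U)⁄Γ(Y, V)] := hf'.subsingleton_kaehlerDifferential
    exact E.injective.subsingleton

end helpers

/-- Take a morphism of schemes f : X ⟶ Y and an O_X-module Ω' equipped with a universal Y-derivation d :
O_X → Ω' (so that Ω' is a sheaf of differentials of X over Y). Then f is formally unramified if and
only if Ω' is a zero object of the category of O_X-modules. -/
theorem result {X Y : Scheme.{u}} (f : X ⟶ Y)
    (Ω' : X.Modules) (d : OmegaSh.Der f Ω') (hd : OmegaSh.IsUniversal d) :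
    FormallyUnramified f ↔ IsZero Ω' := by
  constructor
  · intro hf
    rw [IsZero.iff_id_eq_zero]
    apply Groth.Agent.Helper19.OmegaD.hom_ext_of_basis (Groth.Agent.S5005.goodOpens f)
      (Groth.Agent.S5005.isBasis_goodOpens f)
    rintro U ⟨hU, V, hV, h⟩ m
    have : Subsingleton Γ(Ω', U) :=
      (subsingleton_sections_iff f Ω' d hd hU hV h).mpr (hf.formallyUnramified_appLE hV hU h)
    exact Subsingleton.elim _ _
  · intro hz
    refine ⟨fun {V} hV {U} hU h => ?_⟩
    refine (subsingleton_sections_iff f Ω' d hd hU hV h).mp ⟨fun a b => ?_⟩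
    have h0 : (𝟙 Ω' : Ω' ⟶ Ω') = 0 := (IsZero.iff_id_eq_zero Ω').mp hz
    have ha : a = (𝟙 Ω' : Ω' ⟶ Ω').app U a := rfl
    have hb : b = (𝟙 Ω' : Ω' ⟶ Ω').app U b := rfl
    rw [ha, hb, h0]
    rfl

end Groth.Agent.S5937
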