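import Groth.Statements.S5939
-- import your own Groth.Agent.* helpers here

set_option autoImplicit false
universe u
open CategoryTheory AlgebraicGeometry
open Unram17

namespace Groth.Agent.S5939

/-- Let f : X ⟶ Y be faithfully flat, locally of finite presentation and quasi-compact, and let g : Y ⟶
Z be a morphism such that f ≫ g is of finite presentation (locally of finite presentation,
quasi-compact and quasi-separated). Then g is quasi-compact and quasi-separated; together with the
descent of local finite presentation along f this says that g is of finite presentation. This is the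
case f quasi-compact. -/
theorem result {X Y Z : Scheme.{u}} (f : X ⟶ Y) (g : Y ⟶ Z)
    [Surjective f] [Flat f] [LocallyOfFinitePresentation f] [QuasiCompact f]
    [LocallyOfFinitePresentation (f ≫ g)] [QuasiCompact (f ≫ g)] [QuasiSeparated (f ≫ g)] :
    QuasiCompact g ∧ QuasiSeparated g := by
  have hsurj : Function.Surjective f := f.surjective
  refine ⟨⟨fun U hU hU' => ?_⟩, ?_⟩
  · have h1 : IsCompact ((f ≫ g) ⁻¹' U) :=
      QuasiCompact.isCompact_preimage (f := f ≫ g) U hU hU'
    have h2 : g ⁻¹' U = f '' ((f ≫ g) ⁻¹' U) := by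
      simp only [Scheme.Hom.comp_base, TopCat.coe_comp, Set.preimage_comp]
      rw [Set.image_preimage_eq _ hsurj]
    rw [h2]
    exact h1.image f.continuous
  · apply HasAffineProperty.of_iSup_eq_top (P := @QuasiSeparated) (fun U : Z.affineOpens => U)
      (iSup_affineOpens_eq_top Z)
    intro W
    change QuasiSeparatedSpace ↥(g ⁻¹ᵁ (W : Z.Opens))
    refine (isQuasiSeparated_iff_quasiSeparatedSpace _ (g ⁻¹ᵁ (W : Z.Opens)).2).mp ?_
    have hW : IsQuasiSeparated (((f ≫ g) ⁻¹ᵁ (W : Z.Opens) : X.Opens) : Set X) :=
      (f ≫ g).isQuasiSeparated_preimage W.2.isQuasiSeparated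
    intro U₁ U₂ hU₁ hU₁o hU₁c hU₂ hU₂o hU₂c
    have h1 : IsCompact (f ⁻¹' U₁ ∩ f ⁻¹' U₂) := by
      apply hW
      · intro x hx
        exact hU₁ hx
      · exact hU₁o.preimage f.continuous
      · exact QuasiCompact.isCompact_preimage (f := f) U₁ hU₁o hU₁c
      · intro x hx
        exact hU₂ hx
      · exact hU₂o.preimage f.continuous
      · exact QuasiCompact.isCompact_preimage (f := f) U₂ hU₂o hU₂c
    have h2 : U₁ ∩ U₂ = f '' (f ⁻¹' U₁ ∩ f ⁻¹' U₂) := by
      rw [← Set.preimage_inter, Set.image_preimage_eq _ hsurj]
    rw [h2]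
    exact h1.image f.continuous

end Groth.Agent.S5939
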