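import Groth.Statements.S5947
import Groth.Agent.Lib.Helper2.PrinPart.DerExt

set_option autoImplicit false
universe u
open CategoryTheory AlgebraicGeometry TopologicalSpace
open Nrm16

namespace Groth.Agent.S5947

/-- Let A be a commutative ring, B an A-algebra and L a B-module; put S = Spec A, X = Spec B and let F
be the O_X-module associated with L. For an S-derivation D of O_X into F write Γ(D) : B → L for its
effect on global sections (global sections of O_X and of F being identified with B and L by the
canonical isomorphisms). Then D ↦ Γ(D) is a bijection from the set of S-derivations of O_X into F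
onto the set of A-derivations of B into L: every Γ(D) is an A-derivation, and every A-derivation of
B into L is Γ(D) for exactly one D. (The published statement asserts an isomorphism of B-modules; no
module structure is placed on sheaf derivations here, so this row states the bijection.) -/
theorem result (A B : Type u) [CommRing A] [CommRing B] [Algebra A B]
    (L : Type u) [AddCommGroup L] [Module B L] [Module A L] [IsScalarTower A B L] :
    (∀ D : OmegaSh.Der (Spec.map (CommRingCat.ofHom (algebraMap A B))) (tilde (ModuleCat.of (CommRingCat.of B) L)),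
      ∃ δ : Derivation A B L, ∀ t : B, D.app ⊤ ((Scheme.ΓSpecIso (CommRingCat.of B)).inv t) =
        (tilde.isoTop (ModuleCat.of (CommRingCat.of B) L)).hom (δ t)) ∧
    ∀ δ : Derivation A B L,
      ∃! D : OmegaSh.Der (Spec.map (CommRingCat.ofHom (algebraMap A B))) (tilde (ModuleCat.of (CommRingCat.of B) L)),
        ∀ t : B, D.app ⊤ ((Scheme.ΓSpecIso (CommRingCat.of B)).inv t) =
          (tilde.isoTop (ModuleCat.of (CommRingCat.of B) L)).hom (δ t) := by
  -- compatibility of `isoTop` with the two scalar actions
  have hβ : ∀ b : B, ((Spec (CommRingCat.of B)).presheaf.map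
      (⊤ : (Spec (CommRingCat.of B)).Opens).leTop.op).hom
        ((Scheme.ΓSpecIso (CommRingCat.of B)).inv.hom b) =
      (Scheme.ΓSpecIso (CommRingCat.of B)).inv.hom b := by
    intro b
    have h0 : (⊤ : (Spec (CommRingCat.of B)).Opens).leTop = 𝟙 _ := Subsingleton.elim _ _
    rw [h0, op_id, CategoryTheory.Functor.map_id]
    rfl
  let Eh : L →+ Γ(tilde (ModuleCat.of (CommRingCat.of B) L), ⊤) :=
    { toFun := fun x => (tilde.isoTop (ModuleCat.of (CommRingCat.of B) L)).hom x
      map_zero' := map_zero _
      map_add' := fun x y => map_add _ x y }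
  have hEh : ∀ x : L, Eh x = (tilde.isoTop (ModuleCat.of (CommRingCat.of B) L)).hom x :=
    fun x => rfl
  have hE_smul : ∀ (b : B) (x : L),
      Eh (b • x) = (Scheme.ΓSpecIso (CommRingCat.of B)).inv.hom b • Eh x := by
    intro b x
    have h1 := (tilde.isoTop (ModuleCat.of (CommRingCat.of B) L)).hom.hom.map_smul b x
    refine h1.trans ?_
    have h2 := Scheme.Modules.smul_Spec_def (R := CommRingCat.of B)
      (M := tilde (ModuleCat.of (CommRingCat.of B) L)) (U := ⊤) b (Eh x)
    refine h2.trans ?_
    rw [hβ]
  have hE_inj : Function.Injective Eh :=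
    (ConcreteCategory.bijective_of_isIso
      (tilde.isoTop (ModuleCat.of (CommRingCat.of B) L)).hom).1
  have hE_surj : Function.Surjective Eh :=
    (ConcreteCategory.bijective_of_isIso
      (tilde.isoTop (ModuleCat.of (CommRingCat.of B) L)).hom).2
  have hβsurj : Function.Surjective (Scheme.ΓSpecIso (CommRingCat.of B)).inv.hom :=
    (ConcreteCategory.bijective_of_isIso (Scheme.ΓSpecIso (CommRingCat.of B)).inv).2
  have hnat : ∀ a : A, (Scheme.ΓSpecIso (CommRingCat.of B)).inv.hom (algebraMap A B a) =
      (Spec.map (CommRingCat.ofHom (algebraMap A B))).appTop.hom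
        ((Scheme.ΓSpecIso (CommRingCat.of A)).inv.hom a) := fun a =>
    congrArg (fun φ => φ.hom a)
      (Scheme.ΓSpecIso_inv_naturality (CommRingCat.ofHom (algebraMap A B)))
  refine ⟨fun D => ?_, fun δ => ?_⟩
  · choose δ₀ hδ₀ using fun t : B =>
      hE_surj (D.app ⊤ ((Scheme.ΓSpecIso (CommRingCat.of B)).inv.hom t))
    have hadd : ∀ s t : B, δ₀ (s + t) = δ₀ s + δ₀ t := by
      intro s t
      apply hE_inj
      rw [map_add, hδ₀, hδ₀, hδ₀, map_add, map_add]
    have hmul : ∀ s t : B, δ₀ (s * t) = s • δ₀ t + t • δ₀ s := by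
      intro s t
      apply hE_inj
      rw [map_add, hE_smul, hE_smul, hδ₀, hδ₀, hδ₀, map_mul]
      exact Groth.Agent.Lib.Helper2.PrinPartB.der_mul _ _ D _ _
    have hzero : ∀ a : A, δ₀ (algebraMap A B a) = 0 := by
      intro a
      apply hE_inj
      rw [hδ₀, map_zero, hnat]
      exact D.d_app (X := Opposite.op ⊤) ((Scheme.ΓSpecIso (CommRingCat.of A)).inv.hom a)
    let δl : B →ₗ[A] L :=
      { toFun := δ₀
        map_add' := hadd
        map_smul' := fun a t => by
          rw [Algebra.smul_def, hmul, hzero, smul_zero, add_zero, algebraMap_smul]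
          rfl }
    refine ⟨Derivation.mk' δl hmul, fun t => ?_⟩
    exact (hδ₀ t).symm
  · -- existence
    let l₀ : TensorProduct A B B →+ Γ(tilde (ModuleCat.of (CommRingCat.of B) L), ⊤) :=
      Eh.comp δ.tensorProductTo.toAddMonoidHom
    have hl₀ : ∀ w, l₀ w = Eh (δ.tensorProductTo w) := fun w => rfl
    have hlin : ∀ (b : B) (w : TensorProduct A B B),
        l₀ ((TensorProduct.tmul A b (1 : B)) * w) =
          (Scheme.ΓSpecIso (CommRingCat.of B)).inv.hom b • l₀ w := by
      intro b w
      have h1 : (TensorProduct.tmul A b (1 : B)) * w = b • w := by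
        rw [Algebra.smul_def]
        rfl
      rw [hl₀, hl₀, h1, map_smul, hE_smul]
    have hker : ∀ w ∈ KaehlerDifferential.ideal A B ^ (1 + 1), l₀ w = 0 := by
      intro w hw
      rw [hl₀, Groth.Agent.Lib.Helper2.PrinPartB.tensorProductTo_eq_zero_of_mem_sq A B δ w hw,
        map_zero]
    obtain ⟨u, hu⟩ := Groth.Agent.Lib.Helper2.PrinPartB.exists_hom_P_of_addHom A B 1
      (tilde (ModuleCat.of (CommRingCat.of B) L)) l₀ hlin hker
    have h1 : u.app ⊤ (PrinPart.dn (Groth.Agent.Lib.Helper2.PrinPartB.specF A B) 1 ⊤ 1) = 0 := by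
      rw [hu 1 _ (by rw [Groth.Agent.Lib.Helper2.PrinPartB.secE_dn_one, map_one]), hl₀,
        Algebra.TensorProduct.one_def, Derivation.tensorProductTo_tmul,
        Derivation.map_one_eq_zero, smul_zero, map_zero]
    have hval : ∀ t : B,
        (Groth.Agent.Lib.Helper2.PrinPartB.derOfHom
          (Groth.Agent.Lib.Helper2.PrinPartB.specF A B) _ u h1).app ⊤
            ((Scheme.ΓSpecIso (CommRingCat.of B)).inv.hom t) = Eh (δ t) := by
      intro t
      rw [Groth.Agent.Lib.Helper2.PrinPartB.derOfHom_app,
        hu (TensorProduct.tmul A (1 : B) t) _ (by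
          rw [Groth.Agent.Lib.Helper2.PrinPartB.secE_dn,
            Groth.Agent.Lib.Helper2.PrinPartB.thetaHom_right]),
        hl₀, Derivation.tensorProductTo_tmul, one_smul]
    refine ⟨Groth.Agent.Lib.Helper2.PrinPartB.derOfHom
      (Groth.Agent.Lib.Helper2.PrinPartB.specF A B) _ u h1, hval, ?_⟩
    intro D' hD'
    apply Groth.Agent.Lib.Helper2.PrinPartB.der_ext_of_top
    intro a
    obtain ⟨t, rfl⟩ := hβsurj a
    exact (hD' t).trans (hval t).symm

end Groth.Agent.S5947
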