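import Groth.Statements.S5954
import Mathlib
import Groth.Agent.Helper19.PnBC4
import Groth.Agent.Lib.Helper29.IsoCover
-- import your own Groth.Agent.* helpers here

set_option autoImplicit false
universe u
open CategoryTheory CategoryTheory.Limits AlgebraicGeometry TopologicalSpace Opposite
open Nrm16

namespace Groth.Agent.S5954

open Groth.Agent.Helper19.PnBC Groth.Agent.Lib.Helper29.QCoh Groth.Agent.Lib.Helper2.PrinPartB in

/-- Let f : X ⟶ S and g : S' ⟶ S be morphisms and X' a fibre product of X and S' over S with projections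
u : X' ⟶ X and f' : X' ⟶ S'. For every n let φ : u^* P^n_{X/S} ⟶ P^n_{X'/S'} be the canonical
O_{X'}-linear map of sheaves of principal parts of order n, the one sending the pullback of d^n b to
d^n (u♯ b) for every local function b on X. Then φ is an isomorphism. (The published statement also
asserts that the canonical map u^*Ω_{X/S} ⟶ Ω_{X'/S'} of sheaves of differentials compatible with
the universal derivations is bijective; this row states only the assertion on sheaves of principal
parts.) -/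
theorem result {X S X' S' : Scheme.{u}} (f : X ⟶ S) (g : S' ⟶ S)
    (u : X' ⟶ X) (f' : X' ⟶ S') (hsq : IsPullback u f' f g) (n : ℕ)
    (φ : (Scheme.Modules.pullback u).obj (PrinPart.P f n) ⟶ PrinPart.P f' n)
    (hφ : PrinPart.IsPMap f f' u n φ) :
    IsIso φ := by
  haveI : (Coh.structureModule X).IsQuasicoherent := inferInstanceAs (unitM X).IsQuasicoherent
  haveI : (Coh.structureModule X').IsQuasicoherent := inferInstanceAs (unitM X').IsQuasicoherent
  haveI : (PrinPart.P f n).IsQuasicoherent := isQuasicoherent_PMod f n _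
  haveI : (PrinPart.P f' n).IsQuasicoherent := isQuasicoherent_PMod f' n _
  have hch : ∀ x' : X', ∃ (U : X.Opens) (V : S.Opens) (V' : S'.Opens),
      IsAffineOpen U ∧ IsAffineOpen V ∧ IsAffineOpen V' ∧ U ≤ f ⁻¹ᵁ V ∧ V' ≤ g ⁻¹ᵁ V ∧
        x' ∈ u ⁻¹ᵁ U ⊓ f' ⁻¹ᵁ V' := by
    intro x'
    obtain ⟨V, hV, hxV, -⟩ := Opens.isBasis_iff_nbhd.1 S.isBasis_affineOpens
      (Opens.mem_top (f (u x')))
    have h1 : f' x' ∈ g ⁻¹ᵁ V := by
      change g (f' x') ∈ V
      rw [← Scheme.Hom.comp_apply, ← hsq.w]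
      exact hxV
    obtain ⟨V', hV', hxV', hV'V⟩ := Opens.isBasis_iff_nbhd.1 S'.isBasis_affineOpens h1
    have h2 : u x' ∈ f ⁻¹ᵁ V := hxV
    obtain ⟨U, hU, hxU, hUV⟩ := Opens.isBasis_iff_nbhd.1 X.isBasis_affineOpens h2
    exact ⟨U, V, V', hU, hV, hV', hUV, hV'V, hxU, hxV'⟩
  choose U V V' hU hV hV' hUV hV'V hx using hch
  exact isIso_of_app_bijective_of_affine_cover φ (fun x' => u ⁻¹ᵁ U x' ⊓ f' ⁻¹ᵁ V' x')
    (fun x' => isAffineOpen_chart f g u f' hsq (hU x') (hV x') (hV' x') (hUV x') (hV'V x') rfl)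
    (fun x' => ⟨x', hx x'⟩)
    (fun x' => ⟨phi_app_injective f g u f' hsq n φ hφ (hU x') (hV x') (hV' x') (hUV x')
        (hV'V x') rfl,
      phi_app_surjective f g u f' hsq n φ hφ (hU x') (hV x') (hV' x') (hUV x') (hV'V x') rfl⟩)

end Groth.Agent.S5954
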