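import Groth.Statements.S5961
import Groth.Agent.Lib.Helper2.PrinPart.Rel

set_option autoImplicit false
universe u
open CategoryTheory CategoryTheory.Limits AlgebraicGeometry TopologicalSpace Opposite
open Nrm16

namespace Groth.Agent.S5961

/-- Let f : X ⟶ S be a morphism of schemes, G an O_X-module and D : O_X ⟶ G a differential operator of
order at most 1 relative to S. Then D can be written in exactly one way as v + d with v : O_X ⟶ G an
O_X-linear map and d an S-derivation of O_X into G. -/
theorem result {X S : Scheme.{u}} (f : X ⟶ S) (G : X.Modules)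
    (D : (Coh.structureModule X).presheaf ⟶ G.presheaf)
    (hD : PrinPart.IsDiffOpLE f (Coh.structureModule X) G 1 D) :
    ∃! p : (Coh.structureModule X ⟶ G) × OmegaSh.Der f G,
      ∀ (U : X.Opens) (a : Γ(X, U)),
        D.app (op U) (OmegaSh.strSect X U a) = p.1.app U (OmegaSh.strSect X U a) + p.2.app U a := by
  obtain ⟨u, hu⟩ := hD
  have hDu : ∀ (U : X.Opens) (a : Γ(X, U)),
      D.app (op U) (OmegaSh.strSect X U a) = u.app U (PrinPart.dn f 1 U a) := fun U a => hu U _
  -- the value on `1`
  let g₀ : ∀ U : X.Opens, Γ(G, U) := fun U => D.app (op U) (OmegaSh.strSect X U 1)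
  have hg₀ : ∀ U, g₀ U = u.app U (PrinPart.dn f 1 U 1) := fun U => hDu U 1
  have hDnat : ∀ {W W' : (Opens X)ᵒᵖ} (i : W ⟶ W') (a : Γ(X, W.unop)),
      G.presheaf.map i (D.app W (OmegaSh.strSect X W.unop a)) =
        D.app W' (OmegaSh.strSect X W'.unop (X.presheaf.map i a)) := by
    intro W W' i a
    have := congrArg (fun φ => φ.hom (OmegaSh.strSect X W.unop a)) (D.naturality i)
    exact this.symm
  have hg₀res : ∀ {W W' : (Opens X)ᵒᵖ} (i : W ⟶ W'),
      G.presheaf.map i (g₀ W.unop) = g₀ W'.unop := by
    intro W W' i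
    have h1 := hDnat i 1
    have h2 : (X.presheaf.map i).hom (1 : Γ(X, W.unop)) = 1 := map_one _
    rw [h2] at h1
    exact h1
  let v : Coh.structureModule X ⟶ G :=
    (SheafOfModules.unitHomEquiv G).symm
      (PresheafOfModules.sectionsMk (fun W => g₀ W.unop) (fun W W' i => hg₀res i))
  have hv1 : ∀ U : X.Opens, v.app U (OmegaSh.strSect X U 1) = g₀ U := by
    intro U
    have h1 := SheafOfModules.unitHomEquiv_apply_coe G v (op U)
    rw [Equiv.apply_symm_apply] at h1
    exact h1.symm
  have hstr : ∀ (U : X.Opens) (a : Γ(X, U)),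
      OmegaSh.strSect X U a = a • OmegaSh.strSect X U 1 := by
    intro U a
    rw [← OmegaSh.strSect_mul, mul_one]
  have hv : ∀ (U : X.Opens) (a : Γ(X, U)), v.app U (OmegaSh.strSect X U a) = a • g₀ U := by
    intro U a
    rw [hstr U a, Scheme.Modules.Hom.app_smul, hv1]
  -- the derivation
  have hmul : ∀ (U : X.Opens) (a b : Γ(X, U)),
      D.app (op U) (OmegaSh.strSect X U (a * b)) - (a * b) • g₀ U =
        a • (D.app (op U) (OmegaSh.strSect X U b) - b • g₀ U) +
          b • (D.app (op U) (OmegaSh.strSect X U a) - a • g₀ U) := by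
    intro U a b
    rw [hDu, hDu, hDu, hg₀, Groth.Agent.Lib.Helper2.PrinPartB.dn_mul_rel, map_sub, map_add,
      Scheme.Modules.Hom.app_smul, Scheme.Modules.Hom.app_smul, Scheme.Modules.Hom.app_smul]
    rw [smul_sub, smul_sub, mul_smul, smul_comm b a]
    abel
  have happ : ∀ (V : S.Opens) (c : Γ(S, V)),
      D.app (op (f ⁻¹ᵁ V)) (OmegaSh.strSect X (f ⁻¹ᵁ V) ((f.app V).hom c)) -
        ((f.app V).hom c) • g₀ (f ⁻¹ᵁ V) = 0 := by
    intro V c
    rw [hDu, hg₀, Groth.Agent.Lib.Helper2.PrinPartB.dn_app_rel, Scheme.Modules.Hom.app_smul,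
      sub_self]
  let dU : ∀ U : X.Opens, Γ(X, U) →+ Γ(G, U) := fun U =>
    { toFun := fun a => D.app (op U) (OmegaSh.strSect X U a) - a • g₀ U
      map_zero' := by
        rw [map_zero, map_zero, zero_smul, sub_zero]
      map_add' := fun a b => by
        rw [map_add, map_add, add_smul]
        abel }
  have hdU : ∀ (U : X.Opens) (a : Γ(X, U)),
      dU U a = D.app (op U) (OmegaSh.strSect X U a) - a • g₀ U := fun U a => rfl
  let dd : OmegaSh.Der f G :=
    { d := fun {W} => dU W.unop
      d_mul := fun {W} a b => hmul W.unop a b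
      d_map := fun {W W'} i a => by
        change dU W'.unop (X.presheaf.map i a) = G.presheaf.map i (dU W.unop a)
        rw [hdU, hdU, map_sub, hDnat i a, ← hg₀res i]
        congr 1
        exact (G.map_smul i.unop a (g₀ W.unop)).symm
      d_app := fun {W} c => happ W.unop c }
  have hdd : ∀ (U : X.Opens) (a : Γ(X, U)),
      dd.app U a = D.app (op U) (OmegaSh.strSect X U a) - a • g₀ U := fun U a => rfl
  refine ⟨(v, dd), ?_, ?_⟩
  · intro U a
    change _ = v.app U (OmegaSh.strSect X U a) + dd.app U a
    rw [hv, hdd]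
    abel
  · rintro ⟨v', d'⟩ hp
    have hp' : ∀ (U : X.Opens) (a : Γ(X, U)),
        D.app (op U) (OmegaSh.strSect X U a) =
          v'.app U (OmegaSh.strSect X U a) + d'.app U a := hp
    have hv'1 : ∀ U : X.Opens, v'.app U (OmegaSh.strSect X U 1) = g₀ U := by
      intro U
      have h1 := hp' U 1
      have h2 : d'.app U 1 = 0 := PresheafOfModules.Derivation.d_one d' (op U)
      rw [h2, add_zero] at h1
      exact h1.symm
    have hv' : ∀ (U : X.Opens) (a : Γ(X, U)), v'.app U (OmegaSh.strSect X U a) = a • g₀ U := by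
      intro U a
      rw [hstr U a, Scheme.Modules.Hom.app_smul, hv'1]
    have e1 : v' = v := by
      apply Scheme.Modules.hom_ext
      intro U
      ext a
      exact (hv' U a).trans (hv U a).symm
    have e2 : d' = dd := by
      apply PresheafOfModules.Derivation.ext
      funext W
      ext a
      have h1 := hp' W.unop a
      rw [hv'] at h1
      change d'.app W.unop a = dU W.unop a
      rw [hdU, h1]
      abel
    rw [e1, e2]

end Groth.Agent.S5961
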