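import Groth.Statements.S5962
import Mathlib
import Groth.Agent.Helper19.PnDelta2
import Groth.Agent.Helper19.PnBC3
import Groth.Agent.Helper19.OmegaD3
import Groth.Agent.Lib.Helper2.PrinPart.Gen
-- import your own Groth.Agent.* helpers here

set_option autoImplicit false
universe u
open CategoryTheory CategoryTheory.Limits AlgebraicGeometry TopologicalSpace Opposite
open Nrm16

namespace Groth.Agent.S5962

open Groth.Agent.Helper19.PnBC Groth.Agent.Helper19.PnDelta Groth.Agent.Lib.Helper29.QCoh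
  Groth.Agent.Lib.Helper2.PrinPartB Groth.Agent.Helper19.OmegaD in

/-- Let f : X ⟶ S be a morphism of schemes and n, n' natural numbers. There is exactly one O_X-linear
map δ : P^(n+n')_{X/S} ⟶ P^n'_{X/S}(P^n_{X/S}) for the left O_X-module structures, the target being
the sheaf of principal parts of order n' of the left O_X-module P^n_{X/S}, such that δ(d^(n+n') t) =
d^n'(d^n t) for every local function t on X. -/
theorem result {X S : Scheme.{u}} (f : X ⟶ S) (n n' : ℕ) :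
    ∃! δ : PrinPart.P f (n + n') ⟶ PrinPart.PMod f n' (PrinPart.P f n),
      ∀ (U : X.Opens) (t : Γ(X, U)),
        δ.app U (PrinPart.dn f (n + n') U t) = PrinPart.dP f n' (PrinPart.P f n) U (PrinPart.dn f n U t) := by
  -- the basis of charts
  let 𝔅 : Set X.Opens := {U | IsAffineOpen U ∧ ∃ V : S.Opens, IsAffineOpen V ∧ U ≤ f ⁻¹ᵁ V}
  have h𝔅 : Opens.IsBasis 𝔅 := by
    rw [Opens.isBasis_iff_nbhd]
    intro W x hxW
    obtain ⟨V, hV, hxV, -⟩ := Opens.isBasis_iff_nbhd.1 S.isBasis_affineOpens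
      (Opens.mem_top (f x))
    have h2 : x ∈ f ⁻¹ᵁ V ⊓ W := ⟨hxV, hxW⟩
    obtain ⟨U, hU, hxU, hUV⟩ := Opens.isBasis_iff_nbhd.1 X.isBasis_affineOpens h2
    exact ⟨U, ⟨hU, V, hV, hUV.trans inf_le_left⟩, hxU, hUV.trans inf_le_right⟩
  have hex : ∀ U : 𝔅, ∃ φ : Γ(PrinPart.P f (n + n'), U.1) →+
      Γ(PrinPart.PMod f n' (PrinPart.P f n), U.1),
      (∀ (b : Γ(X, U.1)) (m : Γ(PrinPart.P f (n + n'), U.1)), φ (b • m) = b • φ m) ∧
      ∀ t : Γ(X, U.1), φ (PrinPart.dn f (n + n') U.1 t) =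
        PrinPart.dP f n' (PrinPart.P f n) U.1 (PrinPart.dn f n U.1 t) := by
    rintro ⟨U, hU, V, hV, hUV⟩
    exact exists_delta_chart f n n' hU hV hUV
  choose φ hφs hφd using hex
  -- generation by `d^n`
  have hgen : ∀ (U : 𝔅) (m : Γ(PrinPart.P f (n + n'), U.1)),
      ∃ Q : Finset (Γ(X, U.1) × Γ(X, U.1)), m = ∑ q ∈ Q, q.1 • PrinPart.dn f (n + n') U.1 q.2 := by
    rintro ⟨U, hU, V, hV, hUV⟩ m
    obtain ⟨w, rfl⟩ := piT_surjective f (n + n') U hU hV hUV m
    obtain ⟨Q, rfl⟩ := exists_sum_box f hU hV hUV w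
    refine ⟨Q, ?_⟩
    rw [map_sum]
    exact Finset.sum_congr rfl fun q _ => piT_i1_i2 f (n + n') U q.1 q.2
  have hres : ∀ (U U' : 𝔅) (h : U'.1 ≤ U.1) (m : Γ(PrinPart.P f (n + n'), U.1)),
      φ U' (res (PrinPart.P f (n + n')) h m) =
        res (PrinPart.PMod f n' (PrinPart.P f n)) h (φ U m) := by
    intro U U' h m
    obtain ⟨Q, rfl⟩ := hgen U m
    rw [map_sum, map_sum, map_sum, map_sum]
    refine Finset.sum_congr rfl fun q _ => ?_
    rw [res_smul, hφs, hφs, res_smul, ← dn_map, hφd, hφd, dn_map]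
    congr 1
    exact PrinPart.dP_map f n' (PrinPart.P f n) h _
  obtain ⟨δ, hδ⟩ := exists_hom_of_basis 𝔅 h𝔅 φ hφs hres
  have hδd : ∀ (U : X.Opens) (t : Γ(X, U)),
      δ.app U (PrinPart.dn f (n + n') U t) =
        PrinPart.dP f n' (PrinPart.P f n) U (PrinPart.dn f n U t) := by
    intro W t
    apply eq_of_res_basis_eq _ 𝔅 h𝔅
    intro U hUB hUW
    rw [← app_res, ← dn_map, hδ ⟨U, hUB⟩, hφd]
    change _ = (PrinPart.PMod f n' (PrinPart.P f n)).presheaf.map (homOfLE hUW).op _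
    rw [← PrinPart.dP_map, dn_map]
  refine ⟨δ, hδd, fun δ' hδ' => ?_⟩
  refine hom_ext_of_dP f (n + n') δ' δ fun U t => ?_
  exact (hδ' U (OmegaSh.fnSect X U t)).trans (hδd U (OmegaSh.fnSect X U t)).symm

end Groth.Agent.S5962
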