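import Groth.Statements.S5965
import Mathlib.AlgebraicGeometry.ZariskisMainTheorem

set_option autoImplicit false
universe u
open CategoryTheory CategoryTheory.Limits AlgebraicGeometry TopologicalSpace Opposite
open Nrm16

namespace Groth.Agent.S5965

/-- Let g : X ⟶ Y be a morphism locally of finite type with a section f : Y ⟶ X which is a closed
immersion. Then for every n the n-th infinitesimal neighbourhood of Y in X, mapped to Y through its
inclusion into X followed by g, is finite over Y. (The published statement allows any section f and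
says that the structure sheaf of the neighbourhood is a quasi-coherent O_Y-algebra which is an
O_Y-module of finite type; this row assumes f a closed immersion and states the conclusion as
finiteness of the morphism to Y.) -/
theorem result {X Y : Scheme.{u}} (g : X ⟶ Y) [LocallyOfFiniteType g] (f : Y ⟶ X)
    [IsClosedImmersion f] (hf : f ≫ g = 𝟙 Y) (n : ℕ) :
    IsFinite (PrinPart.infNbhdι f n ≫ g) := by
  classical
  set ι := PrinPart.infNbhdι f n with hι
  have hιcl : IsClosedImmersion ι := by
    rw [hι, PrinPart.infNbhdι]; infer_instance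
  -- range of ι is the range of f
  have hrange : ∀ z : PrinPart.infNbhd f n, ∃ y : Y, f y = ι z := by
    intro z
    have h1 : ι z ∈ Set.range (f.ker ^ (n + 1)).subschemeι := ⟨z, rfl⟩
    rw [Scheme.IdealSheafData.range_subschemeι, Scheme.IdealSheafData.support_pow_succ,
      Scheme.Hom.support_ker] at h1
    have h2 : closure (Set.range f) = Set.range f := f.isClosedEmbedding.isClosed_range.closure_eq
    have h3 : ι z ∈ Set.range f := by
      have : ι z ∈ closure (Set.range f) := h1
      rwa [h2] at this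
    exact h3
  have hsurj : Surjective (PrinPart.toInfNbhd f n) := by
    refine ⟨fun z => ?_⟩
    obtain ⟨y, hy⟩ := hrange z
    refine ⟨y, ?_⟩
    apply ι.isClosedEmbedding.injective
    rw [← hy, ← Scheme.Hom.comp_apply, hι, PrinPart.toInfNbhd_ι]
  have hsec : PrinPart.toInfNbhd f n ≫ (ι ≫ g) = 𝟙 Y := by
    rw [hι, PrinPart.toInfNbhd_ι_assoc, hf]
  have hgf : ∀ y : Y, g (f y) = y := fun y => by
    rw [← Scheme.Hom.comp_apply, hf]; rfl
  -- affine
  have haff : IsAffineHom (ι ≫ g) := by
    apply isAffineHom_of_forall_exists_isAffineOpen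
    intro y
    obtain ⟨V₀, hV₀, hyV₀⟩ : ∃ V₀ : Y.Opens, IsAffineOpen V₀ ∧ y ∈ V₀ := by
      obtain ⟨_, ⟨V, hV, rfl⟩, hyV, -⟩ := Y.isBasis_affineOpens.exists_subset_of_mem_open
        (Set.mem_univ y) isOpen_univ
      exact ⟨V, hV, hyV⟩
    obtain ⟨U, hU, hfyU, hUV₀⟩ : ∃ U : X.Opens, IsAffineOpen U ∧ f y ∈ U ∧ U ≤ g ⁻¹ᵁ V₀ := by
      have hmem : f y ∈ g ⁻¹ᵁ V₀ := by
        show g (f y) ∈ V₀
        rw [hgf]; exact hyV₀
      obtain ⟨_, ⟨U, hU, rfl⟩, hyU, hUsub⟩ := X.isBasis_affineOpens.exists_subset_of_mem_open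
        hmem (g ⁻¹ᵁ V₀).isOpen
      exact ⟨U, hU, hyU, hUsub⟩
    -- basic open of V₀ inside f⁻¹ U
    obtain ⟨a, haU, hya⟩ := hV₀.exists_basicOpen_le (V := f ⁻¹ᵁ U) ⟨y, hfyU⟩ hyV₀
    have haV₀ : Y.basicOpen a ≤ V₀ := Y.basicOpen_le a
    refine ⟨Y.basicOpen a, hya, hV₀.basicOpen a, ?_⟩
    -- the preimage under ι ≫ g equals ι⁻¹ of a basic open of U
    have hU' : IsAffineOpen (X.basicOpen (g.appLE V₀ U hUV₀ a)) := hU.basicOpen _
    have heq : (ι ≫ g) ⁻¹ᵁ (Y.basicOpen a) = ι ⁻¹ᵁ (X.basicOpen (g.appLE V₀ U hUV₀ a)) := by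
      have hb : X.basicOpen (g.appLE V₀ U hUV₀ a) = U ⊓ g ⁻¹ᵁ (Y.basicOpen a) := by
        rw [Scheme.Hom.appLE, CommRingCat.comp_apply, Scheme.basicOpen_res,
          Scheme.preimage_basicOpen]
      rw [hb]
      ext z
      simp only [Scheme.Hom.comp_base, TopologicalSpace.Opens.map_comp_obj,
        TopologicalSpace.Opens.map_coe, Set.mem_preimage, SetLike.mem_coe,
        TopologicalSpace.Opens.coe_inf, Set.mem_inter_iff]
      constructor
      · intro hz
        refine ⟨?_, hz⟩
        obtain ⟨y', hy'⟩ := hrange z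
        have : g (ι z) = y' := by rw [← hy', hgf]
        have hy'a : y' ∈ Y.basicOpen a := by rw [← this]; exact hz
        rw [← hy']
        exact haU hy'a
      · intro hz
        exact hz.2
    rw [heq]
    exact hU'.preimage ι
  have hcl : UniversallyClosed (ι ≫ g) := by
    have : UniversallyClosed (PrinPart.toInfNbhd f n ≫ (ι ≫ g)) := by
      rw [hsec]; infer_instance
    exact UniversallyClosed.of_comp_surjective (PrinPart.toInfNbhd f n) (ι ≫ g)
  have hlft : LocallyOfFiniteType (ι ≫ g) := inferInstance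
  have hprop : IsProper (ι ≫ g) := { }
  exact IsFinite.iff_isProper_and_isAffineHom.mpr ⟨hprop, haff⟩

end Groth.Agent.S5965
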