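import Groth.Statements.S5969
import Groth.Agent.Lib.Helper1.IdealSheafComap

set_option autoImplicit false
universe u
open CategoryTheory CategoryTheory.Limits AlgebraicGeometry TopologicalSpace Opposite
open Nrm16

namespace Groth.Agent.S5969

/-- Let f : X ⟶ S be a morphism of schemes and n a natural number. On the order-n infinitesimal
thickening of the diagonal of f there is an endomorphism σ which is compatible, under the immersion
into X ×_S X, with the symmetry exchanging the two factors; σ is an involution, it exchanges the two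
projections to X (so it exchanges the two O_X-algebra structures of P^n_{X/S}) and it fixes the
diagonal section. -/
theorem result {X S : Scheme.{u}} (f : X ⟶ S) (n : ℕ) :
    ∃ σ : PrinPart.nbhd f n ⟶ PrinPart.nbhd f n,
      σ ≫ PrinPart.nbhdι f n = PrinPart.nbhdι f n ≫ (pullbackSymmetry f f).hom ∧
      σ ≫ σ = 𝟙 (PrinPart.nbhd f n) ∧
      σ ≫ PrinPart.pr1 f n = PrinPart.pr2 f n ∧ σ ≫ PrinPart.pr2 f n = PrinPart.pr1 f n ∧
      PrinPart.toNbhd f n ≫ σ = PrinPart.toNbhd f n := by
  classical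
  set Δ := Limits.pullback.diagonal f with hΔ
  set W := Δ.coborderRange with hW
  set s := (pullbackSymmetry f f).hom with hs
  have hsΔ : Δ ≫ s = Δ := by
    apply Limits.pullback.hom_ext <;> simp [hs, hΔ]
  have hss : s ≫ s = 𝟙 _ := by
    apply Limits.pullback.hom_ext <;> simp [hs]
  -- s preserves the range of Δ
  have hrange : s ⁻¹' (Set.range Δ) = Set.range Δ := by
    ext x
    constructor
    · rintro ⟨y, hy⟩
      refine ⟨y, ?_⟩
      have h1 : s (Δ y) = Δ y := by rw [← Scheme.Hom.comp_apply, hsΔ]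
      have h2 : s (s x) = x := by rw [← Scheme.Hom.comp_apply, hss]; rfl
      rw [← h2, ← hy, h1]
    · rintro ⟨y, rfl⟩
      exact ⟨y, by rw [← Scheme.Hom.comp_apply, hsΔ]⟩
  have hWs : W ≤ s ⁻¹ᵁ W := by
    have hopen : IsOpenMap s := (Scheme.Hom.homeomorph s).isOpenMap
    have := coborder_preimage hopen s.continuous (Set.range Δ)
    intro x hx
    show s x ∈ coborder (Set.range Δ)
    have hx' : x ∈ coborder (Set.range Δ) := hx
    rw [← hrange, this] at hx'
    exact hx'
  set sW : (W : Scheme.{u}) ⟶ W := s.resLE W W hWs with hsW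
  have hsWι : sW ≫ W.ι = W.ι ≫ s := Scheme.Hom.resLE_comp_ι _ _
  have hdiag : PrinPart.diagCl f ≫ sW = PrinPart.diagCl f := by
    rw [← cancel_mono W.ι, Category.assoc, hsWι, Scheme.Hom.liftCoborder_ι_assoc, hsΔ,
      Scheme.Hom.liftCoborder_ι]
  have hsWsW : sW ≫ sW = 𝟙 _ := by
    rw [← cancel_mono W.ι, Category.assoc, hsWι, reassoc_of% hsWι, hss]; simp
  set K := (PrinPart.diagCl f).ker with hK
  set ι := PrinPart.infNbhdι (PrinPart.diagCl f) n with hι
  have hιcl : IsClosedImmersion ι := by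
    rw [hι, PrinPart.infNbhdι]; infer_instance
  have hιker : ι.ker = K ^ (n + 1) := by
    rw [hι, PrinPart.infNbhdι, Scheme.IdealSheafData.ker_subschemeι]
  have hKle : K.comap sW ≤ K := by
    rw [← Scheme.IdealSheafData.le_map_iff_comap_le, hK, Scheme.IdealSheafData.map_ker, hdiag]
  have hle : ι.ker ≤ (ι ≫ sW).ker := by
    rw [← Scheme.IdealSheafData.map_ker, Scheme.IdealSheafData.le_map_iff_comap_le, hιker,
      Groth.Agent.Lib.Helper1.comap_pow]
    exact pow_le_pow_left' hKle _
  refine ⟨IsClosedImmersion.lift ι (ι ≫ sW) hle, ?_⟩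
  have hσ : IsClosedImmersion.lift ι (ι ≫ sW) hle ≫ ι = ι ≫ sW := IsClosedImmersion.lift_fac _ _ _
  set σ := IsClosedImmersion.lift ι (ι ≫ sW) hle with hσdef
  have hσι : σ ≫ PrinPart.nbhdι f n = PrinPart.nbhdι f n ≫ s := by
    rw [PrinPart.nbhdι, ← hι, reassoc_of% hσ, hsWι, Category.assoc]
  refine ⟨hσι, ?_, ?_, ?_, ?_⟩
  · rw [← cancel_mono ι, Category.assoc, hσ, reassoc_of% hσ, hsWsW, Category.comp_id, Category.id_comp]
  · rw [PrinPart.pr1, PrinPart.pr2, reassoc_of% hσι]
    simp [hs]
  · rw [PrinPart.pr1, PrinPart.pr2, reassoc_of% hσι]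
    simp [hs]
  · rw [← cancel_mono ι, Category.assoc, hσ, hι, PrinPart.toInfNbhd_ι_assoc, hdiag,
      PrinPart.toInfNbhd_ι]

end Groth.Agent.S5969
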