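import Groth.Statements.S5967
import Groth.Agent.Lib.Helper2.PushStalk.Flat
import Groth.Agent.Lib.Helper28.FlatPull2
import Groth.Agent.S5969

set_option autoImplicit false
universe u
open CategoryTheory CategoryTheory.Limits AlgebraicGeometry TopologicalSpace Opposite
open Nrm16

namespace Groth.Agent.S5967

/-- Let f : X ⟶ S be a morphism of schemes and n a natural number, and assume that P^n_{X/S} is a flat
O_X-module for its left structure. Then the functor F ↦ P^n_{X/S}(F) on O_X-modules preserves finite
limits (so it is exact). -/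
theorem result {X S : Scheme.{u}} (f : X ⟶ S) (n : ℕ)
    (hP : FlatMod.IsFlat (PrinPart.P f n)) :
    PreservesFiniteLimits
      ((Scheme.Modules.pullback (PrinPart.pr2 f n)) ⋙ (Scheme.Modules.pushforward (PrinPart.pr1 f n))) := by
  have h1 : ∀ x : X, (PrinPart.pr1 f n) ((PrinPart.toNbhd f n) x) = x := by
    intro x
    rw [← Scheme.Hom.comp_apply, PrinPart.toNbhd_pr1]
    rfl
  have h2 : ∀ y : PrinPart.nbhd f n, (PrinPart.toNbhd f n) ((PrinPart.pr1 f n) y) = y := by
    intro y
    obtain ⟨x, rfl⟩ := PrinPart.toInfNbhd_surjective (PrinPart.diagCl f) n y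
    exact congrArg _ (h1 x)
  let e : PrinPart.nbhd f n ≃ₜ X :=
    { toFun := (PrinPart.pr1 f n)
      invFun := (PrinPart.toNbhd f n)
      left_inv := h2
      right_inv := h1
      continuous_toFun := (PrinPart.pr1 f n).continuous
      continuous_invFun := (PrinPart.toNbhd f n).continuous }
  have hind : Topology.IsInducing (PrinPart.pr1 f n).base := e.isInducing
  -- flatness of `pr1`
  haveI hfl1 : Flat (PrinPart.pr1 f n) := by
    apply Flat.of_stalkMap
    intro z
    exact Groth.Agent.Lib.Helper2.PushStalk.flat_stalkMap_of_flat_pushforward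
      (PrinPart.pr1 f n) z hind _
      (Groth.Agent.Lib.Helper29.QCoh.pullbackUnitIso (PrinPart.pr2 f n)) (hP _)
  -- flatness of `pr2` through the symmetry
  obtain ⟨σ, -, hσσ, hσ1, -, -⟩ := Groth.Agent.S5969.result f n
  haveI : IsIso σ := ⟨σ, hσσ, hσσ⟩
  haveI hfl2 : Flat (PrinPart.pr2 f n) := by
    have : Flat (σ ≫ PrinPart.pr1 f n) := inferInstance
    rw [hσ1] at this
    exact this
  haveI : PreservesFiniteLimits (Scheme.Modules.pullback (PrinPart.pr2 f n)) :=
    Groth.Agent.Lib.Helper28.FlatPull.preservesFiniteLimits_pullback_of_flat _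
  haveI : PreservesLimitsOfSize.{0, 0} (Scheme.Modules.pushforward (PrinPart.pr1 f n)) :=
    (Scheme.Modules.pullbackPushforwardAdjunction _).rightAdjoint_preservesLimits
  haveI : PreservesFiniteLimits (Scheme.Modules.pushforward (PrinPart.pr1 f n)) :=
    PreservesLimitsOfSize.preservesFiniteLimits _
  exact comp_preservesFiniteLimits _ _

end Groth.Agent.S5967
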