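import Groth.Statements.S5970
import Mathlib
import Groth.Agent.Helper19.SymKaehler
import Groth.Agent.Helper19.OmegaD9
import Groth.Agent.Lib.Helper3.SymQCAlg2
import Groth.Agent.Lib.Helper3.QCAlgLift
import Groth.Agent.Lib.Helper29.IsoCover
-- import your own Groth.Agent.* helpers here

set_option autoImplicit false
universe u
open CategoryTheory CategoryTheory.Limits AlgebraicGeometry TopologicalSpace Opposite
open Nrm16

namespace Groth.Agent.S5970

open Groth.Agent.Lib.Helper29.QCoh Groth.Agent.Helper19.OmegaLocal Groth.Agent.Helper19.OmegaD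
open Groth.Agent.Lib.Helper3 Groth.Agent.Lib.Helper3.SymQC Groth.Agent.Helper19.SymKaehler
open scoped TensorProduct

theorem chart {S : Scheme.{u}} (E : S.Modules) (hE : Coh.IsQCoh E)
    (A : RelSpec.QCAlg S) (j : E ⟶ A.toModule) (hA : RelSpec.IsSymAlg E A j)
    (Ω' : A.spec.Modules) (d : OmegaSh.Der A.π Ω') (hd : OmegaSh.IsUniversal d)
    (φ : (Scheme.Modules.pullback A.π).obj E ⟶ Ω')
    (hφ : ∀ (U : S.Opens) (t : Γ(E, U)) (t' : Γ(A.spec, A.π ⁻¹ᵁ U)),
      A.gammaMap.app (op U) t' = j.app U t →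
        φ.app (A.π ⁻¹ᵁ U) (OmegaSh.pullSect A.π E U t) = d.app (A.π ⁻¹ᵁ U) t')
    (V : S.Opens) (hV : IsAffineOpen V) : Function.Bijective (φ.app (A.π ⁻¹ᵁ V)) := by
  haveI : E.IsQuasicoherent := hE
  have hU : IsAffineOpen (A.π ⁻¹ᵁ V) := hV.preimage A.π
  have hUV : A.π ⁻¹ᵁ V ≤ A.π ⁻¹ᵁ V := le_rfl
  letI := algΓ A.π hUV
  let P0 := pullbackSectionsEquiv A.π E hU hV hUV
  obtain ⟨EL, hEL⟩ := exists_linearEquiv_sections_of_universal A.π d hd hU hV hUV
  obtain ⟨e, he1, he2⟩ := exists_ringEquiv_of_isSymAlg hA V hV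
  haveI := isIso_gammaAff A V hV
  let g : Γ(A.spec, A.π ⁻¹ᵁ V) ≃+* A.presheaf.obj (op V) :=
    (asIso (A.gammaAff V hV)).commRingCatIsoToRingEquiv
  have hg : ∀ r : Γ(S, V), g (algebraMap Γ(S, V) Γ(A.spec, A.π ⁻¹ᵁ V) r) = strB A V r := by
    intro r
    have h1 := A.π_app_gammaAff V hV
    have h2 := congrArg (fun k => k.hom r) h1
    have h3 : algebraMap Γ(S, V) Γ(A.spec, A.π ⁻¹ᵁ V) r = (A.π.app V).hom r := by
      change (A.π.appLE V (A.π ⁻¹ᵁ V) hUV).hom r = _
      rw [Scheme.Hom.appLE_eq_app]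
    rw [h3]
    exact h2
  let σ : SymmetricAlgebra Γ(S, V) Γ(E, V) ≃ₐ[Γ(S, V)] Γ(A.spec, A.π ⁻¹ᵁ V) :=
    AlgEquiv.ofRingEquiv (f := e.trans g.symm) (fun r => by
      change g.symm (e (algebraMap _ _ r)) = _
      rw [he1, RingEquiv.symm_apply_eq, hg])
  let f : Γ(E, V) →ₗ[Γ(S, V)] Γ(A.spec, A.π ⁻¹ᵁ V) :=
    σ.toLinearMap ∘ₗ SymmetricAlgebra.ι Γ(S, V) Γ(E, V)
  have hf : IsSymmetricAlgebra f := IsSymmetricAlgebra.comp_equiv σ
  have hgf : ∀ t : Γ(E, V), A.gammaMap.app (op V) (f t) = j.app V t := by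
    intro t
    rw [A.gammaMap_app V hV]
    change g (g.symm (e (SymmetricAlgebra.ι _ _ t))) = _
    rw [RingEquiv.apply_symm_apply, he2]
  have key : ∀ x, EL (φ.app (A.π ⁻¹ᵁ V) (P0.symm x)) = can f x := by
    intro x
    induction x using TensorProduct.induction_on with
    | zero => simp
    | add x y hx hy => rw [map_add, map_add, map_add, map_add, hx, hy]
    | tmul b t =>
      have h1 : P0.symm (b ⊗ₜ t) = b • res _ hUV (pullSect A.π E V t) := by
        rw [LinearEquiv.symm_apply_eq, map_smul]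
        have := Groth.Agent.Helper19.PullUnit.pullbackSectionsEquiv_pullSect A.π E hU hV hUV t
        rw [this, TensorProduct.smul_tmul', smul_eq_mul, mul_one]
      rw [h1, res_self, Scheme.Modules.Hom.app_smul, map_smul, can_tmul]
      have h2 := hφ V t (f t) (hgf t)
      change φ.app (A.π ⁻¹ᵁ V) (pullSect A.π E V t) = _ at h2
      rw [h2, hEL]
  have hb := can_bijective hf
  have hcomp : ∀ y, φ.app (A.π ⁻¹ᵁ V) y = EL.symm (can f (P0 y)) := by
    intro y
    rw [← key, LinearEquiv.symm_apply_apply, LinearEquiv.symm_apply_apply]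
  have : (φ.app (A.π ⁻¹ᵁ V) : _ → _) = EL.symm ∘ (can f) ∘ P0 := funext hcomp
  rw [this]
  exact EL.symm.bijective.comp (hb.comp P0.bijective)

/-- Let S be a scheme, E a quasi-coherent O_S-module and A its symmetric algebra, given as a
quasi-coherent O_S-algebra with a module map j : E ⟶ A having the universal property; let X = V(E)
be the relative spectrum of A with structure morphism p : X ⟶ S, and let (Ω', d) be a sheaf of
differentials of X over S (d a universal S-derivation of O_X into Ω'). Let φ : p^*E ⟶ Ω' be an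
O_X-linear map such that, whenever a local section t of E over U and a function t' on p⁻¹U
correspond (t' maps to j(t) under the canonical identification of p_*O_X with A), φ sends the
pullback of t to d t'. Then φ is an isomorphism. -/
theorem result {S : Scheme.{u}} (E : S.Modules) (hE : Coh.IsQCoh E)
    (A : RelSpec.QCAlg S) (j : E ⟶ A.toModule) (hA : RelSpec.IsSymAlg E A j)
    (Ω' : A.spec.Modules) (d : OmegaSh.Der A.π Ω') (hd : OmegaSh.IsUniversal d)
    (φ : (Scheme.Modules.pullback A.π).obj E ⟶ Ω')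
    (hφ : ∀ (U : S.Opens) (t : Γ(E, U)) (t' : Γ(A.spec, A.π ⁻¹ᵁ U)),
      A.gammaMap.app (op U) t' = j.app U t →
        φ.app (A.π ⁻¹ᵁ U) (OmegaSh.pullSect A.π E U t) = d.app (A.π ⁻¹ᵁ U) t') :
    IsIso φ := by
  haveI : E.IsQuasicoherent := hE
  haveI : Ω'.IsQuasicoherent := isQuasicoherent_of_universal A.π d hd
  refine isIso_of_app_bijective_of_affine_cover φ (fun V : S.affineOpens => A.π ⁻¹ᵁ V.1)
    (fun V => V.2.preimage A.π) (fun x => ?_)
    (fun V => chart E hE A j hA Ω' d hd φ hφ V.1 V.2)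
  obtain ⟨_, ⟨V, hV, rfl⟩, hx, -⟩ := (S.isBasis_affineOpens).exists_subset_of_mem_open
    (Set.mem_univ (A.π x)) isOpen_univ
  exact ⟨⟨V, hV⟩, hx⟩

end Groth.Agent.S5970
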