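import Groth.Statements.S5977
import Groth.Agent.Lib.Helper2.PrinPart.Gen

set_option autoImplicit false
universe u
open CategoryTheory CategoryTheory.Limits AlgebraicGeometry TopologicalSpace Opposite
open Nrm16

namespace Groth.Agent.S5977

/-- Let f : Y ⟶ Z be a morphism and j : X ⟶ Y a closed immersion, and let φ : j^* P^n_{Y/Z} ⟶ P^n_{X/Z}
be the canonical O_X-linear map of sheaves of principal parts of order n, the one sending the
pullback of d^n b to d^n (j♯ b). Then φ is an epimorphism. (The published statement also identifies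
the kernel of φ as the ideal generated by the pullback of d^n of the ideal of j; this row states the
surjectivity.) -/
theorem result {X Y Z : Scheme.{u}} (f : Y ⟶ Z) (j : X ⟶ Y) [IsClosedImmersion j] (n : ℕ)
    (φ : (Scheme.Modules.pullback j).obj (PrinPart.P f n) ⟶ PrinPart.P (j ≫ f) n)
    (hφ : PrinPart.IsPMap f (j ≫ f) j n φ) :
    Epi φ := by
  refine ⟨fun {G} q r hqr => ?_⟩
  apply Groth.Agent.Lib.Helper2.PrinPartB.hom_ext_of_dP (j ≫ f) n q r
  intro U' t
  apply Groth.Agent.Lib.Helper2.PrinPartB.app_dP_eq_of_locally (j ≫ f) n q r U' t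
  intro x hx
  -- an open of `Y` with preimage `U'`
  obtain ⟨O, hO, hOU'⟩ := j.isClosedEmbedding.isInducing.isOpen_iff.mp U'.2
  have hjx : j x ∈ (⟨O, hO⟩ : Y.Opens) := by
    change x ∈ j ⁻¹' O
    rw [hOU']; exact hx
  obtain ⟨U, hU, hxU, hUO⟩ := exists_isAffineOpen_mem_and_subset (x := j x)
    (U := (⟨O, hO⟩ : Y.Opens)) hjx
  have hW : j ⁻¹ᵁ U ≤ U' := fun y hy => by
    have : y ∈ j ⁻¹' O := hUO hy
    rwa [hOU'] at this
  refine ⟨j ⁻¹ᵁ U, hW, hxU, ?_⟩
  obtain ⟨b, hb⟩ := j.app_surjective U hU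
    ((Coh.structureModule X).presheaf.map (homOfLE hW).op t)
  have h1 := hφ U b
  have h2 := congrArg (fun ψ => (Scheme.Modules.Hom.app ψ (j ⁻¹ᵁ U))
    (OmegaSh.pullSect j (PrinPart.P f n) U (PrinPart.dn f n U b))) hqr
  simp only [Scheme.Modules.Hom.comp_app, ConcreteCategory.comp_apply] at h2
  rw [h1] at h2
  have h3 : (j.app U) b = (Coh.structureModule X).presheaf.map (homOfLE hW).op t := hb
  rw [h3] at h2
  exact h2

end Groth.Agent.S5977
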