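import Groth.Statements.S5978
import Mathlib
import Groth.Agent.Helper19.PnOne3
import Groth.Agent.Lib.Helper29.IsoCover
-- import your own Groth.Agent.* helpers here

set_option autoImplicit false
universe u
open CategoryTheory CategoryTheory.Limits AlgebraicGeometry TopologicalSpace Opposite
open Nrm16

namespace Groth.Agent.S5978

open Groth.Agent.Helper19.PnOne Groth.Agent.Lib.Helper29.QCoh Groth.Agent.Lib.Helper2.PrinPartB in

/-- Let f : X ⟶ S be a quasi-separated morphism, Ω_{X/S} its sheaf of differentials (the conormal sheaf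
of the diagonal) with its derivation d, e : O_X ⟶ P^1_{X/S} the O_X-linear map s ↦ s·1 and ι :
Ω_{X/S} ⟶ P^1_{X/S} the O_X-linear map with ι(d s) = d^1 s − s·1 for every local function s. Then
the map O_X ⊕ Ω_{X/S} ⟶ P^1_{X/S} induced by e and ι is an isomorphism of O_X-modules for the left
structure of P^1_{X/S}; in other words Ω_{X/S} is identified with the augmentation ideal of
P^1_{X/S} and d s = d^1 s − s. (The published text takes this as the definition of Ω_{X/S} for every
f; here Ω_{X/S} is the conormal sheaf of the diagonal, formed for quasi-separated f, and the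
identification is stated.) -/
theorem result {X S : Scheme.{u}} (f : X ⟶ S) [QuasiSeparated f]
    (e : Coh.structureModule X ⟶ PrinPart.P f 1)
    (he : ∀ (U : X.Opens) (s : Γ(X, U)), e.app U (OmegaSh.strSect X U s) = s • PrinPart.dn f 1 U 1)
    (ι : Omega.sheaf f ⟶ PrinPart.P f 1)
    (hι : ∀ (U : X.Opens) (s : Γ(X, U)),
      ι.app U ((OmegaSh.dOmega f).app U s) = PrinPart.dn f 1 U s - s • PrinPart.dn f 1 U 1) :
    IsIso (coprod.desc e ι) := by
  haveI : (Coh.structureModule X).IsQuasicoherent := inferInstanceAs (unitM X).IsQuasicoherent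
  haveI : (PrinPart.P f 1).IsQuasicoherent := isQuasicoherent_PMod f 1 _
  haveI : (Omega.sheaf f).IsQuasicoherent :=
    Groth.Agent.Helper19.Conormal.isQuasicoherent_conormal (pullback.diagonal f)
  have hch : ∀ x : X, ∃ (U : X.Opens) (V : S.Opens),
      IsAffineOpen U ∧ IsAffineOpen V ∧ U ≤ f ⁻¹ᵁ V ∧ x ∈ U := by
    intro x
    obtain ⟨V, hV, hxV, -⟩ := Opens.isBasis_iff_nbhd.1 S.isBasis_affineOpens
      (Opens.mem_top (f x))
    have h2 : x ∈ f ⁻¹ᵁ V := hxV
    obtain ⟨U, hU, hxU, hUV⟩ := Opens.isBasis_iff_nbhd.1 X.isBasis_affineOpens h2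
    exact ⟨U, V, hU, hV, hUV, hxU⟩
  choose U V hU hV hUV hx using hch
  exact isIso_of_app_bijective_of_affine_cover (coprod.desc e ι) U hU (fun x => ⟨x, hx x⟩)
    (fun x => ⟨desc_app_injective f e he ι hι (hU x) (hV x) (hUV x),
      desc_app_surjective f e he ι hι (hU x) (hV x) (hUV x)⟩)

end Groth.Agent.S5978
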