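import Groth.Statements.S5980
import Mathlib
import Groth.Agent.Helper19.Conormal7
-- import your own Groth.Agent.* helpers here

set_option autoImplicit false
universe u
open CategoryTheory CategoryTheory.Limits AlgebraicGeometry TopologicalSpace Opposite
open Nrm16

namespace Groth.Agent.S5980

section helpers

open scoped TensorProduct
open Groth.Agent.Lib.Helper29.QCoh Groth.Agent.Helper19.OmegaD Groth.Agent.Helper19.OmegaLocal
open Groth.Agent.Helper19.OmegaAlg Groth.Agent.Helper19.Conormal

variable {Y X : Scheme.{u}} (j : Y ⟶ X) [IsImmersion j] [QuasiCompact j]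

theorem ker_fg [LocallyOfFinitePresentation j] {V : X.Opens} (hV : IsAffineOpen V)
    (hVc : V ≤ j.coborderRange) : (j.ker.ideal ⟨V, hV⟩).FG := by
  have hV' : IsAffineOpen (j ⁻¹ᵁ V) := isAffineOpen_preimage_of_le_coborder j hV hVc
  have hfp := HasRingHomProperty.appLE (P := @LocallyOfFinitePresentation) j inferInstance
    ⟨V, hV⟩ ⟨j ⁻¹ᵁ V, hV'⟩ le_rfl
  letI := algΓ j (le_refl (j ⁻¹ᵁ V))
  haveI : Algebra.FinitePresentation Γ(X, V) Γ(Y, j ⁻¹ᵁ V) := hfp
  have hsurj : Function.Surjective (Algebra.ofId Γ(X, V) Γ(Y, j ⁻¹ᵁ V)) :=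
    algebraMap_surjective_of_le_coborder j hV hVc
  have h1 := Algebra.FinitePresentation.ker_fG_of_surjective
    (Algebra.ofId Γ(X, V) Γ(Y, j ⁻¹ᵁ V)) hsurj
  have h2 : RingHom.ker (Algebra.ofId Γ(X, V) Γ(Y, j ⁻¹ᵁ V)).toRingHom = j.ker.ideal ⟨V, hV⟩ :=
    ker_algebraMap_eq j hV
  rw [h2] at h1
  exact h1

set_option maxRecDepth 8000 in
theorem finite_sections [LocallyOfFinitePresentation j] {V : X.Opens} (hV : IsAffineOpen V)
    (hVc : V ≤ j.coborderRange) :
    Module.Finite Γ(Y, j ⁻¹ᵁ V) Γ(Omega.conormal j, j ⁻¹ᵁ V) := by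
  have hV' : IsAffineOpen (j ⁻¹ᵁ V) := isAffineOpen_preimage_of_le_coborder j hV hVc
  letI := (j.appLE V (j ⁻¹ᵁ V) le_rfl).hom.toAlgebra
  haveI : Module.Finite Γ(X, V) (j.ker.ideal ⟨V, hV⟩) :=
    Module.Finite.iff_fg.mpr (ker_fg j hV hVc)
  exact Module.Finite.equiv (conormalSectionsEquiv j hV hV' le_rfl).symm

theorem isFiniteType_conormal [LocallyOfFinitePresentation j] :
    (Omega.conormal j).IsFiniteType := by
  apply isFiniteType_of_module_finite (Omega.conormal j)
    (fun V : {V : X.Opens // IsAffineOpen V ∧ V ≤ j.coborderRange} => j ⁻¹ᵁ V.1)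
  · rw [IsOpenCover, eq_top_iff]
    intro y _
    obtain ⟨V, hV, hVc, -, hyV, -⟩ := exists_cb j y ⊤ trivial ⊤ trivial
    exact Opens.mem_iSup.mpr ⟨⟨V, hV, hVc⟩, hyV⟩
  · intro V
    exact isAffineOpen_preimage_of_le_coborder j V.2.1 V.2.2
  · intro V
    exact finite_sections j V.2.1 V.2.2

theorem isIso_app_of_eq {T V : X.Opens} (h : T = V) (hV : IsIso (j.app V)) : IsIso (j.app T) := by
  subst h; exact hV

theorem isOpenImmersion_of_bijective {V : X.Opens} (hV : IsAffineOpen V)
    (hVc : V ≤ j.coborderRange) (hbij : Function.Bijective (j.app V).hom) :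
    IsOpenImmersion ((j ⁻¹ᵁ V).ι ≫ j) := by
  have hV' : IsAffineOpen (j ⁻¹ᵁ V) := isAffineOpen_preimage_of_le_coborder j hV hVc
  haveI : IsAffine (V : Scheme) := hV
  haveI : IsAffine ((j ⁻¹ᵁ V : Y.Opens) : Scheme) := hV'
  have hiso : IsIso (j.app V) := by
    rw [ConcreteCategory.isIso_iff_bijective]
    exact hbij
  have h1 : IsIso (j ∣_ V) := by
    have := (HasAffineProperty.iff_of_isAffine (P := MorphismProperty.isomorphisms Scheme)
      (f := j ∣_ V)).mpr ⟨inferInstance, by
        rw [morphismRestrict_appTop]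
        have ha : IsIso (j.app (V.ι ''ᵁ ⊤)) := isIso_app_of_eq j (by simp) hiso
        have hb : IsIso (Y.presheaf.map
            (eqToHom (image_morphismRestrict_preimage j V ⊤)).op) := by
          rw [eqToHom_op, eqToHom_map]
          infer_instance
        exact @IsIso.comp_isIso _ _ _ _ _ _ _ ha hb⟩
    exact this
  rw [← morphismRestrict_ι]
  infer_instance

end helpers

/-- Consider a point y of Y and an immersion j : Y ⟶ X that is quasi-compact and locally of finite
presentation. The stalk at y of the conormal sheaf N_{Y/X} = I/I² is zero exactly when y has an open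
neighbourhood U in Y on which the restriction of j is an open immersion. (The published statement
covers every immersion locally of finite presentation. Here j is additionally assumed quasi-compact,
since in that case the conormal sheaf used here is the one attached to j.) -/
theorem result {Y X : Scheme.{u}} (j : Y ⟶ X) [IsImmersion j]
    [QuasiCompact j] [LocallyOfFinitePresentation j] (y : Y) :
    (∃ U : Y.Opens, y ∈ U ∧ IsOpenImmersion (U.ι ≫ j)) ↔
      Subsingleton ((Omega.conormal j).presheaf.stalk y) := by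
  open Groth.Agent.Lib.Helper29.QCoh Groth.Agent.Helper19.Conormal in
  constructor
  · rintro ⟨U, hyU, hopen⟩
    suffices h0 : ∀ t : (Omega.conormal j).presheaf.stalk y, t = 0 by
      exact ⟨fun a b => by rw [h0 a, h0 b]⟩
    intro t
    obtain ⟨W, hyW, m, rfl⟩ := TopCat.Presheaf.exists_germ_eq (Omega.conormal j).presheaf t
    have hjyR : j y ∈ (U.ι ≫ j).opensRange := ⟨⟨y, hyU⟩, rfl⟩
    obtain ⟨V, hV, hVc, hVR, hyV, hVW⟩ := exists_cb j y W hyW (U.ι ≫ j).opensRange hjyR
    have hV' : IsAffineOpen (j ⁻¹ᵁ V) := isAffineOpen_preimage_of_le_coborder j hV hVc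
    have hiso : IsIso ((U.ι ≫ j).app V) := Scheme.Hom.isIso_app (U.ι ≫ j) V hVR
    have hinj : Function.Injective (j.app V).hom := by
      have h1 : Function.Injective ((U.ι ≫ j).app V).hom :=
        ((ConcreteCategory.isIso_iff_bijective _).mp hiso).1
      have h2 : ((U.ι ≫ j).app V).hom = (U.ι.app (j ⁻¹ᵁ V)).hom.comp (j.app V).hom := rfl
      rw [h2] at h1
      exact Function.Injective.of_comp h1
    have hI : j.ker.ideal ⟨V, hV⟩ = ⊥ := by
      rw [← ker_app_eq j hV]
      exact (RingHom.injective_iff_ker_eq_bot _).mp hinj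
    have hm : res (Omega.conormal j) hVW m = 0 := by
      have hc := isClosedChart_of_eq j hV hVc rfl
      obtain ⟨x, hx⟩ := exists_clsV_eq hV' hc (res (Omega.conormal j) hVW m)
      rw [hx, clsV_eq_zero_iff hV' hc]
      have hbot : ∀ x : Γ(X, V), x ∈ j.ker.ideal ⟨V, hV⟩ → x = 0 := by
        intro x hx
        rw [hI] at hx
        exact hx
      have hx0 : x.1 = 0 := hbot x.1 x.2
      rw [hx0]
      exact zero_mem _
    rw [← germ_res (Omega.conormal j) hVW y hyV m, hm, map_zero]
  · intro hsub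
    haveI := isFiniteType_conormal j
    have hopen := isOpen_setOf_subsingleton_stalk (Omega.conormal j)
    let W₀ : Y.Opens := ⟨_, hopen⟩
    have hyW₀ : y ∈ W₀ := hsub
    obtain ⟨V, hV, hVc, -, hyV, hVW₀⟩ := exists_cb j y W₀ hyW₀ ⊤ trivial
    have hV' : IsAffineOpen (j ⁻¹ᵁ V) := isAffineOpen_preimage_of_le_coborder j hV hVc
    have hc := isClosedChart_of_eq j hV hVc rfl
    -- all sections over j⁻¹V vanish
    have hzero : ∀ m : Γ(Omega.conormal j, j ⁻¹ᵁ V), m = 0 := by
      intro m
      apply eq_zero_of_germ_eq_zero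
      intro z hz
      haveI : Subsingleton ((Omega.conormal j).presheaf.stalk z) := hVW₀ hz
      exact Subsingleton.elim _ _
    -- I = I²
    have hII : IsIdempotentElem (j.ker.ideal ⟨V, hV⟩) := by
      change j.ker.ideal ⟨V, hV⟩ * j.ker.ideal ⟨V, hV⟩ = j.ker.ideal ⟨V, hV⟩
      apply le_antisymm Ideal.mul_le_left
      intro x hx
      have h1 := (clsV_eq_zero_iff hV' hc ⟨x, hx⟩).mp (hzero _)
      rw [pow_two] at h1
      exact h1
    obtain ⟨e, he, hIe⟩ := (Ideal.isIdempotentElem_iff_of_fg _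
      (Groth.Agent.S5980.ker_fg j hV hVc)).mp hII
    have heI : e ∈ j.ker.ideal ⟨V, hV⟩ := by
      rw [hIe]; exact Ideal.mem_span_singleton_self e
    have hje : (j.app V).hom e = 0 := by
      rw [← ker_app_eq j hV, RingHom.mem_ker] at heI
      exact heI
    -- the smaller open
    have hV2 : IsAffineOpen (X.basicOpen (1 - e)) := hV.basicOpen _
    have hV2V : X.basicOpen (1 - e) ≤ V := X.basicOpen_le _
    have hV2c : X.basicOpen (1 - e) ≤ j.coborderRange := hV2V.trans hVc
    have hpre : j ⁻¹ᵁ (X.basicOpen (1 - e)) = j ⁻¹ᵁ V := by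
      rw [Scheme.preimage_basicOpen]
      have : (j.app V).hom (1 - e) = 1 := by rw [map_sub, map_one, hje, sub_zero]
      change Y.basicOpen ((j.app V).hom (1 - e)) = _
      rw [this, Scheme.basicOpen_one]
    have hyV2 : y ∈ j ⁻¹ᵁ (X.basicOpen (1 - e)) := by rw [hpre]; exact hyV
    -- the ideal over the smaller open vanishes
    have hI2 : j.ker.ideal ⟨X.basicOpen (1 - e), hV2⟩ = ⊥ := by
      have h1 := j.ker.map_ideal (U := ⟨X.basicOpen (1 - e), hV2⟩) (V := ⟨V, hV⟩) hV2V
      rw [← h1, hIe, Ideal.submodule_span_eq, Ideal.map_span, Set.image_singleton]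
      have hunit : IsUnit ((X.presheaf.map (homOfLE hV2V).op).hom (1 - e)) :=
        X.toRingedSpace.isUnit_res_basicOpen (1 - e)
      have hprod : (X.presheaf.map (homOfLE hV2V).op).hom e *
          (X.presheaf.map (homOfLE hV2V).op).hom (1 - e) = 0 := by
        rw [← map_mul, mul_sub, mul_one, he.eq, sub_self, map_zero]
      have he0 : (X.presheaf.map (homOfLE hV2V).op).hom e = 0 :=
        (hunit.mul_left_eq_zero).mp hprod
      rw [Ideal.span_singleton_eq_bot]
      exact he0
    have hbij : Function.Bijective (j.app (X.basicOpen (1 - e))).hom := by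
      constructor
      · rw [RingHom.injective_iff_ker_eq_bot, ker_app_eq j hV2]
        exact hI2
      · exact app_surjective_of_le_coborder j hV2 hV2c
    exact ⟨j ⁻¹ᵁ (X.basicOpen (1 - e)), hyV2,
      Groth.Agent.S5980.isOpenImmersion_of_bijective j hV2 hV2c hbij⟩

end Groth.Agent.S5980
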