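import Groth.Statements.S5985
import Mathlib
import Groth.Agent.Lib.Helper6.EtLocScheme4
import Groth.Agent.Lib.Helper6.EtLocFibre
-- import your own Groth.Agent.* helpers here

set_option autoImplicit false
universe u
open CategoryTheory AlgebraicGeometry
open Unram

namespace Groth.Agent.S5985

/-- Let f : X ⟶ Y be separated and locally of finite type, and y a point of Y whose fibre f⁻¹(y) is
finite (hence discrete). Then there are an étale morphism g : Y' ⟶ Y, a point y' of Y' with g(y') =
y inducing an isomorphism of residue fields κ(y) ≅ κ(y'), and two complementary open subschemes V, W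
of X' = X ×_Y Y' such that V ⟶ Y' is finite and W contains no point of X' lying over y'. -/
theorem result {X Y : Scheme.{u}} (f : X ⟶ Y)
    [LocallyOfFiniteType f] [IsSeparated f] (y : Y) (hfin : (f ⁻¹' {y}).Finite) :
    ∃ (Y' : Scheme.{u}) (g : Y' ⟶ Y) (y' : Y'), Etale g ∧ g y' = y ∧
      IsIso (g.residueFieldMap y') ∧
      ∃ (V W : (Limits.pullback f g).Opens), IsCompl V W ∧
        IsFinite (V.ι ≫ Limits.pullback.snd f g) ∧
        ∀ x : ↥(Limits.pullback f g), Limits.pullback.snd f g x = y' → x ∈ V := by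
  classical
  haveI : Finite ↥(f ⁻¹' {y}) := hfin.to_subtype
  let x : ↥(f ⁻¹' {y}) → X := fun i => i.1
  have hinj : Function.Injective x := Subtype.val_injective
  have hs : ∀ i, f (x i) = y := fun i => i.2
  have hx : ∀ i, f.QuasiFiniteAt (x i) := fun i =>
    Groth.Agent.Lib.Helper6.EtLoc.quasiFiniteAt_of_finite_fiber f y hfin (x i) i.2
  obtain ⟨U, g, u, -, hEt, hgu, hbij, V, v, hdisj, hVv, hclopen, hfinite⟩ :=
    Groth.Agent.Lib.Helper6.EtLoc.exists_etale_nbhd_family_separated f y x hinj hs hx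
  obtain ⟨T, hT⟩ : ∃ T : (Limits.pullback f g).Opens, T = ⨆ i, V i := ⟨_, rfl⟩
  rw [← hT] at hclopen hfinite
  refine ⟨U, g, u, hEt, hgu, (ConcreteCategory.isIso_iff_bijective _).mpr hbij, T,
    ⟨(T : Set ↑(Limits.pullback f g))ᶜ, hclopen.compl.isOpen⟩, ?_, hfinite, ?_⟩
  · simp [isCompl_iff, disjoint_iff, codisjoint_iff, SetLike.ext'_iff]
  · intro z hz
    have hfz : f (Limits.pullback.fst f g z) = y := by
      rw [← Scheme.Hom.comp_apply, Limits.pullback.condition, Scheme.Hom.comp_apply, hz, hgu]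
    let i : ↥(f ⁻¹' {y}) := ⟨Limits.pullback.fst f g z, hfz⟩
    have hzv : z = v i := (hVv i).2.2.2.2.2.2.2 z hz rfl
    rw [hzv, hT]
    exact (le_iSup V i) (hVv i).2.1

end Groth.Agent.S5985
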