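import Groth.Statements.S5993
import Mathlib
import Groth.Agent.Lib.Helper23.CTens10
import Groth.Agent.S0499
-- import your own Groth.Agent.* helpers here

set_option autoImplicit false
universe u
open scoped TensorProduct
open EGA418

namespace Groth.Agent.S5993

open IsLocalRing TensorProduct MvPowerSeries Groth.Agent.Lib.Helper23.CTens Groth.Agent.Lib.Helper1.ArtFunLib Groth.Agent.Lib.Helper23.CTensStr Groth.Agent.Lib.Helper23.CTensFld


/-- Let k be a field, A a complete Noetherian local k-algebra with maximal ideal m whose residue field
is a finite extension of k, k' an extension field of k, I the ideal of A ⊗_k k' generated by m, and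
A' the completed tensor product of A and k' over k, namely the I-adic completion of A ⊗_k k'. Then
A' is a Noetherian ring with finitely many maximal ideals, complete and separated for the ideal
generated by m, and for every maximal ideal M of A' the local ring A'_M is complete, faithfully flat
over A, of the same dimension as A, and has residue field finite over k'. -/
theorem result (k A k' : Type u) [Field k]
    [CommRing A] [IsNoetherianRing A] [IsLocalRing A] [Algebra k A]
    [IsAdicComplete (IsLocalRing.maximalIdeal A) A] [Module.Finite k (IsLocalRing.ResidueField A)]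
    [Field k'] [Algebra k k'] (I : Ideal (A ⊗[k] k'))
    (hI : I = (IsLocalRing.maximalIdeal A).map (algebraMap A (A ⊗[k] k'))) :
    IsNoetherianRing (AdicCompletion I (A ⊗[k] k')) ∧
      Finite (MaximalSpectrum (AdicCompletion I (A ⊗[k] k'))) ∧
      IsAdicComplete ((IsLocalRing.maximalIdeal A).map (algebraMap A (AdicCompletion I (A ⊗[k] k'))))
        (AdicCompletion I (A ⊗[k] k')) ∧
      ∀ M : MaximalSpectrum (AdicCompletion I (A ⊗[k] k')),
        IsAdicComplete (IsLocalRing.maximalIdeal (Localization.AtPrime M.asIdeal))
            (Localization.AtPrime M.asIdeal) ∧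
          Module.FaithfullyFlat A (Localization.AtPrime M.asIdeal) ∧
          ringKrullDim (Localization.AtPrime M.asIdeal) = ringKrullDim A ∧
          (((Ideal.Quotient.mk M.asIdeal).comp (algebraMap (A ⊗[k] k') (AdicCompletion I (A ⊗[k] k')))).comp
              Algebra.TensorProduct.includeRight.toRingHom).Finite := by
  classical
  have hIeq : I = EGA4.cTensorIdeal k A k' := hI.trans (ideal_eq k A k')
  subst hIeq
  obtain ⟨d, algMB, hfinMB, hflat, hmax, hC⟩ := structure_pkg k A k'
  set MB := MvPowerSeries (Fin d) k' with hMB
  set CC := AdicCompletion (EGA4.cTensorIdeal k A k') (A ⊗[k] k') with hCC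
  letI := algMB
  haveI := hfinMB
  haveI := hflat
  haveI : IsAdicComplete (maximalIdeal MB) MB := by
    rw [maximalIdeal_mvPowerSeries_eq_span]
    infer_instance
  haveI hNCC : IsNoetherianRing CC := IsNoetherianRing.of_finite MB CC
  haveI : HenselianLocalRing MB :=
    Groth.Agent.Lib.Helper25.henselianLocalRing_of_isAdicComplete MB
  obtain ⟨ι, hι, Afam, hcr, hloc, ⟨eqv⟩⟩ := Groth.Agent.S0499.result MB CC
  let φ : ∀ i, CC →+* Afam i := fun i => (Pi.evalRingHom Afam i).comp eqv.toRingHom
  have hΦ : Function.Bijective (RingHom.pi φ) := eqv.bijective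
  refine ⟨hNCC, Groth.Agent.Lib.Helper21.BrR.finite_maximalSpectrum MB CC, ?_, ?_⟩
  · have hc0 : IsAdicComplete (maximalIdeal MB) CC :=
      Groth.Agent.Lib.Helper9.SemiLocalProd.isAdicComplete_of_finite MB CC
    have hc : IsAdicComplete ((maximalIdeal MB).map (algebraMap MB CC)) CC :=
      (IsAdicComplete.map_algebraMap_iff (R := MB) (S := CC) (M := CC)
        (I := maximalIdeal MB)).mpr hc0
    rw [hmax] at hc
    exact hc
  · intro M
    haveI := M.isMaximal
    set L := Localization.AtPrime M.asIdeal with hL
    have hsurj : Function.Surjective (algebraMap CC L) :=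
      Groth.Agent.Lib.Helper9.SemiLocalProd.algebraMap_localization_surjective' (φ := φ) hΦ M.asIdeal
    haveI hfinL : Module.Finite MB L :=
      Module.Finite.of_surjective (IsScalarTower.toAlgHom MB CC L).toLinearMap hsurj
    have hcomap := Groth.Agent.Lib.Helper21.BrR.comap_maximal MB CC M
    have hmapM : (maximalIdeal A).map (algebraMap A CC) ≤ M.asIdeal := by
      rw [← hmax, Ideal.map_le_iff_le_comap, hcomap]
    have hmapL : (maximalIdeal A).map (algebraMap A L) =
        (maximalIdeal MB).map (algebraMap MB L) := by
      rw [IsScalarTower.algebraMap_eq A CC L, IsScalarTower.algebraMap_eq MB CC L,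
        ← Ideal.map_map, ← Ideal.map_map, hmax]
    have hmem : ∀ a ∈ maximalIdeal A, algebraMap A L a ∈ maximalIdeal L := by
      intro a ha
      rw [IsScalarTower.algebraMap_apply A CC L,
        IsLocalization.AtPrime.to_map_mem_maximal_iff L M.asIdeal]
      exact hmapM (Ideal.mem_map_of_mem _ ha)
    haveI hlocal : IsLocalHom (algebraMap A L) := by
      refine ⟨fun a ha => ?_⟩
      by_contra hna
      have h1 : a ∈ maximalIdeal A := (IsLocalRing.mem_maximalIdeal a).mpr hna
      exact (IsLocalRing.mem_maximalIdeal _).mp (hmem a h1) ha
    haveI : Module.Flat CC L := IsLocalization.flat L M.asIdeal.primeCompl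
    haveI hflatL : Module.Flat A L := Module.Flat.trans A CC L
    haveI : IsNoetherianRing L := IsNoetherianRing.of_finite MB L
    refine ⟨?_, ?_, ?_, ?_⟩
    · exact Groth.Agent.Lib.Helper9.SemiLocalProd.isAdicComplete_maximalIdeal_of_finite MB L
    · exact Module.FaithfullyFlat.of_flat_of_isLocalHom
    · have h1 := Groth.Agent.Lib.Helper21.BaseChg.ringKrullDim_eq_add_of_flat_local A L
        (algebraMap A L) (RingHom.flat_algebraMap_iff.mpr hflatL)
      have hle : (maximalIdeal A).map (algebraMap A L) ≤ maximalIdeal L := by
        rw [Ideal.map_le_iff_le_comap]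
        exact fun a ha => hmem a ha
      have h2 : ringKrullDim (L ⧸ (maximalIdeal A).map (algebraMap A L)) = 0 := by
        apply ringKrullDim_quot_eq_zero MB L
        · rw [hmapL]
        · intro h
          rw [h, top_le_iff] at hle
          exact (maximalIdeal.isMaximal L).ne_top hle
      rw [h1, h2, add_zero]
    · letI algk' : Algebra k' CC :=
        ((algebraMap (A ⊗[k] k') CC).comp
          (Algebra.TensorProduct.includeRight (R := k) (A := A) (B := k')).toRingHom).toAlgebra
      haveI : IsScalarTower k' MB CC := IsScalarTower.of_algebraMap_eq (fun c => by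
        rw [MvPowerSeries.algebraMap_apply, Algebra.algebraMap_self, RingHom.id_apply, hC]
        rfl)
      have hXM : ∀ i, algebraMap MB CC (X i) ∈ M.asIdeal := by
        intro i
        have h2 : (X i : MB) ∈ maximalIdeal MB := PS.X_mem_maximalIdeal i
        rw [← hcomap] at h2
        exact h2
      have hfin : Module.Finite k' (CC ⧸ M.asIdeal) :=
        finite_quotient_of_X_mem k' d CC M.asIdeal hXM
      have h3 : (algebraMap k' (CC ⧸ M.asIdeal)).Finite := RingHom.finite_algebraMap.mpr hfin
      exact h3

end Groth.Agent.S5993
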