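import Groth.Statements.S5995
import Mathlib
import Groth.Agent.Lib.Helper6.RatSec3
-- import your own Groth.Agent.* helpers here

set_option autoImplicit false
universe u
open CategoryTheory AlgebraicGeometry
open Unram

namespace Groth.Agent.S5995

/-- Let Y be a reduced scheme whose irreducible components form a locally finite family and all of whose
local rings are geometrically unibranch, f : X ⟶ Y a separated, locally of finite type, formally
unramified morphism, and u : U ⟶ X a section of f over a dense open U of Y which cannot be extended: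
whenever v is a section of f over an open V agreeing with u on U ∩ V, V is contained in U (so U is
the domain of definition of the rational section defined by u). Then the image u(U) is an open and
closed subset of X. -/
theorem result {X Y : Scheme.{u}} [IsReduced Y]
    (hcomp : LocallyFinite (fun Z : ↥(irreducibleComponents ↥Y) => (Z : Set ↥Y)))
    (f : X ⟶ Y) [IsSeparated f] [LocallyOfFiniteType f] [FormallyUnramified f]
    (U : Y.Opens) (hU : Dense (U : Set ↥Y)) (u : (U : Scheme.{u}) ⟶ X) (hu : u ≫ f = U.ι)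
    (hY : ∀ y : Y, CAlg2.IsGeomUnibranch (Y.presheaf.stalk y))
    (hmax : ∀ (V : Y.Opens) (v : (V : Scheme.{u}) ⟶ X), v ≫ f = V.ι →
      Y.homOfLE (inf_le_left : U ⊓ V ≤ U) ≫ u = Y.homOfLE (inf_le_right : U ⊓ V ≤ V) ≫ v → V ≤ U) :
    IsOpen (Set.range u) ∧ IsClosed (Set.range u) := by
  constructor
  · haveI : Etale (u ≫ f) := by rw [hu]; infer_instance
    haveI : Etale u := Etale.of_comp u f
    exact u.isOpenMap.isOpen_range
  · rw [← closure_subset_iff_isClosed]
    intro x hx
    obtain ⟨V, v, hyV, hv, hcompat, hvx⟩ :=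
      Groth.Agent.Lib.Helper6.RatSec.exists_section_nhd' hcomp f U hU u hu x (hY _) hx
    have hVU : V ≤ U := hmax V v hv hcompat
    have hyU : f x ∈ U := hVU hyV
    refine ⟨⟨f x, hyU⟩, ?_⟩
    have hyUV : f x ∈ U ⊓ V := ⟨hyU, hyV⟩
    have h1 : u (Y.homOfLE (inf_le_left : U ⊓ V ≤ U) (⟨f x, hyUV⟩ : (U ⊓ V).toScheme)) =
        v (Y.homOfLE (inf_le_right : U ⊓ V ≤ V) (⟨f x, hyUV⟩ : (U ⊓ V).toScheme)) :=
      congr($hcompat (⟨f x, hyUV⟩ : (U ⊓ V).toScheme))
    have e1 : Y.homOfLE (inf_le_left : U ⊓ V ≤ U) (⟨f x, hyUV⟩ : (U ⊓ V).toScheme) =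
        (⟨f x, hyU⟩ : U.toScheme) :=
      Subtype.ext (congr($(Y.homOfLE_ι (inf_le_left : U ⊓ V ≤ U))
        (⟨f x, hyUV⟩ : (U ⊓ V).toScheme)))
    have e2 : Y.homOfLE (inf_le_right : U ⊓ V ≤ V) (⟨f x, hyUV⟩ : (U ⊓ V).toScheme) =
        (⟨f x, hyV⟩ : V.toScheme) :=
      Subtype.ext (congr($(Y.homOfLE_ι (inf_le_right : U ⊓ V ≤ V))
        (⟨f x, hyUV⟩ : (U ⊓ V).toScheme)))
    rw [e1, e2, hvx] at h1
    exact h1

end Groth.Agent.S5995
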