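import Groth.Statements.S5999
import Groth.Agent.Lib.Helper25.JacobianCrit2

set_option autoImplicit false
universe u
open SGA1

namespace Groth.Agent.S5999

open TensorProduct in
/-- Let R be a Noetherian ring, A an R-algebra of finite type, F an element of A, P a prime ideal of
A/(F) and q its preimage in A, and suppose A is smooth over R at q. Then the hypersurface A/(F) is
smooth over R at P if and only if either F is zero in the local ring A_q (F vanishes on a
neighbourhood of q) or the image dF(q) of the differential of F in κ(q) ⊗_A Ω_{A/R} is nonzero. -/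
theorem result
    (R A : Type u) [CommRing R] [CommRing A] [IsNoetherianRing R] [Algebra R A] [Algebra.FiniteType R A]
    (F : A) (P : Ideal (A ⧸ Ideal.span ({F} : Set A))) [P.IsPrime]
    (hX : Algebra.IsSmoothAt R (P.comap (Ideal.Quotient.mk (Ideal.span ({F} : Set A))))) :
    letI q : Ideal A := P.comap (Ideal.Quotient.mk (Ideal.span ({F} : Set A)))
    Algebra.IsSmoothAt R P ↔ algebraMap A (Localization.AtPrime q) F = 0 ∨
      (1 : q.ResidueField) ⊗ₜ[A] KaehlerDifferential.D R A F ≠ 0 := by
  set q : Ideal A := P.comap (Ideal.Quotient.mk (Ideal.span ({F} : Set A))) with hq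
  open Groth.Agent.Lib.Helper25.JacobianCrit in
  rw [isSmoothAt_quotient_iff R (Ideal.span ({F} : Set A)) P]
  change Algebra.FormallySmooth R (Localization.AtPrime q ⧸
    (Ideal.span ({F} : Set A)).map (algebraMap A (Localization.AtPrime q))) ↔ _
  set L := Localization.AtPrime q with hL
  haveI : Algebra.IsSmoothAt R q := hX
  haveI : Algebra.FormallySmooth R L := hX
  obtain ⟨hfree, hfin⟩ := Groth.Agent.Lib.Helper25.JacobianCrit.free_finite_kaehler_localization
    (R := R) q
  have hmap : (Ideal.span ({F} : Set A)).map (algebraMap A L) =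
      Ideal.span {algebraMap A L F} := by
    rw [Ideal.map_span, Set.image_singleton]
  rw [hmap]
  have hFq : F ∈ q := by
    have h0 : Ideal.Quotient.mk (Ideal.span ({F} : Set A)) F = 0 :=
      Ideal.Quotient.eq_zero_iff_mem.mpr (Ideal.subset_span rfl)
    change Ideal.Quotient.mk (Ideal.span ({F} : Set A)) F ∈ P
    rw [h0]; exact zero_mem _
  have hFm : algebraMap A L F ∈ IsLocalRing.maximalIdeal L :=
    (IsLocalization.AtPrime.to_map_mem_maximal_iff L q F).mpr hFq
  have hd : (1 : q.ResidueField) ⊗ₜ[A] KaehlerDifferential.D R A F = 0 ↔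
      (1 : q.ResidueField) ⊗ₜ[L] KaehlerDifferential.D R L (algebraMap A L F) = 0 := by
    rw [← Groth.Agent.Lib.Helper25.JacobianCrit.fibreEquiv_symm_one_tmul_D R q F,
      LinearEquiv.map_eq_zero_iff]
  constructor
  · intro hsm
    by_cases h0 : (1 : q.ResidueField) ⊗ₜ[A] KaehlerDifferential.D R A F = 0
    · left
      exact Groth.Agent.Lib.Helper25.JacobianCrit.eq_zero_of_formallySmooth_quotient_span_singleton
        (R := R) (algebraMap A L F) hFm (hd.mp h0)
    · right; exact h0
  · rintro (h0 | h0)
    · rw [h0]
      have e : (L ⧸ Ideal.span ({0} : Set L)) ≃ₐ[R] L := by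
        have hb : Ideal.span ({0} : Set L) = ⊥ := by simp
        exact (Ideal.quotientEquivAlgOfEq R hb).trans (AlgEquiv.quotientBot R L)
      exact Algebra.FormallySmooth.of_equiv e.symm
    · have hne : (1 : q.ResidueField) ⊗ₜ[L] KaehlerDifferential.D R L (algebraMap A L F) ≠ 0 :=
        fun h => h0 (hd.mpr h)
      have hli : LinearIndependent (IsLocalRing.ResidueField L)
          fun _ : Fin 1 => (1 : IsLocalRing.ResidueField L) ⊗ₜ[L]
            KaehlerDifferential.D R L (algebraMap A L F) := by
        rw [linearIndependent_unique_iff]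
        exact hne
      have h := Groth.Agent.Lib.Helper25.JacobianCrit.formallySmooth_quotient_of_linearIndependent
        (R := R) (P := L) (fun _ : Fin 1 => algebraMap A L F) (fun _ => hFm) hli
      rwa [Set.range_const] at h


end Groth.Agent.S5999
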