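import Groth.Statements.S6001
import Mathlib
import Groth.Agent.Lib.Helper18.CplFlat
import Groth.Agent.Lib.Helper14.ReducedUnramified
import Groth.Agent.Lib.Helper23.FSmoothFlat
import Groth.Agent.Lib.Helper20.CplFin

set_option autoImplicit false
universe u
open SGA1

namespace Groth.Agent.S6001




open IsLocalRing in
theorem map_maximalIdeal_compl {A B : Type u} [CommRing A] [CommRing B] [IsLocalRing A] [IsLocalRing B]
    [IsNoetherianRing A] [IsNoetherianRing B] [Algebra A B]
    (h : (maximalIdeal A).map (algebraMap A B) ≤ maximalIdeal B)
    (hmap : (maximalIdeal A).map (algebraMap A B) = maximalIdeal B) :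
    (maximalIdeal (AdicCompletion (maximalIdeal A) A)).map
      (FSch.complMap (maximalIdeal A) (maximalIdeal B) (algebraMap A B) h) =
      maximalIdeal (AdicCompletion (maximalIdeal B) B) := by
  rw [AdicCompletion.maximalIdeal_eq_map, AdicCompletion.maximalIdeal_eq_map, Ideal.map_map]
  have h1 : (FSch.complMap (maximalIdeal A) (maximalIdeal B) (algebraMap A B) h).comp
      (algebraMap A (AdicCompletion (maximalIdeal A) A)) =
      (algebraMap B (AdicCompletion (maximalIdeal B) B)).comp (algebraMap A B) := by
    apply RingHom.ext
    intro a
    exact Groth.Agent.Lib.Helper14.complMap_of (maximalIdeal A) (maximalIdeal B) (algebraMap A B) h a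
  rw [h1, ← Ideal.map_map, hmap]

/-- Let A be a Noetherian local ring which is analytically reduced (its completion has no nonzero
nilpotents), and let B be the local ring at a prime q, lying over the maximal ideal of A, of an
A-algebra C of finite type that is etale over A at q (an etale local homomorphism A ⟶ B). Then B is
analytically reduced, and in particular reduced. -/
theorem result (A C : Type u) [CommRing A] [IsLocalRing A]
    [IsNoetherianRing A] [CommRing C] [Algebra A C] [Algebra.FiniteType A C] (q : Ideal C) [q.IsPrime]
    (hq : Ideal.comap (algebraMap A C) q = IsLocalRing.maximalIdeal A) (hC : Algebra.IsEtaleAt A q)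
    (hA : IsReduced (AdicCompletion (IsLocalRing.maximalIdeal A) A)) :
    IsReduced (AdicCompletion (IsLocalRing.maximalIdeal (Localization.AtPrime q)) (Localization.AtPrime q)) ∧
      IsReduced (Localization.AtPrime q) := by

  haveI : IsNoetherianRing C := Algebra.FiniteType.isNoetherianRing A C
  haveI : IsNoetherianRing (Localization.AtPrime q) :=
    IsLocalization.isNoetherianRing q.primeCompl (Localization.AtPrime q) inferInstance
  haveI : Algebra.FormallyEtale A (Localization.AtPrime q) := hC
  haveI : Module.Flat A (Localization.AtPrime q) :=
    Groth.Agent.Lib.Helper23.FSmoothFlat.flat_of_formallySmooth A (Localization.AtPrime q)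
  haveI : Algebra.EssFiniteType C (Localization.AtPrime q) :=
    Algebra.EssFiniteType.of_isLocalization (Localization.AtPrime q) q.primeCompl
  haveI : Algebra.EssFiniteType A (Localization.AtPrime q) :=
    Algebra.EssFiniteType.comp A C (Localization.AtPrime q)
  haveI hloc : IsLocalHom (algebraMap A (Localization.AtPrime q)) := by
    refine ⟨fun a ha => ?_⟩
    rw [IsScalarTower.algebraMap_apply A C (Localization.AtPrime q),
      IsLocalization.AtPrime.isUnit_to_map_iff (Localization.AtPrime q) q] at ha
    have h1 : a ∉ Ideal.comap (algebraMap A C) q := ha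
    rw [hq] at h1
    by_contra hnu
    exact h1 hnu
  have hmap : (IsLocalRing.maximalIdeal A).map (algebraMap A (Localization.AtPrime q)) =
      IsLocalRing.maximalIdeal (Localization.AtPrime q) :=
    Algebra.FormallyUnramified.map_maximalIdeal
  have hle : (IsLocalRing.maximalIdeal A).map (algebraMap A (Localization.AtPrime q)) ≤
      IsLocalRing.maximalIdeal (Localization.AtPrime q) := hmap.le
  have hfib : Module.Finite (IsLocalRing.maximalIdeal A).ResidueField
      ((IsLocalRing.maximalIdeal A).Fiber (Localization.AtPrime q)) :=
    Algebra.FormallyUnramified.finite_of_free _ _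
  have hmA : (IsLocalRing.maximalIdeal A).FG := (isNoetherianRing_iff_ideal_fg A).1 inferInstance _
  have hmB : (IsLocalRing.maximalIdeal (Localization.AtPrime q)).FG :=
    (isNoetherianRing_iff_ideal_fg _).1 inferInstance _
  have hfin := Groth.Agent.Lib.Helper20.CplFin.finite_complMap A (Localization.AtPrime q) hmA hmB hfib hle
  have hflat := Groth.Agent.Lib.Helper18.CplFlat.flat_complMap' (IsLocalRing.maximalIdeal A)
    (IsLocalRing.maximalIdeal (Localization.AtPrime q)) (algebraMap A (Localization.AtPrime q))
    (RingHom.flat_algebraMap_iff.mpr inferInstance) hle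
  have hlocc : IsLocalHom (FSch.complMap (IsLocalRing.maximalIdeal A)
      (IsLocalRing.maximalIdeal (Localization.AtPrime q)) (algebraMap A (Localization.AtPrime q)) hle) :=
    Groth.Agent.Lib.Helper18.CplFlat.isLocalHom_cplMap A (Localization.AtPrime q)
  have hmapc := map_maximalIdeal_compl hle hmap
  letI : Algebra (AdicCompletion (IsLocalRing.maximalIdeal A) A)
      (AdicCompletion (IsLocalRing.maximalIdeal (Localization.AtPrime q)) (Localization.AtPrime q)) :=
    (FSch.complMap (IsLocalRing.maximalIdeal A)
      (IsLocalRing.maximalIdeal (Localization.AtPrime q)) (algebraMap A (Localization.AtPrime q)) hle).toAlgebra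
  haveI : Module.Finite (AdicCompletion (IsLocalRing.maximalIdeal A) A)
      (AdicCompletion (IsLocalRing.maximalIdeal (Localization.AtPrime q)) (Localization.AtPrime q)) := hfin
  haveI : Module.Flat (AdicCompletion (IsLocalRing.maximalIdeal A) A)
      (AdicCompletion (IsLocalRing.maximalIdeal (Localization.AtPrime q)) (Localization.AtPrime q)) := hflat
  haveI : IsLocalHom (algebraMap (AdicCompletion (IsLocalRing.maximalIdeal A) A)
      (AdicCompletion (IsLocalRing.maximalIdeal (Localization.AtPrime q)) (Localization.AtPrime q))) := hlocc
  haveI : IsNoetherianRing (AdicCompletion (IsLocalRing.maximalIdeal A) A) :=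
    Groth.Agent.Lib.Helper21.isNoetherianRing_adicCompletion_of_fg _ hmA
  haveI : Algebra.IsSeparable (IsLocalRing.ResidueField A)
      (IsLocalRing.ResidueField (Localization.AtPrime q)) := inferInstance
  haveI : Algebra.IsSeparable
      (IsLocalRing.ResidueField (AdicCompletion (IsLocalRing.maximalIdeal A) A))
      (IsLocalRing.ResidueField (AdicCompletion (IsLocalRing.maximalIdeal (Localization.AtPrime q))
        (Localization.AtPrime q))) := by
    let e₁ : IsLocalRing.ResidueField A ≃+*
        IsLocalRing.ResidueField (AdicCompletion (IsLocalRing.maximalIdeal A) A) :=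
      RingEquiv.ofBijective _ (AdicCompletion.residueField_map_bijective A)
    let e₂ : IsLocalRing.ResidueField (Localization.AtPrime q) ≃+*
        IsLocalRing.ResidueField (AdicCompletion (IsLocalRing.maximalIdeal (Localization.AtPrime q))
          (Localization.AtPrime q)) :=
      RingEquiv.ofBijective _ (AdicCompletion.residueField_map_bijective (Localization.AtPrime q))
    refine Algebra.IsSeparable.of_equiv_equiv e₁ e₂ ?_
    apply RingHom.ext
    intro x
    obtain ⟨a, rfl⟩ := IsLocalRing.residue_surjective x
    change IsLocalRing.ResidueField.map (algebraMap _ _)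
        (IsLocalRing.ResidueField.map (algebraMap A (AdicCompletion (IsLocalRing.maximalIdeal A) A))
          (IsLocalRing.residue A a)) =
      IsLocalRing.ResidueField.map (algebraMap (Localization.AtPrime q)
          (AdicCompletion (IsLocalRing.maximalIdeal (Localization.AtPrime q)) (Localization.AtPrime q)))
        (IsLocalRing.ResidueField.map (algebraMap A (Localization.AtPrime q)) (IsLocalRing.residue A a))
    rw [IsLocalRing.ResidueField.map_residue, IsLocalRing.ResidueField.map_residue,
      IsLocalRing.ResidueField.map_residue, IsLocalRing.ResidueField.map_residue]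
    exact congrArg _ (Groth.Agent.Lib.Helper14.complMap_of (IsLocalRing.maximalIdeal A)
      (IsLocalRing.maximalIdeal (Localization.AtPrime q)) (algebraMap A (Localization.AtPrime q)) hle a)
  haveI : Algebra.FormallyUnramified (AdicCompletion (IsLocalRing.maximalIdeal A) A)
      (AdicCompletion (IsLocalRing.maximalIdeal (Localization.AtPrime q)) (Localization.AtPrime q)) :=
    Algebra.FormallyUnramified.of_map_maximalIdeal hmapc
  have hred : IsReduced (AdicCompletion (IsLocalRing.maximalIdeal (Localization.AtPrime q))
      (Localization.AtPrime q)) :=
    Groth.Agent.Lib.Helper14.isReduced_of_flat_of_formallyUnramified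
      (AdicCompletion (IsLocalRing.maximalIdeal A) A) _
  refine ⟨hred, ?_⟩
  haveI : IsHausdorff (IsLocalRing.maximalIdeal (Localization.AtPrime q)) (Localization.AtPrime q) :=
    inferInstance
  exact isReduced_of_injective (algebraMap (Localization.AtPrime q)
    (AdicCompletion (IsLocalRing.maximalIdeal (Localization.AtPrime q)) (Localization.AtPrime q)))
    (AdicCompletion.of_injective _ _)

end Groth.Agent.S6001
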