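import Groth.Statements.S6012
import Groth.Agent.Lib.Helper24.Cleavage

set_option autoImplicit false
open CategoryTheory
universe v₁ v₂ u₁ u₂
open FibCat FibCat.Cleavage

namespace Groth.Agent.S6012

open CategoryTheory CategoryTheory.Functor

set_option backward.isDefEq.respectTransparency false
set_option backward.isDefEq.respectTransparency.types false
open Groth.Agent.Lib.Helper24.Clv

section
variable {𝒮 : Type u₁} {𝒳 : Type u₂} [Category.{v₁} 𝒮] [Category.{v₂} 𝒳] {p : 𝒳 ⥤ 𝒮}

/-- A morphism of a fibre that is an isomorphism of `𝒳` is an isomorphism of the fibre. -/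
lemma isIso_fiber_of_isIso {S : 𝒮} {a b : p.Fiber S} (φ : a ⟶ b)
    [IsIso (Fiber.fiberInclusion.map φ)] : IsIso φ := by
  refine ⟨⟨Fiber.homMk p S (inv (Fiber.fiberInclusion.map φ)), ?_, ?_⟩⟩
  · apply Fiber.hom_ext
    simp
  · apply Fiber.hom_ext
    simp

lemma isCartesian_of_eq {R S : 𝒮} {a b : 𝒳} (f : R ⟶ S) {φ φ' : a ⟶ b} (h : φ = φ')
    [p.IsCartesian f φ] : p.IsCartesian f φ' := by
  subst h; infer_instance

end


/-- Let `K` be a cleavage of an arbitrary functor `p : 𝒳 ⥤ 𝒮` (one chosen cartesian lift of every base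
morphism at every object over its target; `p` is not assumed fibred). Then `p` is a fibred category
(composites of cartesian morphisms are cartesian) if and only if, for all composable base morphisms
`g : R ⟶ T` and `f : T ⟶ S`, the comparison natural transformation `c_{f,g}` from `g^* f^*` to
`(fg)^*` determined by `K` is an isomorphism. -/
theorem result (𝒮 : Type u₁) (𝒳 : Type u₂) [Category.{v₁} 𝒮] [Category.{v₂} 𝒳] (p : 𝒳 ⥤ 𝒮) (K : FibCat.Cleavage p) :
    p.IsFibered ↔ ∀ (R S T : 𝒮) (f : T ⟶ S) (g : R ⟶ T), IsIso (K.comp f g) := by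
  constructor
  · intro hp R S T f g
    have : ∀ a, IsIso ((K.comp f g).app a) := by
      intro a
      have : IsIso (Fiber.fiberInclusion.map ((K.comp f g).app a)) := by
        rw [K.comp_app]
        exact (IsCartesian.domainUniqueUpToIso p (g ≫ f) (K.lift a.2 (g ≫ f))
          (K.lift (K.obj_proj a.2 f) g ≫ K.lift a.2 f)).isIso_hom
      exact isIso_fiber_of_isIso _
    exact NatIso.isIso_of_isIso_app _
  · intro h
    have hpre := K.isPreFibered
    refine { comp := ?_ }
    intro R S T f g a b c φ ψ hφ hψ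
    have hc : p.obj c = T := IsHomLift.codomain_eq p g ψ
    -- compare ψ with the chosen lift
    let β : b ≅ K.obj hc g := IsCartesian.domainUniqueUpToIso p g (K.lift hc g) ψ
    have hβ : β.hom ≫ K.lift hc g = ψ := IsCartesian.fac p g (K.lift hc g) ψ
    have hφβ : p.IsCartesian f (φ ≫ β.hom) := inferInstance
    let α : a ≅ K.obj (K.obj_proj hc g) f :=
      IsCartesian.domainUniqueUpToIso p f (K.lift (K.obj_proj hc g) f) (φ ≫ β.hom)
    have hα : α.hom ≫ K.lift (K.obj_proj hc g) f = φ ≫ β.hom :=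
      IsCartesian.fac p f (K.lift (K.obj_proj hc g) f) (φ ≫ β.hom)
    have hiso := h R T S g f
    let c' : p.Fiber T := ⟨c, hc⟩
    let γ : K.obj (K.obj_proj hc g) f ≅ K.obj hc (f ≫ g) :=
      Fiber.fiberInclusion.mapIso (asIso ((K.comp g f).app c'))
    have hγ : γ.hom ≫ K.lift hc (f ≫ g) = K.lift (K.obj_proj hc g) f ≫ K.lift hc g :=
      comp_fac K g f c'
    have hγ' : p.IsHomLift (𝟙 R) γ.hom := ((K.comp g f).app c').2
    have hαγ : p.IsHomLift (𝟙 R) (α ≪≫ γ).hom := by
      change p.IsHomLift (𝟙 R) (α.hom ≫ γ.hom)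
      infer_instance
    have key : (α ≪≫ γ).hom ≫ K.lift hc (f ≫ g) = φ ≫ ψ := by
      rw [Iso.trans_hom, Category.assoc, hγ, reassoc_of% hα, hβ]
    have := IsCartesian.of_iso_comp p (f ≫ g) (K.lift hc (f ≫ g)) (α ≪≫ γ)
    exact isCartesian_of_eq (f ≫ g) key

end Groth.Agent.S6012
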