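import Groth.Statements.S6013
import Groth.Agent.Lib.Helper24.Cleavage

set_option autoImplicit false
open CategoryTheory
universe v₁ v₂ u₁ u₂
open FibCat FibCat.Cleavage

namespace Groth.Agent.S6013

open CategoryTheory CategoryTheory.Functor

set_option backward.isDefEq.respectTransparency false
set_option backward.isDefEq.respectTransparency.types false
open Groth.Agent.Lib.Helper24.Clv

section
variable {𝒮 : Type u₁} {𝒳 : Type u₂} [Category.{v₁} 𝒮] [Category.{v₂} 𝒳] {p : 𝒳 ⥤ 𝒮}

/-- A morphism of a fibre that is an isomorphism of `𝒳` is an isomorphism of the fibre. -/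
lemma isIso_fiber_of_isIso {S : 𝒮} {a b : p.Fiber S} (φ : a ⟶ b)
    [IsIso (Fiber.fiberInclusion.map φ)] : IsIso φ := by
  refine ⟨⟨Fiber.homMk p S (inv (Fiber.fiberInclusion.map φ)), ?_, ?_⟩⟩
  · apply Fiber.hom_ext
    simp
  · apply Fiber.hom_ext
    simp

lemma isIso_lift [p.IsFibered] (K : FibCat.Cleavage p) {R S : 𝒮} {a : 𝒳} (ha : p.obj a = S)
    (f : R ⟶ S) [IsIso f] : IsIso (K.lift ha f) :=
  IsStronglyCartesian.isIso_of_base_isIso p f (K.lift ha f)

end


/-- Let `p : 𝒳 ⥤ 𝒮` be a fibred category with a cleavage `K`, and let `f : T ⟶ S` be an isomorphism of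
the base. Then the inverse-image functor `f^*` of `K`, from the fibre over `S` to the fibre over
`T`, is an equivalence of categories. -/
theorem result (𝒮 : Type u₁) (𝒳 : Type u₂) [Category.{v₁} 𝒮] [Category.{v₂} 𝒳] (p : 𝒳 ⥤ 𝒮) [p.IsFibered] (K : FibCat.Cleavage p)
    (S T : 𝒮) (f : T ⟶ S) [IsIso f] : (K.inverseImage f).IsEquivalence := by
  have hf : (K.inverseImage f).Faithful := by
    constructor
    intro a b φ ψ h
    have := isIso_lift K a.2 f
    have h1 := map_fac K f φ
    have h2 := map_fac K f ψ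
    rw [h] at h1
    apply Fiber.hom_ext
    rw [← cancel_epi (K.lift a.2 f), ← h1, ← h2]
  have hfull : (K.inverseImage f).Full := by
    constructor
    intro a b χ
    have := isIso_lift K a.2 f
    have := isIso_lift K b.2 f
    have hl : p.IsHomLift (inv f ≫ 𝟙 T ≫ f) (inv (K.lift a.2 f) ≫ Fiber.fiberInclusion.map χ ≫ K.lift b.2 f) :=
      inferInstance
    have e : inv f ≫ 𝟙 T ≫ f = 𝟙 S := by simp
    rw [e] at hl
    refine ⟨Fiber.homMk p S (inv (K.lift a.2 f) ≫ Fiber.fiberInclusion.map χ ≫ K.lift b.2 f), ?_⟩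
    apply fiber_hom_ext K f b
    rw [map_fac]
    simp
  have hes : (K.inverseImage f).EssSurj := by
    constructor
    intro b
    have i1 := isIso_lift K b.2 (inv f)
    have i2 := isIso_lift K (K.obj_proj b.2 (inv f)) f
    let a : p.Fiber S := ⟨K.obj b.2 (inv f), K.obj_proj b.2 (inv f)⟩
    have hl : p.IsHomLift (f ≫ inv f) (K.lift (K.obj_proj b.2 (inv f)) f ≫ K.lift b.2 (inv f)) :=
      inferInstance
    have e : f ≫ inv f = 𝟙 T := by simp
    rw [e] at hl
    let ψ : (K.inverseImage f).obj a ⟶ b :=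
      Fiber.homMk p T (K.lift (K.obj_proj b.2 (inv f)) f ≫ K.lift b.2 (inv f))
    have : IsIso (Fiber.fiberInclusion.map ψ) := by
      change IsIso (K.lift (K.obj_proj b.2 (inv f)) f ≫ K.lift b.2 (inv f))
      infer_instance
    have := isIso_fiber_of_isIso ψ
    exact ⟨a, ⟨asIso ψ⟩⟩
  exact { }

end Groth.Agent.S6013
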