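import Groth.Statements.S6018
import Groth.Agent.Lib.Helper24.Cleavage

set_option autoImplicit false
open CategoryTheory
universe v₁ v₂ v₃ u₁ u₂ u₃
open FibCat FibCat.Cleavage

namespace Groth.Agent.S6018

open CategoryTheory CategoryTheory.Functor

set_option backward.isDefEq.respectTransparency false
set_option backward.isDefEq.respectTransparency.types false
open Groth.Agent.Lib.Helper24.Clv


/-- Let `K` be a cleavage of a functor `p : 𝒳 ⥤ 𝒮` (neither fibredness nor normalisation is assumed),
let `F, G : 𝒳 ⥤ C` be functors, and for every object `S` of the base let `u_S` be a natural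
transformation between the restrictions of `F` and `G` to the fibre over `S`. If the family is
compatible with the transport morphisms `α_f(a) : f^* a ⟶ a` of `K`, i.e. `G(α_f(a)) ∘ u_T(f^* a) =
u_S(a) ∘ F(α_f(a))` for every base morphism `f : T ⟶ S` and every `a` over `S`, then there is
exactly one natural transformation `F ⟶ G` whose component at every object is the prescribed one.
(The published statement is an isomorphism between the category of all functors `𝒳 ⥤ C` and the
category of compatible families of functors on the fibres of a normalised cloven category; this row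
is its assertion on morphisms, whose published proof does not use the normalisation, so none is
assumed here.) -/
theorem result (𝒮 : Type u₁) (𝒳 : Type u₂) [Category.{v₁} 𝒮]
    [Category.{v₂} 𝒳] (p : 𝒳 ⥤ 𝒮) (K : FibCat.Cleavage p) (C : Type u₃) [Category.{v₃} C] (F G : 𝒳 ⥤ C)
    (u : ∀ S : 𝒮, (Functor.Fiber.fiberInclusion ⋙ F : p.Fiber S ⥤ C) ⟶ Functor.Fiber.fiberInclusion ⋙ G)
    (hu : ∀ ⦃T S : 𝒮⦄ (f : T ⟶ S) (a : p.Fiber S),
      F.map ((K.transport f).app a) ≫ (u S).app a = (u T).app ((K.inverseImage f).obj a) ≫ G.map ((K.transport f).app a)) :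
    ∃! v : F ⟶ G, ∀ (S : 𝒮) (a : p.Fiber S), v.app a.1 = (u S).app a := by
  refine ⟨⟨fun x => (u (p.obj x)).app (Fiber.mk (p := p) (a := x) rfl), ?_⟩, ?_, ?_⟩
  · intro x y φ
    have hφ : p.IsHomLift (p.map φ) φ := inferInstance
    let χ : x ⟶ K.obj (rfl : p.obj y = p.obj y) (p.map φ) :=
      IsCartesian.map p (p.map φ) (K.lift rfl (p.map φ)) φ
    have hχ : χ ≫ K.lift rfl (p.map φ) = φ := IsCartesian.fac p (p.map φ) (K.lift rfl (p.map φ)) φ
    have hχ' : p.IsHomLift (𝟙 (p.obj x)) χ := inferInstance
    let χ' : (Fiber.mk (p := p) (a := x) rfl) ⟶ (K.inverseImage (p.map φ)).obj (Fiber.mk (p := p) (a := y) rfl) :=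
      Fiber.homMk p (p.obj x) χ
    have n1 := (u (p.obj x)).naturality χ'
    have n2 := hu (p.map φ) (Fiber.mk (p := p) (a := y) rfl)
    simp only [Functor.comp_obj, Functor.comp_map] at n1
    have e1 : Fiber.fiberInclusion.map χ' = χ := rfl
    rw [e1] at n1
    simp only [FibCat.Cleavage.transport_app] at n2
    change F.map φ ≫ (u (p.obj y)).app (Fiber.mk (p := p) (a := y) rfl) = (u (p.obj x)).app (Fiber.mk (p := p) (a := x) rfl) ≫ G.map φ
    rw [← hχ, F.map_comp, G.map_comp, Category.assoc]
    erw [n2, reassoc_of% n1]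
  · intro S a
    obtain ⟨x, rfl⟩ := a
    rfl
  · intro v' hv'
    ext x
    exact hv' (p.obj x) (Fiber.mk (p := p) (a := x) rfl)

end Groth.Agent.S6018
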