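import Groth.Statements.S6019
-- (no extra imports)

set_option autoImplicit false
open CategoryTheory
universe v₁ v₂ u₁ u₂
open FibCat FibCat.Cleavage

namespace Groth.Agent.S6019

open CategoryTheory CategoryTheory.Functor

section
variable {𝒮 : Type u₁} {𝒳 : Type u₂} [Category.{v₁} 𝒮] [Category.{v₂} 𝒳] (p : 𝒳 ⥤ 𝒮) [p.IsPreFibered]

open Classical in
/-- the normalised choice of lifts -/
noncomputable def nchoice {R S : 𝒮} {a : 𝒳} (ha : p.obj a = S) (f : R ⟶ S) : Σ b : 𝒳, (b ⟶ a) :=
  if h : ∃ e : R = S, f = eqToHom e then ⟨a, 𝟙 a⟩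
  else ⟨IsPreFibered.pullbackObj ha f, IsPreFibered.pullbackMap ha f⟩

lemma nchoice_isCartesian {R S : 𝒮} {a : 𝒳} (ha : p.obj a = S) (f : R ⟶ S) :
    p.IsCartesian f (nchoice p ha f).2 := by
  have key : ∀ n : Σ b : 𝒳, (b ⟶ a), n = nchoice p ha f → p.IsCartesian f n.2 := by
    intro n hn
    unfold nchoice at hn
    split_ifs at hn with h
    · obtain ⟨e, rfl⟩ := h
      subst e
      subst hn
      have : p.IsHomLift (𝟙 R) (𝟙 a) := IsHomLift.id ha
      simp only [eqToHom_refl]
      infer_instance
    · subst hn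
      change p.IsCartesian f (IsPreFibered.pullbackMap ha f)
      infer_instance
  exact key _ rfl

lemma nchoice_id {S : 𝒮} {a : 𝒳} (ha : p.obj a = S) : nchoice p ha (𝟙 S) = ⟨a, 𝟙 a⟩ := by
  unfold nchoice
  rw [dif_pos ⟨rfl, rfl⟩]

/-- the normalised cleavage -/
noncomputable def ncleavage : FibCat.Cleavage p where
  obj ha f := (nchoice p ha f).1
  lift ha f := (nchoice p ha f).2
  isCartesian ha f := nchoice_isCartesian p ha f

end


/-- A pre-fibred category admits a normalised cleavage: if every base morphism `R ⟶ p(a)` has a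
cartesian morphism over it with target `a`, then one cartesian lift can be chosen for every base
morphism at every object over its target in such a way that the chosen lift of each identity `𝟙 S`
at each object `a` over `S` is the identity of `a` (identities are transport morphisms). -/
theorem result (𝒮 : Type u₁) (𝒳 : Type u₂) [Category.{v₁} 𝒮] [Category.{v₂} 𝒳]
    (p : 𝒳 ⥤ 𝒮) [p.IsPreFibered] : ∃ K : FibCat.Cleavage p, K.IsNormalised := by
  refine ⟨ncleavage p, fun S a ha => ?_⟩
  have h := nchoice_id p ha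
  refine ⟨congrArg Sigma.fst h, ?_⟩
  change (nchoice p ha (𝟙 S)).2 = eqToHom _
  generalize hn : nchoice p ha (𝟙 S) = n at h ⊢
  subst h
  simp

end Groth.Agent.S6019
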