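import Groth.Statements.S6024
-- import your own Groth.Agent.* helpers here

set_option autoImplicit false
universe u
open CategoryTheory CategoryTheory.Limits TopologicalSpace
open LocCohZ

namespace Groth.Agent.S6024

/-- Consider a topological space X carrying a sheaf of abelian groups F, and assume that H^1_Z(X, F)
vanishes for each closed subset Z of X (writing Z = X − U with U open). Under this assumption, F is
flasque. -/
theorem result {X : TopCat.{u}} (F : CohTop.Ab X)
    (h : ∀ U : Opens X, Subsingleton (LocCohZ.HZc F 1 U)) : TopCat.Sheaf.IsFlasque F := by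
  have key : ∀ U : Opens X, Function.Surjective (F.obj.map (homOfLE (le_top : U ≤ ⊤)).op).hom := by
    intro U s
    have hS := LocCohZ.zqSeq_shortExact (le_top : U ≤ ⊤)
    have := h U
    obtain ⟨x₂, hx₂⟩ := Abelian.Ext.contravariant_sequence_exact₁ hS F
      (Abelian.Ext.mk₀ (CohFree.ofSect (Opens.grothendieckTopology X) U F s)) (n₁ := 1) rfl
      (Subsingleton.elim (α := LocCohZ.HZc F 1 U) _ _)
    refine ⟨CohFree.evalGen (Opens.grothendieckTopology X) ⊤ F (Abelian.Ext.homEquiv₀ x₂), ?_⟩
    rw [← CohFree.evalGen_freeSheafMap_comp]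
    have e : CohCx.freeSheafMap (Opens.grothendieckTopology X) (homOfLE (le_top : U ≤ ⊤)) ≫
        Abelian.Ext.homEquiv₀ x₂ = CohFree.ofSect (Opens.grothendieckTopology X) U F s := by
      apply Abelian.Ext.homEquiv₀.symm.injective
      have : (Abelian.Ext.mk₀ (LocCohZ.zqSeq (le_top : U ≤ ⊤)).f).comp
          (Abelian.Ext.mk₀ (Abelian.Ext.homEquiv₀ x₂)) (zero_add 0) =
          Abelian.Ext.mk₀ (CohFree.ofSect (Opens.grothendieckTopology X) U F s) := by
        rw [Abelian.Ext.mk₀_homEquiv₀_apply]
        exact hx₂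
      rw [Abelian.Ext.mk₀_comp_mk₀] at this
      exact this
    rw [e, CohFree.evalGen_ofSect]
  constructor
  intro U V i
  rw [AddCommGrpCat.epi_iff_surjective]
  intro s
  obtain ⟨t, ht⟩ := key V.unop s
  refine ⟨(F.obj.map (homOfLE (le_top : U.unop ≤ ⊤)).op).hom t, ?_⟩
  rw [← ht, ← ConcreteCategory.comp_apply, ← F.obj.map_comp]
  rfl

end Groth.Agent.S6024
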