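import Groth.Statements.S6025
import Groth.Agent.Lib.Helper5.DerivedSES
import Groth.Agent.Lib.Helper5.RightDerivedComp
import Groth.Agent.Lib.Helper5.RestrInj
import Mathlib.CategoryTheory.Limits.Constructions.EpiMono

set_option autoImplicit false
universe u
open CategoryTheory CategoryTheory.Limits TopologicalSpace
open LocCohZ

namespace Groth.Agent.S6025

open Groth.Agent.Lib.Helper5 Groth.Agent.Lib.Helper5.SectSupp Opposite

set_option maxSynthPendingDepth 3

section General

variable {X Y : TopCat.{u}} (j : Y ⟶ X)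

set_option synthInstance.maxHeartbeats 400000 in
noncomputable instance lanFL :
    PreservesFiniteLimits ((Opens.map j).op.lan : (_ ⥤ _ ⥤ AddCommGrpCat.{u})) :=
  inferInstance

noncomputable instance presFL : PreservesFiniteLimits (CohTop.pull j) :=
  Functor.sheafPullbackConstruction.preservesFiniteLimits (Opens.map j) AddCommGrpCat.{u}
    (Opens.grothendieckTopology X) (Opens.grothendieckTopology Y)

/-- The adjunction `j⁻¹ ⊣ j_*`, typed over `CohTop.Ab`. -/
noncomputable def adj : CohTop.pull j ⊣ CohTop.push j :=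
  TopCat.Sheaf.pullbackPushforwardAdjunction AddCommGrpCat.{u} j

instance pull_additive : (CohTop.pull j).Additive :=
  (adj j).left_adjoint_additive

noncomputable instance pull_presFC : PreservesFiniteColimits (CohTop.pull j) := by
  have : PreservesColimitsOfSize.{0, 0} (CohTop.pull j) := (adj j).leftAdjoint_preservesColimits
  infer_instance

noncomputable instance push_presFL : PreservesFiniteLimits (CohTop.push j) := by
  have : PreservesLimitsOfSize.{0, 0} (CohTop.push j) := (adj j).rightAdjoint_preservesLimits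
  infer_instance

/-- The general statement: `Γ ⟶ 𝟭 ⟶ j_* j⁻¹` short exact on injectives, `j⁻¹` preserving
injectives. -/
theorem main (Γ : CohTop.Ab X ⥤ CohTop.Ab X) [Γ.Additive] (a : Γ ⟶ 𝟭 (CohTop.Ab X))
    (w : a ≫ (adj j).unit = 0)
    (hI : ∀ (I : CohTop.Ab X), Injective I →
      (ShortComplex.mk (a.app I) ((adj j).unit.app I)
        (DerSES.app_comp_app a _ w I)).ShortExact)
    (hp : (CohTop.pull j).PreservesInjectiveObjects) :
    Nonempty (Γ.rightDerived 1 ≅ cokernel (adj j).unit) ∧
      ∀ i : ℕ, 1 ≤ i →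
        Nonempty (Γ.rightDerived (i + 1) ≅ CohTop.pull j ⋙ CohTop.Rpush j i) := by
  refine ⟨⟨(DerSES.cokerIso a _ w hI).symm⟩, fun i hi => ?_⟩
  obtain ⟨k, rfl⟩ := Nat.exists_eq_add_of_le' hi
  exact ⟨DerSES.shiftIso a _ w hI k ≪≫
    RDComp.rightDerivedCompIso (CohTop.pull j) (CohTop.push j) (k + 1)⟩

end General

section Special

variable {X : TopCat.{u}} (U : Opens X)

lemma ιN_comp_unit : ιN U ≫ (adj (CohCx.incl U)).unit = 0 := by
  ext F : 2
  exact ι_comp_η U F

lemma hI_special (I : CohTop.Ab X) (hI : Injective I) :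
    (ShortComplex.mk ((ιN U).app I) ((adj (CohCx.incl U)).unit.app I)
      (ι_comp_η U I)).ShortExact := by
  have : TopCat.Sheaf.IsFlasque I := Groth.Agent.Lib.Helper22.CohTop.isFlasque_of_injective I
  exact shortExact_of_flasque U I

end Special

/-- Let X be a topological space, A a closed subset with open complement U and f : U → X the inclusion.
Then the functor ℋ^1_A is isomorphic to the cokernel of the unit F → f_* f⁻¹ F (so that 0 → ℋ^0_A(F)
→ F → f_*(F|_U) → ℋ^1_A(F) → 0 is exact), and for every i ≥ 1 the functor ℋ^{i+1}_A is isomorphic to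
F ↦ R^i f_*(F|_U). (Existence of isomorphisms of functors only; the maps of the four-term sequence
other than the kernel inclusion are not pinned.) -/
theorem result {X : TopCat.{u}} (U : Opens X) :
    Nonempty (LocCohZ.HZsh U 1 ≅
      cokernel (TopCat.Sheaf.pullbackPushforwardAdjunction AddCommGrpCat.{u} (CohCx.incl U)).unit) ∧
      ∀ i : ℕ, 1 ≤ i →
        Nonempty (LocCohZ.HZsh U (i + 1) ≅ CohTop.pull (CohCx.incl U) ⋙ CohTop.Rpush (CohCx.incl U) i) := by
  exact main (CohCx.incl U) (LocCohZ.sectSuppF U) (ιN U) (ιN_comp_unit U) (hI_special U)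
    (pull_preservesInjectiveObjects U)

end Groth.Agent.S6025
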