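import Groth.Statements.S6026
import Groth.Agent.Lib.Helper5.RestrInj
import Groth.Agent.Lib.Helper20.ExtAdj

set_option autoImplicit false
universe u
open CategoryTheory CategoryTheory.Limits TopologicalSpace
open LocCohZ

namespace Groth.Agent.S6026

open Groth.Agent.Lib.Helper5.SectSupp Groth.Agent.Lib.Helper22.CohTop Opposite Abelian

section

variable {X : TopCat.{u}}

/-- `Hom(ℤ_V/ℤ_W, A) ≃+ Γ_{V∖W}(V, A)`. -/
noncomputable def homSect (A : CohTop.Ab X) {W V : Opens X} (h : W ≤ V) :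
    (LocCohZ.zq h ⟶ A) ≃+ LocCohZ.sectZ A h :=
  Ext.addEquiv₀.symm.trans (LocCohZ.sect0Equiv A h)

lemma homSect_comp {A B : CohTop.Ab X} {W V : Opens X} (h : W ≤ V) (f : LocCohZ.zq h ⟶ A)
    (φ : A ⟶ B) :
    (homSect B h (f ≫ φ)).1 = (φ.hom.app (op V)).hom (homSect A h f).1 := by
  change (LocCohZ.sect0Equiv B h (Ext.addEquiv₀.symm (f ≫ φ))).1 = _
  rw [Ext.addEquiv₀_symm_apply, ← Ext.mk₀_comp_mk₀, sect0Equiv_comp_mk₀]
  rfl

variable {W V : Opens X} (h : W ≤ V)

/-- The open `W ∩ V` of the subspace `V`. -/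
abbrev W' : Opens (TopCat.of V) := (Opens.map (CohCx.incl V)).obj W

lemma ιU_top_le : (ιU V).obj ⊤ ≤ V := ιU_obj_le V ⊤

lemma le_ιU_top : V ≤ (ιU V).obj ⊤ := fun x hx => ⟨⟨x, hx⟩, trivial, rfl⟩

lemma ιU_W'_le : (ιU V).obj (W' (W := W) (V := V)) ≤ W := by
  rintro _ ⟨y, hy, rfl⟩
  exact hy

include h in
lemma le_ιU_W' : W ≤ (ιU V).obj (W' (W := W) (V := V)) := fun x hx => ⟨⟨x, h hx⟩, hx, rfl⟩

/-- restriction of sections with support: `Γ_{V∖W}(V, G) → Γ_{V∖W'}(V, G|_V)`. -/
noncomputable def ρ (G : CohTop.Ab X) :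
    LocCohZ.sectZ G h → LocCohZ.sectZ ((CohTop.restrFunctor V).obj G)
      (le_top : W' (W := W) (V := V) ≤ ⊤) :=
  fun t => ⟨res G (ιU_top_le (V := V)) t.1, by
    rw [AddMonoidHom.mem_ker]
    change res G (show (ιU V).obj (W' (W := W) (V := V)) ≤ (ιU V).obj ⊤ from
      (ιU V).monotone le_top) (res G (ιU_top_le (V := V)) t.1) = 0
    rw [res_res]
    have := t.2
    rw [AddMonoidHom.mem_ker] at this
    have h2 := res_res G h (ιU_W'_le (W := W) (V := V)) t.1
    rw [show res G h t.1 = 0 from this, map_zero] at h2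
    exact h2.symm⟩

lemma ρ_bijective (G : CohTop.Ab X) : Function.Bijective (ρ h G) := by
  constructor
  · intro t t' htt'
    apply Subtype.ext
    have := congrArg (fun s => res G (le_ιU_top (V := V)) s.1) htt'
    simp only [ρ, res_res] at this
    have e : ∀ s : G.obj.obj (op V), res G (le_refl V) s = s := fun s => by
      change (G.obj.map (𝟙 _)).hom s = s
      rw [G.obj.map_id]; rfl
    rw [e, e] at this
    exact this
  · intro t'
    refine ⟨⟨res G (le_ιU_top (V := V)) t'.1, ?_⟩, ?_⟩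
    · rw [AddMonoidHom.mem_ker]
      change res G h _ = 0
      rw [res_res]
      have := t'.2
      rw [AddMonoidHom.mem_ker] at this
      have h1 : res G (show (ιU V).obj (W' (W := W) (V := V)) ≤ (ιU V).obj ⊤ from
        (ιU V).monotone le_top) t'.1 = 0 := this
      have h2 := res_res G ((ιU V).monotone le_top : (ιU V).obj (W' (W := W) (V := V)) ≤
        (ιU V).obj ⊤) (le_ιU_W' h) t'.1
      rw [h1, map_zero] at h2
      exact h2.symm
    · apply Subtype.ext
      simp only [ρ, res_res]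
      change (G.obj.map (𝟙 _)).hom t'.1 = t'.1
      rw [G.obj.map_id]; rfl

/-- The canonical section of `ℤ_V/ℤ_W` over `V`. -/
noncomputable def can : LocCohZ.sectZ (LocCohZ.zq h) h := homSect (LocCohZ.zq h) h (𝟙 _)

/-- The comparison map `ℤ_V/ℤ_{W'} ⟶ (ℤ_V/ℤ_W)|_V` of sheaves on `V`. -/
noncomputable def η' : LocCohZ.zq (le_top : W' (W := W) (V := V) ≤ ⊤) ⟶
    (CohTop.restrFunctor V).obj (LocCohZ.zq h) :=
  (homSect _ le_top).symm (ρ h (LocCohZ.zq h) (can h))

lemma key (G : CohTop.Ab X) (f : LocCohZ.zq h ⟶ G) :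
    homSect ((CohTop.restrFunctor V).obj G) le_top (η' h ≫ (CohTop.restrFunctor V).map f) =
      ρ h G (homSect G h f) := by
  apply Subtype.ext
  rw [homSect_comp]
  unfold η'
  rw [AddEquiv.apply_symm_apply]
  change (f.hom.app (op ((ιU V).obj ⊤))).hom (res (LocCohZ.zq h) (ιU_top_le (V := V)) (can h).1) =
    res G (ιU_top_le (V := V)) (homSect G h f).1
  rw [app_res]
  congr 1
  have := homSect_comp h (𝟙 (LocCohZ.zq h)) f
  rw [Category.id_comp] at this
  exact this.symm

lemma H0 (G : CohTop.Ab X) :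
    Function.Bijective (fun f : LocCohZ.zq h ⟶ G => η' h ≫ (CohTop.restrFunctor V).map f) := by
  have e : (fun f : LocCohZ.zq h ⟶ G => η' h ≫ (CohTop.restrFunctor V).map f) =
      (homSect ((CohTop.restrFunctor V).obj G) le_top).symm ∘ ρ h G ∘ homSect G h := by
    funext f
    apply (homSect ((CohTop.restrFunctor V).obj G) le_top).injective
    rw [key]
    simp
  rw [e]
  exact (AddEquiv.bijective _).comp ((ρ_bijective h G).comp (AddEquiv.bijective _))

end

/-- Let X be a topological space, W ⊆ V opens of X and Z = V − W. For every i there is an isomorphism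
H^i_Z(X, F) ≅ H^i_Z(V, F|_V), natural in the abelian sheaf F on X, between cohomology with supports
in Z computed on X and computed on the open subspace V. (Existence of a natural family of
isomorphisms; the published statement has the canonical maps of cohomological functors.) -/
theorem result {X : TopCat.{u}} {W V : Opens X} (h : W ≤ V) (i : ℕ) :
    ∃ e : ∀ F : CohTop.Ab X,
        LocCohZ.HZ F i h ≃+ LocCohZ.HZc (CohTop.restr F V) i ((Opens.map (CohCx.incl V)).obj W),
      ∀ (F G : CohTop.Ab X) (φ : F ⟶ G) (x : LocCohZ.HZ F i h),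
        e G (LocCohZ.map φ i h x) =
          LocCohZ.map ((CohTop.restrFunctor V).map φ) i
            (le_top : (Opens.map (CohCx.incl V)).obj W ≤ ⊤) (e F x) := by
  refine ⟨fun F => Groth.Agent.Lib.Helper20.ExtAdj.extAddEquiv (CohTop.restrFunctor V) (η' h)
    (H0 h) F i, ?_⟩
  intro F G φ x
  change Groth.Agent.Lib.Helper20.ExtAdj.θ (CohTop.restrFunctor V) (η' h) G i
    (x.comp (Abelian.Ext.mk₀ φ) (add_zero i)) =
    (Groth.Agent.Lib.Helper20.ExtAdj.θ (CohTop.restrFunctor V) (η' h) F i x).comp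
      (Abelian.Ext.mk₀ ((CohTop.restrFunctor V).map φ)) (add_zero i)
  rw [Groth.Agent.Lib.Helper20.ExtAdj.θ_comp, Abelian.Ext.mapExactFunctor_mk₀]

end Groth.Agent.S6026
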