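import Groth.Statements.S6028
-- import your own Groth.Agent.* helpers here

set_option autoImplicit false
universe u
open CategoryTheory CategoryTheory.Limits TopologicalSpace
open LocCohZ

namespace Groth.Agent.S6028

section
variable {X : TopCat.{u}}

local notation "J" => Opens.grothendieckTopology X

lemma fm_comp {W V T : Opens X} (hWV : W ≤ V) (hVT : V ≤ T) :
    CohCx.freeSheafMap (Opens.grothendieckTopology X) (homOfLE hWV) ≫
      CohCx.freeSheafMap (Opens.grothendieckTopology X) (homOfLE hVT) =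
    CohCx.freeSheafMap (Opens.grothendieckTopology X) (homOfLE (hWV.trans hVT)) := by
  rw [← CohFree.freeSheafMap_comp]
  rfl

lemma fm_id (W : Opens X) :
    CohCx.freeSheafMap (Opens.grothendieckTopology X) (homOfLE (le_refl W)) = 𝟙 _ :=
  CohFree.freeSheafMap_id _ W

@[reassoc]
lemma π_zqMap {W V W' V' : Opens X} (h : W ≤ V) (h' : W' ≤ V') (hW : W' ≤ W) (hV : V' ≤ V) :
    cokernel.π (CohCx.freeSheafMap (Opens.grothendieckTopology X) (homOfLE h')) ≫
      LocCohZ.zqMap h h' hW hV =
    CohCx.freeSheafMap (Opens.grothendieckTopology X) (homOfLE hV) ≫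
      cokernel.π (CohCx.freeSheafMap (Opens.grothendieckTopology X) (homOfLE h)) := by
  simp [LocCohZ.zqMap]

end

/-- Let X be a topological space and W ⊆ V ⊆ T opens of X; put Z = T − W, Z' = T − V and Z'' = V − W, so
that Z' is closed in Z with complement Z''. Then 0 → ℤ_{Z'',X} → ℤ_{Z,X} → ℤ_{Z',X} → 0 is a short
exact sequence of abelian sheaves on X, where ℤ_{Z,X} = ℤ_T/ℤ_W and the maps are the induced ones. -/
theorem result {X : TopCat.{u}} {W V T : Opens X} (hWV : W ≤ V) (hVT : V ≤ T) :
    ∃ w : LocCohZ.zqMap (hWV.trans hVT) hWV le_rfl hVT ≫ LocCohZ.zqMap hVT (hWV.trans hVT) hWV le_rfl = 0,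
      (ShortComplex.mk _ _ w).ShortExact := by
  have w : LocCohZ.zqMap (hWV.trans hVT) hWV le_rfl hVT ≫
      LocCohZ.zqMap hVT (hWV.trans hVT) hWV le_rfl = 0 := by
    rw [← cancel_epi (cokernel.π _), π_zqMap_assoc, π_zqMap, fm_id, Category.id_comp,
      cokernel.condition, comp_zero]
  refine ⟨w, ?_⟩
  have hmono : Mono (LocCohZ.zqMap (hWV.trans hVT) hWV le_rfl hVT) := by
    have hb : Mono (CohCx.freeSheafMap (Opens.grothendieckTopology X) (homOfLE hVT)) :=
      (LocCohZ.zqSeq_shortExact hVT).mono_f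
    let s : PushoutCocone (CohCx.freeSheafMap (Opens.grothendieckTopology X) (homOfLE hVT))
        (cokernel.π (CohCx.freeSheafMap (Opens.grothendieckTopology X) (homOfLE hWV))) :=
      PushoutCocone.mk (cokernel.π (CohCx.freeSheafMap (Opens.grothendieckTopology X)
        (homOfLE (hWV.trans hVT)))) (LocCohZ.zqMap (hWV.trans hVT) hWV le_rfl hVT)
        (π_zqMap _ _ _ _).symm
    have hs : IsColimit s := by
      refine PushoutCocone.IsColimit.mk _ (fun t => cokernel.desc _ t.inl ?_) ?_ ?_ ?_
      · rw [← fm_comp hWV hVT, Category.assoc, t.condition, cokernel.condition_assoc, zero_comp]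
      · intro t
        exact cokernel.π_desc _ _ _
      · intro t
        rw [← cancel_epi (cokernel.π _), π_zqMap_assoc, cokernel.π_desc, t.condition]
      · intro t m h₁ h₂
        rw [← cancel_epi (cokernel.π _), cokernel.π_desc]
        exact h₁
    exact Abelian.mono_inr_of_isColimit _ _ hs
  have hepi : Epi (LocCohZ.zqMap hVT (hWV.trans hVT) hWV le_rfl) := by
    have h1 : cokernel.π (CohCx.freeSheafMap (Opens.grothendieckTopology X)
        (homOfLE (hWV.trans hVT))) ≫ LocCohZ.zqMap hVT (hWV.trans hVT) hWV le_rfl =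
        cokernel.π (CohCx.freeSheafMap (Opens.grothendieckTopology X) (homOfLE hVT)) := by
      rw [π_zqMap, fm_id, Category.id_comp]
    have h2 : Epi (cokernel.π (CohCx.freeSheafMap (Opens.grothendieckTopology X)
        (homOfLE (hWV.trans hVT))) ≫ LocCohZ.zqMap hVT (hWV.trans hVT) hWV le_rfl) := by
      rw [h1]; infer_instance
    exact epi_of_epi (cokernel.π (CohCx.freeSheafMap (Opens.grothendieckTopology X)
        (homOfLE (hWV.trans hVT)))) _
  refine ShortComplex.ShortExact.mk' (ShortComplex.exact_of_g_is_cokernel _ ?_) hmono hepi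
  refine CokernelCofork.IsColimit.ofπ _ _ (fun {Z} k hk => cokernel.desc _ (cokernel.π _ ≫ k) ?_)
    ?_ ?_
  · have := π_zqMap (hWV.trans hVT) hWV le_rfl hVT
    dsimp at hk ⊢
    rw [← reassoc_of% this, hk, comp_zero]
  · intro Z k hk
    dsimp
    rw [← cancel_epi (cokernel.π _), π_zqMap_assoc, fm_id, Category.id_comp, cokernel.π_desc]
  · intro Z k hk m hm
    dsimp at hm ⊢
    rw [← cancel_epi (cokernel.π _), cokernel.π_desc, ← hm, π_zqMap_assoc, fm_id, Category.id_comp]

end Groth.Agent.S6028
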