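import Groth.Statements.S6029
import Groth.Agent.Lib.Helper5.TopSS
import Groth.Agent.S6027

set_option autoImplicit false
universe u
open CategoryTheory CategoryTheory.Limits TopologicalSpace
open LocCohZ

namespace Groth.Agent.S6029

open Groth.Agent.Lib.Helper5 Groth.Agent.Lib.Helper5.SectSupp Opposite Abelian
  Groth.Agent.Lib.Helper22.CohTop

theorem acyclic {X : TopCat.{u}} (U : Opens X) (Q : CohTop.Ab X) (hQ : Injective Q) (q : ℕ)
    (hq : 0 < q) :
    IsZero (((TopSS.ΓV (⊤ : Opens X)).rightDerived q).obj ((LocCohZ.sectSuppF U).obj Q)) := by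
  obtain ⟨q, rfl⟩ : ∃ k, q = k + 1 := ⟨q - 1, by lia⟩
  have : TopCat.Sheaf.IsFlasque Q := isFlasque_of_injective Q
  have := sectSupp_isFlasque U Q
  exact TopSS.isZero_RΓV_succ_of_flasque ⊤ _ q

/-- `Rⁿ(Γ_Z(X, -))(F) ≅ Hⁿ_Z(X, F)`. -/
noncomputable def abutIso {X : TopCat.{u}} (U : Opens X) (F : CohTop.Ab X) (n : ℕ) :
    ((LocCohZ.sectSuppF U ⋙ TopSS.ΓV (⊤ : Opens X)).rightDerived n).obj F ≅
      AddCommGrpCat.of (LocCohZ.HZc F n U) :=
  (ExtDer.extIsoOfIso _ (LocCohZ.gammaZF U) (Groth.Agent.S6027.gammaIso U) n).app F ≪≫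
    ((Abelian.extFunctor n).mapIso
      (Groth.Agent.S6027.zqCongr (inf_le_left : (⊤ : Opens X) ⊓ U ≤ ⊤) (le_top : U ≤ ⊤)
        (top_inf_eq U)).symm.op).app F

/-- For a closed subset Z = X − U of a topological space X and an abelian sheaf F on X: there is an E₂
spectral sequence of abelian groups with E₂^{p,q} ≅ H^p(X, ℋ^q_Z(F)) for p, q ≥ 0 (and 0 otherwise),
bounded, abutting with finite filtrations to H^n_Z(X, F) (n ≥ 0; 0 for n < 0). (Existence only: the
E₂ identifications and the abutment isomorphisms are some isomorphisms, not the canonical maps of a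
construction, so edge maps and low-degree exact sequences are not part of this statement.) -/
theorem result {X : TopCat.{u}} (F : CohTop.Ab X) (U : Opens X) :
    ∃ (E : E₂CohomologicalSpectralSequence AddCommGrpCat.{u})
      (a : SpSeq.Abutment E (fun n : ℤ =>
        if 0 ≤ n then AddCommGrpCat.of (LocCohZ.HZc F n.toNat U) else AddCommGrpCat.of PUnit.{u + 1})),
      (∀ n : ℤ, a.IsFinite n) ∧ SpSeq.IsBounded E ∧
      ∀ p q : ℤ, Nonempty ((E.page 2 le_rfl).X (p, q) ≅
        (if 0 ≤ p ∧ 0 ≤ q then AddCommGrpCat.of (CohTop.HU ((LocCohZ.HZsh U q.toNat).obj F) p.toNat ⊤)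
          else AddCommGrpCat.of PUnit.{u + 1})) := by
  exact GrothSSInst.main' (LocCohZ.sectSuppF U) (TopSS.ΓV (⊤ : Opens X))
    (fun Q hQ q hq => acyclic U Q hQ q hq) F
    (fun n => AddCommGrpCat.of (LocCohZ.HZc F n U))
    (fun p q => AddCommGrpCat.of (CohTop.HU ((LocCohZ.HZsh U q).obj F) p ⊤))
    (AddCommGrpCat.of PUnit.{u + 1}) (AddCommGrpCat.of PUnit.{u + 1})
    (AddCommGrpCat.isZero_of_subsingleton _) (AddCommGrpCat.isZero_of_subsingleton _)
    (fun n => ⟨abutIso U F n⟩)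
    (fun p q => ⟨TopSS.RΓVObjIso ⊤ p _⟩)

end Groth.Agent.S6029
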