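import Groth.Statements.S6032
import Groth.Agent.Lib.Helper5.HZKoszul
import Groth.Agent.S6031

set_option autoImplicit false
universe u
open CategoryTheory CategoryTheory.Limits TopologicalSpace AlgebraicGeometry
open LocCohZ

namespace Groth.Agent.S6032

/-- Let A be a commutative ring, f = (f_1, …, f_r) a finite family of elements of A with zero locus Y in
X = Spec A, and M an A-module with associated sheaf M~. For every i the group colim_n H^i(f^n, M)
(direct limit of Koszul cohomology of the powers) is isomorphic to H^i_Y(X, M~). (Existence of an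
additive isomorphism in each degree; the published statement has an isomorphism of ∂-functors in M.) -/
theorem result (A : Type u) [CommRing A] (fs : List A) (M : Type u)
    [AddCommGroup M] [Module A M] (i : ℕ) :
    Nonempty (CohIII.koszulHLim fs (ModuleCat.of A M) i ≃+
      LocCohZ.HZM (Spec (CommRingCat.of A)) (AlgebraicGeometry.tilde (R := CommRingCat.of A) (ModuleCat.of A M)) i
        (LocCoh.puncturedOpen A (Ideal.span {a | a ∈ fs}))) := by
  have hUeq := Groth.Agent.Lib.Helper5.HZKoszul.puncturedOpen_eq_UL A fs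
  have hUeq' : LocCoh.puncturedOpen A (Ideal.span {a | a ∈ fs}) =
      ⊤ ⊓ Groth.Agent.Lib.Helper5.QcqsClosed.UL (Spec (CommRingCat.of A))
        (fs.map (Groth.Agent.Lib.Helper5.TildeFlasque.φ A)) := by
    rw [top_inf_eq]
    exact hUeq
  haveI hqc : (AlgebraicGeometry.tilde (R := CommRingCat.of A)
    (ModuleCat.of A M)).IsQuasicoherent := inferInstance
  have k := Groth.Agent.Lib.Helper5.CechShift.koszulHLimEquivExtCech (ModuleCat.of A M) fs i
  rcases i with _ | _ | n
  · have j := Groth.Agent.Lib.Helper5.KoszulSections.hqIso fs (ModuleCat.of A M) 0 0 Nat.cast_zero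
    obtain ⟨e⟩ := Groth.Agent.Lib.Helper5.HZKoszul.deg0 A M fs _ hUeq'
    exact ⟨k.toAddEquiv.trans (j.toLinearEquiv.toAddEquiv.trans
      (e.trans (LocCohZ.sect0Equiv _ _).symm))⟩
  · have j := Groth.Agent.Lib.Helper5.KoszulSections.hqIso fs (ModuleCat.of A M) 1 1 Nat.cast_one
    have h1 : ∀ x : CohTop.HU (Coh.toAb (AlgebraicGeometry.tilde (R := CommRingCat.of A)
        (ModuleCat.of A M))) 1 ⊤, x = 0 := fun x =>
      (Groth.Agent.Lib.Helper22.Cech.subsingleton_HU_succ_of_isAffineOpen
        (Spec (CommRingCat.of A)) (AlgebraicGeometry.tilde (R := CommRingCat.of A)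
        (ModuleCat.of A M)) ⊤ (isAffineOpen_top _) 0).elim x 0
    obtain ⟨e⟩ := Groth.Agent.Lib.Helper5.HZKoszul.deg1 A M fs _ hUeq'
    obtain ⟨e'⟩ := Groth.Agent.Lib.Helper5.HZKoszul.HZ_one
      (T := (Spec (CommRingCat.of A)).carrier)
      (Coh.toAb (AlgebraicGeometry.tilde (R := CommRingCat.of A) (ModuleCat.of A M)))
      (LocCoh.puncturedOpen A (Ideal.span {a | a ∈ fs})) h1
    exact ⟨k.toAddEquiv.trans (j.toLinearEquiv.toAddEquiv.trans (e.trans e'.symm))⟩
  · have j := Groth.Agent.Lib.Helper5.KoszulSections.hqIso fs (ModuleCat.of A M) (n + 1 + 1)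
      ((n : ℤ) + 2) (by push_cast; ring)
    obtain ⟨e⟩ := Groth.Agent.Lib.Helper5.HZKoszul.degHigh A M fs _ hUeq n
    obtain ⟨e'⟩ := Groth.Agent.Lib.Helper5.HZKoszul.nonempty_HU_addEquiv_HHon
      (AlgebraicGeometry.tilde (R := CommRingCat.of A) (ModuleCat.of A M))
      (LocCoh.puncturedOpen A (Ideal.span {a | a ∈ fs})) (n + 1)
    have hb := (Groth.Agent.S6031.result (Spec (CommRingCat.of A))
      (AlgebraicGeometry.tilde (R := CommRingCat.of A) (ModuleCat.of A M)) hqc
      (LocCoh.puncturedOpen A (Ideal.span {a | a ∈ fs}))).2 (n + 1) (by omega)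
    exact ⟨k.toAddEquiv.trans (j.toLinearEquiv.toAddEquiv.trans
      (e.symm.trans (e'.symm.trans (AddEquiv.ofBijective _ hb))))⟩

end Groth.Agent.S6032
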