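import Groth.Statements.S6039
import Groth.Agent.Lib.Helper10.HartogsConv

set_option autoImplicit false
universe u
open CategoryTheory CategoryTheory.Limits TopologicalSpace AlgebraicGeometry Opposite
open LocCohZ

namespace Groth.Agent.S6039

/-- Let X be a locally Noetherian scheme, Y a closed subset with open complement U and M a coherent
O_X-module. Then depth M_x ≥ 2 for every x ∈ Y if and only if, for every open V of X, the
restriction map Γ(V, M) → Γ(V ∩ U, M) is bijective. -/
theorem result (X : Scheme.{u}) [IsLocallyNoetherian X] (U : X.Opens)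
    (M : X.Modules) (hM : Coh.IsCoh M) :
    (∀ x : X, x ∉ (U : Set X) → (2 : ℕ∞) ≤ LocCoh.depth (X.presheaf.stalk x) (M.presheaf.stalk x)) ↔
      ∀ V : X.Opens, Function.Bijective (M.val.map (homOfLE (inf_le_left : V ⊓ U ≤ V)).op).hom := by
  have hq : M.IsQuasicoherent := hM.1
  have hft : M.IsFiniteType := hM.2
  constructor
  · intro h V
    exact Groth.Agent.Lib.Helper10.Hartogs.res_bijective M U
      (Groth.Agent.Lib.Helper10.Hartogs.locDepthTwo_of_stalk_depth M U h) V
  · intro h x hx
    exact Groth.Agent.Lib.Helper10.HartogsConv.two_le_depth_of_bijective M (fun W _ => h W) x hx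

end Groth.Agent.S6039
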