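import Groth.Statements.S6040
import Groth.Agent.Lib.Helper5.RightDerivedComp
import Groth.Agent.Lib.Helper5.SectSupp
import Groth.Agent.Lib.Helper20.ExtByZero
import Groth.Agent.Lib.Helper22.CohTop.Restrict

set_option autoImplicit false
universe u
open CategoryTheory CategoryTheory.Limits TopologicalSpace
open LocCohZ

namespace Groth.Agent.S6040

open Groth.Agent.Lib.Helper5 Groth.Agent.Lib.Helper22.CohTop

/-- Restriction to an open preserves injective sheaves (its left adjoint, extension by zero, is
exact). -/
instance restr_preservesInjectiveObjects {X : TopCat.{u}} (U : Opens X) :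
    (CohTop.restrFunctor U).PreservesInjectiveObjects := by
  have adj := (U.sheafEquivOver (A := AddCommGrpCat.{u})).symm.toAdjunction.comp
    (Groth.Agent.Lib.Helper20.ExtByZero.extByZeroAdj (Opens.grothendieckTopology X) U)
  exact Functor.preservesInjectiveObjects_of_adjunction_of_preservesMonomorphisms adj

instance restr_preservesFiniteColimits {X : TopCat.{u}} (U : Opens X) :
    PreservesFiniteColimits (CohTop.restrFunctor U) := by
  have := (SectSupp.adjR U).leftAdjoint_preservesColimits
  infer_instance

instance additive_push_of {X Y : TopCat.{u}} (U : Opens X) (g : TopCat.of U ⟶ Y) :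
    (CohTop.push g).Additive where

instance additive_restr_push_of {X Y : TopCat.{u}} (U : Opens X) (g : TopCat.of U ⟶ Y) :
    (CohTop.restrFunctor U ⋙ CohTop.push g).Additive where

theorem aux {X Y : TopCat.{u}} (U : Opens X) (g : TopCat.of U ⟶ Y) (q : ℕ) :
    Nonempty ((CohTop.restrFunctor U ⋙ CohTop.push g).rightDerived q ≅
      CohTop.restrFunctor U ⋙ CohTop.Rpush g q) :=
  ⟨RDComp.rightDerivedCompIso (CohTop.restrFunctor U) (CohTop.push g) q⟩

/-- Let X be a topological space, U an open subset and j : U → X the inclusion, so that the sheaf of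
sections with supports in the open U is Γ_U(F) = j_*(F|_U). For every q the local cohomology sheaf
functor ℋ^q_U, i.e. the q-th right derived functor of F ↦ j_*(F|_U), is isomorphic to F ↦ R^q
j_*(F|_U). (Existence of an isomorphism of functors for each q.) -/
theorem result {X : TopCat.{u}} (U : Opens X) (q : ℕ) :
    Nonempty (CohCx.RpushOn (𝟙 X) U q ≅ CohTop.restrFunctor U ⋙ CohTop.Rpush (CohCx.incl U) q) := by
  have e : CohCx.incl U ≫ 𝟙 X = CohCx.incl U := Category.comp_id _
  have h := aux U (CohCx.incl U ≫ 𝟙 X) q
  rw [e] at h
  exact h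

end Groth.Agent.S6040
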