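import Groth.Statements.S6041
import Mathlib
import Groth.Agent.Lib.Helper10.QuotShBr3

set_option autoImplicit false
open CategoryTheory CategoryTheory.Limits AlgebraicGeometry MonoidalCategory
universe u
open GrpQ

namespace Groth.Agent.S6041

theorem repMap_comp (K : Precoverage Scheme.{u}) {S : Scheme.{u}} {A B C : Over S} (a : A ⟶ B)
    (b : B ⟶ C) : QuotSh.repMap K (a ≫ b) = QuotSh.repMap K a ≫ QuotSh.repMap K b := by
  change (presheafToSheaf _ _).map _ = (presheafToSheaf _ _).map _ ≫ (presheafToSheaf _ _).map _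
  rw [← Functor.map_comp, ← Functor.whiskerRight_comp, ← yoneda.map_comp]

open CartesianMonoidalCategory in
/-- For schemes and the fppf topology, easy direction: let `s, t : R ⇉ U` be a pair of morphisms of
schemes over `S` (in the source an equivalence relation), `T` a scheme over `S` and `i : Z ⟶ U ×_S
T` such that `Z ⟶ T` is flat, surjective and locally of finite presentation and any two points of
`Z` over the same point of `T` have `R`-related images in `U`. Then the composite `h_Z ⟶ h_U ⟶ U/R`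
descends to exactly one section of the fppf quotient sheaf `U/R` over `T`. -/
theorem result {S : Scheme.{u}} {R U : Over S} (s t : R ⟶ U)
    (T Z : Over S) (i : Z ⟶ U ⊗ T)
    [Flat (i ≫ snd U T).left] [Surjective (i ≫ snd U T).left] [LocallyOfFinitePresentation (i ≫ snd U T).left]
    (hZZ : ∀ (T' : Over S) (z₁ z₂ : T' ⟶ Z), z₁ ≫ i ≫ snd U T = z₂ ≫ i ≫ snd U T →
      ∃ r : T' ⟶ R, r ≫ s = z₁ ≫ i ≫ fst U T ∧ r ≫ t = z₂ ≫ i ≫ fst U T) :
    ∃! σ : QuotSh.rep Scheme.fppfPrecoverage T ⟶ QuotSh.quot Scheme.fppfPrecoverage s t,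
      QuotSh.repMap Scheme.fppfPrecoverage (i ≫ fst U T) ≫ QuotSh.quotπ Scheme.fppfPrecoverage s t =
        QuotSh.repMap Scheme.fppfPrecoverage (i ≫ snd U T) ≫ σ := by
  have hp : Limits.pullback.fst (i ≫ snd U T) (i ≫ snd U T) ≫ i ≫ snd U T =
      Limits.pullback.snd (i ≫ snd U T) (i ≫ snd U T) ≫ i ≫ snd U T := Limits.pullback.condition
  obtain ⟨r, hr1, hr2⟩ := hZZ _ _ _ hp
  have h : QuotSh.repMap Scheme.fppfPrecoverage
        (Limits.pullback.fst (i ≫ snd U T) (i ≫ snd U T)) ≫
        (QuotSh.repMap Scheme.fppfPrecoverage (i ≫ fst U T) ≫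
          QuotSh.quotπ Scheme.fppfPrecoverage s t) =
      QuotSh.repMap Scheme.fppfPrecoverage
        (Limits.pullback.snd (i ≫ snd U T) (i ≫ snd U T)) ≫
        (QuotSh.repMap Scheme.fppfPrecoverage (i ≫ fst U T) ≫
          QuotSh.quotπ Scheme.fppfPrecoverage s t) := by
    rw [← Category.assoc, ← Category.assoc, ← repMap_comp, ← repMap_comp, ← hr1, ← hr2,
      repMap_comp, repMap_comp, Category.assoc, Category.assoc, QuotSh.quot_condition]
  obtain ⟨d, hd⟩ := Groth.Agent.Lib.Helper10.QuotShBr.exists_desc_rep_of_fppf (i ≫ snd U T) _ h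
  refine ⟨d, hd.symm, ?_⟩
  intro d' hd'
  haveI : Epi (QuotSh.repMap Scheme.fppfPrecoverage (i ≫ snd U T)) :=
    Groth.Agent.Lib.Helper10.QuotShBr.epi_repMap_of_fppf _
  rw [← cancel_epi (QuotSh.repMap Scheme.fppfPrecoverage (i ≫ snd U T)), hd, ← hd']

end Groth.Agent.S6041
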