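import Groth.Statements.S6045
import Groth.Agent.S9858
import Groth.Agent.Lib.Helper24.DescOpenQc
import Groth.Agent.Lib.Helper24.DescSigma

set_option autoImplicit false
open CategoryTheory CategoryTheory.Limits AlgebraicGeometry
universe u
open GrpQ

namespace Groth.Agent.S6045

open CategoryTheory CategoryTheory.Limits AlgebraicGeometry Opposite


/-- Open immersions descend along the fpqc topology. For an fpqc covering family `f i : X i ⟶ S` of a
scheme `S`, every descent datum for schemes relative to the family all of whose members `Z i ⟶ X i`
are open immersions is effective. -/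
theorem result {S : Scheme.{u}} {ι : Type u} {X : ι → Scheme.{u}}
    (f : ∀ i, X i ⟶ S) (hf : Presieve.ofArrows X f ∈ Scheme.fpqcPrecoverage S)
    (D : Desc.SchDDFam f) (hD : ∀ i, IsOpenImmersion (D.obj i).hom) :
    D.IsEffective := by
  refine Groth.Agent.S9858.result @IsOpenImmersion
    (fun m Y V q h =>
      Groth.Agent.Lib.Helper24.DescSigma.sigmaMap_of_isZariskiLocalAtTarget _ Y V q h)
    (fun X S p hX hS hfl hsu D hD => ?_) f hf D hD
  haveI : IsAffine X := hX
  haveI : IsAffine S := hS
  haveI : Flat p := hfl
  haveI : Surjective p := hsu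
  haveI : IsOpenImmersion D.obj.hom := hD
  haveI : QuasiCompact p := inferInstance
  exact Groth.Agent.Lib.Helper24.DescOpenQc.exists_iso_toDD_of_isOpenImmersion p D

end Groth.Agent.S6045
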