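import Groth.Statements.S6072
import Groth.Agent.Lib.Helper7.FFDesc10
import Groth.Agent.Lib.Helper7.IsoTr6


set_option autoImplicit false
universe u
open TensorProduct SGA3b
open SGA3b

namespace Groth.Agent.S6072

/-- Let R be a henselian local ring with residue field k and H₀ = Spec C₀ a k-group of multiplicative
type which is finite over k. Then H₀ lifts to R: there is an R-group H = Spec C of multiplicative
type, finite over R and isotrivial, together with an isomorphism of k-groups H ×_R k ≅ H₀, i.e. a
bialgebra isomorphism k ⊗_R C ≅ C₀ (existence of an isomorphism; the lift is determined up to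
isomorphism only). (Affine group schemes over an affine base are taken in Hopf-algebra form; base
change is the tensor product.) -/
theorem result (R : Type u) [CommRing R] [HenselianLocalRing R]
    (C₀ : Type u) [CommRing C₀] [HopfAlgebra (IsLocalRing.ResidueField R) C₀] [Module.Finite (IsLocalRing.ResidueField R) C₀]
    (h₀ : IsMultType (IsLocalRing.ResidueField R) C₀) :
    ∃ (C : Type u) (_ : CommRing C) (_ : HopfAlgebra R C), Module.Finite R C ∧ IsIsotrivial R C ∧
      Nonempty ((IsLocalRing.ResidueField R ⊗[R] C) ≃ₐc[IsLocalRing.ResidueField R] C₀) := by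
  classical
  have hconn : ConnectedSpace (PrimeSpectrum (IsLocalRing.ResidueField R)) :=
    Groth.Agent.Lib.Helper7.HensGL.connectedSpace_of_isLocalRing _
  have h0 : IsIsotrivial (IsLocalRing.ResidueField R) C₀ :=
    Groth.Agent.Lib.Helper7.IsoTr.isIsotrivial_of_isMultType_of_finite _ C₀ h₀
  have hk : Function.Surjective (algebraMap R (IsLocalRing.ResidueField R)) :=
    IsLocalRing.residue_surjective
  have hI : RingHom.ker (algebraMap R (IsLocalRing.ResidueField R)) =
      IsLocalRing.maximalIdeal R := IsLocalRing.ker_residue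
  obtain ⟨C, iC, iH, S, iS, iSa, M, iM, het, hfin, hff, ⟨e1⟩, ⟨e2⟩, h2⟩ :=
    Groth.Agent.Lib.Helper7.FFDesc.exists_isotrivial_lift hk (IsLocalRing.maximalIdeal R) hI C₀ h0
  refine ⟨C, iC, iH, ?_, ⟨S, iS, iSa, het, hfin, hff, ⟨M, iM, ⟨e1⟩⟩⟩, h2⟩
  have hnt : Nontrivial (IsLocalRing.ResidueField R ⊗[R] S) :=
    (FaithfulSMul.algebraMap_injective (IsLocalRing.ResidueField R)
      (IsLocalRing.ResidueField R ⊗[R] S)).nontrivial
  have hf1 : Module.Finite (IsLocalRing.ResidueField R ⊗[R] S)
      (MonoidAlgebra (IsLocalRing.ResidueField R ⊗[R] S) M) :=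
    Module.Finite.equiv e2.toLinearEquiv
  have hMfin : Finite M := Module.Finite.finite_basis
    (MonoidAlgebra.basis M (IsLocalRing.ResidueField R ⊗[R] S))
  have hf2 : Module.Finite S (MonoidAlgebra S M) :=
    Module.Finite.of_basis (MonoidAlgebra.basis M S)
  have hf3 : Module.Finite S (S ⊗[R] C) := Module.Finite.equiv e1.symm.toLinearEquiv
  exact Module.Finite.of_finite_tensorProduct_of_faithfullyFlat S

end Groth.Agent.S6072
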