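import Groth.Statements.S6081
import Groth.Agent.Lib.Helper7.SerreFin
import Groth.Agent.Lib.Helper7.MultMat
import Groth.Agent.Lib.Helper7.CorepProj


set_option autoImplicit false
universe u
open TensorProduct
open SGA3

namespace Groth.Agent.S6081

/-- Let R be a Noetherian ring and A a commutative Hopf algebra over R which is flat and of finite type
as an R-algebra, so that G = Spec A is an affine flat R-group scheme of finite type. Suppose that
the pair (G, Spec R) has the equivariant resolution property: for every A-comodule F which is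
finitely generated as an R-module there are an A-comodule E which is finitely generated and
projective as an R-module and a surjective R-linear map E → F compatible with the coactions. Then
there are a natural number d and a d × d matrix (a_ij) of elements of A with Δ(a_ij) = Σ_l a_il ⊗
a_lj and ε(a_ij) = δ_ij (a matrix corepresentation, i.e. a homomorphism G → GL_{d,R}) whose
determinant is a unit, such that A is generated as an R-algebra by the entries a_ij together with
the inverse of det(a_ij): G is a closed subgroup scheme of GL_{d,R}. (The published statement is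
over a Noetherian scheme S, with G-equivariant coherent modules; this row is its assertion (ii), the
case S affine, in Hopf-algebra form.) -/
theorem result (R : Type u) [CommRing R] [IsNoetherianRing R]
    (A : Type u) [CommRing A] [HopfAlgebra R A] [Module.Flat R A] [Algebra.FiniteType R A]
    (hRE : ∀ (F : Type u) [AddCommGroup F] [Module R F] [HopfRep.Comod R A F] [Module.Finite R F],
      ∃ (E : Type u) (_ : AddCommGroup E) (_ : Module R E) (_ : HopfRep.Comod R A E) (π : E →ₗ[R] F),
        Module.Finite R E ∧ Module.Projective R E ∧ Function.Surjective π ∧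
        HopfRep.Comod.coact (k := R) (A := A) ∘ₗ π = π.rTensor A ∘ₗ HopfRep.Comod.coact (k := R) (A := A) (V := E)) :
    ∃ (d : ℕ) (a : Matrix (Fin d) (Fin d) A),
      (∀ i j, CoalgebraStruct.comul (R := R) (a i j) = ∑ l, a i l ⊗ₜ[R] a l j) ∧
      (∀ i j, CoalgebraStruct.counit (R := R) (a i j) = if i = j then 1 else 0) ∧
      ∃ u : A, u * a.det = 1 ∧ Algebra.adjoin R (Set.range (fun p : Fin d × Fin d => a p.1 p.2) ∪ {u}) = ⊤ := by
  classical
  obtain ⟨S, hS⟩ := (Algebra.FiniteType.out : (⊤ : Subalgebra R A).FG)
  obtain ⟨V, hfg, hSV, hV⟩ := Groth.Agent.Lib.Helper7.SerreFin.exists_fg_subcomodule (R := R) S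
  haveI : Module.Finite R V := Module.Finite.iff_fg.2 hfg
  letI cV : HopfRep.Comod R A V := ComodSub.Comod.restr (HopfRep.Comod.regular R A) V hV
  obtain ⟨E, iE1, iE2, iE3, π, hEf, hEp, hπ, hcompat⟩ := hRE V
  obtain ⟨n, f, g, -, -, hfg'⟩ := Module.Finite.exists_comp_eq_id_of_projective R E
  have hcoord : ∀ x : E,
      ∑ l, (LinearMap.proj l ∘ₗ g : E →ₗ[R] R) x • f (fun j => if l = j then 1 else 0) = x := by
    intro x
    have h := LinearMap.congr_fun hfg' x
    simp only [LinearMap.comp_apply, LinearMap.id_apply] at h
    conv_rhs => rw [← h]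
    rw [LinearMap.pi_apply_eq_sum_univ f (g x)]
    rfl
  set e : Fin n → E := fun l => f (fun j => if l = j then 1 else 0) with he
  set e' : Fin n → Module.Dual R E := fun l => LinearMap.proj l ∘ₗ g with he'
  set M : Matrix (Fin n) (Fin n) A := fun k j => Groth.Agent.Lib.Helper7.CorepProj.MM (A := A) e e' k j with hM
  set p : Matrix (Fin n) (Fin n) R := fun k j => e' k (e j) with hp
  obtain ⟨a, ha1, ha2, ⟨u, hu⟩, hadj⟩ :=
    Groth.Agent.Lib.Helper7.MultMat.exists_corep (R := R) (A := A) M.transpose p.transpose
      (fun k j => by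
        simp only [Matrix.transpose_apply, hM]
        exact Groth.Agent.Lib.Helper7.CorepProj.comul_MM e e' hcoord j k)
      (fun k j => by
        simp only [Matrix.transpose_apply, hM, hp]
        exact Groth.Agent.Lib.Helper7.CorepProj.counit_MM e e' j k)
      (fun k j => by
        simp only [Matrix.transpose_apply, hM, hp]
        exact Groth.Agent.Lib.Helper7.CorepProj.sum_smul_MM' e e' hcoord j k)
      (fun k j => by
        simp only [Matrix.transpose_apply, hM, hp]
        exact Groth.Agent.Lib.Helper7.CorepProj.sum_smul_MM e e' hcoord j k)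
  refine ⟨n, a, ha1, ha2, u, hu, ?_⟩
  rw [eq_top_iff, ← hS]
  apply Algebra.adjoin_le
  intro x hx
  have hxV : x ∈ V := hSV hx
  obtain ⟨y, hy⟩ := hπ ⟨x, hxV⟩
  -- x = (ε ∘ incl ∘ π ⊗ id)(ρ_E y)
  have hx1 : Groth.Agent.Lib.Helper7.CorepProj.co (A := A)
      (Coalgebra.counit (R := R) ∘ₗ V.subtype ∘ₗ π) y = x := by
    rw [Groth.Agent.Lib.Helper7.CorepProj.co_apply]
    have h1 := LinearMap.congr_fun hcompat y
    simp only [LinearMap.comp_apply] at h1
    rw [LinearMap.rTensor_comp, LinearMap.rTensor_comp, LinearMap.comp_apply, LinearMap.comp_apply,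
      ← h1, hy]
    have h2 := ComodSub.restr_coact_coe (HopfRep.Comod.regular R A) V hV ⟨x, hxV⟩
    change V.subtype.rTensor A (HopfRep.Comod.coact (k := R) (A := A) (⟨x, hxV⟩ : V)) = _ at h2
    rw [h2]
    change (TensorProduct.lid R A) ((Coalgebra.counit (R := R)).rTensor A (Coalgebra.comul (R := R) x)) = x
    rw [Coalgebra.rTensor_counit_comul, TensorProduct.lid_tmul, one_smul]
  have hmem := Groth.Agent.Lib.Helper7.CorepProj.co_mem_span (A := A) e e' hcoord
    (Coalgebra.counit (R := R) ∘ₗ V.subtype ∘ₗ π) y
  rw [hx1] at hmem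
  have hle : Submodule.span R (Set.range (fun q : Fin n × Fin n =>
      Groth.Agent.Lib.Helper7.CorepProj.MM (A := A) e e' q.1 q.2)) ≤
      Subalgebra.toSubmodule (Algebra.adjoin R
        (Set.range (fun p : Fin n × Fin n => a p.1 p.2) ∪ {u})) := by
    rw [Submodule.span_le]
    rintro _ ⟨q, rfl⟩
    exact Algebra.adjoin_mono Set.subset_union_left (hadj q.2 q.1)
  exact hle hmem

end Groth.Agent.S6081
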