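import Groth.Statements.S6082
import Groth.Agent.Lib.Helper7.CoResol


set_option autoImplicit false
universe u
open TensorProduct
open SGA3

namespace Groth.Agent.S6082

/-- Let R be a Noetherian regular ring of Krull dimension at most 2, C a (coassociative, counital)
R-coalgebra which is projective as an R-module, and F a right C-comodule which is finitely generated
as an R-module. Then F is a quotient of a C-comodule which is finitely generated and projective as
an R-module: there are such a comodule V and a surjective R-linear map V → F compatible with the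
coactions. -/
theorem result (R : Type u) [CommRing R] [IsRegularRing R]
    (hdim : ringKrullDim R ≤ 2) (C : Type u) [AddCommGroup C] [Module R C] [Coalgebra R C] [Module.Projective R C]
    (F : Type u) [AddCommGroup F] [Module R F] [HopfRep.Comod R C F] [Module.Finite R F] :
    ∃ (V : Type u) (_ : AddCommGroup V) (_ : Module R V) (_ : HopfRep.Comod R C V) (φ : V →ₗ[R] F),
      Module.Finite R V ∧ Module.Projective R V ∧ Function.Surjective φ ∧ HopfRep.Comod.coact (k := R) (A := C) ∘ₗ φ = φ.rTensor C ∘ₗ HopfRep.Comod.coact (k := R) (A := C) (V := V) := by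
  classical
  haveI : IsNoetherianRing R := inferInstance
  haveI : Module.Flat R C := inferInstance
  -- Round 1
  obtain ⟨n₀, u₀, hu₀⟩ := Module.Finite.exists_fin' R F
  obtain ⟨N₀, hfg₀, hNs₀, hNK₀, hsurj₀⟩ :=
    Groth.Agent.Lib.Helper7.CoResol.exists_fg_sub (R := R) (C := C) (F := F)
      (Groth.Agent.Lib.Helper7.CoResol.isComodHom_indMap (C := C) u₀)
      (Groth.Agent.Lib.Helper7.CoResol.indMap_surjective (C := C) u₀ hu₀)
  letI c₀ : HopfRep.Comod R C N₀ := ComodSub.Comod.restr _ N₀ hNs₀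
  have hw₀ := Groth.Agent.Lib.Helper7.CoResol.isComodHom_ww (R := R) (C := C) (F := F)
    (Groth.Agent.Lib.Helper7.CoResol.isComodHom_indMap (C := C) u₀) hNs₀ hNK₀
  haveI : Module.Finite R N₀ := Module.Finite.iff_fg.2 hfg₀
  haveI hproj₀ : Module.Projective R (Hoch.Ind R C (Fin n₀ → R)) :=
    inferInstanceAs (Module.Projective R ((Fin n₀ → R) ⊗[R] C))
  -- Round 2
  obtain ⟨n₁, u₁, hu₁⟩ := Module.Finite.exists_fin' R N₀
  haveI hproj₁ : Module.Projective R (Hoch.Ind R C (Fin n₁ → R)) :=
    inferInstanceAs (Module.Projective R ((Fin n₁ → R) ⊗[R] C))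
  obtain ⟨N₁, hfg₁, hNs₁, hNK₁, hsurj₁⟩ :=
    Groth.Agent.Lib.Helper7.CoResol.exists_fg_sub (R := R) (C := C) (F := N₀)
      (Groth.Agent.Lib.Helper7.CoResol.isComodHom_indMap (C := C) u₁)
      (Groth.Agent.Lib.Helper7.CoResol.indMap_surjective (C := C) u₁ hu₁)
  set P := Groth.Agent.Lib.Helper7.DAnn.cl N₁ with hP
  have hPfg : P.FG := Groth.Agent.Lib.Helper7.DAnn.cl_fg hfg₁
  have hPs : HopfRep.IsSubcomod (k := R) (A := C) P :=
    Groth.Agent.Lib.Helper7.ClSubcomod.isSubcomod_cl hNs₁
  have hj : Function.Injective (N₀.subtype.rTensor C) :=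
    Module.Flat.rTensor_preserves_injective_linearMap _ N₀.injective_subtype
  have hPK : P ≤ Groth.Agent.Lib.Helper7.CoResol.KK
      (Groth.Agent.Lib.Helper7.CoResol.indMap (C := C) u₁) := by
    rw [← Groth.Agent.Lib.Helper7.CoResol.cl_KK (R := R) (C := C) (F := N₀)
      (U := Groth.Agent.Lib.Helper7.CoResol.indMap (C := C) u₁) N₀.subtype hj]
    exact Groth.Agent.Lib.Helper7.DAnn.cl_mono hNK₁
  have hPcl : Groth.Agent.Lib.Helper7.DAnn.cl P = P := Groth.Agent.Lib.Helper7.DAnn.cl_cl N₁
  haveI : Module.Projective R P :=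
    Groth.Agent.Lib.Helper7.DAnn.projective_of_closed hdim P hPfg hPcl
  letI cP : HopfRep.Comod R C P := ComodSub.Comod.restr _ P hPs
  have hwP := Groth.Agent.Lib.Helper7.CoResol.isComodHom_ww (R := R) (C := C) (F := N₀)
    (Groth.Agent.Lib.Helper7.CoResol.isComodHom_indMap (C := C) u₁) hPs hPK
  have hsurjP : Function.Surjective (Groth.Agent.Lib.Helper7.CoResol.ww
      (U := Groth.Agent.Lib.Helper7.CoResol.indMap (C := C) u₁) P) := by
    intro f
    obtain ⟨y, hy⟩ := hsurj₁ f
    exact ⟨⟨y.1, Groth.Agent.Lib.Helper7.DAnn.le_cl N₁ y.2⟩, hy⟩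
  refine ⟨P, inferInstance, inferInstance, cP,
    Groth.Agent.Lib.Helper7.CoResol.ww (U := Groth.Agent.Lib.Helper7.CoResol.indMap (C := C) u₀) N₀ ∘ₗ
      Groth.Agent.Lib.Helper7.CoResol.ww
        (U := Groth.Agent.Lib.Helper7.CoResol.indMap (C := C) u₁) P,
    Module.Finite.iff_fg.2 hPfg, inferInstance, hsurj₀.comp hsurjP, ?_⟩
  exact Groth.Agent.Lib.Helper7.Comod.isComodHom_comp hw₀ hwP

end Groth.Agent.S6082
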