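import Groth.Statements.S6083
import Mathlib
import Groth.Agent.Lib.Helper6.PUO15
import Groth.Agent.Lib.Helper14.LfpOfComp
-- import your own Groth.Agent.* helpers here

set_option autoImplicit false
universe u
open CategoryTheory CategoryTheory.Limits MonoidalCategory CartesianMonoidalCategory MonObj GrpObj AlgebraicGeometry
open SGA3

namespace Groth.Agent.S6083

/-- Let f : X → S be a morphism locally of finite presentation, s a point of S, x a point of the fibre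
X_s = f⁻¹(s), n the local dimension of X_s at x, q : 𝔸^n_S → S the affine n-space over S and u : X →
𝔸^n_S a locally quasi-finite morphism with u q = f. Suppose that f is universally open at the
generic point z of an irreducible component Z of X_s which contains x and has dimension n. Then u is
universally open at x. -/
theorem result (X S : Scheme.{u}) (f : X ⟶ S) [LocallyOfFinitePresentation f]
    (s : S) (x : X) (hxs : f.base x = s) (n : ℕ)
    (u : X ⟶ 𝔸(ULift.{u} (Fin n); S)) [LocallyQuasiFinite u] (hu : u ≫ (𝔸(ULift.{u} (Fin n); S) ↘ S) = f)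
    (Z : Set ↥(f.base ⁻¹' {s})) (hZ : Z ∈ irreducibleComponents ↥(f.base ⁻¹' {s})) (hxZ : x ∈ (Subtype.val '' Z))
    (z : X) (hz : z ∈ Subtype.val '' Z ∧ Subtype.val '' Z ⊆ closure {z}) (hopen : EGA43.IsUnivOpenAt f z)
    (hdimZ : topologicalKrullDim ↥Z = n) (hdimx : FlatMor.localDim ↥(f.base ⁻¹' {s}) ⟨x, hxs⟩ = n) :
    EGA43.IsUnivOpenAt u x := by
  subst hu
  subst hxs
  haveI : LocallyOfFinitePresentation u :=
    Groth.Agent.Lib.Helper14.AS.locallyOfFinitePresentation_of_comp u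
      (𝔸(ULift.{u} (Fin n); S) ↘ S) inferInstance inferInstance
  haveI : LocallyOfFiniteType (u ≫ (𝔸(ULift.{u} (Fin n); S) ↘ S)) := inferInstance
  have hcard : Nat.card (ULift.{u} (Fin n)) = n := by simp
  obtain ⟨z', hz'Z, hz'⟩ := hz.1
  obtain ⟨x', hx'Z, hx'⟩ := hxZ
  have hzx : z ⤳ x := specializes_iff_mem_closure.mpr (hz.2 ⟨x', hx'Z, hx'⟩)
  have hfz : (u ≫ (𝔸(ULift.{u} (Fin n); S) ↘ S)) z = (u ≫ (𝔸(ULift.{u} (Fin n); S) ↘ S)) x := by
    rw [← hz']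
    exact z'.2
  have hind : Topology.IsInducing (Subtype.val :
      ↥((u ≫ (𝔸(ULift.{u} (Fin n); S) ↘ S)).base ⁻¹' {(u ≫ (𝔸(ULift.{u} (Fin n); S) ↘ S)).base x}) → X) :=
    Topology.IsInducing.subtypeVal
  have hZcl : IsClosed Z := isClosed_of_mem_irreducibleComponents Z hZ
  have hmem : ∀ t : X, ∀ ht : (u ≫ (𝔸(ULift.{u} (Fin n); S) ↘ S)) t =
      (u ≫ (𝔸(ULift.{u} (Fin n); S) ↘ S)) x, z ⤳ t →
      (⟨t, ht⟩ : ↥((u ≫ (𝔸(ULift.{u} (Fin n); S) ↘ S)).base ⁻¹'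
        {(u ≫ (𝔸(ULift.{u} (Fin n); S) ↘ S)).base x})) ∈ Z := by
    intro t ht hzt
    have h1 : z' ⤳ (⟨t, ht⟩ : ↥((u ≫ (𝔸(ULift.{u} (Fin n); S) ↘ S)).base ⁻¹'
        {(u ≫ (𝔸(ULift.{u} (Fin n); S) ↘ S)).base x})) := by
      rw [← hind.specializes_iff, hz']
      exact hzt
    exact hZcl.closure_subset_iff.mpr (Set.singleton_subset_iff.mpr hz'Z) h1.mem_closure
  have hzmax : ∀ τ : X, τ ⤳ z → (u ≫ (𝔸(ULift.{u} (Fin n); S) ↘ S)) τ =
      (u ≫ (𝔸(ULift.{u} (Fin n); S) ↘ S)) z → τ = z := by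
    intro τ hτ hfτ
    have hsub : Z ⊆ closure {(⟨τ, hfτ.trans hfz⟩ : ↥((u ≫ (𝔸(ULift.{u} (Fin n); S) ↘ S)).base ⁻¹'
        {(u ≫ (𝔸(ULift.{u} (Fin n); S) ↘ S)).base x}))} := by
      intro w hw
      have h1 : z ⤳ w.val := specializes_iff_mem_closure.mpr (hz.2 ⟨w, hw, rfl⟩)
      have h2 : (⟨τ, hfτ.trans hfz⟩ : ↥((u ≫ (𝔸(ULift.{u} (Fin n); S) ↘ S)).base ⁻¹'
        {(u ≫ (𝔸(ULift.{u} (Fin n); S) ↘ S)).base x})) ⤳ w := by
        rw [← hind.specializes_iff]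
        exact hτ.trans h1
      exact h2.mem_closure
    have heq := hZ.eq_of_ge isIrreducible_singleton.closure hsub
    have hτZ : (⟨τ, hfτ.trans hfz⟩ : ↥((u ≫ (𝔸(ULift.{u} (Fin n); S) ↘ S)).base ⁻¹'
        {(u ≫ (𝔸(ULift.{u} (Fin n); S) ↘ S)).base x})) ∈ Z := by
      rw [← heq]
      exact subset_closure rfl
    have h3 : z ⤳ τ := specializes_iff_mem_closure.mpr (hz.2 ⟨_, hτZ, rfl⟩)
    exact (hτ.antisymm h3).eq
  obtain ⟨m, hm⟩ := Groth.Agent.Lib.Helper21.FibDim.exists_nat_trdeg_residueFieldMap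
    (u ≫ (𝔸(ULift.{u} (Fin n); S) ↘ S)) z
  have hdim := Groth.Agent.Lib.Helper21.OpenAt.topologicalKrullDim_closure_inter_fiber
    (u ≫ (𝔸(ULift.{u} (Fin n); S) ↘ S)) z m hm
  have hset : Subtype.val '' Z = closure ({z} : Set X) ∩
      (u ≫ (𝔸(ULift.{u} (Fin n); S) ↘ S)).base ⁻¹' {(u ≫ (𝔸(ULift.{u} (Fin n); S) ↘ S)) z} := by
    ext t
    constructor
    · rintro ⟨w, hw, rfl⟩
      exact ⟨hz.2 ⟨w, hw, rfl⟩, w.2.trans hfz.symm⟩
    · rintro ⟨ht1, ht2⟩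
      exact ⟨⟨t, ht2.trans hfz⟩, hmem t (ht2.trans hfz) (specializes_iff_mem_closure.mpr ht1), rfl⟩
  have hhom := IsHomeomorph.topologicalKrullDim_eq _
    (Topology.IsEmbedding.subtypeVal.homeomorphImage Z).isHomeomorph
  rw [hset, hdim, hdimZ] at hhom
  have hmn : m = n := by exact_mod_cast hhom.symm
  subst hmn
  refine Groth.Agent.Lib.Helper6.PUO.isUnivOpenAt_of_lqf_affineSpace (ULift.{u} (Fin m)) u x z hzx hfz
    hzmax ?_ hopen
  unfold Groth.Agent.Lib.Helper6.QFac.rtd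
  rw [hm, hcard]

end Groth.Agent.S6083
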