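import Groth.Statements.S6085
-- import your own Groth.Agent.* helpers here
import Groth.Agent.Lib.Helper12.GrpLim8

set_option autoImplicit false
universe u
open CategoryTheory CategoryTheory.Limits MonoidalCategory CartesianMonoidalCategory MonObj GrpObj AlgebraicGeometry
open SGA3

namespace Groth.Agent.S6085

open Groth.Agent.Lib.Helper12.H12GrpLim

/-- Let S be the limit of a cofiltered system (S_i) of quasi-compact quasi-separated schemes with affine
transition morphisms, and let G be an S-group scheme of finite presentation over S. Then there are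
an index j, an S_j-group scheme G_j of finite presentation over S_j and an isomorphism of S-group
schemes (an isomorphism over S which is a homomorphism) from G to G_j ×_{S_j} S. (The published
setting takes all S_i affine over a fixed quasi-compact quasi-separated S_0; this row allows any
cofiltered system of quasi-compact quasi-separated schemes with affine transition morphisms.) -/
theorem result {I : Type u} [SmallCategory I] [IsCofiltered I]
    (D : I ⥤ Scheme.{u}) (c : Limits.Cone D) (hc : Limits.IsLimit c)
    [∀ (i i' : I) (f : i ⟶ i'), IsAffineHom (D.map f)] [∀ i, CompactSpace (D.obj i)] [∀ i, QuasiSeparatedSpace (D.obj i)]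
    (G : Over c.pt) [GrpObj G] [LocallyOfFinitePresentation G.hom] [QuasiCompact G.hom] [QuasiSeparated G.hom] :
    ∃ (j : I) (Gj : Over (D.obj j)) (_ : GrpObj Gj) (e : G ≅ Red.bc (c.π.app j) Gj),
      IsMonHom e.hom ∧ LocallyOfFinitePresentation Gj.hom ∧ QuasiCompact Gj.hom ∧ QuasiSeparated Gj.hom := by
  obtain ⟨j, G₁, v₁, q, hlfp, hqc, hqs, hpb⟩ := Groth.Agent.S0591.result D c hc G.left G.hom
  let A : Over (D.obj j) := Over.mk v₁
  haveI : LocallyOfFinitePresentation A.hom := hlfp
  haveI : QuasiCompact A.hom := hqc
  haveI : QuasiSeparated A.hom := hqs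
  let e₁ : G ≅ Red.bc (c.π.app j) A := Over.isoMk hpb.isoPullback (by
    change hpb.isoPullback.hom ≫ pullback.snd v₁ (c.π.app j) = G.hom
    exact hpb.isoPullback_hom_snd)
  letI M : GrpObj (Red.bc (c.π.app j) A) := GrpObj.ofIso e₁
  haveI he₁ : IsMonHom e₁.hom := isMonHom_ofIso e₁
  obtain ⟨i, B, q', hq', t, hHom, h1, h2, h3⟩ := exists_grp_stage D c hc A
  letI MB : GrpObj B := q'.toGrpObj hq'
  haveI ht : IsMonHom t.hom := ⟨hHom.e, hHom.m⟩
  refine ⟨i, B, MB, e₁ ≪≫ t.symm, ?_, h1, h2, h3⟩
  haveI : IsMonHom t.symm.hom := inferInstanceAs (IsMonHom t.inv)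
  exact inferInstanceAs (IsMonHom (e₁.hom ≫ t.symm.hom))

end Groth.Agent.S6085
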