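import Groth.Statements.S6120
-- import your own Groth.Agent.* helpers here

set_option autoImplicit false
open CategoryTheory CategoryTheory.Limits Opposite
universe w v₁ v₂ u₁ u₂
open SGA4

namespace Groth.Agent.S6120

section aux

variable {I : Type u₁} [Category.{v₁} I] {C : Type u₂} [Category.{v₂} C] {A : Type w} (i : A → I)
    [∀ α β, HasBinaryProduct (i α) (i β)]
    (F : Iᵒᵖ ⥤ C)
    [HasProduct (fun α => F.obj (op (i α)))]
    [HasProduct (fun p : A × A => F.obj (op (i p.1 ⨯ i p.2)))]

/-- first map to the double product -/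
noncomputable abbrev p₁ : ∏ᶜ (fun α => F.obj (op (i α))) ⟶ ∏ᶜ (fun p : A × A => F.obj (op (i p.1 ⨯ i p.2))) :=
  Pi.lift (fun p : A × A =>
    Pi.π (fun α => F.obj (op (i α))) p.1 ≫ F.map (prod.fst : i p.1 ⨯ i p.2 ⟶ i p.1).op)

/-- second map to the double product -/
noncomputable abbrev p₂ : ∏ᶜ (fun α => F.obj (op (i α))) ⟶ ∏ᶜ (fun p : A × A => F.obj (op (i p.1 ⨯ i p.2))) :=
  Pi.lift (fun p : A × A =>
    Pi.π (fun α => F.obj (op (i α))) p.2 ≫ F.map (prod.snd : i p.1 ⨯ i p.2 ⟶ i p.2).op)

lemma key {T : C} (t : T ⟶ ∏ᶜ (fun α => F.obj (op (i α)))) (ht : t ≫ p₁ i F = t ≫ p₂ i F)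
    {j : I} {α β : A} (m : j ⟶ i α) (m' : j ⟶ i β) :
    t ≫ Pi.π (fun α => F.obj (op (i α))) α ≫ F.map m.op =
      t ≫ Pi.π (fun α => F.obj (op (i α))) β ≫ F.map m'.op := by
  have h1 := congr($ht ≫ Pi.π (fun p : A × A => F.obj (op (i p.1 ⨯ i p.2))) (α, β))
  simp only [Category.assoc, Pi.lift_π] at h1
  have h2 := congr($h1 ≫ F.map (prod.lift m m').op)
  simp only [Category.assoc, ← F.map_comp, ← op_comp, prod.lift_fst, prod.lift_snd] at h2
  exact h2

/-- the cone attached to an equalizing map -/
noncomputable def coneOf (a : I → A) (m : ∀ j, j ⟶ i (a j)) {T : C}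
    (t : T ⟶ ∏ᶜ (fun α => F.obj (op (i α)))) (ht : t ≫ p₁ i F = t ≫ p₂ i F) : Cone F where
  pt := T
  π :=
    { app := fun j => t ≫ Pi.π (fun α => F.obj (op (i α))) (a j.unop) ≫ F.map (m j.unop).op
      naturality := by
        intro j j' h
        simp only [Functor.const_obj_obj, Functor.const_obj_map, Category.id_comp, Category.assoc]
        rw [← F.map_comp]
        exact key i F t ht (m j'.unop) (h.unop ≫ m j.unop) }

end aux

/-- Let `I` be a category with a family of objects `i α` (`α : A`) such that every binary product `i α ⨯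
i β` exists in `I` and every object of `I` admits a morphism to some `i α`. Let `F : Iᵒᵖ ⥤ C` be a
functor, and assume that `C` has equalizers and that the products `∏ F (i α)` and `∏ F (i α ⨯ i β)`
exist in `C`. Then the limit of `F` exists, the canonical map `lim F ⟶ ∏ F (i α)` is a monomorphism,
and a map `t : T ⟶ ∏ F (i α)` factors through `lim F` exactly when its composites with the two maps
`∏ F (i α) ⇉ ∏ F (i α ⨯ i β)` induced by the two projections agree: `lim F` is the equalizer of that
pair. (The published statement assumes that `C` has all limits of the size of `A`; only equalizers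
and the two products named are assumed here, which is what the equalizer construction uses.) -/

theorem result
    {I : Type u₁} [Category.{v₁} I] {C : Type u₂} [Category.{v₂} C] {A : Type w} (i : A → I)
    [∀ α β, HasBinaryProduct (i α) (i β)]
    (hcov : ∀ j : I, ∃ α, Nonempty (j ⟶ i α))
    (F : Iᵒᵖ ⥤ C) [HasEqualizers C]
    [HasProduct (fun α => F.obj (op (i α)))]
    [HasProduct (fun p : A × A => F.obj (op (i p.1 ⨯ i p.2)))] :
    HasLimit F ∧ ∀ [HasLimit F],
      Mono (Pi.lift (fun α => limit.π F (op (i α)))) ∧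
      ∀ (T : C) (t : T ⟶ ∏ᶜ (fun α => F.obj (op (i α)))),
        (∃ s : T ⟶ limit F, s ≫ Pi.lift (fun α => limit.π F (op (i α))) = t) ↔
        t ≫ Pi.lift (fun p : A × A =>
            Pi.π (fun α => F.obj (op (i α))) p.1 ≫ F.map (prod.fst : i p.1 ⨯ i p.2 ⟶ i p.1).op) =
        t ≫ Pi.lift (fun p : A × A =>
            Pi.π (fun α => F.obj (op (i α))) p.2 ≫ F.map (prod.snd : i p.1 ⨯ i p.2 ⟶ i p.2).op) := by
  classical
  choose a ha using hcov
  let m : ∀ j, j ⟶ i (a j) := fun j => (ha j).some
  have hlim : HasLimit F := by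
    refine ⟨⟨⟨coneOf i F a m (equalizer.ι (p₁ i F) (p₂ i F)) (equalizer.condition _ _), ?_⟩⟩⟩
    refine
      { lift := fun s => equalizer.lift (Pi.lift fun α => s.π.app (op (i α))) ?_
        fac := ?_
        uniq := ?_ }
    · apply Pi.hom_ext
      intro p
      simp only [Category.assoc, Pi.lift_π, Pi.lift_π_assoc]
      rw [s.w, s.w]
    · intro s j
      simp only [coneOf, equalizer.lift_ι_assoc, Pi.lift_π_assoc]
      exact s.w (m j.unop).op
    · intro s l hl
      apply equalizer.hom_ext
      rw [equalizer.lift_ι]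
      apply Pi.hom_ext
      intro α
      rw [Pi.lift_π, ← hl (op (i α))]
      simp only [coneOf, Category.assoc]
      have hc : (l ≫ equalizer.ι (p₁ i F) (p₂ i F)) ≫ p₁ i F =
          (l ≫ equalizer.ι (p₁ i F) (p₂ i F)) ≫ p₂ i F := by
        rw [Category.assoc, Category.assoc]
        exact congrArg (l ≫ ·) (equalizer.condition _ _)
      have hk := key i F (l ≫ equalizer.ι (p₁ i F) (p₂ i F)) hc (𝟙 (i α)) (m (i α))
      simp only [op_id, F.map_id, Category.comp_id, Category.assoc] at hk
      exact hk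
  refine ⟨hlim, ?_⟩
  intro _
  refine ⟨⟨fun {T} x y hxy => ?_⟩, fun T t => ⟨?_, ?_⟩⟩
  · apply limit.hom_ext
    intro j
    have h1 := congr($hxy ≫ Pi.π (fun α => F.obj (op (i α))) (a j.unop))
    simp only [Category.assoc, Pi.lift_π] at h1
    rw [← limit.w F (m j.unop).op, reassoc_of% h1]
  · rintro ⟨s, rfl⟩
    apply Pi.hom_ext
    intro p
    simp only [Category.assoc, Pi.lift_π, Pi.lift_π_assoc, limit.w]
  · intro ht
    refine ⟨limit.lift F (coneOf i F a m t ht), ?_⟩
    apply Pi.hom_ext
    intro α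
    rw [Category.assoc, Pi.lift_π]
    refine (limit.lift_π (coneOf i F a m t ht) (op (i α))).trans ?_
    have hk := key i F t ht (𝟙 (i α)) (m (i α))
    simp only [op_id, F.map_id, Category.comp_id] at hk
    exact hk.symm

end Groth.Agent.S6120
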