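import Groth.Statements.S6121
-- import your own Groth.Agent.* helpers here

set_option autoImplicit false
open CategoryTheory
universe v₁ v₂ u₁ u₂
open SGA4

namespace Groth.Agent.S6121

/-- For a fibered functor `p : E ⥤ B` (every morphism of `B` has a cartesian lift with prescribed
codomain, and cartesian morphisms compose), `p` reflects isomorphisms if and only if every fibre
category of `p` (objects over `b`, morphisms lying over the identity of `b`) is a groupoid. -/
theorem result
    {B : Type u₁} [Category.{v₁} B] {E : Type u₂} [Category.{v₂} E] (p : E ⥤ B) [p.IsFibered] :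
    p.ReflectsIsomorphisms ↔ ∀ b : B, IsGroupoid (p.Fiber b) := by
  constructor
  · intro hp b
    refine ⟨fun {x y} φ => ?_⟩
    have h1 : p.IsHomLift (𝟙 b) φ.1 := φ.2
    have h2 : IsIso (p.map φ.1) := by
      rw [IsHomLift.fac' p (𝟙 b) φ.1]
      infer_instance
    have h3 : IsIso φ.1 := isIso_of_reflects_iso φ.1 p
    have h4 : p.IsHomLift (𝟙 b) (inv φ.1) := inferInstance
    refine ⟨⟨⟨inv φ.1, h4⟩, ?_, ?_⟩⟩
    · apply Subtype.ext
      exact IsIso.hom_inv_id φ.1
    · apply Subtype.ext
      exact IsIso.inv_hom_id φ.1
  · intro hgpd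
    refine ⟨fun {a a'} f hf => ?_⟩
    let g := p.map f
    let χ := Functor.IsPreFibered.pullbackMap (p := p) (a := a') rfl g
    have hχ : IsIso χ := Functor.IsStronglyCartesian.isIso_of_base_isIso p g χ
    let τ := Functor.IsCartesian.map p g χ f
    have h1 : τ ≫ χ = f := Functor.IsCartesian.fac p g χ f
    have := hgpd (p.obj a)
    have h2 : IsIso (Functor.Fiber.homMk p (p.obj a) τ) := inferInstance
    have h3 : IsIso (Functor.Fiber.fiberInclusion.map (Functor.Fiber.homMk p (p.obj a) τ)) :=
      inferInstance
    rw [Functor.Fiber.fiberInclusion_homMk] at h3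
    rw [← h1]
    exact IsIso.comp_isIso' h3 hχ

end Groth.Agent.S6121
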