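import Groth.Statements.S6122
-- import your own Groth.Agent.* helpers here

set_option autoImplicit false
open CategoryTheory
universe v₁ v₂ u₁ u₂
open SGA4

namespace Groth.Agent.S6122

/-- For a fibered functor `p : E ⥤ B` (every morphism of `B` has a cartesian lift with prescribed
codomain, and cartesian morphisms compose), `p` is faithful if and only if every fibre category of
`p` (objects over `b`, morphisms lying over the identity of `b`) has at most one morphism between
any two objects. -/
theorem result
    {B : Type u₁} [Category.{v₁} B] {E : Type u₂} [Category.{v₂} E] (p : E ⥤ B) [p.IsFibered] :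
    p.Faithful ↔ ∀ (b : B) (x y : p.Fiber b), Subsingleton (x ⟶ y) := by
  constructor
  · intro hp b x y
    refine ⟨fun φ ψ => ?_⟩
    apply Subtype.ext
    apply p.map_injective
    have h1 := φ.2
    have h2 := ψ.2
    rw [IsHomLift.fac' p (𝟙 b) φ.1, IsHomLift.fac' p (𝟙 b) ψ.1]
  · intro hsub
    refine ⟨fun {a a'} φ ψ hφψ => ?_⟩
    let f := p.map φ
    let χ := Functor.IsPreFibered.pullbackMap (p := p) (a := a') rfl f
    have hψ : p.IsHomLift f ψ := by
      change p.IsHomLift (p.map φ) ψ
      rw [hφψ]
      infer_instance
    let τφ := Functor.IsCartesian.map p f χ φ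
    let τψ := Functor.IsCartesian.map p f χ ψ
    have h1 : τφ ≫ χ = φ := Functor.IsCartesian.fac p f χ φ
    have h2 : τψ ≫ χ = ψ := Functor.IsCartesian.fac p f χ ψ
    have h3 := (hsub (p.obj a) _ _).elim (Functor.Fiber.homMk p (p.obj a) τφ)
      (Functor.Fiber.homMk p (p.obj a) τψ)
    have h4 : τφ = τψ := congrArg Subtype.val h3
    rw [← h1, ← h2, h4]

end Groth.Agent.S6122
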