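import Groth.Statements.S6123
import Mathlib.CategoryTheory.Limits.Shapes.Diagonal
import Mathlib.CategoryTheory.Limits.EpiMono
import Mathlib.CategoryTheory.Limits.Preserves.Shapes.Pullbacks
-- import your own Groth.Agent.* helpers here

set_option autoImplicit false
open CategoryTheory CategoryTheory.Limits Opposite
universe w v₁ v₂ u₁ u₂
open SGA4

namespace Groth.Agent.S6123

/-- For a single functor. Let `E` have pullbacks and let `φ : E ⥤ F` preserve them. If every
monomorphism `u` of `E` with `φ u` invertible is invertible, then `φ` reflects all isomorphisms. -/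
theorem result
    {E : Type u₁} [Category.{v₁} E] {F : Type u₂} [Category.{v₂} F] (φ : E ⥤ F)
    [HasPullbacks E] [PreservesLimitsOfShape WalkingCospan φ]
    (h : ∀ ⦃X Y : E⦄ (u : X ⟶ Y), Mono u → IsIso (φ.map u) → IsIso u) :
    φ.ReflectsIsomorphisms := by
  refine ⟨fun {X Y} f hf => ?_⟩
  have hmono : Mono f := by
    rw [← pullback.isIso_diagonal_iff]
    apply h _ inferInstance
    have hc := pullbackIsPullback f f
    have hfst : IsIso (φ.map (pullback.fst f f)) :=
      (mono_iff_isIso_fst ((isLimitMapConePullbackConeEquiv φ pullback.condition).1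
        (isLimitOfPreserves φ hc))).1 inferInstance
    have h1 : φ.map (pullback.diagonal f) ≫ φ.map (pullback.fst f f) = 𝟙 _ := by
      rw [← φ.map_comp, pullback.diagonal_fst, φ.map_id]
    have h2 : φ.map (pullback.diagonal f) = inv (φ.map (pullback.fst f f)) := by
      rw [← Category.comp_id (φ.map (pullback.diagonal f)), ← IsIso.hom_inv_id (φ.map (pullback.fst f f)),
        ← Category.assoc, h1, Category.id_comp]
    rw [h2]
    infer_instance
  exact h f hmono hf

end Groth.Agent.S6123
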