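import Groth.Statements.S6124
import Mathlib.CategoryTheory.Limits.Shapes.Diagonal
import Mathlib.CategoryTheory.Limits.EpiMono
import Mathlib.CategoryTheory.Limits.Preserves.Shapes.Pullbacks
import Mathlib.CategoryTheory.Limits.Shapes.Pullback.IsPullback.Basic
-- import your own Groth.Agent.* helpers here

set_option autoImplicit false
open CategoryTheory CategoryTheory.Limits Opposite
universe w v₁ v₂ u₁ u₂
open SGA4

namespace Groth.Agent.S6124

/-- Let `E` have pullbacks, let `P` be a detecting family of objects of `E` (a morphism `f` is
invertible as soon as every map out of an object of `P` factors uniquely through `f`), and let `φ i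
: E ⥤ E' i` be functors preserving pullbacks. Then the `φ i` jointly reflect isomorphisms if and
only if, for every `X` with `P X` and every subobject `X'` of `X` other than `⊤`, some `φ i` takes
the inclusion `X' ⟶ X` to a morphism that is not invertible. -/
theorem result
    {E : Type u₁} [Category.{v₁} E] [HasPullbacks E] (P : ObjectProperty E) (hP : P.IsDetecting)
    {κ : Type w} {E' : κ → Type u₂} [∀ k, Category.{v₂} (E' k)] (φ : ∀ k, E ⥤ E' k)
    [∀ k, PreservesLimitsOfShape WalkingCospan (φ k)] :
    (∀ ⦃X Y : E⦄ (f : X ⟶ Y), (∀ k, IsIso ((φ k).map f)) → IsIso f) ↔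
      ∀ (X : E), P X → ∀ (X' : Subobject X), X' ≠ ⊤ → ∃ k, ¬ IsIso ((φ k).map X'.arrow) := by
  constructor
  · intro hreflect X _ X' hne
    by_contra hall
    push Not at hall
    have := hreflect X'.arrow hall
    exact hne (Subobject.eq_top_of_isIso_arrow X')
  · intro hsub
    -- Step A: the case of monomorphisms
    have stepA : ∀ ⦃X Y : E⦄ (m : X ⟶ Y), Mono m → (∀ k, IsIso ((φ k).map m)) → IsIso m := by
      intro X Y m hm hiso
      apply hP
      intro G hG g
      have hpb := IsPullback.of_hasPullback m g
      have hm' : IsIso (pullback.snd m g) := by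
        rw [Subobject.isIso_iff_mk_eq_top]
        by_contra hne
        obtain ⟨k, hk⟩ := hsub G hG _ hne
        apply hk
        have h1 : IsIso ((φ k).map (pullback.snd m g)) :=
          (hpb.map (φ k)).isIso_snd_of_isIso (hiso k)
        rw [← Subobject.underlyingIso_hom_comp_eq_mk, Functor.map_comp]
        infer_instance
      refine ⟨inv (pullback.snd m g) ≫ pullback.fst m g, ?_, ?_⟩
      · change (inv (pullback.snd m g) ≫ pullback.fst m g) ≫ m = g
        rw [Category.assoc, pullback.condition, IsIso.inv_hom_id_assoc]
      · intro y hy
        rw [← cancel_mono m]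
        change y ≫ m = g at hy
        rw [hy, Category.assoc, pullback.condition, IsIso.inv_hom_id_assoc]
    intro X Y f hf
    have hmono : Mono f := by
      rw [← pullback.isIso_diagonal_iff]
      apply stepA _ inferInstance
      intro k
      have hc := pullbackIsPullback f f
      have hfst : IsIso ((φ k).map (pullback.fst f f)) :=
        (mono_iff_isIso_fst ((isLimitMapConePullbackConeEquiv (φ k) pullback.condition).1
          (isLimitOfPreserves (φ k) hc))).1 (by have := hf k; infer_instance)
      have h1 : (φ k).map (pullback.diagonal f) ≫ (φ k).map (pullback.fst f f) = 𝟙 _ := by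
        rw [← (φ k).map_comp, pullback.diagonal_fst, (φ k).map_id]
      have h2 : (φ k).map (pullback.diagonal f) = inv ((φ k).map (pullback.fst f f)) := by
        rw [← Category.comp_id ((φ k).map (pullback.diagonal f)),
          ← IsIso.hom_inv_id ((φ k).map (pullback.fst f f)),
          ← Category.assoc, h1, Category.id_comp]
      rw [h2]
      infer_instance
    exact stepA f hmono hf

end Groth.Agent.S6124
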