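import Groth.Statements.S6131
-- import your own Groth.Agent.* helpers here

set_option autoImplicit false
open CategoryTheory CategoryTheory.Limits
universe u
open SGA4

namespace Groth.Agent.S6131

/-- For a small site `(C, J)` and an object `X` of `C`, the sheaf associated to the presheaf represented
by `X` is an initial object of the category of sheaves of sets if and only if the empty sieve covers
`X`. -/
theorem result
    {C : Type u} [SmallCategory C] (J : GrothendieckTopology C) (X : C) :
    Nonempty (IsInitial ((presheafToSheaf J (Type u)).obj (yoneda.obj X))) ↔ (⊥ : Sieve X) ∈ J X := by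
  constructor
  · rintro ⟨hI⟩
    -- the sheaf `Y ↦ (⊥ ∈ J Y)`
    let F₀ : Cᵒᵖ ⥤ Type u :=
      { obj := fun Y => ULift.{u} (PLift ((⊥ : Sieve Y.unop) ∈ J Y.unop))
        map := fun {Y Z} f => ↾(fun h => ⟨⟨by
          have := J.pullback_stable f.unop h.down.down
          rwa [Sieve.pullback_bot] at this⟩⟩)
        map_id := fun Y => by ext; rfl
        map_comp := fun f g => by ext; rfl }
    have hF₀ : Presheaf.IsSheaf J F₀ := by
      rw [isSheaf_iff_isSheaf_of_type]
      intro Y S hS x _
      have hbot : (⊥ : Sieve Y) ∈ J Y := by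
        refine J.transitive hS ⊥ fun Z f hf => ?_
        rw [Sieve.pullback_bot]
        exact (x f hf).down.down
      refine ⟨⟨⟨hbot⟩⟩, ?_, ?_⟩
      · intro Z f hf
        exact Subsingleton.elim _ _
      · intro y _
        exact Subsingleton.elim _ _
    let G₀ : Sheaf J (Type u) := ⟨F₀, hF₀⟩
    have f : (presheafToSheaf J (Type u)).obj (yoneda.obj X) ⟶ G₀ := hI.to G₀
    have g : yoneda.obj X ⟶ F₀ := ((sheafificationAdjunction J (Type u)).homEquiv _ _) f
    exact (yonedaEquiv g).down.down
  · intro hbot
    have huniq : ∀ G : Sheaf J (Type u), Nonempty (Unique (G.obj.obj (Opposite.op X))) := by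
      intro G
      have hG : Presieve.IsSheaf J G.obj := (isSheaf_iff_isSheaf_of_type J G.obj).mp G.property
      have h1 := hG (⊥ : Sieve X) hbot
      obtain ⟨t, -, ht⟩ := h1 (fun _ _ hf => False.elim hf) (fun _ _ _ _ _ _ _ h₁ => False.elim h₁)
      exact ⟨
        { default := t
          uniq := fun y => ht y (fun _ _ hf => False.elim hf) }⟩
    have : ∀ G : Sheaf J (Type u), Unique ((presheafToSheaf J (Type u)).obj (yoneda.obj X) ⟶ G) := by
      intro G
      have hU : Unique (((sheafToPresheaf J (Type u)).obj G).obj (Opposite.op X)) := (huniq G).some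
      exact (((sheafificationAdjunction J (Type u)).homEquiv _ _).trans yonedaEquiv).unique
    exact ⟨IsInitial.ofUnique _⟩

end Groth.Agent.S6131
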