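import Groth.Statements.S6132
import Mathlib
import Groth.Agent.Lib.Lead.ToposFinSite2
open Groth.Agent.Lib.Lead.ToposFin Opposite

set_option autoImplicit false
open CategoryTheory CategoryTheory.Limits
universe u
open SGA4

namespace Groth.Agent.S6132

open ToposFin in
theorem key {C : Type u} [SmallCategory C] (J : GrothendieckTopology C) {X : C} {ι : Type u}
    (Y : ι → C) (s : ∀ i, Y i ⟶ X) [∀ (i : ι) (Z : C) (g : Z ⟶ X), HasPullback (s i) g]
    (hcov : Sieve.ofArrows Y s ∈ J X) (hmono : ∀ i, Mono (s i))
    (hdisj : ∀ i j, i ≠ j → (⊥ : Sieve (pullback (s i) (s j))) ∈ J (pullback (s i) (s j)))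
    (Z : Sh J) (x : ∀ i, Z.obj.obj (op (Y i))) :
    ∃! z : Z.obj.obj (op X), ∀ i, Z.obj.map (s i).op z = x i := by
  classical
  have hZ := (isSheaf_iff_isSheaf_of_type _ _).1 Z.2
  have h_sheaf : Presieve.IsSheafFor Z.obj (Presieve.ofArrows Y s) :=
    (Presieve.isSheafFor_iff_generate _).2 (hZ _ hcov)
  refine (Presieve.isSheafFor_arrows_iff _ _).1 h_sheaf x ?_
  intro i j W gi gj w
  by_cases hij : i = j
  · subst hij
    have := hmono i
    have : gi = gj := (cancel_mono (s i)).1 w
    rw [this]
  · let l : W ⟶ pullback (s i) (s j) := pullback.lift gi gj w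
    have hmem := J.pullback_stable l (hdisj i j hij)
    exact (hZ.isSeparated _ hmem).ext (fun V g hg => False.elim hg)


/-- Let `(C, J)` be a small site, `X` an object and `s i : Y i ⟶ X` a family of morphisms all of whose
base changes exist in `C`. If the family is covering, every `s i` is a monomorphism, and for `i ≠ j`
the fibre product `Y i ×_X Y j` is covered by the empty sieve, then the associated sheaf of `X`,
with the maps induced by the `s i`, is a coproduct of the associated sheaves of the `Y i` in the
category of sheaves of sets. -/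
theorem result
    {C : Type u} [SmallCategory C] (J : GrothendieckTopology C) {X : C} {ι : Type u}
    (Y : ι → C) (s : ∀ i, Y i ⟶ X) [∀ (i : ι) (Z : C) (g : Z ⟶ X), HasPullback (s i) g]
    (hcov : Sieve.ofArrows Y s ∈ J X) (hmono : ∀ i, Mono (s i))
    (hdisj : ∀ i j, i ≠ j → (⊥ : Sieve (pullback (s i) (s j))) ∈ J (pullback (s i) (s j))) :
    Nonempty (IsColimit (Cofan.mk ((presheafToSheaf J (Type u)).obj (yoneda.obj X))
      (fun i => (presheafToSheaf J (Type u)).map (yoneda.map (s i))))) := by
  have hkey := fun (t : Cofan (fun i => (presheafToSheaf J (Type u)).obj (yoneda.obj (Y i)))) =>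
    key J Y s hcov hmono hdisj t.pt (fun i => (t.inj i).hom.app _ (unitSec J (𝟙 (Y i))))
  refine ⟨Cofan.IsColimit.mk _ (fun t => secMap (Classical.choose (hkey t))) ?_ ?_⟩
  · intro t j
    have hz := (Classical.choose_spec (hkey t)).1 j
    apply eps_hom_ext
    show (secMap (Classical.choose (hkey t))).hom.app _
      ((epsMap J (s j)).hom.app _ (unitSec J (𝟙 (Y j)))) = _
    rw [epsMap_unitSec, secMap_unitSec, Category.id_comp]
    exact hz
  · intro t m hm
    apply eps_hom_ext
    rw [secMap_unitSec]
    simp only [op_id, Functor.map_id_apply]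
    refine (Classical.choose_spec (hkey t)).2 _ (fun i => ?_)
    have h1 := NatTrans.naturality_apply m.hom (s i).op (unitSec J (𝟙 X))
    have h2 := congrArg (fun φ => φ.hom.app (op (Y i)) (unitSec J (𝟙 (Y i)))) (hm i)
    have h3 : (epsMap J (s i)).hom.app _ (unitSec J (𝟙 (Y i))) =
        (ToposFin.eps J X).obj.map (s i).op (unitSec J (𝟙 X)) := by
      rw [epsMap_unitSec, unitSec_map, Category.id_comp, Category.comp_id]
    exact h1.symm.trans ((congrArg (m.hom.app (op (Y i))) h3.symm).trans h2)

end Groth.Agent.S6132
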