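import Groth.Statements.S6134
-- import your own Groth.Agent.* helpers here

set_option autoImplicit false
open CategoryTheory CategoryTheory.Limits
universe u
open SGA4

namespace Groth.Agent.S6134

/-- Let `C` be a small category with topologies `J ≤ J'` (every `J`-covering sieve is `J'`-covering),
`X` an object and `s i : Y i ⟶ X` a family of morphisms. If the associated `J`-sheaf of the presheaf
represented by `X`, with the maps induced by the `s i`, is a coproduct of the associated `J`-sheaves
of the `Y i` (in sheaves of sets), then the same holds for `J'`. -/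
theorem result
    {C : Type u} [SmallCategory C] {J J' : GrothendieckTopology C} (hJ : J ≤ J')
    {X : C} {ι : Type u} (Y : ι → C) (s : ∀ i, Y i ⟶ X)
    (h : Nonempty (IsColimit (Cofan.mk ((presheafToSheaf J (Type u)).obj (yoneda.obj X))
      (fun i => (presheafToSheaf J (Type u)).map (yoneda.map (s i)))))) :
    Nonempty (IsColimit (Cofan.mk ((presheafToSheaf J' (Type u)).obj (yoneda.obj X))
      (fun i => (presheafToSheaf J' (Type u)).map (yoneda.map (s i))))) := by
  obtain ⟨h⟩ := h
  let adj := sheafificationAdjunction J (Type u)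
  let adj' := sheafificationAdjunction J' (Type u)
  -- a `J'`-sheaf seen as a `J`-sheaf
  let res : Sheaf J' (Type u) → Sheaf J (Type u) := fun G' => ⟨G'.obj, G'.property.of_le hJ⟩
  -- the descent map
  let descJ : ∀ t : Cofan (fun i => (presheafToSheaf J' (Type u)).obj (yoneda.obj (Y i))),
      (presheafToSheaf J (Type u)).obj (yoneda.obj X) ⟶ res t.pt := fun t =>
    Cofan.IsColimit.desc h (fun i => (adj.homEquiv (yoneda.obj (Y i)) (res t.pt)).symm
      (adj'.homEquiv (yoneda.obj (Y i)) t.pt (t.inj i)))
  have hdescJ : ∀ t i, (presheafToSheaf J (Type u)).map (yoneda.map (s i)) ≫ descJ t =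
      (adj.homEquiv (yoneda.obj (Y i)) (res t.pt)).symm
        (adj'.homEquiv (yoneda.obj (Y i)) t.pt (t.inj i)) := fun t i =>
    Cofan.IsColimit.fac h _ i
  refine ⟨Cofan.IsColimit.mk _ (fun t => (adj'.homEquiv (yoneda.obj X) t.pt).symm
    (adj.homEquiv (yoneda.obj X) (res t.pt) (descJ t))) ?_ ?_⟩
  · intro t i
    apply (adj'.homEquiv _ _).injective
    change adj'.homEquiv _ _ ((presheafToSheaf J' (Type u)).map (yoneda.map (s i)) ≫ _) = _
    rw [Adjunction.homEquiv_naturality_left, Equiv.apply_symm_apply,
      ← Adjunction.homEquiv_naturality_left, hdescJ, Equiv.apply_symm_apply]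
  · intro t m hm
    apply (adj'.homEquiv _ _).injective
    rw [Equiv.apply_symm_apply]
    have key : (adj.homEquiv (yoneda.obj X) (res t.pt)).symm (adj'.homEquiv (yoneda.obj X) t.pt m) =
        descJ t := by
      apply Cofan.IsColimit.hom_ext h
      intro i
      change (presheafToSheaf J (Type u)).map (yoneda.map (s i)) ≫ _ =
        (presheafToSheaf J (Type u)).map (yoneda.map (s i)) ≫ _
      rw [hdescJ, ← Adjunction.homEquiv_naturality_left_symm]
      congr 1
      have := hm i
      change (presheafToSheaf J' (Type u)).map (yoneda.map (s i)) ≫ m = t.inj i at this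
      rw [← this, Adjunction.homEquiv_naturality_left]
    rw [← key, Equiv.apply_symm_apply]

end Groth.Agent.S6134
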