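import Groth.Statements.S6138
import Mathlib.CategoryTheory.Limits.Shapes.Opposites.Equalizers
import Mathlib.CategoryTheory.Limits.Shapes.RegularMono
import Mathlib.CategoryTheory.Limits.Preserves.Shapes.Equalizers
import Mathlib.CategoryTheory.EffectiveEpi.Basic
import Mathlib.CategoryTheory.Limits.Shapes.StrongEpi
-- import your own Groth.Agent.* helpers here

set_option autoImplicit false
open CategoryTheory CategoryTheory.Limits Opposite
universe v u
open SGA4

namespace Groth.Agent.S6138

/-- Let `C` have coequalizers and pullbacks, let `F` be a presheaf of sets on `C` taking coequalizers of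
`C` to equalizers, and let `u ∈ F(X)`, viewed as a morphism `h_X ⟶ F`. Then this morphism is a
monomorphism (the map `v ↦ F(v)(u)` is injective on `Hom(Y, X)` for every `Y`) if and only if `u` is
minimal: whenever `u = F(p)(u')` for an effective epimorphism `p : X ⟶ X'` and some `u' ∈ F(X')`,
`p` is an isomorphism. (Coequalizers are used for one implication and pullbacks for the other; both
are assumed here.) -/
theorem result
    {C : Type u} [Category.{v} C] [HasCoequalizers C] [HasPullbacks C]
    (F : Cᵒᵖ ⥤ Type v) [PreservesLimitsOfShape WalkingParallelPair F]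
    {X : C} (u : F.obj (op X)) :
    (∀ (Y : C) (v v' : Y ⟶ X), F.map v.op u = F.map v'.op u → v = v') ↔
      ∀ (X' : C) (p : X ⟶ X') (u' : F.obj (op X')),
        EffectiveEpi p → F.map p.op u' = u → IsIso p := by
  constructor
  · intro hinj X' p u' hp hu
    have hab : pullback.fst p p = pullback.snd p p := by
      apply hinj
      rw [← hu]
      have h1 : ∀ (a : pullback p p ⟶ X), F.map a.op (F.map p.op u') = F.map (a ≫ p).op u' := by
        intro a
        rw [op_comp, F.map_comp]
        rfl
      rw [h1, h1, pullback.condition]
    have hmono : Mono p := by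
      refine ⟨fun {Z} g h hgh => ?_⟩
      have h1 : pullback.lift g h hgh ≫ pullback.fst p p = g := pullback.lift_fst _ _ _
      have h2 : pullback.lift g h hgh ≫ pullback.snd p p = h := pullback.lift_snd _ _ _
      calc g = pullback.lift g h hgh ≫ pullback.fst p p := h1.symm
        _ = pullback.lift g h hgh ≫ pullback.snd p p := by rw [hab]
        _ = h := h2
    exact isIso_of_mono_of_strongEpi p
  · intro hmin Y v v' hvv'
    have hcolim := coequalizerIsCoequalizer v v'
    have w' : (coequalizer.π v v').op ≫ v.op = (coequalizer.π v v').op ≫ v'.op := by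
      rw [← op_comp, ← op_comp, coequalizer.condition]
    have hlim : IsLimit (Fork.ofι (coequalizer.π v v').op w') :=
      Cofork.isColimitOfπEquivIsLimitOp (coequalizer.π v v') (coequalizer.π v v')
        (coequalizer.condition v v') w' rfl hcolim
    have hlimF := isLimitForkMapOfIsLimit F w' hlim
    have hw : (↾(fun _ : PUnit.{v+1} => u)) ≫ F.map v.op = (↾(fun _ : PUnit.{v+1} => u)) ≫ F.map v'.op := by
      ext x
      exact hvv'
    obtain ⟨l, hl⟩ := Fork.IsLimit.lift' hlimF (↾(fun _ : PUnit.{v+1} => u)) hw
    have hu' : F.map (coequalizer.π v v').op (l PUnit.unit) = u := by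
      have := congr($hl PUnit.unit)
      exact this
    have hiso := hmin _ (coequalizer.π v v') (l PUnit.unit) inferInstance hu'
    rw [← cancel_mono (coequalizer.π v v')]
    exact coequalizer.condition v v'

end Groth.Agent.S6138
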