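import Groth.Statements.S6139
-- import your own Groth.Agent.* helpers here

set_option autoImplicit false
open CategoryTheory CategoryTheory.Limits
universe v u
open SGA4

namespace Groth.Agent.S6139

/-- For an object `X` of a category `C`, the empty sieve on `X` is covering for the canonical topology
of `C` (the finest topology for which every representable presheaf is a sheaf) if and only if `X` is
a strict initial object: `X` is initial and every morphism with target `X` is an isomorphism. (The
source phrases the first condition as: for some topology coarser than the canonical one the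
associated sheaf of `h_X` is initial; that sheaf is initial exactly when the empty sieve covers `X`,
and coverage by the empty sieve passes to the finer canonical topology.) -/
theorem result
    {C : Type u} [Category.{v} C] (X : C) :
    (⊥ : Sieve X) ∈ Sheaf.canonicalTopology C X ↔
      (Nonempty (IsInitial X) ∧ ∀ (Y : C) (f : Y ⟶ X), IsIso f) := by
  constructor
  · intro h
    have key : ∀ (Y : C) (f : Y ⟶ X), Nonempty (IsInitial Y) := by
      intro Y f
      have hY : (⊥ : Sieve Y) ∈ Sheaf.canonicalTopology C Y := by
        have := (Sheaf.canonicalTopology C).pullback_stable f h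
        have hbot : (⊥ : Sieve X).pullback f = ⊥ := by
          ext Z g
          simp
        rwa [hbot] at this
      have huniq : ∀ Z : C, ∃! t : Y ⟶ Z, True := by
        intro Z
        have hs := (Sheaf.isSheaf_yoneda_obj Z) (⊥ : Sieve Y) hY
        obtain ⟨t, -, ht⟩ := hs (fun _ _ hf => False.elim hf) (fun _ _ _ _ _ _ _ h₁ => False.elim h₁)
        exact ⟨t, trivial, fun t' _ => ht t' (fun _ _ hf => False.elim hf)⟩
      exact ⟨IsInitial.ofUniqueHom (fun Z => (huniq Z).choose)
        (fun Z m => (huniq Z).choose_spec.2 m trivial)⟩
    obtain ⟨hX⟩ := key X (𝟙 X)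
    refine ⟨⟨hX⟩, fun Y f => ?_⟩
    obtain ⟨hY⟩ := key Y f
    exact ⟨hX.to Y, hY.hom_ext _ _, hX.hom_ext _ _⟩
  · rintro ⟨⟨hX⟩, hiso⟩
    refine Sheaf.mem_finestTopology_of_forall_isSheafFor ?_
    rintro _ ⟨Z, rfl⟩ Y f
    have := hiso Y f
    have hY : IsInitial Y := IsInitial.ofIso hX (asIso f).symm
    intro x _
    refine ⟨hY.to Z, ?_, fun t' _ => hY.hom_ext _ _⟩
    intro W g hg
    exact False.elim hg

end Groth.Agent.S6139
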