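import Groth.Statements.S6140
import Mathlib
import Groth.Agent.Lib.Lead.ToposFinSubcan2
open Groth.Agent.Lib.Lead.ToposFin Opposite

set_option autoImplicit false
open CategoryTheory CategoryTheory.Limits
universe u
open SGA4

namespace Groth.Agent.S6140

/-- Let `C` be a small category with pullbacks, `p₁ p₂ : R ⇉ X` an equivalence relation in `C` admitting
a coequalizer cofork `c`, and `ε` the canonical functor to sheaves of sets for the canonical
topology of `C`. Then the equivalence relation is effective and universal (`R` is the kernel pair of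
the quotient map, which is a coequalizer all of whose base changes are effective epimorphisms) if
and only if `ε` takes `c` to a coequalizer of `ε p₁, ε p₂`. (For a small category every topology has
a small topologically generating family, so both implications of the published statement apply. The
published statement asks only that the quotient map have all base changes; this row assumes that `C`
has all pullbacks.) -/
theorem result
    {C : Type u} [SmallCategory C] [HasPullbacks C] {R X : C} (p₁ p₂ : R ⟶ X)
    (hR : SGA4.IsEquivRel p₁ p₂) (c : Cofork p₁ p₂) (hc : IsColimit c) :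
    SGA4.IsEffectiveUniversalEquivRel p₁ p₂ ↔
      Nonempty (IsColimit ((yoneda ⋙ presheafToSheaf (Sheaf.canonicalTopology C) (Type u)).mapCocone c)) := by
  constructor
  · rintro ⟨B, π, hpb, hpo, heff⟩
    have hcov := singleton_mem_canonical_of_universal π heff
    haveI hepi : Epi ((yoneda ⋙ presheafToSheaf (Sheaf.canonicalTopology C) (Type u)).map π) :=
      (epi_epsMap_iff (J := Sheaf.canonicalTopology C) π).2 hcov
    have hk : IsKernelPair ((yoneda ⋙ presheafToSheaf (Sheaf.canonicalTopology C) (Type u)).map π)
        ((yoneda ⋙ presheafToSheaf (Sheaf.canonicalTopology C) (Type u)).map p₁)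
        ((yoneda ⋙ presheafToSheaf (Sheaf.canonicalTopology C) (Type u)).map p₂) :=
      hpb.map (yoneda ⋙ presheafToSheaf (Sheaf.canonicalTopology C) (Type u))
    haveI : IsRegularEpi ((yoneda ⋙ presheafToSheaf (Sheaf.canonicalTopology C) (Type u)).map π) :=
      IsRegularEpiCategory.regularEpiOfEpi _
    have h2 : IsColimit ((yoneda ⋙ presheafToSheaf (Sheaf.canonicalTopology C) (Type u)).mapCocone
        (Cofork.ofπ π hpo.w)) :=
      (isColimitMapCoconeCoforkEquiv _ hpo.w).symm hk.toCoequalizer'
    have hc₀ : IsColimit (Cofork.ofπ π hpo.w) := hpo.isLimitFork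
    exact ⟨IsColimit.ofIsoColimit h2 ((Cocone.functoriality _
      (yoneda ⋙ presheafToSheaf (Sheaf.canonicalTopology C) (Type u))).mapIso
        (hc₀.uniqueUpToIso hc))⟩
  · rintro ⟨hcE⟩
    obtain ⟨e⟩ := nonempty_equivalenceRelation' p₁ p₂ hR
    haveI := jointlyMono_epsMap (J := Sheaf.canonicalTopology C) hR
    have hpbS := Groth.Agent.Lib.Lead.SheafExact.quotπ_isPullback
      (epsMap (Sheaf.canonicalTopology C) p₁) (epsMap (Sheaf.canonicalTopology C) p₂)
      (secRel_epsMap_equivalence hR)
    have hpoS := Groth.Agent.Lib.Lead.SheafExact.quotπ_isPushout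
      (epsMap (Sheaf.canonicalTopology C) p₁) (epsMap (Sheaf.canonicalTopology C) p₂)
      (epsMap (Sheaf.canonicalTopology C) e.r)
      (by
        show (yoneda ⋙ presheafToSheaf (Sheaf.canonicalTopology C) (Type u)).map e.r ≫
          (yoneda ⋙ presheafToSheaf (Sheaf.canonicalTopology C) (Type u)).map p₁ = _
        rw [← CategoryTheory.Functor.map_comp, e.reflexivity₁, CategoryTheory.Functor.map_id]
        rfl)
      (by
        show (yoneda ⋙ presheafToSheaf (Sheaf.canonicalTopology C) (Type u)).map e.r ≫
          (yoneda ⋙ presheafToSheaf (Sheaf.canonicalTopology C) (Type u)).map p₂ = _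
        rw [← CategoryTheory.Functor.map_comp, e.reflexivity₂, CategoryTheory.Functor.map_id]
        rfl)
    have hq := hpoS.isLimitFork
    have hcE' := isColimitMapCoconeCoforkEquiv
      (yoneda ⋙ presheafToSheaf (Sheaf.canonicalTopology C) (Type u)) c.condition
      (IsColimit.ofIsoColimit hcE ((Cocone.functoriality _
        (yoneda ⋙ presheafToSheaf (Sheaf.canonicalTopology C) (Type u))).mapIso c.isoCoforkOfπ))
    have hφ : Groth.Agent.Lib.Lead.SheafExact.quotπ
        (epsMap (Sheaf.canonicalTopology C) p₁) (epsMap (Sheaf.canonicalTopology C) p₂) ≫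
        (hq.coconePointUniqueUpToIso hcE').hom =
        (yoneda ⋙ presheafToSheaf (Sheaf.canonicalTopology C) (Type u)).map c.π :=
      IsColimit.comp_coconePointUniqueUpToIso_hom hq hcE' WalkingParallelPair.one
    have hk : IsKernelPair ((yoneda ⋙ presheafToSheaf (Sheaf.canonicalTopology C) (Type u)).map c.π)
        ((yoneda ⋙ presheafToSheaf (Sheaf.canonicalTopology C) (Type u)).map p₁)
        ((yoneda ⋙ presheafToSheaf (Sheaf.canonicalTopology C) (Type u)).map p₂) := by
      rw [← hφ]
      exact IsKernelPair.comp_of_mono hpbS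
    have hpbC : IsPullback p₁ p₂ c.π c.π :=
      IsPullback.of_map (yoneda ⋙ presheafToSheaf (Sheaf.canonicalTopology C) (Type u))
        c.condition hk
    have hpoC : IsPushout p₁ p₂ c.π c.π :=
      isPushout_of_isColimit_cofork e.r e.reflexivity₁ e.reflexivity₂ c.π c.condition
        (IsColimit.ofIsoColimit hc c.isoCoforkOfπ)
    refine ⟨c.pt, c.π, hpbC, hpoC, fun B' g => ?_⟩
    apply effectiveEpi_of_singleton_mem_canonical
    rw [← epi_epsMap_iff]
    haveI hepi : Epi ((yoneda ⋙ presheafToSheaf (Sheaf.canonicalTopology C) (Type u)).map c.π) := by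
      rw [← hφ]
      haveI : Epi (Groth.Agent.Lib.Lead.SheafExact.quotπ
          (epsMap (Sheaf.canonicalTopology C) p₁) (epsMap (Sheaf.canonicalTopology C) p₂)) :=
        Cofork.IsColimit.epi hq
      exact epi_comp _ _
    exact Groth.Agent.S5218.epi_of_isPullback (Sheaf.canonicalTopology C)
      ((IsPullback.of_hasPullback c.π g).flip.map
        (yoneda ⋙ presheafToSheaf (Sheaf.canonicalTopology C) (Type u)))

end Groth.Agent.S6140
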