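import Groth.Statements.S6141
import Mathlib
import Groth.Agent.Lib.Lead.ToposFinSite2
open Groth.Agent.Lib.Lead.ToposFin Opposite

set_option autoImplicit false
open CategoryTheory
universe u
open SGA4

namespace Groth.Agent.S6141

/-- Let `u : C ⥤ C'` be a functor between small sites which is continuous and cocontinuous. If `u` is
full and faithful, then the left adjoint `u_!` of the restriction functor `u^*` on sheaves of sets
is full and faithful. -/
theorem result
    {C : Type u} [SmallCategory C] {C' : Type u} [SmallCategory C']
    (J : GrothendieckTopology C) (K : GrothendieckTopology C') (u : C ⥤ C')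
    [u.IsContinuous J K] [u.IsCocontinuous J K] [u.Full] [u.Faithful] :
    (u.sheafPullback (Type u) J K).Full ∧ (u.sheafPullback (Type u) J K).Faithful := by
  let t : Adjunction.Triple (u.sheafPullback (Type u) J K)
      (u.sheafPushforwardContinuous (Type u) J K) (u.sheafPushforwardCocontinuous (Type u) J K) :=
    ⟨u.sheafAdjunctionContinuous _ J K, u.sheafAdjunctionCocontinuous _ J K⟩
  have hiso : IsIso t.adj₂.counit := by
    refine @NatIso.isIso_of_isIso_app _ _ _ _ _ _ _ (fun F => ?_)
    have h := u.sheafAdjunctionCocontinuous_counit_app_hom (Type u) J K F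
    have h2 : IsIso ((u.sheafAdjunctionCocontinuous (Type u) J K).counit.app F).hom := by
      rw [h]
      apply Functor.instIsIsoAppCounitRanAdjunctionOfHasPointwiseRightKanExtension
    have h3 : IsIso ((sheafToPresheaf J (Type u)).map
        ((u.sheafAdjunctionCocontinuous (Type u) J K).counit.app F)) := h2
    exact isIso_of_reflects_iso _ (sheafToPresheaf J (Type u))
  have hH := t.adj₂.fullyFaithfulROfIsIsoCounit
  have hF := t.fullyFaithfulEquiv.symm hH
  exact ⟨hF.full, hF.faithful⟩

end Groth.Agent.S6141
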