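import Groth.Statements.S6142
import Mathlib
import Groth.Agent.Lib.Lead.ToposFinSite4
open Groth.Agent.Lib.Lead.ToposFin Opposite

set_option autoImplicit false
open CategoryTheory
universe u
open SGA4

namespace Groth.Agent.S6142

/-- Let `u : C ⥤ C'` be a continuous and cocontinuous functor between small sites whose topologies are
subcanonical. If the left adjoint `u_!` of the restriction functor `u^*` on sheaves of sets is full
and faithful, then `u` is full and faithful. -/
theorem result
    {C : Type u} [SmallCategory C] {C' : Type u} [SmallCategory C']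
    (J : GrothendieckTopology C) (K : GrothendieckTopology C') [J.Subcanonical] [K.Subcanonical]
    (u : C ⥤ C') [u.IsContinuous J K] [u.IsCocontinuous J K]
    (h : (u.sheafPullback (Type u) J K).Full ∧ (u.sheafPullback (Type u) J K).Faithful) :
    u.Full ∧ u.Faithful := by
  obtain ⟨hfull, hfaith⟩ := h
  haveI := hfull
  haveI := hfaith
  haveI : (u ⋙ (yoneda ⋙ presheafToSheaf K (Type u))).Full :=
    Functor.Full.of_iso (epsCompSheafPullbackIso (J := J) (K := K) u)
  haveI : (u ⋙ (yoneda ⋙ presheafToSheaf K (Type u))).Faithful :=
    Functor.Faithful.of_iso (epsCompSheafPullbackIso (J := J) (K := K) u)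
  exact ⟨Functor.Full.of_comp_faithful u (yoneda ⋙ presheafToSheaf K (Type u)),
    Functor.Faithful.of_comp u (yoneda ⋙ presheafToSheaf K (Type u))⟩

end Groth.Agent.S6142
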