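import Groth.Statements.S6143
import Mathlib
import Groth.Agent.Lib.Lead.ToposFinSubcan
import Groth.Agent.S12108
open Groth.Agent.Lib.Lead.ToposFin Opposite

set_option autoImplicit false
open CategoryTheory CategoryTheory.Limits
universe u
open SGA4

namespace Groth.Agent.S6143

/-- Let `C` be a small category, `X` an object and `s i : Y i ⟶ X` a family of morphisms all of whose
base changes exist. Then the associated sheaf of `h_X` for the canonical topology, with the maps
induced by the `s i`, is a coproduct of the associated sheaves of the `h_{Y i}` (in sheaves of sets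
for the canonical topology) if and only if `X` is a disjoint universal coproduct of the `Y i` in
`C`: the cofan `(X, s)` is a colimit, the injections of a coproduct of the family are monomorphisms
with pairwise pullbacks initial, and the colimit is stable under base change. (The source asks for
the coproduct decomposition after sheafification for some topology coarser than the canonical one;
this is equivalent to asking it for the canonical topology itself.) -/
theorem result
    {C : Type u} [SmallCategory C] {X : C} {ι : Type u} (Y : ι → C) (s : ∀ i, Y i ⟶ X)
    [∀ (i : ι) (Z : C) (g : Z ⟶ X), HasPullback (s i) g] :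
    Nonempty (IsColimit (Cofan.mk
        ((presheafToSheaf (Sheaf.canonicalTopology C) (Type u)).obj (yoneda.obj X))
        (fun i => (presheafToSheaf (Sheaf.canonicalTopology C) (Type u)).map (yoneda.map (s i))))) ↔
      (Nonempty (IsColimit (Cofan.mk X s)) ∧ CoproductDisjoint Y ∧
        IsUniversalColimit (Cofan.mk X s)) := by
  constructor
  · rintro ⟨hc⟩
    -- notation
    have hcE : IsColimit ((yoneda ⋙ presheafToSheaf (Sheaf.canonicalTopology C) (Type u)).mapCocone
        (Cofan.mk X s)) :=
      (isColimitMapCoconeCofanMkEquiv (yoneda ⋙ presheafToSheaf (Sheaf.canonicalTopology C) (Type u))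
        Y s).symm hc
    have hcX : IsColimit (Cofan.mk X s) := isColimitOfReflects _ hcE
    have hmono : ∀ i, Mono (s i) := fun i => by
      haveI : Mono ((yoneda ⋙ presheafToSheaf (Sheaf.canonicalTopology C) (Type u)).map (s i)) :=
        mono_cofan_inj hc i
      exact (yoneda ⋙ presheafToSheaf (Sheaf.canonicalTopology C) (Type u)).mono_of_mono_map
        inferInstance
    refine ⟨⟨hcX⟩, ?_, ?_⟩
    · haveI : ∀ i, Mono ((Cofan.mk X s).inj i) := hmono
      have hinit : ∀ {i j : ι} (hij : i ≠ j), Nonempty (IsInitial (pullback.cone (s i) (s j)).pt) := by
        intro i j hij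
        have hpb := (IsPullback.of_hasPullback (s i) (s j)).map
          (yoneda ⋙ presheafToSheaf (Sheaf.canonicalTopology C) (Type u))
        haveI := coproductDisjoint (J := Sheaf.canonicalTopology C)
          (fun i => ToposFin.eps (Sheaf.canonicalTopology C) (Y i))
        obtain ⟨hI⟩ := CoproductDisjoint.nonempty_isInitial_of_ne hc hij hpb.cone hpb.isLimit
        exact ⟨IsInitial.isInitialOfObj
          (yoneda ⋙ presheafToSheaf (Sheaf.canonicalTopology C) (Type u)) _ hI⟩
      exact CoproductDisjoint.of_cofan hcX (fun {i j} _ => pullback.cone (s i) (s j))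
        (fun {i j} _ => pullback.isLimit (s i) (s j)) (fun hij => (hinit hij).some)
    · exact IsUniversalColimit.of_mapCocone
        (yoneda ⋙ presheafToSheaf (Sheaf.canonicalTopology C) (Type u))
        (isUniversalColimit_of_isColimit' _ hcE)
  · rintro ⟨⟨hcX⟩, hdisj, hu⟩
    have hmono : ∀ i, Mono (s i) := fun i => CoproductDisjoint.mono_inj hcX i
    rw [← Groth.Agent.S12108.result]
    refine ⟨ofArrows_mem_canonical_of_universal Y s hu, ?_, ?_⟩
    · intro i
      rw [isIso_map_diagonal_iff]
      haveI := hmono i
      infer_instance
    · intro i j hij
      exact nonempty_isInitial_sheafify_pullback_yoneda s hu hmono hij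
        (IsInitial.ofCoproductDisjointOfIsColimitOfIsLimit hij hcX (pullback.isLimit (s i) (s j)))

end Groth.Agent.S6143
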