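import Groth.Statements.S6144
import Mathlib.CategoryTheory.Generator.Basic
import Mathlib.CategoryTheory.Subobject.Lattice
import Mathlib.CategoryTheory.Subobject.WellPowered
import Mathlib.Logic.Small.Set

set_option autoImplicit false
open CategoryTheory CategoryTheory.Limits
universe w v u
open SGA4

namespace Groth.Agent.S6144

section helpers
variable {E : Type u} [Category.{v} E] [HasPullbacks E]

lemma isDetecting_of_mono_criterion (P : ObjectProperty E)
    (h : ∀ ⦃A B : E⦄ (m : A ⟶ B) [Mono m],
      (∀ (Z : E) (_ : P Z) (y : Z ⟶ B), ∃ a : Z ⟶ A, a ≫ m = y) → IsIso m) :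
    P.IsDetecting := by
  intro A B f hf
  have hmono : Mono f := by
    let δ : A ⟶ pullback f f := pullback.lift (𝟙 A) (𝟙 A) rfl
    have hδ1 : δ ≫ pullback.fst f f = 𝟙 A := pullback.lift_fst _ _ _
    have hδ2 : δ ≫ pullback.snd f f = 𝟙 A := pullback.lift_snd _ _ _
    have : Mono δ := mono_of_mono_fac hδ1
    have hδ : IsIso δ := h δ (fun Z hZ y => by
      refine ⟨y ≫ pullback.fst f f, ?_⟩
      have h12 : y ≫ pullback.fst f f = y ≫ pullback.snd f f := by
        obtain ⟨t, _, ht⟩ := hf Z hZ (y ≫ pullback.fst f f ≫ f)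
        rw [ht (y ≫ pullback.fst f f) (by simp),
          ht (y ≫ pullback.snd f f) (by simp [pullback.condition])]
      apply pullback.hom_ext
      · rw [Category.assoc, hδ1, Category.comp_id]
      · rw [Category.assoc, hδ2, Category.comp_id, h12])
    have h12 : pullback.fst f f = pullback.snd f f := by
      rw [← cancel_epi δ, hδ1, hδ2]
    constructor
    intro Z a b hab
    have := pullback.lift a b hab ≫= h12
    rwa [pullback.lift_fst, pullback.lift_snd] at this
  exact h f (fun Z hZ y => (hf Z hZ y).exists)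

end helpers

/-- Let `E` be a category with `v`-small hom-sets and pullbacks, admitting a detecting family of objects
indexed by a `v`-small type (maps out of the family jointly reflect isomorphisms). Then every
detecting family `Y : I → E`, indexed by an arbitrary type, contains a detecting subfamily indexed
by a `v`-small subset of `I`. -/
theorem result
    {E : Type u} [Category.{v} E] [HasPullbacks E] {κ : Type v} (G : κ → E)
    (hG : (ObjectProperty.ofObj G).IsDetecting) {I : Type w} (Y : I → E)
    (hY : (ObjectProperty.ofObj Y).IsDetecting) :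
    ∃ J : Set I, Small.{v} J ∧ (ObjectProperty.ofObj (fun j : J => Y j)).IsDetecting := by
  classical
  have : ObjectProperty.Small.{v} (ObjectProperty.ofObj G) := inferInstance
  have : WellPowered.{v} E := wellPowered_of_isDetecting hG
  let α := Σ k : κ, Subobject (G k)
  let β := {x : α // ∃ i : I, ∃ y : Y i ⟶ G x.1, ¬ x.2.Factors y}
  let f : β → I := fun x => x.2.choose
  refine ⟨Set.range f, inferInstance, ?_⟩
  apply isDetecting_of_mono_criterion
  intro A B m _ hm
  rw [hG.isIso_iff_of_mono m]
  rintro _ ⟨k⟩ g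
  change ∃ a : G k ⟶ A, a ≫ m = g
  by_contra hno
  have hnotiso : ¬ IsIso (pullback.fst g m) := by
    intro hiso
    exact hno ⟨inv (pullback.fst g m) ≫ pullback.snd g m, by
      rw [Category.assoc, ← pullback.condition, IsIso.inv_hom_id_assoc]⟩
  rw [hY.isIso_iff_of_mono (pullback.fst g m)] at hnotiso
  have hex : ∃ (i : I) (y : Y i ⟶ G k), ¬ ∃ a, a ≫ pullback.fst g m = y := by
    by_contra hc
    apply hnotiso
    rintro _ ⟨i⟩ y
    by_contra hy
    exact hc ⟨i, y, hy⟩
  obtain ⟨i, y, hy⟩ := hex
  let x : β := ⟨⟨k, Subobject.mk (pullback.fst g m)⟩, ⟨i, y, by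
    rw [Subobject.mk_factors_iff]
    exact hy⟩⟩
  obtain ⟨y₀, hy₀⟩ := x.2.choose_spec
  obtain ⟨a, ha⟩ := hm (Y (f x)) (ObjectProperty.ofObj_apply (fun j : Set.range f => Y j)
    ⟨f x, ⟨x, rfl⟩⟩) (y₀ ≫ g)
  apply hy₀
  change (Subobject.mk (pullback.fst g m)).Factors y₀
  rw [Subobject.mk_factors_iff]
  exact ⟨pullback.lift y₀ a ha.symm, pullback.lift_fst _ _ _⟩

end Groth.Agent.S6144
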