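import Groth.Statements.S6153
import Groth.Agent.Lib.Helper17.FreeOn

set_option autoImplicit false
universe u
open CategoryTheory
open ModSite

namespace Groth.Agent.S6153

open Groth.Agent.Lib.Helper17.FreeOn in
/-- morphisms out of the pulled back free module -/
noncomputable def pullFreeEquiv {C D : Type u} [SmallCategory C] [SmallCategory D]
    {J : GrothendieckTopology C}
    {K : GrothendieckTopology D} {O_C : Sheaf J CommRingCat.{u}} {O_D : Sheaf K CommRingCat.{u}}
    (f : ModSite.RMor O_C O_D) (X : D) (M : ModSite.Mod O_C) :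
    (f.pull.obj (ModSite.freeOn O_D X) ⟶ M) ≃ (ModSite.freeOn O_C (f.fn.obj X) ⟶ M) :=
  (f.adj.homEquiv _ M).trans
    ((freeOnHomEquiv (f.push.obj M) X).trans (freeOnHomEquiv M (f.fn.obj X)).symm)

open Groth.Agent.Lib.Helper17.FreeOn in
lemma pullFreeEquiv_comp {C D : Type u} [SmallCategory C] [SmallCategory D]
    {J : GrothendieckTopology C}
    {K : GrothendieckTopology D} {O_C : Sheaf J CommRingCat.{u}} {O_D : Sheaf K CommRingCat.{u}}
    (f : ModSite.RMor O_C O_D) (X : D) {M M' : ModSite.Mod O_C}
    (h : f.pull.obj (ModSite.freeOn O_D X) ⟶ M) (φ : M ⟶ M') :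
    pullFreeEquiv f X M' (h ≫ φ) = pullFreeEquiv f X M h ≫ φ := by
  apply (freeOnHomEquiv M' (f.fn.obj X)).injective
  rw [freeOnHomEquiv_comp]
  have h1 : f.adj.homEquiv _ M' (h ≫ φ) = f.adj.homEquiv _ M h ≫ f.push.map φ :=
    Adjunction.homEquiv_naturality_right _ _ _
  have h2 := freeOnHomEquiv_comp X (f.adj.homEquiv _ M h) (f.push.map φ)
  simp only [pullFreeEquiv, Equiv.trans_apply, Equiv.apply_symm_apply]
  rw [h1, h2]
  erw [Equiv.apply_symm_apply, Equiv.apply_symm_apply]
  rfl

/-- Morphisms of ringed sites between small sites with commutative structure sheaves: for a morphism of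
ringed sites f : (C, O_C) -> (D, O_D) given by a functor u : D -> C and every object X of D, the
inverse image f^*(A'_X) of the free O_D-module on X is isomorphic to the free O_C-module A_{u(X)} on
u(X). Existence of an isomorphism of modules only (the source's isomorphism is the canonical one). -/
theorem result {C D : Type u} [SmallCategory C] [SmallCategory D] {J : GrothendieckTopology C}
    {K : GrothendieckTopology D} {O_C : Sheaf J CommRingCat.{u}} {O_D : Sheaf K CommRingCat.{u}}
    (f : ModSite.RMor O_C O_D) (X : D) :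
    Nonempty (f.pull.obj (ModSite.freeOn O_D X) ≅ ModSite.freeOn O_C (f.fn.obj X)) := by
  refine ⟨(Coyoneda.ext _ _ (fun {M} h => (pullFreeEquiv f X M).symm h)
    (fun {M} h => pullFreeEquiv f X M h) (fun h => by simp) (fun h => by simp) ?_).symm⟩
  intro M M' h φ
  exact pullFreeEquiv_comp f X h φ

end Groth.Agent.S6153
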