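import Groth.Statements.S6163
import Groth.Agent.Lib.Helper5.AbPullAdj
import Groth.Agent.Lib.Helper5.GrothSSInst
import Groth.Agent.Lib.Helper5.ExtDerived

set_option autoImplicit false
universe u
open CategoryTheory
open scoped ZeroObject
open CohSite

namespace Groth.Agent.S6163

open CategoryTheory CategoryTheory.Limits in
/-- `u_* ⋙ w_* ≅ (w ⋙ u)_*`. -/
noncomputable def pushCompIso {C D B : Type u} [SmallCategory C] [SmallCategory D]
    [SmallCategory B] (J : GrothendieckTopology C) (K : GrothendieckTopology D)
    (L : GrothendieckTopology B)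
    (u : D ⥤ C) [u.IsContinuous K J] (w : B ⥤ D) [w.IsContinuous L K]
    [(w ⋙ u).IsContinuous L J] :
    CohSite.push J K u ⋙ CohSite.push K L w ≅ CohSite.push J L (w ⋙ u) :=
  NatIso.ofComponents (fun M => (fullyFaithfulSheafToPresheaf L AddCommGrpCat.{u}).preimageIso
    (Iso.refl _)) (by
    intro M N f
    apply (sheafToPresheaf L AddCommGrpCat.{u}).map_injective
    simp only [Functor.map_comp, Functor.FullyFaithful.preimageIso_hom,
      Functor.FullyFaithful.map_preimage]
    ext c : 2
    simp
    rfl)

open CategoryTheory.Limits in
/-- Existence form (abelian sheaves; the two morphisms of topoi are given by continuous functors u : D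
-> C and w : B -> D between small sites with exact pullback on sheaves of sets; the composite
morphism is given by w followed by u, whose continuity is recorded by a binder that always holds):
for an abelian sheaf M on C there is a bounded E_2 spectral sequence of abelian sheaves on B with
E_2^{p,q} isomorphic to R^p w_*(R^q u_* M) for p, q >= 0 and zero otherwise, with abutment data
whose filtrations are finite on R^n (u w)_* M (n >= 0; zero for n < 0). The E_2 identifications and
abutment isomorphisms are asserted to exist only, not pinned to the canonical maps. -/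
theorem result {C D B : Type u} [SmallCategory C] [SmallCategory D]
    [SmallCategory B] (J : GrothendieckTopology C) (K : GrothendieckTopology D) (L : GrothendieckTopology B)
    (u : D ⥤ C) [u.IsContinuous K J] [PreservesFiniteLimits (u.sheafPullback (Type u) K J)]
    (w : B ⥤ D) [w.IsContinuous L K] [PreservesFiniteLimits (w.sheafPullback (Type u) L K)]
    [(w ⋙ u).IsContinuous L J] (M : Sheaf J AddCommGrpCat.{u}) :
    ∃ (E : E₂CohomologicalSpectralSequence (Sheaf L AddCommGrpCat.{u}))
      (a : SpSeq.Abutment E (fun n : ℤ =>
        if 0 ≤ n then (CohSite.Rpush J L (w ⋙ u) n.toNat).obj M else 0)),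
      (∀ n, a.IsFinite n) ∧ SpSeq.IsBounded E ∧
      ∀ p q : ℤ, Nonempty ((E.page 2 le_rfl).X (p, q) ≅
        (if 0 ≤ p ∧ 0 ≤ q then (CohSite.Rpush K L w p.toNat).obj ((CohSite.Rpush J K u q.toNat).obj M) else 0)) := by
  haveI : PreservesFiniteLimits (CohSite.push K L w) := by
    have : (CohSite.push K L w).IsRightAdjoint := inferInstance
    infer_instance
  exact Groth.Agent.Lib.Helper5.GrothSSInst.main' (CohSite.push J K u) (CohSite.push K L w)
    (fun Q hQ q hq => by
      haveI := hQ
      haveI : Injective ((CohSite.push J K u).obj Q) :=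
        Groth.Agent.Lib.Helper5.AbPull.injective_pushA J K u Q
      obtain ⟨q, rfl⟩ : ∃ k, q = k + 1 := ⟨q - 1, by lia⟩
      exact Functor.isZero_rightDerived_obj_injective_succ _ q _)
    M
    (fun n => (CohSite.Rpush J L (w ⋙ u) n).obj M)
    (fun p q => (CohSite.Rpush K L w p).obj ((CohSite.Rpush J K u q).obj M))
    0 0 (isZero_zero _) (isZero_zero _)
    (fun n => ⟨(Groth.Agent.Lib.Helper5.ExtDer.rightDerivedMapIso (pushCompIso J K L u w) n).app M⟩)
    (fun p q => ⟨Iso.refl _⟩)

end Groth.Agent.S6163
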