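import Groth.Statements.S6164
import Groth.Agent.S12105
import Groth.Agent.S6174
import Groth.Agent.Lib.Helper5.FreeSheafify
import Groth.Agent.Lib.Helper5.SpSeqAbut

set_option autoImplicit false
universe u
open CategoryTheory
open CohSite

namespace Groth.Agent.S6164

/-- The inclusion of a covering sieve into the representable presheaf becomes an isomorphism after
sheafification. -/
lemma W_functorInclusion {C : Type u} [SmallCategory C] (J : GrothendieckTopology C) {X : C}
    (S : Sieve X) (hS : S ∈ J X) : J.W (A := Type u) S.functorInclusion := by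
  intro Z hZ
  have hZ' : Presieve.IsSheaf J Z := (isSheaf_iff_isSheaf_of_type J Z).1 hZ
  have h := Presieve.isSheafFor_iff_yonedaSheafCondition.1 (hZ' S hS)
  constructor
  · intro g g' hgg'
    exact (h _).unique hgg' rfl
  · intro f
    obtain ⟨g, hg, -⟩ := h f
    exact ⟨g, hg⟩

/-- The free abelian sheaf on `X` is the free abelian sheaf on the sheafification of a covering sieve. -/
noncomputable def freeIso {C : Type u} [SmallCategory C] (J : GrothendieckTopology C) {X : C}
    (S : Sieve X) (hS : S ∈ J X) :
    CohCx.freeSheaf J X ≅ (presheafToSheaf J AddCommGrpCat.{u}).obj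
      (((presheafToSheaf J (Type u)).obj S.functor).obj ⋙ AddCommGrpCat.free.{u}) :=
  haveI : IsIso ((presheafToSheaf J AddCommGrpCat.{u}).map
      (Functor.whiskerRight S.functorInclusion AddCommGrpCat.free.{u})) :=
    (J.W_iff _).1 (J.W_of_preservesSheafification AddCommGrpCat.free.{u} _
      (W_functorInclusion J S hS))
  (asIso ((presheafToSheaf J AddCommGrpCat.{u}).map
      (Functor.whiskerRight S.functorInclusion AddCommGrpCat.free.{u}))).symm ≪≫
    (Groth.Agent.Lib.Helper5.FreeSheafify.freeSheafifyIso J S.functor).symm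

open CategoryTheory.Limits in
/-- Existence form of the spectral sequence of a covering; abelian sheaves on a small site with fibre
products: for a covering family (U_i -> X) and an abelian sheaf M there is a bounded E_2 spectral
sequence of abelian groups with E_2^{p,q} isomorphic to the Cech cohomology group H^p((U_i -> X),
H^q(M)) of the family with coefficients in the presheaf V |-> H^q(V, M), for p, q >= 0 and zero
otherwise, with abutment data whose filtrations are finite on H^n(X, M) (n >= 0; zero for n < 0).
The E_2 identifications and abutment isomorphisms are asserted to exist only, not pinned to the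
canonical maps, so edge maps are not part of this statement. -/
theorem result {C : Type u} [SmallCategory C] [HasPullbacks C]
    (J : GrothendieckTopology C) (M : Sheaf J AddCommGrpCat.{u}) {X : C} {ι : Type u} (Y : ι → Over X)
    (hY : Sieve.ofArrows (fun i => (Y i).left) (fun i => (Y i).hom) ∈ J X) :
    ∃ (E : E₂CohomologicalSpectralSequence AddCommGrpCat.{u})
      (a : SpSeq.Abutment E (fun n : ℤ =>
        if 0 ≤ n then AddCommGrpCat.of (CohSite.HU M n.toNat X) else AddCommGrpCat.of PUnit.{u + 1})),
      (∀ n, a.IsFinite n) ∧ SpSeq.IsBounded E ∧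
      ∀ p q : ℤ, Nonempty ((E.page 2 le_rfl).X (p, q) ≅
        (if 0 ≤ p ∧ 0 ≤ q then CohCx.cechH (M.cohomologyPresheaf q.toNat) Y p.toNat
         else AddCommGrpCat.of PUnit.{u + 1})) := by
  classical
  obtain ⟨E, a, hfin, hbdd, hE2⟩ := Groth.Agent.S12105.result J
    (Sieve.ofArrows (fun i => (Y i).left) (fun i => (Y i).hom)).functor M
  have eH : ∀ n : ℕ, AddCommGrpCat.of (CohCx.HK ((presheafToSheaf J (Type u)).obj
      (Sieve.ofArrows (fun i => (Y i).left) (fun i => (Y i).hom)).functor) M n) ≅
      AddCommGrpCat.of (CohSite.HU M n X) := fun n =>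
    ((Abelian.extFunctor n).mapIso (freeIso J _ hY).op).app M
  have e : ∀ n : ℤ, (if 0 ≤ n then AddCommGrpCat.of (CohCx.HK ((presheafToSheaf J (Type u)).obj
        (Sieve.ofArrows (fun i => (Y i).left) (fun i => (Y i).hom)).functor) M n.toNat)
      else AddCommGrpCat.of PUnit.{u + 1}) ≅
      (if 0 ≤ n then AddCommGrpCat.of (CohSite.HU M n.toNat X)
        else AddCommGrpCat.of PUnit.{u + 1}) := fun n =>
    if h : 0 ≤ n then
      eqToIso (if_pos h) ≪≫ eH n.toNat ≪≫ eqToIso (if_pos h).symm
    else
      eqToIso (if_neg h) ≪≫ eqToIso (if_neg h).symm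
  refine ⟨E, Groth.Agent.Lib.Helper5.SpSeqAbut.transport a e,
    fun n => Groth.Agent.Lib.Helper5.SpSeqAbut.transport_isFinite _ _ n (hfin n), hbdd,
    fun p q => ?_⟩
  obtain ⟨i⟩ := hE2 p q
  by_cases h : 0 ≤ p ∧ 0 ≤ q
  · rw [if_pos h] at i ⊢
    obtain ⟨j⟩ := Groth.Agent.S6174.result (M.cohomologyPresheaf q.toNat) Y p.toNat
    exact ⟨i ≪≫ j.symm⟩
  · rw [if_neg h] at i ⊢
    exact ⟨i⟩

end Groth.Agent.S6164
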