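import Groth.Statements.S6166
import Groth.Agent.Lib.Helper5.SiteSS
import Groth.Agent.Lib.Helper5.SpSeqOneCol
import Groth.Agent.S0487

set_option autoImplicit false
universe u
open CategoryTheory
open CohSite

namespace Groth.Agent.S6166

open CategoryTheory CategoryTheory.Limits Opposite in
/-- The higher direct images of a sheaf which is acyclic on all objects vanish. -/
lemma isZero_Rpush {C D : Type u} [SmallCategory C] [SmallCategory D]
    (J : GrothendieckTopology C) (K : GrothendieckTopology D) (u : D ⥤ C) [u.IsContinuous K J]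
    (F : Sheaf J AddCommGrpCat.{u})
    (hF : ∀ (U : C) (q : ℕ), Subsingleton (CohSite.HU F (q + 1) U)) (q : ℕ) :
    IsZero ((CohSite.Rpush J K u (q + 1)).obj F) := by
  obtain ⟨e⟩ := Groth.Agent.S0487.result J K u F (q + 1)
  refine IsZero.of_iso ?_ e
  apply Functor.map_isZero
  apply Functor.isZero
  intro V
  have h := hF (u.obj V.unop) q
  exact @AddCommGrpCat.isZero_of_subsingleton _ h

open CategoryTheory CategoryTheory.Limits Opposite in
lemma subsingleton_HU_of_isZero {C : Type u} [SmallCategory C] {J : GrothendieckTopology C}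
    (G : Sheaf J AddCommGrpCat.{u}) (hG : IsZero G) (p : ℕ) (V : C) :
    Subsingleton (CohSite.HU G p V) :=
  subsingleton_of_forall_eq 0 fun x => by
    have h : (𝟙 G) = 0 := hG.eq_of_src _ _
    have h2 := Abelian.Ext.comp_mk₀_id (x : Abelian.Ext (CohCx.freeSheaf J V) G p)
    rw [← h2, h, Abelian.Ext.mk₀_zero, Abelian.Ext.comp_zero]
    rfl

open CategoryTheory.Limits in
/-- Let u : D -> C be a continuous functor between small sites with exact pullback on sheaves of sets (a
morphism of topoi), and take the topologically generating families to be all objects of C, resp. of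
D, so that the inverse image of the second lies in the first. For an abelian sheaf F on C: if H^q(U,
F) = 0 for all objects U of C and all q > 0, then H^q(V, u_* F) = 0 for all objects V of D and all q
> 0, where u_* F = F o u. -/
theorem result {C D : Type u} [SmallCategory C] [SmallCategory D]
    (J : GrothendieckTopology C) (K : GrothendieckTopology D) (u : D ⥤ C) [u.IsContinuous K J]
    [PreservesFiniteLimits (u.sheafPullback (Type u) K J)] (F : Sheaf J AddCommGrpCat.{u})
    (hF : ∀ (U : C) (q : ℕ), Subsingleton (CohSite.HU F (q + 1) U)) (V : D) (q : ℕ) :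
    Subsingleton (CohSite.HU ((CohSite.push J K u).obj F) (q + 1) V) := by
  classical
  obtain ⟨E, a, hfin, -, hE⟩ := Groth.Agent.Lib.Helper5.SiteSS.leraySS J K u F V
  have hz : ∀ p q' : ℤ, q' ≠ 0 → CategoryTheory.Limits.IsZero ((E.page 2 le_rfl).X (p, q')) := by
    intro p q' hq'
    obtain ⟨e⟩ := hE p q'
    refine CategoryTheory.Limits.IsZero.of_iso ?_ e
    split_ifs with hpq
    · obtain ⟨k, hk⟩ : ∃ k : ℕ, q'.toNat = k + 1 := ⟨q'.toNat - 1, by lia⟩
      rw [hk]
      have := subsingleton_HU_of_isZero _ (isZero_Rpush J K u F hF k) p.toNat V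
      exact AddCommGrpCat.isZero_of_subsingleton _
    · exact AddCommGrpCat.isZero_of_subsingleton _
  obtain ⟨e1⟩ := Groth.Agent.Lib.Helper5.SpSeqStat.oneRow E a ((q + 1 : ℕ) : ℤ) (hfin _) hz
  obtain ⟨e2⟩ := hE ((q + 1 : ℕ) : ℤ) 0
  simp only [Int.natCast_nonneg, if_true, le_refl, and_self, Int.toNat_natCast, Int.toNat_zero]
    at e1 e2
  -- `R⁰u_* F ≅ u_* F`
  have e3 : (CohSite.Rpush J K u 0).obj F ≅ (CohSite.push J K u).obj F :=
    (CohSite.push J K u).rightDerivedZeroIsoSelf.app F
  have e4 : AddCommGrpCat.of (CohSite.HU ((CohSite.Rpush J K u 0).obj F) (q + 1) V) ≅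
      AddCommGrpCat.of (CohSite.HU ((CohSite.push J K u).obj F) (q + 1) V) :=
    ((CategoryTheory.Abelian.extFunctorObj (CohCx.freeSheaf K V) (q + 1)).mapIso e3)
  have h1 := hF (u.obj V) q
  exact ((e1 ≪≫ e2 ≪≫ e4).symm.addCommGroupIsoToAddEquiv).toEquiv.subsingleton

end Groth.Agent.S6166
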