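import Groth.Statements.S6167
import Mathlib
import Groth.Agent.Lib.Helper17.LocalFactor

set_option autoImplicit false
universe u
open CategoryTheory
open ModSite

namespace Groth.Agent.S6167

/-- Ringed site (C, O), small, with commutative structure sheaf: a morphism from an O-module of finite
presentation (Mathlib's notion: over some family of objects covering every object, a cokernel of a
map of finite free modules) to a flat O-module factors, locally on the site, through a finite free
module: for every object X there is a covering family (Y_i -> X) and for each i a factorisation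
F|Y_i -> (O|Y_i)^n -> H|Y_i of the restricted morphism. -/
theorem result {C : Type u} [SmallCategory C] {J : GrothendieckTopology C}
    (O : Sheaf J CommRingCat.{u}) (F H : ModSite.Mod O) [F.IsFinitePresentation] (hH : ModSite.IsFlat H)
    (φ : F ⟶ H) (X : C) :
    ∃ (ι : Type u) (Y : ι → C) (g : ∀ i, Y i ⟶ X), Sieve.ofArrows Y g ∈ J X ∧
      ∀ i, ∃ (n : ℕ) (a : (ModSite.restr O (Y i)).obj F ⟶ SheafOfModules.free (ULift.{u} (Fin n)))
        (b : SheafOfModules.free (ULift.{u} (Fin n)) ⟶ (ModSite.restr O (Y i)).obj H),
        a ≫ b = (ModSite.restr O (Y i)).map φ := by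
  classical
  obtain ⟨σ, hσ⟩ := SheafOfModules.IsFinitePresentation.exists_quasicoherentData F
  have hEC : Groth.Agent.Lib.Helper17.EqCrit.EC H :=
    fun U n f s hs => Groth.Agent.Lib.Helper17.EqCrit.ec_of_isFlat H hH U n f s hs
  have key' := fun j : σ.I =>
    Groth.Agent.Lib.Helper17.LocalFactor.key F H hEC φ (σ.X j) (σ.presentation j)
  choose S hS hfac using key'
  let T : Sieve X :=
    { arrows := fun W f => ∃ (j : σ.I) (g : W ⟶ σ.X j), S j g
      downward_closed := by
        rintro W W' f ⟨j, g, hg⟩ h
        exact ⟨j, h ≫ g, (S j).downward_closed hg h⟩ }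
  have hT : T ∈ J X := by
    refine J.transitive (σ.coversTop X) T ?_
    intro Y f hf
    obtain ⟨j, ⟨g⟩⟩ := (Sieve.mem_ofObjects_iff ..).mp hf
    refine J.superset_covering ?_ (J.pullback_stable g (hS j))
    intro W h hh
    exact ⟨j, h ≫ g, hh⟩
  refine ⟨Σ W : C, {f : W ⟶ X // T f}, fun i => i.1, fun i => i.2.1, ?_, ?_⟩
  · refine J.superset_covering ?_ hT
    intro W f hf
    exact Sieve.ofArrows_mk (fun i : Σ W : C, {f : W ⟶ X // T f} => i.1) (fun i => i.2.1) ⟨W, f, hf⟩
  · rintro ⟨W, f, j, g, hg⟩
    exact hfac j g hg

end Groth.Agent.S6167
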