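import Groth.Statements.S6172
import Mathlib

set_option autoImplicit false
universe u
open CategoryTheory
open SGA4

namespace Groth.Agent.S6172

open CategoryTheory.Limits MonoidalCategory in
/-- Topos E of sheaves of sets on a small site, localised at an object Z: with j_Z : E/Z -> E the
localisation morphism, j_Z^* X = Z x X over Z, and j_{Z*} its right adjoint (taken as an instance
hypothesis, which holds in any topos), j_{Z*} j_Z^* Y is isomorphic to the internal hom Hom(Z, Y)
for every object Y. Existence of an isomorphism only (the source's is canonical). -/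
theorem result {C : Type u} [SmallCategory C] (J : GrothendieckTopology C)
    (Z Y : Sheaf J (Type u)) [(Over.star Z).IsLeftAdjoint] :
    Nonempty (((Over.star Z).rightAdjoint).obj ((Over.star Z).obj Y) ≅ (ihom Z).obj Y) := by
  let adj1 : Over.star Z ⋙ Over.forget Z ⊣ Over.star Z ⋙ (Over.star Z).rightAdjoint :=
    (Adjunction.ofIsLeftAdjoint (Over.star Z)).comp (Over.forgetAdjStar Z)
  let e0 : Over.star Z ⋙ Over.forget Z ≅ prod.functor.obj Z :=
    NatIso.ofComponents (fun Y => Iso.refl _) (by intro A B f; simp; exact (Category.comp_id _).trans (Category.id_comp _).symm)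
  let e : Over.star Z ⋙ Over.forget Z ≅ tensorLeft Z :=
    e0 ≪≫ (CartesianMonoidalCategory.tensorLeftIsoProd Z).symm
  let adj2 : tensorLeft Z ⊣ Over.star Z ⋙ (Over.star Z).rightAdjoint := adj1.ofNatIsoLeft e
  exact ⟨(adj2.rightAdjointUniq (ihom.adjunction Z)).app Y⟩

end Groth.Agent.S6172
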