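import Groth.Statements.S6176
import Mathlib

set_option autoImplicit false
universe u
open CategoryTheory
open SGA4

namespace Groth.Agent.S6176

universe v w

open CategoryTheory.Limits in
theorem aux_forget_preservesProducts {E : Type v} [Category.{u} E] [HasTerminal E] (U : E) (hU : Mono (terminal.from U))
    (I : Type w) [Nonempty I] : PreservesLimitsOfShape (Discrete I) (Over.forget U) := by
  have hsub : ∀ {W : E} (a b : W ⟶ U), a = b := fun a b => by
    rw [← cancel_mono (terminal.from U)]; exact Subsingleton.elim _ _
  constructor
  intro K
  constructor
  intro c hc
  let i0 : I := Classical.arbitrary I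
  let s' : Cone (K ⋙ Over.forget U) → Cone K := fun s =>
    { pt := Over.mk (s.π.app ⟨i0⟩ ≫ (K.obj ⟨i0⟩).hom)
      π := Discrete.natTrans (fun j => Over.homMk (s.π.app j) (hsub _ _)) }
  refine ⟨{ lift := fun s => (hc.lift (s' s)).left, fac := ?_, uniq := ?_ }⟩
  · intro s j
    have := congrArg CommaMorphism.left (hc.fac (s' s) j)
    exact this
  · intro s m hm
    have : Over.homMk (U := (s' s).pt) (V := c.pt) m (hsub _ _) = hc.lift (s' s) := by
      apply hc.uniq (s' s)
      intro j
      ext
      exact hm j
    rw [← this]
    rfl


open CategoryTheory.Limits in
/-- The clause on products (topos of sheaves of sets on a small site; j : E/U -> E the open embedding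
defined by an open U, i.e. a subobject of the final object, so that j_! is the forgetful functor
from objects over U): j_! commutes with products indexed by a nonempty u-small set. (Commutation
with fibre products and cofiltered limits, the other clauses, holds for the forgetful functor of any
slice.) -/
theorem result {C : Type u} [SmallCategory C] (J : GrothendieckTopology C)
    (U : Sheaf J (Type u)) (hU : SGA4.IsOpen U) (I : Type u) [Nonempty I] :
    PreservesLimitsOfShape (Discrete I) (Over.forget U) := by
  exact aux_forget_preservesProducts U hU I

end Groth.Agent.S6176
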