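import Groth.Statements.S6177
import Mathlib

set_option autoImplicit false
universe u
open CategoryTheory
open SGA4

namespace Groth.Agent.S6177

universe v
open CategoryTheory.Limits

section
variable {E : Type v} [Category.{u} E]
  [HasBinaryProducts E] [HasPushouts E] [HasTerminal E]

theorem isIso_fst_pushout (U : E) (hU : Mono (terminal.from U))
    [PreservesColimitsOfShape WalkingSpan (prod.functor.obj U)] (Y : E) :
    IsIso (prod.fst : U ⨯ pushout (prod.fst : U ⨯ Y ⟶ U) (prod.snd : U ⨯ Y ⟶ Y) ⟶ U) := by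
  have hsub : ∀ {W : E} (a b : W ⟶ U), a = b := fun a b => by
    rw [← cancel_mono (terminal.from U)]; exact Subsingleton.elim _ _
  set P := pushout (prod.fst : U ⨯ Y ⟶ U) (prod.snd : U ⨯ Y ⟶ Y) with hP
  have hpo : IsPushout (prod.map (𝟙 U) (prod.fst : U ⨯ Y ⟶ U)) (prod.map (𝟙 U) (prod.snd : U ⨯ Y ⟶ Y))
      (prod.map (𝟙 U) (pushout.inl _ _ : U ⟶ P)) (prod.map (𝟙 U) (pushout.inr _ _ : Y ⟶ P)) :=
    (IsPushout.of_hasPushout (prod.fst : U ⨯ Y ⟶ U) (prod.snd : U ⨯ Y ⟶ Y)).map
      (prod.functor.obj U)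
  have key : (prod.fst ≫ pushout.inl _ _ : U ⨯ P ⟶ P) = prod.snd := by
    apply hpo.hom_ext
    · rw [prod.map_fst_assoc, Category.id_comp, prod.map_snd,
        hsub (prod.fst : U ⨯ U ⟶ U) prod.snd]
    · rw [prod.map_fst_assoc, Category.id_comp, prod.map_snd]
      exact pushout.condition
  refine ⟨prod.lift (𝟙 U) (pushout.inl _ _), ?_, ?_⟩
  · apply Limits.prod.hom_ext
    · rw [Category.assoc, prod.lift_fst, Category.comp_id, Category.id_comp]
    · rw [Category.assoc, prod.lift_snd, Category.id_comp, key]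
  · exact prod.lift_fst _ _
end



open CategoryTheory.Limits in
/-- Topos of sheaves of sets on a small site; U an open, i.e. a subobject of the final object; X_CU the
pushout of U <- U x X -> X along the two projections: (ii) <=> (iii): the canonical map X -> X_CU is
an isomorphism if and only if the projection U x X -> U is an isomorphism (X belongs to the closed
complement of U); and (i) => (iii): if X is isomorphic to Y_CU for some Y then X belongs to the
closed complement of U ((iii) => (i) with Y = X is then immediate from (ii)). -/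
theorem result {C : Type u} [SmallCategory C] (J : GrothendieckTopology C)
    (U : Sheaf J (Type u)) (hU : SGA4.IsOpen U) (X : Sheaf J (Type u)) :
    (SGA4.closedCompl U X ↔ IsIso (pushout.inr (prod.fst : U ⨯ X ⟶ U) (prod.snd : U ⨯ X ⟶ X))) ∧
    ((∃ Y : Sheaf J (Type u), Nonempty (X ≅ pushout (prod.fst : U ⨯ Y ⟶ U) (prod.snd : U ⨯ Y ⟶ Y))) →
      SGA4.closedCompl U X) := by
  have main : ∀ (X Y : Sheaf J (Type u)) (e : X ≅ pushout (prod.fst : U ⨯ Y ⟶ U) (prod.snd : U ⨯ Y ⟶ Y)),
      SGA4.closedCompl U X := by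
    intro X Y e
    have hcl : Closed U := by infer_instance
    have : (prod.functor.obj U).IsLeftAdjoint :=
      @CartesianMonoidalCategory.isLeftAdjoint_prod_functor _ _ _ U hcl
    have h1 := isIso_fst_pushout U hU Y
    have h2 : (prod.fst : U ⨯ X ⟶ U) = prod.map (𝟙 U) e.hom ≫ prod.fst := by simp
    show IsIso (prod.fst : U ⨯ X ⟶ U)
    rw [h2]
    infer_instance
  refine ⟨⟨?_, ?_⟩, ?_⟩
  · intro h
    have : IsIso (prod.fst : U ⨯ X ⟶ U) := h
    infer_instance
  · intro h
    exact main X X (asIso (pushout.inr (prod.fst : U ⨯ X ⟶ U) (prod.snd : U ⨯ X ⟶ X)))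
  · rintro ⟨Y, ⟨e⟩⟩
    exact main X Y e

end Groth.Agent.S6177
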