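import Groth.Statements.S6178
import Groth.Agent.Lib.Helper5.CechCrit

set_option autoImplicit false
universe u
open CategoryTheory
open CohSite

namespace Groth.Agent.S6178

/-- An abelian sheaf F on a small site (C, J) is C-acyclic, i.e. H^q(X, F) = 0 for all objects X and q >
0, if and only if H^q(R, H^0(F)) = 0 for every object X, every covering sieve R of X and every q >
0, where H^0(F) is the underlying presheaf of F and H^q(R, -), for a presheaf of sets R, is the q-th
Ext out of the free abelian presheaf on R computed in abelian presheaves (the sheaves for the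
trivial topology). -/
theorem result {C : Type u} [SmallCategory C] (J : GrothendieckTopology C)
    (F : Sheaf J AddCommGrpCat.{u}) :
    (∀ (X : C) (q : ℕ), Subsingleton (CohSite.HU F (q + 1) X)) ↔
      ∀ (X : C) (R : Sieve X), R ∈ J X → ∀ q : ℕ,
        Subsingleton (CohCx.HK (J := (⊥ : GrothendieckTopology C)) ⟨R.functor, Presheaf.isSheaf_bot _⟩
          ⟨F.obj, Presheaf.isSheaf_bot _⟩ (q + 1)) := by
  constructor
  · intro hF X R hR q
    obtain ⟨e⟩ := Groth.Agent.Lib.Helper5.PshSh.nonempty_ext_addEquiv_of_acyclic J R hR F
      (fun U q => hF U q) (q + 1)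
    haveI : Subsingleton (Abelian.Ext (CohCx.freeSheaf J X) F (q + 1)) := hF X q
    exact e.symm.toEquiv.subsingleton
  · intro hF X q
    exact Groth.Agent.Lib.Helper5.PshSh.acyclic_of_ext_PR J q F (fun X R hR q => hF X R hR q) X

end Groth.Agent.S6178
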