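import Groth.Statements.S6185
import Mathlib
import Groth.Prelude.Def_EtCore
import Groth.Agent.Lib.Helper2.BigSmall
import Groth.Agent.Lib.Helper20.ExtAdj

set_option autoImplicit false
open CategoryTheory CategoryTheory.Limits AlgebraicGeometry Opposite
universe u
open BigSite

namespace Groth.Agent.S6185
universe w₁ w₂ v₁ v₂ v₃ u₁ u₂ u₃

section
variable {𝒜 : Type u₁} [Category.{v₁} 𝒜] [Abelian 𝒜] [HasExt.{w₁} 𝒜]
variable {ℬ : Type u₂} [Category.{v₂} ℬ] [Abelian ℬ] [HasExt.{w₂} ℬ]
variable {M : Type u₃} [Category.{v₃} M]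
variable (R : 𝒜 ⥤ ℬ) [R.Additive] [PreservesFiniteLimits R] [PreservesFiniteColimits R]
variable [EnoughInjectives 𝒜] [R.PreservesInjectiveObjects]
variable {cA : M ⥤ 𝒜} {ΓA : 𝒜 ⥤ M} (adjA : cA ⊣ ΓA) {cB : M ⥤ ℬ} {ΓB : ℬ ⥤ M} (adjB : cB ⊣ ΓB)
  (e : R ⋙ ΓB ≅ ΓA)

include adjA adjB e in
/-- Ext adjunction along an exact functor compatible with "global sections" functors. -/
theorem nonempty_ext_addEquiv (m : M) (Y : 𝒜) (n : ℕ) :
    Nonempty (Abelian.Ext.{w₁} (cA.obj m) Y n ≃+ Abelian.Ext.{w₂} (cB.obj m) (R.obj Y) n) := by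
  let η : cB.obj m ⟶ R.obj (cA.obj m) :=
    (adjB.homEquiv m (R.obj (cA.obj m))).symm (adjA.unit.app m ≫ e.inv.app (cA.obj m))
  refine ⟨Groth.Agent.Lib.Helper20.ExtAdj.extAddEquiv R η ?_ Y n⟩
  intro Y
  have key : (fun f : cA.obj m ⟶ Y => η ≫ R.map f) =
      fun f => (adjB.homEquiv m (R.obj Y)).symm (adjA.homEquiv m Y f ≫ e.inv.app Y) := by
    funext f
    apply (adjB.homEquiv m (R.obj Y)).injective
    rw [Equiv.apply_symm_apply, Adjunction.homEquiv_naturality_right, Equiv.apply_symm_apply,
      Adjunction.homEquiv_unit, Category.assoc, Category.assoc]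
    congr 1
    exact (e.inv.naturality f).symm
  rw [key]
  have h2 : Function.Bijective (fun g : m ⟶ ΓA.obj Y => g ≫ e.inv.app Y) := by
    constructor
    · intro a b hab
      exact (cancel_mono (e.inv.app Y)).1 hab
    · intro g
      exact ⟨g ≫ e.hom.app Y, by simp⟩
  exact (Equiv.bijective (adjB.homEquiv m (R.obj Y)).symm).comp
    (h2.comp (Equiv.bijective (adjA.homEquiv m Y)))
end


open BigSite in
/-- general version for `K` with `a_S` continuous and cocontinuous -/
theorem main (K : Precoverage Scheme.{u}) (X : Scheme.{u}) [AEtCont K X] [AEtCocont K X]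
    (F : BigSite.Ab K X) (p : ℕ) :
    Nonempty (EtCoh.H X ((BigSite.resEt K X).obj F) p ≃+ BigSite.H K X F p) := by
  have : PreservesFiniteLimits (resEt K X) := by
    have := (piEtAdj K X).rightAdjoint_preservesLimits
    infer_instance
  have : PreservesFiniteColimits (resEt K X) := by
    have := (iEtAdj K X).leftAdjoint_preservesColimits
    infer_instance
  have : (resEt K X).PreservesInjectiveObjects :=
    ⟨fun {I} hI => Groth.Agent.Lib.Helper2.BigSmall.injective_resEt K X I⟩
  let adjA := constantSheafAdj (QuotSh.J K X) AddCommGrpCat.{u+1} (Over.mkIdTerminal (X := X))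
  let e : resEt K X ⋙ EtCore.gsec X ≅
      (sheafSections (QuotSh.J K X) AddCommGrpCat.{u+1}).obj (op (Over.mk (𝟙 X))) :=
    NatIso.ofComponents (fun G => Iso.refl _) (fun f => by
      ext x
      rfl)
  obtain ⟨φ⟩ := nonempty_ext_addEquiv (resEt K X) adjA (EtCore.constAdj X) e
    (AddCommGrpCat.of (ULift ℤ)) F p
  exact ⟨φ.symm⟩


/-- For a scheme X and an abelian sheaf F on the big etale site of X, the cohomology groups H^p(X_et,
F|) of the restriction of F to the small etale site and H^p of F on the big etale site are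
isomorphic for every p. Existence of an additive isomorphism only (the published statement asserts
that the canonical comparison homomorphism is an isomorphism; that map is not named here). -/
theorem result (X : Scheme.{u})
    (F : BigSite.Ab Scheme.etalePrecoverage X) (p : ℕ) :
    Nonempty (EtCoh.H X ((BigSite.resEt Scheme.etalePrecoverage X).obj F) p ≃+
      BigSite.H Scheme.etalePrecoverage X F p) := by
  exact main Scheme.etalePrecoverage X F p

end Groth.Agent.S6185
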