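import Groth.Statements.S6191
import Mathlib
import Groth.Agent.Lib.Helper28.PushStalkCx

set_option autoImplicit false
universe u
open CategoryTheory CategoryTheory.Limits AlgebraicGeometry
attribute [local instance] HasDerivedCategory.standard
open KSix

namespace Groth.Agent.S6191

/-- Let i : X ⟶ X' be a closed immersion, f' : X' ⟶ Y smooth, f = i ≫ f', and F a cochain complex of
O_X-modules whose termwise direct image i_* F has tor amplitude in [a, b] in the absolute sense on
X' (it is isomorphic in D(O_X') to a complex of flat O_X'-modules placed in [a, b]). Then F has tor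
amplitude in [a, b] relative to f (stalkwise flat models placed in [a, b] over the local rings of
Y). -/
theorem result {X X' Y : Scheme.{u}} (i : X ⟶ X') [IsClosedImmersion i]
    (f' : X' ⟶ Y) [Smooth f'] (F : CochainComplex X.Modules ℤ) (a b : ℤ)
    (hF : DCoh.HasFlatAmplitudeIn a b (DCoh.toD X' (((Scheme.Modules.pushforward i).mapHomologicalComplex (ComplexShape.up ℤ)).obj F))) :
    DerSch.HasTorAmplitude (i ≫ f') a b F := by
  obtain ⟨E, hv, hfl, ⟨e⟩⟩ := hF
  have h1 : DerSch.HasTorAmplitude f' a b E :=
    Groth.Agent.Lib.Helper28.FibreTor.hasTorAmplitude_of_flatTerms f' E a b hv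
      (fun n => Groth.Agent.Lib.Helper28.RelPerf.isFlatOver_of_isFlat f' (hfl n))
  intro x
  have hi : Topology.IsInducing i.base := i.isEmbedding.isInducing
  rw [← Groth.Agent.Lib.Helper28.PushStalkCx.hasTorAmplitudeAt_push_iff i hi x f' F a b]
  exact Groth.Agent.Lib.Helper28.RelPerf.hasTorAmplitudeAt_of_iso f' e a b (i.base x) (h1 (i.base x))

end Groth.Agent.S6191
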