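import Groth.Statements.S6196
import Mathlib
import Groth.Agent.Lib.Helper28.MatCx3

set_option autoImplicit false
universe u
open CategoryTheory CategoryTheory.Limits AlgebraicGeometry
attribute [local instance] HasDerivedCategory.standard
open KSix

namespace Groth.Agent.S6196

/-- Let X be a scheme, x ∈ X and P a perfect object of the derived category of the local ring of X at x.
Then there are an open neighbourhood U of x and a cochain complex F' of O_X-modules, perfect over U,
whose complex of stalks at x is isomorphic to P in that derived category. (The published statement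
is for a point of a ringed topos; this row is the case of schemes, the complex being taken on all of
X and asked to be perfect over U.) -/
theorem result {X : Scheme.{u}} (x : X) (P : Dual.D ((X.presheaf.stalk x) : Type u))
    (hP : DRing.IsPerfect ((X.presheaf.stalk x) : Type u) P) :
    ∃ (U : X.Opens) (F' : CochainComplex X.Modules ℤ), x ∈ U ∧
      DCoh.IsPerfect (DerivedCategory.Q.obj ((DCoh.restrictCx U).obj F')) ∧
      Nonempty (DRing.toD (((DerSch.stalkFunctor X x).mapHomologicalComplex (ComplexShape.up ℤ)).obj F') ≅ P) := by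
  obtain ⟨E, a, b, hv, hE, ⟨e⟩⟩ := hP
  obtain ⟨n, D, hD, hn, ⟨e1⟩⟩ :=
    Groth.Agent.Lib.Helper28.MatCx.exists_iso_matCx E a b hv hE
  obtain ⟨W, hW, hx, D', hD', hmap⟩ :=
    Groth.Agent.Lib.Helper28.MatCx.exists_descent x n a b hn D hD
  refine ⟨W, (Groth.Agent.Lib.Helper28.MatCx.pushCx hW.fromSpec).obj
    ((Groth.Agent.Lib.Helper28.DCohTilde.tildeCx Γ(X, W)).obj
      (Groth.Agent.Lib.Helper28.MatCx.matCx Γ(X, W) n D' hD')), hx, ?_, ?_⟩
  · exact Groth.Agent.Lib.Helper28.MatCx.isPerfect_restrictCx_push_tilde W hW _ a b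
      (Groth.Agent.Lib.Helper28.MatCx.vanishesOutside_matCx n D' hD' a b hn)
      (Groth.Agent.Lib.Helper28.MatCx.termwiseFiniteProjective_matCx n D' hD')
  · obtain ⟨e2⟩ :=
      Groth.Agent.Lib.Helper28.MatCx.nonempty_stalkCx_push_tilde_iso W hW x hx n D' hD'
    have h3 := Groth.Agent.Lib.Helper28.MatCx.matCx_eq n hD
      (Groth.Agent.Lib.Helper28.MatCx.map_rel (D := D') (X.presheaf.germ W x hx).hom hD')
      (funext hmap)
    exact ⟨DerivedCategory.Q.mapIso (e2 ≪≫ eqToIso h3 ≪≫ e1.symm) ≪≫ e⟩

end Groth.Agent.S6196
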