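import Groth.Statements.S6229
import Mathlib
import Groth.Agent.Lib.Helper28.RelPC38
import Groth.Agent.Lib.Helper28.PullTor2

set_option autoImplicit false
universe u
open CategoryTheory CategoryTheory.Limits AlgebraicGeometry
attribute [local instance] HasDerivedCategory.standard
open KSix

namespace Groth.Agent.S6229

/-- Let f : X ⟶ Y and g : Y ⟶ Z be locally of finite type, m a natural number with f of perfect
dimension at most m (O_X placed in degree 0 is pseudo-coherent relative to f in chart form, with
stalkwise tor amplitude in [-m, 0] over the local rings of Y), c and d integers, and G a cochain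
complex of O_Y-modules with perfect amplitude in [c, d] relative to g. Then, the derived pullback
Lf^* being assumed to exist, Lf^* G has perfect amplitude in [c - m, d] relative to f ≫ g: every
cochain complex representing it does. -/
theorem result {X Y Z : Scheme.{u}} (f : X ⟶ Y) (g : Y ⟶ Z)
    [LocallyOfFiniteType f] [LocallyOfFiniteType g] (m : ℕ) (hf : DerSch.HasPerfDimLE f m) [DCoh.HasLpull f] (c d : ℤ)
    (G : CochainComplex Y.Modules ℤ) (hG : DerSch.HasPerfAmplitudeRel g c d G) :
    ∀ F' : CochainComplex X.Modules ℤ, Nonempty (DCoh.toD X F' ≅ (DCoh.Lpull f).obj (DCoh.toD Y G)) →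
      DerSch.HasPerfAmplitudeRel (f ≫ g) (c - m) d F' := by
  intro F' ⟨e⟩
  have hGq := Groth.Agent.Lib.Helper28.RelPC.isQCohD_of_isPseudoCoherentRelAll g _ hG.1
  refine ⟨fun n => ?_, ?_⟩
  · exact Groth.Agent.Lib.Helper28.RelPC.isPseudoCoherentRel_of_iso (f ≫ g) n e.symm
      (Groth.Agent.Lib.Helper28.RelPC.isPseudoCoherentRel_Lpull_comp f g hf.1 _ hGq n (hG.1 n))
  · exact Groth.Agent.Lib.Helper28.PullTor.hasTorAmplitudeD_Lpull f g m hf.2 G c d hG.2 F' ⟨e⟩

end Groth.Agent.S6229
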