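import Groth.Statements.S6239
import Mathlib
import Groth.Agent.Lib.Helper13.DRingTor3

set_option autoImplicit false
universe u
open CategoryTheory CategoryTheory.Limits AlgebraicGeometry
attribute [local instance] HasDerivedCategory.standard
open KSix

namespace Groth.Agent.S6239

/-- Let f : X ⟶ Y be a morphism with X quasi-compact and F a cochain complex of O_X-modules which is
perfect relative to f (pseudo-coherent relative to f in chart form, and locally on X of finite
stalkwise tor amplitude over the local rings of Y). Then F has finite perfect amplitude relative to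
f: one interval [a, b] works at every point of X. -/
theorem result {X Y : Scheme.{u}} [CompactSpace X] (f : X ⟶ Y)
    (F : CochainComplex X.Modules ℤ) (hF : DerSch.IsPerfectRel f F) :
    DerSch.HasFinitePerfAmplitudeRel f F := by
  obtain ⟨hpc, hloc⟩ := hF
  choose V a b hxV hV using hloc
  obtain ⟨t, ht⟩ := CompactSpace.elim_nhds_subcover (fun x => (V x : Set X))
    (fun x => (V x).2.mem_nhds (hxV x))
  let A : ℕ := t.sup (fun x => (a x).natAbs ⊔ (b x).natAbs)
  refine ⟨-(A : ℤ), (A : ℤ), hpc, fun x' => ?_⟩
  have hx' : x' ∈ ⋃ x ∈ t, (V x : Set X) := by rw [ht]; trivial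
  simp only [Set.mem_iUnion] at hx'
  obtain ⟨x, hxt, hx'V⟩ := hx'
  have hA : (a x).natAbs ⊔ (b x).natAbs ≤ A := Finset.le_sup (f := fun x => (a x).natAbs ⊔ (b x).natAbs) hxt
  have h1 : (a x).natAbs ≤ A := le_trans le_sup_left hA
  have h2 : (b x).natAbs ≤ A := le_trans le_sup_right hA
  exact Groth.Agent.Lib.Helper13.DR.hasTorAmplitudeIn_mono (by omega) (by omega) (hV x x' hx'V)

end Groth.Agent.S6239
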