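import Groth.Statements.S6263
import Mathlib

set_option autoImplicit false
universe u
open CAlg

namespace Groth.Agent.S6263



open TensorProduct in
/-- flat modules: multiplication by `x ∉ p` is injective on `N / pN`. -/
theorem mem_smul_of_smul_mem {R : Type u} [CommRing R] (N : Type u) [AddCommGroup N]
    [Module R N] [Module.Flat R N] (p : Ideal R) [p.IsPrime] (x : R) (hx : x ∉ p) (n : N)
    (h : x • n ∈ (p • ⊤ : Submodule R N)) : n ∈ (p • ⊤ : Submodule R N) := by
  let mx : (R ⧸ p) →ₗ[R] (R ⧸ p) := LinearMap.lsmul R (R ⧸ p) x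
  have hinj : Function.Injective mx := by
    rw [← LinearMap.ker_eq_bot, LinearMap.ker_eq_bot']
    intro y hy
    obtain ⟨r, rfl⟩ := Ideal.Quotient.mk_surjective y
    have hy2 : Ideal.Quotient.mk p (x * r) = 0 := by
      rw [map_mul]
      rw [← hy]
      change _ = x • (Ideal.Quotient.mk p r)
      rw [Algebra.smul_def]
      rfl
    rw [Ideal.Quotient.eq_zero_iff_mem] at hy2
    have hy := hy2
    rw [Ideal.Quotient.eq_zero_iff_mem]
    exact (Ideal.IsPrime.mem_or_mem inferInstance hy).resolve_left hx
  have hinj2 := Module.Flat.rTensor_preserves_injective_linearMap (M := N) mx hinj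
  have h1 : (1 : R ⧸ p) ⊗ₜ[R] n = 0 := by
    apply hinj2
    rw [map_zero, LinearMap.rTensor_tmul]
    change (x • (1 : R ⧸ p)) ⊗ₜ[R] n = 0
    rw [TensorProduct.smul_tmul]
    apply (TensorProduct.quotTensorEquivQuotSMul N p).injective
    rw [map_zero, TensorProduct.quotTensorEquivQuotSMul_mk_one_tmul,
      Submodule.Quotient.mk_eq_zero]
    exact h
  have h2 := congrArg (TensorProduct.quotTensorEquivQuotSMul N p) h1
  rw [map_zero, TensorProduct.quotTensorEquivQuotSMul_mk_one_tmul,
    Submodule.Quotient.mk_eq_zero] at h2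
  exact h2

/-- Cayley–Hamilton: `t N ⊆ q N` and `Ann N ⊆ q` prime imply `t ∈ q`. -/
theorem mem_of_smul_le {S : Type u} [CommRing S] (N : Type u) [AddCommGroup N] [Module S N]
    [Module.Finite S N] (q : Ideal S) [q.IsPrime] (hann : Module.annihilator S N ≤ q) (t : S)
    (ht : ∀ n : N, t • n ∈ (q • ⊤ : Submodule S N)) : t ∈ q := by
  have hrange : LinearMap.range (algebraMap S (Module.End S N) t) ≤ q • ⊤ := by
    rintro _ ⟨m, rfl⟩
    exact ht m
  obtain ⟨P, hmonic, -, hcoeff, hP⟩ :=
    LinearMap.exists_monic_and_natDegree_eq_and_coeff_mem_pow_and_aeval_eq_zero S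
      (algebraMap S (Module.End S N) t) q hrange
  rw [Polynomial.aeval_algebraMap_apply] at hP
  have hann2 : Polynomial.aeval t P ∈ Module.annihilator S N := by
    rw [Module.mem_annihilator]
    intro m
    have := LinearMap.congr_fun hP m
    simpa using this
  have hsum : Polynomial.aeval t P =
      (Finset.range P.natDegree).sum (fun i => P.coeff i * t ^ i) + t ^ P.natDegree := by
    rw [Polynomial.aeval_def, Polynomial.eval₂_eq_sum_range, Finset.sum_range_succ,
      hmonic.coeff_natDegree]
    simp
  have hJmem : (Finset.range P.natDegree).sum (fun i => P.coeff i * t ^ i) ∈ q := by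
    apply Ideal.sum_mem
    intro i hi
    apply Ideal.mul_mem_right
    have h1 := hcoeff i
    have hpos : P.natDegree - i ≠ 0 := by
      rw [Finset.mem_range] at hi
      omega
    exact Ideal.pow_le_self hpos h1
  have h3 : t ^ P.natDegree = Polynomial.aeval t P -
      (Finset.range P.natDegree).sum (fun i => P.coeff i * t ^ i) := by
    rw [hsum]
    ring
  have h4 : t ^ P.natDegree ∈ q := by
    rw [h3]
    exact Ideal.sub_mem _ (hann hann2) hJmem
  exact Ideal.IsPrime.mem_of_pow_mem inferInstance _ h4

/-- For a ring map R → S and a finite S-module N which is flat as an R-module, generalizations lift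
along the map from the support of N (a subset of Spec S) to Spec R: if p ≤ p' are primes of R and q'
is a prime of S in the support of N whose inverse image in R is p', then some prime q ≤ q' of S lies
in the support of N and has inverse image p. -/
theorem result {R S : Type u} [CommRing R] [CommRing S] [Algebra R S] (N : Type u) [AddCommGroup N] [Module S N] [Module R N] [IsScalarTower R S N] [Module.Finite S N] [Module.Flat R N] (p p' : Ideal R) [p.IsPrime] [p'.IsPrime] (hle : p ≤ p') (q' : PrimeSpectrum S) (hq' : q' ∈ Module.support S N) (hover : q'.asIdeal.under R = p') : ∃ q : PrimeSpectrum S, q ≤ q' ∧ q ∈ Module.support S N ∧ q.asIdeal.under R = p := by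

  classical
  have hann : Module.annihilator S N ≤ q'.asIdeal := Module.mem_support_iff_of_finite.mp hq'
  have hpq' : Ideal.map (algebraMap R S) p ≤ q'.asIdeal := by
    rw [Ideal.map_le_iff_le_comap]
    have h0 : q'.asIdeal.comap (algebraMap R S) = p' := hover
    rw [h0]
    exact hle
  set J : Ideal S := Ideal.map (algebraMap R S) p ⊔ Module.annihilator S N with hJ
  set W : Submonoid S := q'.asIdeal.primeCompl ⊔ (p.primeCompl.map (algebraMap R S)) with hW
  have hres : ((Ideal.map (algebraMap R S) p) • ⊤ : Submodule S N).restrictScalars R =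
      (p • ⊤ : Submodule R N) := by
    rw [Ideal.smul_restrictScalars, Submodule.restrictScalars_top]
  have hdisj : Disjoint (J : Set S) W := by
    rw [Set.disjoint_left]
    intro w hwJ hwW
    obtain ⟨t, ht, b, hb, rfl⟩ := Submonoid.mem_sup.mp hwW
    obtain ⟨x, hx, rfl⟩ := Submonoid.mem_map.mp hb
    obtain ⟨j, hj, a, ha, hja⟩ := Submodule.mem_sup.mp hwJ
    apply ht
    apply mem_of_smul_le N q'.asIdeal hann t
    intro n
    have h1 : (t * algebraMap R S x) • n ∈
        ((Ideal.map (algebraMap R S) p) • ⊤ : Submodule S N) := by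
      rw [← hja, add_smul]
      have h0 : a • n = 0 := Module.mem_annihilator.mp ha n
      rw [h0, add_zero]
      exact Submodule.smul_mem_smul hj trivial
    have h2 : x • (t • n) ∈ (p • ⊤ : Submodule R N) := by
      rw [← hres]
      change x • (t • n) ∈ ((Ideal.map (algebraMap R S) p) • ⊤ : Submodule S N)
      rw [← algebraMap_smul S x (t • n), smul_smul, mul_comm]
      exact h1
    have h3 := mem_smul_of_smul_mem N p x hx (t • n) h2
    rw [← hres] at h3
    exact Submodule.smul_mono_left hpq' h3
  obtain ⟨P, hPprime, hJP, hPW⟩ := Ideal.exists_le_prime_disjoint J W hdisj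
  refine ⟨⟨P, hPprime⟩, ?_, ?_, ?_⟩
  · intro s hs
    by_contra hcon
    exact Set.disjoint_left.mp hPW hs (Submonoid.mem_sup_left hcon)
  · rw [Module.mem_support_iff_of_finite]
    exact le_sup_right.trans hJP
  · apply le_antisymm
    · intro x hx
      by_contra hcon
      exact Set.disjoint_left.mp hPW hx
        (Submonoid.mem_sup_right (Submonoid.mem_map.mpr ⟨x, hcon, rfl⟩))
    · rw [Ideal.under, ← Ideal.map_le_iff_le_comap]
      exact le_sup_left.trans hJP

end Groth.Agent.S6263
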