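import Groth.Statements.S6265
import Mathlib.RingTheory.Localization.Basic
import Mathlib.RingTheory.Ideal.Maximal

set_option autoImplicit false
universe u
open CAlg

namespace Groth.Agent.S6265

/-- Let R → S be a ring map with the going-down property such that over every prime of R lies at most
one prime of S, and let p be a prime of R and q a prime of S above it. Then the localization S_p of
S at the image of R - p is a localization of S at q, i.e. S_p = S_q. -/
theorem result {R S : Type u} [CommRing R] [CommRing S] [Algebra R S] [Algebra.HasGoingDown R S] (hinj : ∀ q₁ q₂ : Ideal S, q₁.IsPrime → q₂.IsPrime → q₁.under R = q₂.under R → q₁ = q₂) (p : Ideal R) [p.IsPrime] (q : Ideal S) [q.IsPrime] [q.LiesOver p] : IsLocalization.AtPrime (Localization (Algebra.algebraMapSubmonoid S p.primeCompl)) q := by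
  refine IsLocalization.of_le (M := Algebra.algebraMapSubmonoid S p.primeCompl)
    (S := Localization (Algebra.algebraMapSubmonoid S p.primeCompl)) q.primeCompl ?_ ?_
  · rintro _ ⟨r, hr, rfl⟩ hq
    apply hr
    rw [Ideal.over_def q p]
    exact hq
  · intro s hs
    by_contra hnu
    obtain ⟨m, hm, hsm⟩ := exists_max_ideal_of_mem_nonunits hnu
    have hmp : m.IsPrime := hm.isPrime
    set q' := m.comap (algebraMap S (Localization (Algebra.algebraMapSubmonoid S p.primeCompl)))
      with hq'
    have hq'p : q'.IsPrime := Ideal.comap_isPrime _ _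
    have hdisj : ∀ x ∈ Algebra.algebraMapSubmonoid S p.primeCompl, x ∉ q' := by
      intro x hx hxq
      exact hm.ne_top (Ideal.eq_top_of_isUnit_mem _ hxq
        (IsLocalization.map_units _ (⟨x, hx⟩ : Algebra.algebraMapSubmonoid S p.primeCompl)))
    have hle : q'.under R ≤ p := by
      intro r hr
      by_contra hrp
      exact hdisj _ ⟨r, hrp, rfl⟩ hr
    have : (q'.under R).IsPrime := Ideal.comap_isPrime _ _
    obtain ⟨P, hP, hPp, hPo⟩ := Ideal.exists_ideal_le_liesOver_of_le (p := q'.under R) (q := p) q hle
    have hPq : P = q' := hinj P q' hPp hq'p (Ideal.over_def P (q'.under R)).symm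
    exact hs (hP (hPq ▸ hsm))

end Groth.Agent.S6265
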