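import Groth.Statements.S6266
import Mathlib.RingTheory.Spectrum.Prime.FreeLocus
import Mathlib.RingTheory.LocalProperties.FinitePresentation
import Mathlib.RingTheory.LocalProperties.Projective
import Mathlib.RingTheory.Flat.Localization
import Mathlib.RingTheory.Flat.EquationalCriterion
import Mathlib.RingTheory.Support
import Mathlib.RingTheory.LocalRing.Module
import Mathlib.RingTheory.Localization.Module
import Mathlib.LinearAlgebra.Dimension.OrzechProperty
import Mathlib.LinearAlgebra.TensorProduct.RightExactness

set_option autoImplicit false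
universe u
open scoped TensorProduct
open CAlg

namespace Groth.Agent.S6266

section helpers
variable {R : Type u} [CommRing R] {M : Type u} [AddCommGroup M] [Module R M]

/-- If `φ : R^r → M` becomes bijective after inverting `g`, then `M_g` is free. -/
lemma free_away_of_map {r : ℕ} (g : R) (φ : (Fin r → R) →ₗ[R] M)
    (hsurj : ∀ m : M, ∃ n : ℕ, g ^ n • m ∈ LinearMap.range φ)
    (hinj : ∀ a, φ a = 0 → g • a = 0) :
    Module.Free (Localization.Away g) (LocalizedModule.Away g M) := by
  have hfree : Module.Free (Localization.Away g) (LocalizedModule.Away g (Fin r → R)) :=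
    Module.free_of_isLocalizedModule (Submonoid.powers g)
      (LocalizedModule.mkLinearMap (Submonoid.powers g) (Fin r → R))
  have hbij : Function.Bijective (LocalizedModule.map (Submonoid.powers g) φ) := by
    constructor
    · rw [injective_iff_map_eq_zero]
      intro x hx
      induction x using LocalizedModule.induction_on with
      | h a s =>
        rw [LocalizedModule.map_mk, ← LocalizedModule.zero_mk s, LocalizedModule.mk_eq] at hx
        obtain ⟨u, hu⟩ := hx
        rw [smul_zero, smul_zero, ← mul_smul, Submonoid.smul_def, ← map_smul] at hu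
        have h1 := hinj _ hu
        rw [← LocalizedModule.zero_mk s, LocalizedModule.mk_eq]
        refine ⟨⟨g, 1, pow_one g⟩ * (u * s), ?_⟩
        rw [smul_zero, smul_zero, ← mul_smul, Submonoid.smul_def]
        have : ((⟨g, 1, pow_one g⟩ * (u * s) * s : Submonoid.powers g) : R)
            = (s : R) * g * ((u * s : Submonoid.powers g) : R) := by
          push_cast; ring
        rw [this, mul_smul, mul_smul, h1, smul_zero]
    · intro y
      induction y using LocalizedModule.induction_on with
      | h m s =>
        obtain ⟨n, a, ha⟩ := hsurj m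
        refine ⟨LocalizedModule.mk a (s * ⟨g ^ n, n, rfl⟩), ?_⟩
        rw [LocalizedModule.map_mk, ha]
        exact LocalizedModule.mk_cancel_common_right s ⟨g ^ n, n, rfl⟩ m
  exact Module.Free.of_equiv (LinearEquiv.ofBijective _ hbij)

/-- the quotient of `M` by the span of the `x i`, as range of the linear combination map -/
lemma subsingleton_tensor_quot_of_span {r : ℕ} (K : Type u) [CommRing K] [Algebra R K]
    (x : Fin r → M)
    (h : Submodule.span K (Set.range fun i => (1 : K) ⊗ₜ[R] x i) = ⊤) :
    Subsingleton (K ⊗[R] (M ⧸ LinearMap.range (Fintype.linearCombination R x))) := by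
  classical
  set P := LinearMap.range (Fintype.linearCombination R x) with hP
  have hsurj : Function.Surjective (P.mkQ.baseChange K) := by
    intro y
    obtain ⟨z, hz⟩ := LinearMap.lTensor_surjective K P.mkQ_surjective y
    exact ⟨z, hz⟩
  have hker : ∀ z : K ⊗[R] M, P.mkQ.baseChange K z = 0 := by
    intro z
    have hz : z ∈ Submodule.span K (Set.range fun i => (1 : K) ⊗ₜ[R] x i) := h ▸ Submodule.mem_top
    induction hz using Submodule.span_induction with
    | mem y hy =>
      obtain ⟨i, rfl⟩ := hy
      rw [LinearMap.baseChange_tmul]
      have : P.mkQ (x i) = 0 := by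
        rw [Submodule.mkQ_apply, Submodule.Quotient.mk_eq_zero]
        exact ⟨Pi.single i 1, by rw [Fintype.linearCombination_apply_single, one_smul]⟩
      rw [this, TensorProduct.tmul_zero]
    | zero => exact map_zero _
    | add a b _ _ ha hb => rw [map_add, ha, hb, add_zero]
    | smul c a _ ha => rw [map_smul, ha, smul_zero]
  refine ⟨fun a b => ?_⟩
  obtain ⟨a', rfl⟩ := hsurj a
  obtain ⟨b', rfl⟩ := hsurj b
  rw [hker, hker]

lemma span_of_subsingleton_tensor_quot {r : ℕ} (K : Type u) [CommRing K] [Algebra R K]
    (x : Fin r → M)
    (h : Subsingleton (K ⊗[R] (M ⧸ LinearMap.range (Fintype.linearCombination R x)))) :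
    Submodule.span K (Set.range fun i => (1 : K) ⊗ₜ[R] x i) = ⊤ := by
  classical
  set P := LinearMap.range (Fintype.linearCombination R x) with hP
  have hex : Function.Exact (Fintype.linearCombination R x) P.mkQ := by
    intro m
    rw [Submodule.mkQ_apply, Submodule.Quotient.mk_eq_zero]
    rfl
  have hex' := lTensor_exact K hex P.mkQ_surjective
  rw [eq_top_iff]
  rintro z -
  obtain ⟨w, rfl⟩ := (hex' z).mp (Subsingleton.elim _ _)
  induction w using TensorProduct.induction_on with
  | zero => rw [map_zero]; exact zero_mem _
  | tmul c a =>
    rw [LinearMap.lTensor_tmul, Fintype.linearCombination_apply, TensorProduct.tmul_sum]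
    refine Submodule.sum_mem _ fun i _ => ?_
    have : c ⊗ₜ[R] (a i • x i) = (c * algebraMap R K (a i)) • ((1 : K) ⊗ₜ[R] x i) := by
      rw [TensorProduct.smul_tmul', smul_eq_mul, mul_one, TensorProduct.tmul_smul,
        TensorProduct.smul_tmul', Algebra.smul_def, mul_comm]
    rw [this]
    exact Submodule.smul_mem _ _ (Submodule.subset_span ⟨i, rfl⟩)
  | add a b ha hb => rw [map_add]; exact add_mem ha hb

/-- choose elements of `M` giving a basis of the fibre -/
lemma exists_fibre_span (p : PrimeSpectrum R) [Module.Finite R M] :
    ∃ (r : ℕ) (x : Fin r → M),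
      r = Module.finrank p.asIdeal.ResidueField (p.asIdeal.ResidueField ⊗[R] M) ∧
      Submodule.span p.asIdeal.ResidueField
        (Set.range fun i => (1 : p.asIdeal.ResidueField) ⊗ₜ[R] x i) = ⊤ := by
  classical
  set T : Set (p.asIdeal.ResidueField ⊗[R] M) :=
    Set.range (fun m : M => (1 : p.asIdeal.ResidueField) ⊗ₜ[R] m) with hTdef
  have hT : Submodule.span p.asIdeal.ResidueField T = ⊤ := by
    rw [eq_top_iff]
    rintro z -
    induction z using TensorProduct.induction_on with
    | zero => exact zero_mem _
    | tmul c m =>
      have : c ⊗ₜ[R] m = c • ((1 : p.asIdeal.ResidueField) ⊗ₜ[R] m) := by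
        rw [TensorProduct.smul_tmul', smul_eq_mul, mul_one]
      rw [this]
      exact Submodule.smul_mem _ _ (Submodule.subset_span ⟨m, rfl⟩)
    | add a b ha hb => exact add_mem ha hb
  have : Module.Finite p.asIdeal.ResidueField (Submodule.span p.asIdeal.ResidueField T) := by
    rw [hT]; infer_instance
  obtain ⟨f, hfT, hfspan, -⟩ := Submodule.exists_fun_fin_finrank_span_eq p.asIdeal.ResidueField T
  have hr : Module.finrank p.asIdeal.ResidueField (Submodule.span p.asIdeal.ResidueField T)
      = Module.finrank p.asIdeal.ResidueField (p.asIdeal.ResidueField ⊗[R] M) := by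
    rw [hT, finrank_top]
  choose x hx using hfT
  refine ⟨_, x, hr, ?_⟩
  have : (fun i => (1 : p.asIdeal.ResidueField) ⊗ₜ[R] x i) = f := funext hx
  rw [this, hfspan, hT]

lemma exists_free_away [IsReduced R] [Module.Finite R M]
    (hlc : IsLocallyConstant (fun p : PrimeSpectrum R =>
      Module.finrank p.asIdeal.ResidueField (p.asIdeal.ResidueField ⊗[R] M)))
    (p : PrimeSpectrum R) :
    ∃ g ∉ p.asIdeal, Module.Free (Localization.Away g) (LocalizedModule.Away g M) := by
  classical
  have hopen := hlc.isOpen_fiber
    (Module.finrank p.asIdeal.ResidueField (p.asIdeal.ResidueField ⊗[R] M))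
  have hmem : p ∈ {x : PrimeSpectrum R |
      Module.finrank x.asIdeal.ResidueField (x.asIdeal.ResidueField ⊗[R] M) =
        Module.finrank p.asIdeal.ResidueField (p.asIdeal.ResidueField ⊗[R] M)} := rfl
  obtain ⟨_, ⟨g0, rfl⟩, hpg0, hg0U⟩ :=
    PrimeSpectrum.isTopologicalBasis_basic_opens.exists_subset_of_mem_open hmem hopen
  obtain ⟨r, x, hr, hxspan⟩ := exists_fibre_span (M := M) p
  set φ := Fintype.linearCombination R x with hφ
  have hNp := subsingleton_tensor_quot_of_span p.asIdeal.ResidueField x hxspan
  have hsupp : p ∉ Module.support R (M ⧸ LinearMap.range φ) := by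
    rw [Module.mem_support_iff_nontrivial_residueField_tensorProduct,
      not_nontrivial_iff_subsingleton]
    exact hNp
  rw [Module.support_eq_zeroLocus, PrimeSpectrum.mem_zeroLocus, Set.not_subset] at hsupp
  obtain ⟨g1, hg1ann, hg1p⟩ := hsupp
  have hg1 : ∀ m : M, g1 • m ∈ LinearMap.range φ := by
    intro m
    have := Module.mem_annihilator.mp hg1ann (Submodule.Quotient.mk m)
    rwa [← Submodule.Quotient.mk_smul, Submodule.Quotient.mk_eq_zero] at this
  refine ⟨g0 * g1, fun h => ?_, ?_⟩
  · rcases p.2.mem_or_mem h with h | h
    · exact hpg0 h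
    · exact hg1p h
  · apply free_away_of_map (g0 * g1) φ
    · intro m
      refine ⟨1, ?_⟩
      rw [pow_one, mul_smul]
      exact Submodule.smul_mem _ _ (hg1 m)
    · intro a ha
      ext i
      rw [Pi.smul_apply, Pi.zero_apply, smul_eq_mul]
      apply IsReduced.eq_zero
      rw [nilpotent_iff_mem_prime]
      intro J hJ
      by_cases hgJ : g0 * g1 ∈ J
      · exact J.mul_mem_right _ hgJ
      · apply J.mul_mem_left
        have hg0J : g0 ∉ J := fun h => hgJ (J.mul_mem_right _ h)
        have hg1J : g1 ∉ J := fun h => hgJ (J.mul_mem_left _ h)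
        set q : PrimeSpectrum R := ⟨J, hJ⟩ with hq
        have hdq : Module.finrank q.asIdeal.ResidueField (q.asIdeal.ResidueField ⊗[R] M) = r := by
          rw [hr]
          exact hg0U (show q ∈ (PrimeSpectrum.basicOpen g0 : Set (PrimeSpectrum R)) from hg0J)
        have hNq : Subsingleton (q.asIdeal.ResidueField ⊗[R] (M ⧸ LinearMap.range φ)) := by
          rw [← not_nontrivial_iff_subsingleton,
            ← Module.mem_support_iff_nontrivial_residueField_tensorProduct,
            Module.support_eq_zeroLocus, PrimeSpectrum.mem_zeroLocus, Set.not_subset]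
          exact ⟨g1, hg1ann, hg1J⟩
        have hspanq := span_of_subsingleton_tensor_quot q.asIdeal.ResidueField x hNq
        have hli : LinearIndependent q.asIdeal.ResidueField
            (fun i => (1 : q.asIdeal.ResidueField) ⊗ₜ[R] x i) :=
          linearIndependent_of_top_le_span_of_card_eq_finrank hspanq.ge
            (by rw [Fintype.card_fin, hdq])
        rw [Fintype.linearIndependent_iff] at hli
        have h0 := hli (fun i => algebraMap R q.asIdeal.ResidueField (a i)) (by
          have : ∀ i, algebraMap R q.asIdeal.ResidueField (a i) •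
              ((1 : q.asIdeal.ResidueField) ⊗ₜ[R] x i)
              = (1 : q.asIdeal.ResidueField) ⊗ₜ[R] (a i • x i) := by
            intro i
            rw [TensorProduct.smul_tmul', smul_eq_mul, mul_one, TensorProduct.tmul_smul,
              TensorProduct.smul_tmul', Algebra.smul_def, mul_one]
          simp only [this]
          rw [← TensorProduct.tmul_sum, ← Fintype.linearCombination_apply, ha,
            TensorProduct.tmul_zero]) i
        exact Ideal.algebraMap_residueField_eq_zero.mp h0

end helpers

/-- Let R be a reduced ring and M an R-module. Then M is a finite projective R-module if and only if M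
is finitely generated and the function on Spec R sending a prime p to the dimension of κ(p) ⊗ M over
the residue field κ(p) is locally constant for the Zariski topology. -/
theorem result (R : Type u) [CommRing R] [IsReduced R] (M : Type u) [AddCommGroup M] [Module R M] : (Module.Finite R M ∧ Module.Projective R M) ↔ (Module.Finite R M ∧ IsLocallyConstant (fun p : PrimeSpectrum R => Module.finrank p.asIdeal.ResidueField (p.asIdeal.ResidueField ⊗[R] M))) := by
  constructor
  · rintro ⟨hfin, hproj⟩
    refine ⟨hfin, ?_⟩
    have : Module.FinitePresentation R M := Module.finitePresentation_of_projective R M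
    have h := Module.isLocallyConstant_rankAtStalk (R := R) (M := M)
    have heq : (fun p : PrimeSpectrum R => Module.finrank p.asIdeal.ResidueField
        (p.asIdeal.ResidueField ⊗[R] M)) = Module.rankAtStalk M := by
      funext p
      exact (Module.rankAtStalk_eq (M := M) p).symm
    rw [heq]
    exact h
  · rintro ⟨hfin, hlc⟩
    refine ⟨hfin, ?_⟩
    have hK := exists_free_away (M := M) hlc
    let s : Set R := {g | Module.Free (Localization.Away g) (LocalizedModule.Away g M)}
    have hs : Ideal.span s = ⊤ := by
      by_contra h
      obtain ⟨m, hm, hle⟩ := Ideal.exists_le_maximal _ h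
      obtain ⟨g, hg, hfree⟩ := hK ⟨m, hm.isPrime⟩
      exact hg (hle (Ideal.subset_span hfree))
    have hfp : Module.FinitePresentation R M :=
      Module.FinitePresentation.of_localizationSpan s hs (fun g => by
        have : Module.Free (Localization.Away g.1) (LocalizedModule.Away g.1 M) := g.2
        exact Module.finitePresentation_of_projective _ _)
    have hflat : Module.Flat R M := Module.flat_of_localized_span R M s hs (fun g => by
      have : Module.Free (Localization.Away g.1) (LocalizedModule.Away g.1 M) := g.2
      exact Module.Flat.trans R (Localization.Away g.1) _)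
    exact Module.Flat.projective_of_finitePresentation

end Groth.Agent.S6266
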