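import Groth.Statements.S6268
import Mathlib

set_option autoImplicit false
universe u
open CAlg

open scoped TensorProduct

namespace Groth.Agent.S6268

/-- Suppose the structure map R → S of an R-algebra S is universally injective as an R-linear map. Then
tensoring with S detects injectivity and surjectivity of R-linear maps (and hence reflects
isomorphisms): for an R-linear g : M → N, if S ⊗ g is injective then so is g, and if S ⊗ g is
surjective then so is g. -/
theorem result {R S : Type u} [CommRing R] [CommRing S] [Algebra R S] (hS : CAlgX.UniversallyInjective R (Algebra.linearMap R S)) {M N : Type u} [AddCommGroup M] [Module R M] [AddCommGroup N] [Module R N] (g : M →ₗ[R] N) : (Function.Injective (g.lTensor S) → Function.Injective g) ∧ (Function.Surjective (g.lTensor S) → Function.Surjective g) := by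
  -- the map `M → S ⊗ M`, `m ↦ 1 ⊗ m`, is injective for every module `M`
  have hinj : ∀ (Q : Type u) [AddCommGroup Q] [Module R Q],
      Function.Injective (fun q : Q => (1 : S) ⊗ₜ[R] q) := by
    intro Q _ _
    have h1 := hS Q
    have : (fun q : Q => (1 : S) ⊗ₜ[R] q) =
        ((Algebra.linearMap R S).rTensor Q) ∘ (TensorProduct.lid R Q).symm := by
      ext q
      simp
    rw [this]
    exact h1.comp (TensorProduct.lid R Q).symm.injective
  constructor
  · intro hg
    intro m m' hmm
    apply hinj M
    apply hg
    simp only [LinearMap.lTensor_tmul, hmm]
  · intro hg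
    -- the cokernel of g vanishes
    let C := N ⧸ LinearMap.range g
    have hC : ∀ c : C, c = 0 := by
      intro c
      apply hinj C
      simp only [TensorProduct.tmul_zero]
      obtain ⟨n, rfl⟩ := Submodule.Quotient.mk_surjective _ c
      have hex : Function.Exact (g.lTensor S) ((LinearMap.range g).mkQ.lTensor S) :=
        lTensor_exact S (LinearMap.exact_map_mkQ_range g) (Submodule.mkQ_surjective _)
      obtain ⟨y, hy⟩ := hg ((1 : S) ⊗ₜ[R] n)
      have := (hex ((1 : S) ⊗ₜ[R] n)).mpr ⟨y, hy⟩
      simpa using this
    intro n
    have := hC (Submodule.Quotient.mk n)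
    rw [Submodule.Quotient.mk_eq_zero] at this
    exact this

end Groth.Agent.S6268
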