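import Groth.Statements.S6270
import Mathlib
import Groth.Agent.Lib.Helper10.Deform

set_option autoImplicit false
universe u
open scoped TensorProduct
open CAlg

namespace Groth.Agent.S6270

namespace Aux

variable {R : Type u} [CommRing R] (I : Ideal R)

theorem one_tmul_eq_zero_iff {M : Type u} [AddCommGroup M] [Module R M] (m : M) :
    ((1 : R ⧸ I) ⊗ₜ[R] m = 0) ↔ m ∈ I • (⊤ : Submodule R M) := by
  rw [← (TensorProduct.quotTensorEquivQuotSMul M I).map_eq_zero_iff,
    TensorProduct.quotTensorEquivQuotSMul_mk_one_tmul, Submodule.Quotient.mk_eq_zero]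

theorem exists_one_tmul {M : Type u} [AddCommGroup M] [Module R M] (x : (R ⧸ I) ⊗[R] M) :
    ∃ m : M, (1 : R ⧸ I) ⊗ₜ[R] m = x := by
  induction x using TensorProduct.induction_on with
  | zero => exact ⟨0, TensorProduct.tmul_zero _ _⟩
  | tmul r m =>
    obtain ⟨r, rfl⟩ := Ideal.Quotient.mk_surjective r
    refine ⟨r • m, ?_⟩
    rw [← TensorProduct.smul_tmul, Algebra.smul_def, mul_one]
    rfl
  | add x y hx hy =>
    obtain ⟨a, rfl⟩ := hx
    obtain ⟨b, rfl⟩ := hy
    exact ⟨a + b, TensorProduct.tmul_add _ _ _⟩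

/-- Powers of an endomorphism with image in `I F` have image in `I^k F`. -/
theorem pow_apply_mem {F : Type u} [AddCommGroup F] [Module R F] (e : Module.End R F)
    (he : ∀ x, e x ∈ I • (⊤ : Submodule R F)) :
    ∀ (k : ℕ) (x : F), (e ^ k) x ∈ I ^ k • (⊤ : Submodule R F) := by
  intro k
  induction k with
  | zero =>
    intro x
    rw [pow_zero, Ideal.one_eq_top, Submodule.top_smul]
    trivial
  | succ k ih =>
    intro x
    have hx : (e ^ (k + 1)) x = e ((e ^ k) x) := by
      rw [pow_succ' e k]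
      rfl
    rw [hx]
    have h1 : e ((e ^ k) x) ∈ Submodule.map e (I ^ k • (⊤ : Submodule R F)) :=
      Submodule.mem_map_of_mem (ih x)
    rw [Submodule.map_smul''] at h1
    have h2 : Submodule.map e ⊤ ≤ I • (⊤ : Submodule R F) := by
      rintro _ ⟨y, -, rfl⟩
      exact he y
    have h3 := Submodule.smul_mono (le_refl (I ^ k)) h2 h1
    rw [← Submodule.smul_assoc, smul_eq_mul, ← pow_succ] at h3
    exact h3

theorem one_sub_one_sub_pow_pow_of_idem {S : Type*} [Ring S] (e : S) (he : IsIdempotentElem e)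
    (n : ℕ) : 1 - (1 - e ^ (n + 1)) ^ (n + 1) = e := by
  rw [he.pow_succ_eq, he.one_sub.pow_succ_eq, sub_sub_cancel]

/-- Lifting idempotent endomorphisms along base change to `R/I`, `I` nilpotent, given some lift. -/
theorem exists_idem_of_lift (hI : IsNilpotent I) {F : Type u} [AddCommGroup F] [Module R F]
    (eb : Module.End (R ⧸ I) ((R ⧸ I) ⊗[R] F)) (heb : IsIdempotentElem eb)
    (a : Module.End R F) (ha : LinearMap.baseChange (R ⧸ I) a = eb) :
    ∃ e : Module.End R F, IsIdempotentElem e ∧ LinearMap.baseChange (R ⧸ I) e = eb := by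
  obtain ⟨N, hN⟩ := hI
  have h0 : LinearMap.baseChange (R ⧸ I) (a - a ^ 2) = 0 := by
    rw [LinearMap.baseChange_sub, LinearMap.baseChange_pow, ha, pow_two, heb.eq]
    exact sub_self eb
  have h1 : ∀ x, (a - a ^ 2) x ∈ I • (⊤ : Submodule R F) := by
    intro x
    rw [← one_tmul_eq_zero_iff]
    have := congrArg (fun φ : Module.End (R ⧸ I) ((R ⧸ I) ⊗[R] F) => φ ((1 : R ⧸ I) ⊗ₜ[R] x)) h0
    exact this
  have h2 : (a - a ^ 2) ^ (N + 1) = 0 := by
    ext x
    have := pow_apply_mem I _ h1 (N + 1) x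
    rw [pow_succ, hN, zero_mul, Ideal.zero_eq_bot, Submodule.bot_smul] at this
    exact this
  refine ⟨1 - (1 - a ^ (N + 1)) ^ (N + 1), isIdempotentElem_one_sub_one_sub_pow_pow a (N + 1) h2, ?_⟩
  rw [LinearMap.baseChange_sub, LinearMap.baseChange_pow, LinearMap.baseChange_sub,
    LinearMap.baseChange_pow, LinearMap.baseChange_one, ha]
  exact one_sub_one_sub_pow_pow_of_idem eb heb N

/-- Lifting an idempotent endomorphism of `R/I ⊗ F` for free `F`. -/
theorem exists_idem (hI : IsNilpotent I) {κ : Type u}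
    (eb : Module.End (R ⧸ I) ((R ⧸ I) ⊗[R] (κ →₀ R))) (heb : IsIdempotentElem eb) :
    ∃ e : Module.End R (κ →₀ R), IsIdempotentElem e ∧ LinearMap.baseChange (R ⧸ I) e = eb := by
  classical
  have hrange : ∃ e' : Module.End R (κ →₀ R), LinearMap.baseChange (R ⧸ I) e' = eb := by
    choose lift hlift using fun k : κ =>
      exists_one_tmul I (eb ((1 : R ⧸ I) ⊗ₜ[R] (Finsupp.single k (1 : R))))
    refine ⟨Finsupp.linearCombination R lift, ?_⟩
    have key : ∀ m : κ →₀ R, (LinearMap.baseChange (R ⧸ I) (Finsupp.linearCombination R lift))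
        ((1 : R ⧸ I) ⊗ₜ[R] m) = eb ((1 : R ⧸ I) ⊗ₜ[R] m) := by
      intro m
      induction m using Finsupp.induction_linear with
      | zero => rw [TensorProduct.tmul_zero, map_zero, map_zero]
      | add f g hf hg => rw [TensorProduct.tmul_add, map_add, map_add, hf, hg]
      | single k r =>
        have h1 : (1 : R ⧸ I) ⊗ₜ[R] (Finsupp.single k r) =
            (Ideal.Quotient.mk I r) • ((1 : R ⧸ I) ⊗ₜ[R] (Finsupp.single k (1 : R))) := by
          rw [TensorProduct.smul_tmul', smul_eq_mul, mul_one]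
          have : Finsupp.single k r = r • Finsupp.single k (1 : R) := by
            rw [Finsupp.smul_single, smul_eq_mul, mul_one]
          rw [this, ← TensorProduct.smul_tmul, Algebra.smul_def, mul_one]
          rfl
        rw [h1, map_smul, map_smul, LinearMap.baseChange_tmul, Finsupp.linearCombination_single,
          one_smul, hlift k]
    apply LinearMap.ext
    intro x
    induction x using TensorProduct.induction_on with
    | zero => rw [map_zero, map_zero]
    | add x y hx hy => rw [map_add, map_add, hx, hy]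
    | tmul a m =>
      have h2 : a ⊗ₜ[R] m = a • ((1 : R ⧸ I) ⊗ₜ[R] m) := by
        rw [TensorProduct.smul_tmul', smul_eq_mul, mul_one]
      rw [h2, map_smul, map_smul]
      congr 1
      exact key m
  obtain ⟨a, ha⟩ := hrange
  exact exists_idem_of_lift I hI eb heb a ha

/-- Lifting projective modules along a nilpotent ideal. -/
theorem exists_lift_projective (hI : IsNilpotent I) (Mb : Type u) [AddCommGroup Mb]
    [Module (R ⧸ I) Mb] [Module.Projective (R ⧸ I) Mb] :
    ∃ (P : Type u) (_ : AddCommGroup P) (_ : Module R P), Module.Projective R P ∧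
      Nonempty (((R ⧸ I) ⊗[R] P) ≃ₗ[R ⧸ I] Mb) := by
  classical
  obtain ⟨pb, hpb⟩ : ∃ pb : ((R ⧸ I) ⊗[R] (Mb →₀ R)) →ₗ[R ⧸ I] Mb,
      ∀ k, pb (((Finsupp.basisSingleOne (R := R) (ι := Mb)).baseChange (R ⧸ I)) k) = k :=
    ⟨((Finsupp.basisSingleOne (R := R) (ι := Mb)).baseChange (R ⧸ I)).constr (R ⧸ I) id,
      fun k => Module.Basis.constr_basis _ (R ⧸ I) id k⟩
  have hpbs : Function.Surjective pb := fun k => ⟨_, hpb k⟩
  obtain ⟨sb, hsb⟩ := Module.projective_lifting_property pb LinearMap.id hpbs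
  have hidem : IsIdempotentElem (sb ∘ₗ pb : Module.End (R ⧸ I) _) := by
    change (sb ∘ₗ pb) ∘ₗ (sb ∘ₗ pb) = sb ∘ₗ pb
    rw [LinearMap.comp_assoc, ← LinearMap.comp_assoc pb sb pb, hsb, LinearMap.id_comp]
  obtain ⟨e, he, hee⟩ := exists_idem I hI (sb ∘ₗ pb) hidem
  have hEE : e ∘ₗ e = e := he.eq
  have hsι : e.rangeRestrict ∘ₗ (LinearMap.range e).subtype = LinearMap.id := by
    ext ⟨_, v, rfl⟩ : 1
    apply Subtype.ext
    change e (e v) = e v
    rw [← LinearMap.comp_apply, hEE]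
  have hιs : (LinearMap.range e).subtype ∘ₗ e.rangeRestrict = e := rfl
  refine ⟨LinearMap.range e, inferInstance, inferInstance,
    Module.Projective.of_split _ _ hsι, ?_⟩
  obtain ⟨ιt, hιt⟩ : ∃ x : (R ⧸ I) ⊗[R] (LinearMap.range e) →ₗ[R ⧸ I]
      (R ⧸ I) ⊗[R] (Mb →₀ R),
      x = (LinearMap.range e).subtype.baseChange (R ⧸ I) := ⟨_, rfl⟩
  obtain ⟨st, hst⟩ : ∃ x : (R ⧸ I) ⊗[R] (Mb →₀ R) →ₗ[R ⧸ I]
      (R ⧸ I) ⊗[R] (LinearMap.range e), x = e.rangeRestrict.baseChange (R ⧸ I) := ⟨_, rfl⟩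
  have h1 : st ∘ₗ ιt = LinearMap.id := by
    rw [hιt, hst, ← LinearMap.baseChange_comp, hsι, LinearMap.baseChange_id]
  have h2 : ιt ∘ₗ st = sb ∘ₗ pb := by
    rw [hιt, hst, ← LinearMap.baseChange_comp, hιs, hee]
  clear hιt hst
  refine ⟨LinearEquiv.ofLinearMap (pb ∘ₗ ιt) (st ∘ₗ sb) ?_ ?_⟩
  · rw [LinearMap.comp_assoc, ← LinearMap.comp_assoc sb, h2, LinearMap.comp_assoc, hsb,
      LinearMap.comp_id, hsb]
  · rw [LinearMap.comp_assoc, ← LinearMap.comp_assoc _ pb, ← h2, LinearMap.comp_assoc, h1,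
      LinearMap.comp_id, h1]

end Aux

/-- Let R be a ring, I ⊆ R a nilpotent ideal and M an R-module. If M is flat over R and M/IM (that is,
R/I ⊗ M) is a projective R/I-module, then M is a projective R-module. -/
theorem result {R : Type u} [CommRing R] (I : Ideal R) (hI : IsNilpotent I) (M : Type u) [AddCommGroup M] [Module R M] [Module.Flat R M] (hproj : Module.Projective (R ⧸ I) ((R ⧸ I) ⊗[R] M)) : Module.Projective R M := by
  obtain ⟨P, _, _, hP, ⟨φ⟩⟩ := Aux.exists_lift_projective I hI ((R ⧸ I) ⊗[R] M)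
  -- lift to u : P → M
  obtain ⟨u, hu⟩ := Module.projective_lifting_property (TensorProduct.mk R (R ⧸ I) M 1)
    ((φ.toLinearMap.restrictScalars R) ∘ₗ (TensorProduct.mk R (R ⧸ I) P 1))
    (fun y => Aux.exists_one_tmul I y)
  have hu' : ∀ p, (1 : R ⧸ I) ⊗ₜ[R] u p = φ ((1 : R ⧸ I) ⊗ₜ[R] p) := fun p =>
    congrArg (fun ψ => ψ p) hu
  have husurj : Function.Surjective u := by
    rw [← LinearMap.range_eq_top]
    apply top_le_iff.mp
    apply Groth.Agent.Lib.Helper10.Deform.le_of_le_sup_smul I hI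
    intro m _
    obtain ⟨ξ, hξ⟩ := φ.surjective ((1 : R ⧸ I) ⊗ₜ[R] m)
    obtain ⟨p, rfl⟩ := Aux.exists_one_tmul I ξ
    rw [← hu' p] at hξ
    have h3 : (1 : R ⧸ I) ⊗ₜ[R] (m - u p) = 0 := by
      rw [TensorProduct.tmul_sub, hξ, sub_self]
    rw [Aux.one_tmul_eq_zero_iff] at h3
    have : m = u p + (m - u p) := by abel
    rw [this]
    exact Submodule.add_mem_sup ⟨p, rfl⟩ h3
  have huinj : Function.Injective u := by
    rw [← LinearMap.ker_eq_bot]
    apply le_bot_iff.mp
    apply Groth.Agent.Lib.Helper10.Deform.le_of_le_sup_smul I hI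
    intro k hk
    rw [bot_sup_eq]
    have hk0 : u k = 0 := hk
    have h3 : (1 : R ⧸ I) ⊗ₜ[R] k = 0 := by
      apply φ.injective
      rw [← hu' k, hk0, TensorProduct.tmul_zero, map_zero]
    rw [Aux.one_tmul_eq_zero_iff] at h3
    exact Groth.Agent.Lib.Helper10.Deform.mem_smul_ker_of_flat I u husurj k hk0 h3
  exact Module.Projective.of_equiv (LinearEquiv.ofBijective u ⟨huinj, husurj⟩)

end Groth.Agent.S6270
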