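import Groth.Statements.S6271
import Mathlib

set_option autoImplicit false
universe u
open scoped TensorProduct
open CAlg

namespace Groth.Agent.S6271

namespace Aux

/-- Powers of a matrix with entries in an ideal `J` have entries in the powers of `J`. -/
theorem pow_entries_mem {R : Type u} [CommRing R] {n : ℕ} (J : Ideal R)
    (M : Matrix (Fin n) (Fin n) R) (hM : ∀ i j, M i j ∈ J) :
    ∀ (k : ℕ) (i j : Fin n), (M ^ k) i j ∈ J ^ k := by
  intro k
  induction k with
  | zero =>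
    intro i j
    rw [pow_zero, Ideal.one_eq_top]
    trivial
  | succ k ih =>
    intro i j
    rw [pow_succ, pow_succ, Matrix.mul_apply]
    exact Ideal.sum_mem _ fun l _ => Ideal.mul_mem_mul (ih i l) (hM l j)

/-- The kernel of `M_n(R) → M_n(R/I)` is nil when `I` is nil. -/
theorem ker_mapMatrix_nil {R : Type u} [CommRing R] (I : Ideal R) (hI : ∀ x ∈ I, IsNilpotent x)
    (n : ℕ) (M : Matrix (Fin n) (Fin n) R)
    (hM : M ∈ RingHom.ker (RingHom.mapMatrix (m := Fin n) (Ideal.Quotient.mk I))) :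
    IsNilpotent M := by
  have hent : ∀ i j, M i j ∈ I := by
    intro i j
    rw [RingHom.mem_ker] at hM
    have := congrFun (congrFun hM i) j
    rw [RingHom.mapMatrix_apply, Matrix.map_apply, Matrix.zero_apply] at this
    exact Ideal.Quotient.eq_zero_iff_mem.mp this
  let J : Ideal R := Ideal.span (Set.range fun p : Fin n × Fin n => M p.1 p.2)
  have hJfg : J.FG := Submodule.fg_span (Set.finite_range _)
  have hJI : J ≤ I := Ideal.span_le.mpr (by rintro _ ⟨p, rfl⟩; exact hent p.1 p.2)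
  have hJnil : IsNilpotent J := by
    rw [Ideal.FG.isNilpotent_iff_le_nilradical hJfg]
    intro x hx
    exact hI x (hJI hx)
  obtain ⟨N, hN⟩ := hJnil
  refine ⟨N, ?_⟩
  ext i j
  have := pow_entries_mem J M (fun i j => Ideal.subset_span ⟨(i, j), rfl⟩) N i j
  rw [hN] at this
  exact this

end Aux

/-- Let R be a ring, I ⊆ R a locally nilpotent ideal (every element of I is nilpotent) and P̄ a finite
projective R/I-module. Then there is a finite projective R-module P such that P/IP (that is, R/I ⊗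
P) is isomorphic to P̄ as an R/I-module. -/
theorem result {R : Type u} [CommRing R] (I : Ideal R) (hI : ∀ x ∈ I, IsNilpotent x) (Pb : Type u) [AddCommGroup Pb] [Module (R ⧸ I) Pb] [Module.Projective (R ⧸ I) Pb] [Module.Finite (R ⧸ I) Pb] : ∃ (P : Type u) (_ : AddCommGroup P) (_ : Module R P), Module.Projective R P ∧ Module.Finite R P ∧ Nonempty (((R ⧸ I) ⊗[R] P) ≃ₗ[R ⧸ I] Pb) := by
  classical
  obtain ⟨n, f, g, -, -, hfg⟩ := Module.Finite.exists_comp_eq_id_of_projective (R ⧸ I) Pb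
  have hgfgf : (g ∘ₗ f) ∘ₗ (g ∘ₗ f) = g ∘ₗ f := by
    rw [LinearMap.comp_assoc, ← LinearMap.comp_assoc f g f, hfg, LinearMap.id_comp]
  have heb : IsIdempotentElem (LinearMap.toMatrix' (g ∘ₗ f)) := by
    unfold IsIdempotentElem
    rw [← LinearMap.toMatrix'_comp, hgfgf]
  have hrange : LinearMap.toMatrix' (g ∘ₗ f) ∈
      (RingHom.mapMatrix (m := Fin n) (Ideal.Quotient.mk I)).range := by
    refine ⟨(LinearMap.toMatrix' (g ∘ₗ f)).map (Function.surjInv Ideal.Quotient.mk_surjective), ?_⟩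
    ext i j
    rw [RingHom.mapMatrix_apply, Matrix.map_apply, Matrix.map_apply]
    exact Function.surjInv_eq Ideal.Quotient.mk_surjective _
  obtain ⟨e, he, hee⟩ := exists_isIdempotentElem_eq_of_ker_isNilpotent
    (RingHom.mapMatrix (m := Fin n) (Ideal.Quotient.mk I))
    (fun x hx => Aux.ker_mapMatrix_nil I hI n x hx) _ hrange heb
  have hEE : Matrix.toLin' e ∘ₗ Matrix.toLin' e = Matrix.toLin' e := by
    rw [← Matrix.toLin'_mul, he.eq]
  have hsι : (Matrix.toLin' e).rangeRestrict ∘ₗ (LinearMap.range (Matrix.toLin' e)).subtype =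
      LinearMap.id := by
    ext ⟨_, v, rfl⟩ : 1
    apply Subtype.ext
    change Matrix.toLin' e (Matrix.toLin' e v) = Matrix.toLin' e v
    rw [← LinearMap.comp_apply, hEE]
  have hιs : (LinearMap.range (Matrix.toLin' e)).subtype ∘ₗ (Matrix.toLin' e).rangeRestrict =
      Matrix.toLin' e := rfl
  refine ⟨LinearMap.range (Matrix.toLin' e), inferInstance, inferInstance,
    Module.Projective.of_split _ _ hsι, inferInstance, ?_⟩
  have h1 : ((Matrix.toLin' e).rangeRestrict.baseChange (R ⧸ I) ∘ₗ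
      (TensorProduct.piScalarRight R (R ⧸ I) (R ⧸ I) (Fin n)).symm.toLinearMap) ∘ₗ
      ((TensorProduct.piScalarRight R (R ⧸ I) (R ⧸ I) (Fin n)).toLinearMap ∘ₗ
        (LinearMap.range (Matrix.toLin' e)).subtype.baseChange (R ⧸ I)) = LinearMap.id := by
    rw [LinearMap.comp_assoc, ← LinearMap.comp_assoc _ _ (LinearEquiv.toLinearMap _),
      LinearEquiv.symm_comp, LinearMap.id_comp, ← LinearMap.baseChange_comp, hsι,
      LinearMap.baseChange_id]
  have h2 : ((TensorProduct.piScalarRight R (R ⧸ I) (R ⧸ I) (Fin n)).toLinearMap ∘ₗ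
        (LinearMap.range (Matrix.toLin' e)).subtype.baseChange (R ⧸ I)) ∘ₗ
      ((Matrix.toLin' e).rangeRestrict.baseChange (R ⧸ I) ∘ₗ
      (TensorProduct.piScalarRight R (R ⧸ I) (R ⧸ I) (Fin n)).symm.toLinearMap) = g ∘ₗ f := by
    rw [LinearMap.comp_assoc, ← LinearMap.comp_assoc _ _ (LinearMap.baseChange _ _),
      ← LinearMap.baseChange_comp, hιs]
    refine LinearMap.pi_ext' fun j => LinearMap.ext_ring (funext fun i => ?_)
    simp only [LinearMap.coe_comp, LinearEquiv.coe_coe, Function.comp_apply, LinearMap.coe_single,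
      TensorProduct.piScalarRight_symm_single, LinearMap.baseChange_tmul,
      TensorProduct.piScalarRight_apply, TensorProduct.piScalarRightHom_tmul]
    have h3 : (LinearMap.toMatrix' (g ∘ₗ f)) i j = g (f (Pi.single j 1)) i := by
      rw [LinearMap.toMatrix'_apply]
      rfl
    rw [← h3, ← hee, RingHom.mapMatrix_apply, Matrix.map_apply, Matrix.toLin'_apply,
      Matrix.mulVec_single_one]
    change (e i j) • (1 : R ⧸ I) = _
    rw [Algebra.smul_def, mul_one]
    rfl
  obtain ⟨ιt, hιt⟩ : ∃ x : (R ⧸ I) ⊗[R] (LinearMap.range (Matrix.toLin' e)) →ₗ[R ⧸ I]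
      (Fin n → R ⧸ I), x = ((TensorProduct.piScalarRight R (R ⧸ I) (R ⧸ I) (Fin n)).toLinearMap ∘ₗ
        (LinearMap.range (Matrix.toLin' e)).subtype.baseChange (R ⧸ I)) := ⟨_, rfl⟩
  obtain ⟨st, hst⟩ : ∃ x : (Fin n → R ⧸ I) →ₗ[R ⧸ I]
      (R ⧸ I) ⊗[R] (LinearMap.range (Matrix.toLin' e)),
      x = ((Matrix.toLin' e).rangeRestrict.baseChange (R ⧸ I) ∘ₗ
      (TensorProduct.piScalarRight R (R ⧸ I) (R ⧸ I) (Fin n)).symm.toLinearMap) := ⟨_, rfl⟩
  rw [← hιt, ← hst] at h1 h2
  clear hιt hst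
  refine ⟨LinearEquiv.ofLinear (f ∘ₗ ιt) (st ∘ₗ g) ?_ ?_⟩
  · rw [LinearMap.comp_assoc, ← LinearMap.comp_assoc g, h2, LinearMap.comp_assoc, hfg,
      LinearMap.comp_id, hfg]
  · rw [LinearMap.comp_assoc, ← LinearMap.comp_assoc _ f, ← h2, LinearMap.comp_assoc, h1,
      LinearMap.comp_id, h1]

end Groth.Agent.S6271
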