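import Groth.Statements.S6273
import Mathlib.RingTheory.Localization.Basic
import Mathlib.RingTheory.Ideal.Quotient.Operations

set_option autoImplicit false
universe u
open CAlg

namespace Groth.Agent.S6273

/-- Let R be a ring, S ⊆ R a multiplicative subset and A = S⁻¹R. If the image of Spec(A) → Spec(R) is
closed, then the localization map R → A is surjective; in particular A is isomorphic to R/I for the
ideal I = ker(R → A). -/
theorem result {R : Type u} [CommRing R] (S : Submonoid R) (A : Type u) [CommRing A] [Algebra R A] [IsLocalization S A] (hcl : IsClosed (Set.range (PrimeSpectrum.comap (algebraMap R A)))) : Function.Surjective (algebraMap R A) := by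
  have hrange : Set.range (PrimeSpectrum.comap (algebraMap R A)) =
      PrimeSpectrum.zeroLocus (RingHom.ker (algebraMap R A)) := by
    rw [← PrimeSpectrum.closure_range_comap, hcl.closure_eq]
  -- every element of `S` is invertible modulo the kernel
  have hunit : ∀ s ∈ S, ∃ t : R, algebraMap R A s * algebraMap R A t = 1 := by
    intro s hs
    by_contra hcon
    have hne : RingHom.ker (algebraMap R A) ⊔ Ideal.span {s} ≠ ⊤ := by
      intro htop
      rw [Ideal.eq_top_iff_one, Submodule.mem_sup] at htop
      obtain ⟨a, ha, b, hb, hab⟩ := htop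
      obtain ⟨c, rfl⟩ := Ideal.mem_span_singleton'.1 hb
      apply hcon
      refine ⟨c, ?_⟩
      have := congrArg (algebraMap R A) hab
      rw [map_add, RingHom.mem_ker.1 ha, zero_add, map_mul, map_one] at this
      rw [mul_comm]; exact this
    obtain ⟨m, hm, hle⟩ := Ideal.exists_le_maximal _ hne
    have hmem : (⟨m, hm.isPrime⟩ : PrimeSpectrum R) ∈
        PrimeSpectrum.zeroLocus (RingHom.ker (algebraMap R A)) := by
      rw [PrimeSpectrum.mem_zeroLocus]
      exact fun x hx => hle (Ideal.mem_sup_left hx)
    rw [← hrange] at hmem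
    obtain ⟨q, hq⟩ := hmem
    have hsm : s ∈ m := hle (Ideal.mem_sup_right (Ideal.mem_span_singleton_self s))
    have : s ∈ (PrimeSpectrum.comap (algebraMap R A) q).asIdeal := by rw [hq]; exact hsm
    rw [PrimeSpectrum.comap_asIdeal, Ideal.mem_comap] at this
    exact q.2.ne_top (Ideal.eq_top_of_isUnit_mem _ this (IsLocalization.map_units A ⟨s, hs⟩))
  intro a
  obtain ⟨r, s, rfl⟩ := IsLocalization.exists_mk'_eq S a
  obtain ⟨t, ht⟩ := hunit s s.2
  refine ⟨r * t, ?_⟩
  rw [IsLocalization.eq_mk'_iff_mul_eq, map_mul, mul_assoc, mul_comm (algebraMap R A t), ht, mul_one]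

end Groth.Agent.S6273
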