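import Groth.Statements.S6274
import Groth.Agent.S6273
import Mathlib.RingTheory.Spectrum.Prime.Topology
import Mathlib.RingTheory.Localization.Ideal
import Mathlib.RingTheory.Nilpotent.Lemmas
import Mathlib.RingTheory.Ideal.Quotient.Operations

set_option autoImplicit false
universe u
open CAlg

namespace Groth.Agent.S6274

/-- Let R be a ring, S ⊆ R a multiplicative subset and A = S⁻¹R, and assume the image of Spec(A) →
Spec(R) is closed. If Spec(R) is a Noetherian topological space (which holds when R is Noetherian)
or S is finitely generated as a monoid, then R is isomorphic to A × R' for some ring R', by an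
isomorphism whose first component is the localization map R → A. -/
theorem result {R : Type u} [CommRing R] (S : Submonoid R) (A : Type u) [CommRing A] [Algebra R A] [IsLocalization S A] (hcl : IsClosed (Set.range (PrimeSpectrum.comap (algebraMap R A)))) (h : TopologicalSpace.NoetherianSpace (PrimeSpectrum R) ∨ S.FG) : ∃ (R' : Type u) (_ : CommRing R') (e : R ≃+* A × R'), ∀ x : R, (e x).1 = algebraMap R A x := by
  classical
  have hsurj : Function.Surjective (algebraMap R A) := Groth.Agent.S6273.result S A hcl
  have hrange := PrimeSpectrum.localization_comap_range A S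
  -- Step 1: the range is open
  have hopen : IsOpen (Set.range (PrimeSpectrum.comap (algebraMap R A))) := by
    rcases h with hN | hfg
    · have hU : IsCompact (Set.range (PrimeSpectrum.comap (algebraMap R A)))ᶜ ∧
          IsOpen (Set.range (PrimeSpectrum.comap (algebraMap R A)))ᶜ :=
        ⟨TopologicalSpace.NoetherianSpace.isCompact _, hcl.isOpen_compl⟩
      obtain ⟨t, ht⟩ := PrimeSpectrum.isCompact_isOpen_iff.mp hU
      have hnil : ∀ f ∈ t, ∃ s ∈ S, ∃ n : ℕ, s * f ^ n = 0 := by
        intro f hf
        have hnil' : IsNilpotent (algebraMap R A f) := by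
          rw [nilpotent_iff_mem_prime]
          intro q hq
          have h1 : PrimeSpectrum.comap (algebraMap R A) ⟨q, hq⟩ ∈
              PrimeSpectrum.zeroLocus (t : Set R) := by
            by_contra hc
            have h2 : PrimeSpectrum.comap (algebraMap R A) ⟨q, hq⟩ ∈
                (PrimeSpectrum.zeroLocus (t : Set R))ᶜ := hc
            rw [ht] at h2
            exact h2 ⟨_, rfl⟩
          exact h1 hf
        obtain ⟨n, hn⟩ := hnil'
        rw [← map_pow, IsLocalization.map_eq_zero_iff S] at hn
        obtain ⟨s, hs⟩ := hn
        exact ⟨s, s.2, n, hs⟩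
      choose! s hs n hn using hnil
      have hg : ∏ f ∈ t, s f ∈ S := Submonoid.prod_mem _ (fun f hf => hs f hf)
      have heq : Set.range (PrimeSpectrum.comap (algebraMap R A)) =
          (PrimeSpectrum.basicOpen (∏ f ∈ t, s f) : Set (PrimeSpectrum R)) := by
        apply Set.Subset.antisymm
        · rw [hrange]
          intro p hp hgp
          exact Set.disjoint_left.mp hp hg hgp
        · intro p hp
          by_contra hc
          have h2 : p ∈ (PrimeSpectrum.zeroLocus (t : Set R))ᶜ := ht ▸ hc
          rw [Set.mem_compl_iff, PrimeSpectrum.mem_zeroLocus, Set.not_subset] at h2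
          obtain ⟨f, hft, hfp⟩ := h2
          have h0 : s f * f ^ n f ∈ p.asIdeal := by
            rw [hn f hft]; exact zero_mem _
          rcases p.2.mem_or_mem h0 with h1 | h1
          · exact hp (Ideal.mem_of_dvd _ (Finset.dvd_prod_of_mem s hft) h1)
          · exact hfp (p.2.mem_of_pow_mem _ h1)
      rw [heq]
      exact (PrimeSpectrum.basicOpen _).2
    · obtain ⟨T, hT⟩ := hfg
      have heq : Set.range (PrimeSpectrum.comap (algebraMap R A)) =
          (PrimeSpectrum.basicOpen (∏ x ∈ T, x) : Set (PrimeSpectrum R)) := by
        rw [hrange]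
        ext p
        constructor
        · intro hp hprod
          have hmem : ∏ x ∈ T, x ∈ S :=
            Submonoid.prod_mem _ (fun x hx => hT ▸ Submonoid.subset_closure hx)
          exact Set.disjoint_left.mp hp hmem hprod
        · intro hp
          change Disjoint (S : Set R) p.asIdeal
          rw [Set.disjoint_left]
          intro x hxS hxp
          have hle : S ≤ p.asIdeal.primeCompl := by
            rw [← hT, Submonoid.closure_le]
            intro y hy hyp
            exact hp (Ideal.mem_of_dvd _ (Finset.dvd_prod_of_mem id hy) hyp)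
          exact hle hxS hxp
      rw [heq]
      exact (PrimeSpectrum.basicOpen _).2
  -- Step 2: idempotents
  obtain ⟨e, f, hef, hadd, hs⟩ := PrimeSpectrum.isClopen_iff_mul_add.mp ⟨hcl, hopen⟩
  have hf_idem : IsIdempotentElem f := by
    have : f * f = f * (e + f) - f * e := by ring
    rw [IsIdempotentElem, this, hadd, mul_comm f e, hef]; ring
  have hf0 : algebraMap R A f = 0 := by
    apply (hf_idem.map (algebraMap R A)).eq_zero_of_isNilpotent
    rw [nilpotent_iff_mem_prime]
    intro q hq
    have h1 : PrimeSpectrum.comap (algebraMap R A) ⟨q, hq⟩ ∈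
        (PrimeSpectrum.basicOpen e : Set (PrimeSpectrum R)) := hs ▸ ⟨_, rfl⟩
    have h2 : e * f ∈ (PrimeSpectrum.comap (algebraMap R A) ⟨q, hq⟩).asIdeal := by
      rw [hef]; exact zero_mem _
    rcases (PrimeSpectrum.comap (algebraMap R A) ⟨q, hq⟩).2.mem_or_mem h2 with h3 | h3
    · exact absurd h3 h1
    · exact h3
  have he1 : algebraMap R A e = 1 := by
    have := congrArg (algebraMap R A) hadd
    rwa [map_add, hf0, add_zero, map_one] at this
  have hker : ∀ x : R, algebraMap R A x = 0 → e * x = 0 := by
    intro x hx
    rw [IsLocalization.map_eq_zero_iff S] at hx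
    obtain ⟨s, hsx⟩ := hx
    by_contra hne
    have hproper : (Submodule.span R {e * x}).annihilator ≠ ⊤ := by
      intro htop
      have : (1 : R) ∈ (Submodule.span R {e * x}).annihilator := htop ▸ Submodule.mem_top
      rw [Submodule.mem_annihilator_span_singleton, one_smul] at this
      exact hne this
    obtain ⟨m, hm, hle⟩ := Ideal.exists_le_maximal _ hproper
    have hsm : (s : R) ∈ m := hle (by
      rw [Submodule.mem_annihilator_span_singleton, smul_eq_mul]
      calc (s : R) * (e * x) = e * (s * x) := by ring
        _ = 0 := by rw [hsx, mul_zero])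
    have hfm : f ∈ m := hle (by
      rw [Submodule.mem_annihilator_span_singleton, smul_eq_mul]
      calc f * (e * x) = (e * f) * x := by ring
        _ = 0 := by rw [hef, zero_mul])
    have hnotin : (⟨m, hm.isPrime⟩ : PrimeSpectrum R) ∉
        Set.range (PrimeSpectrum.comap (algebraMap R A)) := by
      rw [hrange]
      intro hd
      exact Set.disjoint_left.mp hd s.2 hsm
    rw [hs] at hnotin
    have hem : e ∈ m := by
      by_contra hc
      exact hnotin hc
    have : (1 : R) ∈ m := hadd ▸ m.add_mem hem hfm
    exact hm.ne_top ((Ideal.eq_top_iff_one _).mpr this)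
  -- Step 3: the isomorphism
  let φ : R →+* A × (R ⧸ Ideal.span {e}) :=
    (algebraMap R A).prod (Ideal.Quotient.mk (Ideal.span {e}))
  have hinj : Function.Injective φ := by
    rw [injective_iff_map_eq_zero]
    intro x hx
    have h1 : algebraMap R A x = 0 := congrArg Prod.fst hx
    have h2 : Ideal.Quotient.mk (Ideal.span {e}) x = 0 := congrArg Prod.snd hx
    rw [Ideal.Quotient.eq_zero_iff_mem, Ideal.mem_span_singleton'] at h2
    obtain ⟨z, rfl⟩ := h2
    have h3 := hker _ h1
    calc z * e = (e + f) * (z * e) := by rw [hadd, one_mul]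
      _ = e * (z * e) + z * (e * f) := by ring
      _ = 0 := by rw [h3, hef, mul_zero, add_zero]
  have hsur : Function.Surjective φ := by
    rintro ⟨a, b⟩
    obtain ⟨r', rfl⟩ := hsurj a
    obtain ⟨r, rfl⟩ := Ideal.Quotient.mk_surjective b
    refine ⟨e * r' + f * r, ?_⟩
    refine Prod.ext ?_ ?_
    · change algebraMap R A (e * r' + f * r) = algebraMap R A r'
      rw [map_add, map_mul, map_mul, he1, hf0, one_mul, zero_mul, add_zero]
    · change Ideal.Quotient.mk (Ideal.span {e}) (e * r' + f * r) = Ideal.Quotient.mk _ r
      rw [Ideal.Quotient.eq, Ideal.mem_span_singleton']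
      refine ⟨r' - r, ?_⟩
      have : f = 1 - e := by rw [← hadd]; ring
      rw [this]; ring
  exact ⟨R ⧸ Ideal.span {e}, inferInstance, RingEquiv.ofBijective φ ⟨hinj, hsur⟩, fun x => rfl⟩

end Groth.Agent.S6274
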