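import Groth.Statements.S6275
-- import your own Groth.Agent.* helpers here

set_option autoImplicit false
universe u
open CAlg

namespace Groth.Agent.S6275

/-- Let R be a Noetherian ring and p ⊆ R a prime. Then there is f ∈ R, f ∉ p, such that R_f → R_p is
injective; equivalently every x ∈ R mapping to zero in R_p maps to zero in R_f. (The cases of a
domain and of a reduced ring with finitely many minimal primes are not included here.) -/
theorem result {R : Type u} [CommRing R] [IsNoetherianRing R] (p : Ideal R) [p.IsPrime] : ∃ f : R, f ∉ p ∧ ∀ x : R, algebraMap R (Localization.AtPrime p) x = 0 → algebraMap R (Localization.Away f) x = 0 := by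
  classical
  obtain ⟨t, ht⟩ := (isNoetherianRing_iff_ideal_fg R).1 inferInstance
    (RingHom.ker (algebraMap R (Localization.AtPrime p)))
  have h1 : ∀ x ∈ t, ∃ s : R, s ∉ p ∧ s * x = 0 := by
    intro x hx
    have hx' : x ∈ RingHom.ker (algebraMap R (Localization.AtPrime p)) := by
      rw [← ht]; exact Ideal.subset_span hx
    rw [RingHom.mem_ker, IsLocalization.map_eq_zero_iff p.primeCompl] at hx'
    obtain ⟨m, hm⟩ := hx'
    exact ⟨m.1, m.2, hm⟩
  choose! s hs using h1
  refine ⟨∏ x ∈ t, s x, ?_, fun x hx => ?_⟩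
  · intro h
    obtain ⟨x, hx, hxp⟩ := (Ideal.IsPrime.prod_mem_iff (hp := inferInstance)).1 h
    exact (hs x hx).1 hxp
  · have hx' : x ∈ Ideal.span (t : Set R) := by rw [ht]; exact hx
    have hle : Ideal.span (t : Set R) ≤ LinearMap.ker (LinearMap.mulLeft R (∏ x ∈ t, s x)) := by
      rw [Ideal.span_le]
      intro y hy
      simp only [SetLike.mem_coe, LinearMap.mem_ker, LinearMap.mulLeft_apply]
      rw [← Finset.mul_prod_erase t s hy, mul_comm (s y), mul_assoc, (hs y hy).2, mul_zero]
    have h0 : (∏ x ∈ t, s x) * x = 0 := by simpa using hle hx'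
    rw [IsLocalization.map_eq_zero_iff (Submonoid.powers (∏ x ∈ t, s x))]
    exact ⟨⟨_, Submonoid.mem_powers _⟩, h0⟩

end Groth.Agent.S6275
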