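import Groth.Statements.S6276
import Mathlib.RingTheory.Localization.BaseChange
import Mathlib.RingTheory.FiniteStability
import Mathlib.RingTheory.FiniteType
import Mathlib.RingTheory.Localization.Submodule
import Mathlib.FieldTheory.IntermediateField.Adjoin.Algebra
import Mathlib.RingTheory.Polynomial.Basic

set_option autoImplicit false
universe u
open scoped TensorProduct
open CAlg

namespace Groth.Agent.S6276

/-- Let k be a field, R a Noetherian k-algebra and K/k a finitely generated field extension. Then K ⊗ₖ R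
is a Noetherian ring. -/
theorem result (k : Type u) [Field k] (R : Type u) [CommRing R] [Algebra k R] [IsNoetherianRing R] (K : Type u) [Field K] [Algebra k K] (hK : ∃ s : Finset K, IntermediateField.adjoin k (s : Set K) = ⊤) : IsNoetherianRing (K ⊗[k] R) := by
  obtain ⟨s, hs⟩ := hK
  let A : Subalgebra k K := Algebra.adjoin k (s : Set K)
  have hfrac : IsFractionRing A K := by
    refine IsFractionRing.of_field A K fun z => ?_
    have hz : z ∈ IntermediateField.adjoin k (s : Set K) := hs ▸ IntermediateField.mem_top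
    obtain ⟨x, hx, y, hy, rfl⟩ := IntermediateField.mem_adjoin_iff_div.mp hz
    exact ⟨⟨x, hx⟩, ⟨y, hy⟩, rfl⟩
  have hft : Algebra.FiniteType k A :=
    (Subalgebra.fg_iff_finiteType A).mp (Subalgebra.fg_adjoin_finset s)
  have hft2 : Algebra.FiniteType R (R ⊗[k] A) := inferInstance
  have hN1 : IsNoetherianRing (R ⊗[k] A) := Algebra.FiniteType.isNoetherianRing R _
  have hN2 : IsNoetherianRing (A ⊗[k] R) :=
    isNoetherianRing_of_ringEquiv _ (Algebra.TensorProduct.comm k R A).toRingEquiv
  let _ : Algebra (A ⊗[k] R) (K ⊗[A] (A ⊗[k] R)) := Algebra.TensorProduct.rightAlgebra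
  have hloc : IsLocalization (Algebra.algebraMapSubmonoid (A ⊗[k] R) (nonZeroDivisors A))
      (K ⊗[A] (A ⊗[k] R)) := IsLocalization.tensorRight K (nonZeroDivisors A)
  have hN3 : IsNoetherianRing (K ⊗[A] (A ⊗[k] R)) :=
    IsLocalization.isNoetherianRing
      (Algebra.algebraMapSubmonoid (A ⊗[k] R) (nonZeroDivisors A)) (K ⊗[A] (A ⊗[k] R)) hN2
  exact isNoetherianRing_of_ringEquiv _
    (Algebra.TensorProduct.cancelBaseChange k A A K R).toRingEquiv

end Groth.Agent.S6276
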