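import Groth.Statements.S6279
-- import your own Groth.Agent.* helpers here
import Groth.Agent.Lib.Helper12.Normal

set_option autoImplicit false
universe u
open CAlg

namespace Groth.Agent.S6279

/-- A finite product of normal rings is normal (a ring is normal when every localization at a prime is
an integrally closed domain). -/
theorem result {ι : Type u} [Finite ι] (A : ι → Type u) [∀ i, CommRing (A i)] (hA : ∀ i, EGA4.IsNormalRing (A i)) : EGA4.IsNormalRing (∀ i, A i) := by
  exact Groth.Agent.Lib.Helper12.Normal.isNormalRing_pi A hA

end Groth.Agent.S6279
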