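import Groth.Statements.S6282
import Mathlib.LinearAlgebra.TensorProduct.Tower

set_option autoImplicit false
universe u
open scoped TensorProduct
open CAlg

namespace Groth.Agent.S6282


open TensorProduct in
/-- the commuting square relating the two left-tensorings. -/
lemma comm_sq {R S S' : Type u} [CommRing R] [CommRing S] [CommRing S'] [Algebra R S]
    [Algebra R S'] [Algebra S S'] [IsScalarTower R S S'] (M : Type u) [AddCommGroup M] [Module S M]
    [Module R M] [IsScalarTower R S M] {N N' : Type u} [AddCommGroup N] [AddCommGroup N']
    [Module R N] [Module R N'] (f : N →ₗ[R] N') (x : (S' ⊗[S] M) ⊗[R] N) :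
    (TensorProduct.AlgebraTensorModule.assoc R S S' S' M N') ((f.lTensor (S' ⊗[S] M)) x) =
      ((TensorProduct.AlgebraTensorModule.lTensor S M f).lTensor S')
        (TensorProduct.AlgebraTensorModule.assoc R S S' S' M N x) := by
  induction x using TensorProduct.induction_on with
  | zero => simp
  | tmul y n =>
    induction y using TensorProduct.induction_on with
    | zero => simp
    | tmul s m => simp
    | add y z hy hz => simp only [TensorProduct.add_tmul, map_add, hy, hz]
  | add x y hx hy => simp only [map_add, hx, hy]

open TensorProduct in
lemma inj_iff {R S S' : Type u} [CommRing R] [CommRing S] [CommRing S'] [Algebra R S]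
    [Algebra R S'] [Algebra S S'] [IsScalarTower R S S'] (M : Type u) [AddCommGroup M] [Module S M]
    [Module R M] [IsScalarTower R S M] {N N' : Type u} [AddCommGroup N] [AddCommGroup N']
    [Module R N] [Module R N'] (f : N →ₗ[R] N') :
    Function.Injective (f.lTensor (S' ⊗[S] M)) ↔
      Function.Injective ((TensorProduct.AlgebraTensorModule.lTensor S M f).lTensor S') := by
  constructor
  · intro h x y hxy
    apply (TensorProduct.AlgebraTensorModule.assoc R S S' S' M N).symm.injective
    apply h
    apply (TensorProduct.AlgebraTensorModule.assoc R S S' S' M N').injective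
    rw [comm_sq, comm_sq]
    simpa using hxy
  · intro h x y hxy
    apply (TensorProduct.AlgebraTensorModule.assoc R S S' S' M N).injective
    apply h
    rw [← comm_sq, ← comm_sq, hxy]

/-- Let S → S' be a homomorphism of R-algebras, M an S-module, and M' = S' ⊗_S M with its induced
R-module structure. (1) When S' is flat over S, R-flatness of M passes to M'. (2) When S' is
faithfully flat over S, M is R-flat exactly when M' is. -/
theorem result {R S S' : Type u} [CommRing R] [CommRing S] [CommRing S'] [Algebra R S] [Algebra R S'] [Algebra S S'] [IsScalarTower R S S'] (M : Type u) [AddCommGroup M] [Module S M] [Module R M] [IsScalarTower R S M] : ([Module.Flat S S'] → Module.Flat R M → Module.Flat R (S' ⊗[S] M)) ∧ ([Module.FaithfullyFlat S S'] → (Module.Flat R M ↔ Module.Flat R (S' ⊗[S] M))) := by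
  have h1 : Module.Flat S S' → Module.Flat R M → Module.Flat R (S' ⊗[S] M) := by
    intro _ hM
    rw [Module.Flat.iff_lTensor_preserves_injective_linearMap]
    intro N N' _ _ _ _ f hf
    rw [inj_iff]
    apply Module.Flat.lTensor_preserves_injective_linearMap
    exact Module.Flat.lTensor_preserves_injective_linearMap (M := M) f hf
  refine ⟨fun hM => h1 inferInstance hM, ⟨fun hM => h1 inferInstance hM, fun hM' => ?_⟩⟩
  rw [Module.Flat.iff_lTensor_preserves_injective_linearMap]
  intro N N' _ _ _ _ f hf
  have := Module.Flat.lTensor_preserves_injective_linearMap (M := S' ⊗[S] M) f hf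
  rw [inj_iff, Module.FaithfullyFlat.lTensor_injective_iff_injective] at this
  exact this

end Groth.Agent.S6282
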