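import Groth.Statements.S6283
import Mathlib.RingTheory.Flat.Basic
import Mathlib.LinearAlgebra.TensorProduct.Pi
import Mathlib.RingTheory.Finiteness.Basic
import Mathlib.RingTheory.Ideal.Maps

set_option autoImplicit false
universe u
open scoped TensorProduct
open CAlg

namespace Groth.Agent.S6283

section helpers
variable {R S : Type u} [CommRing R] [CommRing S] [Algebra R S] [Module.Flat R S]

lemma part_a (M : Type u) [AddCommGroup M] [Module R M] (m : M) :
    ((Submodule.span R {m}).annihilator).map (algebraMap R S)
      = (Submodule.span S {(1 : S) ⊗ₜ[R] m}).annihilator := by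
  set I := (Submodule.span R {m}).annihilator with hI
  let φ : R →ₗ[R] M := LinearMap.toSpanSingleton R M m
  have hex : Function.Exact I.subtype φ := by
    intro r
    simp [φ, hI, Submodule.mem_annihilator_span_singleton]
  have hex' := Module.Flat.lTensor_exact S hex
  apply le_antisymm
  · rw [Ideal.map_le_iff_le_comap]
    intro r hr
    rw [Ideal.mem_comap, Submodule.mem_annihilator_span_singleton]
    rw [hI, Submodule.mem_annihilator_span_singleton] at hr
    rw [algebraMap_smul, ← TensorProduct.tmul_smul, hr, TensorProduct.tmul_zero]
  · intro s hs
    rw [Submodule.mem_annihilator_span_singleton] at hs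
    have h1 : (φ.lTensor S) (s ⊗ₜ 1) = 0 := by
      simp [φ, ← hs, TensorProduct.smul_tmul']
    obtain ⟨z, hz⟩ := (hex' _).mp h1
    have key : ∀ z : S ⊗[R] I,
        TensorProduct.rid R S (I.subtype.lTensor S z) ∈ I.map (algebraMap R S) := by
      intro z
      induction z using TensorProduct.induction_on with
      | zero => simp
      | tmul s' i =>
        simp only [LinearMap.lTensor_tmul, Submodule.subtype_apply, TensorProduct.rid_tmul]
        rw [Algebra.smul_def]
        exact Ideal.mul_mem_right _ _ (Ideal.mem_map_of_mem _ i.2)
      | add a b ha hb => simp only [map_add]; exact add_mem ha hb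
    have := key z
    rw [hz] at this
    simpa using this

end helpers

/-- Let R → S be a flat ring map, M an R-module and m ∈ M. Then Ann_R(m)S = Ann_S(1 ⊗ m), the
annihilator in S of the element 1 ⊗ m of S ⊗_R M. If moreover M is a finite R-module then Ann_R(M)S
= Ann_S(S ⊗_R M). -/
theorem result {R S : Type u} [CommRing R] [CommRing S] [Algebra R S] [Module.Flat R S] (M : Type u) [AddCommGroup M] [Module R M] : (∀ m : M, ((Submodule.span R {m}).annihilator).map (algebraMap R S) = (Submodule.span S {(1 : S) ⊗ₜ[R] m}).annihilator) ∧ (Module.Finite R M → (Module.annihilator R M).map (algebraMap R S) = Module.annihilator S (S ⊗[R] M)) := by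
  refine ⟨fun m => part_a M m, fun hfin => ?_⟩
  classical
  obtain ⟨n, s, hs⟩ := Module.Finite.exists_fin (R := R) (M := M)
  have h1 : (Submodule.span R {s}).annihilator = Module.annihilator R M := by
    ext r
    rw [Submodule.mem_annihilator_span_singleton, Module.mem_annihilator]
    constructor
    · intro h m
      have hm : m ∈ Submodule.span R (Set.range s) := hs ▸ Submodule.mem_top
      induction hm using Submodule.span_induction with
      | mem x hx =>
        obtain ⟨i, rfl⟩ := hx
        exact congrFun h i
      | zero => simp
      | add x y _ _ hx hy => rw [smul_add, hx, hy, add_zero]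
      | smul a x _ hx => rw [smul_comm, hx, smul_zero]
    · intro h
      ext i
      exact h (s i)
  have h2 : (Submodule.span S {(1 : S) ⊗ₜ[R] s}).annihilator
      = Module.annihilator S (S ⊗[R] M) := by
    ext t
    rw [Submodule.mem_annihilator_span_singleton, Module.mem_annihilator]
    constructor
    · intro h
      have h' : ∀ i, t ⊗ₜ[R] s i = (0 : S ⊗[R] M) := by
        intro i
        have := congrArg (fun z => TensorProduct.piRight R S S (fun _ : Fin n => M) z i) h
        simpa [TensorProduct.smul_tmul'] using this
      have hall : ∀ (x : S) (m : M), t • (x ⊗ₜ[R] m) = (0 : S ⊗[R] M) := by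
        intro x m
        have hm : m ∈ Submodule.span R (Set.range s) := hs ▸ Submodule.mem_top
        induction hm using Submodule.span_induction with
        | mem y hy =>
          obtain ⟨i, rfl⟩ := hy
          have : t • (x ⊗ₜ[R] s i) = x • (t ⊗ₜ[R] s i) := by
            simp [TensorProduct.smul_tmul', mul_comm]
          rw [this, h' i, smul_zero]
        | zero => simp
        | add y z _ _ hy hz => rw [TensorProduct.tmul_add, smul_add, hy, hz, add_zero]
        | smul a y _ hy => rw [TensorProduct.tmul_smul, smul_comm, hy, smul_zero]
      intro z
      induction z using TensorProduct.induction_on with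
      | zero => simp
      | tmul x m => exact hall x m
      | add a b ha hb => rw [smul_add, ha, hb, add_zero]
    · intro h
      apply (TensorProduct.piRight R S S (fun _ : Fin n => M)).injective
      rw [map_smul, map_zero]
      ext i
      simp only [TensorProduct.piRight_apply, TensorProduct.piRightHom_tmul, Pi.smul_apply,
        Pi.zero_apply]
      exact h _
  rw [← h1, ← h2]
  exact part_a (Fin n → M) s

end Groth.Agent.S6283
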