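import Groth.Statements.S6285
import Groth.Agent.Helper19.FittLib2

set_option autoImplicit false
universe u
open CAlg

namespace Groth.Agent.S6285

/-- For a ring R and an R-module M of finite presentation, the support Supp(M) is closed in Spec(R), and
its complement in Spec(R) is quasi-compact. -/
theorem result (R : Type u) [CommRing R] (M : Type u) [AddCommGroup M] [Module R M] [Module.FinitePresentation R M] : IsClosed (Module.support R M) ∧ IsCompact (Module.support R M)ᶜ := by
  have hfin : Module.Finite R M := inferInstance
  have hsupp := Groth.Agent.Helper19.FittLib.zeroLocus_ideal_zero (R := R) (M := M)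
  have hfg := Groth.Agent.Helper19.FittLib.ideal_fg (R := R) (M := M) 0
  have h := (PrimeSpectrum.isCompact_isOpen_iff_ideal (s := (Module.support R M)ᶜ)).mpr
    ⟨Fitt.ideal R M 0, hfg, by rw [hsupp]⟩
  refine ⟨?_, h.1⟩
  rw [← isOpen_compl_iff]
  exact h.2

end Groth.Agent.S6285
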