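import Groth.Statements.S6286
import Mathlib

set_option autoImplicit false
universe u
open scoped TensorProduct
open CAlg

namespace Groth.Agent.S6286

open TensorProduct in
theorem exists_prime_iff_not_isNilpotent (R C : Type u) [CommRing R] [CommRing C] [Algebra R C]
    (p : PrimeSpectrum R) (f : C) :
    (∃ q : PrimeSpectrum C, f ∉ q.asIdeal ∧ q.asIdeal.comap (algebraMap R C) = p.asIdeal) ↔
      ¬ IsNilpotent ((1 : p.asIdeal.ResidueField) ⊗ₜ[R] f) := by
  constructor
  · rintro ⟨q, hf, hq⟩ hnil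
    have hq' : q ∈ PrimeSpectrum.comap (algebraMap R C) ⁻¹' {p} := PrimeSpectrum.ext hq
    let Q := PrimeSpectrum.preimageEquivFiber R C p ⟨q, hq'⟩
    have h1 : (PrimeSpectrum.preimageEquivFiber R C p).symm Q = ⟨q, hq'⟩ :=
      Equiv.symm_apply_apply _ _
    obtain ⟨n, hn⟩ := hnil
    have h2 : (1 : p.asIdeal.ResidueField) ⊗ₜ[R] f ∈ Q.asIdeal :=
      Q.isPrime.mem_of_pow_mem n (hn ▸ Q.asIdeal.zero_mem)
    apply hf
    have h3 : ((PrimeSpectrum.preimageEquivFiber R C p).symm Q).1.asIdeal = q.asIdeal := by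
      rw [h1]
    rw [← h3]
    exact h2
  · intro hnn
    have h1 : (1 : p.asIdeal.ResidueField) ⊗ₜ[R] f ∉ nilradical (p.asIdeal.ResidueField ⊗[R] C) :=
      hnn
    rw [nilradical_eq_sInf, Submodule.mem_sInf] at h1
    push Not at h1
    obtain ⟨Q, hQ, hfQ⟩ := h1
    let q := (PrimeSpectrum.preimageEquivFiber R C p).symm ⟨Q, hQ⟩
    refine ⟨q.1, ?_, ?_⟩
    · intro hf
      exact hfQ hf
    · exact congrArg PrimeSpectrum.asIdeal q.2

/-- Let k be a field, R and S k-algebras, S' ⊆ S a k-subalgebra and f ∈ R ⊗ₖ S', with image f again in R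
⊗ₖ S. Then the images in Spec(R) of Spec((R ⊗ₖ S)_f) and of Spec((R ⊗ₖ S')_f) coincide: a prime p of
R is the contraction of a prime of R ⊗ₖ S not containing f if and only if it is the contraction of a
prime of R ⊗ₖ S' not containing f. -/
theorem result (k : Type u) [Field k] (R S : Type u) [CommRing R] [Algebra k R] [CommRing S] [Algebra k S] (S' : Subalgebra k S) (f : R ⊗[k] S') (p : PrimeSpectrum R) : (∃ q : PrimeSpectrum (R ⊗[k] S), Algebra.TensorProduct.map (AlgHom.id k R) S'.val f ∉ q.asIdeal ∧ q.asIdeal.comap (algebraMap R (R ⊗[k] S)) = p.asIdeal) ↔ (∃ q' : PrimeSpectrum (R ⊗[k] S'), f ∉ q'.asIdeal ∧ q'.asIdeal.comap (algebraMap R (R ⊗[k] S')) = p.asIdeal) := by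
  classical
  let φ : R ⊗[k] S' →ₐ[R] R ⊗[k] S := Algebra.TensorProduct.map (AlgHom.id R R) S'.val
  have hφ : ∀ x, φ x = Algebra.TensorProduct.map (AlgHom.id k R) S'.val x := by
    intro x
    induction x using TensorProduct.induction_on with
    | zero => simp
    | tmul r s => rfl
    | add x y hx hy => rw [map_add, map_add, hx, hy]
  constructor
  · rintro ⟨q, hf, hq⟩
    refine ⟨⟨q.asIdeal.comap (φ : R ⊗[k] S' →+* R ⊗[k] S), inferInstance⟩, ?_, ?_⟩
    · intro h
      apply hf
      rw [← hφ]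
      exact h
    · rw [← hq]
      ext r
      simp only [Ideal.mem_comap]
      rw [show (φ : R ⊗[k] S' →+* R ⊗[k] S) (algebraMap R (R ⊗[k] S') r) = algebraMap R (R ⊗[k] S) r
        from φ.commutes r]
  · intro h
    rw [exists_prime_iff_not_isNilpotent] at h
    have h' : ∃ q : PrimeSpectrum (R ⊗[k] S), φ f ∉ q.asIdeal ∧
        q.asIdeal.comap (algebraMap R (R ⊗[k] S)) = p.asIdeal := by
      rw [exists_prime_iff_not_isNilpotent]
      intro hnil
      apply h
      -- a retraction of `S' ⊆ S`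
      obtain ⟨ρ, hρ⟩ := (S'.val.toLinearMap).exists_leftInverse_of_injective
        (LinearMap.ker_eq_bot.mpr Subtype.val_injective)
      let ρR : R ⊗[k] S →ₗ[R] R ⊗[k] S' :=
        TensorProduct.AlgebraTensorModule.map (LinearMap.id : R →ₗ[R] R) ρ
      have hρR : ∀ c, ρR (φ c) = c := by
        intro c
        induction c using TensorProduct.induction_on with
        | zero => simp
        | tmul r s =>
          change r ⊗ₜ[k] ρ (S'.val.toLinearMap s) = r ⊗ₜ[k] s
          have := LinearMap.congr_fun hρ s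
          rw [LinearMap.comp_apply, LinearMap.id_apply] at this
          rw [this]
        | add x y hx hy => rw [map_add, map_add, hx, hy]
      let ψ : p.asIdeal.ResidueField ⊗[R] (R ⊗[k] S') →ₐ[R] p.asIdeal.ResidueField ⊗[R] (R ⊗[k] S) :=
        Algebra.TensorProduct.map (AlgHom.id R _) φ
      have hψ : Function.LeftInverse (LinearMap.lTensor p.asIdeal.ResidueField ρR) ψ := by
        intro z
        induction z using TensorProduct.induction_on with
        | zero => simp
        | tmul x c =>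
          change x ⊗ₜ[R] ρR (φ c) = x ⊗ₜ[R] c
          rw [hρR]
        | add x y hx hy => rw [map_add, map_add, hx, hy]
      obtain ⟨n, hn⟩ := hnil
      refine ⟨n, hψ.injective ?_⟩
      have h1 : ψ ((1 : p.asIdeal.ResidueField) ⊗ₜ[R] f) =
          (1 : p.asIdeal.ResidueField) ⊗ₜ[R] φ f := rfl
      have h2 : ψ (((1 : p.asIdeal.ResidueField) ⊗ₜ[R] f) ^ n) =
          (ψ ((1 : p.asIdeal.ResidueField) ⊗ₜ[R] f)) ^ n := ψ.toRingHom.map_pow _ n
      have h3 : ψ 0 = 0 := ψ.toRingHom.map_zero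
      rw [h2, h3, h1]
      exact hn
    obtain ⟨q, hq1, hq2⟩ := h'
    refine ⟨q, ?_, hq2⟩
    rw [← hφ]
    exact hq1

end Groth.Agent.S6286
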