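import Groth.Statements.S6288
import Mathlib.RingTheory.Algebraic.Basic

set_option autoImplicit false
universe u
open CAlg

namespace Groth.Agent.S6288

/-- Let L/K be an algebraic extension of fields and B ⊆ L a valuation ring with fraction field L which
is not a field. Then A = K ∩ B is a valuation ring of K (automatic) which is again not a field, i.e.
A ≠ K. -/
theorem result (K L : Type u) [Field K] [Field L] [Algebra K L] [Algebra.IsAlgebraic K L] (B : ValuationSubring L) (hB : B ≠ ⊤) : B.comap (algebraMap K L) ≠ ⊤ := by
  intro htop
  apply hB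
  have hK : ∀ k : K, algebraMap K L k ∈ B := fun k => by
    have : k ∈ B.comap (algebraMap K L) := by rw [htop]; exact ValuationSubring.mem_top k
    exact this
  let A : Subalgebra K L := { B.toSubring with algebraMap_mem' := hK }
  rw [eq_top_iff]
  intro x _
  rcases B.mem_or_inv_mem x with h | h
  · exact h
  · have h1 : (⟨x⁻¹, h⟩ : A).1⁻¹ ∈ A :=
      A.inv_mem_of_algebraic (x := ⟨x⁻¹, h⟩) (Algebra.IsAlgebraic.isAlgebraic _)
    have h2 : x ∈ A := by simpa using h1
    exact h2

end Groth.Agent.S6288
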