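import Groth.Statements.S6289
-- import your own Groth.Agent.* helpers here

set_option autoImplicit false
universe u
open CAlg

namespace Groth.Agent.S6289

theorem aux (A' : Type u) [CommRing A'] [IsDomain A'] [ValuationRing A']
    (A : ValuationSubring (IsLocalRing.ResidueField A'))
    (a b : A') (ha : a ∈ A.toSubring.comap (IsLocalRing.residue A'))
    (hb : b ∈ A.toSubring.comap (IsLocalRing.residue A')) (hab : a ∣ b) :
    (⟨a, ha⟩ : A.toSubring.comap (IsLocalRing.residue A')) ∣ ⟨b, hb⟩ ∨
      (⟨b, hb⟩ : A.toSubring.comap (IsLocalRing.residue A')) ∣ ⟨a, ha⟩ := by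
  obtain ⟨c, rfl⟩ := hab
  by_cases hc : IsLocalRing.residue A' c ∈ A
  · left
    exact ⟨⟨c, hc⟩, rfl⟩
  · right
    have hne : IsLocalRing.residue A' c ≠ 0 := fun h => hc (h ▸ zero_mem _)
    have hu : IsUnit c := by
      by_contra hnu
      exact hne ((IsLocalRing.residue_eq_zero_iff c).mpr hnu)
    obtain ⟨u, rfl⟩ := hu
    have hinv : IsLocalRing.residue A' (↑u⁻¹ : A') = (IsLocalRing.residue A' (u : A'))⁻¹ := by
      apply eq_inv_of_mul_eq_one_left
      rw [← map_mul, Units.inv_mul, map_one]
    have hmem : IsLocalRing.residue A' (↑u⁻¹ : A') ∈ A := by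
      rw [hinv]
      exact (A.mem_or_inv_mem _).resolve_left hc
    refine ⟨⟨(↑u⁻¹ : A'), hmem⟩, Subtype.ext ?_⟩
    simp [mul_assoc]

/-- Let A' be a valuation ring with residue field K and A ⊆ K a valuation ring with fraction field K.
Then the subring C of A' consisting of the elements whose residue class lies in A is a valuation
ring. -/
theorem result (A' : Type u) [CommRing A'] [IsDomain A'] [ValuationRing A'] (A : ValuationSubring (IsLocalRing.ResidueField A')) : ValuationRing (A.toSubring.comap (IsLocalRing.residue A')) := by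
  rw [ValuationRing.iff_dvd_total]
  refine ⟨fun a b => ?_⟩
  obtain ⟨a, ha⟩ := a
  obtain ⟨b, hb⟩ := b
  rcases (ValuationRing.iff_dvd_total.mp (inferInstance : ValuationRing A')).total a b with h | h
  · exact aux A' A a b ha hb h
  · exact (aux A' A b a hb ha h).symm

end Groth.Agent.S6289
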