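import Groth.Statements.S6292
import Mathlib.RingTheory.Length
import Mathlib.Algebra.Module.Torsion.Basic
import Mathlib.RingTheory.Ideal.Quotient.Basic
import Mathlib.RingTheory.Finiteness.Ideal

set_option autoImplicit false
universe u
open CAlg

namespace Groth.Agent.S6292

theorem aux1 {R : Type u} [CommRing R] (m : Ideal R) [m.IsMaximal] (N : Type u) [AddCommGroup N]
    [Module R N] [Module.Finite R N] (h : ∀ a ∈ m, ∀ x : N, a • x = 0) : IsFiniteLength R N := by
  have hT : Module.IsTorsionBySet R N m := fun x a => h a.1 a.2 x
  let _ := hT.module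
  let _ := Ideal.Quotient.field m
  have : IsScalarTower R (R ⧸ m) N := hT.isScalarTower
  have : Module.Finite (R ⧸ m) N := Module.Finite.of_restrictScalars_finite R (R ⧸ m) N
  rw [← Module.length_ne_top_iff,
    Module.length_eq_of_surjective (R := R ⧸ m) (S := R) Ideal.Quotient.mk_surjective]
  exact Module.length_ne_top

theorem aux2 {R : Type u} [CommRing R] (m : Ideal R) [m.IsMaximal] (hm : m.FG) (n : ℕ) :
    ∀ (M : Type u) [AddCommGroup M] [Module R M] [Module.Finite R M],
      m ^ n • (⊤ : Submodule R M) = ⊥ → IsFiniteLength R M := by
  induction n with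
  | zero =>
    intro M _ _ _ hn
    rw [pow_zero, Ideal.one_eq_top, Submodule.top_smul] at hn
    have : Subsingleton M := by
      rw [← Submodule.subsingleton_iff R]
      exact subsingleton_of_bot_eq_top hn.symm
    exact IsFiniteLength.of_subsingleton
  | succ n ih =>
    intro M _ _ _ hn
    let N : Submodule R M := m ^ n • (⊤ : Submodule R M)
    have hNfg : N.FG := Submodule.FG.smul (Ideal.FG.pow hm) Module.Finite.fg_top
    have : Module.Finite R N := Module.Finite.of_fg hNfg
    have hN : IsFiniteLength R N := by
      apply aux1 m
      intro a ha x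
      apply Subtype.ext
      have : a • (x : M) ∈ m ^ (n + 1) • (⊤ : Submodule R M) := by
        rw [pow_succ', Submodule.mul_smul]
        exact Submodule.smul_mem_smul ha x.2
      rw [hn] at this
      simpa using this
    have hQ : IsFiniteLength R (M ⧸ N) := by
      apply ih
      rw [eq_bot_iff]
      apply Submodule.smul_le.mpr
      intro a ha y _
      obtain ⟨x, rfl⟩ := Submodule.Quotient.mk_surjective N y
      rw [← Submodule.Quotient.mk_smul, Submodule.mem_bot, Submodule.Quotient.mk_eq_zero]
      exact Submodule.smul_mem_smul ha trivial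
    rw [← Module.length_ne_top_iff] at hN hQ ⊢
    rw [Module.length_eq_add_of_exact N.subtype N.mkQ N.subtype_injective N.mkQ_surjective
      (LinearMap.exact_subtype_mkQ N)]
    intro h
    rcases ENat.add_eq_top.mp h with h | h
    · exact hN h
    · exact hQ h

/-- Let R be a ring and m ⊆ R a finitely generated maximal ideal (for instance R Noetherian). If M is a
finite R-module with mⁿM = 0 for some n, then M has finite length. -/
theorem result {R : Type u} [CommRing R] (m : Ideal R) [m.IsMaximal] (hm : m.FG) (M : Type u) [AddCommGroup M] [Module R M] [Module.Finite R M] (n : ℕ) (hn : m ^ n • (⊤ : Submodule R M) = ⊥) : IsFiniteLength R M := by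
  exact aux2 m hm n M hn

end Groth.Agent.S6292
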