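import Groth.Statements.S6294
import Mathlib.RingTheory.Ideal.MinimalPrime.Localization
import Mathlib.RingTheory.Ideal.Operations
import Mathlib.Algebra.Group.Pi.Units

set_option autoImplicit false
universe u
open CAlg

namespace Groth.Agent.S6294

theorem exists_u {R : Type u} [CommRing R] {ι : Type} [Fintype ι] (q : ι → Ideal R)
    [∀ i, (q i).IsPrime] (hinj : Function.Injective q)
    (hmin : ∀ P : Ideal R, P ∈ minimalPrimes R ↔ P ∈ Set.range q) (i : ι) :
    ∃ u : R, u ∉ q i ∧ ∀ j, j ≠ i → u ∈ q j := by
  classical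
  have hnle : ¬ ((Finset.univ.erase i).inf q ≤ q i) := by
    rw [Ideal.IsPrime.inf_le' inferInstance]
    rintro ⟨j, hj, hji⟩
    rw [Finset.mem_erase] at hj
    have hqi : q i ∈ minimalPrimes R := (hmin _).mpr ⟨i, rfl⟩
    have hqj : q j ∈ minimalPrimes R := (hmin _).mpr ⟨j, rfl⟩
    have : q i ≤ q j := hqi.2 ⟨inferInstance, bot_le⟩ hji
    exact hj.1 (hinj (le_antisymm hji this))
  obtain ⟨u, hu, hui⟩ := SetLike.not_le_iff_exists.mp hnle
  refine ⟨u, hui, fun j hj => ?_⟩
  exact (Finset.inf_le (Finset.mem_erase.mpr ⟨hj, Finset.mem_univ j⟩) : _ ≤ q j) hu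

theorem isNilpotent_algebraMap_of_mem {R : Type u} [CommRing R] (p : Ideal R) [p.IsPrime]
    (hp : p ∈ minimalPrimes R) (x : R) (hx : x ∈ p) :
    IsNilpotent (algebraMap R (Localization.AtPrime p) x) := by
  have h1 := IsLocalization.AtPrime.radical_map_of_mem_minimalPrimes
    (A := Localization.AtPrime p) p ⊥ hp
  rw [Ideal.map_bot] at h1
  have : algebraMap R (Localization.AtPrime p) x ∈ (⊥ : Ideal (Localization.AtPrime p)).radical := by
    rw [h1]
    exact Ideal.mem_map_of_mem _ hx
  obtain ⟨n, hn⟩ := this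
  exact ⟨n, hn⟩

theorem exists_v {R : Type u} [CommRing R] {ι : Type} [Fintype ι] (q : ι → Ideal R)
    [∀ i, (q i).IsPrime] (hinj : Function.Injective q)
    (hmin : ∀ P : Ideal R, P ∈ minimalPrimes R ↔ P ∈ Set.range q) :
    ∃ v : ι → R, (∀ i, v i ∉ q i) ∧
      ∀ i j, j ≠ i → algebraMap R (Localization.AtPrime (q j)) (v i) = 0 := by
  classical
  choose u hu1 hu2 using exists_u q hinj hmin
  have hnil : ∀ i j, ∃ N : ℕ, j ≠ i → algebraMap R (Localization.AtPrime (q j)) (u i) ^ N = 0 := by
    intro i j
    by_cases hji : j = i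
    · exact ⟨0, fun h => absurd hji h⟩
    · obtain ⟨N, hN⟩ := isNilpotent_algebraMap_of_mem (q j) ((hmin _).mpr ⟨j, rfl⟩) (u i) (hu2 i j hji)
      exact ⟨N, fun _ => hN⟩
  choose N hN using hnil
  let Mx : ℕ := ∑ i, ∑ j, N i j
  refine ⟨fun i => u i ^ Mx, fun i => ?_, fun i j hji => ?_⟩
  · exact fun h => hu1 i (Ideal.IsPrime.mem_of_pow_mem inferInstance _ h)
  · rw [map_pow]
    apply pow_eq_zero_of_le _ (hN i j hji)
    calc N i j ≤ ∑ j', N i j' := Finset.single_le_sum (f := fun j' => N i j') (fun _ _ => Nat.zero_le _) (Finset.mem_univ j)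
      _ ≤ Mx := Finset.single_le_sum (f := fun i' => ∑ j', N i' j') (fun _ _ => Nat.zero_le _) (Finset.mem_univ i)

/-- Let R be a ring with finitely many minimal primes q₁, …, q_t, and assume that the zerodivisors of R
are precisely the elements of q₁ ∪ … ∪ q_t. Then Q(R), the total ring of fractions of R, equals
R_{q₁} × … × R_{q_t}: the diagonal map R → ∏ R_{q_i} is a localization of R at its non-zerodivisors. -/
theorem result {R : Type u} [CommRing R] {ι : Type} [Fintype ι] (q : ι → Ideal R) [∀ i, (q i).IsPrime] (hinj : Function.Injective q) (hmin : ∀ P : Ideal R, P ∈ minimalPrimes R ↔ P ∈ Set.range q) (hzd : ∀ x : R, x ∈ nonZeroDivisors R ↔ ∀ i, x ∉ q i) : IsLocalization (nonZeroDivisors R) (∀ i, Localization.AtPrime (q i)) := by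
  classical
  obtain ⟨v, hv1, hv2⟩ := exists_v q hinj hmin
  have hunit : ∀ (x : R) (i : ι), x ∉ q i → IsUnit (algebraMap R (Localization.AtPrime (q i)) x) :=
    fun x i hx => IsLocalization.map_units (M := (q i).primeCompl) _ ⟨x, hx⟩
  have hnotmem : ∀ (x : R) (i : ι), IsUnit (algebraMap R (Localization.AtPrime (q i)) x) → x ∉ q i := by
    intro x i hx hmem
    exact (IsLocalization.AtPrime.isUnit_to_map_iff (Localization.AtPrime (q i)) (q i) x).mp hx hmem
  rw [isLocalization_iff]
  refine ⟨?_, ?_, ?_⟩
  · intro y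
    rw [Pi.isUnit_iff]
    intro i
    exact hunit y i ((hzd y).mp y.2 i)
  · intro z
    have hz : ∀ i, ∃ x : R × (q i).primeCompl,
        z i * algebraMap R (Localization.AtPrime (q i)) x.2 =
          algebraMap R (Localization.AtPrime (q i)) x.1 :=
      fun i => IsLocalization.surj (q i).primeCompl (z i)
    choose x hx using hz
    let s : R := ∑ i, ((x i).2 : R) * v i
    let r : R := ∑ i, (x i).1 * v i
    have hs_j : ∀ j, algebraMap R (Localization.AtPrime (q j)) s =
        algebraMap R (Localization.AtPrime (q j)) ((x j).2 : R) *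
          algebraMap R (Localization.AtPrime (q j)) (v j) := by
      intro j
      simp only [s, map_sum, map_mul]
      rw [Finset.sum_eq_single j]
      · intro i _ hij
        rw [hv2 i j (Ne.symm hij), mul_zero]
      · intro h; exact absurd (Finset.mem_univ j) h
    have hr_j : ∀ j, algebraMap R (Localization.AtPrime (q j)) r =
        algebraMap R (Localization.AtPrime (q j)) (x j).1 *
          algebraMap R (Localization.AtPrime (q j)) (v j) := by
      intro j
      simp only [r, map_sum, map_mul]
      rw [Finset.sum_eq_single j]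
      · intro i _ hij
        rw [hv2 i j (Ne.symm hij), mul_zero]
      · intro h; exact absurd (Finset.mem_univ j) h
    have hs : s ∈ nonZeroDivisors R := by
      rw [hzd]
      intro j
      apply hnotmem
      rw [hs_j]
      exact (hunit _ j (x j).2.2).mul (hunit _ j (hv1 j))
    refine ⟨(r, ⟨s, hs⟩), ?_⟩
    funext j
    simp only [Pi.mul_apply, Pi.algebraMap_apply]
    rw [hs_j, hr_j, ← mul_assoc, hx j]
  · intro a b hab
    -- a - b maps to zero in each localization
    have hann : ∀ i, ∃ c : R, c ∉ q i ∧ c * (a - b) = 0 := by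
      intro i
      have h0 : algebraMap R (Localization.AtPrime (q i)) (a - b) = 0 := by
        rw [map_sub, sub_eq_zero]
        exact congrFun hab i
      rw [IsLocalization.map_eq_zero_iff (q i).primeCompl] at h0
      obtain ⟨⟨c, hc⟩, hc0⟩ := h0
      exact ⟨c, hc, hc0⟩
    choose c hc1 hc2 using hann
    let d : R := ∑ i, c i * v i
    have hd_j : ∀ j, algebraMap R (Localization.AtPrime (q j)) d =
        algebraMap R (Localization.AtPrime (q j)) (c j) *
          algebraMap R (Localization.AtPrime (q j)) (v j) := by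
      intro j
      simp only [d, map_sum, map_mul]
      rw [Finset.sum_eq_single j]
      · intro i _ hij
        rw [hv2 i j (Ne.symm hij), mul_zero]
      · intro h; exact absurd (Finset.mem_univ j) h
    have hd : d ∈ nonZeroDivisors R := by
      rw [hzd]
      intro j
      apply hnotmem
      rw [hd_j]
      exact (hunit _ j (hc1 j)).mul (hunit _ j (hv1 j))
    refine ⟨⟨d, hd⟩, ?_⟩
    have : d * (a - b) = 0 := by
      simp only [d, Finset.sum_mul]
      refine Finset.sum_eq_zero fun i _ => ?_
      rw [mul_right_comm, hc2 i, zero_mul]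
    rw [mul_sub, sub_eq_zero] at this
    exact this

end Groth.Agent.S6294
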