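import Groth.Statements.S6295
import Mathlib.RingTheory.Ideal.MinimalPrime.Localization
import Mathlib.RingTheory.LocalRing.MaximalIdeal.Basic
import Mathlib.RingTheory.Nilpotent.Lemmas
import Mathlib.RingTheory.LocalProperties.Reduced

set_option autoImplicit false
universe u
open CAlg

namespace Groth.Agent.S6295

/-- Let R be a reduced ring. Then every localization R_p at a minimal prime p is a field and the map R →
∏_{p minimal} R_p is injective (so R is a subring of a product of fields); moreover the set of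
zerodivisors of R is the union of the minimal primes. -/
theorem result (R : Type u) [CommRing R] [IsReduced R] : (∀ p : PrimeSpectrum R, p.asIdeal ∈ minimalPrimes R → IsField (Localization.AtPrime p.asIdeal)) ∧ Function.Injective (algebraMap R (∀ p : {p : PrimeSpectrum R // p.asIdeal ∈ minimalPrimes R}, Localization.AtPrime p.1.asIdeal)) ∧ (∀ x : R, x ∉ nonZeroDivisors R ↔ ∃ p ∈ minimalPrimes R, x ∈ p) := by
  refine ⟨?_, ?_, ?_⟩
  · intro p hp
    have h1 := IsLocalization.AtPrime.radical_map_of_mem_minimalPrimes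
      (A := Localization.AtPrime p.asIdeal) p.asIdeal ⊥ hp
    rw [Ideal.map_bot, IsLocalization.AtPrime.map_eq_maximalIdeal p.asIdeal
      (Localization.AtPrime p.asIdeal)] at h1
    rw [IsLocalRing.isField_iff_maximalIdeal_eq, ← h1]
    exact nilradical_eq_zero _
  · rw [injective_iff_map_eq_zero]
    intro x hx
    by_contra hne
    have hnil : x ∉ nilradical R := by
      rw [nilradical_eq_zero]; exact hne
    rw [nilradical_eq_sInf, Ideal.mem_sInf] at hnil
    push Not at hnil
    obtain ⟨q, hq, hxq⟩ := hnil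
    have hq' : q.IsPrime := hq
    obtain ⟨p, hp, hpq⟩ := Ideal.exists_minimalPrimes_le (I := ⊥) (J := q) bot_le
    have hpprime : p.IsPrime := hp.1.1
    have h0 := congrFun hx ⟨⟨p, hpprime⟩, hp⟩
    simp only [Pi.algebraMap_apply, Pi.zero_apply] at h0
    rw [IsLocalization.map_eq_zero_iff p.primeCompl] at h0
    obtain ⟨⟨s, hs⟩, hsx⟩ := h0
    have : s * x ∈ p := by rw [hsx]; exact zero_mem _
    rcases hpprime.mem_or_mem this with h | h
    · exact hs h
    · exact hxq (hpq h)
  · intro x
    have h := Ideal.iUnion_minimalPrimes (I := (⊥ : Ideal R))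
    have hrad : (⊥ : Ideal R).radical = ⊥ := nilradical_eq_zero R
    rw [hrad] at h
    have hx : x ∈ (⋃ p ∈ (⊥ : Ideal R).minimalPrimes, (p : Set R)) ↔ ∃ p ∈ minimalPrimes R, x ∈ p := by
      simp [minimalPrimes]
    rw [← hx, h]
    change x ∉ nonZeroDivisors R ↔ ∃ y ∉ (⊥ : Ideal R), x * y ∈ (⊥ : Ideal R)
    simp only [Ideal.mem_bot]
    rw [mem_nonZeroDivisors_iff_right]
    push Not
    constructor
    · rintro ⟨y, h1, h2⟩
      exact ⟨y, h2, by rw [mul_comm]; exact h1⟩
    · rintro ⟨y, h1, h2⟩
      exact ⟨y, by rw [mul_comm]; exact h2, h1⟩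

end Groth.Agent.S6295
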