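import Groth.Statements.S6297
import Mathlib

set_option autoImplicit false
universe u
open CAlg

namespace Groth.Agent.S6297

open Matrix Finset Equiv

/-- Multilinear expansion of `det (M * N)` for rectangular `M`, `N`. -/
theorem det_mul_expand {R : Type u} [CommRing R] {n m : ℕ}
    (M : Matrix (Fin m) (Fin n) R) (N : Matrix (Fin n) (Fin m) R) :
    det (M * N) = ∑ p : Fin m → Fin n, (∏ i, N (p i) i) * det (M.submatrix id p) := by
  calc det (M * N)
      = ∑ p : Fin m → Fin n, ∑ σ : Perm (Fin m),
          (Equiv.Perm.sign σ : ℤ) * ∏ i, M (σ i) (p i) * N (p i) i := by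
        simp only [det_apply', mul_apply, prod_univ_sum, mul_sum, Fintype.piFinset_univ]
        rw [Finset.sum_comm]
    _ = ∑ p : Fin m → Fin n, (∏ i, N (p i) i) * det (M.submatrix id p) := by
        refine Finset.sum_congr rfl fun p _ => ?_
        rw [det_apply', mul_sum]
        refine Finset.sum_congr rfl fun σ _ => ?_
        simp only [submatrix_apply, id_eq, prod_mul_distrib]
        ring

theorem det_mul_mem_minorIdeal {R : Type u} [CommRing R] {n m : ℕ}
    (B : Matrix (Fin m) (Fin n) R) (A : Matrix (Fin n) (Fin m) R) :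
    det (B * A) ∈ CAlgX.minorIdeal A m := by
  have h1 : det (B * A) = det (Aᵀ * Bᵀ) := by
    rw [← Matrix.transpose_mul, Matrix.det_transpose]
  rw [h1, det_mul_expand]
  refine Ideal.sum_mem _ fun p _ => ?_
  apply Ideal.mul_mem_left
  have : (Aᵀ.submatrix id p) = (A.submatrix p id)ᵀ := by
    ext i j; rfl
  rw [this, Matrix.det_transpose]
  exact Ideal.subset_span ⟨(p, id), rfl⟩


/-- Let R be a ring, m ≤ n, A an n × m matrix over R and J the ideal generated by the m × m minors of A.
(1) For every f ∈ J there is an m × n matrix B with BA = f · 1. (2) If BA = f · 1 for some m × n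
matrix B, then f^m ∈ J. -/
theorem result {R : Type u} [CommRing R] {n m : ℕ} (hmn : m ≤ n) (A : Matrix (Fin n) (Fin m) R) : (∀ f ∈ CAlgX.minorIdeal A m, ∃ B : Matrix (Fin m) (Fin n) R, B * A = f • (1 : Matrix (Fin m) (Fin m) R)) ∧ (∀ (f : R) (B : Matrix (Fin m) (Fin n) R), B * A = f • (1 : Matrix (Fin m) (Fin m) R) → f ^ m ∈ CAlgX.minorIdeal A m) := by
  constructor
  · intro f hf
    unfold CAlgX.minorIdeal at hf
    induction hf using Submodule.span_induction with
    | zero => exact ⟨0, by simp⟩
    | add x y _ _ hx hy =>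
      obtain ⟨B₁, h₁⟩ := hx
      obtain ⟨B₂, h₂⟩ := hy
      exact ⟨B₁ + B₂, by rw [Matrix.add_mul, h₁, h₂, add_smul]⟩
    | smul a x _ hx =>
      obtain ⟨B₁, h₁⟩ := hx
      exact ⟨a • B₁, by rw [Matrix.smul_mul, h₁, smul_smul, smul_eq_mul]⟩
    | mem x hx =>
      obtain ⟨⟨g, h⟩, rfl⟩ := hx
      by_cases hh : Function.Injective h
      · have hbij : Function.Bijective h := Finite.injective_iff_bijective.mp hh
        let σ : Perm (Fin m) := Equiv.ofBijective h hbij
        have e1 : A.submatrix g h = (A.submatrix g id).submatrix id σ := by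
          ext i j; rfl
        have e2 : (A.submatrix g id) = ((1 : Matrix (Fin n) (Fin n) R).submatrix g id) * A := by
          ext i j
          simp [Matrix.mul_apply, Matrix.one_apply]
        refine ⟨((Equiv.Perm.sign σ : ℤ) : R) • (adjugate (A.submatrix g id) *
          ((1 : Matrix (Fin n) (Fin n) R).submatrix g id)), ?_⟩
        rw [Matrix.smul_mul, Matrix.mul_assoc, ← e2, Matrix.adjugate_mul, smul_smul]
        congr 1
        show _ = det (A.submatrix g h)
        rw [e1, Matrix.det_permute']
      · have : det (A.submatrix g h) = 0 := by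
          rw [Function.Injective] at hh
          push Not at hh
          obtain ⟨i, j, hij, hne⟩ := hh
          exact Matrix.det_zero_of_column_eq hne (fun k => by simp [hij])
        exact ⟨0, by simp [this]⟩
  · intro f B hB
    have := det_mul_mem_minorIdeal B A
    rw [hB, Matrix.det_smul, Matrix.det_one, mul_one, Fintype.card_fin] at this
    exact this

end Groth.Agent.S6297
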