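import Groth.Statements.S6298
import Mathlib.RingTheory.Ideal.Operations

set_option autoImplicit false
universe u
open CAlg

namespace Groth.Agent.S6298

theorem aux {R : Type u} [CommRing R] (x : R) (I : Ideal R) :
    ∀ (n : ℕ) (s : Finset (Ideal R)), s.card = n →
      (∀ P ∈ s, P.IsPrime ∧ ∃ y ∈ I, x + y ∉ P) → ∃ y ∈ I, ∀ P ∈ s, x + y ∉ P := by
  classical
  intro n
  induction n with
  | zero =>
    intro s hs _
    rw [Finset.card_eq_zero] at hs
    subst hs
    exact ⟨0, I.zero_mem, by simp⟩
  | succ n ih =>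
    intro s hs h
    have hne : s.Nonempty := by rw [← Finset.card_pos]; omega
    obtain ⟨P, hPs, hPmin⟩ := s.exists_minimal hne
    have hcard : (s.erase P).card = n := by rw [Finset.card_erase_of_mem hPs]; omega
    obtain ⟨y, hyI, hy⟩ := ih (s.erase P) hcard (fun Q hQ => h Q (Finset.mem_of_mem_erase hQ))
    by_cases hxy : x + y ∉ P
    · refine ⟨y, hyI, fun Q hQ => ?_⟩
      by_cases hQP : Q = P
      · rw [hQP]; exact hxy
      · exact hy Q (Finset.mem_erase.mpr ⟨hQP, hQ⟩)
    · rw [not_not] at hxy
      have hPprime : P.IsPrime := (h P hPs).1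
      -- I is not contained in P
      obtain ⟨a, haI, haP⟩ : ∃ a ∈ I, a ∉ P := by
        obtain ⟨z, hzI, hz⟩ := (h P hPs).2
        refine ⟨z - y, I.sub_mem hzI hyI, fun hmem => hz ?_⟩
        have : x + z = (x + y) + (z - y) := by ring
        rw [this]
        exact P.add_mem hxy hmem
      -- an element of all the other primes, outside P
      obtain ⟨b, hb, hbP⟩ : ∃ b ∈ (s.erase P).inf id, b ∉ P := by
        have hnle : ¬ ((s.erase P).inf id ≤ P) := by
          rw [Ideal.IsPrime.inf_le' hPprime]
          rintro ⟨Q, hQ, hQP⟩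
          rw [Finset.mem_erase] at hQ
          have hQP' : (id Q : Ideal R) ≤ P := hQP
          exact hQ.1 (le_antisymm hQP' (hPmin hQ.2 hQP'))
        exact SetLike.not_le_iff_exists.mp hnle
      refine ⟨y + a * b, I.add_mem hyI (I.mul_mem_right b haI), fun Q hQ => ?_⟩
      have hsum : x + (y + a * b) = (x + y) + a * b := by ring
      rw [hsum]
      by_cases hQP : Q = P
      · rw [hQP]
        intro hmem
        have : a * b ∈ P := by
          have := P.sub_mem hmem hxy
          simpa using this
        rcases hPprime.mem_or_mem this with h1 | h1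
        · exact haP h1
        · exact hbP h1
      · have hQmem : Q ∈ s.erase P := Finset.mem_erase.mpr ⟨hQP, hQ⟩
        have hbQ : b ∈ Q := (Finset.inf_le (f := id) hQmem : (s.erase P).inf id ≤ Q) hb
        intro hmem
        apply hy Q hQmem
        have := Q.sub_mem hmem (Q.mul_mem_left a hbQ)
        simpa using this

/-- Let R be a ring, x ∈ R, I ⊆ R an ideal and p₁, …, p_r prime ideals such that for each i the coset x
+ I is not contained in p_i. Then there is y ∈ I with x + y ∉ p_i for all i. -/
theorem result {R : Type u} [CommRing R] (x : R) (I : Ideal R) {r : ℕ} (p : Fin r → Ideal R) [∀ i, (p i).IsPrime] (h : ∀ i, ∃ y ∈ I, x + y ∉ p i) : ∃ y ∈ I, ∀ i, x + y ∉ p i := by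
  classical
  obtain ⟨y, hyI, hy⟩ := aux x I _ (Finset.univ.image p) rfl (by
    intro P hP
    obtain ⟨i, -, rfl⟩ := Finset.mem_image.mp hP
    exact ⟨inferInstance, h i⟩)
  exact ⟨y, hyI, fun i => hy (p i) (Finset.mem_image_of_mem p (Finset.mem_univ i))⟩

end Groth.Agent.S6298
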