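import Groth.Statements.S6301
import Mathlib.RingTheory.Flat.EquationalCriterion

set_option autoImplicit false
universe u
open CAlg

namespace Groth.Agent.S6301

/-- An R-module M is flat exactly when, for every finitely presented R-module P and every surjective
R-module map N → M, the induced map Hom_R(P, N) → Hom_R(P, M) is surjective (modules P, N taken in
the same universe). -/
theorem result {R : Type u} [CommRing R] (M : Type u) [AddCommGroup M] [Module R M] : Module.Flat R M ↔ ∀ (P : Type u) [AddCommGroup P] [Module R P], Module.FinitePresentation R P → ∀ (N : Type u) [AddCommGroup N] [Module R N] (g : N →ₗ[R] M), Function.Surjective g → ∀ h : P →ₗ[R] M, ∃ h' : P →ₗ[R] N, g.comp h' = h := by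
  constructor
  · intro hflat P _ _ hP N _ _ g hg h
    obtain ⟨k, h₂, h₃, rfl⟩ := Module.Flat.exists_factorization_of_finitePresentation h
    obtain ⟨l, hl⟩ := Module.projective_lifting_property g h₃ hg
    exact ⟨l ∘ₗ h₂, by rw [← LinearMap.comp_assoc, hl]⟩
  · intro H
    apply Module.Flat.of_forall_isTrivialRelation
    intro l f x hfx
    classical
    let F := Fin l → R
    let K : Submodule R F := Submodule.span R {f}
    have hP : Module.FinitePresentation R (F ⧸ K) :=
      Module.finitePresentation_of_surjective K.mkQ K.mkQ_surjective
        (by rw [Submodule.ker_mkQ]; exact Submodule.fg_span_singleton f)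
    let X : F →ₗ[R] M := Fintype.linearCombination R x
    have hXf : X f = 0 := by
      exact hfx
    have hK : K ≤ LinearMap.ker X := by
      rw [Submodule.span_le, Set.singleton_subset_iff]
      exact hXf
    let g : (M →₀ R) →ₗ[R] M := Finsupp.linearCombination R id
    have hg : Function.Surjective g := Finsupp.linearCombination_surjective R Function.surjective_id
    obtain ⟨h', hh'⟩ := H (F ⧸ K) hP (M →₀ R) g hg (K.liftQ X hK)
    let n : Fin l → (M →₀ R) := fun i => h' (K.mkQ (Pi.single i 1))
    have hgn : ∀ i, g (n i) = x i := by
      intro i
      have := LinearMap.congr_fun hh' (K.mkQ (Pi.single i 1))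
      simp only [LinearMap.comp_apply, Submodule.mkQ_apply, Submodule.liftQ_apply] at this
      rw [show g (n i) = g (h' (Submodule.Quotient.mk (Pi.single i 1))) from rfl, this]
      change Fintype.linearCombination R x (Pi.single i (1 : R)) = x i
      rw [Fintype.linearCombination_apply_single, one_smul]
    have hsum : ∑ i, f i • n i = 0 := by
      simp only [n, ← map_smul, ← map_sum]
      have : ∑ i, f i • (Pi.single i 1 : F) = f := by
        ext j
        simp [Finset.sum_apply, Pi.single_apply]
      rw [this]
      have : K.mkQ f = 0 := by
        rw [Submodule.mkQ_apply, Submodule.Quotient.mk_eq_zero]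
        exact Submodule.mem_span_singleton_self f
      rw [this, map_zero]
    let s : Finset M := Finset.univ.biUnion (fun i => (n i).support)
    let e : s ≃ Fin s.card := s.equivFin
    refine ⟨s.card, fun i j => n i (e.symm j), fun j => (e.symm j : M), ?_, ?_⟩
    · intro i
      rw [← hgn i]
      simp only [g, Finsupp.linearCombination_apply, Finsupp.sum, id]
      rw [e.symm.sum_comp (fun m : s => n i m • (m : M)), Finset.sum_coe_sort s (fun m => n i m • m)]
      apply Finset.sum_subset
      · exact Finset.subset_biUnion_of_mem (fun i => (n i).support) (Finset.mem_univ i)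
      · intro m _ hm
        rw [Finsupp.notMem_support_iff.mp hm, zero_smul]
    · intro j
      have := DFunLike.congr_fun hsum (e.symm j : M)
      simpa [Finsupp.finsetSum_apply] using this

end Groth.Agent.S6301
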