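import Groth.Statements.S6303
import Mathlib.LinearAlgebra.TensorProduct.Quotient

set_option autoImplicit false
universe u
open CAlg

namespace Groth.Agent.S6303

theorem exists_tmul_of_mem_smul_top {R : Type u} [CommRing R] (I : Ideal R) (M : Type u)
    [AddCommGroup M] [Module R M] (x : M) (hx : x ∈ I • (⊤ : Submodule R M)) :
    ∃ t : TensorProduct R M I, TensorProduct.rid R M (LinearMap.lTensor M I.subtype t) = x := by
  refine Submodule.smul_induction_on hx ?_ ?_
  · intro r hr m _
    refine ⟨TensorProduct.tmul R m ⟨r, hr⟩, ?_⟩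
    simp
  · rintro x y ⟨t, rfl⟩ ⟨s, rfl⟩
    exact ⟨t + s, by simp⟩

theorem rid_lTensor_mem {R : Type u} [CommRing R] (I : Ideal R) (M : Type u)
    [AddCommGroup M] [Module R M] (t : TensorProduct R M I) :
    TensorProduct.rid R M (LinearMap.lTensor M I.subtype t) ∈ I • (⊤ : Submodule R M) := by
  induction t using TensorProduct.induction_on with
  | zero => simp
  | tmul m i =>
    simp only [LinearMap.lTensor_tmul, Submodule.subtype_apply, TensorProduct.rid_tmul]
    exact Submodule.smul_mem_smul i.2 trivial
  | add a b ha hb =>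
    rw [map_add, map_add]
    exact Submodule.add_mem _ ha hb

/-- Let R be a ring, I, J ⊆ R ideals and M a flat R-module. Then IM ∩ JM = (I ∩ J)M. -/
theorem result {R : Type u} [CommRing R] (I J : Ideal R) (M : Type u) [AddCommGroup M] [Module R M] [Module.Flat R M] : (I • (⊤ : Submodule R M)) ⊓ (J • ⊤) = (I ⊓ J) • (⊤ : Submodule R M) := by
  apply le_antisymm
  · rintro x ⟨hxI, hxJ⟩
    obtain ⟨t, rfl⟩ := exists_tmul_of_mem_smul_top I M x hxI
    -- the exact sequence I ⊓ J → I → R ⧸ J
    let incl : ↥(I ⊓ J) →ₗ[R] I := Submodule.inclusion inf_le_left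
    let q : I →ₗ[R] R ⧸ J := J.mkQ ∘ₗ I.subtype
    have hex : Function.Exact incl q := by
      intro i
      constructor
      · intro hi
        have hiJ : (i : R) ∈ J := by
          have : J.mkQ (i : R) = 0 := hi
          rwa [Submodule.mkQ_apply, Submodule.Quotient.mk_eq_zero] at this
        exact ⟨⟨i, ⟨i.2, hiJ⟩⟩, rfl⟩
      · rintro ⟨k, rfl⟩
        change J.mkQ ((k : R)) = 0
        rw [Submodule.mkQ_apply, Submodule.Quotient.mk_eq_zero]
        exact k.2.2
    have hex' := Module.Flat.lTensor_exact M hex
    have hq : LinearMap.lTensor M q t = 0 := by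
      have h1 : LinearMap.lTensor M q t =
          LinearMap.lTensor M J.mkQ (LinearMap.lTensor M I.subtype t) := by
        rw [← LinearMap.comp_apply, ← LinearMap.lTensor_comp]
      rw [h1]
      apply (TensorProduct.tensorQuotEquivQuotSMul M J).injective
      rw [map_zero]
      have h2 := LinearMap.congr_fun (TensorProduct.tensorQuotEquivQuotSMul_comp_mkQ_lTensor (M := M) J)
        (LinearMap.lTensor M I.subtype t)
      simp only [LinearMap.comp_apply, LinearEquiv.coe_coe] at h2
      rw [h2, Submodule.mkQ_apply, Submodule.Quotient.mk_eq_zero]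
      exact hxJ
    obtain ⟨s, rfl⟩ := (hex' t).mp hq
    rw [← LinearMap.comp_apply, ← LinearMap.lTensor_comp]
    have : I.subtype ∘ₗ incl = (I ⊓ J).subtype := by
      ext k; rfl
    rw [this]
    exact rid_lTensor_mem (I ⊓ J) M s
  · exact le_inf (Submodule.smul_mono_left inf_le_left) (Submodule.smul_mono_left inf_le_right)

end Groth.Agent.S6303
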