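import Groth.Statements.S6308
import Mathlib.RingTheory.LocalRing.Module
import Mathlib.RingTheory.Spectrum.Prime.Module
import Mathlib.RingTheory.Support
import Mathlib.LinearAlgebra.TensorProduct.RightExactness

set_option autoImplicit false
universe u
open scoped TensorProduct
open CAlg

namespace Groth.Agent.S6308

open TensorProduct in
lemma lTensor_surjective_iff_subsingleton_coker {R : Type u} [CommRing R] {M N : Type u}
    [AddCommGroup M] [Module R M] [AddCommGroup N] [Module R N] (K : Type u) [AddCommGroup K]
    [Module R K] (φ : M →ₗ[R] N) :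
    Function.Surjective (φ.lTensor K) ↔ Subsingleton (K ⊗[R] (N ⧸ LinearMap.range φ)) := by
  have hex : Function.Exact φ (LinearMap.range φ).mkQ :=
    (LinearMap.exact_iff.mpr (by simp))
  have hsurj : Function.Surjective (LinearMap.range φ).mkQ := Submodule.mkQ_surjective _
  have h1 := lTensor_exact K hex hsurj
  have h2 : Function.Surjective ((LinearMap.range φ).mkQ.lTensor K) :=
    LinearMap.lTensor_surjective K hsurj
  constructor
  · intro h
    refine ⟨fun a b ↦ ?_⟩
    obtain ⟨a', rfl⟩ := h2 a
    obtain ⟨b', rfl⟩ := h2 b
    obtain ⟨a'', rfl⟩ := h a'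
    obtain ⟨b'', rfl⟩ := h b'
    rw [h1.apply_apply_eq_zero, h1.apply_apply_eq_zero]
  · intro h y
    have : (LinearMap.range φ).mkQ.lTensor K y = 0 := Subsingleton.elim _ _
    exact (h1 y).mp this

lemma surjective_map_iff_notMem_support {R : Type u} [CommRing R] {M N : Type u}
    [AddCommGroup M] [Module R M] [AddCommGroup N] [Module R N] (φ : M →ₗ[R] N)
    (p : PrimeSpectrum R) :
    Function.Surjective (LocalizedModule.map p.asIdeal.primeCompl φ) ↔
      p ∉ Module.support R (N ⧸ LinearMap.range φ) := by
  rw [φ.localizedMap_surjective_iff_subsingleton_localized_coker, Module.notMem_support_iff]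

/-- Let R be a ring and φ : M → N a map of R-modules with N finite. For a prime p, the localization φ_p
: M_p → N_p is surjective if and only if φ ⊗ κ(p) : M ⊗ κ(p) → N ⊗ κ(p) is surjective; the set U of
such primes is open in Spec(R); and for every f ∈ R with D(f) ⊆ U the map M_f → N_f is surjective. -/
theorem result {R : Type u} [CommRing R] {M N : Type u} [AddCommGroup M] [Module R M] [AddCommGroup N] [Module R N] [Module.Finite R N] (φ : M →ₗ[R] N) : (∀ p : PrimeSpectrum R, Function.Surjective (LocalizedModule.map p.asIdeal.primeCompl φ) ↔ Function.Surjective (φ.lTensor p.asIdeal.ResidueField)) ∧ IsOpen {p : PrimeSpectrum R | Function.Surjective (LocalizedModule.map p.asIdeal.primeCompl φ)} ∧ (∀ f : R, (↑(PrimeSpectrum.basicOpen f) : Set (PrimeSpectrum R)) ⊆ {p : PrimeSpectrum R | Function.Surjective (LocalizedModule.map p.asIdeal.primeCompl φ)} → Function.Surjective (LocalizedModule.map (Submonoid.powers f) φ)) := by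
  have hset : {p : PrimeSpectrum R | Function.Surjective
      (LocalizedModule.map p.asIdeal.primeCompl φ)} =
      (Module.support R (N ⧸ LinearMap.range φ))ᶜ := by
    ext p
    exact surjective_map_iff_notMem_support φ p
  refine ⟨fun p ↦ ?_, ?_, fun f hf ↦ ?_⟩
  · rw [surjective_map_iff_notMem_support, lTensor_surjective_iff_subsingleton_coker,
      Module.mem_support_iff_nontrivial_residueField_tensorProduct,
      not_nontrivial_iff_subsingleton]
  · rw [hset]
    exact Module.isClosed_support.isOpen_compl
  · rw [hset] at hf
    rw [φ.localizedMap_surjective_iff_subsingleton_localized_coker]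
    change Subsingleton (LocalizedModule.Away f _)
    rw [LocalizedModule.subsingleton_iff_support_subset]
    intro p hp
    by_contra hpf
    exact hf (show p ∈ (PrimeSpectrum.basicOpen f : Set (PrimeSpectrum R)) by
      simpa [PrimeSpectrum.mem_zeroLocus] using hpf) hp

end Groth.Agent.S6308
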