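import Groth.Statements.S6330
import Groth.Agent.S6308
import Mathlib.RingTheory.LocalProperties.Projective
import Mathlib.Algebra.Module.LocalizedModule.Exact
import Mathlib.RingTheory.Localization.Finiteness

set_option autoImplicit false
universe u
open scoped TensorProduct
open CAlg

namespace Groth.Agent.S6330

/-- The kernel of a split surjection of modules is a retract of the source. -/
lemma finite_projective_of_exact_of_section {A : Type*} [CommRing A] {K P Q : Type*}
    [AddCommGroup K] [Module A K] [AddCommGroup P] [Module A P] [AddCommGroup Q] [Module A Q]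
    [Module.Finite A P] [Module.Projective A P] [Module.Projective A Q]
    (ι : K →ₗ[A] P) (ψ : P →ₗ[A] Q) (hex : Function.Exact ι ψ) (hι : Function.Injective ι)
    (hψ : Function.Surjective ψ) : Module.Finite A K ∧ Module.Projective A K := by
  obtain ⟨σ, hσ⟩ := Module.projective_lifting_property ψ LinearMap.id hψ
  have hsplit := (hex.splitSurjectiveEquiv hι ⟨σ, hσ⟩).2
  generalize (hex.splitSurjectiveEquiv hι ⟨σ, hσ⟩).1 = e at hsplit
  have he1 := hsplit.1
  let ρ : P →ₗ[A] K := LinearMap.fst A K Q ∘ₗ e.toLinearMap
  have hρ : ρ ∘ₗ ι = LinearMap.id := by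
    rw [he1]
    ext x
    simp [ρ]
  have hρs : Function.Surjective ρ := fun k ↦ ⟨ι k, LinearMap.congr_fun hρ k⟩
  exact ⟨Module.Finite.of_surjective ρ hρs, Module.Projective.of_split ι ρ hρ⟩

/-- Let R be a ring and φ : P₁ → P₂ a map of finite projective R-modules. The set W of primes p of R
such that φ ⊗ κ(p) is surjective is open, and for every f ∈ R with D(f) ⊆ W the map (P₁)_f → (P₂)_f
is surjective and Ker(φ)_f is a finite projective module over R_f. -/
theorem result {R : Type u} [CommRing R] {P₁ P₂ : Type u} [AddCommGroup P₁] [Module R P₁] [AddCommGroup P₂] [Module R P₂] [Module.Finite R P₁] [Module.Projective R P₁] [Module.Finite R P₂] [Module.Projective R P₂] (φ : P₁ →ₗ[R] P₂) : IsOpen {p : PrimeSpectrum R | Function.Surjective (φ.lTensor p.asIdeal.ResidueField)} ∧ ∀ f : R, (↑(PrimeSpectrum.basicOpen f) : Set (PrimeSpectrum R)) ⊆ {p : PrimeSpectrum R | Function.Surjective (φ.lTensor p.asIdeal.ResidueField)} → Function.Surjective (LocalizedModule.map (Submonoid.powers f) φ) ∧ Module.Finite (Localization.Away f) (LocalizedModule (Submonoid.powers f) (LinearMap.ker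 φ)) ∧ Module.Projective (Localization.Away f) (LocalizedModule (Submonoid.powers f) (LinearMap.ker φ)) := by
  obtain ⟨h1, h2, h3⟩ := Groth.Agent.S6308.result φ
  have hset : {p : PrimeSpectrum R | Function.Surjective (φ.lTensor p.asIdeal.ResidueField)} =
      {p : PrimeSpectrum R | Function.Surjective (LocalizedModule.map p.asIdeal.primeCompl φ)} := by
    ext p
    exact (h1 p).symm
  rw [hset]
  refine ⟨h2, fun f hf ↦ ?_⟩
  have hsurj := h3 f hf
  refine ⟨hsurj, ?_⟩
  have hex : Function.Exact (LocalizedModule.map (Submonoid.powers f) (LinearMap.ker φ).subtype)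
      (LocalizedModule.map (Submonoid.powers f) φ) :=
    LocalizedModule.map_exact (Submonoid.powers f) (LinearMap.ker φ).subtype φ
      (LinearMap.exact_subtype_ker_map φ)
  have hinj : Function.Injective
      (LocalizedModule.map (Submonoid.powers f) (LinearMap.ker φ).subtype) :=
    LocalizedModule.map_injective _ _ Subtype.val_injective
  exact finite_projective_of_exact_of_section (A := Localization.Away f) _ _ hex hinj hsurj

end Groth.Agent.S6330
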