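import Groth.Statements.S6309
import Groth.Agent.S6330
import Mathlib.RingTheory.LocalRing.Module
import Mathlib.RingTheory.Spectrum.Prime.FreeLocus
import Mathlib.Algebra.Module.FinitePresentation
import Mathlib.RingTheory.Localization.BaseChange

set_option autoImplicit false
universe u
open scoped TensorProduct
open CAlg

namespace Groth.Agent.S6309

open TensorProduct

section
variable {R : Type u} [CommRing R]

/-- Base change identification `K ⊗[A] Mₛ ≃ K ⊗[R] M` for `A = S⁻¹R`. -/
noncomputable def tensorLocalizedEquiv (S : Submonoid R) (M : Type u) [AddCommGroup M] [Module R M]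
    (K : Type u) [AddCommGroup K] [Module R K] [Module (Localization S) K]
    [IsScalarTower R (Localization S) K] :
    K ⊗[Localization S] LocalizedModule S M ≃ₗ[Localization S] K ⊗[R] M :=
  (LinearEquiv.lTensor K (LocalizedModule.equivTensorProduct S M)) ≪≫ₗ
    (AlgebraTensorModule.cancelBaseChange R (Localization S) (Localization S) K M)

lemma tensorLocalizedEquiv_tmul_mk (S : Submonoid R) (M : Type u) [AddCommGroup M] [Module R M]
    (K : Type u) [AddCommGroup K] [Module R K] [Module (Localization S) K]
    [IsScalarTower R (Localization S) K] (k : K) (m : M) (s : S) :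
    tensorLocalizedEquiv S M K (k ⊗ₜ LocalizedModule.mk m s) =
      ((Localization.mk 1 s : Localization S) • k) ⊗ₜ m := by
  simp [tensorLocalizedEquiv, LocalizedModule.equivTensorProduct_apply_mk]

lemma lTensor_comp_tensorLocalizedEquiv (S : Submonoid R) {M N : Type u} [AddCommGroup M]
    [Module R M] [AddCommGroup N] [Module R N]
    (K : Type u) [AddCommGroup K] [Module R K] [Module (Localization S) K]
    [IsScalarTower R (Localization S) K] (φ : M →ₗ[R] N)
    (x : K ⊗[Localization S] LocalizedModule S M) :
    φ.lTensor K (tensorLocalizedEquiv S M K x) =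
      tensorLocalizedEquiv S N K ((LocalizedModule.map S φ).lTensor K x) := by
  induction x with
  | zero => simp
  | add x y hx hy => simp only [map_add, hx, hy]
  | tmul k y =>
    induction y using LocalizedModule.induction_on with
    | h m s =>
      rw [tensorLocalizedEquiv_tmul_mk, LinearMap.lTensor_tmul, LinearMap.lTensor_tmul,
        LocalizedModule.map_mk, tensorLocalizedEquiv_tmul_mk]

lemma lTensor_injective_iff_localized (S : Submonoid R) {M N : Type u} [AddCommGroup M]
    [Module R M] [AddCommGroup N] [Module R N]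
    (K : Type u) [AddCommGroup K] [Module R K] [Module (Localization S) K]
    [IsScalarTower R (Localization S) K] (φ : M →ₗ[R] N) :
    Function.Injective (φ.lTensor K) ↔
      Function.Injective ((LocalizedModule.map S φ).lTensor K) := by
  have h : ⇑(φ.lTensor K) ∘ ⇑(tensorLocalizedEquiv S M K) =
      ⇑(tensorLocalizedEquiv S N K) ∘ ⇑((LocalizedModule.map S φ).lTensor K) := by
    funext x
    exact lTensor_comp_tensorLocalizedEquiv S K φ x
  constructor
  · intro hinj
    have : Function.Injective (⇑(tensorLocalizedEquiv S N K) ∘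
        ⇑((LocalizedModule.map S φ).lTensor K)) := by
      rw [← h]
      exact hinj.comp (tensorLocalizedEquiv S M K).injective
    exact Function.Injective.of_comp this
  · intro hinj
    have : Function.Injective (⇑(φ.lTensor K) ∘ ⇑(tensorLocalizedEquiv S M K)) := by
      rw [h]
      exact (tensorLocalizedEquiv S N K).injective.comp hinj
    exact (Function.Injective.of_comp_iff' _ (tensorLocalizedEquiv S M K).bijective).mp this

/-- Lemma C': a retraction of `φ` up to a scalar outside `p`. -/
lemma exists_retraction_up_to_scalar {P₁ P₂ : Type u} [AddCommGroup P₁] [Module R P₁]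
    [AddCommGroup P₂] [Module R P₂] [Module.Finite R P₁] [Module.Projective R P₁]
    [Module.Finite R P₂] [Module.Projective R P₂] (φ : P₁ →ₗ[R] P₂) (p : PrimeSpectrum R)
    (hp : Function.Injective (φ.lTensor p.asIdeal.ResidueField)) :
    ∃ g ∉ p.asIdeal, ∃ h : P₂ →ₗ[R] P₁, h ∘ₗ φ = g • LinearMap.id := by
  let S := p.asIdeal.primeCompl
  have hinj : Function.Injective
      ((LocalizedModule.map S φ).lTensor p.asIdeal.ResidueField) :=
    (lTensor_injective_iff_localized S p.asIdeal.ResidueField φ).mp hp
  have : Module.Free (Localization.AtPrime p.asIdeal) (LocalizedModule S P₂) :=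
    Module.free_of_flat_of_isLocalRing
  obtain ⟨l', hl'⟩ := (IsLocalRing.split_injective_iff_lTensor_residueField_injective
    (LocalizedModule.map S φ)).mpr hinj
  have : Module.FinitePresentation R P₂ := Module.finitePresentation_of_projective R P₂
  obtain ⟨h, s, hs⟩ := Module.FinitePresentation.exists_lift_of_isLocalizedModule S
    (LocalizedModule.mkLinearMap S P₁)
    (l'.restrictScalars R ∘ₗ LocalizedModule.mkLinearMap S P₂)
  have hcomp : (LocalizedModule.mkLinearMap S P₁) ∘ₗ (h ∘ₗ φ) =
      (LocalizedModule.mkLinearMap S P₁) ∘ₗ ((s : R) • LinearMap.id) := by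
    ext x
    have h1 := LinearMap.congr_fun hs (φ x)
    have h2 := LinearMap.congr_fun hl' (LocalizedModule.mk x 1)
    simp only [LinearMap.coe_comp, Function.comp_apply, LocalizedModule.mkLinearMap_apply,
      LinearMap.smul_apply, LinearMap.coe_restrictScalars, LocalizedModule.map_mk,
      LinearMap.id_coe, id_eq] at h1 h2 ⊢
    rw [h1, h2, Submonoid.smul_def, LocalizedModule.smul'_mk]
  obtain ⟨t, ht⟩ := Module.Finite.exists_smul_of_comp_eq_of_isLocalizedModule S
    (LocalizedModule.mkLinearMap S P₁) _ _ hcomp
  refine ⟨(t : R) * (s : R), p.asIdeal.primeCompl.mul_mem t.2 s.2, (t : R) • h, ?_⟩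
  rw [LinearMap.smul_comp, mul_smul]
  exact ht

/-- Lemma D. -/
lemma lTensor_injective_of_retraction_up_to_scalar {P₁ P₂ : Type u} [AddCommGroup P₁]
    [Module R P₁] [AddCommGroup P₂] [Module R P₂] (φ : P₁ →ₗ[R] P₂) (g : R)
    (h : P₂ →ₗ[R] P₁) (hg : h ∘ₗ φ = g • LinearMap.id) (q : PrimeSpectrum R)
    (hq : g ∉ q.asIdeal) : Function.Injective (φ.lTensor q.asIdeal.ResidueField) := by
  rw [injective_iff_map_eq_zero]
  intro y hy
  have h1 : (h.lTensor q.asIdeal.ResidueField) ((φ.lTensor q.asIdeal.ResidueField) y) = g • y := by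
    rw [← LinearMap.comp_apply, ← LinearMap.lTensor_comp, hg, LinearMap.lTensor_smul,
      LinearMap.lTensor_id]
    rfl
  rw [hy, map_zero] at h1
  have h2 : g • y = (algebraMap R q.asIdeal.ResidueField g) • y := by
    rw [algebraMap_smul]
  rw [h2] at h1
  rcases smul_eq_zero.mp h1.symm with h3 | h3
  · exact absurd (Ideal.algebraMap_residueField_eq_zero.mp h3) hq
  · exact h3

end

/-- Let R be a ring and φ : P₁ → P₂ a map of finite projective R-modules. The set U of primes p of R
such that φ ⊗ κ(p) is injective is open, and for every f ∈ R with D(f) ⊆ U the map (P₁)_f → (P₂)_f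
is injective and Coker(φ)_f is a finite projective module over R_f. -/
theorem result {R : Type u} [CommRing R] {P₁ P₂ : Type u} [AddCommGroup P₁] [Module R P₁] [AddCommGroup P₂] [Module R P₂] [Module.Finite R P₁] [Module.Projective R P₁] [Module.Finite R P₂] [Module.Projective R P₂] (φ : P₁ →ₗ[R] P₂) : IsOpen {p : PrimeSpectrum R | Function.Injective (φ.lTensor p.asIdeal.ResidueField)} ∧ ∀ f : R, (↑(PrimeSpectrum.basicOpen f) : Set (PrimeSpectrum R)) ⊆ {p : PrimeSpectrum R | Function.Injective (φ.lTensor p.asIdeal.ResidueField)} → Function.Injective (LocalizedModule.map (Submonoid.powers f) φ) ∧ Module.Finite (Localization.Away f) (LocalizedModule (Submonoid.powers f) (P₂ ⧸ LinearMap.range φ)) ∧ Module.Projective (Localization.Away f) (LocalizedModule (Submonoid.powers f) (P₂ ⧸ LinearMap.range φ)) := by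
  refine ⟨?_, fun f hf ↦ ?_⟩
  · rw [isOpen_iff_forall_mem_open]
    intro p hp
    obtain ⟨g, hgp, h, hg⟩ := exists_retraction_up_to_scalar φ p hp
    refine ⟨PrimeSpectrum.basicOpen g, fun q hq ↦ ?_, (PrimeSpectrum.basicOpen g).2, hgp⟩
    exact lTensor_injective_of_retraction_up_to_scalar φ g h hg q hq
  · -- the ideal of scalars `g` admitting a retraction up to `g`
    let J : Ideal R :=
      { carrier := {g | ∃ h : P₂ →ₗ[R] P₁, h ∘ₗ φ = g • LinearMap.id}
        add_mem' := by
          rintro a b ⟨ha, hha⟩ ⟨hb, hhb⟩
          exact ⟨ha + hb, by rw [LinearMap.add_comp, hha, hhb, add_smul]⟩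
        zero_mem' := ⟨0, by simp⟩
        smul_mem' := by
          rintro c a ⟨ha, hha⟩
          exact ⟨c • ha, by rw [LinearMap.smul_comp, hha, smul_eq_mul, mul_smul]⟩ }
    have hfJ : f ∈ J.radical := by
      rw [Ideal.radical_eq_sInf, Ideal.mem_sInf]
      rintro q ⟨hJq, hqprime⟩
      by_contra hfq
      have hqU : (⟨q, hqprime⟩ : PrimeSpectrum R) ∈
          {p : PrimeSpectrum R | Function.Injective (φ.lTensor p.asIdeal.ResidueField)} :=
        hf (show (⟨q, hqprime⟩ : PrimeSpectrum R) ∈
          (PrimeSpectrum.basicOpen f : Set (PrimeSpectrum R)) from hfq)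
      obtain ⟨g, hgq, h, hg⟩ := exists_retraction_up_to_scalar φ ⟨q, hqprime⟩ hqU
      exact hgq (hJq ⟨h, hg⟩)
    obtain ⟨n, h, hh⟩ := hfJ
    -- localize
    let S := Submonoid.powers f
    have hunit : IsUnit (algebraMap R (Localization.Away f) (f ^ n)) :=
      IsLocalization.map_units (M := S) _ ⟨f ^ n, n, rfl⟩
    obtain ⟨u, hu⟩ := hunit
    let ρ : LocalizedModule S P₂ →ₗ[Localization.Away f] LocalizedModule S P₁ :=
      (↑u⁻¹ : Localization.Away f) • LocalizedModule.map S h
    have hρ : ρ ∘ₗ LocalizedModule.map S φ = LinearMap.id := by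
      ext x
      induction x using LocalizedModule.induction_on with
      | h m s =>
        have h1 : h (φ m) = f ^ n • m := LinearMap.congr_fun hh m
        simp only [ρ, LinearMap.coe_comp, Function.comp_apply, LinearMap.smul_apply,
          LocalizedModule.map_mk, LinearMap.id_coe, id_eq, h1]
        rw [← LocalizedModule.smul'_mk, ← algebraMap_smul (Localization.Away f) (f ^ n),
          ← hu, smul_smul, Units.inv_mul, one_smul]
    have hinj : Function.Injective (LocalizedModule.map S φ) :=
      Function.HasLeftInverse.injective ⟨ρ, LinearMap.congr_fun hρ⟩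
    refine ⟨hinj, inferInstance, ?_⟩
    have hex : Function.Exact (LocalizedModule.map S φ)
        (LocalizedModule.map S (LinearMap.range φ).mkQ) :=
      LocalizedModule.map_exact S φ (LinearMap.range φ).mkQ (LinearMap.exact_map_mkQ_range φ)
    have hsurj : Function.Surjective (LocalizedModule.map S (LinearMap.range φ).mkQ) :=
      LocalizedModule.map_surjective S _ (Submodule.mkQ_surjective _)
    have hsplit := (hex.splitInjectiveEquiv hsurj ⟨ρ, hρ⟩).2
    generalize (hex.splitInjectiveEquiv hsurj ⟨ρ, hρ⟩).1 = e at hsplit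
    have he2 := hsplit.2
    refine Module.Projective.of_split (e.symm.toLinearMap ∘ₗ LinearMap.inr _ _ _)
      (LocalizedModule.map S (LinearMap.range φ).mkQ) ?_
    rw [he2]
    ext x
    simp

end Groth.Agent.S6309
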