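import Groth.Statements.S6310
import Mathlib.Algebra.Module.LocalizedModule.Submodule
import Mathlib.LinearAlgebra.Matrix.Charpoly.LinearMap
import Mathlib.RingTheory.Localization.Module

set_option autoImplicit false
universe u
open CAlg

namespace Groth.Agent.S6310

section
variable {R : Type u} [CommRing R]

/-- Step 1: each element is, up to a scalar in `S`, in `N + IM`. -/
lemma exists_smul_mem_sup (S : Submonoid R) (I : Ideal R) (M : Type u) [AddCommGroup M]
    [Module R M] {r : ℕ} (x : Fin r → M)
    (hx : Submodule.span (Localization S) (Set.range fun j =>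
      LocalizedModule.mkLinearMap S (M ⧸ (I • (⊤ : Submodule R M))) (Submodule.Quotient.mk (x j)))
      = ⊤) (m : M) :
    ∃ s ∈ S, s • m ∈ Submodule.span R (Set.range x) ⊔ I • (⊤ : Submodule R M) := by
  set IM : Submodule R M := I • ⊤ with hIM
  set f := LocalizedModule.mkLinearMap S (M ⧸ IM) with hf
  have : IsLocalizedModule S f :=
    inferInstanceAs (IsLocalizedModule S (LocalizedModule.mkLinearMap S (M ⧸ IM)))
  have hrange : (Set.range fun j => f (Submodule.Quotient.mk (x j))) =
      f '' (Set.range fun j => (IM.mkQ (x j))) := by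
    rw [← Set.range_comp]; rfl
  rw [hrange, ← Submodule.localized'_span (Localization S) S f] at hx
  have hy : f (IM.mkQ m) ∈ Submodule.localized' (Localization S) S f
      (Submodule.span R (Set.range fun j => (IM.mkQ (x j)))) := by
    rw [hx]; trivial
  obtain ⟨n, hn, t, hnt⟩ := hy
  rw [IsLocalizedModule.mk'_eq_iff] at hnt
  have hnt' : f n = f ((t : R) • IM.mkQ m) := by
    rw [hnt, map_smul]; rfl
  obtain ⟨c, hc⟩ := IsLocalizedModule.exists_of_eq (S := S) hnt'
  refine ⟨(c : R) * (t : R), S.mul_mem c.2 t.2, ?_⟩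
  have h1 : IM.mkQ (((c : R) * (t : R)) • m) ∈
      Submodule.span R (Set.range fun j => (IM.mkQ (x j))) := by
    rw [map_smul, mul_smul]
    have : (c : R) • (t : R) • IM.mkQ m = c • ((t : R) • IM.mkQ m) := rfl
    rw [this, ← hc]
    exact Submodule.smul_mem _ _ hn
  have h2 : (Set.range fun j => (IM.mkQ (x j))) = IM.mkQ '' Set.range x := by
    rw [← Set.range_comp]; rfl
  rw [h2, ← Submodule.map_span, ← Submodule.mem_comap, Submodule.comap_map_mkQ, sup_comm] at h1
  exact h1

/-- Step 2: a uniform scalar. -/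
lemma exists_forall_smul_mem_sup (S : Submonoid R) (I : Ideal R) (M : Type u) [AddCommGroup M]
    [Module R M] [Module.Finite R M] {r : ℕ} (x : Fin r → M)
    (hx : Submodule.span (Localization S) (Set.range fun j =>
      LocalizedModule.mkLinearMap S (M ⧸ (I • (⊤ : Submodule R M))) (Submodule.Quotient.mk (x j)))
      = ⊤) :
    ∃ s ∈ S, ∀ m : M, s • m ∈ Submodule.span R (Set.range x) ⊔ I • (⊤ : Submodule R M) := by
  classical
  obtain ⟨σ, hσ⟩ := (Module.Finite.fg_top : (⊤ : Submodule R M).FG)
  choose s hsS hs using exists_smul_mem_sup S I M x hx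
  refine ⟨∏ g ∈ σ, s g, S.prod_mem fun g _ ↦ hsS g, fun m ↦ ?_⟩
  set T := Submodule.span R (Set.range x) ⊔ I • (⊤ : Submodule R M)
  have hm : m ∈ Submodule.span R (σ : Set M) := by rw [hσ]; trivial
  induction hm using Submodule.span_induction with
  | mem g hg =>
    rw [← Finset.prod_erase_mul σ s hg, mul_smul]
    exact T.smul_mem _ (hs g)
  | zero => simp
  | add a b _ _ ha hb => rw [smul_add]; exact T.add_mem ha hb
  | smul c a _ ha => rw [smul_comm]; exact T.smul_mem _ ha

open Polynomial in
/-- Step 3: Cayley–Hamilton. -/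
lemma exists_add_mem_forall_smul_mem (I : Ideal R) (M : Type u) [AddCommGroup M]
    [Module R M] [Module.Finite R M] (N : Submodule R M) (s : R)
    (hs : ∀ m : M, s • m ∈ N ⊔ I • (⊤ : Submodule R M)) :
    ∃ (d : ℕ) (i : R), i ∈ I ∧ ∀ m : M, (s ^ d + i) • m ∈ N := by
  let φ : Module.End R (M ⧸ N) := algebraMap R (Module.End R (M ⧸ N)) s
  have hφ : LinearMap.range φ ≤ I • (⊤ : Submodule R (M ⧸ N)) := by
    rintro _ ⟨q, rfl⟩
    obtain ⟨m, rfl⟩ := N.mkQ_surjective q
    have h1 : φ (N.mkQ m) = N.mkQ (s • m) := by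
      simp [φ, Module.algebraMap_end_apply]
    rw [h1]
    obtain ⟨n, hn, i, hi, hni⟩ := Submodule.mem_sup.mp (hs m)
    rw [← hni, map_add]
    have : N.mkQ n = 0 := by simpa using hn
    rw [this, zero_add]
    have h2 : N.mkQ i ∈ Submodule.map N.mkQ (I • (⊤ : Submodule R M)) := ⟨i, hi, rfl⟩
    rw [Submodule.map_smul''] at h2
    have h4 : I • Submodule.map N.mkQ ⊤ ≤ I • (⊤ : Submodule R (M ⧸ N)) :=
      smul_mono_right I le_top
    exact h4 h2
  obtain ⟨p, hmonic, -, hcoeff, hp⟩ :=
    LinearMap.exists_monic_and_natDegree_eq_and_coeff_mem_pow_and_aeval_eq_zero R φ I hφ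
  rw [Polynomial.aeval_algebraMap_apply_eq_algebraMap_eval] at hp
  refine ⟨p.natDegree, ∑ k ∈ Finset.range p.natDegree, p.coeff k * s ^ k, ?_, fun m ↦ ?_⟩
  · refine I.sum_mem fun k hk ↦ I.mul_mem_right _ ?_
    have hk' : k < p.natDegree := Finset.mem_range.mp hk
    have := hcoeff k
    exact Ideal.pow_le_self (by omega) this
  · have heval : p.eval s = s ^ p.natDegree +
        ∑ k ∈ Finset.range p.natDegree, p.coeff k * s ^ k := by
      rw [Polynomial.eval_eq_sum_range, Finset.sum_range_succ, hmonic.coeff_natDegree, one_mul,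
        add_comm]
    rw [← heval]
    have h3 := LinearMap.congr_fun hp (N.mkQ m)
    rw [Module.algebraMap_end_apply, ← map_smul] at h3
    exact (Submodule.Quotient.mk_eq_zero N).mp h3

end

/-- Let R be a ring, S ⊆ R a multiplicative subset, I ⊆ R an ideal and M a finite R-module. If x₁, …,
x_r ∈ M have images generating S⁻¹(M/IM) as an S⁻¹R-module, then there is f ∈ S + I (f = s + i with
s ∈ S, i ∈ I) such that x₁, …, x_r generate M_f as an R_f-module. -/
theorem result {R : Type u} [CommRing R] (S : Submonoid R) (I : Ideal R) (M : Type u) [AddCommGroup M] [Module R M] [Module.Finite R M] {r : ℕ} (x : Fin r → M) (hx : Submodule.span (Localization S) (Set.range fun j => LocalizedModule.mkLinearMap S (M ⧸ (I • (⊤ : Submodule R M))) (Submodule.Quotient.mk (x j))) = ⊤) : ∃ (s : R) (i : R), s ∈ S ∧ i ∈ I ∧ Submodule.span (Localization.Away (s + i)) (Set.range fun j => LocalizedModule.mkLinearMap (Submonoid.powers (s + i)) M (x j)) = ⊤ := by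
  obtain ⟨s, hsS, hs⟩ := exists_forall_smul_mem_sup S I M x hx
  obtain ⟨d, i, hi, hf⟩ := exists_add_mem_forall_smul_mem I M (Submodule.span R (Set.range x)) s hs
  refine ⟨s ^ d, i, S.pow_mem hsS d, hi, ?_⟩
  set f := s ^ d + i with hfdef
  rw [eq_top_iff]
  rintro y -
  induction y using LocalizedModule.induction_on with
  | h m t =>
    have hf' : (⟨f, 1, pow_one f⟩ : Submonoid.powers f) = ⟨f, Submonoid.mem_powers f⟩ := rfl
    have h1 : LocalizedModule.mk m t =
        (Localization.mk 1 (t * ⟨f, Submonoid.mem_powers f⟩) : Localization.Away f) •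
          LocalizedModule.mk (f • m) (1 : Submonoid.powers f) := by
      rw [LocalizedModule.mk_smul_mk, one_smul, mul_one, LocalizedModule.mk_eq]
      refine ⟨1, ?_⟩
      simp only [one_smul, Submonoid.smul_def, mul_smul]
    rw [h1]
    refine Submodule.smul_mem _ _ ?_
    have h2 : f • m ∈ Submodule.span R (Set.range x) := hf m
    have h3 : LocalizedModule.mkLinearMap (Submonoid.powers f) M (f • m) ∈
        Submodule.map (LocalizedModule.mkLinearMap (Submonoid.powers f) M)
          (Submodule.span R (Set.range x)) := ⟨_, h2, rfl⟩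
    rw [Submodule.map_span, ← Set.range_comp] at h3
    exact Submodule.span_le_restrictScalars R (Localization.Away f) _ h3

end Groth.Agent.S6310
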