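import Groth.Statements.S6314
import Mathlib.RingTheory.Flat.CategoryTheory
import Mathlib.CategoryTheory.Abelian.Projective.Resolution

set_option autoImplicit false
universe u
open CategoryTheory
open CAlg

namespace Groth.Agent.S6314

/-- Let R be a ring and M a flat R-module. Then Torᵢᴿ(M, N) = 0 for all R-modules N and all i > 0. -/
theorem result (R : Type u) [CommRing R] (M : Type u) [AddCommGroup M] [Module R M] [Module.Flat R M] (N : ModuleCat.{u} R) (i : ℕ) (hi : 0 < i) : Limits.IsZero (((CategoryTheory.Tor (ModuleCat.{u} R) i).obj (ModuleCat.of R M)).obj N) := by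
  obtain ⟨n, rfl⟩ : ∃ n, i = n + 1 := ⟨i - 1, by omega⟩
  let F : ModuleCat.{u} R ⥤ ModuleCat.{u} R := MonoidalCategory.tensorLeft (ModuleCat.of R M)
  have : Limits.PreservesFiniteLimits F := inferInstance
  have : Limits.PreservesFiniteColimits F := inferInstance
  let P := projectiveResolution N
  change Limits.IsZero ((F.leftDerived (n + 1)).obj N)
  refine Limits.IsZero.of_iso ?_ (P.isoLeftDerivedObj F (n + 1))
  erw [← HomologicalComplex.exactAt_iff_isZero_homology]
  have h := P.complex_exactAt_succ n
  exact ShortComplex.Exact.map h F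

end Groth.Agent.S6314
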