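import Groth.Statements.S6313
import Groth.Agent.Lib.Helper10.Resolution
import Groth.Agent.S6314
import Mathlib.RingTheory.Flat.Tensor
import Mathlib.CategoryTheory.Monoidal.Tor
import Mathlib.Algebra.Category.ModuleCat.Monoidal.Basic

set_option autoImplicit false
universe u
open CategoryTheory
open CAlg

namespace Groth.Agent.S6313

/-- For a ring R and an R-module M, flatness of M over R is equivalent to the vanishing of Tor₁ᴿ(M, R/I)
for every finitely generated ideal I ⊆ R. -/
theorem result (R : Type u) [CommRing R] (M : Type u) [AddCommGroup M] [Module R M] : Module.Flat R M ↔ ∀ I : Ideal R, I.FG → Limits.IsZero (((CategoryTheory.Tor (ModuleCat.{u} R) 1).obj (ModuleCat.of R M)).obj (ModuleCat.of R (R ⧸ I))) := by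
  constructor
  · intro h I _
    exact Groth.Agent.S6314.result R M (ModuleCat.of R (R ⧸ I)) 1 one_pos
  · intro h
    rw [Module.Flat.iff_lTensor_injective]
    intro I hI
    have hz := h I hI
    let Q := projectiveResolution (ModuleCat.of R I)
    let i : ModuleCat.of R I ⟶ ModuleCat.of R R := ModuleCat.ofHom I.subtype
    let p : ModuleCat.of R R ⟶ ModuleCat.of R (R ⧸ I) := ModuleCat.ofHom I.mkQ
    have w : i ≫ p = 0 := by
      ext x
      simp only [i, p, ModuleCat.hom_comp, ModuleCat.hom_ofHom, LinearMap.comp_apply,
        ModuleCat.hom_zero, LinearMap.zero_apply, Submodule.subtype_apply, Submodule.mkQ_apply]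
      exact (Submodule.Quotient.mk_eq_zero I).2 x.2
    have hS : (ShortComplex.mk i p w).ShortExact :=
      ModuleCat.shortComplex_shortExact _ (LinearMap.exact_subtype_mkQ I)
        (Submodule.injective_subtype I) (Submodule.mkQ_surjective I)
    have hR : Projective (ModuleCat.of R R) :=
      ModuleCat.projective_of_free (Module.Free.chooseBasis R R)
    let P := Groth.Agent.Lib.Helper10.spliceResolution hR i p w hS Q
    let F : ModuleCat.{u} R ⥤ ModuleCat.{u} R := MonoidalCategory.tensorLeft (ModuleCat.of R M)
    change Limits.IsZero ((F.leftDerived 1).obj (ModuleCat.of R (R ⧸ I))) at hz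
    have hz' := hz.of_iso (P.isoLeftDerivedObj F 1).symm
    have hex : ((F.mapHomologicalComplex _).obj P.complex).ExactAt 1 := by
      rw [HomologicalComplex.exactAt_iff_isZero_homology]
      exact hz'
    rw [HomologicalComplex.exactAt_iff' _ 2 1 0 (by simp) (by simp),
      ShortComplex.moduleCat_exact_iff] at hex
    rw [injective_iff_map_eq_zero]
    intro x hx
    let q : Q.complex.X 0 ⟶ ModuleCat.of R I := Q.π.f 0
    have hqs : Function.Surjective q.hom := by
      have : Epi q := by
        change Epi (Q.π.f 0)
        infer_instance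
      exact (ModuleCat.epi_iff_surjective q).1 this
    have hdq : Q.complex.d 1 0 ≫ q = 0 := Q.complex_d_comp_π_f_zero
    have hj : Q.complex.d 1 0 ≫ q ≫ i = 0 := by rw [← Category.assoc, hdq, Limits.zero_comp]
    have hd1 : P.complex.d 1 0 = q ≫ i :=
      Groth.Agent.Lib.Helper10.spliceComplex_d_zero _ Q.complex (q ≫ i) hj
    have hd2 : P.complex.d 2 1 = Q.complex.d 1 0 :=
      Groth.Agent.Lib.Helper10.spliceComplex_d_succ _ Q.complex (q ≫ i) hj 0
    have e1 : (((F.mapHomologicalComplex (ComplexShape.down ℕ)).obj P.complex).sc' 2 1 0).g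
        = F.map (q ≫ i) := by
      change F.map (P.complex.d 1 0) = _
      rw [hd1]
      rfl
    have e2 : (((F.mapHomologicalComplex (ComplexShape.down ℕ)).obj P.complex).sc' 2 1 0).f
        = F.map (Q.complex.d 1 0) := by
      change F.map (P.complex.d 2 1) = _
      rw [hd2]
      rfl
    obtain ⟨y, rfl⟩ := LinearMap.lTensor_surjective M hqs x
    obtain ⟨z, hz⟩ := hex y (by
      rw [e1]
      change (LinearMap.lTensor M (q ≫ i).hom) y = 0
      rw [ModuleCat.hom_comp, LinearMap.lTensor_comp]
      exact hx)
    rw [e2] at hz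
    change (LinearMap.lTensor M (Q.complex.d 1 0).hom) z = y at hz
    rw [← hz, ← LinearMap.comp_apply, ← LinearMap.lTensor_comp, ← ModuleCat.hom_comp, hdq]
    simp

end Groth.Agent.S6313
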