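import Groth.Statements.S6318
import Groth.Agent.Lib.Helper10.Resolution
import Mathlib.RingTheory.Noetherian.Basic
import Mathlib.RingTheory.Finiteness.Cardinality
import Mathlib.LinearAlgebra.FreeModule.Basic

set_option autoImplicit false
universe u
open CategoryTheory
open CAlg

namespace Groth.Agent.S6318

variable (R : Type u) [CommRing R] [IsNoetherianRing R]

/-- A finite module, bundled. -/
structure FinMod where
  K : Type u
  [acg : AddCommGroup K]
  [mod : Module R K]
  [fin : Module.Finite R K]

attribute [instance] FinMod.acg FinMod.mod FinMod.fin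

variable {R}

noncomputable def FinMod.n (A : FinMod R) : ℕ := (Module.Finite.exists_fin' R A.K).choose

noncomputable def FinMod.p (A : FinMod R) : (Fin A.n → R) →ₗ[R] A.K :=
  (Module.Finite.exists_fin' R A.K).choose_spec.choose

omit [IsNoetherianRing R] in
lemma FinMod.p_surj (A : FinMod R) : Function.Surjective A.p :=
  (Module.Finite.exists_fin' R A.K).choose_spec.choose_spec

/-- The syzygy. -/
noncomputable def FinMod.next (A : FinMod R) : FinMod R where
  K := LinearMap.ker A.p

noncomputable def seq (A : FinMod R) : ℕ → FinMod R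
  | 0 => A
  | n + 1 => (seq A n).next

noncomputable def X (A : FinMod R) (n : ℕ) : ModuleCat.{u} R := ModuleCat.of R (Fin (seq A n).n → R)

noncomputable def d (A : FinMod R) (n : ℕ) : X A (n + 1) ⟶ X A n :=
  ModuleCat.ofHom ((LinearMap.ker (seq A n).p).subtype ∘ₗ (seq A (n + 1)).p)

lemma d_apply (A : FinMod R) (n : ℕ) (x : X A (n + 1)) :
    (d A n).hom x = (LinearMap.ker (seq A n).p).subtype ((seq A (n + 1)).p x) := rfl

lemma p_d (A : FinMod R) (n : ℕ) (x : X A (n + 1)) : (seq A n).p ((d A n).hom x) = 0 := by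
  rw [d_apply]
  exact (((seq A (n + 1)).p x : LinearMap.ker (seq A n).p)).2

lemma sq (A : FinMod R) (n : ℕ) : d A (n + 1) ≫ d A n = 0 := by
  ext x
  simp only [ModuleCat.hom_comp, LinearMap.comp_apply, ModuleCat.hom_zero, LinearMap.zero_apply]
  rw [d_apply A n, p_d]
  rfl

lemma exact_aux (A : FinMod R) (n : ℕ) (x : X A n) (hx : (seq A n).p x = 0) :
    ∃ y : X A (n + 1), (d A n).hom y = x := by
  obtain ⟨y, hy⟩ := (seq A (n + 1)).p_surj ⟨x, hx⟩
  refine ⟨y, ?_⟩
  rw [d_apply, hy]
  rfl

noncomputable def cx (A : FinMod R) : ChainComplex (ModuleCat.{u} R) ℕ :=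
  ChainComplex.of (X A) (d A) (sq A)

lemma cx_d (A : FinMod R) (n : ℕ) : (cx A).d (n + 1) n = d A n := ChainComplex.of_d _ _ _


/-- Let R be a Noetherian ring and M a finite R-module. Then M has a resolution … → F₂ → F₁ → F₀ → M → 0
with every Fᵢ finite free; stated as the existence of a projective resolution of M in the category
of R-modules all of whose terms are finite free. -/
theorem result (R : Type u) [CommRing R] [IsNoetherianRing R] (M : Type u) [AddCommGroup M] [Module R M] [Module.Finite R M] : ∃ F : ProjectiveResolution (ModuleCat.of R M), ∀ n : ℕ, Module.Finite R (F.complex.X n) ∧ Module.Free R (F.complex.X n) := by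
  let A : FinMod R := { K := M }
  have hproj : ∀ n, Projective ((cx A).X n) := fun n => by
    change Projective (ModuleCat.of R (Fin (seq A n).n → R))
    exact ModuleCat.projective_of_free (Pi.basisFun R _)
  have w : (cx A).d 1 0 ≫ ModuleCat.ofHom (A.p) = 0 := by
    ext x
    rw [cx_d]
    exact p_d A 0 x
  refine ⟨Groth.Agent.Lib.Helper10.projectiveResolutionOfExact (ModuleCat.of R M) (cx A) hproj
    (ModuleCat.ofHom A.p) w ?_ ?_ ?_, ?_⟩
  · rw [ShortComplex.moduleCat_exact_iff]
    intro x hx
    change ∃ x₁ : X A 1, ((cx A).d 1 0).hom x₁ = x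
    rw [cx_d]
    exact exact_aux A 0 x hx
  · rw [ModuleCat.epi_iff_surjective]
    exact A.p_surj
  · intro n
    rw [HomologicalComplex.exactAt_iff' _ (n + 1 + 1) (n + 1) n (by simp) (by simp),
      ShortComplex.moduleCat_exact_iff]
    intro x hx
    change ∃ x₁ : X A (n + 2), ((cx A).d (n + 2) (n + 1)).hom x₁ = x
    replace hx : ((cx A).d (n + 1) n).hom x = 0 := hx
    rw [cx_d] at hx ⊢
    refine exact_aux A (n + 1) x ?_
    exact Subtype.ext ((d_apply A n x).symm.trans hx)
  · intro n
    change Module.Finite R (Fin (seq A n).n → R) ∧ Module.Free R (Fin (seq A n).n → R)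
    exact ⟨inferInstance, inferInstance⟩

end Groth.Agent.S6318
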