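import Groth.Statements.S6329
import Groth.Agent.S6312
import Mathlib.RingTheory.Length
import Mathlib.RingTheory.Support
import Mathlib.RingTheory.SimpleModule.Basic
import Mathlib.RingTheory.Ideal.Colon
import Mathlib.Algebra.Module.LocalizedModule.Exact
import Mathlib.RingTheory.Localization.AtPrime.Basic

set_option autoImplicit false
universe u
open CAlg

namespace Groth.Agent.S6329

section Aux

variable {R : Type u} [CommRing R]

lemma length_loc_exact (S : Submonoid R) {A B C : Type u} [AddCommGroup A] [Module R A]
    [AddCommGroup B] [Module R B] [AddCommGroup C] [Module R C]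
    (f : A →ₗ[R] B) (g : B →ₗ[R] C) (hf : Function.Injective f) (hg : Function.Surjective g)
    (hfg : Function.Exact f g) :
    Module.length (Localization S) (LocalizedModule S B) =
      Module.length (Localization S) (LocalizedModule S A) +
        Module.length (Localization S) (LocalizedModule S C) := by
  refine Module.length_eq_add_of_exact
    (LinearMap.extendScalarsOfIsLocalization S (Localization S) (LocalizedModule.map S f))
    (LinearMap.extendScalarsOfIsLocalization S (Localization S) (LocalizedModule.map S g)) ?_ ?_ ?_
  · exact LocalizedModule.map_injective S f hf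
  · exact LocalizedModule.map_surjective S g hg
  · exact LocalizedModule.map_exact S f g hfg

lemma length_loc_of_subsingleton (S : Submonoid R) (A : Type u) [AddCommGroup A] [Module R A]
    [Subsingleton A] : Module.length (Localization S) (LocalizedModule S A) = 0 :=
  le_antisymm ((Groth.Agent.S6312.result S A).trans_eq Module.length_eq_zero) zero_le

lemma length_loc_equiv (S : Submonoid R) {A B : Type u} [AddCommGroup A] [Module R A]
    [AddCommGroup B] [Module R B] (e : A ≃ₗ[R] B) :
    Module.length (Localization S) (LocalizedModule S B) =
      Module.length (Localization S) (LocalizedModule S A) := by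
  have := length_loc_exact S e.toLinearMap (0 : B →ₗ[R] PUnit.{u + 1}) e.injective
    (fun _ => ⟨0, Subsingleton.elim _ _⟩) (fun b => by
      constructor
      · intro _
        exact ⟨e.symm b, e.apply_symm_apply b⟩
      · intro _
        rfl)
  rw [this, length_loc_of_subsingleton S PUnit.{u + 1}, add_zero]

lemma length_loc_simple (m : Ideal R) [hm : m.IsMaximal] (Q : Type u) [AddCommGroup Q] [Module R Q]
    [IsSimpleModule R Q] :
    Module.length (Localization.AtPrime m) (LocalizedModule m.primeCompl Q) =
      if Module.annihilator R Q = m then 1 else 0 := by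
  have hle : Module.length (Localization.AtPrime m) (LocalizedModule m.primeCompl Q) ≤ 1 :=
    (Groth.Agent.S6312.result m.primeCompl Q).trans_eq (Module.length_eq_one R Q)
  have hsupp : (⟨m, inferInstance⟩ : PrimeSpectrum R) ∈ Module.support R Q ↔
      Module.annihilator R Q ≤ m := Module.mem_support_iff_of_finite
  rw [Module.mem_support_iff] at hsupp
  split_ifs with h
  · have : Nontrivial (LocalizedModule m.primeCompl Q) := hsupp.2 h.le
    have hpos := Module.length_pos (R := Localization.AtPrime m)
      (M := LocalizedModule m.primeCompl Q)
    exact le_antisymm hle (Order.one_le_iff_pos.2 hpos)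
  · have hmax := IsSimpleModule.annihilator_isMaximal (R := R) (M := Q)
    have h1 : ¬ Module.annihilator R Q ≤ m := fun hle' => h (hmax.eq_of_le hm.ne_top hle')
    have h2 : ¬ Nontrivial (LocalizedModule m.primeCompl Q) := fun hn => h1 (hsupp.1 hn)
    rw [not_nontrivial_iff_subsingleton] at h2
    exact Module.length_eq_zero

lemma annihilator_quot_eq_colon {M : Type u} [AddCommGroup M] [Module R M] (A B : Submodule R M) :
    Module.annihilator R (↥B ⧸ Submodule.comap B.subtype A) = A.colon (B : Set M) := by
  ext r
  rw [Submodule.annihilator_quotient, Submodule.mem_colon, Submodule.mem_colon]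
  constructor
  · intro h x hx
    exact h ⟨x, hx⟩ (Set.mem_univ _)
  · intro h x _
    exact h x.1 x.2

lemma length_loc_step (m : Ideal R) [m.IsMaximal] {M : Type u} [AddCommGroup M] [Module R M]
    (A B : Submodule R M) (hAB : A ⋖ B) :
    Module.length (Localization.AtPrime m) (LocalizedModule m.primeCompl B) =
      Module.length (Localization.AtPrime m) (LocalizedModule m.primeCompl A) +
        if A.colon (B : Set M) = m then 1 else 0 := by
  have hs : IsSimpleModule R (↥B ⧸ Submodule.comap B.subtype A) :=
    (covBy_iff_quot_is_simple hAB.le).1 hAB
  rw [← annihilator_quot_eq_colon, ← length_loc_simple m]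
  refine length_loc_exact m.primeCompl (Submodule.inclusion hAB.le)
    (Submodule.mkQ (Submodule.comap B.subtype A)) (Submodule.inclusion_injective _)
    (Submodule.mkQ_surjective _) ?_
  rw [LinearMap.exact_iff, Submodule.ker_mkQ, Submodule.range_inclusion]

end Aux


/-- Let R be a ring, M an R-module and 0 = M₀ ⊂ M₁ ⊂ … ⊂ Mₙ = M a maximal chain of submodules (a
composition series; each Mᵢ/Mᵢ₋₁ is simple, of the form R/mᵢ with mᵢ = (Mᵢ₋₁ : Mᵢ) maximal). Then
for every maximal ideal m of R the number of indices i with mᵢ = m equals length_{R_m}(M_m). -/
theorem result {R : Type u} [CommRing R] (M : Type u) [AddCommGroup M] [Module R M] (s : CompositionSeries (Submodule R M)) (h0 : s.head = ⊥) (h1 : s.last = ⊤) (m : Ideal R) [m.IsMaximal] : ((Finset.univ.filter fun i : Fin s.length => (s i.castSucc).colon (s i.succ : Set M) = m).card : ℕ∞) = Module.length (Localization.AtPrime m) (LocalizedModule m.primeCompl M) := by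
  classical
  have key : ∀ (k : ℕ) (hk : k ≤ s.length),
      ((Finset.univ.filter fun i : Fin s.length =>
        i.val < k ∧ (s i.castSucc).colon (s i.succ : Set M) = m).card : ℕ∞) =
      Module.length (Localization.AtPrime m)
        (LocalizedModule m.primeCompl (s ⟨k, Nat.lt_succ_of_le hk⟩)) := by
    intro k
    induction k with
    | zero =>
      intro hk
      have h00 : s ⟨0, Nat.lt_succ_of_le hk⟩ = ⊥ := h0
      have : Subsingleton (s ⟨0, Nat.lt_succ_of_le hk⟩) := by
        rw [h00]
        infer_instance
      rw [length_loc_of_subsingleton]
      simp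
    | succ k ih =>
      intro hk
      have hk' : k ≤ s.length := Nat.le_of_succ_le hk
      let i : Fin s.length := ⟨k, hk⟩
      have hstep : s i.castSucc ⋖ s i.succ := s.step i
      have hlen := length_loc_step m (s i.castSucc) (s i.succ) hstep
      have e1 : (⟨k + 1, Nat.lt_succ_of_le hk⟩ : Fin (s.length + 1)) = i.succ := rfl
      have e2 : (⟨k, Nat.lt_succ_of_le hk'⟩ : Fin (s.length + 1)) = i.castSucc := rfl
      have ih' := ih hk'
      rw [e2] at ih'
      rw [e1, hlen, ← ih']
      have hsplit : (Finset.univ.filter fun j : Fin s.length =>
          j.val < k + 1 ∧ (s j.castSucc).colon (s j.succ : Set M) = m) =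
          (Finset.univ.filter fun j : Fin s.length =>
            j.val < k ∧ (s j.castSucc).colon (s j.succ : Set M) = m) ∪
          (if (s i.castSucc).colon (s i.succ : Set M) = m then {i} else ∅) := by
        ext j
        simp only [Finset.mem_filter, Finset.mem_univ, true_and, Finset.mem_union]
        constructor
        · rintro ⟨hj, hc⟩
          rcases Nat.lt_succ_iff_lt_or_eq.1 hj with hlt | heq
          · exact Or.inl ⟨hlt, hc⟩
          · have : j = i := Fin.ext heq
            subst this
            right
            rw [if_pos hc]
            exact Finset.mem_singleton_self _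
        · rintro (⟨hj, hc⟩ | hj)
          · exact ⟨Nat.lt_succ_of_lt hj, hc⟩
          · split_ifs at hj with hc
            · rw [Finset.mem_singleton] at hj
              subst hj
              exact ⟨Nat.lt_succ_self _, hc⟩
            · exact absurd hj (Finset.notMem_empty _)
      have hdisj : Disjoint (Finset.univ.filter fun j : Fin s.length =>
            j.val < k ∧ (s j.castSucc).colon (s j.succ : Set M) = m)
          (if (s i.castSucc).colon (s i.succ : Set M) = m then {i} else ∅) := by
        split_ifs
        · rw [Finset.disjoint_singleton_right]
          simp [i]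
        · exact Finset.disjoint_empty_right _
      rw [hsplit, Finset.card_union_of_disjoint hdisj, Nat.cast_add]
      congr 1
      split_ifs <;> simp
  have hfin := key s.length le_rfl
  have hfilter : (Finset.univ.filter fun i : Fin s.length =>
      i.val < s.length ∧ (s i.castSucc).colon (s i.succ : Set M) = m) =
      Finset.univ.filter fun i : Fin s.length => (s i.castSucc).colon (s i.succ : Set M) = m := by
    ext j
    simp
  rw [hfilter] at hfin
  rw [hfin]
  have hlast : s ⟨s.length, Nat.lt_succ_of_le le_rfl⟩ = ⊤ := h1
  rw [hlast]
  exact (length_loc_equiv m.primeCompl (Submodule.topEquiv (R := R) (M := M))).symm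

end Groth.Agent.S6329
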