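import Groth.Statements.S6320
import Groth.Agent.S6329
import Mathlib.RingTheory.FiniteLength
import Mathlib.RingTheory.Ideal.Quotient.Operations
import Mathlib.RingTheory.LocalRing.MaximalIdeal.Basic
import Mathlib.RingTheory.Spectrum.Maximal.Basic
import Mathlib.Algebra.BigOperators.Finprod

set_option autoImplicit false
universe u
open CAlg

namespace Groth.Agent.S6320

section Aux

lemma length_quot {A B : Type u} [CommRing A] [CommRing B] [Algebra A B] (I : Ideal B)
    (hJ : (I.comap (algebraMap A B)).IsMaximal)
    (hfin : Module.Finite (A ⧸ I.comap (algebraMap A B)) (B ⧸ I)) :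
    Module.length A (B ⧸ I) = (Module.finrank (A ⧸ I.comap (algebraMap A B)) (B ⧸ I) : ℕ∞) := by
  let _ := Ideal.Quotient.field (I.comap (algebraMap A B))
  rw [← Module.length_eq_finrank (A ⧸ I.comap (algebraMap A B)) (B ⧸ I)]
  exact Module.length_eq_of_surjective Ideal.Quotient.mk_surjective

variable {A B : Type u} [CommRing A] [CommRing B] [Algebra A B]

/-- The `A`-length of a simple `B`-module. -/
lemma length_simple (Q : Type u) [AddCommGroup Q] [Module B Q] [Module A Q] [IsScalarTower A B Q]
    [IsSimpleModule B Q] (I : Ideal B) (hI : Module.annihilator B Q = I)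
    (hJ : (I.comap (algebraMap A B)).IsMaximal)
    (hfin : Module.Finite (A ⧸ I.comap (algebraMap A B)) (B ⧸ I)) :
    Module.length A Q = (Module.finrank (A ⧸ I.comap (algebraMap A B)) (B ⧸ I) : ℕ∞) := by
  obtain ⟨I', hI', ⟨e⟩⟩ := isSimpleModule_iff_quot_maximal.1 (inferInstance : IsSimpleModule B Q)
  have hann : I' = I := by
    rw [← hI, e.annihilator_eq, Ideal.annihilator_quotient]
  subst hann
  rw [← length_quot _ hJ hfin]
  exact (e.restrictScalars A).length_eq

end Aux


/-- Let A be a local ring with maximal ideal m, B a semi-local ring with maximal ideals m₁, …, mₙ and A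
→ B a ring map such that each mᵢ lies over m with [κ(mᵢ) : κ(m)] finite. Then for every B-module M
of finite length, length_A(M) = Σᵢ [κ(mᵢ) : κ(m)] · length_{B_{mᵢ}}(M_{mᵢ}); in particular
length_A(M) is finite. -/
theorem result {A B : Type u} [CommRing A] [IsLocalRing A] [CommRing B] [Algebra A B] [Finite (MaximalSpectrum B)] (hover : ∀ n : MaximalSpectrum B, n.asIdeal.comap (algebraMap A B) = IsLocalRing.maximalIdeal A) (hfin : ∀ n : MaximalSpectrum B, Module.Finite (A ⧸ n.asIdeal.comap (algebraMap A B)) (B ⧸ n.asIdeal)) (M : Type u) [AddCommGroup M] [Module B M] [Module A M] [IsScalarTower A B M] (hM : IsFiniteLength B M) : Module.length A M = ∑ᶠ n : MaximalSpectrum B, (Module.finrank (A ⧸ n.asIdeal.comap (algebraMap A B)) (B ⧸ n.asIdeal) : ℕ∞) * Module.length (Localization.AtPrime n.asIdeal) (LocalizedModule n.asIdeal.primeCompl M) := by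
  classical
  obtain ⟨s, h0, h1⟩ := isFiniteLength_iff_exists_compositionSeries.1 hM
  have : Fintype (MaximalSpectrum B) := Fintype.ofFinite _
  have hsimple : ∀ i : Fin s.length, IsSimpleModule B
      (↥(s i.succ) ⧸ Submodule.comap (s i.succ).subtype (s i.castSucc)) :=
    fun i => (covBy_iff_quot_is_simple (s.step i).le).1 (s.step i)
  let ν : Fin s.length → MaximalSpectrum B := fun i =>
    ⟨(s i.castSucc).colon (s i.succ : Set M), by
      rw [← Groth.Agent.S6329.annihilator_quot_eq_colon]
      have := hsimple i
      exact IsSimpleModule.annihilator_isMaximal⟩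
  let d : MaximalSpectrum B → ℕ∞ := fun n =>
    (Module.finrank (A ⧸ n.asIdeal.comap (algebraMap A B)) (B ⧸ n.asIdeal) : ℕ∞)
  have hstep : ∀ i : Fin s.length,
      Module.length A ↥(s i.succ) = Module.length A ↥(s i.castSucc) + d (ν i) := by
    intro i
    have := hsimple i
    have hlen := Module.length_eq_add_of_exact (R := A)
      ((Submodule.inclusion (s.step i).le).restrictScalars A)
      ((Submodule.mkQ (Submodule.comap (s i.succ).subtype (s i.castSucc))).restrictScalars A)
      (Submodule.inclusion_injective (s.step i).le) (Submodule.mkQ_surjective _) (by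
        have : Function.Exact (Submodule.inclusion (s.step i).le)
            (Submodule.mkQ (Submodule.comap (s i.succ).subtype (s i.castSucc))) := by
          rw [LinearMap.exact_iff, Submodule.ker_mkQ, Submodule.range_inclusion]
        exact this)
    rw [hlen]
    congr 1
    refine length_simple (A := A) (B := B) _ (ν i).asIdeal
      (Groth.Agent.S6329.annihilator_quot_eq_colon (s i.castSucc) (s i.succ)) ?_ (hfin (ν i))
    rw [hover (ν i)]
    infer_instance
  have key : ∀ (k : ℕ) (hk : k ≤ s.length),
      Module.length A ↥(s ⟨k, Nat.lt_succ_of_le hk⟩) =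
        ∑ i ∈ Finset.univ.filter (fun i : Fin s.length => i.val < k), d (ν i) := by
    intro k
    induction k with
    | zero =>
      intro hk
      have h00 : s ⟨0, Nat.lt_succ_of_le hk⟩ = ⊥ := h0
      have : Subsingleton (s ⟨0, Nat.lt_succ_of_le hk⟩) := by
        rw [h00]
        infer_instance
      rw [Module.length_eq_zero]
      simp
    | succ k ih =>
      intro hk
      have hk' : k ≤ s.length := Nat.le_of_succ_le hk
      let i : Fin s.length := ⟨k, hk⟩
      have e1 : (⟨k + 1, Nat.lt_succ_of_le hk⟩ : Fin (s.length + 1)) = i.succ := rfl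
      have e2 : (⟨k, Nat.lt_succ_of_le hk'⟩ : Fin (s.length + 1)) = i.castSucc := rfl
      have ih' := ih hk'
      rw [e2] at ih'
      rw [e1, hstep i, ih']
      have hsplit : (Finset.univ.filter fun j : Fin s.length => j.val < k + 1) =
          insert i (Finset.univ.filter fun j : Fin s.length => j.val < k) := by
        ext j
        simp only [Finset.mem_filter, Finset.mem_univ, true_and, Finset.mem_insert]
        constructor
        · intro hj
          rcases Nat.lt_succ_iff_lt_or_eq.1 hj with hlt | heq
          · exact Or.inr hlt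
          · exact Or.inl (Fin.ext heq)
        · rintro (rfl | hj)
          · exact Nat.lt_succ_self _
          · exact Nat.lt_succ_of_lt hj
      rw [hsplit, Finset.sum_insert (by simp [i]), add_comm]
  have hL : Module.length A M = ∑ i : Fin s.length, d (ν i) := by
    have hfinal := key s.length le_rfl
    have hlast : s ⟨s.length, Nat.lt_succ_of_le le_rfl⟩ = ⊤ := h1
    rw [hlast] at hfinal
    have hfilter : (Finset.univ.filter fun i : Fin s.length => i.val < s.length) = Finset.univ := by
      ext j
      simp
    rw [hfilter] at hfinal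
    rw [← hfinal]
    exact ((Submodule.topEquiv (R := B) (M := M)).restrictScalars A).length_eq.symm
  rw [hL, finsum_eq_sum_of_fintype]
  have hR : ∀ n : MaximalSpectrum B,
      Module.length (Localization.AtPrime n.asIdeal) (LocalizedModule n.asIdeal.primeCompl M) =
        ((Finset.univ.filter fun i : Fin s.length => ν i = n).card : ℕ∞) := by
    intro n
    have := n.isMaximal
    rw [← Groth.Agent.S6329.result M s h0 h1 n.asIdeal]
    congr 2
    ext i
    simp only [Finset.mem_filter, Finset.mem_univ, true_and]
    constructor
    · intro h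
      exact MaximalSpectrum.ext h
    · intro h
      exact congrArg MaximalSpectrum.asIdeal h
  simp_rw [hR]
  rw [← Finset.sum_fiberwise (s := Finset.univ) (g := ν) (f := fun i => d (ν i))]
  refine Finset.sum_congr rfl fun n _ => ?_
  rw [Finset.sum_congr rfl (g := fun _ => d n) (fun i hi => by
    rw [(Finset.mem_filter.1 hi).2]), Finset.sum_const, nsmul_eq_mul, mul_comm]

end Groth.Agent.S6320
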