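import Groth.Statements.S6321
import Groth.Agent.Lib.Helper10.DirectLimitFlat
import Mathlib.Algebra.Colimit.Ring
import Mathlib.Algebra.Colimit.Module
import Mathlib.RingTheory.RingHom.FaithfullyFlat

set_option autoImplicit false
universe u
open CAlg

namespace Groth.Agent.S6321

/-- Let R be a ring and (Sᵢ, φᵢⱼ) a directed system of faithfully flat R-algebras whose transition maps
are R-algebra maps. Then S = colim Sᵢ is a faithfully flat R-algebra: for any index i the composite
R → Sᵢ → S is faithfully flat. -/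
theorem result {R : Type u} [CommRing R] {ι : Type u} [Preorder ι] [Nonempty ι] [IsDirected ι (· ≤ ·)] (G : ι → Type u) [∀ i, CommRing (G i)] [∀ i, Algebra R (G i)] (f : ∀ i j, i ≤ j → G i →+* G j) [DirectedSystem G fun i j h => f i j h] (hcompat : ∀ i j (h : i ≤ j), (f i j h).comp (algebraMap R (G i)) = algebraMap R (G j)) (hff : ∀ i, (algebraMap R (G i)).FaithfullyFlat) (i : ι) : ((Ring.DirectLimit.of G (fun i j h => f i j h) i).comp (algebraMap R (G i))).FaithfullyFlat := by
  classical
  have hff' : ∀ j, Module.FaithfullyFlat R (G j) := fun j =>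
    RingHom.faithfullyFlat_algebraMap_iff.1 (hff j)
  let S := Ring.DirectLimit G (fun i j h => f i j h)
  let ofS : ∀ j, G j →+* S := fun j => Ring.DirectLimit.of G (fun i j h => f i j h) j
  have hof : ∀ j k (h : j ≤ k) (x : G j), ofS k (f j k h x) = ofS j x := fun j k h x =>
    Ring.DirectLimit.of_f h x
  let φ : R →+* S := (ofS i).comp (algebraMap R (G i))
  have hc : ∀ j k (h : j ≤ k) (r : R), f j k h (algebraMap R (G j) r) = algebraMap R (G k) r :=
    fun j k h r => RingHom.congr_fun (hcompat j k h) r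
  have hφ : ∀ j r, ofS j (algebraMap R (G j) r) = φ r := by
    intro j r
    obtain ⟨k, hik, hjk⟩ := exists_ge_ge i j
    have h1 : ofS j (algebraMap R (G j) r) = ofS k (algebraMap R (G k) r) := by
      rw [← hc j k hjk, hof]
    have h2 : φ r = ofS k (algebraMap R (G k) r) := by
      rw [← hc i k hik, hof]
      rfl
    rw [h1, h2]
  change letI := φ.toAlgebra; Module.FaithfullyFlat R S
  let _ : Algebra R S := φ.toAlgebra
  have halg : ∀ r : R, algebraMap R S r = φ r := fun r => rfl
  let fl : ∀ i j, i ≤ j → G i →ₗ[R] G j := fun i j h =>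
    { toFun := f i j h
      map_add' := map_add _
      map_smul' := fun r x => by
        simp only [Algebra.smul_def, map_mul, RingHom.id_apply, hc] }
  have : DirectedSystem G (fl · · ·) :=
    ⟨fun j x => DirectedSystem.map_self' (fun i j h => f i j h) x,
      fun k j i hij hjk x => DirectedSystem.map_map' (fun i j h => f i j h) hij hjk x⟩
  -- the comparison map
  let g : ∀ j, G j →ₗ[R] S := fun j =>
    { toFun := ofS j
      map_add' := map_add _
      map_smul' := fun r x => by
        simp only [Algebra.smul_def, map_mul, RingHom.id_apply, halg, hφ] }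
  let Φ : Module.DirectLimit G fl →ₗ[R] S :=
    Module.DirectLimit.lift R ι G fl g (fun j k h x => hof j k h x)
  have hΦ : ∀ j x, Φ (Module.DirectLimit.of R ι G fl j x) = ofS j x := fun j x =>
    Module.DirectLimit.lift_of _ _ _
  have hinj : Function.Injective Φ := by
    rw [injective_iff_map_eq_zero]
    intro x hx
    obtain ⟨j, y, rfl⟩ := Module.DirectLimit.exists_of x
    rw [hΦ] at hx
    obtain ⟨k, hjk, hk⟩ := Ring.DirectLimit.of.zero_exact hx
    rw [← Module.DirectLimit.of_f (hij := hjk)]
    change Module.DirectLimit.of R ι G fl k (f j k hjk y) = 0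
    rw [hk, map_zero]
  have hsurj : Function.Surjective Φ := by
    intro s
    obtain ⟨j, y, rfl⟩ := Ring.DirectLimit.exists_of s
    exact ⟨Module.DirectLimit.of R ι G fl j y, hΦ j y⟩
  let e : Module.DirectLimit G fl ≃ₗ[R] S := LinearEquiv.ofBijective Φ ⟨hinj, hsurj⟩
  have hflat0 : Module.Flat R (Module.DirectLimit G fl) :=
    Groth.Agent.Lib.Helper10.flat_directLimit G fl
  have hflat : Module.Flat R S :=
    Module.Flat.of_linearEquiv (M := Module.DirectLimit G fl) e.symm
  -- key: membership in extended ideals descends to a finite stage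
  have key : ∀ (m : Ideal R) (s : S), s ∈ Ideal.map φ m →
      ∃ j t, t ∈ Ideal.map (algebraMap R (G j)) m ∧ ofS j t = s := by
    intro m s hs
    have hmap : ∀ j k (h : j ≤ k) t, t ∈ Ideal.map (algebraMap R (G j)) m →
        f j k h t ∈ Ideal.map (algebraMap R (G k)) m := by
      intro j k h t ht
      have := Ideal.mem_map_of_mem (f j k h) ht
      rwa [Ideal.map_map, hcompat j k h] at this
    refine Submodule.span_induction (p := fun s _ => ∃ j t, t ∈ Ideal.map (algebraMap R (G j)) m ∧
      ofS j t = s) ?_ ?_ ?_ ?_ hs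
    · rintro _ ⟨a, ha, rfl⟩
      exact ⟨i, algebraMap R (G i) a, Ideal.mem_map_of_mem _ ha, rfl⟩
    · exact ⟨i, 0, zero_mem _, map_zero _⟩
    · rintro _ _ _ _ ⟨j₁, t₁, h₁, rfl⟩ ⟨j₂, t₂, h₂, rfl⟩
      obtain ⟨k, h1k, h2k⟩ := exists_ge_ge j₁ j₂
      refine ⟨k, f j₁ k h1k t₁ + f j₂ k h2k t₂, add_mem (hmap _ _ _ _ h₁) (hmap _ _ _ _ h₂), ?_⟩
      rw [map_add, hof, hof]
    · rintro c _ _ ⟨j, t, ht, rfl⟩
      obtain ⟨j', c', rfl⟩ := Ring.DirectLimit.exists_of c
      obtain ⟨k, h1k, h2k⟩ := exists_ge_ge j' j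
      refine ⟨k, f j' k h1k c' * f j k h2k t, Ideal.mul_mem_left _ _ (hmap _ _ _ _ ht), ?_⟩
      rw [map_mul, hof, hof]
      rfl
  refine ⟨fun m hm htop => ?_⟩
  have h1 : (1 : S) ∈ Ideal.map φ m := by
    have : Ideal.map (algebraMap R S) m = ⊤ := by
      have h2 := Ideal.smul_top_eq_map (R := R) (S := S) m
      rw [htop] at h2
      exact Submodule.restrictScalars_injective R S S (h2.symm.trans (by simp))
    change (1 : S) ∈ Ideal.map (algebraMap R S) m
    rw [this]
    trivial
  obtain ⟨j, t, ht, h1t⟩ := key m 1 h1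
  have h0 : ofS j (t - 1) = 0 := by rw [map_sub, h1t, map_one, sub_self]
  obtain ⟨k, hjk, hk⟩ := Ring.DirectLimit.of.zero_exact h0
  rw [map_sub, map_one, sub_eq_zero] at hk
  have htk : (1 : G k) ∈ Ideal.map (algebraMap R (G k)) m := by
    rw [← hk]
    have := Ideal.mem_map_of_mem (f j k hjk) ht
    rwa [Ideal.map_map, hcompat j k hjk] at this
  have htop' : Ideal.map (algebraMap R (G k)) m = ⊤ := (Ideal.eq_top_iff_one _).2 htk
  refine (hff' k).submodule_ne_top hm ?_
  rw [Ideal.smul_top_eq_map, htop']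
  simp

end Groth.Agent.S6321
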