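import Groth.Statements.S6324
import Mathlib

set_option autoImplicit false
universe u
open CAlg

namespace Groth.Agent.S6324
open Polynomial
section Aux
variable {R S : Type u} [CommRing R] [CommRing S] [Algebra R S] (I : Ideal R)

/-- the ring map `reesAlgebra I → S[t]`. -/
noncomputable abbrev fI : ↥(reesAlgebra I) →+* S[X] :=
  (Polynomial.mapRingHom (algebraMap R S)).comp (reesAlgebra I).val.toRingHom

theorem fI_apply (g : ↥(reesAlgebra I)) : fI (S := S) I g = (g : R[X]).map (algebraMap R S) := rfl

theorem monomial_mem (n : ℕ) {r : R} (hr : r ∈ I ^ n) : C r * X ^ n ∈ reesAlgebra I := by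
  rw [mem_reesAlgebra_iff]
  intro i
  rw [coeff_C_mul_X_pow]
  split_ifs with h
  · rw [h]; exact hr
  · exact Ideal.zero_mem _

theorem degree_sum_lt {A : Type*} [CommRing A] (d : ℕ) (c : ℕ → A) :
    degree (∑ j ∈ Finset.range d, C (c j) * X ^ j) < d := by
  rw [← mem_degreeLT]
  refine Submodule.sum_mem _ (fun j hj => ?_)
  rw [mem_degreeLT]
  exact lt_of_le_of_lt (degree_C_mul_X_pow_le _ _) (by exact_mod_cast Finset.mem_range.mp hj)

end Aux

/-- Let R → S be a ring map, I ⊆ R an ideal and A = Σ Iⁿtⁿ ⊆ R[t] the Rees algebra of I. For s ∈ S,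
being integral over I is equivalent to s·t ∈ S[t] being integral over A (via A ⊆ R[t] → S[t]). -/
theorem result {R S : Type u} [CommRing R] [CommRing S] [Algebra R S] (I : Ideal R) (s : S) : W4stkalgebra1.IsIntegralOverIdeal I s ↔ ((Polynomial.mapRingHom (algebraMap R S)).comp (reesAlgebra I).val.toRingHom).IsIntegralElem (Polynomial.C s * Polynomial.X) := by
  classical
  constructor
  · rintro ⟨p, hp, hcoef, hev⟩
    set d := p.natDegree with hd
    -- coefficients in the Rees algebra
    let b : ℕ → ↥(reesAlgebra I) := fun j =>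
      if h : j < d then ⟨C (p.coeff j) * X ^ (d - j), monomial_mem I (d - j) (hcoef j h)⟩ else 0
    refine ⟨X ^ d + ∑ j ∈ Finset.range d, C (b j) * X ^ j, monic_X_pow_add (degree_sum_lt d b), ?_⟩
    rw [eval₂_add, eval₂_X_pow, eval₂_finsetSum]
    have h1 : ∀ j ∈ Finset.range d, eval₂ (fI (S := S) I) (C s * X) (C (b j) * X ^ j) =
        X ^ d * C (algebraMap R S (p.coeff j) * s ^ j) := by
      intro j hj
      have hj' : j < d := Finset.mem_range.mp hj
      rw [eval₂_mul, eval₂_C, eval₂_X_pow, fI_apply]
      simp only [b, dif_pos hj']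
      rw [Polynomial.map_mul, Polynomial.map_pow, map_X, map_C, mul_pow, ← C_pow, C_mul]
      have : (X : S[X]) ^ d = X ^ (d - j) * X ^ j := by rw [← pow_add]; congr 1; omega
      rw [this]
      ring
    rw [Finset.sum_congr rfl h1, ← Finset.mul_sum, mul_pow, ← C_pow, ← map_sum]
    have h2 : C (s ^ d) * (X : S[X]) ^ d + X ^ d * C (∑ j ∈ Finset.range d, algebraMap R S (p.coeff j) * s ^ j)
        = X ^ d * C (eval₂ (algebraMap R S) s p) := by
      conv_rhs => rw [hp.as_sum, eval₂_add, eval₂_X_pow, eval₂_finsetSum]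
      simp only [eval₂_mul, eval₂_C, eval₂_X_pow, ← hd]
      rw [C_add]
      ring
    rw [h2, hev, C_0, mul_zero]
  · rintro ⟨q, hq, hev⟩
    rcases subsingleton_or_nontrivial R with hR | hR
    · have : Subsingleton S := Module.subsingleton R S
      exact ⟨1, monic_one, by simp, Subsingleton.elim _ _⟩
    set d := q.natDegree with hd
    let c : ℕ → R := fun j => ((q.coeff j : R[X])).coeff (d - j)
    have hc : ∀ j, c j ∈ I ^ (d - j) := fun j => (mem_reesAlgebra_iff I _).mp (q.coeff j).2 (d - j)
    set p : R[X] := X ^ d + ∑ j ∈ Finset.range d, C (c j) * X ^ j with hp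
    have hdeg := degree_sum_lt d c
    have hpm : p.Monic := monic_X_pow_add hdeg
    have hpd : p.natDegree = d := by
      rw [hp, natDegree_add_eq_left_of_degree_lt, natDegree_X_pow]
      rw [degree_X_pow]; exact hdeg
    have hpc : ∀ j, j < d → p.coeff j = c j := by
      intro j hj
      rw [hp, coeff_add, coeff_X_pow, if_neg (by omega), zero_add, finsetSum_coeff]
      rw [Finset.sum_eq_single j]
      · rw [coeff_C_mul_X_pow, if_pos rfl]
      · intro i _ hij
        rw [coeff_C_mul_X_pow, if_neg (fun h => hij h.symm)]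
      · intro h
        exact absurd (Finset.mem_range.mpr hj) h
    refine ⟨p, hpm, ?_, ?_⟩
    · intro j hj
      rw [hpd] at hj ⊢
      rw [hpc j hj]
      exact hc j
    · -- take the coefficient of `t ^ d`
      have h1 := congrArg (fun g : S[X] => g.coeff d) hev
      simp only [coeff_zero] at h1
      rw [eval₂_eq_sum_range, finsetSum_coeff, ← hd] at h1
      have h2 : ∀ j ∈ Finset.range (d + 1),
          ((fI (S := S) I) (q.coeff j) * (C s * X) ^ j).coeff d =
            algebraMap R S (c j) * s ^ j := by
        intro j hj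
        have hj' : j ≤ d := Nat.lt_succ_iff.mp (Finset.mem_range.mp hj)
        rw [fI_apply, mul_pow, ← C_pow, ← mul_assoc, coeff_mul_X_pow', if_pos hj', coeff_mul_C,
          coeff_map]
      rw [Finset.sum_congr rfl h2, Finset.sum_range_succ] at h1
      have hcd : c d = 1 := by
        simp only [c]
        rw [Nat.sub_self, hd, show q.coeff q.natDegree = 1 from hq]
        simp
      rw [hcd, map_one, one_mul] at h1
      rw [hp, eval₂_add, eval₂_X_pow, eval₂_finsetSum]
      simp only [eval₂_mul, eval₂_C, eval₂_X_pow]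
      rw [add_comm]
      exact h1

end Groth.Agent.S6324
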