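import Groth.Statements.S6325
import Mathlib
import Groth.Agent.S6324

set_option autoImplicit false
universe u
open CAlg

namespace Groth.Agent.S6325
open Polynomial

/-- Let R → S be a ring map and I ⊆ R an ideal. The elements of S integral over I form an R-submodule of
S; moreover, the product s s' is integral over I for any s ∈ S integral over R and any s' ∈ S
integral over I. -/
theorem result {R S : Type u} [CommRing R] [CommRing S] [Algebra R S] (I : Ideal R) : (∃ N : Submodule R S, ∀ s : S, s ∈ N ↔ W4stkalgebra1.IsIntegralOverIdeal I s) ∧ (∀ s s' : S, IsIntegral R s → W4stkalgebra1.IsIntegralOverIdeal I s' → W4stkalgebra1.IsIntegralOverIdeal I (s * s')) := by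
  classical
  set f : ↥(reesAlgebra I) →+* S[X] :=
    (Polynomial.mapRingHom (algebraMap R S)).comp (reesAlgebra I).val.toRingHom with hf
  have key : ∀ s : S, W4stkalgebra1.IsIntegralOverIdeal I s ↔ f.IsIntegralElem (C s * X) :=
    fun s => Groth.Agent.S6324.result I s
  -- constants
  have hconst : ∀ s : S, IsIntegral R s → f.IsIntegralElem (C s) := by
    rintro s ⟨p, hp, hev⟩
    refine ⟨p.map (algebraMap R ↥(reesAlgebra I)), hp.map _, ?_⟩
    rw [eval₂_map]
    have : f.comp (algebraMap R ↥(reesAlgebra I)) = (C : S →+* S[X]).comp (algebraMap R S) := by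
      ext r
      · simp [hf]
    rw [this, ← hom_eval₂, hev, map_zero]
  refine ⟨⟨{ carrier := {s | W4stkalgebra1.IsIntegralOverIdeal I s}
             add_mem' := ?_
             zero_mem' := ?_
             smul_mem' := ?_ }, fun s => Iff.rfl⟩, ?_⟩
  · intro a b ha hb
    rw [Set.mem_setOf_eq, key] at ha hb ⊢
    rw [C_add, add_mul]
    exact RingHom.IsIntegralElem.add f ha hb
  · rw [Set.mem_setOf_eq, key, C_0, zero_mul]
    exact f.isIntegralElem_zero
  · intro r a ha
    rw [Set.mem_setOf_eq, key] at ha ⊢
    have h1 : C (r • a) * (X : S[X]) = f (algebraMap R ↥(reesAlgebra I) r) * (C a * X) := by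
      rw [Algebra.smul_def, C_mul, mul_assoc]
      congr 1
      simp [hf]
    rw [h1]
    exact RingHom.IsIntegralElem.mul f (f.isIntegralElem_map) ha
  · intro s s' hs hs'
    rw [key] at hs' ⊢
    rw [C_mul, mul_assoc]
    exact RingHom.IsIntegralElem.mul f (hconst s hs) hs'

end Groth.Agent.S6325
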