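import Groth.Statements.S6326
import Mathlib.Algebra.Category.ModuleCat.Colimits
import Mathlib.Algebra.Category.ModuleCat.FilteredColimits
import Mathlib.CategoryTheory.Limits.Types.Filtered
import Mathlib.RingTheory.Finiteness.Basic
import Mathlib.CategoryTheory.Yoneda

set_option autoImplicit false
universe u
open CategoryTheory CategoryTheory.Limits
open CAlg

namespace Groth.Agent.S6326

/-- Let R be a ring and N an R-module such that whenever M is the colimit of a filtered diagram (Mᵢ) of
R-modules (indexed by a filtered category in the same universe), the comparison map colim Hom_R(N,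
Mᵢ) → Hom_R(N, M) is injective. Then N is finitely generated. (The implication from finite
generation back to this injectivity also holds; only the characterizing direction is stated here.) -/
theorem result (R : Type u) [CommRing R] (N : Type u) [AddCommGroup N] [Module R N] (h : ∀ (J : Type u) [SmallCategory J] [IsFiltered J] (F : J ⥤ ModuleCat.{u} R), Function.Injective (colimit.post F (coyoneda.obj (Opposite.op (ModuleCat.of R N))))) : Module.Finite R N := by
  classical
  let J := {N' : Submodule R N // N'.FG}
  have : Nonempty J := ⟨⟨⊥, Submodule.fg_bot⟩⟩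
  have : IsDirected J (· ≤ ·) :=
    ⟨fun a b => ⟨⟨a.1 ⊔ b.1, a.2.sup b.2⟩, Subtype.mk_le_mk.2 le_sup_left,
      Subtype.mk_le_mk.2 le_sup_right⟩⟩
  have : IsFiltered J := inferInstance
  let F : J ⥤ ModuleCat.{u} R :=
    { obj := fun N' => ModuleCat.of R (N ⧸ N'.1)
      map := fun {a b} h => ModuleCat.ofHom (Submodule.factor (leOfHom h))
      map_id := fun a => by
        ext x
        rfl
      map_comp := fun {a b c} f g => by
        ext x
        rfl }
  have hinj := h J F
  let G := coyoneda.obj (Opposite.op (ModuleCat.of R N))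
  let b : J := ⟨⊥, Submodule.fg_bot⟩
  let x : (F ⋙ G).obj b := ModuleCat.ofHom (Submodule.mkQ ⊥)
  let y : (F ⋙ G).obj b := (0 : ModuleCat.of R N ⟶ F.obj b)
  have hpost : ∀ z : (F ⋙ G).obj b, colimit.post F G (colimit.ι (F ⋙ G) b z) =
      (z ≫ colimit.ι F b : ModuleCat.of R N ⟶ colimit F) := by
    intro z
    have := ConcreteCategory.congr_hom (colimit.ι_post F G b) z
    rw [ConcreteCategory.comp_apply] at this
    rw [this]
    rfl
  have hx0 : (x ≫ colimit.ι F b : ModuleCat.of R N ⟶ colimit F) = 0 := by
    ext n
    let c : J := ⟨Submodule.span R {n}, Submodule.fg_span_singleton n⟩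
    have hbc : b ≤ c := Subtype.mk_le_mk.2 bot_le
    have hw := colimit.w F (homOfLE hbc)
    rw [← hw]
    have : (F.map (homOfLE hbc)).hom (x.hom n) = 0 := by
      change Submodule.factor (show b.1 ≤ c.1 from hbc) (Submodule.mkQ _ n) = 0
      rw [Submodule.mkQ_apply]
      erw [Submodule.factor_mk]
      rw [Submodule.mkQ_apply, Submodule.Quotient.mk_eq_zero]
      exact Submodule.mem_span_singleton_self n
    simp only [ModuleCat.hom_comp, LinearMap.comp_apply, this, map_zero, ModuleCat.hom_zero,
      LinearMap.zero_apply]
  have hxy : colimit.post F G (colimit.ι (F ⋙ G) b x) =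
      colimit.post F G (colimit.ι (F ⋙ G) b y) := by
    rw [hpost, hpost, hx0]
    exact (Limits.zero_comp).symm
  have hxy' := hinj hxy
  rw [Types.FilteredColimit.colimit_eq_iff] at hxy'
  obtain ⟨k, f, g, hk⟩ := hxy'
  have hk' : (x ≫ F.map f : ModuleCat.of R N ⟶ F.obj k) = 0 := by
    have h1 : (F ⋙ G).map g y = (0 : ModuleCat.of R N ⟶ F.obj k) :=
      Limits.zero_comp (f := F.map g)
    exact hk.trans h1
  have htop : k.1 = ⊤ := by
    rw [eq_top_iff]
    intro n _
    have := congrArg (fun φ : ModuleCat.of R N ⟶ F.obj k => φ.hom n) hk'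
    change Submodule.factor (show b.1 ≤ k.1 from leOfHom f) (Submodule.mkQ _ n) = 0 at this
    rw [Submodule.mkQ_apply] at this
    erw [Submodule.factor_mk] at this
    rw [Submodule.mkQ_apply, Submodule.Quotient.mk_eq_zero] at this
    exact this
  exact ⟨htop ▸ k.2⟩

end Groth.Agent.S6326
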