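import Groth.Statements.S6328
import Mathlib.Algebra.Colimit.Module
import Mathlib.Algebra.Module.FinitePresentation
import Mathlib.LinearAlgebra.Finsupp.Supported
import Mathlib.LinearAlgebra.Finsupp.LinearCombination

set_option autoImplicit false
universe u
open CAlg

namespace Groth.Agent.S6328

section Construction

open scoped Classical

variable (R : Type u) [CommRing R] (M : Type u) [AddCommGroup M] [Module R M]

/-- The canonical surjection from the free module on `M`. -/
noncomputable def pi : (M →₀ R) →ₗ[R] M := Finsupp.linearCombination R id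

noncomputable abbrev Ker : Submodule R (M →₀ R) := LinearMap.ker (pi R M)

abbrev Idx : Type u := Finset M × Finset (Ker R M)

variable {R M}

noncomputable def gens (i : Idx R M) : Finset M := i.1 ∪ i.2.biUnion (fun b => b.1.support)

noncomputable def W (i : Idx R M) : Submodule R (M →₀ R) :=
  Submodule.span R (Subtype.val '' (i.2 : Set (Ker R M)))

lemma gens_mono {i j : Idx R M} (h : i ≤ j) : gens i ⊆ gens j := by
  intro m hm
  rw [gens, Finset.mem_union, Finset.mem_biUnion] at hm ⊢
  rcases hm with hm | ⟨b, hb, hm⟩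
  · exact Or.inl (h.1 hm)
  · exact Or.inr ⟨b, h.2 hb, hm⟩

lemma W_mono {i j : Idx R M} (h : i ≤ j) : W i ≤ W j :=
  Submodule.span_mono (Set.image_mono (by exact_mod_cast h.2))

lemma W_le_supported (i : Idx R M) : W i ≤ Finsupp.supported R R ↑(gens i) := by
  rw [W, Submodule.span_le]
  rintro _ ⟨b, hb, rfl⟩
  rw [SetLike.mem_coe, Finsupp.mem_supported]
  intro m hm
  rw [Finset.mem_coe, gens, Finset.mem_union, Finset.mem_biUnion]
  exact Or.inr ⟨b, hb, hm⟩

lemma W_le_ker (i : Idx R M) : W i ≤ Ker R M := by
  rw [W, Submodule.span_le]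
  rintro _ ⟨b, _, rfl⟩
  exact b.2

lemma W_fg (i : Idx R M) : (W i).FG :=
  Submodule.fg_span ((Finset.finite_toSet i.2).image _)

/-- The inclusion of the free module on `gens i` into the free module on `M`. -/
noncomputable def incl (i : Idx R M) : (↥(gens i) →₀ R) →ₗ[R] (M →₀ R) :=
  Finsupp.lmapDomain R R Subtype.val

lemma incl_injective (i : Idx R M) : Function.Injective (incl i) :=
  Finsupp.mapDomain_injective Subtype.val_injective

lemma range_incl (i : Idx R M) : LinearMap.range (incl i) = Finsupp.supported R R ↑(gens i) := by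
  rw [← Submodule.map_top, ← Finsupp.supported_univ, incl, Finsupp.lmapDomain_supported]
  congr 1
  simp

/-- Transition maps between the free modules. -/
noncomputable def trans (i j : Idx R M) (h : i ≤ j) : (↥(gens i) →₀ R) →ₗ[R] (↥(gens j) →₀ R) :=
  Finsupp.lmapDomain R R (fun x => ⟨x.1, gens_mono h x.2⟩)

lemma incl_trans (i j : Idx R M) (h : i ≤ j) (x : ↥(gens i) →₀ R) :
    incl j (trans i j h x) = incl i x := by
  simp only [incl, trans, Finsupp.lmapDomain_apply, ← Finsupp.mapDomain_comp]
  rfl

lemma trans_self (i : Idx R M) (x : ↥(gens i) →₀ R) : trans i i le_rfl x = x :=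
  incl_injective i (incl_trans i i le_rfl x)

lemma trans_trans (i j k : Idx R M) (hij : i ≤ j) (hjk : j ≤ k) (x : ↥(gens i) →₀ R) :
    trans j k hjk (trans i j hij x) = trans i k (hij.trans hjk) x :=
  incl_injective k (by rw [incl_trans, incl_trans, incl_trans])

/-- The finitely presented module attached to an index. -/
def G (i : Idx R M) : Type u := (↥(gens i) →₀ R) ⧸ (W i).comap (incl i)

noncomputable instance (i : Idx R M) : AddCommGroup (G i) :=
  inferInstanceAs (AddCommGroup ((↥(gens i) →₀ R) ⧸ (W i).comap (incl i)))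

noncomputable instance (i : Idx R M) : Module R (G i) :=
  inferInstanceAs (Module R ((↥(gens i) →₀ R) ⧸ (W i).comap (incl i)))

/-- The quotient map. -/
noncomputable def mk (i : Idx R M) : (↥(gens i) →₀ R) →ₗ[R] G i :=
  Submodule.mkQ ((W i).comap (incl i))

lemma mk_surjective (i : Idx R M) : Function.Surjective (mk i) :=
  Submodule.mkQ_surjective _

lemma mk_eq_zero (i : Idx R M) (x : ↥(gens i) →₀ R) : mk i x = 0 ↔ incl i x ∈ W i :=
  (Submodule.Quotient.mk_eq_zero ((W i).comap (incl i)) (x := x)).trans Submodule.mem_comap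

lemma ker_mk (i : Idx R M) : LinearMap.ker (mk i) = (W i).comap (incl i) :=
  Submodule.ker_mkQ _

noncomputable def f (i j : Idx R M) (h : i ≤ j) : G i →ₗ[R] G j :=
  Submodule.mapQ ((W i).comap (incl i)) ((W j).comap (incl j)) (trans i j h) (by
    intro x hx
    rw [Submodule.mem_comap] at hx
    rw [Submodule.mem_comap, Submodule.mem_comap, incl_trans]
    exact W_mono h hx)

lemma f_mk (i j : Idx R M) (h : i ≤ j) (x : ↥(gens i) →₀ R) :
    f i j h (mk i x) = mk j (trans i j h x) :=
  rfl

instance : DirectedSystem (G (R := R) (M := M)) fun i j h => f i j h where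
  map_self i x := by
    obtain ⟨x, rfl⟩ := mk_surjective _ x
    rw [f_mk, trans_self]
  map_map k j i hij hjk x := by
    obtain ⟨x, rfl⟩ := mk_surjective _ x
    rw [f_mk, f_mk, f_mk, trans_trans]

lemma finitePresentation_G (i : Idx R M) : Module.FinitePresentation R (G i) := by
  refine Module.finitePresentation_of_surjective (mk i) (mk_surjective i) ?_
  rw [ker_mk]
  refine Submodule.fg_of_fg_map_injective (incl i) (incl_injective i) ?_
  rw [Submodule.map_comap_eq, range_incl, inf_eq_right.2 (W_le_supported i)]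
  exact W_fg i

/-- The map to `M`. -/
noncomputable def g (i : Idx R M) : G i →ₗ[R] M :=
  Submodule.liftQ ((W i).comap (incl i)) ((pi R M).comp (incl i)) (by
    intro x hx
    rw [Submodule.mem_comap] at hx
    exact W_le_ker i hx)

lemma g_mk (i : Idx R M) (x : ↥(gens i) →₀ R) :
    g i (mk i x) = pi R M (incl i x) := rfl

lemma g_f (i j : Idx R M) (h : i ≤ j) (x : G i) : g j (f i j h x) = g i x := by
  obtain ⟨x, rfl⟩ := mk_surjective _ x
  rw [f_mk, g_mk, g_mk, incl_trans]

noncomputable def Phi : Module.DirectLimit (G (R := R) (M := M)) f →ₗ[R] M :=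
  Module.DirectLimit.lift R (Idx R M) G f g g_f

lemma Phi_of (i : Idx R M) (x : G i) : Phi (Module.DirectLimit.of R (Idx R M) G f i x) = g i x :=
  Module.DirectLimit.lift_of _ _ _

lemma Phi_surjective : Function.Surjective (Phi (R := R) (M := M)) := by
  intro m
  let i : Idx R M := ({m}, ∅)
  have hm : m ∈ gens i := by simp [gens, i]
  refine ⟨Module.DirectLimit.of R (Idx R M) G f i
    (mk i (Finsupp.single ⟨m, hm⟩ 1)), ?_⟩
  rw [Phi_of, g_mk]
  simp [pi, incl]

lemma Phi_injective : Function.Injective (Phi (R := R) (M := M)) := by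
  rw [injective_iff_map_eq_zero]
  intro x hx
  obtain ⟨i, y, rfl⟩ := Module.DirectLimit.exists_of x
  obtain ⟨v, rfl⟩ := mk_surjective _ y
  rw [Phi_of, g_mk] at hx
  let b : Ker R M := ⟨incl i v, hx⟩
  let j : Idx R M := (i.1, insert b i.2)
  have hij : i ≤ j := ⟨le_rfl, Finset.subset_insert _ _⟩
  rw [← Module.DirectLimit.of_f (hij := hij), f_mk]
  have : mk j (trans i j hij v) = 0 := by
    rw [mk_eq_zero, incl_trans]
    refine Submodule.subset_span ⟨b, ?_, rfl⟩
    simp [j]
  rw [this, map_zero]

end Construction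


/-- Every module M over a ring R can be written as the direct limit of a directed system (Mᵢ, μᵢⱼ) of
finitely presented R-modules. -/
theorem result (R : Type u) [CommRing R] (M : Type u) [AddCommGroup M] [Module R M] : ∃ (ι : Type u) (_ : Preorder ι) (_ : IsDirected ι (· ≤ ·)) (_ : Nonempty ι) (_ : DecidableEq ι) (G : ι → Type u) (_ : ∀ i, AddCommGroup (G i)) (_ : ∀ i, Module R (G i)) (f : ∀ i j, i ≤ j → G i →ₗ[R] G j) (_ : DirectedSystem G fun i j h => f i j h), (∀ i, Module.FinitePresentation R (G i)) ∧ Nonempty (Module.DirectLimit G f ≃ₗ[R] M) := by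
  classical
  refine ⟨Idx R M, inferInstance, inferInstance, inferInstance, inferInstance, G, inferInstance,
    inferInstance, f, inferInstance, finitePresentation_G, ?_⟩
  exact ⟨LinearEquiv.ofBijective Phi ⟨Phi_injective, Phi_surjective⟩⟩

end Groth.Agent.S6328
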