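import Groth.Statements.S6327
import Groth.Agent.S6328
import Mathlib.Algebra.Category.ModuleCat.Colimits
import Mathlib.Algebra.Category.ModuleCat.Limits
import Mathlib.CategoryTheory.Limits.Types.Filtered
import Mathlib.CategoryTheory.Yoneda
import Mathlib.CategoryTheory.Filtered.Basic

set_option autoImplicit false
universe u
open CategoryTheory CategoryTheory.Limits
open CAlg

namespace Groth.Agent.S6327

/-- Let R be a ring and N an R-module such that whenever M is the colimit of a filtered diagram (Mᵢ) of
R-modules (indexed by a filtered category in the same universe), the comparison map colim Hom_R(N,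
Mᵢ) → Hom_R(N, M) is bijective. Then N is finitely presented. (The implication from finite
presentation back to this bijectivity also holds; only the characterizing direction is stated here.) -/
theorem result (R : Type u) [CommRing R] (N : Type u) [AddCommGroup N] [Module R N] (h : ∀ (J : Type u) [SmallCategory J] [IsFiltered J] (F : J ⥤ ModuleCat.{u} R), Function.Bijective (colimit.post F (coyoneda.obj (Opposite.op (ModuleCat.of R N))))) : Module.FinitePresentation R N := by
  classical
  obtain ⟨ι, _, _, _, _, G, _, _, f, _, hfp, ⟨e⟩⟩ := Groth.Agent.S6328.result R N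
  let F : ι ⥤ ModuleCat.{u} R := ModuleCat.directLimitDiagram G f
  have hF := ModuleCat.directLimitIsColimit G f
  have hsurj := (h ι F).2
  let α : ModuleCat.of R (Module.DirectLimit G f) ≅ colimit F :=
    hF.coconePointUniqueUpToIso (colimit.isColimit F)
  let φ : ModuleCat.of R N ⟶ colimit F := ModuleCat.ofHom e.symm.toLinearMap ≫ α.hom
  obtain ⟨z, hz⟩ := hsurj φ
  obtain ⟨j, s, rfl⟩ := Types.jointly_surjective' z
  have h1 : (s ≫ colimit.ι F j : ModuleCat.of R N ⟶ colimit F) = φ := by
    have := ConcreteCategory.congr_hom
      (colimit.ι_post F (coyoneda.obj (Opposite.op (ModuleCat.of R N))) j) s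
    rw [ConcreteCategory.comp_apply] at this
    rw [this] at hz
    exact hz
  let p : F.obj j ⟶ ModuleCat.of R N := colimit.ι F j ≫ α.inv ≫ ModuleCat.ofHom e.toLinearMap
  have h2 : (s : ModuleCat.of R N ⟶ F.obj j) ≫ p = 𝟙 _ := by
    change s ≫ colimit.ι F j ≫ α.inv ≫ ModuleCat.ofHom e.toLinearMap = 𝟙 _
    rw [← Category.assoc, h1]
    simp only [φ, Category.assoc, Iso.hom_inv_id_assoc]
    ext x
    simp
  let s' : N →ₗ[R] G j := (s : ModuleCat.of R N ⟶ F.obj j).hom
  let p' : G j →ₗ[R] N := p.hom
  have h3 : ∀ x, p' (s' x) = x := fun x => by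
    have := congrArg (fun ψ : ModuleCat.of R N ⟶ ModuleCat.of R N => ψ.hom x) h2
    exact this
  have := hfp j
  refine Module.finitePresentation_of_surjective p' (fun x => ⟨s' x, h3 x⟩) ?_
  have hker : LinearMap.ker p' = LinearMap.range (LinearMap.id - s' ∘ₗ p') := by
    ext x
    simp only [LinearMap.mem_ker, LinearMap.mem_range, LinearMap.sub_apply, LinearMap.id_apply,
      LinearMap.comp_apply]
    constructor
    · intro hx
      exact ⟨x, by rw [hx, map_zero, sub_zero]⟩
    · rintro ⟨y, rfl⟩
      rw [map_sub, h3, sub_self]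
  rw [hker, LinearMap.range_eq_map]
  exact Submodule.FG.map _ Module.Finite.fg_top

end Groth.Agent.S6327
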