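import Groth.Statements.S6331
import Mathlib.Dynamics.Newton
import Mathlib.RingTheory.Nilpotent.Lemmas

set_option autoImplicit false
universe u
open CAlg

namespace Groth.Agent.S6331

open Polynomial

lemma aeval_pow_sub_C {A : Type*} [CommRing A] (n : ℕ) (a r : A) :
    aeval r (X ^ n - C a : A[X]) = r ^ n - a := by
  simp

lemma aeval_derivative_pow_sub_C {A : Type*} [CommRing A] (n : ℕ) (a r : A) :
    aeval r (derivative (X ^ n - C a : A[X])) = (n : A) * r ^ (n - 1) := by
  simp [derivative_X_pow]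

/-- Let R be a ring, I ⊆ R an ideal all of whose elements are nilpotent, and n ≥ 1 an integer whose
image in R/I is invertible. Then (1) raising to the n-th power is a bijection of the subset 1 + I of
R onto itself: for every y ∈ I there is exactly one x ∈ I with (1 + x)ⁿ = 1 + y; (2) a unit u of R
has an n-th root in R exactly when the residue class of u has an n-th root in R/I. -/
theorem result {R : Type u} [CommRing R] (I : Ideal R) (hI : ∀ x ∈ I, IsNilpotent x) (n : ℕ) (hn : 1 ≤ n) (hinv : IsUnit ((n : ℕ) : R ⧸ I)) : (∀ y ∈ I, ∃! x : R, x ∈ I ∧ (1 + x) ^ n = 1 + y) ∧ (∀ u : Rˣ, (∃ v : R, v ^ n = (u : R)) ↔ ∃ w : R ⧸ I, w ^ n = Ideal.Quotient.mk I (u : R)) := by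
  have hnil : ∀ a b : R, a - b ∈ I → IsUnit b → IsUnit a := by
    intro a b hab hb
    have : a = b + (a - b) := by ring
    rw [this]
    exact (hI _ hab).isUnit_add_left_of_commute hb (Commute.all _ _)
  -- `n` is a unit in `R`
  have hnR : IsUnit (n : R) := by
    obtain ⟨w, hw⟩ := hinv.exists_right_inv
    obtain ⟨m, rfl⟩ := Ideal.Quotient.mk_surjective w
    have h1 : (n : R) * m - 1 ∈ I := by
      rw [← Ideal.Quotient.eq]
      simpa using hw
    have h2 : IsUnit ((n : R) * m) := hnil _ _ h1 isUnit_one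
    exact isUnit_of_mul_isUnit_left h2
  have hn0 : n ≠ 0 := by omega
  refine ⟨fun y hy ↦ ?_, fun u ↦ ⟨?_, ?_⟩⟩
  · -- Newton in `R`
    have hN := existsUnique_nilpotent_sub_and_aeval_eq_zero (R := R) (S := R)
      (P := X ^ n - C (1 + y)) (x := 1)
      (by rw [aeval_pow_sub_C]; simpa using hI _ hy)
      (by rw [aeval_derivative_pow_sub_C]; simpa using hnR)
    obtain ⟨r, ⟨hr1, hr2⟩, hr3⟩ := hN
    rw [aeval_pow_sub_C, sub_eq_zero] at hr2
    -- Newton in `R ⧸ I` for uniqueness
    have hN' := existsUnique_nilpotent_sub_and_aeval_eq_zero (R := R ⧸ I) (S := R ⧸ I)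
      (P := X ^ n - C 1) (x := 1)
      (by rw [aeval_pow_sub_C]; simp)
      (by rw [aeval_derivative_pow_sub_C]; simpa using hinv)
    have hrI : r - 1 ∈ I := by
      rw [← Ideal.Quotient.eq]
      have e1 : IsNilpotent ((1 : R ⧸ I) - Ideal.Quotient.mk I r) ∧
          aeval (Ideal.Quotient.mk I r) (X ^ n - C 1 : (R ⧸ I)[X]) = 0 := by
        refine ⟨?_, ?_⟩
        · have := hr1.map (Ideal.Quotient.mk I)
          simpa using this
        · rw [aeval_pow_sub_C, ← map_pow, hr2, sub_eq_zero, map_add,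
            Ideal.Quotient.eq_zero_iff_mem.mpr hy]
          simp
      have e2 : IsNilpotent ((1 : R ⧸ I) - 1) ∧
          aeval (1 : R ⧸ I) (X ^ n - C 1 : (R ⧸ I)[X]) = 0 := by
        refine ⟨by simp, ?_⟩
        rw [aeval_pow_sub_C]; simp
      have := hN'.unique e1 e2
      simpa using this
    refine ⟨r - 1, ⟨hrI, by rw [add_sub_cancel]; exact hr2⟩, ?_⟩
    rintro x ⟨hxI, hx⟩
    have : 1 + x = r := by
      apply hr3
      refine ⟨?_, ?_⟩
      · have : (1 : R) - (1 + x) = -x := by ring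
        rw [this]
        exact (hI _ hxI).neg
      · rw [aeval_pow_sub_C, hx, sub_self]
    rw [← this]; ring
  · rintro ⟨v, hv⟩
    exact ⟨Ideal.Quotient.mk I v, by rw [← map_pow, hv]⟩
  · rintro ⟨w, hw⟩
    obtain ⟨v₀, rfl⟩ := Ideal.Quotient.mk_surjective w
    have h1 : v₀ ^ n - (u : R) ∈ I := by
      rw [← Ideal.Quotient.eq, map_pow]
      exact hw
    have hv₀n : IsUnit (v₀ ^ n) := hnil _ _ h1 u.isUnit
    have hv₀ : IsUnit v₀ := (isUnit_pow_iff hn0).mp hv₀n
    have hN := existsUnique_nilpotent_sub_and_aeval_eq_zero (R := R) (S := R)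
      (P := X ^ n - C (u : R)) (x := v₀)
      (by rw [aeval_pow_sub_C]; exact hI _ h1)
      (by rw [aeval_derivative_pow_sub_C]; exact hnR.mul (hv₀.pow _))
    obtain ⟨r, ⟨-, hr2⟩, -⟩ := hN
    rw [aeval_pow_sub_C, sub_eq_zero] at hr2
    exact ⟨r, hr2⟩

end Groth.Agent.S6331
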