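import Groth.Statements.S6332
-- import your own Groth.Agent.* helpers here

set_option autoImplicit false
universe u
open Fields

namespace Groth.Agent.S6332

open IntermediateField in
/-- Let L/K be a finite Galois extension of fields of characteristic p > 0 whose degree equals the prime
p (equivalently, the Galois group is cyclic of order p). Then there is an element z of L with z ^ p
- z in K which generates L over K. -/
theorem result {K L : Type u} [Field K] [Field L] [Algebra K L] (p : ℕ)
    [Fact p.Prime] [CharP K p] [FiniteDimensional K L] [IsGalois K L]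
    (hdeg : Module.finrank K L = p) :
    ∃ z : L, z ^ p - z ∈ Set.range (algebraMap K L) ∧ K⟮z⟯ = ⊤ := by
  classical
  have hp : p.Prime := Fact.out
  have hcard : Nat.card (L ≃ₐ[K] L) = p := by rw [IsGalois.card_aut_eq_finrank, hdeg]
  have hL : CharP L p := charP_of_injective_algebraMap (algebraMap K L).injective p
  obtain ⟨σ, hσ⟩ : ∃ σ : L ≃ₐ[K] L, σ ≠ 1 := by
    have : Nontrivial (L ≃ₐ[K] L) := by
      rw [← Finite.one_lt_card_iff_nontrivial, hcard]; exact hp.one_lt
    exact exists_ne 1
  have hfix : ∀ x : L, σ x = x → x ∈ Set.range (algebraMap K L) := by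
    intro x hx
    rw [IsGalois.mem_range_algebraMap_iff_fixed]
    intro τ
    obtain ⟨k, rfl⟩ := mem_powers_of_prime_card hcard hσ (g' := τ)
    change (σ ^ k) x = x
    induction k with
    | zero => simp
    | succ k ih => rw [pow_succ, AlgEquiv.mul_apply, hx, ih]
  let N : Module.End K L := σ.toLinearMap - 1
  have hN : ∀ x, N x = σ x - x := fun x => rfl
  have hNp : N ^ p = 0 := by
    have hch : CharP (Module.End K L) p :=
      charP_of_injective_algebraMap (algebraMap K (Module.End K L)).injective p
    have hcomm : Commute (σ.toLinearMap : Module.End K L) 1 := Commute.one_right _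
    rw [sub_pow_char_of_commute p hcomm, one_pow, sub_eq_zero, ← AlgEquiv.pow_toLinearMap]
    have : σ ^ p = 1 := by rw [← hcard]; exact pow_card_eq_one'
    rw [this]; rfl
  -- some `x₀` not fixed by `σ`
  obtain ⟨x₀, hx₀⟩ : ∃ x₀ : L, N x₀ ≠ 0 := by
    by_contra hcon
    push Not at hcon
    apply hσ
    ext x
    have := hcon x
    rw [hN, sub_eq_zero] at this
    simpa using this
  have hex : ∃ k, (N ^ k) (N x₀) = 0 := ⟨p, by rw [hNp]; rfl⟩
  let k := Nat.find hex
  have hk : (N ^ k) (N x₀) = 0 := Nat.find_spec hex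
  have hk0 : k ≠ 0 := by
    intro h0
    rw [h0, pow_zero] at hk
    exact hx₀ hk
  obtain ⟨j, hj⟩ : ∃ j, k = j + 1 := ⟨k - 1, by omega⟩
  have hjmin : (N ^ j) (N x₀) ≠ 0 := Nat.find_min hex (by omega : j < k)
  set w := (N ^ j) (N x₀) with hw
  have hNw : N w = 0 := by
    rw [hw, ← Module.End.mul_apply, ← pow_succ', ← hj]; exact hk
  have hwz : w = N ((N ^ j) x₀) := by
    rw [hw, ← Module.End.mul_apply, ← Module.End.mul_apply, ← pow_succ, ← pow_succ']
  obtain ⟨c, hc⟩ := hfix w (by rw [hN, sub_eq_zero] at hNw; exact hNw)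
  have hc0 : c ≠ 0 := by
    rintro rfl
    rw [map_zero] at hc
    exact hjmin hc.symm
  let z : L := c⁻¹ • (N ^ j) x₀
  have hz : σ z = z + 1 := by
    have : N z = 1 := by
      rw [map_smul, ← hwz, ← hc, Algebra.smul_def, ← map_mul, inv_mul_cancel₀ hc0, map_one]
    rw [hN, sub_eq_iff_eq_add] at this
    rw [this, add_comm]
  refine ⟨z, hfix _ ?_, ?_⟩
  · rw [map_sub, map_pow, hz, add_pow_char, one_pow]; ring
  · have hdvd : Module.finrank K K⟮z⟯ ∣ p := by
      have := IntermediateField.finrank_dvd_of_le_right (le_top : K⟮z⟯ ≤ ⊤)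
      rwa [IntermediateField.finrank_top', hdeg] at this
    have hne1 : Module.finrank K K⟮z⟯ ≠ 1 := by
      rw [Ne, IntermediateField.finrank_eq_one_iff, IntermediateField.adjoin_simple_eq_bot_iff,
        IntermediateField.mem_bot, IsGalois.mem_range_algebraMap_iff_fixed]
      intro h
      have := h σ
      rw [hz] at this
      simp at this
    have hp' : Module.finrank K K⟮z⟯ = p := ((Nat.dvd_prime hp).mp hdvd).resolve_left hne1
    apply IntermediateField.eq_of_le_of_finrank_eq le_top
    rw [IntermediateField.finrank_top', hdeg, hp']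

end Groth.Agent.S6332
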