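import Groth.Statements.S6333
import Mathlib.RingTheory.AlgebraicIndependent.AlgebraicClosure
import Mathlib.RingTheory.AlgebraicIndependent.TranscendenceBasis
import Mathlib.RingTheory.Localization.Module
import Mathlib.FieldTheory.IntermediateField.Adjoin.Algebra
import Mathlib.LinearAlgebra.Dimension.Free
import Mathlib.LinearAlgebra.Dimension.Finite

set_option autoImplicit false
universe u
open Fields

namespace Groth.Agent.S6333

open scoped IntermediateField.algebraAdjoinAdjoin in
/-- Elements of the algebraic closure of `k` in `K` that are linearly independent over `k` stay
linearly independent over `k(t)` for an algebraically independent family `t`. -/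
theorem linearIndependent_adjoin_of_algebraicIndependent {k K : Type u} [Field k] [Field K]
    [Algebra k K] {ι : Type*} (t : ι → K) (ht : AlgebraicIndependent k t) {n : ℕ}
    (a : Fin n → algebraicClosure k K) (ha : LinearIndependent k a) :
    LinearIndependent (IntermediateField.adjoin k (Set.range t)) (fun i => (a i : K)) := by
  classical
  have htL : AlgebraicIndependent (algebraicClosure k K) t := ht.algebraicClosure
  have hA : LinearIndependent (Algebra.adjoin k (Set.range t)) (fun i => (a i : K)) := by
    rw [Fintype.linearIndependent_iff]
    intro g hg
    have hgmem : ∀ i, ∃ p : MvPolynomial ι k, MvPolynomial.aeval t p = (g i : K) := by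
      intro i
      have h0 : ∀ x ∈ Algebra.adjoin k (Set.range t), ∃ p : MvPolynomial ι k,
          MvPolynomial.aeval t p = x := by
        intro x hx
        rw [Algebra.adjoin_range_eq_range_aeval] at hx
        exact hx
      exact h0 _ (g i).2
    choose p hp using hgmem
    let P : MvPolynomial ι (algebraicClosure k K) :=
      ∑ i, MvPolynomial.C (a i) * MvPolynomial.map (algebraMap k (algebraicClosure k K)) (p i)
    have hP : MvPolynomial.aeval t P = 0 := by
      simp only [P, map_sum, map_mul, MvPolynomial.aeval_C, MvPolynomial.aeval_map_algebraMap, hp]
      rw [← hg]
      refine Finset.sum_congr rfl fun i _ => ?_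
      rw [mul_comm]
      rfl
    have hP0 : P = 0 := htL.eq_zero_of_aeval_eq_zero P hP
    have hcoef : ∀ m i, (p i).coeff m = 0 := by
      intro m
      have h1 : P.coeff m = 0 := by rw [hP0]; simp
      simp only [P, MvPolynomial.coeff_sum, MvPolynomial.coeff_C_mul, MvPolynomial.coeff_map] at h1
      have h2 : ∑ i, (p i).coeff m • a i = 0 := by
        rw [← h1]
        refine Finset.sum_congr rfl fun i _ => ?_
        rw [Algebra.smul_def, mul_comm]
      exact Fintype.linearIndependent_iff.mp ha _ h2
    intro i
    have hpi : p i = 0 := MvPolynomial.ext _ _ fun m => by rw [hcoef m i]; simp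
    apply Subtype.ext
    rw [← hp i, hpi, map_zero]
    rfl
  exact LinearIndependent.localization (R := Algebra.adjoin k (Set.range t))
    (IntermediateField.adjoin k (Set.range t))
    (nonZeroDivisors (Algebra.adjoin k (Set.range t))) hA

/-- For a finitely generated field extension K/k, the algebraic closure of k inside K is a finite
extension of k. -/
theorem result {k K : Type u} [Field k] [Field K] [Algebra k K]
    (hfg : (⊤ : IntermediateField k K).FG) :
    FiniteDimensional k (algebraicClosure k K) := by
  classical
  obtain ⟨ι, t, ht⟩ := exists_isTranscendenceBasis' k K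
  have halg : Algebra.IsAlgebraic (IntermediateField.adjoin k (Set.range t)) K :=
    ht.isAlgebraic_field
  obtain ⟨S, hS⟩ := hfg
  have htop : IntermediateField.adjoin (IntermediateField.adjoin k (Set.range t))
      ((S : Set K)) = ⊤ := by
    rw [← IntermediateField.restrictScalars_eq_top_iff (K := k), eq_top_iff, ← hS,
      IntermediateField.adjoin_le_iff]
    intro x hx
    exact IntermediateField.subset_adjoin _ _ hx
  have hfin : FiniteDimensional (IntermediateField.adjoin k (Set.range t)) K := by
    have h1 : FiniteDimensional (IntermediateField.adjoin k (Set.range t))
        (IntermediateField.adjoin (IntermediateField.adjoin k (Set.range t)) ((S : Set K))) :=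
      IntermediateField.finiteDimensional_adjoin
        (fun x _ => (Algebra.IsAlgebraic.isAlgebraic x).isIntegral)
    rw [htop] at h1
    exact (IntermediateField.topEquiv (F := IntermediateField.adjoin k (Set.range t))
      (E := K)).toLinearEquiv.finiteDimensional
  have hrank : Module.rank k (algebraicClosure k K) ≤
      (Module.finrank (IntermediateField.adjoin k (Set.range t)) K : ℕ) := by
    apply rank_le
    intro s hs
    -- reindex by `Fin s.card`
    let e : Fin s.card ≃ s := (Finset.equivFin s).symm
    have hs' : LinearIndependent k (fun i : Fin s.card => ((e i : s) : algebraicClosure k K)) :=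
      hs.comp e e.injective
    have := linearIndependent_adjoin_of_algebraicIndependent t ht.1 _ hs'
    simpa using this.fintype_card_le_finrank
  show Module.Finite k (algebraicClosure k K)
  rw [← Module.rank_lt_aleph0_iff]
  exact lt_of_le_of_lt hrank (Cardinal.natCast_lt_aleph0)

end Groth.Agent.S6333
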