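import Groth.Statements.S6334
-- import your own Groth.Agent.* helpers here

set_option autoImplicit false
universe u
open Fields

namespace Groth.Agent.S6334

open IntermediateField Polynomial in
theorem step_finrank {F E : Type u} [Field F] [Field E] [Algebra F E] (p : ℕ)
    [Fact p.Prime] [CharP F p] [FiniteDimensional F E] (K : IntermediateField F E) (y : E)
    (hy : y ∉ K) (hyp : y ^ p ∈ K) : Module.finrank K K⟮y⟯ = p := by
  have hp : p.Prime := Fact.out
  have : CharP E p := charP_of_injective_algebraMap (algebraMap F E).injective p
  have hirr : Irreducible (X ^ p - C (⟨y ^ p, hyp⟩ : K)) := by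
    apply X_pow_sub_C_irreducible_of_prime hp
    intro b hb
    apply hy
    have h1 : (b : E) ^ p = y ^ p := congrArg Subtype.val hb
    have h2 : (b : E) = y := frobenius_inj E p h1
    rw [← h2]; exact b.2
  have hmin : minpoly K y = X ^ p - C (⟨y ^ p, hyp⟩ : K) := by
    symm
    apply minpoly.eq_of_irreducible_of_monic hirr
    · simp only [map_sub, map_pow, aeval_X, aeval_C]
      exact sub_self _
    · exact monic_X_pow_sub_C _ hp.ne_zero
  rw [adjoin.finrank (IsIntegral.of_finite K y), hmin, natDegree_X_pow_sub_C]

/-- The chain property. -/
def P {F E : Type u} [Field F] [Field E] [Algebra F E] (p : ℕ) (K : IntermediateField F E) : Prop :=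
  ∃ (n : ℕ) (a : Fin n → E), IntermediateField.adjoin F (Set.range a) = K ∧
      (∀ i : Fin n, a i ^ p ∈ IntermediateField.adjoin F (a '' {j | j < i}) ∧
        a i ∉ IntermediateField.adjoin F (a '' {j | j < i})) ∧
      Module.finrank F K = p ^ n

open IntermediateField in
theorem step {F E : Type u} [Field F] [Field E] [Algebra F E] (p : ℕ)
    [Fact p.Prime] [CharP F p] [FiniteDimensional F E] (K : IntermediateField F E) (y : E)
    (hy : y ∉ K) (hyp : y ^ p ∈ K) (hK : P p K) : P p (K⟮y⟯.restrictScalars F) := by
  obtain ⟨n, a, rfl, hchain, hfr⟩ := hK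
  refine ⟨n + 1, Fin.snoc (α := fun _ => E) a y, ?_, ?_, ?_⟩
  · rw [adjoin_adjoin_left]
    congr 1
    ext z
    simp only [Set.mem_range, Set.union_singleton, Set.mem_insert_iff]
    constructor
    · rintro ⟨i, rfl⟩
      induction i using Fin.lastCases with
      | last => left; simp
      | cast j => right; exact ⟨j, by simp⟩
    · rintro (rfl | ⟨j, rfl⟩)
      · exact ⟨Fin.last n, by simp⟩
      · exact ⟨j.castSucc, by simp⟩
  · intro i
    induction i using Fin.lastCases with
    | last =>
      have hset : (Fin.snoc (α := fun _ => E) a y) '' {j | j < Fin.last n} = Set.range a := by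
        ext z
        simp only [Set.mem_image, Set.mem_setOf_eq, Set.mem_range]
        constructor
        · rintro ⟨k, hk, rfl⟩
          induction k using Fin.lastCases with
          | last => exact absurd hk (lt_irrefl _)
          | cast j => exact ⟨j, by simp⟩
        · rintro ⟨j, rfl⟩
          exact ⟨j.castSucc, Fin.castSucc_lt_last j, by simp⟩
      rw [hset]
      simp only [Fin.snoc_last]
      exact ⟨hyp, hy⟩
    | cast j =>
      have hset : (Fin.snoc (α := fun _ => E) a y) '' {k | k < j.castSucc} = a '' {k | k < j} := by
        ext z
        simp only [Set.mem_image, Set.mem_setOf_eq]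
        constructor
        · rintro ⟨k, hk, rfl⟩
          induction k using Fin.lastCases with
          | last => exact absurd hk (not_lt.mpr (Fin.le_last _))
          | cast k' => exact ⟨k', by simpa using hk, by simp⟩
        · rintro ⟨k, hk, rfl⟩
          exact ⟨k.castSucc, by simpa using hk, by simp⟩
      rw [hset]
      simp only [Fin.snoc_castSucc]
      exact hchain j
  · have h1 := Module.finrank_mul_finrank F (adjoin F (Set.range a)) (adjoin F (Set.range a))⟮y⟯
    rw [step_finrank p _ y hy hyp, hfr] at h1
    rw [pow_succ]
    exact h1.symm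

open IntermediateField in
/-- Let E/F be a finite purely inseparable extension of fields of characteristic p > 0. Then there are
elements a_1, ..., a_n of E generating E over F such that for each i the p-th power of a_i lies in
F(a_1, ..., a_{i-1}) while a_i itself does not (so each step adjoins a p-th root and has degree p);
in particular [E : F] = p ^ n. -/
theorem result {F E : Type u} [Field F] [Field E] [Algebra F E] (p : ℕ)
    [Fact p.Prime] [CharP F p] [FiniteDimensional F E] [IsPurelyInseparable F E] :
    ∃ (n : ℕ) (a : Fin n → E), adjoin F (Set.range a) = ⊤ ∧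
      (∀ i : Fin n, a i ^ p ∈ adjoin F (a '' {j | j < i}) ∧ a i ∉ adjoin F (a '' {j | j < i})) ∧
      Module.finrank F E = p ^ n := by
  have hp : p.Prime := Fact.out
  have key : ∀ d : ℕ, ∀ K : IntermediateField F E,
      Module.finrank F E - Module.finrank F K = d → P p K → P p (⊤ : IntermediateField F E) := by
    intro d
    induction d using Nat.strong_induction_on with
    | _ d ih =>
      intro K hd hK
      by_cases hKtop : K = ⊤
      · rw [← hKtop]; exact hK
      · obtain ⟨x, hx⟩ : ∃ x : E, x ∉ K := by
          by_contra hcon
          push_neg at hcon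
          exact hKtop (eq_top_iff.mpr fun x _ => hcon x)
        have hex : ∃ k : ℕ, x ^ p ^ k ∈ K := by
          obtain ⟨k, y, hy⟩ := IsPurelyInseparable.pow_mem F p x
          exact ⟨k, hy ▸ K.algebraMap_mem y⟩
        classical
        have hk0 : Nat.find hex ≠ 0 := by
          intro h0
          have := Nat.find_spec hex
          rw [h0] at this
          simp only [pow_zero, pow_one] at this
          exact hx this
        obtain ⟨k, hk⟩ := Nat.exists_eq_succ_of_ne_zero hk0
        have hy : x ^ p ^ k ∉ K := Nat.find_min hex (by omega)
        have hyp : (x ^ p ^ k) ^ p ∈ K := by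
          have := Nat.find_spec hex
          rw [hk, Nat.succ_eq_add_one, pow_succ, pow_mul] at this
          exact this
        have hK' := step p K _ hy hyp hK
        have hfr := Module.finrank_mul_finrank F K K⟮x ^ p ^ k⟯
        rw [step_finrank p K _ hy hyp] at hfr
        have hle : Module.finrank F (K⟮x ^ p ^ k⟯.restrictScalars F) ≤ Module.finrank F E :=
          (K⟮x ^ p ^ k⟯.restrictScalars F).toSubmodule.finrank_le
        have hpos : 0 < Module.finrank F K := Module.finrank_pos
        have hlt : Module.finrank F K < Module.finrank F (K⟮x ^ p ^ k⟯.restrictScalars F) := by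
          have h2 : Module.finrank F (K⟮x ^ p ^ k⟯.restrictScalars F) = Module.finrank F K * p :=
            hfr.symm
          rw [h2]
          exact lt_mul_of_one_lt_right hpos hp.one_lt
        exact ih _ (by omega) _ rfl hK'
  have hbot : P p (⊥ : IntermediateField F E) := by
    refine ⟨0, Fin.elim0, ?_, fun i => i.elim0, ?_⟩
    · simp
    · simp
  obtain ⟨n, a, h1, h2, h3⟩ := key _ ⊥ rfl hbot
  exact ⟨n, a, h1, h2, by rw [← h3, IntermediateField.finrank_top']⟩

end Groth.Agent.S6334
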