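import Groth.Statements.S6335
import Mathlib.FieldTheory.PurelyInseparable.PerfectClosure
import Mathlib.FieldTheory.SeparableClosure
import Mathlib.FieldTheory.IsAlgClosed.AlgebraicClosure
import Mathlib.Algebra.CharP.Lemmas

set_option autoImplicit false
universe u
open Fields

namespace Groth.Agent.S6335

/-- Let K be a field of characteristic p > 0, L/K a separable algebraic extension and a an element of L.
If a is a root of a polynomial P over K which is separable (pairwise distinct roots in an algebraic
closure) and all of whose coefficients are p-th powers in K, then a is a p-th power in L. (Part (1),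
the case where P is the minimal polynomial of a, is a special case.) -/
theorem result {K L : Type u} [Field K] [Field L] [Algebra K L]
    (p : ℕ) [Fact p.Prime] [CharP K p] [Algebra.IsSeparable K L] (a : L) (P : Polynomial K)
    (hroot : Polynomial.aeval a P = 0) (hsep : P.Separable) (hcoeff : ∀ i : ℕ, ∃ b : K, b ^ p = P.coeff i) :
    ∃ c : L, c ^ p = a := by
  classical
  have hp : p.Prime := Fact.out
  have : ExpChar K p := ExpChar.prime hp
  have : CharP L p := charP_of_injective_algebraMap (algebraMap K L).injective p
  have : ExpChar L p := ExpChar.prime hp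
  have : CharP (AlgebraicClosure L) p :=
    charP_of_injective_algebraMap (algebraMap L (AlgebraicClosure L)).injective p
  have : ExpChar (AlgebraicClosure L) p := ExpChar.prime hp
  choose b hb using hcoeff
  let Q : Polynomial K := ∑ i ∈ Finset.range (P.natDegree + 1), Polynomial.monomial i (b i)
  have hQcoeff : ∀ i, Q.coeff i = if i < P.natDegree + 1 then b i else 0 := by
    intro i
    simp only [Q, Polynomial.finsetSum_coeff, Polynomial.coeff_monomial]
    rw [Finset.sum_ite_eq' (Finset.range (P.natDegree + 1)) i b]
    simp
  have hQP : Q.map (frobenius K p) = P := by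
    ext i
    rw [Polynomial.coeff_map, hQcoeff]
    split_ifs with h
    · rw [frobenius_def, hb]
    · rw [map_zero]
      exact (Polynomial.coeff_eq_zero_of_natDegree_lt (by omega)).symm
  have hQsep : Q.Separable := by
    rw [← Polynomial.separable_map (frobenius K p), hQP]; exact hsep
  obtain ⟨c, hc⟩ := IsAlgClosed.exists_pow_nat_eq (algebraMap L (AlgebraicClosure L) a) hp.pos
  have hQc : Polynomial.aeval c Q = 0 := by
    have h1 : (Polynomial.aeval c Q) ^ p = 0 := by
      have e1 : Polynomial.aeval c Q = ∑ i ∈ Finset.range (P.natDegree + 1),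
          algebraMap K (AlgebraicClosure L) (b i) * c ^ i := by
        simp only [Q, map_sum, Polynomial.aeval_monomial]
      rw [e1, sum_pow_char]
      have e2 : ∀ i ∈ Finset.range (P.natDegree + 1),
          (algebraMap K (AlgebraicClosure L) (b i) * c ^ i) ^ p =
            algebraMap K (AlgebraicClosure L) (P.coeff i) *
              (algebraMap L (AlgebraicClosure L) a) ^ i := by
        intro i _
        rw [mul_pow, ← map_pow, hb, ← pow_mul, mul_comm i p, pow_mul, hc]
      rw [Finset.sum_congr rfl e2]
      have e3 : Polynomial.aeval (algebraMap L (AlgebraicClosure L) a) P =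
          ∑ i ∈ Finset.range (P.natDegree + 1), algebraMap K (AlgebraicClosure L) (P.coeff i) *
            (algebraMap L (AlgebraicClosure L) a) ^ i := by
        rw [Polynomial.aeval_eq_sum_range]
        simp only [Algebra.smul_def]
      rw [← e3, Polynomial.aeval_algebraMap_apply, hroot, map_zero]
    exact pow_eq_zero_iff hp.ne_zero |>.mp h1
  have hcsepK : IsSeparable K c := by
    have hQ0 : Q ≠ 0 := hQsep.ne_zero
    exact hQsep.of_dvd (minpoly.dvd K c hQc)
  have hcsepL : IsSeparable L c := hcsepK.tower_top L
  have h1 : c ∈ separableClosure L (AlgebraicClosure L) := mem_separableClosure_iff.mpr hcsepL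
  have h2 : c ∈ perfectClosure L (AlgebraicClosure L) :=
    (mem_perfectClosure_iff_pow_mem p).mpr ⟨1, by rw [pow_one, hc]; exact ⟨a, rfl⟩⟩
  have h3 : c ∈ (⊥ : IntermediateField L (AlgebraicClosure L)) := by
    rw [← separableClosure_inf_perfectClosure]; exact ⟨h1, h2⟩
  obtain ⟨c', hc'⟩ := IntermediateField.mem_bot.mp h3
  refine ⟨c', (algebraMap L (AlgebraicClosure L)).injective ?_⟩
  rw [map_pow, hc', hc]

end Groth.Agent.S6335
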