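import Groth.Statements.S6336
-- import your own Groth.Agent.* helpers here

set_option autoImplicit false
universe u
open Fields

namespace Groth.Agent.S6336

open IntermediateField Polynomial in
/-- With an added hypothesis: let L/K be a finite extension of degree e generated by a single element a
whose e-th power lies in K, and assume that the polynomial X ^ e - 1 splits into linear factors over
K (so every e-th root of unity of any extension of K already lies in K; this holds when K contains a
primitive e-th root of unity, and when e is a power of the characteristic). Then every intermediate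
field of L/K is generated by a ^ d for some divisor d of e. (The published statement has no
hypothesis on roots of unity; for K the rationals and a a primitive 8-th root of unity, e = 4 and a
^ 4 = -1, the intermediate field generated by a + a⁻¹, a square root of 2, is none of K(a), K(a ^
2), K(a ^ 4); the published proof uses that the e-th roots of unity met are fixed by the
automorphisms it constructs, which the splitting hypothesis guarantees.) -/
theorem result {K L : Type u} [Field K] [Field L] [Algebra K L]
    [FiniteDimensional K L] (a : L) (ha : K⟮a⟯ = ⊤)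
    (hpow : a ^ Module.finrank K L ∈ Set.range (algebraMap K L))
    (hroots : (X ^ Module.finrank K L - 1 : K[X]).Splits) (L' : IntermediateField K L) :
    ∃ d : ℕ, d ∣ Module.finrank K L ∧ L' = K⟮a ^ d⟯ := by
  classical
  have he_pos : 0 < Module.finrank K L := Module.finrank_pos
  by_cases ha0 : a = 0
  · refine ⟨1, one_dvd _, ?_⟩
    rw [pow_one, ha, eq_top_iff, ← ha, ha0, adjoin_simple_le_iff]
    exact zero_mem _
  -- main case
  have halg : IsIntegral L' a := IsIntegral.of_finite L' a
  have hm_pos : 0 < (minpoly L' a).natDegree := minpoly.natDegree_pos halg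
  have hgmonic : (minpoly L' a).Monic := minpoly.monic halg
  obtain ⟨c, hc⟩ := hpow
  have hdvd : minpoly L' a ∣ X ^ Module.finrank K L - C (algebraMap K L' c) := by
    apply minpoly.dvd
    simp only [map_sub, map_pow, aeval_X, aeval_C]
    rw [← IsScalarTower.algebraMap_apply, hc, sub_self]
  have hdvdL : (minpoly L' a).map (algebraMap L' L) ∣ X ^ Module.finrank K L -
      C (a ^ Module.finrank K L) := by
    have := Polynomial.map_dvd (algebraMap L' L) hdvd
    rw [Polynomial.map_sub, Polynomial.map_pow, Polynomial.map_X, Polynomial.map_C,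
      ← IsScalarTower.algebraMap_apply, hc] at this
    exact this
  have hsplit : (X ^ Module.finrank K L - C (a ^ Module.finrank K L) : L[X]).Splits := by
    have h1 : ((X ^ Module.finrank K L - 1 : K[X]).map (algebraMap K L)).Splits := hroots.map _
    have h2 := h1.comp_of_natDegree_le_one (g := C a⁻¹ * X) ((natDegree_C_mul_le _ _).trans natDegree_X_le)
    have h3 := h2.C_mul (a ^ Module.finrank K L)
    convert h3 using 1
    simp only [Polynomial.map_sub, Polynomial.map_pow, Polynomial.map_X, Polynomial.map_one,
      sub_comp, pow_comp, X_comp, one_comp, mul_pow, mul_sub, mul_one, ← C_pow, ← mul_assoc,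
      ← C_mul]
    rw [inv_pow, mul_inv_cancel₀ (pow_ne_zero _ ha0), C_1, one_mul]
  have hne : (X ^ Module.finrank K L - C (a ^ Module.finrank K L) : L[X]) ≠ 0 :=
    X_pow_sub_C_ne_zero he_pos _
  have hgLsplit : ((minpoly L' a).map (algebraMap L' L)).Splits := hsplit.of_dvd hne hdvdL
  have hgLmonic : ((minpoly L' a).map (algebraMap L' L)).Monic := hgmonic.map _
  have hroots_form : ∀ r ∈ ((minpoly L' a).map (algebraMap L' L)).roots,
      ∃ z : K, z ≠ 0 ∧ r = algebraMap K L z * a := by
    intro r hr
    have hr' : (X ^ Module.finrank K L - C (a ^ Module.finrank K L) : L[X]).IsRoot r :=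
      ((mem_roots hgLmonic.ne_zero).mp hr).dvd hdvdL
    have hre : r ^ Module.finrank K L = a ^ Module.finrank K L := by
      simpa [sub_eq_zero] using hr'
    have hz : ((X ^ Module.finrank K L - 1 : K[X]).map (algebraMap K L)).IsRoot (r / a) := by
      simp [div_pow, hre, ha0]
    obtain ⟨z, hz'⟩ := hroots.mem_range_of_isRoot (X_pow_sub_C_ne_zero he_pos 1) hz
    have hr0 : r ≠ 0 := by
      rintro rfl
      rw [zero_pow he_pos.ne'] at hre
      exact pow_ne_zero _ ha0 hre.symm
    refine ⟨z, ?_, ?_⟩
    · rintro rfl
      rw [map_zero] at hz'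
      exact div_ne_zero hr0 ha0 hz'.symm
    · rw [hz']; field_simp
  have hprod : ∀ s : Multiset L, (∀ r ∈ s, ∃ z : K, z ≠ 0 ∧ r = algebraMap K L z * a) →
      ∃ z : K, z ≠ 0 ∧ s.prod = algebraMap K L z * a ^ Multiset.card s := by
    intro s
    induction s using Multiset.induction_on with
    | empty => intro _; exact ⟨1, one_ne_zero, by simp⟩
    | cons r s ih =>
      intro h
      obtain ⟨z1, hz1, hr⟩ := h r (Multiset.mem_cons_self r s)
      obtain ⟨z2, hz2, hs⟩ := ih (fun r' hr' => h r' (Multiset.mem_cons_of_mem hr'))
      refine ⟨z1 * z2, mul_ne_zero hz1 hz2, ?_⟩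
      rw [Multiset.prod_cons, Multiset.card_cons, hr, hs, map_mul, pow_succ]; ring
  obtain ⟨z, hz0, hz⟩ := hprod _ hroots_form
  have hdeg : ((minpoly L' a).map (algebraMap L' L)).natDegree = (minpoly L' a).natDegree :=
    natDegree_map _
  have hcard : Multiset.card ((minpoly L' a).map (algebraMap L' L)).roots =
      (minpoly L' a).natDegree := by
    rw [← hgLsplit.natDegree_eq_card_roots, hdeg]
  have hcoeff : ((minpoly L' a).map (algebraMap L' L)).coeff 0 =
      (-1) ^ (minpoly L' a).natDegree * (algebraMap K L z * a ^ (minpoly L' a).natDegree) := by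
    rw [hgLsplit.coeff_zero_eq_prod_roots_of_monic hgLmonic, hz, hcard, hdeg]
  have hamem : a ^ (minpoly L' a).natDegree ∈ L' := by
    have h1 : ((minpoly L' a).map (algebraMap L' L)).coeff 0 ∈ L' := by
      rw [coeff_map]; exact ((minpoly L' a).coeff 0).2
    have hzL : algebraMap K L z ≠ 0 := by
      rwa [Ne, map_eq_zero]
    have h2 : a ^ (minpoly L' a).natDegree = ((minpoly L' a).map (algebraMap L' L)).coeff 0 *
        ((-1) ^ (minpoly L' a).natDegree * algebraMap K L z)⁻¹ := by
      rw [hcoeff]; field_simp
    rw [h2]
    exact mul_mem h1 (inv_mem (mul_mem (pow_mem (neg_mem (one_mem _)) _) (L'.algebraMap_mem z)))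
  -- degree bookkeeping
  have hML : K⟮a ^ (minpoly L' a).natDegree⟯ ≤ L' := adjoin_simple_le_iff.mpr hamem
  have htop : ∀ N : IntermediateField K L, N⟮a⟯ = ⊤ := by
    intro N
    rw [← restrictScalars_eq_top_iff (K := K), eq_top_iff, ← ha, adjoin_simple_le_iff]
    exact mem_adjoin_simple_self N a
  have hfrL' : Module.finrank L' L = (minpoly L' a).natDegree := by
    rw [← adjoin.finrank halg, htop L', finrank_top']
  have hfrM : Module.finrank K⟮a ^ (minpoly L' a).natDegree⟯ L ≤ (minpoly L' a).natDegree := by
    have halgM : IsIntegral K⟮a ^ (minpoly L' a).natDegree⟯ a := IsIntegral.of_finite _ a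
    rw [← finrank_top' (F := K⟮a ^ (minpoly L' a).natDegree⟯), ← htop, adjoin.finrank halgM]
    have hd : minpoly K⟮a ^ (minpoly L' a).natDegree⟯ a ∣ X ^ (minpoly L' a).natDegree -
        C (⟨a ^ (minpoly L' a).natDegree, mem_adjoin_simple_self K _⟩ :
          K⟮a ^ (minpoly L' a).natDegree⟯) := by
      apply minpoly.dvd
      simp only [map_sub, map_pow, aeval_X, aeval_C]
      exact sub_self _
    have := natDegree_le_of_dvd hd (X_pow_sub_C_ne_zero hm_pos _)
    rwa [natDegree_X_pow_sub_C] at this
  have hmul1 := Module.finrank_mul_finrank K K⟮a ^ (minpoly L' a).natDegree⟯ L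
  have hmul2 := Module.finrank_mul_finrank K L' L
  have hle : Module.finrank K K⟮a ^ (minpoly L' a).natDegree⟯ ≤ Module.finrank K L' :=
    finrank_le_of_le_right hML
  refine ⟨(minpoly L' a).natDegree, ⟨Module.finrank K L', ?_⟩, ?_⟩
  · rw [← hmul2, hfrL', mul_comm]
  · symm
    apply eq_of_le_of_finrank_le hML
    by_contra hlt
    push Not at hlt
    have : Module.finrank K K⟮a ^ (minpoly L' a).natDegree⟯ *
        Module.finrank K⟮a ^ (minpoly L' a).natDegree⟯ L < Module.finrank K L' *
        Module.finrank L' L := by
      rw [hfrL']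
      calc _ ≤ Module.finrank K K⟮a ^ (minpoly L' a).natDegree⟯ * (minpoly L' a).natDegree :=
            Nat.mul_le_mul_left _ hfrM
        _ < _ := Nat.mul_lt_mul_of_pos_right hlt hm_pos
    rw [hmul1, hmul2] at this
    exact lt_irrefl _ this

end Groth.Agent.S6336
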