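import Groth.Statements.S6349
import Groth.Agent.Lib.Helper9.FlatCrit

set_option autoImplicit false
universe u
open scoped TensorProduct
open CAlg

namespace Groth.Agent.S6349

/-- Converse direction of `rTensor_injective_of_flat_baseChange`: injectivity after tensoring over
`R` with `M` gives injectivity after tensoring over `S` with `S ⊗[R] M`. -/
theorem rTensor_baseChange_injective_of_rTensor_injective {R : Type*} [CommRing R]
    (M : Type*) [AddCommGroup M] [Module R M] (S : Type*) [CommRing S] [Algebra R S]
    {A B : Type*} [AddCommGroup A] [Module R A] [Module S A] [IsScalarTower R S A]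
    [AddCommGroup B] [Module R B] [Module S B] [IsScalarTower R S B]
    (j : A →ₗ[S] B) (hj : Function.Injective ((j.restrictScalars R).rTensor M)) :
    Function.Injective (j.rTensor (S ⊗[R] M)) := by
  let eA := TensorProduct.AlgebraTensorModule.cancelBaseChange R S S A M
  let eB := TensorProduct.AlgebraTensorModule.cancelBaseChange R S S B M
  have h2 : ∀ x, (j.restrictScalars R).rTensor M (eA x) = eB (j.rTensor (S ⊗[R] M) x) := by
    intro x
    induction x using TensorProduct.induction_on with
    | zero => simp
    | add x y hx hy => simp only [map_add, hx, hy]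
    | tmul a y =>
      induction y using TensorProduct.induction_on with
      | zero => simp
      | add x y hx hy => simp only [TensorProduct.tmul_add, map_add, hx, hy]
      | tmul s m => simp [eA, eB]
  intro a b hab
  apply eA.injective
  apply hj
  rw [h2, h2, hab]

/-- Let I be an ideal of a commutative ring R and M an R-module such that M/IM is flat over R/I and
Tor_1^R(R/I, M) = 0, i.e. the map I ⊗_R M → M is injective. Then M/IⁿM is flat over R/Iⁿ for every n
≥ 1. (When I is nilpotent this yields flatness of M itself, a standard companion statement.) -/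
theorem result (R : Type u) [CommRing R] (I : Ideal R) (M : Type u)
    [AddCommGroup M] [Module R M] [Module.Flat (R ⧸ I) ((R ⧸ I) ⊗[R] M)]
    (htor : Function.Injective ((Submodule.subtype I).rTensor M)) (n : ℕ) (hn : 1 ≤ n) :
    Module.Flat (R ⧸ I ^ n) ((R ⧸ I ^ n) ⊗[R] M) := by
  rw [Module.Flat.iff_rTensor_injective']
  intro J
  apply rTensor_baseChange_injective_of_rTensor_injective M (R ⧸ I ^ n) J.subtype
  have hvan : Groth.Agent.Lib.Helper9.TorOneVanish R M ((R ⧸ I ^ n) ⧸ J) := by
    refine Groth.Agent.Lib.Helper9.torOneVanish_of_isTorsionBySet_pow I htor n ?_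
    rintro x ⟨a, ha⟩
    obtain ⟨y, rfl⟩ := Submodule.Quotient.mk_surjective _ x
    show a • Submodule.Quotient.mk y = 0
    rw [← Submodule.Quotient.mk_smul, Submodule.Quotient.mk_eq_zero]
    have : a • y = 0 := by
      rw [Algebra.smul_def, Ideal.Quotient.algebraMap_eq, Ideal.Quotient.eq_zero_iff_mem.mpr ha,
        zero_mul]
    rw [this]
    exact J.zero_mem
  exact hvan J (R ⧸ I ^ n) (J.subtype.restrictScalars R) (J.mkQ.restrictScalars R)
    J.injective_subtype (LinearMap.exact_subtype_mkQ J) J.mkQ_surjective

end Groth.Agent.S6349
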