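import Groth.Statements.S6351
import Groth.Agent.Lib.Helper14.NilpotentBasis
import Mathlib.LinearAlgebra.Finsupp.LinearCombination

set_option autoImplicit false
universe u
open scoped TensorProduct
open CAlg

namespace Groth.Agent.S6351

/-- Let I be a nilpotent ideal of a commutative ring R and M an R-module with Tor_1^R(R/I, M) = 0, i.e.
I ⊗_R M → M injective. If a family of elements of M maps to a basis of the R/I-module M/IM = R/I ⊗
M, then it is a basis of M over R. -/
theorem result (R : Type u) [CommRing R] (I : Ideal R)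
    (hI : IsNilpotent I) (M : Type u) [AddCommGroup M] [Module R M]
    (htor : Function.Injective ((Submodule.subtype I).rTensor M)) {A : Type u} (x : A → M)
    (hli : LinearIndependent (R ⧸ I) (fun a => (1 : R ⧸ I) ⊗ₜ[R] x a))
    (hsp : Submodule.span (R ⧸ I) (Set.range fun a => (1 : R ⧸ I) ⊗ₜ[R] x a) = ⊤) :
    LinearIndependent R x ∧ Submodule.span R (Set.range x) = ⊤ := by
  classical
  -- Step 1: spanning
  have hspan : Submodule.span R (Set.range x) = ⊤ := by
    apply Groth.Agent.Lib.Helper14.eq_top_of_sup_smul_top_of_isNilpotent I hI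
    rw [eq_top_iff]
    intro m _
    have hmem : ∀ t : (R ⧸ I) ⊗[R] M,
        t ∈ Submodule.span (R ⧸ I) (Set.range fun a => (1 : R ⧸ I) ⊗ₜ[R] x a) →
        ∃ n ∈ Submodule.span R (Set.range x), t = (1 : R ⧸ I) ⊗ₜ[R] n := by
      intro t ht
      induction ht using Submodule.span_induction with
      | mem t ht =>
        obtain ⟨a, rfl⟩ := ht
        exact ⟨x a, Submodule.subset_span ⟨a, rfl⟩, rfl⟩
      | zero => exact ⟨0, Submodule.zero_mem _, by simp⟩
      | add t₁ t₂ _ _ h₁ h₂ =>
        obtain ⟨n₁, hn₁, rfl⟩ := h₁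
        obtain ⟨n₂, hn₂, rfl⟩ := h₂
        exact ⟨n₁ + n₂, Submodule.add_mem _ hn₁ hn₂, by rw [TensorProduct.tmul_add]⟩
      | smul r t _ h =>
        obtain ⟨n, hn, rfl⟩ := h
        obtain ⟨r, rfl⟩ := Ideal.Quotient.mk_surjective r
        refine ⟨r • n, Submodule.smul_mem _ _ hn, ?_⟩
        rw [TensorProduct.smul_tmul', smul_eq_mul, mul_one, TensorProduct.tmul_smul,
          TensorProduct.smul_tmul', ← Ideal.Quotient.algebraMap_eq, Algebra.algebraMap_eq_smul_one]
    obtain ⟨n, hn, hmn⟩ := hmem ((1 : R ⧸ I) ⊗ₜ[R] m) (hsp ▸ Submodule.mem_top)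
    have h0 : (1 : R ⧸ I) ⊗ₜ[R] (m - n) = 0 := by
      rw [TensorProduct.tmul_sub, hmn, sub_self]
    have h1 := congrArg (TensorProduct.quotTensorEquivQuotSMul M I) h0
    rw [TensorProduct.quotTensorEquivQuotSMul_mk_one_tmul, map_zero,
      Submodule.Quotient.mk_eq_zero] at h1
    have : m = n + (m - n) := by abel
    rw [this]
    exact Submodule.add_mem_sup hn h1
  refine ⟨?_, hspan⟩
  rw [linearIndependent_iff]
  have hφsurj : Function.Surjective (Finsupp.linearCombination R x) := by
    rw [← LinearMap.range_eq_top, Finsupp.range_linearCombination]; exact hspan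
  suffices hK : LinearMap.ker (Finsupp.linearCombination R x) = ⊥ by
    intro l hl; exact (Submodule.eq_bot_iff _).mp hK l hl
  apply Groth.Agent.Lib.Helper14.eq_bot_of_le_smul_of_isNilpotent I hI
  intro k hk
  have hk0 : Finsupp.linearCombination R x k = 0 := hk
  have hsmul : ∀ (r : R) (m : M), (Ideal.Quotient.mk I r) • ((1 : R ⧸ I) ⊗ₜ[R] m) =
      (1 : R ⧸ I) ⊗ₜ[R] (r • m) := by
    intro r m
    rw [TensorProduct.smul_tmul', smul_eq_mul, mul_one, TensorProduct.tmul_smul,
      TensorProduct.smul_tmul', ← Ideal.Quotient.algebraMap_eq, Algebra.algebraMap_eq_smul_one]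
  -- (a) coefficients lie in I
  have hkI : ∀ a, k a ∈ I := by
    have h1 : Finsupp.linearCombination (R ⧸ I) (fun a => (1 : R ⧸ I) ⊗ₜ[R] x a)
        (k.mapRange (Ideal.Quotient.mk I) (map_zero _)) = 0 := by
      rw [Finsupp.linearCombination_apply, Finsupp.sum_mapRange_index (by simp)]
      simp_rw [hsmul]
      rw [Finsupp.sum, ← TensorProduct.tmul_sum]
      have : ∑ a ∈ k.support, k a • x a = Finsupp.linearCombination R x k := by
        rw [Finsupp.linearCombination_apply, Finsupp.sum]
      rw [this, hk0, TensorProduct.tmul_zero]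
    have h2 := (linearIndependent_iff.mp hli) _ h1
    intro a
    have := DFunLike.congr_fun h2 a
    simpa [Ideal.Quotient.eq_zero_iff_mem] using this
  -- (b) the element τ of I ⊗ F
  let τ : I ⊗[R] (A →₀ R) := ∑ a ∈ k.support, (⟨k a, hkI a⟩ : I) ⊗ₜ[R] Finsupp.single a (1 : R)
  have hτ : (LinearMap.lTensor I (Finsupp.linearCombination R x)) τ = 0 := by
    apply htor
    rw [map_zero]
    simp only [τ, map_sum, LinearMap.lTensor_tmul, LinearMap.rTensor_tmul, Submodule.subtype_apply,
      Finsupp.linearCombination_single, one_smul]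
    have : ∀ a ∈ k.support, (k a) ⊗ₜ[R] x a = (1 : R) ⊗ₜ[R] (k a • x a) := by
      intro a _
      rw [TensorProduct.tmul_smul, TensorProduct.smul_tmul', smul_eq_mul, mul_one]
    rw [Finset.sum_congr rfl this, ← TensorProduct.tmul_sum]
    have : ∑ a ∈ k.support, k a • x a = Finsupp.linearCombination R x k := by
      rw [Finsupp.linearCombination_apply, Finsupp.sum]
    rw [this, hk0, TensorProduct.tmul_zero]
  have hex := lTensor_exact (R := R) (M := LinearMap.ker (Finsupp.linearCombination R x))
    (N := A →₀ R) (P := M) I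
    (LinearMap.exact_subtype_ker_map (Finsupp.linearCombination R x)) hφsurj
  obtain ⟨σ, hσ⟩ := (hex τ).mp hτ
  let μ : I ⊗[R] (A →₀ R) →ₗ[R] (A →₀ R) :=
    TensorProduct.lift ((LinearMap.lsmul R (A →₀ R)).comp I.subtype)
  have hμτ : μ τ = k := by
    simp only [τ, μ, map_sum, TensorProduct.lift.tmul, LinearMap.coe_comp, Function.comp_apply,
      Submodule.subtype_apply, LinearMap.lsmul_apply, Finsupp.smul_single, smul_eq_mul, mul_one]
    exact k.sum_single
  have hμσ : ∀ σ : I ⊗[R] (LinearMap.ker (Finsupp.linearCombination R x)),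
      μ ((LinearMap.lTensor I (LinearMap.ker (Finsupp.linearCombination R x)).subtype) σ) ∈
        I • LinearMap.ker (Finsupp.linearCombination R x) := by
    intro σ
    induction σ using TensorProduct.induction_on with
    | zero => simp
    | tmul i k' =>
      simp only [μ, LinearMap.lTensor_tmul, TensorProduct.lift.tmul, LinearMap.coe_comp,
        Function.comp_apply, Submodule.subtype_apply, LinearMap.lsmul_apply]
      exact Submodule.smul_mem_smul i.2 k'.2
    | add σ₁ σ₂ h₁ h₂ =>
      rw [map_add, map_add]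
      exact Submodule.add_mem _ h₁ h₂
  rw [← hμτ, ← hσ]
  exact hμσ σ

end Groth.Agent.S6351
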