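import Groth.Statements.S6352
import Groth.Agent.Lib.Helper9.FlatCrit
import Groth.Agent.S6349

set_option autoImplicit false
universe u
open scoped TensorProduct
open CAlg

namespace Groth.Agent.S6352

theorem isTorsionBySet_of_quotient {R : Type u} [CommRing R] (I : Ideal R) (N : Type*) [AddCommGroup N] [Module R N]
    [Module (R ⧸ I) N] [IsScalarTower R (R ⧸ I) N] : Module.IsTorsionBySet R N I := by
  rintro x ⟨a, ha⟩
  show a • x = 0
  rw [← algebraMap_smul (R ⧸ I) a x, Ideal.Quotient.algebraMap_eq,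
    Ideal.Quotient.eq_zero_iff_mem.mpr ha, zero_smul]

theorem lemmaA {R R' : Type u} [CommRing R] [CommRing R'] [Algebra R R']
    (M : Type u) [AddCommGroup M] [Module R M] (I : Ideal R) [Module.Flat (R ⧸ I) ((R ⧸ I) ⊗[R] M)]
    [Module.Flat R' (R' ⊗[R] M)] :
    Module.Flat (R ⧸ (I ⊓ ((I ^ 2).map (algebraMap R R')).comap (algebraMap R R')))
      ((R ⧸ (I ⊓ ((I ^ 2).map (algebraMap R R')).comap (algebraMap R R'))) ⊗[R] M) := by
  set J : Ideal R := I ⊓ ((I ^ 2).map (algebraMap R R')).comap (algebraMap R R') with hJ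
  have hJI : J ≤ I := inf_le_left
  have hI2J : I ^ 2 ≤ J := le_inf (Ideal.pow_le_self two_ne_zero) Ideal.le_comap_map
  let Ibar : Ideal (R ⧸ J) := I.map (Ideal.Quotient.mk J)
  let Q : Ideal R' := (I ^ 2).map (algebraMap R R')
  have hJQ : J ≤ Q.comap (Algebra.ofId R R') := inf_le_right
  let j₀ : (R ⧸ J) →ₐ[R] (R' ⧸ Q) := Ideal.quotientMapₐ Q (Algebra.ofId R R') hJQ
  have hj₀ : ∀ a : R, j₀ (Ideal.Quotient.mk J a) = Ideal.Quotient.mk Q (algebraMap R R' a) := by
    intro a
    rfl
  -- the `I`-torsion of `R' ⧸ Q`, as an `R'`-submodule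
  let C : Submodule R' (R' ⧸ Q) :=
    { carrier := {b | ∀ r ∈ I, (algebraMap R R' r) • b = 0}
      add_mem' := fun {a b} ha hb r hr => by rw [smul_add, ha r hr, hb r hr, add_zero]
      zero_mem' := fun r _ => smul_zero _
      smul_mem' := fun s b hb r hr => by
        rw [smul_smul, mul_comm, ← smul_smul, hb r hr, smul_zero] }
  have hmemC : ∀ b : R' ⧸ Q, b ∈ C ↔ ∀ r ∈ I, (algebraMap R R' r) • b = 0 := fun b => Iff.rfl
  have hIbar : ∀ x : Ibar, ∃ a ∈ I, Ideal.Quotient.mk J a = x.1 := by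
    rintro ⟨x, hx⟩
    obtain ⟨a, ha, rfl⟩ := (Ideal.mem_map_iff_of_surjective _ Ideal.Quotient.mk_surjective).mp hx
    exact ⟨a, ha, rfl⟩
  have hj₀C : ∀ x : Ibar, j₀ x.1 ∈ C := by
    intro x
    obtain ⟨a, ha, hax⟩ := hIbar x
    rw [← hax, hj₀, hmemC]
    intro r hr
    rw [Algebra.smul_def, Ideal.Quotient.algebraMap_eq, ← map_mul, ← map_mul,
      Ideal.Quotient.eq_zero_iff_mem]
    exact Ideal.mem_map_of_mem _ (by rw [pow_two]; exact Ideal.mul_mem_mul hr ha)
  let j₁ : Ibar →ₗ[R] C :=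
    { toFun := fun x => ⟨j₀ x.1, hj₀C x⟩
      map_add' := fun x y => by
        apply Subtype.ext
        simp
      map_smul' := fun r x => by
        apply Subtype.ext
        simp }
  have hj₁ : Function.Injective j₁ := by
    rw [injective_iff_map_eq_zero]
    intro x hx
    have hx0 : j₀ x.1 = 0 := congrArg Subtype.val hx
    obtain ⟨a, ha, hax⟩ := hIbar x
    rw [← hax, hj₀, Ideal.Quotient.eq_zero_iff_mem] at hx0
    apply Subtype.ext
    rw [← hax]
    show Ideal.Quotient.mk J a = 0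
    rw [Ideal.Quotient.eq_zero_iff_mem]
    exact ⟨ha, hx0⟩
  have hA : Module.IsTorsionBySet R Ibar I := by
    rintro x ⟨r, hr⟩
    obtain ⟨a, ha, hax⟩ := hIbar x
    apply Subtype.ext
    show r • x.1 = 0
    rw [← hax, Algebra.smul_def, Ideal.Quotient.algebraMap_eq, ← map_mul,
      Ideal.Quotient.eq_zero_iff_mem]
    exact hI2J (by rw [pow_two]; exact Ideal.mul_mem_mul hr ha)
  have hC : Module.IsTorsionBySet R C I := by
    rintro x ⟨r, hr⟩
    apply Subtype.ext
    show r • x.1 = 0
    rw [← algebraMap_smul R' r x.1]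
    exact x.2 r hr
  have h1 : Function.Injective (j₁.rTensor M) := Groth.Agent.Lib.Helper9.rTensor_injective_of_isTorsionBySet M I hA hC j₁ hj₁
  have h2 : Function.Injective ((C.subtype.restrictScalars R).rTensor M) :=
    Groth.Agent.Lib.Helper9.rTensor_injective_of_flat_baseChange M R' C.subtype C.injective_subtype
  have key : (C.subtype.restrictScalars R) ∘ₗ j₁ =
      j₀.toLinearMap ∘ₗ (Ibar.subtype.restrictScalars R) := rfl
  have h3 : Function.Injective ((j₀.toLinearMap ∘ₗ (Ibar.subtype.restrictScalars R)).rTensor M) := by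
    rw [← key, LinearMap.rTensor_comp]
    exact h2.comp h1
  have h4 : Function.Injective ((Ibar.subtype.restrictScalars R).rTensor M) := by
    rw [LinearMap.rTensor_comp] at h3
    exact Function.Injective.of_comp h3
  have hnil : IsNilpotent Ibar := by
    refine ⟨2, ?_⟩
    rw [← Ideal.map_pow, Ideal.zero_eq_bot, Ideal.map_eq_bot_iff_le_ker, Ideal.mk_ker]
    exact hI2J
  have hinj : Function.Injective (Ibar.subtype.rTensor ((R ⧸ J) ⊗[R] M)) :=
    Groth.Agent.S6349.rTensor_baseChange_injective_of_rTensor_injective M (R ⧸ J) Ibar.subtype h4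
  have hflat : Module.Flat ((R ⧸ J) ⧸ Ibar) (((R ⧸ J) ⧸ Ibar) ⊗[R ⧸ J] ((R ⧸ J) ⊗[R] M)) := by
    rw [Module.Flat.iff_rTensor_injective']
    intro K
    apply Groth.Agent.S6349.rTensor_baseChange_injective_of_rTensor_injective
      ((R ⧸ J) ⊗[R] M) ((R ⧸ J) ⧸ Ibar) K.subtype
    apply Groth.Agent.S6349.rTensor_baseChange_injective_of_rTensor_injective
      M (R ⧸ J) (K.subtype.restrictScalars (R ⧸ J))
    have hmk : ∀ r ∈ I, algebraMap R ((R ⧸ J) ⧸ Ibar) r = 0 := by
      intro r hr
      rw [IsScalarTower.algebraMap_apply R (R ⧸ J) ((R ⧸ J) ⧸ Ibar), Ideal.Quotient.algebraMap_eq,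
        Ideal.Quotient.algebraMap_eq, Ideal.Quotient.eq_zero_iff_mem]
      exact Ideal.mem_map_of_mem _ hr
    have hK : Module.IsTorsionBySet R K I := by
      rintro x ⟨r, hr⟩
      show r • x = 0
      rw [← algebraMap_smul ((R ⧸ J) ⧸ Ibar) r x, hmk r hr, zero_smul]
    have hQ : Module.IsTorsionBySet R ((R ⧸ J) ⧸ Ibar) I := by
      rintro x ⟨r, hr⟩
      show r • x = 0
      rw [← algebraMap_smul ((R ⧸ J) ⧸ Ibar) r x, hmk r hr, zero_smul]
    exact Groth.Agent.Lib.Helper9.rTensor_injective_of_isTorsionBySet M I hK hQ _ K.injective_subtype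
  exact Groth.Agent.Lib.Helper9.flat_of_isNilpotent_of_rTensor_injective Ibar hnil hinj


/-- The sequence of ideals `J₀ = I`, `J_{k+1} = J_k ∩ f⁻¹(J_k² R')`. -/
noncomputable def Jseq {R : Type u} (R' : Type u) [CommRing R] [CommRing R'] [Algebra R R']
    (I : Ideal R) : ℕ → Ideal R
  | 0 => I
  | (k + 1) => Jseq R' I k ⊓ ((Jseq R' I k ^ 2).map (algebraMap R R')).comap (algebraMap R R')

/-- Let R → R' be an injective ring map, I ⊆ R a nilpotent ideal and M an R-module. Then flatness of M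
over R follows from flatness of M/IM over R/I together with flatness of R' ⊗_R M over R'. -/
theorem result (R R' : Type u) [CommRing R] [CommRing R']
    [Algebra R R'] (hinj : Function.Injective (algebraMap R R')) (I : Ideal R) (hI : IsNilpotent I)
    (M : Type u) [AddCommGroup M] [Module R M] [Module.Flat (R ⧸ I) ((R ⧸ I) ⊗[R] M)]
    [Module.Flat R' (R' ⊗[R] M)] : Module.Flat R M := by
  classical
  obtain ⟨n, hn⟩ := hI
  -- the sequence of ideals
  have hJ0 : Jseq R' I 0 = I := rfl
  have hJs : ∀ k, Jseq R' I (k + 1) = Jseq R' I k ⊓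
      ((Jseq R' I k ^ 2).map (algebraMap R R')).comap (algebraMap R R') := fun k => rfl
  have hflat : ∀ k, Module.Flat (R ⧸ Jseq R' I k) ((R ⧸ Jseq R' I k) ⊗[R] M) := by
    intro k
    induction k with
    | zero => rw [hJ0]; infer_instance
    | succ k ih =>
      rw [hJs]
      exact lemmaA M (Jseq R' I k)
  have hle : ∀ k, Jseq R' I k ≤ I := by
    intro k
    induction k with
    | zero => exact le_of_eq hJ0
    | succ k ih => rw [hJs]; exact inf_le_left.trans ih
  have hbound : ∀ k, Jseq R' I k ≤ ((I ^ (k + 1)).map (algebraMap R R')).comap (algebraMap R R') := by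
    intro k
    induction k with
    | zero => rw [hJ0, zero_add, pow_one]; exact Ideal.le_comap_map
    | succ k ih =>
      rw [hJs]
      refine inf_le_right.trans (Ideal.comap_mono ?_)
      rw [pow_two, Ideal.map_mul, pow_succ (I) (k + 1), Ideal.map_mul]
      exact Ideal.mul_mono (Ideal.map_le_iff_le_comap.mpr ih) (Ideal.map_mono (hle k))
  have hbot : Jseq R' I n = ⊥ := by
    rw [eq_bot_iff]
    refine (hbound n).trans ?_
    rw [pow_succ, hn, Ideal.zero_eq_bot, Ideal.bot_mul, Ideal.map_bot]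
    intro x hx
    rw [Ideal.mem_comap, Ideal.mem_bot] at hx
    rw [Ideal.mem_bot]
    exact hinj (by rw [hx, map_zero])
  have := hflat n
  rw [Module.Flat.iff_rTensor_injective']
  intro K
  have htors : ∀ (N : Type u) [AddCommGroup N] [Module R N],
      Module.IsTorsionBySet R N (Jseq R' I n) := by
    intro N _ _
    rintro x ⟨a, ha⟩
    have ha' : a ∈ Jseq R' I n := ha
    rw [hbot, Ideal.mem_bot] at ha'
    show a • x = 0
    rw [ha', zero_smul]
  exact Groth.Agent.Lib.Helper9.rTensor_injective_of_isTorsionBySet M (Jseq R' I n) (htors K) (htors R)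
    K.subtype K.injective_subtype

end Groth.Agent.S6352
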