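import Groth.Statements.S6353
import Mathlib.RingTheory.Ideal.Maximal
import Mathlib.RingTheory.Nilpotent.Lemmas

set_option autoImplicit false
universe u
open CAlg

namespace Groth.Agent.S6353

theorem pure_of_forall_exists_eq_mul {R : Type u} [CommRing R] (I : Ideal R)
    (h : ∀ x ∈ I, ∃ y ∈ I, x = x * y) : I.Pure := by
  apply Ideal.Pure.of_inf_eq_mul
  intro K _
  refine le_antisymm ?_ Ideal.mul_le_inf
  rintro z ⟨hzI, hzK⟩
  obtain ⟨y, hy, hzy⟩ := h z hzI
  have : y * z ∈ I * K := Ideal.mul_mem_mul hy hzK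
  rw [hzy, mul_comm z y]
  exact this

open PrimeSpectrum in
theorem exists_pure_of_closed_stable {R : Type u} [CommRing R] (Z : Set (PrimeSpectrum R))
    (hZc : IsClosed Z) (hZg : StableUnderGeneralization Z) :
    ∃ I : Ideal R, I.Pure ∧ zeroLocus (I : Set R) = Z := by
  classical
  let J : Ideal R := vanishingIdeal Z
  have hZJ : zeroLocus (J : Set R) = Z := by
    rw [zeroLocus_vanishingIdeal_eq_closure, hZc.closure_eq]
  let I : Ideal R :=
    { carrier := {x | ∃ y ∈ J, x = x * y}
      add_mem' := by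
        rintro x y ⟨f, hf, hxf⟩ ⟨g, hg, hyg⟩
        refine ⟨f + g - f * g, J.sub_mem (J.add_mem hf hg) (J.mul_mem_right _ hf), ?_⟩
        have h1 : x * (f + g - f * g) = x * f + (x - x * f) * g := by ring
        have h2 : y * (f + g - f * g) = y * g + (y - y * g) * f := by ring
        rw [add_mul, h1, h2, ← hxf, ← hyg]; ring
      zero_mem' := ⟨0, J.zero_mem, by simp⟩
      smul_mem' := by
        rintro r x ⟨f, hf, hxf⟩
        exact ⟨f, hf, by rw [smul_eq_mul, mul_assoc, ← hxf]⟩ }
  have hIJ : I ≤ J := by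
    rintro x ⟨y, hy, hxy⟩
    rw [hxy]; exact J.mul_mem_left _ hy
  have hV : zeroLocus (I : Set R) = zeroLocus (J : Set R) := by
    refine le_antisymm ?_ (zeroLocus_anti_mono hIJ)
    rintro ⟨p, hp⟩ hpI
    rw [mem_zeroLocus] at hpI ⊢
    change (I : Set R) ⊆ p at hpI
    change (J : Set R) ⊆ p
    let S : Submonoid R :=
      { carrier := {z | ∃ s, s ∉ p ∧ ∃ j ∈ J, z = s * (1 + j)}
        one_mem' := ⟨1, p.one_notMem, 0, J.zero_mem, by simp⟩
        mul_mem' := by
          rintro a b ⟨s, hs, j, hj, rfl⟩ ⟨s', hs', j', hj', rfl⟩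
          refine ⟨s * s', fun h => (hp.mem_or_mem h).elim hs hs', j + j' + j * j',
            J.add_mem (J.add_mem hj hj') (J.mul_mem_left _ hj'), by ring⟩ }
    have hdisj : Disjoint ((⊥ : Ideal R) : Set R) S := by
      rw [Set.disjoint_left]
      rintro z hz ⟨s, hs, j, hj, hzs⟩
      have hz0 : z = 0 := hz
      have : s ∈ I := ⟨-j, J.neg_mem hj, by
        have : s * (1 + j) = 0 := by rw [← hzs, hz0]
        linear_combination this⟩
      exact hs (hpI this)
    obtain ⟨q, hq, -, hqS⟩ := Ideal.exists_le_prime_disjoint (⊥ : Ideal R) S hdisj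
    have hqp : q ≤ p := by
      intro a ha
      by_contra hap
      exact Set.disjoint_left.mp hqS ha ⟨a, hap, 0, J.zero_mem, by simp⟩
    have hqJ : q ⊔ J ≠ ⊤ := by
      intro htop
      have h1 : (1 : R) ∈ q ⊔ J := htop ▸ Submodule.mem_top
      obtain ⟨a, ha, j, hj, haj⟩ := Submodule.mem_sup.mp h1
      exact Set.disjoint_left.mp hqS ha ⟨1, p.one_notMem, -j, J.neg_mem hj, by
        rw [one_mul]; linear_combination haj⟩
    obtain ⟨m, hm, hle⟩ := Ideal.exists_le_maximal _ hqJ
    have hmZ : (⟨m, hm.isPrime⟩ : PrimeSpectrum R) ∈ Z := by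
      rw [← hZJ, mem_zeroLocus]
      exact fun a ha => hle (Ideal.mem_sup_right ha)
    have hqZ : (⟨q, hq⟩ : PrimeSpectrum R) ∈ Z := by
      refine hZg ?_ hmZ
      rw [← PrimeSpectrum.le_iff_specializes]
      exact fun a ha => hle (Ideal.mem_sup_left ha)
    rw [← hZJ, mem_zeroLocus] at hqZ
    exact fun a ha => hqp (hqZ ha)
  refine ⟨I, ?_, hV.trans hZJ⟩
  apply pure_of_forall_exists_eq_mul
  rintro x ⟨y, hy, hxy⟩
  have hJrad : J ≤ I.radical := by
    rw [← vanishingIdeal_zeroLocus_eq_radical, hV, hZJ]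
  obtain ⟨n, hn⟩ := hJrad hy
  refine ⟨y ^ n, hn, ?_⟩
  clear hn
  induction n with
  | zero => simp
  | succ k ih => rw [pow_succ, ← mul_assoc, ← ih, ← hxy]

open PrimeSpectrum in
/-- For a commutative ring R, I ↦ V(I) is a bijection between pure ideals (R/I flat over R) and closed
subsets of Spec R stable under generalization. Stated here as: V(I) is stable under generalization
for I pure, and every closed generalization-stable subset is V(I) for some pure I (injectivity on
pure ideals being the standard fact that pure ideals with the same zero locus coincide). -/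
theorem result (R : Type u) [CommRing R] :
    (∀ I : Ideal R, I.Pure → StableUnderGeneralization (zeroLocus (I : Set R))) ∧
      ∀ Z : Set (PrimeSpectrum R), IsClosed Z → StableUnderGeneralization Z →
        ∃ I : Ideal R, I.Pure ∧ zeroLocus (I : Set R) = Z := by
  refine ⟨?_, fun Z hZc hZg => exists_pure_of_closed_stable Z hZc hZg⟩
  intro I hI q p hpq hq
  rw [← PrimeSpectrum.le_iff_specializes] at hpq
  rw [mem_zeroLocus] at hq ⊢
  intro x hx
  obtain ⟨y, hy, hxy⟩ := Ideal.exists_eq_mul_of_pure (I := I) hx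
  have h0 : x * (1 - y) = 0 := by rw [mul_sub, mul_one, ← hxy, sub_self]
  have h1 : (1 - y) ∉ p.asIdeal := by
    intro h
    have : (1 : R) ∈ q.asIdeal := by
      have := q.asIdeal.add_mem (hpq h) (hq hy)
      rwa [sub_add_cancel] at this
    exact q.asIdeal.one_notMem this
  have h2 : x * (1 - y) ∈ p.asIdeal := by rw [h0]; exact p.asIdeal.zero_mem
  exact (p.2.mem_or_mem h2).resolve_right h1

end Groth.Agent.S6353
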