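import Groth.Statements.S6354
import Mathlib.RingTheory.Ideal.IdempotentFG
import Mathlib.RingTheory.Spectrum.Prime.Topology

set_option autoImplicit false
universe u
open CAlg

namespace Groth.Agent.S6354

open PrimeSpectrum in
/-- For an ideal I of a commutative ring R these four conditions are equivalent: (1) I is finitely
generated and pure; (2) I = (e) for some idempotent e; (3) I is pure with V(I) open in Spec R; (4)
R/I is projective as an R-module. -/
theorem result (R : Type u) [CommRing R] (I : Ideal R) :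
    List.TFAE [I.Pure ∧ I.FG, ∃ e : R, IsIdempotentElem e ∧ I = Ideal.span {e},
      I.Pure ∧ IsOpen (zeroLocus (I : Set R)), Module.Projective R (R ⧸ I)] := by
  have pure_span : ∀ e : R, IsIdempotentElem e → (Ideal.span {e}).Pure := fun e he =>
    Ideal.Pure.of_isIdempotentElem ⟨{e}, by simp⟩
      (((Ideal.span {e}).isIdempotentElem_iff_of_fg ⟨{e}, by simp⟩).mpr ⟨e, he, rfl⟩)
  tfae_have 1 → 2 := by
    rintro ⟨hp, hfg⟩
    exact (I.isIdempotentElem_iff_of_fg hfg).mp (I.isIdempotentElem_of_pure)
  tfae_have 2 → 1 := by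
    rintro ⟨e, he, rfl⟩
    exact ⟨pure_span e he, ⟨{e}, by simp⟩⟩
  tfae_have 2 → 3 := by
    rintro ⟨e, he, rfl⟩
    refine ⟨pure_span e he, ?_⟩
    rw [zeroLocus_span, zeroLocus_eq_basicOpen_of_isIdempotentElem e he]
    exact (basicOpen (1 - e)).2
  tfae_have 3 → 2 := by
    rintro ⟨hp, ho⟩
    obtain ⟨e, he, hes⟩ := isClopen_iff_zeroLocus.mp ⟨isClosed_zeroLocus _, ho⟩
    refine ⟨e, he, ?_⟩
    have := pure_span e he
    rw [← Ideal.zeroLocus_inj_of_pure, hes, zeroLocus_span]
  tfae_have 2 → 4 := by
    rintro ⟨e, he, rfl⟩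
    let i : (R ⧸ Ideal.span {e}) →ₗ[R] R :=
      Submodule.liftQ (Ideal.span {e}) (LinearMap.mulLeft R (1 - e)) (by
        rw [Ideal.span, Submodule.span_le]
        rintro x hx
        rw [Set.mem_singleton_iff] at hx
        subst hx
        simp [sub_mul, he.eq])
    refine Module.Projective.of_split i (Submodule.mkQ (Ideal.span {e})) ?_
    ext
    simp only [LinearMap.coe_comp, Function.comp_apply, Submodule.mkQ_apply, LinearMap.id_comp, i,
      Submodule.liftQ_apply, LinearMap.mulLeft_apply, mul_one]
    rw [eq_comm, Submodule.Quotient.eq]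
    have : (1 : R) - (1 - e) = e := by ring
    rw [this]
    exact Ideal.subset_span rfl
  tfae_have 4 → 1 := by
    intro hproj
    refine ⟨inferInstance, ?_⟩
    obtain ⟨s, hs⟩ := Module.projective_lifting_property (Submodule.mkQ I)
      (LinearMap.id : (R ⧸ I) →ₗ[R] (R ⧸ I)) (Submodule.mkQ_surjective I)
    refine ⟨{1 - s (Submodule.Quotient.mk 1)}, ?_⟩
    have h1 : 1 - s (Submodule.Quotient.mk 1) ∈ I := by
      rw [← Submodule.Quotient.mk_eq_zero, Submodule.Quotient.mk_sub]
      have := congr($hs (Submodule.Quotient.mk 1))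
      simp only [LinearMap.coe_comp, Function.comp_apply, Submodule.mkQ_apply,
        LinearMap.id_coe, id_eq] at this
      rw [this, sub_self]
    refine le_antisymm ?_ ?_
    · rw [Finset.coe_singleton, Ideal.span_le, Set.singleton_subset_iff]
      exact h1
    · intro x hx
      rw [Finset.coe_singleton, Ideal.mem_span_singleton']
      refine ⟨x, ?_⟩
      have h2 : x • s (Submodule.Quotient.mk 1) = 0 := by
        rw [← map_smul, ← Submodule.Quotient.mk_smul, smul_eq_mul, mul_one,
          (Submodule.Quotient.mk_eq_zero I).mpr hx, map_zero]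
      rw [mul_sub, mul_one, ← smul_eq_mul, h2, sub_zero]
  tfae_finish

end Groth.Agent.S6354
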