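import Groth.Statements.S6355
import Groth.Agent.S6353
import Groth.Agent.S6354
import Mathlib.RingTheory.Flat.LocallyFree
import Mathlib.RingTheory.LocalProperties.FinitePresentation
import Mathlib.RingTheory.Flat.EquationalCriterion
import Mathlib.RingTheory.Support

set_option autoImplicit false
universe u
open CAlg

namespace Groth.Agent.S6355

section aux

variable {R : Type u} [CommRing R] {M : Type u} [AddCommGroup M] [Module R M]

/-- Surjectivity after localization passes to coarser localizations. -/
theorem surj_of_submonoid {N : Type u} [AddCommGroup N] [Module R N] (φ : N →ₗ[R] M)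
    (S T : Submonoid R) (hST : ∀ s ∈ S, ∃ r : R, r * s ∈ T)
    (h : Function.Surjective (LocalizedModule.map S φ)) :
    Function.Surjective (LocalizedModule.map T φ) := by
  rw [φ.localizedMap_surjective_iff_subsingleton_localized_coker] at h ⊢
  rw [LocalizedModule.subsingleton_iff] at h ⊢
  intro m
  obtain ⟨s, hs, hm⟩ := h m
  obtain ⟨r, hr⟩ := hST s hs
  exact ⟨r * s, hr, by rw [mul_smul, hm, smul_zero]⟩

attribute [local instance] Module.free_of_flat_of_isLocalRing

theorem exists_away_surj [Module.Finite R M] [Module.Flat R M] (p : PrimeSpectrum R) :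
    ∃ a ∉ p.asIdeal, ∃ φ : (Fin (Module.rankAtStalk M p) →₀ R) →ₗ[R] M,
      Function.Surjective (LocalizedModule.map (Submonoid.powers a) φ) := by
  let Rₚ := Localization.AtPrime p.asIdeal
  let n := Module.rankAtStalk M p
  let f : (Fin n →₀ R) →ₗ[R] Fin n →₀ Rₚ := Finsupp.mapRange.linearMap (Algebra.linearMap R Rₚ)
  let g : M →ₗ[R] LocalizedModule.AtPrime p.asIdeal M :=
    LocalizedModule.mkLinearMap p.asIdeal.primeCompl M
  obtain ⟨φ, -, -, hφps⟩ := Module.exists_localizedMap_surjective_of_surjective
    p.asIdeal.primeCompl f g
    ((Module.finBasis Rₚ (LocalizedModule.AtPrime p.asIdeal M)).repr.restrictScalars R).symm.surjective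
  obtain ⟨a, hap, hφas⟩ := by
    refine Module.exists_localizedMap_away_surjective_of_localizedMap_atPrime_surjective
      p.asIdeal φ ?_
    simpa [LocalizedModule.coe_map_eq f g]
  exact ⟨a, hap, φ, hφas⟩

theorem rank_le_of_surj [Module.Finite R M] (n : ℕ) (φ : (Fin n →₀ R) →ₗ[R] M)
    (q : PrimeSpectrum R)
    (h : Function.Surjective (LocalizedModule.map q.asIdeal.primeCompl φ)) :
    Module.rankAtStalk M q ≤ n := by
  have h1 := LinearMap.finrank_le_finrank_of_surjective h
  have h2 : Module.rankAtStalk (Fin n →₀ R) q = n := by
    have : Nontrivial R := q.nontrivial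
    rw [Module.rankAtStalk_eq_finrank_of_free]
    simp
  calc Module.rankAtStalk M q ≤ Module.rankAtStalk (Fin n →₀ R) q := h1
    _ = n := h2

theorem isOpen_rank_le [Module.Finite R M] [Module.Flat R M] (n : ℕ) :
    IsOpen {q : PrimeSpectrum R | Module.rankAtStalk M q ≤ n} := by
  rw [isOpen_iff_forall_mem_open]
  intro p hp
  obtain ⟨a, hap, φ, hφ⟩ := exists_away_surj (M := M) p
  refine ⟨PrimeSpectrum.basicOpen a, ?_, (PrimeSpectrum.basicOpen a).2, hap⟩
  intro q hq
  have hsurj := surj_of_submonoid φ (Submonoid.powers a) q.asIdeal.primeCompl (by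
    rintro _ ⟨k, rfl⟩
    exact ⟨1, by rw [one_mul]; exact q.asIdeal.primeCompl.pow_mem hq k⟩) hφ
  exact (rank_le_of_surj _ φ q hsurj).trans hp

end aux

/-- For a commutative ring R the following are equivalent: (1) every subset of Spec R which is closed
and stable under generalization is open; (2) every finite flat R-module is finite locally free, i.e.
(for finite modules) projective. -/
theorem result (R : Type u) [CommRing R] :
    (∀ Z : Set (PrimeSpectrum R), IsClosed Z → StableUnderGeneralization Z → IsOpen Z) ↔
      ∀ (M : Type u) [AddCommGroup M] [Module R M], Module.Finite R M → Module.Flat R M →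
        Module.Projective R M := by
  constructor
  · intro h1 M _ _ hfin hflat
    have hstab : ∀ n : ℕ, StableUnderGeneralization
        {q : PrimeSpectrum R | n < Module.rankAtStalk M q} := by
      intro n q q' hq'q hq
      rw [← PrimeSpectrum.le_iff_specializes] at hq'q
      simp only [Set.mem_setOf_eq] at hq ⊢
      rwa [Module.rankAtStalk_eq_of_le_of_finite_of_flat M hq'q]
    have hopen_lt : ∀ n : ℕ, IsOpen {q : PrimeSpectrum R | n < Module.rankAtStalk M q} := by
      intro n
      apply h1 _ _ (hstab n)
      have : {q : PrimeSpectrum R | n < Module.rankAtStalk M q} =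
          {q : PrimeSpectrum R | Module.rankAtStalk M q ≤ n}ᶜ := by
        ext q; simp
      rw [this, isClosed_compl_iff]
      exact isOpen_rank_le n
    have hopen_eq : ∀ n : ℕ, IsOpen {q : PrimeSpectrum R | Module.rankAtStalk M q = n} := by
      intro n
      have : {q : PrimeSpectrum R | Module.rankAtStalk M q = n} =
          {q : PrimeSpectrum R | Module.rankAtStalk M q ≤ n} ∩
            {q : PrimeSpectrum R | n ≤ Module.rankAtStalk M q} := by
        ext q; simp [le_antisymm_iff]
      rw [this]
      refine (isOpen_rank_le n).inter ?_
      cases n with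
      | zero => simp
      | succ k => exact hopen_lt k
    -- local finite presentation
    have hloc : ∀ p : PrimeSpectrum R, ∃ f ∉ p.asIdeal,
        Module.FinitePresentation (Localization.Away f) (LocalizedModule.Away f M) := by
      intro p
      obtain ⟨a, hap, φ, hφ⟩ := exists_away_surj (M := M) p
      obtain ⟨_, ⟨g, rfl⟩, hpg, hgsub⟩ :=
        PrimeSpectrum.isTopologicalBasis_basic_opens.exists_subset_of_mem_open
          (show p ∈ {q : PrimeSpectrum R | Module.rankAtStalk M q = Module.rankAtStalk M p}
            from rfl) (hopen_eq _)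
      have hfp : a * g ∉ p.asIdeal := fun h => (p.2.mem_or_mem h).elim hap hpg
      refine ⟨a * g, hfp, ?_⟩
      have hsurj := surj_of_submonoid φ (Submonoid.powers a) (Submonoid.powers (a * g)) (by
        rintro _ ⟨k, rfl⟩
        exact ⟨g ^ k, ⟨k, by simp only; rw [mul_pow, mul_comm]⟩⟩) hφ
      have hbij : Function.Bijective (LocalizedModule.map (Submonoid.powers (a * g)) φ) := by
        refine Module.bijective_of_surjective_of_rankAtStalk_eq hsurj fun m hm => ?_
        rw [Module.rankAtStalk_isBaseChange
            (LocalizedModule.isBaseChange (Submonoid.powers (a * g)) _),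
          Module.rankAtStalk_isBaseChange
            (LocalizedModule.isBaseChange (Submonoid.powers (a * g)) _)]
        have : Nontrivial R := p.nontrivial
        rw [Module.rankAtStalk_eq_finrank_of_free]
        simp only [Pi.natCast_apply, Module.finrank_finsupp_self, Fintype.card_fin]
        symm
        apply hgsub
        show g ∉ Ideal.comap (algebraMap R (Localization.Away (a * g))) m
        intro hgm
        have hu : IsUnit (algebraMap R (Localization.Away (a * g)) (a * g)) :=
          IsLocalization.Away.algebraMap_isUnit (a * g)
        apply hm.ne_top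
        apply Ideal.eq_top_of_isUnit_mem _ _ hu
        rw [map_mul]
        exact Ideal.mul_mem_left _ _ hgm
      have hfree : Module.Free (Localization.Away (a * g))
          (LocalizedModule.Away (a * g) (Fin (Module.rankAtStalk M p) →₀ R)) :=
        Module.free_of_isLocalizedModule (Rₛ := Localization.Away (a * g))
          (Mₛ := LocalizedModule.Away (a * g) (Fin (Module.rankAtStalk M p) →₀ R))
          (Submonoid.powers (a * g))
          (LocalizedModule.mkLinearMap (Submonoid.powers (a * g))
            (Fin (Module.rankAtStalk M p) →₀ R))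
      have hfree' : Module.Free (Localization.Away (a * g)) (LocalizedModule.Away (a * g) M) :=
        Module.Free.of_equiv (LinearEquiv.ofBijective _ hbij)
      exact Module.finitePresentation_of_projective _ _
    let s : Set R := {f | Module.FinitePresentation (Localization.Away f) (LocalizedModule.Away f M)}
    have hs : Ideal.span s = ⊤ := by
      by_contra hne
      obtain ⟨m, hm, hle⟩ := Ideal.exists_le_maximal _ hne
      obtain ⟨f, hfm, hf⟩ := hloc ⟨m, hm.isPrime⟩
      exact hfm (hle (Ideal.subset_span hf))
    have hfp : Module.FinitePresentation R M :=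
      Module.FinitePresentation.of_localizationSpan s hs (fun g => g.2)
    exact Module.Flat.projective_of_finitePresentation
  · intro h2 Z hZc hZs
    obtain ⟨I, hI, rfl⟩ := Groth.Agent.S6353.exists_pure_of_closed_stable Z hZc hZs
    have hproj : Module.Projective R (R ⧸ I) := h2 (R ⧸ I) inferInstance hI
    have hiff : Module.Projective R (R ⧸ I) ↔
        (I.Pure ∧ IsOpen (PrimeSpectrum.zeroLocus (I : Set R))) :=
      (Groth.Agent.S6354.result R I).out 3 2
    exact (hiff.mp hproj).2

end Groth.Agent.S6355
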