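import Groth.Statements.S6362
import Mathlib.FieldTheory.PrimitiveElement
import Mathlib.FieldTheory.Fixed
import Mathlib.LinearAlgebra.Dual.Lemmas
import Mathlib.LinearAlgebra.Dimension.Constructions
import Mathlib.LinearAlgebra.FiniteDimensional.Lemmas

set_option autoImplicit false
universe u
open scoped TensorProduct
open Fields

namespace Groth.Agent.S6362

/-- Let K/F be a finite separable extension and L/F an extension with L algebraically closed. Then the
L-algebra map K ⊗_F L → ∏_σ L, indexed by the F-algebra maps σ : K → L and sending a ⊗ b to (σ(a)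
b)_σ, is an isomorphism; stated as bijectivity of that map. -/
theorem result {F K L : Type u} [Field F] [Field K] [Field L]
    [Algebra F K] [Algebra F L] [FiniteDimensional F K] [Algebra.IsSeparable F K] [IsAlgClosed L] :
    Function.Bijective (fun x : K ⊗[F] L => fun σ : K →ₐ[F] L =>
      Algebra.TensorProduct.lift σ (AlgHom.id F L) (fun a b => Commute.all (σ a) b) x) := by
  classical
  have : Finite (K →ₐ[F] L) := inferInstance
  let _ : Fintype (K →ₐ[F] L) := Fintype.ofFinite _
  -- the L-linear version on `L ⊗[F] K`
  let Ψ : L ⊗[F] K →ₗ[L] ((K →ₐ[F] L) → L) :=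
    LinearMap.pi (fun σ => (Algebra.TensorProduct.lift (AlgHom.id L L) σ
      (fun a b => Commute.all _ _)).toLinearMap)
  have hΨ : ∀ (l : L) (k : K) (σ : K →ₐ[F] L), Ψ (l ⊗ₜ[F] k) σ = l * σ k := by
    intro l k σ
    simp [Ψ]
  have hdim : Module.finrank L (L ⊗[F] K) = Module.finrank L ((K →ₐ[F] L) → L) := by
    rw [Module.finrank_baseChange, Module.finrank_fintype_fun_eq_card]
    have h1 := AlgHom.natCard_of_splits F K L (fun x => IsAlgClosed.splits _)
    rw [Fintype.card_eq_nat_card, h1]
  have hsurj : Function.Surjective Ψ := by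
    rw [← LinearMap.range_eq_top]
    by_contra hne
    obtain ⟨f, hf0, hf⟩ := Submodule.exists_dual_map_eq_bot_of_lt_top (lt_top_iff_ne_top.mpr hne)
      inferInstance
    have hfz : ∀ x, f (Ψ x) = 0 := by
      intro x
      have : f (Ψ x) ∈ (LinearMap.range Ψ).map f := ⟨Ψ x, ⟨x, rfl⟩, rfl⟩
      rw [hf] at this
      exact this
    have hlin := linearIndependent_toLinearMap F K L
    rw [Fintype.linearIndependent_iff] at hlin
    have hcoef : ∀ σ, f (fun τ => if σ = τ then 1 else 0) = 0 := by
      apply hlin (fun σ => f (fun τ => if σ = τ then 1 else 0))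
      ext k
      have := hfz ((1 : L) ⊗ₜ[F] k)
      rw [LinearMap.pi_apply_eq_sum_univ f] at this
      simp only [hΨ, one_mul] at this
      simp only [LinearMap.coe_sum, Finset.sum_apply, LinearMap.smul_apply,
        AlgHom.toLinearMap_apply, LinearMap.zero_apply]
      simp only [smul_eq_mul, mul_comm] at this ⊢
      exact this
    apply hf0
    refine LinearMap.ext fun y => ?_
    rw [LinearMap.pi_apply_eq_sum_univ f]
    simp [hcoef]
  have hbij : Function.Bijective Ψ :=
    ⟨(LinearMap.injective_iff_surjective_of_finrank_eq_finrank hdim).mpr hsurj, hsurj⟩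
  have heq : (fun x : K ⊗[F] L => fun σ : K →ₐ[F] L =>
      Algebra.TensorProduct.lift σ (AlgHom.id F L) (fun a b => Commute.all (σ a) b) x) =
      Ψ ∘ (Algebra.TensorProduct.comm F K L) := by
    funext x
    induction x using TensorProduct.induction_on with
    | zero =>
      funext σ
      simp
    | tmul k l =>
      funext σ
      simp [hΨ, mul_comm]
    | add x y hx hy =>
      funext σ
      have hx' := congrFun hx σ
      have hy' := congrFun hy σ
      simp only [Function.comp_apply, map_add, Pi.add_apply] at hx' hy' ⊢
      rw [hx', hy']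
  rw [heq]
  exact hbij.comp (Algebra.TensorProduct.comm F K L).bijective

end Groth.Agent.S6362
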