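import Groth.Statements.S6363
-- import your own Groth.Agent.* helpers here

set_option autoImplicit false
universe u
open scoped TensorProduct
open Fields

namespace Groth.Agent.S6363

/-- For a finite field extension L/K and a normal closure M of L/K, some K-algebra homomorphism from the
n-fold tensor power L ⊗_K ⋯ ⊗_K L to M is surjective, where n = [L : K]_s is the separable degree
(so n ≤ [L : K]). -/
theorem result {K L M : Type u} [Field K] [Field L] [Field M]
    [Algebra K L] [Algebra K M] [Algebra L M] [IsScalarTower K L M] [FiniteDimensional K L]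
    [IsNormalClosure K L M] :
    ∃ f : (⨂[K] _ : Fin (Field.finSepDegree K L), L) →ₐ[K] M, Function.Surjective f := by
  classical
  have hN : IsNormalClosure K L M := inferInstance
  have hnorm : Normal K M := IsNormalClosure.normal (K := L)
  have halg : Algebra.IsAlgebraic K M := hnorm.toIsAlgebraic
  have hcard : Nat.card (L →ₐ[K] M) = Field.finSepDegree K L :=
    (Field.finSepDegree_eq_of_adjoin_splits K L M (IntermediateField.adjoin_univ K L)
      (fun s _ => ⟨Algebra.IsIntegral.isIntegral s, hN.splits s⟩)).symm
  have hfin : Finite (L →ₐ[K] M) := inferInstance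
  have e : Fin (Field.finSepDegree K L) ≃ (L →ₐ[K] M) :=
    (finCongr hcard.symm).trans (Finite.equivFin (L →ₐ[K] M)).symm
  let g : MultilinearMap K (fun _ : Fin (Field.finSepDegree K L) => L) M :=
    (MultilinearMap.mkPiAlgebra K (Fin (Field.finSepDegree K L)) M).compLinearMap
      (fun i => (e i).toLinearMap)
  have hg : ∀ x, g x = ∏ i, e i (x i) := fun x => rfl
  let Φ : (⨂[K] _ : Fin (Field.finSepDegree K L), L) →ₐ[K] M :=
    PiTensorProduct.liftAlgHom g (by simp [hg]) (by
      intro x y
      simp only [hg, Pi.mul_apply, map_mul]
      exact Finset.prod_mul_distrib)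
  have hΦ : ∀ i (a : L), Φ (PiTensorProduct.singleAlgHom i a) = e i a := by
    intro i a
    simp only [Φ, PiTensorProduct.singleAlgHom_apply, PiTensorProduct.liftAlgHom_apply,
      PiTensorProduct.lift.tprod, hg]
    rw [Finset.prod_eq_single i]
    · simp
    · intro j _ hji
      simp [MonoidHom.mulSingle_apply, Pi.mulSingle_eq_of_ne hji]
    · intro h; exact absurd (Finset.mem_univ i) h
  refine ⟨Φ, ?_⟩
  have htop : IntermediateField.normalClosure K L M = ⊤ :=
    ((Algebra.IsAlgebraic.isNormalClosure_iff (F := K) (K := L) (L := M)).mp hN).2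
  have hle : IntermediateField.normalClosure K L M ≤ subalgebraEquivIntermediateField Φ.range := by
    rw [_root_.normalClosure_def]
    refine iSup_le fun σ => ?_
    rintro _ ⟨a, rfl⟩
    rw [mem_subalgebraEquivIntermediateField]
    refine ⟨PiTensorProduct.singleAlgHom (e.symm σ) a, ?_⟩
    have := hΦ (e.symm σ) a
    rw [e.apply_symm_apply] at this
    exact this
  rw [htop, top_le_iff] at hle
  intro m
  have hm : m ∈ subalgebraEquivIntermediateField Φ.range := by rw [hle]; trivial
  rw [mem_subalgebraEquivIntermediateField] at hm
  exact hm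

end Groth.Agent.S6363
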