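import Groth.Statements.S6364
import Mathlib.LinearAlgebra.Matrix.ToLin
import Mathlib.LinearAlgebra.Matrix.Charpoly.Minpoly
import Mathlib.LinearAlgebra.Charpoly.ToMatrix
import Mathlib.RingTheory.PowerBasis
import Mathlib.FieldTheory.IntermediateField.Adjoin.Basic
import Mathlib.Data.Matrix.Block

set_option autoImplicit false
universe u
open Fields

namespace Groth.Agent.S6364

open Matrix Polynomial in
theorem charpoly_blockDiagonal_const {R : Type*} [CommRing R] {m o : Type*} [Fintype m]
    [DecidableEq m] [Fintype o] [DecidableEq o] (M : Matrix m m R) :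
    (blockDiagonal fun _ : o => M).charpoly = M.charpoly ^ Fintype.card o := by
  have h : charmatrix (blockDiagonal fun _ : o => M) = blockDiagonal fun _ : o => charmatrix M := by
    ext ⟨i, k⟩ ⟨j, k'⟩
    by_cases hk : k = k'
    · subst hk
      by_cases hij : i = j
      · subst hij
        simp [blockDiagonal_apply]
      · have : (i, k) ≠ (j, k) := fun h => hij (Prod.mk.inj h).1
        simp [blockDiagonal_apply, hij, this]
    · have : (i, k) ≠ (j, k') := fun h => hk (Prod.mk.inj h).2
      simp [blockDiagonal_apply, hk, this]
  rw [Matrix.charpoly, h, det_blockDiagonal, Finset.prod_const, Finset.card_univ]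
  rfl

open IntermediateField in
/-- Let L/K be a finite extension and a ∈ L with minimal polynomial P over K. Then P ^ e, with e = [L :
K(a)], is the characteristic polynomial of multiplication by a (the K-linear map x ↦ a x on L), and
e · deg P = [L : K]. -/
theorem result {K L : Type u} [Field K] [Field L] [Algebra K L] [FiniteDimensional K L]
    (a : L) :
    (Algebra.lmul K L a).charpoly = minpoly K a ^ Module.finrank K⟮a⟯ L ∧
      Module.finrank K⟮a⟯ L * (minpoly K a).natDegree = Module.finrank K L := by
  classical
  have hint : IsIntegral K a := Algebra.IsIntegral.isIntegral a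
  refine ⟨?_, ?_⟩
  · let pb := IntermediateField.adjoin.powerBasis hint
    let c := Module.finBasis K⟮a⟯ L
    have h1 : (Algebra.lmul K L a).charpoly =
        (Algebra.leftMulMatrix (pb.basis.smulTower c) a).charpoly := by
      rw [Algebra.leftMulMatrix_apply, LinearMap.charpoly_toMatrix]
    have h2 : Algebra.leftMulMatrix (pb.basis.smulTower c) a =
        Algebra.leftMulMatrix (pb.basis.smulTower c)
          (algebraMap K⟮a⟯ L (IntermediateField.AdjoinSimple.gen K a)) := rfl
    rw [h1, h2]
    rw [Algebra.smulTower_leftMulMatrix_algebraMap, charpoly_blockDiagonal_const,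
      Fintype.card_fin]
    have h3 : IntermediateField.AdjoinSimple.gen K a = pb.gen :=
      (IntermediateField.adjoin.powerBasis_gen hint).symm
    rw [h3, charpoly_leftMulMatrix, ← h3, IntermediateField.minpoly_gen]
  · rw [← IntermediateField.adjoin.finrank hint, mul_comm]
    exact Module.finrank_mul_finrank K K⟮a⟯ L

end Groth.Agent.S6364
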