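import Groth.Statements.S6368
-- import your own Groth.Agent.* helpers here

set_option autoImplicit false
universe u
open scoped TensorProduct
open CAlg

namespace Groth.Agent.S6368

/-- Let R → S be faithfully flat and M an R-module. If the S-module S ⊗_R M is countably generated then
M is countably generated. -/
theorem result (R S : Type u) [CommRing R] [CommRing S] [Algebra R S]
    [Module.FaithfullyFlat R S] (M : Type u) [AddCommGroup M] [Module R M]
    (h : CAlg.IsCountablyGenerated S (S ⊗[R] M)) : CAlg.IsCountablyGenerated R M := by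
  classical
  obtain ⟨s, hs, hspan⟩ := h
  have key : ∀ t : S ⊗[R] M, ∃ T : Finset M,
      t ∈ Submodule.span S (TensorProduct.mk R S M 1 '' (T : Set M)) := by
    intro t
    obtain ⟨F, rfl⟩ := TensorProduct.exists_finset t
    refine ⟨F.image Prod.snd, ?_⟩
    refine Submodule.sum_mem _ fun i hi => ?_
    have h1 : i.1 ⊗ₜ[R] i.2 = i.1 • ((1 : S) ⊗ₜ[R] i.2) := by
      rw [TensorProduct.smul_tmul', smul_eq_mul, mul_one]
    rw [h1]
    refine Submodule.smul_mem _ _ (Submodule.subset_span ⟨i.2, ?_, rfl⟩)
    simp only [Finset.coe_image, Set.mem_image, Finset.mem_coe]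
    exact ⟨i, hi, rfl⟩
  choose T hT using key
  refine ⟨⋃ t ∈ s, (T t : Set M), ?_, ?_⟩
  · exact hs.biUnion fun t _ => (T t).countable_toSet
  · apply Submodule.baseChange_injective (A := S)
    rw [Submodule.baseChange_top, Submodule.baseChange_span, eq_top_iff, ← hspan]
    apply Submodule.span_le.2
    intro t ht
    refine Submodule.span_mono ?_ (hT t)
    apply Set.image_mono
    exact Set.subset_biUnion_of_mem (u := fun t => (T t : Set M)) ht

end Groth.Agent.S6368
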