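import Groth.Statements.S6369
import Mathlib

set_option autoImplicit false
universe u
open CAlg

namespace Groth.Agent.S6369

section Dom
variable {D : Type*} [CommRing D] [IsDomain D]

/-- `J` is a factor of a nonzero principal ideal. -/
def Inv' (J : Ideal D) : Prop := ∃ (K : Ideal D) (c : D), c ≠ 0 ∧ J * K = Ideal.span {c}

lemma Inv'.top : Inv' (⊤ : Ideal D) := ⟨⊤, 1, one_ne_zero, by simp⟩

lemma Inv'.mul {I J : Ideal D} (hI : Inv' I) (hJ : Inv' J) : Inv' (I * J) := by
  obtain ⟨K, c, hc, hK⟩ := hI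
  obtain ⟨L, d, hd, hL⟩ := hJ
  refine ⟨K * L, c * d, mul_ne_zero hc hd, ?_⟩
  rw [mul_mul_mul_comm, hK, hL, Ideal.span_singleton_mul_span_singleton]

lemma Inv'.multiset_prod {s : Multiset (Ideal D)} (hs : ∀ p ∈ s, Inv' p) : Inv' s.prod := by
  induction s using Multiset.induction_on with
  | empty =>
    rw [Multiset.prod_zero, Ideal.one_eq_top]
    exact Inv'.top
  | cons a s ih =>
    rw [Multiset.prod_cons]
    exact (hs a (Multiset.mem_cons_self a s)).mul
      (ih fun p hp => hs p (Multiset.mem_cons_of_mem hp))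

lemma span_singleton_mul_cancel {c : D} (hc : c ≠ 0) {X Y : Ideal D}
    (h : Ideal.span {c} * X = Ideal.span {c} * Y) : X = Y := by
  have key : ∀ {X Y : Ideal D}, Ideal.span {c} * X = Ideal.span {c} * Y → X ≤ Y := by
    intro X Y h x hx
    have h1 : c * x ∈ Ideal.span {c} * Y := by
      rw [← h]
      exact Ideal.mul_mem_mul (Ideal.subset_span (Set.mem_singleton c)) hx
    obtain ⟨y, hy, hcy⟩ := Ideal.mem_span_singleton_mul.mp h1
    have : x = y := (mul_left_cancel₀ hc hcy).symm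
    rw [this]
    exact hy
  exact le_antisymm (key h) (key h.symm)

lemma Inv'.mul_cancel {P X Y : Ideal D} (hP : Inv' P) (h : P * X = P * Y) : X = Y := by
  obtain ⟨K, c, hc, hK⟩ := hP
  apply span_singleton_mul_cancel hc
  rw [← hK, mul_comm P K, mul_assoc, mul_assoc, h]

omit [IsDomain D] in
lemma Inv'.ne_bot {P : Ideal D} (hP : Inv' P) : P ≠ ⊥ := by
  rintro rfl
  obtain ⟨K, c, hc, hK⟩ := hP
  rw [Ideal.bot_mul] at hK
  exact hc (Ideal.span_singleton_eq_bot.mp hK.symm)

omit [IsDomain D] in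
/-- members of a factorization of a nonzero principal ideal are invertible -/
lemma inv'_of_mem_of_prod_eq_span {s : Multiset (Ideal D)} {c : D} (hc : c ≠ 0)
    (hs : s.prod = Ideal.span {c}) {P : Ideal D} (hP : P ∈ s) : Inv' P := by
  classical
  refine ⟨(s.erase P).prod, c, hc, ?_⟩
  rw [← hs, ← Multiset.prod_cons, Multiset.cons_erase hP]

/-- Unique factorization into invertible primes. -/
lemma uf : ∀ (n : ℕ) (s t : Multiset (Ideal D)), Multiset.card s = n →
    (∀ p ∈ s, p.IsPrime ∧ Inv' p) → (∀ p ∈ t, p.IsPrime ∧ Inv' p) → s.prod = t.prod → s = t := by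
  classical
  intro n
  induction n with
  | zero =>
    intro s t hs _ ht hst
    rw [Multiset.card_eq_zero] at hs
    subst hs
    rw [Multiset.prod_zero] at hst
    by_contra hne
    obtain ⟨Q, hQ⟩ := Multiset.exists_mem_of_ne_zero (Ne.symm hne)
    have h1 : t.prod ≤ Q := Ideal.multiset_prod_le_inf.trans (Multiset.inf_le hQ)
    rw [← hst, Ideal.one_eq_top, top_le_iff] at h1
    exact (ht Q hQ).1.ne_top h1
  | succ n ih =>
    intro s t hs hsp htp hst
    have hsne : s ≠ 0 := by
      intro h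
      rw [h] at hs
      simp at hs
    obtain ⟨P₀, hP₀⟩ := Multiset.exists_mem_of_ne_zero hsne
    have hne : (s + t).toFinset.Nonempty := ⟨P₀, by simp [hP₀]⟩
    obtain ⟨P, hPmem, hPmin⟩ := (s + t).toFinset.exists_minimal hne
    have hmin : ∀ Q, Q ∈ s + t → Q ≤ P → Q = P := by
      intro Q hQ hQP
      exact le_antisymm hQP (hPmin (by simpa using hQ) hQP)
    rw [Multiset.mem_toFinset, Multiset.mem_add] at hPmem
    have hPboth : P ∈ s ∧ P ∈ t := by
      rcases hPmem with hPs | hPt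
      · refine ⟨hPs, ?_⟩
        have h1 : t.prod ≤ P := by
          rw [← hst]
          exact Ideal.multiset_prod_le_inf.trans (Multiset.inf_le hPs)
        obtain ⟨Q, hQ, hQP⟩ := ((hsp P hPs).1.multiset_prod_le).mp h1
        have := hmin Q (Multiset.mem_add.mpr (Or.inr hQ)) hQP
        rwa [this] at hQ
      · refine ⟨?_, hPt⟩
        have h1 : s.prod ≤ P := by
          rw [hst]
          exact Ideal.multiset_prod_le_inf.trans (Multiset.inf_le hPt)
        obtain ⟨Q, hQ, hQP⟩ := ((htp P hPt).1.multiset_prod_le).mp h1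
        have := hmin Q (Multiset.mem_add.mpr (Or.inl hQ)) hQP
        rwa [this] at hQ
    obtain ⟨hPs, hPt⟩ := hPboth
    have hs' : s = P ::ₘ s.erase P := (Multiset.cons_erase hPs).symm
    have ht' : t = P ::ₘ t.erase P := (Multiset.cons_erase hPt).symm
    have hprod : (s.erase P).prod = (t.erase P).prod := by
      apply (hsp P hPs).2.mul_cancel
      rw [← Multiset.prod_cons, ← Multiset.prod_cons, ← hs', ← ht', hst]
    have hcard : Multiset.card (s.erase P) = n := by
      rw [Multiset.card_erase_of_mem hPs, hs]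
      rfl
    have := ih (s.erase P) (t.erase P) hcard
      (fun p hp => hsp p (Multiset.mem_of_mem_erase hp))
      (fun p hp => htp p (Multiset.mem_of_mem_erase hp)) hprod
    rw [hs', ht', this]

end Dom


section Main
variable {R : Type u} [CommRing R] [IsDomain R]

lemma isMaximal_of_inv'
    (h : ∀ I : Ideal R, I ≠ ⊥ →
      ∃ s : Multiset (Ideal R), (∀ p ∈ s, p.IsPrime ∧ p ≠ ⊥) ∧ s.prod = I)
    (P : Ideal R) [hP : P.IsPrime] (hinv : Inv' P) : P.IsMaximal := by
  classical
  have hP0 : P ≠ ⊥ := hinv.ne_bot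
  rw [Ideal.isMaximal_iff]
  refine ⟨fun h1 => hP.ne_top ((Ideal.eq_top_iff_one P).mpr h1), fun J a hPJ haP haJ => ?_⟩
  suffices hI₁ : P ⊔ Ideal.span {a} = ⊤ by
    have : (1 : R) ∈ P ⊔ Ideal.span {a} := by rw [hI₁]; trivial
    exact (sup_le hPJ ((Ideal.span_singleton_le_iff_mem J).mpr haJ)) this
  set I₁ := P ⊔ Ideal.span {a} with hI₁
  set I₂ := P ⊔ Ideal.span {a ^ 2} with hI₂
  have hPI₁ : P ≤ I₁ := le_sup_left
  have hPI₂ : P ≤ I₂ := le_sup_left
  obtain ⟨s₁, hs₁, hp₁⟩ := h I₁ (fun h0 => hP0 (le_bot_iff.mp (h0 ▸ hPI₁)))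
  obtain ⟨s₂, hs₂, hp₂⟩ := h I₂ (fun h0 => hP0 (le_bot_iff.mp (h0 ▸ hPI₂)))
  let π := Ideal.Quotient.mk P
  have hπ : Function.Surjective π := Ideal.Quotient.mk_surjective
  let f : Ideal R → Ideal (R ⧸ P) := Ideal.map π
  have hle₁ : ∀ Q ∈ s₁, P ≤ Q := fun Q hQ =>
    hPI₁.trans (hp₁ ▸ Ideal.multiset_prod_le_inf.trans (Multiset.inf_le hQ))
  have hle₂ : ∀ Q ∈ s₂, P ≤ Q := fun Q hQ =>
    hPI₂.trans (hp₂ ▸ Ideal.multiset_prod_le_inf.trans (Multiset.inf_le hQ))
  have ha0 : π a ≠ 0 := fun h0 => haP (Ideal.Quotient.eq_zero_iff_mem.mp h0)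
  have hmapprod : ∀ s : Multiset (Ideal R), (s.map f).prod = f s.prod := fun s =>
    (map_multiset_prod (Ideal.mapHom π) s).symm
  have hfI₁ : f I₁ = Ideal.span {π a} := by
    change Ideal.map π (P ⊔ Ideal.span {a}) = _
    rw [Ideal.map_sup, Ideal.map_quotient_self, bot_sup_eq, Ideal.map_span, Set.image_singleton]
  have hfI₂ : f I₂ = Ideal.span {π a ^ 2} := by
    change Ideal.map π (P ⊔ Ideal.span {a ^ 2}) = _
    rw [Ideal.map_sup, Ideal.map_quotient_self, bot_sup_eq, Ideal.map_span, Set.image_singleton,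
      map_pow]
  have hprime : ∀ Q : Ideal R, Q.IsPrime → P ≤ Q → (f Q).IsPrime := by
    intro Q hQ hPQ
    exact Ideal.map_isPrime_of_surjective hπ (by rwa [Ideal.mk_ker])
  have h1 : (s₁.map f).prod = Ideal.span {π a} := by rw [hmapprod, hp₁, hfI₁]
  have h2 : (s₂.map f).prod = Ideal.span {π a ^ 2} := by rw [hmapprod, hp₂, hfI₂]
  have h11 : ((s₁ + s₁).map f).prod = Ideal.span {π a ^ 2} := by
    rw [Multiset.map_add, Multiset.prod_add, h1, Ideal.span_singleton_mul_span_singleton, sq]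
  have hmem₁ : ∀ p ∈ (s₁ + s₁).map f, p.IsPrime ∧ Inv' p := by
    intro p hp
    obtain ⟨Q, hQ, rfl⟩ := Multiset.mem_map.mp hp
    have hQ' : Q ∈ s₁ := by
      rcases Multiset.mem_add.mp hQ with h | h <;> exact h
    exact ⟨hprime Q (hs₁ Q hQ').1 (hle₁ Q hQ'),
      inv'_of_mem_of_prod_eq_span ha0 h1 (Multiset.mem_map_of_mem f hQ')⟩
  have hmem₂ : ∀ p ∈ s₂.map f, p.IsPrime ∧ Inv' p := by
    intro p hp
    obtain ⟨Q, hQ, rfl⟩ := Multiset.mem_map.mp hp
    exact ⟨hprime Q (hs₂ Q hQ).1 (hle₂ Q hQ),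
      inv'_of_mem_of_prod_eq_span (pow_ne_zero 2 ha0) h2 (Multiset.mem_map_of_mem f hQ)⟩
  have huf : s₂.map f = (s₁ + s₁).map f :=
    uf _ _ _ rfl hmem₂ hmem₁ (h2.trans h11.symm)
  have hback : ∀ s : Multiset (Ideal R), (∀ Q ∈ s, P ≤ Q) →
      (s.map f).map (Ideal.comap π) = s := by
    intro s hs
    rw [Multiset.map_map]
    conv_rhs => rw [← Multiset.map_id s]
    apply Multiset.map_congr rfl
    intro Q hQ
    change Ideal.comap π (Ideal.map π Q) = Q
    rw [Ideal.comap_map_of_surjective π hπ, ← RingHom.ker_eq_comap_bot, Ideal.mk_ker]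
    exact sup_eq_left.mpr (hs Q hQ)
  have hs₂eq : s₂ = s₁ + s₁ := by
    have := congrArg (Multiset.map (Ideal.comap π)) huf
    rw [hback s₂ hle₂, hback (s₁ + s₁) (fun Q hQ => by
      rcases Multiset.mem_add.mp hQ with h | h <;> exact hle₁ Q h)] at this
    exact this
  have hI₂eq : I₂ = I₁ * I₁ := by
    rw [← hp₂, hs₂eq, Multiset.prod_add, hp₁]
  -- `P ≤ P * I₁`
  have hPle : P ≤ P * I₁ := by
    intro x hx
    have hx2 : x ∈ I₁ * I₁ := hI₂eq ▸ hPI₂ hx
    have hsplit : I₁ * I₁ ≤ P * I₁ ⊔ Ideal.span {a ^ 2} := by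
      conv_lhs => rw [hI₁, Ideal.sup_mul]
      refine sup_le le_sup_left ?_
      rw [Ideal.mul_sup]
      refine sup_le ?_ ?_
      · rw [mul_comm]
        exact (Ideal.mul_mono_right le_sup_right).trans le_sup_left
      · rw [Ideal.span_singleton_mul_span_singleton, ← sq]
        exact le_sup_right
    obtain ⟨y, hy, z, hz, rfl⟩ := Submodule.mem_sup.mp (hsplit hx2)
    obtain ⟨r, rfl⟩ := Ideal.mem_span_singleton'.mp hz
    have hyP : y ∈ P := (Ideal.mul_le_left : P * I₁ ≤ P) hy
    have hzP : r * a ^ 2 ∈ P := by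
      have := Ideal.sub_mem _ hx hyP
      rwa [add_sub_cancel_left] at this
    have hrP : r ∈ P := by
      rcases hP.mem_or_mem hzP with h | h
      · exact h
      · exact absurd (hP.mem_of_pow_mem 2 h) haP
    refine Ideal.add_mem _ hy ?_
    have : r * a ^ 2 = r * a * a := by ring
    rw [this]
    exact Ideal.mul_mem_mul (Ideal.mul_mem_right _ _ hrP)
      (le_sup_right (a := P) (Ideal.subset_span (Set.mem_singleton a)))
  have hPeq : P * I₁ = P * ⊤ := by
    rw [Ideal.mul_top]
    exact le_antisymm Ideal.mul_le_left hPle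
  exact hinv.mul_cancel hPeq

end Main


/-- (1) ⇒ (3): let R be a domain such that every nonzero ideal is a product of nonzero prime ideals,
uniquely up to permutation of the factors. Then R is Noetherian, integrally closed and of dimension
at most one, i.e. a Dedekind domain in the Noetherian sense. (The converse and the description by
discrete valuation rings at maximal ideals are the standard equivalences.) -/
theorem result (R : Type u) [CommRing R] [IsDomain R]
    (h : ∀ I : Ideal R, I ≠ ⊥ → ∃! s : Multiset (Ideal R), (∀ p ∈ s, p.IsPrime ∧ p ≠ ⊥) ∧ s.prod = I) :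
    IsDedekindDomain R := by
  have h' : ∀ I : Ideal R, I ≠ ⊥ →
      ∃ s : Multiset (Ideal R), (∀ p ∈ s, p.IsPrime ∧ p ≠ ⊥) ∧ s.prod = I :=
    fun I hI => (h I hI).exists
  have hprime : ∀ P : Ideal R, P.IsPrime → P ≠ ⊥ → Inv' P := by
    intro P hP hP0
    obtain ⟨a, haP, ha0⟩ := Submodule.exists_mem_ne_zero_of_ne_bot hP0
    obtain ⟨s, hs, hsp⟩ := h' (Ideal.span {a}) (by simpa using ha0)
    have hle : s.prod ≤ P := hsp ▸ (Ideal.span_singleton_le_iff_mem P).mpr haP
    obtain ⟨Q, hQ, hQP⟩ := hP.multiset_prod_le.mp hle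
    have hQinv : Inv' Q := inv'_of_mem_of_prod_eq_span ha0 hsp hQ
    have hQprime : Q.IsPrime := (hs Q hQ).1
    have hQmax : Q.IsMaximal := isMaximal_of_inv' h' Q hQinv
    have : Q = P := hQmax.eq_of_le hP.ne_top hQP
    exact this ▸ hQinv
  have hall : ∀ I : Ideal R, I ≠ ⊥ → Inv' I := by
    intro I hI
    obtain ⟨s, hs, hsp⟩ := h' I hI
    rw [← hsp]
    exact Inv'.multiset_prod fun p hp => hprime p (hs p hp).1 (hs p hp).2
  rw [isDedekindDomain_iff_mul_inv_cancel (K := FractionRing R)]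
  intro I hI
  obtain ⟨a, J, ha, hJ⟩ := FractionalIdeal.exists_eq_spanSingleton_mul (K := FractionRing R) I
  have hJ0 : J ≠ ⊥ := by
    rintro rfl
    apply hI
    rw [hJ]
    simp
  obtain ⟨K, c, hc, hK⟩ := hall J hJ0
  have ha' : algebraMap R (FractionRing R) a ≠ 0 :=
    mt ((injective_iff_map_eq_zero (algebraMap R _)).mp (IsFractionRing.injective R _) _) ha
  have hc' : algebraMap R (FractionRing R) c ≠ 0 :=
    mt ((injective_iff_map_eq_zero (algebraMap R _)).mp (IsFractionRing.injective R _) _) hc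
  rw [FractionalIdeal.mul_inv_cancel_iff]
  refine ⟨FractionalIdeal.spanSingleton _ (algebraMap R (FractionRing R) a) *
    ((K : FractionalIdeal (nonZeroDivisors R) (FractionRing R)) *
      FractionalIdeal.spanSingleton _ (algebraMap R (FractionRing R) c)⁻¹), ?_⟩
  rw [hJ]
  have h1 : (J : FractionalIdeal (nonZeroDivisors R) (FractionRing R)) *
      (K : FractionalIdeal (nonZeroDivisors R) (FractionRing R)) =
      FractionalIdeal.spanSingleton _ (algebraMap R (FractionRing R) c) := by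
    rw [← FractionalIdeal.coeIdeal_mul, hK, FractionalIdeal.coeIdeal_span_singleton]
  calc _ = (FractionalIdeal.spanSingleton (nonZeroDivisors R) (algebraMap R (FractionRing R) a)⁻¹ *
        FractionalIdeal.spanSingleton _ (algebraMap R (FractionRing R) a)) *
        (((J : FractionalIdeal (nonZeroDivisors R) (FractionRing R)) *
          (K : FractionalIdeal (nonZeroDivisors R) (FractionRing R))) *
          FractionalIdeal.spanSingleton _ (algebraMap R (FractionRing R) c)⁻¹) := by ring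
    _ = 1 := by
      rw [h1, FractionalIdeal.spanSingleton_mul_spanSingleton,
        FractionalIdeal.spanSingleton_mul_spanSingleton, inv_mul_cancel₀ ha',
        mul_inv_cancel₀ hc', FractionalIdeal.spanSingleton_one, mul_one]

end Groth.Agent.S6369
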