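import Groth.Statements.S6371
import Groth.Agent.Lib.Helper14.EpiBaseChange
import Mathlib.RingTheory.Localization.BaseChange
import Mathlib.RingTheory.LocalProperties.Submodule
import Mathlib.RingTheory.IsTensorProduct

set_option autoImplicit false
universe u
open CAlg

namespace Groth.Agent.S6371

open TensorProduct in
theorem isEpi_of_algEquiv {A B C : Type*} [CommRing A] [CommRing B] [CommRing C] [Algebra A B]
    [Algebra A C] (e : B ≃ₐ[A] C) [Algebra.IsEpi A B] : Algebra.IsEpi A C := by
  rw [Algebra.isEpi_iff_forall_one_tmul_eq]
  intro c
  have := congrArg (TensorProduct.map e.toLinearMap e.toLinearMap)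
    ((Algebra.isEpi_iff_forall_one_tmul_eq A B).mp inferInstance (e.symm c))
  simpa using this

/-- A ring map R → S is an epimorphism of rings if and only if for every prime p of R the localized map
R_p → S_p is an epimorphism, where S_p is S localized at the image of R ∖ p. -/
theorem result (R S : Type u) [CommRing R] [CommRing S] [Algebra R S] :
    Algebra.IsEpi R S ↔ ∀ (p : Ideal R) [p.IsPrime],
      Algebra.IsEpi (Localization.AtPrime p) (Localization (Algebra.algebraMapSubmonoid S p.primeCompl)) := by
  constructor
  · intro h p _
    have hpush : Algebra.IsPushout R (Localization.AtPrime p) S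
        (Localization (Algebra.algebraMapSubmonoid S p.primeCompl)) :=
      (Algebra.isPushout_of_isLocalization p.primeCompl (Localization.AtPrime p) S
        (Localization (Algebra.algebraMapSubmonoid S p.primeCompl))).symm
    have : Algebra.IsEpi (Localization.AtPrime p) (TensorProduct R (Localization.AtPrime p) S) :=
      Groth.Agent.Lib.Helper14.isEpi_baseChange R S (Localization.AtPrime p)
    exact isEpi_of_algEquiv (Algebra.IsPushout.equiv R (Localization.AtPrime p) S
      (Localization (Algebra.algebraMapSubmonoid S p.primeCompl)))
  · intro h
    rw [Algebra.isEpi_iff_forall_one_tmul_eq]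
    intro s
    rw [← sub_eq_zero]
    refine Module.eq_zero_of_localization_maximal
      (fun P _ => TensorProduct R (Localization (Algebra.algebraMapSubmonoid S P.primeCompl))
        (Localization (Algebra.algebraMapSubmonoid S P.primeCompl)))
      (fun P _ => TensorProduct.map
        (IsScalarTower.toAlgHom R S
          (Localization (Algebra.algebraMapSubmonoid S P.primeCompl))).toLinearMap
        (IsScalarTower.toAlgHom R S
          (Localization (Algebra.algebraMapSubmonoid S P.primeCompl))).toLinearMap) _
      (fun P hP => ?_)
    have hP' := (Algebra.isEpi_iff_forall_one_tmul_eq _ _).mp (h P)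
      (algebraMap S (Localization (Algebra.algebraMapSubmonoid S P.primeCompl)) s)
    have := congrArg (IsLocalization.moduleTensorEquiv P.primeCompl (Localization.AtPrime P)
      (Localization (Algebra.algebraMapSubmonoid S P.primeCompl))
      (Localization (Algebra.algebraMapSubmonoid S P.primeCompl))) hP'
    simp only [map_sub, TensorProduct.map_tmul, AlgHom.toLinearMap_apply,
      IsScalarTower.coe_toAlgHom', map_one, sub_eq_zero]
    exact this

end Groth.Agent.S6371
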