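import Groth.Statements.S6372
-- import your own Groth.Agent.* helpers here

set_option autoImplicit false
universe u
open CAlg

namespace Groth.Agent.S6372

/-- A faithfully flat epimorphism of rings is an isomorphism: if R → S is faithfully flat and an
epimorphism in the category of rings then it is bijective. -/
theorem result (R S : Type u) [CommRing R] [CommRing S] [Algebra R S]
    [Module.FaithfullyFlat R S] [Algebra.IsEpi R S] : Function.Bijective (algebraMap R S) := by
  have hcomp : ∀ x : TensorProduct R S R, (TensorProduct.lid' R S S)
      ((Algebra.linearMap R S).lTensor S x) = TensorProduct.rid R S x := by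
    intro x
    induction x using TensorProduct.induction_on with
    | zero => simp
    | tmul s r => simp [Algebra.smul_def, mul_comm]
    | add x y hx hy => simp only [map_add, hx, hy]
  have hbij : Function.Bijective ((Algebra.linearMap R S).lTensor S) := by
    have : ⇑((Algebra.linearMap R S).lTensor S) =
        (TensorProduct.lid' R S S).symm ∘ (TensorProduct.rid R S) := by
      ext x; rw [Function.comp_apply, ← hcomp, LinearEquiv.symm_apply_apply]
    rw [this]; exact (LinearEquiv.bijective _).comp (LinearEquiv.bijective _)
  exact (Module.FaithfullyFlat.lTensor_bijective_iff_bijective R S _).mp hbij

end Groth.Agent.S6372
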