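import Groth.Statements.S6374
import Groth.Agent.S6373
import Groth.Agent.Lib.Helper14.EpiBaseChange

set_option autoImplicit false
universe u
open CAlg

namespace Groth.Agent.S6374

/-- For an epimorphism of rings R → S, the induced map Spec S → Spec R is injective and induces trivial
residue field extensions; stated in the form the proof gives: for every prime p of R the fibre ring
S ⊗_R κ(p) is either zero or κ(p) → S ⊗_R κ(p) is bijective, together with injectivity of Spec S →
Spec R. -/
theorem result (R S : Type u) [CommRing R] [CommRing S] [Algebra R S]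
    [Algebra.IsEpi R S] :
    Function.Injective (PrimeSpectrum.comap (algebraMap R S)) ∧
      ∀ (p : Ideal R) [p.IsPrime],
        Subsingleton (p.Fiber S) ∨ Function.Bijective (algebraMap p.ResidueField (p.Fiber S)) := by
  have key : ∀ (p : Ideal R) [p.IsPrime],
      Subsingleton (p.Fiber S) ∨ Function.Bijective (algebraMap p.ResidueField (p.Fiber S)) := by
    intro p _
    have : Algebra.IsEpi p.ResidueField (p.Fiber S) :=
      Groth.Agent.Lib.Helper14.isEpi_baseChange R S p.ResidueField
    exact Groth.Agent.S6373.result p.ResidueField (p.Fiber S)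
  refine ⟨?_, key⟩
  intro q₁ q₂ h
  have hsub : Subsingleton (PrimeSpectrum ((PrimeSpectrum.comap (algebraMap R S) q₁).asIdeal.Fiber S)) := by
    rcases key (PrimeSpectrum.comap (algebraMap R S) q₁).asIdeal with h1 | h1
    · exact ⟨fun a b => (IsEmpty.false a).elim⟩
    · have e : (PrimeSpectrum.comap (algebraMap R S) q₁).asIdeal.ResidueField ≃+*
          (PrimeSpectrum.comap (algebraMap R S) q₁).asIdeal.Fiber S := RingEquiv.ofBijective _ h1
      have : IsField ((PrimeSpectrum.comap (algebraMap R S) q₁).asIdeal.Fiber S) :=
        e.symm.toMulEquiv.isField (Field.toIsField _)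
      let _ := this.toField
      infer_instance
  let E := PrimeSpectrum.preimageEquivFiber R S (PrimeSpectrum.comap (algebraMap R S) q₁)
  have h12 : (⟨q₁, rfl⟩ : PrimeSpectrum.comap (algebraMap R S) ⁻¹'
      {PrimeSpectrum.comap (algebraMap R S) q₁}) = ⟨q₂, h.symm⟩ :=
    E.injective (Subsingleton.elim _ _)
  exact congrArg Subtype.val h12

end Groth.Agent.S6374
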