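import Groth.Statements.S6375
import Mathlib.LinearAlgebra.TensorProduct.Vanishing
import Mathlib.LinearAlgebra.DirectSum.Finsupp
import Mathlib.SetTheory.Cardinal.Arithmetic

set_option autoImplicit false
universe u
open CAlg

namespace Groth.Agent.S6375

open scoped TensorProduct

section zigzag

variable {R S : Type u} [CommRing R] [CommRing S] [Algebra R S]

/-- Mazet's matrix factorisation: `s = Y X Z` with `X`, `Y X = U`, `X Z = V` over `R`. -/
def Assoc {ι κ : Type*} [Fintype ι] [Fintype κ] (X : ι → κ → R) (U : κ → R) (V : ι → R)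
    (s : S) : Prop :=
  ∃ (Y : ι → S) (Z : κ → S), (∀ j, ∑ i, X i j • Y i = algebraMap R S (U j)) ∧
    (∀ i, ∑ j, X i j • Z j = algebraMap R S (V i)) ∧ s = ∑ i, ∑ j, X i j • (Y i * Z j)

theorem Assoc.unique {ι κ : Type*} [Fintype ι] [Fintype κ] {X : ι → κ → R} {U : κ → R}
    {V : ι → R} {s s' : S} (h : Assoc X U V s) (h' : Assoc X U V s') : s = s' := by
  obtain ⟨Y, Z, h1, h2, h3⟩ := h
  obtain ⟨Y', Z', h1', h2', h3'⟩ := h'
  have key1 : ∀ (Z₀ : κ → S), (∀ i, ∑ j, X i j • Z₀ j = algebraMap R S (V i)) →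
      ∑ i, ∑ j, X i j • (Y i * Z₀ j) = ∑ i, Y i * algebraMap R S (V i) := by
    intro Z₀ hZ₀
    refine Finset.sum_congr rfl fun i _ => ?_
    rw [← hZ₀ i, Finset.mul_sum]
    refine Finset.sum_congr rfl fun j _ => ?_
    rw [mul_smul_comm]
  have key2 : ∀ (Y₀ : ι → S), (∀ j, ∑ i, X i j • Y₀ i = algebraMap R S (U j)) →
      ∑ i, ∑ j, X i j • (Y₀ i * Z' j) = ∑ j, algebraMap R S (U j) * Z' j := by
    intro Y₀ hY₀
    rw [Finset.sum_comm]
    refine Finset.sum_congr rfl fun j _ => ?_
    rw [← hY₀ j, Finset.sum_mul]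
    refine Finset.sum_congr rfl fun i _ => ?_
    rw [smul_mul_assoc]
  rw [h3, key1 Z h2, ← key1 Z' h2', key2 Y h1, ← key2 Y' h1', ← h3']

theorem Assoc.reindex {ι κ ι' κ' : Type*} [Fintype ι] [Fintype κ] [Fintype ι'] [Fintype κ']
    (e : ι' ≃ ι) (f : κ' ≃ κ) {X : ι → κ → R} {U : κ → R}
    {V : ι → R} {s : S} (h : Assoc X U V s) :
    Assoc (fun i j => X (e i) (f j)) (fun j => U (f j)) (fun i => V (e i)) s := by
  obtain ⟨Y, Z, h1, h2, h3⟩ := h
  refine ⟨fun i => Y (e i), fun j => Z (f j), fun j => ?_, fun i => ?_, ?_⟩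
  · rw [← h1 (f j)]
    exact e.sum_comp (fun i => X i (f j) • Y i)
  · rw [← h2 (e i)]
    exact f.sum_comp (fun j => X (e i) j • Z j)
  · rw [h3]
    symm
    rw [← e.sum_comp]
    refine Finset.sum_congr rfl fun i _ => ?_
    exact f.sum_comp (fun j => X (e i) j • (Y (e i) * Z j))

theorem exists_assoc (s : S) (hs : s ⊗ₜ[R] (1 : S) = (1 : S) ⊗ₜ[R] s) :
    ∃ (p q : ℕ) (X : Fin p → Fin q → R) (U : Fin q → R) (V : Fin p → R), Assoc X U V s := by
  classical
  by_cases hs1 : s = 1
  · subst hs1
    refine ⟨1, 1, fun _ _ => 1, fun _ => 1, fun _ => 1, fun _ => 1, fun _ => 1, ?_, ?_, ?_⟩ <;>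
      simp
  let G : (S →₀ R) →ₗ[R] S := Finsupp.linearCombination R id
  have hGsurj : Function.Surjective G := Finsupp.linearCombination_id_surjective R S
  have hGsingle : ∀ (x : S), G (Finsupp.single x 1) = x := by
    intro x
    simp [G]
  let en : (S →₀ R) ⊗[R] S := Finsupp.single s 1 ⊗ₜ 1 - Finsupp.single 1 1 ⊗ₜ s
  have hen : G.rTensor S en = 0 := by
    simp only [en, map_sub, LinearMap.rTensor_tmul, hGsingle, hs, sub_self]
  have hex := rTensor_exact (M := ↥(LinearMap.ker G)) S (G.exact_subtype_ker_map) hGsurj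
  obtain ⟨kn, hkn⟩ := (hex en).mp hen
  obtain ⟨q, k, y, rfl⟩ := TensorProduct.exists_sum_tmul_eq kn
  -- coefficient identity
  have hcoef : ∀ i : S, ∑ j, ((k j : S →₀ R) i) • y j =
      (if i = s then 1 else 0) - (if i = 1 then s else 0) := by
    intro i
    have h0 := congrArg (fun z => TensorProduct.finsuppScalarLeft R S S z i) hkn
    simp only [en, map_sum, map_sub, LinearMap.rTensor_tmul, Submodule.coe_subtype,
      Finsupp.coe_finsetSum, Finset.sum_apply, Finsupp.coe_sub, Pi.sub_apply,
      TensorProduct.finsuppScalarLeft_apply_tmul_apply, Finsupp.single_apply] at h0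
    rw [h0]
    congr 1
    · split_ifs with h1 h2 h2
      · simp
      · exact absurd h1.symm h2
      · exact absurd h2.symm h1
      · simp
    · split_ifs with h1 h2 h2
      · simp
      · exact absurd h1.symm h2
      · exact absurd h2.symm h1
      · simp
  have hker : ∀ j, ∑ i ∈ (k j : S →₀ R).support, ((k j : S →₀ R) i) • i = 0 := by
    intro j
    have := (k j).2
    rw [LinearMap.mem_ker, Finsupp.linearCombination_apply] at this
    exact this
  let T0 : Finset S := insert s (Finset.univ.biUnion fun j => (k j : S →₀ R).support)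
  have hsupp : ∀ j, (k j : S →₀ R).support ⊆ T0 := fun j =>
    (Finset.subset_biUnion_of_mem (fun j => (k j : S →₀ R).support) (Finset.mem_univ j)).trans
      (Finset.subset_insert _ _)
  have hT0 : ∀ j, ∑ i ∈ T0, ((k j : S →₀ R) i) • i = 0 := by
    intro j
    rw [← hker j]
    symm
    apply Finset.sum_subset (hsupp j)
    intro i _ hi
    rw [Finsupp.notMem_support_iff.mp hi, zero_smul]
  let T : Finset S := T0.erase 1
  have hT : ∀ j, ∑ i ∈ T, ((k j : S →₀ R) i) • i = algebraMap R S (-(k j : S →₀ R) 1) := by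
    intro j
    by_cases h1 : (1 : S) ∈ T0
    · have := Finset.add_sum_erase T0 (fun i => ((k j : S →₀ R) i) • i) h1
      rw [hT0 j] at this
      rw [map_neg, Algebra.algebraMap_eq_smul_one]
      exact eq_neg_of_add_eq_zero_right this
    · have h1' : (1 : S) ∉ (k j : S →₀ R).support := fun h => h1 (hsupp j h)
      rw [Finsupp.notMem_support_iff.mp h1', neg_zero, map_zero]
      show ∑ i ∈ T0.erase 1, ((k j : S →₀ R) i) • i = 0
      rw [Finset.erase_eq_of_notMem h1]
      exact hT0 j
  have hsT : s ∈ T := Finset.mem_erase.mpr ⟨hs1, Finset.mem_insert_self _ _⟩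
  have hA : Assoc (R := R) (S := S) (ι := {i // i ∈ T}) (κ := Fin q)
      (fun i j => (k j : S →₀ R) i.1) (fun j => -(k j : S →₀ R) 1)
      (fun i => if i.1 = s then 1 else 0) s := by
    refine ⟨fun i => i.1, y, fun j => ?_, fun i => ?_, ?_⟩
    · rw [← hT j]
      exact Finset.sum_coe_sort T (fun i => ((k j : S →₀ R) i) • i)
    · have hi1 : i.1 ≠ 1 := (Finset.mem_erase.mp i.2).1
      rw [hcoef i.1, if_neg hi1, sub_zero]
      show (if i.1 = s then (1 : S) else 0) = algebraMap R S (if i.1 = s then 1 else 0)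
      by_cases h : i.1 = s
      · rw [if_pos h, if_pos h, map_one]
      · rw [if_neg h, if_neg h, map_zero]
    · have h1 : ∀ i : {i // i ∈ T}, ∑ j, ((k j : S →₀ R) i.1) • (i.1 * y j) =
          i.1 * (if i.1 = s then 1 else 0) := by
        intro i
        have hi1 : i.1 ≠ 1 := (Finset.mem_erase.mp i.2).1
        have h0 := hcoef i.1
        rw [if_neg hi1, sub_zero] at h0
        rw [← h0, Finset.mul_sum]
        refine Finset.sum_congr rfl fun j _ => ?_
        rw [mul_smul_comm]
      simp only [h1]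
      rw [Finset.sum_coe_sort T (fun i => i * (if i = s then (1 : S) else 0))]
      simp [hsT]
  exact ⟨_, _, _, _, _, hA.reindex (Fintype.equivFin {i // i ∈ T}).symm (Equiv.refl _)⟩

/-- The code of a triple. -/
def code {p q : ℕ} (X : Fin p → Fin q → R) (U : Fin q → R) (V : Fin p → R) :
    List (List R) × List R × List R :=
  (List.ofFn (fun i => List.ofFn (X i)), List.ofFn U, List.ofFn V)

theorem eq_of_code_eq {p q p' q' : ℕ} {X : Fin p → Fin q → R} {U : Fin q → R} {V : Fin p → R}
    {X' : Fin p' → Fin q' → R} {U' : Fin q' → R} {V' : Fin p' → R} {s s' : S}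
    (hc : code X U V = code X' U' V') (h : Assoc X U V s) (h' : Assoc X' U' V' s') : s = s' := by
  simp only [code, Prod.mk.injEq] at hc
  obtain ⟨h1, h2, h3⟩ := hc
  have hq : q = q' := by simpa using congrArg List.length h2
  have hp : p = p' := by simpa using congrArg List.length h3
  subst hq hp
  have hU : U = U' := List.ofFn_injective h2
  have hV : V = V' := List.ofFn_injective h3
  have hX : X = X' := by
    funext i
    exact List.ofFn_injective (congrFun (List.ofFn_injective h1) i)
  subst hU hV hX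
  exact h.unique h'

end zigzag



/-- For an infinite source ring: if R → S is an epimorphism of rings with R infinite, then |S| ≤ |R| as
cardinals. (For finite R the published statement also asserts |S| ≤ |R|, but its proof only gives
that S is countable and omits the rest, so that case is not included.) -/
theorem result (R S : Type u) [CommRing R] [CommRing S] [Algebra R S] [Algebra.IsEpi R S]
    [Infinite R] : Cardinal.mk S ≤ Cardinal.mk R := by
  classical
  have hepi : ∀ s : S, s ⊗ₜ[R] (1 : S) = (1 : S) ⊗ₜ[R] s := fun s =>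
    ((Algebra.isEpi_iff_forall_one_tmul_eq R S).mp inferInstance s).symm
  choose p q X U V hA using fun s => exists_assoc (R := R) s (hepi s)
  let c : S → List (List R) × List R × List R := fun s => code (X s) (U s) (V s)
  have hc : Function.Injective c := fun s s' h => eq_of_code_eq h (hA s) (hA s')
  have hR : Cardinal.aleph0 ≤ Cardinal.mk R := Cardinal.aleph0_le_mk R
  calc Cardinal.mk S ≤ Cardinal.mk (List (List R) × List R × List R) :=
        Cardinal.mk_le_of_injective hc
    _ = Cardinal.mk R := by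
      rw [Cardinal.mk_prod, Cardinal.mk_prod, Cardinal.lift_id, Cardinal.lift_id,
        Cardinal.lift_id, Cardinal.mk_list_eq_mk, Cardinal.mk_list_eq_mk,
        Cardinal.mul_eq_self hR, Cardinal.mul_eq_self hR]

end Groth.Agent.S6375
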