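import Groth.Statements.S6378
import Mathlib
import Groth.Agent.Lib.Helper4.TorLES

set_option autoImplicit false
universe u
open CategoryTheory
open CAlg
open Limits Groth.Agent.Lib.Helper4

namespace Groth.Agent.S6378

/-- Let (R, m, κ) be a local ring and M an R-module with Tor_1^R(κ, M) = 0. Then Tor_1^R(N, M) = 0 for
every finite length R-module N. -/
theorem result (R : Type u) [CommRing R] [IsLocalRing R]
    (M : Type u) [AddCommGroup M] [Module R M]
    (h : Limits.IsZero (((CategoryTheory.Tor (ModuleCat.{u} R) 1).obj (ModuleCat.of R (IsLocalRing.ResidueField R))).obj (ModuleCat.of R M)))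
    (N : Type u) [AddCommGroup N] [Module R N] (hN : IsFiniteLength R N) :
    Limits.IsZero (((CategoryTheory.Tor (ModuleCat.{u} R) 1).obj (ModuleCat.of R N)).obj (ModuleCat.of R M)) := by
  induction hN with
  | @of_subsingleton N _ _ _ =>
    have : Module.Flat R (ModuleCat.of R N) := by
      change Module.Flat R N
      infer_instance
    exact isZero_tor_of_flat (ModuleCat.of R N) (ModuleCat.of R M) 1 one_pos
  | @of_simple_quotient N _ _ N' hs _ ih =>
    obtain ⟨I, hI, ⟨e⟩⟩ := isSimpleModule_iff_quot_maximal.mp hs
    have hIm : I = IsLocalRing.maximalIdeal R := IsLocalRing.eq_maximalIdeal hI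
    subst hIm
    let T : ShortComplex (ModuleCat.{u} R) :=
      ShortComplex.mk (ModuleCat.ofHom N'.subtype) (ModuleCat.ofHom N'.mkQ) (by
        ext x; simp)
    have hT : T.ShortExact :=
      ModuleCat.shortComplex_shortExact T (LinearMap.exact_subtype_mkQ N') N'.injective_subtype
        N'.mkQ_surjective
    have h3 : IsZero (((Tor (ModuleCat.{u} R) 1).obj T.X₃).obj (ModuleCat.of R M)) := by
      have iso : T.X₃ ≅ ModuleCat.of R (IsLocalRing.ResidueField R) := e.toModuleIso
      exact h.of_iso (((Tor (ModuleCat.{u} R) 1).mapIso iso).app _)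
    exact isZero_tor_X₂ T hT (ModuleCat.of R M) 1 ih h3

end Groth.Agent.S6378
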