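import Groth.Statements.S6382
import Mathlib
import Groth.Agent.Lib.Helper9.FlatCrit

set_option autoImplicit false
universe u
open CAlg
open TensorProduct Function Groth.Agent.Lib.Helper9

namespace Groth.Agent.S6382

/-- If `M` is an `S`-module flat over `R` and `S'` is a flat `S`-algebra then `S' ⊗[S] M` is flat
over `R`. -/
theorem flat_tensor_of_flat (R S S' M : Type u) [CommRing R] [CommRing S] [Algebra R S] [CommRing S']
    [Algebra S S'] [Algebra R S'] [IsScalarTower R S S'] [Module.Flat S S']
    [AddCommGroup M] [Module R M] [Module S M] [IsScalarTower R S M] [Module.Flat R M] :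
    Module.Flat R (S' ⊗[S] M) := by
  rw [Module.Flat.iff_lTensor_injective']
  intro J
  let e₁ := AlgebraTensorModule.assoc R S S' S' M J
  let e₂ := AlgebraTensorModule.assoc R S S' S' M R
  let g : M ⊗[R] J →ₗ[S] M ⊗[R] R := AlgebraTensorModule.lTensor S M J.subtype
  have hg : Injective g :=
    Module.Flat.lTensor_preserves_injective_linearMap (M := M) J.subtype J.injective_subtype
  have hg' : Injective (g.lTensor S') :=
    Module.Flat.lTensor_preserves_injective_linearMap (M := S') g hg
  have hcomm : ∀ x, e₂ (J.subtype.lTensor (S' ⊗[S] M) x) = g.lTensor S' (e₁ x) := by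
    intro x
    induction x using TensorProduct.induction_on with
    | zero => simp
    | add a b ha hb => simp only [map_add, ha, hb]
    | tmul y a =>
      induction y using TensorProduct.induction_on with
      | zero => simp
      | add a b ha hb => simp only [map_add, ha, hb, TensorProduct.add_tmul]
      | tmul s m => simp [e₁, e₂, g]
  intro a b hab
  apply e₁.injective
  apply hg'
  rw [← hcomm, ← hcomm, hab]



/-- Consider a commutative square of local rings and local homomorphisms R → S, R → R', S → S', R' → S',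
and a finite S-module M. Assume the maps R → R' and S → S' are flat, M is flat over R, the maximal
ideal of R generates the maximal ideal of R', and R', S' are Noetherian. Then M' = M ⊗_S S' (any
base change of M along S → S') is flat over R'. -/
theorem result (R S R' S' : Type u) [CommRing R] [CommRing S]
    [CommRing R'] [CommRing S'] [IsLocalRing R] [IsLocalRing S] [IsLocalRing R'] [IsLocalRing S']
    [Algebra R S] [Algebra R R'] [Algebra S S'] [Algebra R' S'] [Algebra R S']
    [IsScalarTower R S S'] [IsScalarTower R R' S']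
    [IsLocalHom (algebraMap R S)] [IsLocalHom (algebraMap R R')] [IsLocalHom (algebraMap S S')]
    [IsLocalHom (algebraMap R' S')] [Module.Flat R R'] [Module.Flat S S']
    [IsNoetherianRing R'] [IsNoetherianRing S']
    (hm : (IsLocalRing.maximalIdeal R).map (algebraMap R R') = IsLocalRing.maximalIdeal R')
    (M : Type u) [AddCommGroup M] [Module S M] [Module R M] [IsScalarTower R S M] [Module.Finite S M]
    [Module.Flat R M]
    (M' : Type u) [AddCommGroup M'] [Module S' M'] [Module S M'] [IsScalarTower S S' M'] [Module R' M']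
    [IsScalarTower R' S' M'] (j : M →ₗ[S] M') (hj : IsBaseChange S' j) :
    Module.Flat R' M' := by
  let _ : Module R M' := Module.compHom M' (algebraMap R R')
  have hsmul : ∀ (a : R) (m : M'), a • m = algebraMap R R' a • m := fun a m => rfl
  have : IsScalarTower R R' M' := ⟨fun a b m => by
    rw [hsmul, Algebra.smul_def, mul_smul]⟩
  have : IsScalarTower R S' M' := ⟨fun a b m => by
    rw [hsmul, Algebra.smul_def, mul_smul, IsScalarTower.algebraMap_apply R R' S',
      algebraMap_smul]⟩
  have : IsScalarTower R S M' := ⟨fun a b m => by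
    rw [← algebraMap_smul S' (a • b) m, ← algebraMap_smul S' b m, Algebra.smul_def, map_mul,
      mul_smul, ← IsScalarTower.algebraMap_apply R S S', algebraMap_smul]⟩
  -- M' is flat over R
  have hflatR : Module.Flat R M' := by
    have := flat_tensor_of_flat R S S' M
    exact Module.Flat.of_linearEquiv (hj.equiv.restrictScalars R).symm
  have hfin : Module.Finite S' M' := Module.Finite.equiv hj.equiv
  set 𝔪 := IsLocalRing.maximalIdeal R with h𝔪
  set 𝔪' := IsLocalRing.maximalIdeal R' with h𝔪'
  -- the comparison map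
  let ι : 𝔪 →ₗ[R] 𝔪' :=
    { toFun := fun a => ⟨algebraMap R R' a.1, hm ▸ Ideal.mem_map_of_mem _ a.2⟩
      map_add' := fun a b => by ext; simp
      map_smul' := fun r a => by ext; simp [Algebra.smul_def] }
  let σ : 𝔪 ⊗[R] M' →ₗ[R] 𝔪' ⊗[R'] M' :=
    (TensorProduct.mapOfCompatibleSMul R' R R 𝔪' M') ∘ₗ (ι.rTensor M')
  have hσ : ∀ (a : 𝔪) (m : M'), σ (a ⊗ₜ m) = (ι a) ⊗ₜ m := fun a m => rfl
  have hmem : ∀ x, x ∈ (IsLocalRing.maximalIdeal R).map (algebraMap R R') → x ∈ 𝔪' :=
    fun x hx => hm ▸ hx
  have aux : ∀ b (hb' : b ∈ Submodule.span R' ((algebraMap R R') '' (𝔪 : Set R))) (hb : b ∈ 𝔪')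
      (m : M'), (⟨b, hb⟩ : 𝔪') ⊗ₜ[R'] m ∈ LinearMap.range σ := by
    intro b hb'
    induction hb' using Submodule.span_induction with
    | mem x hx =>
      intro hb m
      obtain ⟨a, ha, rfl⟩ := hx
      exact ⟨(⟨a, ha⟩ : 𝔪) ⊗ₜ m, hσ _ _⟩
    | zero =>
      intro hb m
      refine ⟨0, ?_⟩
      rw [map_zero]
      have : (⟨0, hb⟩ : 𝔪') = 0 := rfl
      rw [this, TensorProduct.zero_tmul]
    | add x y hx hy ihx ihy =>
      intro hb m
      have hx' : x ∈ 𝔪' := hmem x hx
      have hy' : y ∈ 𝔪' := hmem y hy
      obtain ⟨x', hx''⟩ := ihx hx' m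
      obtain ⟨y', hy''⟩ := ihy hy' m
      refine ⟨x' + y', ?_⟩
      rw [map_add, hx'', hy'', ← TensorProduct.add_tmul]
      rfl
    | smul r x hx ihx =>
      intro hb m
      have hx' : x ∈ 𝔪' := hmem x hx
      obtain ⟨x', hx''⟩ := ihx hx' (r • m)
      refine ⟨x', ?_⟩
      rw [hx'', ← TensorProduct.smul_tmul]
      rfl
  have hσsurj : Surjective σ := by
    intro x
    induction x using TensorProduct.induction_on with
    | zero => exact ⟨0, map_zero _⟩
    | add a b ha hb =>
      obtain ⟨a', rfl⟩ := ha
      obtain ⟨b', rfl⟩ := hb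
      exact ⟨a' + b', map_add _ _ _⟩
    | tmul b m =>
      obtain ⟨b, hb⟩ := b
      have hb' : b ∈ Submodule.span R' ((algebraMap R R') '' (𝔪 : Set R)) := by
        have : b ∈ (IsLocalRing.maximalIdeal R).map (algebraMap R R') := by rw [hm]; exact hb
        exact this
      exact aux b hb' hb m
  have hcomm : ∀ y, (TensorProduct.lid R' M') (𝔪'.subtype.rTensor M' (σ y)) =
      (TensorProduct.lid R M') (𝔪.subtype.rTensor M' y) := by
    intro y
    induction y using TensorProduct.induction_on with
    | zero => simp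
    | add a b ha hb => simp only [map_add, ha, hb]
    | tmul a m =>
      rw [hσ, LinearMap.rTensor_tmul, LinearMap.rTensor_tmul, TensorProduct.lid_tmul,
        TensorProduct.lid_tmul]
      rfl
  have hI : Injective (𝔪'.subtype.rTensor M') := by
    rw [injective_iff_map_eq_zero]
    intro x hx
    obtain ⟨y, rfl⟩ := hσsurj x
    have h1 := hcomm y
    rw [hx, map_zero] at h1
    have h2 : 𝔪.subtype.rTensor M' y = 0 :=
      (TensorProduct.lid R M').injective (by rw [← h1, map_zero])
    have h3 : y = 0 :=
      (injective_iff_map_eq_zero _).mp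
        (Module.Flat.rTensor_preserves_injective_linearMap (M := M') 𝔪.subtype
          𝔪.injective_subtype) y h2
    rw [h3, map_zero]
  have hIS : 𝔪'.map (algebraMap R' S') ≤ Ideal.jacobson ⊥ := by
    rw [IsLocalRing.jacobson_eq_maximalIdeal ⊥ bot_ne_top]
    exact ((IsLocalRing.local_hom_TFAE (algebraMap R' S')).out 0 2).mp ‹_›
  let _ : Field (R' ⧸ 𝔪') := Ideal.Quotient.field 𝔪'
  exact flat_of_rTensor_injective_of_le_jacobson (R := R') (S := S') (M := M') 𝔪' hIS hI

end Groth.Agent.S6382
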