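import Groth.Statements.S6385
import Mathlib
import Groth.Agent.Lib.Helper12.IntegralDim
-- import your own Groth.Agent.* helpers here

set_option autoImplicit false
universe u
open CAlg

namespace Groth.Agent.S6385

/-- Let k be a field, S a finite type k-algebra, q a prime of S and x the corresponding point of X =
Spec S. Then there is g ∈ S, g ∉ q, such that dim S_g equals dim_x X — the minimum of dim S_{g'}
over all g' ∉ q — and, writing d for this dimension, a finite injective k-algebra map from the
polynomial ring k[y_1, ..., y_d] to S_g. -/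
theorem result (k S : Type u) [Field k] [CommRing S] [Algebra k S]
    [Algebra.FiniteType k S] (q : Ideal S) [q.IsPrime] :
    ∃ (g : S) (d : ℕ), g ∉ q ∧ ringKrullDim (Localization.Away g) = d ∧
      (∀ g' : S, g' ∉ q → ringKrullDim (Localization.Away g) ≤ ringKrullDim (Localization.Away g')) ∧
      ∃ φ : MvPolynomial (Fin d) k →ₐ[k] Localization.Away g, Function.Injective φ ∧ φ.toRingHom.Finite := by
  classical
  -- choose `g ∉ q` minimizing the dimension of `S_g`
  let D : Set (WithBot ℕ∞) := {x | ∃ g' : S, g' ∉ q ∧ ringKrullDim (Localization.Away g') = x}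
  have hD : D.Nonempty := ⟨_, 1, fun h => (Ideal.IsPrime.ne_top' (I := q)) ((Ideal.eq_top_iff_one q).2 h), rfl⟩
  obtain ⟨x, ⟨g, hgq, rfl⟩, hmin⟩ := (wellFounded_lt (α := WithBot ℕ∞)).has_min D hD
  have hnt : Nontrivial (Localization.Away g) := by
    rw [← not_subsingleton_iff_nontrivial, IsLocalization.subsingleton_iff (M := Submonoid.powers g)]
    rintro ⟨n, hn⟩
    have hn' : g ^ n = 0 := hn
    exact hgq (Ideal.IsPrime.mem_of_pow_mem inferInstance n (hn' ▸ q.zero_mem))
  obtain ⟨d, φ, hinj, hfin⟩ := exists_finite_inj_algHom_of_fg k (Localization.Away g)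
  have hdim : ringKrullDim (Localization.Away g) = d := by
    letI := φ.toRingHom.toAlgebra
    have hint : Algebra.IsIntegral (MvPolynomial (Fin d) k) (Localization.Away g) :=
      ⟨fun y => (RingHom.Finite.to_isIntegral hfin) y⟩
    rw [← Groth.Agent.Lib.Helper12.ringKrullDim_eq_of_isIntegral_of_injective
      (MvPolynomial (Fin d) k) (Localization.Away g) hinj]
    simp
  refine ⟨g, d, hgq, hdim, ?_, φ, hinj, hfin⟩
  intro g' hg'
  exact not_lt.1 (hmin _ ⟨g', hg', rfl⟩)

end Groth.Agent.S6385
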