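import Groth.Statements.S6386
import Mathlib
-- import your own Groth.Agent.* helpers here

set_option autoImplicit false
universe u
open CAlg

namespace Groth.Agent.S6386

/-- The key step of its proof: let A be a ring, κ = max(|A|, ℵ₀), and B a flat A-algebra. Then every
A-subalgebra E ⊆ B with at most κ elements lies inside a flat A-subalgebra B' ⊆ B with at most κ
elements. Consequently B is the filtered colimit (union) of its flat A-subalgebras of cardinality at
most κ. -/
theorem result (A B : Type u) [CommRing A] [CommRing B] [Algebra A B]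
    [Module.Flat A B] (E : Subalgebra A B) (hE : Cardinal.mk E ≤ max (Cardinal.mk A) Cardinal.aleph0) :
    ∃ B' : Subalgebra A B, E ≤ B' ∧ Module.Flat A B' ∧ Cardinal.mk B' ≤ max (Cardinal.mk A) Cardinal.aleph0 := by
  classical
  set κ := max (Cardinal.mk A) Cardinal.aleph0 with hκ
  have hκ0 : Cardinal.aleph0 ≤ κ := le_max_right _ _
  have hAκ : Cardinal.mk A ≤ κ := le_max_left _ _
  -- witnesses of triviality of relations in `B`
  have hex : ∀ ρ : (Σ l : ℕ, Fin l → A × B), ∃ (k : ℕ) (y : Fin k → B),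
      (∑ i, (ρ.2 i).1 • (ρ.2 i).2 = 0 → ∃ a : Fin ρ.1 → Fin k → A,
        (∀ i, (ρ.2 i).2 = ∑ j, a i j • y j) ∧ ∀ j, ∑ i, (ρ.2 i).1 * a i j = 0) := by
    intro ρ
    by_cases h : ∑ i, (ρ.2 i).1 • (ρ.2 i).2 = 0
    · obtain ⟨k, a, y, h1, h2⟩ := Module.Flat.isTrivialRelation_of_sum_smul_eq_zero (R := A) (M := B)
        (f := fun i => (ρ.2 i).1) (x := fun i => (ρ.2 i).2) h
      exact ⟨k, y, fun _ => ⟨a, h1, h2⟩⟩
    · exact ⟨0, Fin.elim0, fun h' => absurd h' h⟩
  choose kW yW hW using hex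
  let emb : (C : Subalgebra A B) → (Σ l : ℕ, Fin l → A × C) → (Σ l : ℕ, Fin l → A × B) :=
    fun C ρ => ⟨ρ.1, fun i => ((ρ.2 i).1, ((ρ.2 i).2 : B))⟩
  let step : Subalgebra A B → Subalgebra A B := fun C =>
    Algebra.adjoin A ((C : Set B) ∪ ⋃ ρ : (Σ l : ℕ, Fin l → A × C), Set.range (yW (emb C ρ)))
  have hstep_le : ∀ C, C ≤ step C := fun C x hx => Algebra.subset_adjoin (Or.inl hx)
  have hstep_mem : ∀ (C : Subalgebra A B) (ρ : (Σ l : ℕ, Fin l → A × C)) (j : Fin (kW (emb C ρ))),
      yW (emb C ρ) j ∈ step C := fun C ρ j =>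
    Algebra.subset_adjoin (Or.inr (Set.mem_iUnion.2 ⟨ρ, j, rfl⟩))
  have hstep_card : ∀ C : Subalgebra A B, Cardinal.mk C ≤ κ → Cardinal.mk (step C) ≤ κ := by
    intro C hC
    have hrel : Cardinal.mk (Σ l : ℕ, Fin l → A × C) ≤ κ := by
      have hinj : Function.Injective (fun ρ : (Σ l : ℕ, Fin l → A × C) => List.ofFn ρ.2) := by
        rintro ⟨l₁, p₁⟩ ⟨l₂, p₂⟩ h
        exact List.ofFn_inj'.1 h
      refine (Cardinal.mk_le_of_injective hinj).trans ?_
      refine (Cardinal.mk_list_le_max _).trans ?_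
      rw [Cardinal.mk_prod, Cardinal.lift_id, Cardinal.lift_id]
      exact max_le hκ0 ((mul_le_mul' hAκ hC).trans_eq (Cardinal.mul_eq_self hκ0))
    have hU : Cardinal.mk (⋃ ρ : (Σ l : ℕ, Fin l → A × C), Set.range (yW (emb C ρ))) ≤ κ := by
      refine (Cardinal.mk_iUnion_le _).trans ?_
      refine (mul_le_mul' hrel (ciSup_le' fun ρ => ?_)).trans_eq (Cardinal.mul_eq_self hκ0)
      have : Finite (Set.range (yW (emb C ρ))) := (Set.finite_range _).to_subtype
      exact (Cardinal.lt_aleph0_of_finite _).le.trans hκ0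
    refine (Algebra.cardinalMk_adjoin_le A _).trans ?_
    refine max_le (max_le hAκ ?_) hκ0
    refine (Cardinal.mk_union_le _ _).trans ?_
    exact (add_le_add hC hU).trans_eq (Cardinal.add_eq_self hκ0)
  let C : ℕ → Subalgebra A B := fun n => step^[n] E
  have hC_succ : ∀ n, C (n + 1) = step (C n) := fun n => Function.iterate_succ_apply' step n E
  have hC_mono : Monotone C := monotone_nat_of_le_succ fun n => by rw [hC_succ]; exact hstep_le _
  have hC_card : ∀ n, Cardinal.mk (C n) ≤ κ := by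
    intro n
    induction n with
    | zero => exact hE
    | succ n ih => rw [hC_succ]; exact hstep_card _ ih
  have hdir : Directed (· ≤ ·) C := hC_mono.directed_le
  refine ⟨⨆ n, C n, le_iSup C 0, ?_, ?_⟩
  · apply Module.Flat.of_forall_isTrivialRelation
    intro l f x hx
    -- all `x i` lie in a common stage
    have hmem : ∀ i, ∃ n, (x i : B) ∈ C n := fun i => by
      have := (x i).2
      rw [← SetLike.mem_coe, Subalgebra.coe_iSup_of_directed hdir, Set.mem_iUnion] at this
      exact this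
    choose n hn using hmem
    let N := Finset.univ.sup n
    have hN : ∀ i, (x i : B) ∈ C N := fun i => hC_mono (Finset.le_sup (Finset.mem_univ i)) (hn i)
    let ρ : (Σ l : ℕ, Fin l → A × C N) := ⟨l, fun i => (f i, ⟨x i, hN i⟩)⟩
    have hrelB : ∑ i, ((emb (C N) ρ).2 i).1 • ((emb (C N) ρ).2 i).2 = 0 := by
      have := congrArg (Subalgebra.val (⨆ n, C n)) hx
      simpa using this
    obtain ⟨a, h1, h2⟩ := hW (emb (C N) ρ) hrelB
    have hy : ∀ j, yW (emb (C N) ρ) j ∈ ⨆ n, C n := fun j =>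
      (le_iSup C (N + 1)) (by rw [hC_succ]; exact hstep_mem (C N) ρ j)
    refine ⟨kW (emb (C N) ρ), a, fun j => ⟨yW (emb (C N) ρ) j, hy j⟩, fun i => ?_, h2⟩
    apply Subtype.ext
    have := h1 i
    change (x i : B) = _ at this
    rw [this]
    simp
  · have hcoe : ((⨆ n, C n : Subalgebra A B) : Set B) = ⋃ n, (C n : Set B) :=
      Subalgebra.coe_iSup_of_directed hdir
    have h1 : Cardinal.mk ((⨆ n, C n : Subalgebra A B) : Set B) =
        Cardinal.mk (⋃ n, (C n : Set B)) := by rw [hcoe]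
    refine h1.le.trans ?_
    have h2 := Cardinal.mk_iUnion_le_lift (fun n => (C n : Set B))
    simp only [Cardinal.lift_uzero, Cardinal.mk_nat, Cardinal.lift_aleph0] at h2
    refine h2.trans ?_
    refine (mul_le_mul' hκ0 (ciSup_le' fun n => hC_card n)).trans_eq (Cardinal.mul_eq_self hκ0)

end Groth.Agent.S6386
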