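import Groth.Statements.S6387
import Mathlib
import Groth.Agent.Lib.Helper9.QuotTensor

set_option autoImplicit false
universe u
open CategoryTheory
open CAlg
open Limits MonoidalCategory Groth.Agent.Lib.Helper9.QuotTensor

namespace Groth.Agent.S6387

/-- Let R and S be Noetherian local rings, R → S a local ring map, and m the maximal ideal of R. Take a
bounded complex F_e → … → F_1 → F_0 of finitely generated S-modules, zero to the left of F_e (a
chain complex C with C_j = 0 for j > e) such that every F_j is flat over R and the complex 0 →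
F_e/mF_e → … → F_0/mF_0 (C tensored over S with S/mS) is exact at F_e, …, F_1. Then 0 → F_e → … →
F_0 is exact at F_e, …, F_1 and the cokernel of F_1 → F_0 (the homology of C in degree 0) is flat
over R. -/
theorem result {R S : Type u} [CommRing R] [CommRing S]
    [IsLocalRing R] [IsLocalRing S] [IsNoetherianRing R] [IsNoetherianRing S] [Algebra R S]
    [IsLocalHom (algebraMap R S)] (C : ChainComplex (ModuleCat.{u} S) ℕ) (e : ℕ)
    (hzero : ∀ j, e < j → Limits.IsZero (C.X j)) (hfin : ∀ j, Module.Finite S (C.X j))
    (hflat : ∀ j, Module.Flat R ((ModuleCat.restrictScalars (algebraMap R S)).obj (C.X j)))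
    (hex : ∀ j, 1 ≤ j → j ≤ e →
      (((MonoidalCategory.tensorLeft
          (ModuleCat.of S (S ⧸ (IsLocalRing.maximalIdeal R).map (algebraMap R S)))).mapHomologicalComplex
          (ComplexShape.down ℕ)).obj C).ExactAt j) :
    (∀ j, 1 ≤ j → j ≤ e → C.ExactAt j) ∧
      Module.Flat R ((ModuleCat.restrictScalars (algebraMap R S)).obj (C.homology 0)) := by
  set I := (IsLocalRing.maximalIdeal R).map (algebraMap R S) with hI
  let inst : ∀ j, Module R (C.X j) := fun j => Module.compHom (C.X j) (algebraMap R S)
  have tower : ∀ j, IsScalarTower R S (C.X j) := fun j =>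
    IsScalarTower.of_algebraMap_smul (fun r x => rfl)
  have hflat' : ∀ j, Module.Flat R (C.X j) := fun j => hflat j
  have := hfin
  -- the key step for each j
  have key : ∀ j, 1 ≤ j → j ≤ e →
      (∀ y : C.X j, (C.d j (j - 1)).hom y = 0 → ∃ x : C.X (j + 1), (C.d (j + 1) j).hom x = y) ∧
      Module.Flat R (C.X (j - 1) ⧸ (LinearMap.range (C.d j (j - 1)).hom).restrictScalars R) := by
    intro j hj1 hje
    obtain ⟨k, rfl⟩ : ∃ k, j = k + 1 := ⟨j - 1, by omega⟩
    change (∀ y : C.X (k + 1), (C.d (k + 1) k).hom y = 0 → ∃ x : C.X (k + 1 + 1), (C.d (k + 1 + 1) (k + 1)).hom x = y) ∧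
      Module.Flat R (C.X k ⧸ (LinearMap.range (C.d (k + 1) k).hom).restrictScalars R)
    apply exact_and_flat_of_exact_mod (R := R) (S := S) (C.d (k + 1 + 1) (k + 1)).hom (C.d (k + 1) k).hom
    · rw [← ModuleCat.hom_comp, C.d_comp_d]; rfl
    · have h := hex (k + 1) hj1 hje
      rw [HomologicalComplex.exactAt_iff' _ (k + 1 + 1) (k + 1) k (by simp) (by simp),
        ShortComplex.moduleCat_exact_iff] at h
      rw [← lTensor_quot_exact_iff]
      intro y hy
      exact h y hy
  refine ⟨?_, ?_⟩
  · intro j hj1 hje
    obtain ⟨k, rfl⟩ : ∃ k, j = k + 1 := ⟨j - 1, by omega⟩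
    rw [HomologicalComplex.exactAt_iff' _ (k + 1 + 1) (k + 1) k (by simp) (by simp),
      ShortComplex.moduleCat_exact_iff]
    exact (key (k + 1) hj1 hje).1
  · set p : Submodule S (C.X 0) := LinearMap.range (C.d 1 0).hom with hp
    have hQ : Module.Flat R (C.X 0 ⧸ p.restrictScalars R) := by
      by_cases he : 1 ≤ e
      · exact (key 1 le_rfl he).2
      · have hz : IsZero (C.X 1) := hzero 1 (by omega)
        have hpbot : p = ⊥ := by
          rw [hp, LinearMap.range_eq_bot]
          have : C.d 1 0 = 0 := hz.eq_of_src _ _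
          rw [this]; rfl
        have e1 : (C.X 0 ⧸ p.restrictScalars R) ≃ₗ[R] C.X 0 := by
          have : p.restrictScalars R = ⊥ := by rw [hpbot]; rfl
          exact Submodule.quotEquivOfEqBot _ this
        exact Module.Flat.of_linearEquiv e1
    let iso : C.homology 0 ≅ ModuleCat.of S (C.X 0 ⧸ p) :=
      C.isoHomologyι 0 0 (by simp) (C.shape _ _ (by simp)) ≪≫
        ShortComplex.opcyclesMapIso (C.isoSc' 1 0 0 (by simp) (by simp)) ≪≫
        (C.sc' 1 0 0).moduleCatOpcyclesIso
    let E : C.homology 0 ≃ₗ[S] (C.X 0 ⧸ p) := iso.toLinearEquiv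
    let ER : ((ModuleCat.restrictScalars (algebraMap R S)).obj (C.homology 0)) ≃ₗ[R] (C.X 0 ⧸ p) :=
      { toFun := E
        invFun := E.symm
        map_add' := E.map_add
        map_smul' := fun r x => by
          have h := E.map_smul (algebraMap R S r) (show (C.homology 0 : Type u) from x)
          exact h.trans (algebraMap_smul S r _)
        left_inv := E.left_inv
        right_inv := E.right_inv }
    exact Module.Flat.of_linearEquiv (ER.trans (Submodule.Quotient.restrictScalarsEquiv R p).symm)

end Groth.Agent.S6387
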