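import Groth.Statements.S6388
-- import your own Groth.Agent.* helpers here

set_option autoImplicit false
universe u
open CAlg

namespace Groth.Agent.S6388

/-- Let f : M → N and g : M → M' be maps of R-modules and let N' be their pushout, realised as the
quotient of M' × N by the submodule of elements (g x, -f x). Then g dominates f — for every module Q
the kernel of f ⊗ id_Q is contained in the kernel of g ⊗ id_Q — if and only if the canonical map M'
→ N' is universally injective. -/
theorem result (R : Type u) [CommRing R] {M N M' : Type u}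
    [AddCommGroup M] [Module R M] [AddCommGroup N] [Module R N] [AddCommGroup M'] [Module R M']
    (f : M →ₗ[R] N) (g : M →ₗ[R] M') :
    (∀ (Q : Type u) [AddCommGroup Q] [Module R Q], LinearMap.ker (f.rTensor Q) ≤ LinearMap.ker (g.rTensor Q)) ↔
      CAlgX.UniversallyInjective R
        ((LinearMap.range (g.prod (-f))).mkQ ∘ₗ LinearMap.inl R M' N) := by
  set L := LinearMap.range (g.prod (-f)) with hL
  have hexact : Function.Exact (g.prod (-f)) L.mkQ := by
    intro y
    rw [← LinearMap.mem_ker, Submodule.ker_mkQ]
    rfl
  constructor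
  · intro H Q _ _
    rw [injective_iff_map_eq_zero]
    intro z hz
    rw [LinearMap.rTensor_comp, LinearMap.comp_apply] at hz
    obtain ⟨y, hy⟩ := (rTensor_exact Q hexact L.mkQ_surjective _).1 hz
    have h1 : (LinearMap.snd R M' N).rTensor Q ((LinearMap.inl R M' N).rTensor Q z) = 0 := by
      rw [← LinearMap.comp_apply, ← LinearMap.rTensor_comp]
      have : LinearMap.snd R M' N ∘ₗ LinearMap.inl R M' N = 0 := by
        ext x
        simp
      rw [this, LinearMap.rTensor_zero, LinearMap.zero_apply]
    rw [← hy, ← LinearMap.comp_apply, ← LinearMap.rTensor_comp] at h1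
    have h2 : LinearMap.snd R M' N ∘ₗ g.prod (-f) = -f := by
      ext x
      simp
    rw [h2, LinearMap.rTensor_neg, LinearMap.neg_apply, neg_eq_zero] at h1
    have h3 : g.rTensor Q y = 0 := H Q (LinearMap.mem_ker.2 h1)
    have h4 : (LinearMap.fst R M' N).rTensor Q ((LinearMap.inl R M' N).rTensor Q z) = z := by
      rw [← LinearMap.comp_apply, ← LinearMap.rTensor_comp]
      have : LinearMap.fst R M' N ∘ₗ LinearMap.inl R M' N = LinearMap.id := by
        ext x
        simp
      rw [this, LinearMap.rTensor_id, LinearMap.id_apply]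
    rw [← h4, ← hy, ← LinearMap.comp_apply, ← LinearMap.rTensor_comp]
    have h5 : LinearMap.fst R M' N ∘ₗ g.prod (-f) = g := by
      ext x
      simp
    rw [h5, h3]
  · intro H Q _ _ y hy
    rw [LinearMap.mem_ker] at hy ⊢
    apply H Q
    rw [map_zero, ← LinearMap.comp_apply, ← LinearMap.rTensor_comp]
    have h1 : (L.mkQ ∘ₗ LinearMap.inl R M' N) ∘ₗ g = (L.mkQ ∘ₗ LinearMap.inr R M' N) ∘ₗ f := by
      ext x
      simp only [LinearMap.comp_apply, Submodule.mkQ_apply]
      rw [Submodule.Quotient.eq]
      refine ⟨x, ?_⟩
      simp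
    rw [h1, LinearMap.rTensor_comp, LinearMap.comp_apply, hy, map_zero]

end Groth.Agent.S6388
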