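import Groth.Statements.S6402
import Groth.Agent.Lib.Helper24.FibCatDiag
import Groth.Agent.Lib.Helper24.FibCatInertia

set_option autoImplicit false
open CategoryTheory
universe v u
open FibCat

namespace Groth.Agent.S6402

open CategoryTheory CategoryTheory.Limits
open Groth.Agent.Lib.Helper24.FibCatFpGen Groth.Agent.Lib.Helper24.FibCatDiag

  Groth.Agent.Lib.Helper24.FibCatEquiv Groth.Agent.Lib.Helper24.FibCatInertia

section
variable {C : Type u} [Category.{v} C] {𝒳 𝒴 : BasedCategory.{v, max u v} C} (F : 𝒳 ⥤ᵇ 𝒴)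

/-- isomorphisms `Δ x ≅ Δ x'` from a compatible pair of isomorphisms -/
def mkIsoΔΔ {x x' : 𝒳.obj} (a b : x ≅ x') (h : F.toFunctor.map a.hom = F.toFunctor.map b.hom) :
    (FibCat.diag F).toFunctor.obj x ≅ (FibCat.diag F).toFunctor.obj x' :=
  mkIso (x := (FibCat.diag F).toFunctor.obj x) (y := (FibCat.diag F).toFunctor.obj x') a b (by
    change F.toFunctor.map a.hom ≫ 𝟙 _ = 𝟙 _ ≫ F.toFunctor.map b.hom
    rw [Category.comp_id, Category.id_comp, h])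

lemma mkIsoΔΔ_hom_fst {x x' : 𝒳.obj} (a b : x ≅ x')
    (h : F.toFunctor.map a.hom = F.toFunctor.map b.hom) : (mkIsoΔΔ F a b h).hom.hom.fst = a.hom := rfl
lemma mkIsoΔΔ_hom_snd {x x' : 𝒳.obj} (a b : x ≅ x')
    (h : F.toFunctor.map a.hom = F.toFunctor.map b.hom) : (mkIsoΔΔ F a b h).hom.hom.snd = b.hom := rfl

/-- the object of `𝒳 ×_{Δ,Δ} 𝒳` attached to an object of the inertia -/
def EObj (ξ : FibCat.InertiaObj F) : (FibCat.fp (FibCat.diag F) (FibCat.diag F)).obj :=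
  mkObj (F := FibCat.diag F) (G := FibCat.diag F) ξ.pt ξ.pt
    (mkIsoΔΔ F ξ.aut (Iso.refl ξ.pt) (by rw [ξ.map_aut]; simp)) (by
      rw [isHomLift_iff_fst]
      exact aut_isHomLift F ξ)

lemma EObj_fst (ξ : FibCat.InertiaObj F) : (EObj F ξ).obj.fst = ξ.pt := rfl
lemma EObj_snd (ξ : FibCat.InertiaObj F) : (EObj F ξ).obj.snd = ξ.pt := rfl
lemma EObj_iso_fst (ξ : FibCat.InertiaObj F) : (EObj F ξ).obj.iso.hom.hom.fst = ξ.aut.hom := rfl
lemma EObj_iso_snd (ξ : FibCat.InertiaObj F) : (EObj F ξ).obj.iso.hom.hom.snd = 𝟙 ξ.pt := rfl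

/-- the morphism of `𝒳 ×_{Δ,Δ} 𝒳` attached to a morphism of the inertia -/
def EMap {ξ η : FibCat.InertiaObj F} (φ : ξ ⟶ η) : EObj F ξ ⟶ EObj F η :=
  mkHom (F := FibCat.diag F) (G := FibCat.diag F) (x := EObj F ξ) (y := EObj F η) φ.hom φ.hom (by
    apply hom_ext'
    · exact φ.comm.symm
    · change φ.hom ≫ 𝟙 _ = 𝟙 _ ≫ φ.hom
      rw [Category.comp_id, Category.id_comp])

/-- the comparison functor -/
def EFun : FibCat.inertia F ⥤ᵇ FibCat.fp (FibCat.diag F) (FibCat.diag F) where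
  toFunctor :=
    { obj := EObj F
      map := fun φ => EMap F φ
      map_id := fun ξ => by apply hom_ext' <;> rfl
      map_comp := fun φ ψ => by apply hom_ext' <;> rfl }
  w := rfl

lemma EFun_faithful : (EFun F).toFunctor.Faithful := by
  constructor
  intro ξ η φ ψ h
  apply FibCat.InertiaObj.hom_ext
  exact congrArg (fun t => t.hom.fst) h

lemma EFun_full : (EFun F).toFunctor.Full := by
  constructor
  intro ξ η m
  obtain ⟨a, ha⟩ : ∃ a : ξ.pt ⟶ η.pt, a = m.hom.fst := ⟨_, rfl⟩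
  obtain ⟨b, hb⟩ : ∃ b : ξ.pt ⟶ η.pt, b = m.hom.snd := ⟨_, rfl⟩
  have w := hom_w m
  have w1 : a ≫ η.aut.hom = ξ.aut.hom ≫ b := by
    rw [ha, hb]; exact congrArg (fun t => t.hom.fst) w
  have w2 : a ≫ 𝟙 _ = 𝟙 _ ≫ b := by
    rw [ha, hb]; exact congrArg (fun t => t.hom.snd) w
  rw [Category.comp_id, Category.id_comp] at w2
  subst w2
  refine ⟨⟨a, w1.symm⟩, ?_⟩
  apply hom_ext'
  · exact ha
  · exact hb

lemma exists_lift_data (η : (FibCat.fp (FibCat.diag F) (FibCat.diag F)).obj) :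
    ∃ (ξ : FibCat.InertiaObj F) (e : EObj F ξ ≅ η),
      (FibCat.fp (FibCat.diag F) (FibCat.diag F)).p.IsHomLift
        (𝟙 ((FibCat.fp (FibCat.diag F) (FibCat.diag F)).p.obj η)) e.hom := by
  obtain ⟨Θ₁, hΘ₁⟩ : ∃ Θ₁ : η.obj.fst ≅ η.obj.snd, Θ₁.hom = η.obj.iso.hom.hom.fst :=
    ⟨(FibCat.fpFst F F).toFunctor.mapIso η.obj.iso, rfl⟩
  obtain ⟨Θ₂, hΘ₂⟩ : ∃ Θ₂ : η.obj.fst ≅ η.obj.snd, Θ₂.hom = η.obj.iso.hom.hom.snd :=
    ⟨(FibCat.fpSnd F F).toFunctor.mapIso η.obj.iso, rfl⟩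
  have hF12 : F.toFunctor.map Θ₁.hom = F.toFunctor.map Θ₂.hom := by
    have w : F.toFunctor.map η.obj.iso.hom.hom.fst ≫ 𝟙 _ = 𝟙 _ ≫ F.toFunctor.map η.obj.iso.hom.hom.snd :=
      hom_w η.obj.iso.hom
    rw [Category.comp_id, Category.id_comp] at w
    rw [hΘ₁, hΘ₂]; exact w
  let ξ : FibCat.InertiaObj F := ⟨η.obj.fst, Θ₁ ≪≫ Θ₂.symm, by
    change F.toFunctor.map (Θ₁.hom ≫ Θ₂.inv) = 𝟙 _
    rw [Functor.map_comp, hF12, ← Functor.map_comp, Iso.hom_inv_id, Functor.map_id]⟩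
  refine ⟨ξ, mkIso (F := FibCat.diag F) (G := FibCat.diag F) (x := EObj F ξ) (y := η)
    (Iso.refl η.obj.fst) Θ₂ ?_, ?_⟩
  · apply hom_ext'
    · change 𝟙 _ ≫ η.obj.iso.hom.hom.fst = (Θ₁.hom ≫ Θ₂.inv) ≫ Θ₂.hom
      rw [Category.id_comp, Category.assoc, Iso.inv_hom_id, Category.comp_id, hΘ₁]
    · change 𝟙 _ ≫ η.obj.iso.hom.hom.snd = 𝟙 _ ≫ Θ₂.hom
      rw [hΘ₂]
      rfl
  · rw [isHomLift_iff_fst]
    change 𝒳.p.IsHomLift (𝟙 (𝒳.p.obj η.obj.fst)) (𝟙 η.obj.fst)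
    infer_instance

theorem EFun_isEquivOver : FibCat.IsEquivOver (EFun F) := by
  have := EFun_faithful F
  have := EFun_full F
  choose ξ e he using exists_lift_data F
  exact isEquivOver_of_liftData (F := EFun F) ⟨ξ, e, he⟩

end


/-- For a functor `F : 𝒳 ⟶ 𝒴` of fibred categories over `C` preserving strongly cartesian morphisms, the
relative inertia `I_{𝒳/𝒴}` (pairs `(x, α)` with `α` an automorphism of `x` sent to the identity by
`F`) is equivalent over `C` to `𝒳 ×_{Δ, 𝒳 ×_𝒴 𝒳, Δ} 𝒳`, by a functor over `C` whose composite with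
either projection is the forgetful functor `(x, α) ↦ x`. (Only the two projections of the
equivalence are pinned here; its 2-cell component at `(x, α)` is `(α, 𝟙)`.) -/
theorem result {C : Type u} [Category.{v} C] {𝒳 𝒴 : BasedCategory.{v, max u v} C} [𝒳.p.IsFibered] [𝒴.p.IsFibered] (F : 𝒳 ⥤ᵇ 𝒴) (hF : FibCat.PreservesStronglyCartesian F) :
    ∃ E : FibCat.inertia F ⥤ᵇ FibCat.fp (FibCat.diag F) (FibCat.diag F),
      FibCat.IsEquivOver E ∧ BasedFunctor.comp E (FibCat.fpFst _ _) = FibCat.inertiaToBase F ∧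
        BasedFunctor.comp E (FibCat.fpSnd _ _) = FibCat.inertiaToBase F := by
  exact ⟨EFun F, EFun_isEquivOver F, rfl, rfl⟩

end Groth.Agent.S6402
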