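import Groth.Statements.S6406
import Groth.Agent.Lib.Helper24.FibSetoid

set_option autoImplicit false
open CategoryTheory
universe v u
open FibCat

namespace Groth.Agent.S6406

open CategoryTheory CategoryTheory.Limits
open Groth.Agent.Lib.Helper24.FibGrpd Groth.Agent.Lib.Helper24.FibSetoid

  Groth.Agent.Lib.Helper24.FibCatEquiv

set_option linter.unusedVariables false

namespace SetQ
section
variable {C : Type u} [Category.{v} C] (𝒳 : BasedCategory.{v, max u v} C)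

/-- the isomorphism relation on a fibre -/
def isoRel (U : C) : Setoid (𝒳.p.Fiber U) where
  r x y := Nonempty (x ≅ y)
  iseqv := ⟨fun x => ⟨Iso.refl x⟩, fun ⟨e⟩ => ⟨e.symm⟩, fun ⟨e⟩ ⟨f⟩ => ⟨e ≪≫ f⟩⟩

/-- objects: an object of the base and an isomorphism class in the fibre -/
structure QObj where
  base : C
  cls : Quotient (isoRel 𝒳 base)

variable {𝒳}

/-- the relation defining morphisms -/
def Rel (a b : QObj 𝒳) (f : a.base ⟶ b.base) : Prop :=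
  ∃ (x : 𝒳.p.Fiber a.base) (y : 𝒳.p.Fiber b.base), Quotient.mk (isoRel 𝒳 a.base) x = a.cls ∧
    Quotient.mk (isoRel 𝒳 b.base) y = b.cls ∧ ∃ φ : x.1 ⟶ y.1, 𝒳.p.IsHomLift f φ

lemma iso_of_mk_eq {U : C} {x x' : 𝒳.p.Fiber U}
    (h : Quotient.mk (isoRel 𝒳 U) x = Quotient.mk (isoRel 𝒳 U) x') :
    ∃ ι : x.1 ≅ x'.1, 𝒳.p.IsHomLift (𝟙 U) ι.hom := by
  obtain ⟨e⟩ : Nonempty (x ≅ x') := Quotient.exact h
  exact ⟨Functor.Fiber.fiberInclusion.mapIso e, e.hom.2⟩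

lemma rel_reps {a b : QObj 𝒳} {f : a.base ⟶ b.base} (h : Rel a b f) (x : 𝒳.p.Fiber a.base)
    (y : 𝒳.p.Fiber b.base) (hx : Quotient.mk (isoRel 𝒳 a.base) x = a.cls)
    (hy : Quotient.mk (isoRel 𝒳 b.base) y = b.cls) : ∃ φ : x.1 ⟶ y.1, 𝒳.p.IsHomLift f φ := by
  obtain ⟨x', y', hx', hy', φ', hφ'⟩ := h
  obtain ⟨ι, hι⟩ := iso_of_mk_eq (hx.trans hx'.symm)
  obtain ⟨κ, hκ⟩ := iso_of_mk_eq (hy'.trans hy.symm)
  refine ⟨ι.hom ≫ φ' ≫ κ.hom, ?_⟩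
  have h1 : 𝒳.p.IsHomLift f (φ' ≫ κ.hom) :=
    IsHomLift.comp_lift_id_right' (p := 𝒳.p) f φ' b.base κ.hom
  exact IsHomLift.comp_lift_id_left' (p := 𝒳.p) a.base ι.hom f (φ' ≫ κ.hom)

lemma rel_id (a : QObj 𝒳) : Rel a a (𝟙 a.base) := by
  refine ⟨a.cls.out, a.cls.out, Quotient.out_eq _, Quotient.out_eq _, 𝟙 _, ?_⟩
  exact IsHomLift.id a.cls.out.2

lemma rel_comp {a b c : QObj 𝒳} {f : a.base ⟶ b.base} {g : b.base ⟶ c.base} (hf : Rel a b f)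
    (hg : Rel b c g) : Rel a c (f ≫ g) := by
  obtain ⟨x, y, hx, hy, φ, hφ⟩ := hf
  obtain ⟨ψ, hψ⟩ := rel_reps hg y c.cls.out hy (Quotient.out_eq _)
  exact ⟨x, c.cls.out, hx, Quotient.out_eq _, φ ≫ ψ, inferInstance⟩

instance : Category.{v} (QObj 𝒳) where
  Hom a b := {f : a.base ⟶ b.base // Rel a b f}
  id a := ⟨𝟙 a.base, rel_id a⟩
  comp f g := ⟨f.1 ≫ g.1, rel_comp f.2 g.2⟩
  id_comp f := Subtype.ext (Category.id_comp _)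
  comp_id f := Subtype.ext (Category.comp_id _)
  assoc f g h := Subtype.ext (Category.assoc _ _ _)

lemma comp_val {a b c : QObj 𝒳} (f : a ⟶ b) (g : b ⟶ c) : (f ≫ g).1 = f.1 ≫ g.1 := rfl
lemma id_val (a : QObj 𝒳) : (𝟙 a : a ⟶ a).1 = 𝟙 a.base := rfl

variable (𝒳)

/-- the structure functor -/
def proj : QObj 𝒳 ⥤ C where
  obj a := a.base
  map f := f.1

/-- the quotient category over `C` -/
def Q : BasedCategory.{v, max u v} C where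
  obj := QObj 𝒳
  p := proj 𝒳

/-- the quotient functor -/
def quot : 𝒳 ⥤ᵇ Q 𝒳 where
  toFunctor :=
    { obj := fun x => ⟨𝒳.p.obj x, Quotient.mk _ ⟨x, rfl⟩⟩
      map := fun {x y} φ => ⟨𝒳.p.map φ, ⟨⟨x, rfl⟩, ⟨y, rfl⟩, rfl, rfl, φ, IsHomLift.map 𝒳.p φ⟩⟩
      map_id := fun x => Subtype.ext (𝒳.p.map_id x)
      map_comp := fun f g => Subtype.ext (𝒳.p.map_comp f g) }
  w := rfl

lemma map_eq_of_lift' {a b : 𝒳.obj} (φ : a ⟶ b) (f : 𝒳.p.obj a ⟶ 𝒳.p.obj b)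
    (h : 𝒳.p.IsHomLift f φ) : 𝒳.p.map φ = f := by
  have := IsHomLift.fac' 𝒳.p f φ
  simpa using this

variable {𝒳} in
lemma quot_faithful (h𝒳 : FibCat.IsFibSetoid 𝒳.p) : (quot 𝒳).toFunctor.Faithful := by
  constructor
  intro x y φ ψ h
  have h1 : 𝒳.p.map φ = 𝒳.p.map ψ := congrArg Subtype.val h
  have hφ : 𝒳.p.IsHomLift (𝒳.p.map ψ) φ := by rw [← h1]; infer_instance
  exact hom_ext_of_isFibSetoid 𝒳.p h𝒳 (𝒳.p.map ψ) φ ψ

lemma quot_full : (quot 𝒳).toFunctor.Full := by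
  constructor
  intro x y m
  obtain ⟨f, hf⟩ : ∃ f : 𝒳.p.obj x ⟶ 𝒳.p.obj y, f = m.1 := ⟨_, rfl⟩
  have hrel : Rel ((quot 𝒳).toFunctor.obj x) ((quot 𝒳).toFunctor.obj y) f := by rw [hf]; exact m.2
  obtain ⟨φ, hφ⟩ := rel_reps hrel ⟨x, rfl⟩ ⟨y, rfl⟩ rfl rfl
  refine ⟨φ, Subtype.ext ?_⟩
  exact (map_eq_of_lift' 𝒳 φ f hφ).trans hf

lemma quot_liftData (η : QObj 𝒳) : ∃ (ξ : 𝒳.obj) (e : (quot 𝒳).toFunctor.obj ξ ≅ η),
    (Q 𝒳).p.IsHomLift (𝟙 ((Q 𝒳).p.obj η)) e.hom := by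
  obtain ⟨ξ, hξ⟩ : ∃ ξ : 𝒳.p.Fiber η.base, ξ = η.cls.out := ⟨_, rfl⟩
  have hcls : Quotient.mk (isoRel 𝒳 η.base) ξ = η.cls := by rw [hξ]; exact Quotient.out_eq _
  have h : 𝒳.p.obj ξ.1 = η.base := ξ.2
  have r1 : Rel ((quot 𝒳).toFunctor.obj ξ.1) η (eqToHom h) :=
    ⟨⟨ξ.1, rfl⟩, ξ, rfl, hcls, 𝟙 ξ.1, IsHomLift.id_lift_eqToHom_domain h rfl⟩
  have r2 : Rel η ((quot 𝒳).toFunctor.obj ξ.1) (eqToHom h.symm) :=
    ⟨ξ, ⟨ξ.1, rfl⟩, hcls, rfl, 𝟙 ξ.1, IsHomLift.id_lift_eqToHom_codomain h.symm rfl⟩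
  let e : (quot 𝒳).toFunctor.obj ξ.1 ≅ η :=
    { hom := ⟨eqToHom h, r1⟩
      inv := ⟨eqToHom h.symm, r2⟩
      hom_inv_id := Subtype.ext (by
        change eqToHom h ≫ eqToHom h.symm = 𝟙 _
        rw [eqToHom_trans, eqToHom_refl])
      inv_hom_id := Subtype.ext (by
        change eqToHom h.symm ≫ eqToHom h = 𝟙 _
        rw [eqToHom_trans, eqToHom_refl]) }
  refine ⟨ξ.1, e, ?_⟩
  refine IsHomLift.of_fac (Q 𝒳).p _ _ h rfl ?_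
  change 𝟙 η.base = eqToHom h.symm ≫ eqToHom h ≫ eqToHom rfl
  simp

variable {𝒳} in
theorem quot_isEquivOver (h𝒳 : FibCat.IsFibSetoid 𝒳.p) : FibCat.IsEquivOver (quot 𝒳) := by
  have := quot_faithful h𝒳
  have := quot_full 𝒳
  choose ξ e he using quot_liftData 𝒳
  exact isEquivOver_of_liftData (F := quot 𝒳) ⟨ξ, e, he⟩

variable {𝒳} in
lemma proj_map_eq {a b : QObj 𝒳} (μ : a ⟶ b) {U : C} (ha : a.base = U) (hb : b.base = U)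
    (hl : (proj 𝒳).IsHomLift (𝟙 U) μ) : μ.1 = eqToHom (ha.trans hb.symm) := by
  have h1 : μ.1 = eqToHom ha ≫ 𝟙 U ≫ eqToHom hb.symm := IsHomLift.fac' (proj 𝒳) (𝟙 U) μ
  rw [h1]; simp

variable {𝒳} in
lemma isDiscrete_fiber (h𝒳 : FibCat.IsFibSetoid 𝒳.p) (U : C) : IsDiscrete ((proj 𝒳).Fiber U) := by
  refine { subsingleton := fun A B => ⟨fun m m' => ?_⟩, eq_of_hom := fun {A B} m => ?_ }
  · apply Functor.Fiber.hom_ext
    apply Subtype.ext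
    exact (proj_map_eq (Functor.Fiber.fiberInclusion.map m) A.2 B.2 m.2).trans
      (proj_map_eq (Functor.Fiber.fiberInclusion.map m') A.2 B.2 m'.2).symm
  · obtain ⟨⟨U₁, q₁⟩, h₁⟩ := A
    obtain ⟨⟨U₂, q₂⟩, h₂⟩ := B
    change U₁ = U at h₁
    change U₂ = U at h₂
    subst h₁
    subst h₂
    obtain ⟨μ, hμ⟩ : ∃ μ : (⟨U₂, q₁⟩ : QObj 𝒳) ⟶ ⟨U₂, q₂⟩, μ = Functor.Fiber.fiberInclusion.map m :=
      ⟨_, rfl⟩
    have hl : (proj 𝒳).IsHomLift (𝟙 U₂) μ := by rw [hμ]; exact m.2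
    have h1 : μ.1 = 𝟙 U₂ := proj_map_eq μ rfl rfl hl
    obtain ⟨x, y, hx, hy, φ, hφ⟩ := μ.2
    rw [h1] at hφ
    have hφ' : 𝒳.p.IsHomLift (𝟙 U₂) φ := hφ
    have hiso : IsIso φ := isIso_of_isFibGrpd 𝒳.p h𝒳.1 (𝟙 U₂) φ
    have hinv : 𝒳.p.IsHomLift (𝟙 U₂) (inv φ) := inferInstance
    have hq : q₁ = q₂ := by
      change Quotient.mk (isoRel 𝒳 U₂) x = q₁ at hx
      change Quotient.mk (isoRel 𝒳 U₂) y = q₂ at hy
      rw [← hx, ← hy]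
      apply Quotient.sound
      exact ⟨⟨⟨φ, hφ'⟩, ⟨inv φ, hinv⟩, Subtype.ext (IsIso.hom_inv_id φ),
        Subtype.ext (IsIso.inv_hom_id φ)⟩⟩
    subst hq
    rfl

end
end SetQ


/-- A category fibred in setoids over `C` admits an equivalence over `C` to a category fibred in sets
over `C`. (The target is taken in the same universes as the slices `C/U`; its morphism sets are
essentially as small as those of `C`.) -/
theorem result {C : Type u} [Category.{v} C] {𝒳 : BasedCategory.{v, max u v} C} (h𝒳 : FibCat.IsFibSetoid 𝒳.p) :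
    ∃ (𝒴 : BasedCategory.{v, max u v} C) (F : 𝒳 ⥤ᵇ 𝒴), FibCat.IsFibSet 𝒴.p ∧ FibCat.IsEquivOver F := by
  have hE := SetQ.quot_isEquivOver h𝒳
  refine ⟨SetQ.Q 𝒳, SetQ.quot 𝒳, ⟨?_, fun U => SetQ.isDiscrete_fiber h𝒳 U⟩, hE⟩
  obtain ⟨G, hG⟩ := Groth.Agent.Lib.Helper24.FibCatEquiv.exists_inverse_isEquivOver _ hE
  exact isFibGrpd_of_isEquivOver G hG h𝒳.1

end Groth.Agent.S6406
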