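import Groth.Statements.S6414
import Mathlib
-- import your own Groth.Agent.* helpers here

set_option autoImplicit false
open CategoryTheory
universe v₁ u₁ v₂ u₂ v₃ u₃
open FibCat

namespace Groth.Agent.S6414


/-- A morphism that is strongly cartesian with respect to `F : 𝒜 ⥤ ℬ` and whose image is strongly
cartesian with respect to `G : ℬ ⥤ 𝒞` is strongly cartesian with respect to `F ⋙ G`. -/
theorem result {𝒜 : Type u₁} [Category.{v₁} 𝒜] {ℬ : Type u₂} [Category.{v₂} ℬ] {𝒞 : Type u₃} [Category.{v₃} 𝒞] (F : 𝒜 ⥤ ℬ) (G : ℬ ⥤ 𝒞) {x y : 𝒜} (φ : x ⟶ y)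
    [F.IsStronglyCartesian (F.map φ) φ] [G.IsStronglyCartesian (G.map (F.map φ)) (F.map φ)] :
    (F ⋙ G).IsStronglyCartesian ((F ⋙ G).map φ) φ := by
  refine { toIsHomLift := inferInstance, universal_property' := ?_ }
  intro a' g φ' hφ'
  -- `g : G (F a') ⟶ G (F x)`
  have h1 : g ≫ G.map (F.map φ) = G.map (F.map φ') :=
    IsHomLift.eq_of_isHomLift (F ⋙ G) (g ≫ (F ⋙ G).map φ) φ'
  have hG : G.IsHomLift (g ≫ G.map (F.map φ)) (F.map φ') := by
    rw [h1]; infer_instance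
  obtain ⟨χ₁, ⟨hχ₁l, hχ₁⟩, hχ₁u⟩ :=
    Functor.IsStronglyCartesian.universal_property' (p := G) (f := G.map (F.map φ))
      (φ := F.map φ) g (F.map φ')
  have hF : F.IsHomLift (χ₁ ≫ F.map φ) φ' := by
    rw [hχ₁]; infer_instance
  obtain ⟨χ, ⟨hχl, hχ⟩, hχu⟩ :=
    Functor.IsStronglyCartesian.universal_property' (p := F) (f := F.map φ)
      (φ := φ) χ₁ φ'
  have e1 : χ₁ = F.map χ := IsHomLift.eq_of_isHomLift F χ₁ χ
  have e2 : g = G.map χ₁ := IsHomLift.eq_of_isHomLift G g χ₁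
  refine ⟨χ, ⟨?_, hχ⟩, ?_⟩
  · rw [e2, e1]
    exact IsHomLift.map (F ⋙ G) χ
  · rintro χ' ⟨hl', hχ'⟩
    have e3 : g = G.map (F.map χ') := IsHomLift.eq_of_isHomLift (F ⋙ G) g χ'
    have : F.map χ' = χ₁ := by
      apply hχ₁u
      refine ⟨?_, by rw [← F.map_comp, hχ']⟩
      rw [e3]; infer_instance
    apply hχu
    refine ⟨?_, hχ'⟩
    rw [← this]; infer_instance

end Groth.Agent.S6414
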