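import Groth.Statements.S6418
import Mathlib
-- import your own Groth.Agent.* helpers here

set_option autoImplicit false
open CategoryTheory
universe v₁ u₁ v₂ u₂
open FibCat

namespace Groth.Agent.S6418

lemma over_ext {C : Type u₂} [Category.{v₂} C] {U : C} (A B : Over U) (h : A.left = B.left)
    (w : A.hom = eqToHom h ≫ B.hom) : A = B := by
  obtain ⟨Al, ⟨⟨⟩⟩, Ah⟩ := A
  obtain ⟨Bl, ⟨⟨⟩⟩, Bh⟩ := B
  change Al = Bl at h
  subst h
  simp only [eqToHom_refl, Category.id_comp] at w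
  change Ah = Bh at w
  subst w
  rfl


/-- If `p' : 𝒮 ⥤ C/U` composed with the forgetful functor `C/U ⥤ C` is a fibred category, then so is
`p'`. -/
theorem result {𝒮 : Type u₁} [Category.{v₁} 𝒮] {C : Type u₂} [Category.{v₂} C] {U : C} (p' : 𝒮 ⥤ Over U) [(p' ⋙ Over.forget U).IsFibered] : p'.IsFibered := by
  apply Functor.IsFibered.of_exists_isStronglyCartesian
  intro a R f
  obtain ⟨b, φ, hφ⟩ := Functor.IsPreFibered.exists_isCartesian' (p := p' ⋙ Over.forget U)
    (a := a) (R := R.left) f.left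
  have hφs := @Functor.IsFibered.isStronglyCartesian_of_isCartesian _ _ _ _ _ _ _ _ _ _ _ _ hφ
  have hl : (p' ⋙ Over.forget U).IsHomLift f.left φ := hφs.toIsHomLift
  refine ⟨b, φ, ?_⟩
  have hd : (p'.obj b).left = R.left := IsHomLift.domain_eq (p' ⋙ Over.forget U) f.left φ
  have hfac := IsHomLift.fac (p' ⋙ Over.forget U) f.left φ
  have hR : p'.obj b = R := by
    apply over_ext _ _ hd
    have := Over.w (p'.map φ)
    rw [← Over.w f, hfac]
    simp
  subst hR
  have hf : f = p'.map φ := by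
    apply Over.OverMorphism.ext
    exact @IsHomLift.eq_of_isHomLift _ _ _ _ (p' ⋙ Over.forget U) b a f.left φ hl
  subst hf
  refine { toIsHomLift := inferInstance, universal_property' := ?_ }
  intro a' g φ' hφ'
  have h1 : g ≫ p'.map φ = p'.map φ' := IsHomLift.eq_of_isHomLift p' (g ≫ p'.map φ) φ'
  have hl' : @Functor.IsHomLift _ _ _ _ (p' ⋙ Over.forget U)
      ((p' ⋙ Over.forget U).obj a') ((p' ⋙ Over.forget U).obj a) a' a
      (g.left ≫ (p'.map φ).left) φ' := by
    have h2 : (p' ⋙ Over.forget U).IsHomLift ((Over.forget U).map (g ≫ p'.map φ)) φ' := by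
      rw [h1]; exact IsHomLift.map (p' ⋙ Over.forget U) φ'
    exact h2
  obtain ⟨χ, ⟨hχl, hχ⟩, hχu⟩ :=
    @Functor.IsStronglyCartesian.universal_property' _ _ _ _ (p' ⋙ Over.forget U) _ _ _ _
      (p'.map φ).left φ hφs a' g.left φ' hl'
  have e1 : g.left = (p'.map χ).left :=
    @IsHomLift.eq_of_isHomLift _ _ _ _ (p' ⋙ Over.forget U) a' b g.left χ hχl
  have e2 : g = p'.map χ := Over.OverMorphism.ext e1
  refine ⟨χ, ⟨?_, hχ⟩, ?_⟩
  · rw [e2]; infer_instance
  · rintro χ' ⟨hl'', hχ'⟩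
    apply hχu
    refine ⟨?_, hχ'⟩
    have e3 : g = p'.map χ' := IsHomLift.eq_of_isHomLift p' g χ'
    rw [e3]
    exact IsHomLift.map (p' ⋙ Over.forget U) χ'

end Groth.Agent.S6418
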