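import Groth.Statements.S6424
import Mathlib
-- import your own Groth.Agent.* helpers here

set_option autoImplicit false
open CategoryTheory CategoryTheory.Limits
universe v u
open CatLim

namespace Groth.Agent.S6424

theorem hasProduct_fin_succ {C : Type u} [Category.{v} C] [HasBinaryProducts C] :
    ∀ (n : ℕ) (f : Fin (n + 1) → C), HasProduct f
  | 0 => fun f =>
    haveI : Subsingleton (Fin (0 + 1)) := inferInstanceAs (Subsingleton (Fin 1))
    haveI : Nonempty (Fin (0 + 1)) := inferInstanceAs (Nonempty (Fin 1))
    hasProduct_unique f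
  | n + 1 => fun f =>
    haveI : HasProduct (fun i : Fin (n + 1) => f i.succ) := hasProduct_fin_succ n _
    HasLimit.mk ⟨_, extendFanIsLimit f (c₁ := limit.cone (Discrete.functor fun i : Fin (n + 1) => f i.succ))
      (limit.isLimit _) (limit.isLimit (pair (f 0) (limit (Discrete.functor fun i : Fin (n + 1) => f i.succ))))⟩

theorem hasLimitsOfShape_discrete_of_nonempty {C : Type u} [Category.{v} C] [HasBinaryProducts C]
    (ι : Type) [Finite ι] [Nonempty ι] : HasLimitsOfShape (Discrete ι) C := by
  obtain ⟨n, ⟨e⟩⟩ := Finite.exists_equiv_fin ι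
  obtain ⟨m, rfl⟩ : ∃ m, n = m + 1 := by
    rcases n with _ | m
    · exact (IsEmpty.false (e (Classical.arbitrary ι))).elim
    · exact ⟨m, rfl⟩
  have : HasLimitsOfShape (Discrete (Fin (m + 1))) C :=
    ⟨fun K => by
      let that : (Discrete.functor fun n => K.obj ⟨n⟩) ≅ K := Discrete.natIso fun ⟨_⟩ => Iso.refl _
      rw [← hasLimit_iff_of_iso that]
      apply hasProduct_fin_succ⟩
  exact hasLimitsOfShape_of_equivalence (Discrete.equivalence e.symm)


/-- (2) ⇒ (1): a category with products of pairs and equalizers has all finite nonempty limits. -/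
theorem result {C : Type u} [Category.{v} C] [HasBinaryProducts C] [HasEqualizers C]
    (J : Type) [SmallCategory J] [FinCategory J] [Nonempty J] : HasLimitsOfShape J C := by
  have h1 : HasLimitsOfShape (Discrete J) C := hasLimitsOfShape_discrete_of_nonempty J
  have : Nonempty (Σ p : J × J, p.1 ⟶ p.2) :=
    ⟨⟨(Classical.arbitrary J, Classical.arbitrary J), 𝟙 _⟩⟩
  have h2 : HasLimitsOfShape (Discrete (Σ p : J × J, p.1 ⟶ p.2)) C :=
    hasLimitsOfShape_discrete_of_nonempty _
  exact { has_limit := fun F => hasLimit_of_equalizer_and_product F }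

end Groth.Agent.S6424
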