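import Groth.Statements.S6425
import Mathlib
-- import your own Groth.Agent.* helpers here

set_option autoImplicit false
open CategoryTheory CategoryTheory.Limits
universe v
open CatLim

namespace Groth.Agent.S6425


/-- Over an index category in which any two objects map to a common object, the comparison map `colim (M
× N) → colim M × colim N` for diagrams of sets is surjective. -/
theorem result {I : Type v} [SmallCategory I]
    (hI : ∀ x y : I, ∃ (z : I) (_ : x ⟶ z) (_ : y ⟶ z), True) (M N : I ⥤ Type v) :
    Function.Surjective (prodComparison (colim : (I ⥤ Type v) ⥤ Type v) M N) := by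
  intro p
  obtain ⟨x, mx, hmx⟩ := Types.jointly_surjective' (F := M)
    ((prod.fst : colim.obj M ⨯ colim.obj N ⟶ colim.obj M) p)
  obtain ⟨y, ny, hny⟩ := Types.jointly_surjective' (F := N)
    ((prod.snd : colim.obj M ⨯ colim.obj N ⟶ colim.obj N) p)
  obtain ⟨z, f, g, -⟩ := hI x y
  refine ⟨colimit.ι (M ⨯ N) z (FunctorToTypes.prodMk (M.map f mx) (N.map g ny)), ?_⟩
  apply (Types.binaryProductIso _ _).toEquiv.injective
  apply Prod.ext
  · simp only [Iso.toEquiv_fun, Types.binaryProductIso_hom_comp_fst_apply]
    rw [← hmx]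
    have h1 := ConcreteCategory.congr_hom (prodComparison_fst (colim : (I ⥤ Type v) ⥤ Type v)
      (A := M) (B := N))
      (colimit.ι (M ⨯ N) z (FunctorToTypes.prodMk (M.map f mx) (N.map g ny)))
    rw [ConcreteCategory.comp_apply] at h1
    rw [h1]
    have h2 : (colimit.ι (M ⨯ N) z ≫ colimMap (prod.fst : M ⨯ N ⟶ M))
        (FunctorToTypes.prodMk (M.map f mx) (N.map g ny)) =
        ((prod.fst : M ⨯ N ⟶ M).app z ≫ colimit.ι M z)
        (FunctorToTypes.prodMk (M.map f mx) (N.map g ny)) := by rw [ι_colimMap]
    rw [ConcreteCategory.comp_apply, ConcreteCategory.comp_apply] at h2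
    erw [h2]
    rw [FunctorToTypes.prodMk_fst]
    have h3 := ConcreteCategory.congr_hom (colimit.w M f) mx
    rw [ConcreteCategory.comp_apply] at h3
    exact h3
  · simp only [Iso.toEquiv_fun, Types.binaryProductIso_hom_comp_snd_apply]
    rw [← hny]
    have h1 := ConcreteCategory.congr_hom (prodComparison_snd (colim : (I ⥤ Type v) ⥤ Type v)
      (A := M) (B := N))
      (colimit.ι (M ⨯ N) z (FunctorToTypes.prodMk (M.map f mx) (N.map g ny)))
    rw [ConcreteCategory.comp_apply] at h1
    rw [h1]
    have h2 : (colimit.ι (M ⨯ N) z ≫ colimMap (prod.snd : M ⨯ N ⟶ N))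
        (FunctorToTypes.prodMk (M.map f mx) (N.map g ny)) =
        ((prod.snd : M ⨯ N ⟶ N).app z ≫ colimit.ι N z)
        (FunctorToTypes.prodMk (M.map f mx) (N.map g ny)) := by rw [ι_colimMap]
    rw [ConcreteCategory.comp_apply, ConcreteCategory.comp_apply] at h2
    erw [h2]
    rw [FunctorToTypes.prodMk_snd]
    have h3 := ConcreteCategory.congr_hom (colimit.w N g) ny
    rw [ConcreteCategory.comp_apply] at h3
    exact h3

end Groth.Agent.S6425
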