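import Groth.Statements.S6426
import Mathlib
-- import your own Groth.Agent.* helpers here

set_option autoImplicit false
open CategoryTheory CategoryTheory.Limits
universe v
open CatLim

namespace Groth.Agent.S6426


/-- Over a nonempty index category in which any two objects map to a common object, the set-theoretic
colimit of a diagram of abelian groups surjects onto its colimit in abelian groups. (The published
statement does not require the index category to be nonempty; this row assumes it, because for the
empty index category the colimit of sets is empty while the colimit of abelian groups is the zero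
group.) -/
theorem result {I : Type v} [SmallCategory I] [Nonempty I]
    (hI : ∀ x y : I, ∃ (z : I) (_ : x ⟶ z) (_ : y ⟶ z), True) (M : I ⥤ AddCommGrpCat.{v}) :
    Function.Surjective (colimit.post M (forget AddCommGrpCat.{v})) := by
  have hw : ∀ {i j : I} (f : i ⟶ j) (m : M.obj i),
      colimit.ι M j (M.map f m) = colimit.ι M i m := by
    intro i j f m
    have := ConcreteCategory.congr_hom (colimit.w M f) m
    rwa [ConcreteCategory.comp_apply] at this
  let S : AddSubgroup ↑(colimit M) :=
    { carrier := { y | ∃ (i : I) (m : M.obj i), colimit.ι M i m = y }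
      zero_mem' := ⟨Classical.arbitrary I, 0, map_zero _⟩
      add_mem' := by
        rintro _ _ ⟨i, m₁, rfl⟩ ⟨j, m₂, rfl⟩
        obtain ⟨k, f, g, -⟩ := hI i j
        refine ⟨k, M.map f m₁ + M.map g m₂, ?_⟩
        rw [map_add, hw, hw]
      neg_mem' := by
        rintro _ ⟨i, m, rfl⟩
        exact ⟨i, -m, map_neg _ _⟩ }
  have hS : ∀ y : ↑(colimit M), y ∈ S := by
    let π : colimit M ⟶ AddCommGrpCat.of (↑(colimit M) ⧸ S) :=
      AddCommGrpCat.ofHom (QuotientAddGroup.mk' S)
    have hπ : π = 0 := by
      apply colimit.hom_ext
      intro i
      ext m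
      simp only [π, Limits.comp_zero]
      change QuotientAddGroup.mk' S (colimit.ι M i m) = 0
      rw [QuotientAddGroup.mk'_apply, QuotientAddGroup.eq_zero_iff]
      exact ⟨i, m, rfl⟩
    intro y
    have : π y = 0 := by rw [hπ]; rfl
    rwa [show π y = QuotientAddGroup.mk' S y from rfl, QuotientAddGroup.mk'_apply,
      QuotientAddGroup.eq_zero_iff] at this
  intro y
  obtain ⟨i, m, rfl⟩ := hS y
  refine ⟨colimit.ι (M ⋙ forget AddCommGrpCat.{v}) i m, ?_⟩
  have := ConcreteCategory.congr_hom (colimit.ι_post M (forget AddCommGrpCat.{v}) i) m
  rw [ConcreteCategory.comp_apply] at this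
  exact this

end Groth.Agent.S6426
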