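import Groth.Statements.S6427
import Mathlib
-- import your own Groth.Agent.* helpers here

set_option autoImplicit false
open CategoryTheory CategoryTheory.Limits
universe v
open CatLim

namespace Groth.Agent.S6427

theorem rel_of_eqvGen {I : Type v} [SmallCategory I]
    (hI : ∀ ⦃x y z : I⦄ (f : x ⟶ y) (g : x ⟶ z), ∃ (w : I) (f' : y ⟶ w) (g' : z ⟶ w), f ≫ f' = g ≫ g')
    (M : I ⥤ Type v) (a b : Σ j, M.obj j) (h : Relation.EqvGen M.ColimitTypeRel a b) :
    ∃ (k : I) (f : a.1 ⟶ k) (g : b.1 ⟶ k), M.map f a.2 = M.map g b.2 := by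
  induction h with
  | rel a b h =>
    obtain ⟨f, hf⟩ := h
    exact ⟨b.1, f, 𝟙 _, by simp [hf]⟩
  | refl a => exact ⟨a.1, 𝟙 _, 𝟙 _, rfl⟩
  | symm a b _ ih =>
    obtain ⟨k, f, g, h⟩ := ih
    exact ⟨k, g, f, h.symm⟩
  | trans a b c _ _ ih₁ ih₂ =>
    obtain ⟨k₁, f₁, g₁, h₁⟩ := ih₁
    obtain ⟨k₂, f₂, g₂, h₂⟩ := ih₂
    obtain ⟨w, u, v', huv⟩ := hI g₁ f₂
    refine ⟨w, f₁ ≫ u, g₂ ≫ v', ?_⟩
    rw [M.map_comp, M.map_comp, ConcreteCategory.comp_apply, ConcreteCategory.comp_apply, h₁,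
      ← h₂, ← ConcreteCategory.comp_apply, ← ConcreteCategory.comp_apply, ← M.map_comp,
      ← M.map_comp, huv]


/-- Over an index category in which every pair of morphisms with common source can be completed to a
commutative square, colimits of sets preserve injective morphisms of diagrams. -/
theorem result {I : Type v} [SmallCategory I]
    (hI : ∀ ⦃x y z : I⦄ (f : x ⟶ y) (g : x ⟶ z), ∃ (w : I) (f' : y ⟶ w) (g' : z ⟶ w), f ≫ f' = g ≫ g')
    {M N : I ⥤ Type v} (φ : M ⟶ N) (hφ : ∀ i, Function.Injective (φ.app i)) :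
    Function.Injective (colimMap φ) := by
  intro x y hxy
  obtain ⟨i, m, rfl⟩ := Types.jointly_surjective' x
  obtain ⟨j, m', rfl⟩ := Types.jointly_surjective' y
  have h1 : ∀ (i : I) (m : M.obj i), colimMap φ (colimit.ι M i m) = colimit.ι N i (φ.app i m) := by
    intro i m
    have : (colimit.ι M i ≫ colimMap φ) m = (φ.app i ≫ colimit.ι N i) m := by rw [ι_colimMap]
    simpa using this
  rw [h1, h1] at hxy
  obtain ⟨k, f, g, h⟩ := rel_of_eqvGen hI N _ _ (Types.colimit_eq hxy)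
  dsimp only at h
  have h2 : φ.app k (M.map f m) = φ.app k (M.map g m') := by
    have e1 := ConcreteCategory.congr_hom (φ.naturality f) m
    have e2 := ConcreteCategory.congr_hom (φ.naturality g) m'
    rw [ConcreteCategory.comp_apply, ConcreteCategory.comp_apply] at e1 e2
    rw [e1, e2, h]
  exact Types.colimit_sound' f g (hφ k h2)

end Groth.Agent.S6427
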