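import Groth.Statements.S6428
import Mathlib

set_option autoImplicit false
open CategoryTheory CategoryTheory.Limits
universe v₁ u₁ v₂ u₂ v₃ u₃
open CatLim

namespace Groth.Agent.S6428

/-- If `F : I ⥤ I'` has connected fibre categories and is surjective on morphisms, then for every
diagram `M : I' ⥤ C` the colimit of `F ⋙ M` exists if and only if that of `M` does, and the
canonical comparison between them is then an isomorphism. -/
theorem result {I : Type u₁} [Category.{v₁} I] {I' : Type u₂} [Category.{v₂} I'] {C : Type u₃} [Category.{v₃} C] (F : I ⥤ I')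
    (h1 : ∀ x' : I', IsConnected (F.Fiber x'))
    (h2 : ∀ ⦃x' y' : I'⦄ (α' : x' ⟶ y'), ∃ (x y : I) (hx : F.obj x = x') (hy : F.obj y = y') (α : x ⟶ y), F.map α = eqToHom hx ≫ α' ≫ eqToHom hy.symm)
    (M : I' ⥤ C) :
    (HasColimit (F ⋙ M) ↔ HasColimit M) ∧ ∀ [HasColimit (F ⋙ M)] [HasColimit M], IsIso (colimit.pre M F) := by
  classical
  -- the zigzag-preserving map from a fibre to the structured arrows
  have hΨ : ∀ (x' y' : I') (β : x' ⟶ y') (b c : F.Fiber y'), Zigzag b c →
      Zigzag (StructuredArrow.mk (β ≫ eqToHom b.2.symm) : StructuredArrow x' F)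
        (StructuredArrow.mk (β ≫ eqToHom c.2.symm)) := by
    intro x' y' β b c h
    refine Relation.ReflTransGen.lift
      (fun b : F.Fiber y' => (StructuredArrow.mk (β ≫ eqToHom b.2.symm) : StructuredArrow x' F))
      ?_ b c h
    intro b c hbc
    have key : ∀ (b c : F.Fiber y') (φ : b ⟶ c),
        Nonempty ((StructuredArrow.mk (β ≫ eqToHom b.2.symm) : StructuredArrow x' F) ⟶
          StructuredArrow.mk (β ≫ eqToHom c.2.symm)) := by
      intro b c φ
      haveI := φ.2
      refine ⟨StructuredArrow.homMk φ.1 ?_⟩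
      simp [IsHomLift.fac' F (𝟙 y') φ.1]
    rcases hbc with ⟨⟨φ⟩⟩ | ⟨⟨φ⟩⟩
    · exact Or.inl (key b c φ)
    · exact Or.inr (key c b φ)
  haveI : F.Final := by
    constructor
    intro x'
    obtain ⟨a₀⟩ := (h1 x').is_nonempty
    haveI : Nonempty (StructuredArrow x' F) :=
      ⟨StructuredArrow.mk (𝟙 x' ≫ eqToHom a₀.2.symm)⟩
    have hbase : ∀ j : StructuredArrow x' F,
        Zigzag j (StructuredArrow.mk (𝟙 x' ≫ eqToHom a₀.2.symm)) := by
      intro j
      obtain ⟨a, b, ha, hb, α, hα⟩ := h2 j.hom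
      haveI := h1 x'
      haveI := h1 (F.obj j.right)
      -- j ~ Ψ_{j.hom} ⟨j.right, rfl⟩
      have z1 : Zigzag j (StructuredArrow.mk (j.hom ≫ eqToHom
          (⟨j.right, rfl⟩ : F.Fiber (F.obj j.right)).2.symm) : StructuredArrow x' F) := by
        refine Relation.ReflTransGen.single (Or.inr ⟨StructuredArrow.homMk (𝟙 j.right) ?_⟩)
        simp
      have z2 := hΨ x' (F.obj j.right) j.hom ⟨j.right, rfl⟩ ⟨b, hb⟩
        (isPreconnected_zigzag _ _)
      have z3 : Zigzag (StructuredArrow.mk (j.hom ≫ eqToHom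
          (⟨b, hb⟩ : F.Fiber (F.obj j.right)).2.symm) : StructuredArrow x' F)
          (StructuredArrow.mk (𝟙 x' ≫ eqToHom (⟨a, ha⟩ : F.Fiber x').2.symm)) := by
        refine Relation.ReflTransGen.single (Or.inr ⟨StructuredArrow.homMk α ?_⟩)
        simp [hα]
      have z4 := hΨ x' x' (𝟙 x') ⟨a, ha⟩ a₀ (isPreconnected_zigzag _ _)
      exact (z1.trans z2).trans (z3.trans z4)
    exact zigzag_isConnected (fun j₁ j₂ => (hbase j₁).trans (zigzag_equivalence.symm (hbase j₂)))
  refine ⟨⟨fun _ => Functor.Final.hasColimit_of_comp F, fun _ => inferInstance⟩, ?_⟩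
  intro _ _
  exact Functor.Final.colimit_pre_isIso F

end Groth.Agent.S6428
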