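import Groth.Statements.S6430
import Groth.Agent.Lib.Helper24.FibGrpd

set_option autoImplicit false
open CategoryTheory
universe v₂ u₂ v u
open FibCat

namespace Groth.Agent.S6430

open CategoryTheory
open Groth.Agent.Lib.Helper24.FibGrpd


/-- For a fibred category `p : 𝒮 ⥤ C`, the wide subcategory of `𝒮` on the strongly cartesian morphisms
is fibred in groupoids over `C`. -/
theorem result {C : Type u} [Category.{v} C] {𝒮 : Type u₂} [Category.{v₂} 𝒮] (p : 𝒮 ⥤ C) [p.IsFibered] :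
    FibCat.IsFibGrpd (FibCat.cartSubProj p) := by
  constructor
  · intro x V f₀
    obtain ⟨f, hf⟩ : ∃ f : V ⟶ p.obj x.obj, f = f₀ := ⟨f₀, rfl⟩
    subst hf
    obtain ⟨y, φ, hφ⟩ := CategoryTheory.IsPreFibered.exists_isCartesian p (a := x.obj) rfl f
    have hs : p.IsStronglyCartesian f φ := inferInstance
    have hs' : p.IsStronglyCartesian (p.map φ) φ := (isStronglyCartesian_iff_map p f φ).mp hs
    refine ⟨⟨y⟩, ⟨φ, hs'⟩, ?_⟩
    have h1 : p.IsHomLift f φ := inferInstance
    have e1 := IsHomLift.domain_eq p f φ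
    have e2 := IsHomLift.codomain_eq p f φ
    have e3 := IsHomLift.fac p f φ
    exact IsHomLift.of_fac _ _ _ e1 e2 e3
  · intro y x φ
    have hφ : p.IsStronglyCartesian (p.map φ.hom) φ.hom := φ.property
    refine { toIsHomLift := inferInstance, universal_property' := ?_ }
    intro a' g₀ φ' hφ'₀
    obtain ⟨g, hg⟩ : ∃ g : p.obj a'.obj ⟶ p.obj y.obj, g = g₀ := ⟨g₀, rfl⟩
    subst hg
    have hφ' : (FibCat.cartSubProj p).IsHomLift (g ≫ p.map φ.hom) φ' := hφ'₀
    have hφ'1 : p.IsHomLift (g ≫ p.map φ.hom) φ'.hom :=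
      IsHomLift.of_fac _ _ _ (IsHomLift.domain_eq (FibCat.cartSubProj p) (g ≫ p.map φ.hom) φ')
        (IsHomLift.codomain_eq (FibCat.cartSubProj p) (g ≫ p.map φ.hom) φ')
        (IsHomLift.fac (FibCat.cartSubProj p) (g ≫ p.map φ.hom) φ')
    obtain ⟨χ, ⟨hχ1, hχ2⟩, hu⟩ := Functor.IsStronglyCartesian.universal_property p (p.map φ.hom)
      φ.hom g (g ≫ p.map φ.hom) rfl φ'.hom
    have hφ's : p.IsStronglyCartesian (g ≫ p.map φ.hom) φ'.hom :=
      (isStronglyCartesian_iff_map p _ φ'.hom).mpr φ'.property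
    have hcomp : p.IsStronglyCartesian (g ≫ p.map φ.hom) (χ ≫ φ.hom) := by rw [hχ2]; exact hφ's
    have hχs : p.IsStronglyCartesian g χ := Functor.IsStronglyCartesian.of_comp p (f := g)
      (g := p.map φ.hom) (φ := χ) (ψ := φ.hom)
    have hχs' : p.IsStronglyCartesian (p.map χ) χ := (isStronglyCartesian_iff_map p g χ).mp hχs
    refine ⟨⟨χ, hχs'⟩, ⟨?_, ?_⟩, ?_⟩
    · have e1 := IsHomLift.domain_eq p g χ
      have e2 := IsHomLift.codomain_eq p g χ
      have e3 := IsHomLift.fac p g χ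
      exact IsHomLift.of_fac _ _ _ e1 e2 e3
    · apply WideSubcategory.hom_ext
      exact hχ2
    · rintro χ' ⟨hχ'1, hχ'2⟩
      apply WideSubcategory.hom_ext
      apply hu
      refine ⟨?_, congrArg (fun t => t.hom) hχ'2⟩
      have hχ'1' : (FibCat.cartSubProj p).IsHomLift g χ' := hχ'1
      have e1 := IsHomLift.domain_eq (FibCat.cartSubProj p) g χ'
      have e2 := IsHomLift.codomain_eq (FibCat.cartSubProj p) g χ'
      have e3 := IsHomLift.fac (FibCat.cartSubProj p) g χ'
      exact IsHomLift.of_fac _ _ _ e1 e2 e3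

end Groth.Agent.S6430
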