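import Groth.Statements.S6433
import Mathlib
-- import your own Groth.Agent.* helpers here

set_option autoImplicit false
open CategoryTheory
universe v u v' u'
open CatLoc

namespace Groth.Agent.S6433


/-- For a left multiplicative system `W` and a localization functor `L`, any finite family of morphisms
`L X_i ⟶ L Y` admits a common denominator: some `s : Y ⟶ Y'` in `W` and morphisms `f_i : X_i ⟶ Y'`
with `g_i = L(s)⁻¹ L(f_i)`. -/
theorem result {C : Type u} [Category.{v} C] {D : Type u'} [Category.{v'} D] (W : MorphismProperty C) (L : C ⥤ D) [L.IsLocalization W] [W.HasLeftCalculusOfFractions]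
    {ι : Type} [Finite ι] (X : ι → C) (Y : C) (g : ∀ i, L.obj (X i) ⟶ L.obj Y) :
    ∃ (Y' : C) (s : Y ⟶ Y') (_ : W s) (f : ∀ i, X i ⟶ Y'), ∀ i, g i ≫ L.map s = L.map (f i) := by
  revert X g
  refine Finite.induction_empty_option (P := fun ι : Type => ∀ (X : ι → C)
    (g : ∀ i, L.obj (X i) ⟶ L.obj Y), ∃ (Y' : C) (s : Y ⟶ Y') (_ : W s) (f : ∀ i, X i ⟶ Y'),
      ∀ i, g i ≫ L.map s = L.map (f i)) ?_ ?_ ?_ ι
  · intro α β e h X g
    obtain ⟨Y', s, hs, f, hf⟩ := h (fun a => X (e a)) (fun a => g (e a))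
    have key : ∀ b, ∃ fb : X b ⟶ Y', g b ≫ L.map s = L.map fb := by
      intro b
      obtain ⟨a, rfl⟩ := e.surjective b
      exact ⟨f a, hf a⟩
    choose f' hf' using key
    exact ⟨Y', s, hs, f', hf'⟩
  · intro X g
    exact ⟨Y, 𝟙 Y, W.id_mem Y, fun i => i.elim, fun i => i.elim⟩
  · intro α _ h X g
    obtain ⟨Y₁, s₁, hs₁, f₁, hf₁⟩ := h (fun a => X (some a)) (fun a => g (some a))
    obtain ⟨φ, hφ⟩ := Localization.exists_leftFraction L W (g none)
    obtain ⟨ψ, hψ⟩ := MorphismProperty.HasLeftCalculusOfFractions.exists_leftFraction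
      (MorphismProperty.RightFraction.mk s₁ hs₁ φ.s)
    dsimp at hψ
    -- hψ : φ.s ≫ ψ.s = s₁ ≫ ψ.f
    refine ⟨ψ.Y', φ.s ≫ ψ.s, W.comp_mem _ _ φ.hs ψ.hs, fun o => Option.rec (φ.f ≫ ψ.s)
      (fun a => f₁ a ≫ ψ.f) o, fun o => ?_⟩
    cases o with
    | none =>
      dsimp only
      rw [hφ, L.map_comp, L.map_comp, ← Category.assoc,
        MorphismProperty.LeftFraction.map_comp_map_s]
    | some a =>
      dsimp only
      rw [hψ, L.map_comp, L.map_comp, ← Category.assoc, hf₁ a]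

end Groth.Agent.S6433
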