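import Groth.Statements.S6439
-- (no extra imports)

set_option autoImplicit false
open CategoryTheory
universe v u
open FibCat

namespace Groth.Agent.S6439

open CategoryTheory

section
open Bicategory
universe w₁ v₁ u₁
variable {B : Type u₁} [Bicategory.{w₁, v₁} B] {a b : B}

noncomputable def precompEquiv (c : B) (f : a ⟶ b) (g : b ⟶ a) (e1 : f ≫ g ≅ 𝟙 a) (e2 : g ≫ f ≅ 𝟙 b) :
    (b ⟶ c) ≌ (a ⟶ c) :=
  CategoryTheory.Equivalence.mk (precomp c f) (precomp c g)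
    ((leftUnitorNatIso b c).symm ≪≫ (precomposing b b c).mapIso e2.symm ≪≫
      associatorNatIsoRight g f c)
    ((associatorNatIsoRight f g c).symm ≪≫ (precomposing a a c).mapIso e1 ≪≫
      leftUnitorNatIso a c)

noncomputable def postcompEquiv (c : B) (f : a ⟶ b) (g : b ⟶ a) (e1 : f ≫ g ≅ 𝟙 a) (e2 : g ≫ f ≅ 𝟙 b) :
    (c ⟶ a) ≌ (c ⟶ b) :=
  CategoryTheory.Equivalence.mk (postcomp c f) (postcomp c g)
    ((rightUnitorNatIso c a).symm ≪≫ (postcomposing c a a).mapIso e1.symm ≪≫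
      (associatorNatIsoLeft c f g).symm)
    (associatorNatIsoLeft c g f ≪≫ (postcomposing c b b).mapIso e2 ≪≫
      rightUnitorNatIso c b)

end


/-- For categories fibred in groupoids over `C` and equivalences `φ : 𝒮₁ ⟶ 𝒮₂`, `ψ : 𝒮₃ ⟶ 𝒮₄` over `C`,
the functor `α ↦ ψ ∘ α ∘ φ` between the categories of functors over `C` is an equivalence of
categories. -/
theorem result {C : Type u} [Category.{v} C] {𝒮₁ 𝒮₂ 𝒮₃ 𝒮₄ : BasedCategory.{v, max u v} C}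
    (h₁ : FibCat.IsFibGrpd 𝒮₁.p) (h₂ : FibCat.IsFibGrpd 𝒮₂.p) (h₃ : FibCat.IsFibGrpd 𝒮₃.p) (h₄ : FibCat.IsFibGrpd 𝒮₄.p)
    (φ : 𝒮₁ ⟶ 𝒮₂) (ψ : 𝒮₃ ⟶ 𝒮₄) (hφ : FibCat.IsEquivOver φ) (hψ : FibCat.IsEquivOver ψ) :
    (Bicategory.precomp 𝒮₃ φ ⋙ Bicategory.postcomp 𝒮₁ ψ).IsEquivalence := by
  obtain ⟨G, ⟨e1⟩, ⟨e2⟩⟩ := hφ
  obtain ⟨H, ⟨e3⟩, ⟨e4⟩⟩ := hψ
  have i1 : (Bicategory.precomp 𝒮₃ φ).IsEquivalence :=
    (precompEquiv 𝒮₃ φ G e1 e2).isEquivalence_functor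
  have i2 : (Bicategory.postcomp 𝒮₁ ψ).IsEquivalence :=
    (postcompEquiv 𝒮₁ ψ H e3 e4).isEquivalence_functor
  infer_instance

end Groth.Agent.S6439
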