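import Groth.Statements.S6441
import Mathlib

set_option autoImplicit false
open CategoryTheory CategoryTheory.Limits Opposite
universe u
open SiteMisc

namespace Groth.Agent.S6441

/-- For a continuous and almost cocontinuous functor `u` between small sites and a presheaf of sets `G`
taking singleton values on sheaf theoretically empty objects, sheafification commutes with `u^p`:
the canonical comparison `(u^p G)^# ⟶ u^p(G^#)` is an isomorphism. -/
theorem result {C D : Type u} [SmallCategory C] [SmallCategory D]
    (J : GrothendieckTopology C) (K : GrothendieckTopology D) (u : C ⥤ D) [u.IsContinuous J K]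
    (hu : BigSite.IsAlmostCocontinuous u J K) (G : Dᵒᵖ ⥤ Type u)
    (hG : ∀ V : D, (⊥ : Sieve V) ∈ K V → Nonempty (Unique (G.obj (op V)))) :
    IsIso (((sheafificationAdjunction J (Type u)).homEquiv (u.op ⋙ G)
      ((u.sheafPushforwardContinuous (Type u) J K).obj ((presheafToSheaf K (Type u)).obj G))).symm
        (Functor.whiskerLeft u.op (toSheafify K G))) := by
  have hsingle : ∀ V : D, (⊥ : Sieve V) ∈ K V →
      Subsingleton ((sheafify K G).obj (Opposite.op V)) := by
    intro V hV
    have hsh : Presieve.IsSheaf K (sheafify K G) :=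
      (isSheaf_iff_isSheaf_of_type _ _).1 ((presheafToSheaf K (Type u)).obj G).property
    exact ⟨fun a b => (hsh _ hV).isSeparatedFor.ext (fun _ _ h => h.elim)⟩
  have hinj : Presheaf.IsLocallyInjective J (Functor.whiskerLeft u.op (toSheafify K G)) := by
    refine ⟨fun {X} x y h => ?_⟩
    have hR := Presheaf.equalizerSieve_mem K (toSheafify K G) (X := Opposite.op (u.obj X.unop)) x y h
    obtain ⟨R', hR', hR'2⟩ := hu X.unop _ hR
    refine J.superset_covering ?_ hR'
    intro V g hg
    rcases hR'2 g hg with hemp | hin
    · obtain ⟨hU⟩ := hG _ hemp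
      exact (hU.instSubsingleton).elim _ _
    · exact hin
  have hsurj : Presheaf.IsLocallySurjective J (Functor.whiskerLeft u.op (toSheafify K G)) := by
    refine ⟨fun {U} s => ?_⟩
    have hR := Presheaf.imageSieve_mem K (toSheafify K G) (U := Opposite.op (u.obj U)) s
    obtain ⟨R', hR', hR'2⟩ := hu U _ hR
    refine J.superset_covering ?_ hR'
    intro V g hg
    rcases hR'2 g hg with hemp | hin
    · obtain ⟨hU⟩ := hG _ hemp
      haveI := hsingle _ hemp
      exact ⟨hU.default, Subsingleton.elim _ _⟩
    · exact hin
  have hW : J.W (Functor.whiskerLeft u.op (toSheafify K G)) :=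
    (J.W_iff_isLocallyBijective _).2 ⟨hinj, hsurj⟩
  have hiso : IsIso ((presheafToSheaf J (Type u)).map (Functor.whiskerLeft u.op (toSheafify K G))) :=
    (J.W_iff _).1 hW
  rw [Adjunction.homEquiv_counit]
  exact IsIso.comp_isIso' hiso inferInstance

end Groth.Agent.S6441
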