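import Groth.Statements.S6440
import Mathlib
import Groth.Agent.S6441

set_option autoImplicit false
open CategoryTheory CategoryTheory.Limits Opposite
universe u
open SiteMisc

namespace Groth.Agent.S6440

/-- For a continuous and almost cocontinuous functor `u` between small sites, the functor `u^s` on
sheaves of sets preserves finite connected colimits. -/
theorem result {C D : Type u} [SmallCategory C] [SmallCategory D]
    (J : GrothendieckTopology C) (K : GrothendieckTopology D) (u : C ⥤ D) [u.IsContinuous J K]
    (hu : BigSite.IsAlmostCocontinuous u J K) (I : Type) [SmallCategory I] [FinCategory I] [IsConnected I] :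
    PreservesColimitsOfShape I (u.sheafPushforwardContinuous (Type u) J K) := by
  constructor
  intro F
  let W := (Functor.whiskeringLeft Cᵒᵖ Dᵒᵖ (Type u)).obj u.op
  let P := F ⋙ sheafToPresheaf K (Type u)
  let cP := colimit.cocone P
  have hcP : IsColimit cP := colimit.isColimit P
  have hG : ∀ V : D, (⊥ : Sieve V) ∈ K V → Nonempty (Unique (cP.pt.obj (Opposite.op V))) := by
    intro V hV
    have hev : IsColimit (((evaluation Dᵒᵖ (Type u)).obj (Opposite.op V)).mapCocone cP) :=
      isColimitOfPreserves _ hcP
    have huniq : ∀ i : I, Nonempty (Unique ((F.obj i).obj.obj (Opposite.op V))) := fun i => by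
      have hsh : Presieve.IsSheaf K (F.obj i).obj :=
        (isSheaf_iff_isSheaf_of_type _ _).1 (F.obj i).property
      obtain ⟨t, -, ht⟩ := hsh _ hV (fun _ _ h => h.elim) (fun _ _ _ _ _ _ _ h₁ => h₁.elim)
      exact ⟨⟨⟨t⟩, fun a => ht a (fun _ _ h => h.elim)⟩⟩
    let un : ∀ i : I, Unique ((F.obj i).obj.obj (Opposite.op V)) := fun i => (huniq i).some
    obtain ⟨i₀⟩ : Nonempty I := inferInstance
    let c' := ((evaluation Dᵒᵖ (Type u)).obj (Opposite.op V)).mapCocone cP
    let e : I → cP.pt.obj (Opposite.op V) := fun i => c'.ι.app i (un i).default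
    have hconst : ∀ i j, e i = e j := constant_of_preserves_morphisms e (fun i j f => by
      have h1 := ConcreteCategory.congr_hom (c'.w f) (un i).default
      rw [ConcreteCategory.comp_apply] at h1
      show c'.ι.app i (un i).default = c'.ι.app j (un j).default
      rw [← h1]
      congr 1
      exact (un j).uniq _)
    refine ⟨⟨⟨e i₀⟩, fun a => ?_⟩⟩
    obtain ⟨i, x, rfl⟩ := Types.jointly_surjective_of_isColimit hev a
    rw [(un i).uniq x]
    exact hconst i i₀
  let sc : Cocone F := Sheaf.sheafifyCocone cP
  have hsc : IsColimit sc := Sheaf.isColimitSheafifyCocone cP hcP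
  refine preservesColimit_of_preserves_colimit_cocone hsc ?_
  let E'' : Cocone ((F ⋙ u.sheafPushforwardContinuous (Type u) J K) ⋙ sheafToPresheaf J (Type u)) :=
    W.mapCocone cP
  have hE'' : IsColimit E'' := isColimitOfPreserves W hcP
  have h2 := Sheaf.isColimitSheafifyCocone E'' hE''
  have hψ := Groth.Agent.S6441.result J K u hu cP.pt hG
  refine IsColimit.ofIsoColimit h2 (Cocone.ext (@asIso _ _ _ _ (((sheafificationAdjunction J (Type u)).homEquiv
    (u.op ⋙ cP.pt) ((u.sheafPushforwardContinuous (Type u) J K).obj
      ((presheafToSheaf K (Type u)).obj cP.pt))).symm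
        (Functor.whiskerLeft u.op (toSheafify K cP.pt))) hψ) ?_)
  intro i
  apply (sheafToPresheaf J (Type u)).map_injective
  rw [Functor.map_comp]
  show ((Sheaf.sheafifyCocone E'').ι.app i).hom ≫ _ = _
  rw [Sheaf.sheafifyCocone_ι_app_val]
  have h3 : toSheafify J E''.pt ≫ (sheafToPresheaf J (Type u)).map
      (((sheafificationAdjunction J (Type u)).homEquiv
        (u.op ⋙ cP.pt) ((u.sheafPushforwardContinuous (Type u) J K).obj
          ((presheafToSheaf K (Type u)).obj cP.pt))).symm
            (Functor.whiskerLeft u.op (toSheafify K cP.pt))) =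
      Functor.whiskerLeft u.op (toSheafify K cP.pt) := by
    have := (sheafificationAdjunction J (Type u)).homEquiv_unit (X := u.op ⋙ cP.pt)
      (Y := (u.sheafPushforwardContinuous (Type u) J K).obj
          ((presheafToSheaf K (Type u)).obj cP.pt))
      (f := ((sheafificationAdjunction J (Type u)).homEquiv
        (u.op ⋙ cP.pt) ((u.sheafPushforwardContinuous (Type u) J K).obj
          ((presheafToSheaf K (Type u)).obj cP.pt))).symm
            (Functor.whiskerLeft u.op (toSheafify K cP.pt)))
    rw [Equiv.apply_symm_apply, sheafificationAdjunction_unit_app] at this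
    exact this.symm
  refine (Category.assoc _ _ _).trans ?_
  refine (congrArg (fun t => E''.ι.app i ≫ t) h3).trans ?_
  show Functor.whiskerLeft u.op (cP.ι.app i) ≫ Functor.whiskerLeft u.op (toSheafify K cP.pt) =
    Functor.whiskerLeft u.op ((Sheaf.sheafifyCocone cP).ι.app i).hom
  rw [Sheaf.sheafifyCocone_ι_app_val]
  rfl

end Groth.Agent.S6440
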