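import Groth.Statements.S6443
import Groth.Agent.Lib.Helper24.FibCatRep
import Groth.Agent.Lib.Helper24.FibCatRepDiag

set_option autoImplicit false
open CategoryTheory
universe v u
open FibCat

namespace Groth.Agent.S6443

open CategoryTheory CategoryTheory.Limits
open Groth.Agent.Lib.Helper24.FibCatRep Groth.Agent.Lib.Helper24.FibCatEquiv

/-- the structure map of a terminal object of a slice is an isomorphism -/
lemma isIso_hom_of_isTerminal {C : Type u} [Category.{v} C] {X : C} (a : Over X) (ha : IsTerminal a) :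
    IsIso a.hom := by
  let i : a ≅ Over.mk (𝟙 X) := ha.uniqueUpToIso Over.mkIdTerminal
  have h : i.hom.left = a.hom := by simpa using Over.w i.hom
  rw [← h]
  exact (inferInstance : IsIso ((Over.forget X).mapIso i).hom)

lemma over_iso_lift {C : Type u} [Category.{v} C] {X : C} {a b : Over X} {R : C} (ha : a.left = R)
    (hb : b.left = R) (m : a ⟶ b) (hm : m.left = eqToHom (ha.trans hb.symm)) :
    (FibCat.overCat X).p.IsHomLift (𝟙 R) m := by
  exact Groth.Agent.Lib.Helper24.FibCatRepDiag.over_lift m (𝟙 R) ha hb (by rw [hm]; simp)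

lemma isEquivalence_of_isEquivOver {C : Type u} [Category.{v} C] {𝒳 𝒴 : BasedCategory.{v, max u v} C}
    (F : 𝒳 ⥤ᵇ 𝒴) (h : FibCat.IsEquivOver F) : F.toFunctor.IsEquivalence := by
  obtain ⟨G, ⟨α⟩, ⟨β⟩⟩ := h
  let α' : F.toFunctor ⋙ G.toFunctor ≅ 𝟭 𝒳.obj := (BasedNatTrans.forgetful 𝒳 𝒳).mapIso α
  let β' : G.toFunctor ⋙ F.toFunctor ≅ 𝟭 𝒴.obj := (BasedNatTrans.forgetful 𝒴 𝒴).mapIso β
  let E : 𝒳.obj ≌ 𝒴.obj := CategoryTheory.Equivalence.mk F.toFunctor G.toFunctor α'.symm β'
  exact E.isEquivalence_functor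

section
variable {C : Type u} [Category.{v} C] {𝒮 : BasedCategory.{v, max u v} C} {X : C}
  (j : 𝒮 ⥤ᵇ FibCat.overCat X) {t : 𝒮.obj} (ht : IsTerminal t)

lemma left_eq (s : 𝒮.obj) : (j.toFunctor.obj s).left = 𝒮.p.obj s := j.w_obj s

include ht in
lemma hom_eq (s : 𝒮.obj) : (j.toFunctor.obj s).hom =
    eqToHom (left_eq j s) ≫ 𝒮.p.map (ht.from s) ≫ eqToHom (left_eq j t).symm ≫
      (j.toFunctor.obj t).hom := by
  have h1 : (j.toFunctor.map (ht.from s)).left ≫ (j.toFunctor.obj t).hom = (j.toFunctor.obj s).hom :=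
    Over.w (j.toFunctor.map (ht.from s))
  have h2 : (j.toFunctor.map (ht.from s)).left =
      eqToHom (left_eq j s) ≫ 𝒮.p.map (ht.from s) ≫ eqToHom (left_eq j t).symm :=
    Functor.congr_hom j.w (ht.from s)
  rw [← h1, h2]
  simp only [Category.assoc]

end


/-- If a category `𝒮` fibred in groupoids over `C` is represented by `X` via `j : 𝒮 ⟶ C/X` and by `X'`
via `j' : 𝒮 ⟶ C/X'` (equivalences over `C`), then there is an isomorphism `X' ≅ X` under which `j'`
becomes 2-isomorphic to `j` over `C`. -/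
theorem result {C : Type u} [Category.{v} C] {𝒮 : BasedCategory.{v, max u v} C} (h𝒮 : FibCat.IsFibGrpd 𝒮.p)
    {X X' : C} (j : 𝒮 ⥤ᵇ FibCat.overCat X) (j' : 𝒮 ⥤ᵇ FibCat.overCat X') (hj : FibCat.IsEquivOver j) (hj' : FibCat.IsEquivOver j') :
    ∃ e : X' ≅ X, Nonempty (BasedFunctor.comp j' (⟨Over.map e.hom, Over.mapForget_eq e.hom⟩ : FibCat.overCat X' ⥤ᵇ FibCat.overCat X) ≅ j) := by
  obtain ⟨t, ⟨ht⟩⟩ := exists_isTerminal_of_isRepresentable ⟨X, j, hj⟩
  have hE := isEquivalence_of_isEquivOver j hj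
  have hE' := isEquivalence_of_isEquivOver j' hj'
  have i1 : IsIso (j.toFunctor.obj t).hom :=
    isIso_hom_of_isTerminal _ (IsTerminal.isTerminalObj j.toFunctor t ht)
  have i2 : IsIso (j'.toFunctor.obj t).hom :=
    isIso_hom_of_isTerminal _ (IsTerminal.isTerminalObj j'.toFunctor t ht)
  let e : X' ≅ X := (asIso (j'.toFunctor.obj t).hom).symm ≪≫
    eqToIso ((left_eq j' t).trans (left_eq j t).symm) ≪≫ asIso (j.toFunctor.obj t).hom
  refine ⟨e, ⟨?_⟩⟩
  have key : ∀ s : 𝒮.obj, (eqToIso ((left_eq j' s).trans (left_eq j s).symm)).hom ≫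
      (j.toFunctor.obj s).hom = (j'.toFunctor.obj s).hom ≫ e.hom := by
    intro s
    rw [hom_eq j ht s, hom_eq j' ht s]
    simp [e]
  refine BasedNatIso.mkNatIso (NatIso.ofComponents (fun s =>
    (Over.isoMk (eqToIso ((left_eq j' s).trans (left_eq j s).symm)) (key s) :
      (Over.map e.hom).obj (j'.toFunctor.obj s) ≅ j.toFunctor.obj s)) ?_) ?_
  · intro s s' φ
    apply Over.OverMorphism.ext
    have h1 : (j.toFunctor.map φ).left = eqToHom (left_eq j s) ≫ 𝒮.p.map φ ≫
        eqToHom (left_eq j s').symm := Functor.congr_hom j.w φ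
    have h2 : (j'.toFunctor.map φ).left = eqToHom (left_eq j' s) ≫ 𝒮.p.map φ ≫
        eqToHom (left_eq j' s').symm := Functor.congr_hom j'.w φ
    change (j'.toFunctor.map φ).left ≫ eqToHom ((left_eq j' s').trans (left_eq j s').symm) =
      eqToHom ((left_eq j' s).trans (left_eq j s).symm) ≫ (j.toFunctor.map φ).left
    rw [h1, h2]
    simp
  · intro s
    refine over_iso_lift (X := X) (a := (Over.map e.hom).obj (j'.toFunctor.obj s))
      (b := j.toFunctor.obj s) (left_eq j' s) (left_eq j s) _ ?_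
    rfl

end Groth.Agent.S6443
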