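import Groth.Statements.S6446
import Mathlib

set_option autoImplicit false
open CategoryTheory CategoryTheory.Limits Opposite
universe v u
open CatLim

namespace Groth.Agent.S6446

section helpers
open CategoryTheory CategoryTheory.Limits Opposite
open CatLim

theorem main {I : Type v} [SmallCategory I] [IsFiltered I] {C : Type u} [Category.{v} C]
    (M : I ⥤ C) (c : Cocone M)
    (h : ∀ W : C, Function.Bijective (colimit.desc (M ⋙ coyoneda.obj (op W)) ((coyoneda.obj (op W)).mapCocone c))) :
    CatLim.IsEssConstInd M c := by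
  -- the identity of `c.pt` comes from some stage
  obtain ⟨z, hz⟩ := (h c.pt).2 (𝟙 c.pt)
  obtain ⟨i, s, rfl⟩ := Types.jointly_surjective' z
  have hs : (show c.pt ⟶ M.obj i from s) ≫ c.ι.app i = 𝟙 c.pt := by
    rw [colimit.ι_desc_apply] at hz
    exact hz
  refine ⟨i, s, hs, fun j => ?_⟩
  -- compare the classes of `𝟙 (M j)` and `c_j ≫ s` in `colim Hom(M j, M -)`
  have h1 : colimit.desc (M ⋙ coyoneda.obj (op (M.obj j))) ((coyoneda.obj (op (M.obj j))).mapCocone c)
      (colimit.ι (M ⋙ coyoneda.obj (op (M.obj j))) j (𝟙 (M.obj j))) = c.ι.app j := by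
    rw [colimit.ι_desc_apply]
    exact Category.id_comp _
  have h2 : colimit.desc (M ⋙ coyoneda.obj (op (M.obj j))) ((coyoneda.obj (op (M.obj j))).mapCocone c)
      (colimit.ι (M ⋙ coyoneda.obj (op (M.obj j))) i
        (c.ι.app j ≫ (show c.pt ⟶ M.obj i from s))) = c.ι.app j := by
    rw [colimit.ι_desc_apply]
    show (c.ι.app j ≫ (show c.pt ⟶ M.obj i from s)) ≫ c.ι.app i = c.ι.app j
    rw [Category.assoc, hs]
    exact Category.comp_id _
  have h3 := (h (M.obj j)).1 (h1.trans h2.symm)
  obtain ⟨k, b, a, hk⟩ := (Types.FilteredColimit.colimit_eq_iff _).mp h3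
  refine ⟨k, a, b, ?_⟩
  have hk' : 𝟙 (M.obj j) ≫ M.map b = (c.ι.app j ≫ (show c.pt ⟶ M.obj i from s)) ≫ M.map a := hk
  rw [Category.id_comp, Category.assoc] at hk'
  exact hk'

end helpers

/-- (2) ⇒ (1): over a filtered index category, a diagram `M` with a cocone `(X, M_i → X)` inducing
bijections `colim_i Mor(W, M_i) → Mor(W, X)` for all `W` is essentially constant as an ind-object
with value `X`. -/
theorem result {I : Type v} [SmallCategory I] [IsFiltered I] {C : Type u} [Category.{v} C]
    (M : I ⥤ C) (c : Cocone M)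
    (h : ∀ W : C, Function.Bijective (colimit.desc (M ⋙ coyoneda.obj (op W)) ((coyoneda.obj (op W)).mapCocone c))) :
    CatLim.IsEssConstInd M c := by
  exact main M c h

end Groth.Agent.S6446
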