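import Groth.Statements.S6447
import Groth.Agent.Lib.Helper24.CatPullbackMap

set_option autoImplicit false
open CategoryTheory CategoryTheory.Limits
universe v u
open FibCat

namespace Groth.Agent.S6447

open CategoryTheory CategoryTheory.Limits
open Groth.Agent.Lib.Helper24.CatPullbackMap

section
variable {X Y V : Type u} [Category.{v} X] [Category.{v} Y] [Category.{v} V] (p : X ⥤ Y) (q : V ⥤ Y)

abbrev UU := CategoricalPullback p q
abbrev ΔU : UU p q ⥤ CategoricalPullback (CategoricalPullback.π₂ p q) (CategoricalPullback.π₂ p q) :=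
  (CategoricalPullback.CatCommSqOver.toFunctorToCategoricalPullback (CategoricalPullback.π₂ p q) (CategoricalPullback.π₂ p q) (CategoricalPullback p q)).obj ⟨𝟭 _, 𝟭 _, Iso.refl _⟩
abbrev ΔX : X ⥤ CategoricalPullback p p :=
  (CategoricalPullback.CatCommSqOver.toFunctorToCategoricalPullback p p X).obj ⟨𝟭 _, 𝟭 _, Iso.refl _⟩
abbrev ψψ : CatCospanTransform (CategoricalPullback.π₂ p q) (CategoricalPullback.π₂ p q) p p :=
  ⟨CategoricalPullback.π₁ p q, q, CategoricalPullback.π₁ p q, ⟨(CatCommSq.iso (CategoricalPullback.π₁ p q) (CategoricalPullback.π₂ p q) p q).symm⟩, ⟨(CatCommSq.iso (CategoricalPullback.π₁ p q) (CategoricalPullback.π₂ p q) p q).symm⟩⟩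
noncomputable abbrev mm := FibCat.categoricalPullbackMap (ψψ p q)

lemma mm_iso_hom (P : CategoricalPullback (CategoricalPullback.π₂ p q) (CategoricalPullback.π₂ p q)) :
    ((mm p q).obj P).iso.hom = P.fst.iso.hom ≫ q.map P.iso.hom ≫ P.snd.iso.inv := by
  rw [cpm_obj_iso_hom]
  rfl

noncomputable def ee : CategoricalPullback.π₁ p q ⋙ ΔX p ≅ ΔU p q ⋙ mm p q :=
  NatIso.ofComponents (fun u => CategoricalPullback.mkIso (Iso.refl u.fst) (Iso.refl u.fst) (by
    change p.map (𝟙 u.fst) ≫ ((mm p q).obj ((ΔU p q).obj u)).iso.hom = 𝟙 _ ≫ p.map (𝟙 u.fst)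
    rw [mm_iso_hom]
    change p.map (𝟙 u.fst) ≫ u.iso.hom ≫ q.map (𝟙 u.snd) ≫ u.iso.inv = 𝟙 _ ≫ p.map (𝟙 u.fst)
    simp))
    (by
      intro u u' f
      apply CategoricalPullback.hom_ext
      · change f.fst ≫ 𝟙 _ = 𝟙 _ ≫ f.fst
        simp
      · change f.fst ≫ 𝟙 _ = 𝟙 _ ≫ f.fst
        simp)

end

section
variable {X Y V : Type u} [Category.{v} X] [Category.{v} Y] [Category.{v} V] (p : X ⥤ Y) (q : V ⥤ Y)

noncomputable abbrev ΦΦ : UU p q ⥤ CategoricalPullback (ΔX p) (mm p q) :=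
  (CategoricalPullback.CatCommSqOver.toFunctorToCategoricalPullback (ΔX p) (mm p q) (UU p q)).obj
    ⟨CategoricalPullback.π₁ p q, ΔU p q, ee p q⟩

lemma ee_hom_fst (u : UU p q) : ((ee p q).hom.app u).fst = 𝟙 u.fst := rfl
lemma ee_hom_snd (u : UU p q) : ((ee p q).hom.app u).snd = 𝟙 u.fst := rfl

instance : (ΦΦ p q).Faithful := by
  constructor
  intro u u' f g h
  have := congrArg (fun k => k.snd.fst) h
  exact this

instance : (ΦΦ p q).Full := by
  constructor
  intro u u' h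
  have w1 : h.snd.fst.snd = h.snd.snd.snd := by
    have := h.snd.w
    change h.snd.fst.snd ≫ 𝟙 _ = 𝟙 _ ≫ h.snd.snd.snd at this
    simpa using this
  have hw := h.w
  have w2 : h.fst = h.snd.fst.fst := by
    have := congrArg (fun k => k.fst) hw
    change h.fst ≫ 𝟙 _ = 𝟙 _ ≫ h.snd.fst.fst at this
    simpa using this
  have w3 : h.fst = h.snd.snd.fst := by
    have := congrArg (fun k => k.snd) hw
    change h.fst ≫ 𝟙 _ = 𝟙 _ ≫ h.snd.snd.fst at this
    simpa using this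
  refine ⟨h.snd.fst, ?_⟩
  apply CategoricalPullback.hom_ext
  · exact w2.symm
  · apply CategoricalPullback.hom_ext
    · rfl
    · apply CategoricalPullback.hom_ext
      · exact w2.symm.trans w3
      · exact w1

end

section
variable {X Y V : Type u} [Category.{v} X] [Category.{v} Y] [Category.{v} V] (p : X ⥤ Y) (q : V ⥤ Y)

instance : (ΦΦ p q).EssSurj := by
  constructor
  intro Z
  obtain ⟨x, P, ι⟩ := Z
  obtain ⟨u₁, u₂, θ⟩ := P
  change u₁.snd ≅ u₂.snd at θ
  let ι₁ : x ≅ u₁.fst := (CategoricalPullback.π₁ p p).mapIso ι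
  let ι₂ : x ≅ u₂.fst := (CategoricalPullback.π₂ p p).mapIso ι
  have hw : p.map ι₁.hom ≫ u₁.iso.hom ≫ q.map θ.hom ≫ u₂.iso.inv = p.map ι₂.hom := by
    have := ι.hom.w
    rw [mm_iso_hom] at this
    change p.map ι₁.hom ≫ u₁.iso.hom ≫ q.map θ.hom ≫ u₂.iso.inv = 𝟙 _ ≫ p.map ι₂.hom at this
    simpa using this
  let u : UU p q := ⟨x, u₁.snd, p.mapIso ι₁ ≪≫ u₁.iso⟩
  let c₁ : u ≅ u₁ := CategoricalPullback.mkIso ι₁ (Iso.refl _) (by simp [u])
  let c₂ : u ≅ u₂ := CategoricalPullback.mkIso ι₂ θ (by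
    simp only [u, Iso.trans_hom, Functor.mapIso_hom, Category.assoc]
    rw [← hw]
    simp)
  let P : CategoricalPullback (CategoricalPullback.π₂ p q) (CategoricalPullback.π₂ p q) := ⟨u₁, u₂, θ⟩
  let eᵣ : (ΔU p q).obj u ≅ P := CategoricalPullback.mkIso c₁ c₂ (by
    change 𝟙 _ ≫ θ.hom = 𝟙 _ ≫ θ.hom
    rfl)
  refine ⟨u, ⟨CategoricalPullback.mkIso (Iso.refl x) eᵣ ?_⟩⟩
  apply CategoricalPullback.hom_ext
  · change 𝟙 _ ≫ ι.hom.fst = 𝟙 _ ≫ ι₁.hom
    rfl
  · change 𝟙 _ ≫ ι.hom.snd = 𝟙 _ ≫ ι₂.hom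
    rfl

end


/-- For a 2-fibre product `U = X ×_Y V` of categories, the square formed by `U ⟶ X`, the diagonals `U ⟶
U ×_V U`, `X ⟶ X ×_Y X` and the induced functor `U ×_V U ⟶ X ×_Y X` is 2-cartesian. (The filling
2-isomorphism is the one whose two components at every object are identities; it exists and is
unique with that property.) -/
theorem result {X Y V : Type u} [Category.{v} X] [Category.{v} Y] [Category.{v} V] (p : X ⥤ Y) (q : V ⥤ Y) :
    ∃ e, (∀ u, (e.hom.app u).fst = 𝟙 _ ∧ (e.hom.app u).snd = 𝟙 _) ∧ FibCat.IsTwoCart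
      (CategoricalPullback.π₁ p q)
      ((CategoricalPullback.CatCommSqOver.toFunctorToCategoricalPullback (CategoricalPullback.π₂ p q) (CategoricalPullback.π₂ p q) (CategoricalPullback p q)).obj ⟨𝟭 _, 𝟭 _, Iso.refl _⟩)
      ((CategoricalPullback.CatCommSqOver.toFunctorToCategoricalPullback p p X).obj ⟨𝟭 _, 𝟭 _, Iso.refl _⟩)
      (FibCat.categoricalPullbackMap (⟨CategoricalPullback.π₁ p q, q, CategoricalPullback.π₁ p q, ⟨(CatCommSq.iso (CategoricalPullback.π₁ p q) (CategoricalPullback.π₂ p q) p q).symm⟩, ⟨(CatCommSq.iso (CategoricalPullback.π₁ p q) (CategoricalPullback.π₂ p q) p q).symm⟩⟩ : CatCospanTransform (CategoricalPullback.π₂ p q) (CategoricalPullback.π₂ p q) p p))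
      e := by
  refine ⟨ee p q, fun u => ⟨ee_hom_fst p q u, ee_hom_snd p q u⟩, ?_⟩
  change (ΦΦ p q).IsEquivalence
  exact { }

end Groth.Agent.S6447
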