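import Groth.Statements.S6448
-- import your own Groth.Agent.* helpers here

set_option autoImplicit false
open CategoryTheory
universe v u
open CatLim

namespace Groth.Agent.S6448

/-- In a category where spans complete to commutative squares and parallel pairs are coequalized by a
later arrow, every connected component is filtered (so the category is a disjoint union of filtered
categories). -/
theorem result {I : Type u} [Category.{v} I]
    (h1 : ∀ ⦃w x y : I⦄ (a : w ⟶ x) (b : w ⟶ y), ∃ (z : I) (c : x ⟶ z) (d : y ⟶ z), a ≫ c = b ≫ d)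
    (h2 : ∀ ⦃x y : I⦄ (a b : x ⟶ y), ∃ (z : I) (c : y ⟶ z), a ≫ c = b ≫ c)
    (j : ConnectedComponents I) : IsFiltered j.Component := by
  -- any two zigzag-connected objects have a common target
  have key : ∀ x y : I, Zigzag x y → ∃ z : I, Nonempty (x ⟶ z) ∧ Nonempty (y ⟶ z) := by
    intro x y hxy
    induction hxy with
    | refl => exact ⟨x, ⟨𝟙 x⟩, ⟨𝟙 x⟩⟩
    | tail _ hzag ih =>
      rename_i y y'
      obtain ⟨z, ⟨p⟩, ⟨q⟩⟩ := ih
      rcases hzag with ⟨⟨b⟩⟩ | ⟨⟨b⟩⟩
      · obtain ⟨z', c, d, _⟩ := h1 q b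
        exact ⟨z', ⟨p ≫ c⟩, ⟨d⟩⟩
      · exact ⟨z, ⟨p⟩, ⟨b ≫ q⟩⟩
  have : IsFilteredOrEmpty j.Component := by
    constructor
    · intro X Y
      have hXY : Zigzag X.obj Y.obj := Quotient.exact' (X.property.trans Y.property.symm)
      obtain ⟨z, ⟨p⟩, ⟨q⟩⟩ := key _ _ hXY
      have hz : j.objectProperty z := by
        have : (Quotient.mk'' z : ConnectedComponents I) = Quotient.mk'' X.obj :=
          Quotient.sound' (Zigzag.symm (Zigzag.of_hom p))
        exact this.trans X.property
      exact ⟨⟨z, hz⟩, ObjectProperty.homMk p, ObjectProperty.homMk q, trivial⟩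
    · intro X Y f g
      obtain ⟨z, c, hc⟩ := h2 f.hom g.hom
      have hz : j.objectProperty z := by
        have : (Quotient.mk'' z : ConnectedComponents I) = Quotient.mk'' Y.obj :=
          Quotient.sound' (Zigzag.symm (Zigzag.of_hom c))
        exact this.trans Y.property
      refine ⟨⟨z, hz⟩, ObjectProperty.homMk c, ?_⟩
      ext
      exact hc
  exact { }

end Groth.Agent.S6448
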