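import Groth.Statements.S6453
import Mathlib
import Groth.Agent.Lib.Helper11.IntMultD
import Groth.Agent.Lib.Helper11.IntMultI
import Groth.Agent.Lib.Helper11.IntMultJ

set_option autoImplicit false
universe u
open CategoryTheory AlgebraicGeometry
attribute [local instance] HasDerivedCategory.standard
open IntMult

namespace Groth.Agent.S6453

/-- Suppose the ideal of V in O_{X,ξ} is generated by a single nonzerodivisor g (c = 1: V is an
effective Cartier divisor at ξ). Then e(X, V·W, Z) = length_{O_{X,ξ}}(O_{W,ξ}/g O_{W,ξ}), i.e. the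
length of O_{X,ξ}/(I_{W,ξ} + (g)). Here X is a nonsingular variety over an algebraically closed
field K (smooth, separated, quasi-compact, integral), V and W are closed subvarieties given by
quasi-coherent ideal sheaves with integral subschemes, of dimensions r and s with dim X = n,
intersecting properly, and ξ is the generic point of an irreducible component Z of V ∩ W (a point of
V ∩ W maximal under specialization); e(X, V·W, Z) = IntMult.mult is the alternating sum of lengths
of Tor over O_{X,ξ}, and O_{W,ξ} = O_{X,ξ}/I_{W,ξ}. -/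
theorem result (K : Type u) [Field K] [IsAlgClosed K] (X : Scheme.{u}) (f : X ⟶ Spec (CommRingCat.of K)) [Smooth f] [IsSeparated f] [QuasiCompact f] [IsIntegral X] (IV IW : X.IdealSheafData) [IsIntegral IV.subscheme] [IsIntegral IW.subscheme] (n r s : ℕ) (hn : topologicalKrullDim X = n) (hr : topologicalKrullDim IV.support = r) (hs : topologicalKrullDim IW.support = s) (hprop : IntMult.ProperInt (IV.support : Set X) (IW.support : Set X) n r s) (ξ : X) (hξV : ξ ∈ IV.support) (hξW : ξ ∈ IW.support) (hmax : ∀ ξ' : X, ξ' ∈ IV.support → ξ' ∈ IW.support → ξ' ⤳ ξ → ξ' = ξ) (g : ↑(X.presheaf.stalk ξ)) (hg : IntMult.stalkIdeal IV ξ = Ideal.span {g}) (hreg : IsSMulRegular (↑(X.presheaf.stalk ξ)) g) : (IntMult.mult IV IW ξ : ℤ) = (Module.length (X.presheaf.stalk ξ) (↑(X.presheaf.stalk ξ) ⧸ (IntMult.stalkIdeal IW ξ ⊔ Ideal.span {g}))).toNat := by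
  haveI hregA : IsRegularLocalRing (X.presheaf.stalk ξ) :=
    Groth.Agent.Lib.Helper25.CurveEtale.isRegularLocalRing_stalk_of_smooth f ξ
  obtain ⟨a, ha⟩ := Groth.Agent.Lib.Helper18.SerreReg.exists_ringKrullDim_eq_nat
    (X.presheaf.stalk ξ)
  obtain ⟨dp, hdp, h1⟩ := Groth.Agent.Lib.Helper11.IntMultC.dim_quot_stalkIdeal K X f IV n r hn hr
    ξ hξV a ha
  obtain ⟨dq, hdq, h2⟩ := Groth.Agent.Lib.Helper11.IntMultC.dim_quot_stalkIdeal K X f IW n s hn hs
    ξ hξW a ha
  obtain ⟨h3, h4⟩ := Groth.Agent.Lib.Helper11.IntMultD.two_mul_le K X f IV IW n r s hn hprop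
    ξ hξV hξW a ha
  have hfl := Groth.Agent.Lib.Helper11.IntMultD.isFiniteLength_quot_sup IV IW ξ hmax
  have hgm : g ∈ IsLocalRing.maximalIdeal (X.presheaf.stalk ξ) := by
    have hle := Groth.Agent.Lib.Helper11.IntMultC.stalkIdeal_le_maximalIdeal IV ξ hξV
    rw [hg] at hle
    exact hle (Ideal.subset_span rfl)
  have h5 := ringKrullDim_quotient_span_singleton_succ_eq_ringKrullDim hreg hgm
  rw [← hg, hdp, ha] at h5
  have h5' : dp + 1 = a := by exact_mod_cast h5
  haveI := Groth.Agent.Lib.Helper11.IntMultI.stalkIdeal_isPrime IW ξ hξW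
  have hgq : g ∉ IntMult.stalkIdeal IW ξ := by
    intro hgq
    have e : IntMult.stalkIdeal IW ξ ⊔ IntMult.stalkIdeal IV ξ = IntMult.stalkIdeal IW ξ := by
      rw [sup_eq_left, hg, Ideal.span_le]
      exact Set.singleton_subset_iff.2 hgq
    rw [e] at hfl
    have h6 := Groth.Agent.Lib.Helper24.supportDim_le_zero_of_isFiniteLength hfl
    rw [Module.supportDim_quotient_eq_ringKrullDim, hdq] at h6
    have h7 : dq ≤ 0 := by exact_mod_cast h6
    omega
  unfold IntMult.mult
  rw [hg]
  exact Groth.Agent.Lib.Helper11.Kz.chi_quot_singleton _ g hreg hgq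

end Groth.Agent.S6453
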