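import Groth.Statements.S6454
import Mathlib
import Groth.Agent.Lib.Helper18.C1Add2

set_option autoImplicit false
universe u
open CategoryTheory AlgebraicGeometry
open Cyc

namespace Groth.Agent.S6454

/-- Let L, N be invertible O_X-modules and α a (k + 1)-cycle on X. Then c_1(L) ∩ α + c_1(N) ∩ α = c_1(L
⊗ N) ∩ α in CH_k(X): for any nonzero rational sections used to compute the three caps (the tensor
product is CohB1.tensorMod), the sum of the first two k-cycles is rationally equivalent to the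
third. Here L(ξ) = L_ξ/𝔪_ξ L_ξ is the space of rational sections of L on the closure of ξ,
div_{L|W}(s) and c_1(L) ∩ α are computed as coefficient functions from chosen nonzero rational
sections (Cyc.secDivFun, Cyc.c1CapFun), and results are compared up to rational equivalence for any
cycles with those coefficients. A pair (X, δ) with Cyc.IsSetup plays the role of a scheme locally of
finite type over the base (S, δ) (X locally Noetherian with universally catenary local rings, δ a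
dimension function). -/
theorem result (X : Scheme.{u}) (δ : X → ℤ) (hX : Cyc.IsSetup X δ) (L N : X.Modules) (hL : PicF.IsInvertible L) (hN : PicF.IsInvertible N) (k : ℤ) (α : AlgebraicCycle X ℤ) (hα : α ∈ Cyc.Zk X δ (k + 1)) (sL : (ξ : X) → Cyc.secFibre L ξ) (hsL : ∀ ξ, sL ξ ≠ 0) (sN : (ξ : X) → Cyc.secFibre N ξ) (hsN : ∀ ξ, sN ξ ≠ 0) (sT : (ξ : X) → Cyc.secFibre (CohB1.tensorMod L N) ξ) (hsT : ∀ ξ, sT ξ ≠ 0) (γL γN γT : AlgebraicCycle X ℤ) (hγL : ⇑γL = Cyc.c1CapFun δ L ⇑α sL) (hγN : ⇑γN = Cyc.c1CapFun δ N ⇑α sN) (hγT : ⇑γT = Cyc.c1CapFun δ (CohB1.tensorMod L N) ⇑α sT) : Cyc.RatEquiv δ k (γL + γN) γT := by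
  classical
  haveI := Groth.Agent.Lib.Helper29.QCoh.isQuasicoherent_of_isInvertible hL
  haveI := Groth.Agent.Lib.Helper29.QCoh.isQuasicoherent_of_isInvertible hN
  choose U e e' hU using (fun ξ : X =>
    Groth.Agent.Lib.Helper29.QCoh.exists_affine_isTriv₂ hL hN (W := ⊤) ξ trivial)
  have hξU : ∀ ξ, ξ ∈ U ξ := fun ξ => (hU ξ).2.1
  have hT : ∀ ξ, Groth.Agent.Lib.Helper29.QCoh.IsTriv L (U ξ) (e ξ) := fun ξ => (hU ξ).2.2.2.1
  have hT' : ∀ ξ, Groth.Agent.Lib.Helper29.QCoh.IsTriv N (U ξ) (e' ξ) := fun ξ => (hU ξ).2.2.2.2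
  have hTT : ∀ ξ, Groth.Agent.Lib.Helper29.QCoh.IsTriv (CohB1.tensorMod L N) (U ξ)
      (Groth.Agent.Lib.Helper29.QCoh.tmulSec L N (e ξ) (e' ξ)) := fun ξ => (hT ξ).tensor (hT' ξ)
  choose ψL eL using (fun ξ : X => Groth.Agent.Lib.Helper18.InvStalk.exists_smul_mk_eq
    (IsLocalRing.maximalIdeal (X.presheaf.stalk ξ)) (L.presheaf.germ (U ξ) ξ (hξU ξ) (e ξ))
    (Groth.Agent.Lib.Helper18.InvStalk.span_germ_eq_top L (hT ξ) ξ (hξU ξ)) (sL ξ))
  choose ψN eN using (fun ξ : X => Groth.Agent.Lib.Helper18.InvStalk.exists_smul_mk_eq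
    (IsLocalRing.maximalIdeal (X.presheaf.stalk ξ)) (N.presheaf.germ (U ξ) ξ (hξU ξ) (e' ξ))
    (Groth.Agent.Lib.Helper18.InvStalk.span_germ_eq_top N (hT' ξ) ξ (hξU ξ)) (sN ξ))
  choose ψT eT using (fun ξ : X => Groth.Agent.Lib.Helper18.InvStalk.exists_smul_mk_eq
    (IsLocalRing.maximalIdeal (X.presheaf.stalk ξ))
    ((CohB1.tensorMod L N).presheaf.germ (U ξ) ξ (hξU ξ)
      (Groth.Agent.Lib.Helper29.QCoh.tmulSec L N (e ξ) (e' ξ)))
    (Groth.Agent.Lib.Helper18.InvStalk.span_germ_eq_top _ (hTT ξ) ξ (hξU ξ)) (sT ξ))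
  have hres : ∀ (M : X.Modules) (ξ : X) (g : M.presheaf.stalk ξ) (s : Cyc.secFibre M ξ)
      (ψ : X.presheaf.stalk ξ), s ≠ 0 →
      s = ψ • (Submodule.Quotient.mk g : Cyc.secFibre M ξ) → (X.residue ξ).hom ψ ≠ 0 := by
    intro M ξ g s ψ hs e h0
    have hmem : ψ ∈ IsLocalRing.maximalIdeal (X.presheaf.stalk ξ) :=
      (IsLocalRing.residue_eq_zero_iff _).mp h0
    apply hs
    rw [e, ← Submodule.Quotient.mk_smul, Submodule.Quotient.mk_eq_zero]
    exact Submodule.smul_mem_smul hmem trivial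
  set φ : (ξ : X) → X.residueField ξ := fun ξ =>
    (X.residue ξ).hom (ψL ξ) * (X.residue ξ).hom (ψN ξ) / (X.residue ξ).hom (ψT ξ) with hφdef
  have hφ : ∀ ξ, φ ξ ≠ 0 := fun ξ =>
    div_ne_zero (mul_ne_zero (hres L ξ _ _ _ (hsL ξ) (eL ξ)) (hres N ξ _ _ _ (hsN ξ) (eN ξ)))
      (hres _ ξ _ _ _ (hsT ξ) (eT ξ))
  have hpt : ∀ ξ x : X, Cyc.secDivFun δ L ξ (sL ξ) x + Cyc.secDivFun δ N ξ (sN ξ) x -
      Cyc.secDivFun δ (CohB1.tensorMod L N) ξ (sT ξ) x = Cyc.divFun δ ξ (φ ξ) x := by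
    intro ξ x
    unfold Cyc.secDivFun Cyc.divFun
    by_cases hc : ξ ⤳ x ∧ δ x + 1 = δ ξ
    · rw [dif_pos hc, dif_pos hc, dif_pos hc, dif_pos hc]
      exact Groth.Agent.Lib.Helper18.C1Add.secOrdAt_tensor δ hX hL hN x ξ hc.1 hc.2 (hξU ξ) (e ξ)
        (e' ξ) (sL ξ) (sN ξ) (sT ξ) (hsL ξ) (hsN ξ) (hsT ξ) (ψL ξ) (ψN ξ) (ψT ξ) (eL ξ) (eN ξ)
        (eT ξ)
    · rw [dif_neg hc, dif_neg hc, dif_neg hc, dif_neg hc, add_zero, sub_zero]
  unfold Cyc.RatEquiv
  apply Groth.Agent.Lib.Helper18.C1Indep.ratEquivZero_of_eq_finsum_mul_divFun δ hX k α hα φ hφ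
  intro x
  have e0 : (γL + γN - γT) x = γL x + γN x - γT x := rfl
  rw [e0, hγL, hγN, hγT]
  unfold Cyc.c1CapFun
  have fL := Groth.Agent.Lib.Helper18.C1Indep.finite_support_c1Cap_summand δ L α sL x
  have fN := Groth.Agent.Lib.Helper18.C1Indep.finite_support_c1Cap_summand δ N α sN x
  have fT := Groth.Agent.Lib.Helper18.C1Indep.finite_support_c1Cap_summand δ
    (CohB1.tensorMod L N) α sT x
  rw [← finsum_add_distrib fL fN,
    ← finsum_sub_distrib ((fL.union fN).subset (Function.support_add _ _)) fT]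
  apply finsum_congr
  intro ξ
  rw [← mul_add, ← mul_sub, hpt]

end Groth.Agent.S6454
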