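import Groth.Statements.S6455
import Mathlib
import Groth.Agent.Lib.Helper18.C1Indep2
import Groth.Agent.Lib.Helper18.SecDiv2

set_option autoImplicit false
universe u
open CategoryTheory AlgebraicGeometry
open Cyc

namespace Groth.Agent.S6455

/-- c_1(O_X) ∩ α = 0 in CH_k(X) for every (k + 1)-cycle α: computed with any nonzero rational sections
of the structure sheaf, the k-cycle c_1(O_X) ∩ α is rationally equivalent to zero. Here L(ξ) =
L_ξ/𝔪_ξ L_ξ is the space of rational sections of L on the closure of ξ, div_{L|W}(s) and c_1(L) ∩ α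
are computed as coefficient functions from chosen nonzero rational sections (Cyc.secDivFun,
Cyc.c1CapFun), and results are compared up to rational equivalence for any cycles with those
coefficients. A pair (X, δ) with Cyc.IsSetup plays the role of a scheme locally of finite type over
the base (S, δ) (X locally Noetherian with universally catenary local rings, δ a dimension
function). -/
theorem result (X : Scheme.{u}) (δ : X → ℤ) (hX : Cyc.IsSetup X δ) (k : ℤ) (α : AlgebraicCycle X ℤ) (hα : α ∈ Cyc.Zk X δ (k + 1)) (s : (ξ : X) → Cyc.secFibre (Coh.structureModule X) ξ) (hs : ∀ ξ, s ξ ≠ 0) (γ : AlgebraicCycle X ℤ) (hγ : ⇑γ = Cyc.c1CapFun δ (Coh.structureModule X) ⇑α s) : Cyc.RatEquivZero δ k γ := by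
  classical
  have hO : PicF.IsInvertible (Coh.structureModule X) :=
    Groth.Agent.Lib.Helper29.QCoh.isInvertible_unit X
  have hT := Groth.Agent.Lib.Helper29.QCoh.isTriv_unit (X := X) ⊤
  set one : (Coh.structureModule X).presheaf.obj (Opposite.op ⊤) :=
    Groth.Agent.Lib.Helper29.QCoh.toUnit (1 : Γ(X, ⊤)) with hone
  set s₂ : (ξ : X) → Cyc.secFibre (Coh.structureModule X) ξ := fun ξ =>
    Submodule.Quotient.mk (((Coh.structureModule X).presheaf.germ ⊤ ξ trivial) one) with hs₂def
  have hs₂ : ∀ ξ, s₂ ξ ≠ 0 := by
    intro ξ h0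
    have h1 := Groth.Agent.Lib.Helper18.InvStalk.mem_of_smul_mk_eq_zero
      (IsLocalRing.maximalIdeal (X.presheaf.stalk ξ)) _
      (Groth.Agent.Lib.Helper18.InvStalk.span_germ_eq_top (Coh.structureModule X) hT ξ trivial)
      (Groth.Agent.Lib.Helper18.InvStalk.smul_germ_eq_zero (Coh.structureModule X) hT ξ trivial) 1
      (by rw [one_smul]; exact h0)
    exact (IsLocalRing.maximalIdeal.isMaximal (X.presheaf.stalk ξ)).ne_top
      ((Ideal.eq_top_iff_one _).mpr h1)
  have hzero : Cyc.c1CapFun δ (Coh.structureModule X) ⇑α s₂ = 0 := by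
    funext x
    unfold Cyc.c1CapFun
    apply finsum_eq_zero_of_forall_eq_zero
    intro ξ
    unfold Cyc.secDivFun
    by_cases hc : ξ ⤳ x ∧ δ x + 1 = δ ξ
    · rw [dif_pos hc]
      have ht := Groth.Agent.Lib.Helper18.InvStalk.exists_generator hO x
      have hgx := Groth.Agent.Lib.Helper18.InvStalk.span_germ_eq_top (Coh.structureModule X) hT x
        trivial
      have hfx := Groth.Agent.Lib.Helper18.InvStalk.smul_germ_eq_zero (Coh.structureModule X) hT x
        trivial
      have hm1 : ((Coh.structureModule X).presheaf.germ ⊤ x trivial) one ∈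
          Submodule.span (X.presheaf.stalk x) {Classical.choose ht} := by
        rw [Classical.choose_spec ht]; trivial
      obtain ⟨f, hf⟩ := Submodule.mem_span_singleton.mp hm1
      have hm2 : Classical.choose ht ∈ Submodule.span (X.presheaf.stalk x)
          {((Coh.structureModule X).presheaf.germ ⊤ x trivial) one} := by
        rw [hgx]; trivial
      obtain ⟨c, hc'⟩ := Submodule.mem_span_singleton.mp hm2
      have hfu : IsUnit f := by
        have h3 : (1 - f * c) • ((Coh.structureModule X).presheaf.germ ⊤ x trivial) one = 0 := by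
          rw [sub_smul, one_smul, mul_smul, hc', hf, sub_self]
        have h4 := hfx _ h3
        exact IsUnit.of_mul_eq_one c (sub_eq_zero.mp h4).symm
      rw [hs₂def]
      simp only
      rw [Groth.Agent.Lib.Helper18.SecDiv.secOrdAt_germ_eq δ hX (Coh.structureModule X) one x ξ hc.1
        hc.2 ht f hf.symm (hs₂ ξ), Ring.ord_of_isUnit (hfu.map _)]
      simp
    · rw [dif_neg hc, mul_zero]
  have key := Groth.Agent.Lib.Helper18.C1Indep.c1Cap_ratEquiv δ hX hO k α hα s s₂ hs hs₂ γ 0 hγ
    (by rw [hzero]; rfl)
  unfold Cyc.RatEquiv at key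
  rwa [sub_zero] at key

end Groth.Agent.S6455
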