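import Groth.Statements.S6460
import Groth.Agent.Lib.Helper21.ChartPt1
-- import your own Groth.Agent.* helpers here

set_option autoImplicit false
universe u
open CategoryTheory AlgebraicGeometry
open Cyc

namespace Groth.Agent.S6460

/-- (3) ⇒ (1): suppose that for every x ∈ X there is an integer n_x with δ(ξ) = n_x for every generic
point ξ of an irreducible component of X containing x. Then X decomposes into open and closed
subschemes X_n (n ∈ ℤ) such that every irreducible component of X_n has δ-dimension n; stated as the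
existence of a locally constant c : X → ℤ with δ(ξ) = c(ξ) for every point ξ that is maximal under
specialization. (The converse implications are immediate and not stated.) Here a pair (X, δ) with
Cyc.IsSetup plays the role of a scheme locally of finite type over the base (S, δ) (X locally
Noetherian with universally catenary local rings, δ a dimension function). -/
theorem result (X : Scheme.{u}) (δ : X → ℤ) (hX : Cyc.IsSetup X δ) (h3 : ∀ x : X, ∃ n : ℤ, ∀ ξ : X, (∀ ξ' : X, ξ' ⤳ ξ → ξ' = ξ) → ξ ⤳ x → δ ξ = n) : ∃ c : X → ℤ, IsLocallyConstant c ∧ ∀ ξ : X, (∀ ξ' : X, ξ' ⤳ ξ → ξ' = ξ) → δ ξ = c ξ := by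
  obtain ⟨hN, -, hδ⟩ := hX
  have : IsLocallyNoetherian X := hN
  -- every point has a maximal generisation
  have hmax : ∀ y : X, ∃ ξ : X, (∀ ξ' : X, ξ' ⤳ ξ → ξ' = ξ) ∧ ξ ⤳ y := by
    intro y
    obtain ⟨ξ, hξ⟩ := QuasiSober.sober (isIrreducible_irreducibleComponent (x := y))
      isClosed_irreducibleComponent
    refine ⟨ξ, fun ξ' h' => ?_, ?_⟩
    · have h1 : closure ({ξ} : Set X) ⊆ closure ({ξ'} : Set X) :=
        specializes_iff_closure_subset.mp h'
      rw [hξ.def] at h1
      have h2 := (irreducibleComponent_mem_irreducibleComponents y).2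
        isIrreducible_singleton.closure h1
      have h3 : ξ ⤳ ξ' := by
        rw [specializes_iff_closure_subset, hξ.def]
        exact h2
      exact (h'.antisymm h3).eq
    · rw [specializes_iff_mem_closure, hξ.def]
      exact mem_irreducibleComponent
  -- the local statement
  have hloc : ∀ x : X, ∃ V : Set X, IsOpen V ∧ x ∈ V ∧
      ∀ ξ : X, ξ ∈ V → (∀ ξ' : X, ξ' ⤳ ξ → ξ' = ξ) → ξ ⤳ x := by
    intro x
    obtain ⟨U, hU, hxU, -⟩ := TopologicalSpace.Opens.isBasis_iff_nbhd.mp X.isBasis_affineOpens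
      (show x ∈ (⊤ : X.Opens) from trivial)
    have hU : IsAffineOpen U := hU
    have : IsNoetherianRing Γ(X, U) := IsLocallyNoetherian.component_noetherian ⟨U, hU⟩
    set S : Set X := {ξ : X | ξ ∈ U ∧ (∀ ξ' : X, ξ' ⤳ ξ → ξ' = ξ) ∧ ¬ ξ ⤳ x} with hS
    have hSfin : S.Finite := by
      have hmp : (minimalPrimes Γ(X, U)).Finite := minimalPrimes.finite_of_isNoetherianRing _
      let φ : S → minimalPrimes Γ(X, U) := fun ξ =>
        ⟨(hU.primeIdealOf ⟨ξ.1, ξ.2.1⟩).asIdeal, by
          refine ⟨⟨(hU.primeIdealOf ⟨ξ.1, ξ.2.1⟩).2, bot_le⟩, fun P hP hle => ?_⟩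
          have : P.IsPrime := hP.1
          obtain ⟨⟨y, hyU⟩, hy⟩ :=
            Groth.Agent.Lib.Helper21.NagDvr.exists_primeIdealOf_eq hU ⟨P, hP.1⟩
          have hy' : (hU.primeIdealOf ⟨y, hyU⟩).asIdeal = P := congrArg PrimeSpectrum.asIdeal hy
          have hsp : y ⤳ ξ.1 := by
            rw [Groth.Agent.Lib.Helper21.ChartPt.specializes_iff_primeIdealOf_le hU ⟨y, hyU⟩
              ⟨ξ.1, ξ.2.1⟩, hy']
            exact hle
          have := ξ.2.2.1 y hsp
          subst this
          rw [← hy']⟩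
      have hφ : Function.Injective φ := by
        intro a b hab
        have h1 : (hU.primeIdealOf ⟨a.1, a.2.1⟩).asIdeal = (hU.primeIdealOf ⟨b.1, b.2.1⟩).asIdeal :=
          congrArg Subtype.val hab
        have h2 : a.1 ⤳ b.1 := by
          rw [Groth.Agent.Lib.Helper21.ChartPt.specializes_iff_primeIdealOf_le hU ⟨a.1, a.2.1⟩
            ⟨b.1, b.2.1⟩, h1]
        exact Subtype.ext (b.2.2.1 a.1 h2)
      have : Finite (minimalPrimes Γ(X, U)) := hmp.to_subtype
      have : Finite S := Finite.of_injective φ hφ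
      exact Set.toFinite S
    have hcl : closure S = ⋃ ξ ∈ S, closure ({ξ} : Set X) := by
      conv_lhs => rw [← Set.biUnion_of_singleton S]
      exact hSfin.closure_biUnion _
    refine ⟨(U : Set X) ∩ (closure S)ᶜ, U.2.inter isClosed_closure.isOpen_compl, ⟨hxU, ?_⟩, ?_⟩
    · rw [hcl]
      intro hx
      obtain ⟨ξ, hξS, hxξ⟩ := Set.mem_iUnion₂.mp hx
      exact hξS.2.2 (specializes_iff_mem_closure.mpr hxξ)
    · rintro ξ ⟨hξU, hξS⟩ hξmax
      by_contra hcon
      exact hξS (subset_closure ⟨hξU, hξmax, hcon⟩)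
  choose n hn using h3
  refine ⟨n, ?_, fun ξ hξ => hn ξ ξ hξ specializes_rfl⟩
  rw [IsLocallyConstant.iff_exists_open]
  intro x
  obtain ⟨V, hV, hxV, hVx⟩ := hloc x
  refine ⟨V, hV, hxV, fun y hy => ?_⟩
  obtain ⟨ξ, hξmax, hξy⟩ := hmax y
  have hξV : ξ ∈ V := hξy.mem_open hV hy
  rw [← hn y ξ hξmax hξy, ← hn x ξ hξmax (hVx ξ hξV hξmax)]

end Groth.Agent.S6460
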