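import Groth.Statements.S6461
import Groth.Agent.Lib.Helper21.DimFun2
-- import your own Groth.Agent.* helpers here

set_option autoImplicit false
universe u
open CategoryTheory AlgebraicGeometry
open Cyc

namespace Groth.Agent.S6461

/-- If all local rings of X are Cohen–Macaulay then every x ∈ X has an open neighbourhood U and an
integer n with δ(ξ) = n for every generic point ξ of an irreducible component of U (every point of U
maximal under specialization). Here a pair (X, δ) with Cyc.IsSetup plays the role of a scheme
locally of finite type over the base (S, δ) (X locally Noetherian with universally catenary local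
rings, δ a dimension function). -/
theorem result (X : Scheme.{u}) (δ : X → ℤ) (hX : Cyc.IsSetup X δ) (hCM : ∀ x : X, LocCoh.IsCohenMacaulayLocalRing ↑(X.presheaf.stalk x)) (x : X) : ∃ (U : X.Opens) (n : ℤ), x ∈ U ∧ ∀ ξ : X, ξ ∈ U → (∀ ξ' : X, ξ' ⤳ ξ → ξ' = ξ) → δ ξ = n := by
  obtain ⟨hN, -, hδ⟩ := hX
  have : IsLocallyNoetherian X := hN
  obtain ⟨n, hn⟩ := Groth.Agent.Lib.Helper21.DimFun.exists_delta_eq_of_CM δ hδ x (hCM x)
  obtain ⟨V, hxV, hV⟩ := Groth.Agent.Lib.Helper21.DimFun.exists_open_forall_maximal_specializes x
  exact ⟨V, n, hxV, fun ξ hξV hmax => hn ξ hmax (hV ξ hξV hmax)⟩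

end Groth.Agent.S6461
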