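import Groth.Statements.S6464
import Mathlib

set_option autoImplicit false
universe u v
open CycAlg

namespace Groth.Agent.S6464

section helpers
open CycAlg

section
variable {R : Type u} [CommRing R] {M N : Type v} [AddCommGroup M] [Module R M] [AddCommGroup N] [Module R N]

theorem length_eq_ker_add_range (f : M →ₗ[R] N) :
    Module.length R M = Module.length R (LinearMap.ker f) + Module.length R (LinearMap.range f) := by
  apply Module.length_eq_add_of_exact (LinearMap.ker f).subtype f.rangeRestrict
    (Submodule.subtype_injective _) f.surjective_rangeRestrict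
  rw [LinearMap.exact_iff, LinearMap.ker_rangeRestrict, Submodule.range_subtype]

theorem length_eq_add_quot {A B : Submodule R M} (h : A ≤ B) :
    Module.length R B = Module.length R A + Module.length R (↥B ⧸ A.submoduleOf B) := by
  rw [← (Submodule.submoduleOfEquivOfLe h).length_eq]
  exact Module.length_eq_add_of_exact (A.submoduleOf B).subtype (A.submoduleOf B).mkQ
    (Submodule.subtype_injective _) (Submodule.mkQ_surjective _) (LinearMap.exact_subtype_mkQ _)

end

theorem main {R : Type u} [CommRing R] {M N : Type v} [AddCommGroup M] [Module R M] [AddCommGroup N] [Module R N] (φ : M →ₗ[R] N) (ψ : N →ₗ[R] M) (h : CycAlg.IsPeriodic φ ψ) (hM : Module.length R M < ⊤) (hN : Module.length R N < ⊤) : CycAlg.FinCoh R φ ψ ∧ CycAlg.herbrand R φ ψ = ((Module.length R M).toNat : ℤ) - ((Module.length R N).toNat : ℤ) := by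
  have h1 : LinearMap.range ψ ≤ LinearMap.ker φ := by
    rintro _ ⟨y, rfl⟩
    exact LinearMap.congr_fun h.1 y
  have h2 : LinearMap.range φ ≤ LinearMap.ker ψ := by
    rintro _ ⟨y, rfl⟩
    exact LinearMap.congr_fun h.2 y
  have e1 := length_eq_ker_add_range φ
  have e2 := length_eq_ker_add_range ψ
  have e3 := length_eq_add_quot h1
  have e4 := length_eq_add_quot h2
  unfold CycAlg.FinCoh CycAlg.herbrand CycAlg.perH
  generalize Module.length R (↥(LinearMap.ker φ) ⧸ (LinearMap.range ψ).submoduleOf (LinearMap.ker φ)) = a at *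
  generalize Module.length R (↥(LinearMap.ker ψ) ⧸ (LinearMap.range φ).submoduleOf (LinearMap.ker ψ)) = b at *
  generalize Module.length R (LinearMap.ker φ) = kφ at *
  generalize Module.length R (LinearMap.ker ψ) = kψ at *
  generalize Module.length R (LinearMap.range φ) = rφ at *
  generalize Module.length R (LinearMap.range ψ) = rψ at *
  generalize Module.length R M = m at *
  generalize Module.length R N = n at *
  lift m to ℕ using hM.ne
  lift n to ℕ using hN.ne
  have hkφ : kφ ≠ ⊤ := by rintro rfl; simp at e1
  have hrφ : rφ ≠ ⊤ := by rintro rfl; simp at e1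
  have hkψ : kψ ≠ ⊤ := by rintro rfl; simp at e2
  have hrψ : rψ ≠ ⊤ := by rintro rfl; simp at e2
  lift kφ to ℕ using hkφ
  lift rφ to ℕ using hrφ
  lift kψ to ℕ using hkψ
  lift rψ to ℕ using hrψ
  have ha : a ≠ ⊤ := by rintro rfl; simp at e3
  have hb : b ≠ ⊤ := by rintro rfl; simp at e4
  lift a to ℕ using ha
  lift b to ℕ using hb
  refine ⟨⟨ENat.coe_lt_top _, ENat.coe_lt_top _⟩, ?_⟩
  norm_cast at e1 e2 e3 e4
  simp only [ENat.toNat_coe]
  omega

end helpers

/-- Let (M, N, φ, ψ) be a 2-periodic complex over a ring R with M and N of finite length. Then its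
cohomology modules have finite length and e_R(M, N, φ, ψ) = length_R(M) − length_R(N). (The case M =
N, where the conclusion reads e_R(M, φ, ψ) = 0, is the special case and is not restated.) -/
theorem result {R : Type u} [CommRing R] {M N : Type v} [AddCommGroup M] [Module R M] [AddCommGroup N] [Module R N] (φ : M →ₗ[R] N) (ψ : N →ₗ[R] M) (h : CycAlg.IsPeriodic φ ψ) (hM : Module.length R M < ⊤) (hN : Module.length R N < ⊤) : CycAlg.FinCoh R φ ψ ∧ CycAlg.herbrand R φ ψ = ((Module.length R M).toNat : ℤ) - ((Module.length R N).toNat : ℤ) := by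
  exact main φ ψ h hM hN

end Groth.Agent.S6464
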