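import Groth.Statements.S6465
import Mathlib
import Groth.Agent.Lib.Helper18.PullSec2
import Groth.Agent.Lib.Helper18.C1Indep2

set_option autoImplicit false
universe u
open CategoryTheory AlgebraicGeometry
open Cyc

namespace Groth.Agent.S6465

/-- Let (L, s, i : D → X) be a triple defining a Gysin map. Then i^* i_* : CH_k(D) → CH_{k−1}(D) sends
the class of a k-cycle α on D to c_1(L|_D) ∩ α: the (k − 1)-cycle i^*(i_* α) is rationally
equivalent on D to c_1(i^*L) ∩ α computed with any nonzero rational sections. Here i : D → X is the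
zero scheme of a global section s of the invertible module L (Cyc.IsZeroSchemeOf), the Gysin map i^*
: Z_{k+1}(X) → CH_k(D) is computed on coefficient functions as c_1(L) ∩ − with the rational sections
taken to be s where it is nonzero and a nonzero fallback elsewhere (Cyc.gysinChoice), restricted to
the points of D, and classes on D are compared up to rational equivalence on D for the restricted
dimension function; (X, δ) with Cyc.IsSetup stands for a scheme locally of finite type over the base
(S, δ). -/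
theorem result (X D : Scheme.{u}) (δ : X → ℤ) (hX : Cyc.IsSetup X δ) (L : X.Modules) (hL : PicF.IsInvertible L) (s : L.presheaf.obj (Opposite.op ⊤)) (i : D ⟶ X) [IsClosedImmersion i] (hD : Cyc.IsZeroSchemeOf i L s) (k : ℤ) (α : AlgebraicCycle D ℤ) (hα : α ∈ Cyc.Zk D (fun d => δ (i d)) k) (w : (ξ : X) → Cyc.secFibre L ξ) (hw : ∀ ξ, w ξ ≠ 0) (t : (d : D) → Cyc.secFibre ((Scheme.Modules.pullback i).obj L) d) (ht : ∀ d, t d ≠ 0) (ζ₁ ζ₂ : AlgebraicCycle D ℤ) (h₁ : ∀ d, ζ₁ d = Cyc.c1CapFun δ L ⇑(AlgebraicCycle.map i (fun d => δ (i d)) δ α) (Cyc.gysinChoice L s w) (i d)) (h₂ : ⇑ζ₂ = Cyc.c1CapFun (fun d => δ (i d)) ((Scheme.Modules.pullback i).obj L) ⇑α t) : Cyc.RatEquiv (fun d => δ (i d)) (k - 1) ζ₁ ζ₂ := by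
  classical
  have hDset := Groth.Agent.Lib.Helper18.ClImm.isSetup i δ hX
  have hLD : PicF.IsInvertible ((Scheme.Modules.pullback i).obj L) :=
    Groth.Agent.Lib.Helper29.QCoh.isInvertible_pullback i hL
  have hinj : Function.Injective (i : D → X) := i.isClosedEmbedding.injective
  have hα' : α ∈ Cyc.Zk D (fun d => δ (i d)) (k - 1 + 1) := by
    rw [sub_add_cancel]; exact hα
  -- the pulled back fallback sections
  let t' : (d : D) → Cyc.secFibre ((Scheme.Modules.pullback i).obj L) d := fun d' =>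
    Groth.Agent.Lib.Helper18.PullSec.pullFibre i L d' (w (i d'))
  have ht' : ∀ d, t' d ≠ 0 := fun d' =>
    Groth.Agent.Lib.Helper18.PullSec.pullFibre_ne_zero i L hL d' _ (hw (i d'))
  have hgc : ∀ d' : D, Cyc.gysinChoice L s w (i d') = w (i d') := by
    intro d'
    have hmem : i d' ∈ {x : X | (Submodule.Quotient.mk ((L.presheaf.germ ⊤ x trivial) s) :
        Cyc.secFibre L x) = 0} := by
      rw [← hD.1]; exact ⟨d', rfl⟩
    have hmem' : (Submodule.Quotient.mk ((L.presheaf.germ ⊤ (i d') trivial) s) :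
        Cyc.secFibre L (i d')) = 0 := hmem
    unfold Cyc.gysinChoice
    rw [if_neg (not_not.mpr hmem')]
  have h₁' : ⇑ζ₁ = Cyc.c1CapFun (fun d => δ (i d)) ((Scheme.Modules.pullback i).obj L) ⇑α t' := by
    funext d
    rw [h₁ d]
    unfold Cyc.c1CapFun
    rw [Groth.Agent.Lib.Helper18.PullSec.finsum_eq_finsum_comp (i : D → X) hinj]
    · apply finsum_congr
      intro d'
      rw [Groth.Agent.Lib.Helper18.PullSec.map_apply_of_mem, hgc d',
        Groth.Agent.Lib.Helper18.PullSec.secDivFun_pullFibre i L δ hX hL d d' _ (hw (i d'))]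
    · intro ξ hξ
      by_contra hn
      apply hξ
      rw [Groth.Agent.Lib.Helper18.PullSec.map_apply_of_notMem i δ α ξ hn, zero_mul]
  exact Groth.Agent.Lib.Helper18.C1Indep.c1Cap_ratEquiv (fun d => δ (i d)) hDset hLD (k - 1) α hα'
    t' t ht' ht ζ₁ ζ₂ h₁' h₂

end Groth.Agent.S6465
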