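import Groth.Statements.S6476
import Groth.Agent.Lib.Helper9.FinLenSupp

set_option autoImplicit false
universe u v
open CycAlg

namespace Groth.Agent.S6476

/-- Let A be a Noetherian local ring, M a finite A-module of dimension 1, and φ, ψ : M → M injective
with φ(ψ(M)) = ψ(φ(M)) (e.g. φ, ψ commute). Then length_A(M/φψM) is finite and (M/φψM, φ, ψ) is an
exact (2, 1)-periodic complex; here φ', ψ' denote the endomorphisms of M/φψM induced by φ and ψ, and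
exactness says both cohomology modules (CycAlg.perH) are trivial. -/
theorem result {A : Type u} [CommRing A] [IsNoetherianRing A] [IsLocalRing A] {M : Type v} [AddCommGroup M] [Module A M] [Module.Finite A M] (hdim : Module.supportDim A M = 1) (φ ψ : M →ₗ[A] M) (hφ : Function.Injective φ) (hψ : Function.Injective ψ) (hcomm : Submodule.map φ (LinearMap.range ψ) = Submodule.map ψ (LinearMap.range φ)) (φ' ψ' : (M ⧸ LinearMap.range (φ ∘ₗ ψ)) →ₗ[A] (M ⧸ LinearMap.range (φ ∘ₗ ψ))) (hφ' : φ' ∘ₗ (LinearMap.range (φ ∘ₗ ψ)).mkQ = (LinearMap.range (φ ∘ₗ ψ)).mkQ ∘ₗ φ) (hψ' : ψ' ∘ₗ (LinearMap.range (φ ∘ₗ ψ)).mkQ = (LinearMap.range (φ ∘ₗ ψ)).mkQ ∘ₗ ψ) : Module.length A (M ⧸ LinearMap.range (φ ∘ₗ ψ)) < ⊤ ∧ CycAlg.IsPeriodic φ' ψ' ∧ Subsingleton (CycAlg.perH φ' ψ') ∧ Subsingleton (CycAlg.perH ψ' φ') := by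
  have hN1 : LinearMap.range (φ ∘ₗ ψ) = Submodule.map φ (LinearMap.range ψ) :=
    LinearMap.range_comp ψ φ
  have hN2 : LinearMap.range (φ ∘ₗ ψ) = Submodule.map ψ (LinearMap.range φ) := hN1.trans hcomm
  have hφ'a : ∀ m, φ' ((LinearMap.range (φ ∘ₗ ψ)).mkQ m) = (LinearMap.range (φ ∘ₗ ψ)).mkQ (φ m) :=
    fun m => LinearMap.congr_fun hφ' m
  have hψ'a : ∀ m, ψ' ((LinearMap.range (φ ∘ₗ ψ)).mkQ m) = (LinearMap.range (φ ∘ₗ ψ)).mkQ (ψ m) :=
    fun m => LinearMap.congr_fun hψ' m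
  have hmk0 : ∀ m, (LinearMap.range (φ ∘ₗ ψ)).mkQ m = 0 ↔ m ∈ LinearMap.range (φ ∘ₗ ψ) := by
    intro m
    rw [Submodule.mkQ_apply, Submodule.Quotient.mk_eq_zero]
  refine ⟨?_, ⟨?_, ?_⟩, ?_, ?_⟩
  · exact Groth.Agent.Lib.Helper9.FinLenSupp.length_quotient_range_lt_top hdim (φ ∘ₗ ψ)
      (hφ.comp hψ)
  · -- φ' ∘ ψ' = 0
    apply LinearMap.ext
    intro q
    obtain ⟨m, rfl⟩ := Submodule.mkQ_surjective _ q
    rw [LinearMap.comp_apply, hψ'a, hφ'a, LinearMap.zero_apply, hmk0]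
    exact ⟨m, rfl⟩
  · -- ψ' ∘ φ' = 0
    apply LinearMap.ext
    intro q
    obtain ⟨m, rfl⟩ := Submodule.mkQ_surjective _ q
    rw [LinearMap.comp_apply, hφ'a, hψ'a, LinearMap.zero_apply, hmk0, hN2]
    exact ⟨φ m, ⟨m, rfl⟩, rfl⟩
  · -- ker φ' ⊆ range ψ'
    rw [Submodule.Quotient.subsingleton_iff, Submodule.submoduleOf_eq_top]
    intro q hq
    obtain ⟨m, rfl⟩ := Submodule.mkQ_surjective _ q
    rw [LinearMap.mem_ker, hφ'a, hmk0, hN1] at hq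
    obtain ⟨_, ⟨m', rfl⟩, hm'⟩ := hq
    have : m = ψ m' := (hφ hm').symm
    exact ⟨(LinearMap.range (φ ∘ₗ ψ)).mkQ m', by rw [hψ'a, this]⟩
  · rw [Submodule.Quotient.subsingleton_iff, Submodule.submoduleOf_eq_top]
    intro q hq
    obtain ⟨m, rfl⟩ := Submodule.mkQ_surjective _ q
    rw [LinearMap.mem_ker, hψ'a, hmk0, hN2] at hq
    obtain ⟨_, ⟨m', rfl⟩, hm'⟩ := hq
    have : m = φ m' := (hψ hm').symm
    exact ⟨(LinearMap.range (φ ∘ₗ ψ)).mkQ m', by rw [hφ'a, this]⟩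

end Groth.Agent.S6476
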