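import Groth.Statements.S6483
import Mathlib
import Groth.Agent.Lib.Helper18.EX4

set_option autoImplicit false
universe u
open CategoryTheory AlgebraicGeometry
open CategoryTheory.Limits
open Cyc

namespace Groth.Agent.S6483

/-- Let f : Y → X be an envelope and p, q : Y ×_X Y → Y the two projections. If a k-cycle β on Y has
f_*β ∼_rat 0 on X, then β ∼_rat p_*γ − q_*γ for some k-cycle γ on Y ×_X Y. Together with
surjectivity of f_* and f_* p_* = f_* q_*, this is the exact sequence CH_k(Y ×_X Y) → CH_k(Y) →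
CH_k(X) → 0. An envelope is a proper, completely decomposed morphism (every point of the target has
a point over it with trivial residue field extension; this prelude's Cyc.IsCompletelyDecomposed).
Here a pair (X, δ) with Cyc.IsSetup plays the role of a scheme locally of finite type over the base
(S, δ) (X locally Noetherian with universally catenary local rings, δ a dimension function), and
Cyc.DeltaCompat records that the dimension function upstairs is the induced one. -/
theorem result (X Y : Scheme.{u}) (δ : X → ℤ) (δY : Y → ℤ) (hX : Cyc.IsSetup X δ) (hY : Cyc.IsSetup Y δY) (f : Y ⟶ X) [IsProper f] (hcd : Cyc.IsCompletelyDecomposed f) (hδ : Cyc.DeltaCompat f δY δ) (δ2 : ↥(pullback f f) → ℤ) (h2 : Cyc.IsSetup (pullback f f) δ2) (hδ2 : Cyc.DeltaCompat (pullback.fst f f) δ2 δY) (k : ℤ) (β : AlgebraicCycle Y ℤ) (hβ : β ∈ Cyc.Zk Y δY k) (h0 : Cyc.RatEquivZero δ k (AlgebraicCycle.map f δY δ β)) : ∃ γ : AlgebraicCycle (pullback f f) ℤ, γ ∈ Cyc.Zk (pullback f f) δ2 k ∧ Cyc.RatEquiv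 δY k β (AlgebraicCycle.map (pullback.fst f f) δ2 δY γ - AlgebraicCycle.map (pullback.snd f f) δ2 δY γ) := by
  classical
  obtain ⟨ε, hε0, hεmap⟩ := Groth.Agent.Lib.Helper18.EX3.exists_lift_ratEquivZero δ δY hX hY f hcd hδ k _ h0
  have hεZ := Groth.Agent.Lib.Helper18.EX2.mem_Zk_of_ratEquivZero δY k ε hε0
  have hβ'Z : β - ε ∈ Cyc.Zk Y δY k := by
    intro y hy
    change β y - ε y = 0
    rw [hβ y hy, hεZ y hy, sub_zero]
  have hβ'0 : AlgebraicCycle.map f δY δ (β - ε) = 0 := by
    rw [Groth.Agent.Lib.Helper18.CL11.map_sub' δY δ f β ε, hεmap, sub_self]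
  obtain ⟨γ, hγZ, hγ1, hγ2⟩ := Groth.Agent.Lib.Helper18.EX4.exists_cycle δ δY f hcd hδ δ2 hδ2 k
    (β - ε) hβ'Z hβ'0
  refine ⟨γ, hγZ, ?_⟩
  unfold Cyc.RatEquiv
  rw [hγ1, hγ2, sub_zero, sub_sub_cancel]
  exact hε0

end Groth.Agent.S6483
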