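import Groth.Statements.S6493
import Mathlib

set_option autoImplicit false
universe u
open CategoryTheory AlgebraicGeometry
open Cyc

namespace Groth.Agent.S6493


/-- The local ring at a point without proper generalizations has a single prime. -/
theorem subsingleton_primeSpectrum_stalk (Z : Scheme.{u}) (ξ : Z) (h : ∀ z : Z, z ⤳ ξ → z = ξ) :
    Subsingleton (PrimeSpectrum (Z.presheaf.stalk ξ)) := by
  constructor
  intro a b
  have hinj : Function.Injective (Z.fromSpecStalk ξ) :=
    (Z.fromSpecStalk ξ).isEmbedding.injective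
  apply hinj
  have ha : (Z.fromSpecStalk ξ) a ∈ Set.range (Z.fromSpecStalk ξ) := ⟨a, rfl⟩
  have hb : (Z.fromSpecStalk ξ) b ∈ Set.range (Z.fromSpecStalk ξ) := ⟨b, rfl⟩
  rw [Scheme.range_fromSpecStalk] at ha hb
  rw [h _ ha, h _ hb]

theorem length_stalk_lt_top (Z : Scheme.{u}) [IsLocallyNoetherian Z] (ξ : Z)
    (h : ∀ z : Z, z ⤳ ξ → z = ξ) :
    Module.length ↑(Z.presheaf.stalk ξ) ↑(Z.presheaf.stalk ξ) < ⊤ := by
  haveI := subsingleton_primeSpectrum_stalk Z ξ h
  haveI : Ring.KrullDimLE 0 (Z.presheaf.stalk ξ) := by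
    rw [Ring.krullDimLE_zero_iff]
    intro I hI
    have : (⟨I, hI⟩ : PrimeSpectrum (Z.presheaf.stalk ξ)) =
        ⟨IsLocalRing.maximalIdeal _, inferInstance⟩ := Subsingleton.elim _ _
    have h2 := congrArg PrimeSpectrum.asIdeal this
    simp only at h2
    rw [h2]
    infer_instance
  haveI : IsArtinianRing (Z.presheaf.stalk ξ) :=
    isArtinianRing_iff_isNoetherianRing_krullDimLE_zero.mpr ⟨inferInstance, inferInstance⟩
  rw [lt_top_iff_ne_top, Module.length_ne_top_iff, isFiniteLength_iff_isNoetherian_isArtinian]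
  exact ⟨inferInstance, inferInstance⟩

/-- Suppose Z ⊂ X is a closed subscheme whose δ-dimension is at most k, and pick a point ξ of Z
satisfying δ(ξ) = k. In that case Z has an irreducible component whose generic point is ξ; and at
every generic point ξ' of an irreducible component of Z (every point of Z maximal under
generalization) the length of O_{Z,ξ'} over O_{X,ξ'} (= its length over itself) is finite. Here a
pair (X, δ) with Cyc.IsSetup plays the role of a scheme locally of finite type over the base (S, δ)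
(X locally Noetherian with universally catenary local rings, δ a dimension function). -/
theorem result (X Z : Scheme.{u}) (δ : X → ℤ) (hX : Cyc.IsSetup X δ) (i : Z ⟶ X) [IsClosedImmersion i] (k : ℤ) (hZ : ∀ z : Z, δ (i z) ≤ k) (ξ : Z) (hξ : δ (i ξ) = k) : (∀ z : Z, z ⤳ ξ → z = ξ) ∧ ∀ ξ' : Z, (∀ z : Z, z ⤳ ξ' → z = ξ') → Module.length ↑(Z.presheaf.stalk ξ') ↑(Z.presheaf.stalk ξ') < ⊤ := by
  obtain ⟨hN, _, hδ⟩ := hX
  haveI : IsLocallyNoetherian X := hN
  haveI : IsLocallyNoetherian Z := LocallyOfFiniteType.isLocallyNoetherian i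
  refine ⟨fun z hz => ?_, fun ξ' h => length_stalk_lt_top Z ξ' h⟩
  by_contra hne
  have hspec : i z ⤳ i ξ := hz.map i.continuous
  have hne' : i z ≠ i ξ := fun h => hne (i.isClosedEmbedding.injective h)
  have := (hδ (i z) (i ξ) hspec hne').1
  have := hZ z
  omega

end Groth.Agent.S6493
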