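import Groth.Statements.S6499
import Mathlib
import Groth.Agent.Lib.Helper29.QCohPush

set_option autoImplicit false
universe u
open CategoryTheory AlgebraicGeometry
open Cyc

namespace Groth.Agent.S6499


open Groth.Agent.Lib.Helper29.QCoh TopologicalSpace Opposite

/-- For a closed map `f`, the stalk of `f_* M` at `y` vanishes as soon as all the stalks of `M`
at the points of the fibre over `y` vanish. -/
theorem stalk_pushforward_subsingleton {X Y : Scheme.{u}} (f : X ⟶ Y) (hf : IsClosedMap f)
    (M : X.Modules) (y : Y) (h : ∀ x : X, f x = y → Subsingleton (M.presheaf.stalk x)) :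
    Subsingleton (((Scheme.Modules.pushforward f).obj M).presheaf.stalk y) := by
  suffices h0 : ∀ a : ((Scheme.Modules.pushforward f).obj M).presheaf.stalk y, a = 0 from
    ⟨fun a b => by rw [h0 a, h0 b]⟩
  intro a
  obtain ⟨V, hyV, s, rfl⟩ := TopCat.Presheaf.exists_germ_eq _ a
  let s' : Γ(M, f ⁻¹ᵁ V) := s
  let W : X.Opens := ⨆ (W' : {W' : X.Opens // ∃ h : W' ≤ f ⁻¹ᵁ V, res M h s' = 0}), W'.1
  have hWle : W ≤ f ⁻¹ᵁ V := iSup_le fun W' => W'.2.1
  have hsW : res M hWle s' = 0 := by
    apply eq_zero_of_germ_eq_zero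
    intro x hx
    obtain ⟨W', hxW'⟩ := Opens.mem_iSup.mp hx
    obtain ⟨hle, h0⟩ := W'.2
    rw [germ_res, ← germ_res M hle x hxW', h0, map_zero]
  have hfib : ∀ x : X, f x = y → x ∈ W := by
    intro x hx
    have hxV : x ∈ f ⁻¹ᵁ V := by
      show f x ∈ V
      rw [hx]; exact hyV
    haveI := h x hx
    have h0 : M.presheaf.germ (f ⁻¹ᵁ V) x hxV s' = M.presheaf.germ (f ⁻¹ᵁ V) x hxV 0 :=
      Subsingleton.elim _ _
    obtain ⟨W', hxW', i1, i2, heq⟩ := TopCat.Presheaf.germ_eq _ x hxV hxV s' 0 h0
    refine Opens.mem_iSup.mpr ⟨⟨W', i1.le, ?_⟩, hxW'⟩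
    have : res M i1.le s' = res M i2.le 0 := heq
    rw [this, map_zero]
  -- use closedness
  let C : Set Y := f '' (W : Set X)ᶜ
  have hC : IsClosed C := hf _ W.isOpen.isClosed_compl
  have hyC : y ∉ C := by
    rintro ⟨x, hxW, hxy⟩
    exact hxW (hfib x hxy)
  let V' : Y.Opens := V ⊓ ⟨Cᶜ, hC.isOpen_compl⟩
  have hyV' : y ∈ V' := ⟨hyV, hyC⟩
  have hV'V : V' ≤ V := inf_le_left
  have hV'W : f ⁻¹ᵁ V' ≤ W := by
    intro x hx
    by_contra hxW
    exact hx.2 ⟨x, hxW, rfl⟩
  rw [← germ_res ((Scheme.Modules.pushforward f).obj M) hV'V y hyV' s, pushforward_res]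
  have : res M (f.preimage_mono hV'V) s' = 0 := by
    rw [← res_res M hWle hV'W, hsW, map_zero]
  show ((Scheme.Modules.pushforward f).obj M).presheaf.germ V' y hyV'
    (show Γ((Scheme.Modules.pushforward f).obj M, V') from res M (f.preimage_mono hV'V) s') = 0
  rw [this]
  exact map_zero _

/-- Suppose X and Y are schemes locally of finite type over the base, and π : X → Y is a morphism
between them that is finite. Then π_* sends Coh_{≤k}(X) into Coh_{≤k}(Y): for F coherent on X with
dim_δ Supp(F) ≤ k, the direct image π_*F is coherent with dim_δ Supp(π_*F) ≤ k (Cyc.CohLe).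
(Exactness of π_* and the commutative diagram with the cycle maps are not restated; the latter is
the existing compatibility of [−]_k with π_*.) Here a pair (X, δ) with Cyc.IsSetup plays the role of
a scheme locally of finite type over the base (S, δ) (X locally Noetherian with universally catenary
local rings, δ a dimension function), and Cyc.DeltaCompat records that the dimension function
upstairs is the induced one. -/
theorem result (X Y : Scheme.{u}) (δX : X → ℤ) (δY : Y → ℤ) (hX : Cyc.IsSetup X δX) (hY : Cyc.IsSetup Y δY) (π : X ⟶ Y) [IsFinite π] (hδ : Cyc.DeltaCompat π δX δY) (k : ℤ) (F : X.Modules) (hF : Cyc.CohLe δX k F) : Cyc.CohLe δY k ((Coh.push π).obj F) := by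
  obtain ⟨⟨hqc, hft⟩, hsupp⟩ := hF
  haveI : F.IsQuasicoherent := hqc
  haveI : F.IsFiniteType := hft
  refine ⟨⟨isQuasicoherent_pushforward_of_isAffineHom π F, isFiniteType_pushforward_of_isFinite π F⟩, ?_⟩
  intro y hy
  by_contra hlt
  push Not at hlt
  have hsub : Subsingleton (((Scheme.Modules.pushforward π).obj F).presheaf.stalk y) := by
    apply stalk_pushforward_subsingleton π (π.isClosedMap) F y
    intro x hx
    by_contra hns
    rw [not_subsingleton_iff_nontrivial] at hns
    have h1 := hsupp x hns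
    obtain ⟨n, _, hn⟩ := hδ x
    rw [hx] at hn
    omega
  exact not_subsingleton _ hsub

end Groth.Agent.S6499
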