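import Groth.Statements.S6500
import Groth.Agent.Lib.Helper25.CurveEtale
import Groth.Agent.Lib.Helper17.ZClosDepth
import Groth.Agent.Lib.Helper14.SchemeDim
import Groth.Agent.Lib.Helper16.PDRegular
import Groth.Agent.S14414

set_option autoImplicit false
universe u
open CategoryTheory CategoryTheory.Limits AlgebraicGeometry
attribute [local instance] HasDerivedCategory.standard
open IntMult

namespace Groth.Agent.S6500

/-- Let X be a nonsingular variety of dimension n and F, G coherent O_X-modules. The Tor sheaves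
Tor_p^{O_X}(F, G), whose stalks are Tor_p^{O_{X,x}}(F_x, G_x), are nonzero only for p ∈ {0, …, n}:
for every point x and every p > n, Tor_p^{O_{X,x}}(F_x, G_x) = 0. (Coherence of the Tor sheaves and
the support statement are not restated.) Nonsingular variety: X → Spec K smooth, separated,
quasi-compact, X integral, K algebraically closed; n = dim X. -/
theorem result (K : Type u) [Field K] [IsAlgClosed K] (X : Scheme.{u}) (f : X ⟶ Spec (CommRingCat.of K)) [Smooth f] [IsSeparated f] [QuasiCompact f] [IsIntegral X] (n : ℕ) (hn : topologicalKrullDim X = n) (F G : X.Modules) (hF : Coh.IsCoh F) (hG : Coh.IsCoh G) (x : X) (p : ℕ) (hp : n < p) : Subsingleton (DRing.Tor ↑(X.presheaf.stalk x) p ↑(F.presheaf.stalk x) ↑(G.presheaf.stalk x)) := by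
  obtain ⟨hQ, hFT⟩ := hG
  haveI : G.IsQuasicoherent := hQ
  haveI : G.IsFiniteType := hFT
  haveI hreg : IsRegularLocalRing (X.presheaf.stalk x) :=
    Groth.Agent.Lib.Helper25.CurveEtale.isRegularLocalRing_stalk_of_smooth f x
  haveI hfin : Module.Finite (X.presheaf.stalk x) (G.presheaf.stalk x) :=
    Groth.Agent.Lib.Helper17.ZClosDepth.module_finite_stalk G x
  have hdim : ringKrullDim (X.presheaf.stalk x) ≤ (n : WithBot ℕ∞) := by
    rw [← hn, Groth.Agent.Lib.Helper14.AS.topologicalKrullDim_eq_iSup_stalk X]
    exact le_iSup (fun y => ringKrullDim (X.presheaf.stalk y)) x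
  obtain ⟨d, hd⟩ := Groth.Agent.Lib.Helper18.SerreReg.exists_ringKrullDim_eq_nat
    (X.presheaf.stalk x)
  have hdn : d ≤ n := by
    rw [hd] at hdim
    exact_mod_cast hdim
  have hpd : HasProjectiveDimensionLT (ModuleCat.of (X.presheaf.stalk x) (G.presheaf.stalk x)) (d + 1) :=
    Groth.Agent.Lib.Helper16.PDR.hasProjectiveDimensionLT_succ_of_le_depth (X.presheaf.stalk x) d hd d
      (G.presheaf.stalk x) le_self_add
  haveI : HasProjectiveDimensionLE (ModuleCat.of (X.presheaf.stalk x) (G.presheaf.stalk x)) d := hpd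
  have hz := Groth.Agent.S14414.result (X.presheaf.stalk x)
    (ModuleCat.of (X.presheaf.stalk x) (F.presheaf.stalk x))
    (ModuleCat.of (X.presheaf.stalk x) (G.presheaf.stalk x)) d p (lt_of_le_of_lt hdn hp)
  exact ModuleCat.subsingleton_of_isZero hz


end Groth.Agent.S6500
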