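import Groth.Statements.S6501
import Mathlib.RingTheory.DividedPowers.Padic
import Mathlib.RingTheory.DividedPowers.RatAlgebra
import Mathlib.RingTheory.Flat.TorsionFree
import Mathlib.Algebra.Module.Torsion.Free
-- import your own Groth.Agent.* helpers here

set_option autoImplicit false
universe u
open DPow

namespace Groth.Agent.S6501

open Finset Nat in
theorem key {A : Type u} [CommRing A] (I : Ideal A) (S : Set A) (hS : Ideal.span S = I)
    (h : ∀ x ∈ S, ∀ n : ℕ, 1 ≤ n → x ^ n ∈ Ideal.span {(Nat.factorial n : A)} * I) :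
    ∀ x ∈ I, ∀ n : ℕ, ∃ y : A, (n ≠ 0 → y ∈ I) ∧ (n ! : A) * y = x ^ n := by
  intro x hx
  rw [← hS] at hx
  induction hx using Submodule.span_induction with
  | mem x hxS =>
    intro n
    rcases Nat.eq_zero_or_pos n with rfl | hn
    · exact ⟨1, fun h => (h rfl).elim, by simp⟩
    · obtain ⟨y, hy, hxy⟩ := Ideal.mem_span_singleton_mul.mp (h x hxS n hn)
      exact ⟨y, fun _ => hy, hxy⟩
  | zero =>
    intro n
    rcases Nat.eq_zero_or_pos n with rfl | hn
    · exact ⟨1, fun h => (h rfl).elim, by simp⟩
    · exact ⟨0, fun _ => I.zero_mem, by rw [mul_zero, zero_pow hn.ne']⟩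
  | add x x' _ _ hx hx' =>
    intro n
    choose y hyI hy using hx
    choose y' hy'I hy' using hx'
    refine ⟨∑ m ∈ antidiagonal n, y m.1 * y' m.2, fun hn => ?_, ?_⟩
    · apply Ideal.sum_mem
      rintro ⟨k, l⟩ hkl
      rw [mem_antidiagonal] at hkl
      dsimp only
      by_cases hk : k = 0
      · have hl : l ≠ 0 := by omega
        exact Ideal.mul_mem_left _ _ (hy'I l hl)
      · exact Ideal.mul_mem_right _ _ (hyI k hk)
    · rw [(Commute.all x x').add_pow', mul_sum]
      apply sum_congr rfl
      rintro ⟨k, l⟩ hkl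
      rw [mem_antidiagonal] at hkl
      dsimp only
      rw [← hy k, ← hy' l, nsmul_eq_mul]
      have hfac : (n ! : A) = (n.choose k : A) * (k ! : A) * (l ! : A) := by
        rw [← hkl]
        dsimp only
        have h1 := Nat.add_choose_mul_factorial_mul_factorial k l
        rw [← Nat.choose_symm_add] at h1
        have h2 := congrArg (Nat.cast : ℕ → A) h1.symm
        push_cast at h2
        exact h2
      rw [hfac]
      ring
  | smul a x _ hx =>
    intro n
    obtain ⟨y, hyI, hy⟩ := hx n
    refine ⟨a ^ n * y, fun hn => Ideal.mul_mem_left _ _ (hyI hn), ?_⟩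
    rw [smul_eq_mul, mul_pow, ← hy]
    ring

/-- Let A be a commutative ring whose additive group is torsion free and I an ideal of A. Then I carries
at most one divided power structure, and it carries one if and only if I is generated by a set S
such that for every x in S and every n ≥ 1 the power x^n lies in the ideal generated by the products
of n! with elements of I. -/
theorem result {A : Type u} [CommRing A] [IsAddTorsionFree A] (I : Ideal A) :
    Subsingleton (DividedPowers I) ∧
    (Nonempty (DividedPowers I) ↔ ∃ S : Set A, Ideal.span S = I ∧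
      ∀ x ∈ S, ∀ n : ℕ, 1 ≤ n → x ^ n ∈ Ideal.span {(Nat.factorial n : A)} * I) := by
  classical
  refine ⟨⟨fun γ γ' => ?_⟩, ⟨?_, ?_⟩⟩
  · apply DividedPowers.ext
    intro n x hx
    have h1 := γ.factorial_mul_dpow_eq_pow hx (n := n)
    have h2 := γ'.factorial_mul_dpow_eq_pow hx (n := n)
    have h3 : (n.factorial) • γ.dpow n x = (n.factorial) • γ'.dpow n x := by
      rw [nsmul_eq_mul, nsmul_eq_mul, h1, h2]
    exact IsAddTorsionFree.nsmul_right_injective (Nat.factorial_ne_zero n) h3
  · rintro ⟨γ⟩
    refine ⟨I, Ideal.span_eq I, fun x hx n hn => ?_⟩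
    rw [← γ.factorial_mul_dpow_eq_pow hx]
    exact Ideal.mul_mem_mul (Ideal.mem_span_singleton_self _) (γ.dpow_mem (by omega) hx)
  · rintro ⟨S, hS, h⟩
    have hk := key I S hS h
    have hflat : Module.Flat ℤ A := inferInstance
    let f : A →+* TensorProduct ℤ ℚ A :=
      (Algebra.TensorProduct.includeRight : A →ₐ[ℤ] TensorProduct ℤ ℚ A).toRingHom
    have hf : Function.Injective f :=
      Algebra.TensorProduct.includeRight_injective (algebraMap ℤ ℚ).injective_int
    let hJ := DividedPowers.RatAlgebra.dividedPowers (I.map f)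
    refine ⟨DividedPowers.ofInjective I (I.map f) f hf hJ rfl ?_⟩
    intro n x hx
    obtain ⟨y, hyI, hy⟩ := hk x hx n
    refine ⟨y, hyI, ?_⟩
    rw [DividedPowers.RatAlgebra.dpow_apply, if_pos (Ideal.mem_map_of_mem f hx), eq_comm,
      Ring.inverse_mul_eq_iff_eq_mul _ _ _ (IsUnit.natCast_factorial_of_algebra ℚ n), ← map_pow,
      ← hy, map_mul, map_natCast]

end Groth.Agent.S6501
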