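import Groth.Statements.S6503
import Mathlib
import Groth.Agent.Lib.Helper16.SpreadDiag

set_option autoImplicit false
universe u
open TensorProduct
open LCI

namespace Groth.Agent.S6503

/-- Suppose A and B are Noetherian local rings and A → B is a local homomorphism making B a flat
A-algebra that is essentially of finite type, and regard B as an algebra over B ⊗_A B via the
multiplication map. If B has finite Tor-dimension over B ⊗_A B (the diagonal is a perfect ring map),
then there are a smooth A-algebra C and a prime ideal q of C such that B is an A-algebra
localization of C at q. -/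
theorem result {A B : Type u} [CommRing A] [CommRing B]
    [Algebra A B] [IsNoetherianRing A] [IsNoetherianRing B] [IsLocalRing A] [IsLocalRing B]
    [IsLocalHom (algebraMap A B)] [Module.Flat A B] [Algebra.EssFiniteType A B]
    [Algebra (B ⊗[A] B) B]
    (hmul : ∀ x y : B, algebraMap (B ⊗[A] B) B (x ⊗ₜ[A] y) = x * y)
    (h : DRing.HasFiniteTorDim (B ⊗[A] B) B) :
    ∃ (C : Type u) (_ : CommRing C) (_ : Algebra A C) (_ : Algebra C B) (_ : IsScalarTower A C B)
      (q : Ideal C) (_ : q.IsPrime), Algebra.Smooth A C ∧ IsLocalization.AtPrime B q := by
  classical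
  obtain ⟨g, hg, hsm⟩ := Groth.Agent.Lib.Helper16.SpreadDiag.exists_smooth_away A
    (Algebra.EssFiniteType.subalgebra A B) B (Algebra.EssFiniteType.submonoid A B) hmul h
  have hu : IsUnit (algebraMap (Algebra.EssFiniteType.subalgebra A B) B g) := by
    by_contra hnu
    exact hg ((IsLocalRing.mem_maximalIdeal _).mpr hnu)
  letI algCB : Algebra (Localization.Away g) B := (IsLocalization.Away.lift g hu).toAlgebra
  have t1 : IsScalarTower (Algebra.EssFiniteType.subalgebra A B) (Localization.Away g) B :=
    IsScalarTower.of_algebraMap_eq (fun x => (IsLocalization.Away.lift_eq g hu x).symm)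
  have t2 : IsScalarTower A (Localization.Away g) B := IsScalarTower.of_algebraMap_eq (fun a => by
    rw [IsScalarTower.algebraMap_apply A (Algebra.EssFiniteType.subalgebra A B)
      (Localization.Away g),
      ← IsScalarTower.algebraMap_apply (Algebra.EssFiniteType.subalgebra A B)
        (Localization.Away g) B,
      ← IsScalarTower.algebraMap_apply A (Algebra.EssFiniteType.subalgebra A B) B])
  have hBq : IsLocalization.AtPrime B ((IsLocalRing.maximalIdeal B).comap
      (algebraMap (Algebra.EssFiniteType.subalgebra A B) B)) :=
    Groth.Agent.Lib.Helper16.SpreadDiag.isLocalization_atPrime_of_isLocalRing _ B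
      (Algebra.EssFiniteType.submonoid A B)
  have hle : Submonoid.powers g ≤ ((IsLocalRing.maximalIdeal B).comap
      (algebraMap (Algebra.EssFiniteType.subalgebra A B) B)).primeCompl := by
    rw [Submonoid.powers_le]
    exact hg
  have hloc : IsLocalization (((IsLocalRing.maximalIdeal B).comap
      (algebraMap (Algebra.EssFiniteType.subalgebra A B) B)).primeCompl.map
        (algebraMap (Algebra.EssFiniteType.subalgebra A B) (Localization.Away g))) B :=
    IsLocalization.isLocalization_of_submonoid_le (Localization.Away g) B (Submonoid.powers g)
      _ hle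
  refine ⟨Localization.Away g, inferInstance, inferInstance, algCB, t2,
    (IsLocalRing.maximalIdeal B).comap (algebraMap (Localization.Away g) B),
    Ideal.comap_isPrime _ _, hsm, ?_⟩
  exact Groth.Agent.Lib.Helper16.SpreadDiag.isLocalization_atPrime_of_isLocalRing
    (Localization.Away g) B (((IsLocalRing.maximalIdeal B).comap
      (algebraMap (Algebra.EssFiniteType.subalgebra A B) B)).primeCompl.map
        (algebraMap (Algebra.EssFiniteType.subalgebra A B) (Localization.Away g)))

end Groth.Agent.S6503
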