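import Groth.Statements.S6519
import Mathlib
import Groth.Agent.Lib.Helper17.SuppRes
import Groth.Agent.Lib.Helper28.DCohRes24
import Groth.Agent.Lib.Helper28.DCohRes12

set_option autoImplicit false
universe u
open CategoryTheory
attribute [local instance] HasDerivedCategory.standard
open DCoh

namespace Groth.Agent.S6519

open AlgebraicGeometry in
/-- Let j : U → X be the inclusion of an open subscheme, and let T ⊆ U be a closed subset whose image
j(T) is also closed in X. Suppose E in D(O_U) is perfect and every cohomology sheaf of E has support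
contained in T. In that case the derived pushforward Rj_*E is perfect as an object of D(O_X). (The
published statement is for ringed spaces; this row is for schemes.) -/
theorem result {X : Scheme.{u}} (U : X.Opens) [DCoh.HasRpush U.ι]
    (E : DCoh.D (U : Scheme.{u})) (hE : DCoh.IsPerfect E) (T : Set (U : Scheme.{u}))
    (hT : IsClosed T) (hjT : IsClosed ((fun x : (U : Scheme.{u}) => U.ι.base x) '' T))
    (hsupp : ∀ i : ℤ, CohB1.support (DCoh.HD E i) ⊆ T) :
    DCoh.IsPerfect ((DCoh.Rpush U.ι).obj E) := by
  open Groth.Agent.Lib.Helper28.DCohRes Groth.Agent.Lib.Helper17.SuppRes ZeroObject in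
  apply isPerfect_of_locally
  intro x
  by_cases hx : x ∈ U
  · refine ⟨U, U.ι, inferInstance, by rw [Scheme.Opens.range_ι]; exact hx, ?_⟩
    obtain ⟨e⟩ := nonempty_restrict_Rpush_iso U E
    exact isPerfect_of_iso e.symm hE
  · let W : X.Opens := complOpen _ hjT
    have hxW : x ∈ W := by
      rintro ⟨y, -, rfl⟩
      exact hx y.2
    refine ⟨W, W.ι, inferInstance, by rw [Scheme.Opens.range_ι]; exact hxW, ?_⟩
    have hz : CategoryTheory.Limits.IsZero ((DCoh.restrictD W.ι).obj ((DCoh.Rpush U.ι).obj E)) :=
      isZero_restrict_Rpush U W E (fun i y hy hs => hy ⟨y, hsupp i hs, rfl⟩)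
    rw [isPerfect_iff]
    intro y
    refine ⟨W, 𝟙 _, inferInstance, ⟨y, rfl⟩, 0, isStrictlyPerfect_zero, ⟨?_⟩⟩
    refine CategoryTheory.Limits.IsZero.iso ((resD (𝟙 (W : Scheme.{u}))).map_isZero hz) ?_
    exact DerivedCategory.Q.map_isZero (CategoryTheory.Limits.isZero_zero _)

end Groth.Agent.S6519
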