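import Groth.Statements.S6524
import Mathlib
import Groth.Agent.Lib.Helper11.BaerFamily

set_option autoImplicit false
universe u
open CategoryTheory
open CohSite

namespace Groth.Agent.S6524

section helpers
open CategoryTheory
open CohSite

open Opposite Limits

variable {C : Type u} [SmallCategory C] (J : GrothendieckTopology C)

/-- `Hom(ℤ_X^#, F) ≃ F(X)`. -/
noncomputable def homEquivSections (X : C) (F : Sheaf J AddCommGrpCat.{u}) :
    (CohCx.freeSheaf J X ⟶ F) ≃ (F.obj ⋙ forget AddCommGrpCat.{u}).obj (op X) :=
  ((sheafificationAdjunction J AddCommGrpCat.{u}).homEquiv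
    (yoneda.obj X ⋙ AddCommGrpCat.free.{u}) F).trans
  (((AddCommGrpCat.adj.{u}.whiskerRight Cᵒᵖ).homEquiv (yoneda.obj X) F.obj).trans
    yonedaEquiv)

lemma homEquivSections_naturality (X : C) {F G : Sheaf J AddCommGrpCat.{u}}
    (φ : CohCx.freeSheaf J X ⟶ F) (g : F ⟶ G) :
    homEquivSections J X G (φ ≫ g) =
      (Functor.whiskerRight g.hom (forget AddCommGrpCat.{u})).app (op X) (homEquivSections J X F φ) := by
  simp only [homEquivSections, Equiv.trans_apply]
  rw [Adjunction.homEquiv_naturality_right, Adjunction.homEquiv_naturality_right]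
  rfl

lemma isSeparating_freeSheaf :
    ObjectProperty.IsSeparating (ObjectProperty.ofObj (fun X : C => CohCx.freeSheaf J X)) := by
  intro F G f g hfg
  apply Sheaf.hom_ext
  ext Y s
  obtain ⟨Y⟩ := Y
  obtain ⟨φ, rfl⟩ := (homEquivSections J Y F).surjective s
  have := hfg _ (ObjectProperty.ofObj_apply _ Y) φ
  have h2 := congrArg (homEquivSections J Y G) this
  rw [homEquivSections_naturality, homEquivSections_naturality] at h2
  exact h2

theorem main {C : Type u} [SmallCategory C]
    (J : GrothendieckTopology C) (I : Sheaf J AddCommGrpCat.{u})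
    (h : ∀ (X : C) (S : Sheaf J AddCommGrpCat.{u}) (i : S ⟶ CohCx.freeSheaf J X) [Mono i] (φ : S ⟶ I),
      ∃ ψ : CohCx.freeSheaf J X ⟶ I, i ≫ ψ = φ) :
    Injective I := by
  by_cases hC : Nonempty C
  · exact Groth.Agent.Lib.Helper11.BaerFamily.injective_of_extension.{u}
      (G := fun X : C => CohCx.freeSheaf J X) (isSeparating_freeSheaf J).isDetecting I
      (fun X S m _ φ => h X S m φ)
  · -- empty site: every sheaf is zero
    have hz : ∀ F : Sheaf J AddCommGrpCat.{u}, IsZero F := by
      intro F
      have : ∀ G : Sheaf J AddCommGrpCat.{u}, Subsingleton (G ⟶ F) := by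
        intro G
        constructor
        intro a b
        apply Sheaf.hom_ext
        ext Y
        exact (hC ⟨Y.unop⟩).elim
      have : 𝟙 F = 0 := Subsingleton.elim _ _
      exact (IsZero.iff_id_eq_zero F).2 this
    constructor
    intro A B f i _
    exact ⟨0, (hz A).eq_of_src _ _⟩

end helpers

/-- Let (C, J) be a small site and I an abelian sheaf. Suppose that for every object X of C, every
abelian subsheaf S of the free abelian sheaf Z_X^# on X (given as a monomorphism S → Z_X^#) and
every morphism S → I, the morphism extends to Z_X^# → I. Then I is an injective abelian sheaf. -/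
theorem result {C : Type u} [SmallCategory C]
    (J : GrothendieckTopology C) (I : Sheaf J AddCommGrpCat.{u})
    (h : ∀ (X : C) (S : Sheaf J AddCommGrpCat.{u}) (i : S ⟶ CohCx.freeSheaf J X) [Mono i] (φ : S ⟶ I),
      ∃ ψ : CohCx.freeSheaf J X ⟶ I, i ≫ ψ = φ) :
    Injective I := by
  exact main J I h

end Groth.Agent.S6524
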