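import Groth.Statements.S6540
import Groth.Agent.Lib.Helper21.CDeg8
-- import your own Groth.Agent.* helpers here

set_option autoImplicit false
universe u
open CategoryTheory CategoryTheory.Limits AlgebraicGeometry
open Curves

namespace Groth.Agent.S6540

/-- Let X be a proper curve over the field k (proper, integral, of dimension one) with H^0(X, O_X) = k
and genus 0. Then every invertible O_X-module of degree 0 is trivial, i.e. isomorphic to O_X. -/
theorem result (k : Type u) [Field k] (X : Scheme.{u}) [X.Over (Spec (CommRingCat.of k))]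
    [IsIntegral X] [IsProper (X ↘ (Spec (CommRingCat.of k)))] (hdim : topologicalKrullDim X = 1)
    (h0 : Module.finrank k (Coh.HH X (Coh.structureModule X) 0) = 1) (hg : Curv2.genus k X = 0)
    (L : X.Modules) (hL : PicF.IsInvertible L) (hdeg : Curv2.deg k X L 1 = 0) :
    Nonempty (L ≅ Coh.structureModule X) := by
  have hg' : Module.finrank k (Coh.HH X (Groth.Agent.Lib.Helper29.QCoh.unitM X) 1) = 0 := hg
  have h0' : Module.finrank k (Coh.HH X (Groth.Agent.Lib.Helper29.QCoh.unitM X) 0) = 1 := h0
  have hrr := Groth.Agent.Lib.Helper21.CDeg.finrank_HH_zero_eq k X hdim.le L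
  rw [hdeg, hg', h0'] at hrr
  have hpos : 0 < Module.finrank k (Coh.HH X L 0) := by
    have : (0 : ℤ) < (Module.finrank k (Coh.HH X L 0) : ℤ) := by
      rw [hrr]
      have := Int.natCast_nonneg (Module.finrank k (Coh.HH X L 1))
      push_cast
      linarith
    exact_mod_cast this
  have hnt : Nontrivial (Coh.HH X L 0) := Module.nontrivial_of_finrank_pos (R := k) hpos
  obtain ⟨s, hs⟩ := Groth.Agent.Lib.Helper21.CDeg.exists_section_ne_zero L hnt
  obtain ⟨h1, h2⟩ := Groth.Agent.Lib.Helper21.CDeg.deg_eq_finrank_of_section k X hdim.le hL s hs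
  rw [hdeg] at h1
  have : IsIso s := h2.mp (by exact_mod_cast h1.symm)
  exact ⟨(asIso s).symm⟩

end Groth.Agent.S6540
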