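import Groth.Statements.S6554
import Groth.Agent.Lib.Helper25.GenEtale
import Groth.Agent.Lib.Helper25.BiratVal

set_option autoImplicit false
universe u
open CategoryTheory CategoryTheory.Limits AlgebraicGeometry
open Curves

namespace Groth.Agent.S6554

/-- (3) ⇔ (4) ⇔ (5): let k be a field and f : X → Y a morphism over k of smooth curves over k (integral,
separated, of finite type and smooth over k, of dimension one) which is nonconstant: f(ξ_X) = ξ_Y
for the generic points ξ_X of X and ξ_Y of Y (hypothesis e), so that the function field k(Y) maps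
into k(X). Then: some nonempty open U ⊆ X has f|_U unramified if and only if some nonempty open U ⊆
X has f|_U étale; and the latter holds if and only if k(X)/k(Y) is a finite separable extension.
(The published statement also lists two further equivalent conditions, that df : f^*Ω_{Y/k} →
Ω_{X/k} is nonzero and that Ω_{X/Y} is supported on a proper closed subset; this row omits them. For
a constant f every condition stated here fails, so assuming f nonconstant loses nothing.) -/
theorem result (k : Type u) [Field k]
    (X Y : Scheme.{u}) [X.Over (Spec (CommRingCat.of k))] [Y.Over (Spec (CommRingCat.of k))]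
    [IsIntegral X] [IsSeparated (X ↘ (Spec (CommRingCat.of k)))] [LocallyOfFiniteType (X ↘ (Spec (CommRingCat.of k)))] [QuasiCompact (X ↘ (Spec (CommRingCat.of k)))] (hdX : topologicalKrullDim X = 1) [Smooth (X ↘ (Spec (CommRingCat.of k)))]
    [IsIntegral Y] [IsSeparated (Y ↘ (Spec (CommRingCat.of k)))] [LocallyOfFiniteType (Y ↘ (Spec (CommRingCat.of k)))] [QuasiCompact (Y ↘ (Spec (CommRingCat.of k)))] (hdY : topologicalKrullDim Y = 1) [Smooth (Y ↘ (Spec (CommRingCat.of k)))]
    (f : X ⟶ Y) (hf : f ≫ (Y ↘ (Spec (CommRingCat.of k))) = X ↘ (Spec (CommRingCat.of k))) (e : f (genericPoint X) = genericPoint Y) :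
    letI := ((Y.presheaf.stalkSpecializes (specializes_of_eq e) ≫ f.stalkMap (genericPoint X)).hom).toAlgebra
    ((∃ U : X.Opens, (U : Set X).Nonempty ∧ FormallyUnramified (U.ι ≫ f)) ↔
      (∃ U : X.Opens, (U : Set X).Nonempty ∧ Etale (U.ι ≫ f))) ∧
    ((∃ U : X.Opens, (U : Set X).Nonempty ∧ Etale (U.ι ≫ f)) ↔
      (FiniteDimensional Y.functionField X.functionField ∧ Algebra.IsSeparable Y.functionField X.functionField)) := by
  letI := ((Y.presheaf.stalkSpecializes (specializes_of_eq e) ≫ f.stalkMap (genericPoint X)).hom).toAlgebra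
  set ξ := genericPoint X with hξ
  set σ := Y.presheaf.stalkSpecializes (specializes_of_eq e) with hσ
  have hσiso : IsIso σ := (ConcreteCategory.isIso_iff_bijective _).mpr
    (Groth.Agent.Lib.Helper25.BiratVal.bijective_stalkSpecializes_of_eq e)
  have hlft : LocallyOfFiniteType f := by
    have : LocallyOfFiniteType (f ≫ (Y ↘ (Spec (CommRingCat.of k)))) := by rw [hf]; infer_instance
    exact locallyOfFiniteType_of_comp f (Y ↘ (Spec (CommRingCat.of k)))
  have hYn : IsLocallyNoetherian Y :=
    LocallyOfFiniteType.isLocallyNoetherian (Y ↘ (Spec (CommRingCat.of k)))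
  have hlfp : LocallyOfFinitePresentation f := inferInstance
  have halg : algebraMap Y.functionField X.functionField = (σ ≫ f.stalkMap ξ).hom := rfl
  -- Claim A
  have hA : ∀ U : X.Opens, (U : Set X).Nonempty → FormallyUnramified (U.ι ≫ f) →
      (FiniteDimensional Y.functionField X.functionField ∧
        Algebra.IsSeparable Y.functionField X.functionField) := by
    intro U hU hfu
    have hξU : ξ ∈ U := by
      have := (genericPoint_spec X).mem_open_set_iff U.2 |>.mpr ?_
      · exact this
      · obtain ⟨y, hy⟩ := hU
        exact ⟨y, trivial, hy⟩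
    have h1 : ((U.ι ≫ f).stalkMap ⟨ξ, hξU⟩).hom.FormallyUnramified :=
      FormallyUnramified.stalkMap (U.ι ≫ f) ⟨ξ, hξU⟩
    have h2 : (f.stalkMap ξ).hom.FormallyUnramified := by
      rw [Scheme.Hom.stalkMap_comp] at h1
      exact (RingHom.FormallyUnramified.respectsIso.cancel_right_isIso _
        (U.ι.stalkMap ⟨ξ, hξU⟩)).mp h1
    have h3 : (σ ≫ f.stalkMap ξ).hom.FormallyUnramified :=
      (RingHom.FormallyUnramified.respectsIso.cancel_left_isIso σ _).mpr h2
    have h4 : Algebra.FormallyUnramified Y.functionField X.functionField := by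
      rw [← RingHom.formallyUnramified_algebraMap, halg]; exact h3
    have h5 : Algebra.EssFiniteType Y.functionField X.functionField := by
      rw [← RingHom.essFiniteType_algebraMap, halg]
      have h1 : σ.hom.EssFiniteType :=
        (RingHom.FiniteType.of_surjective _
          (Groth.Agent.Lib.Helper25.BiratVal.bijective_stalkSpecializes_of_eq e).2).essFiniteType
      have h2 : (f.stalkMap ξ).hom.EssFiniteType := LocallyOfFiniteType.stalkMap f ξ
      exact h1.comp h2
    exact ⟨Algebra.FormallyUnramified.finite_of_free Y.functionField X.functionField,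
      Algebra.FormallyUnramified.isSeparable Y.functionField X.functionField⟩
  -- Claim B
  have hB : Algebra.IsSeparable Y.functionField X.functionField →
      ∃ U : X.Opens, (U : Set X).Nonempty ∧ Etale (U.ι ≫ f) := by
    intro hsep
    have h1 : Algebra.FormallyEtale Y.functionField X.functionField :=
      Algebra.FormallyEtale.of_isSeparable _ _
    have h2 : (σ ≫ f.stalkMap ξ).hom.FormallySmooth := by
      rw [← halg, RingHom.formallySmooth_algebraMap]; infer_instance
    have h3 : (σ ≫ f.stalkMap ξ).hom.FormallyUnramified := by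
      rw [← halg, RingHom.formallyUnramified_algebraMap]; infer_instance
    have h2' : (f.stalkMap ξ).hom.FormallySmooth :=
      (RingHom.FormallySmooth.respectsIso.cancel_left_isIso σ _).mp h2
    have h3' : (f.stalkMap ξ).hom.FormallyUnramified :=
      (RingHom.FormallyUnramified.respectsIso.cancel_left_isIso σ _).mp h3
    obtain ⟨U, hxU, hU⟩ :=
      Groth.Agent.Lib.Helper25.GenEtale.exists_etale_open_of_stalkMap f ξ h2' h3'
    exact ⟨U, ⟨ξ, hxU⟩, hU⟩
  have hC : (∃ U : X.Opens, (U : Set X).Nonempty ∧ Etale (U.ι ≫ f)) →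
      (∃ U : X.Opens, (U : Set X).Nonempty ∧ FormallyUnramified (U.ι ≫ f)) := by
    rintro ⟨U, hU, hE⟩
    exact ⟨U, hU, inferInstance⟩
  refine ⟨⟨?_, hC⟩, ⟨?_, fun h => hB h.2⟩⟩
  · rintro ⟨U, hU, hfu⟩
    exact hB (hA U hU hfu).2
  · intro h
    obtain ⟨U, hU, hfu⟩ := hC h
    exact hA U hU hfu


end Groth.Agent.S6554
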