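import Groth.Statements.S6564
import Mathlib

set_option autoImplicit false
universe u
open CategoryTheory CategoryTheory.Limits AlgebraicGeometry
open Curves

namespace Groth.Agent.S6564

section helpers
open CategoryTheory CategoryTheory.Limits AlgebraicGeometry
open Curves

theorem main (k : Type u) [Field k] (X : Scheme.{u}) [X.Over (Spec (CommRingCat.of k))] [IsProper (X ↘ (Spec (CommRingCat.of k)))] (hdim : topologicalKrullDim X ≤ 1)
    (d r : ℕ) (L : X.Modules) (σ : Fin (r + 1) → LinSer.Sect X L) (hL : LinSer.IsLinSer k X L d r σ)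
    (s : ℕ) (hs : s ≤ r) :
    ∃ (L' : X.Modules) (τ : Fin (s + 1) → LinSer.Sect X L'), LinSer.IsLinSer k X L' d s τ := by
  obtain ⟨h1, h2, h3⟩ := hL
  have hle : s + 1 ≤ r + 1 := Nat.succ_le_succ hs
  refine ⟨L, fun i => σ (Fin.castLE hle i), h1, h2, ?_⟩
  intro c hc
  -- extend c by zero
  let c' : Fin (r + 1) → k := fun j => if h : (j : ℕ) < s + 1 then c ⟨j, h⟩ else 0
  have hc' : c' = 0 := by
    apply h3 c'
    rw [← hc]
    -- sum over Fin (r+1) equals sum over image of castLE
    have himg : ∀ j : Fin (r + 1), j ∉ Finset.univ.map (Fin.castLEEmb hle) →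
        (Coh.toGlobal (X ↘ Spec (CommRingCat.of k)) (c' j)) • σ j = 0 := by
      intro j hj
      have : ¬ ((j : ℕ) < s + 1) := by
        intro hlt
        apply hj
        simp only [Finset.mem_map, Finset.mem_univ, true_and]
        exact ⟨⟨j, hlt⟩, by ext; simp⟩
      simp only [c', this, dif_neg, not_false_eq_true, map_zero, zero_smul]
    rw [← Finset.sum_subset (Finset.subset_univ (Finset.univ.map (Fin.castLEEmb hle)))
      (fun j _ hj => himg j hj), Finset.sum_map]
    refine Finset.sum_congr rfl fun i _ => ?_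
    have hi : ((Fin.castLEEmb hle i : Fin (r+1)) : ℕ) < s + 1 := i.2
    simp only [c', hi, dif_pos]
    rfl
  funext i
  have := congrFun hc' (Fin.castLE hle i)
  have hi : ((Fin.castLE hle i : Fin (r+1)) : ℕ) < s + 1 := i.2
  simp only [c', hi, dif_pos] at this
  exact this

end helpers

/-- Let X be proper over the field k of dimension at most 1. If X has a g^r_d (an invertible module L of
degree d with an ordered family of r + 1 global sections linearly independent over k), then X has a
g^s_d for every 0 ≤ s ≤ r. -/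
theorem result (k : Type u) [Field k] (X : Scheme.{u}) [X.Over (Spec (CommRingCat.of k))] [IsProper (X ↘ (Spec (CommRingCat.of k)))] (hdim : topologicalKrullDim X ≤ 1)
    (d r : ℕ) (L : X.Modules) (σ : Fin (r + 1) → LinSer.Sect X L) (hL : LinSer.IsLinSer k X L d r σ)
    (s : ℕ) (hs : s ≤ r) :
    ∃ (L' : X.Modules) (τ : Fin (s + 1) → LinSer.Sect X L'), LinSer.IsLinSer k X L' d s τ := by
  exact main k X hdim d r L σ hL s hs

end Groth.Agent.S6564
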