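import Groth.Statements.S6575
import Mathlib
import Groth.Agent.Lib.Helper2.CauchyBinet

set_option autoImplicit false
universe u
open Curves

namespace Groth.Agent.S6575
section Aux
open Groth.Agent.Lib.Helper2.CauchyBinet

lemma minor_mem {k A : Type u} [CommRing k] [CommRing A] [Algebra k A] {n m l r : ℕ}
    (D : Fin n → Derivation k A A) (f : Fin m → A) (g : Fin l → A)
    (hgf : Ideal.span (Set.range g) ≤ Ideal.span (Set.range f))
    (ρ : Fin r → Fin l) (γ : Fin r → Fin n) (hγ : Function.Injective γ) :
    ((Matrix.of fun (j : Fin l) (i : Fin n) => D i (g j)).submatrix ρ γ).det ∈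
      Ideal.span {d : A | ∃ (ρ : Fin r → Fin m) (γ : Fin r → Fin n), Function.Injective ρ ∧ Function.Injective γ ∧
          d = ((Matrix.of fun (j : Fin m) (i : Fin n) => D i (f j)).submatrix ρ γ).det} ⊔
        Ideal.span (Set.range f) := by
  classical
  set I := Ideal.span (Set.range f) with hI
  set Mf := Ideal.span {d : A | ∃ (ρ : Fin r → Fin m) (γ : Fin r → Fin n), Function.Injective ρ ∧ Function.Injective γ ∧
          d = ((Matrix.of fun (j : Fin m) (i : Fin n) => D i (f j)).submatrix ρ γ).det} with hMf
  have hex : ∀ s : Fin l, ∃ c : Fin m → A, ∑ j, c j * f j = g s := by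
    intro s
    have : g s ∈ Ideal.span (Set.range f) := hgf (Ideal.subset_span ⟨s, rfl⟩)
    exact Ideal.mem_span_range_iff_exists_fun.mp this
  choose a ha using hex
  let π := Ideal.Quotient.mk I
  have hπf : ∀ j, π (f j) = 0 := fun j => Ideal.Quotient.eq_zero_iff_mem.mpr (Ideal.subset_span ⟨j, rfl⟩)
  have hJ : (Matrix.of fun (j : Fin l) (i : Fin n) => D i (g j)).map π =
      (Matrix.of fun (s : Fin l) (j : Fin m) => a s j).map π *
        (Matrix.of fun (j : Fin m) (i : Fin n) => D i (f j)).map π := by
    ext s i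
    simp only [Matrix.map_apply, Matrix.of_apply, Matrix.mul_apply]
    rw [← ha s, map_sum, map_sum]
    refine Finset.sum_congr rfl fun j _ => ?_
    rw [Derivation.leibniz, map_add, smul_eq_mul, smul_eq_mul, map_mul, map_mul, hπf, zero_mul, add_zero]
  have hdet : π ((Matrix.of fun (j : Fin l) (i : Fin n) => D i (g j)).submatrix ρ γ).det ∈ Ideal.map π Mf := by
    rw [RingHom.map_det, RingHom.mapMatrix_apply, ← Matrix.submatrix_map, hJ]
    have : ((Matrix.of fun (s : Fin l) (j : Fin m) => a s j).map π *
        (Matrix.of fun (j : Fin m) (i : Fin n) => D i (f j)).map π).submatrix ρ γ =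
        ((Matrix.of fun (s : Fin l) (j : Fin m) => a s j).map π).submatrix ρ id *
          ((Matrix.of fun (j : Fin m) (i : Fin n) => D i (f j)).map π).submatrix id γ :=
      Matrix.submatrix_mul _ _ ρ id γ Function.bijective_id
    rw [this, cauchyBinet]
    refine Ideal.sum_mem _ (fun S _ => Ideal.mul_mem_left _ _ ?_)
    have h2 : (((Matrix.of fun (j : Fin m) (i : Fin n) => D i (f j)).map π).submatrix id γ).submatrix
        (S.1.orderEmbOfFin S.2) id =
        ((Matrix.of fun (j : Fin m) (i : Fin n) => D i (f j)).submatrix (S.1.orderEmbOfFin S.2) γ).map π := by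
      ext x y
      rfl
    rw [h2, ← RingHom.mapMatrix_apply, ← RingHom.map_det]
    apply Ideal.mem_map_of_mem
    exact Ideal.subset_span ⟨_, γ, (S.1.orderEmbOfFin S.2).injective, hγ, rfl⟩
  have := Ideal.mem_comap.mpr hdet
  rw [Ideal.comap_map_of_surjective π Ideal.Quotient.mk_surjective] at this
  have hker : Ideal.comap π ⊥ = I := by
    rw [← RingHom.ker_eq_comap_bot, Ideal.mk_ker]
  rwa [hker] at this

end Aux

/-- Let k be a field, A = k[[x_1, …, x_n]] and I ⊆ A an ideal generated by f_1, …, f_m and also by g_1,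
…, g_l. Then for every r ≥ 0 the ideal of A/I generated by the r × r minors of (∂f_j/∂x_i) equals
the one generated by the r × r minors of (∂g_s/∂x_i); stated in A as equality of the ideals
generated by the minors together with I. (The published result also asserts independence of the
regular system of parameters x_1, …, x_n, which is not stated here.) -/
theorem result (k : Type u) [Field k] (n m l r : ℕ)
    (f : Fin m → MvPowerSeries (Fin n) k) (g : Fin l → MvPowerSeries (Fin n) k)
    (hfg : Ideal.span (Set.range f) = Ideal.span (Set.range g)) :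
    Ideal.span {d : MvPowerSeries (Fin n) k | ∃ (ρ : Fin r → Fin m) (γ : Fin r → Fin n), Function.Injective ρ ∧ Function.Injective γ ∧
          d = ((Matrix.of fun (j : Fin m) (i : Fin n) => MvPowerSeries.pderiv k i (f j)).submatrix ρ γ).det} ⊔ Ideal.span (Set.range f) =
      Ideal.span {d : MvPowerSeries (Fin n) k | ∃ (ρ : Fin r → Fin l) (γ : Fin r → Fin n), Function.Injective ρ ∧ Function.Injective γ ∧
          d = ((Matrix.of fun (j : Fin l) (i : Fin n) => MvPowerSeries.pderiv k i (g j)).submatrix ρ γ).det} ⊔ Ideal.span (Set.range g) := by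
  classical
  apply le_antisymm
  · refine sup_le (Ideal.span_le.mpr ?_) (hfg ▸ le_sup_right)
    rintro d ⟨ρ, γ, _, hγ, rfl⟩
    exact minor_mem (fun i => MvPowerSeries.pderiv k i) g f hfg.le ρ γ hγ
  · refine sup_le (Ideal.span_le.mpr ?_) (hfg ▸ le_sup_right)
    rintro d ⟨ρ, γ, _, hγ, rfl⟩
    exact minor_mem (fun i => MvPowerSeries.pderiv k i) f g hfg.ge ρ γ hγ

end Groth.Agent.S6575
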