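import Groth.Statements.S6580
import Mathlib.Tactic.NoncommRing
-- import your own Groth.Agent.* helpers here

set_option autoImplicit false
universe v u
open CategoryTheory CategoryTheory.Limits
open CohDer

namespace Groth.Agent.S6580

open CategoryTheory.Pretriangulated in
/-- Let (X, Y, Z, f, g, h) be a distinguished triangle of a pretriangulated category, and let a : X ⟶ X
and c : Z ⟶ Z be idempotents with h ≫ a⟦1⟧ = c ≫ h. Then there is an idempotent b : Y ⟶ Y such that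
(a, b, c) is an endomorphism of the triangle. -/
theorem result {D : Type u} [Category.{v} D] [Preadditive D] [HasZeroObject D] [HasShift D ℤ]
    [∀ n : ℤ, (shiftFunctor D n).Additive] [Pretriangulated D]
    (T : Triangle D) (hT : T ∈ distinguishedTriangles) (a : T.obj₁ ⟶ T.obj₁) (c : T.obj₃ ⟶ T.obj₃)
    (ha : a ≫ a = a) (hc : c ≫ c = c) (comm : T.mor₃ ≫ (shiftFunctor D (1 : ℤ)).map a = c ≫ T.mor₃) :
    ∃ b : T.obj₂ ⟶ T.obj₂, b ≫ b = b ∧ T.mor₁ ≫ b = a ≫ T.mor₁ ∧ T.mor₂ ≫ c = b ≫ T.mor₂ := by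
  obtain ⟨b', hb1, hb2⟩ := complete_distinguished_triangle_morphism₂ T T hT hT a c comm
  have h1 : T.mor₁ ≫ (b' ≫ b' - b') = 0 := by
    rw [Preadditive.comp_sub, ← Category.assoc, hb1, Category.assoc, hb1, ← Category.assoc, ha,
      sub_self]
  have h2 : (b' ≫ b' - b') ≫ T.mor₂ = 0 := by
    rw [Preadditive.sub_comp, Category.assoc, ← hb2, ← Category.assoc, ← hb2, Category.assoc, hc,
      sub_self]
  obtain ⟨φ, hφ⟩ := Triangle.coyoneda_exact₂ T hT _ h2
  have hδ : (b' ≫ b' - b') ≫ (b' ≫ b' - b') = 0 := by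
    calc (b' ≫ b' - b') ≫ (b' ≫ b' - b') = φ ≫ (T.mor₁ ≫ (b' ≫ b' - b')) := by
          rw [← Category.assoc, ← hφ]
      _ = 0 := by rw [h1, comp_zero]
  -- the ring computation in End
  let x : End T.obj₂ := b'
  have hx : (x * x - x) * (x * x - x) = 0 := hδ
  have hid : (x * x + x * x + x * x - (x * x * x + x * x * x)) *
      (x * x + x * x + x * x - (x * x * x + x * x * x)) =
      (x * x + x * x + x * x - (x * x * x + x * x * x)) := by
    have : (x * x + x * x + x * x - (x * x * x + x * x * x)) *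
      (x * x + x * x + x * x - (x * x * x + x * x * x)) -
      (x * x + x * x + x * x - (x * x * x + x * x * x)) =
      (x * x - x) * (x * x - x) * (4 • (x * x) - 4 • x - 3 • 1) := by noncomm_ring
    rw [hx, zero_mul, sub_eq_zero] at this
    exact this
  have hm1 : T.mor₁ ≫ (b' ≫ b') = a ≫ T.mor₁ := by
    rw [← Category.assoc, hb1, Category.assoc, hb1, ← Category.assoc, ha]
  have hm1' : T.mor₁ ≫ (b' ≫ b' ≫ b') = a ≫ T.mor₁ := by
    rw [← Category.assoc, hb1, Category.assoc, hm1, ← Category.assoc, ha]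
  have hm2 : (b' ≫ b') ≫ T.mor₂ = T.mor₂ ≫ c := by
    rw [Category.assoc, ← hb2, ← Category.assoc, ← hb2, Category.assoc, hc]
  have hm2' : (b' ≫ b' ≫ b') ≫ T.mor₂ = T.mor₂ ≫ c := by
    calc (b' ≫ b' ≫ b') ≫ T.mor₂ = b' ≫ ((b' ≫ b') ≫ T.mor₂) := by simp only [Category.assoc]
      _ = b' ≫ T.mor₂ ≫ c := by rw [hm2]
      _ = (b' ≫ T.mor₂) ≫ c := by rw [Category.assoc]
      _ = (T.mor₂ ≫ c) ≫ c := by rw [← hb2]
      _ = T.mor₂ ≫ c := by rw [Category.assoc, hc]
  refine ⟨b' ≫ b' + b' ≫ b' + b' ≫ b' - (b' ≫ b' ≫ b' + b' ≫ b' ≫ b'), ?_, ?_, ?_⟩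
  · have e1 : (x * x + x * x + x * x - (x * x * x + x * x * x) : End T.obj₂) =
        b' ≫ b' + b' ≫ b' + b' ≫ b' - (b' ≫ b' ≫ b' + b' ≫ b' ≫ b') := by
      simp only [End.mul_def, x]
    rw [← e1]
    exact hid
  · simp only [Preadditive.comp_sub, Preadditive.comp_add, hm1, hm1']
    abel
  · simp only [Preadditive.sub_comp, Preadditive.add_comp, hm2, hm2']
    abel

end Groth.Agent.S6580
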