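import Groth.Statements.S6581
-- import your own Groth.Agent.* helpers here

set_option autoImplicit false
universe v u
open CategoryTheory CategoryTheory.Limits
open CohDer

namespace Groth.Agent.S6581

section aux
open CategoryTheory.Pretriangulated

variable {D : Type u} [Category.{v} D] [Preadditive D] [HasZeroObject D] [HasShift D ℤ]
    [∀ n : ℤ, (shiftFunctor D n).Additive] [Pretriangulated D]

/-- The third morphism of the direct sum triangle. -/
noncomputable def m₃ (T T' : Triangle D) :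
    T.obj₃ ⊞ T'.obj₃ ⟶ (shiftFunctor D (1 : ℤ)).obj (T.obj₁ ⊞ T'.obj₁) :=
  biprod.desc (T.mor₃ ≫ (shiftFunctor D (1 : ℤ)).map biprod.inl)
      (T'.mor₃ ≫ (shiftFunctor D (1 : ℤ)).map biprod.inr)

/-- The direct sum triangle. -/
noncomputable def sumTri (T T' : Triangle D) : Triangle D :=
  Triangle.mk (biprod.map T.mor₁ T'.mor₁) (biprod.map T.mor₂ T'.mor₂) (m₃ T T')

lemma m₃_fst (T T' : Triangle D) :
    m₃ T T' ≫ (shiftFunctor D (1 : ℤ)).map biprod.fst = biprod.fst ≫ T.mor₃ := by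
  apply biprod.hom_ext'
  · rw [m₃, biprod.inl_desc_assoc, Category.assoc, ← Functor.map_comp, biprod.inl_fst,
      CategoryTheory.Functor.map_id, Category.comp_id, biprod.inl_fst_assoc]
  · rw [m₃, biprod.inr_desc_assoc, Category.assoc, ← Functor.map_comp, biprod.inr_fst,
      Functor.map_zero, comp_zero, biprod.inr_fst_assoc, zero_comp]

lemma m₃_snd (T T' : Triangle D) :
    m₃ T T' ≫ (shiftFunctor D (1 : ℤ)).map biprod.snd = biprod.snd ≫ T'.mor₃ := by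
  apply biprod.hom_ext'
  · rw [m₃, biprod.inl_desc_assoc, Category.assoc, ← Functor.map_comp, biprod.inl_snd,
      Functor.map_zero, comp_zero, biprod.inl_snd_assoc, zero_comp]
  · rw [m₃, biprod.inr_desc_assoc, Category.assoc, ← Functor.map_comp, biprod.inr_snd,
      CategoryTheory.Functor.map_id, Category.comp_id, biprod.inr_snd_assoc]

lemma shift_total (X X' : D) :
    (shiftFunctor D (1 : ℤ)).map (biprod.fst : X ⊞ X' ⟶ X) ≫ (shiftFunctor D (1 : ℤ)).map biprod.inl +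
      (shiftFunctor D (1 : ℤ)).map (biprod.snd : X ⊞ X' ⟶ X') ≫ (shiftFunctor D (1 : ℤ)).map biprod.inr =
      𝟙 _ := by
  rw [← Functor.map_comp, ← Functor.map_comp, ← Functor.map_add, biprod.total,
    CategoryTheory.Functor.map_id]

lemma lift_m₃ (T T' : Triangle D) {Q : D}
    (h₂ : Q ⟶ (shiftFunctor D (1 : ℤ)).obj (T.obj₁ ⊞ T'.obj₁))
    (c₁ : Q ⟶ T.obj₃) (c₂ : Q ⟶ T'.obj₃)
    (e₃ : h₂ ≫ (shiftFunctor D (1 : ℤ)).map biprod.fst = c₁ ≫ T.mor₃)
    (e₄ : h₂ ≫ (shiftFunctor D (1 : ℤ)).map biprod.snd = c₂ ≫ T'.mor₃) :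
    biprod.lift c₁ c₂ ≫ m₃ T T' = h₂ := by
  rw [m₃, biprod.lift_desc, ← Category.assoc, ← e₃, ← Category.assoc, ← e₄, Category.assoc,
    Category.assoc, ← Preadditive.comp_add, shift_total, Category.comp_id]

lemma m₃_zero (T T' : Triangle D) (hT : T ∈ distinguishedTriangles)
    (hT' : T' ∈ distinguishedTriangles) :
    m₃ T T' ≫ (shiftFunctor D (1 : ℤ)).map (biprod.map T.mor₁ T'.mor₁) = 0 := by
  have z₁ := comp_distTriang_mor_zero₃₁ _ hT
  have z₂ := comp_distTriang_mor_zero₃₁ _ hT'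
  apply biprod.hom_ext'
  · rw [m₃, biprod.inl_desc_assoc, Category.assoc, ← Functor.map_comp, biprod.inl_map,
      Functor.map_comp, ← Category.assoc, z₁, zero_comp, comp_zero]
  · rw [m₃, biprod.inr_desc_assoc, Category.assoc, ← Functor.map_comp, biprod.inr_map,
      Functor.map_comp, ← Category.assoc, z₂, zero_comp, comp_zero]

/-- Key lemma. -/
lemma isIso_lift (T T' : Triangle D) (hT : T ∈ distinguishedTriangles)
    (hT' : T' ∈ distinguishedTriangles) {Q : D} (g₂ : T.obj₂ ⊞ T'.obj₂ ⟶ Q)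
    (h₂ : Q ⟶ (shiftFunctor D (1 : ℤ)).obj (T.obj₁ ⊞ T'.obj₁))
    (hD : Triangle.mk (biprod.map T.mor₁ T'.mor₁) g₂ h₂ ∈ distinguishedTriangles)
    (c₁ : Q ⟶ T.obj₃) (c₂ : Q ⟶ T'.obj₃)
    (e₁ : g₂ ≫ c₁ = biprod.fst ≫ T.mor₂) (e₂ : g₂ ≫ c₂ = biprod.snd ≫ T'.mor₂)
    (e₃ : h₂ ≫ (shiftFunctor D (1 : ℤ)).map biprod.fst = c₁ ≫ T.mor₃)
    (e₄ : h₂ ≫ (shiftFunctor D (1 : ℤ)).map biprod.snd = c₂ ≫ T'.mor₃) :
    IsIso (biprod.lift c₁ c₂) := by
  have ha : g₂ ≫ biprod.lift c₁ c₂ = biprod.map T.mor₂ T'.mor₂ := by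
    apply biprod.hom_ext
    · rw [Category.assoc, biprod.lift_fst, e₁, biprod.map_fst]
    · rw [Category.assoc, biprod.lift_snd, e₂, biprod.map_snd]
  have hb : biprod.lift c₁ c₂ ≫ m₃ T T' = h₂ := lift_m₃ T T' h₂ c₁ c₂ e₃ e₄
  have z₁₂ : biprod.map T.mor₁ T'.mor₁ ≫ g₂ = 0 := comp_distTriang_mor_zero₁₂ _ hD
  refine isIso_of_yoneda_map_bijective _ (fun A => ⟨?_, ?_⟩)
  · suffices Mono (biprod.lift c₁ c₂) by
      intro a₁ a₂ ha'
      simpa only [← cancel_mono (biprod.lift c₁ c₂)] using ha'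
    rw [Preadditive.mono_iff_cancel_zero]
    intro A k hk
    have hk' : k ≫ h₂ = 0 := by rw [← hb, ← Category.assoc, hk, zero_comp]
    obtain ⟨m, hm⟩ : ∃ m : A ⟶ T.obj₂ ⊞ T'.obj₂, k = m ≫ g₂ :=
      Triangle.coyoneda_exact₃ _ hD k hk'
    have hm' : m ≫ biprod.map T.mor₂ T'.mor₂ = 0 := by
      rw [← ha, ← Category.assoc, ← hm, hk]
    obtain ⟨α, hα⟩ : ∃ α : A ⟶ T.obj₁, m ≫ biprod.fst = α ≫ T.mor₁ :=
      Triangle.coyoneda_exact₂ _ hT (m ≫ biprod.fst) (by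
        rw [Category.assoc, ← biprod.map_fst T.mor₂ T'.mor₂, ← Category.assoc, hm', zero_comp])
    obtain ⟨α', hα'⟩ : ∃ α' : A ⟶ T'.obj₁, m ≫ biprod.snd = α' ≫ T'.mor₁ :=
      Triangle.coyoneda_exact₂ _ hT' (m ≫ biprod.snd) (by
        rw [Category.assoc, ← biprod.map_snd T.mor₂ T'.mor₂, ← Category.assoc, hm', zero_comp])
    have hm'' : m = biprod.lift α α' ≫ biprod.map T.mor₁ T'.mor₁ := by
      apply biprod.hom_ext
      · rw [hα, Category.assoc, biprod.map_fst, biprod.lift_fst_assoc]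
      · rw [hα', Category.assoc, biprod.map_snd, biprod.lift_snd_assoc]
    rw [hm, hm'', Category.assoc, z₁₂, comp_zero]
  · intro a
    have zero := m₃_zero T T' hT hT'
    obtain ⟨a', ha'⟩ : ∃ a' : A ⟶ Q, a ≫ m₃ T T' = a' ≫ h₂ :=
      Triangle.coyoneda_exact₁ _ hD (a ≫ m₃ T T') (by
        show (a ≫ m₃ T T') ≫ (shiftFunctor D (1 : ℤ)).map (biprod.map T.mor₁ T'.mor₁) = 0
        rw [Category.assoc, zero, comp_zero])
    have hz : (a - a' ≫ biprod.lift c₁ c₂) ≫ m₃ T T' = 0 := by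
      rw [Preadditive.sub_comp, Category.assoc, hb, ha', sub_self]
    obtain ⟨b, hb₁⟩ : ∃ b : A ⟶ T.obj₂, (a - a' ≫ biprod.lift c₁ c₂) ≫ biprod.fst = b ≫ T.mor₂ :=
      Triangle.coyoneda_exact₃ _ hT _ (by
        rw [Category.assoc, ← m₃_fst, ← Category.assoc, hz, zero_comp])
    obtain ⟨b', hb₂⟩ : ∃ b' : A ⟶ T'.obj₂, (a - a' ≫ biprod.lift c₁ c₂) ≫ biprod.snd = b' ≫ T'.mor₂ :=
      Triangle.coyoneda_exact₃ _ hT' _ (by
        rw [Category.assoc, ← m₃_snd, ← Category.assoc, hz, zero_comp])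
    have hb' : a - a' ≫ biprod.lift c₁ c₂ = biprod.lift b b' ≫ biprod.map T.mor₂ T'.mor₂ := by
      apply biprod.hom_ext
      · rw [hb₁, Category.assoc, biprod.map_fst, biprod.lift_fst_assoc]
      · rw [hb₂, Category.assoc, biprod.map_snd, biprod.lift_snd_assoc]
    refine ⟨a' + biprod.lift b b' ≫ g₂, ?_⟩
    show (a' + biprod.lift b b' ≫ g₂) ≫ biprod.lift c₁ c₂ = a
    rw [Preadditive.add_comp, Category.assoc, ha, ← hb', add_sub_cancel]

lemma sumTri_distinguished (T T' : Triangle D) (hT : T ∈ distinguishedTriangles)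
    (hT' : T' ∈ distinguishedTriangles) : sumTri T T' ∈ distinguishedTriangles := by
  obtain ⟨Q, g₂, h₂, hD⟩ := distinguished_cocone_triangle (biprod.map T.mor₁ T'.mor₁)
  obtain ⟨c₁, e₁, e₃⟩ : ∃ c₁ : Q ⟶ T.obj₃, g₂ ≫ c₁ = biprod.fst ≫ T.mor₂ ∧
      h₂ ≫ (shiftFunctor D (1 : ℤ)).map biprod.fst = c₁ ≫ T.mor₃ :=
    complete_distinguished_triangle_morphism _ _ hD hT biprod.fst biprod.fst
      (biprod.map_fst _ _)
  obtain ⟨c₂, e₂, e₄⟩ : ∃ c₂ : Q ⟶ T'.obj₃, g₂ ≫ c₂ = biprod.snd ≫ T'.mor₂ ∧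
      h₂ ≫ (shiftFunctor D (1 : ℤ)).map biprod.snd = c₂ ≫ T'.mor₃ :=
    complete_distinguished_triangle_morphism _ _ hD hT' biprod.snd biprod.snd
      (biprod.map_snd _ _)
  have hiso := isIso_lift T T' hT hT' g₂ h₂ hD c₁ c₂ e₁ e₂ e₃ e₄
  obtain ⟨i, hi⟩ : ∃ i : Q ≅ T.obj₃ ⊞ T'.obj₃, i.hom = biprod.lift c₁ c₂ :=
    ⟨@asIso _ _ _ _ (biprod.lift c₁ c₂) hiso, rfl⟩
  refine isomorphic_distinguished _ hD _
    (Triangle.isoMk (Triangle.mk (biprod.map T.mor₁ T'.mor₁) g₂ h₂) (sumTri T T')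
      (Iso.refl (T.obj₁ ⊞ T'.obj₁)) (Iso.refl (T.obj₂ ⊞ T'.obj₂)) i ?_ ?_ ?_).symm
  · exact (Category.comp_id _).trans (Category.id_comp _).symm
  · show g₂ ≫ i.hom = 𝟙 _ ≫ biprod.map T.mor₂ T'.mor₂
    rw [Category.id_comp, hi]
    apply biprod.hom_ext
    · rw [Category.assoc, biprod.lift_fst, e₁, biprod.map_fst]
    · rw [Category.assoc, biprod.lift_snd, e₂, biprod.map_snd]
  · show h₂ ≫ (shiftFunctor D (1 : ℤ)).map (𝟙 _) = i.hom ≫ m₃ T T'
    rw [hi, CategoryTheory.Functor.map_id, Category.comp_id, lift_m₃ T T' h₂ c₁ c₂ e₃ e₄]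

/-- The summands of a distinguished direct sum triangle are distinguished. -/
lemma summands_distinguished (T T' : Triangle D) (h : sumTri T T' ∈ distinguishedTriangles) :
    T ∈ distinguishedTriangles ∧ T' ∈ distinguishedTriangles := by
  obtain ⟨Q, g₁, h₁, hD⟩ := distinguished_cocone_triangle T.mor₁
  obtain ⟨Q', g₁', h₁', hD'⟩ := distinguished_cocone_triangle T'.mor₁
  obtain ⟨d, d₁, d₂⟩ : ∃ d : Q ⟶ T.obj₃ ⊞ T'.obj₃, g₁ ≫ d = biprod.inl ≫ biprod.map T.mor₂ T'.mor₂ ∧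
      h₁ ≫ (shiftFunctor D (1 : ℤ)).map biprod.inl = d ≫ m₃ T T' :=
    complete_distinguished_triangle_morphism _ _ hD h biprod.inl biprod.inl
      (biprod.inl_map _ _).symm
  obtain ⟨d', d₁', d₂'⟩ : ∃ d' : Q' ⟶ T.obj₃ ⊞ T'.obj₃,
      g₁' ≫ d' = biprod.inr ≫ biprod.map T.mor₂ T'.mor₂ ∧
      h₁' ≫ (shiftFunctor D (1 : ℤ)).map biprod.inr = d' ≫ m₃ T T' :=
    complete_distinguished_triangle_morphism _ _ hD' h biprod.inr biprod.inr
      (biprod.inr_map _ _).symm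
  have c₁ : g₁ ≫ (d ≫ biprod.fst) = T.mor₂ := by
    rw [← Category.assoc, d₁, Category.assoc, biprod.map_fst, biprod.inl_fst_assoc]
  have c₂ : (d ≫ biprod.fst) ≫ T.mor₃ = h₁ := by
    rw [Category.assoc, ← m₃_fst, ← Category.assoc, ← d₂, Category.assoc,
      ← Functor.map_comp, biprod.inl_fst, CategoryTheory.Functor.map_id, Category.comp_id]
  have c₁' : g₁' ≫ (d' ≫ biprod.snd) = T'.mor₂ := by
    rw [← Category.assoc, d₁', Category.assoc, biprod.map_snd, biprod.inr_snd_assoc]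
  have c₂' : (d' ≫ biprod.snd) ≫ T'.mor₃ = h₁' := by
    rw [Category.assoc, ← m₃_snd, ← Category.assoc, ← d₂', Category.assoc,
      ← Functor.map_comp, biprod.inr_snd, CategoryTheory.Functor.map_id, Category.comp_id]
  have hS := sumTri_distinguished _ _ hD hD'
  have hiso : IsIso (biprod.map (d ≫ biprod.fst) (d' ≫ biprod.snd)) := by
    let φ : sumTri (Triangle.mk T.mor₁ g₁ h₁) (Triangle.mk T'.mor₁ g₁' h₁') ⟶ sumTri T T' :=
      { hom₁ := 𝟙 _
        hom₂ := 𝟙 _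
        hom₃ := biprod.map (d ≫ biprod.fst) (d' ≫ biprod.snd)
        comm₁ := (Category.comp_id _).trans (Category.id_comp _).symm
        comm₂ := by
          show biprod.map g₁ g₁' ≫ biprod.map (d ≫ biprod.fst) (d' ≫ biprod.snd) =
            𝟙 _ ≫ biprod.map T.mor₂ T'.mor₂
          rw [Category.id_comp]
          apply biprod.hom_ext
          · rw [Category.assoc, biprod.map_fst, biprod.map_fst_assoc, c₁, biprod.map_fst]
          · rw [Category.assoc, biprod.map_snd, biprod.map_snd_assoc, c₁', biprod.map_snd]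
        comm₃ := by
          show biprod.desc (h₁ ≫ (shiftFunctor D (1 : ℤ)).map biprod.inl)
              (h₁' ≫ (shiftFunctor D (1 : ℤ)).map biprod.inr) ≫ (shiftFunctor D (1 : ℤ)).map (𝟙 _) =
            biprod.map (d ≫ biprod.fst) (d' ≫ biprod.snd) ≫
              biprod.desc (T.mor₃ ≫ (shiftFunctor D (1 : ℤ)).map biprod.inl)
                (T'.mor₃ ≫ (shiftFunctor D (1 : ℤ)).map biprod.inr)
          rw [CategoryTheory.Functor.map_id, Category.comp_id]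
          apply biprod.hom_ext'
          · rw [biprod.inl_desc, biprod.inl_map_assoc, biprod.inl_desc, ← Category.assoc, c₂]
          · rw [biprod.inr_desc, biprod.inr_map_assoc, biprod.inr_desc, ← Category.assoc, c₂'] }
    have i₁ : IsIso φ.hom₁ := IsIso.id _
    have i₂ : IsIso φ.hom₂ := IsIso.id _
    exact isIso₃_of_isIso₁₂ φ hS h i₁ i₂
  have hc : IsIso (d ≫ biprod.fst) := isIso_left_of_isIso_biprod_map _ (d' ≫ biprod.snd)
  have hc' : IsIso (d' ≫ biprod.snd) := isIso_right_of_isIso_biprod_map (d ≫ biprod.fst) _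
  obtain ⟨i, hi⟩ : ∃ i : Q ≅ T.obj₃, i.hom = d ≫ biprod.fst :=
    ⟨@asIso _ _ _ _ (d ≫ biprod.fst) hc, rfl⟩
  obtain ⟨i', hi'⟩ : ∃ i : Q' ≅ T'.obj₃, i.hom = d' ≫ biprod.snd :=
    ⟨@asIso _ _ _ _ (d' ≫ biprod.snd) hc', rfl⟩
  constructor
  · refine isomorphic_distinguished _ hD _
      (Triangle.isoMk (Triangle.mk T.mor₁ g₁ h₁) T (Iso.refl T.obj₁) (Iso.refl T.obj₂) i ?_ ?_ ?_).symm
    · exact (Category.comp_id _).trans (Category.id_comp _).symm
    · show g₁ ≫ i.hom = 𝟙 _ ≫ T.mor₂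
      rw [hi, Category.id_comp, c₁]
    · show h₁ ≫ (shiftFunctor D (1 : ℤ)).map (𝟙 _) = i.hom ≫ T.mor₃
      rw [hi, CategoryTheory.Functor.map_id, Category.comp_id, c₂]
  · refine isomorphic_distinguished _ hD' _
      (Triangle.isoMk (Triangle.mk T'.mor₁ g₁' h₁') T' (Iso.refl T'.obj₁) (Iso.refl T'.obj₂) i' ?_ ?_ ?_).symm
    · exact (Category.comp_id _).trans (Category.id_comp _).symm
    · show g₁' ≫ i'.hom = 𝟙 _ ≫ T'.mor₂
      rw [hi', Category.id_comp, c₁']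
    · show h₁' ≫ (shiftFunctor D (1 : ℤ)).map (𝟙 _) = i'.hom ≫ T'.mor₃
      rw [hi', CategoryTheory.Functor.map_id, Category.comp_id, c₂']

end aux

open CategoryTheory.Pretriangulated in
/-- Let T = (X, Y, Z, f, g, h) and T' = (X', Y', Z', f', g', h') be triangles in a pretriangulated
category. The direct sum triangle (X ⊞ X', Y ⊞ Y', Z ⊞ Z', f ⊕ f', g ⊕ g', h ⊕ h') (whose third map
Z ⊞ Z' ⟶ (X ⊞ X')⟦1⟧ has components h ≫ inl⟦1⟧ and h' ≫ inr⟦1⟧) is distinguished if and only if T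
and T' are both distinguished. -/
theorem result {D : Type u} [Category.{v} D] [Preadditive D] [HasZeroObject D] [HasShift D ℤ]
    [∀ n : ℤ, (shiftFunctor D n).Additive] [Pretriangulated D]
    (T T' : Triangle D) :
    Triangle.mk (biprod.map T.mor₁ T'.mor₁) (biprod.map T.mor₂ T'.mor₂)
        (biprod.desc (T.mor₃ ≫ (shiftFunctor D (1 : ℤ)).map biprod.inl) (T'.mor₃ ≫ (shiftFunctor D (1 : ℤ)).map biprod.inr)) ∈ distinguishedTriangles ↔
      (T ∈ distinguishedTriangles ∧ T' ∈ distinguishedTriangles) := by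
  show sumTri T T' ∈ distinguishedTriangles ↔ _
  constructor
  · intro h
    exact summands_distinguished T T' h
  · rintro ⟨h, h'⟩
    exact sumTri_distinguished T T' h h'

end Groth.Agent.S6581
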