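import Groth.Statements.S6583
-- import your own Groth.Agent.* helpers here

set_option autoImplicit false
universe v u v' u'
open CategoryTheory CategoryTheory.Limits
open CohDer

namespace Groth.Agent.S6583

section helpers
open CategoryTheory.Pretriangulated

variable {D : Type u} [Category.{v} D] [Preadditive D] [HasZeroObject D] [HasShift D ℤ]
    [∀ n : ℤ, (shiftFunctor D n).Additive] [Pretriangulated D]
    {A : Type u'} [Category.{v'} A] [Abelian A] (H : D ⥤ A) [H.IsHomological]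

theorem L1 (Z : D) (hZ : IsZero Z) (n : ℤ) : IsZero (H.obj ((shiftFunctor D n).obj Z)) :=
  (shiftFunctor D n ⋙ H).map_isZero hZ

theorem L2 (X : D) (a n : ℤ) (h : IsZero (H.obj ((shiftFunctor D (a + n)).obj X))) :
    IsZero (H.obj ((shiftFunctor D n).obj ((shiftFunctor D a).obj X))) :=
  h.of_iso (H.mapIso ((shiftFunctorAdd D a n).app X).symm)

theorem L3 (T : Triangle D) (hT : T ∈ distinguishedTriangles) (n : ℤ)
    (h₁ : IsZero (H.obj ((shiftFunctor D n).obj T.obj₁)))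
    (h₃ : IsZero (H.obj ((shiftFunctor D n).obj T.obj₃))) :
    IsZero (H.obj ((shiftFunctor D n).obj T.obj₂)) :=
  (H.map_distinguished_exact _ (Triangle.shift_distinguished T hT n)).isZero_of_both_zeros
    (h₁.eq_of_src _ _) (h₃.eq_of_tgt _ _)

theorem L4 {X Y : D} (e : X ≅ Y) (n : ℤ) (h : IsZero (H.obj ((shiftFunctor D n).obj X))) :
    IsZero (H.obj ((shiftFunctor D n).obj Y)) :=
  h.of_iso ((shiftFunctor D n ⋙ H).mapIso e.symm)

theorem L5 (X Y : D) (n : ℤ) (h : IsZero (H.obj ((shiftFunctor D n).obj (X ⊞ Y)))) :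
    IsZero (H.obj ((shiftFunctor D n).obj X)) ∧ IsZero (H.obj ((shiftFunctor D n).obj Y)) := by
  constructor
  · rw [IsZero.iff_id_eq_zero]
    have : 𝟙 ((shiftFunctor D n ⋙ H).obj X) =
        (shiftFunctor D n ⋙ H).map (biprod.inl : X ⟶ X ⊞ Y) ≫
          (shiftFunctor D n ⋙ H).map biprod.fst := by
      rw [← CategoryTheory.Functor.map_comp, biprod.inl_fst, CategoryTheory.Functor.map_id]
    change 𝟙 ((shiftFunctor D n ⋙ H).obj X) = 0
    rw [this, h.eq_of_tgt ((shiftFunctor D n ⋙ H).map biprod.inl) 0, zero_comp]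
  · rw [IsZero.iff_id_eq_zero]
    have : 𝟙 ((shiftFunctor D n ⋙ H).obj Y) =
        (shiftFunctor D n ⋙ H).map (biprod.inr : Y ⟶ X ⊞ Y) ≫
          (shiftFunctor D n ⋙ H).map biprod.snd := by
      rw [← CategoryTheory.Functor.map_comp, biprod.inr_snd, CategoryTheory.Functor.map_id]
    change 𝟙 ((shiftFunctor D n ⋙ H).obj Y) = 0
    rw [this, h.eq_of_tgt ((shiftFunctor D n ⋙ H).map biprod.inr) 0, zero_comp]

end helpers

open CategoryTheory.Pretriangulated in
/-- Let H : D ⥤ A be a homological functor from a pretriangulated category to an abelian category. The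
full subcategory of D on the objects X with H(X⟦n⟧) = 0 for all n ≪ 0 is a strictly full
pretriangulated subcategory (zero object, stable under shifts and isomorphisms, closed under
extensions) and is saturated: if X ⊞ Y belongs to it then so do X and Y. -/
theorem result {D : Type u} [Category.{v} D] [Preadditive D] [HasZeroObject D] [HasShift D ℤ]
    [∀ n : ℤ, (shiftFunctor D n).Additive] [Pretriangulated D]
    {A : Type u'} [Category.{v'} A] [Abelian A] (H : D ⥤ A) [H.IsHomological] :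
    (ObjectProperty.IsTriangulated (fun X : D => ∃ N : ℤ, ∀ n : ℤ, n ≤ N → IsZero (H.obj ((shiftFunctor D n).obj X)))) ∧
    (ObjectProperty.IsClosedUnderIsomorphisms (fun X : D => ∃ N : ℤ, ∀ n : ℤ, n ≤ N → IsZero (H.obj ((shiftFunctor D n).obj X)))) ∧
    (∀ X Y : D, (∃ N : ℤ, ∀ n : ℤ, n ≤ N → IsZero (H.obj ((shiftFunctor D n).obj (X ⊞ Y)))) →
      (∃ N : ℤ, ∀ n : ℤ, n ≤ N → IsZero (H.obj ((shiftFunctor D n).obj X))) ∧
      (∃ N : ℤ, ∀ n : ℤ, n ≤ N → IsZero (H.obj ((shiftFunctor D n).obj Y)))) := by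
  refine ⟨?_, ?_, ?_⟩
  · have h0 : ObjectProperty.ContainsZero
        (fun X : D => ∃ N : ℤ, ∀ n : ℤ, n ≤ N → IsZero (H.obj ((shiftFunctor D n).obj X))) :=
      ⟨⟨_, isZero_zero D, 0, fun n _ => L1 H _ (isZero_zero D) n⟩⟩
    have hs : ObjectProperty.IsStableUnderShift
        (fun X : D => ∃ N : ℤ, ∀ n : ℤ, n ≤ N → IsZero (H.obj ((shiftFunctor D n).obj X))) ℤ :=
      { isStableUnderShiftBy := fun a => ⟨fun X ⟨N, hN⟩ =>
          ⟨N - a, fun n hn => L2 H X a n (hN _ (by omega))⟩⟩ }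
    have ht : ObjectProperty.IsTriangulatedClosed₂
        (fun X : D => ∃ N : ℤ, ∀ n : ℤ, n ≤ N → IsZero (H.obj ((shiftFunctor D n).obj X))) :=
      ⟨fun T hT ⟨N₁, h₁⟩ ⟨N₃, h₃⟩ => ObjectProperty.le_isoClosure _ _
        ⟨min N₁ N₃, fun n hn => L3 H T hT n (h₁ n (hn.trans (min_le_left _ _)))
          (h₃ n (hn.trans (min_le_right _ _)))⟩⟩
    exact { }
  · exact ⟨fun e ⟨N, hN⟩ => ⟨N, fun n hn => L4 H e n (hN n hn)⟩⟩
  · rintro X Y ⟨N, hN⟩
    exact ⟨⟨N, fun n hn => (L5 H X Y n (hN n hn)).1⟩, ⟨N, fun n hn => (L5 H X Y n (hN n hn)).2⟩⟩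

end Groth.Agent.S6583
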