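import Groth.Statements.S6584
import Groth.Agent.S6583
-- import your own Groth.Agent.* helpers here

set_option autoImplicit false
universe v u v' u'
open CategoryTheory CategoryTheory.Limits
open CohDer

namespace Groth.Agent.S6584

open CategoryTheory.Pretriangulated in
/-- Let H : D ⥤ A be a homological functor from a pretriangulated category to an abelian category. The
full subcategory of D on the objects X with H(X⟦n⟧) = 0 for all n ≫ 0 is a strictly full
pretriangulated subcategory (zero object, stable under shifts and isomorphisms, closed under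
extensions) and is saturated: if X ⊞ Y belongs to it then so do X and Y. -/
theorem result {D : Type u} [Category.{v} D] [Preadditive D] [HasZeroObject D] [HasShift D ℤ]
    [∀ n : ℤ, (shiftFunctor D n).Additive] [Pretriangulated D]
    {A : Type u'} [Category.{v'} A] [Abelian A] (H : D ⥤ A) [H.IsHomological] :
    (ObjectProperty.IsTriangulated (fun X : D => ∃ N : ℤ, ∀ n : ℤ, N ≤ n → IsZero (H.obj ((shiftFunctor D n).obj X)))) ∧
    (ObjectProperty.IsClosedUnderIsomorphisms (fun X : D => ∃ N : ℤ, ∀ n : ℤ, N ≤ n → IsZero (H.obj ((shiftFunctor D n).obj X)))) ∧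
    (∀ X Y : D, (∃ N : ℤ, ∀ n : ℤ, N ≤ n → IsZero (H.obj ((shiftFunctor D n).obj (X ⊞ Y)))) →
      (∃ N : ℤ, ∀ n : ℤ, N ≤ n → IsZero (H.obj ((shiftFunctor D n).obj X))) ∧
      (∃ N : ℤ, ∀ n : ℤ, N ≤ n → IsZero (H.obj ((shiftFunctor D n).obj Y)))) := by
  refine ⟨?_, ?_, ?_⟩
  · have h0 : ObjectProperty.ContainsZero
        (fun X : D => ∃ N : ℤ, ∀ n : ℤ, N ≤ n → IsZero (H.obj ((shiftFunctor D n).obj X))) :=
      ⟨⟨_, isZero_zero D, 0, fun n _ => Groth.Agent.S6583.L1 H _ (isZero_zero D) n⟩⟩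
    have hs : ObjectProperty.IsStableUnderShift
        (fun X : D => ∃ N : ℤ, ∀ n : ℤ, N ≤ n → IsZero (H.obj ((shiftFunctor D n).obj X))) ℤ :=
      { isStableUnderShiftBy := fun a => ⟨fun X ⟨N, hN⟩ =>
          ⟨N - a, fun n hn => Groth.Agent.S6583.L2 H X a n (hN _ (by omega))⟩⟩ }
    have ht : ObjectProperty.IsTriangulatedClosed₂
        (fun X : D => ∃ N : ℤ, ∀ n : ℤ, N ≤ n → IsZero (H.obj ((shiftFunctor D n).obj X))) :=
      ⟨fun T hT ⟨N₁, h₁⟩ ⟨N₃, h₃⟩ => ObjectProperty.le_isoClosure _ _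
        ⟨max N₁ N₃, fun n hn => Groth.Agent.S6583.L3 H T hT n
          (h₁ n ((le_max_left _ _).trans hn)) (h₃ n ((le_max_right _ _).trans hn))⟩⟩
    exact { }
  · exact ⟨fun e ⟨N, hN⟩ => ⟨N, fun n hn => Groth.Agent.S6583.L4 H e n (hN n hn)⟩⟩
  · rintro X Y ⟨N, hN⟩
    exact ⟨⟨N, fun n hn => (Groth.Agent.S6583.L5 H X Y n (hN n hn)).1⟩,
      ⟨N, fun n hn => (Groth.Agent.S6583.L5 H X Y n (hN n hn)).2⟩⟩

end Groth.Agent.S6584
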