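import Groth.Statements.S6585
-- import your own Groth.Agent.* helpers here

set_option autoImplicit false
universe v u
open CategoryTheory CategoryTheory.Limits
open CohDer

namespace Groth.Agent.S6585

open CategoryTheory.Pretriangulated in
/-- Let D be a triangulated category and E, K objects of D. Then Hom(E, K⟦i⟧) = 0 for all integers i if
and only if Hom(E', K) = 0 for every E' in ⟨E⟩, the smallest strictly full saturated triangulated
subcategory of D containing E (the objects obtained from E by shifts, finite direct sums, direct
summands and extensions). -/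
theorem result {D : Type u} [Category.{v} D] [Preadditive D] [HasZeroObject D] [HasShift D ℤ]
    [∀ n : ℤ, (shiftFunctor D n).Additive] [Pretriangulated D] [IsTriangulated D]
    (E K : D) :
    (∀ (i : ℤ) (f : E ⟶ (shiftFunctor D i).obj K), f = 0) ↔
      ∀ (E' : D), (ObjectProperty.singleton E).triangEnvelope E' → ∀ f : E' ⟶ K, f = 0 := by
  constructor
  · intro h
    let Q : ObjectProperty D := fun E' => ∀ (n : ℤ) (f : (shiftFunctor D n).obj E' ⟶ K), f = 0
    have hQ0 : Q.ContainsZero :=
      ⟨⟨_, isZero_zero D, fun n f => ((shiftFunctor D n).map_isZero (isZero_zero D)).eq_of_src _ _⟩⟩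
    have hQs : Q.IsStableUnderShift ℤ :=
      { isStableUnderShiftBy := fun a => ⟨fun X hX n f => by
          have h1 := hX (a + n) ((shiftFunctorAdd D a n).hom.app X ≫ f)
          rw [← cancel_epi ((shiftFunctorAdd D a n).hom.app X), h1, comp_zero]⟩ }
    have hQt : Q.IsTriangulatedClosed₂ :=
      ⟨fun T hT h₁ h₃ => ObjectProperty.le_isoClosure _ _ (fun n f => by
        have hT' := Triangle.shift_distinguished T hT n
        obtain ⟨g, hg⟩ := Triangle.yoneda_exact₂ _ hT' f (h₁ n _)
        have hg0 : g = 0 := h₃ n g
        rw [hg, hg0]
        exact comp_zero)⟩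
    have hQtri : Q.IsTriangulated := { }
    have hQr : Q.IsStableUnderRetracts :=
      ⟨fun {X Y} r hY n f => by
        have h1 : f = (shiftFunctor D n).map r.i ≫ ((shiftFunctor D n).map r.r ≫ f) := by
          rw [← Category.assoc, ← CategoryTheory.Functor.map_comp, r.retract,
            CategoryTheory.Functor.map_id, Category.id_comp]
        rw [h1, hY n ((shiftFunctor D n).map r.r ≫ f), comp_zero]⟩
    have hE : Q E := by
      intro n f
      apply (shiftFunctor D (-n)).map_injective
      rw [Functor.map_zero]
      have h1 := h (-n) ((shiftShiftNeg E n).inv ≫ (shiftFunctor D (-n)).map f)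
      rw [← cancel_epi (shiftShiftNeg E n).inv, h1, comp_zero]
    have hle : (ObjectProperty.singleton E).triangEnvelope ≤ Q :=
      (ObjectProperty.triangEnvelope_le_iff _).mpr (ObjectProperty.singleton_le_iff.mpr hE)
    intro E' hE' f
    have h1 := hle E' hE' 0 ((shiftFunctorZero D ℤ).hom.app E' ≫ f)
    rw [← cancel_epi ((shiftFunctorZero D ℤ).hom.app E'), h1, comp_zero]
  · intro h i f
    have hE : (ObjectProperty.singleton E).triangEnvelope E :=
      ObjectProperty.le_triangEnvelope _ _ ((ObjectProperty.singleton_iff E E).mpr rfl)
    have hsh := (ObjectProperty.singleton E).triangEnvelope.le_shift (-i)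
    have hEi : (ObjectProperty.singleton E).triangEnvelope ((shiftFunctor D (-i)).obj E) :=
      hsh _ hE
    apply (shiftFunctor D (-i)).map_injective
    rw [Functor.map_zero]
    have h1 := h _ hEi ((shiftFunctor D (-i)).map f ≫ (shiftShiftNeg K i).hom)
    rw [← cancel_mono (shiftShiftNeg K i).hom, h1, zero_comp]

end Groth.Agent.S6585
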