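import Groth.Statements.S6586
import Mathlib

set_option autoImplicit false
universe v u
open CategoryTheory CategoryTheory.Limits
open CohDer

namespace Groth.Agent.S6586

section helpers
open CategoryTheory CategoryTheory.Limits
open CohDer

theorem main {D : Type u} [Category.{v} D] [Preadditive D] [HasZeroObject D] [HasShift D ℤ]
    [∀ n : ℤ, (shiftFunctor D n).Additive] [Pretriangulated D] [IsTriangulated D]
    (E : D) (hE : (ObjectProperty.singleton E).IsClassicalTriangulatedGenerator) :
    CohDer.Generates (fun _ : PUnit.{1} => E) := by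
  intro K hK
  let P : ObjectProperty D := fun Y => ∃ n : ℤ, Nonempty (Y ≅ (shiftFunctor D n).obj K)
  haveI : P.IsStableUnderShift ℤ := by
    refine ⟨fun a => ⟨?_⟩⟩
    rintro Y ⟨n, ⟨e⟩⟩
    exact ⟨n + a, ⟨(shiftFunctor D a).mapIso e ≪≫ (shiftFunctorAdd D n a).symm.app K⟩⟩
  haveI : P.leftOrthogonal.IsStableUnderRetracts := by
    refine ⟨fun {X Y} r hY Z f hZ => ?_⟩
    have h1 := hY (r.r ≫ f) hZ
    have h2 : f = r.i ≫ r.r ≫ f := by simp
    rw [h2, h1, comp_zero]
  have hle : ObjectProperty.singleton E ≤ P.leftOrthogonal := by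
    rintro _ ⟨⟩ Y f ⟨n, ⟨e⟩⟩
    have := hK PUnit.unit n (f ≫ e.hom)
    rw [← cancel_mono e.hom, zero_comp]
    exact this
  have htop : P.leftOrthogonal = ⊤ := by
    rw [eq_top_iff, ← hE]
    exact (ObjectProperty.triangEnvelope_le_iff _).mpr hle
  have hKK : P.leftOrthogonal K := by
    rw [htop]
    trivial
  have h0 := hKK ((shiftFunctorZero D ℤ).app K).inv ⟨0, ⟨Iso.refl _⟩⟩
  rw [IsZero.iff_id_eq_zero]
  have : 𝟙 K = ((shiftFunctorZero D ℤ).app K).inv ≫ ((shiftFunctorZero D ℤ).app K).hom := by simp
  rw [this, h0, zero_comp]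

end helpers

/-- Fix a triangulated category D together with an object E in it. Suppose E classically generates D,
i.e. ⟨E⟩ = D; then E is a generator of D: an object K with Hom(E, K⟦n⟧) = 0 for all n is zero. -/
theorem result {D : Type u} [Category.{v} D] [Preadditive D] [HasZeroObject D] [HasShift D ℤ]
    [∀ n : ℤ, (shiftFunctor D n).Additive] [Pretriangulated D] [IsTriangulated D]
    (E : D) (hE : (ObjectProperty.singleton E).IsClassicalTriangulatedGenerator) :
    CohDer.Generates (fun _ : PUnit.{1} => E) := by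
  exact main E hE

end Groth.Agent.S6586
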