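import Groth.Statements.S6587
import Mathlib

set_option autoImplicit false
universe v u
open CategoryTheory CategoryTheory.Limits Opposite
open CohDer

namespace Groth.Agent.S6587

section helpers
open CategoryTheory CategoryTheory.Limits Opposite
open CohDer

open CategoryTheory.Pretriangulated

section
variable {D : Type u} [Category.{v} D] [Preadditive D] [HasZeroObject D] [HasShift D ℤ]
    [∀ n : ℤ, (shiftFunctor D n).Additive] [Pretriangulated D]

/-- exactness of `Hom(W, -)` at `Y⟦1⟧` for a distinguished triangle `X → Y → Z → X⟦1⟧`. -/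
theorem exact_at_obj₂_shift {A B C : D} (f : A ⟶ B) (g : B ⟶ C)
    (h : C ⟶ (shiftFunctor D (1 : ℤ)).obj A) (hT : Triangle.mk f g h ∈ distTriang D) {W : D}
    (φ : W ⟶ (shiftFunctor D (1 : ℤ)).obj B)
    (hφ : φ ≫ (shiftFunctor D (1 : ℤ)).map g = 0) :
    ∃ ψ : W ⟶ (shiftFunctor D (1 : ℤ)).obj A, φ = ψ ≫ (shiftFunctor D (1 : ℤ)).map f := by
  have hT2 := rot_of_distTriang _ (rot_of_distTriang _ hT)
  obtain ⟨ψ, hψ⟩ := Triangle.coyoneda_exact₃ _ hT2 φ (by
    show φ ≫ (-(shiftFunctor D (1 : ℤ)).map g) = 0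
    rw [Preadditive.comp_neg, hφ, neg_zero])
  let ψ' : W ⟶ (shiftFunctor D (1 : ℤ)).obj A := ψ
  refine ⟨-ψ', ?_⟩
  have h1 : φ = ψ' ≫ (-(shiftFunctor D (1 : ℤ)).map f) := hψ
  rw [h1, Preadditive.comp_neg, Preadditive.neg_comp]

theorem exact_at_obj₁_shift {A B C : D} (f : A ⟶ B) (g : B ⟶ C)
    (h : C ⟶ (shiftFunctor D (1 : ℤ)).obj A) (hT : Triangle.mk f g h ∈ distTriang D) {W : D}
    (φ : W ⟶ (shiftFunctor D (1 : ℤ)).obj A)
    (hφ : φ ≫ (shiftFunctor D (1 : ℤ)).map f = 0) :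
    ∃ ψ : W ⟶ C, φ = ψ ≫ h :=
  Triangle.coyoneda_exact₁ _ hT φ hφ

end

theorem main {D : Type u} [Category.{v} D] [Preadditive D] [HasZeroObject D] [HasShift D ℤ]
    [∀ n : ℤ, (shiftFunctor D n).Additive] [Pretriangulated D] [IsTriangulated D]
    (X Y Z : ARSys.PS D) (f : X ⟶ Y) (g : Y ⟶ Z) (h : Z ⟶ X ⋙ shiftFunctor D (1 : ℤ))
    (hT : ∀ n : ℕ, Triangle.mk (f.app (op n)) (g.app (op n)) (h.app (op n)) ∈ distinguishedTriangles)
    (hZ : DerCA.IsProZero Z) :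
    DerCA.IsProIso f := by
  intro n
  obtain ⟨m₁, h₁, hz₁⟩ := hZ n
  obtain ⟨m₂, h₂, hz₂⟩ := hZ m₁
  let S := shiftFunctor D (1 : ℤ)
  -- Step 1
  have e1 : S.map (ARSys.tr Y h₂) ≫ S.map (g.app (op m₁)) = 0 := by
    rw [← S.map_comp]
    have : ARSys.tr Y h₂ ≫ g.app (op m₁) = g.app (op m₂) ≫ ARSys.tr Z h₂ := (g.naturality _)
    rw [this, hz₂, comp_zero, S.map_zero]
  obtain ⟨β₁, hβ₁⟩ := exact_at_obj₂_shift _ _ _ (hT m₁) (S.map (ARSys.tr Y h₂)) e1
  have hβ₁' : β₁ ≫ S.map (f.app (op m₁)) = S.map (ARSys.tr Y h₂) := hβ₁.symm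
  -- Step 2
  let β : S.obj (Y.obj (op m₂)) ⟶ S.obj (X.obj (op n)) := β₁ ≫ S.map (ARSys.tr X h₁)
  have hi : β ≫ S.map (f.app (op n)) = S.map (ARSys.tr Y (h₁.trans h₂)) := by
    show (β₁ ≫ S.map (ARSys.tr X h₁)) ≫ S.map (f.app (op n)) = _
    rw [Category.assoc, ← S.map_comp]
    have : ARSys.tr X h₁ ≫ f.app (op n) = f.app (op m₁) ≫ ARSys.tr Y h₁ := (f.naturality _)
    rw [this, S.map_comp, ← Category.assoc, hβ₁', ← S.map_comp]
    congr 1
    show Y.map _ ≫ Y.map _ = Y.map _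
    rw [← Y.map_comp]
    rfl
  -- the difference
  let δ : S.obj (X.obj (op m₂)) ⟶ S.obj (X.obj (op m₁)) :=
    S.map (f.app (op m₂)) ≫ β₁ - S.map (ARSys.tr X h₂)
  have hδ : δ ≫ S.map (f.app (op m₁)) = 0 := by
    show (S.map (f.app (op m₂)) ≫ β₁ - S.map (ARSys.tr X h₂)) ≫ S.map (f.app (op m₁)) = 0
    rw [Preadditive.sub_comp, Category.assoc, hβ₁', ← S.map_comp, ← S.map_comp]
    have : ARSys.tr X h₂ ≫ f.app (op m₁) = f.app (op m₂) ≫ ARSys.tr Y h₂ := (f.naturality _)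
    rw [this, sub_self]
  obtain ⟨ε, hε⟩ := exact_at_obj₁_shift _ _ _ (hT m₁) δ hδ
  have hε' : δ = ε ≫ h.app (op m₁) := hε
  have hδ0 : δ ≫ S.map (ARSys.tr X h₁) = 0 := by
    rw [hε', Category.assoc]
    have : h.app (op m₁) ≫ S.map (ARSys.tr X h₁) = ARSys.tr Z h₁ ≫ h.app (op n) :=
      (h.naturality _).symm
    rw [this, hz₁, zero_comp, comp_zero]
  have hii : S.map (f.app (op m₂)) ≫ β = S.map (ARSys.tr X (h₁.trans h₂)) := by
    show S.map (f.app (op m₂)) ≫ β₁ ≫ S.map (ARSys.tr X h₁) = _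
    have h3 : S.map (f.app (op m₂)) ≫ β₁ = δ + S.map (ARSys.tr X h₂) := by
      show _ = S.map (f.app (op m₂)) ≫ β₁ - S.map (ARSys.tr X h₂) + S.map (ARSys.tr X h₂)
      rw [sub_add_cancel]
    rw [← Category.assoc, h3, Preadditive.add_comp, hδ0, zero_add, ← S.map_comp]
    congr 1
    show X.map _ ≫ X.map _ = X.map _
    rw [← X.map_comp]
    rfl
  -- Step 3
  refine ⟨m₂, h₁.trans h₂, S.preimage β, ?_, ?_⟩
  · apply S.map_injective
    rw [S.map_comp, S.map_preimage]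
    exact hii
  · apply S.map_injective
    rw [S.map_comp, S.map_preimage]
    exact hi

end helpers

open CategoryTheory.Pretriangulated in
/-- Let D be a triangulated category and let X_n → Y_n → Z_n → X_n⟦1⟧ be an inverse system of
distinguished triangles of D indexed by ℕ (levelwise maps f, g, h of inverse systems, each level
distinguished). If the inverse system (Z_n) is pro-zero, then the levelwise map f : (X_n) → (Y_n) is
a pro-isomorphism. -/
theorem result {D : Type u} [Category.{v} D] [Preadditive D] [HasZeroObject D] [HasShift D ℤ]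
    [∀ n : ℤ, (shiftFunctor D n).Additive] [Pretriangulated D] [IsTriangulated D]
    (X Y Z : ARSys.PS D) (f : X ⟶ Y) (g : Y ⟶ Z) (h : Z ⟶ X ⋙ shiftFunctor D (1 : ℤ))
    (hT : ∀ n : ℕ, Triangle.mk (f.app (op n)) (g.app (op n)) (h.app (op n)) ∈ distinguishedTriangles)
    (hZ : DerCA.IsProZero Z) :
    DerCA.IsProIso f := by
  exact main X Y Z f g h hT hZ

end Groth.Agent.S6587
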