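import Groth.Statements.S6592
import Groth.Agent.Lib27.HocolimSub
-- import your own Groth.Agent.* helpers here

set_option autoImplicit false
universe v u
open CategoryTheory CategoryTheory.Limits
open DerLim

namespace Groth.Agent.S6592

/-- Let D be a triangulated category, (K_m, f_m) a system of objects of D indexed by ℕ (given as a
functor F : ℕ ⥤ D) and n₁ < n₂ < … a strictly increasing sequence. Assume ⨁ K_m and ⨁ K_{n_i} exist.
If L is a homotopy colimit of (K_m) and L' a homotopy colimit of the subsequence (K_{n_i}) (with the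
composite transition maps), then there is an isomorphism L' ≅ L under which the structure map
K_{n_i} ⟶ L' corresponds to K_{n_i} ⟶ L for every i. -/
theorem result {D : Type u} [Category.{v} D] [Preadditive D] [HasZeroObject D] [HasShift D ℤ]
    [∀ n : ℤ, (shiftFunctor D n).Additive] [Pretriangulated D] [IsTriangulated D]
    (F : ℕ ⥤ D) (n : ℕ → ℕ) (hn : StrictMono n)
    [HasCoproduct (fun m : ℕ => F.obj m)] [HasCoproduct (fun i : ℕ => F.obj (n i))]
    (L : D) (ι : ∀ m : ℕ, F.obj m ⟶ L)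
    (hL : DerLim.IsHocolim (fun m : ℕ => F.obj m) (fun m : ℕ => F.map (homOfLE (Nat.le_succ m))) L ι)
    (L' : D) (ι' : ∀ i : ℕ, F.obj (n i) ⟶ L')
    (hL' : DerLim.IsHocolim (fun i : ℕ => F.obj (n i)) (fun i : ℕ => F.map (homOfLE (hn.monotone (Nat.le_succ i)))) L' ι') :
    ∃ e : L' ≅ L, ∀ i : ℕ, ι' i ≫ e.hom = ι (n i) := by
  classical
  obtain ⟨δ, hT⟩ := hL
  obtain ⟨δ', hT'⟩ := hL'
  obtain ⟨e, he⟩ := Groth.Agent.Lib27.HocolimSub.exists_iso_of_homotopyEquiv
    _ _ δ hT _ _ δ' hT'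
    (Groth.Agent.Lib27.HocolimSub.aa F n) (Groth.Agent.Lib27.HocolimSub.bb F n)
    (Groth.Agent.Lib27.HocolimSub.aa' F n hn) (Groth.Agent.Lib27.HocolimSub.bb' F n hn)
    (Groth.Agent.Lib27.HocolimSub.hh F n hn)
    (Groth.Agent.Lib27.HocolimSub.I1 F n hn) (Groth.Agent.Lib27.HocolimSub.I2 F n hn)
    (Groth.Agent.Lib27.HocolimSub.I3 F n hn) (Groth.Agent.Lib27.HocolimSub.I4 F n hn)
    (Groth.Agent.Lib27.HocolimSub.I5 F n hn) (Groth.Agent.Lib27.HocolimSub.I6 F n hn)
  refine ⟨e, fun i => ?_⟩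
  have := congrArg (fun z => Sigma.ι (fun i : ℕ => F.obj (n i)) i ≫ z) he
  simp only [← Category.assoc, Sigma.ι_desc] at this
  rw [this]
  dsimp only [Groth.Agent.Lib27.HocolimSub.bb]
  rw [Sigma.ι_desc, Sigma.ι_desc]

end Groth.Agent.S6592
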