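import Groth.Statements.S6593
-- import your own Groth.Agent.* helpers here

set_option autoImplicit false
universe w v u
open CategoryTheory CategoryTheory.Limits
open CohDer

namespace Groth.Agent.S6593

set_option backward.defeqAttrib.useBackward true in
set_option backward.isDefEq.respectTransparency false in
open CategoryTheory.Pretriangulated in
theorem aux {D : Type u} [Category.{v} D] [Preadditive D] [HasZeroObject D] [HasShift D ℤ]
    [∀ n : ℤ, (shiftFunctor D n).Additive] [Pretriangulated D]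
    {J : Type w} (T : J → Triangle D) (hT : ∀ j, T j ∈ distinguishedTriangles)
    [HasCoproduct (fun j => (T j).obj₁)] [HasCoproduct (fun j => (T j).obj₂)] [HasCoproduct (fun j => (T j).obj₃)] :
    Triangle.mk (Limits.Sigma.map (fun j => (T j).mor₁)) (Limits.Sigma.map (fun j => (T j).mor₂))
      (Sigma.desc (fun j => (T j).mor₃ ≫ (shiftFunctor D (1 : ℤ)).map (Sigma.ι (fun j => (T j).obj₁) j))) ∈ distinguishedTriangles := by
  let f₁ := Limits.Sigma.map (fun j => (T j).mor₁)
  obtain ⟨Z, f₂, f₃, hT'⟩ := distinguished_cocone_triangle f₁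
  let T' := Triangle.mk f₁ f₂ f₃
  change T' ∈ distinguishedTriangles at hT'
  let φ : ∀ j, T j ⟶ T' := fun j => completeDistinguishedTriangleMorphism _ _
    (hT j) hT' (Sigma.ι (fun j => (T j).obj₁) j) (Sigma.ι (fun j => (T j).obj₂) j) (by simp [f₁, T'])
  have φ₁ : ∀ j, (φ j).hom₁ = Sigma.ι (fun j => (T j).obj₁) j := fun j => rfl
  have φ₂ : ∀ j, (φ j).hom₂ = Sigma.ι (fun j => (T j).obj₂) j := fun j => rfl
  let c : (∐ fun j => (T j).obj₃) ⟶ Z := Sigma.desc (fun j => (φ j).hom₃)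
  have hc : ∀ j, Sigma.ι (fun j => (T j).obj₃) j ≫ c = (φ j).hom₃ := fun j => Sigma.ι_desc _ _
  have comm₂ : Limits.Sigma.map (fun j => (T j).mor₂) ≫ c = f₂ := by
    ext j
    have h := (φ j).comm₂
    rw [φ₂] at h
    rw [Sigma.ι_map_assoc, hc, h]
    rfl
  have comm₃ : Sigma.desc (fun j => (T j).mor₃ ≫
      (shiftFunctor D (1 : ℤ)).map (Sigma.ι (fun j => (T j).obj₁) j)) = c ≫ f₃ := by
    ext j
    have h := (φ j).comm₃
    rw [φ₁] at h
    rw [Sigma.ι_desc, reassoc_of% hc, h]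
    rfl
  -- the shifted coproducts
  have hcX : IsColimit (Cofan.mk _ fun j => (shiftFunctor D (1 : ℤ)).map
      (Sigma.ι (fun j => (T j).obj₁) j)) :=
    isColimitOfHasCoproductOfPreservesColimit (shiftFunctor D (1 : ℤ)) _
  have hcY : IsColimit (Cofan.mk _ fun j => (shiftFunctor D (1 : ℤ)).map
      (Sigma.ι (fun j => (T j).obj₂) j)) :=
    isColimitOfHasCoproductOfPreservesColimit (shiftFunctor D (1 : ℤ)) _
  suffices IsIso c by
    refine isomorphic_distinguished _ hT' _ ?_
    exact Triangle.isoMk _ _ (Iso.refl _) (Iso.refl _) (asIso c)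
      (by simp [T', f₁]) (by simp [T', comm₂]) (by simp [T', comm₃])
  refine isIso_of_coyoneda_map_bijective _ (fun A => ⟨?_, ?_⟩)
  · suffices Epi c by
      intro a₁ a₂ ha
      simpa only [← cancel_epi c] using ha
    apply Preadditive.epi_of_cancel_zero
    intro A x hx
    have h1 : T'.mor₂ ≫ x = 0 := by
      change f₂ ≫ x = 0
      rw [← comm₂, Category.assoc, hx, comp_zero]
    obtain ⟨y, hy⟩ := Triangle.yoneda_exact₃ _ hT' x h1
    have h2 : ∀ j, (T j).mor₃ ≫ ((shiftFunctor D (1 : ℤ)).map (Sigma.ι (fun j => (T j).obj₁) j) ≫ y) = 0 := by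
      intro j
      have := (φ j).comm₃
      rw [φ₁] at this
      rw [reassoc_of% this, ← hy, ← hc, Category.assoc, hx, comp_zero]
    have h3 := fun j => Triangle.yoneda_exact₂ _ (rot_of_distTriang _ (rot_of_distTriang _ (hT j))) _ (h2 j)
    choose α hα using h3
    dsimp at α hα
    let α' : (shiftFunctor D (1 : ℤ)).obj (∐ fun j => (T j).obj₂) ⟶ A :=
      Cofan.IsColimit.desc hcY α
    have hα' : ∀ j, (shiftFunctor D (1 : ℤ)).map (Sigma.ι (fun j => (T j).obj₂) j) ≫ α' = α j :=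
      fun j => Cofan.IsColimit.fac hcY α j
    have hy' : y = -((shiftFunctor D (1 : ℤ)).map f₁ ≫ α') := by
      refine Cofan.IsColimit.hom_ext hcX _ _ (fun j => ?_)
      dsimp
      rw [hα j, Preadditive.comp_neg, ← Functor.map_comp_assoc]
      have : Sigma.ι (fun j => (T j).obj₁) j ≫ f₁ = (T j).mor₁ ≫ Sigma.ι (fun j => (T j).obj₂) j := by
        simp [f₁]
      rw [this, Functor.map_comp_assoc, hα', Preadditive.neg_comp]
    rw [hy, hy', Preadditive.comp_neg, ← Category.assoc]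
    have : T'.mor₃ ≫ (shiftFunctor D (1 : ℤ)).map f₁ = 0 := comp_distTriang_mor_zero₃₁ _ hT'
    rw [this, zero_comp, neg_zero]
  · intro a
    have h1 : T'.mor₁ ≫ (Limits.Sigma.map (fun j => (T j).mor₂) ≫ a) = 0 := by
      change f₁ ≫ _ = 0
      rw [← Category.assoc]
      have : f₁ ≫ Limits.Sigma.map (fun j => (T j).mor₂) = 0 := by
        ext j
        rw [Sigma.ι_map_assoc, Sigma.ι_map, reassoc_of% (comp_distTriang_mor_zero₁₂ _ (hT j)),
          zero_comp, comp_zero]
      rw [this, zero_comp]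
    obtain ⟨(a' : Z ⟶ A), ha'⟩ := Triangle.yoneda_exact₂ _ hT' _ h1
    change _ = f₂ ≫ a' at ha'
    have h2 : ∀ j, (T j).mor₂ ≫ (Sigma.ι (fun j => (T j).obj₃) j ≫ (a - c ≫ a')) = 0 := by
      intro j
      rw [Preadditive.comp_sub, Preadditive.comp_sub, reassoc_of% hc, (φ j).comm₂_assoc, φ₂, sub_eq_zero]
      have : (T j).mor₂ ≫ Sigma.ι (fun j => (T j).obj₃) j =
          Sigma.ι (fun j => (T j).obj₂) j ≫ Limits.Sigma.map (fun j => (T j).mor₂) := by simp
      rw [reassoc_of% this, ha']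
      rfl
    have h3 := fun j => Triangle.yoneda_exact₃ _ (hT j) _ (h2 j)
    choose β hβ using h3
    let β' : (shiftFunctor D (1 : ℤ)).obj (∐ fun j => (T j).obj₁) ⟶ A :=
      Cofan.IsColimit.desc hcX β
    have hβ' : ∀ j, (shiftFunctor D (1 : ℤ)).map (Sigma.ι (fun j => (T j).obj₁) j) ≫ β' = β j :=
      fun j => Cofan.IsColimit.fac hcX β j
    have h4 : a - c ≫ a' = (c ≫ f₃) ≫ β' := by
      rw [← comm₃]
      ext j
      rw [hβ j, Sigma.ι_desc_assoc, Category.assoc, hβ']
    refine ⟨a' + f₃ ≫ β', ?_⟩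
    dsimp
    rw [Preadditive.comp_add, ← Category.assoc c, ← h4]
    abel

open CategoryTheory.Pretriangulated in
/-- Let D be a pretriangulated category and (X_i → Y_i → Z_i → X_i⟦1⟧)_{i ∈ I} a family of distinguished
triangles. If the direct sums ⨁ X_i, ⨁ Y_i, ⨁ Z_i exist, then ⨁ X_i → ⨁ Y_i → ⨁ Z_i → (⨁ X_i)⟦1⟧ is
a distinguished triangle (the last map is induced by the composites Z_i → X_i⟦1⟧ → (⨁ X_i)⟦1⟧). -/
theorem result {D : Type u} [Category.{v} D] [Preadditive D] [HasZeroObject D] [HasShift D ℤ]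
    [∀ n : ℤ, (shiftFunctor D n).Additive] [Pretriangulated D]
    {J : Type w} (T : J → Triangle D) (hT : ∀ j, T j ∈ distinguishedTriangles)
    [HasCoproduct (fun j => (T j).obj₁)] [HasCoproduct (fun j => (T j).obj₂)] [HasCoproduct (fun j => (T j).obj₃)] :
    Triangle.mk (Limits.Sigma.map (fun j => (T j).mor₁)) (Limits.Sigma.map (fun j => (T j).mor₂))
      (Sigma.desc (fun j => (T j).mor₃ ≫ (shiftFunctor D (1 : ℤ)).map (Sigma.ι (fun j => (T j).obj₁) j))) ∈ distinguishedTriangles := by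
  exact aux T hT

end Groth.Agent.S6593
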