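import Groth.Statements.S6594
-- import your own Groth.Agent.* helpers here

set_option autoImplicit false
universe v u
open CategoryTheory CategoryTheory.Limits
open CohDer

namespace Groth.Agent.S6594

set_option backward.defeqAttrib.useBackward true in
set_option backward.isDefEq.respectTransparency false in
open CategoryTheory.Pretriangulated in
theorem aux {D : Type u} [Category.{v} D] [Preadditive D] [HasZeroObject D] [HasShift D ℤ]
    [∀ n : ℤ, (shiftFunctor D n).Additive] [Pretriangulated D]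
    {X Y : D} (f : X ⟶ Y) :
    HasKernel f ↔ ∃ (K Z Q : D) (e₁ : X ≅ K ⊞ Z) (e₂ : Y ≅ Z ⊞ Q),
      f = e₁.hom ≫ biprod.snd ≫ biprod.inl ≫ e₂.inv := by
  constructor
  · intro _
    obtain ⟨K, k, hk, hmono, hlift⟩ : ∃ (K : D) (k : K ⟶ X), k ≫ f = 0 ∧ Mono k ∧
        ∀ {W : D} (x : W ⟶ X), x ≫ f = 0 → ∃ l : W ⟶ K, l ≫ k = x :=
      ⟨kernel f, kernel.ι f, kernel.condition f, inferInstance,
        fun x hx => ⟨kernel.lift f x hx, kernel.lift_ι _ _ _⟩⟩
    obtain ⟨Z, p, δ, hT⟩ := distinguished_cocone_triangle k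
    have hδ : δ = 0 := Triangle.mor₃_eq_zero_of_mono₁ _ hT hmono
    obtain ⟨e₁, he₁, he₁'⟩ := exists_iso_binaryBiproduct_of_distTriang _ hT hδ
    dsimp at e₁ he₁ he₁'
    obtain ⟨f', hf'⟩ := Triangle.yoneda_exact₂ _ hT f hk
    dsimp at f' hf'
    have hp : k ≫ p = 0 := comp_distTriang_mor_zero₁₂ _ hT
    have : Mono f' := by
      apply Preadditive.mono_of_cancel_zero
      intro W a ha
      have hx : (a ≫ biprod.inr ≫ e₁.inv) ≫ f = 0 := by
        rw [hf', he₁']; simp [ha]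
      have : a = (a ≫ biprod.inr ≫ e₁.inv) ≫ p := by rw [he₁']; simp
      obtain ⟨l, hl⟩ := hlift _ hx
      rw [this, ← hl, Category.assoc, hp, comp_zero]
    obtain ⟨Q, q, δ', hT'⟩ := distinguished_cocone_triangle f'
    have hδ' : δ' = 0 := Triangle.mor₃_eq_zero_of_mono₁ _ hT' (by dsimp; infer_instance)
    obtain ⟨e₂, he₂, -⟩ := exists_iso_binaryBiproduct_of_distTriang _ hT' hδ'
    dsimp at e₂ he₂
    refine ⟨_, Z, Q, e₁, e₂, ?_⟩
    rw [hf', he₁', ← he₂]
    simp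
  · rintro ⟨K, Z, Q, e₁, e₂, rfl⟩
    have hm : Mono (biprod.inl ≫ e₂.inv : Z ⟶ Y) := inferInstance
    refine ⟨⟨⟨KernelFork.ofι (biprod.inl ≫ e₁.inv : K ⟶ X) (by simp), ?_⟩⟩⟩
    refine KernelFork.IsLimit.ofι _ _ (fun {W} g hg => g ≫ e₁.hom ≫ biprod.fst) ?_ ?_
    · intro W g hg
      have h0 : (g ≫ e₁.hom ≫ biprod.snd) ≫ (biprod.inl ≫ e₂.inv : Z ⟶ Y) = 0 := by
        simpa using hg
      have h1 : g ≫ e₁.hom ≫ biprod.snd = 0 := by
        rwa [← cancel_mono (biprod.inl ≫ e₂.inv : Z ⟶ Y), zero_comp]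
      rw [← cancel_mono e₁.hom]
      apply biprod.hom_ext <;> simp [h1]
    · intro W g hg m hm'
      rw [← hm']
      simp

open CategoryTheory.Pretriangulated in
/-- (1) ⇔ (3): let D be a pretriangulated category and f : X ⟶ Y a morphism. Then f has a kernel if and
only if f is isomorphic to a composite K ⊞ Z → Z → Z ⊞ Q of a projection and a coprojection for some
objects K, Z, Q. -/
theorem result {D : Type u} [Category.{v} D] [Preadditive D] [HasZeroObject D] [HasShift D ℤ]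
    [∀ n : ℤ, (shiftFunctor D n).Additive] [Pretriangulated D]
    {X Y : D} (f : X ⟶ Y) :
    HasKernel f ↔ ∃ (K Z Q : D) (e₁ : X ≅ K ⊞ Z) (e₂ : Y ≅ Z ⊞ Q),
      f = e₁.hom ≫ biprod.snd ≫ biprod.inl ≫ e₂.inv := by
  exact aux f

end Groth.Agent.S6594
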