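import Groth.Statements.S6596
import Groth.Agent.S6595

set_option autoImplicit false
universe v u
open CategoryTheory CategoryTheory.Limits
open CohDer

namespace Groth.Agent.S6596

set_option backward.defeqAttrib.useBackward true in
set_option backward.isDefEq.respectTransparency false in
open CategoryTheory.Pretriangulated in
theorem aux {D : Type u} [Category.{v} D] [Preadditive D] [HasZeroObject D] [HasShift D ℤ]
    [∀ n : ℤ, (shiftFunctor D n).Additive] [Pretriangulated D]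
    (X X' : ChainComplex D ℕ) (φ : X ⟶ X') (n : ℕ)
    (Y : ℕ → D) (a : ∀ k, Y k ⟶ X.X k) (b : ∀ k, X.X (k + 1) ⟶ Y k)
    (c : ∀ k, Y k ⟶ (shiftFunctor D (1 : ℤ)).obj (Y (k + 1)))
    (h0 : IsIso (a 0))
    (hP : ∀ k, k < n → Triangle.mk (a (k + 1)) (b k) (c k) ∈ distinguishedTriangles ∧ b k ≫ a k = X.d (k + 1) k)
    (qY : ℕ → D) (qa : ∀ k, qY k ⟶ X'.X k) (qb : ∀ k, X'.X (k + 1) ⟶ qY k)
    (qc : ∀ k, qY k ⟶ (shiftFunctor D (1 : ℤ)).obj (qY (k + 1)))
    (qh0 : IsIso (qa 0))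
    (qhP : ∀ k, k < n → Triangle.mk (qa (k + 1)) (qb k) (qc k) ∈ distinguishedTriangles ∧ qb k ≫ qa k = X'.d (k + 1) k)
    (hX : ∀ i j : ℕ, j + 1 < i → i ≤ n → ∀ ψ : (shiftFunctor D ((i : ℤ) - j - 1)).obj (X.X i) ⟶ X'.X j, ψ = 0)
    (m : ℕ) (hm : m ≤ n) :
    ∃ y : ∀ k, Y k ⟶ qY k,
      (∀ k, k ≤ m → y k ≫ qa k = a k ≫ φ.f k) ∧
      (∀ k, k < m → b k ≫ y k = φ.f (k + 1) ≫ qb k ∧ c k ≫ (shiftFunctor D (1 : ℤ)).map (y (k + 1)) = y k ≫ qc k) := by
  induction m with
  | zero =>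
    refine ⟨fun k => if hk : k = 0 then a k ≫ φ.f k ≫ (by subst hk; exact inv (qa 0)) else 0, ?_, ?_⟩
    · intro k hk
      obtain rfl : k = 0 := by omega
      simp
    · intro k hk
      omega
  | succ m ih =>
    obtain ⟨y, hy1, hy2⟩ := ih (by omega)
    have hTm := hP m (by omega)
    have qhTm := qhP m (by omega)
    -- the middle square commutes
    have hsq : b m ≫ y m = φ.f (m + 1) ≫ qb m := by
      have h1 : (b m ≫ y m - φ.f (m + 1) ≫ qb m) ≫ qa m = 0 := by
        rw [Preadditive.sub_comp, Category.assoc, Category.assoc, hy1 m le_rfl, qhTm.2,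
          ← Category.assoc, hTm.2, φ.comm, sub_self]
      rw [← sub_eq_zero]
      cases m with
      | zero =>
        rw [← cancel_mono (qa 0), zero_comp]
        exact h1
      | succ m =>
        have qhT' := (qhP m (by omega)).1
        have h2 : (shiftFunctor D (1 : ℤ)).map (b (m + 1) ≫ y (m + 1) - φ.f (m + 1 + 1) ≫ qb (m + 1)) ≫
            (shiftFunctor D (1 : ℤ)).map (qa (m + 1)) = 0 := by
          rw [← Functor.map_comp, h1, Functor.map_zero]
        obtain ⟨g, hg⟩ := Triangle.coyoneda_exact₁ _ qhT' _ h2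
        dsimp at g hg
        have hm' : (((m + 1 + 1 : ℕ) : ℤ) - (m : ℤ) - 1) = 1 := by
          push_cast; omega
        have hg0 : g = 0 := by
          have := Groth.Agent.S6595.aux X X' n qY qa qb qc qh0 qhP hX m (m + 1 + 1) (by omega) (by omega)
          have key : ∀ (p : ℤ) (hp : p = 1)
              (H : ∀ ψ : (shiftFunctor D p).obj (X.X (m + 1 + 1)) ⟶ qY m, ψ = 0)
              (ψ : (shiftFunctor D (1 : ℤ)).obj (X.X (m + 1 + 1)) ⟶ qY m), ψ = 0 := by
            intro p hp H ψ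
            subst hp
            exact H ψ
          exact key _ hm' this g
        apply (shiftFunctor D (1 : ℤ)).map_injective
        rw [hg, hg0, zero_comp, Functor.map_zero]
    obtain ⟨ynew, hn1, hn2⟩ := complete_distinguished_triangle_morphism₁ _ _ hTm.1 qhTm.1
      (φ.f (m + 1)) (y m) hsq
    dsimp at ynew hn1 hn2
    refine ⟨Function.update y (m + 1) ynew, ?_, ?_⟩
    · intro k hk
      by_cases hk' : k = m + 1
      · subst hk'
        rw [Function.update_self]
        exact hn1.symm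
      · rw [Function.update_of_ne hk']
        exact hy1 k (by omega)
    · intro k hk
      by_cases hk' : k = m
      · subst hk'
        rw [Function.update_self, Function.update_of_ne (by omega)]
        exact ⟨hsq, hn2⟩
      · rw [Function.update_of_ne (by omega), Function.update_of_ne (by omega)]
        exact hy2 k (by omega)

open CategoryTheory.Pretriangulated in
/-- Let D be a triangulated category and φ : X ⟶ X' a morphism of chain complexes in D considered in
degrees ≤ n, where a Postnikov system for the complex X_n → … → X_0 consists of objects Y_k, an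
isomorphism Y_0 ⟶ X_0, and for 0 ≤ k < n distinguished triangles Y_{k+1} ⟶ X_{k+1} ⟶ Y_k ⟶
Y_{k+1}⟦1⟧ with X_{k+1} ⟶ Y_k ⟶ X_k the differential. Suppose X and X' carry Postnikov systems (Y,
a, b, c) and (Y', a', b', c'). If Hom(X_i⟦i - j - 1⟧, X'_j) = 0 for all j + 1 < i ≤ n, then φ
extends to a morphism of Postnikov systems: morphisms y_k : Y_k ⟶ Y'_k for k ≤ n forming, with the
φ_k, morphisms of the distinguished triangles and compatible with Y_0 ⟶ X_0 and Y'_0 ⟶ X'_0. -/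
theorem result {D : Type u} [Category.{v} D] [Preadditive D] [HasZeroObject D] [HasShift D ℤ]
    [∀ n : ℤ, (shiftFunctor D n).Additive] [Pretriangulated D] [IsTriangulated D]
    (X X' : ChainComplex D ℕ) (φ : X ⟶ X') (n : ℕ)
    (Y : ℕ → D) (a : ∀ k, Y k ⟶ X.X k) (b : ∀ k, X.X (k + 1) ⟶ Y k)
    (c : ∀ k, Y k ⟶ (shiftFunctor D (1 : ℤ)).obj (Y (k + 1)))
    (h0 : IsIso (a 0))
    (hP : ∀ k, k < n → Triangle.mk (a (k + 1)) (b k) (c k) ∈ distinguishedTriangles ∧ b k ≫ a k = X.d (k + 1) k)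
    (qY : ℕ → D) (qa : ∀ k, qY k ⟶ X'.X k) (qb : ∀ k, X'.X (k + 1) ⟶ qY k)
    (qc : ∀ k, qY k ⟶ (shiftFunctor D (1 : ℤ)).obj (qY (k + 1)))
    (qh0 : IsIso (qa 0))
    (qhP : ∀ k, k < n → Triangle.mk (qa (k + 1)) (qb k) (qc k) ∈ distinguishedTriangles ∧ qb k ≫ qa k = X'.d (k + 1) k)
    (hX : ∀ i j : ℕ, j + 1 < i → i ≤ n → ∀ ψ : (shiftFunctor D ((i : ℤ) - j - 1)).obj (X.X i) ⟶ X'.X j, ψ = 0) :
    ∃ y : ∀ k, Y k ⟶ qY k,
      (∀ k, k ≤ n → y k ≫ qa k = a k ≫ φ.f k) ∧
      (∀ k, k < n → b k ≫ y k = φ.f (k + 1) ≫ qb k ∧ c k ≫ (shiftFunctor D (1 : ℤ)).map (y (k + 1)) = y k ≫ qc k) := by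
  exact aux X X' φ n Y a b c h0 hP qY qa qb qc qh0 qhP hX n le_rfl

end Groth.Agent.S6596
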