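import Groth.Statements.S6597
-- import your own Groth.Agent.* helpers here

set_option autoImplicit false
universe v u
open CategoryTheory CategoryTheory.Limits
open CohDer

namespace Groth.Agent.S6597

set_option backward.defeqAttrib.useBackward true in
set_option backward.isDefEq.respectTransparency false in
open CategoryTheory.Pretriangulated in
theorem step {D : Type u} [Category.{v} D] [Preadditive D] [HasZeroObject D] [HasShift D ℤ]
    [∀ n : ℤ, (shiftFunctor D n).Additive] [Pretriangulated D]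
    {Y' X' Y qY qY' W : D} (a' : Y' ⟶ X') (b' : X' ⟶ Y) (c' : Y ⟶ (shiftFunctor D (1 : ℤ)).obj Y')
    (hT : Triangle.mk a' b' c' ∈ distinguishedTriangles)
    (δ : Y ⟶ qY) (δ' : Y' ⟶ qY') (qc : qY ⟶ (shiftFunctor D (1 : ℤ)).obj qY')
    (hc : c' ≫ (shiftFunctor D (1 : ℤ)).map δ' = δ ≫ qc)
    (q r : ℤ) (hqr : q + 1 = r)
    (h1 : ∀ s : (shiftFunctor D q).obj qY ⟶ W, (shiftFunctor D q).map δ ≫ s = 0)
    (h2 : ∀ ψ : (shiftFunctor D r).obj X' ⟶ W, ψ = 0)
    (t : (shiftFunctor D r).obj qY' ⟶ W) : (shiftFunctor D r).map δ' ≫ t = 0 := by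
  have hqr' : 1 + q = r := by omega
  let e := shiftFunctorAdd' D 1 q r hqr'
  rw [← cancel_epi (e.inv.app Y')]
  rw [comp_zero]
  have hnat : e.inv.app Y' ≫ (shiftFunctor D r).map δ' =
      (shiftFunctor D q).map ((shiftFunctor D (1 : ℤ)).map δ') ≫ e.inv.app qY' :=
    (e.inv.naturality δ').symm
  rw [← Category.assoc, hnat, Category.assoc]
  have hT' := Triangle.shift_distinguished _ (rot_of_distTriang _ hT) q
  have hf : ((Triangle.shiftFunctor D q).obj (Triangle.mk a' b' c').rotate).mor₂ ≫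
      ((shiftFunctor D q).map ((shiftFunctor D (1 : ℤ)).map δ') ≫ e.inv.app qY' ≫ t) = 0 := by
    dsimp
    rw [Linear.units_smul_comp, ← Category.assoc, ← Functor.map_comp, hc, Functor.map_comp,
      Category.assoc, h1, smul_zero]
  obtain ⟨g, hg⟩ := Triangle.yoneda_exact₃ _ hT' _ hf
  dsimp at g hg
  have hg0 : g = 0 := by
    rw [← cancel_epi ((shiftFunctorAdd' D q 1 r hqr).hom.app X'), comp_zero]
    exact h2 _
  rw [hg, hg0, comp_zero]

set_option backward.defeqAttrib.useBackward true in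
set_option backward.isDefEq.respectTransparency false in
open CategoryTheory.Pretriangulated in
theorem aux {D : Type u} [Category.{v} D] [Preadditive D] [HasZeroObject D] [HasShift D ℤ]
    [∀ n : ℤ, (shiftFunctor D n).Additive] [Pretriangulated D]
    (X X' : ChainComplex D ℕ) (φ : X ⟶ X') (n : ℕ)
    (Y : ℕ → D) (a : ∀ k, Y k ⟶ X.X k) (b : ∀ k, X.X (k + 1) ⟶ Y k)
    (c : ∀ k, Y k ⟶ (shiftFunctor D (1 : ℤ)).obj (Y (k + 1)))
    (hP : ∀ k, k < n → Triangle.mk (a (k + 1)) (b k) (c k) ∈ distinguishedTriangles ∧ b k ≫ a k = X.d (k + 1) k)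
    (qY : ℕ → D) (qa : ∀ k, qY k ⟶ X'.X k)
    (qc : ∀ k, qY k ⟶ (shiftFunctor D (1 : ℤ)).obj (qY (k + 1)))
    (qh0 : IsIso (qa 0))
    (hv : ∀ i : ℕ, 1 ≤ i → i ≤ n → ∀ ψ : (shiftFunctor D (i : ℤ)).obj (X.X i) ⟶ (shiftFunctor D (n : ℤ)).obj (qY n), ψ = 0)
    (y z : ∀ k, Y k ⟶ qY k)
    (hy1 : ∀ k, k ≤ n → y k ≫ qa k = a k ≫ φ.f k)
    (hy2 : ∀ k, k < n → c k ≫ (shiftFunctor D (1 : ℤ)).map (y (k + 1)) = y k ≫ qc k)
    (hz1 : ∀ k, k ≤ n → z k ≫ qa k = a k ≫ φ.f k)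
    (hz2 : ∀ k, k < n → c k ≫ (shiftFunctor D (1 : ℤ)).map (z (k + 1)) = z k ≫ qc k) :
    y n = z n := by
  have T : ∀ k, k ≤ n → ∀ (W : D) (p : ℤ)
      (hW : ∀ i : ℕ, 1 ≤ i → i ≤ k → ∀ ψ : (shiftFunctor D (p + (i : ℤ))).obj (X.X i) ⟶ W, ψ = 0)
      (t : (shiftFunctor D (p + (k : ℤ))).obj (qY k) ⟶ W),
      (shiftFunctor D (p + (k : ℤ))).map (y k - z k) ≫ t = 0 := by
    intro k
    induction k with
    | zero =>
      intro _ W p hW t
      have : y 0 - z 0 = 0 := by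
        rw [← cancel_mono (qa 0), zero_comp, Preadditive.sub_comp, hy1 0 (by omega),
          hz1 0 (by omega), sub_self]
      rw [this, Functor.map_zero, zero_comp]
    | succ k ih =>
      intro hk W p hW t
      have hTk := (hP k (by omega)).1
      refine step (a (k + 1)) (b k) (c k) hTk (y k - z k) (y (k + 1) - z (k + 1)) (qc k) ?_
        (p + (k : ℤ)) (p + ((k + 1 : ℕ) : ℤ)) (by push_cast; omega) ?_ ?_ t
      · rw [Functor.map_sub, Preadditive.comp_sub, Preadditive.sub_comp, hy2 k (by omega),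
          hz2 k (by omega)]
      · intro s
        exact ih (by omega) W p (fun i h1 h2 => hW i h1 (by omega)) s
      · exact hW (k + 1) (by omega) le_rfl
  have key : ∀ (Z W : D) (p q : ℤ) (hpq : p = q)
      (H : ∀ ψ : (shiftFunctor D p).obj Z ⟶ W, ψ = 0)
      (ψ : (shiftFunctor D q).obj Z ⟶ W), ψ = 0 := by
    intro Z W p q hpq H ψ
    subst hpq
    exact H ψ
  have h := T n le_rfl ((shiftFunctor D (n : ℤ)).obj (qY n)) 0
    (fun i h1 h2 => key _ _ _ _ (zero_add _).symm (hv i h1 h2))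
    (eqToHom (by rw [zero_add]))
  have h'' := (cancel_mono _).1 (h.trans zero_comp.symm)
  have h' : y n - z n = 0 := by
    apply (shiftFunctor D ((0 : ℤ) + (n : ℤ))).map_injective
    rw [Functor.map_zero]
    exact h''
  exact sub_eq_zero.mp h'

open CategoryTheory.Pretriangulated in
/-- Let D be a triangulated category, φ : X ⟶ X' a morphism of chain complexes in D considered in
degrees ≤ n, where a Postnikov system for the complex X_n → … → X_0 consists of objects Y_k, an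
isomorphism Y_0 ⟶ X_0, and for 0 ≤ k < n distinguished triangles Y_{k+1} ⟶ X_{k+1} ⟶ Y_k ⟶
Y_{k+1}⟦1⟧ with X_{k+1} ⟶ Y_k ⟶ X_k the differential; let (Y, a, b, c) and (Y', a', b', c') be
Postnikov systems for X and X'. If Hom(X_i⟦i⟧, Y'_n⟦n⟧) = 0 for i = 1, …, n, then two morphisms of
Postnikov systems extending φ agree on Y_n. (The published statement says there is at most one
morphism of Postnikov systems; the argument, by induction along Y_0 → Y_1⟦1⟧ → … → Y_n⟦n⟧,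
determines the component in degree n, which is what is asserted here.) -/
theorem result {D : Type u} [Category.{v} D] [Preadditive D] [HasZeroObject D] [HasShift D ℤ]
    [∀ n : ℤ, (shiftFunctor D n).Additive] [Pretriangulated D] [IsTriangulated D]
    (X X' : ChainComplex D ℕ) (φ : X ⟶ X') (n : ℕ)
    (Y : ℕ → D) (a : ∀ k, Y k ⟶ X.X k) (b : ∀ k, X.X (k + 1) ⟶ Y k)
    (c : ∀ k, Y k ⟶ (shiftFunctor D (1 : ℤ)).obj (Y (k + 1)))
    (h0 : IsIso (a 0))
    (hP : ∀ k, k < n → Triangle.mk (a (k + 1)) (b k) (c k) ∈ distinguishedTriangles ∧ b k ≫ a k = X.d (k + 1) k)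
    (qY : ℕ → D) (qa : ∀ k, qY k ⟶ X'.X k) (qb : ∀ k, X'.X (k + 1) ⟶ qY k)
    (qc : ∀ k, qY k ⟶ (shiftFunctor D (1 : ℤ)).obj (qY (k + 1)))
    (qh0 : IsIso (qa 0))
    (qhP : ∀ k, k < n → Triangle.mk (qa (k + 1)) (qb k) (qc k) ∈ distinguishedTriangles ∧ qb k ≫ qa k = X'.d (k + 1) k)
    (hv : ∀ i : ℕ, 1 ≤ i → i ≤ n → ∀ ψ : (shiftFunctor D (i : ℤ)).obj (X.X i) ⟶ (shiftFunctor D (n : ℤ)).obj (qY n), ψ = 0)
    (y z : ∀ k, Y k ⟶ qY k)
    (hy : (∀ k, k ≤ n → y k ≫ qa k = a k ≫ φ.f k) ∧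
      (∀ k, k < n → b k ≫ y k = φ.f (k + 1) ≫ qb k ∧ c k ≫ (shiftFunctor D (1 : ℤ)).map (y (k + 1)) = y k ≫ qc k))
    (hz : (∀ k, k ≤ n → z k ≫ qa k = a k ≫ φ.f k) ∧
      (∀ k, k < n → b k ≫ z k = φ.f (k + 1) ≫ qb k ∧ c k ≫ (shiftFunctor D (1 : ℤ)).map (z (k + 1)) = z k ≫ qc k)) :
    y n = z n := by
  exact aux X X' φ n Y a b c hP qY qa qc qh0 hv y z hy.1 (fun k hk => (hy.2 k hk).2) hz.1 (fun k hk => (hz.2 k hk).2)

end Groth.Agent.S6597
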