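import Groth.Statements.S6598
import Mathlib.Algebra.Homology.HomotopyCategory.MappingCone
import Mathlib.Algebra.Homology.HomologicalComplexBiprod
import Mathlib.Algebra.Homology.Factorizations.CM5b

set_option autoImplicit false
universe v u
open CategoryTheory CategoryTheory.Limits
open CohDer

namespace Groth.Agent.S6598

section
open CochainComplex HomComplex

variable {V : Type u} [Category.{v} V] [Preadditive V] [HasBinaryBiproducts V] [HasZeroObject V]
    (K L : CochainComplex V ℤ) (α : K ⟶ L)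

/-- the cylinder-like object -/
noncomputable abbrev L' : CochainComplex V ℤ := mappingCone (𝟙 K) ⊞ L

noncomputable abbrev α' : K ⟶ L' K L := biprod.lift (mappingCone.inr (𝟙 K)) α

noncomputable def htpy : Homotopy ((biprod.snd : L' K L ⟶ L) ≫ biprod.inr) (𝟙 (L' K L)) :=
  let h₀ : Homotopy (𝟙 (mappingCone (𝟙 K))) 0 :=
    mappingCone.liftHomotopy _ _ _ (mappingCone.snd _) 0 (by simp) (by simp)
  let h₁ := (h₀.compRight
    (biprod.inl : _ ⟶ mappingCone (𝟙 K) ⊞ L)).compLeft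
      (biprod.fst : mappingCone (𝟙 K) ⊞ L ⟶ _)
  let h₂ := Homotopy.add h₁ (Homotopy.refl (biprod.snd ≫ biprod.inr))
  (Homotopy.ofEq (by simp)).trans (h₂.symm.trans (Homotopy.ofEq (by simp)))

set_option backward.defeqAttrib.useBackward true in
set_option backward.isDefEq.respectTransparency false in
theorem termwise (n : ℤ) : ∃ (C : V) (e : (L' K L).X n ≅ K.X n ⊞ C), (α' K L α).f n ≫ e.hom = biprod.inl := by
  let p₁ : (L' K L).X n ⟶ (mappingCone (𝟙 K)).X n := (biprod.fst : L' K L ⟶ _).f n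
  let p₂ : (L' K L).X n ⟶ L.X n := (biprod.snd : L' K L ⟶ _).f n
  let i₁ : (mappingCone (𝟙 K)).X n ⟶ (L' K L).X n := (biprod.inl : _ ⟶ L' K L).f n
  let i₂ : L.X n ⟶ (L' K L).X n := (biprod.inr : _ ⟶ L' K L).f n
  have h11 : i₁ ≫ p₁ = 𝟙 _ := by simp [i₁, p₁, ← HomologicalComplex.comp_f]
  have h22 : i₂ ≫ p₂ = 𝟙 _ := by simp [i₂, p₂, ← HomologicalComplex.comp_f]
  have h12 : i₁ ≫ p₂ = 0 := by simp [i₁, p₂, ← HomologicalComplex.comp_f]
  have h21 : i₂ ≫ p₁ = 0 := by simp [i₂, p₁, ← HomologicalComplex.comp_f]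
  have htot : p₁ ≫ i₁ + p₂ ≫ i₂ = 𝟙 _ := by
    simp [i₁, i₂, p₁, p₂, ← HomologicalComplex.comp_f, ← HomologicalComplex.add_f_apply]
  let fstv : (mappingCone (𝟙 K)).X n ⟶ K.X (n + 1) := (mappingCone.fst (𝟙 K)).1.v n (n + 1) rfl
  let sndv : (mappingCone (𝟙 K)).X n ⟶ K.X n := (mappingCone.snd (𝟙 K)).v n n (add_zero n)
  let inlv : K.X (n + 1) ⟶ (mappingCone (𝟙 K)).X n := (mappingCone.inl (𝟙 K)).v (n + 1) n (by omega)
  let inrf : K.X n ⟶ (mappingCone (𝟙 K)).X n := (mappingCone.inr (𝟙 K)).f n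
  have g1 : inlv ≫ fstv = 𝟙 _ := mappingCone.inl_v_fst_v _ _ _ rfl
  have g2 : inlv ≫ sndv = 0 := mappingCone.inl_v_snd_v _ _ _ _
  have g3 : inrf ≫ fstv = 0 := mappingCone.inr_f_fst_v _ _ _ rfl
  have g4 : inrf ≫ sndv = 𝟙 _ := mappingCone.inr_f_snd_v _ _
  have gtot : fstv ≫ inlv + sndv ≫ inrf = 𝟙 _ := mappingCone.id_X _ _ _ rfl
  have a1 : (α' K L α).f n ≫ p₁ = inrf := by
    simp [p₁, inrf, ← HomologicalComplex.comp_f]
  have a2 : (α' K L α).f n ≫ p₂ = α.f n := by
    simp [p₂, ← HomologicalComplex.comp_f]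
  refine ⟨K.X (n + 1) ⊞ L.X n,
    { hom := biprod.lift (p₁ ≫ sndv) (biprod.lift (p₁ ≫ fstv) (p₂ - p₁ ≫ sndv ≫ α.f n))
      inv := biprod.desc (inrf ≫ i₁ + α.f n ≫ i₂) (biprod.desc (inlv ≫ i₁) i₂)
      hom_inv_id := ?_
      inv_hom_id := ?_ }, ?_⟩
  · rw [biprod.lift_desc, biprod.lift_desc]
    calc _ = p₁ ≫ (fstv ≫ inlv + sndv ≫ inrf) ≫ i₁ + p₂ ≫ i₂ := by
          simp only [Preadditive.comp_add, Preadditive.add_comp, Preadditive.sub_comp,
            Category.assoc]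
          abel
      _ = 𝟙 _ := by rw [gtot, Category.id_comp, htot]
  · ext <;> simp [h11, h12, h21, h22, g1, g2, g3, g4, reassoc_of% h11, reassoc_of% h12,
      reassoc_of% h21, reassoc_of% h22, reassoc_of% g1, reassoc_of% g2, reassoc_of% g3,
      reassoc_of% g4]
  · ext <;> simp [a1, a2, reassoc_of% a1, reassoc_of% a2, g3, g4, reassoc_of% g4]

theorem boundedBelow (a : ℤ) [K.IsStrictlyGE a] [L.IsStrictlyGE a] : (L' K L).IsStrictlyGE (a - 1) := by
  rw [isStrictlyGE_iff]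
  intro i hi
  refine IsZero.of_iso ?_ ((HomologicalComplex.eval V (ComplexShape.up ℤ) i).mapBiprod _ _)
  simp only [HomologicalComplex.eval_obj, biprod_isZero_iff, mappingCone.isZero_X_iff]
  exact ⟨⟨K.isZero_of_isStrictlyGE a _ (by omega), K.isZero_of_isStrictlyGE a _ (by omega)⟩,
    L.isZero_of_isStrictlyGE a i (by omega)⟩

theorem boundedAbove (a : ℤ) [K.IsStrictlyLE a] [L.IsStrictlyLE a] : (L' K L).IsStrictlyLE a := by
  rw [isStrictlyLE_iff]
  intro i hi
  refine IsZero.of_iso ?_ ((HomologicalComplex.eval V (ComplexShape.up ℤ) i).mapBiprod _ _)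
  simp only [HomologicalComplex.eval_obj, biprod_isZero_iff, mappingCone.isZero_X_iff]
  exact ⟨⟨K.isZero_of_isStrictlyLE a _ (by omega), K.isZero_of_isStrictlyLE a _ (by omega)⟩,
    L.isZero_of_isStrictlyLE a i (by omega)⟩

end

/-- Let α : K ⟶ L be a morphism of cochain complexes over an additive category. There is a factorization
K ⟶ L' ⟶ L of α such that (1) K ⟶ L' is a termwise split injection (in each degree isomorphic to the
inclusion of a direct summand) and (2) L' ⟶ L admits a section s : L ⟶ L' (s followed by L' ⟶ L is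
the identity) such that L' ⟶ L followed by s is homotopic to the identity of L'. Moreover if K and L
are both bounded below, resp. both bounded above, then L' may be chosen bounded below, resp. bounded
above. -/
theorem result {V : Type u} [Category.{v} V] [Preadditive V] [HasBinaryBiproducts V] [HasZeroObject V]
    (K L : CochainComplex V ℤ) (α : K ⟶ L) :
    ∃ (L' : CochainComplex V ℤ) (α' : K ⟶ L') (π : L' ⟶ L) (s : L ⟶ L'),
      α' ≫ π = α ∧ s ≫ π = 𝟙 L ∧ Nonempty (Homotopy (π ≫ s) (𝟙 L')) ∧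
      (∀ n : ℤ, ∃ (C : V) (e : L'.X n ≅ K.X n ⊞ C), α'.f n ≫ e.hom = biprod.inl) ∧
      (∀ a : ℤ, K.IsStrictlyGE a → L.IsStrictlyGE a → ∃ a' : ℤ, L'.IsStrictlyGE a') ∧
      (∀ a : ℤ, K.IsStrictlyLE a → L.IsStrictlyLE a → ∃ a' : ℤ, L'.IsStrictlyLE a') := by
  refine ⟨Groth.Agent.S6598.L' K L, Groth.Agent.S6598.α' K L α, biprod.snd, biprod.inr, by simp, by simp,
    ⟨htpy K L⟩, termwise K L α, ?_, ?_⟩
  · intro a _ _
    exact ⟨a - 1, boundedBelow K L a⟩
  · intro a _ _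
    exact ⟨a, boundedAbove K L a⟩

end Groth.Agent.S6598
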