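import Groth.Statements.S6599
import Mathlib.Algebra.Homology.HomotopyCategory.MappingCocone
import Mathlib.Algebra.Homology.HomologicalComplexBiprod
import Mathlib.Algebra.Homology.Factorizations.CM5b

set_option autoImplicit false
universe v u
open CategoryTheory CategoryTheory.Limits
open CohDer

namespace Groth.Agent.S6599

section
open CochainComplex HomComplex

variable {V : Type u} [Category.{v} V] [Preadditive V] [HasBinaryBiproducts V] [HasZeroObject V]
    (K L : CochainComplex V ℤ) (α : K ⟶ L)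

noncomputable abbrev K' : CochainComplex V ℤ := K ⊞ mappingCocone (𝟙 L)

noncomputable abbrev α' : K' K L ⟶ L := biprod.desc α (mappingCocone.fst (𝟙 L))

noncomputable def htpy : Homotopy ((biprod.fst : K' K L ⟶ K) ≫ biprod.inl) (𝟙 (K' K L)) :=
  let h₀ : Homotopy (𝟙 (mappingCone (𝟙 L))) 0 :=
    mappingCone.liftHomotopy _ _ _ (mappingCone.snd _) 0 (by simp) (by simp)
  let h₀' : Homotopy (𝟙 (mappingCocone (𝟙 L))) 0 :=
    (Homotopy.ofEq (by simp [mappingCocone])).trans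
      ((h₀.shift (-1)).trans (Homotopy.ofEq (by simp; rfl)))
  let h₁ := (h₀'.compRight
    (biprod.inr : _ ⟶ K ⊞ mappingCocone (𝟙 L))).compLeft
      (biprod.snd : K ⊞ mappingCocone (𝟙 L) ⟶ _)
  let h₂ := Homotopy.add (Homotopy.refl (biprod.fst ≫ biprod.inl)) h₁
  (Homotopy.ofEq (by simp)).trans (h₂.symm.trans (Homotopy.ofEq (by simp)))

set_option backward.defeqAttrib.useBackward true in
set_option backward.isDefEq.respectTransparency false in
theorem termwise (n : ℤ) : ∃ (C : V) (e : (K' K L).X n ≅ C ⊞ L.X n), e.inv ≫ (α' K L α).f n = biprod.snd := by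
  let p₁ : (K' K L).X n ⟶ K.X n := (biprod.fst : K' K L ⟶ _).f n
  let p₂ : (K' K L).X n ⟶ (mappingCocone (𝟙 L)).X n := (biprod.snd : K' K L ⟶ _).f n
  let i₁ : K.X n ⟶ (K' K L).X n := (biprod.inl : _ ⟶ K' K L).f n
  let i₂ : (mappingCocone (𝟙 L)).X n ⟶ (K' K L).X n := (biprod.inr : _ ⟶ K' K L).f n
  have h11 : i₁ ≫ p₁ = 𝟙 _ := by simp [i₁, p₁, ← HomologicalComplex.comp_f]
  have h22 : i₂ ≫ p₂ = 𝟙 _ := by simp [i₂, p₂, ← HomologicalComplex.comp_f]
  have h12 : i₁ ≫ p₂ = 0 := by simp [i₁, p₂, ← HomologicalComplex.comp_f]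
  have h21 : i₂ ≫ p₁ = 0 := by simp [i₂, p₁, ← HomologicalComplex.comp_f]
  have htot : p₁ ≫ i₁ + p₂ ≫ i₂ = 𝟙 _ := by
    simp [i₁, i₂, p₁, p₂, ← HomologicalComplex.comp_f, ← HomologicalComplex.add_f_apply]
  let fstf : (mappingCocone (𝟙 L)).X n ⟶ L.X n := (mappingCocone.fst (𝟙 L)).f n
  let sndv : (mappingCocone (𝟙 L)).X n ⟶ L.X (n + -1) := (mappingCocone.snd (𝟙 L)).v n (n + -1) rfl
  let inlv : L.X n ⟶ (mappingCocone (𝟙 L)).X n := (mappingCocone.inl (𝟙 L)).v n n (add_zero n)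
  let inrv : L.X (n + -1) ⟶ (mappingCocone (𝟙 L)).X n := (mappingCocone.inr (𝟙 L)).1.v (n + -1) n (by omega)
  have g1 : inlv ≫ fstf = 𝟙 _ := mappingCocone.inl_v_fst_f _ _
  have g2 : inlv ≫ sndv = 0 := mappingCocone.inl_v_snd_v _ _ _ rfl
  have g3 : inrv ≫ fstf = 0 := mappingCocone.inr_v_fst_f _ _ _ _
  have g4 : inrv ≫ sndv = 𝟙 _ := mappingCocone.inr_v_snd_v _ _ _ _
  have gtot : fstf ≫ inlv + sndv ≫ inrv = 𝟙 _ := mappingCocone.id_X _ _ _ rfl
  have b1 : i₁ ≫ (α' K L α).f n = α.f n := by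
    simp [i₁, ← HomologicalComplex.comp_f]
  have b2 : i₂ ≫ (α' K L α).f n = fstf := by
    simp [i₂, fstf, ← HomologicalComplex.comp_f]
  have b3 : (α' K L α).f n = p₁ ≫ α.f n + p₂ ≫ fstf := by
    calc (α' K L α).f n = (p₁ ≫ i₁ + p₂ ≫ i₂) ≫ (α' K L α).f n := by rw [htot, Category.id_comp]
      _ = _ := by rw [Preadditive.add_comp, Category.assoc, Category.assoc, b1, b2]
  refine ⟨K.X n ⊞ L.X (n + -1),
    { hom := biprod.lift (biprod.lift p₁ (p₂ ≫ sndv)) (p₁ ≫ α.f n + p₂ ≫ fstf)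
      inv := biprod.desc (biprod.desc (i₁ - α.f n ≫ inlv ≫ i₂) (inrv ≫ i₂)) (inlv ≫ i₂)
      hom_inv_id := ?_
      inv_hom_id := ?_ }, ?_⟩
  · rw [biprod.lift_desc, biprod.lift_desc]
    calc _ = p₁ ≫ i₁ + p₂ ≫ (fstf ≫ inlv + sndv ≫ inrv) ≫ i₂ := by
          simp only [Preadditive.comp_add, Preadditive.add_comp, Preadditive.comp_sub,
            Category.assoc]
          abel
      _ = 𝟙 _ := by rw [gtot, Category.id_comp, htot]
  · ext <;> simp [h11, h12, h21, h22, g1, g2, g3, g4, reassoc_of% h11, reassoc_of% h12,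
      reassoc_of% h21, reassoc_of% h22, reassoc_of% g1, reassoc_of% g2, reassoc_of% g3,
      reassoc_of% g4]
  · rw [b3]
    ext <;> simp [h11, h12, h21, h22, g1, g2, g3, g4, reassoc_of% h11, reassoc_of% h12,
      reassoc_of% h21, reassoc_of% h22, reassoc_of% g1, reassoc_of% g2, reassoc_of% g3,
      reassoc_of% g4]

theorem isZero_cocone_X (i : ℤ) (h1 : IsZero (L.X i)) (h2 : IsZero (L.X (i + -1))) :
    IsZero ((mappingCocone (𝟙 L)).X i) := by
  change IsZero ((mappingCone (𝟙 L)).X (i + -1))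
  rw [mappingCone.isZero_X_iff]
  refine ⟨?_, h2⟩
  have : i + -1 + 1 = i := by omega
  rw [this]
  exact h1

theorem boundedBelow (a : ℤ) [K.IsStrictlyGE a] [L.IsStrictlyGE a] : (K' K L).IsStrictlyGE a := by
  rw [isStrictlyGE_iff]
  intro i hi
  refine IsZero.of_iso ?_ ((HomologicalComplex.eval V (ComplexShape.up ℤ) i).mapBiprod _ _)
  simp only [HomologicalComplex.eval_obj, biprod_isZero_iff]
  exact ⟨K.isZero_of_isStrictlyGE a _ (by omega), isZero_cocone_X L i
    (L.isZero_of_isStrictlyGE a _ (by omega)) (L.isZero_of_isStrictlyGE a _ (by omega))⟩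

theorem boundedAbove (a : ℤ) [K.IsStrictlyLE a] [L.IsStrictlyLE a] : (K' K L).IsStrictlyLE (a + 1) := by
  rw [isStrictlyLE_iff]
  intro i hi
  refine IsZero.of_iso ?_ ((HomologicalComplex.eval V (ComplexShape.up ℤ) i).mapBiprod _ _)
  simp only [HomologicalComplex.eval_obj, biprod_isZero_iff]
  exact ⟨K.isZero_of_isStrictlyLE a _ (by omega), isZero_cocone_X L i
    (L.isZero_of_isStrictlyLE a _ (by omega)) (L.isZero_of_isStrictlyLE a _ (by omega))⟩

end

/-- Let α : K ⟶ L be a morphism of cochain complexes over an additive category. There is a factorization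
K ⟶ K' ⟶ L of α such that (1) K' ⟶ L is a termwise split surjection (in each degree isomorphic to
the projection onto a direct summand) and (2) K ⟶ K' admits a retraction s : K' ⟶ K (K ⟶ K' followed
by s is the identity) such that s followed by K ⟶ K' is homotopic to the identity of K'. Moreover if
K and L are both bounded below, resp. both bounded above, then K' may be chosen bounded below, resp.
bounded above. -/
theorem result {V : Type u} [Category.{v} V] [Preadditive V] [HasBinaryBiproducts V] [HasZeroObject V]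
    (K L : CochainComplex V ℤ) (α : K ⟶ L) :
    ∃ (K' : CochainComplex V ℤ) (i : K ⟶ K') (α' : K' ⟶ L) (s : K' ⟶ K),
      i ≫ α' = α ∧ i ≫ s = 𝟙 K ∧ Nonempty (Homotopy (s ≫ i) (𝟙 K')) ∧
      (∀ n : ℤ, ∃ (C : V) (e : K'.X n ≅ C ⊞ L.X n), e.inv ≫ α'.f n = biprod.snd) ∧
      (∀ a : ℤ, K.IsStrictlyGE a → L.IsStrictlyGE a → ∃ a' : ℤ, K'.IsStrictlyGE a') ∧
      (∀ a : ℤ, K.IsStrictlyLE a → L.IsStrictlyLE a → ∃ a' : ℤ, K'.IsStrictlyLE a') := by
  refine ⟨Groth.Agent.S6599.K' K L, biprod.inl, Groth.Agent.S6599.α' K L α, biprod.fst, by simp, by simp,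
    ⟨htpy K L⟩, termwise K L α, ?_, ?_⟩
  · intro a _ _
    exact ⟨a, boundedBelow K L a⟩
  · intro a _ _
    exact ⟨a + 1, boundedAbove K L a⟩

end Groth.Agent.S6599
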