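import Groth.Statements.S6600
-- import your own Groth.Agent.* helpers here

set_option autoImplicit false
universe v u
open CategoryTheory CategoryTheory.Limits
open CohDer

namespace Groth.Agent.S6600

set_option backward.defeqAttrib.useBackward true in
set_option backward.isDefEq.respectTransparency false in
open CategoryTheory.Pretriangulated in
theorem aux {D : Type u} [Category.{v} D] [Preadditive D] [HasZeroObject D] [HasShift D ℤ]
    [∀ n : ℤ, (shiftFunctor D n).Additive] [Pretriangulated D]
    (P : ObjectProperty D) [P.IsStableUnderShift ℤ] (T : Triangle D) (hT : T ∈ distinguishedTriangles) :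
    P.rightOrthogonal T.obj₃ ↔ ∀ A : D, P A → Function.Bijective (fun u : A ⟶ T.obj₁ => u ≫ T.mor₁) := by
  constructor
  · intro hZ A hA
    constructor
    · intro u u' huu'
      dsimp at huu'
      have h0 : (u - u') ≫ T.mor₁ = 0 := by rw [Preadditive.sub_comp, huu', sub_self]
      obtain ⟨w, hw⟩ := Triangle.coyoneda_exact₂ _ (inv_rot_of_distTriang _ hT) (u - u') h0
      have hw0 : w = 0 := by
        apply (shiftFunctor D (1 : ℤ)).map_injective
        rw [Functor.map_zero, ← cancel_mono ((shiftEquiv D (1 : ℤ)).counitIso.hom.app T.obj₃), zero_comp]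
        exact hZ _ (P.le_shift (1 : ℤ) _ hA)
      rw [hw0, zero_comp] at hw
      exact sub_eq_zero.mp hw
    · intro v
      obtain ⟨u, hu⟩ := Triangle.coyoneda_exact₂ _ hT v (hZ _ hA)
      exact ⟨u, hu.symm⟩
  · intro H A φ hA
    have h1 : φ ≫ T.mor₃ = 0 := by
      have hA' : P ((shiftFunctor D (-1 : ℤ)).obj A) := P.le_shift (-1 : ℤ) _ hA
      have hinj := (H _ hA').1
      have : ((shiftFunctor D (-1 : ℤ)).map (φ ≫ T.mor₃) ≫
          (shiftEquiv D (1 : ℤ)).unitIso.inv.app T.obj₁) = 0 := by
        apply hinj
        dsimp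
        rw [zero_comp, Category.assoc]
        have nat := (shiftEquiv D (1 : ℤ)).unitIso.inv.naturality T.mor₁
        dsimp at nat
        rw [← nat, ← Functor.map_comp_assoc, Category.assoc, comp_distTriang_mor_zero₃₁ _ hT,
          comp_zero, Functor.map_zero, zero_comp]
      have this' : (shiftFunctor D (-1 : ℤ)).map (φ ≫ T.mor₃) = 0 :=
        (Preadditive.IsIso.comp_right_eq_zero _ _).mp this
      exact (shiftFunctor D (-1 : ℤ)).map_injective (by rw [this', Functor.map_zero])
    obtain ⟨v, hv⟩ := Triangle.coyoneda_exact₃ _ hT φ h1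
    obtain ⟨u, hu⟩ := (H _ hA).2 v
    dsimp at hu
    rw [hv, ← hu, Category.assoc, comp_distTriang_mor_zero₁₂ _ hT, comp_zero]

open CategoryTheory.Pretriangulated in
/-- Let D be a triangulated category, A ⊂ D a full subcategory invariant under all shifts, and X → Y → Z
→ X⟦1⟧ a distinguished triangle. Then Z lies in the right orthogonal A^⊥ if and only if Hom(A, X) →
Hom(A, Y) is bijective for every object A of A. -/
theorem result {D : Type u} [Category.{v} D] [Preadditive D] [HasZeroObject D] [HasShift D ℤ]
    [∀ n : ℤ, (shiftFunctor D n).Additive] [Pretriangulated D] [IsTriangulated D]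
    (P : ObjectProperty D) [P.IsStableUnderShift ℤ] (T : Triangle D) (hT : T ∈ distinguishedTriangles) :
    P.rightOrthogonal T.obj₃ ↔ ∀ A : D, P A → Function.Bijective (fun u : A ⟶ T.obj₁ => u ≫ T.mor₁) := by
  exact aux P T hT

end Groth.Agent.S6600
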