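import Groth.Statements.S6601
-- import your own Groth.Agent.* helpers here

set_option autoImplicit false
universe v u
open CategoryTheory CategoryTheory.Limits
open CohDer

namespace Groth.Agent.S6601

set_option backward.defeqAttrib.useBackward true in
set_option backward.isDefEq.respectTransparency false in
open CategoryTheory.Pretriangulated in
theorem aux {D : Type u} [Category.{v} D] [Preadditive D] [HasZeroObject D] [HasShift D ℤ]
    [∀ n : ℤ, (shiftFunctor D n).Additive] [Pretriangulated D]
    (P : ObjectProperty D) [P.IsStableUnderShift ℤ] (T : Triangle D) (hT : T ∈ distinguishedTriangles) :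
    P.leftOrthogonal T.obj₁ ↔ ∀ B : D, P B → Function.Bijective (fun u : T.obj₃ ⟶ B => T.mor₂ ≫ u) := by
  constructor
  · intro hX B hB
    constructor
    · intro u u' huu'
      dsimp at huu'
      have h0 : T.mor₂ ≫ (u - u') = 0 := by rw [Preadditive.comp_sub, huu', sub_self]
      obtain ⟨w, hw⟩ := Triangle.yoneda_exact₃ _ hT (u - u') h0
      have hw0 : w = 0 := by
        apply (shiftFunctor D (-1 : ℤ)).map_injective
        rw [Functor.map_zero, ← cancel_epi ((shiftEquiv D (1 : ℤ)).unitIso.hom.app T.obj₁), comp_zero]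
        exact hX _ (P.le_shift (-1 : ℤ) _ hB)
      rw [hw0, comp_zero] at hw
      exact sub_eq_zero.mp hw
    · intro v
      obtain ⟨u, hu⟩ := Triangle.yoneda_exact₂ _ hT v (hX _ hB)
      exact ⟨u, hu.symm⟩
  · intro H B φ hB
    have hB' : P ((shiftFunctor D (1 : ℤ)).obj B) := P.le_shift (1 : ℤ) _ hB
    have h1 : T.mor₃ ≫ (shiftFunctor D (1 : ℤ)).map φ = 0 := by
      apply (H _ hB').1
      dsimp
      rw [comp_zero, ← Category.assoc, comp_distTriang_mor_zero₂₃ _ hT, zero_comp]
    obtain ⟨w, hw⟩ := Triangle.yoneda_exact₃ _ (rot_of_distTriang _ hT)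
      ((shiftFunctor D (1 : ℤ)).map φ) h1
    dsimp at w hw
    obtain ⟨v, rfl⟩ := (shiftFunctor D (1 : ℤ)).map_surjective w
    obtain ⟨u, hu⟩ := (H _ hB).2 v
    dsimp at hu
    have : φ = -(T.mor₁ ≫ v) := by
      apply (shiftFunctor D (1 : ℤ)).map_injective
      rw [hw, Functor.map_neg, Functor.map_comp, Preadditive.neg_comp]
    rw [this, ← hu, ← Category.assoc, comp_distTriang_mor_zero₁₂ _ hT, zero_comp, neg_zero]

open CategoryTheory.Pretriangulated in
/-- Let D be a triangulated category, B ⊂ D a full subcategory invariant under all shifts, and X → Y → Z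
→ X⟦1⟧ a distinguished triangle. Then X lies in the left orthogonal ^⊥B if and only if Hom(Z, B) →
Hom(Y, B) is bijective for every object B of B. -/
theorem result {D : Type u} [Category.{v} D] [Preadditive D] [HasZeroObject D] [HasShift D ℤ]
    [∀ n : ℤ, (shiftFunctor D n).Additive] [Pretriangulated D] [IsTriangulated D]
    (P : ObjectProperty D) [P.IsStableUnderShift ℤ] (T : Triangle D) (hT : T ∈ distinguishedTriangles) :
    P.leftOrthogonal T.obj₁ ↔ ∀ B : D, P B → Function.Bijective (fun u : T.obj₃ ⟶ B => T.mor₂ ≫ u) := by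
  exact aux P T hT

end Groth.Agent.S6601
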