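import Groth.Statements.S6602
import Groth.Agent.S6601
import Mathlib.CategoryTheory.Adjunction.Comma

set_option autoImplicit false
universe v u
open CategoryTheory CategoryTheory.Limits
open CohDer

namespace Groth.Agent.S6602

set_option backward.defeqAttrib.useBackward true in
set_option backward.isDefEq.respectTransparency false in
open CategoryTheory.Pretriangulated in
theorem aux {D : Type u} [Category.{v} D] [Preadditive D] [HasZeroObject D] [HasShift D ℤ]
    [∀ n : ℤ, (shiftFunctor D n).Additive] [Pretriangulated D] [IsTriangulated D]
    (P : ObjectProperty D) [P.IsTriangulated] :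
    P.ι.IsRightAdjoint ↔ ∀ X : D, ∃ (A B : D) (f : A ⟶ X) (g : X ⟶ B) (h : B ⟶ (shiftFunctor D (1 : ℤ)).obj A),
      Triangle.mk f g h ∈ distinguishedTriangles ∧ P B ∧ P.leftOrthogonal A := by
  constructor
  · intro hR X
    let adj := Adjunction.ofIsRightAdjoint P.ι
    let B := (P.ι.leftAdjoint).obj X
    let g : X ⟶ B.obj := adj.unit.app X
    obtain ⟨A, f, h, hT⟩ := distinguished_cocone_triangle₁ g
    refine ⟨A, B.obj, f, g, h, hT, B.property, ?_⟩
    have := (Groth.Agent.S6601.aux P _ hT).2
    apply this
    intro B' hB'
    dsimp
    constructor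
    · intro u u' huu'
      dsimp at huu'
      have h1 : ObjectProperty.homMk (P := P) (X := B) (Y := ⟨B', hB'⟩) u =
          ObjectProperty.homMk (P := P) (X := B) (Y := ⟨B', hB'⟩) u' := by
        apply (adj.homEquiv X ⟨B', hB'⟩).injective
        rw [Adjunction.homEquiv_unit, Adjunction.homEquiv_unit]
        exact huu'
      exact congrArg (fun t => t.hom) h1
    · intro v
      refine ⟨((adj.homEquiv X ⟨B', hB'⟩).symm v).hom, ?_⟩
      have := (adj.homEquiv X ⟨B', hB'⟩).apply_symm_apply v
      rw [Adjunction.homEquiv_unit] at this
      exact this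
  · intro H
    have : ∀ X : D, HasInitial (StructuredArrow X P.ι) := by
      intro X
      obtain ⟨A, B, f, g, h, hT, hB, hA⟩ := H X
      have hbij := (Groth.Agent.S6601.aux P _ hT).1 hA
      dsimp at hbij
      let I : StructuredArrow X P.ι := StructuredArrow.mk (Y := (⟨B, hB⟩ : P.FullSubcategory)) g
      have h1 : ∀ Y, Nonempty (I ⟶ Y) := by
        intro Y
        obtain ⟨u, hu⟩ := (hbij Y.right.obj Y.right.property).2 Y.hom
        exact ⟨StructuredArrow.homMk (ObjectProperty.homMk u) hu⟩
      have h2 : ∀ Y, Subsingleton (I ⟶ Y) := by
        intro Y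
        constructor
        intro m m'
        apply StructuredArrow.ext
        apply ObjectProperty.hom_ext
        apply (hbij Y.right.obj Y.right.property).1
        dsimp
        have e1 := StructuredArrow.w m
        have e2 := StructuredArrow.w m'
        dsimp [I] at e1 e2
        rw [e1, e2]
      exact hasInitial_of_unique I
    exact isRightAdjointOfStructuredArrowInitials _

open CategoryTheory.Pretriangulated in
/-- (1) ⇔ (2): let D be a triangulated category and B a full triangulated subcategory. The inclusion
functor B → D has a left adjoint if and only if for every X in D there is a distinguished triangle A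
→ X → B → A⟦1⟧ with B in B and A in the left orthogonal ^⊥B. (The published statement further
asserts that B is then saturated and, when strictly full, equals the right orthogonal of its left
orthogonal; this row asserts only the equivalence.) -/
theorem result {D : Type u} [Category.{v} D] [Preadditive D] [HasZeroObject D] [HasShift D ℤ]
    [∀ n : ℤ, (shiftFunctor D n).Additive] [Pretriangulated D] [IsTriangulated D]
    (P : ObjectProperty D) [P.IsTriangulated] :
    P.ι.IsRightAdjoint ↔ ∀ X : D, ∃ (A B : D) (f : A ⟶ X) (g : X ⟶ B) (h : B ⟶ (shiftFunctor D (1 : ℤ)).obj A),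
      Triangle.mk f g h ∈ distinguishedTriangles ∧ P B ∧ P.leftOrthogonal A := by
  exact aux P

end Groth.Agent.S6602
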