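import Groth.Statements.S6603
-- import your own Groth.Agent.* helpers here

set_option autoImplicit false
universe v u v' u'
open CategoryTheory CategoryTheory.Limits
open CohDer

namespace Groth.Agent.S6603

section
open CategoryTheory.Pretriangulated ZeroObject

variable {D : Type u} [Category.{v} D] [Preadditive D] [HasZeroObject D] [HasShift D ℤ]
    [∀ n : ℤ, (shiftFunctor D n).Additive] [Pretriangulated D]
    (S : MorphismProperty D) [S.HasLeftCalculusOfFractions] [S.HasRightCalculusOfFractions]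
    [S.IsCompatibleWithTriangulation]
    {E : Type u'} [Category.{v'} E] (Q : D ⥤ E) [Q.IsLocalization S] (Z : D)

include S in
theorem part_a : IsZero (Q.obj Z) ↔ ∃ Z' : D, S (0 : Z ⟶ Z') := by
  letI := Localization.preadditive Q S
  haveI := Localization.functor_additive Q S
  constructor
  · intro h
    have h1 : Q.map (𝟙 Z) = Q.map (0 : Z ⟶ Z) := h.eq_of_src _ _
    obtain ⟨W', s, hs, e⟩ := (MorphismProperty.map_eq_iff_postcomp Q S (𝟙 Z) 0).mp h1
    have hs0 : s = 0 := by simpa using e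
    subst hs0
    exact ⟨W', hs⟩
  · rintro ⟨Z', h⟩
    have : IsIso (Q.map (0 : Z ⟶ Z')) := Localization.inverts Q S _ h
    have h0 : Q.map (0 : Z ⟶ Z') = 0 := Q.map_zero _ _
    rw [IsZero.iff_id_eq_zero, ← IsIso.hom_inv_id (Q.map (0 : Z ⟶ Z'))]
    generalize inv (Q.map (0 : Z ⟶ Z')) = i
    rw [h0, zero_comp]

include S in
theorem part_b : IsZero (Q.obj Z) ↔ ∃ Z' : D, S (0 : Z' ⟶ Z) := by
  letI := Localization.preadditive Q S
  haveI := Localization.functor_additive Q S
  constructor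
  · intro h
    have h1 : Q.map (𝟙 Z) = Q.map (0 : Z ⟶ Z) := h.eq_of_src _ _
    obtain ⟨W', s, hs, e⟩ := (MorphismProperty.map_eq_iff_precomp Q S (𝟙 Z) 0).mp h1
    have hs0 : s = 0 := by simpa using e
    subst hs0
    exact ⟨W', hs⟩
  · rintro ⟨Z', h⟩
    have : IsIso (Q.map (0 : Z' ⟶ Z)) := Localization.inverts Q S _ h
    have h0 : Q.map (0 : Z' ⟶ Z) = 0 := Q.map_zero _ _
    rw [IsZero.iff_id_eq_zero, ← IsIso.inv_hom_id (Q.map (0 : Z' ⟶ Z))]
    generalize inv (Q.map (0 : Z' ⟶ Z)) = i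
    rw [h0, comp_zero]

set_option backward.defeqAttrib.useBackward true in
set_option backward.isDefEq.respectTransparency false in
include S in
theorem part_c : IsZero (Q.obj Z) ↔ ∃ (Z' X Y : D) (f : X ⟶ Y) (g : Y ⟶ Z ⊞ Z')
      (h : Z ⊞ Z' ⟶ (shiftFunctor D (1 : ℤ)).obj X),
      Triangle.mk f g h ∈ distinguishedTriangles ∧ S f := by
  letI := Localization.preadditive Q S
  haveI := Localization.functor_additive Q S
  constructor
  · intro hZ
    obtain ⟨Z'', hs⟩ := (part_b S Q Z).mp hZ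
    obtain ⟨C, g, h, hT⟩ := distinguished_cocone_triangle (0 : Z'' ⟶ Z)
    obtain ⟨e, he1, he2⟩ := exists_iso_binaryBiproduct_of_distTriang _ (rot_of_distTriang _ hT)
      (by simp)
    refine ⟨_, Z'', Z, 0, g ≫ e.hom, e.inv ≫ h, ?_, hs⟩
    refine isomorphic_distinguished _ hT _ ?_
    exact Triangle.isoMk _ _ (Iso.refl _) (Iso.refl _) e.symm (by simp) (by simp) (by simp)
  · rintro ⟨Z', X, Y, f, g, h, hT, hf⟩
    obtain ⟨c, hc, -, -⟩ := MorphismProperty.compatible_with_triangulation (W := S) _ _ hT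
      (contractible_distinguished Y) f (𝟙 Y) hf (S.id_mem _) (by simp)
    have hc0 : c = 0 := (isZero_zero D).eq_of_tgt _ _
    have h0 : IsZero (Q.obj (Z ⊞ Z')) := (part_a S Q (Z ⊞ Z')).mpr ⟨_, hc0 ▸ hc⟩
    rw [IsZero.iff_id_eq_zero]
    have : 𝟙 (Q.obj Z) = Q.map biprod.inl ≫ Q.map (biprod.fst : Z ⊞ Z' ⟶ Z) := by
      rw [← Q.map_comp]; simp
    rw [this, h0.eq_of_tgt (Q.map _) 0, zero_comp]

end

open CategoryTheory.Pretriangulated in
/-- (1) ⇔ (2) ⇔ (3) ⇔ (4): let D be a pretriangulated category, S a multiplicative system compatible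
with the triangulated structure, and Q : D → S⁻¹D the localization functor. For an object Z of D the
following are equivalent: (1) Q(Z) = 0; (2) 0 : Z ⟶ Z' is in S for some Z'; (3) 0 : Z' ⟶ Z is in S
for some Z'; (4) there are an object Z' and a distinguished triangle (X, Y, Z ⊞ Z', f, g, h) with f
∈ S. (The further equivalences (5)–(7) for saturated S are not asserted.) -/
theorem result {D : Type u} [Category.{v} D] [Preadditive D] [HasZeroObject D] [HasShift D ℤ]
    [∀ n : ℤ, (shiftFunctor D n).Additive] [Pretriangulated D]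
    (S : MorphismProperty D) [S.HasLeftCalculusOfFractions] [S.HasRightCalculusOfFractions]
    [S.IsCompatibleWithTriangulation]
    {E : Type u'} [Category.{v'} E] (Q : D ⥤ E) [Q.IsLocalization S] (Z : D) :
    (IsZero (Q.obj Z) ↔ ∃ Z' : D, S (0 : Z ⟶ Z')) ∧
    (IsZero (Q.obj Z) ↔ ∃ Z' : D, S (0 : Z' ⟶ Z)) ∧
    (IsZero (Q.obj Z) ↔ ∃ (Z' X Y : D) (f : X ⟶ Y) (g : Y ⟶ Z ⊞ Z') (h : Z ⊞ Z' ⟶ (shiftFunctor D (1 : ℤ)).obj X),
      Triangle.mk f g h ∈ distinguishedTriangles ∧ S f) := by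
  exact ⟨part_a S Q Z, part_b S Q Z, part_c S Q Z⟩

end Groth.Agent.S6603
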