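import Groth.Statements.S6604
-- import your own Groth.Agent.* helpers here

set_option autoImplicit false
universe v u v' u'
open CategoryTheory CategoryTheory.Limits
open CohDer

namespace Groth.Agent.S6604

set_option backward.defeqAttrib.useBackward true in
set_option backward.isDefEq.respectTransparency false in
open CategoryTheory.Pretriangulated ZeroObject in
theorem aux {D : Type u} [Category.{v} D] [Preadditive D] [HasZeroObject D] [HasShift D ℤ]
    [∀ n : ℤ, (shiftFunctor D n).Additive] [Pretriangulated D] [IsTriangulated D]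
    (B : ObjectProperty D) [B.IsTriangulated]
    {E : Type u'} [Category.{v'} E] (Q : D ⥤ E) [Q.IsLocalization B.trW] (Z : D) :
    IsZero (Q.obj Z) ↔ ∃ (Z' Y : D), B Y ∧ Nonempty (Z ⊞ Z' ≅ Y) := by
  letI := Localization.preadditive Q B.trW
  haveI := Localization.functor_additive Q B.trW
  constructor
  · intro h
    have h1 : Q.map (𝟙 Z) = Q.map (0 : Z ⟶ Z) := h.eq_of_src _ _
    obtain ⟨W', s, hs, e⟩ := (MorphismProperty.map_eq_iff_postcomp Q B.trW (𝟙 Z) 0).mp h1
    have hs0 : s = 0 := by simpa using e
    subst hs0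
    rw [ObjectProperty.trW_iff'] at hs
    obtain ⟨X, f, h', hT, hX⟩ := hs
    have hT' := inv_rot_of_distTriang _ hT
    obtain ⟨e, -, -⟩ := exists_iso_binaryBiproduct_of_distTriang _ hT' (by simp)
    exact ⟨_, X, hX, ⟨(biprod.braiding _ _) ≪≫ e.symm⟩⟩
  · rintro ⟨Z', Y, hY, ⟨e⟩⟩
    have hY0 : IsZero (Q.obj Y) := by
      have h0 : B.trW (0 : (0 : D) ⟶ Y) :=
        ObjectProperty.trW.mk B (contractible_distinguished₁ Y) hY
      have : IsIso (Q.map (0 : (0 : D) ⟶ Y)) := Localization.inverts Q B.trW _ h0
      exact IsZero.of_iso (Q.map_isZero (isZero_zero D)) (asIso (Q.map (0 : (0 : D) ⟶ Y))).symm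
    rw [IsZero.iff_id_eq_zero]
    have : 𝟙 (Q.obj Z) = Q.map (biprod.inl ≫ e.hom) ≫ Q.map (e.inv ≫ biprod.fst) := by
      rw [← Q.map_comp]; simp
    rw [this, hY0.eq_of_tgt (Q.map _) 0, zero_comp]

/-- Let D be a triangulated category, B a full triangulated subcategory and Q : D → D/B the quotient
functor. Q sends an object Z of D to zero (Q(Z) = 0, i.e. Z belongs to the kernel of Q) exactly
when, for a suitable object Z' of D, the direct sum Z ⊞ Z' is isomorphic to some object lying in B;
put differently, the kernel is the smallest saturated, strictly full triangulated subcategory that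
contains B. -/
theorem result {D : Type u} [Category.{v} D] [Preadditive D] [HasZeroObject D] [HasShift D ℤ]
    [∀ n : ℤ, (shiftFunctor D n).Additive] [Pretriangulated D] [IsTriangulated D]
    (B : ObjectProperty D) [B.IsTriangulated]
    {E : Type u'} [Category.{v'} E] (Q : D ⥤ E) [Q.IsLocalization B.trW] (Z : D) :
    IsZero (Q.obj Z) ↔ ∃ (Z' Y : D), B Y ∧ Nonempty (Z ⊞ Z' ≅ Y) := by
  exact aux B Q Z

end Groth.Agent.S6604
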