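import Groth.Statements.S6606
import Groth.Agent.Lib.Helper3.ProjNullHomotopy

set_option autoImplicit false
universe v u
open CategoryTheory CategoryTheory.Limits
open CohDer

namespace Groth.Agent.S6606

set_option backward.defeqAttrib.useBackward true in
set_option backward.isDefEq.respectTransparency false in
open CategoryTheory.Pretriangulated CochainComplex in
theorem aux {A : Type u} [Category.{v} A] [Abelian A]
    (P E L : CochainComplex A ℤ) (β : P ⟶ L) (α : E ⟶ L) (n b : ℤ) [P.IsStrictlyGE n] [P.IsStrictlyLE b]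
    (hP : ∀ i : ℤ, Projective (P.X i))
    (hiso : ∀ i : ℤ, n < i → IsIso (HomologicalComplex.homologyMap α i)) (hepi : Epi (HomologicalComplex.homologyMap α n)) :
    ∃ γ : P ⟶ E, Nonempty (Homotopy (γ ≫ α) β) := by
  have hC : ∀ i : ℤ, n ≤ i → (mappingCone α).ExactAt i := by
    intro i hi
    have : IsIso (HomologicalComplex.homologyMap α (i + 1)) := hiso _ (by omega)
    refine Groth.Agent.Lib.Helper3.mappingCone_exactAt α i ?_ inferInstance
    obtain hi | rfl := hi.lt_or_eq
    · have := hiso i hi
      infer_instance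
    · exact hepi
  obtain ⟨H⟩ := Groth.Agent.Lib.Helper3.nonempty_homotopy_zero_of_projective
    (β ≫ mappingCone.inr α) n b hP hC
  have hT := HomotopyCategory.mappingCone_triangleh_distinguished α
  have h0 : (HomotopyCategory.quotient A (ComplexShape.up ℤ)).map β ≫
      (mappingCone.triangleh α).mor₂ = 0 := by
    have := HomotopyCategory.eq_of_homotopy _ _ H
    rw [Functor.map_comp, Functor.map_zero] at this
    exact this
  obtain ⟨g, hg⟩ := Triangle.coyoneda_exact₂ _ hT _ h0
  obtain ⟨γ, rfl⟩ := (HomotopyCategory.quotient A (ComplexShape.up ℤ)).map_surjective g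
  refine ⟨γ, ⟨HomotopyCategory.homotopyOfEq _ _ ?_⟩⟩
  rw [Functor.map_comp]
  exact hg.symm

/-- Let A be an abelian category, β : P ⟶ L and α : E ⟶ L morphisms of cochain complexes and n an
integer. Assume P is a bounded complex of projective objects with Pⁱ = 0 for i < n, and that Hⁱ(α)
is an isomorphism for i > n and an epimorphism for i = n. Then there is γ : P ⟶ E such that γ ≫ α is
homotopic to β. -/
theorem result {A : Type u} [Category.{v} A] [Abelian A]
    (P E L : CochainComplex A ℤ) (β : P ⟶ L) (α : E ⟶ L) (n b : ℤ) [P.IsStrictlyGE n] [P.IsStrictlyLE b]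
    (hP : ∀ i : ℤ, Projective (P.X i))
    (hiso : ∀ i : ℤ, n < i → IsIso (HomologicalComplex.homologyMap α i)) (hepi : Epi (HomologicalComplex.homologyMap α n)) :
    ∃ γ : P ⟶ E, Nonempty (Homotopy (γ ≫ α) β) := by
  exact aux P E L β α n b hP hiso hepi

end Groth.Agent.S6606
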