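import Groth.Statements.S6607
import Mathlib.CategoryTheory.Triangulated.Orthogonal

set_option autoImplicit false
universe v u
open CategoryTheory CategoryTheory.Limits
open CohDer

namespace Groth.Agent.S6607

set_option backward.defeqAttrib.useBackward true in
set_option backward.isDefEq.respectTransparency false in
open CategoryTheory.Pretriangulated ZeroObject in
theorem aux {D : Type u} [Category.{v} D] [Preadditive D] [HasZeroObject D] [HasShift D ℤ]
    [∀ n : ℤ, (shiftFunctor D n).Additive] [Pretriangulated D] [IsTriangulated D]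
    (B : ObjectProperty D) [B.IsTriangulated] :
    ObjectProperty.IsTriangulated (fun X : D => ∃ (A Y : D) (f : A ⟶ X) (g : X ⟶ Y) (h : Y ⟶ (shiftFunctor D (1 : ℤ)).obj A),
      Triangle.mk f g h ∈ distinguishedTriangles ∧ B Y ∧ B.leftOrthogonal A) := by
  have hshift : ObjectProperty.IsStableUnderShift (fun X : D => ∃ (A Y : D) (f : A ⟶ X) (g : X ⟶ Y) (h : Y ⟶ (shiftFunctor D (1 : ℤ)).obj A),
      Triangle.mk f g h ∈ distinguishedTriangles ∧ B Y ∧ B.leftOrthogonal A) ℤ := by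
    refine ⟨fun n => ⟨?_⟩⟩
    rintro X ⟨A, Y, f, g, h, hT, hY, hA⟩
    exact ⟨_, _, _, _, _, Triangle.shift_distinguished _ hT n, B.le_shift n _ hY,
      B.leftOrthogonal.le_shift n _ hA⟩
  have h0 : ObjectProperty.ContainsZero (fun X : D => ∃ (A Y : D) (f : A ⟶ X) (g : X ⟶ Y) (h : Y ⟶ (shiftFunctor D (1 : ℤ)).obj A),
      Triangle.mk f g h ∈ distinguishedTriangles ∧ B Y ∧ B.leftOrthogonal A) := by
    obtain ⟨Z, hZ, hBZ⟩ := B.exists_prop_of_containsZero
    refine ⟨⟨Z, hZ, ?_⟩⟩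
    exact ⟨_, _, _, _, _, contractible_distinguished₁ Z, hBZ, fun Y φ _ => (isZero_zero D).eq_of_src _ _⟩
  have h3 : ObjectProperty.IsTriangulatedClosed₃ (fun X : D => ∃ (A Y : D) (f : A ⟶ X) (g : X ⟶ Y) (h : Y ⟶ (shiftFunctor D (1 : ℤ)).obj A),
      Triangle.mk f g h ∈ distinguishedTriangles ∧ B Y ∧ B.leftOrthogonal A) := by
    refine ⟨fun T hT h₁ h₂ => ObjectProperty.le_isoClosure _ _ ?_⟩
    obtain ⟨A₁, B₁, f₁, g₁, h₁, hT₁, hB₁, hA₁⟩ := h₁
    obtain ⟨A₂, B₂, f₂, g₂, h₂, hT₂, hB₂, hA₂⟩ := h₂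
    -- Step 1
    obtain ⟨C, p, q, hC⟩ := distinguished_cocone_triangle (f₁ ≫ T.mor₁)
    have oct1 := Triangulated.someOctahedron (u₁₂ := f₁) (u₂₃ := T.mor₁) rfl hT₁ hT hC
    have m1 := oct1.mem
    -- Step 2
    obtain ⟨a, ha⟩ := Triangle.coyoneda_exact₂ _ hT₂ (f₁ ≫ T.mor₁) (hA₁ _ hB₂)
    dsimp at a ha
    obtain ⟨A₃, a', a'', hA₃T⟩ := distinguished_cocone_triangle a
    have hA₃ : B.leftOrthogonal A₃ :=
      B.leftOrthogonal.ext_of_isTriangulatedClosed₃ _ hA₃T hA₁ hA₂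
    have hC' : Triangle.mk (a ≫ f₂) p q ∈ distinguishedTriangles := by
      rw [← ha]; exact hC
    have oct2 := Triangulated.someOctahedron (u₁₂ := a) (u₂₃ := f₂) rfl hA₃T hT₂ hC'
    have m2 := oct2.mem
    -- Step 3
    obtain ⟨B₃, r, s, hB₃T⟩ := distinguished_cocone_triangle (oct2.m₁ ≫ oct1.m₃)
    have oct3 := Triangulated.someOctahedron (u₁₂ := oct2.m₁) (u₂₃ := oct1.m₃) rfl m2
      (rot_of_distTriang _ m1) hB₃T
    have m3 := oct3.mem
    obtain ⟨B₃', hB₃', ⟨e⟩⟩ := B.ext_of_isTriangulatedClosed₂' _ m3 hB₂ (B.le_shift (1 : ℤ) _ hB₁)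
    refine ⟨A₃, B₃', oct2.m₁ ≫ oct1.m₃, r ≫ e.hom, e.inv ≫ s, ?_, hB₃', hA₃⟩
    exact isomorphic_distinguished _ hB₃T _
      (Triangle.isoMk _ _ (Iso.refl _) (Iso.refl _) e.symm)
  have h2 := ObjectProperty.IsTriangulatedClosed₂.of_isTriangulatedClosed₃
    (P := (fun X : D => ∃ (A Y : D) (f : A ⟶ X) (g : X ⟶ Y) (h : Y ⟶ (shiftFunctor D (1 : ℤ)).obj A),
      Triangle.mk f g h ∈ distinguishedTriangles ∧ B Y ∧ B.leftOrthogonal A))
  exact { toContainsZero := h0, toIsStableUnderShift := hshift, toIsTriangulatedClosed₂ := h2 }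

open CategoryTheory.Pretriangulated in
/-- Let D be a triangulated category and B a full triangulated subcategory. Let P(X) be the property:
there is a distinguished triangle A → X → B → A⟦1⟧ with B in B and A in ^⊥B. Then P satisfies
two-out-of-three in distinguished triangles, i.e. it is stable under all shifts and closed under
extensions (a triangulated object property). -/
theorem result {D : Type u} [Category.{v} D] [Preadditive D] [HasZeroObject D] [HasShift D ℤ]
    [∀ n : ℤ, (shiftFunctor D n).Additive] [Pretriangulated D] [IsTriangulated D]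
    (B : ObjectProperty D) [B.IsTriangulated] :
    ObjectProperty.IsTriangulated (fun X : D => ∃ (A Y : D) (f : A ⟶ X) (g : X ⟶ Y) (h : Y ⟶ (shiftFunctor D (1 : ℤ)).obj A),
      Triangle.mk f g h ∈ distinguishedTriangles ∧ B Y ∧ B.leftOrthogonal A) := by
  exact aux B

end Groth.Agent.S6607
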