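import Groth.Statements.S6609
-- import your own Groth.Agent.* helpers here

set_option autoImplicit false
universe v u
open CategoryTheory CategoryTheory.Limits
open CohDer

namespace Groth.Agent.S6609

set_option backward.defeqAttrib.useBackward true in
set_option backward.isDefEq.respectTransparency false in
open CategoryTheory.Pretriangulated in
theorem lms2 {D : Type u} [Category.{v} D] [Preadditive D] [HasZeroObject D] [HasShift D ℤ]
    [∀ n : ℤ, (shiftFunctor D n).Additive] [Pretriangulated D]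
    (S : MorphismProperty D) [S.IsMultiplicative] [S.IsCompatibleWithTriangulation]
    {X Y X' : D} (f : X ⟶ Y) (t : X ⟶ X') (ht : S t) :
      ∃ (Y' : D) (f' : X' ⟶ Y') (s' : Y ⟶ Y'), S s' ∧ f ≫ s' = t ≫ f' := by
  obtain ⟨W, u, v, h1⟩ := distinguished_cocone_triangle₁ f
  obtain ⟨Y', f', v', h2⟩ := distinguished_cocone_triangle (u ≫ t)
  obtain ⟨c, hc, hc1, -⟩ := MorphismProperty.compatible_with_triangulation (W := S) _ _ h1 h2
    (𝟙 _) t (S.id_mem _) ht (by dsimp; simp)
  exact ⟨Y', f', c, hc, hc1⟩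

set_option backward.defeqAttrib.useBackward true in
set_option backward.isDefEq.respectTransparency false in
open CategoryTheory.Pretriangulated in
theorem rms2 {D : Type u} [Category.{v} D] [Preadditive D] [HasZeroObject D] [HasShift D ℤ]
    [∀ n : ℤ, (shiftFunctor D n).Additive] [Pretriangulated D]
    (S : MorphismProperty D) [S.IsMultiplicative] [S.IsCompatibleWithTriangulation]
    {X Y Y' : D} (f : X ⟶ Y) (s : Y' ⟶ Y) (hs : S s) :
      ∃ (X' : D) (f' : X' ⟶ Y') (t' : X' ⟶ X), S t' ∧ t' ≫ f = f' ≫ s := by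
  obtain ⟨Z, g, h, h1⟩ := distinguished_cocone_triangle f
  obtain ⟨X', f', h', h2⟩ := distinguished_cocone_triangle₁ (s ≫ g)
  obtain ⟨c, hc, -, hc2⟩ := MorphismProperty.compatible_with_triangulation (W := S) _ _
    (rot_of_distTriang _ h2) (rot_of_distTriang _ h1)
    s (𝟙 _) hs (S.id_mem _) (by dsimp; simp)
  dsimp at c hc2
  obtain ⟨t', rfl⟩ := (shiftFunctor D (1 : ℤ)).map_surjective c
  refine ⟨X', f', t', (MorphismProperty.IsCompatibleWithShift.iff S t' (1 : ℤ)).mp hc, ?_⟩
  apply (shiftFunctor D (1 : ℤ)).map_injective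
  simpa using hc2.symm

open CategoryTheory.Pretriangulated in
/-- Let D be a pretriangulated category and S a set of arrows satisfying MS1 (identities, stable under
composition), MS5 (stable under shifts in both directions) and MS6 (compatibility with distinguished
triangles). Then MS2 holds: (LMS2) for f : X ⟶ Y and t : X ⟶ X' in S there are f' : X' ⟶ Y' and s' :
Y ⟶ Y' in S with f ≫ s' = t ≫ f'; (RMS2) for f : X ⟶ Y and s : Y' ⟶ Y in S there are f' : X' ⟶ Y'
and t' : X' ⟶ X in S with t' ≫ f = f' ≫ s. -/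
theorem result {D : Type u} [Category.{v} D] [Preadditive D] [HasZeroObject D] [HasShift D ℤ]
    [∀ n : ℤ, (shiftFunctor D n).Additive] [Pretriangulated D]
    (S : MorphismProperty D) [S.IsMultiplicative] [S.IsCompatibleWithTriangulation] :
    (∀ {X Y X' : D} (f : X ⟶ Y) (t : X ⟶ X'), S t →
      ∃ (Y' : D) (f' : X' ⟶ Y') (s' : Y ⟶ Y'), S s' ∧ f ≫ s' = t ≫ f') ∧
    (∀ {X Y Y' : D} (f : X ⟶ Y) (s : Y' ⟶ Y), S s →
      ∃ (X' : D) (f' : X' ⟶ Y') (t' : X' ⟶ X), S t' ∧ t' ≫ f = f' ≫ s) := by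
  exact ⟨fun f t ht => lms2 S f t ht, fun f s hs => rms2 S f s hs⟩

end Groth.Agent.S6609
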