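import Groth.Statements.S6611
import Mathlib.Algebra.Homology.ModelCategory.Injective

set_option autoImplicit false
universe v u
open CategoryTheory CategoryTheory.Limits
open CohDer

namespace Groth.Agent.S6611

set_option backward.defeqAttrib.useBackward true in
open CochainComplex HomComplex ZeroObject in
theorem aux {A : Type u} [Category.{v} A] [Abelian A]
    (K L I : CochainComplex A ℤ) (α : K ⟶ L) [QuasiIso α] (hα : ∀ n : ℤ, Mono (α.f n))
    (a : ℤ) [I.IsStrictlyGE a] (hI : ∀ n : ℤ, Injective (I.X n)) (γ : K ⟶ I) :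
    ∃ β : L ⟶ I, α ≫ β = γ := by
  have : Mono α := HomologicalComplex.mono_of_mono_f α hα
  have : I.IsKInjective := isKInjective_of_injective I a
  have : ∀ n, Injective (I.X n) := hI
  have sq : CommSq γ α (0 : I ⟶ 0) (0 : L ⟶ 0) := ⟨by simp⟩
  have hsq : ∀ n, (sq.map (HomologicalComplex.eval _ _ n)).LiftStruct := fun n =>
    { l := @Injective.factorThru _ _ (I.X n) _ _ (hI n) (γ.f n) (α.f n) (hα n)
      fac_left := @Injective.comp_factorThru _ _ (I.X n) _ _ (hI n) (γ.f n) (α.f n) (hα n)
      fac_right := by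
        apply IsZero.eq_of_tgt
        exact (HomologicalComplex.eval A (ComplexShape.up ℤ) n).map_isZero (isZero_zero _) }
  have hι : (𝟙 I) ≫ (0 : I ⟶ 0) = 0 := by simp
  have hK : IsLimit (KernelFork.ofι (𝟙 I) hι) := KernelFork.IsLimit.ofId _ rfl
  let β : Cocycle (cokernel α) I 1 :=
    Lifting.cocycle₁ sq hsq (cokernelIsCokernel α) hK (hπ := by simp)
  obtain ⟨α₀, hα₀⟩ : ∃ (α₀ : Cochain (cokernel α) I 0), δ 0 1 α₀ = β.1 := by
    refine IsKInjective.eq_δ_of_cocycle β ?_ 0 (by simp)
    have : (ShortComplex.mk _ _ (cokernel.condition α)).ShortExact :=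
      { exact := ShortComplex.exact_cokernel α }
    exact this.acyclic_X₃ (by dsimp; infer_instance)
  have := Lifting.hasLift sq hsq (cokernelIsCokernel _) hK α₀ hα₀
  exact ⟨sq.lift, sq.fac_left⟩

/-- Let A be an abelian category, α : K ⟶ L a quasi-isomorphism of cochain complexes which is injective
in every degree, I a bounded below complex of injective objects and γ : K ⟶ I a morphism. Then there
is a morphism β : L ⟶ I with α ≫ β = γ. -/
theorem result {A : Type u} [Category.{v} A] [Abelian A]
    (K L I : CochainComplex A ℤ) (α : K ⟶ L) [QuasiIso α] (hα : ∀ n : ℤ, Mono (α.f n))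
    (a : ℤ) [I.IsStrictlyGE a] (hI : ∀ n : ℤ, Injective (I.X n)) (γ : K ⟶ I) :
    ∃ β : L ⟶ I, α ≫ β = γ := by
  exact aux K L I α hα a hI γ

end Groth.Agent.S6611
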