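import Groth.Statements.S6612
-- import your own Groth.Agent.* helpers here

set_option autoImplicit false
universe v u
open CategoryTheory CategoryTheory.Limits
open CohDer

namespace Groth.Agent.S6612

theorem eq_nullHomotopicMap {V : Type u} [Category.{v} V] [Preadditive V]
    {C D : CochainComplex V ℤ} {φ : C ⟶ D} (H : Homotopy φ 0) :
    φ = Homotopy.nullHomotopicMap H.hom := by
  ext n
  have := H.comm n
  rw [HomologicalComplex.zero_f_apply, add_zero] at this
  exact this

set_option backward.defeqAttrib.useBackward true in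
set_option backward.isDefEq.respectTransparency false in
theorem aux {V : Type u} [Category.{v} V] [Preadditive V] [HasBinaryBiproducts V]
    (S : ShortComplex (CochainComplex V ℤ))
    (σ : ∀ n : ℤ, (S.map (HomologicalComplex.eval V (ComplexShape.up ℤ) n)).Splitting)
    {B₁ B₃ : CochainComplex V ℤ} (b : B₁ ⟶ S.X₂) (b' : S.X₂ ⟶ B₃)
    (H : Homotopy (b ≫ S.g) 0) (H' : Homotopy (S.f ≫ b') 0) :
    Nonempty (Homotopy (b ≫ b') 0) := by
  let k : ∀ i j, B₁.X i ⟶ S.X₂.X j := fun i j => H.hom i j ≫ (σ j).s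
  let k' : ∀ i j, S.X₂.X i ⟶ B₃.X j := fun i j => (σ i).r ≫ H'.hom i j
  have hk : ∀ i j, ¬ (ComplexShape.up ℤ).Rel j i → k i j = 0 := fun i j hij => by
    simp only [k, H.zero i j hij, zero_comp]
  have hk' : ∀ i j, ¬ (ComplexShape.up ℤ).Rel j i → k' i j = 0 := fun i j hij => by
    simp only [k', H'.zero i j hij, comp_zero]
  let b₁ : B₁ ⟶ S.X₂ := b - Homotopy.nullHomotopicMap k
  let b₁' : S.X₂ ⟶ B₃ := b' - Homotopy.nullHomotopicMap k'
  have h1 : b₁ ≫ S.g = 0 := by
    dsimp only [b₁]
    rw [Preadditive.sub_comp, Homotopy.nullHomotopicMap_comp, sub_eq_zero]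
    rw [eq_nullHomotopicMap H]
    congr 1
    ext i j
    have := (σ j).s_g
    dsimp at this
    simp only [k, Category.assoc, this, Category.comp_id]
  have h1' : S.f ≫ b₁' = 0 := by
    dsimp only [b₁']
    rw [Preadditive.comp_sub, Homotopy.comp_nullHomotopicMap, sub_eq_zero]
    rw [eq_nullHomotopicMap H']
    congr 1
    ext i j
    have := (σ i).f_r
    dsimp at this
    simp only [k', reassoc_of% this]
  have h2 : b₁ ≫ b₁' = 0 := by
    ext n
    let r : S.X₂.X n ⟶ S.X₁.X n := (σ n).r
    let s : S.X₃.X n ⟶ S.X₂.X n := (σ n).s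
    have hid : r ≫ S.f.f n + S.g.f n ≫ s = 𝟙 (S.X₂.X n) := (σ n).id
    have e1 := congr_arg (fun φ => φ.f n) h1
    have e1' := congr_arg (fun φ => φ.f n) h1'
    dsimp at e1 e1'
    calc (b₁ ≫ b₁').f n = b₁.f n ≫ 𝟙 _ ≫ b₁'.f n := by simp
      _ = b₁.f n ≫ (r ≫ S.f.f n + S.g.f n ≫ s) ≫ b₁'.f n := by rw [hid]
      _ = 0 := by
        simp only [Preadditive.add_comp, Preadditive.comp_add, Category.assoc, e1',
          comp_zero, reassoc_of% e1, zero_comp, add_zero]
  have hb : Homotopy b b₁ :=
    (Homotopy.equivSubZero.symm ((Homotopy.ofEq (by simp [b₁])).trans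
      (Homotopy.nullHomotopy k hk)))
  have hb' : Homotopy b' b₁' :=
    (Homotopy.equivSubZero.symm ((Homotopy.ofEq (by simp [b₁'])).trans
      (Homotopy.nullHomotopy k' hk')))
  exact ⟨(hb.comp hb').trans (Homotopy.ofEq h2)⟩

/-- Let A be an additive category and 0 → A₂ → B₂ → C₂ → 0 a termwise split exact sequence of complexes.
Given a chain map b from a complex B₁ into B₂ and a chain map b' from B₂ into a complex B₃, suppose
that both composites b ≫ (B₂ → C₂) and (A₂ → B₂) ≫ b' are null-homotopic. Then b ≫ b' is homotopic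
to zero. (The published statement has three termwise split sequences Aᵢ → Bᵢ → Cᵢ and asks both
squares of each diagram to commute up to homotopy; this row keeps only the middle sequence and the
two conditions at B₂ that the argument uses, so it is more general.) -/
theorem result {V : Type u} [Category.{v} V] [Preadditive V] [HasBinaryBiproducts V]
    (S : ShortComplex (CochainComplex V ℤ))
    (σ : ∀ n : ℤ, (S.map (HomologicalComplex.eval V (ComplexShape.up ℤ) n)).Splitting)
    {B₁ B₃ : CochainComplex V ℤ} (b : B₁ ⟶ S.X₂) (b' : S.X₂ ⟶ B₃)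
    (hb : Nonempty (Homotopy (b ≫ S.g) 0)) (hb' : Nonempty (Homotopy (S.f ≫ b') 0)) :
    Nonempty (Homotopy (b ≫ b') 0) := by
  obtain ⟨H⟩ := hb
  obtain ⟨H'⟩ := hb'
  exact aux S σ b b' H H'

end Groth.Agent.S6612
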