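import Groth.Statements.S6613
import Mathlib.CategoryTheory.Localization.LocalizerMorphism
import Mathlib.CategoryTheory.Localization.CalculusOfFractions.Fractions
-- import your own Groth.Agent.* helpers here

set_option autoImplicit false
universe v u v' u'
open CategoryTheory CategoryTheory.Limits
open CohDer

namespace Groth.Agent.S6613

section aux

variable {D : Type u} [Category.{v} D] (P : ObjectProperty D) (S : MorphismProperty D)

lemma rightCalc [S.HasRightCalculusOfFractions]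
    (hP : ∀ X : D, ∃ (X' : D) (s : X' ⟶ X), P X' ∧ S s) :
    (S.inverseImage P.ι).HasRightCalculusOfFractions where
  exists_rightFraction X Y φ := by
    obtain ⟨ψ, hψ⟩ := (MorphismProperty.LeftFraction.mk (W := S) φ.f.hom φ.s.hom
      φ.hs).exists_rightFraction
    obtain ⟨X'', t, hX'', ht⟩ := hP ψ.X'
    refine ⟨{ X' := ⟨X'', hX''⟩, s := ObjectProperty.homMk (t ≫ ψ.s),
              hs := S.comp_mem _ _ ht ψ.hs, f := ObjectProperty.homMk (t ≫ ψ.f) }, ?_⟩
    apply InducedCategory.hom_ext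
    show (t ≫ ψ.s) ≫ φ.f.hom = (t ≫ ψ.f) ≫ φ.s.hom
    rw [Category.assoc, Category.assoc]
    exact congrArg (t ≫ ·) hψ
  ext X Y Y' f₁ f₂ s hs h := by
    have h' : f₁.hom ≫ s.hom = f₂.hom ≫ s.hom := congrArg InducedCategory.Hom.hom h
    obtain ⟨X', t, ht, eq⟩ := MorphismProperty.HasRightCalculusOfFractions.ext (W := S)
      f₁.hom f₂.hom s.hom hs h'
    obtain ⟨X'', u, hX'', hu⟩ := hP X'
    refine ⟨⟨X'', hX''⟩, ObjectProperty.homMk (u ≫ t), S.comp_mem _ _ hu ht, ?_⟩
    apply InducedCategory.hom_ext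
    show (u ≫ t) ≫ f₁.hom = (u ≫ t) ≫ f₂.hom
    rw [Category.assoc, Category.assoc, eq]

theorem isEquivalence_core [S.HasRightCalculusOfFractions]
    {E : Type u'} [Category.{v'} E] (Q : D ⥤ E) [Q.IsLocalization S]
    (hP : ∀ X : D, ∃ (X' : D) (s : X' ⟶ X), P X' ∧ S s)
    {D₁ : Type*} [Category D₁] (L₁ : P.FullSubcategory ⥤ D₁)
    [L₁.IsLocalization (S.inverseImage P.ι)] (G : D₁ ⥤ E) (e : P.ι ⋙ Q ≅ L₁ ⋙ G) :
    G.IsEquivalence := by
  have hW₁ : (S.inverseImage P.ι).HasRightCalculusOfFractions := rightCalc P S hP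
  have hL₁ : L₁.EssSurj := Localization.essSurj L₁ (S.inverseImage P.ι)
  have hQ : Q.EssSurj := Localization.essSurj Q S
  -- formula for G on morphisms coming from P
  have key : ∀ {A B : P.FullSubcategory} (h : A ⟶ B),
      G.map (L₁.map h) = e.inv.app A ≫ Q.map h.hom ≫ e.hom.app B := by
    intro A B h
    have := e.hom.naturality h
    rw [← cancel_epi (e.hom.app A)]
    simp only [Iso.hom_inv_id_app_assoc]
    exact this.symm
  have hfull : G.Full := by
    refine G.full_of_comp_essSurj L₁ (fun X₁ X₂ φ => ?_)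
    obtain ⟨f, hf⟩ := Localization.exists_rightFraction Q S
      (X := X₁.obj) (Y := X₂.obj) (e.hom.app X₁ ≫ φ ≫ e.inv.app X₂)
    obtain ⟨X'', t, hX'', ht⟩ := hP f.X'
    let g : (S.inverseImage P.ι).RightFraction X₁ X₂ :=
      { X' := ⟨X'', hX''⟩
        s := ObjectProperty.homMk (X := ⟨X'', hX''⟩) (Y := X₁) (t ≫ f.s)
        hs := S.comp_mem _ _ ht f.hs
        f := ObjectProperty.homMk (X := ⟨X'', hX''⟩) (Y := X₂) (t ≫ f.f) }
    have hgs : IsIso (L₁.map g.s) := Localization.inverts L₁ _ _ g.hs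
    refine ⟨g.map L₁ (Localization.inverts _ _), ?_⟩
    rw [← cancel_epi (G.map (L₁.map g.s)), ← G.map_comp,
      MorphismProperty.RightFraction.map_s_comp_map, key, key]
    have hφ : φ = e.inv.app X₁ ≫ (e.hom.app X₁ ≫ φ ≫ e.inv.app X₂) ≫ e.hom.app X₂ := by
      simp
    rw [hφ, hf]
    show e.inv.app ⟨X'', hX''⟩ ≫ Q.map (t ≫ f.f) ≫ e.hom.app X₂ =
      (e.inv.app ⟨X'', hX''⟩ ≫ Q.map (t ≫ f.s) ≫ e.hom.app X₁) ≫
        e.inv.app X₁ ≫ f.map Q (Localization.inverts Q S) ≫ e.hom.app X₂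
    simp only [Category.assoc, Iso.hom_inv_id_app_assoc, Functor.map_comp,
      MorphismProperty.RightFraction.map_s_comp_map_assoc]
  have hfaith : G.Faithful := by
    refine G.faithful_of_comp_essSurj L₁ (fun X₁ X₂ ψ₁ ψ₂ h => ?_)
    obtain ⟨φ₁, h₁⟩ := Localization.exists_rightFraction L₁ (S.inverseImage P.ι) ψ₁
    obtain ⟨φ₂, h₂⟩ := Localization.exists_rightFraction L₁ (S.inverseImage P.ι) ψ₂
    obtain ⟨α, hα⟩ := (MorphismProperty.LeftFraction.mk (W := S.inverseImage P.ι) φ₁.s φ₂.s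
      φ₂.hs).exists_rightFraction
    have hσ : (S.inverseImage P.ι) (α.s ≫ φ₁.s) :=
      (S.inverseImage P.ι).comp_mem _ _ α.hs φ₁.hs
    have hσ' : IsIso (L₁.map (α.s ≫ φ₁.s)) := Localization.inverts L₁ _ _ hσ
    have e₁ : L₁.map (α.s ≫ φ₁.s) ≫ ψ₁ = L₁.map (α.s ≫ φ₁.f) := by
      rw [h₁, L₁.map_comp, Category.assoc, MorphismProperty.RightFraction.map_s_comp_map,
        ← L₁.map_comp]
    have e₂ : L₁.map (α.s ≫ φ₁.s) ≫ ψ₂ = L₁.map (α.f ≫ φ₂.f) := by
      have hα' : α.s ≫ φ₁.s = α.f ≫ φ₂.s := hα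
      rw [hα', h₂, L₁.map_comp, Category.assoc, MorphismProperty.RightFraction.map_s_comp_map,
        ← L₁.map_comp]
    rw [← cancel_epi (L₁.map (α.s ≫ φ₁.s)), e₁, e₂]
    have h' : G.map (L₁.map (α.s ≫ φ₁.f)) = G.map (L₁.map (α.f ≫ φ₂.f)) := by
      rw [← e₁, ← e₂, G.map_comp, G.map_comp, h]
    rw [key, key] at h'
    have h'' : Q.map (α.s ≫ φ₁.f).hom = Q.map (α.f ≫ φ₂.f).hom := by
      have := congrArg (fun m => e.hom.app _ ≫ m ≫ e.inv.app _) h'
      simpa using this
    obtain ⟨Z, s, hs, eq⟩ := (MorphismProperty.map_eq_iff_precomp Q S _ _).1 h''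
    obtain ⟨Z', t, hZ', ht⟩ := hP Z
    refine (MorphismProperty.map_eq_iff_precomp L₁ (S.inverseImage P.ι) _ _).2
      ⟨⟨Z', hZ'⟩, ObjectProperty.homMk (t ≫ s), S.comp_mem _ _ ht hs, ?_⟩
    apply InducedCategory.hom_ext
    show (t ≫ s) ≫ (α.s ≫ φ₁.f).hom = (t ≫ s) ≫ (α.f ≫ φ₂.f).hom
    rw [Category.assoc, Category.assoc, eq]
  have hess : G.EssSurj := by
    refine ⟨fun Y => ?_⟩
    obtain ⟨X', s, hX', hs⟩ := hP (Q.objPreimage Y)
    exact ⟨L₁.obj ⟨X', hX'⟩, ⟨(e.symm.app ⟨X', hX'⟩) ≪≫ Localization.isoOfHom Q S s hs ≪≫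
      Q.objObjPreimageIso Y⟩⟩
  exact { }

theorem isLocalization_of_leftResolutions [S.HasRightCalculusOfFractions]
    {E : Type u'} [Category.{v'} E] (Q : D ⥤ E) [Q.IsLocalization S]
    (hP : ∀ X : D, ∃ (X' : D) (s : X' ⟶ X), P X' ∧ S s) :
    (P.ι ⋙ Q).IsLocalization (S.inverseImage P.ι) := by
  let Φ : LocalizerMorphism (S.inverseImage P.ι) S :=
    LocalizerMorphism.ofEq (F := P.ι) (rfl : S.inverseImage P.ι = S.inverseImage P.ι)
  letI sq := Φ.catCommSq (S.inverseImage P.ι).Q Q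
  have hG : (Φ.localizedFunctor (S.inverseImage P.ι).Q Q).IsEquivalence :=
    isEquivalence_core P S Q hP (S.inverseImage P.ι).Q (Φ.localizedFunctor (S.inverseImage P.ι).Q Q)
      sq.iso
  have hΦ : Φ.IsLocalizedEquivalence :=
    LocalizerMorphism.IsLocalizedEquivalence.mk' Φ (S.inverseImage P.ι).Q Q
      (Φ.localizedFunctor (S.inverseImage P.ι).Q Q)
  exact LocalizerMorphism.IsLocalizedEquivalence.isLocalization Φ Q

end aux

/-- Let D be a pretriangulated category, D' ⊂ D a full pretriangulated subcategory, S a saturated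
multiplicative system of D compatible with the triangulated structure and Q : D → S⁻¹D the
localization. Assume every X in D admits some s : X' ⟶ X in S with X' in D'. Then, with S' = S ∩
Arrows(D'), the functor (S')⁻¹D' → S⁻¹D is an equivalence; equivalently the composite D' → D → S⁻¹D
is a localization of D' at S'. (The published result additionally claims that the intersection S' =
S ∩ Arrows(D') forms a multiplicative system on D' which is saturated and respects the triangulated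
structure of D'; this row asserts only the localization property.) -/
theorem result {D : Type u} [Category.{v} D] [Preadditive D] [HasZeroObject D] [HasShift D ℤ]
    [∀ n : ℤ, (shiftFunctor D n).Additive] [Pretriangulated D]
    (P : ObjectProperty D) [P.IsTriangulated]
    (S : MorphismProperty D) [S.HasLeftCalculusOfFractions] [S.HasRightCalculusOfFractions] [S.IsCompatibleWithTriangulation]
    {E : Type u'} [Category.{v'} E] (Q : D ⥤ E) [Q.IsLocalization S]
    (hsat : ∀ {X Y : D} (f : X ⟶ Y), IsIso (Q.map f) → S f)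
    (hP : ∀ X : D, ∃ (X' : D) (s : X' ⟶ X), P X' ∧ S s) :
    (P.ι ⋙ Q).IsLocalization (S.inverseImage P.ι) := by
  exact isLocalization_of_leftResolutions P S Q hP

end Groth.Agent.S6613
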