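import Groth.Statements.S6614
import Mathlib
import Groth.Agent.Lib.Helper2.ProSys

set_option autoImplicit false
universe v u
open CategoryTheory CategoryTheory.Limits Opposite
open CohDer

namespace Groth.Agent.S6614

/-- Let D be a triangulated category and (A_n) an ℕ-indexed inverse system of D which is essentially
constant with value A relative to the cone c. Then there are an index i and direct sum
decompositions A_{i+j} ≅ A ⊞ Z_j (j ≥ 0) such that (a) c_{i+j} is the inclusion of the summand A and
the transition maps A_{i+k} → A_{i+j} are 𝟙_A ⊕ (Z_k → Z_j), and (b) for every j there is k ≥ j with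
Z_k → Z_j zero. (The published statement is an equivalence whose converse is given without proof;
this row states only the forward implication.) -/
theorem result {D : Type u} [Category.{v} D] [Preadditive D] [HasZeroObject D] [HasShift D ℤ]
    [∀ n : ℤ, (shiftFunctor D n).Additive] [Pretriangulated D] [IsTriangulated D]
    (X : ARSys.PS D) (A : D) (c : (Functor.const ℕᵒᵖ).obj A ⟶ X) (hX : DerCA.IsEssConstant X A c) :
    ∃ (i : ℕ) (Z : ℕ → D) (e : ∀ j : ℕ, X.obj (op (i + j)) ≅ A ⊞ Z j) (z : ∀ j k : ℕ, j ≤ k → (Z k ⟶ Z j)),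
      (∀ j : ℕ, c.app (op (i + j)) ≫ (e j).hom = biprod.inl) ∧
      (∀ (j k : ℕ) (hjk : j ≤ k), (e k).inv ≫ ARSys.tr X (Nat.add_le_add_left hjk i) = biprod.map (𝟙 A) (z j k hjk) ≫ (e j).inv) ∧
      (∀ j : ℕ, ∃ (k : ℕ) (hjk : j ≤ k), z j k hjk = 0) := by
  obtain ⟨i, s, hs, hk⟩ := hX
  have hcn : ∀ (a b : ℕ) (hab : a ≤ b), c.app (op b) ≫ ARSys.tr X hab = c.app (op a) := by
    intro a b hab
    have := c.naturality (homOfLE hab).op
    simpa using this.symm
  have hc : ∀ j : ℕ, c.app (op (i + j)) ≫ (ARSys.tr X (Nat.le_add_right i j) ≫ s) = 𝟙 A := by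
    intro j
    rw [← Category.assoc, hcn, hs]
  have hex : ∀ j : ℕ, ∃ (Zj : D) (ej : X.obj (op (i + j)) ≅ A ⊞ Zj),
      c.app (op (i + j)) ≫ ej.hom = biprod.inl ∧
      ej.hom ≫ biprod.fst = ARSys.tr X (Nat.le_add_right i j) ≫ s := fun j =>
    Groth.Agent.Lib.Helper2.ProSys.exists_iso_biprod_of_retraction _ _ (hc j)
  choose Z e he1 he2 using hex
  have htr : ∀ (a b d : ℕ) (hab : a ≤ b) (hbd : b ≤ d), ARSys.tr X hbd ≫ ARSys.tr X hab = ARSys.tr X (hab.trans hbd) := by
    intro a b d hab hbd
    dsimp [ARSys.tr]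
    rw [← X.map_comp]
    rfl
  have he1' : ∀ j, c.app (op (i + j)) ≫ (e j).hom = (biprod.inl : A ⟶ A ⊞ Z j) := he1
  have hinl : ∀ j, (biprod.inl : A ⟶ A ⊞ Z j) ≫ (e j).inv = c.app (op (i + j)) := by
    intro j
    rw [← he1' j, Category.assoc, Iso.hom_inv_id, Category.comp_id]
  refine ⟨i, Z, e, fun j k hjk => biprod.inr ≫ (e k).inv ≫ ARSys.tr X (Nat.add_le_add_left hjk i) ≫ (e j).hom ≫ biprod.snd, he1, ?_, ?_⟩
  · intro j k hjk
    rw [← cancel_mono (e j).hom]
    simp only [Category.assoc, Iso.inv_hom_id, Category.comp_id]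
    ext
    · -- inl, fst
      simp only [Category.assoc]
      rw [biprod.inl_map_assoc, Category.id_comp, biprod.inl_fst]
      rw [← Category.assoc, ← Category.assoc, hinl k]
      rw [Category.assoc, ← Category.assoc (c.app _), hcn, ← Category.assoc, he1' j]
      exact biprod.inl_fst
    · -- inl, snd
      simp only [Category.assoc]
      rw [biprod.inl_map_assoc, Category.id_comp, biprod.inl_snd]
      rw [← Category.assoc, ← Category.assoc, hinl k]
      rw [Category.assoc, ← Category.assoc (c.app _), hcn, ← Category.assoc, he1' j]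
      exact biprod.inl_snd
    · -- inr, fst
      simp only [Category.assoc]
      rw [biprod.inr_map_assoc, Category.assoc, biprod.inr_fst, comp_zero, comp_zero]
      rw [he2 j, ← Category.assoc (ARSys.tr X _), htr, ← he2 k, ← Category.assoc (e k).inv, Iso.inv_hom_id,
        Category.id_comp, biprod.inr_fst]
    · -- inr, snd
      simp only [Category.assoc]
      rw [biprod.inr_map_assoc, Category.assoc, biprod.inr_snd, Category.comp_id]
  · intro j
    obtain ⟨k', hi, hj, hk'⟩ := hk (i + j)
    have hjk : j ≤ k' := by omega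
    refine ⟨k', hjk, ?_⟩
    have h1 : ARSys.tr X (Nat.add_le_add_left hjk i) = ARSys.tr X (Nat.le_add_left k' i) ≫ ARSys.tr X hj := by
      rw [htr]
    have h3 : c.app (op (i + j)) ≫ (e j).hom ≫ biprod.snd = 0 := by
      rw [← Category.assoc, he1' j]
      exact biprod.inl_snd
    dsimp only
    rw [h1, hk']
    simp only [Category.assoc]
    rw [h3]
    simp

end Groth.Agent.S6614
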