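import Groth.Statements.S6615
import Mathlib
import Groth.Agent.Lib.Helper2.ProSys

set_option autoImplicit false
universe v u
open CategoryTheory CategoryTheory.Limits Opposite
open CohDer

namespace Groth.Agent.S6615

open CategoryTheory.Pretriangulated Groth.Agent.Lib.Helper2.ProSys in
theorem aux {D : Type u} [Category.{v} D] [Preadditive D] [HasZeroObject D] [HasShift D ℤ]
    [∀ n : ℤ, (shiftFunctor D n).Additive] [Pretriangulated D]
    (X Y Z : ARSys.PS D) (f : X ⟶ Y) (g : Y ⟶ Z) (h : Z ⟶ X ⋙ shiftFunctor D (1 : ℤ))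
    (hT : ∀ n : ℕ, Triangle.mk (f.app (op n)) (g.app (op n)) (h.app (op n)) ∈ distinguishedTriangles)
    (A : D) (cA : (Functor.const ℕᵒᵖ).obj A ⟶ X) (hX : DerCA.IsEssConstant X A cA)
    (C : D) (cC : (Functor.const ℕᵒᵖ).obj C ⟶ Z) (hZ : DerCA.IsEssConstant Z C cC) :
    ∃ (B : D) (cB : (Functor.const ℕᵒᵖ).obj B ⟶ Y), DerCA.IsEssConstant Y B cB := by
  obtain ⟨iA, sA, hsA, hkA⟩ := hX
  obtain ⟨iC, sC, hsC, hkC⟩ := hZ
  obtain ⟨n0, hC0, hA0, hn0⟩ := hkC iA
  -- the connecting map of the values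
  let δ : C ⟶ A⟦(1 : ℤ)⟧ := cC.app (op iA) ≫ h.app (op iA) ≫ sA⟦(1 : ℤ)⟧'
  have hnat_h : ∀ {n m : ℕ} (hnm : n ≤ m),
      ARSys.tr Z hnm ≫ h.app (op n) = h.app (op m) ≫ (ARSys.tr X hnm)⟦(1 : ℤ)⟧' := by
    intro n m hnm
    exact (tr_nat h hnm).symm
  have comm : h.app (op n0) ≫ (ARSys.tr X hA0 ≫ sA)⟦(1 : ℤ)⟧' = (ARSys.tr Z hC0 ≫ sC) ≫ δ := by
    have e : (ARSys.tr Z hC0 ≫ sC) ≫ δ = ARSys.tr Z hA0 ≫ h.app (op iA) ≫ sA⟦(1 : ℤ)⟧' := by
      rw [hn0]
      simp only [δ, Category.assoc]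
    rw [e, ← Category.assoc, hnat_h, Category.assoc, ← Functor.map_comp]
  obtain ⟨B, α, γ, hB⟩ := distinguished_cocone_triangle₂ δ
  obtain ⟨β, hβ1, hβ2⟩ : ∃ β : Y.obj (op n0) ⟶ B,
      f.app (op n0) ≫ β = (ARSys.tr X hA0 ≫ sA) ≫ α ∧
      g.app (op n0) ≫ ARSys.tr Z hC0 ≫ sC = β ≫ γ :=
    complete_distinguished_triangle_morphism₂ _ _ (hT n0) hB
      (ARSys.tr X hA0 ≫ sA) (ARSys.tr Z hC0 ≫ sC) comm
  -- the translated systems and the maps to the constant systems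
  let fS : (ARSys.shift D n0).obj X ⟶ (ARSys.shift D n0).obj Y := (ARSys.shift D n0).map f
  let gS : (ARSys.shift D n0).obj Y ⟶ (ARSys.shift D n0).obj Z := (ARSys.shift D n0).map g
  let hS : (ARSys.shift D n0).obj Z ⟶ (ARSys.shift D n0).obj X ⋙ shiftFunctor D (1 : ℤ) :=
    (ARSys.shift D n0).map h
  let f' : (Functor.const ℕᵒᵖ).obj A ⟶ (Functor.const ℕᵒᵖ).obj B := (Functor.const ℕᵒᵖ).map α
  let g' : (Functor.const ℕᵒᵖ).obj B ⟶ (Functor.const ℕᵒᵖ).obj C := (Functor.const ℕᵒᵖ).map γ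
  let h' : (Functor.const ℕᵒᵖ).obj C ⟶ (Functor.const ℕᵒᵖ).obj A ⋙ shiftFunctor D (1 : ℤ) :=
    { app := fun _ => δ
      naturality := by
        intro n m φ
        dsimp
        simp }
  have ha := isProIso_coneMap_of_essConstant X A cA iA sA hsA hkA n0 hA0
  have hc := isProIso_coneMap_of_essConstant Z C cC iC sC hsC hkC n0 hC0
  have hb : DerCA.IsProIso (coneMap Y B n0 β) := by
    refine isProIso_mid fS gS hS f' g' h' (fun n => hT (n + n0)) (fun n => hB)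
      (coneMap X A n0 (ARSys.tr X hA0 ≫ sA)) (coneMap Y B n0 β) (coneMap Z C n0 (ARSys.tr Z hC0 ≫ sC))
      ?_ ?_ ?_ ha hc
    · intro n
      change f.app (op (n + n0)) ≫ ARSys.tr Y (Nat.le_add_left n0 n) ≫ β =
        (ARSys.tr X (Nat.le_add_left n0 n) ≫ ARSys.tr X hA0 ≫ sA) ≫ α
      rw [tr_nat_assoc, hβ1]
      simp only [Category.assoc]
    · intro n
      change g.app (op (n + n0)) ≫ ARSys.tr Z (Nat.le_add_left n0 n) ≫ ARSys.tr Z hC0 ≫ sC =
        (ARSys.tr Y (Nat.le_add_left n0 n) ≫ β) ≫ γ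
      rw [tr_nat_assoc, hβ2]
      simp only [Category.assoc]
    · intro n
      change h.app (op (n + n0)) ≫ (ARSys.tr X (Nat.le_add_left n0 n) ≫ ARSys.tr X hA0 ≫ sA)⟦(1 : ℤ)⟧' =
        (ARSys.tr Z (Nat.le_add_left n0 n) ≫ ARSys.tr Z hC0 ≫ sC) ≫ δ
      rw [Functor.map_comp, ← Category.assoc, ← hnat_h, Category.assoc, comm]
      simp only [Category.assoc]
  exact ⟨B, essConstant_of_isProIso_const Y B n0 _ hb⟩

open CategoryTheory.Pretriangulated in
/-- Essential constancy of the middle system: in a triangulated category D, take an ℕ-indexed inverse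
system of distinguished triangles with vertices A_n, B_n, C_n. When (A_n) and (C_n) are both
essentially constant, the middle system (B_n) is too. (The published statement also says the values
fit in a distinguished triangle receiving a map of triangles from some level; this row asserts only
the essential constancy of the middle system.) -/
theorem result {D : Type u} [Category.{v} D] [Preadditive D] [HasZeroObject D] [HasShift D ℤ]
    [∀ n : ℤ, (shiftFunctor D n).Additive] [Pretriangulated D] [IsTriangulated D]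
    (X Y Z : ARSys.PS D) (f : X ⟶ Y) (g : Y ⟶ Z) (h : Z ⟶ X ⋙ shiftFunctor D (1 : ℤ))
    (hT : ∀ n : ℕ, Triangle.mk (f.app (op n)) (g.app (op n)) (h.app (op n)) ∈ distinguishedTriangles)
    (hX : ∃ (A : D) (cA : (Functor.const ℕᵒᵖ).obj A ⟶ X), DerCA.IsEssConstant X A cA)
    (hZ : ∃ (C : D) (cC : (Functor.const ℕᵒᵖ).obj C ⟶ Z), DerCA.IsEssConstant Z C cC) :
    ∃ (B : D) (cB : (Functor.const ℕᵒᵖ).obj B ⟶ Y), DerCA.IsEssConstant Y B cB := by
  obtain ⟨A, cA, hA⟩ := hX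
  obtain ⟨C, cC, hC⟩ := hZ
  exact aux X Y Z f g h hT A cA hA C cC hC

end Groth.Agent.S6615
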