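import Groth.Statements.S6617
import Mathlib

set_option autoImplicit false
universe v u
open CategoryTheory CategoryTheory.Limits
open CohDer

namespace Groth.Agent.S6617
section Aux

open CochainComplex HomologicalComplex

section Shear

variable {V : Type u} [Category.{v} V] [Preadditive V] [HasBinaryBiproducts V]
variable {Q Y Z P P' : V}

/-- shear isomorphism exhibiting `s = f ≫ ι₁ + inr' ≫ ι₂` as a coprojection. -/
theorem exists_shear (ι₁ : Y ⟶ Q) (ι₂ : Z ⟶ Q) (π₁ : Q ⟶ Y) (π₂ : Q ⟶ Z)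
    (h11 : ι₁ ≫ π₁ = 𝟙 _) (h22 : ι₂ ≫ π₂ = 𝟙 _) (h12 : ι₁ ≫ π₂ = 0) (h21 : ι₂ ≫ π₁ = 0)
    (htot : π₁ ≫ ι₁ + π₂ ≫ ι₂ = 𝟙 _)
    (inl' : P' ⟶ Z) (inr' : P ⟶ Z) (fst' : Z ⟶ P') (snd' : Z ⟶ P)
    (k11 : inl' ≫ fst' = 𝟙 _) (k22 : inr' ≫ snd' = 𝟙 _) (k12 : inl' ≫ snd' = 0)
    (k21 : inr' ≫ fst' = 0) (ktot : fst' ≫ inl' + snd' ≫ inr' = 𝟙 _)
    (f : P ⟶ Y) (s : P ⟶ Q) (hs : s = f ≫ ι₁ + inr' ≫ ι₂) :
    ∃ (C : V) (ε : Q ≅ P ⊞ C), s ≫ ε.hom = biprod.inl := by
  have s1 : s ≫ π₁ = f := by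
    rw [hs, Preadditive.add_comp, Category.assoc, Category.assoc, h11, h21]; simp
  have s2 : s ≫ π₂ = inr' := by
    rw [hs, Preadditive.add_comp, Category.assoc, Category.assoc, h12, h22]; simp
  refine ⟨Y ⊞ P', ⟨biprod.lift (π₂ ≫ snd') (biprod.lift (π₁ - π₂ ≫ snd' ≫ f) (π₂ ≫ fst')),
    biprod.desc s (biprod.desc ι₁ (inl' ≫ ι₂)), ?_, ?_⟩, ?_⟩
  · rw [biprod.lift_desc, biprod.lift_desc, hs]
    simp only [Preadditive.comp_add, Preadditive.sub_comp, Category.assoc]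
    have e1 : π₂ ≫ snd' ≫ inr' ≫ ι₂ + π₂ ≫ fst' ≫ inl' ≫ ι₂ = π₂ ≫ ι₂ := by
      rw [← Preadditive.comp_add, ← Category.assoc snd', ← Category.assoc fst',
        ← Preadditive.add_comp, add_comm (snd' ≫ inr'), ktot, Category.id_comp]
    rw [← htot, ← e1]
    abel
  · ext <;> simp [reassoc_of% h11, reassoc_of% h22, reassoc_of% h12, reassoc_of% h21,
      reassoc_of% k11, reassoc_of% k22, reassoc_of% k12, reassoc_of% k21,
      reassoc_of% s1, reassoc_of% s2, h11, h22, h12, h21, k11, k22, k12, k21, s1, s2]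
  · ext <;> simp [reassoc_of% h11, reassoc_of% h22, reassoc_of% h12, reassoc_of% h21,
      reassoc_of% k11, reassoc_of% k22, reassoc_of% k12, reassoc_of% k21,
      reassoc_of% s1, reassoc_of% s2, h11, h22, h12, h21, k11, k22, k12, k21, s1, s2]

end Shear

section Construction

variable {V : Type u} [Category.{v} V] [Preadditive V] [HasBinaryBiproducts V] [HasZeroObject V]

/-- one step of the construction -/
noncomputable abbrev stepObj (B Y : CochainComplex V ℤ) : CochainComplex V ℤ :=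
  Y ⊞ mappingCone (𝟙 B)

noncomputable def stepEquiv (B Y : CochainComplex V ℤ) : HomotopyEquiv (stepObj B Y) Y where
  hom := biprod.fst
  inv := biprod.inl
  homotopyHomInvId := by
    have h0 : Homotopy ((biprod.snd : stepObj B Y ⟶ mappingCone (𝟙 B)) ≫
        𝟙 (mappingCone (𝟙 B)) ≫ (biprod.inr : mappingCone (𝟙 B) ⟶ stepObj B Y))
        ((biprod.snd : stepObj B Y ⟶ mappingCone (𝟙 B)) ≫ 0 ≫ biprod.inr) :=
      ((mappingCone.homotopyToZeroOfId B).compRight biprod.inr).compLeft biprod.snd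
    have h1 : Homotopy ((biprod.fst : stepObj B Y ⟶ Y) ≫ biprod.inl + 0)
        ((biprod.fst : stepObj B Y ⟶ Y) ≫ biprod.inl + biprod.snd ≫ biprod.inr) :=
      (Homotopy.refl _).add ((Homotopy.ofEq (by simp)).trans (h0.symm.trans
        (Homotopy.ofEq (by simp))))
    exact (Homotopy.ofEq (by simp)).trans (h1.trans (Homotopy.ofEq biprod.total))
  homotopyInvHomId := Homotopy.ofEq (by simp)

noncomputable def stepMap (B Y : CochainComplex V ℤ) (g : B ⟶ Y) : B ⟶ stepObj B Y :=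
  biprod.lift g (mappingCone.inr (𝟙 B))

lemma stepMap_fst (B Y : CochainComplex V ℤ) (g : B ⟶ Y) :
    stepMap B Y g ≫ (stepEquiv B Y).hom = g := biprod.lift_fst _ _

lemma stepMap_split (B Y : CochainComplex V ℤ) (g : B ⟶ Y) (n : ℤ) :
    ∃ (C : V) (ε : (stepObj B Y).X n ≅ B.X n ⊞ C), (stepMap B Y g).f n ≫ ε.hom = biprod.inl := by
  refine exists_shear
    ((biprod.inl : Y ⟶ Y ⊞ mappingCone (𝟙 B)).f n) ((biprod.inr : _ ⟶ Y ⊞ mappingCone (𝟙 B)).f n)
    ((biprod.fst : Y ⊞ mappingCone (𝟙 B) ⟶ Y).f n) ((biprod.snd : Y ⊞ mappingCone (𝟙 B) ⟶ _).f n)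
    (biprod_inl_fst_f _ _ _) (biprod_inr_snd_f _ _ _) (biprod_inl_snd_f _ _ _)
    (biprod_inr_fst_f _ _ _) (biprod_total_f _ _ _)
    ((mappingCone.inl (𝟙 B)).v (n + 1) n (by omega)) ((mappingCone.inr (𝟙 B)).f n)
    ((mappingCone.fst (𝟙 B)).1.v n (n + 1) rfl) ((mappingCone.snd (𝟙 B)).v n n (add_zero n))
    (mappingCone.inl_v_fst_v _ _ _ rfl) (mappingCone.inr_f_snd_v _ _)
    (mappingCone.inl_v_snd_v _ _ _ (by omega)) (mappingCone.inr_f_fst_v _ _ _ rfl)
    (mappingCone.id_X _ _ _ rfl) (g.f n) ((stepMap B Y g).f n) ?_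
  simp only [stepMap, biprod.lift_eq, add_f_apply, comp_f]

lemma stepObj_GE (B Y : CochainComplex V ℤ) (m1 m2 : ℤ) [Y.IsStrictlyGE m1] [B.IsStrictlyGE m2] :
    (stepObj B Y).IsStrictlyGE (min m1 (m2 - 1)) := by
  rw [CochainComplex.isStrictlyGE_iff]
  intro i hi
  refine ((biprodXIso Y (mappingCone (𝟙 B)) i).isZero_iff).mpr ?_
  rw [biprod_isZero_iff, mappingCone.isZero_X_iff]
  exact ⟨Y.isZero_of_isStrictlyGE m1 i (by omega),
    B.isZero_of_isStrictlyGE m2 (i + 1) (by omega), B.isZero_of_isStrictlyGE m2 i (by omega)⟩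

lemma stepObj_LE (B Y : CochainComplex V ℤ) (m1 m2 : ℤ) [Y.IsStrictlyLE m1] [B.IsStrictlyLE m2] :
    (stepObj B Y).IsStrictlyLE (max m1 m2) := by
  rw [CochainComplex.isStrictlyLE_iff]
  intro i hi
  refine ((biprodXIso Y (mappingCone (𝟙 B)) i).isZero_iff).mpr ?_
  rw [biprod_isZero_iff, mappingCone.isZero_X_iff]
  exact ⟨Y.isZero_of_isStrictlyLE m1 i (by omega),
    B.isZero_of_isStrictlyLE m2 (i + 1) (by omega), B.isZero_of_isStrictlyLE m2 i (by omega)⟩

variable (X : ℕ → CochainComplex V ℤ) (a : ∀ i, X i ⟶ X (i + 1))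

/-- the recursive data -/
noncomputable def data : ∀ i : ℕ, Σ B : CochainComplex V ℤ, HomotopyEquiv B (X i)
  | 0 => ⟨X 0, HomotopyEquiv.refl _⟩
  | i + 1 => ⟨stepObj (data i).1 (X (i + 1)), stepEquiv (data i).1 (X (i + 1))⟩

end Construction

end Aux


/-- Let A be an additive category and A₀ → A₁ → A₂ → … a sequence of composable morphisms of complexes.
There are complexes Bᵢ, homotopy equivalences Bᵢ ⟶ Aᵢ and termwise split injections Bᵢ ⟶ Bᵢ₊₁
forming a commutative ladder over the given sequence. Moreover if all Aᵢ are bounded below, resp.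
bounded above, then the Bᵢ may be chosen bounded below, resp. bounded above. (The published
statement is for finite sequences A₁ → … → A_n; this row takes a sequence indexed by ℕ, built by the
same step-by-step construction.) -/
theorem result {V : Type u} [Category.{v} V] [Preadditive V] [HasBinaryBiproducts V] [HasZeroObject V]
    (X : ℕ → CochainComplex V ℤ) (a : ∀ i, X i ⟶ X (i + 1)) :
    ∃ (B : ℕ → CochainComplex V ℤ) (b : ∀ i, B i ⟶ B (i + 1)) (e : ∀ i, HomotopyEquiv (B i) (X i)),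
      (∀ i, b i ≫ (e (i + 1)).hom = (e i).hom ≫ a i) ∧
      (∀ (i : ℕ) (n : ℤ), ∃ (C : V) (ε : (B (i + 1)).X n ≅ (B i).X n ⊞ C), (b i).f n ≫ ε.hom = biprod.inl) ∧
      ((∀ i, ∃ m : ℤ, (X i).IsStrictlyGE m) → ∀ i, ∃ m : ℤ, (B i).IsStrictlyGE m) ∧
      ((∀ i, ∃ m : ℤ, (X i).IsStrictlyLE m) → ∀ i, ∃ m : ℤ, (B i).IsStrictlyLE m) := by
  classical
  refine ⟨fun i => (data X i).1,
    fun i => stepMap (data X i).1 (X (i + 1)) ((data X i).2.hom ≫ a i),
    fun i => (data X i).2, ?_, ?_, ?_, ?_⟩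
  · intro i
    exact stepMap_fst _ _ _
  · intro i n
    exact stepMap_split _ _ _ n
  · intro h i
    induction i with
    | zero => exact h 0
    | succ i ih =>
      obtain ⟨m2, hm2⟩ := ih
      obtain ⟨m1, hm1⟩ := h (i + 1)
      exact ⟨min m1 (m2 - 1), stepObj_GE _ _ m1 m2⟩
  · intro h i
    induction i with
    | zero => exact h 0
    | succ i ih =>
      obtain ⟨m2, hm2⟩ := ih
      obtain ⟨m1, hm1⟩ := h (i + 1)
      exact ⟨max m1 m2, stepObj_LE _ _ m1 m2⟩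

end Groth.Agent.S6617
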