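import Groth.Statements.S6621
import Mathlib.CategoryTheory.Localization.Triangulated
-- import your own Groth.Agent.* helpers here

set_option autoImplicit false
universe v u v' u'
open CategoryTheory CategoryTheory.Limits
open CohDer

namespace Groth.Agent.S6621

section aux
open CategoryTheory.Pretriangulated

variable {D : Type u} [Category.{v} D] [Preadditive D] [HasZeroObject D] [HasShift D ℤ]
    [∀ n : ℤ, (shiftFunctor D n).Additive] [Pretriangulated D]
    (S : MorphismProperty D) [S.HasLeftCalculusOfFractions] [S.HasRightCalculusOfFractions]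
    [S.IsCompatibleWithTriangulation]

/-- In the constructed localization, `Q(f)` is an iso iff the image of a cone is zero. -/
lemma isIso_Q_iff {X Y Z : D} (f : X ⟶ Y) (g : Y ⟶ Z) (h : Z ⟶ (shiftFunctor D (1 : ℤ)).obj X)
    (hT : Triangle.mk f g h ∈ distTriang D) :
    IsIso (S.Q.map f) ↔ IsZero (S.Q.obj Z) := by
  have hT' := S.Q.map_distinguished _ hT
  exact (Triangle.isZero₃_iff_isIso₁ _ hT').symm

variable {E : Type u'} [Category.{v'} E] (Q : D ⥤ E) [Q.IsLocalization S]

lemma isIso_iff_Q {X Y : D} (f : X ⟶ Y) : IsIso (Q.map f) ↔ IsIso (S.Q.map f) := by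
  let e := Localization.compUniqFunctor Q S.Q S
  let F := (Localization.uniq Q S.Q S).functor
  have h₁ : IsIso (Q.map f) ↔ IsIso (F.map (Q.map f)) := (isIso_iff_of_reflects_iso _ F).symm
  rw [h₁]
  exact (MorphismProperty.isomorphisms _).arrow_mk_iso_iff (Arrow.isoOfNatIso e (Arrow.mk f))

lemma isZero_iff_Q (Z : D) : IsZero (Q.obj Z) ↔ IsZero (S.Q.obj Z) := by
  let e := Localization.compUniqFunctor Q S.Q S
  let F := (Localization.uniq Q S.Q S).functor
  have h₁ : IsZero (Q.obj Z) ↔ IsZero (F.obj (Q.obj Z)) :=
    ⟨fun h => IsZero.of_full_of_faithful_of_isZero (Localization.uniq Q S.Q S).inverse _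
        (h.of_iso ((Localization.uniq Q S.Q S).unitIso.app (Q.obj Z)).symm),
      fun h => IsZero.of_full_of_faithful_of_isZero F _ h⟩
  rw [h₁]
  exact (e.app Z).isZero_iff

end aux

/-- Let D be a triangulated category, S a multiplicative system compatible with the triangulated
structure, Q : D → S⁻¹D the localization and B(S) = Ker(Q) the full subcategory of objects Z with
Q(Z) = 0. Then the multiplicative system S(B(S)) attached to B(S) (morphisms whose cone lies in B(S)
up to isomorphism) consists exactly of the morphisms f such that Q(f) is an isomorphism, i.e. it is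
the saturation of S. -/
theorem result {D : Type u} [Category.{v} D] [Preadditive D] [HasZeroObject D] [HasShift D ℤ]
    [∀ n : ℤ, (shiftFunctor D n).Additive] [Pretriangulated D] [IsTriangulated D]
    (S : MorphismProperty D) [S.HasLeftCalculusOfFractions] [S.HasRightCalculusOfFractions] [S.IsCompatibleWithTriangulation]
    {E : Type u'} [Category.{v'} E] (Q : D ⥤ E) [Q.IsLocalization S] {X Y : D} (f : X ⟶ Y) :
    ObjectProperty.trW (fun Z : D => IsZero (Q.obj Z)) f ↔ IsIso (Q.map f) := by
  rw [ObjectProperty.trW_iff]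
  constructor
  · rintro ⟨Z, g, h, hT, hZ⟩
    rw [isIso_iff_Q S Q f, isIso_Q_iff S f g h hT, ← isZero_iff_Q S Q Z]
    exact hZ
  · intro hf
    obtain ⟨Z, g, h, hT⟩ := CategoryTheory.Pretriangulated.distinguished_cocone_triangle f
    refine ⟨Z, g, h, hT, ?_⟩
    show IsZero (Q.obj Z)
    rw [isZero_iff_Q S Q Z, ← isIso_Q_iff S f g h hT, ← isIso_iff_Q S Q f]
    exact hf

end Groth.Agent.S6621
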