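import Groth.Statements.S6623
-- import your own Groth.Agent.* helpers here

set_option autoImplicit false
universe v u
open CategoryTheory CategoryTheory.Limits
open CohDer

namespace Groth.Agent.S6623

section aux
open CategoryTheory.Pretriangulated

variable {D : Type u} [Category.{v} D] [Preadditive D] [HasZeroObject D] [HasShift D ℤ]
    [∀ n : ℤ, (shiftFunctor D n).Additive] [Pretriangulated D]

lemma left_vanish {A B C W : D} (f : A ⟶ B) (g : B ⟶ C) (h : C ⟶ (shiftFunctor D (1 : ℤ)).obj A)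
    (hT : Triangle.mk f g h ∈ distinguishedTriangles)
    (hB : ∀ ψ : B ⟶ W, ψ = 0) (hC : ∀ ψ : (shiftFunctor D (-1 : ℤ)).obj C ⟶ W, ψ = 0)
    (ψ : A ⟶ W) : ψ = 0 := by
  have hT' := inv_rot_of_distTriang _ hT
  obtain ⟨g', hg'⟩ : ∃ g' : B ⟶ W, ψ = f ≫ g' :=
    Triangle.yoneda_exact₂ _ hT' ψ (hC _)
  rw [hg', hB g']
  exact comp_zero

lemma right_vanish {A B C V : D} (f : A ⟶ B) (g : B ⟶ C) (h : C ⟶ (shiftFunctor D (1 : ℤ)).obj A)
    (hT : Triangle.mk f g h ∈ distinguishedTriangles)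
    (hB : ∀ ψ : V ⟶ B, ψ = 0) (hC : ∀ ψ : V ⟶ (shiftFunctor D (-1 : ℤ)).obj C, ψ = 0)
    (ψ : V ⟶ A) : ψ = 0 := by
  have hT' := inv_rot_of_distTriang _ hT
  obtain ⟨g', hg'⟩ : ∃ g' : V ⟶ (shiftFunctor D (-1 : ℤ)).obj C,
      ψ = g' ≫ (Triangle.mk f g h).invRotate.mor₁ :=
    Triangle.coyoneda_exact₂ _ hT' ψ (hB _)
  rw [hg', hC g']
  exact zero_comp

lemma shift_dist {A B C : D} (f : A ⟶ B) (g : B ⟶ C) (h : C ⟶ (shiftFunctor D (1 : ℤ)).obj A)
    (hT : Triangle.mk f g h ∈ distinguishedTriangles) (s : ℤ) :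
    ∃ (f' : (shiftFunctor D s).obj A ⟶ (shiftFunctor D s).obj B)
      (g' : (shiftFunctor D s).obj B ⟶ (shiftFunctor D s).obj C)
      (h' : (shiftFunctor D s).obj C ⟶ (shiftFunctor D (1 : ℤ)).obj ((shiftFunctor D s).obj A)),
      Triangle.mk f' g' h' ∈ distinguishedTriangles :=
  ⟨_, _, _, Triangle.shift_distinguished _ hT s⟩

/-- First vanishing: `Hom(Y_m[1-i], X'_j) = 0` when `m + i = j`. -/
lemma V1 (X X' : ChainComplex D ℕ) (n : ℕ) (Y : ℕ → D) (a : ∀ k, Y k ⟶ X.X k)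
    (b : ∀ k, X.X (k + 1) ⟶ Y k) (c : ∀ k, Y k ⟶ (shiftFunctor D (1 : ℤ)).obj (Y (k + 1)))
    (h0 : IsIso (a 0))
    (hP : ∀ k, k < n → Triangle.mk (a (k + 1)) (b k) (c k) ∈ distinguishedTriangles)
    (hv : ∀ t i j : ℕ, 0 < i → t + i = j → j ≤ n →
      ∀ ψ : (shiftFunctor D (1 - (i : ℤ))).obj (X.X t) ⟶ X'.X j, ψ = 0) :
    ∀ (m i j : ℕ) (s : ℤ), 0 < i → m + i = j → j ≤ n → s = 1 - (i : ℤ) →
      ∀ ψ : (shiftFunctor D s).obj (Y m) ⟶ X'.X j, ψ = 0 := by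
  intro m
  induction m with
  | zero =>
    intro i j s hi hij hj hs ψ
    subst hs
    have h1 := hv 0 i j hi hij hj ((shiftFunctor D (1 - (i : ℤ))).map (inv (a 0)) ≫ ψ)
    have h2 : ψ = (shiftFunctor D (1 - (i : ℤ))).map (a 0) ≫
        (shiftFunctor D (1 - (i : ℤ))).map (inv (a 0)) ≫ ψ := by
      rw [← Functor.map_comp_assoc, IsIso.hom_inv_id, CategoryTheory.Functor.map_id,
        Category.id_comp]
    rw [h2, h1, comp_zero]
  | succ m ih =>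
    intro i j s hi hij hj hs ψ
    have hT := hP m (by omega)
    obtain ⟨f', g', h', hT'⟩ := shift_dist _ _ _ hT s
    refine left_vanish f' g' h' hT' ?_ ?_ ψ
    · subst hs
      exact hv (m + 1) i j hi hij hj
    · intro ψ'
      have e := (shiftFunctorAdd' D s (-1) (s - 1) (by omega)).app (Y m)
      have h1 := ih (i + 1) j (s - 1) (by omega) (by omega) hj (by subst hs; push_cast; omega)
        (e.hom ≫ ψ')
      have h2 : ψ' = e.inv ≫ e.hom ≫ ψ' := by rw [Iso.inv_hom_id_assoc]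
      rw [h2, h1, comp_zero]

/-- Second vanishing: `Hom(X_j, qY_m[-i]) = 0` when `m + i = j`. -/
lemma V2 (X X' : ChainComplex D ℕ) (n : ℕ) (qY : ℕ → D) (qa : ∀ k, qY k ⟶ X'.X k)
    (qb : ∀ k, X'.X (k + 1) ⟶ qY k) (qc : ∀ k, qY k ⟶ (shiftFunctor D (1 : ℤ)).obj (qY (k + 1)))
    (qh0 : IsIso (qa 0))
    (qhP : ∀ k, k < n → Triangle.mk (qa (k + 1)) (qb k) (qc k) ∈ distinguishedTriangles)
    (hv : ∀ t i j : ℕ, 0 < i → t + i = j → j ≤ n →
      ∀ ψ : X.X j ⟶ (shiftFunctor D (-(i : ℤ))).obj (X'.X t), ψ = 0) :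
    ∀ (m i j : ℕ) (s : ℤ), 0 < i → m + i = j → j ≤ n → s = -(i : ℤ) →
      ∀ ψ : X.X j ⟶ (shiftFunctor D s).obj (qY m), ψ = 0 := by
  intro m
  induction m with
  | zero =>
    intro i j s hi hij hj hs ψ
    subst hs
    have h1 := hv 0 i j hi hij hj (ψ ≫ (shiftFunctor D (-(i : ℤ))).map (qa 0))
    have h2 : ψ = (ψ ≫ (shiftFunctor D (-(i : ℤ))).map (qa 0)) ≫
        (shiftFunctor D (-(i : ℤ))).map (inv (qa 0)) := by
      rw [Category.assoc, ← Functor.map_comp, IsIso.hom_inv_id, CategoryTheory.Functor.map_id,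
        Category.comp_id]
    rw [h2, h1, zero_comp]
  | succ m ih =>
    intro i j s hi hij hj hs ψ
    have hT := qhP m (by omega)
    obtain ⟨f', g', h', hT'⟩ := shift_dist _ _ _ hT s
    refine right_vanish f' g' h' hT' ?_ ?_ ψ
    · subst hs
      exact hv (m + 1) i j hi hij hj
    · intro ψ'
      have e := (shiftFunctorAdd' D s (-1) (s - 1) (by omega)).app (qY m)
      have h1 := ih (i + 1) j (s - 1) (by omega) (by omega) hj (by subst hs; push_cast; omega)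
        (ψ' ≫ e.inv)
      have h2 : ψ' = (ψ' ≫ e.inv) ≫ e.hom := by rw [Category.assoc, Iso.inv_hom_id, Category.comp_id]
      rw [h2, h1, zero_comp]

end aux

open CategoryTheory.Pretriangulated in
/-- Let D be a triangulated category, φ : X ⟶ X' a morphism of chain complexes in D considered in
degrees ≤ n, where a Postnikov system for the complex X_n → … → X_0 consists of objects Y_k, an
isomorphism Y_0 ⟶ X_0, and for 0 ≤ k < n distinguished triangles Y_{k+1} ⟶ X_{k+1} ⟶ Y_k ⟶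
Y_{k+1}⟦1⟧ with X_{k+1} ⟶ Y_k ⟶ X_k the differential; let (Y, a, b, c) and (Y', a', b', c') be
Postnikov systems for X and X'. If Hom(X_{j-i}⟦1-i⟧, X'_j) = 0 and Hom(X_j, X'_{j-i}⟦-i⟧) = 0 for
all 0 < i ≤ j ≤ n, then there is at most one morphism of Postnikov systems extending φ: two such
morphisms agree on Y_k for every k ≤ n. -/
theorem result {D : Type u} [Category.{v} D] [Preadditive D] [HasZeroObject D] [HasShift D ℤ]
    [∀ n : ℤ, (shiftFunctor D n).Additive] [Pretriangulated D] [IsTriangulated D]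
    (X X' : ChainComplex D ℕ) (φ : X ⟶ X') (n : ℕ)
    (Y : ℕ → D) (a : ∀ k, Y k ⟶ X.X k) (b : ∀ k, X.X (k + 1) ⟶ Y k)
    (c : ∀ k, Y k ⟶ (shiftFunctor D (1 : ℤ)).obj (Y (k + 1)))
    (h0 : IsIso (a 0))
    (hP : ∀ k, k < n → Triangle.mk (a (k + 1)) (b k) (c k) ∈ distinguishedTriangles ∧ b k ≫ a k = X.d (k + 1) k)
    (qY : ℕ → D) (qa : ∀ k, qY k ⟶ X'.X k) (qb : ∀ k, X'.X (k + 1) ⟶ qY k)
    (qc : ∀ k, qY k ⟶ (shiftFunctor D (1 : ℤ)).obj (qY (k + 1)))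
    (qh0 : IsIso (qa 0))
    (qhP : ∀ k, k < n → Triangle.mk (qa (k + 1)) (qb k) (qc k) ∈ distinguishedTriangles ∧ qb k ≫ qa k = X'.d (k + 1) k)
    (hv : ∀ i j : ℕ, 0 < i → i ≤ j → j ≤ n →
      (∀ ψ : (shiftFunctor D (1 - (i : ℤ))).obj (X.X (j - i)) ⟶ X'.X j, ψ = 0) ∧
      (∀ ψ : X.X j ⟶ (shiftFunctor D (-(i : ℤ))).obj (X'.X (j - i)), ψ = 0))
    (y z : ∀ k, Y k ⟶ qY k)
    (hy : (∀ k, k ≤ n → y k ≫ qa k = a k ≫ φ.f k) ∧
      (∀ k, k < n → b k ≫ y k = φ.f (k + 1) ≫ qb k ∧ c k ≫ (shiftFunctor D (1 : ℤ)).map (y (k + 1)) = y k ≫ qc k))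
    (hz : (∀ k, k ≤ n → z k ≫ qa k = a k ≫ φ.f k) ∧
      (∀ k, k < n → b k ≫ z k = φ.f (k + 1) ≫ qb k ∧ c k ≫ (shiftFunctor D (1 : ℤ)).map (z (k + 1)) = z k ≫ qc k))
    (k : ℕ) (hk : k ≤ n) :
    y k = z k := by
  have hv1 : ∀ t i j : ℕ, 0 < i → t + i = j → j ≤ n →
      ∀ ψ : (shiftFunctor D (1 - (i : ℤ))).obj (X.X t) ⟶ X'.X j, ψ = 0 := by
    intro t i j hi hij hj
    have h1 := (hv i j hi (by omega) hj).1
    have e : j - i = t := by omega
    rw [e] at h1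
    exact h1
  have hv2 : ∀ t i j : ℕ, 0 < i → t + i = j → j ≤ n →
      ∀ ψ : X.X j ⟶ (shiftFunctor D (-(i : ℤ))).obj (X'.X t), ψ = 0 := by
    intro t i j hi hij hj
    have h1 := (hv i j hi (by omega) hj).2
    have e : j - i = t := by omega
    rw [e] at h1
    exact h1
  have W1 := V1 X X' n Y a b c h0 (fun k hk => (hP k hk).1) hv1
  have W2 := V2 X X' n qY qa qb qc qh0 (fun k hk => (qhP k hk).1) hv2
  induction k with
  | zero =>
    have h1 := hy.1 0 hk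
    have h2 := hz.1 0 hk
    rw [← cancel_mono (qa 0), h1, h2]
  | succ k ih =>
    have ih' : y k = z k := ih (by omega)
    have hkn : k < n := by omega
    have hT := (hP k hkn).1
    have hqT := (qhP k hkn).1
    -- δ = y (k+1) - z (k+1)
    have d1 : (y (k + 1) - z (k + 1)) ≫ qa (k + 1) = 0 := by
      rw [Preadditive.sub_comp, hy.1 (k + 1) hk, hz.1 (k + 1) hk, sub_self]
    have d2 : c k ≫ (shiftFunctor D (1 : ℤ)).map (y (k + 1) - z (k + 1)) = 0 := by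
      rw [Functor.map_sub, Preadditive.comp_sub, (hy.2 k hkn).2, (hz.2 k hkn).2, ih', sub_self]
    -- factor δ⟦1⟧ through -a⟦1⟧
    obtain ⟨g, hg⟩ : ∃ g : (shiftFunctor D (1 : ℤ)).obj (X.X (k + 1)) ⟶
        (shiftFunctor D (1 : ℤ)).obj (qY (k + 1)),
        (shiftFunctor D (1 : ℤ)).map (y (k + 1) - z (k + 1)) =
          (-(shiftFunctor D (1 : ℤ)).map (a (k + 1))) ≫ g :=
      Triangle.yoneda_exact₃ _ (rot_of_distTriang _ hT) _ d2
    obtain ⟨g₀, rfl⟩ := (shiftFunctor D (1 : ℤ)).map_surjective g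
    have d3 : y (k + 1) - z (k + 1) = a (k + 1) ≫ (-g₀) := by
      apply (shiftFunctor D (1 : ℤ)).map_injective
      rw [hg, Functor.map_comp, Functor.map_neg, Preadditive.neg_comp, Preadditive.comp_neg]
    -- ε := -g₀
    have d4 : a (k + 1) ≫ ((-g₀) ≫ qa (k + 1)) = 0 := by
      rw [← Category.assoc, ← d3, d1]
    obtain ⟨θ, hθ⟩ : ∃ θ : Y k ⟶ X'.X (k + 1), (-g₀) ≫ qa (k + 1) = b k ≫ θ :=
      Triangle.yoneda_exact₂ _ hT _ d4
    have hθ0 : θ = 0 := by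
      have e := (shiftFunctorZero' D (1 - ((1 : ℕ) : ℤ)) (by simp)).app (Y k)
      have h1 := W1 k 1 (k + 1) (1 - ((1 : ℕ) : ℤ)) (by omega) rfl hk rfl (e.hom ≫ θ)
      have h2 : θ = e.inv ≫ e.hom ≫ θ := by rw [Iso.inv_hom_id_assoc]
      rw [h2, h1, comp_zero]
    have d5 : (-g₀) ≫ qa (k + 1) = 0 := by rw [hθ, hθ0, comp_zero]
    have d6 : (-g₀) = 0 := by
      have hqT' := inv_rot_of_distTriang _ hqT
      obtain ⟨ε', hε'⟩ : ∃ ε' : X.X (k + 1) ⟶ (shiftFunctor D (-1 : ℤ)).obj (qY k),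
          (-g₀) = ε' ≫ (Triangle.mk (qa (k + 1)) (qb k) (qc k)).invRotate.mor₁ :=
        Triangle.coyoneda_exact₂ _ hqT' (-g₀) d5
      have h1 := W2 k 1 (k + 1) (-1) (by omega) rfl hk (by simp) ε'
      rw [hε', h1]
      exact zero_comp
    rw [← sub_eq_zero, d3, d6, comp_zero]

end Groth.Agent.S6623
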