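import Groth.Statements.S6624
import Groth.Agent.Lib.Helper5.UnitIsoZero

set_option autoImplicit false
universe w w' v v' u u'
open CategoryTheory CategoryTheory.Limits
open CohDer

namespace Groth.Agent.S6624

open Groth.Agent.Lib.Helper5 in
open HomologicalComplex in
lemma main {A : Type u} [Category.{v} A] [Abelian A] [HasDerivedCategory.{w} A] [EnoughInjectives A]
    {B : Type u'} [Category.{v'} B] [Abelian B] [HasDerivedCategory.{w'} B]
    (F : A ⥤ B) [F.Additive] (X : A) (R : InjectiveResolution X) :
    IsIso (F.rightDerivedFunctorPlusUnit.app ((HomotopyCategory.Plus.singleFunctor A 0).obj X)) ↔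
      (IsIso (F.toRightDerivedZero.app X) ∧ ∀ i : ℕ, 0 < i → IsZero ((F.rightDerived i).obj X)) := by
  rw [UnitIso.isIso_unit_single_iff F X R, quasiIso_iff]
  have hz : IsIso (F.toRightDerivedZero.app X) ↔ IsIso (R.toRightDerivedZero' F) := by
    rw [R.toRightDerivedZero_eq F]
    constructor
    · intro h
      exact IsIso.of_isIso_comp_right _
        ((CochainComplex.isoHomologyπ₀ _).hom ≫ (R.isoRightDerivedObj F 0).inv)
    · intro h
      infer_instance
  constructor
  · intro h
    refine ⟨hz.2 ((UnitIso.quasiIsoAt_zero_iff_isIso_toRightDerivedZero' F X R).1 (h 0)), ?_⟩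
    intro i hi
    have h1 := h (i : ℤ)
    rw [quasiIsoAt_iff_isIso_homologyMap] at h1
    exact ((UnitIso.isZero_homology_map_single F X _ (by lia)).of_iso
      (asIso (HomologicalComplex.homologyMap
        ((F.mapHomologicalComplex (ComplexShape.up ℤ)).map R.ι') (i : ℤ))).symm).of_iso
      (Bridge.rightDerivedIso F R i).symm
  · rintro ⟨h0, hi⟩ n
    rcases lt_trichotomy n 0 with hn | rfl | hn
    · rw [quasiIsoAt_iff_isIso_homologyMap]
      exact isIso_of_source_target_iso_zero _
        (UnitIso.isZero_homology_map_single F X n (by lia)).isoZero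
        (Bridge.isZero_homology_of_neg F R n hn).isoZero
    · exact (UnitIso.quasiIsoAt_zero_iff_isIso_toRightDerivedZero' F X R).2 (hz.1 h0)
    · obtain ⟨k, rfl⟩ := Int.eq_ofNat_of_zero_le hn.le
      rw [quasiIsoAt_iff_isIso_homologyMap]
      exact isIso_of_source_target_iso_zero _
        (UnitIso.isZero_homology_map_single F X _ (by lia)).isoZero
        ((hi k (by lia)).of_iso (Bridge.rightDerivedIso F R k)).isoZero

/-- Part (1): in the case where A has enough injectives: let F : A ⥤ B be an additive functor between
abelian categories, A with enough injectives, and X an object of A. Then X is right acyclic for F,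
i.e. the canonical map F(X)[0] ⟶ RF(X[0]) is an isomorphism in D⁺(B), if and only if F(X) ⟶ R⁰F(X)
is an isomorphism and RⁱF(X) = 0 for all i > 0. -/
theorem result {A : Type u} [Category.{v} A] [Abelian A] [HasDerivedCategory.{w} A] [EnoughInjectives A]
    {B : Type u'} [Category.{v'} B] [Abelian B] [HasDerivedCategory.{w'} B]
    (F : A ⥤ B) [F.Additive] (X : A) :
    IsIso (F.rightDerivedFunctorPlusUnit.app ((HomotopyCategory.Plus.singleFunctor A 0).obj X)) ↔
      (IsIso (F.toRightDerivedZero.app X) ∧ ∀ i : ℕ, 0 < i → IsZero ((F.rightDerived i).obj X)) := by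
  exact main F X (injectiveResolution X)

end Groth.Agent.S6624
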