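import Groth.Statements.S6626
import Groth.Agent.Lib.Helper22.EtLoc.Clopen

set_option autoImplicit false
open CategoryTheory CategoryTheory.Limits AlgebraicGeometry Opposite
universe u
open EtCore

namespace Groth.Agent.S6626

open Groth.Agent.Lib.Helper22.EtLoc.Clopen Groth.Agent.Lib.Helper22.EtStalk
  Groth.Agent.Lib.Helper22.CechU.Etale

lemma scheme_data {X Y V U : Scheme.{u}} (f : X ⟶ Y) (v : V ⟶ Y) (g : U ⟶ X)
    (W₁ : (pullback f v).Opens) (hW₁ : IsClosed (W₁ : Set ↥(pullback f v)))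
    (h₁ : (W₁ : Scheme.{u}) ⟶ U) (hh₁ : h₁ ≫ g = W₁.ι ≫ pullback.fst f v) (u : U)
    (hu : u ∈ Set.range h₁) :
    ∃ (W : (pullback v f).Opens) (_ : IsClosed (W : Set ↥(pullback v f)))
      (hl : (W : Scheme.{u}) ⟶ U), hl ≫ g = W.ι ≫ pullback.snd v f ∧ u ∈ Set.range hl := by
  let σ : pullback v f ≅ pullback f v := pullbackSymmetry v f
  let W : (pullback v f).Opens := σ.hom ⁻¹ᵁ W₁
  have hWc : IsClosed (W : Set ↥(pullback v f)) := hW₁.preimage σ.hom.continuous
  let hl : (W : Scheme.{u}) ⟶ U := (σ.hom ∣_ W₁) ≫ h₁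
  have hw : hl ≫ g = W.ι ≫ pullback.snd v f := by
    dsimp only [hl]
    rw [Category.assoc, hh₁, ← Category.assoc, morphismRestrict_ι, Category.assoc]
    congr 1
    exact pullbackSymmetry_hom_comp_fst v f
  refine ⟨W, hWc, hl, hw, ?_⟩
  obtain ⟨w₁, hw₁⟩ := hu
  have : IsIso (σ.hom ∣_ W₁) := inferInstance
  obtain ⟨w, hw⟩ : ∃ w, (σ.hom ∣_ W₁) w = w₁ :=
    ⟨(inv (σ.hom ∣_ W₁)) w₁, by
      rw [← Scheme.Hom.comp_apply, IsIso.inv_hom_id]; rfl⟩
  refine ⟨w, ?_⟩
  dsimp only [hl]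
  rw [Scheme.Hom.comp_apply, hw, hw₁]

lemma propA_data {X Y : Scheme.{u}} (f : X ⟶ Y) (hA : BigSite.PropA f) (U₀ : X.Etale)
    (u : U₀.left) :
    ∃ (V₀ : Y.Etale) (W : ((EtCoh.bc f).obj V₀).left.Opens)
      (_ : IsClosed (W : Set ((EtCoh.bc f).obj V₀).left))
      (h : openSub ((EtCoh.bc f).obj V₀) W ⟶ U₀), u ∈ Set.range h.left.base := by
  have hE : Etale (U₀.hom : U₀.left ⟶ X) := U₀.prop
  obtain ⟨V, v, hv, W₁, hW₁, h₁, hh₁, hu⟩ := hA U₀.left (U₀.hom : U₀.left ⟶ X) u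
  obtain ⟨W, hWc, hl, hw, hu'⟩ := scheme_data f v (U₀.hom : U₀.left ⟶ X) W₁ hW₁ h₁ hh₁ u hu
  let V₀ : Y.Etale := MorphismProperty.Over.mk ⊤ v hv
  exact ⟨V₀, W, hWc, MorphismProperty.Over.homMk hl hw trivial, hu'⟩

lemma nat_apply {X : Scheme.{u}} {F G : EtCoh.Ab X} (a : F ⟶ G) {A B : X.Etale} (g : A ⟶ B)
    (s : F.obj.obj (op B)) :
    a.hom.app (op A) (F.obj.map g.op s) = G.obj.map g.op (a.hom.app (op B) s) :=
  NatTrans.naturality_apply a.hom g.op s

lemma reflects_mono {X Y : Scheme.{u}} (f : X ⟶ Y) (hA : BigSite.PropA f) {F G : EtCoh.Ab X}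
    (a : F ⟶ G) (hm : Mono ((EtCoh.push f).map a)) : Mono a := by
  have hinj : ∀ V₀ : Y.Etale, Function.Injective (a.hom.app (op ((EtCoh.bc f).obj V₀))) := by
    intro V₀
    have h1 : Mono ((EtCoh.push f).map a).hom := (Sheaf.Hom.mono_iff_presheaf_mono _ _ _).1 hm
    have h2 := (NatTrans.mono_iff_mono_app _).1 h1 (op V₀)
    exact (AddCommGrpCat.mono_iff_injective _).1 h2
  have : Mono a.hom := by
    refine @NatTrans.mono_of_mono_app _ _ _ _ _ _ a.hom (fun U => ?_)
    rw [AddCommGrpCat.mono_iff_injective]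
    refine (injective_iff_map_eq_zero _).2 fun s hs => ?_
    refine eq_of_locally_eq s 0 ?_
    intro y
    obtain ⟨V₀, W, hW, h, hu⟩ := propA_data f hA U.unop y
    refine ⟨_, h, hu, ?_⟩
    obtain ⟨r, hr1, hr2⟩ := exists_extend_zero F ((EtCoh.bc f).obj V₀) W hW (F.obj.map h.op s)
    have hr0 : a.hom.app (op ((EtCoh.bc f).obj V₀)) r = 0 := by
      apply eq_zero_of_clopen G _ W hW
      · rw [← nat_apply, hr1, nat_apply]
        erw [hs]
        rw [map_zero]
      · rw [← nat_apply, hr2, map_zero]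
    have hr : r = 0 := hinj V₀ (hr0.trans (map_zero _).symm)
    rw [← hr1, hr, map_zero, map_zero]
  exact Sheaf.Hom.mono_of_presheaf_mono _ _ a

lemma epi_counit {X Y : Scheme.{u}} (f : X ⟶ Y) (hA : BigSite.PropA f) (F : EtCoh.Ab X) :
    Epi ((EtCoh.pullPushAdj f).counit.app F) := by
  have : Sheaf.IsLocallySurjective ((EtCoh.pullPushAdj f).counit.app F) := by
    constructor
    intro U t
    rw [mem_smallEtaleTopology_iff]
    intro y
    obtain ⟨V₀, W, hW, h, ⟨w, hw⟩⟩ := propA_data f hA U y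
    refine ⟨_, h, w, ?_, hw⟩
    obtain ⟨r, hr1, -⟩ := exists_extend_zero F ((EtCoh.bc f).obj V₀) W hW (F.obj.map h.op t)
    let η := (EtCoh.pullPushAdj f).unit.app ((EtCoh.push f).obj F)
    let ε := (EtCoh.pullPushAdj f).counit.app F
    have tri : η ≫ (EtCoh.push f).map ε = 𝟙 _ :=
      (EtCoh.pullPushAdj f).right_triangle_components F
    have tri' : ε.hom.app (op ((EtCoh.bc f).obj V₀)) (η.hom.app (op V₀) r) = r := by
      have h1 := congrArg (fun φ => φ.hom.app (op V₀)) tri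
      have h2 := congrArg (fun ψ => (ConcreteCategory.hom ψ) r) h1
      exact h2
    refine ⟨((EtCoh.pull f).obj ((EtCoh.push f).obj F)).obj.map (openSubι _ W).op
      (η.hom.app (op V₀) r), ?_⟩
    have n := nat_apply ε (openSubι ((EtCoh.bc f).obj V₀) W) (η.hom.app (op V₀) r)
    exact n.trans ((congrArg _ tri').trans hr1)
  exact Sheaf.epi_of_isLocallySurjective _

lemma exists_lift_point {A B C D : Scheme.{u}} {fst : A ⟶ B} {snd : A ⟶ C} {g : B ⟶ D}
    {k : C ⟶ D} (sq : IsPullback fst snd g k) (b : B) (c : C) (h : g b = k c) :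
    ∃ a : A, fst a = b := by
  obtain ⟨z, hz1, -⟩ := Scheme.Pullback.exists_preimage_pullback (f := g) (g := k) b c h
  refine ⟨sq.isoPullback.inv z, ?_⟩
  rw [← hz1, ← Scheme.Hom.comp_apply, IsPullback.isoPullback_inv_fst]

lemma reflects_epi {X Y : Scheme.{u}} (f : X ⟶ Y) (hA : BigSite.PropA f) {F G : EtCoh.Ab X}
    (a : F ⟶ G) (he : Epi ((EtCoh.push f).map a)) : Epi a := by
  have hls : Sheaf.IsLocallySurjective ((EtCoh.push f).map a) :=
    (Sheaf.isLocallySurjective_iff_epi' (φ := (EtCoh.push f).map a)).2 he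
  have : Sheaf.IsLocallySurjective a := by
    constructor
    intro U t
    rw [mem_smallEtaleTopology_iff]
    intro y
    obtain ⟨V₀, W, hW, h, ⟨w, hw⟩⟩ := propA_data f hA U y
    obtain ⟨r, hr1, -⟩ := exists_extend_zero G ((EtCoh.bc f).obj V₀) W hW (G.obj.map h.op t)
    have hcov := Presheaf.imageSieve_mem Y.smallEtaleTopology ((EtCoh.push f).map a).hom
      (U := op V₀) r
    rw [mem_smallEtaleTopology_iff] at hcov
    let P := (EtCoh.bc f).obj V₀
    let prV : P.left ⟶ V₀.left := pullback.fst V₀.hom f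
    let wP : P.left := W.ι w
    obtain ⟨V', k, y', ⟨s', hs'⟩, hy'⟩ := hcov (prV wP)
    obtain ⟨w', hw'⟩ := exists_lift_point (EtCoh.isPullback_bc_map f k) wP y' hy'.symm
    let Q := (EtCoh.bc f).obj V'
    let m : Q ⟶ P := (EtCoh.bc f).map k
    have hw'W : w' ∈ m.left ⁻¹ᵁ W := by
      change m.left w' ∈ W
      rw [hw']
      exact w.2
    refine ⟨openSub Q (m.left ⁻¹ᵁ W), openSubMap m W ≫ h, ⟨w', hw'W⟩, ?_, ?_⟩
    · refine ⟨F.obj.map (openSubι Q (m.left ⁻¹ᵁ W)).op s', ?_⟩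
      have hs'' : a.hom.app (op Q) s' = G.obj.map m.op r := hs'
      rw [nat_apply, hs'', ← Functor.map_comp_apply, ← op_comp, ← openSubMap_ι, op_comp,
        Functor.map_comp_apply, hr1, ← Functor.map_comp_apply, ← op_comp]
    · have e1 : (openSubMap m W).left ⟨w', hw'W⟩ = w := by
        apply Subtype.ext
        exact (morphismRestrict_base_coe m.left W ⟨w', hw'W⟩).trans hw'
      change h.left ((openSubMap m W).left ⟨w', hw'W⟩) = y
      rw [e1]
      exact hw
  exact Sheaf.epi_of_isLocallySurjective a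

/-- Let f : X ⟶ Y be a morphism of schemes satisfying condition (A) (for every etale U ⟶ X and every
point u of U there are an etale V ⟶ Y, an open and closed subscheme W of X ×_Y V and an X-morphism W
⟶ U whose image contains u). Then, on abelian sheaves on the small etale sites, f_* reflects
monomorphisms and epimorphisms, the counit f⁻¹ f_* F ⟶ F is an epimorphism for every F, and f_* is
faithful. -/
theorem result {X Y : Scheme.{u}} (f : X ⟶ Y) (hA : BigSite.PropA f) :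
    (EtCoh.push f).ReflectsMonomorphisms ∧ (EtCoh.push f).ReflectsEpimorphisms ∧
      (∀ F : EtCoh.Ab X, Epi ((EtCoh.pullPushAdj f).counit.app F)) ∧ (EtCoh.push f).Faithful := by
  refine ⟨⟨fun a hm => reflects_mono f hA a hm⟩, ⟨fun a he => reflects_epi f hA a he⟩,
    fun F => epi_counit f hA F, ?_⟩
  have : ∀ F : EtCoh.Ab X, Epi ((EtCoh.pullPushAdj f).counit.app F) := fun F => epi_counit f hA F
  exact (EtCoh.pullPushAdj f).faithful_R_of_epi_counit_app

end Groth.Agent.S6626
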