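import Groth.Statements.S6629
import Mathlib.CategoryTheory.Sites.LocallySurjective
import Mathlib.CategoryTheory.Sites.Sheafification
import Mathlib.CategoryTheory.Sites.ConcreteSheafification
import Mathlib.CategoryTheory.Sites.IsSheafFor
-- import your own Groth.Agent.* helpers here

set_option autoImplicit false
open CategoryTheory CategoryTheory.Limits AlgebraicGeometry Opposite
universe u
open EtDesc

namespace Groth.Agent.S6629

section helpers

variable {X : Scheme.{u}}

theorem smallEtaleTopology_eq (X : Scheme.{u}) :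
    X.smallEtaleTopology =
      (X.smallPretopology (P := EtCoh.etaleMP) (Q := EtCoh.etaleMP)).toGrothendieck :=
  Scheme.smallGrothendieckTopology_eq_toGrothendieck_smallPretopology X le_rfl

/-- pointwise description of covering sieves of the small etale site -/
theorem mem_iff {U : X.Etale} (R : Sieve U) :
    R ∈ X.smallEtaleTopology U ↔
      ∀ x : U.left, ∃ (W : X.Etale) (k : W ⟶ U) (w : W.left), R k ∧ k.left w = x := by
  constructor
  · intro hR x
    rw [smallEtaleTopology_eq] at hR
    obtain ⟨W, k, w, hk, -, hw⟩ := (Scheme.mem_toGrothendieck_smallPretopology U R).1 hR x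
    exact ⟨W, k, w, hk, hw⟩
  · intro h
    rw [smallEtaleTopology_eq]
    refine (Scheme.mem_toGrothendieck_smallPretopology U R).2 ?_
    intro x
    obtain ⟨W, k, w, hk, hw⟩ := h x
    refine ⟨W, k, w, hk, ?_, hw⟩
    have h1 : Etale (k.left ≫ U.hom) := by
      have : k.left ≫ U.hom = W.hom := by simp
      rw [this]; exact W.prop
    exact MorphismProperty.of_postcomp (W := @Etale) (W' := @Etale) k.left U.hom U.prop h1

/-- sections of a sheaf over an empty etale scheme form a subsingleton -/
theorem subsingleton_of_isEmpty (F : Sh X) (Z : X.Etale) [IsEmpty Z.left] :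
    Subsingleton (F.obj.obj (op Z)) := by
  constructor
  intro s t
  have hbot : (⊥ : Sieve Z) ∈ X.smallEtaleTopology Z := by
    rw [mem_iff]
    intro x
    exact isEmptyElim x
  have hsep := ((isSheaf_iff_isSheaf_of_type _ _).1 F.2).isSeparated _ hbot
  apply hsep.ext
  intro W k hk
  exact hk.elim

/-- a jointly surjective family generates a covering sieve -/
theorem ofArrows_mem {B : X.Etale} {μ : Type*} (Wobj : μ → X.Etale) (c : ∀ a, Wobj a ⟶ B)
    (hsurj : ∀ x : B.left, ∃ a, x ∈ Set.range (c a).left.base) :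
    Sieve.ofArrows Wobj c ∈ X.smallEtaleTopology B := by
  rw [mem_iff]
  intro x
  obtain ⟨a, w, hw⟩ := hsurj x
  exact ⟨Wobj a, c a, w, Sieve.ofArrows_mk _ _ a, hw⟩

/-- gluing sections of a sheaf along a decomposition into disjoint open pieces -/
theorem exists_glue (F : Sh X) {B : X.Etale} {μ : Type*} (Wobj : μ → X.Etale)
    (c : ∀ a, Wobj a ⟶ B) (hmono : ∀ a, Mono (c a).left)
    (hsurj : ∀ x : B.left, ∃ a, x ∈ Set.range (c a).left.base)
    (hdisj : ∀ a b, a ≠ b → Disjoint (Set.range (c a).left.base) (Set.range (c b).left.base))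
    (s : ∀ a, F.obj.obj (op (Wobj a))) :
    ∃ t : F.obj.obj (op B), ∀ a, F.obj.map (c a).op t = s a := by
  have hsh : Presieve.IsSheafFor F.obj (Presieve.ofArrows Wobj c) := by
    rw [Presieve.isSheafFor_iff_generate]
    exact ((isSheaf_iff_isSheaf_of_type _ _).1 F.2) _ (ofArrows_mem Wobj c hsurj)
  rw [Presieve.isSheafFor_arrows_iff] at hsh
  have hcompat : Presieve.Arrows.Compatible F.obj c s := by
    intro a b Z ga gb hab
    by_cases hne : a = b
    · subst hne
      have hg : ga = gb := by
        apply MorphismProperty.Over.Hom.ext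
        haveI := hmono a
        rw [← cancel_mono (c a).left]
        exact congrArg (fun k => k.left) hab
      rw [hg]
    · haveI : IsEmpty Z.left := by
        constructor
        intro z
        have h1 : (c a).left.base (ga.left.base z) ∈ Set.range (c a).left.base := ⟨_, rfl⟩
        have h2 : (c a).left.base (ga.left.base z) ∈ Set.range (c b).left.base := by
          have : (ga ≫ c a).left = (gb ≫ c b).left := congrArg (fun k => k.left) hab
          have h3 : (ga ≫ c a).left.base z = (gb ≫ c b).left.base z := by rw [this]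
          exact ⟨gb.left.base z, h3.symm⟩
        exact Set.disjoint_left.mp (hdisj a b hne) h1 h2
      haveI := subsingleton_of_isEmpty F Z
      exact Subsingleton.elim _ _
  obtain ⟨t, ht, -⟩ := hsh s hcompat
  exact ⟨t, ht⟩

theorem etale_left {U W : X.Etale} (k : W ⟶ U) : Etale k.left := by
  have h1 : Etale (k.left ≫ U.hom) := by
    have : k.left ≫ U.hom = W.hom := by simp
    rw [this]; exact W.prop
  exact MorphismProperty.of_postcomp (W := @Etale) (W' := @Etale) k.left U.hom U.prop h1

variable {Y : Scheme.{u}} (f : X ⟶ Y)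

/-- the object of `X.Etale` given by an open of `X ×_Y V'` -/
noncomputable def pieceObj {V' : Scheme.{u}} (v : V' ⟶ Y) [Etale v] (W : (pullback f v).Opens) :
    X.Etale :=
  Scheme.Etale.mk (W.ι ≫ pullback.fst f v)

/-- the inclusion of a piece into the base change, in `X.Etale` -/
noncomputable def pieceHom {V' : Scheme.{u}} (v : V' ⟶ Y) [Etale v] (W : (pullback f v).Opens) :
    pieceObj f v W ⟶ (EtCoh.bc f).obj (Scheme.Etale.mk v) :=
  MorphismProperty.Over.homMk (W.ι ≫ (pullbackSymmetry f v).hom)
    (by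
      change (W.ι ≫ (pullbackSymmetry f v).hom) ≫ pullback.snd v f = W.ι ≫ pullback.fst f v
      rw [Category.assoc, pullbackSymmetry_hom_comp_snd]) trivial

theorem pieceHom_left {V' : Scheme.{u}} (v : V' ⟶ Y) [Etale v] (W : (pullback f v).Opens) :
    (pieceHom f v W).left = W.ι ≫ (pullbackSymmetry f v).hom := rfl

end helpers

/-- Let f : X ⟶ Y be a morphism of schemes satisfying condition (B) (for every etale V ⟶ Y and every
etale covering of X ×_Y V there is an etale covering of V by schemes V_j such that each X ×_Y V_j is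
a disjoint union of open subschemes each mapping into X ×_Y V through a member of the given
covering). Then the direct image of sheaves of sets on the small etale sites along f sends
epimorphisms to epimorphisms. -/
theorem result {X Y : Scheme.{u}} (f : X ⟶ Y) (hB : BigSite.PropB f) :
    (EtDesc.pushSh f).PreservesEpimorphisms := by
  refine ⟨fun {F G} φ hφ => ?_⟩
  have hls : Sheaf.IsLocallySurjective φ := (Sheaf.isLocallySurjective_iff_epi _).mpr hφ
  suffices Sheaf.IsLocallySurjective ((pushSh f).map φ) from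
    (Sheaf.isLocallySurjective_iff_epi _).mp this
  constructor
  intro V t
  have hS := hls.imageSieve_mem (U := (EtCoh.bc f).obj V) t
  rw [mem_iff] at hS
  choose Wx kx wx hkx hwx using hS
  choose σ hσ using hkx
  haveI : Etale V.hom := V.prop
  haveI : ∀ x, Etale (kx x).left := fun x => etale_left (kx x)
  obtain ⟨κ, V', v', hv', hcov, hdec⟩ := hB V.left V.hom (↥((EtCoh.bc f).obj V).left)
    (fun x => (Wx x).left) (fun x => (kx x).left ≫ (pullbackSymmetry V.hom f).hom)
    (fun x => inferInstance) (by
      intro z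
      refine ⟨(pullbackSymmetry V.hom f).inv.base z, wx _, ?_⟩
      rw [Scheme.Hom.comp_base, TopCat.comp_app, hwx]
      exact congr($((pullbackSymmetry V.hom f).inv_hom_id).base z))
  rw [mem_iff]
  intro y
  obtain ⟨j, y', hy'⟩ := hcov y
  haveI := hv' j
  obtain ⟨μ, W, hdisj, htop, hW⟩ := hdec j
  choose ia ha hha using hW
  obtain ⟨aj, haj⟩ : ∃ aj : Scheme.Etale.mk (v' j ≫ V.hom) ⟶ V, aj.left = v' j :=
    ⟨MorphismProperty.Over.homMk (v' j) rfl trivial, rfl⟩
  refine ⟨Scheme.Etale.mk (v' j ≫ V.hom), aj, y', ?_, by rw [haj]; exact hy'⟩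
  -- morphisms from the pieces to the members of the covering
  have hd : ∀ a, ∃ d : pieceObj f (v' j ≫ V.hom) (W a) ⟶ Wx (ia a), d.left = ha a := by
    intro a
    refine ⟨MorphismProperty.Over.homMk (ha a) ?_ trivial, rfl⟩
    change ha a ≫ (Wx (ia a)).hom = (W a).ι ≫ pullback.fst f (v' j ≫ V.hom)
    have e1 : (Wx (ia a)).hom = (kx (ia a)).left ≫ pullback.snd V.hom f := by
      have := Over.w (kx (ia a)).hom
      exact this.symm
    have h2 := congrArg (fun m => m ≫ pullback.fst f V.hom) (hha a)
    simp only [Category.assoc, pullback.lift_fst, Category.comp_id] at h2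
    have e2 : (pullbackSymmetry V.hom f).hom ≫ pullback.fst f V.hom = pullback.snd V.hom f :=
      pullbackSymmetry_hom_comp_fst _ _
    erw [e2] at h2
    rw [e1]; exact h2
  choose d hd using hd
  have hinj : Function.Injective (pullbackSymmetry f (v' j ≫ V.hom)).hom.base :=
    (pullbackSymmetry f (v' j ≫ V.hom)).hom.homeomorph.injective
  have hmono : ∀ a, Mono (pieceHom f (v' j ≫ V.hom) (W a)).left := by
    intro a
    have : Mono ((W a).ι ≫ (pullbackSymmetry f (v' j ≫ V.hom)).hom) := mono_comp _ _
    exact this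
  have hsurj : ∀ x : ((EtCoh.bc f).obj (Scheme.Etale.mk (v' j ≫ V.hom))).left,
      ∃ a, x ∈ Set.range (pieceHom f (v' j ≫ V.hom) (W a)).left.base := by
    intro x
    have hz : (pullbackSymmetry f (v' j ≫ V.hom)).inv.base x ∈ (⨆ a, W a) := by
      rw [htop]; trivial
    obtain ⟨a, ha'⟩ := TopologicalSpace.Opens.mem_iSup.mp hz
    refine ⟨a, ⟨_, ha'⟩, ?_⟩
    change (pullbackSymmetry f (v' j ≫ V.hom)).hom.base ((W a).ι.base ⟨_, ha'⟩) = x
    exact congr($((pullbackSymmetry f (v' j ≫ V.hom)).inv_hom_id).base x)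
  have hdisj' : ∀ a b, a ≠ b → Disjoint (Set.range (pieceHom f (v' j ≫ V.hom) (W a)).left.base)
      (Set.range (pieceHom f (v' j ≫ V.hom) (W b)).left.base) := by
    intro a b hab
    rw [Set.disjoint_left]
    rintro _ ⟨wa, rfl⟩ ⟨wb, hwb⟩
    have hwb' : (pullbackSymmetry f (v' j ≫ V.hom)).hom.base ((W b).ι.base wb) =
        (pullbackSymmetry f (v' j ≫ V.hom)).hom.base ((W a).ι.base wa) := hwb
    have h1 := hinj hwb'
    have h2 : ((W a).ι.base wa) ∈ W a ⊓ W b := ⟨wa.2, h1 ▸ wb.2⟩
    have h3 : W a ⊓ W b = ⊥ := disjoint_iff.mp (hdisj a b hab)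
    rw [h3] at h2
    exact h2
  obtain ⟨s, hs⟩ := exists_glue F (fun a => pieceObj f (v' j ≫ V.hom) (W a))
    (fun a => pieceHom f (v' j ≫ V.hom) (W a)) hmono hsurj hdisj'
    (fun a => F.obj.map (d a).op (σ (ia a)))
  refine ⟨s, ?_⟩
  have hbcl : ((EtCoh.bc f).map aj).left = pullback.lift
      (pullback.fst (v' j ≫ V.hom) f ≫ aj.left) (pullback.snd (v' j ≫ V.hom) f)
      (by rw [Category.assoc, haj, pullback.condition]) := rfl
  have hcomm : ∀ a, d a ≫ kx (ia a) =
      pieceHom f (v' j ≫ V.hom) (W a) ≫ (EtCoh.bc f).map aj := by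
    intro a
    apply MorphismProperty.Over.Hom.ext
    change (d a).left ≫ (kx (ia a)).left =
      (pieceHom f (v' j ≫ V.hom) (W a)).left ≫ ((EtCoh.bc f).map aj).left
    rw [hd a, pieceHom_left, hbcl]
    have key : (ha a ≫ (kx (ia a)).left) ≫ (pullbackSymmetry V.hom f).hom =
        (((W a).ι ≫ (pullbackSymmetry f (v' j ≫ V.hom)).hom) ≫ pullback.lift
          (pullback.fst (v' j ≫ V.hom) f ≫ aj.left) (pullback.snd (v' j ≫ V.hom) f)
          (by rw [Category.assoc, haj, pullback.condition])) ≫
          (pullbackSymmetry V.hom f).hom := by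
      rw [Category.assoc]
      erw [hha a]
      apply pullback.hom_ext
      · simp only [Category.assoc]
        congr 1
        erw [pullback.lift_fst, pullbackSymmetry_hom_comp_fst, pullback.lift_snd,
          pullbackSymmetry_hom_comp_snd, Category.comp_id]
      · simp only [Category.assoc]
        congr 1
        erw [pullback.lift_snd, pullbackSymmetry_hom_comp_snd, pullback.lift_fst,
          ← Category.assoc, pullbackSymmetry_hom_comp_fst, haj]
    exact (cancel_mono (pullbackSymmetry V.hom f).hom).mp key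
  have hsepG := ((isSheaf_iff_isSheaf_of_type _ _).1 G.2).isSeparated _
    (ofArrows_mem (fun a => pieceObj f (v' j ≫ V.hom) (W a))
      (fun a => pieceHom f (v' j ≫ V.hom) (W a)) hsurj)
  apply hsepG.ext
  rintro W' k ⟨_, l, _, ⟨a⟩, rfl⟩
  have key : G.obj.map (pieceHom f (v' j ≫ V.hom) (W a)).op
        (φ.hom.app (op ((EtCoh.bc f).obj (Scheme.Etale.mk (v' j ≫ V.hom)))) s) =
      G.obj.map (pieceHom f (v' j ≫ V.hom) (W a)).op (G.obj.map ((EtCoh.bc f).map aj).op t) := by
    have nat1 := ConcreteCategory.congr_hom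
      (φ.hom.naturality (pieceHom f (v' j ≫ V.hom) (W a)).op) s
    have nat2 := ConcreteCategory.congr_hom (φ.hom.naturality (d a).op) (σ (ia a))
    dsimp at nat1 nat2
    rw [← nat1, hs a, nat2, hσ (ia a)]
    have e1 : G.obj.map (d a).op (G.obj.map (kx (ia a)).op t) =
        G.obj.map (d a ≫ kx (ia a)).op t := by
      rw [op_comp, G.obj.map_comp]; rfl
    have e2 : G.obj.map (pieceHom f (v' j ≫ V.hom) (W a)).op
        (G.obj.map ((EtCoh.bc f).map aj).op t) =
        G.obj.map (pieceHom f (v' j ≫ V.hom) (W a) ≫ (EtCoh.bc f).map aj).op t := by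
      rw [op_comp, G.obj.map_comp]; rfl
    rw [e1, e2, hcomm a]
  rw [op_comp, G.obj.map_comp]
  exact congrArg (G.obj.map l.op) key

end Groth.Agent.S6629
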