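import Groth.Statements.S6631
import Mathlib.CategoryTheory.Sites.LocallySurjective
import Mathlib.CategoryTheory.Sites.Sheafification
import Mathlib.CategoryTheory.Sites.ConcreteSheafification
-- import your own Groth.Agent.* helpers here

set_option autoImplicit false
open CategoryTheory CategoryTheory.Limits AlgebraicGeometry Opposite
universe u
open EtDesc

namespace Groth.Agent.S6631

section helpers

variable {X Y : Scheme.{u}} (f : X ⟶ Y)

/-- from `PropC`: every `U` etale over `X` is covered by a single morphism from some `X ×_Y V` -/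
theorem exists_cover_of_propC (hC : BigSite.PropC f) (U : X.Etale) :
    ∃ (V : Y.Etale) (h : (EtCoh.bc f).obj V ⟶ U), Function.Surjective h.left.base := by
  obtain ⟨V, v, hv, h, hh, hsurj⟩ := hC U.left U.hom
  haveI := hv
  refine ⟨Scheme.Etale.mk v,
    MorphismProperty.Over.homMk ((pullbackSymmetry v f).hom ≫ h) ?_ trivial, ?_⟩
  · change ((pullbackSymmetry v f).hom ≫ h) ≫ U.hom = pullback.snd v f
    rw [Category.assoc, hh, pullbackSymmetry_hom_comp_fst]
  · change Function.Surjective ((pullbackSymmetry v f).hom ≫ h).base
    rw [Scheme.Hom.comp_base, TopCat.coe_comp]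
    exact hsurj.surj.comp (pullbackSymmetry v f).hom.surjective

/-- a surjective morphism in the small etale site generates a covering sieve -/
theorem singleton_mem {U W : X.Etale} (h : W ⟶ U) (hs : Function.Surjective h.left.base) :
    Sieve.ofArrows (fun _ : Unit => W) (fun _ => h) ∈ X.smallEtaleTopology U := by
  rw [Scheme.ofArrows_mem_smallEtaleTopology_iff]
  ext x
  simp only [Set.mem_iUnion, Set.mem_range, Set.mem_univ, iff_true]
  obtain ⟨w, hw⟩ := hs x
  exact ⟨(), w, hw⟩

/-- sheaves are separated along a surjective morphism -/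
theorem map_injective_of_surjective (F : Sh X) {U W : X.Etale} (h : W ⟶ U)
    (hs : Function.Surjective h.left.base) : Function.Injective (F.obj.map h.op) := by
  intro s t hst
  have hsep := ((isSheaf_iff_isSheaf_of_type _ _).1 F.2).isSeparated _ (singleton_mem h hs)
  apply hsep.ext
  rintro W' k ⟨_, l, _, ⟨⟩, rfl⟩
  rw [op_comp, F.obj.map_comp]
  change F.obj.map l.op (F.obj.map h.op s) = F.obj.map l.op (F.obj.map h.op t)
  rw [hst]

end helpers

/-- Let f : X ⟶ Y be a morphism of schemes satisfying condition (C) (for every etale U ⟶ X there are an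
etale V ⟶ Y and a surjective X-morphism X ×_Y V ⟶ U). Then the direct image of sheaves of sets on
the small etale sites along f reflects monomorphisms and epimorphisms. -/
theorem result {X Y : Scheme.{u}} (f : X ⟶ Y) (hC : BigSite.PropC f) :
    (EtDesc.pushSh f).ReflectsMonomorphisms ∧ (EtDesc.pushSh f).ReflectsEpimorphisms := by
  refine ⟨⟨fun {F G} φ hφ => ?_⟩, ⟨fun {F G} φ hφ => ?_⟩⟩
  · have h1 : Mono ((pushSh f).map φ).hom :=
      (sheafToPresheaf Y.smallEtaleTopology (Type (u + 1))).map_mono ((pushSh f).map φ)
    have h2 : ∀ V : Y.Etale, Function.Injective (φ.hom.app (op ((EtCoh.bc f).obj V))) := by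
      intro V
      have := (NatTrans.mono_iff_mono_app _).mp h1 (op V)
      exact (mono_iff_injective _).mp this
    haveI : Mono φ.hom := by
      rw [NatTrans.mono_iff_mono_app]
      intro U
      rw [mono_iff_injective]
      obtain ⟨V, h, hs⟩ := exists_cover_of_propC f hC U.unop
      intro s t hst
      apply map_injective_of_surjective F h hs
      apply h2 V
      have e1 := ConcreteCategory.congr_hom (φ.hom.naturality h.op) s
      have e2 := ConcreteCategory.congr_hom (φ.hom.naturality h.op) t
      dsimp at e1 e2
      rw [e1, e2, hst]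
    exact Sheaf.Hom.mono_of_presheaf_mono _ _ φ
  · have hls : Sheaf.IsLocallySurjective ((pushSh f).map φ) :=
      (Sheaf.isLocallySurjective_iff_epi _).mpr hφ
    suffices Sheaf.IsLocallySurjective φ from (Sheaf.isLocallySurjective_iff_epi _).mp this
    constructor
    intro U t
    obtain ⟨V, h, hs⟩ := exists_cover_of_propC f hC U
    have hS := hls.imageSieve_mem (U := V) (G.obj.map h.op t)
    have hS' := (EtCoh.coverPreserving_bc f).cover_preserve hS
    apply X.smallEtaleTopology.transitive (singleton_mem h hs)
    rintro W k ⟨_, l, _, ⟨⟩, rfl⟩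
    apply X.smallEtaleTopology.superset_covering _ (X.smallEtaleTopology.pullback_stable l hS')
    rintro W' m ⟨V'', a, b, ⟨s₀, hs₀⟩, hfac⟩
    refine ⟨F.obj.map b.op s₀, ?_⟩
    have nat := ConcreteCategory.congr_hom (φ.hom.naturality b.op) s₀
    dsimp at nat
    rw [nat]
    have hs₀' : φ.hom.app (op ((EtCoh.bc f).obj V'')) s₀ =
        G.obj.map ((EtCoh.bc f).map a).op (G.obj.map h.op t) := hs₀
    rw [hs₀']
    simp only [← types_comp_apply (G.obj.map _) (G.obj.map _), ← G.obj.map_comp, ← op_comp]
    congr 2
    rw [← Category.assoc, ← hfac, Category.assoc]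

end Groth.Agent.S6631
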