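import Groth.Statements.S6632
import Groth.Agent.Lib.Helper22.EtLoc.Clopen

set_option autoImplicit false
open CategoryTheory CategoryTheory.Limits AlgebraicGeometry Opposite
universe u
open EtCore

namespace Groth.Agent.S6632

open Groth.Agent.Lib.Helper22.EtLoc.Clopen Groth.Agent.Lib.Helper22.EtStalk
  Groth.Agent.Lib.Helper22.CechU.Etale

lemma propC_step {X Y V U : Scheme.{u}} (f : X ⟶ Y) (v : V ⟶ Y)
    (hC : BigSite.PropC (pullback.snd f v)) (q : U ⟶ pullback v f) [Etale q] (u : U) :
    ∃ (V' : Scheme.{u}) (v' : V' ⟶ V) (_ : Etale v') (θ : pullback (v' ≫ v) f ⟶ U) (y' : V'),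
      θ ≫ q ≫ pullback.fst v f = pullback.fst (v' ≫ v) f ≫ v' ∧
      θ ≫ q ≫ pullback.snd v f = pullback.snd (v' ≫ v) f ∧
      v' y' = (pullback.fst v f) (q u) := by
  let σ : pullback v f ≅ pullback f v := pullbackSymmetry v f
  obtain ⟨V', v', hv', h, hh, hsurj⟩ := hC U (q ≫ σ.hom)
  have c1 : pullback.snd (v' ≫ v) f ≫ f = (pullback.fst (v' ≫ v) f ≫ v') ≫ v := by
    rw [Category.assoc, pullback.condition]
  let l1 : pullback (v' ≫ v) f ⟶ pullback f v :=
    pullback.lift (pullback.snd (v' ≫ v) f) (pullback.fst (v' ≫ v) f ≫ v') c1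
  have c2 : l1 ≫ pullback.snd f v = pullback.fst (v' ≫ v) f ≫ v' := pullback.lift_snd _ _ _
  let l : pullback (v' ≫ v) f ⟶ pullback (pullback.snd f v) v' :=
    pullback.lift l1 (pullback.fst (v' ≫ v) f) c2
  have e1 : σ.hom ≫ pullback.snd f v = pullback.fst v f := pullbackSymmetry_hom_comp_snd v f
  have e2 : σ.hom ≫ pullback.fst f v = pullback.snd v f := pullbackSymmetry_hom_comp_fst v f
  have hh' : h ≫ q ≫ σ.hom = pullback.fst (pullback.snd f v) v' := hh
  obtain ⟨z, hz⟩ := hsurj.surj u
  refine ⟨V', v', hv', l ≫ h, (pullback.snd (pullback.snd f v) v') z, ?_, ?_, ?_⟩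
  · calc (l ≫ h) ≫ q ≫ pullback.fst v f = l ≫ (h ≫ q ≫ σ.hom) ≫ pullback.snd f v := by
          rw [← e1]; simp only [Category.assoc]
      _ = l ≫ pullback.fst (pullback.snd f v) v' ≫ pullback.snd f v := by rw [hh']
      _ = l1 ≫ pullback.snd f v := by rw [← Category.assoc, pullback.lift_fst]
      _ = _ := c2
  · calc (l ≫ h) ≫ q ≫ pullback.snd v f = l ≫ (h ≫ q ≫ σ.hom) ≫ pullback.fst f v := by
          rw [← e2]; simp only [Category.assoc]
      _ = l ≫ pullback.fst (pullback.snd f v) v' ≫ pullback.fst f v := by rw [hh']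
      _ = l1 ≫ pullback.fst f v := by rw [← Category.assoc, pullback.lift_fst]
      _ = _ := pullback.lift_fst _ _ _
  · have k1 : v' ((pullback.snd (pullback.snd f v) v') z) =
        (pullback.snd f v) ((pullback.fst (pullback.snd f v) v') z) := by
      rw [← Scheme.Hom.comp_apply, ← Scheme.Hom.comp_apply, pullback.condition]
    rw [k1, ← hh', ← e1]
    simp only [Scheme.Hom.comp_apply, hz]

lemma bc_map_fst {X Y : Scheme.{u}} (f : X ⟶ Y) {V' V₀ : Y.Etale} (k : V' ⟶ V₀) :
    ((EtCoh.bc f).map k).left ≫ (pullback.fst V₀.hom f : ((EtCoh.bc f).obj V₀).left ⟶ V₀.left) =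
      (pullback.fst V'.hom f : ((EtCoh.bc f).obj V').left ⟶ V'.left) ≫ k.left := by
  dsimp [EtCoh.bc]
  exact pullback.lift_fst _ _ _

lemma bc_map_snd {X Y : Scheme.{u}} (f : X ⟶ Y) {V' V₀ : Y.Etale} (k : V' ⟶ V₀) :
    ((EtCoh.bc f).map k).left ≫ (pullback.snd V₀.hom f : ((EtCoh.bc f).obj V₀).left ⟶ X) =
      (pullback.snd V'.hom f : ((EtCoh.bc f).obj V').left ⟶ X) := by
  dsimp [EtCoh.bc]
  exact pullback.lift_snd _ _ _

lemma range_fst_eq {X Y V : Scheme.{u}} (f : X ⟶ Y) (v : V ⟶ Y) :
    Set.range (pullback.fst v f) = Set.range (pullback.snd f v) := by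
  have e1 : (pullbackSymmetry v f).hom ≫ pullback.snd f v = pullback.fst v f :=
    pullbackSymmetry_hom_comp_snd v f
  have e2 : (pullbackSymmetry f v).hom ≫ pullback.fst v f = pullback.snd f v :=
    pullbackSymmetry_hom_comp_fst f v
  apply Set.Subset.antisymm
  · rintro _ ⟨z, rfl⟩
    exact ⟨(pullbackSymmetry v f).hom z, by rw [← Scheme.Hom.comp_apply, e1]⟩
  · rintro _ ⟨z, rfl⟩
    exact ⟨(pullbackSymmetry f v).hom z, by rw [← Scheme.Hom.comp_apply, e2]⟩

/-- Let f : X ⟶ Y be a morphism of schemes such that, for every etale V ⟶ Y, the base change X ×_Y V ⟶ V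
satisfies condition (C) (for every etale U ⟶ X ×_Y V there are an etale V' ⟶ V and a surjective
morphism from the base change of V' to U over X ×_Y V) and is closed as a map of topological spaces.
Then the base change functor V ↦ X ×_Y V from the small etale site of Y to that of X is almost
cocontinuous: every covering sieve of X ×_Y V contains the images of the members of some covering
sieve of V, except for members V' for which X ×_Y V' is covered by the empty sieve. -/
theorem result {X Y : Scheme.{u}} (f : X ⟶ Y)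
    (hC : ∀ (V : Scheme.{u}) (v : V ⟶ Y) [Etale v], BigSite.PropC (pullback.snd f v))
    (hcl : ∀ (V : Scheme.{u}) (v : V ⟶ Y) [Etale v], IsClosedMap (pullback.snd f v).base) :
    BigSite.IsAlmostCocontinuous (EtCoh.bc f) Y.smallEtaleTopology X.smallEtaleTopology := by
  intro V₀ R hR
  have hE : Etale (V₀.hom : V₀.left ⟶ Y) := V₀.prop
  let v : V₀.left ⟶ Y := V₀.hom
  let P := (EtCoh.bc f).obj V₀
  let prV : P.left ⟶ V₀.left := pullback.fst v f
  let R' : Sieve V₀ :=
    { arrows := fun V' g => IsEmpty ((EtCoh.bc f).obj V').left ∨ R ((EtCoh.bc f).map g)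
      downward_closed := by
        rintro V' V'' g (hg | hg) j
        · left
          exact ⟨fun z => hg.false (((EtCoh.bc f).map j).left z)⟩
        · right
          rw [Functor.map_comp]
          exact R.downward_closed hg _ }
  refine ⟨R', ?_, ?_⟩
  · rw [mem_smallEtaleTopology_iff]
    intro y
    by_cases hy : y ∈ Set.range prV
    · obtain ⟨x, hx⟩ := hy
      rw [mem_smallEtaleTopology_iff] at hR
      obtain ⟨Ui, qi, u, hqi, hu⟩ := hR x
      have hEq : Etale qi.left := by
        have h1 : Etale (Ui.hom : Ui.left ⟶ X) := Ui.prop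
        have h2 : Etale (P.hom : P.left ⟶ X) := P.prop
        have h3 : qi.left ≫ (P.hom : P.left ⟶ X) = Ui.hom := Over.w qi.hom
        have h4 : Etale (qi.left ≫ (P.hom : P.left ⟶ X)) := h3 ▸ h1
        exact Etale.of_comp qi.left (P.hom : P.left ⟶ X)
      let ql : Ui.left ⟶ pullback v f := qi.left
      have hEq' : Etale ql := hEq
      obtain ⟨V', v', hv', θ, y', h1, h2, h3⟩ := propC_step f v (hC V₀.left v) ql u
      let V'₀ : Y.Etale := MorphismProperty.Over.mk ⊤ (v' ≫ v)
        (inferInstance : Etale (v' ≫ v))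
      let k : V'₀ ⟶ V₀ := MorphismProperty.Over.homMk v' rfl trivial
      have hθ : θ ≫ (Ui.hom : Ui.left ⟶ X) = pullback.snd (v' ≫ v) f := by
        have h3 : ql ≫ pullback.snd v f = Ui.hom := Over.w qi.hom
        rw [← h3]
        exact h2
      let θ' : (EtCoh.bc f).obj V'₀ ⟶ Ui := MorphismProperty.Over.homMk θ hθ trivial
      refine ⟨V'₀, k, y', Or.inr ?_, ?_⟩
      · have e : (EtCoh.bc f).map k = θ' ≫ qi := by
          apply MorphismProperty.Over.Hom.ext
          apply pullback.hom_ext
          · exact (bc_map_fst f k).trans h1.symm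
          · exact (bc_map_snd f k).trans h2.symm
        rw [e]
        exact R.downward_closed hqi θ'
      · refine h3.trans ?_
        change prV (qi.left u) = y
        rw [hu, hx]
    · have hclosed : IsClosed (Set.range prV) := by
        have := (hcl V₀.left v).isClosed_range
        rwa [← range_fst_eq f v] at this
      let Wc : V₀.left.Opens := ⟨(Set.range prV)ᶜ, hclosed.isOpen_compl⟩
      refine ⟨openSub V₀ Wc, openSubι V₀ Wc, (⟨y, hy⟩ : Wc), Or.inl ?_, rfl⟩
      constructor
      intro z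
      let fz : (openSub V₀ Wc).left := (pullback.fst (openSub V₀ Wc).hom f :
        ((EtCoh.bc f).obj (openSub V₀ Wc)).left ⟶ (openSub V₀ Wc).left) z
      have e := bc_map_fst f (openSubι V₀ Wc)
      have e'' : (openSubι V₀ Wc).left fz = prV (((EtCoh.bc f).map (openSubι V₀ Wc)).left z) :=
        (Scheme.Hom.comp_apply (pullback.fst (openSub V₀ Wc).hom f :
          ((EtCoh.bc f).obj (openSub V₀ Wc)).left ⟶ (openSub V₀ Wc).left)
          (openSubι V₀ Wc).left z).symm.trans
          ((congrArg (fun φ : ((EtCoh.bc f).obj (openSub V₀ Wc)).left ⟶ V₀.left => φ z) e).symm.trans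
            (Scheme.Hom.comp_apply ((EtCoh.bc f).map (openSubι V₀ Wc)).left prV z))
      have hmem : (openSubι V₀ Wc).left fz ∈ Wc := fz.2
      have hmem' : prV (((EtCoh.bc f).map (openSubι V₀ Wc)).left z) ∈ Wc := e'' ▸ hmem
      exact hmem' ⟨_, rfl⟩
  · rintro V' g (hg | hg)
    · left
      rw [mem_smallEtaleTopology_iff]
      intro x
      exact (hg.false x).elim
    · right
      exact hg

end Groth.Agent.S6632
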