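import Groth.Statements.S6637
import Mathlib

set_option autoImplicit false
open CategoryTheory CategoryTheory.Limits AlgebraicGeometry Opposite
universe u
open BigSite

namespace Groth.Agent.S6637

universe v' u'

set_option backward.isDefEq.respectTransparency.types false in
theorem unit_iso {X Y : Scheme.{u}} (f : X ⟶ Y) [Mono f] (U : Over X) :
    IsIso ((Over.mapPullbackAdj f).unit.app U) := by
  have : IsIso ((Over.forget X).map ((Over.mapPullbackAdj f).unit.app U)) := by
    refine ⟨pullback.fst _ _, ?_, ?_⟩
    · simp
      exact pullback.lift_fst _ _ _
    · apply pullback.hom_ext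
      · simp
        erw [pullback.lift_fst]
        simp
      · simp
        erw [pullback.lift_snd]
        rw [← cancel_mono f]
        simpa using pullback.condition
  exact isIso_of_reflects_iso _ (Over.forget X)

set_option backward.isDefEq.respectTransparency.types false in
theorem counit_isIso {X Y : Scheme.{u}} (f : X ⟶ Y) [Mono f] (K : Precoverage Scheme.{u})
    (A : Type u') [Category.{v'} A] (F : Sheaf (QuotSh.J K X) A) :
    IsIso ((BigSite.bigAdj K f A).counit.app F) := by
  have : IsIso ((sheafToPresheaf _ _).map ((bigAdj K f A).counit.app F)) := by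
    rw [NatTrans.isIso_iff_isIso_app]
    intro U
    have := unit_iso f U.unop
    have h2 : IsIso (F.obj.map ((Over.mapPullbackAdj f).unit.app U.unop).op) := inferInstance
    simp
    exact h2
  exact isIso_of_reflects_iso _ (sheafToPresheaf _ _)


/-- For the Zariski, etale, smooth and fppf topologies: for a monomorphism of schemes f : X ⟶ Y the
counit f_big⁻¹ f_big,* F ⟶ F is an isomorphism for every sheaf of sets F on the big site of X, and
for every abelian sheaf. (The published statement also covers the syntomic topology; this row treats
the Zariski, etale, smooth and fppf topologies only.) -/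
theorem result {X Y : Scheme.{u}} (f : X ⟶ Y) [Mono f]
    (K : Precoverage Scheme.{u}) (hK : K = Scheme.zariskiPrecoverage ∨ K = Scheme.etalePrecoverage ∨
      K = Scheme.precoverage @Smooth ∨ K = Scheme.fppfPrecoverage) :
    (∀ F : QuotSh.Sh K X, IsIso ((BigSite.bigAdj K f (Type (u + 1))).counit.app F)) ∧
      (∀ F : BigSite.Ab K X, IsIso ((BigSite.bigAdj K f AddCommGrpCat.{u + 1}).counit.app F)) := by
  exact ⟨fun F => counit_isIso f K _ F, fun F => counit_isIso f K _ F⟩

end Groth.Agent.S6637
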