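import Groth.Statements.S6639
import Groth.Agent.S19234
import Groth.Agent.Lib.Helper9.FrobLang
import Groth.Agent.Lib.Helper9.FrobModCoord

set_option autoImplicit false
universe u
open scoped TensorProduct
open EtBase

namespace Groth.Agent.S6639

open Groth.Agent.Lib.Helper9


/-- Let k ⟶ k' be a homomorphism of algebraically closed fields of characteristic p > 0 (an extension of
algebraically closed fields), V a finite-dimensional k-vector space, F : V ⟶ V additive with F(c •
v) = c^p • F(v), and F' the additive endomorphism of V' = k' ⊗_k V satisfying F'(c ⊗ v) = c^p ⊗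
F(v). Then v ↦ 1 ⊗ v maps the fixed vectors of F bijectively onto the fixed vectors of F'. -/
theorem result {k k' V : Type u} [Field k] [IsAlgClosed k] [Field k']
    [IsAlgClosed k'] [Algebra k k'] (p : ℕ) [Fact p.Prime] [CharP k p]
    [AddCommGroup V] [Module k V] [FiniteDimensional k V] (F : V →+ V)
    (hF : ∀ (c : k) (v : V), F (c • v) = c ^ p • F v)
    (F' : k' ⊗[k] V →+ k' ⊗[k] V) (hF' : ∀ (c : k') (v : V), F' (c ⊗ₜ[k] v) = (c ^ p) ⊗ₜ[k] F v) :
    Set.BijOn (fun v : V => (1 : k') ⊗ₜ[k] v) {v : V | F v = v} {w : k' ⊗[k] V | F' w = w} := by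
  classical
  have hchar' : CharP k' p := charP_of_injective_algebraMap (algebraMap k k').injective p
  refine ⟨?_, ?_, ?_⟩
  · intro v hv
    change F' ((1 : k') ⊗ₜ[k] v) = (1 : k') ⊗ₜ[k] v
    rw [hF', one_pow, (show F v = v from hv)]
  · intro v _ w _ hvw
    exact Module.Flat.tensorProduct_mk_injective (R := k) (S := k') (M := V) hvw
  · intro w hw
    have hw' : F' w = w := hw
    let T : V →ₛₗ[frobenius k p] V :=
      { toFun := F
        map_add' := map_add F
        map_smul' := fun c v => hF c v }
    have hTF : ∀ v, T v = F v := fun _ => rfl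
    have hσ : Function.Surjective (frobenius k p) := surjective_frobenius k p
    have hres := (Groth.Agent.S19234.result k (frobenius k p) hσ V T
      (FrobLang.h2_frobenius p k) (FrobLang.h3_frobenius p k)).2
    let W : ℕ → Submodule k V := fun n => Submodule.span k (Set.range ((⇑T)^[n]))
    have hWanti : ∀ m, W (m + 1) ≤ W m := by
      intro m
      apply Submodule.span_le.2
      rintro _ ⟨y, rfl⟩
      apply Submodule.subset_span
      exact ⟨T y, by rw [Function.iterate_succ_apply]⟩
    have hWanti' : Antitone W := antitone_nat_of_succ_le hWanti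
    obtain ⟨N, hN⟩ : ∃ N, ∀ m, N ≤ m → W N = W m := by
      have := IsArtinian.monotone_stabilizes (R := k) (M := V)
        ⟨fun n => OrderDual.toDual (W n), fun a b hab => hWanti' hab⟩
      obtain ⟨N, hN⟩ := this
      exact ⟨N, fun m hm => hN m hm⟩
    have hVssN : (⨅ n : ℕ, Submodule.span k (Set.range ((⇑T)^[n]))) = W N := by
      apply le_antisymm
      · exact iInf_le _ N
      · apply le_iInf
        intro n
        by_cases h : N ≤ n
        · exact (hN n h).le
        · exact hWanti' (by omega)
    obtain ⟨b, hb⟩ := hres
    -- iterates of F' on pure tensors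
    have hiter : ∀ (n : ℕ) (c : k') (v : V), F'^[n] (c ⊗ₜ[k] v) = (c ^ p ^ n) ⊗ₜ[k] (F^[n] v) := by
      intro n
      induction n with
      | zero => intro c v; simp
      | succ n ih =>
        intro c v
        rw [Function.iterate_succ_apply', ih, hF', ← pow_mul, ← pow_succ,
          Function.iterate_succ_apply']
    have hrange : ∀ (n : ℕ) (w' : k' ⊗[k] V), F'^[n] w' ∈ (W n).baseChange k' := by
      intro n w'
      induction w' using TensorProduct.induction_on with
      | zero =>
        rw [iterate_map_zero]
        exact Submodule.zero_mem _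
      | tmul c v =>
        rw [hiter]
        exact Submodule.tmul_mem_baseChange_of_mem _ (Submodule.subset_span ⟨v, rfl⟩)
      | add x y hx hy =>
        rw [iterate_map_add]
        exact Submodule.add_mem _ hx hy
    have hwN : w ∈ (W N).baseChange k' := by
      have h1 : F'^[N] w = w := Function.iterate_fixed hw' N
      rw [← h1]
      exact hrange N w
    -- express via the fixed basis
    have hspan : W N = Submodule.span k (Set.range (fun i => (b i : V))) := by
      rw [← hVssN]
      have h1 := b.span_eq
      have h2 := congrArg (Submodule.map (Submodule.subtype _)) h1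
      rw [Submodule.map_span, Submodule.map_top, Submodule.range_subtype, ← Set.range_comp] at h2
      exact h2.symm
    rw [hspan, Submodule.baseChange_span, ← Set.range_comp] at hwN
    obtain ⟨c, hc⟩ := (Submodule.mem_span_range_iff_exists_fun k').1 hwN
    simp only [Function.comp_apply, TensorProduct.mk_apply] at hc
    have hFb : ∀ i, F (b i : V) = (b i : V) := fun i => hb i
    have hF'w : F' w = ∑ i, (c i) ^ p • ((1 : k') ⊗ₜ[k] (b i : V)) := by
      rw [← hc, map_sum]
      refine Finset.sum_congr rfl (fun i _ => ?_)
      rw [TensorProduct.smul_tmul', smul_eq_mul, mul_one, hF', hFb,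
        TensorProduct.smul_tmul', smul_eq_mul, mul_one]
    have hli : LinearIndependent k' (fun i => (1 : k') ⊗ₜ[k] (b i : V)) := by
      apply Module.Flat.linearIndependent_one_tmul
      exact b.linearIndependent.map' (Submodule.subtype _) (Submodule.ker_subtype _)
    have hcp : ∀ i, (c i) ^ p = c i := by
      have h4 : ∑ i, ((c i) ^ p - c i) • ((1 : k') ⊗ₜ[k] (b i : V)) = 0 := by
        rw [Finset.sum_congr rfl (fun i _ => sub_smul ((c i) ^ p) (c i) ((1 : k') ⊗ₜ[k] (b i : V))),
          Finset.sum_sub_distrib, ← hF'w, hc, hw', sub_self]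
      intro i
      have := Fintype.linearIndependent_iff.1 hli _ h4 i
      exact sub_eq_zero.mp this
    -- coefficients are natural numbers
    choose j hj using fun i => FrobModCoord.exists_natCast_of_pow_eq_field p k' (c i) (hcp i)
    refine ⟨∑ i, ((j i : ℕ) : k) • (b i : V), ?_, ?_⟩
    · change F (∑ i, ((j i : ℕ) : k) • (b i : V)) = ∑ i, ((j i : ℕ) : k) • (b i : V)
      rw [map_sum]
      refine Finset.sum_congr rfl (fun i _ => ?_)
      rw [hF, hFb, FrobModCoord.natCast_pow p k]
    · change (1 : k') ⊗ₜ[k] (∑ i, ((j i : ℕ) : k) • (b i : V)) = w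
      rw [← hc, TensorProduct.tmul_sum]
      refine Finset.sum_congr rfl (fun i _ => ?_)
      rw [TensorProduct.tmul_smul, ← hj i, Nat.cast_smul_eq_nsmul, Nat.cast_smul_eq_nsmul]

end Groth.Agent.S6639
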