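import Groth.Statements.S6647
import Groth.Agent.Lib.Helper22.EtLoc.LocalHom

set_option autoImplicit false
open CategoryTheory CategoryTheory.Limits AlgebraicGeometry Opposite
universe u
open EtCore

namespace Groth.Agent.S6647

open Groth.Agent.Lib.Helper22.EtLoc


/-- Let φ : F ⟶ G be a map of locally constant abelian sheaves on the small etale site of a scheme X,
with F finite locally constant. Then on the members of some etale covering of X the restriction of φ
is, up to isomorphisms with constant sheaves on both sides, the map of constant sheaves induced by a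
homomorphism of abelian groups. -/
theorem result {X : Scheme.{u}} (F G : EtCoh.Ab X) (φ : F ⟶ G)
    (hF : EtCoh.IsFiniteLocallyConstant F) (hG : EtRest.IsLocallyConstant G) :
    ∃ (ι : Type u) (U : ι → X.Etale), EtCoh.Covers U ∧ ∀ i, ∃ (M N : Type (u + 1)) (_ : AddCommGroup M) (_ : AddCommGroup N)
      (h : M →+ N)
      (α : EtCoh.restr F (U i) ≅ (constantSheaf (X.smallEtaleTopology.over (U i)) AddCommGrpCat.{u + 1}).obj (AddCommGrpCat.of M))
      (β : EtCoh.restr G (U i) ≅ (constantSheaf (X.smallEtaleTopology.over (U i)) AddCommGrpCat.{u + 1}).obj (AddCommGrpCat.of N)),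
      (X.smallEtaleTopology.overPullback AddCommGrpCat.{u + 1} (U i)).map φ ≫ β.hom = α.hom ≫ (constantSheaf (X.smallEtaleTopology.over (U i)) AddCommGrpCat.{u + 1}).map (AddCommGrpCat.ofHom h) := by
  have key : ∀ x : X, ∃ (U : X.Etale) (_ : x ∈ Set.range U.hom) (M N : Type (u + 1))
      (_ : AddCommGroup M) (_ : AddCommGroup N) (h : M →+ N)
      (α : EtCoh.restr F U ≅ (constantSheaf (X.smallEtaleTopology.over U) AddCommGrpCat.{u + 1}).obj (AddCommGrpCat.of M))
      (β : EtCoh.restr G U ≅ (constantSheaf (X.smallEtaleTopology.over U) AddCommGrpCat.{u + 1}).obj (AddCommGrpCat.of N)),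
      (X.smallEtaleTopology.overPullback AddCommGrpCat.{u + 1} U).map φ ≫ β.hom = α.hom ≫ (constantSheaf (X.smallEtaleTopology.over U) AddCommGrpCat.{u + 1}).map (AddCommGrpCat.ofHom h) := by
    intro x
    obtain ⟨W₁, w₁, hw₁, hx₁, M₀, i1, i2, ⟨e₁⟩⟩ := (Flc.flc_iff F).1 hF x
    obtain ⟨W₂, w₂, hw₂, hx₂, N, j1, ⟨e₂⟩⟩ := (LocalHom.lc_iff G).1 hG x
    have : Finite (AddCommGrpCat.of (ULift.{u + 1} M₀)) := inferInstanceAs (Finite (ULift.{u + 1} M₀))
    obtain ⟨U, hU, h, α, β, H⟩ := LocalHom.exists_overSite_groupHom φ x w₁ w₂ hx₁ hx₂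
      (AddCommGrpCat.of (ULift.{u + 1} M₀)) (AddCommGrpCat.of N) e₁ e₂
    exact ⟨U, hU, ULift.{u + 1} M₀, N, inferInstance, j1, h.hom, α, β, H⟩
  choose U hU M N iM iN h α β H using key
  refine ⟨X, U, fun x => ?_, fun x => ⟨M x, N x, iM x, iN x, h x, α x, β x, H x⟩⟩
  obtain ⟨y, hy⟩ := hU x
  exact ⟨x, y, hy⟩

end Groth.Agent.S6647
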