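import Groth.Statements.S6648
import Mathlib

set_option autoImplicit false
open CategoryTheory CategoryTheory.Limits AlgebraicGeometry Opposite
universe u
open EtCore

namespace Groth.Agent.S6648

/-- For a sheaf of (commutative) rings O on the small etale site of a scheme S, the set of points s of S
over which some geometric stalk of O is a nonzero ring is closed in S. (Rings are taken in the
universe of the schemes, as for the structure presheaf of the prelude.) -/
theorem result {S : Scheme.{u}} (O : Sheaf S.smallEtaleTopology CommRingCat.{u}) :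
    IsClosed {s : ↥S | ∃ (Ω : Type u) (_ : Field Ω) (_ : IsSepClosed Ω) (ξ : Spec (CommRingCat.of Ω) ⟶ S),
      ξ.base default = s ∧ Nontrivial ↑((Scheme.pointSmallEtale ξ).presheafFiber.obj O.obj)} := by
  rw [← isOpen_compl_iff, isOpen_iff_forall_mem_open]
  intro s hs
  -- a geometric point over `s`
  let Ω := AlgebraicClosure (S.residueField s)
  let ξ : Spec (CommRingCat.of Ω) ⟶ S :=
    Spec.map (CommRingCat.ofHom (algebraMap (S.residueField s) Ω)) ≫ S.fromSpecResidueField s
  have hξ : ξ.base default = s := by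
    change (S.fromSpecResidueField s).base _ = s
    exact S.fromSpecResidueField_apply _ _
  have htriv : ¬ Nontrivial ↑((Scheme.pointSmallEtale ξ).presheafFiber.obj O.obj) :=
    fun h => hs ⟨Ω, inferInstance, inferInstance, ξ, hξ, h⟩
  rw [not_nontrivial_iff_subsingleton] at htriv
  let X₀ : S.Etale := MorphismProperty.Over.mk ⊤ (𝟙 S) (inferInstance : Etale (𝟙 S))
  let x₀ : (Scheme.pointSmallEtale ξ).fiber.obj X₀ := Over.homMk ξ (by simp [X₀])
  have h10 : (Scheme.pointSmallEtale ξ).toPresheafFiber X₀ x₀ O.obj 1 =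
      (Scheme.pointSmallEtale ξ).toPresheafFiber X₀ x₀ O.obj 0 := Subsingleton.elim _ _
  obtain ⟨Y, f, y, hy, hY⟩ := ((Scheme.pointSmallEtale ξ).toPresheafFiber_eq_iff' X₀ x₀ 1 0).1 h10
  have hY' : (1 : O.obj.obj (op Y)) = 0 := by
    simpa using hY
  have hopen : IsOpenMap Y.hom := by
    have : Etale Y.hom := Y.prop
    exact Y.hom.isOpenMap
  refine ⟨Set.range Y.hom, ?_, hopen.isOpen_range, ?_⟩
  · rintro s' ⟨y', rfl⟩ ⟨Ω', _, _, ξ', hξ', hnt⟩
    obtain ⟨t, -⟩ := Scheme.pointSmallEtaleFiberObjToPreimage_surjective ξ' hξ' Y ⟨y', rfl⟩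
    have h1 := map_one ((Scheme.pointSmallEtale ξ').toPresheafFiber Y t O.obj).hom
    have h0 := map_zero ((Scheme.pointSmallEtale ξ').toPresheafFiber Y t O.obj).hom
    have : (1 : ↑((Scheme.pointSmallEtale ξ').presheafFiber.obj O.obj)) = 0 := by
      rw [← h1, ← h0, hY']
    exact (not_nontrivial_iff_subsingleton.2 (subsingleton_of_zero_eq_one this.symm)) hnt
  · have := (Scheme.pointSmallEtaleFiberObjToPreimage ξ hξ y).2
    exact ⟨_, this⟩

end Groth.Agent.S6648
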