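import Groth.Statements.S6658
import Groth.Agent.Lib.Helper22.KerSeq.Basic
import Groth.Agent.Lib.Helper22.DimShiftIso
import Groth.Agent.Lib.Helper22.AdaptedAcyclic
import Groth.Agent.Lib.Helper22.EtLoc.HpullDelta
import Groth.Agent.Lib.Helper22.EtLoc.OpenCover
import Groth.Agent.Lib.Helper22.EtLoc.MonoLoc
import Groth.Agent.Lib.Helper22.EtStalk.ExtZero

set_option autoImplicit false
universe u
open CategoryTheory CategoryTheory.Limits AlgebraicGeometry Opposite
open EtDual

namespace Groth.Agent.S6658

open Groth.Agent.Lib.Helper22 Groth.Agent.Lib.Helper22.EtLoc Groth.Agent.Lib.Helper22.EtStalk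

/-- Higher right derived functors of an exact functor vanish. -/
lemma isZero_rightDerived_succ_of_exact {A B : Type*} [Category A] [Abelian A] [EnoughInjectives A]
    [Category B] [Abelian B] (F : A ⥤ B) [F.Additive] [PreservesFiniteLimits F]
    [PreservesFiniteColimits F] (n : ℕ) (X : A) : IsZero ((F.rightDerived (n + 1)).obj X) :=
  AdaptedAcyclic.isZero_rightDerived_succ (F := F) (I := ⊤)
    (fun X => ⟨X, 𝟙 X, trivial, inferInstance⟩)
    (fun S hS _ _ => ⟨trivial, hS.map_of_exact F⟩) n X trivial

variable {X U : Scheme.{u}} (j : U ⟶ X) [IsOpenImmersion j]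

/-- The inclusion `Γ_Z ⟶ 𝟭`. -/
noncomputable def αι : EtDual.secSupp j ⟶ 𝟭 (EtCoh.Ab X) where
  app F := kernel.ι (EtDual.unitApp j F)
  naturality F G f := by
    dsimp
    exact kernel.lift_ι _ _ _

lemma αι_unit : αι j ≫ (EtCoh.pullPushAdj j).unit = 0 := by
  ext F : 2
  exact kernel.condition _

lemma mono_counit (V : X.Etale) : Mono ((pjAdj j).counit.app V) := by
  have h : Mono ((pjAdj j).counit.app V).left := by
    change Mono (pullback.fst V.hom j : ((EtCoh.bc j).obj V).left ⟶ V.left)
    infer_instance
  constructor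
  intro Z a b hab
  exact MorphismProperty.Over.Hom.ext
    ((cancel_mono ((pjAdj j).counit.app V).left).1 (congrArg (fun φ => φ.left) hab))

lemma resPushAdj_unit_app (F : EtCoh.Ab X) (V : X.Etale) :
    ((resPushAdj j).unit.app F).hom.app (op V) = F.obj.map ((pjAdj j).counit.app V).op := by
  rfl

lemma epi_unit_res (I : EtCoh.Ab X) [Injective I] : Epi ((resPushAdj j).unit.app I) := by
  have h : ∀ V : (X.Etale)ᵒᵖ, Epi (((resPushAdj j).unit.app I).hom.app V) := by
    intro V
    rw [show V = op V.unop from rfl, resPushAdj_unit_app, AddCommGrpCat.epi_iff_surjective]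
    have := mono_counit j V.unop
    exact surjective_res_of_injective I ((pjAdj j).counit.app V.unop)
  have : Epi ((resPushAdj j).unit.app I).hom := NatTrans.epi_of_epi_app _
  exact Functor.epi_of_epi_map (sheafToPresheaf _ _) this

lemma epi_unit (I : EtCoh.Ab X) [Injective I] : Epi (EtDual.unitApp j I) := by
  have h := Adjunction.unit_leftAdjointUniq_hom_app (EtCoh.pullPushAdj j) (resPushAdj j) I
  have := epi_unit_res j I
  have h2 : Epi ((EtCoh.pullPushAdj j).unit.app I ≫
      (EtCoh.push j).map ((Adjunction.leftAdjointUniq (EtCoh.pullPushAdj j) (resPushAdj j)).hom.app I)) := by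
    rw [h]; infer_instance
  have h3 : IsIso ((EtCoh.push j).map
      ((Adjunction.leftAdjointUniq (EtCoh.pullPushAdj j) (resPushAdj j)).hom.app I)) := inferInstance
  exact (epi_comp_iff_of_isIso _ _).1 h2

lemma injective_pull (I : EtCoh.Ab X) [Injective I] : Injective ((EtCoh.pull j).obj I) := by
  have : Injective ((EtShriek.restrAlong j).obj I) :=
    Injective.injective_of_adjoint (EtShriek.extZeroAdj j) I
  exact Injective.of_iso ((pullIsoRes j).app I).symm this


/-- The exact sequence and the isomorphisms: let j : U → X be an open immersion of schemes with closed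
complement Z and F an abelian sheaf on the small etale site of X. Write H^q_Z(F) for the q-th local
cohomology sheaf of F with support in Z, kept as a sheaf on X (the q-th right derived functor of G ↦
ker(G → j_* j⁻¹ G)). Then the cokernel of the unit F → j_* j⁻¹ F is isomorphic to H^1_Z(F), and for
every p ≥ 1 the higher direct image R^p j_* (j⁻¹ F) is isomorphic to H^{p+1}_Z(F). (The published
statement also gives the distinguished triangle behind these isomorphisms and identifies them with
its connecting maps; this row asserts only that isomorphisms exist.) -/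
theorem result {X U : Scheme.{u}} (j : U ⟶ X) [IsOpenImmersion j]
    (F : EtCoh.Ab X) :
    Nonempty (cokernel (EtDual.unitApp j F) ≅ (EtDual.locCoh j 1).obj F) ∧
      ∀ p : ℕ, 1 ≤ p →
        Nonempty ((EtCoh.Rpush j p).obj ((EtCoh.pull j).obj F) ≅ (EtDual.locCoh j (p + 1)).obj F) := by
  have hex : ∀ I : EtCoh.Ab X, Injective I →
      (ShortComplex.mk ((αι j).app I) ((EtCoh.pullPushAdj j).unit.app I)
        (KerSeq.w_app (αι j) (EtCoh.pullPushAdj j).unit (αι_unit j) I)).ShortExact := by
    intro I hI
    have : Epi ((EtCoh.pullPushAdj j).unit.app I) := epi_unit j I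
    have : Mono ((αι j).app I) := inferInstanceAs (Mono (kernel.ι (EtDual.unitApp j I)))
    exact ShortComplex.ShortExact.mk' (ShortComplex.exact_kernel _) ‹_› ‹_›
  have hz : ∀ n : ℕ, IsZero (((𝟭 (EtCoh.Ab X)).rightDerived (n + 1)).obj F) :=
    fun n => isZero_rightDerived_succ_of_exact _ n F
  refine ⟨?_, ?_⟩
  · exact KerSeq.nonempty_iso_one (αι j) (EtCoh.pullPushAdj j).unit (αι_unit j) hex F (hz 0)
  · intro p hp
    obtain ⟨n, rfl⟩ := Nat.exists_eq_succ_of_ne_zero (Nat.one_le_iff_ne_zero.1 hp)
    obtain ⟨e₁⟩ := KerSeq.nonempty_iso_succ (αι j) (EtCoh.pullPushAdj j).unit (αι_unit j) hex n F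
      (hz n) (hz (n + 1))
    obtain ⟨e₂⟩ := DimShift.nonempty_rightDerived_comp_iso (EtCoh.pull j) (EtCoh.push j)
      (EtCoh.pull j ⋙ EtCoh.push j) (Iso.refl _) (fun I hI => injective_pull j I) (n + 1) F
      (fun q => isZero_rightDerived_succ_of_exact _ q F)
    exact ⟨e₂ ≪≫ e₁⟩

end Groth.Agent.S6658
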