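import Groth.Statements.S6687
import Mathlib
import Groth.Prelude.Def_EtCore
import Groth.Agent.Lib.Helper2.BigSmall
import Groth.Agent.Lib.Helper2.BigBC
import Groth.Agent.Lib.Helper2.FFSite
import Groth.Agent.S6185

set_option autoImplicit false
universe u
open CategoryTheory CategoryTheory.Limits AlgebraicGeometry Opposite
open BigSite

namespace Groth.Agent.S6687

/-- cohomology is invariant under isomorphism -/
theorem nonempty_H_addEquiv_of_iso {C : Type*} [Category C] {J : GrothendieckTopology C}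
    [HasSheafify J AddCommGrpCat.{u}] [HasExt.{u} (Sheaf J AddCommGrpCat.{u})]
    {F G : Sheaf J AddCommGrpCat.{u}} (i : F ≅ G) (n : ℕ) :
    Nonempty (Sheaf.H F n ≃+ Sheaf.H G n) := by
  refine ⟨{ toFun := fun x => Sheaf.H.map i.hom n x, invFun := fun y => Sheaf.H.map i.inv n y, left_inv := ?_, right_inv := ?_, map_add' := ?_ }⟩
  · intro x
    change (Abelian.Ext.mk₀ i.inv).postcomp _ (add_zero n) ((Abelian.Ext.mk₀ i.hom).postcomp _ (add_zero n) x) = x
    simp
  · intro x
    change (Abelian.Ext.mk₀ i.hom).postcomp _ (add_zero n) ((Abelian.Ext.mk₀ i.inv).postcomp _ (add_zero n) x) = x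
    simp
  · intro x y
    exact map_add (Sheaf.H.map i.hom n) x y


set_option backward.isDefEq.respectTransparency.types false in
theorem main {T S : Scheme.{u}} (f : T ⟶ S) (n : ℕ) (F : EtCoh.Ab S) :
    Nonempty (BigSite.HU Scheme.etalePrecoverage ((BigSite.piEtPull Scheme.etalePrecoverage S).obj F) n (Over.mk f) ≃+
      EtCoh.H T ((EtCoh.pull f).obj F) n) := by
  let K := Scheme.etalePrecoverage.{u}
  let adj1 : piEtPull K S ⋙ pullBig K f AddCommGrpCat.{u+1} ⊣ pushBig K f AddCommGrpCat.{u+1} ⋙ resEt K S :=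
    (piEtAdj K S).comp (bigAdj K f AddCommGrpCat.{u+1})
  let adj2 : EtCoh.pull f ⋙ piEtPull K T ⊣ resEt K T ⋙ EtCoh.push f :=
    (EtCoh.pullPushAdj f).comp (piEtAdj K T)
  let α : piEtPull K S ⋙ pullBig K f AddCommGrpCat.{u+1} ≅ EtCoh.pull f ⋙ piEtPull K T :=
    (adj1.ofNatIsoRight (Groth.Agent.Lib.Helper2.BigBC.pushResIso K f)).leftAdjointUniq adj2
  obtain ⟨e1⟩ := nonempty_H_addEquiv_of_iso (α.app F) n
  obtain ⟨e2⟩ := Groth.Agent.S6185.main K T ((piEtPull K T).obj ((EtCoh.pull f).obj F)) n
  have : (EtFppf.a T).Full := inferInstanceAs (Scheme.Etale.forget T).Full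
  have : (EtFppf.a T).Faithful := inferInstanceAs (Scheme.Etale.forget T).Faithful
  have h2 := Groth.Agent.Lib.Helper2.FFSite.isIso_unit_cont (EtFppf.a T) T.smallEtaleTopology
    (QuotSh.J Scheme.etalePrecoverage T) AddCommGrpCat.{u + 1}
  have h3 : IsIso ((piEtAdj K T).unit.app ((EtCoh.pull f).obj F)) := inferInstance
  obtain ⟨e3⟩ := nonempty_H_addEquiv_of_iso (asIso ((piEtAdj K T).unit.app ((EtCoh.pull f).obj F))) n
  exact ⟨e1.trans (e2.symm.trans e3.symm)⟩


/-- Let f : T → S be a morphism of schemes, F an abelian sheaf on the small etale site of S and n ≥ 0.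
Write π_S⁻¹ F for the pullback of F to the big etale site of S. Then the cohomology of π_S⁻¹ F over
the object (T → S) of the big site is isomorphic to H^n(T_et, f⁻¹ F). (Existence of an isomorphism
of abelian groups only; the published statement identifies the two through the restriction of π_S⁻¹
F to the small etale site of T, which is f⁻¹ F.) -/
theorem result {T S : Scheme.{u}} (f : T ⟶ S) (n : ℕ) (F : EtCoh.Ab S) :
    Nonempty (BigSite.HU Scheme.etalePrecoverage ((BigSite.piEtPull Scheme.etalePrecoverage S).obj F) n (Over.mk f) ≃+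
      EtCoh.H T ((EtCoh.pull f).obj F) n) := by
  exact main f n F

end Groth.Agent.S6687
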