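import Groth.Statements.S6703
import Mathlib.CategoryTheory.Adjunction.FullyFaithful
-- import your own Groth.Agent.* helpers here

set_option autoImplicit false
universe v v' u u'
open CategoryTheory
open DEquiv

namespace Groth.Agent.S6703

section aux
open CategoryTheory.Limits CategoryTheory.Pretriangulated

variable {D : Type u} [Category.{v} D] [Preadditive D] [HasZeroObject D] [HasShift D ℤ]
    [∀ n : ℤ, (shiftFunctor D n).Additive] [Pretriangulated D]
    {D' : Type u'} [Category.{v'} D'] [Preadditive D'] [HasZeroObject D'] [HasShift D' ℤ]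
    [∀ n : ℤ, (shiftFunctor D' n).Additive] [Pretriangulated D']

/-- `F` is bijective on `Hom(X, Y)`. -/
def FF (F : D ⥤ D') (X Y : D) : Prop := Function.Bijective (fun f : X ⟶ Y => F.map f)

lemma FF_shift (F : D ⥤ D') [F.CommShift ℤ] {X Y : D} (h : FF F X Y) (n : ℤ) :
    FF F ((shiftFunctor D n).obj X) ((shiftFunctor D n).obj Y) := by
  constructor
  · intro g₁ g₂ hg
    obtain ⟨f₁, rfl⟩ := (shiftFunctor D n).map_surjective g₁
    obtain ⟨f₂, rfl⟩ := (shiftFunctor D n).map_surjective g₂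
    have hg' : F.map ((shiftFunctor D n).map f₁) = F.map ((shiftFunctor D n).map f₂) := hg
    have e₁ := F.commShiftIso_hom_naturality f₁ n
    have e₂ := F.commShiftIso_hom_naturality f₂ n
    rw [hg'] at e₁
    have e₃ : (shiftFunctor D' n).map (F.map f₁) = (shiftFunctor D' n).map (F.map f₂) := by
      rw [← cancel_epi ((F.commShiftIso n).hom.app X)]
      exact e₁.symm.trans e₂
    have e₄ : F.map f₁ = F.map f₂ := (shiftFunctor D' n).map_injective e₃
    rw [h.1 e₄]
  · intro k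
    obtain ⟨m, hm⟩ := (shiftFunctor D' n).map_surjective
      ((F.commShiftIso n).inv.app X ≫ k ≫ (F.commShiftIso n).hom.app Y)
    obtain ⟨f, hf⟩ := h.2 m
    refine ⟨(shiftFunctor D n).map f, ?_⟩
    have e₁ := F.commShiftIso_hom_naturality f n
    have hf' : F.map f = m := hf
    show F.map ((shiftFunctor D n).map f) = k
    rw [← cancel_mono ((F.commShiftIso n).hom.app Y), e₁, hf', hm, Iso.hom_inv_id_app_assoc]

lemma FF_iso (F : D ⥤ D') {X Y X' Y' : D} (h : FF F X Y) (e₁ : X ≅ X') (e₂ : Y ≅ Y') :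
    FF F X' Y' := by
  constructor
  · intro f₁ f₂ hf
    have hf' : F.map f₁ = F.map f₂ := hf
    have : F.map (e₁.hom ≫ f₁ ≫ e₂.inv) = F.map (e₁.hom ≫ f₂ ≫ e₂.inv) := by
      simp only [Functor.map_comp, hf']
    have h' := h.1 this
    rw [cancel_epi, cancel_mono] at h'
    exact h'
  · intro k
    obtain ⟨f, hf⟩ := h.2 (F.map e₁.hom ≫ k ≫ F.map e₂.inv)
    have hf' : F.map f = F.map e₁.hom ≫ k ≫ F.map e₂.inv := hf
    refine ⟨e₁.inv ≫ f ≫ e₂.hom, ?_⟩
    show F.map (e₁.inv ≫ f ≫ e₂.hom) = k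
    simp only [Functor.map_comp, hf', Category.assoc]
    rw [← Functor.map_comp, e₂.inv_hom_id, CategoryTheory.Functor.map_id, Category.comp_id,
      ← Functor.map_comp_assoc, e₁.inv_hom_id, CategoryTheory.Functor.map_id, Category.id_comp]

/-- The class of shifts of objects of `S` up to iso. -/
def SS (S : Set D) (W : D) : Prop := ∃ E ∈ S, ∃ j : ℤ, Nonempty (W ≅ (shiftFunctor D j).obj E)

lemma SS_shift (S : Set D) {W : D} (h : SS S W) (n : ℤ) : SS S ((shiftFunctor D n).obj W) := by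
  obtain ⟨E, hE, j, ⟨e⟩⟩ := h
  exact ⟨E, hE, j + n, ⟨(shiftFunctor D n).mapIso e ≪≫ ((shiftFunctorAdd D j n).app E).symm⟩⟩

lemma FF_SS (F : D ⥤ D') [F.CommShift ℤ] (S : Set D)
    (h4 : ∀ E ∈ S, ∀ E' ∈ S, ∀ i : ℤ,
      Function.Bijective (fun f : E ⟶ (shiftFunctor D i).obj E' => F.map f))
    {W W' : D} (hW : SS S W) (hW' : SS S W') : FF F W W' := by
  obtain ⟨E, hE, j, ⟨e⟩⟩ := hW
  obtain ⟨E', hE', k, ⟨e'⟩⟩ := hW'
  have h₁ : FF F E ((shiftFunctor D (k - j)).obj E') := h4 E hE E' hE' (k - j)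
  have h₂ := FF_shift F h₁ j
  exact FF_iso F h₂ e.symm
    (((shiftFunctorAdd' D (k - j) j k (by omega)).app E').symm ≪≫ e'.symm)

lemma isZero_of_SS_left (S : Set D)
    (h2 : ∀ K : D, (∀ E ∈ S, ∀ (i : ℤ) (f : E ⟶ (shiftFunctor D i).obj K), f = 0) → IsZero K)
    (K : D) (h : ∀ W, SS S W → ∀ f : W ⟶ K, f = 0) : IsZero K := by
  apply h2 K
  intro E hE i f
  have h₁ := h ((shiftFunctor D (-i)).obj E) ⟨E, hE, -i, ⟨Iso.refl _⟩⟩
    ((shiftFunctor D (-i)).map f ≫ (shiftShiftNeg K i).hom)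
  have h₂ : (shiftFunctor D (-i)).map f = 0 := by
    rw [← cancel_mono (shiftShiftNeg K i).hom, h₁, zero_comp]
  exact (shiftFunctor D (-i)).map_injective (by rw [h₂, Functor.map_zero])

lemma isZero_of_SS_right (S : Set D)
    (h3 : ∀ K : D, (∀ E ∈ S, ∀ (i : ℤ) (f : K ⟶ (shiftFunctor D i).obj E), f = 0) → IsZero K)
    (K : D) (h : ∀ W, SS S W → ∀ f : K ⟶ W, f = 0) : IsZero K :=
  h3 K (fun E hE i f => h _ ⟨E, hE, i, ⟨Iso.refl _⟩⟩ f)

lemma homEquiv_map (F : D ⥤ D') {H : D' ⥤ D} (adj : F ⊣ H) {W W' : D} (g : W ⟶ W') :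
    adj.homEquiv W (F.obj W') (F.map g) = g ≫ adj.unit.app W' := by
  rw [Adjunction.homEquiv_unit]
  exact adj.unit_naturality g

/-- Step 1: the unit is an iso on `SS`. -/
lemma isIso_unit (F : D ⥤ D') [F.CommShift ℤ] {H : D' ⥤ D} (adj : F ⊣ H) (S : Set D)
    (h2 : ∀ K : D, (∀ E ∈ S, ∀ (i : ℤ) (f : E ⟶ (shiftFunctor D i).obj K), f = 0) → IsZero K)
    (h4 : ∀ E ∈ S, ∀ E' ∈ S, ∀ i : ℤ,
      Function.Bijective (fun f : E ⟶ (shiftFunctor D i).obj E' => F.map f))
    {W' : D} (hW' : SS S W') : IsIso (adj.unit.app W') := by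
  have bij : ∀ W, SS S W → Function.Bijective (fun g : W ⟶ W' => g ≫ adj.unit.app W') := by
    intro W hW
    have h₁ := FF_SS F S h4 hW hW'
    have h₂ : (fun g : W ⟶ W' => g ≫ adj.unit.app W') =
        (adj.homEquiv W (F.obj W')) ∘ (fun g : W ⟶ W' => F.map g) := by
      funext g
      exact (homEquiv_map F adj g).symm
    rw [h₂]
    exact (adj.homEquiv W (F.obj W')).bijective.comp h₁
  obtain ⟨C, b, c, hT⟩ := distinguished_cocone_triangle (adj.unit.app W')
  have inj1 : ∀ W, SS S W → ∀ g : W ⟶ (shiftFunctor D (1 : ℤ)).obj W',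
      g ≫ (shiftFunctor D (1 : ℤ)).map (adj.unit.app W') = 0 → g = 0 := by
    intro W hW g hg
    have nat := (shiftFunctorCompIsoId D (1 : ℤ) (-1) (by omega)).hom.naturality (adj.unit.app W')
    have h₁ : ((shiftFunctor D (-1 : ℤ)).map g ≫
        (shiftFunctorCompIsoId D (1 : ℤ) (-1) (by omega)).hom.app W') ≫ adj.unit.app W' = 0 := by
      rw [Category.assoc]
      erw [← nat]
      dsimp
      rw [← Functor.map_comp_assoc, hg, Functor.map_zero, zero_comp]
    have h₂ := (bij _ (SS_shift S hW (-1))).1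
      (show _ = (0 : (shiftFunctor D (-1 : ℤ)).obj W ⟶ W') ≫ adj.unit.app W' by
        rw [zero_comp]; exact h₁)
    have h₃ : (shiftFunctor D (-1 : ℤ)).map g = 0 := by
      rw [← cancel_mono ((shiftFunctorCompIsoId D (1 : ℤ) (-1) (by omega)).hom.app W'), h₂,
        zero_comp]
    exact (shiftFunctor D (-1 : ℤ)).map_injective (by rw [h₃, Functor.map_zero])
  have hC : IsZero C := by
    apply isZero_of_SS_left S h2
    intro W hW f
    have h₁ : f ≫ c = 0 := by
      apply inj1 W hW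
      rw [Category.assoc]
      have this : c ≫ (shiftFunctor D (1 : ℤ)).map (adj.unit.app W') = 0 :=
        comp_distTriang_mor_zero₃₁ _ hT
      rw [this, comp_zero]
    obtain ⟨f', hf'⟩ : ∃ f' : W ⟶ H.obj (F.obj W'), f = f' ≫ b :=
      Triangle.coyoneda_exact₃ _ hT f h₁
    obtain ⟨g, hg⟩ := (bij W hW).2 f'
    have hg' : g ≫ adj.unit.app W' = f' := hg
    have z : adj.unit.app W' ≫ b = 0 := comp_distTriang_mor_zero₁₂ _ hT
    rw [hf', ← hg', Category.assoc, z, comp_zero]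
  exact (Triangle.isZero₃_iff_isIso₁ _ hT).1 hC

lemma FF_of_isIso_unit (F : D ⥤ D') {H : D' ⥤ D} (adj : F ⊣ H) (A W' : D)
    (h : IsIso (adj.unit.app W')) : FF F A W' := by
  have h₂ : (fun g : A ⟶ W' => F.map g) =
      (adj.homEquiv A (F.obj W')).symm ∘ (fun g : A ⟶ W' => g ≫ adj.unit.app W') := by
    funext g
    show F.map g = (adj.homEquiv A (F.obj W')).symm (g ≫ adj.unit.app W')
    rw [← homEquiv_map F adj g, Equiv.symm_apply_apply]
  show Function.Bijective (fun g : A ⟶ W' => F.map g)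
  rw [h₂]
  refine (adj.homEquiv A (F.obj W')).symm.bijective.comp ⟨?_, ?_⟩
  · intro g₁ g₂ hg
    exact (cancel_mono (adj.unit.app W')).1 hg
  · intro k
    exact ⟨k ≫ inv (adj.unit.app W'), by simp⟩

/-- Step 2: the counit of the left adjoint is an iso everywhere. -/
lemma isIso_counit (F : D ⥤ D') {G : D' ⥤ D} (adj' : G ⊣ F) (S : Set D)
    (h3 : ∀ K : D, (∀ E ∈ S, ∀ (i : ℤ) (f : K ⟶ (shiftFunctor D i).obj E), f = 0) → IsZero K)
    (hFF : ∀ (A W' : D), SS S W' → FF F A W') (A : D) : IsIso (adj'.counit.app A) := by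
  have bij : ∀ W', SS S W' → Function.Bijective (fun g : A ⟶ W' => adj'.counit.app A ≫ g) := by
    intro W' hW'
    have h₁ := hFF A W' hW'
    have h₂ : (fun g : A ⟶ W' => adj'.counit.app A ≫ g) =
        (adj'.homEquiv (F.obj A) W').symm ∘ (fun g : A ⟶ W' => F.map g) := by
      funext g
      show adj'.counit.app A ≫ g = (adj'.homEquiv (F.obj A) W').symm (F.map g)
      rw [Adjunction.homEquiv_counit]
      exact (adj'.counit_naturality g).symm
    rw [h₂]
    exact (adj'.homEquiv (F.obj A) W').symm.bijective.comp h₁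
  obtain ⟨C, b, c, hT⟩ := distinguished_cocone_triangle (adj'.counit.app A)
  have surj1 : ∀ W', SS S W' → ∀ f' : (shiftFunctor D (1 : ℤ)).obj (G.obj (F.obj A)) ⟶ W',
      ∃ g : (shiftFunctor D (1 : ℤ)).obj A ⟶ W',
        f' = (shiftFunctor D (1 : ℤ)).map (adj'.counit.app A) ≫ g := by
    intro W' hW' f'
    have nat := (shiftFunctorCompIsoId D (1 : ℤ) (-1) (by omega)).hom.naturality (adj'.counit.app A)
    obtain ⟨g₀, hg₀⟩ := (bij _ (SS_shift S hW' (-1))).2
      ((shiftFunctorCompIsoId D (1 : ℤ) (-1) (by omega)).inv.app _ ≫ (shiftFunctor D (-1 : ℤ)).map f')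
    have hg₀' : adj'.counit.app A ≫ g₀ =
      (shiftFunctorCompIsoId D (1 : ℤ) (-1) (by omega)).inv.app _ ≫
        (shiftFunctor D (-1 : ℤ)).map f' := hg₀
    obtain ⟨g, hg⟩ := (shiftFunctor D (-1 : ℤ)).map_surjective
      ((shiftFunctorCompIsoId D (1 : ℤ) (-1) (by omega)).hom.app A ≫ g₀)
    refine ⟨g, ?_⟩
    apply (shiftFunctor D (-1 : ℤ)).map_injective
    rw [Functor.map_comp, hg]
    have nat' : (shiftFunctor D (-1 : ℤ)).map ((shiftFunctor D (1 : ℤ)).map (adj'.counit.app A)) ≫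
        (shiftFunctorCompIsoId D (1 : ℤ) (-1) (by omega)).hom.app A =
        (shiftFunctorCompIsoId D (1 : ℤ) (-1) (by omega)).hom.app _ ≫ adj'.counit.app A := nat
    rw [← Category.assoc, nat', Category.assoc, hg₀', Iso.hom_inv_id_app_assoc]
  have hC : IsZero C := by
    apply isZero_of_SS_right S h3
    intro W' hW' f
    have z : adj'.counit.app A ≫ b = 0 := comp_distTriang_mor_zero₁₂ _ hT
    have h₁ : b ≫ f = 0 := by
      apply (bij W' hW').1
      show adj'.counit.app A ≫ (b ≫ f) = adj'.counit.app A ≫ 0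
      rw [← Category.assoc, z, zero_comp, comp_zero]
    obtain ⟨f', hf'⟩ : ∃ f' : (shiftFunctor D (1 : ℤ)).obj (G.obj (F.obj A)) ⟶ W', f = c ≫ f' :=
      Triangle.yoneda_exact₃ _ hT f h₁
    obtain ⟨g, hg⟩ := surj1 W' hW' f'
    have z' : c ≫ (shiftFunctor D (1 : ℤ)).map (adj'.counit.app A) = 0 :=
      comp_distTriang_mor_zero₃₁ _ hT
    rw [hf', hg, ← Category.assoc, z', zero_comp]
  exact (Triangle.isZero₃_iff_isIso₁ _ hT).1 hC

end aux

open CategoryTheory.Limits CategoryTheory.Pretriangulated in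
/-- Let F : D ⥤ D' be an exact functor of triangulated categories admitting both a left and a right
adjoint, and let S be a set of objects of D such that an object K of D is zero as soon as Hom(E,
K⟦i⟧) = 0 for all E ∈ S and i ∈ ℤ, and also as soon as Hom(K, E⟦i⟧) = 0 for all E ∈ S and i ∈ ℤ. If
for all E, E' ∈ S and i ∈ ℤ the map Hom(E, E'⟦i⟧) → Hom(F E, F (E'⟦i⟧)) given by F is bijective,
then F is full and faithful. -/
theorem result
    {D : Type u} [Category.{v} D] [Preadditive D] [HasZeroObject D] [HasShift D ℤ]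
    [∀ n : ℤ, (shiftFunctor D n).Additive] [Pretriangulated D] [IsTriangulated D]
    {D' : Type u'} [Category.{v'} D'] [Preadditive D'] [HasZeroObject D'] [HasShift D' ℤ]
    [∀ n : ℤ, (shiftFunctor D' n).Additive] [Pretriangulated D'] [IsTriangulated D']
    (F : D ⥤ D') [F.CommShift ℤ] [F.IsTriangulated] [F.IsLeftAdjoint] [F.IsRightAdjoint]
    (S : Set D)
    (h2 : ∀ K : D, (∀ E ∈ S, ∀ (i : ℤ) (f : E ⟶ (shiftFunctor D i).obj K), f = 0) → IsZero K)
    (h3 : ∀ K : D, (∀ E ∈ S, ∀ (i : ℤ) (f : K ⟶ (shiftFunctor D i).obj E), f = 0) → IsZero K)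
    (h4 : ∀ E ∈ S, ∀ E' ∈ S, ∀ i : ℤ,
      Function.Bijective (fun f : E ⟶ (shiftFunctor D i).obj E' => F.map f)) :
    F.Full ∧ F.Faithful := by
  have adj := Adjunction.ofIsLeftAdjoint F
  have adj' := Adjunction.ofIsRightAdjoint F
  have h₁ : ∀ W', SS S W' → IsIso (adj.unit.app W') := fun W' hW' =>
    isIso_unit F adj S h2 h4 hW'
  have h₂ : ∀ (A W' : D), SS S W' → FF F A W' := fun A W' hW' =>
    FF_of_isIso_unit F adj A W' (h₁ W' hW')
  have h₃ : ∀ A, IsIso (adj'.counit.app A) := fun A => isIso_counit F adj' S h3 h₂ A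
  have h₄ : IsIso adj'.counit := NatIso.isIso_of_isIso_app _
  have ff := adj'.fullyFaithfulROfIsIsoCounit
  exact ⟨ff.full, ff.faithful⟩

end Groth.Agent.S6703
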