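import Groth.Statements.S6708
-- import your own Groth.Agent.* helpers here

set_option autoImplicit false
universe v u
open CategoryTheory
open DEquiv

namespace Groth.Agent.S6708

section
open CategoryTheory Limits Pretriangulated
variable {D : Type u} [Category.{v} D] [Preadditive D] [HasZeroObject D] [HasShift D ℤ]
    [∀ n : ℤ, (shiftFunctor D n).Additive] [Pretriangulated D]

theorem filt_main (P : ObjectProperty D) [P.IsTriangulated] (X : D) :
    IsFiltered (CostructuredArrow P.ι X) := by
  have hne : Nonempty (CostructuredArrow P.ι X) := by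
    obtain ⟨Z, hZ, hPZ⟩ := (inferInstance : P.ContainsZero).exists_zero
    exact ⟨CostructuredArrow.mk (Y := (⟨Z, hPZ⟩ : P.FullSubcategory)) (0 : Z ⟶ X)⟩
  have : IsFilteredOrEmpty (CostructuredArrow P.ι X) := by
    constructor
    · intro A B
      obtain ⟨Y, hY, ⟨(e : A.left.obj ⊞ B.left.obj ≅ Y)⟩⟩ := P.ext_of_isTriangulatedClosed₂' _
        (binaryBiproductTriangle_distinguished A.left.obj B.left.obj) A.left.property B.left.property
      let C : CostructuredArrow P.ι X :=
        CostructuredArrow.mk (Y := (⟨Y, hY⟩ : P.FullSubcategory)) (e.inv ≫ biprod.desc A.hom B.hom)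
      refine ⟨C, CostructuredArrow.homMk (ObjectProperty.homMk (biprod.inl ≫ e.hom)) ?_,
        CostructuredArrow.homMk (ObjectProperty.homMk (biprod.inr ≫ e.hom)) ?_, trivial⟩
      · simp only [C, CostructuredArrow.mk_left, CostructuredArrow.mk_hom_eq_self,
          ObjectProperty.ι_map, ObjectProperty.homMk_hom, Category.assoc]
        rw [e.hom_inv_id_assoc]; exact biprod.inl_desc _ _
      · simp only [C, CostructuredArrow.mk_left, CostructuredArrow.mk_hom_eq_self,
          ObjectProperty.ι_map, ObjectProperty.homMk_hom, Category.assoc]
        rw [e.hom_inv_id_assoc]; exact biprod.inr_desc _ _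
    · intro A B f g
      have hf : f.left.hom ≫ B.hom = A.hom := CostructuredArrow.w f
      have hg : g.left.hom ≫ B.hom = A.hom := CostructuredArrow.w g
      obtain ⟨Z, hZ, b, c, hT⟩ := P.distinguished_cocone_triangle (f.left.hom - g.left.hom)
        A.left.property B.left.property
      obtain ⟨k, hk⟩ := Triangle.yoneda_exact₂ _ hT B.hom (by
        change (f.left.hom - g.left.hom) ≫ B.hom = 0
        rw [Preadditive.sub_comp, hf, hg, sub_self])
      change Z ⟶ X at k
      change B.hom = b ≫ k at hk
      let C : CostructuredArrow P.ι X :=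
        CostructuredArrow.mk (Y := (⟨Z, hZ⟩ : P.FullSubcategory)) k
      refine ⟨C, CostructuredArrow.homMk (ObjectProperty.homMk b) (by simp [C, hk]), ?_⟩
      ext
      have h0 : (f.left.hom - g.left.hom) ≫ b = 0 := comp_distTriang_mor_zero₁₂ _ hT
      rw [Preadditive.sub_comp, sub_eq_zero] at h0
      simpa using h0
  exact { }

end


open CategoryTheory.Limits CategoryTheory.Pretriangulated in
/-- Let D be a pretriangulated category, D' ⊆ D a full triangulated subcategory (given as a property of
objects that is triangulated in Mathlib's sense) and X an object of D. Then the category of arrows E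
⟶ X with E in D' is filtered. -/
theorem result
    {D : Type u} [Category.{v} D] [Preadditive D] [HasZeroObject D] [HasShift D ℤ]
    [∀ n : ℤ, (shiftFunctor D n).Additive] [Pretriangulated D]
    (P : ObjectProperty D) [P.IsTriangulated] (X : D) :
    IsFiltered (CostructuredArrow P.ι X) := by
  exact filt_main P X

end Groth.Agent.S6708
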