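import Groth.Statements.S6712
import Groth.Agent.Lib.Helper25.FibreIso

set_option autoImplicit false
universe u
open CategoryTheory AlgebraicGeometry
open DEquiv

namespace Groth.Agent.S6712

open CategoryTheory.Limits in
/-- Let S be a Noetherian scheme, s ∈ S, and p : X ⟶ Y a morphism over S where X ⟶ S and Y ⟶ S are
proper and X ⟶ S is flat. If the fibre X_s ⟶ Y_s of p is an isomorphism, then there is an open
neighbourhood U of s such that the base change X_U ⟶ Y_U of p is an isomorphism. -/
theorem result
    {S X Y : Scheme.{u}} [IsNoetherian S] (s : S) (g : X ⟶ S) (h : Y ⟶ S) (p : X ⟶ Y)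
    (w : p ≫ h = g) [IsProper g] [IsProper h] [Flat g]
    (hs : IsIso (pullback.map g (S.fromSpecResidueField s) h (S.fromSpecResidueField s) p (𝟙 _)
      (𝟙 _) ((Category.comp_id g).trans w.symm)
      ((Category.comp_id _).trans (Category.id_comp _).symm))) :
    ∃ U : S.Opens, s ∈ U ∧
      IsIso (pullback.map g U.ι h U.ι p (𝟙 _) (𝟙 _) ((Category.comp_id g).trans w.symm)
        ((Category.comp_id _).trans (Category.id_comp _).symm)) := by
  have hpp : IsProper p := by
    have : IsProper (p ≫ h) := by rw [w]; infer_instance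
    exact IsProper.of_comp p h
  have hlift := Groth.Agent.Lib.Helper25.FibreIso.liftsOverFibre_of_isIso g h p w s _ _ hs
  have hfib : ∀ y : Y, h y = s → IsIso (p.fiberToSpecResidueField y) := by
    intro y hy
    subst hy
    exact Groth.Agent.Lib.Helper25.FibreIso.isIso_fiberToSpecResidueField_of_isIso g h p w y _ _ hs
  obtain ⟨U, hsU, hiso⟩ :=
    Groth.Agent.Lib.Helper25.FibreIso.exists_isIso_restrict_preimage g h p w h.isClosedMap s
      hlift hfib
  refine ⟨U, hsU, ?_⟩
  refine Groth.Agent.Lib.Helper25.FibreIso.of_restrict_of_isPullback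
    (MorphismProperty.isomorphisms Scheme) (h ⁻¹ᵁ U) hiso
    (Groth.Agent.Lib.Helper25.FibreIso.isPullback_map_fst g h p w U.ι _ _) ?_
  rintro _ ⟨z, rfl⟩
  change h (pullback.fst h U.ι z) ∈ U
  rw [← Scheme.Hom.comp_apply, pullback.condition, Scheme.Hom.comp_apply]
  exact (pullback.snd h U.ι z).2


end Groth.Agent.S6712
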