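import Groth.Statements.S6718
import Mathlib

set_option autoImplicit false
universe w v u
open CategoryTheory
open DEquiv

namespace Groth.Agent.S6718
section Aux

section LinAlg

variable {k : Type w} [Field k] {V W : Type v} [AddCommGroup V] [Module k V] [AddCommGroup W]
  [Module k W] [Module.Finite k V] [Module.Finite k W]

theorem flip_bijective (D : V ≃ₗ[k] Module.Dual k W) :
    Function.Bijective (D : V →ₗ[k] Module.Dual k W).flip := by
  let Φ : W →ₗ[k] Module.Dual k V := (D : V →ₗ[k] Module.Dual k W).flip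
  have hinj : Function.Injective Φ := by
    rw [injective_iff_map_eq_zero]
    intro w hw
    rw [← Module.forall_dual_apply_eq_zero_iff k]
    intro g
    obtain ⟨v, rfl⟩ := D.surjective g
    exact LinearMap.congr_fun hw v
  have hrank : Module.finrank k W = Module.finrank k (Module.Dual k V) := by
    rw [Subspace.dual_finrank_eq, D.finrank_eq, Subspace.dual_finrank_eq]
  have hsurj : Function.Surjective Φ :=
    (LinearMap.injective_iff_surjective_of_finrank_eq_finrank hrank).mp hinj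
  exact ⟨hinj, hsurj⟩

/-- flip of a perfect pairing -/
noncomputable def flipEquiv (D : V ≃ₗ[k] Module.Dual k W) : W ≃ₗ[k] Module.Dual k V :=
  LinearEquiv.ofBijective (D : V →ₗ[k] Module.Dual k W).flip (flip_bijective D)

lemma flipEquiv_apply (D : V ≃ₗ[k] Module.Dual k W) (w : W) (v : V) :
    flipEquiv D w v = D v w := rfl

end LinAlg

variable {k : Type w} [Field k]
    {T : Type u} [Category.{v} T] [Preadditive T] [Linear k T]
    [∀ X Y : T, Module.Finite k (X ⟶ Y)]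

variable (k T) in
/-- representing data for `Y ↦ Hom(X,Y)^∨` -/
structure RepData where
  S₀ : T → T
  e : ∀ X Y : T, (Y ⟶ S₀ X) ≃ₗ[k] Module.Dual k (X ⟶ Y)
  he : ∀ (X Y Y' : T) (g : Y' ⟶ Y) (f : Y ⟶ S₀ X),
    e X Y' (g ≫ f) = (e X Y f) ∘ₗ Linear.rightComp k X g

variable (k T) in
/-- corepresenting data for `Y ↦ Hom(Y,X)^∨` -/
structure CorepData where
  R₀ : T → T
  e' : ∀ X Y : T, (R₀ X ⟶ Y) ≃ₗ[k] Module.Dual k (Y ⟶ X)
  he' : ∀ (X Y Y' : T) (g : Y ⟶ Y') (f : R₀ X ⟶ Y),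
    e' X Y' (f ≫ g) = (e' X Y f) ∘ₗ Linear.leftComp k X g

namespace RepData

variable (A : RepData k T)

noncomputable def t (X : T) : Module.Dual k (X ⟶ A.S₀ X) := A.e X (A.S₀ X) (𝟙 _)

lemma e_apply (X Y : T) (u : Y ⟶ A.S₀ X) (h : X ⟶ Y) : A.e X Y u h = A.t X (h ≫ u) := by
  have := A.he X (A.S₀ X) Y u (𝟙 _)
  rw [Category.comp_id] at this
  rw [this]
  rfl

lemma hom_ext_t (X Z : T) (w₁ w₂ : Z ⟶ A.S₀ X)
    (h : ∀ v : X ⟶ Z, A.t X (v ≫ w₁) = A.t X (v ≫ w₂)) : w₁ = w₂ := by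
  apply (A.e X Z).injective
  ext v
  rw [e_apply, e_apply, h]

noncomputable def mapS {X' X : T} (a : X' ⟶ X) : A.S₀ X' ⟶ A.S₀ X :=
  (A.e X (A.S₀ X')).symm ((A.t X').comp (Linear.leftComp k (A.S₀ X') a))

lemma mapS_spec {X' X : T} (a : X' ⟶ X) (v : X ⟶ A.S₀ X') :
    A.t X (v ≫ A.mapS a) = A.t X' (a ≫ v) := by
  rw [← e_apply]
  unfold mapS
  rw [LinearEquiv.apply_symm_apply]
  rfl

/-- the Serre functor built from representing objects -/
noncomputable abbrev F : T ⥤ T where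
  obj := A.S₀
  map a := A.mapS a
  map_id X := by
    apply A.hom_ext_t
    intro v
    rw [mapS_spec, Category.id_comp, Category.comp_id]
  map_comp a b := by
    apply A.hom_ext_t
    intro v
    rw [mapS_spec, ← Category.assoc v, mapS_spec, ← Category.assoc b, mapS_spec,
      Category.assoc]

lemma F_obj (X : T) : A.F.obj X = A.S₀ X := rfl
lemma F_map {X' X : T} (a : X' ⟶ X) : A.F.map a = A.mapS a := rfl

instance : A.F.Additive where
  map_add {X Y a b} := by
    apply A.hom_ext_t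
    intro v
    change A.t Y (v ≫ A.mapS (a + b)) = A.t Y (v ≫ (A.mapS a + A.mapS b))
    rw [Preadditive.comp_add, map_add, mapS_spec, mapS_spec, mapS_spec, Preadditive.add_comp,
      map_add]

instance : A.F.Linear k where
  map_smul {X Y} a r := by
    apply A.hom_ext_t
    intro v
    change A.t Y (v ≫ A.mapS (r • a)) = A.t Y (v ≫ (r • A.mapS a))
    rw [Linear.comp_smul, map_smul, mapS_spec, mapS_spec, Linear.smul_comp, map_smul]

noncomputable def c (X Y : T) : (X ⟶ Y) ≃ₗ[k] Module.Dual k (Y ⟶ A.F.obj X) :=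
  flipEquiv (A.e X Y)

lemma c_apply (X Y : T) (f : X ⟶ Y) (u : Y ⟶ A.F.obj X) : A.c X Y f u = A.t X (f ≫ u) := by
  change A.e X Y u f = _
  rw [e_apply]

lemma hc₁ (X Y Y' : T) (f : X ⟶ Y) (g : Y ⟶ Y') :
    A.c X Y' (f ≫ g) = (A.c X Y f) ∘ₗ Linear.leftComp k (A.F.obj X) g := by
  ext u
  change A.c X Y' (f ≫ g) u = A.c X Y f (g ≫ u)
  rw [c_apply, c_apply, Category.assoc]

lemma hc₂ (X' X Y : T) (a : X' ⟶ X) (f : X ⟶ Y) :
    A.c X' Y (a ≫ f) = (A.c X Y f) ∘ₗ Linear.rightComp k Y (A.F.map a) := by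
  ext u
  change A.c X' Y (a ≫ f) u = A.c X Y f (u ≫ A.mapS a)
  rw [c_apply, c_apply, ← Category.assoc f, mapS_spec, Category.assoc]

lemma mapS_eq {X' X : T} (a : X' ⟶ X) :
    A.mapS a = (A.e X (A.S₀ X')).symm (A.c X' X a) := by
  unfold mapS
  congr 1
  ext u
  rw [c_apply]
  rfl

instance : A.F.Faithful where
  map_injective {X Y} a b h := by
    change A.mapS a = A.mapS b at h
    rw [mapS_eq, mapS_eq] at h
    exact (A.c X Y).injective ((A.e Y (A.S₀ X)).symm.injective h)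

instance : A.F.Full where
  map_surjective {X Y} g := by
    obtain ⟨a, ha⟩ := (A.c X Y).surjective (A.e Y (A.S₀ X) g)
    refine ⟨a, ?_⟩
    change A.mapS a = g
    rw [mapS_eq, ha, LinearEquiv.symm_apply_apply]

end RepData

namespace CorepData

variable (B : CorepData k T)

noncomputable def s (X : T) : Module.Dual k (B.R₀ X ⟶ X) := B.e' X (B.R₀ X) (𝟙 _)

lemma e'_apply (X Y : T) (f : B.R₀ X ⟶ Y) (u : Y ⟶ X) : B.e' X Y f u = B.s X (f ≫ u) := by
  have := B.he' X (B.R₀ X) Y f (𝟙 _)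
  rw [Category.id_comp] at this
  rw [this]
  rfl

lemma hom_ext_s (X Z : T) (w₁ w₂ : Z ⟶ X)
    (h : ∀ v : B.R₀ X ⟶ Z, B.s X (v ≫ w₁) = B.s X (v ≫ w₂)) : w₁ = w₂ := by
  apply (flipEquiv (B.e' X Z)).injective
  ext v
  rw [flipEquiv_apply, flipEquiv_apply, e'_apply, e'_apply, h]

end CorepData

lemma essSurj (A : RepData k T) (B : CorepData k T) : A.F.EssSurj := by
  refine ⟨fun X => ?_⟩
  obtain ⟨α, hα⟩ := (flipEquiv (B.e' X (A.S₀ (B.R₀ X)))).surjective (A.t (B.R₀ X))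
  obtain ⟨β, hβ⟩ := (A.e (B.R₀ X) X).surjective (B.s X)
  have hα' : ∀ f : B.R₀ X ⟶ A.S₀ (B.R₀ X), B.s X (f ≫ α) = A.t (B.R₀ X) f := by
    intro f
    rw [← hα, flipEquiv_apply, B.e'_apply]
  have hβ' : ∀ f : B.R₀ X ⟶ X, A.t (B.R₀ X) (f ≫ β) = B.s X f := by
    intro f
    rw [← hβ, A.e_apply]
  refine ⟨B.R₀ X, ⟨⟨α, β, ?_, ?_⟩⟩⟩
  · apply A.hom_ext_t
    intro v
    rw [← Category.assoc, hβ', hα', Category.comp_id]
  · apply B.hom_ext_s
    intro v
    rw [← Category.assoc, hα', hβ', Category.comp_id]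

lemma final (A : RepData k T) (B : CorepData k T) :
    ∃ (S : T ≌ T) (_ : S.functor.Additive) (_ : S.functor.Linear k)
        (c : ∀ X Y : T, (X ⟶ Y) ≃ₗ[k] Module.Dual k (Y ⟶ S.functor.obj X)),
        (∀ (X Y Y' : T) (f : X ⟶ Y) (g : Y ⟶ Y'),
          c X Y' (f ≫ g) = (c X Y f) ∘ₗ Linear.leftComp k (S.functor.obj X) g) ∧
        (∀ (X' X Y : T) (a : X' ⟶ X) (f : X ⟶ Y),
          c X' Y (a ≫ f) = (c X Y f) ∘ₗ Linear.rightComp k Y (S.functor.map a)) := by
  have : A.F.EssSurj := essSurj A B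
  have : A.F.IsEquivalence := { }
  exact ⟨A.F.asEquivalence, inferInstanceAs (A.F.Additive), inferInstanceAs (A.F.Linear k),
    A.c, A.hc₁, A.hc₂⟩

end Aux

open CategoryTheory.Limits CategoryTheory.Pretriangulated in

open CategoryTheory.Limits CategoryTheory.Pretriangulated in
/-- Let k be a field and T a k-linear (pre)triangulated category with dim_k Hom(X, Y) < ∞ for all X, Y.
The following are equivalent: (1) there are a k-linear equivalence S : T ⥤ T and k-linear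
isomorphisms c_{X,Y} : Hom(X, Y) ≅ Hom(Y, S X)^∨ natural in X and in Y; (2) for every object X the
functor Y ↦ Hom(X, Y)^∨ is representable and the functor Y ↦ Hom(Y, X)^∨ is corepresentable, by
k-linear isomorphisms natural in Y. (Here V^∨ is the k-linear dual.) -/
theorem result
    {k : Type w} [Field k]
    {T : Type u} [Category.{v} T] [Preadditive T] [Linear k T] [HasZeroObject T] [HasShift T ℤ]
    [∀ n : ℤ, (shiftFunctor T n).Additive] [∀ n : ℤ, (shiftFunctor T n).Linear k] [Pretriangulated T]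
    [∀ X Y : T, Module.Finite k (X ⟶ Y)] :
    (∃ (S : T ≌ T) (_ : S.functor.Additive) (_ : S.functor.Linear k)
        (c : ∀ X Y : T, (X ⟶ Y) ≃ₗ[k] Module.Dual k (Y ⟶ S.functor.obj X)),
        (∀ (X Y Y' : T) (f : X ⟶ Y) (g : Y ⟶ Y'),
          c X Y' (f ≫ g) = (c X Y f) ∘ₗ Linear.leftComp k (S.functor.obj X) g) ∧
        (∀ (X' X Y : T) (a : X' ⟶ X) (f : X ⟶ Y),
          c X' Y (a ≫ f) = (c X Y f) ∘ₗ Linear.rightComp k Y (S.functor.map a))) ↔
    ((∀ X : T, ∃ (SX : T) (e : ∀ Y : T, (Y ⟶ SX) ≃ₗ[k] Module.Dual k (X ⟶ Y)),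
        ∀ (Y Y' : T) (g : Y' ⟶ Y) (f : Y ⟶ SX),
          e Y' (g ≫ f) = (e Y f) ∘ₗ Linear.rightComp k X g) ∧
      (∀ X : T, ∃ (RX : T) (e : ∀ Y : T, (RX ⟶ Y) ≃ₗ[k] Module.Dual k (Y ⟶ X)),
        ∀ (Y Y' : T) (g : Y ⟶ Y') (f : RX ⟶ Y),
          e Y' (f ≫ g) = (e Y f) ∘ₗ Linear.leftComp k X g)) := by
  classical
  constructor
  · rintro ⟨S, hadd, hlin, c, hc₁, hc₂⟩
    constructor
    · intro X
      refine ⟨S.functor.obj X, fun Y => flipEquiv (c X Y), ?_⟩
      intro Y Y' g f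
      ext v
      change c X Y' v (g ≫ f) = c X Y (v ≫ g) f
      rw [hc₁]
      rfl
    · intro X
      refine ⟨S.inverse.obj X, fun Y => (c (S.inverse.obj X) Y).trans
        (Linear.homCongr k (Iso.refl Y) (S.counitIso.app X).symm).dualMap, ?_⟩
      intro Y Y' g f
      ext u
      change c (S.inverse.obj X) Y' (f ≫ g)
          (Linear.homCongr k (Iso.refl Y') (S.counitIso.app X).symm u) =
        c (S.inverse.obj X) Y f (Linear.homCongr k (Iso.refl Y) (S.counitIso.app X).symm (g ≫ u))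
      rw [hc₁]
      simp [Linear.homCongr_apply]
  · rintro ⟨h1, h2⟩
    choose S₀ e he using h1
    choose R₀ e' he' using h2
    exact final ⟨S₀, e, he⟩ ⟨R₀, e', he'⟩

end Groth.Agent.S6718
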