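import Groth.Statements.S6727
import Groth.Agent.Lib.Helper15.FPC19
import Groth.Agent.Lib.Helper15.FPC6

-- import your own Groth.Agent.* helpers here

set_option autoImplicit false
universe u v' u'
open CategoryTheory CategoryTheory.Limits
open FunMor

namespace Groth.Agent.S6727

/-- Let A be a coherent commutative ring (every finitely generated ideal of A is a finitely presented
A-module) and B an additive category with kernels and filtered colimits in which filtered colimits
commute with kernels (equivalently with equalizers). Let F' be a functor from A-modules to B
commuting with filtered colimits whose restriction to the full subcategory of finitely presented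
A-modules is left exact. Then F' is additive and left exact, and it preserves all small direct sums. -/
theorem result
    (A : Type u) [CommRing A] (hcoh : ∀ I : Ideal A, I.FG → Module.FinitePresentation A I)
    {B : Type u'} [Category.{v'} B] [Preadditive B] [HasFiniteBiproducts B]
    [HasKernels B] [HasFilteredColimitsOfSize.{u, u} B]
    (hcomm : ∀ (J : Type u) [SmallCategory J] [IsFiltered J],
      PreservesLimitsOfShape WalkingParallelPair (colim : (J ⥤ B) ⥤ B))
    (F' : ModuleCat.{u} A ⥤ B) [PreservesFilteredColimitsOfSize.{u, u} F']
    [PreservesFiniteLimits (ObjectProperty.ι (fun M : ModuleCat.{u} A => Module.FinitePresentation A M) ⋙ F')] :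
    F'.Additive ∧ PreservesFiniteLimits F' ∧
      ∀ J : Type u, PreservesColimitsOfShape (Discrete J) F' := by
  have hA : Groth.Agent.Lib.Helper15.FPC16.Coh A A :=
    Groth.Agent.Lib.Helper15.FPC16.coh_of_ideal hcoh
  haveI hadd : F'.Additive := Groth.Agent.Lib.Helper15.FPC7.additive' A F'
    (fun hM hN f g => Groth.Agent.Lib.Helper15.FPC17.map_add_fp_fp A F' hM hN f g)
  haveI : ∀ {X Y : ModuleCat.{u} A} (f : X ⟶ Y), PreservesLimit (parallelPair f 0) F' :=
    fun f => Groth.Agent.Lib.Helper15.FPC19.preservesKernel A hA F' hcomm f
  haveI : HasZeroObject B := inferInstance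
  refine ⟨hadd, Functor.preservesFiniteLimits_of_preservesKernels F', fun J => ?_⟩
  haveI : PreservesFiniteCoproducts F' := inferInstance
  haveI : PreservesColimitsOfShape (Finset (Discrete J)) F' :=
    PreservesFilteredColimitsOfSize.preserves_filtered_colimits _
  haveI : ∀ f : J → ModuleCat.{u} A, PreservesColimit (Discrete.functor f) F' :=
    fun f => Groth.Agent.Lib.Helper15.FPC6.preservesColimit_discrete F' f
  exact preservesColimitsOfShape_of_discrete F'

end Groth.Agent.S6727
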