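import Groth.Statements.S6731
import Mathlib

set_option autoImplicit false
universe w v u
open CategoryTheory
open DEquiv

namespace Groth.Agent.S6731
section Aux

section LinAlg

variable {k : Type w} [Field k] {V W : Type v} [AddCommGroup V] [Module k V] [AddCommGroup W]
  [Module k W] [Module.Finite k V] [Module.Finite k W]

/-- a perfect pairing represents every functional uniquely -/
theorem existsUnique_repr (D : V ≃ₗ[k] Module.Dual k W) (t : Module.Dual k V) :
    ∃! w : W, ∀ v : V, D v w = t v := by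
  let Φ : W →ₗ[k] Module.Dual k V := (D : V →ₗ[k] Module.Dual k W).flip
  have hinj : Function.Injective Φ := by
    rw [injective_iff_map_eq_zero]
    intro w hw
    rw [← Module.forall_dual_apply_eq_zero_iff k]
    intro g
    obtain ⟨v, rfl⟩ := D.surjective g
    exact LinearMap.congr_fun hw v
  have hrank : Module.finrank k W = Module.finrank k (Module.Dual k V) := by
    rw [Subspace.dual_finrank_eq, D.finrank_eq, Subspace.dual_finrank_eq]
  have hsurj : Function.Surjective Φ :=
    (LinearMap.injective_iff_surjective_of_finrank_eq_finrank hrank).mp hinj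
  obtain ⟨w, hw⟩ := hsurj t
  refine ⟨w, fun v => LinearMap.congr_fun hw v, ?_⟩
  intro w' hw'
  apply hinj
  rw [hw]
  ext v
  exact hw' v

end LinAlg

variable {k : Type w} [Field k]
    {T : Type u} [Category.{v} T] [Preadditive T] [Linear k T]
    [∀ X Y : T, Module.Finite k (X ⟶ Y)]

/-- the data of a "Serre structure" on a functor -/
structure SerreData (S : T ⥤ T) where
  c : ∀ X Y : T, (X ⟶ Y) ≃ₗ[k] Module.Dual k (Y ⟶ S.obj X)
  hc₁ : ∀ (X Y Y' : T) (f : X ⟶ Y) (g : Y ⟶ Y'),
      c X Y' (f ≫ g) = (c X Y f) ∘ₗ Linear.leftComp k (S.obj X) g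
  hc₂ : ∀ (X' X Y : T) (a : X' ⟶ X) (f : X ⟶ Y),
      c X' Y (a ≫ f) = (c X Y f) ∘ₗ Linear.rightComp k Y (S.map a)

namespace SerreData

variable {S S' : T ⥤ T} (A : SerreData (k := k) S) (A' : SerreData (k := k) S')

/-- the trace functional -/
noncomputable def tr (X : T) : Module.Dual k (X ⟶ S.obj X) := A.c X X (𝟙 X)

lemma c_apply (X Y : T) (f : X ⟶ Y) (u : Y ⟶ S.obj X) : A.c X Y f u = A.tr X (f ≫ u) := by
  have := A.hc₁ X X Y (𝟙 X) f
  rw [Category.id_comp] at this
  rw [this]
  rfl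

lemma tr_comp_map (X' X : T) (a : X' ⟶ X) (u : X ⟶ S.obj X') :
    A.tr X (u ≫ S.map a) = A.tr X' (a ≫ u) := by
  have := A.hc₂ X' X X a (𝟙 X)
  rw [Category.comp_id] at this
  have h2 := LinearMap.congr_fun this u
  rw [c_apply] at h2
  rw [h2]
  rfl

/-- perfectness: maps out of `S X` are detected by the trace pairing -/
lemma hom_ext_of_tr (X Z : T) (w₁ w₂ : Z ⟶ S.obj X)
    (h : ∀ v : X ⟶ Z, A.tr X (v ≫ w₁) = A.tr X (v ≫ w₂)) : w₁ = w₂ := by
  have h1 := existsUnique_repr (A.c X Z) ((A.c X Z).toLinearMap.flip w₂)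
  refine h1.unique (fun v => ?_) (fun v => rfl)
  change A.c X Z v w₁ = A.c X Z v w₂
  rw [c_apply, c_apply, h v]

/-- the comparison map -/
noncomputable def comp (X : T) : S.obj X ⟶ S'.obj X :=
  (existsUnique_repr (A'.c X (S.obj X)) (A.tr X)).exists.choose

lemma comp_spec (X : T) (v : X ⟶ S.obj X) : A'.tr X (v ≫ comp A A' X) = A.tr X v := by
  have := (existsUnique_repr (A'.c X (S.obj X)) (A.tr X)).exists.choose_spec v
  rw [c_apply] at this
  exact this

lemma comp_unique (X : T) (w : S.obj X ⟶ S'.obj X)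
    (hw : ∀ v : X ⟶ S.obj X, A'.tr X (v ≫ w) = A.tr X v) : w = comp A A' X := by
  apply A'.hom_ext_of_tr
  intro v
  rw [hw, comp_spec]

lemma comp_naturality (X' X : T) (a : X' ⟶ X) :
    S.map a ≫ comp A A' X = comp A A' X' ≫ S'.map a := by
  apply A'.hom_ext_of_tr
  intro v
  rw [← Category.assoc, comp_spec, A.tr_comp_map, ← Category.assoc, A'.tr_comp_map,
    ← Category.assoc, comp_spec]

lemma comp_comp (X : T) : comp A A' X ≫ comp A' A X = 𝟙 _ := by
  apply A.hom_ext_of_tr
  intro v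
  rw [← Category.assoc, comp_spec, comp_spec, Category.comp_id]

/-- the comparison isomorphism -/
noncomputable def compIso : S ≅ S' :=
  NatIso.ofComponents (fun X => ⟨comp A A' X, comp A' A X, comp_comp A A' X, comp_comp A' A X⟩)
    (fun a => comp_naturality A A' _ _ a)

lemma compIso_hom_app (X : T) : (compIso A A').hom.app X = comp A A' X := rfl

end SerreData

end Aux

open CategoryTheory.Limits CategoryTheory.Pretriangulated in

open CategoryTheory.Limits CategoryTheory.Pretriangulated in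
/-- Let k be a field and T a k-linear triangulated category with dim_k Hom(X, Y) < ∞ for all X, Y. Let
(S, c) and (S', c') be Serre functors: k-linear equivalences T ⥤ T with k-linear isomorphisms
c_{X,Y} : Hom(X, Y) ≅ Hom(Y, S X)^∨ natural in X and Y (likewise c'). Then there is a unique
isomorphism of functors φ : S ≅ S' compatible with c and c', i.e. c_{X,Y}(f) is c'_{X,Y}(f) composed
with postcomposition by φ_X. -/
theorem result
    {k : Type w} [Field k]
    {T : Type u} [Category.{v} T] [Preadditive T] [Linear k T] [HasZeroObject T] [HasShift T ℤ]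
    [∀ n : ℤ, (shiftFunctor T n).Additive] [∀ n : ℤ, (shiftFunctor T n).Linear k] [Pretriangulated T]
    [IsTriangulated T] [∀ X Y : T, Module.Finite k (X ⟶ Y)]
    (S : T ≌ T) [S.functor.Additive] [S.functor.Linear k]
    (c : ∀ X Y : T, (X ⟶ Y) ≃ₗ[k] Module.Dual k (Y ⟶ S.functor.obj X))
    (hc₁ : ∀ (X Y Y' : T) (f : X ⟶ Y) (g : Y ⟶ Y'),
      c X Y' (f ≫ g) = (c X Y f) ∘ₗ Linear.leftComp k (S.functor.obj X) g)
    (hc₂ : ∀ (X' X Y : T) (a : X' ⟶ X) (f : X ⟶ Y),
      c X' Y (a ≫ f) = (c X Y f) ∘ₗ Linear.rightComp k Y (S.functor.map a))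
    (S' : T ≌ T) [S'.functor.Additive] [S'.functor.Linear k]
    (c' : ∀ X Y : T, (X ⟶ Y) ≃ₗ[k] Module.Dual k (Y ⟶ S'.functor.obj X))
    (hc'₁ : ∀ (X Y Y' : T) (f : X ⟶ Y) (g : Y ⟶ Y'),
      c' X Y' (f ≫ g) = (c' X Y f) ∘ₗ Linear.leftComp k (S'.functor.obj X) g)
    (hc'₂ : ∀ (X' X Y : T) (a : X' ⟶ X) (f : X ⟶ Y),
      c' X' Y (a ≫ f) = (c' X Y f) ∘ₗ Linear.rightComp k Y (S'.functor.map a)) :
    ∃! φ : S.functor ≅ S'.functor, ∀ (X Y : T) (f : X ⟶ Y),
      c X Y f = (c' X Y f) ∘ₗ Linear.rightComp k Y (φ.hom.app X) := by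
  classical
  let A : SerreData (k := k) S.functor := ⟨c, hc₁, hc₂⟩
  let A' : SerreData (k := k) S'.functor := ⟨c', hc'₁, hc'₂⟩
  refine ⟨SerreData.compIso A A', ?_, ?_⟩
  · intro X Y f
    ext u
    change A.c X Y f u = A'.c X Y f (u ≫ SerreData.comp A A' X)
    rw [A.c_apply, A'.c_apply, ← Category.assoc, SerreData.comp_spec]
  · intro φ hφ
    apply Iso.ext
    ext X
    rw [SerreData.compIso_hom_app]
    apply SerreData.comp_unique
    intro v
    have := LinearMap.congr_fun (hφ X X (𝟙 X)) v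
    change A.c X X (𝟙 X) v = A'.c X X (𝟙 X) (v ≫ φ.hom.app X) at this
    exact this.symm

end Groth.Agent.S6731
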