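import Groth.Statements.S6775
import Mathlib.CategoryTheory.Abelian.CommSq
-- import your own Groth.Agent.* helpers here

set_option autoImplicit false
open CategoryTheory CategoryTheory.Limits
universe v u
open CategoryTheory CategoryTheory.Abelian

namespace Groth.Agent.S6775

/-- In an abelian category a cartesian square whose bottom arrow `k` is an epimorphism is also
cocartesian, and the arrow `f` opposite to `k` is an epimorphism. -/
theorem result {A : Type u} [Category.{v} A] [Abelian A] {w x y z : A} (f : w ⟶ y) (g : w ⟶ x) (h : y ⟶ z) (k : x ⟶ z) (sq : IsPullback f g h k) [Epi k] : IsPushout f g h k ∧ Epi f := by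
  have hEpif : Epi f :=
    MorphismProperty.of_isPullback (P := MorphismProperty.epimorphisms A) sq.flip
      (show MorphismProperty.epimorphisms A k from ‹Epi k›)
  refine ⟨?_, hEpif⟩
  let S : ShortComplex A := ShortComplex.mk (biprod.lift f g) (biprod.desc h (-k)) (by simp [sq.w])
  have hex : S.Exact := sq.exact_shortComplex'
  have hepi : Epi S.g :=
    epi_of_epi_fac (f := -(biprod.inr : x ⟶ y ⊞ x)) (h := k) (by simp [S])
  have hcond : ∀ s : PushoutCocone f g, S.f ≫ biprod.desc s.inl (-s.inr) = 0 := by
    intro s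
    have := s.condition
    simp only [S, biprod.lift_desc, Preadditive.comp_neg]
    rw [this]; abel
  have hdesc : ∀ s : PushoutCocone f g, S.g ≫ hex.desc (biprod.desc s.inl (-s.inr)) (hcond s) =
      biprod.desc s.inl (-s.inr) := fun s => hex.g_desc _ _
  refine ⟨⟨sq.w⟩, ⟨PushoutCocone.IsColimit.mk _ (fun s => hex.desc (biprod.desc s.inl (-s.inr)) (hcond s)) ?_ ?_ ?_⟩⟩
  · intro s
    have := congrArg (fun t => (biprod.inl : y ⟶ y ⊞ x) ≫ t) (hdesc s)
    simpa [S] using this
  · intro s
    have := congrArg (fun t => (biprod.inr : x ⟶ y ⊞ x) ≫ t) (hdesc s)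
    simpa [S] using this
  · intro s m hm₁ hm₂
    have h3 : k ≫ hex.desc (biprod.desc s.inl (-s.inr)) (hcond s) = s.inr := by
      have := congrArg (fun t => (biprod.inr : x ⟶ y ⊞ x) ≫ t) (hdesc s)
      simpa [S] using this
    rw [← cancel_epi k, hm₂, h3]

end Groth.Agent.S6775
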