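import Groth.Statements.S6778
import Mathlib.CategoryTheory.Abelian.Refinements
-- import your own Groth.Agent.* helpers here

set_option autoImplicit false
open CategoryTheory CategoryTheory.Limits
universe v u
open CategoryTheory CategoryTheory.Abelian

namespace Groth.Agent.S6778

/-- For a commutative diagram with rows `x ⟶ y ⟶ z` and `u ⟶ v ⟶ w` in an abelian category, if the
second row is exact and the second map `g` of the first row is an epimorphism, then the induced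
sequence of cokernels of the vertical maps is exact. -/
theorem result {A : Type u} [Category.{v} A] [Abelian A] {x y z u' v' w : A} (f : x ⟶ y) (g : y ⟶ z) (k : u' ⟶ v') (l : v' ⟶ w) (α : x ⟶ u') (β : y ⟶ v') (γ : z ⟶ w) (h₁ : α ≫ k = f ≫ β) (h₂ : β ≫ l = g ≫ γ) (hkl : k ≫ l = 0) (hex : (ShortComplex.mk k l hkl).Exact) [Epi g] : ∃ hc : cokernel.map α β f k h₁ ≫ cokernel.map β γ g l h₂ = 0, (ShortComplex.mk _ _ hc).Exact := by
  have hc : cokernel.map α β f k h₁ ≫ cokernel.map β γ g l h₂ = 0 := by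
    rw [← cancel_epi (cokernel.π α)]
    simp [reassoc_of% hkl]
  refine ⟨hc, ?_⟩
  rw [ShortComplex.exact_iff_exact_up_to_refinements]
  intro T t ht
  dsimp at t ht ⊢
  obtain ⟨T₁, p₁, hp₁, t₁, ht₁⟩ := surjective_up_to_refinements_of_epi (cokernel.π β) t
  have h2 : (t₁ ≫ l) ≫ cokernel.π γ = 0 := by
    have : t₁ ≫ cokernel.π β ≫ cokernel.map β γ g l h₂ = 0 := by
      rw [← Category.assoc, ← ht₁, Category.assoc, ht, comp_zero]
    simpa using this
  obtain ⟨T₂, p₂, hp₂, t₂, ht₂⟩ :=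
    ((CokernelCofork.IsColimit.comp_π_eq_zero_iff_up_to_refinements (cokernelIsCokernel γ) (t₁ ≫ l)).mp h2)
  obtain ⟨T₃, p₃, hp₃, t₃, ht₃⟩ := surjective_up_to_refinements_of_epi g t₂
  have h4 : (p₃ ≫ p₂ ≫ t₁ - t₃ ≫ β) ≫ l = 0 := by
    rw [Preadditive.sub_comp, Category.assoc, Category.assoc, Category.assoc, ht₂, h₂,
      ← Category.assoc t₃, ← ht₃, Category.assoc, sub_self]
  obtain ⟨T₄, p₄, hp₄, t₄, ht₄⟩ := hex.exact_up_to_refinements (p₃ ≫ p₂ ≫ t₁ - t₃ ≫ β) h4
  dsimp at t₄ ht₄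
  refine ⟨T₄, p₄ ≫ p₃ ≫ p₂ ≫ p₁, inferInstance, t₄ ≫ cokernel.π α, ?_⟩
  simp only [Category.assoc, cokernel.π_desc, ht₁]
  rw [← Category.assoc t₄, ← ht₄]
  simp [Preadditive.sub_comp]

end Groth.Agent.S6778
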