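import Groth.Statements.S6779
import Groth.Agent.Lib27.SKan3
-- import your own Groth.Agent.* helpers here

set_option autoImplicit false
open CategoryTheory
universe u
open SSet

namespace Groth.Agent.S6779

/-- The underlying simplicial set of a simplicial group is a Kan complex. -/
theorem result (X : SimplicialObject GrpCat.{u}) : SSet.KanComplex (X ⋙ forget GrpCat.{u}) := by
  refine Groth.Agent.Lib27.SKan.kan_of_SGrp (Groth.Agent.Lib27.SMoore.ofGrp X)
    (fun n => Equiv.refl _) ?_
  intro n j z
  exact (Groth.Agent.Lib27.SMoore.ofGrp_d X n j z).symm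

end Groth.Agent.S6779
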