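import Groth.Statements.S6785
import Mathlib.AlgebraicTopology.SimplicialSet.CategoryWithFibrations
import Mathlib.AlgebraicTopology.SimplicialSet.Homotopy

set_option autoImplicit false
open CategoryTheory
universe u
open SSet

namespace Groth.Agent.S6785

open MonoidalCategory CartesianMonoidalCategory Simplicial

lemma ι₀_app_ne_ι₁_app {X : SSet.{u}} (n : SimplexCategoryᵒᵖ) (x y : X.obj n) :
    (ι₀ : X ⟶ X ⊗ Δ[1]).app n x ≠ (ι₁ : X ⟶ X ⊗ Δ[1]).app n y := by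
  induction n using Opposite.rec with | _ n
  induction n using SimplexCategory.rec with | _ n
  intro h
  have h2 := congrArg Prod.snd h
  have h3 := DFunLike.congr_fun h2 0
  simp at h3

/-- The two ends of the cylinder, as a subcomplex. -/
noncomputable abbrev K (X : SSet.{u}) : (X ⊗ Δ[1]).Subcomplex :=
  Subcomplex.range (ι₀ : X ⟶ X ⊗ Δ[1]) ⊔ Subcomplex.range (ι₁ : X ⟶ X ⊗ Δ[1])

open Classical in
/-- The map on the ends of the cylinder given by `r₀` on one end and `r₁` on the other. -/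
noncomputable def topFun {X : SSet.{u}} (r₀ r₁ : X ⟶ X) (n : SimplexCategoryᵒᵖ)
    (p : (X ⊗ Δ[1]).obj n) : X.obj n :=
  if p ∈ Set.range ((ι₀ : X ⟶ X ⊗ Δ[1]).app n) then r₀.app n p.1 else r₁.app n p.1

lemma topFun_ι₀ {X : SSet.{u}} (r₀ r₁ : X ⟶ X) (n : SimplexCategoryᵒᵖ) (x : X.obj n) :
    topFun r₀ r₁ n ((ι₀ : X ⟶ X ⊗ Δ[1]).app n x) = r₀.app n x :=
  if_pos ⟨x, rfl⟩

lemma topFun_ι₁ {X : SSet.{u}} (r₀ r₁ : X ⟶ X) (n : SimplexCategoryᵒᵖ) (x : X.obj n) :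
    topFun r₀ r₁ n ((ι₁ : X ⟶ X ⊗ Δ[1]).app n x) = r₁.app n x :=
  if_neg (by rintro ⟨y, hy⟩; exact ι₀_app_ne_ι₁_app _ _ _ hy)

/-- The morphism on the ends of the cylinder given by `r₀` on one end and `r₁` on the other. -/
noncomputable def topMap {X : SSet.{u}} (r₀ r₁ : X ⟶ X) : (K X : SSet) ⟶ X where
  app n := ↾fun p => topFun r₀ r₁ n p.1
  naturality n m α := by
    ext ⟨p, hp⟩
    rcases hp with ⟨x, rfl⟩ | ⟨x, rfl⟩
    · change topFun r₀ r₁ m ((X ⊗ Δ[1]).map α ((ι₀ : X ⟶ X ⊗ Δ[1]).app n x)) =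
        X.map α (topFun r₀ r₁ n ((ι₀ : X ⟶ X ⊗ Δ[1]).app n x))
      have := ConcreteCategory.congr_hom ((ι₀ : X ⟶ X ⊗ Δ[1]).naturality α) x
      simp only [ConcreteCategory.comp_apply] at this
      rw [← this, topFun_ι₀, topFun_ι₀]
      exact ConcreteCategory.congr_hom (r₀.naturality α) x
    · change topFun r₀ r₁ m ((X ⊗ Δ[1]).map α ((ι₁ : X ⟶ X ⊗ Δ[1]).app n x)) =
        X.map α (topFun r₀ r₁ n ((ι₁ : X ⟶ X ⊗ Δ[1]).app n x))
      have := ConcreteCategory.congr_hom ((ι₁ : X ⟶ X ⊗ Δ[1]).naturality α) x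
      simp only [ConcreteCategory.comp_apply] at this
      rw [← this, topFun_ι₁, topFun_ι₁]
      exact ConcreteCategory.congr_hom (r₁.naturality α) x

lemma ι₀_topMap {X : SSet.{u}} (r₀ r₁ : X ⟶ X) :
    Subcomplex.lift (ι₀ : X ⟶ X ⊗ Δ[1]) (le_sup_left : _ ≤ K X) ≫ topMap r₀ r₁ = r₀ := by
  ext n x
  exact topFun_ι₀ r₀ r₁ n x

lemma ι₁_topMap {X : SSet.{u}} (r₀ r₁ : X ⟶ X) :
    Subcomplex.lift (ι₁ : X ⟶ X ⊗ Δ[1]) (le_sup_right : _ ≤ K X) ≫ topMap r₀ r₁ = r₁ := by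
  ext n x
  exact topFun_ι₁ r₀ r₁ n x

/-- Constructor for (absolute) homotopies of simplicial sets. -/
noncomputable def mkHomotopy {X Y : SSet.{u}} {f g : X ⟶ Y} (h : X ⊗ Δ[1] ⟶ Y)
    (h₀ : ι₀ ≫ h = f) (h₁ : ι₁ ≫ h = g) : SSet.Homotopy f g :=
  { h := h
    h₀ := h₀
    h₁ := h₁
    rel := by
      ext n ⟨⟨a, ha⟩, s⟩
      exact (ha : a ∈ (∅ : Set _)).elim }

lemma K_ι_comm {X Y : SSet.{u}} (f : X ⟶ Y) (r₀ r₁ : X ⟶ X) (hr₀ : r₀ ≫ f = f)
    (hr₁ : r₁ ≫ f = f) :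
    topMap r₀ r₁ ≫ f = (K X).ι ≫ fst _ _ ≫ f := by
  ext n ⟨p, hp⟩
  rcases hp with ⟨x, rfl⟩ | ⟨x, rfl⟩
  · change f.app n (topFun r₀ r₁ n ((ι₀ : X ⟶ X ⊗ Δ[1]).app n x)) = f.app n x
    rw [topFun_ι₀]
    exact ConcreteCategory.congr_hom (congr_app hr₀ n) x
  · change f.app n (topFun r₀ r₁ n ((ι₁ : X ⟶ X ⊗ Δ[1]).app n x)) = f.app n x
    rw [topFun_ι₁]
    exact ConcreteCategory.congr_hom (congr_app hr₁ n) x

lemma nonempty_homotopy {X Y : SSet.{u}} (f : X ⟶ Y)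
    (hf : (MorphismProperty.monomorphisms SSet.{u}).rlp f) (r₀ r₁ : X ⟶ X) (hr₀ : r₀ ≫ f = f)
    (hr₁ : r₁ ≫ f = f) : Nonempty (SSet.Homotopy r₀ r₁) := by
  have hK : HasLiftingProperty (K X).ι f :=
    hf _ (MorphismProperty.monomorphisms.infer_property _)
  have sq2 : CommSq (topMap r₀ r₁) (K X).ι f (fst _ _ ≫ f) :=
    ⟨K_ι_comm f _ _ hr₀ hr₁⟩
  refine ⟨mkHomotopy sq2.lift ?_ ?_⟩
  · have e := sq2.fac_left
    have e' := ι₀_topMap r₀ r₁
    rw [← e, ← Category.assoc] at e'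
    exact e'
  · have e := sq2.fac_left
    have e' := ι₁_topMap r₀ r₁
    rw [← e, ← Category.assoc] at e'
    exact e'

/-- A trivial Kan fibration `f : X ⟶ Y` of simplicial sets is a homotopy equivalence; more precisely it
has a section `g`, and `g ∘ f` is homotopic to the identity of `X` by a single homotopy in each
direction. (The published statement only asserts a homotopy equivalence; the section and the
one-step homotopies are what its proof constructs.) -/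
theorem result {X Y : SSet.{u}} (f : X ⟶ Y) (hf : SSet.modelCategoryQuillen.I.rlp f) : ∃ g : Y ⟶ X, g ≫ f = 𝟙 Y ∧ Nonempty (SSet.Homotopy (𝟙 X) (f ≫ g)) ∧ Nonempty (SSet.Homotopy (f ≫ g) (𝟙 X)) := by
  have hf' : (MorphismProperty.monomorphisms SSet.{u}).rlp f := by
    rw [SSet.rlp_monomorphisms]; exact hf
  have sq1 : CommSq (Subcomplex.isInitialBot.to X) ((⊥ : Y.Subcomplex).ι) f (𝟙 Y) :=
    ⟨Subcomplex.isInitialBot.hom_ext _ _⟩
  have : HasLiftingProperty ((⊥ : Y.Subcomplex).ι) f :=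
    hf' _ (MorphismProperty.monomorphisms.infer_property _)
  have hg : sq1.lift ≫ f = 𝟙 Y := sq1.fac_right
  have hr : (f ≫ sq1.lift) ≫ f = f := by rw [Category.assoc, hg, Category.comp_id]
  exact ⟨sq1.lift, hg, nonempty_homotopy f hf' _ _ (Category.id_comp f) hr,
    nonempty_homotopy f hf' _ _ hr (Category.id_comp f)⟩

end Groth.Agent.S6785
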