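import Groth.Statements.S6786
import Mathlib.CategoryTheory.Limits.Types.Images
import Mathlib.CategoryTheory.Limits.ConcreteCategory.Basic

set_option autoImplicit false
open CategoryTheory CategoryTheory.Limits
universe u
open HomAlg3

namespace Groth.Agent.S6786

/-- Stacks 0597 over `ℕ`: a Mittag-Leffler inverse system of nonempty sets indexed by `ℕ` has a
compatible family. -/
lemma nonempty_sections_of_isMittagLeffler (F : ℕᵒᵖ ⥤ Type u) (h : F.IsMittagLeffler)
    [∀ j, Nonempty (F.obj j)] : F.sections.Nonempty := by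
  have hs := F.surjective_toEventualRanges h
  have hne := F.toEventualRanges_nonempty h
  have := Types.surjective_π_app_zero_of_surjective_map
    (Types.limitConeIsLimit F.toEventualRanges) (fun n => hs _)
  obtain ⟨x⟩ := hne ⟨0⟩
  obtain ⟨s, -⟩ := this x
  exact ⟨(F.toEventualRangesSectionsEquiv s).1, (F.toEventualRangesSectionsEquiv s).2⟩

/-- The inverse system of fibres of `b` over a compatible family `z` of `C`. -/
def fibre {B C : ℕᵒᵖ ⥤ AddCommGrpCat.{u}} (b : B ⟶ C) (z : ∀ i, C.obj i)
    (hz : ∀ {i j : ℕᵒᵖ} (f : i ⟶ j), C.map f (z i) = z j) : ℕᵒᵖ ⥤ Type u where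
  obj i := {y : B.obj i // b.app i y = z i}
  map {i j} f := ↾fun y => ⟨B.map f y.1, by
    have := ConcreteCategory.congr_hom (b.naturality f) y.1
    simp only [ConcreteCategory.comp_apply] at this
    rw [this, y.2, hz]⟩
  map_id i := by
    ext y
    simp
  map_comp f g := by
    ext y
    simp

lemma fibre_isMittagLeffler {A B C : ℕᵒᵖ ⥤ AddCommGrpCat.{u}} (a : A ⟶ B) (b : B ⟶ C)
    (hB : ∀ i, (b.app i).hom.ker = (a.app i).hom.range)
    (hA : (A ⋙ forget AddCommGrpCat).IsMittagLeffler)
    (z : ∀ i, C.obj i) (hz : ∀ {i j : ℕᵒᵖ} (f : i ⟶ j), C.map f (z i) = z j)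
    (hne : ∀ i, Nonempty ((fibre b z hz).obj i)) :
    (fibre b z hz).IsMittagLeffler := by
  intro i
  obtain ⟨j, f, hj⟩ := hA i
  refine ⟨j, f, ?_⟩
  intro k g
  rintro _ ⟨y, rfl⟩
  rcases le_total j.unop k.unop with hjk | hkj
  · -- there is a morphism `h : k ⟶ j`
    let h : k ⟶ j := (homOfLE hjk).op
    have hg : h ≫ f = g := Subsingleton.elim _ _
    obtain ⟨y'⟩ := hne k
    have hw : y.1 - B.map h y'.1 ∈ (b.app j).hom.ker := by
      rw [AddMonoidHom.mem_ker, map_sub]
      have := ConcreteCategory.congr_hom (b.naturality h) y'.1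
      simp only [ConcreteCategory.comp_apply] at this
      change (b.app j) y.1 - (b.app j) (B.map h y'.1) = 0
      rw [this, y.2, y'.2, hz, sub_self]
    rw [hB j] at hw
    obtain ⟨x, hx⟩ := hw
    obtain ⟨x', hx'⟩ := hj g ⟨x, rfl⟩
    have hx'' : A.map g x' = A.map f x := hx'
    have hba : ∀ t, (b.app k) ((a.app k) t) = 0 := by
      intro t
      have : (a.app k).hom t ∈ (b.app k).hom.ker := by
        rw [hB k]; exact ⟨t, rfl⟩
      exact this
    refine ⟨⟨y'.1 + a.app k x', ?_⟩, ?_⟩
    · rw [map_add, hba, add_zero, y'.2]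
    · apply Subtype.ext
      change B.map g (y'.1 + a.app k x') = B.map f y.1
      have e1 := ConcreteCategory.congr_hom (a.naturality g) x'
      have e2 := ConcreteCategory.congr_hom (a.naturality f) x
      simp only [ConcreteCategory.comp_apply] at e1 e2
      have hx3 : (a.app j) x = y.1 - B.map h y'.1 := hx
      rw [map_add, ← e1, hx'', e2, hx3, map_sub, ← hg, Functor.map_comp,
        ConcreteCategory.comp_apply]
      abel
  · -- there is a morphism `h : j ⟶ k`
    let h : j ⟶ k := (homOfLE hkj).op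
    have hf : h ≫ g = f := Subsingleton.elim _ _
    refine ⟨(fibre b z hz).map h y, ?_⟩
    rw [← hf, Functor.map_comp]
    rfl

/-- For a sequence `(A_i) ⟶ (B_i) ⟶ (C_i) ⟶ (D_i)` of inverse systems of abelian groups over `ℕ` that is
exact levelwise at the two middle places, if `(A_i)` is Mittag-Leffler then `lim B_i ⟶ lim C_i ⟶ lim
D_i` is exact. -/
theorem result {A B C D : ℕᵒᵖ ⥤ AddCommGrpCat.{u}} (a : A ⟶ B) (b : B ⟶ C) (c : C ⟶ D) (hB : ∀ i, (b.app i).hom.ker = (a.app i).hom.range) (hC : ∀ i, (c.app i).hom.ker = (b.app i).hom.range) (hA : (A ⋙ forget AddCommGrpCat).IsMittagLeffler) : (limMap c).hom.ker = (limMap b).hom.range := by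
  have hπ : ∀ {F G : ℕᵒᵖ ⥤ AddCommGrpCat.{u}} (α : F ⟶ G) (i : ℕᵒᵖ) (x : ↑(limit F)),
      limit.π G i (limMap α x) = α.app i (limit.π F i x) := by
    intro F G α i x
    have := ConcreteCategory.congr_hom (limMap_π α i) x
    simpa only [ConcreteCategory.comp_apply] using this
  ext z
  constructor
  · intro hz
    have hz0 : limMap c z = 0 := hz
    have hzi : ∀ i, (c.app i) (limit.π C i z) = 0 := by
      intro i
      rw [← hπ, hz0, map_zero]
    let zz : ∀ i, C.obj i := fun i => limit.π C i z
    have hzz : ∀ {i j : ℕᵒᵖ} (f : i ⟶ j), C.map f (zz i) = zz j := by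
      intro i j f
      have := ConcreteCategory.congr_hom (limit.w C f) z
      simpa only [ConcreteCategory.comp_apply] using this
    have hne : ∀ i, Nonempty ((fibre b zz hzz).obj i) := by
      intro i
      have : zz i ∈ (c.app i).hom.ker := hzi i
      rw [hC i] at this
      obtain ⟨y, hy⟩ := this
      exact ⟨⟨y, hy⟩⟩
    obtain ⟨s, hs⟩ := nonempty_sections_of_isMittagLeffler _
      (fibre_isMittagLeffler a b hB hA zz hzz hne)
    let e := Types.isLimitEquivSections
      (isLimitOfPreserves (forget AddCommGrpCat) (limit.isLimit B))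
    let y : ↑(limit B) :=
      e.symm ⟨fun i => (s i).1, fun {i j} f => congrArg Subtype.val (hs f)⟩
    have hy : ∀ i, limit.π B i y = (s i).1 := by
      intro i
      have := Types.isLimitEquivSections_symm_apply
        (isLimitOfPreserves (forget AddCommGrpCat) (limit.isLimit B))
        ⟨fun i => (s i).1, fun {i j} f => congrArg Subtype.val (hs f)⟩ i
      exact this
    refine ⟨y, ?_⟩
    apply Concrete.limit_ext
    intro i
    rw [hπ, hy]
    exact (s i).2
  · rintro ⟨y, rfl⟩
    rw [AddMonoidHom.mem_ker]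
    apply Concrete.limit_ext
    intro i
    have h1 : limit.π D i ((limMap c) ((limMap b) y)) =
        (c.app i) ((b.app i) (limit.π B i y)) := by rw [hπ, hπ]
    have : (b.app i).hom (limit.π B i y) ∈ (c.app i).hom.ker := by
      rw [hC i]; exact ⟨_, rfl⟩
    change limit.π D i ((limMap c) ((limMap b) y)) = limit.π D i 0
    rw [h1, map_zero]
    exact this

end Groth.Agent.S6786
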