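import Groth.Statements.S6789
import Mathlib.AlgebraicTopology.CechNerve
import Mathlib.AlgebraicTopology.SimplicialObject.Homotopy

set_option autoImplicit false
open CategoryTheory CategoryTheory.Limits
universe v u
open CategoryTheory CategoryTheory.SimplicialObject

namespace Groth.Agent.S6789

open Opposite Simplicial

section FinLemmas
open Fin
lemma predAbove_val {n : ℕ} (p : Fin (n + 1)) (a : Fin (n + 2)) :
    (p.predAbove a).val = if p.val < a.val then a.val - 1 else a.val := by
  rcases lt_or_ge (castSucc p) a with h | h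
  · rw [Fin.predAbove_of_castSucc_lt _ _ h]
    have : p.val < a.val := h
    simp [this]
  · rw [Fin.predAbove_of_le_castSucc _ _ h]
    have : ¬ p.val < a.val := not_lt.mpr h
    simp [this]

lemma succAbove_val {n : ℕ} (p : Fin (n + 2)) (a : Fin (n + 1)) :
    (p.succAbove a).val = if a.val < p.val then a.val else a.val + 1 := by
  simp only [Fin.succAbove, Fin.lt_def, Fin.val_castSucc]
  split_ifs <;> simp

lemma c1 {n : ℕ} (a : Fin (n + 1)) :
    castSucc (0 : Fin (n + 1)) < (0 : Fin (n + 2)).succAbove a ↔ True := by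
  rw [Fin.lt_def, succAbove_val]
  simp

lemma c2 {n : ℕ} (a : Fin (n + 1)) : castSucc (last n) < (last (n + 1)).succAbove a ↔ False := by
  rw [Fin.lt_def, succAbove_val]
  simp only [Fin.val_castSucc, Fin.val_last]
  rw [iff_false]
  have := a.isLt
  split_ifs <;> omega

lemma c3 {n : ℕ} (i : Fin (n + 2)) (j : Fin (n + 1)) (a : Fin (n + 2)) (h : i ≤ castSucc j) :
    (castSucc (succ j) < (castSucc i).succAbove a ↔ castSucc j < a) := by
  rw [Fin.le_def] at h
  rw [Fin.lt_def, Fin.lt_def, succAbove_val]
  simp only [Fin.val_castSucc, Fin.val_succ] at *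
  split_ifs <;> omega

lemma c4 {n : ℕ} (j : Fin (n + 1)) (a : Fin (n + 2)) :
    castSucc (succ j) < (succ (castSucc j)).succAbove a ↔
      castSucc (castSucc j) < (succ (castSucc j)).succAbove a := by
  rw [Fin.lt_def, Fin.lt_def, succAbove_val]
  simp only [Fin.val_castSucc, Fin.val_succ] at *
  split_ifs <;> omega

lemma c5 {n : ℕ} (i : Fin (n + 2)) (j : Fin (n + 1)) (a : Fin (n + 2)) (h : castSucc j < i) :
    (castSucc (castSucc j) < (succ i).succAbove a ↔ castSucc j < a) := by
  rw [Fin.lt_def] at h
  rw [Fin.lt_def, Fin.lt_def, succAbove_val]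
  simp only [Fin.val_castSucc, Fin.val_succ] at *
  split_ifs <;> omega

lemma c6 {n : ℕ} (i j : Fin (n + 1)) (a : Fin (n + 3)) (h : i ≤ j) :
    (castSucc j < (castSucc i).predAbove a ↔ castSucc (succ j) < a) := by
  rw [Fin.le_def] at h
  rw [Fin.lt_def, Fin.lt_def, predAbove_val]
  simp only [Fin.val_castSucc, Fin.val_succ] at *
  split_ifs <;> omega

lemma c7 {n : ℕ} (i j : Fin (n + 1)) (a : Fin (n + 3)) (h : j ≤ i) :
    (castSucc j < (succ i).predAbove a ↔ castSucc (castSucc j) < a) := by
  rw [Fin.le_def] at h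
  rw [Fin.lt_def, Fin.lt_def, predAbove_val]
  simp only [Fin.val_castSucc, Fin.val_succ] at *
  split_ifs <;> omega

end FinLemmas

variable {C : Type u} [Category.{v} C] (F : Arrow C)
  [∀ n : ℕ, HasWidePullback F.right (fun _ : Fin (n + 1) => F.left) (fun _ => F.hom)]

open Classical in
/-- General maps between the terms of the Čech nerve: reindex along `θ` and apply `e₁` on the
factors selected by `c`, `e₀` on the others. -/
noncomputable def H (e₀ e₁ : F.left ⟶ F.left) (h₀ : e₀ ≫ F.hom = F.hom) (h₁ : e₁ ≫ F.hom = F.hom)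
    {k l : ℕ} (θ : Fin (l + 1) → Fin (k + 1)) (c : Fin (l + 1) → Prop) :
    F.cechNerve.obj (op (SimplexCategory.mk k)) ⟶ F.cechNerve.obj (op (SimplexCategory.mk l)) :=
  WidePullback.lift (WidePullback.base _)
    (fun a => WidePullback.π _ (θ a) ≫ (if c a then e₁ else e₀))
    (fun a => by
      split_ifs
      · rw [Category.assoc, h₁, WidePullback.π_arrow]
      · rw [Category.assoc, h₀, WidePullback.π_arrow])

variable (e₀ e₁ : F.left ⟶ F.left) (h₀ : e₀ ≫ F.hom = F.hom) (h₁ : e₁ ≫ F.hom = F.hom)

lemma H_congr {k l : ℕ} {θ θ' : Fin (l + 1) → Fin (k + 1)} {c c' : Fin (l + 1) → Prop}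
    (hθ : ∀ a, θ a = θ' a) (hc : ∀ a, c a ↔ c' a) :
    H F e₀ e₁ h₀ h₁ θ c = H F e₀ e₁ h₀ h₁ θ' c' := by
  obtain rfl : θ = θ' := funext hθ
  obtain rfl : c = c' := funext (fun a => propext (hc a))
  rfl

set_option backward.defeqAttrib.useBackward true in
set_option backward.isDefEq.respectTransparency false in
lemma map_comp_H {k k' l : ℕ} (ψ : SimplexCategory.mk k ⟶ SimplexCategory.mk k')
    (θ : Fin (l + 1) → Fin (k + 1)) (c : Fin (l + 1) → Prop) :
    F.cechNerve.map ψ.op ≫ H F e₀ e₁ h₀ h₁ θ c =
      H F e₀ e₁ h₀ h₁ (fun a => ψ.toOrderHom (θ a)) c := by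
  apply WidePullback.hom_ext
  · intro a
    simp [H]
  · simp [H]

set_option backward.defeqAttrib.useBackward true in
set_option backward.isDefEq.respectTransparency false in
lemma H_comp_map {k l l' : ℕ} (φ : SimplexCategory.mk l' ⟶ SimplexCategory.mk l)
    (θ : Fin (l + 1) → Fin (k + 1)) (c : Fin (l + 1) → Prop) :
    H F e₀ e₁ h₀ h₁ θ c ≫ F.cechNerve.map φ.op =
      H F e₀ e₁ h₀ h₁ (fun a => θ (φ.toOrderHom a)) (fun a => c (φ.toOrderHom a)) := by
  apply WidePullback.hom_ext
  · intro a
    simp [H]
  · simp [H]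

set_option backward.defeqAttrib.useBackward true in
set_option backward.isDefEq.respectTransparency false in
/-- The endomorphism of the Čech nerve applying `e` factorwise. -/
noncomputable def M (e : F.left ⟶ F.left) (he : e ≫ F.hom = F.hom) : F.cechNerve ⟶ F.cechNerve where
  app n := WidePullback.lift (WidePullback.base _) (fun a => WidePullback.π _ a ≫ e)
    (fun a => by rw [Category.assoc, he, WidePullback.π_arrow])
  naturality n m g := by
    apply WidePullback.hom_ext
    · intro a
      simp
    · simp

set_option backward.defeqAttrib.useBackward true in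
set_option backward.isDefEq.respectTransparency false in
lemma M_app_eq_H_false (k : ℕ) :
    (M F e₀ h₀).app (op (SimplexCategory.mk k)) = H F e₀ e₁ h₀ h₁ (fun a => a) (fun _ => False) := by
  apply WidePullback.hom_ext
  · intro a
    simp [H, M]
  · simp [H, M]

set_option backward.defeqAttrib.useBackward true in
set_option backward.isDefEq.respectTransparency false in
lemma M_app_eq_H_true (k : ℕ) :
    (M F e₁ h₁).app (op (SimplexCategory.mk k)) = H F e₀ e₁ h₀ h₁ (fun a => a) (fun _ => True) := by
  apply WidePullback.hom_ext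
  · intro a
    simp [H, M]
  · simp [H, M]

/-- The simplicial homotopy from `M e₀` to `M e₁`. -/
noncomputable def homotopy : SimplicialObject.Homotopy (M F e₀ h₀) (M F e₁ h₁) where
  h {n} i := H F e₀ e₁ h₀ h₁ (fun a => (SimplexCategory.σ i).toOrderHom a) (fun a => i.castSucc < a)
  h_zero_comp_δ_zero n := by
    rw [M_app_eq_H_true F e₀ e₁ h₀ h₁]
    erw [H_comp_map]
    apply H_congr
    · intro a
      exact congrArg (fun φ => φ.toOrderHom a)
        (SimplexCategory.δ_comp_σ_self (i := (0 : Fin (n + 1))))
    · intro a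
      exact c1 a
  h_last_comp_δ_last n := by
    rw [M_app_eq_H_false F e₀ e₁ h₀ h₁]
    erw [H_comp_map]
    apply H_congr
    · intro a
      exact congrArg (fun φ => φ.toOrderHom a)
        (SimplexCategory.δ_comp_σ_succ (i := Fin.last n))
    · intro a
      exact c2 a
  h_succ_comp_δ_castSucc_of_lt i j hij := by
    erw [H_comp_map, map_comp_H]
    apply H_congr
    · intro a
      exact congrArg (fun φ => φ.toOrderHom a) (SimplexCategory.δ_comp_σ_of_le hij)
    · intro a
      exact c3 i j a hij
  h_succ_comp_δ_castSucc_succ j := by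
    erw [H_comp_map, H_comp_map]
    apply H_congr
    · intro a
      have e1 := congrArg (fun φ => φ.toOrderHom a)
        (SimplexCategory.δ_comp_σ_self (i := j.succ))
      have e2 := congrArg (fun φ => φ.toOrderHom a)
        (SimplexCategory.δ_comp_σ_succ (i := j.castSucc))
      exact e1.trans e2.symm
    · intro a
      exact c4 j a
  h_castSucc_comp_δ_succ_of_lt i j hji := by
    erw [H_comp_map, map_comp_H]
    apply H_congr
    · intro a
      exact congrArg (fun φ => φ.toOrderHom a) (SimplexCategory.δ_comp_σ_of_gt hji)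
    · intro a
      exact c5 i j a hji
  h_comp_σ_castSucc_of_le i j hij := by
    erw [H_comp_map, map_comp_H]
    apply H_congr
    · intro a
      exact congrArg (fun φ => φ.toOrderHom a) (SimplexCategory.σ_comp_σ hij)
    · intro a
      exact c6 i j a hij
  h_comp_σ_succ_of_lt i j hji := by
    erw [H_comp_map, map_comp_H]
    apply H_congr
    · intro a
      exact (congrArg (fun φ => φ.toOrderHom a) (SimplexCategory.σ_comp_σ hji)).symm
    · intro a
      exact c7 i j a hji

set_option backward.defeqAttrib.useBackward true in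
set_option backward.isDefEq.respectTransparency false in
lemma M_id : M F (𝟙 F.left) (Category.id_comp _) = 𝟙 F.cechNerve := by
  ext n
  apply WidePullback.hom_ext
  · intro a
    simp [M]
  · simp [M]

set_option backward.defeqAttrib.useBackward true in
set_option backward.isDefEq.respectTransparency false in
lemma M_eq_mapCechNerve (φ : F ⟶ F) (hφr : φ.right = 𝟙 F.right)
    (he : φ.left ≫ F.hom = F.hom) : M F φ.left he = Arrow.mapCechNerve φ := by
  ext n
  apply WidePullback.hom_ext
  · intro a
    simp [M]
  · simp [M, hφr]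


/-- For a morphism `f : Y ⟶ X` with a section `s`, the endomorphism of the Čech nerve of `f` (the
simplicial object of iterated fibre products of `Y` over `X`) that applies `s ∘ f` factorwise admits
simplicial homotopies to and from the identity: the published formula gives one direction and its
mirror image (exchange the roles of the identity and `s ∘ f`) gives the other. -/
theorem result {C : Type u} [Category.{v} C] {Y X : C} (f : Y ⟶ X) (s : X ⟶ Y) (hs : s ≫ f = 𝟙 X) [∀ n : ℕ, HasWidePullback (Arrow.mk f).right (fun _ : Fin (n + 1) => (Arrow.mk f).left) (fun _ => (Arrow.mk f).hom)] (φ : Arrow.mk f ⟶ Arrow.mk f) (hφl : φ.left = f ≫ s) (hφr : φ.right = 𝟙 X) : Nonempty (SimplicialObject.Homotopy (𝟙 (Arrow.mk f).cechNerve) (Arrow.mapCechNerve φ)) ∧ Nonempty (SimplicialObject.Homotopy (Arrow.mapCechNerve φ) (𝟙 (Arrow.mk f).cechNerve)) := by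
  have he : φ.left ≫ (Arrow.mk f).hom = (Arrow.mk f).hom := by
    rw [hφl]
    change (f ≫ s) ≫ f = f
    rw [Category.assoc, hs, Category.comp_id]
  have e1 := M_id (Arrow.mk f)
  have e2 := M_eq_mapCechNerve (Arrow.mk f) φ hφr he
  constructor
  · have := homotopy (Arrow.mk f) (𝟙 _) φ.left (Category.id_comp _) he
    rw [e1, e2] at this
    exact ⟨this⟩
  · have := homotopy (Arrow.mk f) φ.left (𝟙 _) he (Category.id_comp _)
    rw [e1, e2] at this
    exact ⟨this⟩


end Groth.Agent.S6789
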