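import Groth.Statements.S6790
-- import your own Groth.Agent.* helpers here

set_option autoImplicit false
open CategoryTheory CategoryTheory.Limits MonoidalCategory
universe v u
open CategoryTheory CategoryTheory.Monoidal

namespace Groth.Agent.S6790

open ExactPairing

/-- A retract of an object with a right dual has a right dual, provided that the dual idempotent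
splits. -/
@[instance_reducible]
noncomputable def exactPairingOfRetract {A : Type u} [Category.{v} A] [MonoidalCategory A] {X X₁ E₁ : A} [HasRightDual X] (i : X₁ ⟶ X) (p : X ⟶ X₁)
    (hip : i ≫ p = 𝟙 X₁)
    (j : E₁ ⟶ Xᘁ) (q : Xᘁ ⟶ E₁) (hjq : j ≫ q = 𝟙 E₁) (hqj : q ≫ j = (p ≫ i)ᘁ) :
    ExactPairing X₁ E₁ where
  coevaluation' := η_ X (Xᘁ) ≫ p ▷ (Xᘁ) ≫ X₁ ◁ q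
  evaluation' := j ▷ X₁ ≫ (Xᘁ) ◁ i ≫ ε_ X (Xᘁ)
  evaluation_coevaluation' := by
    have key : (p ≫ i)ᘁ ▷ X₁ ≫ (Xᘁ) ◁ i ≫ ε_ X (Xᘁ) = (Xᘁ) ◁ i ≫ ε_ X (Xᘁ) := by
      rw [← whisker_exchange_assoc, rightAdjointMate_comp_evaluation,
        ← whiskerLeft_comp_assoc]
      simp [reassoc_of% hip]
    calc
      _ = η_ X (Xᘁ) ▷ X₁ ⊗≫ p ▷ (Xᘁ) ▷ X₁ ⊗≫ X₁ ◁ ((q ≫ j) ▷ X₁ ≫ (Xᘁ) ◁ i ≫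
          ε_ X (Xᘁ)) := by
        monoidal
      _ = η_ X (Xᘁ) ▷ X₁ ⊗≫ p ▷ (Xᘁ) ▷ X₁ ⊗≫ X₁ ◁ ((Xᘁ) ◁ i ≫ ε_ X (Xᘁ)) := by
        rw [hqj, key]
      _ = η_ X (Xᘁ) ▷ X₁ ⊗≫ (p ▷ (Xᘁ ⊗ X₁) ≫ X₁ ◁ ((Xᘁ) ◁ i)) ⊗≫ X₁ ◁ ε_ X (Xᘁ) := by
        monoidal
      _ = η_ X (Xᘁ) ▷ X₁ ⊗≫ (X ◁ ((Xᘁ) ◁ i) ≫ p ▷ (Xᘁ ⊗ X)) ⊗≫ X₁ ◁ ε_ X (Xᘁ) := by
        rw [← whisker_exchange]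
      _ = 𝟙 _ ⊗≫ (η_ X (Xᘁ) ▷ X₁ ≫ (X ⊗ Xᘁ) ◁ i) ⊗≫ (p ▷ (Xᘁ ⊗ X) ≫ X₁ ◁ ε_ X (Xᘁ)) ⊗≫ 𝟙 _ := by
        monoidal
      _ = 𝟙 _ ⊗≫ i ⊗≫ (η_ X (Xᘁ) ▷ X ⊗≫ X ◁ ε_ X (Xᘁ)) ⊗≫ p ⊗≫ 𝟙 _ := by
        rw [← whisker_exchange, ← whisker_exchange]; monoidal
      _ = 𝟙 _ ⊗≫ (i ≫ p) ⊗≫ 𝟙 _ := by
        rw [evaluation_coevaluation'']; monoidal
      _ = (λ_ X₁).hom ≫ (ρ_ X₁).inv := by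
        rw [hip]
        monoidal
  coevaluation_evaluation' := by
    have hev : j ▷ X₁ ≫ (Xᘁ) ◁ i ≫ ε_ X (Xᘁ) = E₁ ◁ i ≫ j ▷ X ≫ ε_ X (Xᘁ) := by
      rw [← whisker_exchange_assoc]
    have key2 : η_ X (Xᘁ) ≫ (p ≫ i) ▷ (Xᘁ) ≫ X ◁ q = η_ X (Xᘁ) ≫ X ◁ q := by
      rw [← coevaluation_comp_rightAdjointMate_assoc, ← whiskerLeft_comp, ← hqj, Category.assoc,
        hjq, Category.comp_id]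
    rw [hev]
    calc
      _ = E₁ ◁ η_ X (Xᘁ) ⊗≫ E₁ ◁ p ▷ (Xᘁ) ⊗≫ ((E₁ ⊗ X₁) ◁ q ≫ (E₁ ◁ i) ▷ E₁) ⊗≫
          j ▷ X ▷ E₁ ⊗≫ ε_ X (Xᘁ) ▷ E₁ := by
        monoidal
      _ = E₁ ◁ η_ X (Xᘁ) ⊗≫ E₁ ◁ p ▷ (Xᘁ) ⊗≫ ((E₁ ◁ i) ▷ (Xᘁ) ≫ (E₁ ⊗ X) ◁ q) ⊗≫
          j ▷ X ▷ E₁ ⊗≫ ε_ X (Xᘁ) ▷ E₁ := by
        rw [whisker_exchange]
      _ = E₁ ◁ (η_ X (Xᘁ) ≫ (p ≫ i) ▷ (Xᘁ) ≫ X ◁ q) ⊗≫ j ▷ X ▷ E₁ ⊗≫ ε_ X (Xᘁ) ▷ E₁ := by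
        monoidal
      _ = E₁ ◁ (η_ X (Xᘁ) ≫ X ◁ q) ⊗≫ j ▷ X ▷ E₁ ⊗≫ ε_ X (Xᘁ) ▷ E₁ := by
        rw [key2]
      _ = E₁ ◁ η_ X (Xᘁ) ⊗≫ (E₁ ◁ (X ◁ q) ≫ j ▷ (X ⊗ E₁)) ⊗≫ ε_ X (Xᘁ) ▷ E₁ := by
        monoidal
      _ = E₁ ◁ η_ X (Xᘁ) ⊗≫ (j ▷ (X ⊗ Xᘁ) ≫ (Xᘁ) ◁ (X ◁ q)) ⊗≫ ε_ X (Xᘁ) ▷ E₁ := by
        rw [whisker_exchange]
      _ = 𝟙 _ ⊗≫ (E₁ ◁ η_ X (Xᘁ) ≫ j ▷ (X ⊗ Xᘁ)) ⊗≫ ((Xᘁ ⊗ X) ◁ q ≫ ε_ X (Xᘁ) ▷ E₁) ⊗≫ 𝟙 _ := by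
        monoidal
      _ = 𝟙 _ ⊗≫ j ⊗≫ ((Xᘁ) ◁ η_ X (Xᘁ) ⊗≫ ε_ X (Xᘁ) ▷ (Xᘁ)) ⊗≫ q ⊗≫ 𝟙 _ := by
        rw [whisker_exchange, whisker_exchange]; monoidal
      _ = 𝟙 _ ⊗≫ (j ≫ q) ⊗≫ 𝟙 _ := by
        rw [coevaluation_evaluation'']; monoidal
      _ = (ρ_ E₁).hom ≫ (λ_ E₁).inv := by
        rw [hjq]
        monoidal


/-- In an idempotent-complete additive monoidal category, a direct summand of an object admitting a dual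
(with coevaluation `𝟙_ A ⟶ X ⊗ Y` and evaluation `Y ⊗ X ⟶ 𝟙_ A`) again admits such a dual. -/
theorem result {A : Type u} [Category.{v} A] [Preadditive A] [HasFiniteBiproducts A] [MonoidalCategory A] [MonoidalPreadditive A] [IsIdempotentComplete A] {X X₁ : A} (i : X₁ ⟶ X) (p : X ⟶ X₁) (hip : i ≫ p = 𝟙 X₁) [HasRightDual X] : Nonempty (HasRightDual X₁) := by
  have hidem : (p ≫ i)ᘁ ≫ (p ≫ i)ᘁ = (p ≫ i)ᘁ := by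
    rw [← comp_rightAdjointMate]
    congr 1
    simp [reassoc_of% hip]
  obtain ⟨E₁, j, q, hjq, hqj⟩ := IsIdempotentComplete.idempotents_split _ _ hidem
  have := exactPairingOfRetract i p hip j q hjq hqj
  exact ⟨⟨E₁⟩⟩

end Groth.Agent.S6790
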