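import Groth.Statements.S6791
import Mathlib.CategoryTheory.Abelian.SerreClass.Localization
import Mathlib.CategoryTheory.Limits.Preserves.Shapes.Images

set_option autoImplicit false
open CategoryTheory CategoryTheory.Limits
universe v u v' u' v'' u''
open CategoryTheory CategoryTheory.SerreClass

namespace Groth.Agent.S6791

/-- For an exact functor `F : A ⥤ B` of abelian categories and a Serre class `P` of `A` killed by `F`,
with `L : A ⥤ Q` a model of the quotient `A/P` and `Fbar : Q ⥤ B` the induced functor, `P` is
exactly the kernel of `F` if and only if `Fbar` is faithful. -/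
theorem result {A : Type u} [Category.{v} A] [Abelian A] {B : Type u'} [Category.{v'} B] [Abelian B] (F : A ⥤ B) [F.Additive] [PreservesFiniteLimits F] [PreservesFiniteColimits F] (P : ObjectProperty A) [P.IsSerreClass] (hP : ∀ X : A, P X → IsZero (F.obj X)) {Q : Type u''} [Category.{v''} Q] [Abelian Q] (L : A ⥤ Q) [L.IsLocalization P.isoModSerre] [L.Additive] [PreservesFiniteLimits L] [PreservesFiniteColimits L] (Fbar : Q ⥤ B) (e : L ⋙ Fbar ≅ F) : (∀ X : A, IsZero (F.obj X) → P X) ↔ Fbar.Faithful := by
  have hlim : PreservesFiniteLimits Fbar := by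
    rw [← ObjectProperty.SerreClassLocalization.preservesFiniteLimits_comp_iff L P Fbar]
    exact preservesFiniteLimits_of_natIso e.symm
  have hcolim : PreservesFiniteColimits Fbar := by
    rw [← ObjectProperty.SerreClassLocalization.preservesFiniteColimits_comp_iff L P Fbar]
    exact preservesFiniteColimits_of_natIso e.symm
  have hadd : Fbar.Additive := Functor.additive_of_preserves_binary_products Fbar
  constructor
  · intro h
    refine ⟨fun {Y₁ Y₂} g₁ g₂ hg ↦ ?_⟩
    rw [← sub_eq_zero]
    have hg0 : Fbar.map (g₁ - g₂) = 0 := by rw [Functor.map_sub, hg, sub_self]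
    have hz : IsZero (Fbar.obj (Limits.image (g₁ - g₂))) :=
      (isZero_zero B).of_iso ((PreservesImage.iso Fbar (g₁ - g₂)).symm ≪≫ imageZero' hg0)
    have : L.EssSurj := Localization.essSurj L P.isoModSerre
    have hz' : IsZero (F.obj (L.objPreimage (Limits.image (g₁ - g₂)))) :=
      hz.of_iso (e.symm.app _ ≪≫ Fbar.mapIso (L.objObjPreimageIso _))
    have hP' := h _ hz'
    rw [← ObjectProperty.SerreClassLocalization.isZero_obj_iff L P] at hP'
    have hI : IsZero (Limits.image (g₁ - g₂)) := hP'.of_iso (L.objObjPreimageIso _).symm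
    rw [← Limits.image.fac (g₁ - g₂)]
    rw [hI.eq_of_src (Limits.image.ι (g₁ - g₂)) 0, comp_zero]
  · intro hF X hX
    rw [← ObjectProperty.SerreClassLocalization.isZero_obj_iff L P]
    have hz : IsZero (Fbar.obj (L.obj X)) := hX.of_iso (e.app X)
    rw [IsZero.iff_id_eq_zero] at hz ⊢
    apply Fbar.map_injective
    rw [CategoryTheory.Functor.map_id, Functor.map_zero, hz]

end Groth.Agent.S6791
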