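import Groth.Statements.S6792
import Groth.Agent.Lib.Helper25.FilCxFinite

set_option autoImplicit false
open CategoryTheory
universe v u
open SpSeq SpSeq.FilCx

namespace Groth.Agent.S6792

/-- For a filtered complex whose filtration is finite in each degree, the associated spectral sequence
is bounded (from page `0` on), the induced filtration on each cohomology object is finite, and the
spectral sequence converges to the cohomology. -/
theorem result {A : Type u} [Category.{v} A] [Abelian A] (K : SpSeq.FilCx A) (hK : ∀ n : ℤ, (K.XFil n).IsFinite) : K.IsBounded 0 ∧ (∀ n : ℤ, (K.HFil n).IsFinite) ∧ K.Converges := by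
  exact ⟨Groth.Agent.Lib.Helper25.FilCxFinite.isBounded_zero K hK,
    Groth.Agent.Lib.Helper25.FilCxFinite.hfil_isFinite K hK,
    Groth.Agent.Lib.Helper25.FilCxFinite.converges K hK⟩

end Groth.Agent.S6792
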