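import Groth.Statements.S6795
-- import your own Groth.Agent.* helpers here

set_option autoImplicit false
open CategoryTheory CategoryTheory.Limits
universe v u
open CategoryTheory CategoryTheory.Preadditive

namespace Groth.Agent.S6795

/-- A preadditive category with countable products in which split epimorphisms have kernels is
idempotent complete (Karoubian). -/
theorem result {D : Type u} [Category.{v} D] [Preadditive D] [HasCountableProducts D] (hk : ∀ ⦃X Y : D⦄ (f : X ⟶ Y), IsSplitEpi f → HasKernel f) : IsIdempotentComplete D := by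
  refine ⟨fun X e he => ?_⟩
  have h1 : (𝟙 X - e) ≫ e = 0 := by
    rw [Preadditive.sub_comp, Category.id_comp, he, sub_self]
  have h2 : e ≫ (𝟙 X - e) = 0 := by
    rw [Preadditive.comp_sub, Category.comp_id, he, sub_self]
  have h3 : (𝟙 X - e) ≫ (𝟙 X - e) = 𝟙 X - e := by
    rw [Preadditive.comp_sub, Category.comp_id, h1, sub_zero]
  let Z : D := ∏ᶜ (fun _ : ℕ => X)
  let ψ : Z ⟶ Z := Pi.lift (fun n => Pi.π (fun _ : ℕ => X) (n + 1) ≫ e +
    Pi.π (fun _ : ℕ => X) n ≫ (𝟙 X - e))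
  let σ : Z ⟶ Z := Pi.lift (fun n => Nat.casesOn n
    (Pi.π (fun _ : ℕ => X) 0 ≫ (𝟙 X - e))
    (fun k => Pi.π (fun _ : ℕ => X) (k + 1) ≫ (𝟙 X - e) + Pi.π (fun _ : ℕ => X) k ≫ e))
  have hσ0 : σ ≫ Pi.π (fun _ : ℕ => X) 0 = Pi.π (fun _ : ℕ => X) 0 ≫ (𝟙 X - e) := by
    simp [σ]
  have hσs : ∀ k, σ ≫ Pi.π (fun _ : ℕ => X) (k + 1) =
      Pi.π (fun _ : ℕ => X) (k + 1) ≫ (𝟙 X - e) + Pi.π (fun _ : ℕ => X) k ≫ e := by
    intro k; simp [σ]
  have hσe : ∀ n, (σ ≫ Pi.π (fun _ : ℕ => X) n) ≫ (𝟙 X - e) =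
      Pi.π (fun _ : ℕ => X) n ≫ (𝟙 X - e) := by
    intro n
    cases n with
    | zero => rw [hσ0, Category.assoc, h3]
    | succ k =>
      rw [hσs, Preadditive.add_comp, Category.assoc, Category.assoc, h3, h2, comp_zero, add_zero]
  have hσψ : σ ≫ ψ = 𝟙 Z := by
    apply Pi.hom_ext
    intro n
    simp only [ψ, Category.assoc, Pi.lift_π, Category.id_comp]
    rw [Preadditive.comp_add, ← Category.assoc, ← Category.assoc, hσe, hσs,
      Preadditive.add_comp, Category.assoc, Category.assoc, h1, comp_zero, zero_add, he,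
      ← Preadditive.comp_add]
    simp
  have : HasKernel ψ := hk ψ ⟨⟨σ, hσψ⟩⟩
  have hι : ∀ n, kernel.ι ψ ≫ (Pi.π (fun _ : ℕ => X) (n + 1) ≫ e +
      Pi.π (fun _ : ℕ => X) n ≫ (𝟙 X - e)) = 0 := by
    intro n
    have := kernel.condition ψ =≫ Pi.π (fun _ : ℕ => X) n
    simpa [ψ] using this
  have hι1 : ∀ n, kernel.ι ψ ≫ Pi.π (fun _ : ℕ => X) (n + 1) ≫ e = 0 := by
    intro n
    have := hι n =≫ e
    simpa [Preadditive.add_comp, Preadditive.comp_add, h1, he] using this
  have hι2 : ∀ n, kernel.ι ψ ≫ Pi.π (fun _ : ℕ => X) n ≫ (𝟙 X - e) = 0 := by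
    intro n
    have := hι n =≫ (𝟙 X - e)
    rw [zero_comp, Category.assoc, Preadditive.add_comp, Category.assoc, Category.assoc, h2,
      comp_zero, zero_add, h3] at this
    exact this
  have hι3 : ∀ n, kernel.ι ψ ≫ Pi.π (fun _ : ℕ => X) n ≫ e = kernel.ι ψ ≫ Pi.π (fun _ : ℕ => X) n := by
    intro n
    have := hι2 n
    rw [Preadditive.comp_sub, Preadditive.comp_sub, Category.comp_id, sub_eq_zero] at this
    exact this.symm
  have hι4 : ∀ n, kernel.ι ψ ≫ Pi.π (fun _ : ℕ => X) (n + 1) = 0 := by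
    intro n
    rw [← hι3, hι1]
  let t : X ⟶ Z := Pi.lift (fun n => Nat.casesOn n e (fun _ => 0))
  have ht : t ≫ ψ = 0 := by
    apply Pi.hom_ext
    intro n
    simp only [ψ, t, Category.assoc, Pi.lift_π, zero_comp]
    rw [Preadditive.comp_add, ← Category.assoc, ← Category.assoc, Pi.lift_π, Pi.lift_π]
    cases n with
    | zero => simp [h2]
    | succ k => simp
  refine ⟨kernel ψ, kernel.ι ψ ≫ Pi.π (fun _ : ℕ => X) 0, kernel.lift ψ t ht, ?_, ?_⟩
  · rw [← cancel_mono (kernel.ι ψ), Category.assoc, Category.assoc, kernel.lift_ι, Category.id_comp]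
    apply Pi.hom_ext
    intro n
    simp only [t, Category.assoc, Pi.lift_π]
    cases n with
    | zero => exact hι3 0
    | succ k => simp [hι4]
  · rw [← Category.assoc, kernel.lift_ι]
    simp [t]

end Groth.Agent.S6795
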