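import Groth.Statements.S6796
-- import your own Groth.Agent.* helpers here

set_option autoImplicit false
open CategoryTheory CategoryTheory.Limits
universe v u
open CategoryTheory CategoryTheory.Preadditive

namespace Groth.Agent.S6796

/-- A preadditive category with countable coproducts in which split monomorphisms have cokernels is
idempotent complete (Karoubian). -/
theorem result {D : Type u} [Category.{v} D] [Preadditive D] [HasCountableCoproducts D] (hk : ∀ ⦃X Y : D⦄ (f : X ⟶ Y), IsSplitMono f → HasCokernel f) : IsIdempotentComplete D := by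
  refine ⟨fun X e he => ?_⟩
  have h1 : (𝟙 X - e) ≫ e = 0 := by
    rw [Preadditive.sub_comp, Category.id_comp, he, sub_self]
  have h2 : e ≫ (𝟙 X - e) = 0 := by
    rw [Preadditive.comp_sub, Category.comp_id, he, sub_self]
  have h3 : (𝟙 X - e) ≫ (𝟙 X - e) = 𝟙 X - e := by
    rw [Preadditive.comp_sub, Category.comp_id, h1, sub_zero]
  let Z : D := ∐ (fun _ : ℕ => X)
  let ψ : Z ⟶ Z := Sigma.desc (fun n => e ≫ Sigma.ι (fun _ : ℕ => X) (n + 1) +
    (𝟙 X - e) ≫ Sigma.ι (fun _ : ℕ => X) n)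
  let σ : Z ⟶ Z := Sigma.desc (fun n => Nat.casesOn n
    ((𝟙 X - e) ≫ Sigma.ι (fun _ : ℕ => X) 0)
    (fun k => (𝟙 X - e) ≫ Sigma.ι (fun _ : ℕ => X) (k + 1) + e ≫ Sigma.ι (fun _ : ℕ => X) k))
  have hσ0 : Sigma.ι (fun _ : ℕ => X) 0 ≫ σ = (𝟙 X - e) ≫ Sigma.ι (fun _ : ℕ => X) 0 := by
    simp [σ]
  have hσs : ∀ k, Sigma.ι (fun _ : ℕ => X) (k + 1) ≫ σ =
      (𝟙 X - e) ≫ Sigma.ι (fun _ : ℕ => X) (k + 1) + e ≫ Sigma.ι (fun _ : ℕ => X) k := by
    intro k; simp [σ]
  have hσe : ∀ n, (𝟙 X - e) ≫ Sigma.ι (fun _ : ℕ => X) n ≫ σ =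
      (𝟙 X - e) ≫ Sigma.ι (fun _ : ℕ => X) n := by
    intro n
    cases n with
    | zero => rw [hσ0, ← Category.assoc, h3]
    | succ k =>
      rw [hσs, Preadditive.comp_add, ← Category.assoc, ← Category.assoc, h3, h1, zero_comp,
        add_zero]
  have hψσ : ψ ≫ σ = 𝟙 Z := by
    apply Sigma.hom_ext
    intro n
    simp only [ψ, ← Category.assoc, Sigma.ι_desc]
    rw [Preadditive.add_comp, Category.assoc, Category.assoc, hσe, hσs,
      Preadditive.comp_add, ← Category.assoc, ← Category.assoc, h2, zero_comp, zero_add, he,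
      ← Preadditive.add_comp]
    simp [Z]
  have : HasCokernel ψ := hk ψ ⟨⟨σ, hψσ⟩⟩
  have hι : ∀ n, (e ≫ Sigma.ι (fun _ : ℕ => X) (n + 1) +
      (𝟙 X - e) ≫ Sigma.ι (fun _ : ℕ => X) n) ≫ cokernel.π ψ = 0 := by
    intro n
    have := Sigma.ι (fun _ : ℕ => X) n ≫= cokernel.condition ψ
    simpa [ψ] using this
  have hι1 : ∀ n, e ≫ Sigma.ι (fun _ : ℕ => X) (n + 1) ≫ cokernel.π ψ = 0 := by
    intro n
    have := e ≫= hι n
    rw [comp_zero, ← Category.assoc, Preadditive.comp_add, ← Category.assoc, ← Category.assoc,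
      he, h2, zero_comp, add_zero, Category.assoc] at this
    exact this
  have hι2 : ∀ n, (𝟙 X - e) ≫ Sigma.ι (fun _ : ℕ => X) n ≫ cokernel.π ψ = 0 := by
    intro n
    have := (𝟙 X - e) ≫= hι n
    rw [comp_zero, ← Category.assoc, Preadditive.comp_add, ← Category.assoc, ← Category.assoc,
      h1, zero_comp, zero_add, h3, Category.assoc] at this
    exact this
  have hι3 : ∀ n, e ≫ Sigma.ι (fun _ : ℕ => X) n ≫ cokernel.π ψ =
      Sigma.ι (fun _ : ℕ => X) n ≫ cokernel.π ψ := by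
    intro n
    have := hι2 n
    rw [Preadditive.sub_comp, Category.id_comp, sub_eq_zero] at this
    exact this.symm
  have hι4 : ∀ n, Sigma.ι (fun _ : ℕ => X) (n + 1) ≫ cokernel.π ψ = 0 := by
    intro n
    rw [← hι3, hι1]
  let t : Z ⟶ X := Sigma.desc (fun n => Nat.casesOn n e (fun _ => 0))
  have ht : ψ ≫ t = 0 := by
    apply Sigma.hom_ext
    intro n
    simp only [ψ, t, ← Category.assoc, Sigma.ι_desc, comp_zero]
    rw [Preadditive.add_comp, Category.assoc, Category.assoc, Sigma.ι_desc, Sigma.ι_desc]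
    cases n with
    | zero => simp [h1]
    | succ k => simp
  refine ⟨cokernel ψ, cokernel.desc ψ t ht, Sigma.ι (fun _ : ℕ => X) 0 ≫ cokernel.π ψ, ?_, ?_⟩
  · rw [← cancel_epi (cokernel.π ψ), ← Category.assoc, cokernel.π_desc, Category.comp_id]
    apply Sigma.hom_ext
    intro n
    simp only [t, ← Category.assoc, Sigma.ι_desc]
    cases n with
    | zero => simpa using hι3 0
    | succ k => simp [hι4]
  · rw [Category.assoc, cokernel.π_desc]
    simp [t]

end Groth.Agent.S6796
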