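import Groth.Statements.S6799
-- import your own Groth.Agent.* helpers here

set_option autoImplicit false
open CategoryTheory Opposite
universe u
open SSet

namespace Groth.Agent.S6799

open MonoidalCategory CartesianMonoidalCategory Simplicial

/-- The predicate that a simplex of `Δ[1]` is constant equal to `0`. -/
def isZero (m : SimplexCategoryᵒᵖ) (τ : (Δ[1] : SSet.{u}).obj m) : Prop :=
  ∀ i, (stdSimplex.objEquiv τ).toOrderHom i = 0

lemma isZero_map {m m' : SimplexCategoryᵒᵖ} (g : m ⟶ m') (τ : (Δ[1] : SSet.{u}).obj m)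
    (hτ : isZero m τ) : isZero m' ((Δ[1] : SSet.{u}).map g τ) := by
  intro i
  exact hτ (g.unop.toOrderHom i)

lemma isZero_of_map_of_surjective {m m' : SimplexCategoryᵒᵖ} (g : m ⟶ m')
    (hg : Function.Surjective g.unop.toOrderHom) (τ : (Δ[1] : SSet.{u}).obj m)
    (hτ : isZero m' ((Δ[1] : SSet.{u}).map g τ)) : isZero m τ := by
  intro i
  obtain ⟨j, rfl⟩ := hg i
  exact hτ j

lemma key {U V : SSet.{u}} (f₀ f₁ : V ⟶ U) (n : ℕ)
    (h : ∀ i : ℕ, i < n → f₀.app (op (SimplexCategory.mk i)) = f₁.app (op (SimplexCategory.mk i)))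
    {k l : ℕ} (hk : k ≤ n) (θ : SimplexCategory.mk l ⟶ SimplexCategory.mk k)
    (hθ : ¬ Function.Surjective θ.toOrderHom) (x : V.obj (op (SimplexCategory.mk k))) :
    f₀.app (op (SimplexCategory.mk l)) (V.map θ.op x) =
      f₁.app (op (SimplexCategory.mk l)) (V.map θ.op x) := by
  cases k with
  | zero =>
    exfalso
    apply hθ
    intro y
    have : Subsingleton (Fin ((SimplexCategory.mk 0).len + 1)) :=
      inferInstanceAs (Subsingleton (Fin 1))
    exact ⟨0, Subsingleton.elim _ _⟩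
  | succ k =>
    obtain ⟨i, θ', rfl⟩ := SimplexCategory.eq_comp_δ_of_not_surjective θ hθ
    have e0 := ConcreteCategory.congr_hom (f₀.naturality θ'.op) (V.map (SimplexCategory.δ i).op x)
    have e1 := ConcreteCategory.congr_hom (f₁.naturality θ'.op) (V.map (SimplexCategory.δ i).op x)
    simp only [ConcreteCategory.comp_apply] at e0 e1
    rw [op_comp, Functor.map_comp, ConcreteCategory.comp_apply, e0, e1, h k (by omega)]

open Classical in
/-- The levelwise homotopy. -/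
noncomputable def hfun {U V : SSet.{u}} (f₀ f₁ : V ⟶ U) (m : SimplexCategoryᵒᵖ)
    (p : (V ⊗ Δ[1]).obj m) : U.obj m :=
  if isZero m p.2 then f₀.app m p.1 else f₁.app m p.1

lemma hfun_natural {U V : SSet.{u}} (f₀ f₁ : V ⟶ U) (n : ℕ)
    (h : ∀ i : ℕ, i < n → f₀.app (op (SimplexCategory.mk i)) = f₁.app (op (SimplexCategory.mk i)))
    {m m' : SimplexCategoryᵒᵖ} (hm : m.unop.len ≤ n) (g : m ⟶ m') (p : (V ⊗ Δ[1]).obj m) :
    hfun f₀ f₁ m' ((V ⊗ Δ[1]).map g p) = U.map g (hfun f₀ f₁ m p) := by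
  obtain ⟨⟨k⟩⟩ := m
  obtain ⟨⟨l⟩⟩ := m'
  have hp1 : ((V ⊗ Δ[1]).map g p).1 = V.map g p.1 := rfl
  have hp2 : ((V ⊗ Δ[1]).map g p).2 = (Δ[1] : SSet.{u}).map g p.2 := rfl
  unfold hfun
  rw [hp1, hp2]
  by_cases h0 : isZero _ p.2
  · rw [if_pos h0, if_pos (isZero_map g _ h0)]
    exact ConcreteCategory.congr_hom (f₀.naturality g) p.1
  · rw [if_neg h0]
    by_cases h1 : isZero _ ((Δ[1] : SSet.{u}).map g p.2)
    · rw [if_pos h1]
      have hg : ¬ Function.Surjective g.unop.toOrderHom :=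
        fun hs => h0 (isZero_of_map_of_surjective g hs _ h1)
      have := key f₀ f₁ n h hm g.unop hg p.1
      rw [show g.unop.op = g from rfl] at this
      rw [this]
      exact ConcreteCategory.congr_hom (f₁.naturality g) p.1
    · rw [if_neg h1]
      exact ConcreteCategory.congr_hom (f₁.naturality g) p.1

/-- The truncated homotopy. -/
noncomputable def β {U V : SSet.{u}} (f₀ f₁ : V ⟶ U) (n : ℕ)
    (h : ∀ i : ℕ, i < n → f₀.app (op (SimplexCategory.mk i)) = f₁.app (op (SimplexCategory.mk i))) :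
    (SimplexCategory.Truncated.inclusion n).op ⋙ (V ⊗ Δ[1]) ⟶
      (SimplexCategory.Truncated.inclusion n).op ⋙ U where
  app a := ↾(hfun f₀ f₁ ((SimplexCategory.Truncated.inclusion n).op.obj a))
  naturality a b g := by
    ext p
    exact hfun_natural f₀ f₁ n h a.unop.property ((SimplexCategory.Truncated.inclusion n).op.map g) p

lemma isZero_ι₀ {V : SSet.{u}} (m : SimplexCategoryᵒᵖ) (x : V.obj m) :
    isZero m ((ι₀ : V ⟶ V ⊗ Δ[1]).app m x).2 := by
  obtain ⟨⟨k⟩⟩ := m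
  intro i
  exact ι₀_app_snd_apply x i

lemma not_isZero_ι₁ {V : SSet.{u}} (m : SimplexCategoryᵒᵖ) (x : V.obj m) :
    ¬ isZero m ((ι₁ : V ⟶ V ⊗ Δ[1]).app m x).2 := by
  obtain ⟨⟨k⟩⟩ := m
  intro hz
  have h1 := hz 0
  have h2 : (stdSimplex.objEquiv ((ι₁ : V ⟶ V ⊗ Δ[1]).app _ x).2).toOrderHom 0 = 1 :=
    ι₁_app_snd_apply x 0
  rw [h2] at h1
  exact one_ne_zero h1

lemma hfun_ι₀ {U V : SSet.{u}} (f₀ f₁ : V ⟶ U) (m : SimplexCategoryᵒᵖ) (x : V.obj m) :
    hfun f₀ f₁ m ((ι₀ : V ⟶ V ⊗ Δ[1]).app m x) = f₀.app m x :=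
  if_pos (isZero_ι₀ m x)

lemma hfun_ι₁ {U V : SSet.{u}} (f₀ f₁ : V ⟶ U) (m : SimplexCategoryᵒᵖ) (x : V.obj m) :
    hfun f₀ f₁ m ((ι₁ : V ⟶ V ⊗ Δ[1]).app m x) = f₁.app m x :=
  if_neg (not_isZero_ι₁ m x)

/-- Constructor for (absolute) homotopies of simplicial sets. -/
noncomputable def mkHomotopy {X Y : SSet.{u}} {f g : X ⟶ Y} (h : X ⊗ Δ[1] ⟶ Y)
    (h₀ : ι₀ ≫ h = f) (h₁ : ι₁ ≫ h = g) : SSet.Homotopy f g :=
  { h := h
    h₀ := h₀
    h₁ := h₁
    rel := by
      ext n ⟨⟨a, ha⟩, s⟩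
      exact (ha : a ∈ (∅ : Set _)).elim }


/-- Two maps between `n`-coskeletal simplicial sets which agree on simplices of dimension `< n` are
homotopic, by a single homotopy. -/
theorem result {U V : SSet.{u}} (f₀ f₁ : V ⟶ U) (n : ℕ) (h : ∀ i : ℕ, i < n → f₀.app (op (SimplexCategory.mk i)) = f₁.app (op (SimplexCategory.mk i))) [SimplicialObject.IsCoskeletal U n] [SimplicialObject.IsCoskeletal V n] : Nonempty (SSet.Homotopy f₀ f₁) := by
  have hH : ∀ (a : (SimplexCategory.Truncated n)ᵒᵖ)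
      (p : (V ⊗ Δ[1]).obj ((SimplexCategory.Truncated.inclusion n).op.obj a)),
      (Functor.liftOfIsRightKanExtension U (𝟙 ((SimplexCategory.Truncated.inclusion n).op ⋙ U))
        (V ⊗ Δ[1]) (β f₀ f₁ n h)).app ((SimplexCategory.Truncated.inclusion n).op.obj a) p =
      hfun f₀ f₁ ((SimplexCategory.Truncated.inclusion n).op.obj a) p := by
    intro a p
    have := Functor.liftOfIsRightKanExtension_fac_app U
      (𝟙 ((SimplexCategory.Truncated.inclusion n).op ⋙ U)) (V ⊗ Δ[1]) (β f₀ f₁ n h) a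
    have e : (Functor.liftOfIsRightKanExtension U
        (𝟙 ((SimplexCategory.Truncated.inclusion n).op ⋙ U)) (V ⊗ Δ[1]) (β f₀ f₁ n h)).app
        ((SimplexCategory.Truncated.inclusion n).op.obj a) = (β f₀ f₁ n h).app a :=
      (Category.comp_id _).symm.trans this
    exact ConcreteCategory.congr_hom e p
  refine ⟨mkHomotopy (Functor.liftOfIsRightKanExtension U
    (𝟙 ((SimplexCategory.Truncated.inclusion n).op ⋙ U)) (V ⊗ Δ[1]) (β f₀ f₁ n h)) ?_ ?_⟩
  · apply Functor.hom_ext_of_isRightKanExtension U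
      (𝟙 ((SimplexCategory.Truncated.inclusion n).op ⋙ U))
    ext a x
    change (Functor.liftOfIsRightKanExtension U
      (𝟙 ((SimplexCategory.Truncated.inclusion n).op ⋙ U)) (V ⊗ Δ[1]) (β f₀ f₁ n h)).app
        ((SimplexCategory.Truncated.inclusion n).op.obj a)
        ((ι₀ : V ⟶ V ⊗ Δ[1]).app ((SimplexCategory.Truncated.inclusion n).op.obj a) x) =
      f₀.app ((SimplexCategory.Truncated.inclusion n).op.obj a) x
    rw [hH, hfun_ι₀]
  · apply Functor.hom_ext_of_isRightKanExtension U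
      (𝟙 ((SimplexCategory.Truncated.inclusion n).op ⋙ U))
    ext a x
    change (Functor.liftOfIsRightKanExtension U
      (𝟙 ((SimplexCategory.Truncated.inclusion n).op ⋙ U)) (V ⊗ Δ[1]) (β f₀ f₁ n h)).app
        ((SimplexCategory.Truncated.inclusion n).op.obj a)
        ((ι₁ : V ⟶ V ⊗ Δ[1]).app ((SimplexCategory.Truncated.inclusion n).op.obj a) x) =
      f₁.app ((SimplexCategory.Truncated.inclusion n).op.obj a) x
    rw [hH, hfun_ι₁]


end Groth.Agent.S6799
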