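import Groth.Statements.S6803
import Groth.Agent.Lib.Helper25.FilStrict

set_option autoImplicit false
open CategoryTheory CategoryTheory.Limits
universe v u
open SpSeq SpSeq.FilObj

namespace Groth.Agent.S6803

/-- Pushouts exist in the category of filtered objects of an abelian category, and the pushout of a
strict morphism is strict. -/
theorem result {A : Type u} [Category.{v} A] [Abelian A] {K L M : SpSeq.FilObj A} (f : K ⟶ L) (g : K ⟶ M) : HasPushout f g ∧ ∀ (P : SpSeq.FilObj A) (g' : L ⟶ P) (f' : M ⟶ P), IsPushout f g g' f' → SpSeq.FilObj.IsStrict f → SpSeq.FilObj.IsStrict f' := by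
  exact ⟨Groth.Agent.Lib.Helper25.FilStrict.hasPushout f g, fun P g' f' h hf =>
    Groth.Agent.Lib.Helper25.FilStrict.isStrict_of_isPushout f g g' f' h hf⟩

end Groth.Agent.S6803
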