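import Groth.Statements.S6805
import Mathlib.CategoryTheory.Functor.KanExtension.Adjunction
import Mathlib.CategoryTheory.Limits.Types.Colimits

set_option autoImplicit false
open CategoryTheory
universe u
open SSet

namespace Groth.Agent.S6805

/-- The simplicial set freely generated by an `m`-truncated simplicial set (its image under the left
adjoint of `m`-truncation) has only degenerate simplices above dimension `m`. -/
theorem result (m : ℕ) (U : SSet.Truncated.{u} m) : ((SSet.Truncated.sk m).obj U).HasDimensionLT (m + 1) := by
  constructor
  intro k hk
  rw [Set.top_eq_univ, Set.eq_univ_iff_forall]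
  intro x
  have hP := Functor.isPointwiseLeftKanExtensionOfIsLeftKanExtension
    (L := (SimplexCategory.Truncated.inclusion m).op)
    (((SimplexCategory.Truncated.inclusion m).op).lan.obj U)
    (((SimplexCategory.Truncated.inclusion m).op).lanUnit.app U)
  obtain ⟨g, u, hu⟩ := Limits.Types.jointly_surjective_of_isColimit
    (hP (Opposite.op (SimplexCategory.mk k))) x
  refine ⟨g.left.unop.obj.len, ?_, g.hom.unop, ?_⟩
  · have := g.left.unop.property
    omega
  · exact ⟨_, hu⟩

end Groth.Agent.S6805
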