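import Groth.Statements.S6806
import Groth.Agent.Lib.Helper20.FinStructuredArrow
import Mathlib.AlgebraicTopology.DoldKan.Normalized
import Mathlib.AlgebraicTopology.DoldKan.Degeneracies
import Mathlib.CategoryTheory.Functor.KanExtension.Adjunction

set_option autoImplicit false
open CategoryTheory CategoryTheory.Limits
universe v u
open CategoryTheory CategoryTheory.Abelian

namespace Groth.Agent.S6806

lemma hom_eq_zero_of_isColimit {J C : Type*} [Category J] [Category C] [HasZeroMorphisms C]
    {F : J ⥤ C} {c : Cocone F} (hc : IsColimit c) {Z : C} (f : c.pt ⟶ Z)
    (h : ∀ j, c.ι.app j ≫ f = 0) : f = 0 :=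
  hc.hom_ext (fun j => by rw [h, comp_zero])

/-- For an `m`-truncated simplicial object `U` of an abelian category, the normalized Moore complex of
its free extension `i_{m!} U` (left adjoint of truncation) is zero in every degree `n > m`. Here the
normalized complex in degree `n` is the intersection of the kernels of the faces `d_1, …, d_n`; the
published statement intersects the kernels of `d_0, …, d_{n-1}` instead, and the two versions
correspond under reversal of the ordering of each `[n]`, so both vanish. -/
theorem result {A : Type u} [Category.{v} A] [Abelian A] (m : ℕ) [∀ F : (SimplexCategory.Truncated m)ᵒᵖ ⥤ A, (SimplexCategory.Truncated.inclusion m).op.HasLeftKanExtension F] (U : SimplicialObject.Truncated A m) (n : ℕ) (hn : m < n) : AlgebraicTopology.NormalizedMooreComplex.objX ((SimplicialObject.Truncated.sk m).obj U) n = ⊥ := by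
  have hP : (SimplexCategory.Truncated.inclusion m).op.HasPointwiseLeftKanExtension U :=
    Groth.Agent.Lib.Helper20.hasPointwiseLeftKanExtension_truncated m U
  have hpt := Functor.isPointwiseLeftKanExtensionOfIsLeftKanExtension
    (L := (SimplexCategory.Truncated.inclusion m).op)
    ((SimplexCategory.Truncated.inclusion m).op.lan.obj U)
    ((SimplexCategory.Truncated.inclusion m).op.lanUnit.app U)
  have hzero : (AlgebraicTopology.DoldKan.PInfty :
      AlgebraicTopology.AlternatingFaceMapComplex.obj
        ((SimplicialObject.Truncated.sk m).obj U) ⟶ _).f n = 0 := by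
    refine hom_eq_zero_of_isColimit (hpt (Opposite.op (SimplexCategory.mk n))) _ (fun g => ?_)
    have hg : ¬ Mono g.hom.unop := fun h => by
      have h1 := SimplexCategory.len_le_of_mono g.hom.unop
      have h2 := g.left.unop.property
      have h3 : (SimplexCategory.mk n).len = n := rfl
      change (SimplexCategory.mk n).len ≤ g.left.unop.obj.len at h1
      change g.left.unop.obj.len ≤ m at h2
      omega
    have := AlgebraicTopology.DoldKan.degeneracy_comp_PInfty
      ((SimplicialObject.Truncated.sk m).obj U) n g.hom.unop hg
    change (((SimplexCategory.Truncated.inclusion m).op.lanUnit.app U).app g.left ≫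
      ((SimplicialObject.Truncated.sk m).obj U).map g.hom.unop.op) ≫ _ = 0
    rw [Category.assoc, this, comp_zero]
  have h1 := HomologicalComplex.congr_hom
    (AlgebraicTopology.DoldKan.inclusionOfMooreComplexMap_comp_PInfty
      ((SimplicialObject.Truncated.sk m).obj U)) n
  rw [HomologicalComplex.comp_f, hzero, comp_zero] at h1
  rw [← Subobject.mk_arrow (AlgebraicTopology.NormalizedMooreComplex.objX _ n),
    Subobject.mk_eq_bot_iff_zero]
  exact h1.symm

end Groth.Agent.S6806
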