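import Groth.Statements.S6808
-- import your own Groth.Agent.* helpers here

set_option autoImplicit false
open CategoryTheory Opposite
universe u
open SSet

namespace Groth.Agent.S6808

/-- A map of simplicial sets preserving non-degeneracy of simplices and injective on non-degenerate
simplices is injective in every dimension. -/
theorem result {U V : SSet.{u}} (f : U ⟶ V) (ha : ∀ (n : ℕ) (x : U.obj (op (SimplexCategory.mk n))), x ∈ U.nonDegenerate n → f.app (op (SimplexCategory.mk n)) x ∈ V.nonDegenerate n) (hb : ∀ n : ℕ, Set.InjOn (f.app (op (SimplexCategory.mk n))) (U.nonDegenerate n)) (n : ℕ) : Function.Injective (f.app (op (SimplexCategory.mk n))) := by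
  intro x x' hxx'
  obtain ⟨m₁, f₁, hf₁, y₁, rfl⟩ := U.exists_nonDegenerate x
  obtain ⟨m₂, f₂, hf₂, y₂, rfl⟩ := U.exists_nonDegenerate x'
  have e₁ : f.app (op (SimplexCategory.mk n)) (U.map f₁.op y₁.1) =
      V.map f₁.op (f.app (op (SimplexCategory.mk m₁)) y₁.1) :=
    ConcreteCategory.congr_hom (f.naturality f₁.op) y₁.1
  have e₂ : f.app (op (SimplexCategory.mk n)) (U.map f₂.op y₂.1) =
      V.map f₂.op (f.app (op (SimplexCategory.mk m₂)) y₂.1) :=
    ConcreteCategory.congr_hom (f.naturality f₂.op) y₂.1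
  have hm : m₁ = m₂ := V.unique_nonDegenerate_dim _ f₁ ⟨_, ha _ _ y₁.2⟩ e₁
    f₂ ⟨_, ha _ _ y₂.2⟩ (hxx'.trans e₂)
  subst hm
  have hy := V.unique_nonDegenerate_simplex _ f₁ ⟨_, ha _ _ y₁.2⟩ e₁
    f₂ ⟨_, ha _ _ y₂.2⟩ (hxx'.trans e₂)
  have hf := V.unique_nonDegenerate_map _ f₁ ⟨_, ha _ _ y₁.2⟩ e₁
    f₂ ⟨_, ha _ _ y₂.2⟩ (hxx'.trans e₂)
  subst hf
  have : y₁.1 = y₂.1 := hb _ y₁.2 y₂.2 (congrArg Subtype.val hy)
  rw [this]

end Groth.Agent.S6808
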