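import Groth.Statements.S6811
import Groth.Agent.Lib.Helper20.FinStructuredArrow

set_option autoImplicit false
open CategoryTheory CategoryTheory.Limits
universe v u
open CategoryTheory CategoryTheory.SimplicialObject

namespace Groth.Agent.S6811

section Aux

variable {A B D H : Type*} [Category A] [Category B] [Category D] [Category H]

/-- Restriction of a cone along `StructuredArrow.pre`. -/
@[simps]
def restrictCone (J : A ⥤ B) (L : B ⥤ D) (U : D ⥤ H) (Y : D)
    (s : Cone (StructuredArrow.proj Y L ⋙ L ⋙ U)) :
    Cone (StructuredArrow.proj Y (J ⋙ L) ⋙ (J ⋙ L) ⋙ U) where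
  pt := s.pt
  π :=
    { app := fun g ↦ s.π.app ((StructuredArrow.pre Y J L).obj g)
      naturality := fun g₁ g₂ φ ↦ by
        have := s.π.naturality ((StructuredArrow.pre Y J L).map φ)
        dsimp at this ⊢
        exact this }

set_option backward.defeqAttrib.useBackward true in
set_option backward.isDefEq.respectTransparency false in
/-- If `U` is a pointwise right Kan extension of its restriction along `J ⋙ L` (with `L` full),
then it is a pointwise right Kan extension of its restriction along `L`. -/
noncomputable def isPointwiseRightKanExtensionOfComp (J : A ⥤ B) (L : B ⥤ D) [L.Full] (U : D ⥤ H)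
    (h : (Functor.RightExtension.mk U (𝟙 ((J ⋙ L) ⋙ U))).IsPointwiseRightKanExtension) :
    (Functor.RightExtension.mk U (𝟙 (L ⋙ U))).IsPointwiseRightKanExtension := fun Y ↦
  { lift := fun s ↦ (h Y).lift (restrictCone J L U Y s)
    fac := fun s g ↦ by
      apply (h (L.obj g.right)).hom_ext
      intro k
      have h₁ := (h Y).fac (restrictCone J L U Y s)
        (StructuredArrow.mk (Y := k.right) (g.hom ≫ k.hom))
      have h₂ := s.π.naturality (X := g)
        (Y := StructuredArrow.mk (Y := J.obj k.right) (g.hom ≫ k.hom))
        (StructuredArrow.homMk (L.preimage k.hom) (by simp))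
      simp only [Functor.RightExtension.coneAt_π_app, Functor.RightExtension.mk_hom,
        Functor.RightExtension.mk_left, NatTrans.id_app, restrictCone_π_app] at h₁ ⊢
      dsimp at h₁ h₂ ⊢
      simp only [Category.comp_id, Category.id_comp, Functor.map_comp, Category.assoc,
        Functor.map_preimage] at h₁ h₂ ⊢
      rw [h₁]
      exact h₂
    uniq := fun s m hm ↦ by
      apply (h Y).hom_ext
      intro k
      have e := (h Y).fac (restrictCone J L U Y s) k
      have := hm ((StructuredArrow.pre Y J L).obj k)
      simp only [Functor.RightExtension.coneAt_π_app, Functor.RightExtension.mk_hom,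
        Functor.RightExtension.mk_left, NatTrans.id_app, restrictCone_π_app] at e this ⊢
      dsimp at e this ⊢
      rw [e]
      exact this }

end Aux

/-- In a category with finite limits, an `n`-coskeletal simplicial object is `m`-coskeletal for every `m
≥ n`. -/
theorem result {C : Type u} [Category.{v} C] [HasFiniteLimits C] (U : SimplicialObject C) {n m : ℕ} (h : n ≤ m) [U.IsCoskeletal n] : U.IsCoskeletal m := by
  have hP : ∀ (F : (SimplexCategory.Truncated n)ᵒᵖ ⥤ C),
      (SimplexCategory.Truncated.inclusion n).op.HasPointwiseRightKanExtension F :=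
    fun F ↦ Groth.Agent.Lib.Helper20.hasPointwiseRightKanExtension_truncated n F
  have hn := Functor.isPointwiseRightKanExtensionOfIsRightKanExtension
    (L := (SimplexCategory.Truncated.inclusion n).op) U (𝟙 _)
  have hn' : (Functor.RightExtension.mk U (𝟙 (((SimplexCategory.Truncated.incl n m h).op ⋙
      (SimplexCategory.Truncated.inclusion m).op) ⋙ U))).IsPointwiseRightKanExtension := hn
  exact ⟨(isPointwiseRightKanExtensionOfComp _ _ U hn').isRightKanExtension⟩

end Groth.Agent.S6811
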