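import Groth.Statements.S6812
import Groth.Agent.S6805
import Groth.Agent.S6808
import Mathlib.AlgebraicTopology.SimplicialSet.Skeleton

set_option autoImplicit false
open CategoryTheory
universe u
open SSet

namespace Groth.Agent.S6812

/-- For a simplicial set `U`, the counit `i_{n!} sk_n U ⟶ U` of the skeleton adjunction is a
monomorphism whose image is the subcomplex of `U` generated by its simplices of dimension `≤ n`. -/
theorem result (U : SSet.{u}) (n : ℕ) : Mono ((SSet.skAdj n).counit.app U) ∧ SSet.Subcomplex.range ((SSet.skAdj n).counit.app U) = U.skeleton (n + 1) := by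
  have hdim : ((SSet.Truncated.sk n).obj ((SSet.truncation n).obj U)).HasDimensionLT (n + 1) :=
    Groth.Agent.S6805.result n _
  have hiso : IsIso ((SSet.truncation n).map ((SSet.skAdj n).counit.app U)) := by
    have h := (SSet.skAdj n).right_triangle_components U
    have h1 : IsIso ((SSet.skAdj n).unit.app ((SSet.truncation n).obj U)) := inferInstance
    have h2 : IsIso ((SSet.skAdj n).unit.app ((SSet.truncation n).obj U) ≫
        (SSet.truncation n).map ((SSet.skAdj n).counit.app U)) := by
      rw [h]; exact IsIso.id _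
    exact IsIso.of_isIso_comp_left ((SSet.skAdj n).unit.app ((SSet.truncation n).obj U)) _
  have hbij : ∀ (k : ℕ) (hk : k ≤ n), Function.Bijective
      (((SSet.skAdj n).counit.app U).app (Opposite.op (SimplexCategory.mk k))) := by
    intro k hk
    have : IsIso (((SSet.truncation n).map ((SSet.skAdj n).counit.app U)).app
      (Opposite.op ⟨SimplexCategory.mk k, hk⟩)) := inferInstance
    exact (isIso_iff_bijective _).1 this
  have hnat : ∀ {k l : ℕ} (f : SimplexCategory.mk k ⟶ SimplexCategory.mk l)
      (y : ((SSet.Truncated.sk n).obj ((SSet.truncation n).obj U)).obj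
        (Opposite.op (SimplexCategory.mk l))),
      ((SSet.skAdj n).counit.app U).app (Opposite.op (SimplexCategory.mk k))
        (((SSet.Truncated.sk n).obj ((SSet.truncation n).obj U)).map f.op y) =
      U.map f.op (((SSet.skAdj n).counit.app U).app (Opposite.op (SimplexCategory.mk l)) y) :=
    fun f y ↦ ConcreteCategory.congr_hom (((SSet.skAdj n).counit.app U).naturality f.op) y
  have hle : ∀ (k : ℕ) (x : ((SSet.Truncated.sk n).obj ((SSet.truncation n).obj U)).obj
      (Opposite.op (SimplexCategory.mk k))),
      x ∈ ((SSet.Truncated.sk n).obj ((SSet.truncation n).obj U)).nonDegenerate k → k ≤ n := by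
    intro k x hx
    have := SSet.dim_lt_of_nonDegenerate _ ⟨x, hx⟩ (n + 1)
    omega
  have hA : ∀ (k : ℕ) (x : ((SSet.Truncated.sk n).obj ((SSet.truncation n).obj U)).obj
      (Opposite.op (SimplexCategory.mk k))),
      x ∈ ((SSet.Truncated.sk n).obj ((SSet.truncation n).obj U)).nonDegenerate k →
      ((SSet.skAdj n).counit.app U).app (Opposite.op (SimplexCategory.mk k)) x ∈
        U.nonDegenerate k := by
    intro k x hx
    have hk := hle k x hx
    intro hdeg
    obtain ⟨l, hl, f, y, hy⟩ := hdeg
    obtain ⟨y', rfl⟩ := (hbij l (by omega)).2 y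
    rw [← hnat] at hy
    have := (hbij k hk).1 hy
    exact hx ⟨l, hl, f, y', this⟩
  have hB : ∀ k : ℕ, Set.InjOn (((SSet.skAdj n).counit.app U).app
      (Opposite.op (SimplexCategory.mk k)))
      (((SSet.Truncated.sk n).obj ((SSet.truncation n).obj U)).nonDegenerate k) := by
    intro k x hx x' _ h
    exact (hbij k (hle k x hx)).1 h
  have hinj := Groth.Agent.S6808.result ((SSet.skAdj n).counit.app U) hA hB
  refine ⟨?_, le_antisymm ?_ ?_⟩
  · have : ∀ X, Mono (((SSet.skAdj n).counit.app U).app X) := by
      rintro ⟨⟨k⟩⟩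
      rw [mono_iff_injective]
      exact hinj k
    exact NatTrans.mono_of_mono_app _
  · rintro ⟨⟨k⟩⟩ _ ⟨x, rfl⟩
    obtain ⟨j, f, _, y, rfl⟩ := SSet.exists_nonDegenerate _ x
    have hj := hle j y.1 y.2
    have := hnat f y.1
    refine Set.mem_of_eq_of_mem this ?_
    exact (U.skeleton (n + 1)).map f.op (U.mem_skeleton _ (by omega))
  · simp only [SSet.skeleton, OrderHom.coe_mk, iSup_le_iff]
    intro i x
    rw [SSet.Subcomplex.ofSimplex_le_iff]
    exact (hbij i (by omega)).2 x.1

end Groth.Agent.S6812
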