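import Groth.Statements.S6813
import Groth.Agent.Lib.Helper20.FinStructuredArrow
import Mathlib.CategoryTheory.Functor.KanExtension.Preserves
import Mathlib.CategoryTheory.Limits.Constructions.Over.Connected
import Mathlib.AlgebraicTopology.SimplexCategory.Truncated

set_option autoImplicit false
open CategoryTheory CategoryTheory.Limits
universe v u
open CategoryTheory CategoryTheory.SimplicialObject

namespace Groth.Agent.S6813

/-- For `k ≥ 1` the forgetful functor from the over category `C/X` to `C` (with `C` having finite
limits) commutes with `cosk_k`; stated as: a `k`-coskeletal simplicial object of `C/X` has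
`k`-coskeletal underlying simplicial object in `C`. -/
theorem result {C : Type u} [Category.{v} C] [HasFiniteLimits C] (X : C) (k : ℕ) (hk : 1 ≤ k) (V : SimplicialObject (Over X)) [V.IsCoskeletal k] : SimplicialObject.IsCoskeletal (V ⋙ Over.forget X) k := by
  have : NeZero k := ⟨by omega⟩
  have hconn : ∀ (Y : SimplexCategoryᵒᵖ),
      IsConnected (StructuredArrow Y (SimplexCategory.Truncated.inclusion k).op) :=
    fun Y ↦ Functor.Final.out Y
  have hP : (SimplexCategory.Truncated.inclusion k).op.HasPointwiseRightKanExtension
      ((SimplexCategory.Truncated.inclusion k).op ⋙ V) := by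
    intro Y
    dsimp only [Functor.HasPointwiseRightKanExtensionAt]
    infer_instance
  have hpres : (Over.forget X).PreservesRightKanExtension
      ((SimplexCategory.Truncated.inclusion k).op ⋙ V)
      (SimplexCategory.Truncated.inclusion k).op := inferInstance
  have h := hpres.preserves V (𝟙 _)
  have e : (Functor.associator (SimplexCategory.Truncated.inclusion k).op V (Over.forget X)).inv ≫
      Functor.whiskerRight (𝟙 ((SimplexCategory.Truncated.inclusion k).op ⋙ V)) (Over.forget X) =
      𝟙 ((SimplexCategory.Truncated.inclusion k).op ⋙ V ⋙ Over.forget X) := by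
    ext
    simp
  rw [e] at h
  exact ⟨h⟩

end Groth.Agent.S6813
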