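import Groth.Statements.S6815
import Mathlib.CategoryTheory.Limits.Preserves.Shapes.Products

set_option autoImplicit false
open CategoryTheory CategoryTheory.Limits
universe w v u
open CategoryTheory CategoryTheory.SimplicialObject

namespace Groth.Agent.S6815


section
variable {C : Type u} [Category.{v} C] {T : Type w} [HasLimitsOfShape (Discrete T) C]
  (Y : T → SimplicialObject C)

open Opposite

/-- the product of simplicial objects evaluated at `k` is a product. -/
noncomputable def evalIsLimit (k : SimplexCategoryᵒᵖ) :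
    IsLimit (((evaluation SimplexCategoryᵒᵖ C).obj k).mapCone (limit.cone (Discrete.functor Y))) :=
  isLimitOfPreserves ((evaluation SimplexCategoryᵒᵖ C).obj k) (limit.isLimit _)

lemma pi_ext (k : SimplexCategoryᵒᵖ) {Z : C} (p q : Z ⟶ (∏ᶜ Y).obj k)
    (h : ∀ t, p ≫ (Pi.π Y t).app k = q ≫ (Pi.π Y t).app k) : p = q :=
  (evalIsLimit Y k).hom_ext fun ⟨t⟩ => h t

/-- lift a family of maps to the product evaluated at `k`. -/
noncomputable def piLift (k : SimplexCategoryᵒᵖ) {Z : C} (p : ∀ t, Z ⟶ (Y t).obj k) :
    Z ⟶ (∏ᶜ Y).obj k :=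
  (evalIsLimit Y k).lift ⟨Z, Discrete.natTrans fun ⟨t⟩ => p t⟩

@[reassoc (attr := simp)]
lemma piLift_π (k : SimplexCategoryᵒᵖ) {Z : C} (p : ∀ t, Z ⟶ (Y t).obj k) (t : T) :
    piLift Y k p ≫ (Pi.π Y t).app k = p t :=
  (evalIsLimit Y k).fac ⟨Z, Discrete.natTrans fun ⟨t⟩ => p t⟩ ⟨t⟩

end

/-- Homotopies between the factors of two product morphisms of simplicial objects assemble to a homotopy
between the products. -/
theorem result {C : Type u} [Category.{v} C] {T : Type w} [HasLimitsOfShape (Discrete T) C] {X Y : T → SimplicialObject C} (a b : ∀ t, X t ⟶ Y t) (h : ∀ t, Nonempty (SimplicialObject.Homotopy (a t) (b t))) : Nonempty (SimplicialObject.Homotopy (Limits.Pi.map a) (Limits.Pi.map b)) := by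
  have H : ∀ t, SimplicialObject.Homotopy (a t) (b t) := fun t => (h t).some
  have hmapa : ∀ (t : T) (k : SimplexCategoryᵒᵖ),
      (Limits.Pi.map a).app k ≫ (Pi.π Y t).app k = (Pi.π X t).app k ≫ (a t).app k := by
    intro t k
    rw [← NatTrans.comp_app, ← NatTrans.comp_app, Limits.Pi.map_π]
  have hmapb : ∀ (t : T) (k : SimplexCategoryᵒᵖ),
      (Limits.Pi.map b).app k ≫ (Pi.π Y t).app k = (Pi.π X t).app k ≫ (b t).app k := by
    intro t k
    rw [← NatTrans.comp_app, ← NatTrans.comp_app, Limits.Pi.map_π]
  refine ⟨{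
    h := fun {n} i => piLift Y _ fun t => (Pi.π X t).app _ ≫ (H t).h i
    h_zero_comp_δ_zero := fun n => ?_
    h_last_comp_δ_last := fun n => ?_
    h_succ_comp_δ_castSucc_of_lt := fun i j hij => ?_
    h_succ_comp_δ_castSucc_succ := fun j => ?_
    h_castSucc_comp_δ_succ_of_lt := fun i j hji => ?_
    h_comp_σ_castSucc_of_le := fun i j hij => ?_
    h_comp_σ_succ_of_lt := fun i j hji => ?_ }⟩
  · apply pi_ext Y; intro t
    rw [Category.assoc, SimplicialObject.δ_naturality, piLift_π_assoc, Category.assoc,
      (H t).h_zero_comp_δ_zero, hmapb]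
  · apply pi_ext Y; intro t
    rw [Category.assoc, SimplicialObject.δ_naturality, piLift_π_assoc, Category.assoc,
      (H t).h_last_comp_δ_last, hmapa]
  · apply pi_ext Y; intro t
    rw [Category.assoc, SimplicialObject.δ_naturality, piLift_π_assoc, Category.assoc,
      (H t).h_succ_comp_δ_castSucc_of_lt i j hij, Category.assoc, piLift_π,
      SimplicialObject.δ_naturality_assoc]
  · apply pi_ext Y; intro t
    rw [Category.assoc, SimplicialObject.δ_naturality, piLift_π_assoc, Category.assoc,
      (H t).h_succ_comp_δ_castSucc_succ j, Category.assoc, SimplicialObject.δ_naturality,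
      piLift_π_assoc, Category.assoc]
  · apply pi_ext Y; intro t
    rw [Category.assoc, SimplicialObject.δ_naturality, piLift_π_assoc, Category.assoc,
      (H t).h_castSucc_comp_δ_succ_of_lt i j hji, Category.assoc, piLift_π,
      SimplicialObject.δ_naturality_assoc]
  · apply pi_ext Y; intro t
    rw [Category.assoc, SimplicialObject.σ_naturality, piLift_π_assoc, Category.assoc,
      (H t).h_comp_σ_castSucc_of_le i j hij, Category.assoc, piLift_π,
      SimplicialObject.σ_naturality_assoc]
  · apply pi_ext Y; intro t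
    rw [Category.assoc, SimplicialObject.σ_naturality, piLift_π_assoc, Category.assoc,
      (H t).h_comp_σ_succ_of_lt i j hji, Category.assoc, piLift_π,
      SimplicialObject.σ_naturality_assoc]

end Groth.Agent.S6815
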