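import Groth.Statements.S6816
-- import your own Groth.Agent.* helpers here

set_option autoImplicit false
open CategoryTheory CategoryTheory.Limits
universe v u
open CochainComplex

namespace Groth.Agent.S6816


section
open HomologicalComplex HomComplex Category Preadditive

variable {C : Type u} [Category.{v} C] [Preadditive C] (S : ShortComplex (CochainComplex C ℤ))
  (σ σ' : ∀ n : ℤ, (S.map (HomologicalComplex.eval C (ComplexShape.up ℤ) n)).Splitting)

/-- the degree zero cochain comparing two splittings. -/
def diffCochain : Cochain S.X₃ S.X₁ 0 :=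
  Cochain.ofHoms (fun p => ((σ' p).s - (σ p).s) ≫ (σ p).r)

set_option backward.defeqAttrib.useBackward true in
set_option backward.isDefEq.respectTransparency false in
lemma δ_diffCochain : δ 0 1 (diffCochain S σ σ') =
    (cocycleOfDegreewiseSplit S σ').1 - (cocycleOfDegreewiseSplit S σ).1 := by
  ext p q hpq
  obtain rfl : q = p + 1 := by lia
  have := mono_of_mono_fac (σ (p + 1)).f_r
  have r_f := fun n => (σ n).r_f
  have r_f' := fun n => (σ' n).r_f
  have s_g := fun n => (σ n).s_g
  have s_g' := fun n => (σ' n).s_g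
  dsimp at this r_f r_f' s_g s_g' ⊢
  rw [δ_v 0 1 (zero_add 1) _ p (p + 1) rfl p (p + 1) (by lia) rfl]
  simp only [diffCochain, Cochain.ofHoms_v, cocycleOfDegreewiseSplit, Cocycle.mk_coe,
    Cochain.mk_v]
  rw [← cancel_mono (S.f.f (p + 1))]
  simp only [Int.negOnePow_one, Units.neg_smul, one_smul, add_comp, sub_comp, neg_comp, assoc,
    ← S.f.comm, reassoc_of% r_f, r_f, r_f', comp_sub, comp_id, id_comp]
  simp only [← S.g.comm_assoc, reassoc_of% s_g, reassoc_of% s_g']
  erw [comp_id, comp_id]
  abel

end

/-- The boundary morphisms `C ⟶ A⟦1⟧` attached to two degreewise splittings of a degreewise split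
sequence `A ⟶ B ⟶ C` of cochain complexes are homotopic. -/
theorem result {C : Type u} [Category.{v} C] [Preadditive C] [HasBinaryBiproducts C] (S : ShortComplex (CochainComplex C ℤ)) (σ σ' : ∀ n : ℤ, (S.map (HomologicalComplex.eval C (ComplexShape.up ℤ) n)).Splitting) : Nonempty (Homotopy (CochainComplex.homOfDegreewiseSplit S σ) (CochainComplex.homOfDegreewiseSplit S σ')) := by
  open HomologicalComplex HomComplex in
  refine ⟨(Cochain.equivHomotopy _ _).symm
    ⟨(diffCochain S σ σ').rightShift 1 (-1) (by lia), ?_⟩⟩
  rw [Cochain.δ_rightShift _ 1 (-1) 0 (by lia) 1 (by lia), δ_diffCochain]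
  simp only [homOfDegreewiseSplit, Cocycle.equivHom_symm_apply, Cocycle.cochain_ofHom_homOf_eq_coe,
    Cocycle.rightShift_coe, Int.negOnePow_one, Units.neg_smul, one_smul, sub_eq_add_neg,
    Cochain.rightShift_add, Cochain.rightShift_neg]
  abel

end Groth.Agent.S6816
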