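import Groth.Statements.S6820
-- import your own Groth.Agent.* helpers here

set_option autoImplicit false
universe u
open Smoothing

namespace Groth.Agent.S6820

/-- a finitely generated submodule each of whose elements is killed by an element of `S` is
killed by a single element of `S` -/
theorem exists_mem_forall_smul_eq_zero {A : Type u} [CommRing A] {M : Type u} [AddCommGroup M]
    [Module A M] (S : Submonoid A) (N : Submodule A M) (hN : N.FG) (φ : M →ₗ[A] M)
    (h : ∀ x ∈ N, ∃ t ∈ S, t • φ x = 0) : ∃ s ∈ S, ∀ x ∈ N, s • φ x = 0 := by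
  classical
  obtain ⟨G, hG⟩ := hN
  have hex : ∀ g : G, ∃ t ∈ S, t • φ g.1 = 0 := fun g => h g.1 (hG ▸ Submodule.subset_span g.2)
  choose t htS ht using hex
  refine ⟨∏ g ∈ G.attach, t g, S.prod_mem fun g _ => htS g, fun x hx => ?_⟩
  have hle : N ≤ LinearMap.ker ((∏ g ∈ G.attach, t g) • φ) := by
    rw [← hG, Submodule.span_le]
    intro g hg
    rw [SetLike.mem_coe, LinearMap.mem_ker, LinearMap.smul_apply,
      ← Finset.mul_prod_erase G.attach t (Finset.mem_attach G ⟨g, hg⟩), mul_comm, mul_smul,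
      ht ⟨g, hg⟩, smul_zero]
  exact hle hx


/-- Let A be a Noetherian ring, M a finite A-module, S a multiplicative subset of A and π an element of
A such that on the localised module S⁻¹M the kernels of multiplication by π and by π² agree. Then
there is an element s of S such that for every n > 0 the kernels of multiplication by sⁿπ and by
(sⁿπ)² on M agree. (Kernel equalities are written as implications, the reverse inclusions being
automatic.) -/
theorem result {A : Type u} [CommRing A] [IsNoetherianRing A]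
    (M : Type u) [AddCommGroup M] [Module A M] [Module.Finite A M] (S : Submonoid A) (π : A)
    (h : ∀ m : LocalizedModule S M, π ^ 2 • m = 0 → π • m = 0) :
    ∃ s ∈ S, ∀ n : ℕ, 0 < n → ∀ m : M, (s ^ n * π) ^ 2 • m = 0 → (s ^ n * π) • m = 0 := by
  have hnoeth : IsNoetherian A M := inferInstance
  -- the `S`-torsion of `M` is killed by one element
  let T : Submodule A M :=
    { carrier := {m | ∃ t ∈ S, t • m = 0}
      add_mem' := by
        rintro x y ⟨t, ht, htx⟩ ⟨t', ht', hty⟩
        refine ⟨t * t', S.mul_mem ht ht', ?_⟩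
        rw [smul_add, mul_smul t t' y, hty, smul_zero, mul_comm, mul_smul, htx, smul_zero, add_zero]
      zero_mem' := ⟨1, S.one_mem, smul_zero _⟩
      smul_mem' := by
        rintro c x ⟨t, ht, htx⟩
        exact ⟨t, ht, by rw [smul_comm, htx, smul_zero]⟩ }
  obtain ⟨s₁, hs₁S, hs₁⟩ := exists_mem_forall_smul_eq_zero S T (IsNoetherian.noetherian T)
    LinearMap.id (fun x hx => hx)
  -- the kernel of `π ^ 2`
  let K : Submodule A M := LinearMap.ker (LinearMap.lsmul A M (π ^ 2))
  obtain ⟨s₀, hs₀S, hs₀⟩ := exists_mem_forall_smul_eq_zero S K (IsNoetherian.noetherian K)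
    (LinearMap.lsmul A M π) (fun x hx => by
      have hx' : π ^ 2 • x = 0 := hx
      have h1 : π ^ 2 • (LocalizedModule.mk x (1 : S)) = 0 := by
        rw [LocalizedModule.smul'_mk, hx', LocalizedModule.zero_mk]
      have h2 := h _ h1
      rw [LocalizedModule.smul'_mk, ← LocalizedModule.zero_mk (1 : S), LocalizedModule.mk_eq] at h2
      obtain ⟨u, hu⟩ := h2
      rw [one_smul, smul_zero, Submonoid.smul_def] at hu
      exact ⟨u, u.2, by simpa using hu⟩)
  refine ⟨s₀ * s₁, S.mul_mem hs₀S hs₁S, fun n hn m hm => ?_⟩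
  -- `π ^ 2 • m` is `S`-torsion
  have h1 : π ^ 2 • m ∈ T := by
    refine ⟨(s₀ * s₁) ^ (2 * n), S.pow_mem (S.mul_mem hs₀S hs₁S) _, ?_⟩
    rw [← hm, smul_smul]
    congr 1
    ring
  have h2 : s₁ • (π ^ 2 • m) = 0 := hs₁ _ h1
  have h3 : s₁ • m ∈ K := by
    change π ^ 2 • (s₁ • m) = 0
    rw [smul_comm, h2]
  have h4 : s₀ • (π • (s₁ • m)) = 0 := hs₀ _ h3
  obtain ⟨k, rfl⟩ := Nat.exists_eq_succ_of_ne_zero hn.ne'
  have h5 : ((s₀ * s₁) ^ (k + 1) * π) • m = (s₀ * s₁) ^ k • (s₀ • (π • (s₁ • m))) := by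
    rw [smul_smul, smul_smul, smul_smul]
    congr 1
    ring
  rw [h5, h4, smul_zero]

end Groth.Agent.S6820
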