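import Groth.Statements.S6842
import Groth.Agent.Lib.Helper2.QcSite.FinCover

set_option autoImplicit false
universe u
open CategoryTheory CategoryTheory.Limits TopologicalSpace
open ModSite

namespace Groth.Agent.S6842

/-- Let (X, O) be a ringed space, (F_i)_{i ∈ I} a family of O-modules and U ⊆ X a quasi-compact open.
Then the canonical map ⊕_i F_i(U) → (⊕_i F_i)(U) is bijective: every section of the direct sum over
U is a finite sum of images of sections of the F_i over U (surjectivity), and such a finite sum
vanishes only if each term's section is zero (injectivity). -/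
theorem result {X : TopCat.{u}} (O : TopCat.Sheaf CommRingCat.{u} X)
    {I : Type u} (F : I → ModSite.Mod O) [HasCoproduct F] (U : Opens X) (hU : IsCompact (U : Set X)) :
    (∀ s : ModSite.sect (∐ F) U, ∃ (S : Finset I) (t : ∀ i, ModSite.sect (F i) U),
        s = ∑ i ∈ S, ((Sigma.ι F i).val.app (Opposite.op U)).hom (t i)) ∧
      ∀ (S : Finset I) (t : ∀ i, ModSite.sect (F i) U),
        ∑ i ∈ S, ((Sigma.ι F i).val.app (Opposite.op U)).hom (t i) = 0 → ∀ i ∈ S, t i = 0 := by
  classical
  let c : Cofan F := Cofan.mk (∐ F) (Sigma.ι F)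
  have hc : IsColimit c := coproductIsCoproduct F
  have hfin : Groth.Agent.Lib.Helper2.QcSite.FinCover (Opens.grothendieckTopology X) U :=
    Groth.Agent.Lib.Helper2.QcSite.finCover_of_isCompact U hU
  have hsum : ∀ {M N : ModSite.Mod O} (t : Finset I) (f : I → (M ⟶ N))
      (s : (Groth.Agent.Lib.Helper2.QcSite.Γ O U).obj M),
      ((Groth.Agent.Lib.Helper2.QcSite.Γ O U).map (∑ i ∈ t, f i)).hom s =
        ∑ i ∈ t, ((Groth.Agent.Lib.Helper2.QcSite.Γ O U).map (f i)).hom s := by
    intro M N t f s
    induction t using Finset.induction_on with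
    | empty =>
      rw [Finset.sum_empty, Finset.sum_empty, Functor.map_zero]
      rfl
    | insert a t ha ih =>
      rw [Finset.sum_insert ha, Finset.sum_insert ha, Functor.map_add, ← ih]
      rfl
  constructor
  · intro s
    obtain ⟨t, ht⟩ := Groth.Agent.Lib.Helper2.QcSite.exists_fix_of_finCover O hfin F c hc s
    refine ⟨t, fun i => ((Groth.Agent.Lib.Helper2.QcSite.Γ O U).map
      (Groth.Agent.Lib.Helper2.CptD.cπ c hc i)).hom s, ?_⟩
    rw [Groth.Agent.Lib.Helper2.CptD.proj_eq_sum, hsum] at ht
    refine ht.symm.trans ?_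
    refine Finset.sum_congr rfl (fun i _ => ?_)
    rw [Functor.map_comp]
    rfl
  · intro S t h i hi
    have h1 : ((Groth.Agent.Lib.Helper2.QcSite.Γ O U).map
        (Groth.Agent.Lib.Helper2.CptD.cπ c hc i)).hom
        (∑ j ∈ S, ((Groth.Agent.Lib.Helper2.QcSite.Γ O U).map (c.inj j)).hom (t j)) = 0 := by
      have h' : (∑ j ∈ S, ((Groth.Agent.Lib.Helper2.QcSite.Γ O U).map (c.inj j)).hom (t j)) = 0 := h
      rw [h', map_zero]
    rw [map_sum] at h1
    rw [Finset.sum_eq_single i] at h1
    · have h2 := congrArg (fun f => ((Groth.Agent.Lib.Helper2.QcSite.Γ O U).map f).hom (t i))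
        (Groth.Agent.Lib.Helper2.CptD.inj_cπ_self c hc i)
      simp only [Functor.map_comp, Functor.map_id] at h2
      exact h2.symm.trans h1
    · intro j _ hji
      have h2 := congrArg (fun f => ((Groth.Agent.Lib.Helper2.QcSite.Γ O U).map f).hom (t j))
        (Groth.Agent.Lib.Helper2.CptD.inj_cπ_of_ne c hc hji)
      simp only [Functor.map_comp, Functor.map_zero] at h2
      exact h2
    · intro h; exact absurd hi h

end Groth.Agent.S6842
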