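import Groth.Statements.S6856
import Groth.Agent.Lib.Helper17.Tensor
import Groth.Agent.Lib.Helper17.ProjFormula
import Groth.Agent.Lib.Helper28.KFlatSite11

set_option autoImplicit false
universe u
open CategoryTheory CategoryTheory.Limits TopologicalSpace
open ModSite

namespace Groth.Agent.S6856

section helpers

open Groth.Agent.Lib.Helper17 Groth.Agent.Lib.Helper17.Tensor

variable {C : Type u} [SmallCategory C] {J : GrothendieckTopology C} {O : Sheaf J CommRingCat.{u}}

/-- `- ⊗ M` -/
noncomputable abbrev TT (M : ModSite.Mod O) : ModSite.Mod O ⥤ ModSite.Mod O :=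
  (ModSite.tensorBi O).flip.obj M

lemma isEquivalence_TT_iff (M : ModSite.Mod O) :
    ((ModSite.tensorBi O).obj M).IsEquivalence ↔ (TT M).IsEquivalence :=
  Functor.isEquivalence_iff_of_iso (objIsoFlipObj M)

lemma isEquivalence_TT_tensor (L N : ModSite.Mod O) (hL : (TT L).IsEquivalence)
    (hN : (TT N).IsEquivalence) : (TT (((ModSite.tensorBi O).obj L).obj N)).IsEquivalence :=
  Functor.isEquivalence_of_iso (assocNatIso L N)

lemma isEquivalence_TT_of_iso_unit (M L : ModSite.Mod O) (hL : (TT L).IsEquivalence)
    (e : ((ModSite.tensorBi O).obj M).obj L ≅ ModSite.unit O) : (TT M).IsEquivalence := by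
  have e1 : TT M ⋙ TT L ≅ 𝟭 (ModSite.Mod O) :=
    assocNatIso M L ≪≫ (ModSite.tensorBi O).flip.mapIso e ≪≫
      Groth.Agent.Lib.Helper28.KFlatSite.rightUnitNatIso
  haveI : (TT M ⋙ TT L).IsEquivalence := Functor.isEquivalence_of_iso e1.symm
  exact Functor.isEquivalence_of_comp_right (TT M) (TT L)

end helpers

/-- On a ringed space (X, O), (1) if L and N are invertible O-modules (tensoring with each is an
equivalence of Mod(O)) then L ⊗_O N is invertible; (2) if L is invertible then Hom_O(L, O) is
invertible and the evaluation map Hom_O(L, O) ⊗_O L → O, the counit of the adjunction between − ⊗ L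
and Hom_O(L, −) at O, is an isomorphism. -/
theorem result {X : TopCat.{u}} (O : TopCat.Sheaf CommRingCat.{u} X)
    (L N : ModSite.Mod O) (hL : ((ModSite.tensorBi O).obj L).IsEquivalence) [ModSite.HasSheafHom L] :
    (((ModSite.tensorBi O).obj N).IsEquivalence →
        ((ModSite.tensorBi O).obj (((ModSite.tensorBi O).obj L).obj N)).IsEquivalence) ∧
      ((ModSite.tensorBi O).obj ((ModSite.sheafHom L).obj (ModSite.unit O))).IsEquivalence ∧
      IsIso ((ModSite.sheafHomAdj L).counit.app (ModSite.unit O)) := by
  have hL' : (TT L).IsEquivalence := (isEquivalence_TT_iff L).1 hL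
  refine ⟨fun hN => ?_, ?_, ?_⟩
  · exact (isEquivalence_TT_iff _).2
      (isEquivalence_TT_tensor L N hL' ((isEquivalence_TT_iff N).1 hN))
  · haveI : IsIso ((ModSite.sheafHomAdj L).counit.app (ModSite.unit O)) := inferInstance
    exact (isEquivalence_TT_iff _).2 (isEquivalence_TT_of_iso_unit _ L hL'
      (asIso ((ModSite.sheafHomAdj L).counit.app (ModSite.unit O))))
  · infer_instance

end Groth.Agent.S6856
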