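import Groth.Statements.S6857
import Groth.Agent.Lib.Helper5.ClosedEmbFF
import Mathlib.Algebra.Homology.ShortComplex.ExactFunctor

set_option autoImplicit false
universe u
open CategoryTheory CategoryTheory.Limits TopologicalSpace
open CohTop

namespace Groth.Agent.S6857

section helpers

open CategoryTheory CategoryTheory.Limits TopologicalSpace Opposite

lemma isZero_stalk_of_subsingleton {X : TopCat.{u}} (H : CohTop.Ab X) (U : Opens X) (x : X)
    (hx : x ∈ U) (hH : ∀ V : Opens X, V ≤ U → Subsingleton (H.obj.obj (op V))) :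
    IsZero (CohTop.stalk H x) := by
  haveI : Subsingleton (CohTop.stalk H x) := by
    refine subsingleton_of_forall_eq 0 fun t => ?_
    obtain ⟨V, hxV, s, rfl⟩ := TopCat.Presheaf.germ_exist (C := AddCommGrpCat.{u}) H.obj t
    have h1 := TopCat.Presheaf.germ_res_apply H.obj (homOfLE (inf_le_left : V ⊓ U ≤ V)) x
      ⟨hxV, hx⟩ s
    haveI := hH (V ⊓ U) inf_le_right
    have h0 : (H.obj.map (homOfLE (inf_le_left : V ⊓ U ≤ V)).op) s = 0 := Subsingleton.elim _ _
    rw [← h1, h0, map_zero]
  exact AddCommGrpCat.isZero_of_subsingleton _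

lemma subsingleton_of_isZero_stalk {X : TopCat.{u}} (H : CohTop.Ab X) (U : Opens X)
    (hz : ∀ x ∈ U, IsZero (CohTop.stalk H x)) (V : Opens X) (hV : V ≤ U) :
    Subsingleton (H.obj.obj (op V)) := by
  refine ⟨fun s t => ?_⟩
  apply TopCat.Presheaf.section_ext H V s t
  intro x hx
  haveI := AddCommGrpCat.subsingleton_of_isZero (hz x (hV hx))
  exact Subsingleton.elim _ _

end helpers

/-- Let i : Z → X be the inclusion of a closed subset of a topological space (a closed embedding). Then
i_* : Ab(Z) → Ab(X) is exact (right exactness being the content, i_* is a right adjoint) and fully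
faithful, an abelian sheaf on X lies in its essential image exactly when its stalks at points
outside i(Z) are zero (support contained in Z), and i⁻¹ ∘ i_* is isomorphic to the identity functor
(existence of an isomorphism of functors is asserted). -/
theorem result {Z X : TopCat.{u}} (i : Z ⟶ X)
    (hi : Topology.IsClosedEmbedding i) :
    PreservesFiniteColimits (CohTop.push i) ∧ (CohTop.push i).Full ∧ (CohTop.push i).Faithful ∧
      (∀ F : CohTop.Ab X, (CohTop.push i).essImage F ↔ ∀ x : X, x ∉ Set.range i → IsZero (CohTop.stalk F x)) ∧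
      Nonempty (CohTop.push i ⋙ CohTop.pull i ≅ 𝟭 (CohTop.Ab Z)) := by
  have hff := Groth.Agent.Lib.Helper5.ClosedEmbFF.full_push i hi
  have hfa := Groth.Agent.Lib.Helper5.ClosedEmbFF.faithful_push i hi
  refine ⟨?_, hff, hfa, ?_, ?_⟩
  · haveI : CategoryTheory.Limits.PreservesLimits (CohTop.push i) :=
      (TopCat.Sheaf.pullbackPushforwardAdjunction AddCommGrpCat.{u} i).rightAdjoint_preservesLimits
    haveI : CategoryTheory.Limits.PreservesFiniteLimits (CohTop.push i) := inferInstance
    refine (CategoryTheory.Functor.preservesFiniteColimits_iff_forall_exact_map_and_epi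
      (CohTop.push i)).2 ?_
    intro S hS
    refine ⟨((CategoryTheory.Functor.preservesFiniteLimits_iff_forall_exact_map_and_mono
      (CohTop.push i)).1 inferInstance S hS).1, ?_⟩
    haveI := hS.epi_g
    exact Groth.Agent.Lib.Helper22.CohTop.epi_push_map_of_isClosedEmbedding i hi S.g
  · intro F
    constructor
    · rintro ⟨G, ⟨e⟩⟩ x hx
      have h1 : CategoryTheory.Limits.IsZero (CohTop.stalk ((CohTop.push i).obj G) x) :=
        isZero_stalk_of_subsingleton _ (Groth.Agent.Lib.Helper5.ClosedEmbFF.Uc i hi) x hx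
          (fun V hV => Groth.Agent.Lib.Helper22.CohTop.subsingleton_sections_of_isEmpty G _
            (Groth.Agent.Lib.Helper5.ClosedEmbFF.map_inf_eq_bot i hi V hV))
      exact h1.of_iso ((TopCat.Presheaf.stalkFunctor AddCommGrpCat.{u} x).mapIso
        ((CategoryTheory.sheafToPresheaf _ _).mapIso e)).symm
    · intro h
      have hH : ∀ V : TopologicalSpace.Opens X, V ≤ Groth.Agent.Lib.Helper5.ClosedEmbFF.Uc i hi →
          Subsingleton (F.obj.obj (Opposite.op V)) := fun V hV =>
        subsingleton_of_isZero_stalk F (Groth.Agent.Lib.Helper5.ClosedEmbFF.Uc i hi)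
          (fun x hx => h x hx) V hV
      haveI := Groth.Agent.Lib.Helper5.ClosedEmbFF.isIso_τ i hi F hH
      exact ⟨Groth.Agent.Lib.Helper5.ClosedEmbFF.K i hi F hH,
        ⟨CategoryTheory.asIso (Groth.Agent.Lib.Helper5.ClosedEmbFF.τ i hi F hH)⟩⟩
  · have hc : CategoryTheory.IsIso
        (TopCat.Sheaf.pullbackPushforwardAdjunction AddCommGrpCat.{u} i).counit :=
      @CategoryTheory.Adjunction.counit_isIso_of_R_fully_faithful _ _ _ _ _ _
        (TopCat.Sheaf.pullbackPushforwardAdjunction AddCommGrpCat.{u} i) hff hfa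
    exact ⟨@CategoryTheory.asIso _ _ _ _
      (TopCat.Sheaf.pullbackPushforwardAdjunction AddCommGrpCat.{u} i).counit hc⟩

end Groth.Agent.S6857
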