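import Groth.Statements.S6860
import Mathlib

set_option autoImplicit false
universe u
open Smoothing

namespace S6860aux
open Algebra MvPolynomial

variable {A : Type u} [CommRing A] {n : ℕ} (e : Fin n → A)

/-- relations `Y_i - C (e i)` -/
noncomputable def rel (i : Fin n) : MvPolynomial (Fin n) A := X i - C (e i)

/-- The quotient `A[Y]/(Y_i - e_i)`. -/
abbrev Quot : Type u := MvPolynomial (Fin n) A ⧸ (Ideal.span <| Set.range (rel e))

theorem aeval_eq_zero_of_mem (a : MvPolynomial (Fin n) A)
    (ha : a ∈ Ideal.span (Set.range (rel e))) : aeval e a = 0 := by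
  have : Ideal.span (Set.range (rel e)) ≤ RingHom.ker (aeval e : MvPolynomial (Fin n) A →ₐ[A] A) := by
    rw [Ideal.span_le]
    rintro _ ⟨i, rfl⟩
    simp [rel, RingHom.mem_ker]
  exact this ha

noncomputable def toA : Quot e →ₐ[A] A :=
  Ideal.Quotient.liftₐ _ (aeval e) (aeval_eq_zero_of_mem e)

theorem toA_mk (p : MvPolynomial (Fin n) A) :
    toA e (Ideal.Quotient.mk _ p) = aeval e p := rfl

theorem mk_X (i : Fin n) :
    (Ideal.Quotient.mk (Ideal.span <| Set.range (rel e)) (X i)) =
      algebraMap A (Quot e) (e i) := by
  have h : algebraMap A (Quot e) (e i) =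
      Ideal.Quotient.mk (Ideal.span <| Set.range (rel e)) (C (e i)) := rfl
  rw [h, Ideal.Quotient.eq]
  exact Ideal.subset_span ⟨i, rfl⟩

noncomputable def quotEquiv : Quot e ≃ₐ[A] A :=
  AlgEquiv.ofAlgHom (toA e) (Algebra.ofId A (Quot e))
    (by ext)
    (by
      apply Ideal.Quotient.algHom_ext
      apply MvPolynomial.algHom_ext
      intro i
      simp only [AlgHom.coe_comp, Function.comp_apply, Ideal.Quotient.mkₐ_eq_mk, AlgHom.coe_id, id_eq,
        Algebra.ofId_apply, toA_mk, aeval_X]
      exact (mk_X e i).symm)

end S6860aux

namespace S6860aux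
open Algebra MvPolynomial

variable {A : Type u} [CommRing A] {n : ℕ} (e : Fin n → A)

noncomputable def preQ : PreSubmersivePresentation A (Quot e) (Fin n) (Fin n) :=
  PreSubmersivePresentation.naive (v := rel e) (id : Fin n → Fin n) Function.injective_id

theorem preQ_jacobian : (preQ e).jacobian = 1 := by
  classical
  rw [PreSubmersivePresentation.jacobian_eq_jacobiMatrix_det]
  have : (preQ e).jacobiMatrix = 1 := by
    ext i j
    rw [preQ, PreSubmersivePresentation.jacobiMatrix_naive]
    simp only [rel, id_eq, map_sub, pderiv_C, sub_zero, Matrix.one_apply]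
    rw [pderiv_X]
    simp [Pi.single_apply, eq_comm]
  rw [this, Matrix.det_one, map_one]

noncomputable def subQ : SubmersivePresentation A (Quot e) (Fin n) (Fin n) where
  __ := preQ e
  jacobian_isUnit := by rw [preQ_jacobian]; exact isUnit_one

noncomputable def subA : SubmersivePresentation A A (Fin n) (Fin n) :=
  (subQ e).ofAlgEquiv (quotEquiv e)

theorem subA_val (i : Fin n) : (subA e).val i = e i := by
  change quotEquiv e (Ideal.Quotient.mk _ (X i)) = e i
  change toA e (Ideal.Quotient.mk _ (X i)) = e i
  rw [toA_mk, aeval_X]

theorem subA_map (i : Fin n) : (subA e).map i = i := rfl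

end S6860aux

namespace S6860aux
open Algebra MvPolynomial

theorem main {R A : Type u} [CommRing R] [CommRing A] [Algebra R A]
    [Algebra.IsStandardSmooth R A] (E : Finset A) :
    ∃ (ι σ : Type) (_ : Finite ι) (_ : Finite σ) (P : Algebra.SubmersivePresentation R A ι σ),
      (↑E : Set A) ⊆ Set.range (P.val ∘ P.map) := by
  obtain ⟨ι₀, σ₀, hσ₀, hι₀, ⟨P₀⟩⟩ := Algebra.IsStandardSmooth.out (R := R) (S := A)
  classical
  let n := E.card
  let eq : Fin n ≃ E := (E.equivFin).symm
  let e : Fin n → A := fun i => (eq i : A)
  refine ⟨Fin n ⊕ ι₀, Fin n ⊕ σ₀, inferInstance, inferInstance, (subA e).comp P₀, ?_⟩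
  intro a ha
  obtain ⟨i, hi⟩ := eq.surjective ⟨a, ha⟩
  refine ⟨Sum.inl i, ?_⟩
  have h1 : ((subA e).comp P₀).map (Sum.inl i) = Sum.inl ((subA e).map i) := rfl
  rw [Function.comp_apply, h1, subA_map]
  have h2 : ((subA e).comp P₀).val (Sum.inl i) = (subA e).val i := rfl
  rw [h2, subA_val]
  change (eq i : A) = a
  rw [hi]

end S6860aux

namespace Groth.Agent.S6860

/-- Let R → A be standard smooth and E ⊆ A a finite subset. Then A admits a standard smooth presentation
A = R[x₁, …, x_N]/(f₁, …, f_c) (a submersive presentation: finitely many generators and relations,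
an injection from the relations to the variables picking the distinguished variables, and the
Jacobian of the relations with respect to the distinguished variables invertible in A) in which
every element of E is the class of a distinguished variable. (The published statement arranges E to
be exactly the classes of the first n = |E| variables, all of them distinguished, with c ≥ n; this
row states that E is contained in the set of classes of the distinguished variables, which is what
that arrangement gives.) -/
theorem result {R A : Type u} [CommRing R] [CommRing A] [Algebra R A]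
    [Algebra.IsStandardSmooth R A] (E : Finset A) :
    ∃ (ι σ : Type) (_ : Finite ι) (_ : Finite σ) (P : Algebra.SubmersivePresentation R A ι σ),
      (↑E : Set A) ⊆ Set.range (P.val ∘ P.map) := by
  exact S6860aux.main E

end Groth.Agent.S6860
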