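import Groth.Statements.S6862
import Mathlib.LinearAlgebra.Prod
import Mathlib.LinearAlgebra.FreeModule.Basic
import Mathlib.RingTheory.Finiteness.Prod

set_option autoImplicit false
universe u
open CAlg

namespace Groth.Agent.S6862


section
variable {R : Type u} [CommRing R] {A B C D E : Type u} [AddCommGroup A] [AddCommGroup B]
  [AddCommGroup C] [AddCommGroup D] [AddCommGroup E] [Module R A] [Module R B] [Module R C]
  [Module R D] [Module R E]

/-- `C × ((B × D) × E) ≃ (A × E) × D` given `A ≃ B × C`. -/
def shuffle₁ (e : A ≃ₗ[R] B × C) : (C × ((B × D) × E)) ≃ₗ[R] ((A × E) × D) where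
  toFun x := ((e.symm (x.2.1.1, x.1), x.2.2), x.2.1.2)
  invFun y := ((e y.1.1).2, (((e y.1.1).1, y.2), y.1.2))
  map_add' x y := by
    simp only [Prod.fst_add, Prod.snd_add, ← Prod.mk_add_mk, map_add]
  map_smul' r x := by
    simp only [Prod.smul_fst, Prod.smul_snd, ← Prod.smul_mk, map_smul, RingHom.id_apply]
  left_inv x := by simp
  right_inv y := by simp

/-- `B × ((C × D) × E) ≃ (A × E) × D` given `A ≃ B × C`. -/
def shuffle₃ (e : A ≃ₗ[R] B × C) : (B × ((C × D) × E)) ≃ₗ[R] ((A × E) × D) where
  toFun x := ((e.symm (x.1, x.2.1.1), x.2.2), x.2.1.2)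
  invFun y := ((e y.1.1).1, (((e y.1.1).2, y.2), y.1.2))
  map_add' x y := by
    simp only [Prod.fst_add, Prod.snd_add, ← Prod.mk_add_mk, map_add]
  map_smul' r x := by
    simp only [Prod.smul_fst, Prod.smul_snd, ← Prod.smul_mk, map_smul, RingHom.id_apply]
  left_inv x := by simp
  right_inv y := by simp

/-- `A × (D × E) ≃ (B × D) × (C × E)` given `A ≃ B × C`. -/
def shuffle₂ (e : A ≃ₗ[R] B × C) : (A × (D × E)) ≃ₗ[R] ((B × D) × (C × E)) where
  toFun x := (((e x.1).1, x.2.1), ((e x.1).2, x.2.2))
  invFun y := (e.symm (y.1.1, y.2.1), (y.1.2, y.2.2))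
  map_add' x y := by
    simp only [Prod.fst_add, Prod.snd_add, ← Prod.mk_add_mk, map_add]
  map_smul' r x := by
    simp only [Prod.smul_fst, Prod.smul_snd, ← Prod.smul_mk, map_smul, RingHom.id_apply]
  left_inv x := by simp
  right_inv y := by simp

end

/-- Let `R` be a commutative ring and `P'`, `P`, `P''` finitely generated projective `R`-modules in an
exact sequence `0 → P' → P → P'' → 0`. Whenever two of the three are stably free, the remaining one
is stably free too (all three cases are stated). -/
theorem result {R : Type u} [CommRing R] {P' P P'' : Type u}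
    [AddCommGroup P'] [Module R P'] [Module.Finite R P'] [Module.Projective R P']
    [AddCommGroup P] [Module R P] [Module.Finite R P] [Module.Projective R P]
    [AddCommGroup P''] [Module R P''] [Module.Finite R P''] [Module.Projective R P'']
    (f : P' →ₗ[R] P) (g : P →ₗ[R] P'') (hf : Function.Injective f) (hg : Function.Surjective g)
    (hfg : Function.Exact f g) :
    (Module.IsStablyFree R P' → Module.IsStablyFree R P → Module.IsStablyFree R P'') ∧
    (Module.IsStablyFree R P' → Module.IsStablyFree R P'' → Module.IsStablyFree R P) ∧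
    (Module.IsStablyFree R P → Module.IsStablyFree R P'' → Module.IsStablyFree R P') := by
  obtain ⟨l, hl⟩ := Module.projective_lifting_property g LinearMap.id hg
  let e : P ≃ₗ[R] P' × P'' := (hfg.splitSurjectiveEquiv hf ⟨l, hl⟩).1
  refine ⟨?_, ?_, ?_⟩
  · intro h' h
    obtain ⟨F', _, _, _, _, _⟩ := Module.IsStablyFree.exist_free_prod R P'
    obtain ⟨F, _, _, _, _, _⟩ := Module.IsStablyFree.exist_free_prod R P
    have : Module.Free R (P'' × ((P' × F') × F)) :=
      Module.Free.of_equiv (shuffle₁ (D := F') (E := F) e).symm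
    exact Module.IsStablyFree.of_free_prod R P'' ((P' × F') × F)
  · intro h' h''
    obtain ⟨F', _, _, _, _, _⟩ := Module.IsStablyFree.exist_free_prod R P'
    obtain ⟨F'', _, _, _, _, _⟩ := Module.IsStablyFree.exist_free_prod R P''
    have : Module.Free R (P × (F' × F'')) :=
      Module.Free.of_equiv (shuffle₂ (D := F') (E := F'') e).symm
    exact Module.IsStablyFree.of_free_prod R P (F' × F'')
  · intro h h''
    obtain ⟨F, _, _, _, _, _⟩ := Module.IsStablyFree.exist_free_prod R P
    obtain ⟨F'', _, _, _, _, _⟩ := Module.IsStablyFree.exist_free_prod R P''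
    have : Module.Free R (P' × ((P'' × F'') × F)) :=
      Module.Free.of_equiv (shuffle₃ (D := F'') (E := F) e).symm
    exact Module.IsStablyFree.of_free_prod R P' ((P'' × F'') × F)

end Groth.Agent.S6862
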