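import Groth.Statements.S6864
import Mathlib.RingTheory.Nakayama
import Mathlib.LinearAlgebra.TensorProduct.Quotient

set_option autoImplicit false
universe u
open TensorProduct
open CAlg

namespace Groth.Agent.S6864


section
variable {R : Type u} [CommRing R] (I : Ideal R) {M : Type u} [AddCommGroup M] [Module R M]

lemma one_tmul_eq_zero_iff (x : M) :
    ((1 : R ⧸ I) ⊗ₜ[R] x = 0) ↔ x ∈ (I • ⊤ : Submodule R M) := by
  rw [← (TensorProduct.quotTensorEquivQuotSMul M I).map_eq_zero_iff,
    TensorProduct.quotTensorEquivQuotSMul_mk_one_tmul, Submodule.Quotient.mk_eq_zero]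

lemma exists_one_tmul (z : (R ⧸ I) ⊗[R] M) : ∃ x : M, z = (1 : R ⧸ I) ⊗ₜ[R] x := by
  obtain ⟨x, hx⟩ := Submodule.Quotient.mk_surjective _ (TensorProduct.quotTensorEquivQuotSMul M I z)
  refine ⟨x, ?_⟩
  rw [← TensorProduct.quotTensorEquivQuotSMul_symm_mk, hx, LinearEquiv.symm_apply_apply]

end

/-- Let `I` be an ideal of a commutative ring `R` contained in the Jacobson radical and let `φ : P → P'`
be an `R`-linear map between finite projective `R`-modules. If the induced map `P/IP → P'/IP'` is
bijective, then `φ` is bijective. -/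
theorem result {R : Type u} [CommRing R] (I : Ideal R)
    (hI : I ≤ Ideal.jacobson (⊥ : Ideal R)) {P P' : Type u}
    [AddCommGroup P] [Module R P] [Module.Finite R P] [Module.Projective R P]
    [AddCommGroup P'] [Module R P'] [Module.Finite R P'] [Module.Projective R P'] (φ : P →ₗ[R] P')
    (h : Function.Bijective (φ.baseChange (R ⧸ I))) : Function.Bijective φ := by
  -- surjectivity
  have hsurj : Function.Surjective φ := by
    rw [← LinearMap.range_eq_top, eq_top_iff]
    apply Submodule.le_of_le_smul_of_le_jacobson_bot (I := I) Module.Finite.fg_top hI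
    intro p' _
    obtain ⟨z, hz⟩ := h.2 ((1 : R ⧸ I) ⊗ₜ[R] p')
    obtain ⟨p, rfl⟩ := exists_one_tmul I z
    rw [LinearMap.baseChange_tmul] at hz
    have h0 : (1 : R ⧸ I) ⊗ₜ[R] (p' - φ p) = 0 := by
      rw [TensorProduct.tmul_sub, hz, sub_self]
    rw [one_tmul_eq_zero_iff] at h0
    have : p' = φ p + (p' - φ p) := by abel
    rw [this]
    exact Submodule.add_mem_sup (LinearMap.mem_range_self φ p) h0
  refine ⟨?_, hsurj⟩
  -- injectivity
  obtain ⟨s, hs⟩ := Module.projective_lifting_property φ LinearMap.id hsurj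
  set π : P →ₗ[R] P := LinearMap.id - s ∘ₗ φ with hπ
  have hφπ : ∀ x, φ (π x) = 0 := by
    intro x
    have := LinearMap.congr_fun hs (φ x)
    simp only [LinearMap.coe_comp, Function.comp_apply, LinearMap.id_coe, id_eq] at this
    simp [hπ, this]
  have hπker : ∀ x, φ x = 0 → π x = x := by
    intro x hx
    simp [hπ, hx]
  have hK : LinearMap.range π = ⊥ := by
    apply Submodule.eq_bot_of_le_smul_of_le_jacobson_bot I _ _ _ hI
    · rw [LinearMap.range_eq_map]
      exact Module.Finite.fg_top.map π
    · rintro _ ⟨x, rfl⟩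
      have h1 : (1 : R ⧸ I) ⊗ₜ[R] (π x) = 0 := by
        apply h.1
        rw [LinearMap.baseChange_tmul, hφπ, TensorProduct.tmul_zero, map_zero]
      rw [one_tmul_eq_zero_iff] at h1
      have h2 : π (π x) ∈ Submodule.map π (I • ⊤ : Submodule R P) := Submodule.mem_map_of_mem h1
      rw [Submodule.map_smul'', Submodule.map_top, hπker _ (hφπ x)] at h2
      exact h2
  rw [injective_iff_map_eq_zero]
  intro x hx
  have : π x ∈ LinearMap.range π := LinearMap.mem_range_self π x
  rw [hK, Submodule.mem_bot, hπker x hx] at this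
  exact this

end Groth.Agent.S6864
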