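import Groth.Statements.S6863
import Groth.Agent.S6864
import Mathlib.LinearAlgebra.TensorProduct.Basis
import Mathlib.LinearAlgebra.TensorProduct.RightExactness
import Mathlib.LinearAlgebra.FreeModule.Basic
import Mathlib.LinearAlgebra.FreeModule.Finite.Basic
import Mathlib.RingTheory.Finiteness.Prod
import Mathlib.Algebra.Exact.Basic

set_option autoImplicit false
universe u
open TensorProduct
open CAlg

namespace Groth.Agent.S6863


section
variable {R : Type u} [CommRing R] (I : Ideal R)

/-- Nakayama: surjectivity can be checked modulo an ideal in the Jacobson radical. -/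
lemma surjective_of_baseChange_surjective (hI : I ≤ Ideal.jacobson (⊥ : Ideal R)) {P P' : Type u}
    [AddCommGroup P] [Module R P] [AddCommGroup P'] [Module R P'] [Module.Finite R P']
    (φ : P →ₗ[R] P') (h : Function.Surjective (φ.baseChange (R ⧸ I))) : Function.Surjective φ := by
  rw [← LinearMap.range_eq_top, eq_top_iff]
  apply Submodule.le_of_le_smul_of_le_jacobson_bot (I := I) Module.Finite.fg_top hI
  intro p' _
  obtain ⟨z, hz⟩ := h ((1 : R ⧸ I) ⊗ₜ[R] p')
  obtain ⟨p, rfl⟩ := Groth.Agent.S6864.exists_one_tmul I z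
  rw [LinearMap.baseChange_tmul] at hz
  have h0 : (1 : R ⧸ I) ⊗ₜ[R] (p' - φ p) = 0 := by
    rw [TensorProduct.tmul_sub, hz, sub_self]
  rw [Groth.Agent.S6864.one_tmul_eq_zero_iff] at h0
  have : p' = φ p + (p' - φ p) := by abel
  rw [this]
  exact Submodule.add_mem_sup (LinearMap.mem_range_self φ p) h0

/-- a finite free module over the quotient is the base change of a finite free module. -/
lemma exists_free_lift (N : Type u) [AddCommGroup N] [Module (R ⧸ I) N] [Module.Finite (R ⧸ I) N]
    [Module.Free (R ⧸ I) N] :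
    ∃ (ι : Type u) (_ : Fintype ι), Nonempty ((R ⧸ I) ⊗[R] (ι → R) ≃ₗ[R ⧸ I] N) := by
  by_cases hnt : Nontrivial (R ⧸ I)
  · let b := Module.Free.chooseBasis (R ⧸ I) N
    let _ : Fintype (Module.Free.ChooseBasisIndex (R ⧸ I) N) :=
      Module.Free.ChooseBasisIndex.fintype (R ⧸ I) N
    exact ⟨_, inferInstance,
      ⟨((Pi.basisFun R (Module.Free.ChooseBasisIndex (R ⧸ I) N)).baseChange (R ⧸ I)).equiv b
        (Equiv.refl _)⟩⟩
  · rw [not_nontrivial_iff_subsingleton] at hnt
    have : Subsingleton N := Module.subsingleton (R ⧸ I) N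
    have : Subsingleton ((R ⧸ I) ⊗[R] (PEmpty.{u+1} → R)) := Module.subsingleton (R ⧸ I) _
    exact ⟨PEmpty, inferInstance, ⟨LinearEquiv.ofSubsingleton _ _⟩⟩

end

/-- Let `I` be an ideal of a commutative ring `R` contained in the Jacobson radical (equivalently, `1 +
i` is a unit for each `i ∈ I`). Then each finitely generated stably free module `E` over `R/I`
lifts: there is a finite stably free `R`-module `M` with `M/IM ≅ E` (existence of an isomorphism
only; the published statement names no map). -/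
theorem result {R : Type u} [CommRing R] (I : Ideal R)
    (hI : I ≤ Ideal.jacobson (⊥ : Ideal R)) (E : Type u) [AddCommGroup E] [Module (R ⧸ I) E]
    [Module.Finite (R ⧸ I) E] [Module.IsStablyFree (R ⧸ I) E] :
    ∃ (M : Type u) (_ : AddCommGroup M) (_ : Module R M), Module.Finite R M ∧ Module.IsStablyFree R M ∧
      Nonempty ((R ⧸ I) ⊗[R] M ≃ₗ[R ⧸ I] E) := by
  obtain ⟨N, _, _, _, _, hfree⟩ := Module.IsStablyFree.exist_free_prod (R ⧸ I) E
  obtain ⟨ιN, _, ⟨eN⟩⟩ := exists_free_lift I N
  obtain ⟨ιT, _, ⟨eT⟩⟩ := exists_free_lift I (E × N)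
  let qb : (R ⧸ I) ⊗[R] (ιT → R) →ₗ[R ⧸ I] (R ⧸ I) ⊗[R] (ιN → R) :=
    eN.symm.toLinearMap ∘ₗ LinearMap.snd (R ⧸ I) E N ∘ₗ eT.toLinearMap
  have hqb : Function.Surjective qb :=
    eN.symm.surjective.comp ((LinearMap.snd_surjective (R := R ⧸ I) (M := E) (M₂ := N)).comp eT.surjective)
  let mkN : (ιN → R) →ₗ[R] (R ⧸ I) ⊗[R] (ιN → R) := TensorProduct.mk R (R ⧸ I) (ιN → R) 1
  have hmkN : Function.Surjective mkN := fun z => by
    obtain ⟨x, rfl⟩ := Groth.Agent.S6864.exists_one_tmul I z
    exact ⟨x, rfl⟩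
  let g0 : (ιT → R) →ₗ[R] (R ⧸ I) ⊗[R] (ιN → R) :=
    (qb.restrictScalars R) ∘ₗ (TensorProduct.mk R (R ⧸ I) (ιT → R) 1)
  obtain ⟨q, hq⟩ := Module.projective_lifting_property mkN g0 hmkN
  have hqbc : q.baseChange (R ⧸ I) = qb := by
    ext x
    have := LinearMap.congr_fun hq x
    simpa [mkN, g0] using this
  have hqsurj : Function.Surjective q :=
    surjective_of_baseChange_surjective I hI q (by rw [hqbc]; exact hqb)
  obtain ⟨l, hl⟩ := Module.projective_lifting_property q LinearMap.id hqsurj
  have hex : Function.Exact (LinearMap.ker q).subtype q := LinearMap.exact_subtype_ker_map q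
  let e : (ιT → R) ≃ₗ[R] (LinearMap.ker q) × (ιN → R) :=
    (hex.splitSurjectiveEquiv Subtype.val_injective ⟨l, hl⟩).1
  have he := (hex.splitSurjectiveEquiv Subtype.val_injective ⟨l, hl⟩).2
  refine ⟨LinearMap.ker q, inferInstance, inferInstance, ?_, ?_, ?_⟩
  · exact Module.Finite.of_surjective
      (LinearMap.fst R (LinearMap.ker q) (ιN → R) ∘ₗ e.toLinearMap)
      ((LinearMap.fst_surjective (R := R) (M := LinearMap.ker q) (M₂ := ιN → R)).comp e.surjective)
  · have : Module.Free R ((LinearMap.ker q) × (ιN → R)) := Module.Free.of_equiv e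
    exact Module.IsStablyFree.of_free_prod R (LinearMap.ker q) (ιN → R)
  · let ιbc := (LinearMap.ker q).subtype.baseChange (R ⧸ I)
    let r : (ιT → R) →ₗ[R] LinearMap.ker q :=
      LinearMap.fst R (LinearMap.ker q) (ιN → R) ∘ₗ e.toLinearMap
    have hr : r ∘ₗ (LinearMap.ker q).subtype = LinearMap.id := by
      have h1 : (LinearMap.ker q).subtype =
          e.symm.toLinearMap ∘ₗ LinearMap.inl R (LinearMap.ker q) (ιN → R) := he.1
      rw [h1]
      ext x
      simp [r]
    have hιinj : Function.Injective ιbc := by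
      have h1 : (r.baseChange (R ⧸ I)) ∘ₗ ιbc = LinearMap.id := by
        rw [← LinearMap.baseChange_comp, hr, LinearMap.baseChange_id]
      exact Function.LeftInverse.injective (g := r.baseChange (R ⧸ I))
        (fun x => LinearMap.congr_fun h1 x)
    have hrange : LinearMap.range ιbc = LinearMap.ker qb := by
      have h2 := lTensor_exact (R ⧸ I) hex hqsurj
      rw [← hqbc]
      ext z
      rw [LinearMap.mem_ker]
      exact (h2 z).symm
    let φ : E →ₗ[R ⧸ I] (R ⧸ I) ⊗[R] (ιT → R) :=
      eT.symm.toLinearMap ∘ₗ LinearMap.inl (R ⧸ I) E N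
    have hφinj : Function.Injective φ :=
      eT.symm.injective.comp LinearMap.inl_injective
    have hφrange : LinearMap.range φ = LinearMap.ker qb := by
      ext z
      simp only [LinearMap.mem_range, LinearMap.mem_ker, φ, qb, LinearMap.coe_comp,
        LinearEquiv.coe_coe, Function.comp_apply, LinearMap.inl_apply, LinearMap.snd_apply,
        LinearEquiv.map_eq_zero_iff]
      constructor
      · rintro ⟨x, rfl⟩
        simp
      · intro hz
        refine ⟨(eT z).1, ?_⟩
        rw [LinearEquiv.symm_apply_eq]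
        exact Prod.ext rfl hz.symm
    exact ⟨(LinearEquiv.ofInjective ιbc hιinj).trans
      ((LinearEquiv.ofEq _ _ (hrange.trans hφrange.symm)).trans
        (LinearEquiv.ofInjective φ hφinj).symm)⟩

end Groth.Agent.S6863
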