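import Groth.Statements.S6865
import Groth.Agent.S6864

set_option autoImplicit false
universe u
open TensorProduct
open CAlg

namespace Groth.Agent.S6865

/-- Let `I` be an ideal of a commutative ring `R` contained in the Jacobson radical and let `P, P'` be
finite projective `R`-modules. If `P/IP` and `P'/IP'` are isomorphic `R/I`-modules, then `P` and
`P'` are isomorphic. -/
theorem result {R : Type u} [CommRing R] (I : Ideal R)
    (hI : I ≤ Ideal.jacobson (⊥ : Ideal R)) (P P' : Type u)
    [AddCommGroup P] [Module R P] [Module.Finite R P] [Module.Projective R P]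
    [AddCommGroup P'] [Module R P'] [Module.Finite R P'] [Module.Projective R P']
    (e : (R ⧸ I) ⊗[R] P ≃ₗ[R ⧸ I] (R ⧸ I) ⊗[R] P') : Nonempty (P ≃ₗ[R] P') := by
  let q' : P' →ₗ[R] (R ⧸ I) ⊗[R] P' := TensorProduct.mk R (R ⧸ I) P' 1
  have hq' : Function.Surjective q' := fun z => by
    obtain ⟨x, rfl⟩ := Groth.Agent.S6864.exists_one_tmul I z
    exact ⟨x, rfl⟩
  let g : P →ₗ[R] (R ⧸ I) ⊗[R] P' :=
    (e.toLinearMap.restrictScalars R) ∘ₗ (TensorProduct.mk R (R ⧸ I) P 1)
  obtain ⟨ψ, hψ⟩ := Module.projective_lifting_property q' g hq'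
  have hbc : ψ.baseChange (R ⧸ I) = e.toLinearMap := by
    ext p
    have := LinearMap.congr_fun hψ p
    simpa [q', g] using this
  have hbij : Function.Bijective (ψ.baseChange (R ⧸ I)) := by
    rw [hbc]; exact e.bijective
  exact ⟨LinearEquiv.ofBijective ψ (Groth.Agent.S6864.result I hI ψ hbij)⟩

end Groth.Agent.S6865
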