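import Groth.Statements.S6867
import Groth.Agent.Lib.Helper29.TorsionFree

set_option autoImplicit false
universe u
open CAlg

namespace Groth.Agent.S6867

/-- For a domain `R`, a finite `R`-module `M` is torsion free exactly when it admits an injective
`R`-linear map into `Rⁿ` for some `n`. -/
theorem result (R : Type u) [CommRing R] [IsDomain R] (M : Type u)
    [AddCommGroup M] [Module R M] [Module.Finite R M] :
    Module.IsTorsionFree R M ↔ ∃ (n : ℕ) (f : M →ₗ[R] (Fin n → R)), Function.Injective f := by
  constructor
  · intro htf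
    obtain ⟨ι, _, e, c, hli, hc0, hc⟩ :=
      Groth.Agent.Lib.Helper29.exists_linearIndependent_smul_mem_span R M
    let Φ := Groth.Agent.Lib.Helper29.coordMap hli hc
    let σ : (ι → R) ≃ₗ[R] (Fin (Fintype.card ι) → R) :=
      LinearEquiv.funCongrLeft R R (Fintype.equivFin ι).symm
    refine ⟨Fintype.card ι, σ.toLinearMap ∘ₗ Φ, ?_⟩
    rw [LinearMap.coe_comp]
    refine σ.injective.comp ?_
    rw [injective_iff_map_eq_zero]
    intro x hx
    rw [Groth.Agent.Lib.Helper29.coordMap_eq_zero_iff] at hx
    exact (smul_eq_zero.1 hx).resolve_left hc0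
  · rintro ⟨n, f, hf⟩
    exact Function.Injective.moduleIsTorsionFree f hf (fun r m => map_smul f r m)

end Groth.Agent.S6867
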