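import Groth.Statements.S6866
import Groth.Agent.S6867
import Mathlib.LinearAlgebra.TensorProduct.Finiteness
import Mathlib.LinearAlgebra.TensorProduct.Basis
import Mathlib.LinearAlgebra.TensorProduct.Tower

set_option autoImplicit false
universe u
open TensorProduct
open CAlg

namespace Groth.Agent.S6866

/-- If `M` is a torsion free module over a domain `R` and `R → R'` is a flat ring map to another domain,
then `R' ⊗_R M` is torsion free over `R'`. -/
theorem result (R R' : Type u) [CommRing R] [IsDomain R] [CommRing R']
    [IsDomain R'] [Algebra R R'] [Module.Flat R R'] (M : Type u) [AddCommGroup M] [Module R M]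
    [Module.IsTorsionFree R M] : Module.IsTorsionFree R' (R' ⊗[R] M) := by
  refine Module.IsTorsionFree.of_smul_eq_zero fun r' x hx => ?_
  by_cases hr' : r' = 0
  · exact Or.inl hr'
  right
  obtain ⟨M₀, hM₀, hsub⟩ := TensorProduct.exists_finite_submodule_right_of_setFinite
    ({x} : Set (R' ⊗[R] M)) (Set.finite_singleton x)
  obtain ⟨x₀, hx₀⟩ := hsub (Set.mem_singleton x)
  have htf₀ : Module.IsTorsionFree R M₀ :=
    Function.Injective.moduleIsTorsionFree M₀.subtype Subtype.val_injective (fun _ _ => rfl)
  obtain ⟨n, f, hf⟩ := (Groth.Agent.S6867.result R M₀).1 htf₀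
  have hinj1 : Function.Injective (f.baseChange R') :=
    Module.Flat.lTensor_preserves_injective_linearMap f hf
  have htf₁ : Module.IsTorsionFree R' (R' ⊗[R] M₀) :=
    Function.Injective.moduleIsTorsionFree (f.baseChange R') hinj1
      (fun r m => map_smul (f.baseChange R') r m)
  have hinj2 : Function.Injective (M₀.subtype.baseChange R') :=
    Module.Flat.lTensor_preserves_injective_linearMap M₀.subtype Subtype.val_injective
  have hx₀' : (M₀.subtype.baseChange R') x₀ = x := hx₀
  have h0 : r' • x₀ = 0 := by
    apply hinj2
    rw [map_smul, hx₀', hx, map_zero]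
  have : x₀ = 0 := (smul_eq_zero.1 h0).resolve_left hr'
  rw [← hx₀', this, map_zero]

end Groth.Agent.S6866
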