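import Groth.Statements.S6868
import Mathlib
import Groth.Agent.Lib.Helper18.CM7

set_option autoImplicit false
universe u
open CAlg

namespace S6868aux
open Groth.Agent.Lib.Helper18.CM

variable (R : Type u) [CommRing R]
    [IsDomain R] [IsNoetherianRing R] (M : Type u) [AddCommGroup M] [Module R M] [Module.Finite R M] [Nontrivial M]

theorem zeroDiv_eq_of_torsionFree [Module.IsTorsionFree R M] :
    { r : R | ∃ x : M, x ≠ 0 ∧ r • x = 0 } = {0} := by
  ext r
  simp only [Set.mem_setOf_eq, Set.mem_singleton_iff]
  constructor
  · rintro ⟨x, hx, hrx⟩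
    by_contra hr
    exact hx ((smul_eq_zero_iff_right hr).mp hrx)
  · rintro rfl
    obtain ⟨x, hx⟩ := exists_ne (0 : M)
    exact ⟨x, hx, zero_smul _ _⟩

theorem torsionFree_iff_ass : Module.IsTorsionFree R M ↔ associatedPrimes R M = {⊥} := by
  constructor
  · intro h
    have hz := zeroDiv_eq_of_torsionFree R M
    rw [← biUnion_associatedPrimes_eq_zero_divisors] at hz
    apply Set.eq_singleton_iff_nonempty_unique_mem.mpr
    refine ⟨associatedPrimes.nonempty R M, fun p hp => ?_⟩
    rw [eq_bot_iff]
    intro r hr
    have : r ∈ ⋃ p ∈ associatedPrimes R M, (p : Set R) := Set.mem_biUnion hp hr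
    rw [hz] at this
    exact this
  · intro h
    have hz := biUnion_associatedPrimes_eq_zero_divisors R M
    rw [h] at hz
    simp only [Set.mem_singleton_iff, Set.iUnion_iUnion_eq_left] at hz
    refine ⟨fun r hr x y hxy => ?_⟩
    have hr0 : r ≠ 0 := hr.ne_zero
    by_contra hne
    have hmem : r ∈ { r : R | ∃ x : M, x ≠ 0 ∧ r • x = 0 } :=
      ⟨x - y, sub_ne_zero.mpr hne, by
        have : r • x = r • y := hxy
        rw [smul_sub, this, sub_self]⟩
    rw [← hz] at hmem
    exact hr0 hmem

theorem main :
    (Module.IsTorsionFree R M ↔ associatedPrimes R M = {⊥}) ∧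
    (Module.IsTorsionFree R M ↔
      (⟨⊥, Ideal.isPrime_bot⟩ : PrimeSpectrum R) ∈ Module.support R M ∧ LocCoh.HasSk 1 R M) := by
  refine ⟨torsionFree_iff_ass R M, ?_⟩
  constructor
  · intro h
    have hass := (torsionFree_iff_ass R M).mp h
    have hsupp : Module.support R M = Set.univ := Module.support_of_noZeroSMulDivisors
    refine ⟨hsupp ▸ Set.mem_univ _, ?_⟩
    rw [← noEmbeddedPrimes_iff_S1]
    intro p hp
    rw [hass] at hp
    have hp' : p = ⊥ := hp
    subst hp'
    have hann : Module.annihilator R M = ⊥ := by
      rw [eq_bot_iff]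
      exact Module.annihilator_le_of_mem_support (p := ⟨⊥, Ideal.isPrime_bot⟩)
        (hsupp ▸ Set.mem_univ _)
    rw [hann]
    have : (⊥ : Ideal R).minimalPrimes = {⊥} := Ideal.minimalPrimes_eq_subsingleton_self
    rw [this]
    rfl
  · rintro ⟨hsupp, hS1⟩
    rw [torsionFree_iff_ass]
    have hann : Module.annihilator R M = ⊥ := by
      rw [eq_bot_iff]
      exact Module.annihilator_le_of_mem_support hsupp
    rw [← noEmbeddedPrimes_iff_S1, hann] at hS1
    have hmin : (⊥ : Ideal R).minimalPrimes = {⊥} := Ideal.minimalPrimes_eq_subsingleton_self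
    rw [hmin] at hS1
    apply Set.eq_singleton_iff_nonempty_unique_mem.mpr
    exact ⟨associatedPrimes.nonempty R M, fun p hp => hS1 p hp⟩

end S6868aux

namespace Groth.Agent.S6868

/-- (1) ⇔ (3) ⇔ (4): for a Noetherian domain `R` and a nonzero finite `R`-module `M`, torsion-freeness
of `M` is equivalent to `(0)` being the unique associated prime of `M`, and also to the conjunction:
`(0)` belongs to the support of `M` and `M` satisfies Serre's condition `(S_1)`. (The published
statement also lists embedding into a finite free module and the absence of embedded associated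
primes; this row states the other three conditions.) -/
theorem result (R : Type u) [CommRing R]
    [IsDomain R] [IsNoetherianRing R] (M : Type u) [AddCommGroup M] [Module R M] [Module.Finite R M] [Nontrivial M] :
    (Module.IsTorsionFree R M ↔ associatedPrimes R M = {⊥}) ∧
    (Module.IsTorsionFree R M ↔
      (⟨⊥, Ideal.isPrime_bot⟩ : PrimeSpectrum R) ∈ Module.support R M ∧ LocCoh.HasSk 1 R M) := by
  exact S6868aux.main R M

end Groth.Agent.S6868
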