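import Groth.Statements.S6869
import Groth.Agent.Lib.Helper29.TorsionFree

set_option autoImplicit false
universe u
open CAlg

namespace Groth.Agent.S6869

/-- For a domain `R` and a finite `R`-module `M`, the evaluation map `M → M**` into the double dual is
injective exactly when `M` is torsion free. -/
theorem result (R : Type u) [CommRing R] [IsDomain R] (M : Type u)
    [AddCommGroup M] [Module R M] [Module.Finite R M] :
    Function.Injective (Module.Dual.eval R M) ↔ Module.IsTorsionFree R M := by
  constructor
  · intro hinj
    exact Function.Injective.moduleIsTorsionFree (Module.Dual.eval R M) hinj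
      (fun r m => map_smul (Module.Dual.eval R M) r m)
  · intro htf
    obtain ⟨ι, _, e, c, hli, hc0, hc⟩ :=
      Groth.Agent.Lib.Helper29.exists_linearIndependent_smul_mem_span R M
    rw [injective_iff_map_eq_zero]
    intro x hx
    have h0 : Groth.Agent.Lib.Helper29.coordMap hli hc x = 0 := by
      funext i
      have := LinearMap.congr_fun hx
        ((LinearMap.proj i : (ι → R) →ₗ[R] R) ∘ₗ Groth.Agent.Lib.Helper29.coordMap hli hc)
      simpa using this
    rw [Groth.Agent.Lib.Helper29.coordMap_eq_zero_iff] at h0
    exact (smul_eq_zero.1 h0).resolve_left hc0

end Groth.Agent.S6869
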