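import Groth.Statements.S6870
import Groth.Agent.Lib.Helper29.TorsionFree

set_option autoImplicit false
universe u
open CAlg

namespace Groth.Agent.S6870

/-- Let `R` be a domain, `M` a finite `R`-module and `j : M → M**` the evaluation map into the double
dual. Then one nonzero `c ∈ R` kills the kernel of `j` and multiplies `M**` into the image of `j`.
(The published statement says only that the kernel and cokernel of `j` are torsion; this row gives
one such `c` for both.) -/
theorem result (R : Type u) [CommRing R] [IsDomain R] (M : Type u)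
    [AddCommGroup M] [Module R M] [Module.Finite R M] :
    ∃ c : R, c ≠ 0 ∧ (∀ x : M, Module.Dual.eval R M x = 0 → c • x = 0) ∧
      ∀ y : Module.Dual R (Module.Dual R M), c • y ∈ LinearMap.range (Module.Dual.eval R M) := by
  obtain ⟨ι, _, e, c, hli, hc0, hc⟩ :=
    Groth.Agent.Lib.Helper29.exists_linearIndependent_smul_mem_span R M
  set Φ := Groth.Agent.Lib.Helper29.coordMap hli hc with hΦ
  let Φi : ι → Module.Dual R M := fun i => (LinearMap.proj i : (ι → R) →ₗ[R] R) ∘ₗ Φ
  refine ⟨c, hc0, fun x hx => ?_, fun y => ?_⟩
  · have h0 : Φ x = 0 := by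
      funext i
      have := LinearMap.congr_fun hx (Φi i)
      simpa [Φi] using this
    exact (Groth.Agent.Lib.Helper29.coordMap_eq_zero_iff hli hc x).1 h0
  · refine ⟨∑ i, y (Φi i) • e i, ?_⟩
    ext l
    have hl : c • l = ∑ i, l (e i) • Φi i := by
      ext z
      have := congrArg l (Groth.Agent.Lib.Helper29.sum_coordMap_smul hli hc z)
      rw [map_sum, map_smul, smul_eq_mul] at this
      simp only [LinearMap.smul_apply, LinearMap.coe_sum, Finset.sum_apply, smul_eq_mul]
      rw [← this]
      refine Finset.sum_congr rfl fun i _ => ?_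
      simp [Φi, hΦ, mul_comm]
    rw [Module.Dual.eval_apply, map_sum, LinearMap.smul_apply, ← map_smul, hl, map_sum]
    refine Finset.sum_congr rfl fun i _ => ?_
    simp [mul_comm]

end Groth.Agent.S6870
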