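import Groth.Statements.S6872
import Groth.Agent.S6869
import Groth.Agent.Lib.Helper29.ExtendDual

set_option autoImplicit false
universe u
open CAlg

namespace Groth.Agent.S6872

/-- Let `R` be a Noetherian domain and `f : M → M'`, `g : M' → M''` linear maps between finite
`R`-modules with `f` injective and image of `f` equal to kernel of `g` (so `0 → M → M' → M''` is
exact). Then reflexivity of `M'` together with torsion-freeness of `M''` forces `M` to be reflexive. -/
theorem result (R : Type u) [CommRing R] [IsDomain R]
    [IsNoetherianRing R] {M M' M'' : Type u} [AddCommGroup M] [Module R M] [Module.Finite R M]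
    [AddCommGroup M'] [Module R M'] [Module.Finite R M'] [AddCommGroup M''] [Module R M''] [Module.Finite R M'']
    (f : M →ₗ[R] M') (g : M' →ₗ[R] M'') (hf : Function.Injective f) (hfg : Function.Exact f g)
    [Module.IsReflexive R M'] [Module.IsTorsionFree R M''] : Module.IsReflexive R M := by
  have htfM : Module.IsTorsionFree R M :=
    Function.Injective.moduleIsTorsionFree f hf (fun r m => map_smul f r m)
  have hinjM : Function.Injective (Module.Dual.eval R M) := (Groth.Agent.S6869.result R M).2 htfM
  have hinjM'' : Function.Injective (Module.Dual.eval R M'') :=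
    (Groth.Agent.S6869.result R M'').2 inferInstance
  refine ⟨⟨hinjM, fun ξ => ?_⟩⟩
  obtain ⟨m', hm'⟩ := (Module.bijective_dual_eval R M').2 (f.dualMap.dualMap ξ)
  have hgm' : g m' = 0 := by
    apply hinjM''
    rw [map_zero]
    ext ν
    have h1 := LinearMap.congr_fun hm' (ν ∘ₗ g)
    rw [Module.Dual.eval_apply] at h1
    rw [Module.Dual.eval_apply, LinearMap.zero_apply]
    rw [LinearMap.comp_apply] at h1
    rw [h1, LinearMap.dualMap_apply, LinearMap.dualMap_apply']
    have h2 : (ν ∘ₗ g) ∘ₗ f = 0 := by
      ext x
      simp [hfg.apply_apply_eq_zero x]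
    rw [h2, map_zero]
  obtain ⟨m, rfl⟩ := (hfg m').1 hgm'
  refine ⟨m, ?_⟩
  ext l
  obtain ⟨c, μ, hc, hμ⟩ := Groth.Agent.Lib.Helper29.exists_extend_smul R f hf l
  have h1 := LinearMap.congr_fun hm' μ
  rw [Module.Dual.eval_apply, LinearMap.dualMap_apply, LinearMap.dualMap_apply', hμ, map_smul] at h1
  have h2 : μ (f m) = c • l m := by
    have := LinearMap.congr_fun hμ m
    simpa using this
  rw [h2] at h1
  rw [Module.Dual.eval_apply]
  exact smul_right_injective R hc h1

end Groth.Agent.S6872
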