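import Groth.Statements.S6873
import Groth.Agent.S6872
import Mathlib.LinearAlgebra.StdBasis
import Mathlib.LinearAlgebra.Isomorphisms

set_option autoImplicit false
universe u
open CAlg

namespace Groth.Agent.S6873


/-- a quotient by a saturated submodule is torsion free. -/
lemma isTorsionFree_quotient_of_saturated {R : Type u} [CommRing R] [IsDomain R] {L : Type u}
    [AddCommGroup L] [Module R L] (N : Submodule R L)
    (h : ∀ (c : R) (y : L), c ≠ 0 → c • y ∈ N → y ∈ N) : Module.IsTorsionFree R (L ⧸ N) := by
  refine Module.IsTorsionFree.of_smul_eq_zero fun r q hq => ?_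
  obtain ⟨y, rfl⟩ := Submodule.Quotient.mk_surjective N q
  by_cases hr : r = 0
  · exact Or.inl hr
  · right
    rw [← Submodule.Quotient.mk_smul, Submodule.Quotient.mk_eq_zero] at hq
    rw [Submodule.Quotient.mk_eq_zero]
    exact h r y hr hq

/-- For a Noetherian domain `R`, a finite `R`-module `M` is reflexive if and only if `M` admits an
injective `R`-linear map into `Rⁿ`, for some `n`, whose cokernel is torsion free. -/
theorem result (R : Type u) [CommRing R] [IsDomain R]
    [IsNoetherianRing R] (M : Type u) [AddCommGroup M] [Module R M] [Module.Finite R M] :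
    Module.IsReflexive R M ↔ ∃ (n : ℕ) (f : M →ₗ[R] (Fin n → R)), Function.Injective f ∧
      Module.IsTorsionFree R ((Fin n → R) ⧸ LinearMap.range f) := by
  constructor
  · intro hM
    have : IsNoetherian R (Module.Dual R M) := isNoetherian_linearMap R R M
    obtain ⟨n, p, hp⟩ := Module.Finite.exists_fin' R (Module.Dual R M)
    let σ : Module.Dual R (Fin n → R) ≃ₗ[R] (Fin n → R) := (Module.piEquiv (Fin n) R R).symm
    let f₀ : M →ₗ[R] Module.Dual R (Fin n → R) := p.dualMap ∘ₗ Module.Dual.eval R M
    have hf₀ : Function.Injective f₀ :=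
      (LinearMap.dualMap_injective_of_surjective hp).comp (Module.bijective_dual_eval R M).1
    have hsat₀ : ∀ (c : R) (ψ : Module.Dual R (Fin n → R)), c ≠ 0 → c • ψ ∈ LinearMap.range f₀ →
        ψ ∈ LinearMap.range f₀ := by
      rintro c ψ hc ⟨m, hm⟩
      have hker : LinearMap.ker p ≤ LinearMap.ker ψ := by
        intro k hk
        have h1 := LinearMap.congr_fun hm k
        simp only [f₀, LinearMap.coe_comp, Function.comp_apply, LinearMap.dualMap_apply,
          LinearMap.smul_apply, smul_eq_mul] at h1
        rw [LinearMap.mem_ker.1 hk, map_zero] at h1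
        rw [LinearMap.mem_ker]
        exact (mul_eq_zero.1 h1.symm).resolve_left hc
      let ξ' : Module.Dual R (Module.Dual R M) :=
        (Submodule.liftQ (LinearMap.ker p) ψ hker) ∘ₗ (p.quotKerEquivOfSurjective hp).symm.toLinearMap
      have hξ' : ∀ y, ξ' (p y) = ψ y := by
        intro y
        have : (p.quotKerEquivOfSurjective hp).symm (p y) = Submodule.Quotient.mk y := by
          rw [LinearEquiv.symm_apply_eq]; rfl
        simp [ξ', this]
      obtain ⟨m', hm'⟩ := (Module.bijective_dual_eval R M).2 ξ'
      refine ⟨m', ?_⟩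
      ext y
      simp only [f₀, LinearMap.coe_comp, Function.comp_apply, LinearMap.dualMap_apply, hm', hξ']
    refine ⟨n, σ.toLinearMap ∘ₗ f₀, ?_, ?_⟩
    · rw [LinearMap.coe_comp]; exact σ.injective.comp hf₀
    · apply isTorsionFree_quotient_of_saturated
      rintro c y hc ⟨m, hm⟩
      have h1 : c • σ.symm y ∈ LinearMap.range f₀ := by
        refine ⟨m, ?_⟩
        rw [← map_smul, ← hm]
        simp
      obtain ⟨m', hm'⟩ := hsat₀ c (σ.symm y) hc h1
      exact ⟨m', by simp [hm']⟩
  · rintro ⟨n, f, hf, htf⟩
    exact Groth.Agent.S6872.result R f (LinearMap.range f).mkQ hf (LinearMap.exact_map_mkQ_range f)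

end Groth.Agent.S6873
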