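import Groth.Statements.S6871
import Groth.Agent.S6874
import Mathlib.Algebra.Module.FinitePresentation
import Mathlib.RingTheory.Localization.Module
import Mathlib.RingTheory.Localization.AtPrime.Basic
import Mathlib.RingTheory.Flat.Localization
import Mathlib.RingTheory.Localization.BaseChange
import Mathlib.RingTheory.Localization.Ideal
import Mathlib.RingTheory.Localization.Submodule

set_option autoImplicit false
universe u
open CAlg

namespace Groth.Agent.S6871


section
variable (R : Type u) [CommRing R] [IsDomain R] [IsNoetherianRing R] (M : Type u)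
  [AddCommGroup M] [Module R M] [Module.Finite R M]

/-- localizing a reflexive module gives a reflexive module. -/
lemma isReflexive_localized (p : Ideal R) [p.IsPrime] [Module.IsReflexive R M] :
    Module.IsReflexive (Localization.AtPrime p) (LocalizedModule p.primeCompl M) := by
  have h1 : Module.IsReflexive (Localization.AtPrime p) (TensorProduct R (Localization.AtPrime p) M) :=
    Groth.Agent.S6874.result R (Localization.AtPrime p) M
  exact Module.equiv
    (IsLocalizedModule.isBaseChange p.primeCompl (Localization.AtPrime p)
      (LocalizedModule.mkLinearMap p.primeCompl M)).equiv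

/-- the local-to-global step. -/
lemma exists_smul_eq_eval (m : Ideal R) [m.IsMaximal]
    (hm : Module.IsReflexive (Localization.AtPrime m) (LocalizedModule m.primeCompl M))
    (ξ : Module.Dual R (Module.Dual R M)) :
    ∃ (s : R) (x : M), s ∉ m ∧ s • ξ = Module.Dual.eval R M x := by
  let S := m.primeCompl
  let A := Localization.AtPrime m
  let f := LocalizedModule.mkLinearMap S M
  let g : R →ₗ[R] A := Algebra.linearMap R A
  let D : (M →ₗ[R] R) →ₗ[R] (LocalizedModule S M →ₗ[A] A) :=
    IsLocalizedModule.mapExtendScalars S f g A
  have hfp : Module.FinitePresentation R M := Module.finitePresentation_of_finite R M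
  have hg : IsLocalizedModule S g := inferInstance
  have hD : IsLocalizedModule S D :=
    Module.FinitePresentation.isLocalizedModule_mapExtendScalars S f g A
  let ξ' : (LocalizedModule S M →ₗ[A] A) →ₗ[R] A :=
    IsLocalizedModule.lift S D (g ∘ₗ ξ) (IsLocalizedModule.map_units g)
  let ξm : Module.Dual A (Module.Dual A (LocalizedModule S M)) :=
    ξ'.extendScalarsOfIsLocalization S A
  obtain ⟨y, hy⟩ := (Module.bijective_dual_eval A (LocalizedModule S M)).2 ξm
  induction y using LocalizedModule.induction_on with
  | h x s =>
    refine ⟨s, x, s.2, ?_⟩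
    ext l
    have h1 := LinearMap.congr_fun hy (D l)
    have h2 : ξm (D l) = algebraMap R A (ξ l) := by
      show ξ' (D l) = _
      simp only [ξ', IsLocalizedModule.lift_apply, LinearMap.coe_comp, Function.comp_apply, g,
        Algebra.linearMap_apply]
    rw [h2, Module.Dual.eval_apply] at h1
    have h3 : (D l) (LocalizedModule.mk x 1) = algebraMap R A (l x) := by
      have : LocalizedModule.mk x (1 : S) = f x := rfl
      rw [this]
      simp only [D, IsLocalizedModule.mapExtendScalars_apply_apply, IsLocalizedModule.map_apply,
        g, Algebra.linearMap_apply]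
    have h4 : ((s : R) • LocalizedModule.mk x s : LocalizedModule S M) = LocalizedModule.mk x 1 := by
      rw [LocalizedModule.smul'_mk]
      exact LocalizedModule.mk_cancel s x
    have h5 : algebraMap R A ((s : R) * ξ l) = algebraMap R A (l x) := by
      rw [map_mul, ← h1, ← h3, ← h4, LinearMap.map_smul_of_tower, Algebra.smul_def]
    have hinj : Function.Injective (algebraMap R A) :=
      IsLocalization.injective A (Ideal.primeCompl_le_nonZeroDivisors m)
    simpa using hinj h5

lemma isReflexive_of_localized_maximal
    (h : ∀ (m : Ideal R) (_ : m.IsMaximal),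
      Module.IsReflexive (Localization.AtPrime m) (LocalizedModule m.primeCompl M)) :
    Module.IsReflexive R M := by
  have htf : Module.IsTorsionFree R M := by
    refine Module.IsTorsionFree.of_smul_eq_zero fun r x hrx => ?_
    by_cases hr : r = 0
    · exact Or.inl hr
    right
    by_contra hx
    let I : Ideal R := LinearMap.ker (LinearMap.toSpanSingleton R M x)
    have hI : I ≠ ⊤ := by
      intro hI
      have h1 : (1 : R) ∈ I := hI ▸ Submodule.mem_top
      simp only [I, LinearMap.mem_ker, LinearMap.toSpanSingleton_apply, one_smul] at h1
      exact hx h1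
    obtain ⟨m, hm, hIm⟩ := Ideal.exists_le_maximal I hI
    have := h m hm
    have hinj : Function.Injective (algebraMap R (Localization.AtPrime m)) :=
      IsLocalization.injective _ (Ideal.primeCompl_le_nonZeroDivisors m)
    have h0 : (algebraMap R (Localization.AtPrime m) r) •
        (LocalizedModule.mk x 1 : LocalizedModule m.primeCompl M) = 0 := by
      rw [algebraMap_smul, LocalizedModule.smul'_mk, hrx, LocalizedModule.zero_mk]
    have hr' : algebraMap R (Localization.AtPrime m) r ≠ 0 := by
      rw [Ne, ← map_zero (algebraMap R (Localization.AtPrime m))]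
      exact fun h => hr (hinj h)
    have h1 : (LocalizedModule.mk x 1 : LocalizedModule m.primeCompl M) = 0 :=
      (smul_eq_zero.1 h0).resolve_left hr'
    rw [← LocalizedModule.zero_mk (1 : m.primeCompl), LocalizedModule.mk_eq] at h1
    obtain ⟨t, ht⟩ := h1
    apply t.2
    apply hIm
    simp only [one_smul, smul_zero] at ht
    simp only [I, LinearMap.mem_ker, LinearMap.toSpanSingleton_apply]
    exact ht
  refine ⟨⟨(Groth.Agent.S6869.result R M).2 htf, fun ξ => ?_⟩⟩
  by_contra hξ
  have hI : (LinearMap.range (Module.Dual.eval R M)).colon {ξ} ≠ ⊤ := by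
    intro hI
    have h1 : (1 : R) ∈ (LinearMap.range (Module.Dual.eval R M)).colon {ξ} := hI ▸ Submodule.mem_top
    rw [Submodule.mem_colon_singleton, one_smul] at h1
    exact hξ h1
  obtain ⟨m, hm, hIm⟩ := Ideal.exists_le_maximal _ hI
  obtain ⟨s, x, hs, hsx⟩ := exists_smul_eq_eval R M m (h m hm) ξ
  exact hs (hIm (Submodule.mem_colon_singleton.2 ⟨x, hsx.symm⟩))

end

/-- Let `R` be a Noetherian domain and `M` a finite `R`-module. Then `M` is reflexive if and only if
`M_𝔭` is a reflexive `R_𝔭`-module for every prime `𝔭`, if and only if `M_𝔪` is a reflexive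
`R_𝔪`-module for every maximal ideal `𝔪`. -/
theorem result (R : Type u) [CommRing R] [IsDomain R] [IsNoetherianRing R] (M : Type u)
    [AddCommGroup M] [Module R M] [Module.Finite R M] :
    (Module.IsReflexive R M ↔
      ∀ (p : Ideal R) [p.IsPrime], Module.IsReflexive (Localization.AtPrime p) (LocalizedModule p.primeCompl M)) ∧
    (Module.IsReflexive R M ↔
      ∀ (m : Ideal R) (_ : m.IsMaximal),
        Module.IsReflexive (Localization.AtPrime m) (LocalizedModule m.primeCompl M)) := by
  refine ⟨⟨fun h p _ => isReflexive_localized R M p, fun h => ?_⟩,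
    ⟨fun h m hm => isReflexive_localized R M m, fun h => ?_⟩⟩
  · exact isReflexive_of_localized_maximal R M fun m hm => h m
  · exact isReflexive_of_localized_maximal R M h

end Groth.Agent.S6871
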