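import Groth.Statements.S6875
import Groth.Agent.S6872
import Mathlib.LinearAlgebra.StdBasis
import Mathlib.LinearAlgebra.Isomorphisms

set_option autoImplicit false
universe u
open CAlg

namespace Groth.Agent.S6875


lemma isReflexive_pi_fin (R : Type u) [CommRing R] (N : Type u) [AddCommGroup N] [Module R N]
    [Module.IsReflexive R N] (k : ℕ) : Module.IsReflexive R (Fin k → N) := by
  induction k with
  | zero => infer_instance
  | succ k ih =>
    exact Module.equiv (Fin.consLinearEquiv R (fun _ : Fin (k + 1) => N))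

/-- Let `R` be a Noetherian domain, `M` a finite `R`-module and `N` a finite reflexive `R`-module. Then
`Hom_R(M, N)` is reflexive. -/
theorem result (R : Type u) [CommRing R] [IsDomain R] [IsNoetherianRing R]
    (M N : Type u) [AddCommGroup M] [Module R M] [Module.Finite R M] [AddCommGroup N] [Module R N] [Module.Finite R N]
    [Module.IsReflexive R N] : Module.IsReflexive R (M →ₗ[R] N) := by
  obtain ⟨k, π, hπ⟩ := Module.Finite.exists_fin' R M
  obtain ⟨m, ρ, hρ⟩ := Module.Finite.exists_fin' R (LinearMap.ker π)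
  let τ : (Fin m → R) →ₗ[R] (Fin k → R) := (LinearMap.ker π).subtype ∘ₗ ρ
  have hτπ : ∀ x, π (τ x) = 0 := fun x => (ρ x).2
  have hτ : ∀ y, π y = 0 → ∃ x, τ x = y := by
    intro y hy
    obtain ⟨x, hx⟩ := hρ ⟨y, hy⟩
    exact ⟨x, by simp [τ, hx]⟩
  let f : (M →ₗ[R] N) →ₗ[R] ((Fin k → R) →ₗ[R] N) := LinearMap.lcomp R N π
  let g : ((Fin k → R) →ₗ[R] N) →ₗ[R] ((Fin m → R) →ₗ[R] N) := LinearMap.lcomp R N τ
  have hf : Function.Injective f := by
    intro φ ψ h
    ext x
    obtain ⟨y, rfl⟩ := hπ x
    exact LinearMap.congr_fun h y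
  have hfg : Function.Exact f g := by
    intro φ
    constructor
    · intro h
      have hker : LinearMap.ker π ≤ LinearMap.ker φ := by
        intro y hy
        obtain ⟨x, rfl⟩ := hτ y hy
        exact LinearMap.congr_fun h x
      refine ⟨(Submodule.liftQ (LinearMap.ker π) φ hker) ∘ₗ
        (π.quotKerEquivOfSurjective hπ).symm.toLinearMap, ?_⟩
      ext y
      simp [f]
    · rintro ⟨ψ, rfl⟩
      ext x
      simp [f, g, hτπ]
  have hrefl : Module.IsReflexive R ((Fin k → R) →ₗ[R] N) :=
    have := isReflexive_pi_fin R N k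
    Module.equiv (Module.piEquiv (Fin k) R N)
  exact Groth.Agent.S6872.result R f g hf hfg

end Groth.Agent.S6875
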