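import Groth.Statements.S6879
import Mathlib
import Groth.Agent.S6871
import Groth.Agent.Lib.Helper18.CM7
import Groth.Agent.S6868

set_option autoImplicit false
universe u
open CAlg

namespace S6879aux
open Groth.Agent.Lib.Helper18.CM Groth.Agent.Lib.Helper16.Depth RingTheory.Sequence

variable (R : Type u) [CommRing R] [IsDomain R] [IsNoetherianRing R] (M : Type u)
  [AddCommGroup M] [Module R M] [Module.Finite R M]

/-- the local-to-global step (prime version of helper29's lemma). -/
lemma exists_smul_eq_eval (m : Ideal R) [m.IsPrime]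
    (hm : Module.IsReflexive (Localization.AtPrime m) (LocalizedModule m.primeCompl M))
    (ξ : Module.Dual R (Module.Dual R M)) :
    ∃ (s : R) (x : M), s ∉ m ∧ s • ξ = Module.Dual.eval R M x := by
  let S := m.primeCompl
  let A := Localization.AtPrime m
  let f := LocalizedModule.mkLinearMap S M
  let g : R →ₗ[R] A := Algebra.linearMap R A
  let D : (M →ₗ[R] R) →ₗ[R] (LocalizedModule S M →ₗ[A] A) :=
    IsLocalizedModule.mapExtendScalars S f g A
  have hfp : Module.FinitePresentation R M := Module.finitePresentation_of_finite R M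
  have hg : IsLocalizedModule S g := inferInstance
  have hD : IsLocalizedModule S D :=
    Module.FinitePresentation.isLocalizedModule_mapExtendScalars S f g A
  let ξ' : (LocalizedModule S M →ₗ[A] A) →ₗ[R] A :=
    IsLocalizedModule.lift S D (g ∘ₗ ξ) (IsLocalizedModule.map_units g)
  let ξm : Module.Dual A (Module.Dual A (LocalizedModule S M)) :=
    ξ'.extendScalarsOfIsLocalization S A
  obtain ⟨y, hy⟩ := (Module.bijective_dual_eval A (LocalizedModule S M)).2 ξm
  induction y using LocalizedModule.induction_on with
  | h x s =>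
    refine ⟨s, x, s.2, ?_⟩
    ext l
    have h1 := LinearMap.congr_fun hy (D l)
    have h2 : ξm (D l) = algebraMap R A (ξ l) := by
      show ξ' (D l) = _
      simp only [ξ', IsLocalizedModule.lift_apply, LinearMap.coe_comp, Function.comp_apply, g,
        Algebra.linearMap_apply]
    rw [h2, Module.Dual.eval_apply] at h1
    have h3 : (D l) (LocalizedModule.mk x 1) = algebraMap R A (l x) := by
      have : LocalizedModule.mk x (1 : S) = f x := rfl
      rw [this]
      simp only [D, IsLocalizedModule.mapExtendScalars_apply_apply, IsLocalizedModule.map_apply,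
        g, Algebra.linearMap_apply]
    have h4 : ((s : R) • LocalizedModule.mk x s : LocalizedModule S M) = LocalizedModule.mk x 1 := by
      rw [LocalizedModule.smul'_mk]
      exact LocalizedModule.mk_cancel s x
    have h5 : algebraMap R A ((s : R) * ξ l) = algebraMap R A (l x) := by
      rw [map_mul, ← h1, ← h3, ← h4, LinearMap.map_smul_of_tower, Algebra.smul_def]
    have hinj : Function.Injective (algebraMap R A) :=
      IsLocalization.injective A (Ideal.primeCompl_le_nonZeroDivisors m)
    simpa using hinj h5

end S6879aux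

namespace S6879aux
open Groth.Agent.Lib.Helper18.CM Groth.Agent.Lib.Helper16.Depth RingTheory.Sequence
open scoped Pointwise

/-- If `a` is regular on `P` and `b` is regular on `P/aP`, then `b • x = a • y` forces `x ∈ aP`. -/
theorem exists_eq_smul_of_regular {A P : Type*} [CommRing A] [AddCommGroup P] [Module A P]
    {a b : A} (hb : IsSMulRegular (QuotSMulTop a P) b) {x y : P} (h : b • x = a • y) :
    ∃ z : P, x = a • z := by
  have h0 : b • (Submodule.Quotient.mk x : QuotSMulTop a P) = b • 0 := by
    rw [smul_zero, ← Submodule.Quotient.mk_smul, Submodule.Quotient.mk_eq_zero, h]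
    exact Submodule.smul_mem_pointwise_smul _ _ _ Submodule.mem_top
  have h1 := hb h0
  rw [Submodule.Quotient.mk_eq_zero, Submodule.mem_smul_pointwise_iff_exists] at h1
  obtain ⟨z, -, hz⟩ := h1
  exact ⟨z, hz.symm⟩

end S6879aux

namespace S6879aux
open Groth.Agent.Lib.Helper18.CM Groth.Agent.Lib.Helper16.Depth RingTheory.Sequence
open scoped Pointwise

variable (R : Type u) [CommRing R] [IsDomain R] [IsNoetherianRing R] (M : Type u)
  [AddCommGroup M] [Module R M] [Module.Finite R M]

theorem core (p : Ideal R) [hp : p.IsPrime] (hinj : Function.Injective (Module.Dual.eval R M))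
    (ξ : Module.Dual R (Module.Dual R M))
    (hξ : ∀ r ∈ p, r • ξ ∈ LinearMap.range (Module.Dual.eval R M))
    [Nontrivial (LocalizedModule p.primeCompl M)]
    (hd : 2 ≤ LocCoh.depth (Localization.AtPrime p) (LocalizedModule p.primeCompl M)) :
    ∃ w : R, w ∉ p ∧ w • ξ ∈ LinearMap.range (Module.Dual.eval R M) := by
  set S := p.primeCompl with hS
  set A := Localization.AtPrime p with hA
  set Mp := LocalizedModule S M with hMp
  have h2 := (le_idealDepth_iff (IsLocalRing.maximalIdeal A) Mp 2).mp (by exact_mod_cast hd)
  rcases h2 with h2 | h2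
  · exact absurd h2 (maximalIdeal_smul_top_ne_top (R := A) Mp)
  obtain ⟨rs, hlen, hreg, hmem⟩ := h2
  match rs, hlen with
  | [a, b], _ =>
    obtain ⟨ha, hreg'⟩ := (isWeaklyRegular_cons_iff Mp a [b]).mp hreg
    have hb := ((isWeaklyRegular_cons_iff (QuotSMulTop a Mp) b []).mp hreg').1
    have haM : a ∈ IsLocalRing.maximalIdeal A := hmem a (by simp)
    have hbM : b ∈ IsLocalRing.maximalIdeal A := hmem b (by simp)
    obtain ⟨a₀, s, rfl⟩ := IsLocalization.exists_mk'_eq S a
    obtain ⟨b₀, t, rfl⟩ := IsLocalization.exists_mk'_eq S b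
    have ha₀ : a₀ ∈ p := by
      rwa [IsLocalization.AtPrime.mk'_mem_maximal_iff A p] at haM
    have hb₀ : b₀ ∈ p := by
      rwa [IsLocalization.AtPrime.mk'_mem_maximal_iff A p] at hbM
    obtain ⟨m₁, hm₁⟩ := hξ a₀ ha₀
    obtain ⟨m₂, hm₂⟩ := hξ b₀ hb₀
    have hrel : b₀ • m₁ = a₀ • m₂ := by
      apply hinj
      rw [map_smul, map_smul, hm₁, hm₂, smul_smul, smul_smul, mul_comm]
    -- units
    have hsu : IsUnit (algebraMap R A (s : R)) := IsLocalization.map_units A s
    have htu : IsUnit (algebraMap R A (t : R)) := IsLocalization.map_units A t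
    have ha₁ : algebraMap R A a₀ = IsLocalization.mk' A a₀ s * algebraMap R A (s : R) :=
      (IsLocalization.mk'_spec A a₀ s).symm
    have hb₁ : algebraMap R A b₀ = IsLocalization.mk' A b₀ t * algebraMap R A (t : R) :=
      (IsLocalization.mk'_spec A b₀ t).symm
    -- relation in Mp
    have hrelp : IsLocalization.mk' A b₀ t • ((algebraMap R A (t : R)) • (LocalizedModule.mk m₁ 1 : Mp)) =
        IsLocalization.mk' A a₀ s • ((algebraMap R A (s : R)) • (LocalizedModule.mk m₂ 1 : Mp)) := by
      rw [smul_smul, smul_smul, ← ha₁, ← hb₁, algebraMap_smul, algebraMap_smul,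
        LocalizedModule.smul'_mk, LocalizedModule.smul'_mk, hrel]
    obtain ⟨z, hz⟩ := exists_eq_smul_of_regular hb hrelp
    -- μ₁ = a₁ • z'
    obtain ⟨t', ht'⟩ := htu.exists_left_inv
    obtain ⟨s', hs'⟩ := hsu.exists_left_inv
    have hμ : (LocalizedModule.mk m₁ 1 : Mp) = algebraMap R A a₀ • (s' • t' • z) := by
      have h1 : (LocalizedModule.mk m₁ 1 : Mp) = t' • (algebraMap R A (t : R)) • (LocalizedModule.mk m₁ 1 : Mp) := by
        rw [smul_smul, ht', one_smul]
      rw [h1, hz, ha₁, smul_smul, smul_smul, smul_smul]
      congr 1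
      calc t' * IsLocalization.mk' A a₀ s
          = IsLocalization.mk' A a₀ s * (s' * algebraMap R A (s : R)) * t' := by rw [hs']; ring
        _ = IsLocalization.mk' A a₀ s * algebraMap R A ↑s * s' * t' := by ring
    induction hz' : (s' • t' • z) using LocalizedModule.induction_on with
    | h m₃ u =>
      rw [hz', algebraMap_smul, LocalizedModule.smul'_mk, LocalizedModule.mk_eq] at hμ
      obtain ⟨v, hv⟩ := hμ
      refine ⟨(v : R) * (u : R), ?_, ?_⟩
      · exact hp.mul_notMem v.2 u.2
      · refine ⟨(v : R) • m₃, ?_⟩
        -- a₀ ≠ 0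
        have ha₀0 : a₀ ≠ 0 := by
          rintro rfl
          have : IsSMulRegular Mp (0 : A) := by
            simpa using ha
          obtain ⟨x, y, hxy⟩ := exists_pair_ne Mp
          exact hxy (this (by simp))
        -- cancel a₀
        ext l
        have key : a₀ * (((v : R) * (u : R)) • ξ) l = a₀ * (Module.Dual.eval R M ((v : R) • m₃)) l := by
          have e1 : a₀ • ξ = Module.Dual.eval R M m₁ := hm₁.symm
          have : (a₀ • ξ) l = l m₁ := by rw [e1]; rfl
          simp only [LinearMap.smul_apply, smul_eq_mul, Module.Dual.eval_apply, map_smul] at this ⊢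
          have hv' : (v : R) • (u : R) • m₁ = (v : R) • a₀ • m₃ := by
            have := hv
            simp only [Submonoid.smul_def, one_smul] at this
            simpa [Submonoid.smul_def] using this
          have : l ((v : R) • (u : R) • m₁) = l ((v : R) • a₀ • m₃) := by rw [hv']
          simp only [map_smul, smul_eq_mul] at this
          linear_combination (↑v * ↑u) * ‹a₀ * ξ l = l m₁› + this
        exact (mul_left_cancel₀ ha₀0 key).symm

end S6879aux

namespace S6879aux
open Groth.Agent.Lib.Helper18.CM Groth.Agent.Lib.Helper16.Depth RingTheory.Sequence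
open scoped Pointwise

variable (R : Type u) [CommRing R] [IsDomain R] [IsNoetherianRing R] (M : Type u)
  [AddCommGroup M] [Module R M] [Module.Finite R M]

theorem isReflexive_of_subsingleton (A P : Type*) [CommRing A] [AddCommGroup P] [Module A P]
    [Subsingleton P] : Module.IsReflexive A P := by
  refine ⟨⟨fun x y _ => Subsingleton.elim x y, fun ξ => ⟨0, ?_⟩⟩⟩
  ext l
  have : l = 0 := by ext x; rw [Subsingleton.elim x 0]; simp
  subst this
  simp

theorem torsionFree_of_hyp
    (H : ∀ (p : Ideal R) [p.IsPrime],
      Module.IsReflexive (Localization.AtPrime p) (LocalizedModule p.primeCompl M) ∨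
        2 ≤ LocCoh.depth (Localization.AtPrime p) (LocalizedModule p.primeCompl M)) :
    Module.IsTorsionFree R M := by
  rcases subsingleton_or_nontrivial M with hM | hM
  · infer_instance
  rw [S6868aux.torsionFree_iff_ass]
  apply Set.eq_singleton_iff_nonempty_unique_mem.mpr
  refine ⟨associatedPrimes.nonempty R M, fun p hp => ?_⟩
  have hpp : p.IsPrime := IsAssociatedPrime.isPrime hp
  have hm := (mem_associatedPrimes_iff_maximalIdeal_mem (M := M) p).mp hp
  have hd := (depth_eq_zero_iff (LocalizedModule p.primeCompl M)).mpr hm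
  have hnt : Nontrivial (LocalizedModule p.primeCompl M) := by
    by_contra hcon
    rw [not_nontrivial_iff_subsingleton] at hcon
    rw [associatedPrimes.eq_empty_of_subsingleton] at hm
    exact hm
  rcases H p with h1 | h2
  · -- M_p reflexive hence torsion-free, so Ass = {⊥}
    have htf : Module.IsTorsionFree (Localization.AtPrime p) (LocalizedModule p.primeCompl M) :=
      (Groth.Agent.S6869.result (Localization.AtPrime p) (LocalizedModule p.primeCompl M)).mp
        (Module.bijective_dual_eval _ _).1
    have hass := (S6868aux.torsionFree_iff_ass (Localization.AtPrime p)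
      (LocalizedModule p.primeCompl M)).mp htf
    rw [hass] at hm
    have hbot : IsLocalRing.maximalIdeal (Localization.AtPrime p) = ⊥ := hm
    have e : Ideal.comap (algebraMap R (Localization.AtPrime p))
        (IsLocalRing.maximalIdeal (Localization.AtPrime p)) = p :=
      IsLocalization.AtPrime.under_maximalIdeal (Localization.AtPrime p) p
    rw [hbot] at e
    rw [← e]
    have hinj : Function.Injective (algebraMap R (Localization.AtPrime p)) :=
      IsLocalization.injective _ (Ideal.primeCompl_le_nonZeroDivisors p)
    rw [eq_bot_iff]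
    intro r hr
    rw [Ideal.mem_comap, Ideal.mem_bot] at hr
    rw [Ideal.mem_bot]
    exact hinj (by rw [hr, map_zero])
  · rw [hd] at h2
    exact absurd h2 (by norm_num)

theorem main :
    Module.IsReflexive R M ↔ ∀ (p : Ideal R) [p.IsPrime],
      Module.IsReflexive (Localization.AtPrime p) (LocalizedModule p.primeCompl M) ∨
        2 ≤ LocCoh.depth (Localization.AtPrime p) (LocalizedModule p.primeCompl M) := by
  constructor
  · intro h p hp
    exact Or.inl (((Groth.Agent.S6871.result R M).1.mp h) p)
  · intro H
    have htf := torsionFree_of_hyp R M H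
    have hinj : Function.Injective (Module.Dual.eval R M) :=
      (Groth.Agent.S6869.result R M).mpr htf
    refine ⟨⟨hinj, fun ξ => ?_⟩⟩
    by_contra hξ
    -- the quotient M** / range eval
    let N := LinearMap.range (Module.Dual.eval R M)
    have hx : (Submodule.Quotient.mk ξ : _ ⧸ N) ≠ 0 := by
      rw [Ne, Submodule.Quotient.mk_eq_zero]
      exact hξ
    obtain ⟨p, hpass, -⟩ := exists_le_isAssociatedPrime_of_isNoetherianRing R _ hx
    rw [isAssociatedPrime_iff] at hpass
    obtain ⟨hpp, y, hy⟩ := hpass
    obtain ⟨ξ', rfl⟩ := Submodule.Quotient.mk_surjective _ y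
    have hmem : ∀ r, r ∈ p ↔ r • ξ' ∈ N := by
      intro r
      rw [hy, Submodule.mem_colon_singleton, Submodule.mem_bot, ← Submodule.Quotient.mk_smul,
        Submodule.Quotient.mk_eq_zero]
    have key : ∃ w : R, w ∉ p ∧ w • ξ' ∈ N := by
      rcases H p with h1 | h2
      · obtain ⟨s, x, hs, hsx⟩ := exists_smul_eq_eval R M p h1 ξ'
        exact ⟨s, hs, ⟨x, hsx.symm⟩⟩
      · rcases subsingleton_or_nontrivial (LocalizedModule p.primeCompl M) with hsub | hnt
        · have h1 := isReflexive_of_subsingleton (Localization.AtPrime p)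
            (LocalizedModule p.primeCompl M)
          obtain ⟨s, x, hs, hsx⟩ := exists_smul_eq_eval R M p h1 ξ'
          exact ⟨s, hs, ⟨x, hsx.symm⟩⟩
        · exact core R M p hinj ξ' (fun r hr => (hmem r).mp hr) h2
    obtain ⟨w, hw, hwN⟩ := key
    exact hw ((hmem w).mpr hwN)

end S6879aux

namespace Groth.Agent.S6879

/-- Let `R` be a Noetherian domain and `M` a finite `R`-module. Then `M` is reflexive if and only if for
every prime `𝔭` of `R` either `M_𝔭` is a reflexive `R_𝔭`-module or `depth(M_𝔭) ≥ 2`. -/
theorem result (R : Type u) [CommRing R] [IsDomain R]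
    [IsNoetherianRing R] (M : Type u) [AddCommGroup M] [Module R M] [Module.Finite R M] :
    Module.IsReflexive R M ↔ ∀ (p : Ideal R) [p.IsPrime],
      Module.IsReflexive (Localization.AtPrime p) (LocalizedModule p.primeCompl M) ∨
        2 ≤ LocCoh.depth (Localization.AtPrime p) (LocalizedModule p.primeCompl M) := by
  exact S6879aux.main R M

end Groth.Agent.S6879
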