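import Groth.Statements.S6880
import Mathlib
import Groth.Agent.S6871
import Groth.Agent.Lib.Helper8.SkHom

set_option autoImplicit false
universe u
open CAlg

namespace S6880aux
open Groth.Agent.Lib.Helper18.CM Groth.Agent.Lib.Helper8.DepthHom Groth.Agent.Lib.Helper8.SkHom

variable (R : Type u) [CommRing R] [IsDomain R] [IsNoetherianRing R] (M : Type u)
    [AddCommGroup M] [Module R M] [Module.Finite R M] [Module.IsReflexive R M]

/-- `LocalizedModule S R ≃ Localization S` as modules over the localization. -/
noncomputable def locSelfEquiv (S : Submonoid R) :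
    LocalizedModule S R ≃ₗ[Localization S] Localization S :=
  (IsLocalizedModule.iso S (Algebra.linearMap R (Localization S))).extendScalarsOfIsLocalization S
    (Localization S)

theorem main :
    (∀ (p : Ideal R) [p.IsPrime], 2 ≤ LocCoh.depth (Localization.AtPrime p) (Localization.AtPrime p) →
      2 ≤ LocCoh.depth (Localization.AtPrime p) (LocalizedModule p.primeCompl M)) ∧
    (LocCoh.HasSk 2 R R → LocCoh.HasSk 2 R M) := by
  have hloc : ∀ (p : Ideal R) [p.IsPrime],
      Module.IsReflexive (Localization.AtPrime p) (LocalizedModule p.primeCompl M) :=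
    fun p _ => ((Groth.Agent.S6871.result R M).1.mp inferInstance) p
  constructor
  · intro p hp h2
    have := hloc p
    have e := Module.evalEquiv (Localization.AtPrime p) (LocalizedModule p.primeCompl M)
    rw [depth_congr e]
    exact (Groth.Agent.Lib.Helper8.DepthHom.main (Localization.AtPrime p)
      (Module.Dual (Localization.AtPrime p) (LocalizedModule p.primeCompl M))
      (Localization.AtPrime p)).2 h2
  · intro h p hp
    have := hloc p
    have e := Module.evalEquiv (Localization.AtPrime p) (LocalizedModule p.primeCompl M)
    rw [depth_congr e, Module.supportDim_eq_of_equiv e]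
    apply sk_two
    have hR := h p
    have e' := locSelfEquiv R p.primeCompl
    change _ ≃ₗ[Localization.AtPrime p] Localization.AtPrime p at e'
    rw [depth_congr e', Module.supportDim_eq_of_equiv e'] at hR
    exact hR

end S6880aux

namespace Groth.Agent.S6880

/-- Let `R` be a Noetherian domain and `M` a finite reflexive `R`-module. For a prime `𝔭` with
`depth(R_𝔭) ≥ 2` one has `depth(M_𝔭) ≥ 2`; and if `R` has `(S_2)` then `M` has `(S_2)`. -/
theorem result (R : Type u) [CommRing R] [IsDomain R] [IsNoetherianRing R] (M : Type u)
    [AddCommGroup M] [Module R M] [Module.Finite R M] [Module.IsReflexive R M] :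
    (∀ (p : Ideal R) [p.IsPrime], 2 ≤ LocCoh.depth (Localization.AtPrime p) (Localization.AtPrime p) →
      2 ≤ LocCoh.depth (Localization.AtPrime p) (LocalizedModule p.primeCompl M)) ∧
    (LocCoh.HasSk 2 R R → LocCoh.HasSk 2 R M) := by
  exact S6880aux.main R M

end Groth.Agent.S6880
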