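import Groth.Statements.S6881
import Mathlib

set_option autoImplicit false
universe u
open CAlg

namespace Groth.Agent.S6881



section lattice
variable {A : Type u} [CommRing A] [IsDomain A] {K : Type u} [Field K] [Algebra A K]
  [IsFractionRing A K]

/-- lift a `K`-valued `A`-linear map with values in `A` to an `A`-valued one. -/
noncomputable def liftToA {N : Type u} [AddCommGroup N] [Module A N] (ψ : N →ₗ[A] K)
    (h : ∀ n, ψ n ∈ Set.range (algebraMap A K)) : N →ₗ[A] A :=
  ((LinearEquiv.ofInjective (Algebra.linearMap A K) (IsFractionRing.injective A K)).symm :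
      LinearMap.range (Algebra.linearMap A K) →ₗ[A] A) ∘ₗ
    (ψ.codRestrict (LinearMap.range (Algebra.linearMap A K))
      (fun n => by obtain ⟨a, ha⟩ := h n; exact ⟨a, ha⟩))

theorem algebraMap_liftToA {N : Type u} [AddCommGroup N] [Module A N] (ψ : N →ₗ[A] K)
    (h : ∀ n, ψ n ∈ Set.range (algebraMap A K)) (n : N) :
    algebraMap A K (liftToA ψ h n) = ψ n := by
  set z : LinearMap.range (Algebra.linearMap A K) :=
    ψ.codRestrict (LinearMap.range (Algebra.linearMap A K))
      (fun n => by obtain ⟨a, ha⟩ := h n; exact ⟨a, ha⟩) n with hz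
  have h1 : (LinearEquiv.ofInjective (Algebra.linearMap A K) (IsFractionRing.injective A K))
      ((LinearEquiv.ofInjective (Algebra.linearMap A K)
        (IsFractionRing.injective A K)).symm z) = z := LinearEquiv.apply_symm_apply _ _
  have h2 := congrArg Subtype.val h1
  exact h2

variable {V : Type u} [AddCommGroup V] [Module K V] [Module A V] [IsScalarTower A K V]
  {ι : Type u} [Fintype ι] [DecidableEq ι] (e : Module.Basis ι K V) (M : Submodule A V)
  (he : ∀ i, e i ∈ M)

/-- the `K`-linear extension of a functional on the lattice `M`. -/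
noncomputable def extK (φ : M →ₗ[A] A) : V →ₗ[K] K :=
  ∑ i, algebraMap A K (φ ⟨e i, he i⟩) • e.coord i

theorem extK_apply (φ : M →ₗ[A] A) (x : V) :
    extK e M he φ x = ∑ i, algebraMap A K (φ ⟨e i, he i⟩) * e.repr x i := by
  simp only [extK, LinearMap.sum_apply, LinearMap.smul_apply, Module.Basis.coord_apply,
    smul_eq_mul]

theorem extK_basis (φ : M →ₗ[A] A) (j : ι) :
    extK e M he φ (e j) = algebraMap A K (φ ⟨e j, he j⟩) := by
  rw [extK_apply]
  rw [Finset.sum_eq_single j]
  · simp
  · intro i _ hij
    simp [Finsupp.single_eq_of_ne hij]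
  · intro h
    exact absurd (Finset.mem_univ j) h

theorem extK_ext (f g : V →ₗ[K] K) (h : ∀ j, f (e j) = g (e j)) : f = g :=
  e.ext h

end lattice
section lattice2
variable {A : Type u} [CommRing A] [IsDomain A] {K : Type u} [Field K] [Algebra A K]
  [IsFractionRing A K]
  {V : Type u} [AddCommGroup V] [Module K V] [Module A V] [IsScalarTower A K V]
  {ι : Type u} [Fintype ι] [DecidableEq ι] (e : Module.Basis ι K V) (M : Submodule A V)
  (he : ∀ i, e i ∈ M)
  (d : A) (hd0 : d ≠ 0)
  (hd : ∀ m ∈ M, ∀ i, algebraMap A K d * e.repr m i ∈ Set.range (algebraMap A K))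

include hd0 hd in
theorem extK_mem (φ : M →ₗ[A] A) (m : M) :
    extK e M he φ (m : V) = algebraMap A K (φ m) := by
  choose a ha using fun i => hd m.1 m.2 i
  have h1 : d • m = ∑ i, a i • (⟨e i, he i⟩ : M) := by
    apply Subtype.ext
    rw [Submodule.coe_smul, AddSubmonoidClass.coe_finsetSum]
    simp only [Submodule.coe_smul]
    conv_lhs => rw [← e.sum_repr (m : V)]
    rw [Finset.smul_sum]
    apply Finset.sum_congr rfl
    intro i _
    rw [← algebraMap_smul K d, smul_smul, ← ha i, algebraMap_smul]
  have h2 := congrArg φ h1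
  rw [map_smul, map_sum] at h2
  simp only [map_smul, smul_eq_mul] at h2
  have h3 := congrArg (algebraMap A K) h2
  rw [map_mul, map_sum] at h3
  simp only [map_mul, ha] at h3
  rw [extK_apply]
  have hdK : algebraMap A K d ≠ 0 := by
    rwa [Ne, map_eq_zero_iff _ (IsFractionRing.injective A K)]
  apply mul_left_cancel₀ hdK
  rw [h3, Finset.mul_sum]
  apply Finset.sum_congr rfl
  intro i _
  ring

/-- the coordinate functionals `d • e_i^*` restricted to the lattice. -/
noncomputable def coordFun (i : ι) : M →ₗ[A] A :=
  liftToA (K := K)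
    (((algebraMap A K d • e.coord i).restrictScalars A) ∘ₗ M.subtype)
    (fun m => by
      obtain ⟨a, ha⟩ := hd m.1 m.2 i
      exact ⟨a, by rw [ha]; simp [Algebra.smul_def]⟩)

theorem algebraMap_coordFun (i : ι) (m : M) :
    algebraMap A K (coordFun e M d hd i m) = algebraMap A K d * e.repr (m : V) i := by
  rw [coordFun, algebraMap_liftToA]
  simp [Algebra.smul_def]

end lattice2
section lattice3
variable {A : Type u} [CommRing A] [IsDomain A] {K : Type u} [Field K] [Algebra A K]
  [IsFractionRing A K]
  {V : Type u} [AddCommGroup V] [Module K V] [Module A V] [IsScalarTower A K V]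
  {ι : Type u} [Fintype ι] [DecidableEq ι] (e : Module.Basis ι K V) (M : Submodule A V)
  (he : ∀ i, e i ∈ M)
  (d : A) (hd0 : d ≠ 0)
  (hd : ∀ m ∈ M, ∀ i, algebraMap A K d * e.repr m i ∈ Set.range (algebraMap A K))

include hd0 hd in
theorem reflexive_of_ddual_le
    (hR : ∀ x, (∀ φ : M →ₗ[A] A, extK e M he φ x ∈ Set.range (algebraMap A K)) → x ∈ M) :
    Function.Bijective (Module.Dual.eval A M) := by
  have hdK : algebraMap A K d ≠ 0 := by
    rwa [Ne, map_eq_zero_iff _ (IsFractionRing.injective A K)]
  constructor
  · rw [injective_iff_map_eq_zero]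
    intro m hm
    have h1 : ∀ i, e.repr (m : V) i = 0 := by
      intro i
      have h2 : coordFun e M d hd i m = 0 := by
        have h4 := LinearMap.congr_fun hm (coordFun e M d hd i)
        simpa using h4
      have h3 := algebraMap_coordFun e M d hd i m
      rw [h2, map_zero] at h3
      exact (mul_eq_zero.mp h3.symm).resolve_left hdK
    apply Subtype.ext
    rw [Submodule.coe_zero, ← e.sum_repr (m : V)]
    simp [h1]
  · intro ξ
    set x : V := ∑ i, ((algebraMap A K d)⁻¹ *
      algebraMap A K (ξ (coordFun e M d hd i))) • e i with hx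
    have hrepr : ∀ i, e.repr x i = (algebraMap A K d)⁻¹ *
        algebraMap A K (ξ (coordFun e M d hd i)) := by
      intro i
      rw [hx, e.repr_sum_self]
    have hkey : ∀ φ : M →ₗ[A] A, extK e M he φ x = algebraMap A K (ξ φ) := by
      intro φ
      have h1 : d • φ = ∑ i, (φ ⟨e i, he i⟩) • coordFun e M d hd i := by
        apply LinearMap.ext
        intro m
        apply IsFractionRing.injective A K
        simp only [LinearMap.smul_apply, LinearMap.sum_apply, smul_eq_mul, map_mul, map_sum]
        rw [← extK_mem e M he d hd0 hd φ m, extK_apply, Finset.mul_sum]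
        apply Finset.sum_congr rfl
        intro i _
        rw [algebraMap_coordFun]
        ring
      have h2 := congrArg ξ h1
      rw [map_smul, map_sum] at h2
      simp only [map_smul, smul_eq_mul] at h2
      have h3 := congrArg (algebraMap A K) h2
      rw [map_mul, map_sum] at h3
      simp only [map_mul] at h3
      rw [extK_apply]
      simp only [hrepr]
      apply mul_left_cancel₀ hdK
      rw [h3, Finset.mul_sum]
      apply Finset.sum_congr rfl
      intro i _
      field_simp
    have hxM : x ∈ M := hR x (fun φ => ⟨ξ φ, (hkey φ).symm⟩)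
    refine ⟨⟨x, hxM⟩, ?_⟩
    apply LinearMap.ext
    intro φ
    apply IsFractionRing.injective A K
    rw [Module.Dual.eval_apply, ← extK_mem e M he d hd0 hd φ ⟨x, hxM⟩]
    exact hkey φ

end lattice3
section specific
variable (A K L : Type u) [CommRing A] [IsDomain A] [IsNoetherianRing A]
    [Field K] [Algebra A K] [IsFractionRing A K] [Field L] [Algebra K L]
    [Algebra A L] [IsScalarTower A K L]
  {ι : Type u} [Fintype ι] [DecidableEq ι] (e : Module.Basis ι K L)
  (he : ∀ i, e i ∈ Subalgebra.toSubmodule (integralClosure A L))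
  (d : A) (hd0 : d ≠ 0)
  (hd : ∀ m ∈ Subalgebra.toSubmodule (integralClosure A L), ∀ i,
    algebraMap A K d * e.repr m i ∈ Set.range (algebraMap A K))

/-- multiplication by an integral element on the integral closure. -/
noncomputable def mulB (b : L) (hb : b ∈ integralClosure A L) :
    Subalgebra.toSubmodule (integralClosure A L) →ₗ[A]
      Subalgebra.toSubmodule (integralClosure A L) :=
  (LinearMap.mulLeft A b).restrict (fun m hm => (integralClosure A L).mul_mem hb hm)

include hd0 hd in
theorem extK_mulB (φ : Subalgebra.toSubmodule (integralClosure A L) →ₗ[A] A)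
    (b : L) (hb : b ∈ integralClosure A L) (x : L) :
    extK e _ he (φ ∘ₗ mulB A L b hb) x = extK e _ he φ (b * x) := by
  have h1 : extK e _ he (φ ∘ₗ mulB A L b hb) = extK e _ he φ ∘ₗ LinearMap.mulLeft K b := by
    apply e.ext
    intro j
    rw [extK_basis]
    change _ = extK e _ he φ (b * e j)
    have h2 := extK_mem e _ he d hd0 hd φ
      ⟨b * e j, (integralClosure A L).mul_mem hb (he j)⟩
    exact h2.symm
  rw [h1]
  rfl

include hd0 hd in
theorem ddual_mul (x y : L)
    (hx : ∀ φ : Subalgebra.toSubmodule (integralClosure A L) →ₗ[A] A,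
      extK e _ he φ x ∈ Set.range (algebraMap A K))
    (hy : ∀ φ : Subalgebra.toSubmodule (integralClosure A L) →ₗ[A] A,
      extK e _ he φ y ∈ Set.range (algebraMap A K))
    (φ : Subalgebra.toSubmodule (integralClosure A L) →ₗ[A] A) :
    extK e _ he φ (x * y) ∈ Set.range (algebraMap A K) := by
  have hval : ∀ m : Subalgebra.toSubmodule (integralClosure A L),
      (((extK e _ he φ ∘ₗ LinearMap.mulLeft K x).restrictScalars A) ∘ₗ
        (Subalgebra.toSubmodule (integralClosure A L)).subtype) m ∈
        Set.range (algebraMap A K) := by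
    intro m
    change extK e _ he φ (x * (m : L)) ∈ _
    rw [mul_comm, ← extK_mulB A K L e he d hd0 hd φ m.1 m.2 x]
    exact hx _
  set ψ : Subalgebra.toSubmodule (integralClosure A L) →ₗ[A] A :=
    liftToA (K := K) _ hval with hψ
  have h1 : extK e _ he ψ = extK e _ he φ ∘ₗ LinearMap.mulLeft K x := by
    apply e.ext
    intro j
    rw [extK_basis, hψ, algebraMap_liftToA]
    rfl
  have h2 := hy ψ
  rw [h1] at h2
  exact h2

end specific
section specific2
variable (A K L : Type u) [CommRing A] [IsDomain A] [IsNoetherianRing A]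
    [Field K] [Algebra A K] [IsFractionRing A K] [Field L] [Algebra K L]
    [Algebra A L] [IsScalarTower A K L]
  {ι : Type u} [Fintype ι] [DecidableEq ι] (e : Module.Basis ι K L)
  (he : ∀ i, e i ∈ Subalgebra.toSubmodule (integralClosure A L))
  (d : A) (hd0 : d ≠ 0)
  (hd : ∀ m ∈ Subalgebra.toSubmodule (integralClosure A L), ∀ i,
    algebraMap A K d * e.repr m i ∈ Set.range (algebraMap A K))

include hd0 hd in
theorem ddual_le (x : L)
    (hx : ∀ φ : Subalgebra.toSubmodule (integralClosure A L) →ₗ[A] A,
      extK e _ he φ x ∈ Set.range (algebraMap A K)) :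
    x ∈ Subalgebra.toSubmodule (integralClosure A L) := by
  have hdK : algebraMap A K d ≠ 0 := by
    rwa [Ne, map_eq_zero_iff _ (IsFractionRing.injective A K)]
  let R' : Subalgebra A L :=
    { carrier := {x | ∀ φ : Subalgebra.toSubmodule (integralClosure A L) →ₗ[A] A,
        extK e _ he φ x ∈ Set.range (algebraMap A K)}
      mul_mem' := fun {x y} hx hy φ => ddual_mul A K L e he d hd0 hd x y hx hy φ
      add_mem' := fun {x y} hx hy φ => by
        obtain ⟨a, ha⟩ := hx φ
        obtain ⟨b, hb⟩ := hy φ
        exact ⟨a + b, by rw [map_add, map_add, ha, hb]⟩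
      algebraMap_mem' := fun a φ => by
        have hmem : algebraMap A L a ∈ Subalgebra.toSubmodule (integralClosure A L) :=
          (integralClosure A L).algebraMap_mem a
        exact ⟨φ ⟨_, hmem⟩, (extK_mem e _ he d hd0 hd φ ⟨_, hmem⟩).symm⟩ }
  have hFG : R'.toSubmodule.FG := by
    have hle : R'.toSubmodule ≤
        Submodule.span A (Set.range (fun i => (algebraMap A K d)⁻¹ • e i)) := by
      intro y hy
      rw [← e.sum_repr y]
      apply Submodule.sum_mem
      intro i _
      have h1 := hy (coordFun e _ d hd i)
      have h2 : extK e _ he (coordFun e _ d hd i) y = algebraMap A K d * e.repr y i := by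
        have h4 : extK e _ he (coordFun e _ d hd i) = algebraMap A K d • e.coord i := by
          apply e.ext
          intro j
          rw [extK_basis, algebraMap_coordFun]
          simp [Algebra.smul_def]
        rw [h4]
        simp [Algebra.smul_def]
      rw [h2] at h1
      obtain ⟨a, ha⟩ := h1
      have h3 : e.repr y i • e i = a • ((algebraMap A K d)⁻¹ • e i) := by
        rw [← algebraMap_smul K a, smul_smul, ha]
        congr 1
        field_simp
      rw [h3]
      exact Submodule.smul_mem _ _ (Submodule.subset_span ⟨i, rfl⟩)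
    have hN : IsNoetherian A
        (Submodule.span A (Set.range (fun i => (algebraMap A K d)⁻¹ • e i))) :=
      isNoetherian_span_of_finite A (Set.finite_range _)
    have hN2 : IsNoetherian A R'.toSubmodule := isNoetherian_of_le hle
    exact (Module.Finite.iff_fg).mp inferInstance
  have hint : IsIntegral A x := IsIntegral.of_mem_of_fg R' hFG x hx
  exact hint

end specific2

/-- For `A` a Noetherian integrally closed domain with fraction field `K` and `L/K` a finite field
extension, if the integral closure of `A` in `L` is a finitely generated `A`-module then it is a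
reflexive `A`-module. -/
theorem result (A K L : Type u) [CommRing A] [IsDomain A] [IsNoetherianRing A]
    [IsIntegrallyClosed A] [Field K] [Algebra A K] [IsFractionRing A K] [Field L] [Algebra K L] [FiniteDimensional K L]
    [Algebra A L] [IsScalarTower A K L] [Module.Finite A ↥(integralClosure A L)] :
    Module.IsReflexive A ↥(integralClosure A L) := by

  classical
  obtain ⟨s, b, hb⟩ := FiniteDimensional.exists_is_basis_integral A K L
  obtain ⟨S, hS⟩ := (inferInstance : Module.Finite A ↥(integralClosure A L)).fg_top
  obtain ⟨⟨d, hdmem⟩, hdint⟩ := IsLocalization.exist_integer_multiples_of_finset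
    (nonZeroDivisors A)
    (Finset.image (fun p : (↥(integralClosure A L)) × s => b.repr (p.1 : L) p.2)
      (S ×ˢ Finset.univ))
  have hd0 : d ≠ 0 := nonZeroDivisors.ne_zero hdmem
  have hb' : ∀ i, b i ∈ Subalgebra.toSubmodule (integralClosure A L) := fun i => hb i
  have hd : ∀ m ∈ Subalgebra.toSubmodule (integralClosure A L), ∀ i,
      algebraMap A K d * b.repr m i ∈ Set.range (algebraMap A K) := by
    intro m hm i
    have hmS : (⟨m, hm⟩ : ↥(integralClosure A L)) ∈ Submodule.span A (S : Set _) := by
      rw [hS]
      trivial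
    have key : ∀ z : ↥(integralClosure A L), z ∈ Submodule.span A (S : Set _) →
        algebraMap A K d * b.repr (z : L) i ∈ Set.range (algebraMap A K) := by
      intro z hz
      induction hz using Submodule.span_induction with
      | mem z hz =>
        have h1 := hdint (b.repr (z : L) i) (Finset.mem_image.mpr
          ⟨(z, i), Finset.mem_product.mpr ⟨hz, Finset.mem_univ _⟩, rfl⟩)
        obtain ⟨a, ha⟩ := h1
        exact ⟨a, by rw [ha, Algebra.smul_def]⟩
      | zero => exact ⟨0, by simp⟩
      | add z w _ _ hz hw =>
        obtain ⟨a, ha⟩ := hz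
        obtain ⟨c, hc⟩ := hw
        refine ⟨a + c, ?_⟩
        rw [map_add, ha, hc, Subalgebra.coe_add, map_add, Finsupp.add_apply, mul_add]
      | smul r z _ hz =>
        obtain ⟨a, ha⟩ := hz
        refine ⟨r * a, ?_⟩
        rw [map_mul, ha, Subalgebra.coe_smul, ← algebraMap_smul K r (z : L), map_smul,
          Finsupp.smul_apply, smul_eq_mul]
        ring
    exact key ⟨m, hm⟩ hmS
  exact ⟨reflexive_of_ddual_le b (Subalgebra.toSubmodule (integralClosure A L)) hb' d hd0 hd
    (ddual_le A K L b hb' d hd0 hd)⟩

end Groth.Agent.S6881
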