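import Groth.Statements.S6882
import Mathlib.LinearAlgebra.FreeModule.PID
import Mathlib.Algebra.Module.Torsion.Basic

set_option autoImplicit false
universe u
open CAlg

namespace Groth.Agent.S6882

/-- For a finite module `M` over a discrete valuation ring `R`, the evaluation map from `M` to its
double dual `M**` is surjective. -/
theorem result (R : Type u) [CommRing R] [IsDomain R]
    [IsDiscreteValuationRing R] (M : Type u) [AddCommGroup M] [Module R M] [Module.Finite R M] :
    Function.Surjective (Module.Dual.eval R M) := by
  classical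
  let T := Submodule.torsion R M
  have hfree : Module.Free R (M ⧸ T) := Module.free_of_finite_type_torsion_free'
  have hrefl : Module.IsReflexive R (M ⧸ T) := inferInstance
  intro φ
  have hkill : ∀ (f : Module.Dual R M), T ≤ LinearMap.ker f := by
    intro f m hm
    obtain ⟨a, ha⟩ := (Submodule.mem_torsion_iff m).mp hm
    have h1 : (a : R) • f m = 0 := by rw [← map_smul]; rw [show (a : R) • m = a • m from rfl, ha, map_zero]
    rw [LinearMap.mem_ker]
    rcases smul_eq_zero.mp h1 with h | h
    · exact absurd h (nonZeroDivisors.coe_ne_zero a)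
    · exact h
  let ψ : Module.Dual R (Module.Dual R (M ⧸ T)) := φ.comp T.mkQ.dualMap
  obtain ⟨qbar, hq⟩ := (Module.bijective_dual_eval R (M ⧸ T)).2 ψ
  obtain ⟨m, rfl⟩ := T.mkQ_surjective qbar
  refine ⟨m, ?_⟩
  ext f
  have hf : f = T.mkQ.dualMap (T.liftQ f (hkill f)) := by
    ext x; simp
  have h2 := LinearMap.congr_fun hq (T.liftQ f (hkill f))
  simp only [Module.Dual.eval_apply, ψ, LinearMap.comp_apply] at h2
  rw [← hf] at h2
  rw [Module.Dual.eval_apply, ← h2]
  simp

end Groth.Agent.S6882
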