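import Groth.Statements.S6884
import Mathlib
import Groth.Agent.Lib.Helper18.FIJ2

set_option autoImplicit false
universe u
open TensorProduct
open CAlg

namespace Groth.Agent.S6884

/-- For an injective integral ring map `R → S` and `n ≥ 0`, let `M` be a module of finite presentation
over the polynomial ring `R[x_1, …, x_n]`. Then flatness of `S ⊗_R M` over `S` forces flatness of
`M` over `R`. -/
theorem result (R S : Type u) [CommRing R]
    [CommRing S] [Algebra R S] [Algebra.IsIntegral R S] (hinj : Function.Injective (algebraMap R S)) (n : ℕ)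
    (M : Type u) [AddCommGroup M] [Module (MvPolynomial (Fin n) R) M] [Module R M]
    [IsScalarTower R (MvPolynomial (Fin n) R) M] [Module.FinitePresentation (MvPolynomial (Fin n) R) M]
    [Module.Flat S (S ⊗[R] M)] : Module.Flat R M := by
  classical
  obtain ⟨r, K, e, hK⟩ := Module.FinitePresentation.exists_fin (MvPolynomial (Fin n) R) M
  obtain ⟨m, g, hg⟩ := Submodule.fg_iff_exists_fin_generating_family.mp hK
  have hKg : K = Groth.Agent.Lib.Helper18.Fl.Kspan g := hg.symm
  subst hKg
  -- `M ≃ₗ[R] Q(R, g)`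
  have eR : M ≃ₗ[R] ((Fin r → MvPolynomial (Fin n) R) ⧸ Groth.Agent.Lib.Helper18.Fl.Kspan g) :=
    e.restrictScalars R
  obtain ⟨e₁⟩ := Groth.Agent.Lib.Helper18.Fl.nonempty_presented_baseChange (R₀ := R) (R₁ := S) g
  have e₂ : S ⊗[R] M ≃ₗ[S] S ⊗[R]
      ((Fin r → MvPolynomial (Fin n) R) ⧸ Groth.Agent.Lib.Helper18.Fl.Kspan g) :=
    TensorProduct.AlgebraTensorModule.congr (LinearEquiv.refl S S) eR
  have hflatS : Module.Flat S ((Fin r → MvPolynomial (Fin n) S) ⧸
      Groth.Agent.Lib.Helper18.Fl.Kspan
        (fun i => Groth.Agent.Lib.Helper18.Fl.mapVec (algebraMap R S) (g i))) :=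
    Module.Flat.of_linearEquiv (e₁.trans e₂.symm)
  haveI := Groth.Agent.Lib.Helper18.Fl.flat_presented_of_flat_baseChange_injective_integral
    R S hinj g hflatS
  exact Module.Flat.of_linearEquiv eR

end Groth.Agent.S6884
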