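import Groth.Statements.S6886
import Mathlib.RingTheory.AdjoinRoot
import Mathlib.LinearAlgebra.Finsupp.VectorSpace
import Mathlib.RingTheory.Polynomial.Tower
import Mathlib.RingTheory.IntegralClosure.IsIntegralClosure.Basic

set_option autoImplicit false
universe u
open TensorProduct
open CAlg

namespace Groth.Agent.S6886

/-- A monic polynomial splits into linear factors over a finite free extension. -/
theorem exists_splitting (d : ℕ) : ∀ (R : Type u) [CommRing R] (P : Polynomial R), P.Monic →
    P.natDegree = d →
    ∃ (R' : Type u) (_ : CommRing R') (_ : Algebra R R'), Module.Finite R R' ∧ Module.Free R R' ∧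
      Function.Injective (algebraMap R R') ∧
      ∃ α : Fin d → R', P.map (algebraMap R R') = ∏ j, (Polynomial.X - Polynomial.C (α j)) := by
  induction d with
  | zero =>
    intro R _ P hP hd
    refine ⟨R, inferInstance, Algebra.id R, inferInstance, inferInstance, Function.injective_id,
      Fin.elim0, ?_⟩
    have : P = 1 := (Polynomial.Monic.natDegree_eq_zero hP).mp hd
    simp [this]
  | succ d ih =>
    intro R _ P hP hd
    haveI : Module.Free R (AdjoinRoot P) := hP.free_adjoinRoot
    haveI : Module.Finite R (AdjoinRoot P) := hP.finite_adjoinRoot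
    have hinj₁ : Function.Injective (algebraMap R (AdjoinRoot P)) := by
      let b := (AdjoinRoot.powerBasis' hP).basis
      have hlt : 0 < (AdjoinRoot.powerBasis' hP).dim := by
        rw [AdjoinRoot.powerBasis'_dim, hd]; omega
      have h0 : b ⟨0, hlt⟩ = 1 := by
        rw [PowerBasis.basis_eq_pow]; simp
      have hsm := b.linearIndependent.smul_left_injective ⟨0, hlt⟩
      intro r r' h
      apply hsm
      simp only [h0, Algebra.smul_def, mul_one]
      exact h
    haveI : Nontrivial R := by
      by_contra h
      rw [not_nontrivial_iff_subsingleton] at h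
      have : P = 0 := Subsingleton.elim _ _
      rw [this] at hd
      simp at hd
    haveI : Nontrivial (AdjoinRoot P) := hinj₁.nontrivial
    let a : AdjoinRoot P := AdjoinRoot.root P
    let P₁ : Polynomial (AdjoinRoot P) := P.map (algebraMap R (AdjoinRoot P))
    let Q : Polynomial (AdjoinRoot P) := P₁ /ₘ (Polynomial.X - Polynomial.C a)
    have hPQ : (Polynomial.X - Polynomial.C a) * Q = P₁ :=
      Polynomial.mul_divByMonic_eq_iff_isRoot.mpr (AdjoinRoot.isRoot_root P)
    have hP₁ : P₁.Monic := hP.map _
    have hQ : Q.Monic := (Polynomial.monic_X_sub_C a).of_mul_monic_left (hPQ ▸ hP₁)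
    have hQd : Q.natDegree = d := by
      rw [Polynomial.natDegree_divByMonic _ (Polynomial.monic_X_sub_C a),
        Polynomial.natDegree_X_sub_C, hP.natDegree_map, hd]
      rfl
    obtain ⟨R₂, _, _, hfin, hfree, hinj₂, β, hβ⟩ := ih (AdjoinRoot P) Q hQ hQd
    letI : Algebra R R₂ := ((algebraMap (AdjoinRoot P) R₂).comp (algebraMap R (AdjoinRoot P))).toAlgebra
    haveI : IsScalarTower R (AdjoinRoot P) R₂ := IsScalarTower.of_algebraMap_eq fun _ => rfl
    refine ⟨R₂, inferInstance, inferInstance, Module.Finite.trans (AdjoinRoot P) R₂,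
      Module.Free.trans (S := AdjoinRoot P), hinj₂.comp hinj₁,
      Fin.cons (algebraMap (AdjoinRoot P) R₂ a) β, ?_⟩
    have h1 : P.map (algebraMap R R₂) = P₁.map (algebraMap (AdjoinRoot P) R₂) := by
      rw [Polynomial.map_map]; rfl
    rw [h1, ← hPQ, Polynomial.map_mul, hβ, Fin.prod_univ_succ]
    simp

/-- Let `R → S` be a finite ring map. One can find an extension `R ⊆ R'` of rings, with `R'` finite and
free as an `R`-module, for which the ring `S ⊗_R R'` arises as a quotient of `R'[T_1, …,
T_n]/(P_1(T_1), …, P_n(T_n))` with each `P_i(T) = ∏_j (T - α_{ij})` a product of linear factors over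
`R'`. -/
theorem result (R S : Type u) [CommRing R] [CommRing S] [Algebra R S]
    [Module.Finite R S] :
    ∃ (R' : Type u) (_ : CommRing R') (_ : Algebra R R'), Module.Finite R R' ∧ Module.Free R R' ∧
      Function.Injective (algebraMap R R') ∧
      ∃ (n : ℕ) (d : Fin n → ℕ) (α : (i : Fin n) → Fin (d i) → R')
        (φ : MvPolynomial (Fin n) R' →ₐ[R'] R' ⊗[R] S), Function.Surjective φ ∧
          ∀ i, φ (∏ j, (MvPolynomial.X i - MvPolynomial.C (α i j))) = 0 := by
  classical
  obtain ⟨n, s, hs⟩ := Module.Finite.exists_fin (R := R) (M := S)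
  have hint : ∀ i, IsIntegral R (s i) := fun i => Algebra.IsIntegral.isIntegral (s i)
  choose p hpm hp using hint
  let P : Polynomial R := ∏ i, p i
  have hPm : P.Monic := Polynomial.monic_prod_of_monic _ _ fun i _ => hpm i
  have hPs : ∀ i, Polynomial.aeval (s i) P = 0 := by
    intro i
    rw [map_prod]
    exact Finset.prod_eq_zero (Finset.mem_univ i) (hp i)
  obtain ⟨R', _, _, hfin, hfree, hinj, α, hα⟩ := exists_splitting P.natDegree R P hPm rfl
  refine ⟨R', inferInstance, inferInstance, hfin, hfree, hinj, n, fun _ => P.natDegree,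
    fun _ => α, MvPolynomial.aeval (fun i => (1 : R') ⊗ₜ[R] s i), ?_, ?_⟩
  · intro z
    induction z using TensorProduct.induction_on with
    | zero => exact ⟨0, map_zero _⟩
    | add a b ha hb =>
      obtain ⟨a', rfl⟩ := ha
      obtain ⟨b', rfl⟩ := hb
      exact ⟨a' + b', map_add _ _ _⟩
    | tmul r' t =>
      have ht : t ∈ Submodule.span R (Set.range s) := by rw [hs]; trivial
      induction ht using Submodule.span_induction with
      | mem t ht =>
        obtain ⟨i, rfl⟩ := ht
        refine ⟨MvPolynomial.C r' * MvPolynomial.X i, ?_⟩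
        simp [Algebra.TensorProduct.algebraMap_apply]
      | zero => exact ⟨0, by simp⟩
      | add a b _ _ ha hb =>
        obtain ⟨a', ha'⟩ := ha
        obtain ⟨b', hb'⟩ := hb
        exact ⟨a' + b', by rw [map_add, ha', hb', TensorProduct.tmul_add]⟩
      | smul c a _ ha =>
        obtain ⟨a', ha'⟩ := ha
        refine ⟨MvPolynomial.C (algebraMap R R' c) * a', ?_⟩
        rw [map_mul, ha', MvPolynomial.aeval_C, Algebra.TensorProduct.algebraMap_apply,
          Algebra.TensorProduct.tmul_mul_tmul, one_mul, Algebra.algebraMap_self, RingHom.id_apply, ← Algebra.smul_def c r',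
          TensorProduct.smul_tmul]
  · intro i
    have h2 : Polynomial.aeval ((1 : R') ⊗ₜ[R] s i) P = 0 := by
      have := Polynomial.aeval_algHom_apply
        (Algebra.TensorProduct.includeRight : S →ₐ[R] R' ⊗[R] S) (s i) P
      rw [hPs, map_zero] at this
      simpa using this
    have h3 := congrArg (Polynomial.aeval ((1 : R') ⊗ₜ[R] s i)) hα
    rw [Polynomial.aeval_map_algebraMap, h2, map_prod] at h3
    simp only [map_sub, Polynomial.aeval_X, Polynomial.aeval_C] at h3
    rw [map_prod]
    simp only [map_sub, MvPolynomial.aeval_X, MvPolynomial.aeval_C]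
    exact h3.symm

end Groth.Agent.S6886
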