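import Groth.Statements.S6887
import Mathlib.LinearAlgebra.Matrix.Charpoly.LinearMap
import Mathlib.RingTheory.Nakayama

set_option autoImplicit false
universe u
open Polynomial
open CAlg

namespace Groth.Agent.S6887

/-- Let `(A, I)` be a Zariski pair (`I` inside the Jacobson radical) and `A → B` a finite ring map.
Suppose `B/IB ≅ B₁ × B₂` as `A`-algebras with `A → B₁` surjective, and `b ∈ B` maps to `(1, 0)`.
Then there is a monic `f ∈ A[x]` with `f(b) = 0` whose reduction modulo `I` is `(x - 1) x^d` for
some `d ≥ 1`. -/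
theorem result (A B : Type u) [CommRing A] [CommRing B]
    [Algebra A B] [Module.Finite A B] (I : Ideal A) (hI : I ≤ Ideal.jacobson (⊥ : Ideal A))
    (B₁ B₂ : Type u) [CommRing B₁] [CommRing B₂] [Algebra A B₁] [Algebra A B₂]
    (e : (B ⧸ I.map (algebraMap A B)) ≃ₐ[A] B₁ × B₂) (h₁ : Function.Surjective (algebraMap A B₁)) (b : B)
    (hb : e (Ideal.Quotient.mk (I.map (algebraMap A B)) b) = (1, 0)) :
    ∃ (f : A[X]) (d : ℕ), f.Monic ∧ Polynomial.aeval b f = 0 ∧ 1 ≤ d ∧
      f.map (Ideal.Quotient.mk I) = (X - 1) * X ^ d := by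
  classical
  let J : Ideal B := I.map (algebraMap A B)
  let π : B →ₐ[A] B ⧸ J := Ideal.Quotient.mkₐ A J
  have hπ : ∀ x, π x = Ideal.Quotient.mk J x := fun _ => rfl
  have hJtop : (I • (⊤ : Submodule A B)) = J.restrictScalars A := Ideal.smul_top_eq_map I
  have hmemJ : ∀ x : B, e (π x) = 0 → x ∈ I • (⊤ : Submodule A B) := by
    intro x hx
    rw [hJtop]
    have : π x = 0 := e.injective (by rw [hx, map_zero])
    exact Ideal.Quotient.eq_zero_iff_mem.mp this
  have hb' : e (π b) = (1, 0) := hb
  -- generators of B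
  obtain ⟨s, hs⟩ := (Module.Finite.fg_top : (⊤ : Submodule A B).FG)
  obtain ⟨m, g, hg⟩ : ∃ (m : ℕ) (g : Fin m → B), Submodule.span A (Set.range g) = ⊤ := by
    refine ⟨s.card, fun i => (s.equivFin.symm i : B), ?_⟩
    rw [← hs]
    congr 1
    ext x
    constructor
    · rintro ⟨i, rfl⟩; exact (s.equivFin.symm i).2
    · intro hx; exact ⟨s.equivFin ⟨x, hx⟩, by simp⟩
  -- new family
  let w : Fin (m + 1 + 1) → B := Fin.cons b (Fin.cons 0 (fun j => (1 - b) * g j))
  have hw0 : w 0 = b := rfl
  have hwsucc : ∀ j : Fin m, w j.succ.succ = (1 - b) * g j := fun j => rfl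
  -- spanning
  have hspan : Submodule.span A (Set.range w) = ⊤ := by
    rw [eq_top_iff]
    refine Submodule.le_of_le_smul_of_le_jacobson_bot Module.Finite.fg_top hI ?_
    intro x _
    obtain ⟨a₁, ha₁⟩ := h₁ (e (π x)).1
    have hx1 : (1 - b) * x ∈ Submodule.span A (Set.range w) := by
      have hxg : x ∈ Submodule.span A (Set.range g) := hg ▸ Submodule.mem_top
      have : (LinearMap.mulLeft A (1 - b)) x ∈
          Submodule.map (LinearMap.mulLeft A (1 - b)) (Submodule.span A (Set.range g)) :=
        Submodule.mem_map_of_mem hxg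
      rw [Submodule.map_span] at this
      refine Submodule.span_mono ?_ this
      rintro _ ⟨_, ⟨j, rfl⟩, rfl⟩
      exact ⟨j.succ.succ, rfl⟩
    have hx2 : a₁ • b ∈ Submodule.span A (Set.range w) :=
      Submodule.smul_mem _ _ (Submodule.subset_span ⟨0, rfl⟩)
    have hx3 : x - (a₁ • b + (1 - b) * x) ∈ I • (⊤ : Submodule A B) := by
      apply hmemJ
      simp only [map_sub, map_add, map_smul, map_mul, map_one, hb']
      ext
      · simp only [Prod.fst_sub, Prod.fst_add, Prod.smul_fst, Prod.fst_mul, Prod.fst_one,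
          Prod.fst_zero]
        rw [Algebra.smul_def, mul_one, ha₁]; ring
      · simp only [Prod.snd_sub, Prod.snd_add, Prod.smul_snd, Prod.snd_mul, Prod.snd_one,
          Prod.snd_zero]
        rw [smul_zero]; ring
    have : x = (a₁ • b + (1 - b) * x) + (x - (a₁ • b + (1 - b) * x)) := by ring
    rw [this]
    exact Submodule.add_mem_sup (Submodule.add_mem _ hx2 hx1) hx3
  -- targets
  let d : Fin (m + 1 + 1) → A := fun i => if i = 0 then 1 else 0
  have htarget : ∀ k, b * w k - d k • w k ∈ I • Submodule.span A (Set.range w) := by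
    intro k
    rw [hspan]
    apply hmemJ
    have hbb : e (π (b * b - b)) = 0 := by
      rw [map_sub, map_sub, map_mul, map_mul, hb']
      ext <;> simp
    refine Fin.cases ?_ (fun k' => Fin.cases ?_ (fun j => ?_) k') k
    · simp only [d, if_true, one_smul, hw0]; exact hbb
    · have hw1 : w (Fin.succ 0) = 0 := rfl
      rw [hw1]
      simp
    · have hd : d j.succ.succ = 0 := by simp [d, Fin.succ_ne_zero]
      rw [hd, zero_smul, sub_zero, hwsucc]
      have : b * ((1 - b) * g j) = -((b * b - b) * g j) := by ring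
      rw [this, map_neg, map_neg, map_mul, map_mul, hbb, zero_mul, neg_zero]
  choose c hcI hc using fun k =>
    (Submodule.mem_ideal_smul_span_iff_exists_sum I w _).mp (htarget k)
  let P : Matrix (Fin (m + 1 + 1)) (Fin (m + 1 + 1)) A :=
    fun i k => c k i + Matrix.diagonal d i k
  have hrep : P.Represents w (Algebra.lmul A B b) := by
    rw [Matrix.represents_iff']
    intro k
    have h1 : ∑ i, P i k • w i = (∑ i, c k i • w i) + ∑ i, Matrix.diagonal d i k • w i := by
      rw [← Finset.sum_add_distrib]
      exact Finset.sum_congr rfl fun i _ => add_smul _ _ _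
    have h2 : ∑ i, Matrix.diagonal d i k • w i = d k • w k := by
      rw [Finset.sum_eq_single k]
      · simp
      · intro i _ hik; simp [Matrix.diagonal_apply_ne _ hik]
      · intro h; exact absurd (Finset.mem_univ k) h
    have h3 : ∑ i, c k i • w i = b * w k - d k • w k := by
      rw [← hc k, Finsupp.sum_fintype]
      intro i; exact zero_smul _ _
    rw [h1, h2, h3]
    simp
  refine ⟨P.charpoly, m + 1, P.charpoly_monic, ?_, Nat.le_add_left 1 m, ?_⟩
  · let P' : Matrix.isRepresentation A w := ⟨P, Algebra.lmul A B b, hrep⟩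
    have hto : Matrix.isRepresentation.toEnd A w hspan P' = Algebra.lmul A B b :=
      Matrix.isRepresentation.eq_toEnd_of_represents A w hspan P' hrep
    have h4 : Polynomial.aeval (Algebra.lmul A B b) P.charpoly = 0 := by
      rw [← hto, Polynomial.aeval_algHom_apply,
        ← map_zero (Matrix.isRepresentation.toEnd A w hspan)]
      congr 1
      ext1
      rw [Polynomial.aeval_subalgebra_coe, Matrix.aeval_self_charpoly, Subalgebra.coe_zero]
    rw [Polynomial.aeval_algHom_apply] at h4
    have h5 := LinearMap.congr_fun h4 1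
    simpa using h5
  · rw [← Matrix.charpoly_map]
    have hPmap : P.map (Ideal.Quotient.mk I) =
        Matrix.diagonal (fun i => Ideal.Quotient.mk I (d i)) := by
      ext i k
      simp only [Matrix.map_apply, P, map_add]
      rw [Ideal.Quotient.eq_zero_iff_mem.mpr (hcI k i), zero_add]
      by_cases hik : i = k
      · subst hik; simp
      · simp [Matrix.diagonal_apply_ne _ hik]
    rw [hPmap, Matrix.charpoly_diagonal, Fin.prod_univ_succ]
    have h6 : ∀ i : Fin (m + 1), (Ideal.Quotient.mk I) (d i.succ) = 0 := by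
      intro i; simp [d, Fin.succ_ne_zero]
    simp only [h6, map_zero, sub_zero, Finset.prod_const, Finset.card_univ, Fintype.card_fin]
    simp [d]

end Groth.Agent.S6887
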