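import Groth.Statements.S6888
import Mathlib.Algebra.Polynomial.Derivative
import Mathlib.Data.Multiset.Fintype
import Mathlib.RingTheory.Idempotents

set_option autoImplicit false
universe u
open Polynomial
open CAlg

namespace Groth.Agent.S6888

theorem idem_unique {A : Type u} [CommRing A] (I : Ideal A)
    (hI : I ≤ Ideal.jacobson (⊥ : Ideal A)) (x y : A) (hx : IsIdempotentElem x)
    (hy : IsIdempotentElem y) (hxy : Ideal.Quotient.mk I x = Ideal.Quotient.mk I y) : x = y := by
  have hmem : x - y ∈ I := Ideal.Quotient.eq.mp hxy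
  have hjac := Ideal.mem_jacobson_bot.mp (hI hmem) (-(x - y))
  have h3 : (x - y) * ((x - y) * -(x - y) + 1) = 0 := by
    have hx' : x * x = x := hx
    have hy' : y * y = y := hy
    have e1 : (x - y) * ((x - y) * -(x - y) + 1) =
        -(x * x * x) + 3 * (x * x) * y - 3 * x * (y * y) + y * y * y + x - y := by ring
    rw [e1, hx', hx', hy', hy']
    have e2 : -x + 3 * x * y - 3 * x * y + y + x - y = 0 := by ring
    exact e2
  have := hjac.mul_left_eq_zero.mp h3
  exact sub_eq_zero.mp this

theorem core {A : Type u} [CommRing A] (I : Ideal A)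
    (hI : I ≤ Ideal.jacobson (⊥ : Ideal A))
    (hidem : ∀ e : A ⧸ I, IsIdempotentElem e → ∃ e' : A, IsIdempotentElem e' ∧
      Ideal.Quotient.mk I e' = e)
    {ι : Type u} [Fintype ι] [DecidableEq ι] (a : ι → A) (a₀ : A)
    (h0 : (∏ i, (X - C (a i))).eval a₀ ∈ I)
    (h1 : IsUnit (Ideal.Quotient.mk I ((∏ i, (X - C (a i))).derivative.eval a₀))) :
    ∃ r : A, (∏ i, (X - C (a i))).IsRoot r ∧ r - a₀ ∈ I := by
  set c : ι → A ⧸ I := fun i => Ideal.Quotient.mk I (a₀ - a i) with hc
  have hprod : ∏ i, c i = 0 := by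
    rw [← map_prod, Ideal.Quotient.eq_zero_iff_mem]
    simpa [eval_prod] using h0
  set P : ι → A ⧸ I := fun i => ∏ j ∈ Finset.univ.erase i, c j with hP
  have hder : Ideal.Quotient.mk I ((∏ i, (X - C (a i))).derivative.eval a₀) = ∑ i, P i := by
    rw [derivative_prod_finset]
    simp [eval_finsetSum, eval_prod, map_sum, map_prod, hP, hc]
  obtain ⟨u, hu⟩ := h1
  have hPc : ∀ i, P i * c i = 0 := fun i => by
    rw [hP]; simp only; rw [Finset.prod_erase_mul _ _ (Finset.mem_univ i)]; exact hprod
  have hPP : ∀ i k, i ≠ k → P i * P k = 0 := by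
    intro i k hik
    have hk : k ∈ Finset.univ.erase i := by simp [hik.symm]
    have : P i = (∏ j ∈ (Finset.univ.erase i).erase k, c j) * c k :=
      (Finset.prod_erase_mul _ _ hk).symm
    rw [this, mul_assoc, mul_comm (c k), hPc k, mul_zero]
  set e : ι → A ⧸ I := fun i => ↑u⁻¹ * P i with he
  have hsum : ∑ i, e i = 1 := by
    rw [he]; simp only; rw [← Finset.mul_sum, ← hder, ← hu, Units.inv_mul]
  have horth : ∀ i k, i ≠ k → e i * e k = 0 := by
    intro i k hik
    rw [he]; simp only
    rw [mul_mul_mul_comm, hPP i k hik, mul_zero]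
  have hidem_e : ∀ i, IsIdempotentElem (e i) := by
    intro i
    have h2 : e i * ∑ k, e k = e i * e i := by
      rw [Finset.mul_sum, Finset.sum_eq_single i]
      · intro k _ hki; exact horth i k (Ne.symm hki)
      · intro h; exact absurd (Finset.mem_univ i) h
    rw [hsum, mul_one] at h2
    exact h2.symm
  have hec : ∀ i, e i * c i = 0 := fun i => by
    rw [he]; simp only; rw [mul_assoc, hPc i, mul_zero]
  choose E hE hEe using fun i => hidem (e i) (hidem_e i)
  have hEorth : ∀ i k, i ≠ k → E i * E k = 0 := by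
    intro i k hik
    apply idem_unique I hI _ _ ((hE i).mul (hE k)) IsIdempotentElem.zero
    rw [map_mul, hEe, hEe, horth i k hik, map_zero]
  have hEmul : ∀ i, E i * ∑ k, E k = E i := by
    intro i
    rw [Finset.mul_sum, Finset.sum_eq_single i]
    · exact hE i
    · intro k _ hki; exact hEorth i k (Ne.symm hki)
    · intro h; exact absurd (Finset.mem_univ i) h
  have hEsum : ∑ i, E i = 1 := by
    apply idem_unique I hI _ _ ?_ IsIdempotentElem.one
    · rw [map_sum, map_one]; simp only [hEe]; exact hsum
    · rw [IsIdempotentElem, Finset.sum_mul]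
      exact Finset.sum_congr rfl fun i _ => hEmul i
  have hEr : ∀ i, E i * ∑ k, E k * a k = E i * a i := by
    intro i
    rw [Finset.mul_sum, Finset.sum_eq_single i]
    · rw [← mul_assoc, (hE i).eq]
    · intro k _ hki; rw [← mul_assoc, hEorth i k (Ne.symm hki), zero_mul]
    · intro h; exact absurd (Finset.mem_univ i) h
  refine ⟨∑ i, E i * a i, ?_, ?_⟩
  · rw [IsRoot.def, eval_prod]
    simp only [eval_sub, eval_X, eval_C]
    have h3 : ∀ i, E i * ∏ j, ((∑ k, E k * a k) - a j) = 0 := by
      intro i
      rw [← Finset.prod_erase_mul _ _ (Finset.mem_univ i), mul_comm, mul_assoc,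
        mul_comm _ (E i), mul_sub, hEr i, sub_self, mul_zero]
    calc ∏ j, ((∑ k, E k * a k) - a j) = (∑ i, E i) * ∏ j, ((∑ k, E k * a k) - a j) := by
          rw [hEsum, one_mul]
      _ = 0 := by rw [Finset.sum_mul]; exact Finset.sum_eq_zero fun i _ => h3 i
  · rw [← Ideal.Quotient.eq_zero_iff_mem]
    have h4 : (∑ i, E i * a i) - a₀ = -∑ i, E i * (a₀ - a i) := by
      simp only [mul_sub, Finset.sum_sub_distrib, ← Finset.sum_mul, hEsum, one_mul]
      ring
    rw [h4, map_neg, map_sum, neg_eq_zero]
    apply Finset.sum_eq_zero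
    intro i _
    rw [map_mul, hEe]
    exact hec i

/-- Let `A` be absolutely integrally closed (every monic polynomial over `A` is a product of linear
factors) and `I ⊆ A` an ideal contained in the Jacobson radical such that `A → A/I` is surjective
(hence bijective) on idempotents. Then `(A, I)` is a henselian pair. (The published statement also
records the converse, which holds for every henselian pair; this row states the sufficiency only.) -/
theorem result (A : Type u) [CommRing A]
    (hA : ∀ f : A[X], f.Monic → ∃ s : Multiset A, f = (s.map fun a => X - C a).prod) (I : Ideal A)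
    (hI : I ≤ Ideal.jacobson (⊥ : Ideal A))
    (hidem : ∀ e : A ⧸ I, IsIdempotentElem e → ∃ e' : A, IsIdempotentElem e' ∧ Ideal.Quotient.mk I e' = e) :
    HenselianRing A I := by
  classical
  refine ⟨hI, ?_⟩
  intro f hf a₀ h0 h1
  obtain ⟨s, rfl⟩ := hA f hf
  have hs : (s.map fun a => X - C a).prod = ∏ i : s.ToType, (X - C (i : A)) := by
    rw [← Multiset.map_univ_comp_coe s (fun a => X - C a)]
    rfl
  rw [hs] at h0 h1 ⊢
  exact core I hI hidem (fun i : s.ToType => (i : A)) a₀ h0 h1

end Groth.Agent.S6888
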