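import Groth.Statements.S6893
import Mathlib.RingTheory.Flat.Tensor
import Mathlib.LinearAlgebra.TensorProduct.RightExactness
import Mathlib.LinearAlgebra.TensorProduct.Tower

set_option autoImplicit false
universe u
open TensorProduct
open CAlg

namespace Groth.Agent.S6893

/-- Comparison of the two ways of tensoring an ideal of an `R`-algebra `A` with `M`. -/
theorem sq {R : Type u} [CommRing R] (A : Type u) [CommRing A] [Algebra R A]
    (M : Type u) [AddCommGroup M] [Module R M] (J : Ideal A) :
    Function.Injective (LinearMap.rTensor (A ⊗[R] M) (Submodule.subtype J)) ↔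
    Function.Injective (LinearMap.rTensor M ((Submodule.subtype J).restrictScalars R)) := by
  let e₁ := TensorProduct.AlgebraTensorModule.cancelBaseChange R A A J M
  let e₂ := TensorProduct.AlgebraTensorModule.cancelBaseChange R A A A M
  have hcomm : ∀ z, e₂ (LinearMap.rTensor (A ⊗[R] M) (Submodule.subtype J) z) =
      LinearMap.rTensor M ((Submodule.subtype J).restrictScalars R) (e₁ z) := by
    intro z
    induction z using TensorProduct.induction_on with
    | zero => simp
    | add a b ha hb => simp only [map_add, ha, hb]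
    | tmul k w =>
      induction w using TensorProduct.induction_on with
      | zero => simp
      | add a b ha hb => simp only [TensorProduct.tmul_add, map_add, ha, hb]
      | tmul a m =>
        simp [e₁, e₂]
  constructor
  · intro h a b hab
    obtain ⟨a', rfl⟩ := e₁.surjective a
    obtain ⟨b', rfl⟩ := e₁.surjective b
    rw [← hcomm, ← hcomm] at hab
    rw [h (e₂.injective hab)]
  · intro h a b hab
    apply e₁.injective
    apply h
    rw [← hcomm, ← hcomm, hab]

/-- If `M/IM` is flat over `R/I`, then tensoring with `M` over `R` preserves injectivity of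
`R`-linear maps into `R/I`. -/
theorem L {R : Type u} [CommRing R] (M : Type u) [AddCommGroup M] [Module R M]
    (I : Ideal R) [Module.Flat (R ⧸ I) ((R ⧸ I) ⊗[R] M)]
    {N' : Type u} [AddCommGroup N'] [Module R N'] (f : N' →ₗ[R] (R ⧸ I))
    (hf : Function.Injective f) : Function.Injective (f.rTensor M) := by
  let K' : Ideal (R ⧸ I) :=
    { carrier := Set.range f
      add_mem' := by
        rintro _ _ ⟨a, rfl⟩ ⟨b, rfl⟩
        exact ⟨a + b, map_add _ _ _⟩
      zero_mem' := ⟨0, map_zero _⟩
      smul_mem' := by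
        rintro c _ ⟨n, rfl⟩
        obtain ⟨r, rfl⟩ := Ideal.Quotient.mk_surjective c
        refine ⟨r • n, ?_⟩
        rw [map_smul]
        rfl }
  let e : N' →ₗ[R] K' :=
    { toFun := fun n => ⟨f n, n, rfl⟩
      map_add' := fun a b => Subtype.ext (map_add f a b)
      map_smul' := fun r a => Subtype.ext (map_smul f r a) }
  have he : Function.Bijective e := by
    constructor
    · intro a b hab
      exact hf (congrArg Subtype.val hab)
    · rintro ⟨_, n, rfl⟩
      exact ⟨n, rfl⟩
  have hfe : f = ((Submodule.subtype K').restrictScalars R) ∘ₗ e := by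
    ext n
    rfl
  have h1 : Function.Injective (LinearMap.rTensor M ((Submodule.subtype K').restrictScalars R)) :=
    (sq (R ⧸ I) M K').mp
      (Module.Flat.rTensor_preserves_injective_linearMap _ Subtype.val_injective)
  have h2 : Function.Injective (e.rTensor M) := by
    have : (e.rTensor M) = ((LinearEquiv.ofBijective e he).rTensor M : _ →ₗ[R] _) := by
      ext; simp
    rw [this]
    exact (LinearEquiv.rTensor M (LinearEquiv.ofBijective e he)).injective
  rw [hfe, LinearMap.rTensor_comp]
  exact h1.comp h2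

/-- Let `M` be a module over a ring `R` and `I₁, I₂ ⊆ R` ideals. Suppose flatness of `M/I₁M` as an
`R/I₁`-module holds, and likewise `M/I₂M` is a flat `R/I₂`-module; then the quotient `M/(I₁ ∩ I₂)M`
is also flat as a module over `R/(I₁ ∩ I₂)`. -/
theorem result {R : Type u} [CommRing R] (M : Type u) [AddCommGroup M] [Module R M]
    (I₁ I₂ : Ideal R) [Module.Flat (R ⧸ I₁) ((R ⧸ I₁) ⊗[R] M)] [Module.Flat (R ⧸ I₂) ((R ⧸ I₂) ⊗[R] M)] :
    Module.Flat (R ⧸ (I₁ ⊓ I₂)) ((R ⧸ (I₁ ⊓ I₂)) ⊗[R] M) := by
  rw [Module.Flat.iff_rTensor_injective']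
  intro J
  rw [sq]
  set g : J →ₗ[R] (R ⧸ (I₁ ⊓ I₂)) := (Submodule.subtype J).restrictScalars R with hgdef
  have hg : Function.Injective g := Subtype.val_injective
  let π₁ : (R ⧸ (I₁ ⊓ I₂)) →ₗ[R] (R ⧸ I₁) :=
    (Ideal.Quotient.factorₐ R (inf_le_left : I₁ ⊓ I₂ ≤ I₁)).toLinearMap
  let π₂ : (R ⧸ (I₁ ⊓ I₂)) →ₗ[R] (R ⧸ I₂) :=
    (Ideal.Quotient.factorₐ R (inf_le_right : I₁ ⊓ I₂ ≤ I₂)).toLinearMap
  rw [injective_iff_map_eq_zero]
  intro x hx
  let p₁ := (π₁ ∘ₗ g).rangeRestrict
  have h1 : (LinearMap.range (π₁ ∘ₗ g)).subtype ∘ₗ p₁ = π₁ ∘ₗ g := by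
    ext k; rfl
  have hK₁ := L M I₁ (LinearMap.range (π₁ ∘ₗ g)).subtype Subtype.val_injective
  have h2 : p₁.rTensor M x = 0 := by
    apply hK₁
    rw [map_zero, ← LinearMap.comp_apply, ← LinearMap.rTensor_comp, h1, LinearMap.rTensor_comp,
      LinearMap.comp_apply, hx, map_zero]
  have hex : Function.Exact ((LinearMap.ker p₁).subtype.rTensor M) (p₁.rTensor M) :=
    rTensor_exact M (LinearMap.exact_subtype_ker_map p₁) (LinearMap.surjective_rangeRestrict _)
  obtain ⟨y, rfl⟩ := (hex x).mp h2
  let ι : LinearMap.ker p₁ →ₗ[R] (R ⧸ I₂) := π₂ ∘ₗ g ∘ₗ (LinearMap.ker p₁).subtype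
  have hι : Function.Injective ι := by
    rw [injective_iff_map_eq_zero]
    rintro ⟨k, hk⟩ h
    have hk1 : π₁ (g k) = 0 := by
      have := congrArg Subtype.val (LinearMap.mem_ker.mp hk)
      simpa [p₁] using this
    have hk2 : π₂ (g k) = 0 := h
    obtain ⟨r, hr⟩ := Ideal.Quotient.mk_surjective (g k)
    rw [← hr] at hk1 hk2
    have hr1 : r ∈ I₁ := by
      rw [← Ideal.Quotient.eq_zero_iff_mem]
      exact hk1
    have hr2 : r ∈ I₂ := by
      rw [← Ideal.Quotient.eq_zero_iff_mem]
      exact hk2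
    have : g k = 0 := by
      rw [← hr, Ideal.Quotient.eq_zero_iff_mem]
      exact ⟨hr1, hr2⟩
    apply Subtype.ext
    exact hg (this.trans (map_zero g).symm)
  have hy : ι.rTensor M y = 0 := by
    simp only [ι, LinearMap.rTensor_comp, LinearMap.comp_apply]
    rw [hx, map_zero]
  have hL₂ := L M I₂ ι hι
  rw [hL₂ (hy.trans (map_zero _).symm), map_zero]

end Groth.Agent.S6893
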