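import Groth.Statements.S6894
import Groth.Agent.Helper19.FittLib4
-- import your own Groth.Agent.* helpers here

set_option autoImplicit false
universe u
open TensorProduct
open Fitt

namespace Groth.Agent.S6894

open Groth.Agent.Helper19.FittLib

/-- Let `M` be a finite `R`-module, `k ≥ 0` and `𝔭 ⊆ R` a prime. Then each of the following conditions
implies all the others: the Fitting ideal `Fit_k(M)` is not contained in `𝔭`; the fiber `M ⊗_R κ(𝔭)`
has dimension at most `k` over `κ(𝔭)`; some `k` elements span the localization `M_𝔭` over `R_𝔭`; and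
for some `f ∉ 𝔭`, the module `M_f` is spanned over `R_f` by `k` elements. -/
theorem result {R : Type u} [CommRing R] (M : Type u) [AddCommGroup M] [Module R M]
    [Module.Finite R M] (k : ℕ) (p : Ideal R) [p.IsPrime] :
    (¬ Fitt.ideal R M k ≤ p ↔ Module.finrank p.ResidueField (p.ResidueField ⊗[R] M) ≤ k) ∧
    (¬ Fitt.ideal R M k ≤ p ↔
      ∃ g : Fin k → LocalizedModule p.primeCompl M, Submodule.span (Localization.AtPrime p) (Set.range g) = ⊤) ∧
    (¬ Fitt.ideal R M k ≤ p ↔ ∃ f : R, f ∉ p ∧
      ∃ g : Fin k → LocalizedModule (Submonoid.powers f) M,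
        Submodule.span (Localization.Away f) (Set.range g) = ⊤) := by
  have key2 : ∀ S : Submonoid R, (∀ d ∈ S, d ∉ p) →
      (∃ g : Fin k → LocalizedModule S M, Submodule.span (Localization S) (Set.range g) = ⊤) →
      ¬ Fitt.ideal R M k ≤ p := by
    rintro S hS ⟨g, hg⟩ hle
    obtain ⟨d, hdS, hd⟩ := not_le_of_localized_eq_top S k (ideal_eq_top_of_le g hg le_rfl)
    exact hS d hdS (hle hd)
  obtain ⟨n, x, hx⟩ := Module.Finite.exists_fin (R := R) (M := M)
  refine ⟨?_, ⟨fun h => ?_, key2 p.primeCompl (fun d hd => hd)⟩, ⟨fun h => ?_, ?_⟩⟩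
  · have hbc := ideal_baseChange (R := R) (M := M) p.ResidueField k
    have hb := ideal_of_basis (Module.finBasis p.ResidueField (p.ResidueField ⊗[R] M)) k
    constructor
    · intro h
      by_contra hlt
      rw [if_neg hlt] at hb
      rw [hb] at hbc
      apply h
      rw [← Ideal.ker_algebraMap_residueField p]
      exact (Ideal.map_eq_bot_iff_le_ker _).mp hbc.symm
    · intro hle h
      rw [if_pos hle] at hb
      rw [hb] at hbc
      have : (Fitt.ideal R M k).map (algebraMap R p.ResidueField) = ⊥ :=
        (Ideal.map_eq_bot_iff_le_ker _).mpr (by rwa [Ideal.ker_algebraMap_residueField])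
      rw [this] at hbc
      exact top_ne_bot hbc
  · obtain ⟨z, e, hz, he, hd⟩ := exists_minor_notMem x hx k p h
    exact exists_span_localized x hx k z e hz he p.primeCompl hd
  · obtain ⟨z, e, hz, he, hd⟩ := exists_minor_notMem x hx k p h
    exact ⟨minor z e, hd, exists_span_localized x hx k z e hz he _ (Submonoid.mem_powers _)⟩
  · rintro ⟨f, hf, hg⟩
    refine key2 (Submonoid.powers f) ?_ hg
    rintro d ⟨m, rfl⟩ h
    exact hf (Ideal.IsPrime.mem_of_pow_mem inferInstance m h)

end Groth.Agent.S6894
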