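import Groth.Statements.S6895
import Groth.Agent.Helper19.FittLib4
-- import your own Groth.Agent.* helpers here

set_option autoImplicit false
universe u
open Fitt

namespace Groth.Agent.S6895

open Groth.Agent.Helper19.FittLib

section helpers

variable {R : Type u} [CommRing R]

lemma nontrivial_away {p : Ideal R} [p.IsPrime] {f : R} (hf : f ∉ p) :
    Nontrivial (Localization.Away f) := by
  rw [← not_subsingleton_iff_nontrivial,
    IsLocalization.subsingleton_iff (M := Submonoid.powers f)]
  rintro ⟨m, hm⟩
  apply hf
  apply Ideal.IsPrime.mem_of_pow_mem (I := p) inferInstance m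
  simp only at hm
  rw [hm]
  exact zero_mem _

end helpers

/-- (1) ⇔ (3): let `M` be a finite `R`-module and `r ≥ 0`. Then `M` is finite locally free of rank `r`
(every prime has a basic open neighbourhood `D(f)` with `M_f` free of rank `r` over `R_f`) if and
only if `Fit_k(M) = 0` for `k < r` and `Fit_k(M) = R` for `k ≥ r`. -/
theorem result {R : Type u} [CommRing R] (M : Type u) [AddCommGroup M] [Module R M]
    [Module.Finite R M] (r : ℕ) :
    (∀ (p : Ideal R) [p.IsPrime], ∃ f : R, f ∉ p ∧
      Module.Free (Localization.Away f) (LocalizedModule (Submonoid.powers f) M) ∧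
        Module.finrank (Localization.Away f) (LocalizedModule (Submonoid.powers f) M) = r) ↔
    ((∀ k, k < r → Fitt.ideal R M k = ⊥) ∧ (∀ k, r ≤ k → Fitt.ideal R M k = ⊤)) := by
  constructor
  · intro h
    have hloc : ∀ (p : Ideal R) [p.IsPrime] (k : ℕ), ∃ f : R, f ∉ p ∧
        (Fitt.ideal R M k).map (algebraMap R (Localization.Away f)) =
          if r ≤ k then ⊤ else ⊥ := by
      intro p _ k
      obtain ⟨f, hf, hfree, hrank⟩ := h p
      refine ⟨f, hf, ?_⟩
      rw [← ideal_localized (Submonoid.powers f) k]
      have := nontrivial_away hf
      have := ideal_of_basis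
        (Module.finBasis (Localization.Away f) (LocalizedModule (Submonoid.powers f) M)) k
      rw [hrank] at this
      exact this
    constructor
    · intro k hk
      rw [eq_bot_iff]
      intro a ha
      rw [Ideal.mem_bot]
      by_contra ha0
      have hne : Ideal.span {a} ≠ ⊥ := by
        rwa [Ne, Ideal.span_singleton_eq_bot]
      have hann : (Ideal.span {a}).annihilator ≠ ⊤ := by
        intro htop
        apply ha0
        have : (1 : R) ∈ (Ideal.span {a}).annihilator := by rw [htop]; trivial
        rw [Submodule.mem_annihilator_span_singleton] at this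
        simpa using this
      obtain ⟨p, hpmax, hp⟩ := Ideal.exists_le_maximal _ hann
      have := hpmax.isPrime
      obtain ⟨f, hf, hmap⟩ := hloc p k
      rw [if_neg (by omega)] at hmap
      have h0 : algebraMap R (Localization.Away f) a = 0 := by
        have : algebraMap R (Localization.Away f) a ∈
            (Fitt.ideal R M k).map (algebraMap R (Localization.Away f)) :=
          Ideal.mem_map_of_mem _ ha
        rwa [hmap, Ideal.mem_bot] at this
      rw [IsLocalization.map_eq_zero_iff (Submonoid.powers f)] at h0
      obtain ⟨⟨_, m, rfl⟩, hm⟩ := h0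
      apply hf
      apply Ideal.IsPrime.mem_of_pow_mem (I := p) inferInstance m
      apply hp
      rw [Submodule.mem_annihilator_span_singleton]
      exact hm
    · intro k hk
      by_contra hne
      obtain ⟨p, hpmax, hp⟩ := Ideal.exists_le_maximal _ hne
      have := hpmax.isPrime
      obtain ⟨f, hf, hmap⟩ := hloc p k
      rw [if_pos hk, ← ideal_localized (Submonoid.powers f) k] at hmap
      obtain ⟨_, ⟨m, rfl⟩, hd⟩ := not_le_of_localized_eq_top _ k hmap
      exact hf (Ideal.IsPrime.mem_of_pow_mem inferInstance m (hp hd))
  · rintro ⟨h1, h2⟩ p _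
    obtain ⟨n, x, hx⟩ := Module.Finite.exists_fin (R := R) (M := M)
    have hnot : ¬ Fitt.ideal R M r ≤ p := by
      rw [h2 r le_rfl]
      intro h
      exact Ideal.IsPrime.ne_top inferInstance (top_le_iff.mp h)
    obtain ⟨z, e, hz, he, hd⟩ := exists_minor_notMem x hx r p hnot
    obtain ⟨g, hg⟩ := exists_span_localized x hx r z e hz he (Submonoid.powers (minor z e))
      (Submonoid.mem_powers _)
    refine ⟨minor z e, hd, ?_⟩
    have hli : LinearIndependent (Localization.Away (minor z e)) g := by
      refine linearIndependent_of_ideal_eq_bot g hg ?_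
      by_cases hr : r = 0
      · exact Or.inl hr
      · right
        rw [ideal_localized, h1 (r - 1) (by omega), Ideal.map_bot]
    have := nontrivial_away hd
    let b : Module.Basis (Fin r) (Localization.Away (minor z e))
        (LocalizedModule (Submonoid.powers (minor z e)) M) :=
      Module.Basis.mk hli (by rw [hg])
    refine ⟨Module.Free.of_basis b, ?_⟩
    rw [Module.finrank_eq_card_basis b, Fintype.card_fin]

end Groth.Agent.S6895
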