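import Groth.Statements.S6896
import Groth.Agent.Helper19.FittLib4
-- import your own Groth.Agent.* helpers here

set_option autoImplicit false
universe u
open Fitt

namespace Groth.Agent.S6896

open Groth.Agent.Helper19.FittLib

section helpers

variable {R : Type u} [CommRing R] [IsLocalRing R]

/-- In a local ring, a nonzero principal ideal generated by a set `G` contains a generator which
is a unit multiple of `f`. -/
lemma exists_unit_mul_of_span_eq (G : Set R) (f : R) (hf : f ≠ 0)
    (hG : Ideal.span G = Ideal.span {f}) : ∃ d ∈ G, ∃ u : R, IsUnit u ∧ d = f * u := by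
  by_contra hcon
  push Not at hcon
  have hsub : G ⊆ ((IsLocalRing.maximalIdeal R) * Ideal.span {f} : Ideal R) := by
    intro d hd
    have hdf : d ∈ Ideal.span {f} := by
      rw [← hG]
      exact Ideal.subset_span hd
    obtain ⟨c, rfl⟩ := Ideal.mem_span_singleton'.mp hdf
    have hc : c ∈ IsLocalRing.maximalIdeal R := by
      rw [IsLocalRing.mem_maximalIdeal, mem_nonunits_iff]
      intro hu
      exact hcon _ hd c hu (mul_comm c f)
    exact Ideal.mul_mem_mul hc (Ideal.mem_span_singleton_self f)
  have hle : Ideal.span {f} ≤ (IsLocalRing.maximalIdeal R) • (Ideal.span {f} : Ideal R) := by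
    rw [← hG, Ideal.span_le, smul_eq_mul, hG]
    exact hsub
  have := Submodule.eq_bot_of_le_smul_of_le_jacobson_bot (IsLocalRing.maximalIdeal R)
    (Ideal.span {f}) (Submodule.fg_span_singleton f) hle
    (by rw [IsLocalRing.jacobson_eq_maximalIdeal ⊥ bot_ne_top])
  apply hf
  rw [← Ideal.span_singleton_eq_bot]
  exact this

end helpers

/-- Let `R` be a local ring, `M` a finite `R`-module and `k ≥ 0` with `Fit_k(M) = (f)` principal. Then
the quotient `M'` of `M` by the submodule `{x ∈ M | f x = 0}` can be generated by `k` elements. -/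
theorem result {R : Type u} [CommRing R] [IsLocalRing R]
    (M : Type u) [AddCommGroup M] [Module R M] [Module.Finite R M] (k : ℕ) (f : R)
    (hf : Fitt.ideal R M k = Ideal.span {f}) :
    ∃ g : Fin k → M ⧸ LinearMap.ker (f • (LinearMap.id : M →ₗ[R] M)),
      Submodule.span R (Set.range g) = ⊤ := by
  classical
  by_cases hf0 : f = 0
  · refine ⟨fun _ => 0, ?_⟩
    rw [eq_top_iff]
    rintro y -
    obtain ⟨m, rfl⟩ := Submodule.Quotient.mk_surjective _ y
    have : (Submodule.Quotient.mk m : M ⧸ LinearMap.ker (f • (LinearMap.id : M →ₗ[R] M))) = 0 := by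
      rw [Submodule.Quotient.mk_eq_zero, LinearMap.mem_ker, hf0]
      simp
    rw [this]
    exact zero_mem _
  · obtain ⟨n, x, hx⟩ := Module.Finite.exists_fin (R := R) (M := M)
    have hMn : Mn R x (n - k) = Ideal.span {f} := by rw [← ideal_eq_Mn x hx k, hf]
    obtain ⟨_, ⟨z, e, hz, rfl⟩, u, hu, hd⟩ := exists_unit_mul_of_span_eq _ f hf0 hMn
    change minor z e = f * u at hd
    have he : Function.Injective e := by
      by_contra he
      rw [minor_eq_zero_of_not_injective z e he] at hd
      exact hf0 ((hu.mul_left_eq_zero).mp hd.symm)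
    obtain ⟨K, hK⟩ : ∃ K, K = LinearMap.ker (f • (LinearMap.id : M →ₗ[R] M)) := ⟨_, rfl⟩
    rw [← hK]
    -- coefficients
    have hc : ∀ (a : Fin (n - k)) (i : Fin n), ∃ c : R, minor z (Function.update e a i) = f * c := by
      intro a i
      have : minor z (Function.update e a i) ∈ Ideal.span {f} := by
        rw [← hMn]
        exact minor_mem x z hz _
      obtain ⟨c, hc⟩ := Ideal.mem_span_singleton'.mp this
      exact ⟨c, by rw [← hc, mul_comm]⟩
    choose c hc using hc
    have hmem : ∀ a : Fin (n - k),
        u • x (e a) + ∑ i ∈ (Finset.univ.image e)ᶜ, c a i • x i ∈ K := by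
      intro a
      rw [hK, LinearMap.mem_ker, LinearMap.smul_apply, LinearMap.id_apply, smul_add,
        Finset.smul_sum]
      have h := cramer_rel' x z hz e he a
      rw [hd] at h
      simp only [hc, mul_smul] at h
      exact h
    obtain ⟨N, hN⟩ : ∃ N, N = Submodule.span R
        ((fun i => (Submodule.Quotient.mk (x i) : M ⧸ K)) '' ((Finset.univ.image e)ᶜ : Finset (Fin n)))
        := ⟨_, rfl⟩
    have hx_mem : ∀ j, (Submodule.Quotient.mk (x j) : M ⧸ K) ∈ N := by
      intro j
      by_cases hj : j ∈ Finset.univ.image e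
      · obtain ⟨a, -, rfl⟩ := Finset.mem_image.mp hj
        have h1 : (Submodule.Quotient.mk (u • x (e a) +
            ∑ i ∈ (Finset.univ.image e)ᶜ, c a i • x i) : M ⧸ K) = 0 :=
          (Submodule.Quotient.mk_eq_zero K).mpr (hmem a)
        rw [Submodule.Quotient.mk_add, Submodule.Quotient.mk_smul, add_eq_zero_iff_eq_neg] at h1
        obtain ⟨u', rfl⟩ := hu
        have h2 : (Submodule.Quotient.mk (x (e a)) : M ⧸ K) =
            (↑u'⁻¹ : R) • ((u' : R) • (Submodule.Quotient.mk (x (e a)) : M ⧸ K)) := by
          rw [smul_smul, Units.inv_mul, one_smul]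
        rw [h2, h1]
        refine Submodule.smul_mem _ _ (Submodule.neg_mem _ ?_)
        rw [← Submodule.mkQ_apply, map_sum (Submodule.mkQ K)]
        refine Submodule.sum_mem _ fun i hi => ?_
        rw [Submodule.mkQ_apply, Submodule.Quotient.mk_smul]
        refine Submodule.smul_mem _ _ ?_
        rw [hN]
        exact Submodule.subset_span ⟨i, hi, rfl⟩
      · rw [hN]
        exact Submodule.subset_span ⟨j, by simpa using hj, rfl⟩
    have hNtop : N = ⊤ := by
      rw [eq_top_iff]
      rintro y -
      obtain ⟨m, rfl⟩ := Submodule.Quotient.mk_surjective _ y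
      have hm : m ∈ Submodule.span R (Set.range x) := by rw [hx]; trivial
      induction hm using Submodule.span_induction with
      | mem y hy =>
        obtain ⟨j, rfl⟩ := hy
        exact hx_mem j
      | zero => exact zero_mem _
      | add y y' _ _ hy hy' => rw [Submodule.Quotient.mk_add]; exact add_mem hy hy'
      | smul c y _ hy => rw [Submodule.Quotient.mk_smul]; exact Submodule.smul_mem _ _ hy
    refine exists_fin_of_card_le
      (((Finset.univ.image e)ᶜ : Finset (Fin n)).image
        (fun i => (Submodule.Quotient.mk (x i) : M ⧸ K))) k ?_ ?_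
    · refine (card_image_compl_le _ e he).trans ?_
      omega
    · rw [Finset.coe_image, ← hN, hNtop]

end Groth.Agent.S6896
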