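import Groth.Statements.S6897
import Groth.Agent.Helper19.FittLib5
import Groth.Agent.S6895
-- import your own Groth.Agent.* helpers here

set_option autoImplicit false
universe u
open CategoryTheory
open Fitt

namespace Groth.Agent.S6897

open Groth.Agent.Helper19.FittLib

section helpers

variable {R : Type u} [CommRing R] {M : Type u} [AddCommGroup M] [Module R M]

lemma ideal_eq_bot_of_subsingleton (h : (⊤ : Ideal R) = ⊥) (I : Ideal R) : I = ⊥ := by
  rw [eq_bot_iff, ← h]
  exact le_top

/-- short exact sequence gives pd ≤ 1 when the kernel is projective -/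
lemma pd_of_projective_ker {n : ℕ} (π : (Fin n → R) →ₗ[R] M) (hπ : Function.Surjective π)
    (hK : Module.Projective R (LinearMap.ker π)) :
    HasProjectiveDimensionLT (ModuleCat.of R M) 2 := by
  have hS := LinearMap.shortExact_shortComplexKer hπ
  have h1 : Projective π.shortComplexKer.X₁ :=
    (IsProjective.iff_projective (R := R) (LinearMap.ker π)).mp hK
  have h2 : Projective π.shortComplexKer.X₂ :=
    (IsProjective.iff_projective (R := R) (Fin n → R)).mp inferInstance
  exact hS.hasProjectiveDimensionLT_X₃ 1 inferInstance inferInstance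

end helpers

/-- Let `M` be a finitely presented `R`-module and `k ≥ 0` such that `Fit_k(M) = (f)` for a
nonzerodivisor `f` and `Fit_{k-1}(M) = 0` (no condition when `k = 0`). Let `M' = Ker(f : M → M)`.
Then: the projective dimension of `M` is at most `1`; `M'` coincides with the `f`-power torsion of
`M` and its projective dimension is at most `1`; every prime of `R` has a basic open neighbourhood
over which `M/M'` is free of rank `k`; and `M ≅ M/M' ⊕ M'` (existence of an isomorphism). -/
theorem result {R : Type u} [CommRing R] (M : Type u)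
    [AddCommGroup M] [Module R M] [Module.FinitePresentation R M] (k : ℕ) (f : R) (hf0 : f ∈ nonZeroDivisors R)
    (hf : Fitt.ideal R M k = Ideal.span {f}) (hk : k = 0 ∨ Fitt.ideal R M (k - 1) = ⊥) :
    HasProjectiveDimensionLT (ModuleCat.of R M) 2 ∧
    (∀ x : M, (∃ n : ℕ, f ^ n • x = 0) ↔ f • x = 0) ∧
    HasProjectiveDimensionLT (ModuleCat.of R ↥(LinearMap.ker (f • (LinearMap.id : M →ₗ[R] M)))) 2 ∧
    (∀ (p : Ideal R) [p.IsPrime], ∃ g : R, g ∉ p ∧
      Module.Free (Localization.Away g)
          (LocalizedModule (Submonoid.powers g) (M ⧸ LinearMap.ker (f • (LinearMap.id : M →ₗ[R] M)))) ∧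
        Module.finrank (Localization.Away g)
          (LocalizedModule (Submonoid.powers g) (M ⧸ LinearMap.ker (f • (LinearMap.id : M →ₗ[R] M)))) = k) ∧
    Nonempty (M ≃ₗ[R] (M ⧸ LinearMap.ker (f • (LinearMap.id : M →ₗ[R] M))) ×
      ↥(LinearMap.ker (f • (LinearMap.id : M →ₗ[R] M)))) := by
  obtain ⟨n, x, hx⟩ := Module.Finite.exists_fin (R := R) (M := M)
  have hMs : Mn R x (n - k) = Ideal.span {f} := by rw [← ideal_eq_Mn x hx k, hf]
  have hMs1 : Mn R x (n - k + 1) = ⊥ := by
    rcases hk with rfl | hk
    · exact Mn_eq_bot_of_card_lt x (by simp)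
    · rw [ideal_eq_Mn x hx (k - 1)] at hk
      by_cases hkn : k = 0
      · subst hkn
        exact Mn_eq_bot_of_card_lt x (by simp)
      · by_cases hkn' : k ≤ n
        · rwa [show n - (k - 1) = n - k + 1 by omega] at hk
        · rw [show n - (k - 1) = 0 by omega, Mn_zero] at hk
          exact ideal_eq_bot_of_subsingleton hk _
  have hy : Submodule.span R (Set.range (yq x f)) = ⊤ := by
    have : yq x f = (Submodule.mkQ (LinearMap.ker (f • (LinearMap.id : M →ₗ[R] M)))) ∘ x := rfl
    rw [this, Set.range_comp, ← Submodule.map_span, hx, Submodule.map_top, Submodule.range_mkQ]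
  have hNk : Fitt.ideal R (M ⧸ LinearMap.ker (f • (LinearMap.id : M →ₗ[R] M))) k = ⊤ := by
    rw [ideal_eq_Mn (yq x f) hy k]
    exact Mn_yq_eq_top x f hf0 hMs
  have hN1 : k = 0 ∨ Fitt.ideal R (M ⧸ LinearMap.ker (f • (LinearMap.id : M →ₗ[R] M))) (k - 1) = ⊥ := by
    rcases hk with h | h
    · exact Or.inl h
    · right
      rw [ideal_eq_Mn (yq x f) hy (k - 1)]
      apply Mn_yq_eq_bot x f hf0
      rw [← ideal_eq_Mn x hx (k - 1)]
      exact h
  have hN0 : ∀ k', k' < k →
      Fitt.ideal R (M ⧸ LinearMap.ker (f • (LinearMap.id : M →ₗ[R] M))) k' = ⊥ := by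
    intro k' hk'
    rcases hN1 with h | h
    · omega
    · rw [eq_bot_iff, ← h]
      exact ideal_mono (by omega)
  have hNtop : ∀ k', k ≤ k' →
      Fitt.ideal R (M ⧸ LinearMap.ker (f • (LinearMap.id : M →ₗ[R] M))) k' = ⊤ := by
    intro k' h
    rw [eq_top_iff, ← hNk]
    exact ideal_mono h
  have h4 := (Groth.Agent.S6895.result
    (M ⧸ LinearMap.ker (f • (LinearMap.id : M →ₗ[R] M))) k).mpr ⟨hN0, hNtop⟩
  have hFP : Module.FinitePresentation R (M ⧸ LinearMap.ker (f • (LinearMap.id : M →ₗ[R] M))) := by
    refine Module.FinitePresentation.of_localizationSpan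
      {g : R | Module.Free (Localization.Away g) (LocalizedModule (Submonoid.powers g)
        (M ⧸ LinearMap.ker (f • (LinearMap.id : M →ₗ[R] M))))} ?_ ?_
    · by_contra hne
      obtain ⟨p, hpmax, hp⟩ := Ideal.exists_le_maximal _ hne
      have := hpmax.isPrime
      obtain ⟨g, hg, hfree, -⟩ := h4 p
      exact hg (hp (Ideal.subset_span hfree))
    · rintro ⟨g, hg⟩
      have : Module.Free (Localization.Away g) (LocalizedModule (Submonoid.powers g)
        (M ⧸ LinearMap.ker (f • (LinearMap.id : M →ₗ[R] M)))) := hg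
      exact Module.finitePresentation_of_projective _ _
  have hproj : Module.Projective R (M ⧸ LinearMap.ker (f • (LinearMap.id : M →ₗ[R] M))) :=
    Module.projective_of_localization_maximal (fun I hI => by
      have := hI.isPrime
      have := free_localized (M := M ⧸ LinearMap.ker (f • (LinearMap.id : M →ₗ[R] M))) k hNk hN1 I
      infer_instance)
  obtain ⟨σ, hσ⟩ := Module.projective_lifting_property
    (Submodule.mkQ (LinearMap.ker (f • (LinearMap.id : M →ₗ[R] M)))) LinearMap.id
    (Submodule.mkQ_surjective _)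
  have hσ' : ∀ y, Submodule.Quotient.mk (σ y) = y := fun y => LinearMap.congr_fun hσ y
  -- the retraction onto the kernel
  have hmem : ∀ m : M, m - σ (Submodule.Quotient.mk m) ∈
      LinearMap.ker (f • (LinearMap.id : M →ₗ[R] M)) := by
    intro m
    rw [← Submodule.Quotient.mk_eq_zero, Submodule.Quotient.mk_sub, hσ', sub_self]
  let r : M →ₗ[R] LinearMap.ker (f • (LinearMap.id : M →ₗ[R] M)) :=
    LinearMap.codRestrict _ (LinearMap.id - σ ∘ₗ Submodule.mkQ _) hmem
  have hr : ∀ v : LinearMap.ker (f • (LinearMap.id : M →ₗ[R] M)), r v.1 = v := by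
    intro v
    apply Subtype.ext
    change v.1 - σ (Submodule.Quotient.mk v.1) = v.1
    rw [(Submodule.Quotient.mk_eq_zero _).mpr v.2, map_zero, sub_zero]
  have hpdM : HasProjectiveDimensionLT (ModuleCat.of R M) 2 :=
    pd_of_projective_ker (Fintype.linearCombination R x) (linearCombination_surjective x hx)
      (projective_ker x f hf0 hMs hMs1)
  refine ⟨hpdM, ?_, ?_, h4, ?_⟩
  · intro m
    constructor
    · rintro ⟨t, ht⟩
      have h1 : f ^ t • (Submodule.Quotient.mk m :
          M ⧸ LinearMap.ker (f • (LinearMap.id : M →ₗ[R] M))) = 0 := by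
        rw [← Submodule.Quotient.mk_smul, ht, Submodule.Quotient.mk_zero]
      have hreg := Module.Flat.isSMulRegular_of_nonZeroDivisors
        (M := M ⧸ LinearMap.ker (f • (LinearMap.id : M →ₗ[R] M))) (pow_mem hf0 t)
      have h2 : (Submodule.Quotient.mk m :
          M ⧸ LinearMap.ker (f • (LinearMap.id : M →ₗ[R] M))) = 0 :=
        hreg (show f ^ t • _ = f ^ t • (0 : M ⧸ LinearMap.ker (f • (LinearMap.id : M →ₗ[R] M)))
          by rw [h1, smul_zero])
      have := (Submodule.Quotient.mk_eq_zero _).mp h2
      simpa using this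
    · intro h
      exact ⟨1, by simpa using h⟩
  · have hret : Retract (ModuleCat.of R ↥(LinearMap.ker (f • (LinearMap.id : M →ₗ[R] M))))
        (ModuleCat.of R M) :=
      { i := ModuleCat.ofHom (LinearMap.ker (f • (LinearMap.id : M →ₗ[R] M))).subtype
        r := ModuleCat.ofHom r
        retract := by
          ext v
          exact congrArg Subtype.val (hr v) }
    exact hret.hasProjectiveDimensionLT 2
  · refine ⟨LinearEquiv.ofLinearMap
      (LinearMap.prod (Submodule.mkQ _) r)
      (LinearMap.coprod σ (LinearMap.ker (f • (LinearMap.id : M →ₗ[R] M))).subtype) ?_ ?_⟩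
    · refine LinearMap.ext fun p => ?_
      obtain ⟨y, v⟩ := p
      change ((Submodule.Quotient.mk (σ y + v.1) :
        M ⧸ LinearMap.ker (f • (LinearMap.id : M →ₗ[R] M))), r (σ y + v.1)) = (y, v)
      refine Prod.ext ?_ ?_
      · simp only [Submodule.Quotient.mk_add, hσ', (Submodule.Quotient.mk_eq_zero _).mpr v.2,
          add_zero]
      · simp only
        rw [map_add, hr]
        have : r (σ y) = 0 := by
          apply Subtype.ext
          change σ y - σ (Submodule.Quotient.mk (σ y)) = 0
          rw [hσ', sub_self]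
        rw [this, zero_add]
    · refine LinearMap.ext fun m => ?_
      change σ (Submodule.Quotient.mk m) + (m - σ (Submodule.Quotient.mk m)) = m
      abel

end Groth.Agent.S6897
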