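import Groth.Statements.S6898
import Mathlib.RingTheory.Flat.Tensor
import Mathlib.LinearAlgebra.TensorProduct.Quotient
import Mathlib.LinearAlgebra.TensorProduct.Tower
import Mathlib.Algebra.Module.Torsion.Basic
import Mathlib.RingTheory.Nakayama
import Mathlib.LinearAlgebra.Basis.VectorSpace
import Mathlib.RingTheory.LocalRing.ResidueField.Basic

set_option autoImplicit false
universe u
open TensorProduct
open CAlg

namespace Groth.Agent.S6898

/-- If `u ⊗ k` is injective then `V ⊗ u` is injective for every `A`-module `V` killed by `𝔪`. -/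
theorem K {A : Type u} [CommRing A] [IsLocalRing A] {M N : Type u}
    [AddCommGroup M] [Module A M] [AddCommGroup N] [Module A N] (u : M →ₗ[A] N)
    (hu : Function.Injective (u.baseChange (IsLocalRing.ResidueField A)))
    (V : Type u) [AddCommGroup V] [Module A V]
    (hV : ∀ a ∈ IsLocalRing.maximalIdeal A, ∀ v : V, a • v = 0) :
    Function.Injective (u.lTensor V) := by
  have hT : Module.IsTorsionBySet A V (IsLocalRing.maximalIdeal A) := fun v a => hV a.1 a.2 v
  letI : Module (IsLocalRing.ResidueField A) V := hT.module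
  haveI : IsScalarTower A (IsLocalRing.ResidueField A) V := hT.isScalarTower
  let e₁ := TensorProduct.AlgebraTensorModule.cancelBaseChange A (IsLocalRing.ResidueField A)
    (IsLocalRing.ResidueField A) V M
  let e₂ := TensorProduct.AlgebraTensorModule.cancelBaseChange A (IsLocalRing.ResidueField A)
    (IsLocalRing.ResidueField A) V N
  have hcomm : ∀ z, e₂ (LinearMap.lTensor V (u.baseChange (IsLocalRing.ResidueField A)) z) =
      u.lTensor V (e₁ z) := by
    intro z
    induction z using TensorProduct.induction_on with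
    | zero => simp
    | add a b ha hb => simp only [map_add, ha, hb]
    | tmul v w =>
      induction w using TensorProduct.induction_on with
      | zero => simp
      | add a b ha hb => simp only [TensorProduct.tmul_add, map_add, ha, hb]
      | tmul a m =>
        simp [e₁, e₂]
  have htop : Function.Injective
      (LinearMap.lTensor V (u.baseChange (IsLocalRing.ResidueField A))) :=
    Module.Flat.lTensor_preserves_injective_linearMap _ hu
  intro a b hab
  obtain ⟨a', rfl⟩ := e₁.surjective a
  obtain ⟨b', rfl⟩ := e₁.surjective b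
  rw [← hcomm, ← hcomm] at hab
  rw [htop (e₂.injective hab)]

/-- Let `(A, 𝔪)` be a local ring and `u : M → N` a linear map between flat `A`-modules whose reduction
`M/𝔪M → N/𝔪N` is injective. If `I` is the content ideal of some `x ∈ M` (the least ideal `I` with `x
∈ IM`), then `I` is also the least ideal `J` with `u(x) ∈ J·N`. -/
theorem result {A : Type u} [CommRing A] [IsLocalRing A] {M N : Type u}
    [AddCommGroup M] [Module A M] [Module.Flat A M] [AddCommGroup N] [Module A N] [Module.Flat A N] (u : M →ₗ[A] N)
    (hu : Function.Injective (u.baseChange (IsLocalRing.ResidueField A))) (x : M) (I : Ideal A)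
    (hx : IsLeast {J : Ideal A | x ∈ J • (⊤ : Submodule A M)} I) :
    IsLeast {J : Ideal A | u x ∈ J • (⊤ : Submodule A N)} I := by
  classical
  obtain ⟨hxI, hleast⟩ := hx
  have hxI' : x ∈ I • (⊤ : Submodule A M) := hxI
  -- I is finitely generated
  have hfg : I.FG := by
    have key : ∀ y ∈ I • (⊤ : Submodule A M),
        ∃ I₀ : Ideal A, I₀ ≤ I ∧ I₀.FG ∧ y ∈ I₀ • (⊤ : Submodule A M) := by
      intro y hy
      refine Submodule.smul_induction_on hy ?_ ?_
      · intro r hr n hn
        refine ⟨Ideal.span {r}, (Ideal.span_singleton_le_iff_mem _).mpr hr,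
          ⟨{r}, by simp⟩, ?_⟩
        exact Submodule.smul_mem_smul (Ideal.mem_span_singleton_self r) hn
      · rintro y z ⟨I₁, h1, h1', h1''⟩ ⟨I₂, h2, h2', h2''⟩
        refine ⟨I₁ ⊔ I₂, sup_le h1 h2, Submodule.FG.sup h1' h2', ?_⟩
        exact Submodule.add_mem _ (Submodule.smul_mono_left le_sup_left h1'')
          (Submodule.smul_mono_left le_sup_right h2'')
    obtain ⟨I₀, h0, h0', h0''⟩ := key x hxI'
    have : I = I₀ := le_antisymm (hleast h0'') h0
    rw [this]; exact h0'
  refine ⟨?_, ?_⟩
  · -- u x ∈ I N
    change u x ∈ I • (⊤ : Submodule A N)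
    have h1 : u x ∈ (I • (⊤ : Submodule A M)).map u := Submodule.mem_map_of_mem hxI'
    rw [Submodule.map_smul''] at h1
    exact Submodule.smul_mono le_rfl le_top h1
  · -- minimality
    intro J hJ
    have hJ' : u x ∈ J • (⊤ : Submodule A N) := hJ
    -- Nakayama
    have hjac : IsLocalRing.maximalIdeal A ≤ Ideal.jacobson ⊥ :=
      (IsLocalRing.jacobson_eq_maximalIdeal ⊥ bot_ne_top).ge
    refine Submodule.le_of_le_smul_of_le_jacobson_bot (N := J) (N' := I) hfg hjac ?_
    set L : Ideal A := J ⊔ IsLocalRing.maximalIdeal A • I with hL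
    apply hleast
    change x ∈ L • (⊤ : Submodule A M)
    -- the submodule V
    let q : A →ₗ[A] (A ⧸ L) := (Ideal.Quotient.mkₐ A L).toLinearMap
    let V : Submodule A (A ⧸ L) := Submodule.map q I
    have hVtors : ∀ a ∈ IsLocalRing.maximalIdeal A, ∀ v : V, a • v = 0 := by
      rintro a ha ⟨_, i, hi, rfl⟩
      apply Subtype.ext
      change a • q i = 0
      rw [← map_smul]
      change Ideal.Quotient.mk L (a • i) = 0
      rw [Ideal.Quotient.eq_zero_iff_mem]
      exact Ideal.mem_sup_right (Submodule.smul_mem_smul ha hi)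
    have hK := K u hu V hVtors
    -- 1 ⊗ x lies in the range
    have hrange : ∀ y ∈ I • (⊤ : Submodule A M),
        ((1 : A ⧸ L) ⊗ₜ[A] y) ∈ LinearMap.range (V.subtype.rTensor M) := by
      intro y hy
      refine Submodule.smul_induction_on hy ?_ ?_
      · intro r hr n hn
        refine ⟨(⟨q r, Submodule.mem_map_of_mem hr⟩ : V) ⊗ₜ[A] n, ?_⟩
        rw [LinearMap.rTensor_tmul, ← TensorProduct.smul_tmul]
        congr 1
        change q r = r • (1 : A ⧸ L)
        rw [Algebra.smul_def, mul_one]
        rfl
      · intro y z hy hz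
        rw [TensorProduct.tmul_add]
        exact Submodule.add_mem _ hy hz
    have hzero : ∀ y ∈ L • (⊤ : Submodule A N), ((1 : A ⧸ L) ⊗ₜ[A] y) = 0 := by
      intro y hy
      refine Submodule.smul_induction_on hy ?_ ?_
      · intro r hr n hn
        rw [← TensorProduct.smul_tmul]
        have : r • (1 : A ⧸ L) = 0 := by
          rw [Algebra.smul_def, mul_one]
          exact Ideal.Quotient.eq_zero_iff_mem.mpr hr
        rw [this, TensorProduct.zero_tmul]
      · intro y z hy hz
        rw [TensorProduct.tmul_add, hy, hz, add_zero]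
    obtain ⟨ξ, hξ⟩ := hrange x hxI'
    have hux : ((1 : A ⧸ L) ⊗ₜ[A] (u x)) = 0 :=
      hzero (u x) (Submodule.smul_mono_left le_sup_left hJ')
    have h2 : (V.subtype.rTensor N) ((u.lTensor V) ξ) = 0 := by
      rw [← LinearMap.comp_apply, LinearMap.rTensor_comp_lTensor, ← LinearMap.lTensor_comp_rTensor,
        LinearMap.comp_apply, hξ, LinearMap.lTensor_tmul, hux]
    have hinjN : Function.Injective (V.subtype.rTensor N) :=
      Module.Flat.rTensor_preserves_injective_linearMap _ Subtype.val_injective
    have h3 : (u.lTensor V) ξ = 0 := hinjN (h2.trans (map_zero _).symm)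
    have h4 : ξ = 0 := hK (h3.trans (map_zero _).symm)
    rw [h4, map_zero] at hξ
    have h5 := congrArg (TensorProduct.quotTensorEquivQuotSMul M L) hξ
    rw [map_zero, TensorProduct.quotTensorEquivQuotSMul_mk_one_tmul] at h5
    exact (Submodule.Quotient.mk_eq_zero _).mp h5.symm

end Groth.Agent.S6898
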