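import Groth.Statements.S6899
import Mathlib.Tactic
import Mathlib.LinearAlgebra.TensorProduct.RightExactness
-- import your own Groth.Agent.* helpers here

set_option autoImplicit false
universe u
open TensorProduct
open EtAlg

namespace Groth.Agent.S6899

/-- when `A' → A` is surjective every element of `A ⊗[A'] K` is of the form `1 ⊗ k` -/
theorem exists_one_tmul {A' A : Type u} [CommRing A'] [CommRing A] [Algebra A' A]
    (hs : Function.Surjective (algebraMap A' A)) {K : Type u} [AddCommGroup K] [Module A' K]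
    (t : A ⊗[A'] K) : ∃ k : K, t = (1 : A) ⊗ₜ[A'] k := by
  induction t using TensorProduct.induction_on with
  | zero => exact ⟨0, by simp⟩
  | tmul a k =>
    obtain ⟨a', rfl⟩ := hs a
    refine ⟨a' • k, ?_⟩
    rw [← TensorProduct.smul_tmul, Algebra.smul_def, mul_one]
  | add x y hx hy =>
    obtain ⟨k1, rfl⟩ := hx
    obtain ⟨k2, rfl⟩ := hy
    exact ⟨k1 + k2, by rw [TensorProduct.tmul_add]⟩

/-- Let `B' = B ×_A A'` be a fibre square of rings with `A' → A` surjective, and let `(N₁, M₁', φ₁) →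
(N₂, M₂', φ₂)` be a morphism of glueing data (a `B`-linear `u : N₁ → N₂` and an `A'`-linear `v : M₁'
→ M₂'` compatible with the `φ_i`) with `u` and `v` surjective. Then the induced map of glued modules
`N₁ ×_{φ₁} M₁' → N₂ ×_{φ₂} M₂'` is surjective. -/
theorem result (B' B A' A : Type u) [CommRing B'] [CommRing B] [CommRing A'] [CommRing A]
    [Algebra B' B] [Algebra B' A'] [Algebra B A] [Algebra A' A] [Algebra B' A] [IsScalarTower B' B A] [IsScalarTower B' A' A]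
    (hsq : EtMil.IsFibreSquare B' B A' A)
    {N₁ N₂ M₁' M₂' : Type u} [AddCommGroup N₁] [Module B N₁] [Module B' N₁] [IsScalarTower B' B N₁]
    [AddCommGroup N₂] [Module B N₂] [Module B' N₂] [IsScalarTower B' B N₂]
    [AddCommGroup M₁'] [Module A' M₁'] [Module B' M₁'] [IsScalarTower B' A' M₁']
    [AddCommGroup M₂'] [Module A' M₂'] [Module B' M₂'] [IsScalarTower B' A' M₂']
    (φ₁ : A ⊗[B] N₁ ≃ₗ[A] A ⊗[A'] M₁') (φ₂ : A ⊗[B] N₂ ≃ₗ[A] A ⊗[A'] M₂') (u : N₁ →ₗ[B] N₂) (v : M₁' →ₗ[A'] M₂')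
    (hc : (v.baseChange A).comp φ₁.toLinearMap = φ₂.toLinearMap.comp (u.baseChange A))
    (hu : Function.Surjective u) (hv : Function.Surjective v) :
    ∀ y : N₂ × M₂', y ∈ EtMil.glue B' φ₂ → ∃ x : N₁ × M₁', x ∈ EtMil.glue B' φ₁ ∧ u x.1 = y.1 ∧ v x.2 = y.2 := by
  rintro ⟨n₂, m₂⟩ hy
  have hy' : φ₂ ((1 : A) ⊗ₜ[B] n₂) = (1 : A) ⊗ₜ[A'] m₂ := hy
  obtain ⟨n₁, hn₁⟩ := hu n₂
  obtain ⟨m, hm⟩ := hv m₂
  -- the defect
  obtain ⟨δ, hδ⟩ : ∃ δ, δ = φ₁ ((1 : A) ⊗ₜ[B] n₁) - (1 : A) ⊗ₜ[A'] m := ⟨_, rfl⟩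
  have h1 : v.baseChange A (φ₁ ((1 : A) ⊗ₜ[B] n₁)) = (1 : A) ⊗ₜ[A'] m₂ := by
    have := LinearMap.congr_fun hc ((1 : A) ⊗ₜ[B] n₁)
    simp only [LinearMap.comp_apply, LinearEquiv.coe_coe, LinearMap.baseChange_tmul] at this
    rw [this, hn₁, hy']
  have h2 : v.lTensor A δ = 0 := by
    have h3 : v.baseChange A δ = 0 := by
      rw [hδ, map_sub, h1, LinearMap.baseChange_tmul, hm, sub_self]
    exact h3
  have hex := lTensor_exact A (LinearMap.exact_subtype_ker_map v) hv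
  obtain ⟨t, ht⟩ := (hex δ).mp h2
  obtain ⟨k, rfl⟩ := exists_one_tmul hsq.1 t
  rw [LinearMap.lTensor_tmul] at ht
  refine ⟨(n₁, m + k.1), ?_, hn₁, ?_⟩
  · change φ₁ ((1 : A) ⊗ₜ[B] n₁) = (1 : A) ⊗ₜ[A'] (m + k.1)
    rw [TensorProduct.tmul_add]
    have : (1 : A) ⊗ₜ[A'] (k.1 : M₁') = δ := ht
    rw [this, hδ]
    abel
  · change v (m + k.1) = m₂
    rw [map_add, hm]
    have : v k.1 = 0 := k.2
    rw [this, add_zero]

end Groth.Agent.S6899
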