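import Groth.Statements.S6910
import Groth.Agent.Lib.Helper22.ArtinReesWorks

set_option autoImplicit false
universe u
open CAlg

namespace Groth.Agent.S6910

/-- Let `A` be a Noetherian ring, `I ⊆ A` an ideal inside the Jacobson radical, and `L → M → N` two
complexes `(f, g)` and `(f', g')` of finite `A`-modules with `f' ≡ f` modulo `I^{c+1}M` and `g' ≡ g`
modulo `I^{c+1}N`, such that the Artin–Rees bound holds with constant `c` for both `f` and `g`, and
`(f, g)` is exact. Then for every `n` the submodules `I^{n+1}N + g(M) ∩ IⁿN` and `I^{n+1}N + g'(M) ∩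
IⁿN` of `N` are equal; consequently the associated graded modules of `Coker g` and `Coker g'` with
respect to `I` coincide degreewise as subquotients of `N`. -/
theorem result {A : Type u} [CommRing A] [IsNoetherianRing A] (I : Ideal A)
    (hI : I ≤ Ideal.jacobson (⊥ : Ideal A)) {L M N : Type u} [AddCommGroup L] [Module A L] [Module.Finite A L]
    [AddCommGroup M] [Module A M] [Module.Finite A M] [AddCommGroup N] [Module A N] [Module.Finite A N]
    (f f' : L →ₗ[A] M) (g g' : M →ₗ[A] N) (c : ℕ) (hgf : g.comp f = 0) (hgf' : g'.comp f' = 0)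
    (hf : (∀ n : ℕ, c ≤ n → LinearMap.range f ⊓ (I ^ n • (⊤ : Submodule A M)) ≤ Submodule.map f (I ^ (n - c) • (⊤ : Submodule A L))))
    (hg : (∀ n : ℕ, c ≤ n → LinearMap.range g ⊓ (I ^ n • (⊤ : Submodule A N)) ≤ Submodule.map g (I ^ (n - c) • (⊤ : Submodule A M))))
    (hex : Function.Exact f g)
    (hff' : ∀ x : L, f x - f' x ∈ I ^ (c + 1) • (⊤ : Submodule A M))
    (hgg' : ∀ y : M, g y - g' y ∈ I ^ (c + 1) • (⊤ : Submodule A N)) (n : ℕ) :
    I ^ (n + 1) • (⊤ : Submodule A N) ⊔ (LinearMap.range g ⊓ I ^ n • (⊤ : Submodule A N)) =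
      I ^ (n + 1) • (⊤ : Submodule A N) ⊔ (LinearMap.range g' ⊓ I ^ n • (⊤ : Submodule A N)) := by
  have hg' := Groth.Agent.Lib.Helper22.ar_works' I f f' g g' c hgf' hf hg hex hff' hgg'
  -- general one-sided inclusion
  have key : ∀ (p q : M →ₗ[A] N),
      (∀ k : ℕ, c ≤ k → LinearMap.range p ⊓ (I ^ k • (⊤ : Submodule A N)) ≤
        Submodule.map p (I ^ (k - c) • (⊤ : Submodule A M))) →
      (∀ y : M, p y - q y ∈ I ^ (c + 1) • (⊤ : Submodule A N)) →
      LinearMap.range p ⊓ I ^ n • (⊤ : Submodule A N) ≤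
        I ^ (n + 1) • (⊤ : Submodule A N) ⊔ (LinearMap.range q ⊓ I ^ n • (⊤ : Submodule A N)) := by
    intro p q hp hpq x hx
    have hle : I ^ (n + 1) • (⊤ : Submodule A N) ≤ I ^ n • (⊤ : Submodule A N) :=
      Submodule.smul_mono_left (Ideal.pow_le_pow_right (Nat.le_succ n))
    by_cases hn : c ≤ n
    · obtain ⟨a, ha, rfl⟩ := hp n hn hx
      have h1 : p a - q a ∈ I ^ (n - c + (c + 1)) • (⊤ : Submodule A N) :=
        Groth.Agent.Lib.Helper22.map_pow_smul_top_mem I (p - q) (c + 1) hpq (n - c) ha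
      rw [show n - c + (c + 1) = n + 1 by omega] at h1
      have e : p a = (p a - q a) + q a := by abel
      rw [e]
      refine Submodule.add_mem_sup h1 ⟨⟨a, rfl⟩, ?_⟩
      have e2 : q a = p a - (p a - q a) := by abel
      rw [e2]
      exact sub_mem hx.2 (hle h1)
    · obtain ⟨⟨a, rfl⟩, hx2⟩ := hx
      have h1 : p a - q a ∈ I ^ (n + 1) • (⊤ : Submodule A N) :=
        Submodule.smul_mono_left (Ideal.pow_le_pow_right (by omega)) (hpq a)
      have e : p a = (p a - q a) + q a := by abel
      rw [e]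
      refine Submodule.add_mem_sup h1 ⟨⟨a, rfl⟩, ?_⟩
      have e2 : q a = p a - (p a - q a) := by abel
      rw [e2]
      exact sub_mem hx2 (hle h1)
  apply le_antisymm
  · exact sup_le le_sup_left (key g g' hg hgg')
  · refine sup_le le_sup_left (key g' g hg' fun y => ?_)
    have := hgg' y
    have e : g' y - g y = -(g y - g' y) := by abel
    rw [e]; exact neg_mem this

end Groth.Agent.S6910
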