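import Groth.Statements.S6911
import Mathlib.RingTheory.Flat.Equalizer
import Mathlib.RingTheory.Ideal.Maps

set_option autoImplicit false
universe u
open TensorProduct
open CAlg

namespace Groth.Agent.S6911

section aux

variable {A B : Type u} [CommRing A] [CommRing B] [Algebra A B]
  {M P : Type u} [AddCommGroup M] [Module A M] [AddCommGroup P] [Module A P]

theorem mem_baseChange_ker [Module.Flat A B] (h : M →ₗ[A] P) (y : B ⊗[A] M)
    (hy : h.baseChange B y = 0) : y ∈ (LinearMap.ker h).baseChange B := by
  have key := Module.Flat.ker_lTensor_eq B B h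
  have hy' : y ∈ LinearMap.ker (TensorProduct.AlgebraTensorModule.lTensor B B h) := hy
  rw [key] at hy'
  exact hy'

theorem baseChange_smul_top (J : Ideal A) :
    (J • (⊤ : Submodule A M)).baseChange B =
      (J.map (algebraMap A B)) • (⊤ : Submodule B (B ⊗[A] M)) := by
  apply le_antisymm
  · rw [Submodule.baseChange_eq_span, Submodule.span_le]
    rintro _ ⟨x, hx, rfl⟩
    refine Submodule.smul_induction_on hx ?_ ?_
    · intro j hj m _
      have : (TensorProduct.mk A B M 1) (j • m) = algebraMap A B j • ((1 : B) ⊗ₜ[A] m) := by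
        simp only [TensorProduct.mk_apply, TensorProduct.tmul_smul]
        rw [algebraMap_smul]
      rw [this]
      exact Submodule.smul_mem_smul (Ideal.mem_map_of_mem _ hj) Submodule.mem_top
    · intro x y hx hy
      rw [map_add]; exact add_mem hx hy
  · rw [Submodule.smul_le]
    intro r hr t ht
    clear ht
    induction t using TensorProduct.induction_on with
    | zero => rw [smul_zero]; exact zero_mem _
    | add x y hx hy => rw [smul_add]; exact add_mem hx hy
    | tmul b m =>
      refine Submodule.span_induction (p := fun r _ => r • (b ⊗ₜ[A] m) ∈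
        (J • (⊤ : Submodule A M)).baseChange B) ?_ ?_ ?_ ?_ hr
      · rintro _ ⟨j, hj, rfl⟩
        have : algebraMap A B j • (b ⊗ₜ[A] m) = b ⊗ₜ[A] (j • m) := by
          rw [algebraMap_smul, TensorProduct.tmul_smul]
        rw [this]
        exact Submodule.tmul_mem_baseChange_of_mem b
          (Submodule.smul_mem_smul hj Submodule.mem_top)
      · rw [zero_smul]; exact zero_mem _
      · intro x y _ _ hx hy; rw [add_smul]; exact add_mem hx hy
      · intro a x _ hx; rw [smul_eq_mul, mul_smul]; exact Submodule.smul_mem _ a hx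

end aux

/-- Let `A → B` be a flat map of Noetherian rings, `I ⊆ A` an ideal and `f : M → N` a map of finite
`A`-modules such that `c` works for `f` in the Artin–Rees lemma (`f(M) ∩ IⁿN ⊆ f(I^{n-c}M)` for `n ≥
c`). Then `c` works for `f ⊗ 1 : M ⊗_A B → N ⊗_A B` and the ideal `IB`. -/
theorem result {A B : Type u} [CommRing A] [IsNoetherianRing A] [CommRing B]
    [IsNoetherianRing B] [Algebra A B] [Module.Flat A B] (I : Ideal A) {M N : Type u} [AddCommGroup M] [Module A M]
    [Module.Finite A M] [AddCommGroup N] [Module A N] [Module.Finite A N] (f : M →ₗ[A] N) (c : ℕ)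
    (hf : (∀ n : ℕ, c ≤ n → LinearMap.range f ⊓ (I ^ n • (⊤ : Submodule A N)) ≤ Submodule.map f (I ^ (n - c) • (⊤ : Submodule A M)))) :
    ∀ n : ℕ, c ≤ n →
      LinearMap.range (f.baseChange B) ⊓ ((I.map (algebraMap A B)) ^ n • (⊤ : Submodule B (B ⊗[A] N))) ≤
        Submodule.map (f.baseChange B) ((I.map (algebraMap A B)) ^ (n - c) • (⊤ : Submodule B (B ⊗[A] M))) := by
  intro n hn
  rintro x ⟨⟨y, rfl⟩, hx⟩
  rw [← Ideal.map_pow, ← baseChange_smul_top] at hx ⊢
  set K : Submodule A N := I ^ n • ⊤ with hK
  set D : Submodule A M := I ^ (n - c) • ⊤ with hD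
  -- hypothesis reformulated
  have hker : LinearMap.ker (K.mkQ.comp f) ≤ D ⊔ LinearMap.ker f := by
    intro m hm
    have hm' : f m ∈ K := by
      have : K.mkQ (f m) = 0 := hm
      rwa [Submodule.mkQ_apply, Submodule.Quotient.mk_eq_zero] at this
    obtain ⟨d, hd, hfd⟩ := hf n hn ⟨⟨m, rfl⟩, hm'⟩
    have e : m = d + (m - d) := by abel
    rw [e]
    exact Submodule.add_mem_sup hd (by rw [LinearMap.mem_ker, map_sub, hfd, sub_self])
  -- y lies in base change of kernel
  have hy : (K.mkQ.comp f).baseChange B y = 0 := by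
    rw [LinearMap.baseChange_comp, LinearMap.comp_apply]
    obtain ⟨z, hz⟩ := hx
    rw [← hz, ← LinearMap.comp_apply, ← LinearMap.baseChange_comp]
    have : K.mkQ.comp K.subtype = 0 := by
      ext k; simp
    rw [this, LinearMap.baseChange_zero, LinearMap.zero_apply]
  have hy2 := Submodule.baseChange_mono (A := B) hker (mem_baseChange_ker _ y hy)
  -- conclude on generators
  have hle : (D ⊔ LinearMap.ker f).baseChange B ≤
      Submodule.comap (f.baseChange B) (Submodule.map (f.baseChange B) (D.baseChange B)) := by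
    rw [Submodule.baseChange_eq_span, Submodule.span_le]
    rintro _ ⟨m, hm, rfl⟩
    obtain ⟨d, hd, k, hk, rfl⟩ := Submodule.mem_sup.mp hm
    refine ⟨(1 : B) ⊗ₜ[A] d, Submodule.tmul_mem_baseChange_of_mem 1 hd, ?_⟩
    simp only [TensorProduct.mk_apply, LinearMap.baseChange_tmul, map_add]
    rw [show f k = 0 from hk, TensorProduct.tmul_zero, add_zero]
  exact hle hy2

end Groth.Agent.S6911
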