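import Groth.Statements.S6912
import Mathlib.LinearAlgebra.Dimension.Localization
import Mathlib.LinearAlgebra.FreeModule.Finite.Matrix
import Mathlib.Algebra.Module.FinitePresentation

set_option autoImplicit false
universe u
open TensorProduct
open CAlg

namespace Groth.Agent.S6912

/-- Let `R` be a domain and `M`, `N` two `R`-modules; rank means dimension over the fraction field after
base change. Then `rank (M ⊗_R N) = rank M · rank N`, and when `M` is finitely presented also `rank
Hom_R(M, N) = rank M · rank N`. -/
theorem result (R : Type u) [CommRing R] [IsDomain R] (M N : Type u)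
    [AddCommGroup M] [Module R M] [AddCommGroup N] [Module R N] :
    Module.rank R (M ⊗[R] N) = Module.rank R M * Module.rank R N ∧
    (Module.FinitePresentation R M → Module.rank R (M →ₗ[R] N) = Module.rank R M * Module.rank R N) := by
  classical
  have hK : ∀ (X : Type u) [AddCommGroup X] [Module R X],
      Module.rank (FractionRing R) (FractionRing R ⊗[R] X) = Module.rank R X := by
    intro X _ _
    exact IsBaseChange.rank_eq (TensorProduct.isBaseChange R X (FractionRing R))
  have hL : ∀ (X : Type u) [AddCommGroup X] [Module R X],
      Module.rank (FractionRing R) (LocalizedModule (nonZeroDivisors R) X) = Module.rank R X := by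
    intro X _ _
    rw [IsLocalization.rank_eq (FractionRing R) (nonZeroDivisors R) le_rfl,
      IsLocalizedModule.rank_eq (nonZeroDivisors R) le_rfl
        (LocalizedModule.mkLinearMap (nonZeroDivisors R) X)]
  refine ⟨?_, ?_⟩
  · rw [← hK (M ⊗[R] N), ← hK M, ← hK N,
      (TensorProduct.AlgebraTensorModule.distribBaseChange R (FractionRing R) M N).rank_eq,
      rank_tensorProduct']
  · intro hM
    rw [← IsLocalizedModule.rank_eq (nonZeroDivisors R) le_rfl
        (LocalizedModule.map (nonZeroDivisors R) (M := M) (N := N)),
      ← IsLocalization.rank_eq (FractionRing R) (nonZeroDivisors R) le_rfl,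
      Module.rank_linearMap, Cardinal.lift_id, Cardinal.lift_id, hL M, hL N]

end Groth.Agent.S6912
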