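import Groth.Statements.S6913
import Mathlib.LinearAlgebra.Dimension.Localization
import Mathlib.LinearAlgebra.Dimension.Finite
import Mathlib.RingTheory.Localization.Module
import Mathlib.RingTheory.FiniteType
import Mathlib.LinearAlgebra.InvariantBasisNumber

set_option autoImplicit false
universe u
open CAlg

namespace Groth.Agent.S6913

/-- Let `R` be a domain and `M` a finite `R`-module, of (finite) rank `r`. Then: some linear map `M →
R^r` has torsion kernel and torsion cokernel; some nonzero `f ∈ R` makes `M_f` free of rank `r` over
`R_f`; and some injective linear map `R^r → M` has torsion cokernel. -/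
theorem result (R : Type u) [CommRing R] [IsDomain R] (M : Type u) [AddCommGroup M]
    [Module R M] [Module.Finite R M] :
    (∃ h : M →ₗ[R] (Fin (Module.finrank R M) → R),
      (∀ x : M, h x = 0 → ∃ c : R, c ≠ 0 ∧ c • x = 0) ∧
      (∀ y : Fin (Module.finrank R M) → R, ∃ c : R, c ≠ 0 ∧ c • y ∈ LinearMap.range h)) ∧
    (∃ f : R, f ≠ 0 ∧ Module.Free (Localization.Away f) (LocalizedModule (Submonoid.powers f) M) ∧
      Module.finrank (Localization.Away f) (LocalizedModule (Submonoid.powers f) M) = Module.finrank R M) ∧
    (∃ g : (Fin (Module.finrank R M) → R) →ₗ[R] M, Function.Injective g ∧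
      ∀ x : M, ∃ c : R, c ≠ 0 ∧ c • x ∈ LinearMap.range g) := by
  classical
  obtain ⟨v, hv⟩ : ∃ v : Fin (Module.finrank R M) → M, LinearIndependent R v :=
    exists_linearIndependent_of_le_finrank le_rfl
  -- torsion cokernel, pointwise
  have htors : ∀ x : M, ∃ c : R, c ≠ 0 ∧ c • x ∈ Submodule.span R (Set.range v) := by
    intro x
    by_contra hcon
    push Not at hcon
    have hli : LinearIndependent R (Fin.cons x v : Fin (Module.finrank R M).succ → M) := by
      refine LinearIndependent.finCons' x v hv ?_
      intro c y hy hcy
      by_contra hc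
      refine hcon c hc ?_
      have : c • x = -y := eq_neg_of_add_eq_zero_left hcy
      rw [this]
      exact Submodule.neg_mem _ hy
    have := hli.fintype_card_le_finrank
    simp at this
  -- the map g
  set g : (Fin (Module.finrank R M) → R) →ₗ[R] M := Fintype.linearCombination R v with hg
  have hginj : Function.Injective g := hv.fintypeLinearCombination_injective
  have hgrange : LinearMap.range g = Submodule.span R (Set.range v) :=
    Fintype.range_linearCombination R v
  -- common denominator
  obtain ⟨c, hc0, hc⟩ : ∃ c : R, c ≠ 0 ∧ ∀ x : M, c • x ∈ LinearMap.range g := by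
    obtain ⟨S, hS⟩ := (Module.Finite.fg_top : (⊤ : Submodule R M).FG)
    choose d hd0 hd using htors
    refine ⟨∏ x ∈ S, d x, Finset.prod_ne_zero_iff.mpr fun x _ => hd0 x, ?_⟩
    have hle : Submodule.span R (S : Set M) ≤
        (LinearMap.range g).comap ((∏ x ∈ S, d x) • (LinearMap.id : M →ₗ[R] M)) := by
      refine Submodule.span_le.mpr ?_
      intro x hx
      have hxS : x ∈ S := hx
      simp only [SetLike.mem_coe, Submodule.mem_comap, LinearMap.smul_apply, LinearMap.id_coe, id_eq]
      rw [← Finset.mul_prod_erase S d hxS, mul_comm, mul_smul, hgrange]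
      exact Submodule.smul_mem _ _ (hd x)
    intro x
    have hx : x ∈ Submodule.span R (S : Set M) := by rw [hS]; trivial
    simpa using hle hx
  refine ⟨?_, ?_, ?_⟩
  · -- Part 1
    let e := LinearEquiv.ofInjective g hginj
    let h : M →ₗ[R] (Fin (Module.finrank R M) → R) :=
      e.symm.toLinearMap ∘ₗ (LinearMap.codRestrict (LinearMap.range g)
        (c • (LinearMap.id : M →ₗ[R] M)) (fun x => by simpa using hc x))
    refine ⟨h, ?_, ?_⟩
    · intro x hx
      refine ⟨c, hc0, ?_⟩
      have h1 : (LinearMap.codRestrict (LinearMap.range g)
        (c • (LinearMap.id : M →ₗ[R] M)) (fun x => by simpa using hc x)) x = 0 := by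
        have : e.symm ((LinearMap.codRestrict (LinearMap.range g)
          (c • (LinearMap.id : M →ₗ[R] M)) (fun x => by simpa using hc x)) x) = 0 := hx
        simpa using this
      have := congrArg Subtype.val h1
      simpa using this
    · intro y
      refine ⟨c, hc0, g y, ?_⟩
      change e.symm _ = _
      rw [LinearEquiv.symm_apply_eq]
      apply Subtype.ext
      simp [e, LinearEquiv.ofInjective_apply]
  · -- Part 2
    refine ⟨c, hc0, ?_⟩
    have hle : Submonoid.powers c ≤ nonZeroDivisors R :=
      powers_le_nonZeroDivisors_of_noZeroDivisors hc0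
    have : IsDomain (Localization.Away c) := IsLocalization.isDomain_localization hle
    let f := LocalizedModule.mkLinearMap (Submonoid.powers c) M
    have hli : LinearIndependent (Localization.Away c) (f ∘ v) :=
      hv.of_isLocalizedModule (Localization.Away c) (Submonoid.powers c) f
    have hspan : Submodule.span (Localization.Away c) (Set.range (f ∘ v)) = ⊤ := by
      have h1 : Submodule.span (Localization.Away c) (f '' (Set.univ : Set M)) = ⊤ :=
        span_eq_top_of_isLocalizedModule (Localization.Away c) (Submonoid.powers c) f
          (by simp)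
      rw [eq_top_iff, ← h1]
      refine Submodule.span_le.mpr ?_
      rintro _ ⟨m, -, rfl⟩
      have hu : IsUnit (algebraMap R (Localization.Away c) c) :=
        IsLocalization.map_units (Localization.Away c) (⟨c, Submonoid.mem_powers c⟩ : Submonoid.powers c)
      have hcm : f (c • m) ∈ Submodule.span (Localization.Away c) (Set.range (f ∘ v)) := by
        have h2 : c • m ∈ Submodule.span R (Set.range v) := hgrange ▸ hc m
        have h3 : f (c • m) ∈ (Submodule.span R (Set.range v)).map f := Submodule.mem_map_of_mem h2
        rw [Submodule.map_span, ← Set.range_comp] at h3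
        exact Submodule.span_subset_span R (Localization.Away c) _ h3
      have h4 : f m = (hu.unit⁻¹ : (Localization.Away c)ˣ) • f (c • m) := by
        rw [map_smul, ← algebraMap_smul (Localization.Away c) c (f m), Units.smul_def, smul_smul]
        simp
      rw [SetLike.mem_coe, h4]
      exact Submodule.smul_mem _ _ hcm
    let b : Module.Basis (Fin (Module.finrank R M)) (Localization.Away c)
        (LocalizedModule (Submonoid.powers c) M) := Module.Basis.mk hli (by rw [hspan])
    refine ⟨Module.Free.of_basis b, ?_⟩
    rw [Module.finrank_eq_card_basis b, Fintype.card_fin]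
  · -- Part 3
    refine ⟨g, hginj, fun x => ⟨c, hc0, hc x⟩⟩

end Groth.Agent.S6913
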