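import Groth.Statements.S6914
import Groth.Agent.Helper19.FittLib5
-- import your own Groth.Agent.* helpers here

set_option autoImplicit false
universe u
open TensorProduct
open Fitt

namespace Groth.Agent.S6914

open Groth.Agent.Helper19.FittLib

section helpers

variable {R : Type u} [CommRing R] (I : Ideal R) (a : R)
  (R₁ : Type u) [CommRing R₁] [Algebra R R₁] (e : R₁ ≃ₐ[R] ↥(BlowUp.affineAlgebra R I a))

include e in
lemma map_eq_span (ha : a ∈ I) : I.map (algebraMap R R₁) = Ideal.span {algebraMap R R₁ a} := by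
  apply le_antisymm
  · rw [Ideal.map_le_iff_le_comap]
    intro x hx
    rw [Ideal.mem_comap, Ideal.mem_span_singleton']
    let q' : ↥(BlowUp.affineAlgebra R I a) :=
      ⟨IsLocalization.mk' (Localization.Away a) x ⟨a, Submonoid.mem_powers a⟩,
        Algebra.subset_adjoin ⟨x, hx, rfl⟩⟩
    have h1 : algebraMap R ↥(BlowUp.affineAlgebra R I a) x =
        q' * algebraMap R ↥(BlowUp.affineAlgebra R I a) a := by
      apply Subtype.ext
      change algebraMap R (Localization.Away a) x =
        IsLocalization.mk' (Localization.Away a) x ⟨a, Submonoid.mem_powers a⟩ *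
          algebraMap R (Localization.Away a) a
      exact (IsLocalization.mk'_spec (Localization.Away a) x ⟨a, Submonoid.mem_powers a⟩).symm
    refine ⟨e.symm q', ?_⟩
    have := congrArg e.symm h1
    rw [map_mul, AlgEquiv.commutes, AlgEquiv.commutes] at this
    exact this.symm
  · rw [Ideal.span_le, Set.singleton_subset_iff]
    exact Ideal.mem_map_of_mem _ ha

include e in
lemma algebraMap_mem_nonZeroDivisors : algebraMap R R₁ a ∈ nonZeroDivisors R₁ := by
  have key : ∀ r : R₁, algebraMap R R₁ a * r = 0 → r = 0 := by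
    intro r hr
    have h1 := congrArg e hr
    rw [map_mul, AlgEquiv.commutes, map_zero] at h1
    have h2 := congrArg Subtype.val h1
    change algebraMap R (Localization.Away a) a * (e r : Localization.Away a) = 0 at h2
    have hu : IsUnit (algebraMap R (Localization.Away a) a) :=
      IsLocalization.Away.algebraMap_isUnit a
    have h3 : (e r : Localization.Away a) = 0 := (hu.mul_right_eq_zero).mp h2
    have h4 : e r = 0 := Subtype.ext h3
    exact (map_eq_zero_iff e e.injective).mp h4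
  rw [mem_nonZeroDivisors_iff]
  exact ⟨key, fun r hr => key r (by rwa [mul_comm])⟩

end helpers

/-- Let `M` be a finite `R`-module, `k ≥ 0`, `I = Fit_k(M)` and `a ∈ I`; let `R₁ ≅ R[I/a]` be (a copy
of) the affine blow-up algebra and `M' = (M ⊗_R R₁)/(a-power torsion)` the strict transform. Then
`Fit_k(M') = R₁`. -/
theorem result {R : Type u} [CommRing R] (M : Type u) [AddCommGroup M] [Module R M]
    [Module.Finite R M] (k : ℕ) (a : R) (ha : a ∈ Fitt.ideal R M k)
    (R₁ : Type u) [CommRing R₁] [Algebra R R₁] (e : R₁ ≃ₐ[R] ↥(BlowUp.affineAlgebra R (Fitt.ideal R M k) a)) :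
    Fitt.ideal R₁ ((R₁ ⊗[R] M) ⧸ FlatCA.powTorsion R₁ (algebraMap R R₁ a) (R₁ ⊗[R] M)) k = ⊤ := by
  have hNZD := algebraMap_mem_nonZeroDivisors (Fitt.ideal R M k) a R₁ e
  have hfit : Fitt.ideal R₁ (R₁ ⊗[R] M) k = Ideal.span {algebraMap R R₁ a} := by
    rw [ideal_baseChange R₁ k, map_eq_span (Fitt.ideal R M k) a R₁ e ha]
  obtain ⟨n, t, ht⟩ := Module.Finite.exists_fin (R := R₁) (M := R₁ ⊗[R] M)
  have hMs : Mn R₁ t (n - k) = Ideal.span {algebraMap R R₁ a} := by
    rw [← ideal_eq_Mn t ht k, hfit]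
  have hy : Submodule.span R₁ (Set.range (yq t (algebraMap R R₁ a))) = ⊤ := by
    have : yq t (algebraMap R R₁ a) = (Submodule.mkQ (LinearMap.ker
      ((algebraMap R R₁ a) • (LinearMap.id : (R₁ ⊗[R] M) →ₗ[R₁] (R₁ ⊗[R] M))))) ∘ t := rfl
    rw [this, Set.range_comp, ← Submodule.map_span, ht, Submodule.map_top, Submodule.range_mkQ]
  have h1 : Fitt.ideal R₁ ((R₁ ⊗[R] M) ⧸ LinearMap.ker
      ((algebraMap R R₁ a) • (LinearMap.id : (R₁ ⊗[R] M) →ₗ[R₁] (R₁ ⊗[R] M)))) k = ⊤ := by
    rw [ideal_eq_Mn (yq t (algebraMap R R₁ a)) hy k]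
    exact Mn_yq_eq_top t _ hNZD hMs
  have hle : LinearMap.ker
      ((algebraMap R R₁ a) • (LinearMap.id : (R₁ ⊗[R] M) →ₗ[R₁] (R₁ ⊗[R] M))) ≤
      FlatCA.powTorsion R₁ (algebraMap R R₁ a) (R₁ ⊗[R] M) := by
    intro v hv
    rw [LinearMap.mem_ker, LinearMap.smul_apply, LinearMap.id_apply] at hv
    refine (le_iSup (fun n : ℕ => Submodule.torsionBy R₁ (R₁ ⊗[R] M)
      ((algebraMap R R₁ a) ^ n)) 1) ?_
    rw [Submodule.mem_torsionBy_iff, pow_one]
    exact hv
  rw [eq_top_iff, ← h1]
  exact ideal_le_of_surjective' (Submodule.factor hle) (Submodule.factor_surjective hle) k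

end Groth.Agent.S6914
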