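import Groth.Statements.S6915
import Groth.Agent.Helper19.FittLib5
import Groth.Agent.S6914
import Groth.Agent.S6895
-- import your own Groth.Agent.* helpers here

set_option autoImplicit false
universe u
open TensorProduct
open Fitt

namespace Groth.Agent.S6915

open Groth.Agent.Helper19.FittLib

section helpers

lemma mem_powTorsion_iff {S : Type u} [CommRing S] {M : Type u} [AddCommGroup M] [Module S M]
    (x : S) (v : M) : v ∈ FlatCA.powTorsion S x M ↔ ∃ n : ℕ, x ^ n • v = 0 := by
  rw [FlatCA.powTorsion, Submodule.mem_iSup_of_directed]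
  · simp [Submodule.mem_torsionBy_iff]
  · intro i j
    refine ⟨i + j, ?_, ?_⟩ <;> intro v hv <;> rw [Submodule.mem_torsionBy_iff] at hv ⊢
    · rw [pow_add, mul_comm, mul_smul, hv, smul_zero]
    · rw [pow_add, mul_smul, hv, smul_zero]

variable {R : Type u} [CommRing R] {M : Type u} [AddCommGroup M] [Module R M]

/-- Fitting minors of the quotient by the `f`-power torsion vanish if those of `M` do -/
lemma Mn_quot_powTorsion_eq_bot {ι : Type*} [Fintype ι] (x : ι → M) (f : R)
    (hf : f ∈ nonZeroDivisors R) (t : ℕ) (h : Mn R x t = ⊥) :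
    Mn R (fun i => (Submodule.Quotient.mk (x i) : M ⧸ FlatCA.powTorsion R f M)) t = ⊥ := by
  rw [Mn, Ideal.span_eq_bot]
  rintro _ ⟨z, e, hz, rfl⟩
  have h1 : ∀ b, ∃ N : ℕ, f ^ N • ∑ i, z b i • x i = 0 := by
    intro b
    rw [← mem_powTorsion_iff, ← Submodule.Quotient.mk_eq_zero, ← Submodule.mkQ_apply, map_sum]
    simp only [map_smul, Submodule.mkQ_apply]
    exact hz b
  choose N hN using h1
  have h2 : ∀ b, IsRel x (f ^ (∑ b', N b') • z b) := by
    intro b
    have hsplit : ∑ b', N b' = N b + ∑ b' ∈ Finset.univ.erase b, N b' := by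
      rw [Finset.add_sum_erase _ _ (Finset.mem_univ b)]
    simp only [IsRel, Pi.smul_apply, smul_eq_mul, mul_smul]
    rw [← Finset.smul_sum, hsplit, pow_add, mul_comm, mul_smul, hN b, smul_zero]
  have h3 : minor (fun b => f ^ (∑ b', N b') • z b) e ∈ Mn R x t := minor_mem x _ h2 e
  rw [h, Ideal.mem_bot, minor_smul] at h3
  exact (mem_nonZeroDivisors_iff.mp (pow_mem (pow_mem hf _) t)).1 _ h3

/-- elements of `Fit_{k-1}(M)` are killed by a power of `a` if `M` is locally free of rank `k`
on `D(a)`. -/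
lemma exists_pow_mul_eq_zero [Module.Finite R M] (k : ℕ) (hk : 0 < k) (a : R)
    (hfree : ∀ (p : Ideal R) [p.IsPrime], a ∉ p →
      Module.Free (Localization.AtPrime p) (LocalizedModule p.primeCompl M) ∧
        Module.finrank (Localization.AtPrime p) (LocalizedModule p.primeCompl M) = k)
    (b : R) (hb : b ∈ Fitt.ideal R M (k - 1)) : ∃ N : ℕ, a ^ N * b = 0 := by
  have hrad : a ∈ ((Ideal.span {b}).annihilator).radical := by
    rw [Ideal.radical_eq_sInf, Ideal.mem_sInf]
    rintro p ⟨hle, hp⟩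
    by_contra hap
    obtain ⟨hfr, hrk⟩ := hfree p hap
    have hb0 := ideal_of_basis
      (Module.finBasis (Localization.AtPrime p) (LocalizedModule p.primeCompl M)) (k - 1)
    rw [hrk, if_neg (by omega), ideal_localized] at hb0
    have h0 : algebraMap R (Localization.AtPrime p) b = 0 := by
      have : algebraMap R (Localization.AtPrime p) b ∈
          (Fitt.ideal R M (k - 1)).map (algebraMap R (Localization.AtPrime p)) :=
        Ideal.mem_map_of_mem _ hb
      rwa [hb0, Ideal.mem_bot] at this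
    rw [IsLocalization.map_eq_zero_iff p.primeCompl] at h0
    obtain ⟨⟨u, hu⟩, hub⟩ := h0
    apply hu
    apply hle
    rw [Submodule.mem_annihilator_span_singleton]
    exact hub
  obtain ⟨N, hN⟩ := hrad
  rw [Submodule.mem_annihilator_span_singleton] at hN
  exact ⟨N, hN⟩

end helpers

/-- Let `M` be a finite `R`-module, `k ≥ 0` and `I = Fit_k(M)`, and assume `M_𝔭` is free of rank `k` for
every prime `𝔭` not containing `I`. Then for every `a ∈ I` and (a copy `R₁` of) the affine blow-up
algebra `R[I/a]`, the strict transform `M' = (M ⊗_R R₁)/(a-power torsion)` is finite locally free of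
rank `k`: every prime of `R₁` has a basic open neighbourhood over which `M'` is free of rank `k`. -/
theorem result {R : Type u} [CommRing R] (M : Type u) [AddCommGroup M]
    [Module R M] [Module.Finite R M] (k : ℕ)
    (hfree : ∀ (p : Ideal R) [p.IsPrime], ¬ Fitt.ideal R M k ≤ p →
      Module.Free (Localization.AtPrime p) (LocalizedModule p.primeCompl M) ∧
        Module.finrank (Localization.AtPrime p) (LocalizedModule p.primeCompl M) = k)
    (a : R) (ha : a ∈ Fitt.ideal R M k) (R₁ : Type u) [CommRing R₁] [Algebra R R₁] (e : R₁ ≃ₐ[R] ↥(BlowUp.affineAlgebra R (Fitt.ideal R M k) a)) :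
    ∀ (p' : Ideal R₁) [p'.IsPrime], ∃ g : R₁, g ∉ p' ∧
      Module.Free (Localization.Away g) (LocalizedModule (Submonoid.powers g) ((R₁ ⊗[R] M) ⧸ FlatCA.powTorsion R₁ (algebraMap R R₁ a) (R₁ ⊗[R] M))) ∧
      Module.finrank (Localization.Away g) (LocalizedModule (Submonoid.powers g) ((R₁ ⊗[R] M) ⧸ FlatCA.powTorsion R₁ (algebraMap R R₁ a) (R₁ ⊗[R] M))) = k := by
  have hNZD := Groth.Agent.S6914.algebraMap_mem_nonZeroDivisors (Fitt.ideal R M k) a R₁ e
  have htop := Groth.Agent.S6914.result M k a ha R₁ e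
  refine (Groth.Agent.S6895.result
    ((R₁ ⊗[R] M) ⧸ FlatCA.powTorsion R₁ (algebraMap R R₁ a) (R₁ ⊗[R] M)) k).mpr ⟨?_, ?_⟩
  · intro k' hk'
    have hk0 : 0 < k := by omega
    -- Fit_{k-1}(M) extends to zero
    have hmap : (Fitt.ideal R M (k - 1)).map (algebraMap R R₁) = ⊥ := by
      rw [Ideal.map_eq_bot_iff_le_ker]
      intro b hb
      obtain ⟨N, hN⟩ := exists_pow_mul_eq_zero k hk0 a
        (fun p _ hap => hfree p (fun hle => hap (hle ha))) b hb
      rw [RingHom.mem_ker]
      have h1 := congrArg (algebraMap R R₁) hN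
      rw [map_mul, map_pow, map_zero] at h1
      exact (mem_nonZeroDivisors_iff.mp (pow_mem hNZD N)).1 _ h1
    obtain ⟨n, t, ht⟩ := Module.Finite.exists_fin (R := R₁) (M := R₁ ⊗[R] M)
    have hMn : Mn R₁ t (n - (k - 1)) = ⊥ := by
      rw [← ideal_eq_Mn t ht (k - 1), ideal_baseChange R₁ (k - 1), hmap]
    have hy : Submodule.span R₁ (Set.range (fun i => (Submodule.Quotient.mk (t i) :
        (R₁ ⊗[R] M) ⧸ FlatCA.powTorsion R₁ (algebraMap R R₁ a) (R₁ ⊗[R] M)))) = ⊤ := by
      have : (fun i => (Submodule.Quotient.mk (t i) :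
          (R₁ ⊗[R] M) ⧸ FlatCA.powTorsion R₁ (algebraMap R R₁ a) (R₁ ⊗[R] M))) =
          (Submodule.mkQ (FlatCA.powTorsion R₁ (algebraMap R R₁ a) (R₁ ⊗[R] M))) ∘ t := rfl
      rw [this, Set.range_comp, ← Submodule.map_span, ht, Submodule.map_top, Submodule.range_mkQ]
    have h1 : Fitt.ideal R₁ ((R₁ ⊗[R] M) ⧸ FlatCA.powTorsion R₁ (algebraMap R R₁ a) (R₁ ⊗[R] M))
        (k - 1) = ⊥ := by
      rw [ideal_eq_Mn _ hy (k - 1)]
      exact Mn_quot_powTorsion_eq_bot t _ hNZD _ hMn
    rw [eq_bot_iff, ← h1]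
    exact ideal_mono (by omega)
  · intro k' hk'
    rw [eq_top_iff, ← htop]
    exact ideal_mono hk'

end Groth.Agent.S6915
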