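import Groth.Statements.S6916
import Mathlib.Tactic
import Mathlib.LinearAlgebra.TensorProduct.RightExactness
-- import your own Groth.Agent.* helpers here

set_option autoImplicit false
universe u
open TensorProduct
open EtAlg

namespace Groth.Agent.S6916

theorem exists_one_tmul {R S : Type u} [CommRing R] [CommRing S] [Algebra R S]
    (hs : Function.Surjective (algebraMap R S)) {K : Type u} [AddCommGroup K] [Module R K]
    (t : S ⊗[R] K) : ∃ k : K, t = (1 : S) ⊗ₜ[R] k := by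
  induction t using TensorProduct.induction_on with
  | zero => exact ⟨0, by simp⟩
  | tmul a k =>
    obtain ⟨a', rfl⟩ := hs a
    refine ⟨a' • k, ?_⟩
    rw [← TensorProduct.smul_tmul, Algebra.smul_def, mul_one]
  | add x y hx hy =>
    obtain ⟨k1, rfl⟩ := hx
    obtain ⟨k2, rfl⟩ := hy
    exact ⟨k1 + k2, by rw [TensorProduct.tmul_add]⟩

/-- Let `B' = B ×_A A'` be a fibre square of rings with `A' → A` surjective and `L'` any `B'`-module.
Then the canonical map from `L'` to the glueing of `(L' ⊗_{B'} B, L' ⊗_{B'} A')` is surjective: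
every pair `(x, y) ∈ (B ⊗_{B'} L') × (A' ⊗_{B'} L')` with equal images in `A ⊗_{B'} L'` is of the
form `(1 ⊗ l, 1 ⊗ l)`. (It is in general not injective.) -/
theorem result (B' B A' A : Type u) [CommRing B'] [CommRing B] [CommRing A'] [CommRing A]
    [Algebra B' B] [Algebra B' A'] [Algebra B A] [Algebra A' A] [Algebra B' A] [IsScalarTower B' B A] [IsScalarTower B' A' A]
    (hsq : EtMil.IsFibreSquare B' B A' A)
    (L' : Type u) [AddCommGroup L'] [Module B' L'] (x : B ⊗[B'] L') (y : A' ⊗[B'] L')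
    (hxy : (IsScalarTower.toAlgHom B' B A).toLinearMap.rTensor L' x = (IsScalarTower.toAlgHom B' A' A).toLinearMap.rTensor L' y) :
    ∃ l : L', (1 : B) ⊗ₜ[B'] l = x ∧ (1 : A') ⊗ₜ[B'] l = y := by
  have hBsurj : Function.Surjective (algebraMap B' B) := by
    intro b
    obtain ⟨a', ha'⟩ := hsq.1 (algebraMap B A b)
    obtain ⟨b', ⟨hb', _⟩, _⟩ := hsq.2 b a' ha'.symm
    exact ⟨b', hb'⟩
  obtain ⟨l₀, rfl⟩ := exists_one_tmul hBsurj x
  obtain ⟨ψ, hψ⟩ : ∃ ψ : A' →ₗ[B'] A, ψ = (IsScalarTower.toAlgHom B' A' A).toLinearMap := ⟨_, rfl⟩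
  have hψapp : ∀ a', ψ a' = algebraMap A' A a' := by intro a'; rw [hψ]; rfl
  have hψsurj : Function.Surjective ψ := by
    intro a
    obtain ⟨a', rfl⟩ := hsq.1 a
    exact ⟨a', hψapp a'⟩
  rw [← hψ] at hxy
  have h0 : ψ.rTensor L' (y - (1 : A') ⊗ₜ[B'] l₀) = 0 := by
    rw [map_sub, ← hxy, LinearMap.rTensor_tmul, LinearMap.rTensor_tmul, hψapp]
    simp
  have hex := rTensor_exact L' (LinearMap.exact_subtype_ker_map ψ) hψsurj
  obtain ⟨t, ht⟩ := (hex _).mp h0
  have key : ∀ t : (LinearMap.ker ψ) ⊗[B'] L', ∃ l₁ : L',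
      (LinearMap.ker ψ).subtype.rTensor L' t = (1 : A') ⊗ₜ[B'] l₁ ∧ (1 : B) ⊗ₜ[B'] l₁ = 0 := by
    intro t
    induction t using TensorProduct.induction_on with
    | zero => exact ⟨0, by simp, by simp⟩
    | tmul j l =>
      have hj : algebraMap A' A j.1 = 0 := by
        rw [← hψapp]; exact j.2
      obtain ⟨b', ⟨hb'1, hb'2⟩, _⟩ := hsq.2 (0 : B) j.1 (by rw [map_zero, hj])
      refine ⟨b' • l, ?_, ?_⟩
      · rw [LinearMap.rTensor_tmul, Submodule.subtype_apply, ← hb'2, ← TensorProduct.smul_tmul,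
          Algebra.smul_def, mul_one]
      · rw [← TensorProduct.smul_tmul, Algebra.smul_def, mul_one, hb'1, TensorProduct.zero_tmul]
    | add x y hx hy =>
      obtain ⟨l1, h1, h1'⟩ := hx
      obtain ⟨l2, h2, h2'⟩ := hy
      refine ⟨l1 + l2, ?_, ?_⟩
      · rw [map_add, h1, h2, TensorProduct.tmul_add]
      · rw [TensorProduct.tmul_add, h1', h2', add_zero]
  obtain ⟨l₁, hl₁, hl₁'⟩ := key t
  refine ⟨l₀ + l₁, ?_, ?_⟩
  · rw [TensorProduct.tmul_add, hl₁', add_zero]
  · rw [TensorProduct.tmul_add, ← hl₁, ht]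
    abel

end Groth.Agent.S6916
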