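import Groth.Statements.S6920
import Mathlib.Algebra.Category.Ring.Epi
import Mathlib.Tactic
-- import your own Groth.Agent.* helpers here

set_option autoImplicit false
universe u
open CategoryTheory CategoryTheory.Limits MonoidalCategory
open DRing

namespace Groth.Agent.S6920

open TensorProduct in
lemma linear_of_epi {R S : Type u} [CommRing R] [CommRing S] [Algebra R S] [Algebra.IsEpi R S]
    {M N : Type*} [AddCommGroup M] [AddCommGroup N] [Module R M] [Module S M]
    [IsScalarTower R S M] [Module R N] [Module S N] [IsScalarTower R S N]
    (g : M →ₗ[R] N) (s : S) (m : M) : g (s • m) = s • g m := by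
  let F : S ⊗[R] S →ₗ[R] N := TensorProduct.lift
    { toFun := fun a =>
      { toFun := fun b => a • g (b • m)
        map_add' := by intro b c; simp [add_smul, smul_add]
        map_smul' := by
          intro r b
          simp only [smul_assoc, map_smul, RingHom.id_apply]
          rw [smul_comm] }
      map_add' := by intro a b; ext c; simp [add_smul]
      map_smul' := by intro r a; ext c; simp [smul_assoc] }
  have h := (Algebra.isEpi_iff_forall_one_tmul_eq R S).mp inferInstance s
  have := congrArg F h
  simpa [F] using this

theorem full_of_epi (R S : Type u) [CommRing R] [CommRing S] (φ : R →+* S)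
    (hφ : Epi (CommRingCat.ofHom φ)) : (ModuleCat.restrictScalars.{u} φ).Full := by
  let _ : Algebra R S := φ.toAlgebra
  have : Algebra.IsEpi R S := CommRingCat.epi_iff_epi.mp hφ
  constructor
  intro M N g
  let _ : Module R M := Module.compHom M φ
  let _ : Module R N := Module.compHom N φ
  have : IsScalarTower R S M := IsScalarTower.of_algebraMap_smul fun r m => rfl
  have : IsScalarTower R S N := IsScalarTower.of_algebraMap_smul fun r m => rfl
  let g0 : M →ₗ[R] N :=
    { toFun := fun m => g.hom m
      map_add' := fun a b => map_add g.hom a b
      map_smul' := fun r a => map_smul g.hom r a }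
  refine ⟨ModuleCat.ofHom
    { toFun := fun m => g.hom m
      map_add' := fun a b => map_add g.hom a b
      map_smul' := fun s a => linear_of_epi g0 s a }, ?_⟩
  ext x
  rfl

/-- For an epimorphism of rings `φ : R → S` and a complex `I•` of `S`-modules, if the underlying complex
of `R`-modules of `I•` is K-injective, then `I•` itself is K-injective over `S`. -/
theorem result (R S : Type u) [CommRing R] [CommRing S] (φ : R →+* S)
    (hφ : Epi (CommRingCat.ofHom φ)) (I : DRing.Cx S)
    [CochainComplex.IsKInjective ((DRing.restrictCx φ).obj I)] : CochainComplex.IsKInjective I := by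
  have := full_of_epi R S φ hφ
  constructor
  intro K f hK
  have hK' : ((DRing.restrictCx φ).obj K).Acyclic := by
    intro n
    have h1 := hK n
    rw [HomologicalComplex.exactAt_iff] at h1 ⊢
    exact h1.map (ModuleCat.restrictScalars φ)
  have h := CochainComplex.IsKInjective.homotopyZero ((DRing.restrictCx φ).map f) hK'
  have h0 : (DRing.restrictCx φ).map (0 : K ⟶ I) = 0 := by unfold DRing.restrictCx; exact Functor.map_zero _ _ _
  rw [← h0] at h
  exact ⟨(ModuleCat.restrictScalars φ).preimageHomotopy h⟩

end Groth.Agent.S6920
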