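import Groth.Statements.S6924
import Groth.Agent.Helper19.FittLib6
import Groth.Agent.S6914
import Groth.Agent.S6915
import Groth.Agent.S6895
-- import your own Groth.Agent.* helpers here

set_option autoImplicit false
universe u
open TensorProduct
open Fitt

namespace Groth.Agent.S6924

open Groth.Agent.Helper19.FittLib

section helpers

variable {R : Type u} [CommRing R] {M : Type u} [AddCommGroup M] [Module R M]

/-- a finitely presented cover of `M` whose `r`-th Fitting ideal still contains a given element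
of `Fit_r(M)` -/
lemma exists_fp_cover [Module.Finite R M] (r : ℕ) (c : R) (hc : c ∈ Fitt.ideal R M r) :
    ∃ (n : ℕ) (K₀ : Submodule R (Fin n → R)) (π : ((Fin n → R) ⧸ K₀) →ₗ[R] M),
      K₀.FG ∧ Function.Surjective π ∧ c ∈ Fitt.ideal R ((Fin n → R) ⧸ K₀) r := by
  obtain ⟨n, x, hx⟩ := Module.Finite.exists_fin (R := R) (M := M)
  rw [ideal_eq_Mn x hx r, Mn, Ideal.span, Submodule.mem_span_set'] at hc
  obtain ⟨J, a, g, hg⟩ := hc
  have h1 : ∀ j, ∃ (z : Fin (n - r) → Fin n → R) (e : Fin (n - r) → Fin n),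
      (∀ b, IsRel x (z b)) ∧ (g j : R) = minor z e := by
    intro j
    obtain ⟨z, e, hz, h⟩ := (g j).2
    exact ⟨z, e, hz, h⟩
  choose z e hz hg' using h1
  obtain ⟨K₀, hK₀⟩ : ∃ K₀ : Submodule R (Fin n → R), K₀ = Submodule.span R
      (Set.range fun p : Fin J × Fin (n - r) => z p.1 p.2) := ⟨_, rfl⟩
  have hle : K₀ ≤ LinearMap.ker (Fintype.linearCombination R x) := by
    rw [hK₀, Submodule.span_le]
    rintro _ ⟨p, rfl⟩
    exact (isRel_iff_mem_ker x _).mp (hz p.1 p.2)
  refine ⟨n, K₀, K₀.liftQ (Fintype.linearCombination R x) hle, ?_, ?_, ?_⟩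
  · rw [hK₀]
    exact Submodule.fg_span (Set.finite_range _)
  · intro m
    obtain ⟨v, rfl⟩ := linearCombination_surjective x hx m
    exact ⟨Submodule.Quotient.mk v, by simp⟩
  · have hx₀ : Submodule.span R (Set.range (fun j : Fin n =>
        (Submodule.Quotient.mk (Pi.single j 1) : (Fin n → R) ⧸ K₀))) = ⊤ := by
      rw [← Fintype.range_linearCombination, linearCombination_mk_single, Submodule.range_mkQ]
    rw [ideal_eq_Mn _ hx₀ r, ← hg]
    refine Ideal.sum_mem _ fun j _ => Ideal.mul_mem_left _ _ ?_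
    rw [hg']
    refine minor_mem _ _ (fun b => ?_) _
    rw [isRel_iff_mem_ker, linearCombination_mk_single, Submodule.ker_mkQ, hK₀]
    exact Submodule.subset_span ⟨(j, b), rfl⟩

/-- elements of `Fit_{r-1}(M)` are killed by a power of `f` if `M` is locally free of rank `r`
on `D(f)`. -/
lemma exists_pow_mul_eq_zero' [Module.Finite R M] (r : ℕ) (hr : 0 < r) (f : R)
    (hf : ∀ (p : Ideal R) [p.IsPrime], f ∉ p → ∃ g : R, g ∉ p ∧
      Module.Free (Localization.Away g) (LocalizedModule (Submonoid.powers g) M) ∧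
        Module.finrank (Localization.Away g) (LocalizedModule (Submonoid.powers g) M) = r)
    (b : R) (hb : b ∈ Fitt.ideal R M (r - 1)) : ∃ N : ℕ, f ^ N * b = 0 := by
  have hrad : f ∈ ((Ideal.span {b}).annihilator).radical := by
    rw [Ideal.radical_eq_sInf, Ideal.mem_sInf]
    rintro p ⟨hle, hp⟩
    by_contra hfp
    obtain ⟨g, hg, hfr, hrk⟩ := hf p hfp
    have := Groth.Agent.S6895.nontrivial_away hg
    have hb0 := ideal_of_basis
      (Module.finBasis (Localization.Away g) (LocalizedModule (Submonoid.powers g) M)) (r - 1)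
    rw [hrk, if_neg (by omega), ideal_localized] at hb0
    have h0 : algebraMap R (Localization.Away g) b = 0 := by
      have : algebraMap R (Localization.Away g) b ∈
          (Fitt.ideal R M (r - 1)).map (algebraMap R (Localization.Away g)) :=
        Ideal.mem_map_of_mem _ hb
      rwa [hb0, Ideal.mem_bot] at this
    rw [IsLocalization.map_eq_zero_iff (Submonoid.powers g)] at h0
    obtain ⟨⟨_, m, rfl⟩, hub⟩ := h0
    apply hg
    apply Ideal.IsPrime.mem_of_pow_mem hp m
    apply hle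
    rw [Submodule.mem_annihilator_span_singleton]
    exact hub
  obtain ⟨N, hN⟩ := hrad
  rw [Submodule.mem_annihilator_span_singleton] at hN
  exact ⟨N, hN⟩

lemma mem_radical_ideal [Module.Finite R M] (r : ℕ) (f : R)
    (hf : ∀ (p : Ideal R) [p.IsPrime], f ∉ p → ∃ g : R, g ∉ p ∧
      Module.Free (Localization.Away g) (LocalizedModule (Submonoid.powers g) M) ∧
        Module.finrank (Localization.Away g) (LocalizedModule (Submonoid.powers g) M) = r) :
    f ∈ (Fitt.ideal R M r).radical := by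
  rw [Ideal.radical_eq_sInf, Ideal.mem_sInf]
  rintro p ⟨hle, hp⟩
  by_contra hfp
  obtain ⟨g, hg, hfr, hrk⟩ := hf p hfp
  have := Groth.Agent.S6895.nontrivial_away hg
  have hb := ideal_of_basis
    (Module.finBasis (Localization.Away g) (LocalizedModule (Submonoid.powers g) M)) r
  rw [hrk, if_pos le_rfl] at hb
  obtain ⟨_, ⟨m, rfl⟩, hd⟩ := not_le_of_localized_eq_top (Submonoid.powers g) r hb
  exact hg (Ideal.IsPrime.mem_of_pow_mem hp m (hle hd))

end helpers

/-- Let `M` be a finite `R`-module and `f ∈ R` such that every prime of `D(f)` has a basic open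
neighbourhood `D(g) ⊆ D(f)` with `M_g` free of rank `r` (in other words `M_f` is, locally on `D(f)`,
free of rank `r`). Then there is a finitely generated ideal `I ⊆ R` with `V(I) = V(f)` such that for
every `a ∈ I` and (a copy `R₁` of) the affine blow-up algebra `R[I/a]`, the strict transform `(M ⊗_R
R₁)/(a-power torsion)` is finite locally free of rank `r` over `R₁`. -/
theorem result {R : Type u} [CommRing R] (M : Type u) [AddCommGroup M]
    [Module R M] [Module.Finite R M] (f : R) (r : ℕ)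
    (hf : ∀ (p : Ideal R) [p.IsPrime], f ∉ p → ∃ g : R, g ∉ p ∧ g ∈ (Ideal.span {f}).radical ∧
      Module.Free (Localization.Away g) (LocalizedModule (Submonoid.powers g) M) ∧
        Module.finrank (Localization.Away g) (LocalizedModule (Submonoid.powers g) M) = r) :
    ∃ I : Ideal R, I.FG ∧ I.radical = (Ideal.span {f}).radical ∧ ∀ a ∈ I, ∀ (R₁ : Type u) [CommRing R₁] [Algebra R R₁] (e : R₁ ≃ₐ[R] ↥(BlowUp.affineAlgebra R I a)),
      ∀ (p' : Ideal R₁) [p'.IsPrime], ∃ g : R₁, g ∉ p' ∧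
        Module.Free (Localization.Away g) (LocalizedModule (Submonoid.powers g) ((R₁ ⊗[R] M) ⧸ FlatCA.powTorsion R₁ (algebraMap R R₁ a) (R₁ ⊗[R] M))) ∧
        Module.finrank (Localization.Away g) (LocalizedModule (Submonoid.powers g) ((R₁ ⊗[R] M) ⧸ FlatCA.powTorsion R₁ (algebraMap R R₁ a) (R₁ ⊗[R] M))) = r := by
  have hf' : ∀ (p : Ideal R) [p.IsPrime], f ∉ p → ∃ g : R, g ∉ p ∧
      Module.Free (Localization.Away g) (LocalizedModule (Submonoid.powers g) M) ∧
        Module.finrank (Localization.Away g) (LocalizedModule (Submonoid.powers g) M) = r := by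
    intro p _ hfp
    obtain ⟨g, hg, -, h1, h2⟩ := hf p hfp
    exact ⟨g, hg, h1, h2⟩
  obtain ⟨N, hN⟩ := mem_radical_ideal r f hf'
  obtain ⟨n, K₀, π, hK₀, hπ, hc⟩ := exists_fp_cover r (f ^ N) hN
  have hFP : Module.FinitePresentation R ((Fin n → R) ⧸ K₀) :=
    Module.finitePresentation_of_surjective K₀.mkQ (Submodule.mkQ_surjective _)
      (by rw [Submodule.ker_mkQ]; exact hK₀)
  refine ⟨Ideal.span {f} * Fitt.ideal R ((Fin n → R) ⧸ K₀) r,
    (Submodule.fg_span_singleton f).mul (ideal_fg r), ?_, ?_⟩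
  · apply le_antisymm
    · exact Ideal.radical_mono Ideal.mul_le_left
    · rw [Ideal.radical_le_radical_iff, Ideal.span_le, Set.singleton_subset_iff]
      refine ⟨N + 1, ?_⟩
      rw [pow_succ']
      exact Ideal.mul_mem_mul (Ideal.mem_span_singleton_self f) hc
  · intro a ha R₁ _ _ e
    have hNZD := Groth.Agent.S6914.algebraMap_mem_nonZeroDivisors _ a R₁ e
    have hmap := Groth.Agent.S6914.map_eq_span _ a R₁ e ha
    obtain ⟨b, hbJ, rfl⟩ := Ideal.mem_span_singleton_mul.mp ha
    rw [map_mul] at hNZD hmap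
    obtain ⟨hf₁, hb₁⟩ := mul_mem_nonZeroDivisors.mp hNZD
    -- J R₁ = (b₁)
    have hJmap : (Fitt.ideal R ((Fin n → R) ⧸ K₀) r).map (algebraMap R R₁) =
        Ideal.span {algebraMap R R₁ b} := by
      apply le_antisymm
      · intro y hy
        have h1 : algebraMap R R₁ f * y ∈ Ideal.span {algebraMap R R₁ f * algebraMap R R₁ b} := by
          rw [← hmap, Ideal.map_mul, Ideal.map_span, Set.image_singleton]
          exact Ideal.mul_mem_mul (Ideal.mem_span_singleton_self _) hy
        obtain ⟨c, hc'⟩ := Ideal.mem_span_singleton'.mp h1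
        rw [Ideal.mem_span_singleton']
        refine ⟨c, ?_⟩
        have h2 : algebraMap R R₁ f * (c * algebraMap R R₁ b - y) = 0 := by
          rw [mul_sub, ← hc']
          ring
        exact sub_eq_zero.mp ((mem_nonZeroDivisors_iff.mp hf₁).1 _ h2)
      · rw [Ideal.span_le, Set.singleton_subset_iff]
        exact Ideal.mem_map_of_mem _ hbJ
    -- Fit_r of the strict transform is ⊤
    have hfit₀ : Fitt.ideal R₁ (R₁ ⊗[R] ((Fin n → R) ⧸ K₀)) r =
        Ideal.span {algebraMap R R₁ b} := by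
      rw [ideal_baseChange R₁ r, hJmap]
    obtain ⟨n₀, t₀, ht₀⟩ := Module.Finite.exists_fin (R := R₁) (M := R₁ ⊗[R] ((Fin n → R) ⧸ K₀))
    have hMs : Mn R₁ t₀ (n₀ - r) = Ideal.span {algebraMap R R₁ b} := by
      rw [← ideal_eq_Mn t₀ ht₀ r, hfit₀]
    have hy₀ : Submodule.span R₁ (Set.range (yq t₀ (algebraMap R R₁ b))) = ⊤ := by
      have : yq t₀ (algebraMap R R₁ b) = (Submodule.mkQ (LinearMap.ker
        ((algebraMap R R₁ b) • (LinearMap.id : (R₁ ⊗[R] ((Fin n → R) ⧸ K₀)) →ₗ[R₁]
          (R₁ ⊗[R] ((Fin n → R) ⧸ K₀)))))) ∘ t₀ := rfl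
      rw [this, Set.range_comp, ← Submodule.map_span, ht₀, Submodule.map_top,
        Submodule.range_mkQ]
    have h1 : Fitt.ideal R₁ ((R₁ ⊗[R] ((Fin n → R) ⧸ K₀)) ⧸ LinearMap.ker
        ((algebraMap R R₁ b) • (LinearMap.id : (R₁ ⊗[R] ((Fin n → R) ⧸ K₀)) →ₗ[R₁]
          (R₁ ⊗[R] ((Fin n → R) ⧸ K₀))))) r = ⊤ := by
      rw [ideal_eq_Mn (yq t₀ (algebraMap R R₁ b)) hy₀ r]
      exact Mn_yq_eq_top t₀ _ hb₁ hMs
    have hle : LinearMap.ker
        ((algebraMap R R₁ b) • (LinearMap.id : (R₁ ⊗[R] ((Fin n → R) ⧸ K₀)) →ₗ[R₁]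
          (R₁ ⊗[R] ((Fin n → R) ⧸ K₀)))) ≤
        (FlatCA.powTorsion R₁ (algebraMap R R₁ (f * b)) (R₁ ⊗[R] M)).comap
          (π.baseChange R₁) := by
      intro v hv
      rw [LinearMap.mem_ker, LinearMap.smul_apply, LinearMap.id_apply] at hv
      rw [Submodule.mem_comap, Groth.Agent.S6915.mem_powTorsion_iff]
      refine ⟨1, ?_⟩
      rw [pow_one, ← map_smul, map_mul, mul_smul, hv, smul_zero, map_zero]
    have hsurj : Function.Surjective (Submodule.mapQ _ _ (π.baseChange R₁) hle) := by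
      intro y
      obtain ⟨t, rfl⟩ := Submodule.Quotient.mk_surjective _ y
      have hπ' : Function.Surjective (π.baseChange R₁) := by
        rw [LinearMap.baseChange_eq_ltensor]
        exact LinearMap.lTensor_surjective _ hπ
      obtain ⟨t', rfl⟩ := hπ' t
      exact ⟨Submodule.Quotient.mk t', by simp⟩
    have htop : Fitt.ideal R₁ ((R₁ ⊗[R] M) ⧸
        FlatCA.powTorsion R₁ (algebraMap R R₁ (f * b)) (R₁ ⊗[R] M)) r = ⊤ := by
      rw [eq_top_iff, ← h1]
      exact ideal_le_of_surjective' _ hsurj r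
    refine (Groth.Agent.S6895.result
      ((R₁ ⊗[R] M) ⧸ FlatCA.powTorsion R₁ (algebraMap R R₁ (f * b)) (R₁ ⊗[R] M)) r).mpr ⟨?_, ?_⟩
    · intro k' hk'
      have hr0 : 0 < r := by omega
      have hmap' : (Fitt.ideal R M (r - 1)).map (algebraMap R R₁) = ⊥ := by
        rw [Ideal.map_eq_bot_iff_le_ker]
        intro b' hb'
        obtain ⟨N', hN'⟩ := exists_pow_mul_eq_zero' r hr0 f hf' b' hb'
        rw [RingHom.mem_ker]
        have h2 : (f * b) ^ N' * b' = 0 := by
          rw [mul_pow, mul_comm (f ^ N'), mul_assoc, hN', mul_zero]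
        have h3 := congrArg (algebraMap R R₁) h2
        rw [map_mul, map_pow, map_zero] at h3
        rw [← map_mul] at hNZD
        exact (mem_nonZeroDivisors_iff.mp (pow_mem hNZD N')).1 _ h3
      obtain ⟨n₁, t, ht⟩ := Module.Finite.exists_fin (R := R₁) (M := R₁ ⊗[R] M)
      have hMn : Mn R₁ t (n₁ - (r - 1)) = ⊥ := by
        rw [← ideal_eq_Mn t ht (r - 1), ideal_baseChange R₁ (r - 1), hmap']
      have hy : Submodule.span R₁ (Set.range (fun i => (Submodule.Quotient.mk (t i) :
          (R₁ ⊗[R] M) ⧸ FlatCA.powTorsion R₁ (algebraMap R R₁ (f * b)) (R₁ ⊗[R] M)))) = ⊤ := by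
        have : (fun i => (Submodule.Quotient.mk (t i) :
            (R₁ ⊗[R] M) ⧸ FlatCA.powTorsion R₁ (algebraMap R R₁ (f * b)) (R₁ ⊗[R] M))) =
            (Submodule.mkQ (FlatCA.powTorsion R₁ (algebraMap R R₁ (f * b)) (R₁ ⊗[R] M))) ∘ t :=
          rfl
        rw [this, Set.range_comp, ← Submodule.map_span, ht, Submodule.map_top,
          Submodule.range_mkQ]
      have h1' : Fitt.ideal R₁ ((R₁ ⊗[R] M) ⧸
          FlatCA.powTorsion R₁ (algebraMap R R₁ (f * b)) (R₁ ⊗[R] M)) (r - 1) = ⊥ := by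
        rw [ideal_eq_Mn _ hy (r - 1)]
        rw [← map_mul] at hNZD
        exact Groth.Agent.S6915.Mn_quot_powTorsion_eq_bot t _ hNZD _ hMn
      rw [eq_bot_iff, ← h1']
      exact ideal_mono (by omega)
    · intro k' hk'
      rw [eq_top_iff, ← htop]
      exact ideal_mono hk'

end Groth.Agent.S6924
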