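import Groth.Statements.S6929
import Mathlib.RingTheory.Adjoin.Tower
import Mathlib.RingTheory.Adjoin.FG

set_option autoImplicit false
universe u
open EtAlg

namespace Groth.Agent.S6929

theorem pi_finiteType (R : Type u) [CommRing R] {ι : Type u} [Fintype ι] [DecidableEq ι]
    (A : ι → Type u) [∀ i, CommRing (A i)] [∀ i, Algebra R (A i)]
    (hA : ∀ i, Algebra.FiniteType R (A i)) : Algebra.FiniteType R (∀ i, A i) := by
  choose S hS using fun i => (hA i).out
  let G : Set (∀ i, A i) := ⋃ i, (Pi.single i '' ((↑(S i) : Set (A i)) ∪ {1}))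
  have hGfin : G.Finite :=
    Set.finite_iUnion fun i => ((S i).finite_toSet.union (Set.finite_singleton 1)).image _
  have hone : ∀ i, (Pi.single i (1 : A i) : ∀ i, A i) ∈ Algebra.adjoin R G := fun i =>
    Algebra.subset_adjoin (Set.mem_iUnion.mpr ⟨i, Set.mem_image_of_mem _ (Or.inr rfl)⟩)
  have hsingle : ∀ i (a : A i), (Pi.single i a : ∀ i, A i) ∈ Algebra.adjoin R G := by
    intro i a
    have ha : a ∈ Algebra.adjoin R (↑(S i) : Set (A i)) := by rw [hS i]; trivial
    induction ha using Algebra.adjoin_induction with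
    | mem x hx =>
      exact Algebra.subset_adjoin (Set.mem_iUnion.mpr ⟨i, Set.mem_image_of_mem _ (Or.inl hx)⟩)
    | algebraMap r =>
      have : (Pi.single i (algebraMap R (A i) r) : ∀ i, A i) = r • Pi.single i (1 : A i) := by
        rw [← Pi.single_smul, Algebra.smul_def, mul_one]
      rw [this]
      exact Subalgebra.smul_mem _ (hone i) r
    | add x y _ _ hx hy =>
      rw [Pi.single_add]; exact add_mem hx hy
    | mul x y _ _ hx hy =>
      rw [Pi.single_mul]; exact mul_mem hx hy
  refine ⟨Subalgebra.fg_def.mpr ⟨G, hGfin, ?_⟩⟩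
  rw [eq_top_iff]
  intro x _
  rw [← Finset.univ_sum_single x]
  exact sum_mem fun i _ => hsingle i (x i)

/-- Let `R` be a Noetherian ring, `ι` a finite index type, and `φ_i : A_i → B_i`, `ψ_i : Q → B_i`
surjective `R`-algebra maps, where `Q` and all `A_i`, `B_i` are `R`-algebras of finite type. Then
the fibre product ring `P = Q ×_{∏ B_i} ∏ A_i` (pairs `(q, a)` with `ψ_i(q) = φ_i(a_i)` for all `i`)
is an `R`-algebra of finite type. -/
theorem result (R : Type u) [CommRing R] [IsNoetherianRing R] {ι : Type u} [Fintype ι]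
    (Q : Type u) [CommRing Q] [Algebra R Q] [Algebra.FiniteType R Q] (A B : ι → Type u) [∀ i, CommRing (A i)]
    [∀ i, CommRing (B i)] [∀ i, Algebra R (A i)] [∀ i, Algebra R (B i)] (hA : ∀ i, Algebra.FiniteType R (A i))
    (hB : ∀ i, Algebra.FiniteType R (B i)) (φ : ∀ i, A i →ₐ[R] B i) (ψ : ∀ i, Q →ₐ[R] B i)
    (hφ : ∀ i, Function.Surjective (φ i)) (hψ : ∀ i, Function.Surjective (ψ i)) :
    Algebra.FiniteType R ↥(AlgHom.equalizer ((AlgHom.pi ψ).comp (AlgHom.fst R Q (∀ i, A i)))
      ((AlgHom.pi fun i => (φ i).comp (Pi.evalAlgHom R A i)).comp (AlgHom.snd R Q (∀ i, A i)))) := by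
  classical
  set P := AlgHom.equalizer ((AlgHom.pi ψ).comp (AlgHom.fst R Q (∀ i, A i)))
      ((AlgHom.pi fun i => (φ i).comp (Pi.evalAlgHom R A i)).comp (AlgHom.snd R Q (∀ i, A i)))
    with hP
  have hmem : ∀ (q : Q) (a : ∀ i, A i), (q, a) ∈ P ↔ ∀ i, ψ i q = φ i (a i) := by
    intro q a
    rw [hP, AlgHom.mem_equalizer]
    constructor
    · intro h i; exact congrFun h i
    · intro h; funext i; exact h i
  have hT : Algebra.FiniteType R (Q × ∀ i, A i) :=
    @Algebra.FiniteType.prod R Q (∀ i, A i) _ _ _ _ _ inferInstance (pi_finiteType R A hA)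
  -- lifts
  have hlift₀ : ∀ q : Q, ∃ p : P, (p : Q × ∀ i, A i).1 = q := by
    intro q
    choose a ha using fun i => hφ i (ψ i q)
    exact ⟨⟨(q, a), (hmem q a).mpr fun i => (ha i).symm⟩, rfl⟩
  have hlift : ∀ (i : ι) (x : A i), ∃ p : P, (p : Q × ∀ i, A i).2 i = x := by
    intro i x
    obtain ⟨q, hq⟩ := hψ i (φ i x)
    choose a ha using fun j => hφ j (ψ j q)
    refine ⟨⟨(q, Function.update a i x), (hmem _ _).mpr fun j => ?_⟩, by simp⟩
    by_cases hji : j = i
    · subst hji; simp [hq]
    · simp [Function.update_of_ne hji, ha j]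
  choose l₀ hl₀ using hlift₀
  choose l hl using hlift
  let ε₀ : Q × ∀ i, A i := (1, 0)
  let ε : ι → Q × ∀ i, A i := fun i => (0, Pi.single i 1)
  have hfg : (⊤ : Submodule P (Q × ∀ i, A i)).FG := by
    rw [Submodule.fg_def]
    refine ⟨insert ε₀ (Set.range ε), (Set.finite_range ε).insert ε₀, ?_⟩
    rw [eq_top_iff]
    rintro ⟨q, a⟩ -
    have key : ((q, a) : Q × ∀ i, A i) = l₀ q • ε₀ + ∑ i, l i (a i) • ε i := by
      have h1 : ∀ i, l i (a i) • ε i = ((0, Pi.single i (a i)) : Q × ∀ i, A i) := by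
        intro i
        ext j
        · simp [ε, Subalgebra.smul_def]
        · simp only [ε, Subalgebra.smul_def, smul_eq_mul, Prod.snd_mul, Pi.mul_apply]
          by_cases hji : j = i
          · subst hji; simp [hl]
          · simp [Pi.single_eq_of_ne hji]
      have h0 : l₀ q • ε₀ = ((q, 0) : Q × ∀ i, A i) := by
        ext j
        · simp [ε₀, Subalgebra.smul_def, hl₀]
        · simp [ε₀, Subalgebra.smul_def]
      rw [h0]
      simp only [h1]
      ext j
      · simp [Prod.fst_sum]
      · simp only [Prod.snd_add, Prod.snd_sum, Pi.add_apply, Pi.zero_apply, zero_add]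
        rw [Finset.sum_apply, Finset.sum_eq_single j]
        · simp
        · intro i _ hij; exact Pi.single_eq_of_ne (Ne.symm hij) _
        · intro h; exact absurd (Finset.mem_univ j) h
    rw [key]
    refine Submodule.add_mem _ (Submodule.smul_mem _ _ (Submodule.subset_span (Or.inl rfl)))
      (Submodule.sum_mem _ fun i _ => Submodule.smul_mem _ _
        (Submodule.subset_span (Or.inr ⟨i, rfl⟩)))
  exact ⟨fg_of_fg_of_fg R P (Q × ∀ i, A i) hT.out hfg Subtype.val_injective⟩

end Groth.Agent.S6929
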