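import Groth.Statements.S6933
import Mathlib.Algebra.Category.Grp.EpiMono

set_option autoImplicit false
universe u
open CategoryTheory
open InjHull

namespace Groth.Agent.S6933

/-- An abelian group `J` that is injective as an object of the category of abelian groups is divisible:
`n J = J` for every nonzero integer `n`. (The published statement is an equivalence; this row states
the implication from injective to divisible.) -/
theorem result (J : Type u) [AddCommGroup J] (hJ : Injective (AddCommGrpCat.of J))
    (n : ℤ) (hn : n ≠ 0) (x : J) : ∃ y : J, n • y = x := by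
  let Zu := ULift.{u} ℤ
  let mulN : Zu →+ Zu := zsmulAddGroupHom n
  let fx : Zu →+ J := (zmultiplesHom J x).comp (AddEquiv.ulift : Zu ≃+ ℤ).toAddMonoidHom
  have hinj : Function.Injective mulN := by
    intro a b hab
    have h1 : n • a = n • b := hab
    have h2 : n • a.down = n • b.down := congrArg ULift.down h1
    simp only [smul_eq_mul] at h2
    exact ULift.ext _ _ (mul_left_cancel₀ hn h2)
  have : Mono (AddCommGrpCat.ofHom mulN) := (AddCommGrpCat.mono_iff_injective _).mpr hinj
  have := hJ
  let g := Injective.factorThru (AddCommGrpCat.ofHom fx) (AddCommGrpCat.ofHom mulN)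
  have hg : AddCommGrpCat.ofHom mulN ≫ g = AddCommGrpCat.ofHom fx := Injective.comp_factorThru _ _
  refine ⟨g.hom ⟨1⟩, ?_⟩
  have h1 := congrArg (fun φ => φ.hom (⟨1⟩ : Zu)) hg
  simp only [AddCommGrpCat.hom_comp, AddCommGrpCat.hom_ofHom, AddMonoidHom.comp_apply] at h1
  have h2 : mulN (⟨1⟩ : Zu) = n • (⟨1⟩ : Zu) := rfl
  rw [h2, map_zsmul] at h1
  rw [h1]
  change (1 : ℤ) • x = x
  exact one_zsmul x

end Groth.Agent.S6933
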