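import Groth.Statements.S6934
-- import your own Groth.Agent.* helpers here

set_option autoImplicit false
universe u
open EtAlg

namespace Groth.Agent.S6934

/-- Let `s : B → R`, `t : R' → R` be ring maps and `B' = B ×_R R'` the fibre product ring, i.e. a ring
`B'` with maps `p : B' → B`, `q : B' → R'`, `s ∘ p = t ∘ q`, such that `(p, q)` is injective with
image the pairs `(b, r')` with `s(b) = t(r')`. Let `h ∈ B'` with images `g = p(h)`, `f = q(h)`. Then
the square of localizations `B'_h → B_g`, `B'_h → R'_f`, `B_g → R_{s(g)}`, `R'_f → R_{t(f)} =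
R_{s(g)}` (the induced maps) is cartesian as well: `B'_h = B_g ×_{R_{s(g)}} R'_f`. -/
theorem result {B R R' B' : Type u} [CommRing B] [CommRing R] [CommRing R'] [CommRing B']
    (s : B →+* R) (t : R' →+* R) (p : B' →+* B) (q : B' →+* R') (hc : s.comp p = t.comp q)
    (hinj : ∀ x y : B', p x = p y → q x = q y → x = y) (hsurj : ∀ (b : B) (r' : R'), s b = t r' → ∃ x : B', p x = b ∧ q x = r')
    (h : B') (Bh Bg Rf Rsg : Type u) [CommRing Bh] [CommRing Bg] [CommRing Rf] [CommRing Rsg]
    [Algebra B' Bh] [IsLocalization.Away h Bh] [Algebra B Bg] [IsLocalization.Away (p h) Bg]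
    [Algebra R' Rf] [IsLocalization.Away (q h) Rf] [Algebra R Rsg] [IsLocalization.Away (s (p h)) Rsg]
    (pL : Bh →+* Bg) (qL : Bh →+* Rf) (sL : Bg →+* Rsg) (tL : Rf →+* Rsg)
    (hp : pL.comp (algebraMap B' Bh) = (algebraMap B Bg).comp p) (hq : qL.comp (algebraMap B' Bh) = (algebraMap R' Rf).comp q)
    (hs : sL.comp (algebraMap B Bg) = (algebraMap R Rsg).comp s) (ht : tL.comp (algebraMap R' Rf) = (algebraMap R Rsg).comp t) :
    (∀ x y : Bh, pL x = pL y → qL x = qL y → x = y) ∧
    (∀ (b : Bg) (r : Rf), sL b = tL r → ∃ x : Bh, pL x = b ∧ qL x = r) := by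
  have hu : s (p h) = t (q h) := RingHom.congr_fun hc h
  have hpa : ∀ a, pL (algebraMap B' Bh a) = algebraMap B Bg (p a) := fun a => RingHom.congr_fun hp a
  have hqa : ∀ a, qL (algebraMap B' Bh a) = algebraMap R' Rf (q a) := fun a => RingHom.congr_fun hq a
  have hsa : ∀ a, sL (algebraMap B Bg a) = algebraMap R Rsg (s a) := fun a => RingHom.congr_fun hs a
  have hta : ∀ a, tL (algebraMap R' Rf a) = algebraMap R Rsg (t a) := fun a => RingHom.congr_fun ht a
  have hhU : IsUnit (algebraMap B' Bh h) := IsLocalization.Away.algebraMap_isUnit h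
  have hgU : IsUnit (algebraMap B Bg (p h)) := IsLocalization.Away.algebraMap_isUnit (p h)
  have hfU : IsUnit (algebraMap R' Rf (q h)) := IsLocalization.Away.algebraMap_isUnit (q h)
  constructor
  · have key : ∀ z : Bh, pL z = 0 → qL z = 0 → z = 0 := by
      intro z hz1 hz2
      obtain ⟨n, a, ha⟩ := IsLocalization.Away.surj h z
      have h1 : algebraMap B Bg (p a) = algebraMap B Bg 0 := by
        rw [← hpa, ← ha, map_mul, hz1, zero_mul, map_zero]
      have h2 : algebraMap R' Rf (q a) = algebraMap R' Rf 0 := by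
        rw [← hqa, ← ha, map_mul, hz2, zero_mul, map_zero]
      obtain ⟨k, hk⟩ := IsLocalization.Away.exists_of_eq (x := p h) h1
      obtain ⟨l, hl⟩ := IsLocalization.Away.exists_of_eq (x := q h) h2
      rw [mul_zero] at hk hl
      have h3 : h ^ (k + l) * a = 0 := by
        apply hinj
        · rw [map_mul, map_pow, map_zero, pow_add, mul_right_comm, hk, zero_mul]
        · rw [map_mul, map_pow, map_zero, pow_add, mul_assoc, hl, mul_zero]
      have h4 : algebraMap B' Bh a = 0 := by
        have h5 : algebraMap B' Bh h ^ (k + l) * algebraMap B' Bh a = 0 := by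
          rw [← map_pow, ← map_mul, h3, map_zero]
        exact (IsUnit.mul_right_eq_zero (hhU.pow (k + l))).mp h5
      rw [h4] at ha
      exact (IsUnit.mul_left_eq_zero (hhU.pow n)).mp ha
    intro x y hxy1 hxy2
    have := key (x - y) (by rw [map_sub, hxy1, sub_self]) (by rw [map_sub, hxy2, sub_self])
    exact sub_eq_zero.mp this
  · intro b r hbr
    obtain ⟨n, β, hβ⟩ := IsLocalization.Away.surj (p h) b
    obtain ⟨m, ρ, hρ⟩ := IsLocalization.Away.surj (q h) r
    have hβ' : b * algebraMap B Bg (p h) ^ (n + m) = algebraMap B Bg (β * p h ^ m) := by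
      rw [pow_add, ← mul_assoc, hβ, map_mul, map_pow]
    have hρ' : r * algebraMap R' Rf (q h) ^ (n + m) = algebraMap R' Rf (ρ * q h ^ n) := by
      rw [add_comm, pow_add, ← mul_assoc, hρ, map_mul, map_pow]
    have e1 : algebraMap R Rsg (s (β * p h ^ m)) = algebraMap R Rsg (t (ρ * q h ^ n)) := by
      rw [← hsa, ← hta, ← hβ', ← hρ', map_mul, map_mul, map_pow, map_pow, hsa, hta, hbr, hu]
    obtain ⟨k, hk⟩ := IsLocalization.Away.exists_of_eq (x := s (p h)) e1
    obtain ⟨x', hx'1, hx'2⟩ := hsurj (p h ^ k * (β * p h ^ m)) (q h ^ k * (ρ * q h ^ n)) (by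
      rw [map_mul, map_mul (f := t), map_pow, map_pow, hk, ← hu])
    refine ⟨IsLocalization.mk' Bh x' (⟨h ^ (n + m + k), n + m + k, rfl⟩ : Submonoid.powers h), ?_, ?_⟩
    · have e := IsLocalization.mk'_spec Bh x' (⟨h ^ (n + m + k), n + m + k, rfl⟩ : Submonoid.powers h)
      have h1 : pL (IsLocalization.mk' Bh x' (⟨h ^ (n + m + k), n + m + k, rfl⟩ : Submonoid.powers h)) *
          algebraMap B Bg (p h) ^ (n + m + k) = b * algebraMap B Bg (p h) ^ (n + m + k) := by
        calc _ = pL (IsLocalization.mk' Bh x' (⟨h ^ (n + m + k), n + m + k, rfl⟩ : Submonoid.powers h)) *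
              pL (algebraMap B' Bh (h ^ (n + m + k))) := by rw [hpa, map_pow, map_pow]
          _ = pL (algebraMap B' Bh x') := by rw [← map_mul, e]
          _ = algebraMap B Bg (p h) ^ k * (b * algebraMap B Bg (p h) ^ (n + m)) := by
              rw [hpa, hx'1, map_mul, ← hβ', map_pow]
          _ = _ := by ring
      exact (IsUnit.mul_left_inj (hgU.pow _)).mp h1
    · have e := IsLocalization.mk'_spec Bh x' (⟨h ^ (n + m + k), n + m + k, rfl⟩ : Submonoid.powers h)
      have h1 : qL (IsLocalization.mk' Bh x' (⟨h ^ (n + m + k), n + m + k, rfl⟩ : Submonoid.powers h)) *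
          algebraMap R' Rf (q h) ^ (n + m + k) = r * algebraMap R' Rf (q h) ^ (n + m + k) := by
        calc _ = qL (IsLocalization.mk' Bh x' (⟨h ^ (n + m + k), n + m + k, rfl⟩ : Submonoid.powers h)) *
              qL (algebraMap B' Bh (h ^ (n + m + k))) := by rw [hqa, map_pow, map_pow]
          _ = qL (algebraMap B' Bh x') := by rw [← map_mul, e]
          _ = algebraMap R' Rf (q h) ^ k * (r * algebraMap R' Rf (q h) ^ (n + m)) := by
              rw [hqa, hx'2, map_mul, ← hρ', map_pow]
          _ = _ := by ring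
      exact (IsUnit.mul_left_inj (hfU.pow _)).mp h1

end Groth.Agent.S6934
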