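import Groth.Statements.S6939
import Groth.Agent.Lib.Helper13.DRingPC

set_option autoImplicit false
universe u
open CategoryTheory CategoryTheory.Limits
attribute [local instance] HasDerivedCategory.standard
open DRing

namespace Groth.Agent.S6939

/-- Let R be a commutative ring, m an integer and K an object of D(R) whose cohomology vanishes in large
degrees. If the module H^i(K) is (m - i)-pseudo-coherent for every i, then K is m-pseudo-coherent;
if every H^i(K) is a pseudo-coherent module, then K is pseudo-coherent. -/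
theorem result (R : Type u) [CommRing R] (m : ℤ)
    (K : Dual.D R) (hb : ∃ b : ℤ, ∀ i : ℤ, b < i → Subsingleton (Dual.HD R K i)) :
    ((∀ i : ℤ, DRing.IsPseudoCoherentModule R (m - i) (Dual.HD R K i)) → DRing.IsPseudoCoherent R m K) ∧
      ((∀ i : ℤ, DRing.IsPseudoCoherentModule' R (Dual.HD R K i)) → DRing.IsPseudoCoherent' R K) := by
  obtain ⟨b, hb⟩ := hb
  have key : ∀ m : ℤ, (∀ i : ℤ, DRing.IsPseudoCoherentModule R (m - i) (Dual.HD R K i)) →
      DRing.IsPseudoCoherent R m K := by
    intro m h
    rw [Groth.Agent.Lib.Helper13.DR.isPseudoCoherent_iff]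
    exact Groth.Agent.Lib.Helper13.PC.isNPC_of_homology Groth.Agent.Lib.Helper13.DR.Pff_prod
      Groth.Agent.Lib.Helper13.DR.hqs_Pff Groth.Agent.Lib.Helper13.DR.hql_Pff K b
      (fun i hi => by
        have := hb i hi
        exact ModuleCat.isZero_of_subsingleton _)
      (fun i _ => (Groth.Agent.Lib.Helper13.DR.isPseudoCoherent_iff _ _).1 (h i))
  refine ⟨key m, fun h => ?_⟩
  rw [Groth.Agent.Lib.Helper13.DR.isPseudoCoherent'_iff_forall]
  intro m'
  exact key m' (fun i =>
    (Groth.Agent.Lib.Helper13.DR.isPseudoCoherent'_iff_forall _).1 (h i) (m' - i))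

end Groth.Agent.S6939
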