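import Groth.Statements.S6945
import Groth.Agent.Lib.Helper13.DRingLDerived2

set_option autoImplicit false
universe u
open CategoryTheory CategoryTheory.Limits
attribute [local instance] HasDerivedCategory.standard
open DRing

namespace Groth.Agent.S6945

/-- With the definition of tor amplitude: let R be a commutative ring, K an object of D(R) and a, b
integers, and assume the derived tensor product - ⊗^L_R M exists on D(R) for every R-module M. Then
K is isomorphic in D(R) to a complex of flat R-modules vanishing outside [a, b] if and only if H^i(K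
⊗^L_R M) = 0 for every R-module M and every integer i outside [a, b]. -/
theorem result (R : Type u) [CommRing R]
    [∀ M : ModuleCat.{u} R, DRing.HasLTensor R M] (K : Dual.D R) (a b : ℤ) :
    DRing.HasTorAmplitudeIn R a b K ↔
      ∀ (M : ModuleCat.{u} R) (i : ℤ), (i < a ∨ b < i) → Subsingleton (Dual.HD R ((DRing.LTensor R M).obj K) i) := by
  open Groth.Agent.Lib.Helper13.DR Groth.Agent.Lib.Helper13.PC DerivedCategory in
  constructor
  · intro h M i hi
    obtain ⟨P, hP, hz, ⟨e⟩⟩ := exists_projective_rep K b
      (fun i hi => isZero_HD_of_hasTorAmplitudeIn h i (Or.inr hi))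
    have : P.IsKProjective := isKProjective_of_forall_projective P b hz hP
    have hfl : ∀ i : ℤ, Module.Flat R (P.X i) := fun i => flat_of_projective' _ (hP i)
    rw [← isZero_iff_subsingleton]
    refine (tensor_vanishing_of_hasTorAmplitudeIn h P b hz hfl e M i hi).of_iso ?_
    exact (DerivedCategory.homologyFunctor _ i).mapIso
      ((DRing.LTensor R M).mapIso e.symm ≪≫ LTensorIso M P) ≪≫ homologyQIso _ i
  · intro h
    let X := Q.objPreimage K
    let e₀ : Q.obj X ≅ K := Q.objObjPreimageIso K
    have hH : ∀ i : ℤ, b < i → IsZero ((DerivedCategory.homologyFunctor _ i).obj K) := by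
      intro i hi
      have := h (MonoidalCategory.tensorUnit (ModuleCat.{u} R)) i (Or.inr hi)
      rw [← isZero_iff_subsingleton] at this
      exact this.of_iso ((DerivedCategory.homologyFunctor _ i).mapIso
        (e₀.symm ≪≫ (LTensorUnitIso X).symm ≪≫ (DRing.LTensor R _).mapIso e₀))
    obtain ⟨P, hP, hz, ⟨e⟩⟩ := exists_projective_rep K b hH
    have : P.IsKProjective := isKProjective_of_forall_projective P b hz hP
    have hfl : ∀ i : ℤ, Module.Flat R (P.X i) := fun i => flat_of_projective' _ (hP i)
    refine hasTorAmplitudeIn_of_iso e
      (hasTorAmplitudeIn_of_tensor_vanishing P b hz hfl a b (fun N i hi => ?_))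
    have := h N i hi
    rw [← isZero_iff_subsingleton] at this
    exact this.of_iso ((homologyQIso _ i).symm ≪≫ (DerivedCategory.homologyFunctor _ i).mapIso
      ((LTensorIso N P).symm ≪≫ (DRing.LTensor R N).mapIso e))

end Groth.Agent.S6945
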