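import Groth.Statements.S6956
import Groth.Agent.Lib.Helper13.DRingRestrict

set_option autoImplicit false
universe u
open CategoryTheory CategoryTheory.Limits
attribute [local instance] HasDerivedCategory.standard
open DRing

namespace Groth.Agent.S6956

/-- Let A → B be a homomorphism of commutative rings such that B is perfect as an A-module, and let K be
a perfect object of D(B). Then K, with scalars restricted to A, is a perfect object of D(A). -/
theorem result {A B : Type u} [CommRing A] [CommRing B] [Algebra A B]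
    (hB : DRing.IsPerfectModule A B) (K : Dual.D B) (hK : DRing.IsPerfect B K) :
    DRing.IsPerfect A ((DRing.restrictD (algebraMap A B)).obj K) := by

  classical
  let φ := algebraMap A B
  let W : ObjectProperty (DerivedCategory (ModuleCat.{u} B)) := fun K =>
    Groth.Agent.Lib.Helper13.PC.IsPerf (Groth.Agent.Lib.Helper13.DR.Pfp A) ((DRing.restrictD φ).obj K)
  have hW : W.IsClosedUnderIsomorphisms := ⟨fun e h => h.of_iso ((DRing.restrictD φ).mapIso e)⟩
  have hsumP := @Groth.Agent.Lib.Helper13.DR.Pfp_prod A _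
  have hliftP := @Groth.Agent.Lib.Helper13.DR.hlift_Pfp A _
  have hstP := @Groth.Agent.Lib.Helper13.DR.hst_Pfp A _
  refine Groth.Agent.Lib.Helper13.DR.prop_of_isPerfect_of_thick W ?_ ?_ ?_ ?_ K hK
  · -- `B[0]`
    have e1 : (DRing.restrictD φ).obj ((DerivedCategory.singleFunctor (ModuleCat.{u} B) 0).obj (ModuleCat.of B B)) ≅
        (DerivedCategory.singleFunctor (ModuleCat.{u} A) 0).obj
          ((ModuleCat.restrictScalars.{u} φ).obj (ModuleCat.of B B)) :=
      ((ModuleCat.restrictScalars.{u} φ).mapDerivedCategorySingleFunctor 0).app _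
    have e2 := (DerivedCategory.singleFunctor (ModuleCat.{u} A) 0).mapIso
      (Groth.Agent.Lib.Helper13.DR.algebraRestrictIso A B)
    exact Groth.Agent.Lib.Helper13.PC.IsPerf.of_iso hB (e2 ≪≫ e1.symm)
  · intro K n hK
    exact (Groth.Agent.Lib.Helper13.PC.IsPerf.shift hK n).of_iso
      (((DRing.restrictD φ).commShiftIso n).app K).symm
  · intro T hT h1 h3
    exact Groth.Agent.Lib.Helper13.PC.isPerf_obj₂ hsumP hliftP _
      ((DRing.restrictD φ).map_distinguished T hT) h1 h3
  · intro X Y _ h
    have : PreservesBinaryBiproducts (DRing.restrictD φ) :=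
      preservesBinaryBiproducts_of_preservesBiproducts _
    have h' := Groth.Agent.Lib.Helper13.PC.IsPerf.of_iso h ((DRing.restrictD φ).mapBiprod X Y)
    have hfac : ∀ (E' E'' : ModuleCat.{u} A) [HasBinaryBiproduct E' E''],
        Groth.Agent.Lib.Helper13.DR.Pfp A (E' ⊞ E'') →
          Groth.Agent.Lib.Helper13.DR.Pfp A E' ∧ Groth.Agent.Lib.Helper13.DR.Pfp A E'' := by
      intro E' E'' _ h
      exact ⟨Groth.Agent.Lib.Helper13.DR.Pfp_of_retract biprod.inl biprod.fst (by simp) h,
        Groth.Agent.Lib.Helper13.DR.Pfp_of_retract biprod.inr biprod.snd (by simp) h⟩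
    exact (Groth.Agent.Lib.Helper13.PC.isPerf_of_biprod hsumP hliftP hstP hfac _ _ h').1

end Groth.Agent.S6956
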