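import Groth.Statements.S6957
import Groth.Agent.Lib.Helper13.DRingLDerived
import Groth.Agent.Lib.Helper13.DRingFlatBC

set_option autoImplicit false
universe u
open CategoryTheory CategoryTheory.Limits
attribute [local instance] HasDerivedCategory.standard
open DRing

namespace Groth.Agent.S6957

/-- Let A → B be a homomorphism of commutative rings such that the derived base change D(A) → D(B)
exists, and let K be a perfect object of D(A). Then K ⊗^L_A B is a perfect object of D(B). -/
theorem result {A B : Type u} [CommRing A] [CommRing B] (φ : A →+* B)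
    [DRing.HasLBaseChange φ] (K : Dual.D A) (hK : DRing.IsPerfect A K) :
    DRing.IsPerfect B ((DRing.LBaseChange φ).obj K) := by
  open Groth.Agent.Lib.Helper13.DR Groth.Agent.Lib.Helper13.PC in
  obtain ⟨E, a, b, hv, hE, ⟨e⟩⟩ := hK
  have : E.IsKProjective := isKProjective_of_forall_projective E b (fun i hi => hv i (Or.inr hi))
    (fun i => (projective_iff _).2 (hE i).2)
  let _ := φ.toAlgebra
  refine ⟨((ModuleCat.extendScalars.{u, u, u} φ).mapHomologicalComplex (ComplexShape.up ℤ)).obj E,
    a, b, fun i hi => Functor.map_isZero (ModuleCat.extendScalars.{u, u, u} φ) (hv i hi),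
    fun i => Pfp_extendScalars B (hE i),
    ⟨(LBaseChangeIso φ E).symm ≪≫ (DRing.LBaseChange φ).mapIso e⟩⟩

end Groth.Agent.S6957
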