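import Groth.Statements.S6958
import Groth.Agent.Lib.Helper13.DRingFlatBC

set_option autoImplicit false
universe u
open CategoryTheory CategoryTheory.Limits
attribute [local instance] HasDerivedCategory.standard
open DRing

namespace Groth.Agent.S6958

/-- Let A → B be a flat homomorphism of commutative rings and M a perfect A-module. Then B ⊗_A M is a
perfect B-module. -/
theorem result {A B : Type u} [CommRing A] [CommRing B] [Algebra A B]
    [Module.Flat A B] (M : Type u) [AddCommGroup M] [Module A M] (hM : DRing.IsPerfectModule A M) :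
    DRing.IsPerfectModule B (TensorProduct A B M) := by

  obtain ⟨E, a, b, hv, hP, ⟨e⟩⟩ := hM
  exact ⟨(Groth.Agent.Lib.Helper13.DR.extendCx A B).obj E, a, b,
    fun i hi => Functor.map_isZero (ModuleCat.extendScalars.{u, u, u} (algebraMap A B)) (hv i hi),
    fun i => Groth.Agent.Lib.Helper13.DR.Pfp_extendScalars B (hP i),
    ⟨(Groth.Agent.Lib.Helper13.DR.flatBCQIso A B E).symm ≪≫
      (Groth.Agent.Lib.Helper13.DR.flatBC A B).mapIso e ≪≫
      Groth.Agent.Lib.Helper13.DR.flatBCSingleIso A B M⟩⟩

end Groth.Agent.S6958
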