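import Groth.Statements.S6961
import Groth.Agent.Lib.Helper13.DRingDescent3

set_option autoImplicit false
universe u
open CategoryTheory CategoryTheory.Limits
attribute [local instance] HasDerivedCategory.standard
open DRing

namespace Groth.Agent.S6961

/-- Let R → R' be a faithfully flat homomorphism of commutative rings and K a cochain complex of
R-modules. If the termwise base change K ⊗_R R' is a perfect object of D(R'), then K is a perfect
object of D(R). -/
theorem result {R R' : Type u} [CommRing R] [CommRing R'] [Algebra R R']
    [Module.FaithfullyFlat R R'] (K : DRing.Cx R)
    (hK : DRing.IsPerfect R' (DRing.toD (((ModuleCat.extendScalars (algebraMap R R')).mapHomologicalComplex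
        (ComplexShape.up ℤ)).obj K))) :
    DRing.IsPerfect R (DRing.toD K) := by
  open Groth.Agent.Lib.Helper13.DR in
  exact isPerfect_of_jointlyFaithful (S := fun _ : Unit => R')
    (jointlyFaithful_of_faithfullyFlat R R') (jointlyDetectsFinite_of_faithfullyFlat R R')
    K (fun _ => hK)

end Groth.Agent.S6961
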