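import Groth.Statements.S6962
import Groth.Agent.Lib.Helper13.RegPerf2
import Groth.Agent.S6954

set_option autoImplicit false
universe u
open CategoryTheory CategoryTheory.Limits
attribute [local instance] HasDerivedCategory.standard
open DRing

namespace Groth.Agent.S6962

/-- Let R be a regular commutative ring, i.e. R is Noetherian and its localization at every prime ideal
is a regular local ring. Then an R-module M is perfect (M[0] is isomorphic in D(R) to a bounded
complex of finite projective modules) if and only if M is finitely generated. -/
theorem result (R : Type u) [CommRing R] [IsNoetherianRing R]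
    (hreg : ∀ p : PrimeSpectrum R, IsRegularLocalRing (Localization.AtPrime p.asIdeal))
    (M : Type u) [AddCommGroup M] [Module R M] :
    DRing.IsPerfectModule R M ↔ Module.Finite R M := by
  open Groth.Agent.Lib.Helper13.DR Groth.Agent.Lib.Helper13.PC DerivedCategory in
  constructor
  · intro h
    have h1 : DRing.IsPseudoCoherent' R (Dual.inD R M) := ((Groth.Agent.S6954.result R _).1 h).1
    exact (isPseudoCoherentModule'_iff_of_isNoetherianRing M).1 h1
  · intro h
    have hpc : DRing.IsPseudoCoherent' R (Dual.inD R M) :=
      (isPseudoCoherentModule'_iff_of_isNoetherianRing M).2 h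
    refine Groth.Agent.Lib.Helper13.RP.isPerfect_of_regular R hreg _ hpc 0 (fun i hi => ?_)
    have : IsZero ((DerivedCategory.homologyFunctor (ModuleCat.{u} R) i).obj
        ((DerivedCategory.singleFunctor (ModuleCat.{u} R) 0).obj (ModuleCat.of R M))) :=
      DerivedCategory.isZero_of_isGE _ 0 i hi
    exact ModuleCat.subsingleton_of_isZero this

end Groth.Agent.S6962
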