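import Groth.Statements.S6963
import Groth.Agent.Lib.Helper13.BiDual3

set_option autoImplicit false
universe u
open CategoryTheory CategoryTheory.Limits
attribute [local instance] HasDerivedCategory.standard
open DRing

namespace Groth.Agent.S6963

/-- Let A be a commutative ring and K a perfect object of D(A), represented by a cochain complex E for
which RHom_A(E, -) exists; write K^∨ = RHom_A(E, A). Then K^∨ is a perfect object of D(A), and for
every cochain complex E' representing K^∨ for which RHom_A(E', -) exists, RHom_A(E', A) is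
isomorphic to K in D(A) (existence of an isomorphism only; the canonical one is the double-duality
map). -/
theorem result (A : Type u) [CommRing A] (K : Dual.D A) (hK : DRing.IsPerfect A K)
    (E : DRing.Cx A) (eK : DRing.toD E ≅ K) [DRing.HasRHomCx E] :
    DRing.IsPerfect A ((DRing.RHomCx E).obj (Dual.inD A A)) ∧
      ∀ (E' : DRing.Cx A) (eK' : DRing.toD E' ≅ (DRing.RHomCx E).obj (Dual.inD A A)) [DRing.HasRHomCx E'],
        Nonempty ((DRing.RHomCx E').obj (Dual.inD A A) ≅ K) := by
  classical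
  obtain ⟨P, a, b, hv, hP, ⟨eP⟩⟩ := hK
  have hPK : P.IsKProjective := Groth.Agent.Lib.Helper13.BD.isKProjective_of_perfect P a b hv hP
  let V : DRing.Cx A := Groth.Agent.Lib.Helper13.BD.VA A
  let P' : DRing.Cx A := DRing.homCx P V
  have hv' : DRing.VanishesOutside P' (-b) (-a) :=
    Groth.Agent.Lib.Helper13.BD.vanishesOutside_dual P a b hv
  have hP' : DRing.TermwiseFiniteProjective P' :=
    Groth.Agent.Lib.Helper13.BD.termwiseFiniteProjective_dual P hP
  have hPK' : P'.IsKProjective :=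
    Groth.Agent.Lib.Helper13.BD.isKProjective_of_perfect P' (-b) (-a) hv' hP'
  let eA : Dual.inD A A ≅ DRing.toD V :=
    Groth.Agent.Lib.Helper13.PC.singleIsoQ 0 (ModuleCat.of A A)
  obtain ⟨e1⟩ := Groth.Agent.Lib.Helper13.BD.nonempty_RHomCx_iso_homCx_of_iso E P
    (eK ≪≫ eP.symm) V
  let e2 : (DRing.RHomCx E).obj (Dual.inD A A) ≅ DRing.toD P' :=
    (DRing.RHomCx E).mapIso eA ≪≫ e1
  refine ⟨⟨P', -b, -a, hv', hP', ⟨e2.symm⟩⟩, ?_⟩
  intro E' eK' _
  obtain ⟨e3⟩ := Groth.Agent.Lib.Helper13.BD.nonempty_RHomCx_iso_homCx_of_iso E' P'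
    (eK' ≪≫ e2) V
  have hbid : IsIso (Groth.Agent.Lib.Helper13.BD.bid P V) :=
    Groth.Agent.Lib.Helper13.BD.isIso_bid P hP
  exact ⟨(DRing.RHomCx E').mapIso eA ≪≫ e3 ≪≫
    (DerivedCategory.Q.mapIso (asIso (Groth.Agent.Lib.Helper13.BD.bid P V))).symm ≪≫ eP⟩

end Groth.Agent.S6963
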