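import Groth.Statements.S6966
import Groth.Agent.Lib.Helper13.LocFF5
import Groth.Agent.Lib.Helper7.DerivedCompleteMT

set_option autoImplicit false
universe u
open CategoryTheory CategoryTheory.Limits
attribute [local instance] HasDerivedCategory.standard
open CAlg

namespace Groth.Agent.S6966
section Aux
end Aux

/-- Let R be a commutative ring, I an ideal of R and M an R-module. Then the following two conditions
coincide: for each a ∈ I, the endomorphism of M given by multiplication by a can be written as a
composite M → P → M with P some projective R-module; and for every R-module N and every a ∈ I, a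
annihilates Ext^1_R(M, N) = Hom(M[0], N[1]) in D(R). -/
theorem result (R : Type u) [CommRing R] (I : Ideal R) (M : Type u)
    [AddCommGroup M] [Module R M] :
    (∀ a ∈ I, ∃ (P : Type u) (_ : AddCommGroup P) (_ : Module R P) (_ : Module.Projective R P)
        (f : M →ₗ[R] P) (g : P →ₗ[R] M), g ∘ₗ f = a • LinearMap.id) ↔
      ∀ (N : Type u) [AddCommGroup N] [Module R N], ∀ a ∈ I,
        ∀ x : DRing.ExtD R (Dual.inD R M) (Dual.inD R N) 1, a • x = 0 := by
  classical
  constructor
  · intro h N _ _ a ha x
    obtain ⟨P, _, _, hP, f, g, hgf⟩ := h a ha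
    haveI : Projective (ModuleCat.of R P) := (IsProjective.iff_projective (R := R) (P := P)).1 hP
    have hz : IsZero ((Groth.Agent.Lib.Helper13.Coind.Hh 1).obj (Dual.inD R N)) := by
      have := Groth.Agent.Lib.Helper7.DerivedCompleteMT.subsingleton_HD_inD (A := R) N 1 one_ne_zero
      exact ModuleCat.isZero_of_subsingleton _
    have hsub := Groth.Agent.Lib.Helper13.Coind.subsingleton_hom_projective (ModuleCat.of R P)
      (Dual.inD R N) 1 hz
    have e1 : (DerivedCategory.singleFunctor (ModuleCat.{u} R) 0).map (ModuleCat.ofHom f) ≫
        (DerivedCategory.singleFunctor (ModuleCat.{u} R) 0).map (ModuleCat.ofHom g) =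
        a • 𝟙 (Dual.inD R M) := by
      rw [← Functor.map_comp, ← ModuleCat.ofHom_comp, hgf]
      have : ModuleCat.ofHom (a • (LinearMap.id : M →ₗ[R] M)) = a • 𝟙 (ModuleCat.of R M) := rfl
      rw [this, CategoryTheory.Functor.map_smul, CategoryTheory.Functor.map_id]
    change a • x = 0
    have e2 : a • x = (a • 𝟙 (Dual.inD R M)) ≫ x := by
      rw [Linear.smul_comp, Category.id_comp]
    rw [e2, ← e1, Category.assoc,
      hsub.elim ((DerivedCategory.singleFunctor (ModuleCat.{u} R) 0).map (ModuleCat.ofHom g) ≫ x) 0,
      Limits.comp_zero]
  · intro h a ha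
    -- free cover of M
    have hπ : Function.Surjective (Finsupp.linearCombination R (id : M → M)) := by
      intro m
      refine ⟨Finsupp.single m 1, ?_⟩
      rw [Finsupp.linearCombination_single, one_smul]
      rfl
    let S : ShortComplex (ModuleCat.{u} R) :=
      ShortComplex.mk
        (show ModuleCat.of R (LinearMap.ker (Finsupp.linearCombination R (id : M → M))) ⟶
          ModuleCat.of R (M →₀ R) from
          ModuleCat.ofHom (LinearMap.ker (Finsupp.linearCombination R (id : M → M))).subtype)
        (show ModuleCat.of R (M →₀ R) ⟶ ModuleCat.of R M from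
          ModuleCat.ofHom (Finsupp.linearCombination R (id : M → M))) (by
        apply ModuleCat.hom_ext
        apply LinearMap.ext
        intro x
        exact x.2)
    have hS : S.ShortExact := by
      refine ShortComplex.ShortExact.mk' ?_ ?_ ?_
      · rw [ShortComplex.moduleCat_exact_iff]
        intro x hx
        exact ⟨⟨x, hx⟩, rfl⟩
      · rw [ModuleCat.mono_iff_injective]
        exact Subtype.val_injective
      · rw [ModuleCat.epi_iff_surjective]
        exact hπ
    have hT := hS.singleTriangle_distinguished
    have hδ : (a • 𝟙 (Dual.inD R M)) ≫ hS.singleδ = 0 := by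
      have := h (LinearMap.ker (Finsupp.linearCombination R (id : M → M))) a ha
        hS.singleδ
      rw [Linear.smul_comp, Category.id_comp]
      exact this
    obtain ⟨φ, hφ⟩ := Pretriangulated.Triangle.coyoneda_exact₃ _ hT (a • 𝟙 (Dual.inD R M)) hδ
    obtain ⟨f, rfl⟩ := (DerivedCategory.singleFunctor (ModuleCat.{u} R) 0).map_surjective φ
    refine ⟨(M →₀ R), inferInstance, inferInstance, inferInstance, f.hom,
      Finsupp.linearCombination R (id : M → M), ?_⟩
    have e3 : (DerivedCategory.singleFunctor (ModuleCat.{u} R) 0).map (f ≫ S.g) =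
        (DerivedCategory.singleFunctor (ModuleCat.{u} R) 0).map (a • 𝟙 (ModuleCat.of R M)) := by
      rw [CategoryTheory.Functor.map_comp, CategoryTheory.Functor.map_smul,
        CategoryTheory.Functor.map_id]
      exact hφ.symm
    have e4 := (DerivedCategory.singleFunctor (ModuleCat.{u} R) 0).map_injective e3
    have e5 := congrArg ModuleCat.Hom.hom e4
    exact e5

end Groth.Agent.S6966
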