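import Groth.Statements.S6969
import Mathlib.LinearAlgebra.Finsupp.Supported
import Mathlib.RingTheory.Finiteness.Basic
import Mathlib.LinearAlgebra.FreeModule.Basic
import Mathlib.Tactic

set_option autoImplicit false
universe u
open CAlg

namespace Groth.Agent.S6969

/-- Let R be a commutative ring and φ : M → N an R-linear map which factors through a projective
R-module. If M is finitely generated, then φ factors through a finitely generated projective
R-module. -/
theorem result (R : Type u) [CommRing R] {M N : Type u} [AddCommGroup M]
    [Module R M] [Module.Finite R M] [AddCommGroup N] [Module R N] (φ : M →ₗ[R] N)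
    (h : ∃ (P : Type u) (_ : AddCommGroup P) (_ : Module R P) (_ : Module.Projective R P) (f : M →ₗ[R] P)
      (g : P →ₗ[R] N), g ∘ₗ f = φ) :
    ∃ (P : Type u) (_ : AddCommGroup P) (_ : Module R P) (_ : Module.Projective R P) (_ : Module.Finite R P)
      (f : M →ₗ[R] P) (g : P →ₗ[R] N), g ∘ₗ f = φ := by
  classical
  obtain ⟨P, _, _, hP, f, g, rfl⟩ := h
  obtain ⟨s, hs⟩ := Module.projective_def'.mp hP
  obtain ⟨G, hG⟩ := (Module.Finite.fg_top (R := R) (M := M))
  let t : Finset P := G.biUnion (fun m => (s (f m)).support)
  have hmem : ∀ m, s (f m) ∈ Finsupp.supported R R (t : Set P) := by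
    intro m
    have hm : m ∈ Submodule.span R (G : Set M) := hG ▸ Submodule.mem_top
    have hle : Submodule.span R (G : Set M) ≤
        (Finsupp.supported R R (t : Set P)).comap (s ∘ₗ f) := by
      rw [Submodule.span_le]
      intro x hx
      simp only [Submodule.comap_coe, Set.mem_preimage, LinearMap.comp_apply, SetLike.mem_coe,
        Finsupp.mem_supported]
      intro p hp
      simp only [t, Finset.coe_biUnion, Set.mem_iUnion]
      exact ⟨x, hx, hp⟩
    exact hle hm
  let F0 := Finsupp.supported R R (t : Set P)
  let e : F0 ≃ₗ[R] ((t : Set P) →₀ R) := Finsupp.supportedEquivFinsupp (t : Set P)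
  have : Module.Projective R F0 := Module.Projective.of_equiv e.symm
  have : Module.Finite R F0 := Module.Finite.equiv e.symm
  refine ⟨F0, inferInstance, inferInstance, inferInstance, inferInstance,
    (s ∘ₗ f).codRestrict F0 hmem, g ∘ₗ (Finsupp.linearCombination R id) ∘ₗ F0.subtype, ?_⟩
  ext m
  simp only [LinearMap.comp_apply, Submodule.subtype_apply, LinearMap.codRestrict_apply]
  have := congrArg (fun ψ : P →ₗ[R] P => ψ (f m)) hs
  simp only [LinearMap.comp_apply, LinearMap.id_apply] at this
  rw [this]

end Groth.Agent.S6969
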