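import Groth.Statements.S6975
import Groth.Agent.Lib.Helper13.DRingLocalSplit
import Groth.Agent.Lib.Helper13.DRingLDerived

set_option autoImplicit false
universe u
open CategoryTheory CategoryTheory.Limits
attribute [local instance] HasDerivedCategory.standard
open DRing

namespace Groth.Agent.S6975

/-- Let R be a local commutative ring with residue field κ such that the derived base change D(R) → D(κ)
exists, and let K be a pseudo-coherent object of D(R). If there is an integer a with H^i(K ⊗^L_R κ)
= 0 for all i < a, then K is perfect. -/
theorem result (R : Type u) [CommRing R] [IsLocalRing R]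
    [DRing.HasLBaseChange (IsLocalRing.residue R)] (K : Dual.D R) (hK : DRing.IsPseudoCoherent' R K) (a : ℤ)
    (h : ∀ i : ℤ, i < a → Subsingleton (Dual.HD (IsLocalRing.ResidueField R)
      ((DRing.LBaseChange (IsLocalRing.residue R)).obj K) i)) :
    DRing.IsPerfect R K := by
  open Groth.Agent.Lib.Helper13.DR Groth.Agent.Lib.Helper13.PC DerivedCategory in
  obtain ⟨E, b, hb, hff, ⟨e⟩⟩ := hK
  have hproj : ∀ i : ℤ, Projective (E.X i) := fun i => projective_of_Pfp (Pff_le_Pfp (hff i))
  have : E.IsKProjective := isKProjective_of_forall_projective E b hb hproj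
  have key : DRing.IsPerfect R (Q.obj E) := by
    refine isPerfect_of_residue_vanishing R E b hb hff a b (fun i hi => ?_)
    rcases hi with hi | hi
    · rw [HomologicalComplex.exactAt_iff_isZero_homology]
      have := h i hi
      have hz : IsZero ((DerivedCategory.homologyFunctor (ModuleCat.{u} (IsLocalRing.ResidueField R)) i).obj
          ((DRing.LBaseChange (IsLocalRing.residue R)).obj K)) := ModuleCat.isZero_of_subsingleton _
      exact hz.of_iso ((homologyQIso _ i).symm ≪≫
        (DerivedCategory.homologyFunctor (ModuleCat.{u} (IsLocalRing.ResidueField R)) i).mapIso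
          ((LBaseChangeIso (IsLocalRing.residue R) E).symm ≪≫
            (DRing.LBaseChange (IsLocalRing.residue R)).mapIso e))
    · exact ShortComplex.exact_of_isZero_X₂ _
        (Functor.map_isZero (ModuleCat.extendScalars.{u, u, u} (algebraMap R (IsLocalRing.ResidueField R)))
          (hb i hi))
  obtain ⟨E', a', b', hv, hfp, ⟨e'⟩⟩ := key
  exact ⟨E', a', b', hv, hfp, ⟨e' ≪≫ e⟩⟩

end Groth.Agent.S6975
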