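import Groth.Statements.S6978
import Groth.Agent.Lib.Helper2.CptD.Mod

set_option autoImplicit false
universe u
open CategoryTheory CategoryTheory.Limits
attribute [local instance] HasDerivedCategory.standard
open DRing

namespace Groth.Agent.S6978
open Groth.Agent.Lib.Helper2.CptD
section Aux

open Groth.Agent.Lib.Helper2.CptD

universe w₁ w₂ v₁ u₁

variable {D : Type u₁} [Category.{v₁} D] [HasZeroMorphisms D]

/-- Reindexing a colimit cofan along `ULift.down`. -/
noncomputable def isColimitUp {ι : Type w₁} {Y : ι → D} (c : Cofan Y) (hc : IsColimit c) :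
    IsColimit (Cofan.mk c.pt (fun i : ULift.{w₂} ι => c.inj i.down) :
      Cofan (fun i : ULift.{w₂} ι => Y i.down)) :=
  Cofan.IsColimit.mk _ (fun s => Cofan.IsColimit.desc hc (fun i => s.inj ⟨i⟩))
    (fun s i => Cofan.IsColimit.fac hc _ i.down)
    (fun s m hm => Cofan.IsColimit.hom_ext hc _ _ (fun i => by
      rw [Cofan.IsColimit.fac]
      exact hm ⟨i⟩))

/-- Reindexing a colimit cofan along `ULift.up`. -/
noncomputable def isColimitDown {ι : Type w₁} {Y : ι → D}
    (c : Cofan (fun i : ULift.{w₂} ι => Y i.down)) (hc : IsColimit c) :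
    IsColimit (Cofan.mk c.pt (fun i : ι => c.inj ⟨i⟩) : Cofan Y) :=
  Cofan.IsColimit.mk _ (fun s => Cofan.IsColimit.desc hc (fun i => s.inj i.down))
    (fun s i => Cofan.IsColimit.fac hc _ ⟨i⟩)
    (fun s m hm => Cofan.IsColimit.hom_ext hc _ _ (fun i => by
      rw [Cofan.IsColimit.fac]
      exact hm i.down))

lemma proj_up {ι : Type w₁} {Y : ι → D} (c : Cofan Y) (hc : IsColimit c)
    (t' : Finset (ULift.{w₂} ι)) [DecidableEq ι] :
    proj (Cofan.mk c.pt (fun i : ULift.{w₂} ι => c.inj i.down) :
      Cofan (fun i : ULift.{w₂} ι => Y i.down)) (isColimitUp c hc) t' =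
      proj c hc (t'.image ULift.down) := by
  refine Cofan.IsColimit.hom_ext hc _ _ (fun i => ?_)
  by_cases hi : (ULift.up i : ULift.{w₂} ι) ∈ t'
  · have h1 := inj_proj_of_mem (Cofan.mk c.pt (fun i : ULift.{w₂} ι => c.inj i.down) :
      Cofan (fun i : ULift.{w₂} ι => Y i.down)) (isColimitUp c hc) hi
    have h2 : i ∈ t'.image ULift.down := Finset.mem_image.2 ⟨_, hi, rfl⟩
    rw [inj_proj_of_mem c hc h2]
    exact h1
  · have h1 := inj_proj_of_not_mem (Cofan.mk c.pt (fun i : ULift.{w₂} ι => c.inj i.down) :
      Cofan (fun i : ULift.{w₂} ι => Y i.down)) (isColimitUp c hc) hi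
    have h2 : i ∉ t'.image ULift.down := by
      intro h
      obtain ⟨j, hj, rfl⟩ := Finset.mem_image.1 h
      exact hi hj
    rw [inj_proj_of_not_mem c hc h2]
    exact h1

end Aux

/-- Let R be a commutative ring and K an object of D(R). Then K is perfect if and only if K is a compact
object of D(R): for every family (E_i) of objects of D(R) indexed by a small type, the canonical map
from the direct sum of the Hom(K, E_i) to Hom(K, ⊕ E_i) is bijective. -/
theorem result (R : Type u) [CommRing R] (K : Dual.D R) :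
    DRing.IsPerfect R K ↔
      ∀ (I : Type u) (E : I → Dual.D R) [HasCoproduct fun i : ULift.{u + 1} I => E i.down],
        Function.Bijective (CohDer.homSumToHomCoprod K (fun i : ULift.{u + 1} I => E i.down)) := by
  classical
  constructor
  · intro hK I E _
    have hC : CptU.{u} K := cptU_of_isPerfect R K hK
    let Y' : ULift.{u + 1} I → Dual.D R := fun i => E i.down
    refine ⟨injective_homSumToHomCoprod K Y', fun f => ?_⟩
    let c : Cofan E := Cofan.mk (∐ Y') (fun i => Sigma.ι Y' ⟨i⟩)
    have hc : IsColimit c := isColimitDown (sigmaCofan Y') (coproductIsCoproduct Y')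
    obtain ⟨t, ht⟩ := hC I E c hc f
    refine mem_range_homSumToHomCoprod K Y' f (t.map ⟨ULift.up, ULift.up_injective⟩) ?_
    have hpr : proj (sigmaCofan Y') (coproductIsCoproduct Y')
        (t.map ⟨ULift.up, ULift.up_injective⟩) = proj c hc t := by
      have h1 := proj_up.{u, u + 1} c hc (t.map ⟨ULift.up, ULift.up_injective⟩)
      have h2 : (t.map ⟨ULift.up.{u + 1}, ULift.up_injective⟩).image ULift.down = t := by
        ext i
        simp
      rw [h2] at h1
      rw [← h1]
      exact proj_congr _ _ _ _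
    rw [hpr]
    exact ht
  · intro h
    refine isPerfect_of_cptU R K (fun ι Y c hc f => ?_)
    let Y' : ULift.{u + 1} ι → Dual.D R := fun i => Y i.down
    let c' : Cofan Y' := Cofan.mk c.pt (fun i => c.inj i.down)
    have hc' : IsColimit c' := isColimitUp c hc
    haveI : HasCoproduct Y' := ⟨⟨⟨c', hc'⟩⟩⟩
    have hb := h ι Y
    let e := IsColimit.coconePointUniqueUpToIso hc' (coproductIsCoproduct Y')
    obtain ⟨x, hx⟩ := hb.2 (f ≫ e.hom)
    obtain ⟨t', ht'⟩ := exists_fix_homSumToHomCoprod K Y' x
    rw [hx] at ht'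
    have h1 : f ≫ proj c' hc' t' = f :=
      fix_transport c' _ hc' (coproductIsCoproduct Y') f t' ht'
    refine ⟨t'.image ULift.down, ?_⟩
    rw [← proj_up.{u, u + 1} c hc t']
    exact (congrArg (fun z => f ≫ z) (proj_congr c' (isColimitUp c hc) hc' t')).trans h1

end Groth.Agent.S6978
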