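import Groth.Statements.S6979
import Groth.Agent.Lib.Helper13.DRingDescent3
import Groth.Agent.S6952
import Groth.Agent.S6971

set_option autoImplicit false
universe u
open CategoryTheory CategoryTheory.Limits
attribute [local instance] HasDerivedCategory.standard
open DRing

namespace Groth.Agent.S6979

/-- Let R be a commutative ring and I a nilpotent ideal of R such that the derived base change D(R) →
D(R/I) exists, and let K be an object of D(R). If K ⊗^L_R R/I is a perfect object of D(R/I), then K
is a perfect object of D(R). -/
theorem result (R : Type u) [CommRing R] (I : Ideal R)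
    (hI : IsNilpotent I) [DRing.HasLBaseChange (Ideal.Quotient.mk I)] (K : Dual.D R)
    (hK : DRing.IsPerfect (R ⧸ I) ((DRing.LBaseChange (Ideal.Quotient.mk I)).obj K)) :
    DRing.IsPerfect R K := by
  open Groth.Agent.Lib.Helper13.DR Groth.Agent.Lib.Helper13.PC DRing in
  have hsurj : Function.Surjective (Ideal.Quotient.mk I) := Ideal.Quotient.mk_surjective
  have hnil : IsNilpotent (RingHom.ker (Ideal.Quotient.mk I)) := by
    rw [Ideal.mk_ker]; exact hI
  obtain ⟨a, b, hab⟩ := exists_hasTorAmplitudeIn_of_isPerfect hK
  have h1 : DRing.HasTorAmplitudeIn R a b K :=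
    (Groth.Agent.S6952.result (Ideal.Quotient.mk I) hsurj hnil K a b).1 hab
  have h2 : DRing.IsPseudoCoherent' R K :=
    (Groth.Agent.S6971.result (Ideal.Quotient.mk I) hsurj hnil K).1 (by
      rw [isPseudoCoherent'_iff]
      exact fun m => isNPC_of_isPerfect hK m)
  rw [isPseudoCoherent'_iff] at h2
  exact isPerfect_of_isNPC_of_hasTorAmplitudeIn (h2 (a - 1)) h1

end Groth.Agent.S6979
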