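import Groth.Statements.S6980
import Groth.Agent.Lib.Helper13.DRingTwoIdeal
import Groth.Agent.Lib.Helper13.SemiFree4

set_option autoImplicit false
universe u
open CategoryTheory CategoryTheory.Limits
attribute [local instance] HasDerivedCategory.standard
open DRing

namespace Groth.Agent.S6980

/-- Let R be a commutative ring, I and J ideals of R such that the derived base changes D(R) → D(R/I),
D(R/J), D(R/IJ) exist, and K an object of D(R). If K ⊗^L_R R/I is perfect in D(R/I) and K ⊗^L_R R/J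
is perfect in D(R/J), then K ⊗^L_R R/IJ is perfect in D(R/IJ). -/
theorem result (R : Type u) [CommRing R] (I J : Ideal R)
    [DRing.HasLBaseChange (Ideal.Quotient.mk I)] [DRing.HasLBaseChange (Ideal.Quotient.mk J)]
    [DRing.HasLBaseChange (Ideal.Quotient.mk (I * J))] (K : Dual.D R)
    (hI : DRing.IsPerfect (R ⧸ I) ((DRing.LBaseChange (Ideal.Quotient.mk I)).obj K))
    (hJ : DRing.IsPerfect (R ⧸ J) ((DRing.LBaseChange (Ideal.Quotient.mk J)).obj K)) :
    DRing.IsPerfect (R ⧸ (I * J)) ((DRing.LBaseChange (Ideal.Quotient.mk (I * J))).obj K) := by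
  open Groth.Agent.Lib.Helper13.DR Groth.Agent.Lib.Helper13.PC Groth.Agent.Lib.Helper13.SF DRing in
  obtain ⟨P₀, hPK, hproj, ⟨e⟩⟩ := exists_kprojective_rep (R := R) K
  have h1 := isPerfect_of_iso
    ((DRing.LBaseChange (Ideal.Quotient.mk I)).mapIso e.symm ≪≫
      LBaseChangeIso (Ideal.Quotient.mk I) P₀) hI
  have h2 := isPerfect_of_iso
    ((DRing.LBaseChange (Ideal.Quotient.mk J)).mapIso e.symm ≪≫
      LBaseChangeIso (Ideal.Quotient.mk J) P₀) hJ
  exact isPerfect_of_iso
    ((LBaseChangeIso (Ideal.Quotient.mk (I * J)) P₀).symm ≪≫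
      (DRing.LBaseChange (Ideal.Quotient.mk (I * J))).mapIso e)
    (isPerfect_extendCx_mul I J P₀ hproj h1 h2)

end Groth.Agent.S6980
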