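import Groth.Statements.S6988
import Groth.Agent.Lib.Helper13.DRingProj

set_option autoImplicit false
universe u
open CategoryTheory CategoryTheory.Limits
attribute [local instance] HasDerivedCategory.standard
open DRing

namespace Groth.Agent.S6988

/-- Let R be a commutative ring, K a pseudo-coherent object of D(R) and i an integer. Then some finitely
presented R-module M admits a morphism K → M[-i] in D(R) that is injective on H^i (here H^i(M[-i]) =
M). -/
theorem result (R : Type u) [CommRing R] (K : Dual.D R)
    (hK : DRing.IsPseudoCoherent' R K) (i : ℤ) :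
    ∃ (M : Type u) (_ : AddCommGroup M) (_ : Module R M) (_ : Module.FinitePresentation R M)
      (f : K ⟶ (shiftFunctor (Dual.D R) (-i)).obj (Dual.inD R M)),
      Mono ((DerivedCategory.homologyFunctor (ModuleCat.{u} R) i).map f) := by

  obtain ⟨E, b, hb, hff, ⟨e⟩⟩ := hK
  have hfp : Module.FinitePresentation R (E.opcycles i) :=
    Groth.Agent.Lib.Helper13.DR.finitePresentation_opcycles E i (hff (i - 1)) (hff i)
  let ψ := Groth.Agent.Lib.Helper13.PC.toSingleOfOpcycles E i (𝟙 (E.opcycles i))
  have hm : Mono ((DerivedCategory.homologyFunctor (ModuleCat.{u} R) i).map (DerivedCategory.Q.map ψ)) :=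
    (Groth.Agent.Lib.Helper13.PC.mono_homologyFunctor_map_Q_iff ψ i).2
      (Groth.Agent.Lib.Helper13.PC.mono_homologyMap_toSingleOfOpcycles E i (𝟙 _)
        (by rw [Category.comp_id]; infer_instance))
  let t : DerivedCategory.Q.obj ((HomologicalComplex.single (ModuleCat.{u} R) (ComplexShape.up ℤ) i).obj
      (E.opcycles i)) ⟶ (shiftFunctor (Dual.D R) (-i)).obj (Dual.inD R (E.opcycles i)) :=
    (Groth.Agent.Lib.Helper13.PC.singleIsoQ i (E.opcycles i)).inv ≫
      (Groth.Agent.Lib.Helper13.DR.shiftSingleIso (-i) i (by simp) (E.opcycles i)).inv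
  have ht : IsIso t := by dsimp only [t]; infer_instance
  refine ⟨E.opcycles i, inferInstance, inferInstance, hfp, e.inv ≫ DerivedCategory.Q.map ψ ≫ t, ?_⟩
  rw [Functor.map_comp, Functor.map_comp]
  infer_instance

end Groth.Agent.S6988
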