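import Groth.Statements.S6989
import Groth.Agent.Lib.Helper13.DRingArtinRees

set_option autoImplicit false
universe u
open CategoryTheory CategoryTheory.Limits
attribute [local instance] HasDerivedCategory.standard
open DRing

namespace Groth.Agent.S6989

/-- Let A be a Noetherian commutative ring, K an object of D(A) whose cohomology vanishes in large
degrees and whose cohomology modules are all finitely generated, m a maximal ideal of A and i an
integer such that m H^i(K) ≠ H^i(K). Then some finitely generated A-module E killed by a power of m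
receives a morphism K → E[-i] in D(A) whose induced map H^i(K) → H^i(E[-i]) is nonzero. -/
theorem result (A : Type u) [CommRing A]
    [IsNoetherianRing A] (K : Dual.D A) (hb : ∃ b : ℤ, ∀ j : ℤ, b < j → Subsingleton (Dual.HD A K j))
    (hfin : ∀ j : ℤ, Module.Finite A (Dual.HD A K j)) (m : Ideal A) [m.IsMaximal] (i : ℤ)
    (hi : m • (⊤ : Submodule A (Dual.HD A K i)) ≠ ⊤) :
    ∃ (E : Type u) (_ : AddCommGroup E) (_ : Module A E) (_ : Module.Finite A E) (n : ℕ)
      (_ : m ^ n • (⊤ : Submodule A E) = ⊥) (f : K ⟶ (shiftFunctor (Dual.D A) (-i)).obj (Dual.inD A E)),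
      (DerivedCategory.homologyFunctor (ModuleCat.{u} A) i).map f ≠ 0 := by

  have hpc : DRing.IsPseudoCoherent' A K := by
    rw [Groth.Agent.Lib.Helper13.DR.isPseudoCoherent'_iff_forall]
    intro n
    rw [Groth.Agent.Lib.Helper13.DR.isPseudoCoherent_iff_of_isNoetherianRing]
    exact ⟨hb, fun j _ => hfin j⟩
  obtain ⟨P, b, hPb, hff, ⟨e⟩⟩ := hpc
  have hMfp : Module.FinitePresentation A (P.opcycles i) :=
    Groth.Agent.Lib.Helper13.DR.finitePresentation_opcycles P i (hff (i - 1)) (hff i)
  have hMfin : Module.Finite A (P.opcycles i) := inferInstance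
  let ε : (DerivedCategory.homologyFunctor (ModuleCat.{u} A) i).obj K ≅ P.homology i :=
    (DerivedCategory.homologyFunctor (ModuleCat.{u} A) i).mapIso e.symm ≪≫
      Groth.Agent.Lib.Helper13.PC.homologyQIso P i
  let j : Dual.HD A K i →ₗ[A] P.opcycles i := (ε.hom ≫ P.homologyι i).hom
  have hj : Function.Injective j := (ModuleCat.mono_iff_injective _).1 inferInstance
  obtain ⟨n, hn⟩ := Groth.Agent.Lib.Helper13.DR.exists_not_range_le_pow_smul j hj m hi
  let S : Submodule A (P.opcycles i) := m ^ n • ⊤
  let g : P.opcycles i ⟶ ModuleCat.of A (P.opcycles i ⧸ S) := ModuleCat.ofHom S.mkQ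
  let ψ := Groth.Agent.Lib.Helper13.PC.toSingleOfOpcycles P i g
  let t : DerivedCategory.Q.obj ((HomologicalComplex.single (ModuleCat.{u} A) (ComplexShape.up ℤ) i).obj
      (ModuleCat.of A (P.opcycles i ⧸ S))) ⟶
      (shiftFunctor (Dual.D A) (-i)).obj (Dual.inD A (P.opcycles i ⧸ S)) :=
    (Groth.Agent.Lib.Helper13.PC.singleIsoQ i (ModuleCat.of A (P.opcycles i ⧸ S))).inv ≫
      (Groth.Agent.Lib.Helper13.DR.shiftSingleIso (-i) i (by simp)
        (ModuleCat.of A (P.opcycles i ⧸ S))).inv
  have ht : IsIso t := by dsimp only [t]; infer_instance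
  refine ⟨P.opcycles i ⧸ S, inferInstance, inferInstance, inferInstance, n, ?_,
    e.inv ≫ DerivedCategory.Q.map ψ ≫ t, ?_⟩
  · have h1 : m ^ n • (⊤ : Submodule A (P.opcycles i ⧸ S)) = Submodule.map S.mkQ S := by
      change _ = Submodule.map S.mkQ (m ^ n • ⊤)
      rw [Submodule.map_smul'', Submodule.map_top, Submodule.range_mkQ]
    rw [h1, Submodule.mkQ_map_self]
  · intro h0
    apply hn
    rw [Functor.map_comp, Functor.map_comp] at h0
    have h1 : (DerivedCategory.homologyFunctor (ModuleCat.{u} A) i).map (DerivedCategory.Q.map ψ) = 0 := by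
      rw [← cancel_epi ((DerivedCategory.homologyFunctor (ModuleCat.{u} A) i).map e.inv),
        ← cancel_mono ((DerivedCategory.homologyFunctor (ModuleCat.{u} A) i).map t)]
      simp only [Category.assoc, Limits.zero_comp, Limits.comp_zero]
      exact h0
    have h2 : HomologicalComplex.homologyMap ψ i = 0 := by
      have nat := (DerivedCategory.homologyFunctorFactors (ModuleCat.{u} A) i).hom.naturality ψ
      dsimp only [Functor.comp_map, HomologicalComplex.homologyFunctor_map] at nat
      rw [h1, Limits.zero_comp] at nat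
      change (HomologicalComplex.homologyFunctor (ModuleCat.{u} A) (ComplexShape.up ℤ) i).map ψ = 0
      rw [← cancel_epi ((DerivedCategory.homologyFunctorFactors (ModuleCat.{u} A) i).hom.app P), ← nat,
        Limits.comp_zero]
    have h3 := Groth.Agent.Lib.Helper13.PC.homologyι_comp_eq_zero_of_homologyMap_eq_zero P i g h2
    rintro _ ⟨x, rfl⟩
    have h4 : (P.homologyι i ≫ g).hom (ε.hom.hom x) = 0 := by rw [h3]; rfl
    have h5 : S.mkQ (j x) = 0 := h4
    exact (Submodule.Quotient.mk_eq_zero S).1 h5

end Groth.Agent.S6989
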