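import Groth.Statements.S6994
import Groth.Agent.Lib.Helper13.RegGlDim
import Groth.Agent.Lib.Helper13.DRingGlDim

set_option autoImplicit false
universe u
open CategoryTheory CategoryTheory.Limits
attribute [local instance] HasDerivedCategory.standard
open DRing

namespace Groth.Agent.S6994

/-- Let R be a Noetherian regular commutative ring (its localization at every prime is a regular local
ring) of finite Krull dimension d. Let K and L be objects of D(R) whose cohomology vanishes in large
degrees, and suppose there is an integer k with H^i(K) = 0 for all i ≤ k and H^i(L) = 0 for all i ≥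
k - d + 1. Then every morphism K → L in D(R) is zero. -/
theorem result (R : Type u) [CommRing R] [IsNoetherianRing R]
    (hreg : ∀ p : PrimeSpectrum R, IsRegularLocalRing (Localization.AtPrime p.asIdeal)) (d : ℕ)
    (hd : ringKrullDim R = d) (K L : Dual.D R) (hKb : ∃ b : ℤ, ∀ i : ℤ, b < i → Subsingleton (Dual.HD R K i))
    (hLb : ∃ b : ℤ, ∀ i : ℤ, b < i → Subsingleton (Dual.HD R L i)) (k : ℤ)
    (hK : ∀ i : ℤ, i ≤ k → Subsingleton (Dual.HD R K i)) (hL : ∀ i : ℤ, k - d + 1 ≤ i → Subsingleton (Dual.HD R L i)) :
    Subsingleton (K ⟶ L) := by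
  open Groth.Agent.Lib.Helper13.DR Groth.Agent.Lib.Helper13.PC DerivedCategory in
  obtain ⟨b, hb⟩ := hKb
  have hgl := Groth.Agent.Lib.Helper13.RP.hasProjectiveDimensionLT_of_regular R hreg d hd.le
  have hpa : HasProjAmp K (k + 1 - d) b := hasProjAmp_of_globalDim d hgl K (k + 1) b
    (fun i hi => by
      rcases hi with hi | hi
      · exact hK i (by lia)
      · exact hb i hi)
  have h1 : L.IsLE (k - d) := isLE_of_subsingleton_HD L (k - d) (fun i hi => hL i (by lia))
  have h2 : L.IsLE (k + 1 - d - 1) :=
    DerivedCategory.TStructure.t.isLE_of_le L (k - d) _ (by lia)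
  exact subsingleton_hom_of_hasProjAmp hpa L

end Groth.Agent.S6994
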