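import Groth.Statements.S6995
import Groth.Agent.S6994
import Groth.Agent.Lib.Helper13.TruncGap

set_option autoImplicit false
universe u
open CategoryTheory CategoryTheory.Limits
attribute [local instance] HasDerivedCategory.standard
open DRing

namespace Groth.Agent.S6995

/-- Let R be a Noetherian regular commutative ring of finite Krull dimension d ≥ 1, K a perfect object
of D(R) and k an integer such that H^i(K) = 0 for every i with k - d + 2 ≤ i ≤ k. Then K splits in
D(R) as the direct sum of its canonical truncations: there is an isomorphism K ≅ τ_(≤ k-d+1) K ⊕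
τ_(≥ k+1) K under which the truncation map τ_(≤ k-d+1) K → K becomes the first inclusion and K →
τ_(≥ k+1) K the second projection. -/
theorem result (R : Type u) [CommRing R] [IsNoetherianRing R]
    (hreg : ∀ p : PrimeSpectrum R, IsRegularLocalRing (Localization.AtPrime p.asIdeal)) (d : ℕ) (hd1 : 1 ≤ d)
    (hd : ringKrullDim R = d) (K : Dual.D R) (hK : DRing.IsPerfect R K) (k : ℤ)
    (hgap : ∀ i : ℤ, k - d + 2 ≤ i → i ≤ k → Subsingleton (Dual.HD R K i))
    [HasBinaryBiproduct
      (((DerivedCategory.TStructure.t : Triangulated.TStructure (Dual.D R)).truncLT (k - d + 2)).obj K)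
      (((DerivedCategory.TStructure.t : Triangulated.TStructure (Dual.D R)).truncGE (k + 1)).obj K)] :
    ∃ e : K ≅
      ((DerivedCategory.TStructure.t : Triangulated.TStructure (Dual.D R)).truncLT (k - d + 2)).obj K ⊞
        ((DerivedCategory.TStructure.t : Triangulated.TStructure (Dual.D R)).truncGE (k + 1)).obj K,
      ((DerivedCategory.TStructure.t : Triangulated.TStructure (Dual.D R)).truncLTι (k - d + 2)).app K ≫ e.hom =
          biprod.inl ∧
        e.hom ≫ biprod.snd =
          ((DerivedCategory.TStructure.t : Triangulated.TStructure (Dual.D R)).truncGEπ (k + 1)).app K := by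
  open Groth.Agent.Lib.Helper13.DR Groth.Agent.Lib.Helper13.PC Groth.Agent.Lib.Helper13.TG
    DerivedCategory Pretriangulated in
  obtain ⟨E, a, b, hv, hfp, ⟨eE⟩⟩ := hK
  have hKvan : ∀ i : ℤ, b < i → IsZero ((DerivedCategory.homologyFunctor (ModuleCat.{u} R) i).obj K) :=
    fun i hi => (ShortComplex.isZero_homology_of_isZero_X₂ _ (hv i (Or.inr hi))).of_iso
      ((DerivedCategory.homologyFunctor (ModuleCat.{u} R) i).mapIso eE.symm ≪≫ homologyQIso E i)
  have hnm : k - d + 2 ≤ k + 1 := by
    have : (1 : ℤ) ≤ d := by exact_mod_cast hd1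
    lia
  have hgap' : ∀ i : ℤ, k - d + 2 ≤ i → i < k + 1 →
      IsZero ((DerivedCategory.homologyFunctor (ModuleCat.{u} R) i).obj K) := fun i h1 h2 => by
    have := hgap i h1 (by lia)
    exact ModuleCat.isZero_of_subsingleton _
  let T := ((tS (ModuleCat.{u} R)).triangleLTGE (k - d + 2)).obj K
  have hT : T ∈ distTriang _ := (tS (ModuleCat.{u} R)).triangleLTGE_distinguished (k - d + 2) K
  have hGE : T.obj₃.IsGE (k + 1) := isGE_truncGE_of_gap K (k - d + 2) (k + 1) hgap'
  have hLE1 : T.obj₁.IsLE (k - d + 2 - 1) := inferInstance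
  have hLE : (T.obj₁⟦(1 : ℤ)⟧).IsLE (k - d) :=
    (tS (ModuleCat.{u} R)).isLE_shift T.obj₁ (k - d + 2 - 1) 1 (k - d) (by ring)
  have hδ : T.mor₃ = 0 := by
    have := Groth.Agent.S6994.result R hreg d hd T.obj₃ (T.obj₁⟦(1 : ℤ)⟧)
      ⟨max b (k - d + 2), fun i hi => ModuleCat.subsingleton_of_isZero
        (isZero_homology_truncGE K (k - d + 2) i (by
          have := le_max_right b (k - d + 2)
          lia) (hKvan i (by
          have := le_max_left b (k - d + 2)
          lia)))⟩
      ⟨k - d, fun i hi => ModuleCat.subsingleton_of_isZero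
        (DerivedCategory.isZero_of_isLE _ (k - d) i hi)⟩
      k (fun i hi => ModuleCat.subsingleton_of_isZero
        (DerivedCategory.isZero_of_isGE _ (k + 1) i (by lia)))
      (fun i hi => ModuleCat.subsingleton_of_isZero
        (DerivedCategory.isZero_of_isLE _ (k - d) i (by lia)))
    exact Subsingleton.elim _ _
  obtain ⟨e0, he1', he2'⟩ : ∃ e0 : K ≅ ((tS (ModuleCat.{u} R)).truncLT (k - d + 2)).obj K ⊞
      ((tS (ModuleCat.{u} R)).truncGE (k - d + 2)).obj K,
      ((tS (ModuleCat.{u} R)).truncLTι (k - d + 2)).app K ≫ e0.hom = biprod.inl ∧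
      ((tS (ModuleCat.{u} R)).truncGEπ (k - d + 2)).app K = e0.hom ≫ biprod.snd :=
    exists_iso_binaryBiproduct_of_distTriang T hT hδ
  have hθ := isIso_natTransTruncGEOfLE_app K (k - d + 2) (k + 1) hnm hgap'
  let θ := asIso (((tS (ModuleCat.{u} R)).natTransTruncGEOfLE (k - d + 2) (k + 1) hnm).app K)
  refine ⟨e0 ≪≫ biprod.mapIso (Iso.refl _) θ, ?_, ?_⟩
  · rw [Iso.trans_hom, reassoc_of% he1', biprod.mapIso_hom, biprod.inl_map, Iso.refl_hom,
      Category.id_comp]
  · rw [Iso.trans_hom, Category.assoc, biprod.mapIso_hom, biprod.map_snd, ← Category.assoc, ← he2']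
    exact (tS (ModuleCat.{u} R)).π_natTransTruncGEOfLE_app (k - d + 2) (k + 1) hnm K

end Groth.Agent.S6995
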