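import Groth.Statements.S7000
import Groth.Agent.Lib.Helper13.DRingFlatBC

set_option autoImplicit false
universe u
open CategoryTheory CategoryTheory.Limits
attribute [local instance] HasDerivedCategory.standard
open DRing

namespace Groth.Agent.S7000

/-- Let A → B be a flat homomorphism of commutative rings, m an integer and M an A-module. If M is
m-pseudo-coherent then the B-module B ⊗_A M is m-pseudo-coherent; if M is pseudo-coherent then B ⊗_A
M is pseudo-coherent. -/
theorem result {A B : Type u} [CommRing A] [CommRing B] [Algebra A B]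
    [Module.Flat A B] (m : ℤ) (M : Type u) [AddCommGroup M] [Module A M] :
    (DRing.IsPseudoCoherentModule A m M → DRing.IsPseudoCoherentModule B m (TensorProduct A B M)) ∧
      (DRing.IsPseudoCoherentModule' A M → DRing.IsPseudoCoherentModule' B (TensorProduct A B M)) := by

  have key : ∀ m : ℤ, DRing.IsPseudoCoherentModule A m M →
      DRing.IsPseudoCoherentModule B m (TensorProduct A B M) := by
    intro m h
    unfold DRing.IsPseudoCoherentModule at h ⊢
    rw [Groth.Agent.Lib.Helper13.DR.isPseudoCoherent_iff] at h ⊢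
    obtain ⟨E, ⟨⟨b, hb⟩, hP⟩, ⟨e⟩⟩ := h
    exact ⟨(Groth.Agent.Lib.Helper13.DR.extendCx A B).obj E,
      ⟨⟨b, fun i hi => Functor.map_isZero (ModuleCat.extendScalars.{u, u, u} (algebraMap A B)) (hb i hi)⟩,
        fun i hi => Groth.Agent.Lib.Helper13.DR.Pff_extendScalars B (hP i hi)⟩,
      ⟨(Groth.Agent.Lib.Helper13.DR.flatBCQIso A B E).symm ≪≫
        (Groth.Agent.Lib.Helper13.DR.flatBC A B).mapIso e ≪≫
        Groth.Agent.Lib.Helper13.DR.flatBCSingleIso A B M⟩⟩
  refine ⟨key m, fun h => ?_⟩
  unfold DRing.IsPseudoCoherentModule' at h ⊢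
  rw [Groth.Agent.Lib.Helper13.DR.isPseudoCoherent'_iff_forall] at h ⊢
  exact fun n => key n (h n)

end Groth.Agent.S7000
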