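import Groth.Statements.S7002
import Groth.Agent.Lib.Helper13.SP3
import Groth.Agent.S7004
import Groth.Agent.Lib.Helper13.RelPerfTri
import Groth.Agent.Lib.Helper13.DRingDescent3
import Groth.Agent.Lib.Helper13.WayOut3

set_option autoImplicit false
universe u
open CategoryTheory CategoryTheory.Limits
attribute [local instance] HasDerivedCategory.standard
open DRing

namespace Groth.Agent.S7002

/-- Let R be a commutative ring, p a prime ideal of R with residue field κ(p), such that the derived
base change D(R) → D(κ(p)) exists; let i be an integer and K a cochain complex of R-modules which is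
pseudo-coherent in D(R) and satisfies H^i(K ⊗^L_R κ(p)) = 0. Then there is an element f ∈ R with f ∉
p such that, for the termwise localization K_f of K over R_f, the truncation τ_(≥ i+1) K_f is
perfect in D(R_f), its tor amplitude lying in [i+1, b] for some integer b, and K_f ≅ τ_(≥ i+1) K_f ⊕
τ_(≤ i-1) K_f in D(R_f) by an isomorphism carrying K_f → τ_(≥ i+1) K_f to the first projection and
τ_(≤ i-1) K_f → K_f to the second inclusion. -/
theorem result (R : Type u) [CommRing R]
    (p : Ideal R) [p.IsPrime] [DRing.HasLBaseChange (algebraMap R p.ResidueField)] (i : ℤ) (K : DRing.Cx R)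
    (hK : DRing.IsPseudoCoherent' R (DRing.toD K))
    (hi : Subsingleton (Dual.HD p.ResidueField ((DRing.LBaseChange (algebraMap R p.ResidueField)).obj (DRing.toD K)) i)) :
    ∃ f : R, f ∉ p ∧
      let Kf := DRing.toD (((ModuleCat.extendScalars (algebraMap R (Localization.Away f))).mapHomologicalComplex
        (ComplexShape.up ℤ)).obj K)
      let t := (DerivedCategory.TStructure.t : Triangulated.TStructure (Dual.D (Localization.Away f)))
      let Kge := (t.truncGE (i + 1)).obj Kf
      let Klt := (t.truncLT i).obj Kf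
      DRing.IsPerfect (Localization.Away f) Kge ∧
        (∃ b : ℤ, DRing.HasTorAmplitudeIn (Localization.Away f) (i + 1) b Kge) ∧
        ∀ [HasBinaryBiproduct Kge Klt], ∃ e : Kf ≅ Kge ⊞ Klt,
          e.hom ≫ biprod.fst = (t.truncGEπ (i + 1)).app Kf ∧ (t.truncLTι i).app Kf ≫ e.hom = biprod.inr := by
  open Groth.Agent.Lib.Helper13.DR Groth.Agent.Lib.Helper13.PC Groth.Agent.Lib.Helper13.SP
    DerivedCategory in
  obtain ⟨P, c, hc, hff, ⟨e⟩⟩ := hK
  have hproj : ∀ j : ℤ, Projective (P.X j) := fun j => projective_of_Pfp (Pff_le_Pfp (hff j))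
  have hKP : P.IsKProjective := isKProjective_of_forall_projective P c hc hproj
  have hex : ((extendCx R p.ResidueField).obj P).ExactAt (-(-i)) := by
    rw [neg_neg, HomologicalComplex.exactAt_iff_isZero_homology]
    have hz : IsZero ((DerivedCategory.homologyFunctor (ModuleCat.{u} p.ResidueField) i).obj
        ((DRing.LBaseChange (algebraMap R p.ResidueField)).obj (DRing.toD K))) :=
      ModuleCat.isZero_of_subsingleton _
    exact hz.of_iso ((homologyQIso _ i).symm ≪≫
      (DerivedCategory.homologyFunctor (ModuleCat.{u} p.ResidueField) i).mapIso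
        ((LBaseChangeIso (algebraMap R p.ResidueField) P).symm ≪≫
          (DRing.LBaseChange (algebraMap R p.ResidueField)).mapIso e))
  obtain ⟨f, hf, s₁, t₁, h₁⟩ := exists_scaled_contracting_cx p P (-(-i) - 1) (-(-i)) (-(-i) + 1)
    (by ring) rfl (hff _) (hff _) hex
  refine ⟨f, hf, ?_⟩
  obtain ⟨s, t, hst⟩ := exists_contracting_away P _ _ _ f s₁ t₁ h₁
  have hcB : ∀ j : ℤ, c < j → IsZero (((extendCx R (Localization.Away f)).obj P).X j) :=
    fun j hj => Functor.map_isZero
      (ModuleCat.extendScalars.{u, u, u} (algebraMap R (Localization.Away f))) (hc j hj)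
  have hffB : ∀ j : ℤ, Pff (Localization.Away f) (((extendCx R (Localization.Away f)).obj P).X j) :=
    fun j => Pff_extendScalars (Localization.Away f) (hff j)
  have hKPB : ((extendCx R (Localization.Away f)).obj P).IsKProjective :=
    isKProjective_of_forall_projective _ c hcB
      (fun j => projective_of_Pfp (Pff_le_Pfp (hffB j)))
  let e₀ : Q.obj ((extendCx R (Localization.Away f)).obj P) ≅
      DRing.toD ((extendCx R (Localization.Away f)).obj K) :=
    (flatBCQIso R (Localization.Away f) P).symm ≪≫
      (flatBC R (Localization.Away f)).mapIso e ≪≫ flatBCQIso R (Localization.Away f) K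
  have hvan : ∀ (M : Type u) [AddCommGroup M] [Module (Localization.Away f) M],
      Subsingleton (DRing.toD ((extendCx R (Localization.Away f)).obj K) ⟶
        (shiftFunctor (Dual.D (Localization.Away f)) (-i)).obj
          (Dual.inD (Localization.Away f) M)) :=
    fun M _ _ => subsingleton_hom_of_contracting _ e₀ (-i) s t hst M
  have hKb : ∃ b : ℤ, ∀ j : ℤ, b < j → Subsingleton (Dual.HD (Localization.Away f)
      (DRing.toD ((extendCx R (Localization.Away f)).obj K)) j) :=
    ⟨c, fun j hj => ModuleCat.subsingleton_of_isZero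
      ((Groth.Agent.Lib.Helper13.DV.isZero_homology_Q_obj _ j (hcB j hj)).of_iso
        ((DerivedCategory.homologyFunctor (ModuleCat.{u} (Localization.Away f)) j).mapIso
          e₀.symm))⟩
  obtain ⟨⟨e₁, he₁, he₂⟩, P'', b, hv'', hproj'', ⟨e''⟩⟩ :=
    Groth.Agent.S7004.result (Localization.Away f) i
      (DRing.toD ((extendCx R (Localization.Away f)).obj K)) hKb hvan
  have htor : DRing.HasTorAmplitudeIn (Localization.Away f) (i + 1) b
      (((DerivedCategory.TStructure.t :
        Triangulated.TStructure (Dual.D (Localization.Away f))).truncGE (i + 1)).obj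
        (DRing.toD ((extendCx R (Localization.Away f)).obj K))) :=
    ⟨P'', hv'', fun j => by have := hproj'' j; infer_instance, ⟨e''⟩⟩
  have hpcK : DRing.IsPseudoCoherent' (Localization.Away f)
      (DRing.toD ((extendCx R (Localization.Away f)).obj K)) :=
    ⟨_, c, hcB, hffB, ⟨e₀⟩⟩
  have hpc := (Groth.Agent.Lib.Helper13.DV.isPseudoCoherent'_of_biprod _ _
    ((isPseudoCoherent'_iff _).2 (isPC_of_iso ((isPseudoCoherent'_iff _).1 hpcK) e₁))).2
  refine ⟨isPerfect_of_isNPC_of_hasTorAmplitudeIn ((isPseudoCoherent'_iff _).1 hpc _) htor,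
    ⟨b, htor⟩, ?_⟩
  intro inst
  refine ⟨e₁ ≪≫ biprod.braiding _ _, ?_, ?_⟩
  · rw [Iso.trans_hom, Category.assoc, biprod.braiding_hom, biprod.lift_fst]
    exact he₂
  · rw [Iso.trans_hom, ← Category.assoc, he₁, biprod.braiding_hom]
    apply biprod.hom_ext
    · rw [Category.assoc, biprod.lift_fst, biprod.inl_snd, biprod.inr_fst]
    · rw [Category.assoc, biprod.lift_snd, biprod.inl_fst, biprod.inr_snd]

end Groth.Agent.S7002
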