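import Groth.Statements.S7009
import Groth.Agent.Lib.Helper2.PerfDesc.Retract
import Groth.Agent.Lib.Helper13.DRingLDerived
import Groth.Agent.Lib.Helper13.DRingPC

set_option autoImplicit false
universe u
open CategoryTheory CategoryTheory.Limits
attribute [local instance] HasDerivedCategory.standard
open DRing
open Groth.Agent.Lib.Helper2.PerfDesc

namespace Groth.Agent.S7009

/-- Let (R_j) be a diagram of commutative rings over a small filtered category with colimit R, such that
the derived base change D(R_j) → D(R) exists for every j, and let K be a perfect object of D(R).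
Then there exist an index j and a perfect object K_j of D(R_j) such that K_j ⊗^L R is isomorphic to
K in D(R). -/
theorem result {J : Type u} [SmallCategory J] [IsFiltered J]
    (F : J ⥤ CommRingCat.{u}) (c : Cocone F) (hc : IsColimit c)
    [∀ j : J, DRing.HasLBaseChange (c.ι.app j).hom] (K : Dual.D c.pt) (hK : DRing.IsPerfect c.pt K) :
    ∃ (j : J) (Kj : Dual.D (F.obj j)), DRing.IsPerfect (F.obj j) Kj ∧
      Nonempty ((DRing.LBaseChange (c.ι.app j).hom).obj Kj ≅ K) := by
  obtain ⟨E, a, b, hv, hp, ⟨eK⟩⟩ := hK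
  obtain ⟨n, M, iE, pE, hE1, hE2⟩ := exists_matData E a b hv hp
  obtain ⟨j, M', hD, he⟩ := exists_descent F c hc n a b M
  let φ : F.obj j →+* c.pt := (c.ι.app j).hom
  let Mj := matCx (F.obj j) M'.D M'.h1
  let ej : Mj ⟶ Mj := matHom (F.obj j) M'.D M'.D M'.h1 M'.h1 M'.e M'.h3
  have hejf : ∀ k, ej.f k = ModuleCat.ofHom (Matrix.mulVecLin (M'.e k)) := fun k => rfl
  have idem : ej ≫ ej = ej := by
    apply HomologicalComplex.hom_ext
    intro k
    rw [HomologicalComplex.comp_f]
    show (ModuleCat.ofHom (Matrix.mulVecLin (M'.e k)) : ModuleCat.of (F.obj j) (Fin n → F.obj j) ⟶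
      ModuleCat.of (F.obj j) (Fin n → F.obj j)) ≫ ModuleCat.ofHom (Matrix.mulVecLin (M'.e k)) =
        ModuleCat.ofHom (Matrix.mulVecLin (M'.e k))
    rw [← ModuleCat.ofHom_comp, ← Matrix.mulVecLin_mul, M'.h2]
  obtain ⟨Kj, i, p, hip, hpi⟩ := IsIdempotentComplete.idempotents_split Mj ej idem
  have hipf : ∀ k, i.f k ≫ p.f k = 𝟙 (Kj.X k) := by
    intro k
    rw [← HomologicalComplex.comp_f, hip]
    rfl
  have hpif : ∀ k, p.f k ≫ i.f k = ModuleCat.ofHom (Matrix.mulVecLin (M'.e k)) := by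
    intro k
    rw [← HomologicalComplex.comp_f, hpi, hejf]
  -- boundedness
  have hzero : ∀ k, k ∉ Finset.Icc a b → IsZero (Kj.X k) := by
    intro k hk
    rw [IsZero.iff_id_eq_zero]
    have h0 : p.f k ≫ i.f k = 0 := by
      rw [hpif, (M'.h4 k hk).2, Matrix.mulVecLin_zero]
      rfl
    calc 𝟙 (Kj.X k) = (i.f k ≫ p.f k) ≫ (i.f k ≫ p.f k) := by rw [hipf]; simp
      _ = i.f k ≫ (p.f k ≫ i.f k) ≫ p.f k := by simp only [Category.assoc]
      _ = 0 := by rw [h0]; simp
  have hvK : DRing.VanishesOutside Kj a b := by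
    intro k hk
    apply hzero
    rw [Finset.mem_Icc, not_and_or, not_le, not_le]
    exact hk
  have hpK : ∀ k, Groth.Agent.Lib.Helper13.DR.Pfp (F.obj j) (Kj.X k) := by
    intro k
    refine Groth.Agent.Lib.Helper13.DR.Pfp_of_retract (i.f k) (p.f k) (hipf k) ?_
    exact ⟨by change Module.Finite (F.obj j) (Fin n → F.obj j); infer_instance,
      by change Module.Projective (F.obj j) (Fin n → F.obj j); infer_instance⟩
  have hpK' : DRing.TermwiseFiniteProjective Kj := fun k => hpK k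
  have : ∀ k, Projective (Kj.X k) := fun k =>
    Groth.Agent.Lib.Helper13.DR.projective_of_Pfp (hpK k)
  have : Kj.IsStrictlyLE b := by
    rw [CochainComplex.isStrictlyLE_iff]
    intro k hk
    exact hvK k (Or.inr hk)
  have : Kj.IsKProjective := CochainComplex.isKProjective_of_projective Kj b
  refine ⟨j, DRing.toD Kj, ⟨Kj, a, b, hvK, hpK', ⟨Iso.refl _⟩⟩, ?_⟩
  let Φ := (ModuleCat.extendScalars.{u,u,u} φ).mapHomologicalComplex (ComplexShape.up ℤ)
  obtain ⟨θ, hθ⟩ := exists_baseChange_iso φ M'.D M'.h1 M'.e M'.h3 M.D M.h1 M.e M.h3 hD he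
  obtain ⟨iso2⟩ : Nonempty (Φ.obj Kj ≅ E) :=
    nonempty_iso_of_retracts θ (Φ.map i) (Φ.map p) (Φ.map ej)
      (by rw [← Φ.map_comp, hip, Φ.map_id]) (by rw [← Φ.map_comp, hpi])
      iE pE _ hE1 hE2 hθ
  exact ⟨Groth.Agent.Lib.Helper13.DR.LBaseChangeIso φ Kj ≪≫
    DerivedCategory.Q.mapIso iso2 ≪≫ eK⟩

end Groth.Agent.S7009
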