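import Groth.Statements.S7014
import Groth.Agent.Lib.Helper2.CptD.Mod
import Groth.Agent.S0985
import Groth.Agent.Lib.Helper2.CptD.Seq
import Groth.Agent.Lib.Helper2.CptD.ULiftCofan

set_option autoImplicit false
universe u
open CategoryTheory CategoryTheory.Limits
attribute [local instance] HasDerivedCategory.standard
open DRing

namespace Groth.Agent.S7014
open Groth.Agent.Lib.Helper2.CptD
section Aux
end Aux

/-- Let R be a commutative ring and K an object of D(R) such that for every sequence (E_n) of objects of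
D(R) the canonical map from the direct sum of the Hom(K, E_n) to Hom(K, ⊕_n E_n) is bijective. Let
L_0 → L_1 → L_2 → ... be a sequence of cochain complexes of R-modules with colimit L (computed
termwise). Then every morphism K → L in D(R) factors through L_n → L for some n, and a morphism K →
L_n in D(R) whose composite with L_n → L vanishes already has vanishing composite with L_n → L_m for
some m ≥ n. -/
theorem result (R : Type u) [CommRing R] (K : Dual.D R)
    (hK : ∀ (E : ℕ → Dual.D R) [HasCoproduct fun i : ULift.{u + 1} ℕ => E i.down],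
      Function.Bijective (CohDer.homSumToHomCoprod K (fun i : ULift.{u + 1} ℕ => E i.down)))
    (L : ℕ ⥤ DRing.Cx R) (c : Cocone L) (hc : IsColimit c) :
    (∀ x : K ⟶ DRing.toD c.pt, ∃ (n : ℕ) (y : K ⟶ DRing.toD (L.obj n)),
        y ≫ DerivedCategory.Q.map (c.ι.app n) = x) ∧
      (∀ (n : ℕ) (y : K ⟶ DRing.toD (L.obj n)), y ≫ DerivedCategory.Q.map (c.ι.app n) = 0 →
        ∃ (m : ℕ) (h : n ≤ m), y ≫ DerivedCategory.Q.map (L.map (homOfLE h)) = 0) := by
  classical
  let Qf := DerivedCategory.Q (C := ModuleCat.{u} R)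
  let Y : ℕ → Dual.D R := fun n => Qf.obj (L.obj n)
  let fY : ∀ n, Y n ⟶ Y (n + 1) := fun n => Qf.map (L.map (homOfLE (Nat.le_succ n)))
  -- compactness for sequences
  have hFix : ∀ (E : ℕ → Dual.D R) (κ : Cofan E) (hκ : IsColimit κ) (g : K ⟶ κ.pt),
      ∃ t : Finset ℕ, g ≫ proj κ hκ t = g := by
    intro E κ hκ g
    let E' : ULift.{u + 1} ℕ → Dual.D R := fun i => E i.down
    let κ' : Cofan E' := Cofan.mk κ.pt (fun i => κ.inj i.down)
    have hκ' : IsColimit κ' := isColimitUp κ hκ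
    haveI : HasCoproduct E' := ⟨⟨⟨κ', hκ'⟩⟩⟩
    have hb := hK E
    let e := IsColimit.coconePointUniqueUpToIso hκ' (coproductIsCoproduct E')
    obtain ⟨x, hx⟩ := hb.2 (g ≫ e.hom)
    obtain ⟨t', ht'⟩ := exists_fix_homSumToHomCoprod K E' x
    rw [hx] at ht'
    have h1 : g ≫ proj κ' hκ' t' = g :=
      fix_transport κ' _ hκ' (coproductIsCoproduct E') g t' ht'
    refine ⟨t'.image ULift.down, ?_⟩
    rw [← proj_up κ hκ t']
    exact (congrArg (fun z => g ≫ z) (proj_congr κ' (isColimitUp κ hκ) hκ' t')).trans h1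
  -- `Q` preserves the coproduct of the `L n`
  have hcQ : IsColimit (Cofan.mk (Qf.obj (∐ L.obj)) (fun n => Qf.map (Sigma.ι L.obj n)) :
      Cofan Y) := by
    have h1 : IsColimit (Cofan.mk (∐ L.obj) (fun i : ULift.{u} ℕ => Sigma.ι L.obj i.down) :
        Cofan (fun i : ULift.{u} ℕ => L.obj i.down)) :=
      isColimitUp (Cofan.mk (∐ L.obj) (Sigma.ι L.obj)) (coproductIsCoproduct L.obj)
    have h2 := (qPres_mod R _ _ _ h1).some
    exact isColimitDown (Y := Y) _ h2
  haveI : PreservesColimit (Discrete.functor L.obj) Qf :=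
    preservesColimit_of_preserves_colimit_cocone (coproductIsCoproduct L.obj)
      ((isColimitMapCoconeCofanMkEquiv _ _ _).symm hcQ)
  haveI : HasCoproduct Y := ⟨⟨⟨_, hcQ⟩⟩⟩
  haveI : HasExactColimitsOfShape ℕ (ModuleCat.{u} R) := by
    have h := AB5OfSize_shrink.{0, 0, u, u} (ModuleCat.{u} R)
    exact h.ofShape ℕ
  obtain ⟨δ, hT⟩ := Groth.Agent.S0985.result L
  let cY : Cofan Y := Cofan.mk (∐ Y) (Sigma.ι Y)
  have hcY : IsColimit cY := coproductIsCoproduct Y
  have hs : DerLim.shiftMap Y fY = (sMap cY hcY fY : ∐ Y ⟶ ∐ Y) := by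
    apply Sigma.hom_ext
    intro n
    have := inj_sMap cY hcY fY n
    change Sigma.ι Y n ≫ _ = _ at this
    rw [this]
    simp [DerLim.shiftMap]
    rfl
  let iY : ∀ n, Y n ⟶ Qf.obj (colimit L) := fun n => Qf.map (colimit.ι L n)
  have hiY : ∀ {n m : ℕ} (h : n ≤ m), Qf.map (L.map (homOfLE h)) ≫ iY m = iY n := by
    intro n m h
    rw [← Functor.map_comp, colimit.w]
  let e : c.pt ≅ colimit L := IsColimit.coconePointUniqueUpToIso hc (colimit.isColimit L)
  have he : ∀ n, c.ι.app n ≫ e.hom = colimit.ι L n := fun n =>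
    IsColimit.comp_coconePointUniqueUpToIso_hom hc (colimit.isColimit L) n
  have he' : ∀ n, colimit.ι L n ≫ e.inv = c.ι.app n := fun n =>
    IsColimit.comp_coconePointUniqueUpToIso_inv hc (colimit.isColimit L) n
  constructor
  · intro x
    let x' : K ⟶ Qf.obj (colimit L) := x ≫ Qf.map e.hom
    -- `x' ≫ δ = 0`
    let G := shiftFunctor (Dual.D R) (1 : ℤ)
    have hcG : IsColimit (Cofan.mk (G.obj cY.pt) (fun n => G.map (cY.inj n))) :=
      isColimitMapCofanOfPreserves G cY hcY
    have hGs : G.map (𝟙 (∐ Y) - DerLim.shiftMap Y fY) =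
        𝟙 _ - sMap _ hcG (fun n => G.map (fY n)) := by
      rw [Functor.map_sub, CategoryTheory.Functor.map_id, hs]
      congr 1
      refine Cofan.IsColimit.hom_ext hcG _ _ (fun n => ?_)
      rw [inj_sMap]
      change G.map (cY.inj n) ≫ G.map (sMap cY hcY fY) = G.map (fY n) ≫ G.map (cY.inj (n + 1))
      rw [← Functor.map_comp, inj_sMap, Functor.map_comp]
    have hδ : x' ≫ δ = 0 := by
      obtain ⟨t, ht⟩ := hFix _ _ hcG (x' ≫ δ)
      refine eq_zero_of_fix _ hcG (fun n => G.map (fY n)) (x' ≫ δ) t ht ?_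
      rw [← hGs, Category.assoc]
      have h31 : δ ≫ G.map (𝟙 (∐ Y) - DerLim.shiftMap Y fY) = 0 :=
        Pretriangulated.comp_distTriang_mor_zero₃₁ _ hT
      rw [h31, comp_zero]
    obtain ⟨z, hz⟩ : ∃ z : K ⟶ ∐ Y, x' = z ≫ Sigma.desc iY :=
      Pretriangulated.Triangle.coyoneda_exact₃ _ hT x' hδ
    obtain ⟨t, ht⟩ := hFix Y cY hcY z
    let N := t.sup id
    have hN : ∀ n ∈ t, n ≤ N := fun n hn => Finset.le_sup (f := id) hn
    let y : K ⟶ Y N := ∑ n ∈ t, if h : n ≤ N then (z ≫ cπ cY hcY n) ≫ Qf.map (L.map (homOfLE h))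
      else 0
    have hy : y ≫ iY N = x' := by
      rw [hz, ← ht, proj_eq_sum, Preadditive.comp_sum, Preadditive.sum_comp,
        Preadditive.sum_comp]
      refine Finset.sum_congr rfl (fun n hn => ?_)
      rw [dif_pos (hN n hn), Category.assoc, hiY]
      simp only [Category.assoc]
      congr 2
      exact (Sigma.ι_desc _ _).symm
    refine ⟨N, y, ?_⟩
    have h1 : x = x' ≫ Qf.map e.inv := by
      rw [Category.assoc, ← Functor.map_comp, e.hom_inv_id, CategoryTheory.Functor.map_id,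
        Category.comp_id]
    rw [h1, ← hy, Category.assoc, ← Functor.map_comp, he']
  · intro n y hy
    have hy' : y ≫ iY n = 0 := by
      have h3 : (y ≫ DerivedCategory.Q.map (c.ι.app n)) ≫ DerivedCategory.Q.map e.hom = 0 := by
        rw [hy, zero_comp]
      rw [Category.assoc, ← Functor.map_comp, he] at h3
      exact h3
    have h0 : (y ≫ Sigma.ι Y n) ≫ Sigma.desc iY = 0 := by
      rw [Category.assoc, Sigma.ι_desc, hy']
    obtain ⟨z, hz⟩ : ∃ z : K ⟶ ∐ Y, y ≫ Sigma.ι Y n = z ≫ (𝟙 (∐ Y) - DerLim.shiftMap Y fY) :=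
      Pretriangulated.Triangle.coyoneda_exact₂ _ hT (y ≫ Sigma.ι Y n) h0
    have hkey : ∀ M : ℕ, (𝟙 (∐ Y) - DerLim.shiftMap Y fY) ≫
        (Sigma.desc (fun j => if h : j ≤ M then Qf.map (L.map (homOfLE h)) else 0) : ∐ Y ⟶ Y M) =
          cπ cY hcY M := by
      intro M
      have hσ : ∀ j (h : j ≤ M), Sigma.ι Y j ≫
          (Sigma.desc (fun j => if h : j ≤ M then Qf.map (L.map (homOfLE h)) else 0) :
            ∐ Y ⟶ Y M) = Qf.map (L.map (homOfLE h)) := by
        intro j h
        simp [h]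
      have hσ' : ∀ j, ¬ j ≤ M → Sigma.ι Y j ≫
          (Sigma.desc (fun j => if h : j ≤ M then Qf.map (L.map (homOfLE h)) else 0) :
            ∐ Y ⟶ Y M) = 0 := by
        intro j h
        simp [h]
      apply Sigma.hom_ext
      intro j
      have hj : Sigma.ι Y j ≫ DerLim.shiftMap Y fY = fY j ≫ Sigma.ι Y (j + 1) := by
        simp [DerLim.shiftMap]
      rw [Preadditive.sub_comp, Preadditive.comp_sub, Category.id_comp, reassoc_of% hj]
      rcases lt_trichotomy j M with h | h | h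
      · rw [hσ j h.le, hσ (j + 1) h]
        have h1 : Sigma.ι Y j ≫ cπ cY hcY M = 0 := inj_cπ_of_ne cY hcY h.ne
        rw [h1, sub_eq_zero, ← Functor.map_comp, ← Functor.map_comp]
        rfl
      · subst h
        rw [hσ j le_rfl, hσ' (j + 1) (by lia), comp_zero, sub_zero]
        have h1 : Sigma.ι Y j ≫ cπ cY hcY j = 𝟙 _ := inj_cπ_self cY hcY j
        rw [h1]
        have : homOfLE (le_refl j) = 𝟙 j := rfl
        rw [this, CategoryTheory.Functor.map_id, CategoryTheory.Functor.map_id]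
      · rw [hσ' j (by lia), hσ' (j + 1) (by lia), comp_zero, sub_zero]
        have h1 : Sigma.ι Y j ≫ cπ cY hcY M = 0 := inj_cπ_of_ne cY hcY h.ne'
        rw [h1]
    obtain ⟨t, ht⟩ := hFix Y cY hcY z
    let M := t.sup id + 1 + n
    have hM : M ∉ t := fun h => by
      have := Finset.le_sup (f := id) h
      simp only [id] at this
      lia
    have hnM : n ≤ M := by lia
    let σ : (∐ Y) ⟶ Y M :=
      Sigma.desc (fun j => if h : j ≤ M then Qf.map (L.map (homOfLE h)) else 0)
    have hσ : ∀ j (h : j ≤ M), Sigma.ι Y j ≫ σ = Qf.map (L.map (homOfLE h)) := by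
      intro j h
      simp [σ, h]
    refine ⟨M, hnM, ?_⟩
    have h2 : y ≫ Qf.map (L.map (homOfLE hnM)) = (y ≫ Sigma.ι Y n) ≫ σ := by
      rw [Category.assoc, hσ n hnM]
    rw [h2, hz, Category.assoc]
    have h5 : (𝟙 (∐ Y) - DerLim.shiftMap Y fY) ≫ σ = cπ cY hcY M := hkey M
    rw [h5, ← ht, Category.assoc, proj_cπ_of_not_mem cY hcY hM, comp_zero]

end Groth.Agent.S7014
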