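import Groth.Statements.S7015
import Mathlib.RingTheory.Finiteness.Basic
import Mathlib.LinearAlgebra.Finsupp.LinearCombination
import Mathlib.LinearAlgebra.TensorProduct.Basic
import Mathlib.Tactic

set_option autoImplicit false
universe u
open CategoryTheory MonoidalCategory
open DRing

namespace Groth.Agent.S7015

open TensorProduct

theorem finite_projective_of_dual_basis {R M : Type*} [CommRing R] [AddCommGroup M] [Module R M]
    {ι : Type*} [Fintype ι] (m : ι → M) (φ : ι → (M →ₗ[R] R))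
    (h : ∀ x, ∑ i, φ i x • m i = x) : Module.Finite R M ∧ Module.Projective R M := by
  classical
  let i : M →ₗ[R] (ι → R) := LinearMap.pi φ
  let s : (ι → R) →ₗ[R] M := Fintype.linearCombination R m
  have hsi : s ∘ₗ i = LinearMap.id := by
    ext x
    simp [s, i, Fintype.linearCombination_apply, h]
  have hsurj : Function.Surjective s := fun x => ⟨i x, congrArg (fun ψ : M →ₗ[R] M => ψ x) hsi⟩
  exact ⟨Module.Finite.of_surjective s hsurj, Module.Projective.of_split i s hsi⟩

/-- Let R be a commutative ring and M, N R-modules such that N is a left dual of M for the tensor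
product of R-modules, i.e. there are a coevaluation R → M ⊗ N and an evaluation N ⊗ M → R satisfying
the triangle identities (an exact pairing). Then M and N are finitely generated projective
R-modules. -/
theorem result (R : Type u) [CommRing R] (M N : Type u) [AddCommGroup M]
    [Module R M] [AddCommGroup N] [Module R N] [ExactPairing (ModuleCat.of R M) (ModuleCat.of R N)] :
    Module.Finite R M ∧ Module.Projective R M ∧ Module.Finite R N ∧ Module.Projective R N := by
  classical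
  let X := ModuleCat.of R M
  let Y := ModuleCat.of R N
  let η : M ⊗[R] N := (η_ X Y).hom (1 : R)
  let ε : N ⊗[R] M →ₗ[R] R := (ε_ X Y).hom
  obtain ⟨S, hS⟩ := TensorProduct.exists_finset η
  have h1 : ∀ x : M, ∑ i : S, ε (i.1.2 ⊗ₜ x) • i.1.1 = x := by
    intro x
    have key := congrArg (fun f : 𝟙_ (ModuleCat R) ⊗ X ⟶ X ⊗ 𝟙_ (ModuleCat R) =>
      (ρ_ X).hom.hom (f.hom ((1 : R) ⊗ₜ[R] x))) (ExactPairing.evaluation_coevaluation X Y)
    simp only [ModuleCat.hom_comp, LinearMap.comp_apply] at key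
    have e1 : (η_ X Y ▷ X).hom ((1 : R) ⊗ₜ[R] x) = η ⊗ₜ[R] x := rfl
    rw [e1, hS, TensorProduct.sum_tmul, map_sum, map_sum, map_sum] at key
    have e2 : ∀ i : M × N, (ρ_ X).hom.hom ((X ◁ ε_ X Y).hom ((α_ X Y X).hom.hom
        ((i.1 ⊗ₜ[R] i.2) ⊗ₜ[R] x))) = ε (i.2 ⊗ₜ x) • i.1 := by
      intro i
      rfl
    simp only [e2] at key
    rw [Finset.sum_coe_sort S (fun i => ε (i.2 ⊗ₜ x) • i.1), key]
    change (TensorProduct.rid R M) ((TensorProduct.rid R M).symm ((TensorProduct.lid R M) ((1 : R) ⊗ₜ x))) = x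
    simp
  have h2 : ∀ y : N, ∑ i : S, ε (y ⊗ₜ i.1.1) • i.1.2 = y := by
    intro y
    have key := congrArg (fun f : Y ⊗ 𝟙_ (ModuleCat R) ⟶ 𝟙_ (ModuleCat R) ⊗ Y =>
      (λ_ Y).hom.hom (f.hom (y ⊗ₜ[R] (1 : R)))) (ExactPairing.coevaluation_evaluation X Y)
    simp only [ModuleCat.hom_comp, LinearMap.comp_apply] at key
    have e1 : (Y ◁ η_ X Y).hom (y ⊗ₜ[R] (1 : R)) = y ⊗ₜ[R] η := rfl
    rw [e1, hS, TensorProduct.tmul_sum, map_sum, map_sum, map_sum] at key
    have e2 : ∀ i : M × N, (λ_ Y).hom.hom ((ε_ X Y ▷ Y).hom ((α_ Y X Y).inv.hom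
        (y ⊗ₜ[R] (i.1 ⊗ₜ[R] i.2)))) = ε (y ⊗ₜ i.1) • i.2 := by
      intro i
      rfl
    simp only [e2] at key
    rw [Finset.sum_coe_sort S (fun i => ε (y ⊗ₜ i.1) • i.2), key]
    change (TensorProduct.lid R N) ((TensorProduct.lid R N).symm ((TensorProduct.rid R N) (y ⊗ₜ (1 : R)))) = y
    simp
  obtain ⟨hM1, hM2⟩ := finite_projective_of_dual_basis (R := R) (M := M) (ι := S)
    (fun i => i.1.1) (fun i => ε ∘ₗ (TensorProduct.mk R N M i.1.2)) (by simpa using h1)
  obtain ⟨hN1, hN2⟩ := finite_projective_of_dual_basis (R := R) (M := N) (ι := S)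
    (fun i => i.1.2) (fun i => ε ∘ₗ (TensorProduct.mk R N M).flip i.1.1) (by simpa using h2)
  exact ⟨hM1, hM2, hN1, hN2⟩

end Groth.Agent.S7015
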