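import Groth.Statements.S7020
import Groth.Agent.Lib.Helper13.DRingRelPC

set_option autoImplicit false
universe u
open CategoryTheory CategoryTheory.Limits
attribute [local instance] HasDerivedCategory.standard
open DerCA

namespace Groth.Agent.S7020

open CategoryTheory.Pretriangulated in
/-- Let R → A be a finite type homomorphism of commutative rings, m an integer and K → L → M → K[1] a
distinguished triangle in D(A); all pseudo-coherence below is relative to R. (1) M is
m-pseudo-coherent when K is (m+1)-pseudo-coherent and L is m-pseudo-coherent. (2) L is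
m-pseudo-coherent when K and M are. (3) K is (m+1)-pseudo-coherent when L is (m+1)-pseudo-coherent
and M is m-pseudo-coherent. (4) Pseudo-coherence in every degree of any two of K, L, M implies that
of the third. -/
theorem result {R A : Type u} [CommRing R] [CommRing A] [Algebra R A] [Algebra.FiniteType R A] (m : ℤ) (T : Triangle (Dual.D A))
    (hT : T ∈ distinguishedTriangles) :
    (DerCA.IsRelPseudoCoherent R A (m + 1) T.obj₁ → DerCA.IsRelPseudoCoherent R A m T.obj₂ →
        DerCA.IsRelPseudoCoherent R A m T.obj₃) ∧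
      (DerCA.IsRelPseudoCoherent R A m T.obj₁ → DerCA.IsRelPseudoCoherent R A m T.obj₃ →
        DerCA.IsRelPseudoCoherent R A m T.obj₂) ∧
      (DerCA.IsRelPseudoCoherent R A (m + 1) T.obj₂ → DerCA.IsRelPseudoCoherent R A m T.obj₃ →
        DerCA.IsRelPseudoCoherent R A (m + 1) T.obj₁) ∧
      ((DerCA.IsRelPseudoCoherentAll R A T.obj₁ → DerCA.IsRelPseudoCoherentAll R A T.obj₂ →
          DerCA.IsRelPseudoCoherentAll R A T.obj₃) ∧
        (DerCA.IsRelPseudoCoherentAll R A T.obj₁ → DerCA.IsRelPseudoCoherentAll R A T.obj₃ →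
          DerCA.IsRelPseudoCoherentAll R A T.obj₂) ∧
        (DerCA.IsRelPseudoCoherentAll R A T.obj₂ → DerCA.IsRelPseudoCoherentAll R A T.obj₃ →
          DerCA.IsRelPseudoCoherentAll R A T.obj₁)) := by

  obtain ⟨n, α, hα⟩ := Groth.Agent.Lib.Helper13.DR.exists_presentation R A
  have h := fun (m : ℤ) (K : Dual.D A) =>
    Groth.Agent.Lib.Helper13.DR.isRelPseudoCoherent_iff α hα m K
  have hT' := (DRing.restrictD (α : MvPolynomial (Fin n) R →+* A)).map_distinguished T hT
  have hsum := @Groth.Agent.Lib.Helper13.DR.Pff_prod (MvPolynomial (Fin n) R) _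
  have hqs := @Groth.Agent.Lib.Helper13.DR.hqs_Pff (MvPolynomial (Fin n) R) _
  have hql := @Groth.Agent.Lib.Helper13.DR.hql_Pff (MvPolynomial (Fin n) R) _
  simp only [DerCA.IsRelPseudoCoherentAll, h]
  refine ⟨fun h1 h2 => Groth.Agent.Lib.Helper13.PC.isNPC_obj₃ hsum hqs hql _ hT' h1 h2,
    fun h1 h3 => Groth.Agent.Lib.Helper13.PC.isNPC_obj₂ hsum hqs hql _ hT' h1 h3,
    fun h2 h3 => Groth.Agent.Lib.Helper13.PC.isNPC_obj₁ hsum hqs hql _ hT' h2 h3,
    fun h1 h2 m => Groth.Agent.Lib.Helper13.PC.isNPC_obj₃ hsum hqs hql _ hT' (h1 (m + 1)) (h2 m),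
    fun h1 h3 m => Groth.Agent.Lib.Helper13.PC.isNPC_obj₂ hsum hqs hql _ hT' (h1 m) (h3 m),
    fun h2 h3 m => ?_⟩
  have e : m - 1 + 1 = m := by ring
  have := Groth.Agent.Lib.Helper13.PC.isNPC_obj₁ hsum hqs hql (n := m - 1) _ hT'
    (by rw [e]; exact h2 m) (h3 (m - 1))
  rw [e] at this
  exact this

end Groth.Agent.S7020
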