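import Groth.Statements.S7021
import Groth.Agent.Lib.Helper13.DRingRelPC

set_option autoImplicit false
universe u
open CategoryTheory CategoryTheory.Limits
attribute [local instance] HasDerivedCategory.standard
open DerCA

namespace Groth.Agent.S7021

/-- Let R → A be a finite type homomorphism of commutative rings, α : R[x_1, ..., x_n] → A a surjective
R-algebra homomorphism and M an A-module. Then relative 0-pseudo-coherence of M over R amounts to M
being a finitely generated A-module, and relative (-1)-pseudo-coherence of M over R amounts to M
being finitely presented as an R[x_1, ..., x_n]-module through α. -/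
theorem result {R A : Type u} [CommRing R] [CommRing A]
    [Algebra R A] [Algebra.FiniteType R A] {n : ℕ} (α : MvPolynomial (Fin n) R →ₐ[R] A)
    (hα : Function.Surjective α) (M : Type u) [AddCommGroup M] [Module A M] :
    (DerCA.IsRelPseudoCoherentModule R A 0 M ↔ Module.Finite A M) ∧
      (DerCA.IsRelPseudoCoherentModule R A (-1) M ↔
        @Module.FinitePresentation (MvPolynomial (Fin n) R) M _ _ (Module.compHom M α.toRingHom)) := by

  have h := fun (m : ℤ) (K : Dual.D A) =>
    Groth.Agent.Lib.Helper13.DR.isRelPseudoCoherent_iff α hα m K
  have e := Groth.Agent.Lib.Helper13.DR.restrictDSingleIso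
    (α : MvPolynomial (Fin n) R →+* A) (ModuleCat.of A M)
  constructor
  · unfold DerCA.IsRelPseudoCoherentModule
    rw [h]
    rw [← Groth.Agent.Lib.Helper13.DR.finite_restrictScalars_iff_of_surjective
      (α : MvPolynomial (Fin n) R →+* A) hα (ModuleCat.of A M),
      ← Groth.Agent.Lib.Helper13.DR.isNPC_single_zero_iff]
    exact ⟨fun hh => hh.of_iso e, fun hh => hh.of_iso e.symm⟩
  · unfold DerCA.IsRelPseudoCoherentModule
    rw [h]
    have key := Groth.Agent.Lib.Helper13.DR.isNPC_single_neg_one_iff
      ((ModuleCat.restrictScalars.{u} (α : MvPolynomial (Fin n) R →+* A)).obj (ModuleCat.of A M))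
    exact ⟨fun hh => key.1 (hh.of_iso e), fun hh => (key.2 hh).of_iso e.symm⟩

end Groth.Agent.S7021
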