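import Groth.Statements.S7022
import Groth.Agent.Lib.Helper13.DRingRelPC

set_option autoImplicit false
universe u
open CategoryTheory CategoryTheory.Limits
attribute [local instance] HasDerivedCategory.standard
open DerCA

namespace Groth.Agent.S7022

/-- Let R → A be a finite type homomorphism of commutative rings, m an integer and K, L objects of the
derived category D(A). Whenever the direct sum K ⊕ L is pseudo-coherent relative to R in degree m,
both summands K and L are too; likewise, relative pseudo-coherence of K ⊕ L (in every degree) passes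
to K and to L. -/
theorem result {R A : Type u} [CommRing R] [CommRing A] [Algebra R A] [Algebra.FiniteType R A] (m : ℤ) (K L : Dual.D A) [HasBinaryBiproduct K L] :
    (DerCA.IsRelPseudoCoherent R A m (K ⊞ L) → DerCA.IsRelPseudoCoherent R A m K ∧ DerCA.IsRelPseudoCoherent R A m L) ∧
      (DerCA.IsRelPseudoCoherentAll R A (K ⊞ L) →
        DerCA.IsRelPseudoCoherentAll R A K ∧ DerCA.IsRelPseudoCoherentAll R A L) := by

  obtain ⟨n, α, hα⟩ := Groth.Agent.Lib.Helper13.DR.exists_presentation R A
  have h := fun (m : ℤ) (K : Dual.D A) =>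
    Groth.Agent.Lib.Helper13.DR.isRelPseudoCoherent_iff α hα m K
  have hsum := @Groth.Agent.Lib.Helper13.DR.Pff_prod (MvPolynomial (Fin n) R) _
  have hqs := @Groth.Agent.Lib.Helper13.DR.hqs_Pff (MvPolynomial (Fin n) R) _
  have hql := @Groth.Agent.Lib.Helper13.DR.hql_Pff (MvPolynomial (Fin n) R) _
  simp only [DerCA.IsRelPseudoCoherentAll, h]
  have : PreservesBinaryBiproducts (DRing.restrictD (α : MvPolynomial (Fin n) R →+* A)) :=
    preservesBinaryBiproducts_of_preservesBiproducts _
  have key : ∀ m : ℤ, Groth.Agent.Lib.Helper13.PC.IsNPC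
      (Groth.Agent.Lib.Helper13.DR.Pff (MvPolynomial (Fin n) R)) m
        ((DRing.restrictD (α : MvPolynomial (Fin n) R →+* A)).obj (K ⊞ L)) →
      Groth.Agent.Lib.Helper13.PC.IsNPC
        (Groth.Agent.Lib.Helper13.DR.Pff (MvPolynomial (Fin n) R)) m
          ((DRing.restrictD (α : MvPolynomial (Fin n) R →+* A)).obj K) ∧
      Groth.Agent.Lib.Helper13.PC.IsNPC
        (Groth.Agent.Lib.Helper13.DR.Pff (MvPolynomial (Fin n) R)) m
          ((DRing.restrictD (α : MvPolynomial (Fin n) R →+* A)).obj L) := fun m hm =>
    Groth.Agent.Lib.Helper13.PC.isNPC_of_isBilimit hsum hqs hql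
      ((DRing.restrictD (α : MvPolynomial (Fin n) R →+* A)).mapBinaryBicone
        (BinaryBiproduct.bicone K L))
      (isBinaryBilimitOfPreserves _ (BinaryBiproduct.isBilimit K L)) hm
  exact ⟨key m, fun hall => ⟨fun m => (key m (hall m)).1, fun m => (key m (hall m)).2⟩⟩

end Groth.Agent.S7022
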