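import Groth.Statements.S7023
import Groth.Agent.Lib.Helper13.DRingRelPC

set_option autoImplicit false
universe u
open CategoryTheory CategoryTheory.Limits
attribute [local instance] HasDerivedCategory.standard
open DerCA

namespace Groth.Agent.S7023

/-- Let R → A be a finite type homomorphism of commutative rings, m an integer and K a bounded above
cochain complex of A-modules such that the module K^i is (m - i)-pseudo-coherent relative to R for
every i. Then K is m-pseudo-coherent relative to R. Moreover, K is pseudo-coherent over R as soon as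
each of its terms K^i is so. -/
theorem result {R A : Type u} [CommRing R] [CommRing A] [Algebra R A] [Algebra.FiniteType R A] (m : ℤ) (K : DRing.Cx A) (b : ℤ)
    (hb : DRing.VanishesAbove K b) :
    ((∀ i : ℤ, DerCA.IsRelPseudoCoherentModule R A (m - i) (K.X i)) → DerCA.IsRelPseudoCoherent R A m (DRing.toD K)) ∧
      ((∀ i : ℤ, DerCA.IsRelPseudoCoherentModuleAll R A (K.X i)) →
        DerCA.IsRelPseudoCoherentAll R A (DRing.toD K)) := by

  obtain ⟨n, α, hα⟩ := Groth.Agent.Lib.Helper13.DR.exists_presentation R A
  have h := fun (m : ℤ) (K : Dual.D A) =>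
    Groth.Agent.Lib.Helper13.DR.isRelPseudoCoherent_iff α hα m K
  have hsum := @Groth.Agent.Lib.Helper13.DR.Pff_prod (MvPolynomial (Fin n) R) _
  have hqs := @Groth.Agent.Lib.Helper13.DR.hqs_Pff (MvPolynomial (Fin n) R) _
  have hql := @Groth.Agent.Lib.Helper13.DR.hql_Pff (MvPolynomial (Fin n) R) _
  have key : ∀ m : ℤ, (∀ i : ℤ, DerCA.IsRelPseudoCoherentModule R A (m - i) (K.X i)) →
      DerCA.IsRelPseudoCoherent R A m (DRing.toD K) := by
    intro m hK
    rw [h]
    refine Groth.Agent.Lib.Helper13.PC.IsNPC.of_iso ?_
      (Groth.Agent.Lib.Helper13.DR.restrictDQIso (α : MvPolynomial (Fin n) R →+* A) K).symm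
    refine Groth.Agent.Lib.Helper13.PC.isNPC_of_termwise hsum hqs hql _ b
      (fun i hi => Functor.map_isZero (ModuleCat.restrictScalars.{u}
        (α : MvPolynomial (Fin n) R →+* A)) (hb i hi)) (fun i _ => ?_)
    have hi := (h (m - i) _).1 (hK i)
    exact hi.of_iso (Groth.Agent.Lib.Helper13.DR.restrictDSingleIso
      (α : MvPolynomial (Fin n) R →+* A) (K.X i))
  exact ⟨key m, fun hall m => key m (fun i => hall i (m - i))⟩

end Groth.Agent.S7023
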