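import Groth.Statements.S7024
import Groth.Agent.Lib.Helper13.DRingRelPC

set_option autoImplicit false
universe u
open CategoryTheory CategoryTheory.Limits
attribute [local instance] HasDerivedCategory.standard
open DerCA

namespace Groth.Agent.S7024

/-- Let R → A be a finite type homomorphism of commutative rings, m an integer and K an object of D(A)
whose cohomology vanishes in large degrees. If the module H^i(K) is (m - i)-pseudo-coherent relative
to R for every i, then K is m-pseudo-coherent relative to R. Moreover, K is relatively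
pseudo-coherent over R as soon as each cohomology module H^i(K) has this property over R. -/
theorem result {R A : Type u} [CommRing R] [CommRing A] [Algebra R A] [Algebra.FiniteType R A] (m : ℤ) (K : Dual.D A)
    (hb : ∃ b : ℤ, ∀ i : ℤ, b < i → Subsingleton (Dual.HD A K i)) :
    ((∀ i : ℤ, DerCA.IsRelPseudoCoherentModule R A (m - i) (Dual.HD A K i)) → DerCA.IsRelPseudoCoherent R A m K) ∧
      ((∀ i : ℤ, DerCA.IsRelPseudoCoherentModuleAll R A (Dual.HD A K i)) → DerCA.IsRelPseudoCoherentAll R A K) := by

  obtain ⟨n, α, hα⟩ := Groth.Agent.Lib.Helper13.DR.exists_presentation R A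
  have h := fun (m : ℤ) (K : Dual.D A) =>
    Groth.Agent.Lib.Helper13.DR.isRelPseudoCoherent_iff α hα m K
  have hsum := @Groth.Agent.Lib.Helper13.DR.Pff_prod (MvPolynomial (Fin n) R) _
  have hqs := @Groth.Agent.Lib.Helper13.DR.hqs_Pff (MvPolynomial (Fin n) R) _
  have hql := @Groth.Agent.Lib.Helper13.DR.hql_Pff (MvPolynomial (Fin n) R) _
  obtain ⟨b, hb⟩ := hb
  have key : ∀ m : ℤ, (∀ i : ℤ, DerCA.IsRelPseudoCoherentModule R A (m - i) (Dual.HD A K i)) →
      DerCA.IsRelPseudoCoherent R A m K := by
    intro m hK
    rw [h]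
    refine Groth.Agent.Lib.Helper13.PC.isNPC_of_homology hsum hqs hql _ b (fun i hi => ?_)
      (fun i _ => ?_)
    · obtain ⟨e⟩ := Groth.Agent.Lib.Helper13.DR.nonempty_homology_restrictD_iso
        (α : MvPolynomial (Fin n) R →+* A) K i
      have := hb i hi
      exact IsZero.of_iso (Functor.map_isZero _ (ModuleCat.isZero_of_subsingleton _)) e
    · obtain ⟨e⟩ := Groth.Agent.Lib.Helper13.DR.nonempty_homology_restrictD_iso
        (α : MvPolynomial (Fin n) R →+* A) K i
      have hi := (h (m - i) _).1 (hK i)
      exact hi.of_iso (Groth.Agent.Lib.Helper13.DR.restrictDSingleIso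
        (α : MvPolynomial (Fin n) R →+* A) _ ≪≫
        (DerivedCategory.singleFunctor _ 0).mapIso e.symm)
  exact ⟨key m, fun hall m => key m (fun i => hall i (m - i))⟩

end Groth.Agent.S7024
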