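import Groth.Statements.S7026
import Groth.Agent.Lib.Helper13.DRingRelPC

set_option autoImplicit false
universe u
open CategoryTheory CategoryTheory.Limits
attribute [local instance] HasDerivedCategory.standard
open DerCA

namespace Groth.Agent.S7026

/-- Let R be a Noetherian commutative ring, R → A a finite type ring homomorphism, m an integer, K an
object of D(A) and M an A-module. Then: m-pseudo-coherence of K relative to R is equivalent to
H^i(K) vanishing for all large i together with H^i(K) being a finitely generated A-module for each i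
≥ m; pseudo-coherence of K relative to R (every degree) is equivalent to the same with H^i(K)
finitely generated for every i; and the A-module M is pseudo-coherent relative to R exactly when M
is finitely generated. -/
theorem result {R A : Type u} [CommRing R]
    [IsNoetherianRing R] [CommRing A] [Algebra R A] [Algebra.FiniteType R A] (m : ℤ) (K : Dual.D A)
    (M : Type u) [AddCommGroup M] [Module A M] :
    (DerCA.IsRelPseudoCoherent R A m K ↔
      (∃ b : ℤ, ∀ i : ℤ, b < i → Subsingleton (Dual.HD A K i)) ∧ ∀ i : ℤ, m ≤ i → Module.Finite A (Dual.HD A K i)) ∧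
    (DerCA.IsRelPseudoCoherentAll R A K ↔
      (∃ b : ℤ, ∀ i : ℤ, b < i → Subsingleton (Dual.HD A K i)) ∧ ∀ i : ℤ, Module.Finite A (Dual.HD A K i)) ∧
    (DerCA.IsRelPseudoCoherentModuleAll R A M ↔ Module.Finite A M) := by

  obtain ⟨n, α, hα⟩ := Groth.Agent.Lib.Helper13.DR.exists_presentation R A
  have h := fun (m : ℤ) (K : Dual.D A) =>
    Groth.Agent.Lib.Helper13.DR.isRelPseudoCoherent_iff α hα m K
  have hiso := fun (K : Dual.D A) (i : ℤ) =>
    Groth.Agent.Lib.Helper13.DR.nonempty_homology_restrictD_iso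
      (α : MvPolynomial (Fin n) R →+* A) K i
  have hsub : ∀ (K : Dual.D A) (i : ℤ), Subsingleton (Dual.HD (MvPolynomial (Fin n) R)
      ((DRing.restrictD (α : MvPolynomial (Fin n) R →+* A)).obj K) i) ↔
      Subsingleton (Dual.HD A K i) := by
    intro K i
    obtain ⟨e⟩ := hiso K i
    exact e.toLinearEquiv.toEquiv.subsingleton_congr
  have hfin : ∀ (K : Dual.D A) (i : ℤ), Module.Finite (MvPolynomial (Fin n) R)
      (Dual.HD (MvPolynomial (Fin n) R)
        ((DRing.restrictD (α : MvPolynomial (Fin n) R →+* A)).obj K) i) ↔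
      Module.Finite A (Dual.HD A K i) := by
    intro K i
    obtain ⟨e⟩ := hiso K i
    rw [← Groth.Agent.Lib.Helper13.DR.finite_restrictScalars_iff_of_surjective
      (α : MvPolynomial (Fin n) R →+* A) hα]
    exact Module.Finite.equiv_iff e.toLinearEquiv
  have key : ∀ (m : ℤ) (K : Dual.D A), DerCA.IsRelPseudoCoherent R A m K ↔
      (∃ b : ℤ, ∀ i : ℤ, b < i → Subsingleton (Dual.HD A K i)) ∧
        ∀ i : ℤ, m ≤ i → Module.Finite A (Dual.HD A K i) := by
    intro m K
    rw [h, ← Groth.Agent.Lib.Helper13.DR.isPseudoCoherent_iff,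
      Groth.Agent.Lib.Helper13.DR.isPseudoCoherent_iff_of_isNoetherianRing]
    simp only [hsub, hfin]
  have key2 : ∀ K : Dual.D A, DerCA.IsRelPseudoCoherentAll R A K ↔
      (∃ b : ℤ, ∀ i : ℤ, b < i → Subsingleton (Dual.HD A K i)) ∧
        ∀ i : ℤ, Module.Finite A (Dual.HD A K i) := by
    intro K
    unfold DerCA.IsRelPseudoCoherentAll
    simp only [key]
    exact ⟨fun hh => ⟨(hh 0).1, fun i => (hh i).2 i le_rfl⟩, fun hh m => ⟨hh.1, fun i _ => hh.2 i⟩⟩
  refine ⟨key m K, key2 K, ?_⟩
  constructor
  · intro hM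
    have h0 := (h 0 _).1 (hM 0)
    have e := Groth.Agent.Lib.Helper13.DR.restrictDSingleIso
      (α : MvPolynomial (Fin n) R →+* A) (ModuleCat.of A M)
    have := (Groth.Agent.Lib.Helper13.DR.isNPC_single_zero_iff _).1 (h0.of_iso e)
    exact (Groth.Agent.Lib.Helper13.DR.finite_restrictScalars_iff_of_surjective
      (α : MvPolynomial (Fin n) R →+* A) hα (ModuleCat.of A M)).1 this
  · intro hM m
    rw [h]
    have e := Groth.Agent.Lib.Helper13.DR.restrictDSingleIso
      (α : MvPolynomial (Fin n) R →+* A) (ModuleCat.of A M)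
    have hfin' : Module.Finite (MvPolynomial (Fin n) R)
        ((ModuleCat.restrictScalars.{u} (α : MvPolynomial (Fin n) R →+* A)).obj (ModuleCat.of A M)) :=
      (Groth.Agent.Lib.Helper13.DR.finite_restrictScalars_iff_of_surjective
        (α : MvPolynomial (Fin n) R →+* A) hα (ModuleCat.of A M)).2 hM
    have hpc := (Groth.Agent.Lib.Helper13.DR.isPseudoCoherentModule'_iff_of_isNoetherianRing
      ((ModuleCat.restrictScalars.{u} (α : MvPolynomial (Fin n) R →+* A)).obj (ModuleCat.of A M))).2 hfin'
    unfold DRing.IsPseudoCoherentModule' at hpc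
    rw [Groth.Agent.Lib.Helper13.DR.isPseudoCoherent'_iff] at hpc
    exact Groth.Agent.Lib.Helper13.PC.IsNPC.of_iso (hpc m) e.symm

end Groth.Agent.S7026
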