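import Groth.Statements.S7031
import Groth.Agent.Lib.Helper13.RegPerf2

set_option autoImplicit false
universe u
open CategoryTheory CategoryTheory.Limits
attribute [local instance] HasDerivedCategory.standard
open DRing

namespace Groth.Agent.S7031

/-- Let R be a regular commutative ring (Noetherian, with regular local rings at all primes) such that
the derived tensor product - ⊗^L_R M exists on D(R) for every R-module M, and let K be an object of
D(R). Then K is perfect if and only if H^i(K) = 0 outside a bounded range of degrees and every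
H^i(K) is a finitely generated R-module. -/
theorem result (R : Type u) [CommRing R] [IsNoetherianRing R]
    (hreg : ∀ p : PrimeSpectrum R, IsRegularLocalRing (Localization.AtPrime p.asIdeal)) [∀ M : ModuleCat.{u} R, DRing.HasLTensor R M] (K : Dual.D R) :
    DRing.IsPerfect R K ↔
      (∃ a b : ℤ, ∀ i : ℤ, (i < a ∨ b < i) → Subsingleton (Dual.HD R K i)) ∧ ∀ i : ℤ, Module.Finite R (Dual.HD R K i) := by
  open Groth.Agent.Lib.Helper13.DR Groth.Agent.Lib.Helper13.PC DerivedCategory in
  constructor
  · rintro ⟨E, a, b, hv, hfp, ⟨eE⟩⟩
    have iso : ∀ i : ℤ, E.homology i ≅ (DerivedCategory.homologyFunctor (ModuleCat.{u} R) i).obj K :=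
      fun i => (homologyQIso E i).symm ≪≫
        (DerivedCategory.homologyFunctor (ModuleCat.{u} R) i).mapIso eE
    refine ⟨⟨a, b, fun i hi => ?_⟩, fun i => ?_⟩
    · exact ModuleCat.subsingleton_of_isZero
        ((ShortComplex.isZero_homology_of_isZero_X₂ _ (hv i hi)).of_iso (iso i).symm)
    · have := Groth.Agent.Lib.Helper13.FG.finite_homology_of_noetherian R E (fun i => (hfp i).1) i
      exact Module.Finite.equiv (iso i).toLinearEquiv
  · rintro ⟨⟨a, b, hab⟩, hfin⟩
    have hpc : DRing.IsPseudoCoherent' R K := by
      rw [isPseudoCoherent'_iff]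
      intro m
      exact (isPseudoCoherent_iff m K).1 ((isPseudoCoherent_iff_of_isNoetherianRing m K).2
        ⟨⟨b, fun i hi => hab i (Or.inr hi)⟩, fun i _ => hfin i⟩)
    exact Groth.Agent.Lib.Helper13.RP.isPerfect_of_regular R hreg K hpc a
      (fun i hi => hab i (Or.inl hi))

end Groth.Agent.S7031
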