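import Groth.Statements.S7032
import Groth.Agent.Lib.Helper13.DRingTor5
import Groth.Agent.Lib.Helper13.DRingInjTri

set_option autoImplicit false
universe u
open CategoryTheory CategoryTheory.Limits
attribute [local instance] HasDerivedCategory.standard
open DRing

namespace Groth.Agent.S7032

/-- Let R be a commutative ring such that the derived tensor product - ⊗^L_R M exists on D(R) for every
R-module M, let a, b be integers and K a bounded cochain complex of R-modules such that for every i
the module K^i (placed in degree 0) has tor amplitude in [a - i, b - i]. Then K has tor amplitude in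
[a, b]. -/
theorem result (R : Type u) [CommRing R] [∀ M : ModuleCat.{u} R, DRing.HasLTensor R M] (a b : ℤ) (K : DRing.Cx R)
    (c d : ℤ) (hcd : DRing.VanishesOutside K c d)
    (hK : ∀ i : ℤ, DRing.HasTorAmplitudeIn R (a - i) (b - i) (Dual.inD R (K.X i))) :
    DRing.HasTorAmplitudeIn R a b (DRing.toD K) := by
  open Groth.Agent.Lib.Helper13.DR Groth.Agent.Lib.Helper13.PC in
  let W : ObjectProperty (Dual.D R) := fun K => DRing.HasTorAmplitudeIn R a b K
  have hW : W.IsClosedUnderIsomorphisms := ⟨fun e h => hasTorAmplitudeIn_of_iso e h⟩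
  have hext : ∀ T : Pretriangulated.Triangle (Dual.D R), T ∈ Pretriangulated.distinguishedTriangles →
      W T.obj₁ → W T.obj₃ → W T.obj₂ := fun T hT h₁ h₃ => hasTorAmplitudeIn_obj₂ T hT a b h₁ h₃
  have hzero : ∀ Z : Dual.D R, IsZero Z → W Z := fun Z hZ => hasTorAmplitudeIn_of_isZero hZ a b
  have hsingle : ∀ (i : ℤ) (X : ModuleCat.{u} R),
      DRing.HasTorAmplitudeIn R (a - i) (b - i) ((DerivedCategory.singleFunctor _ 0).obj X) →
      W ((DerivedCategory.singleFunctor _ i).obj X) := fun i X h => by
    have h' := hasTorAmplitudeIn_shift h (-i)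
    rw [show a - i - -i = a by ring, show b - i - -i = b by ring] at h'
    exact hasTorAmplitudeIn_of_iso (singleShiftIso i X) h'
  exact devissage_termwise W hext hzero K c d hcd (fun i => hsingle i (K.X i) (hK i))

end Groth.Agent.S7032
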