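import Groth.Statements.S7035
import Groth.Agent.Lib.Helper13.FibreGlDim

set_option autoImplicit false
universe u
open CategoryTheory CategoryTheory.Limits
attribute [local instance] HasDerivedCategory.standard
open DRing

namespace Groth.Agent.S7035

/-- Let A → B be a flat homomorphism of commutative rings and d a natural number such that for every
prime p of A, with residue field κ(p), every module over κ(p) ⊗_A B has projective dimension at most
d; assume the derived tensor products - ⊗^L M exist on D(κ(p) ⊗_A B) for all p and the derived base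
changes D(B) → D(B/m) exist for all ideals m of B. Let a, b be integers and K an object of D(B)
which is pseudo-coherent over B and, with scalars restricted to A, has tor amplitude in [a, b]. Then
K is perfect over B and has tor amplitude in [a - d, b] over B. -/
theorem result {A B : Type u} [CommRing A] [CommRing B] [Algebra A B]
    [Module.Flat A B] (d : ℕ)
    (hgl : ∀ (p : PrimeSpectrum A) (M : Type u) [AddCommGroup M]
      [Module (TensorProduct A p.asIdeal.ResidueField B) M],
      HasProjectiveDimensionLT (ModuleCat.of (TensorProduct A p.asIdeal.ResidueField B) M) (d + 1))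
    [∀ (p : PrimeSpectrum A) (M : ModuleCat.{u} (TensorProduct A p.asIdeal.ResidueField B)),
      DRing.HasLTensor (TensorProduct A p.asIdeal.ResidueField B) M]
    [∀ m : Ideal B, DRing.HasLBaseChange (Ideal.Quotient.mk m)] (a b : ℤ) (K : Dual.D B)
    (hK : DRing.IsPseudoCoherent' B K)
    (hKa : DRing.HasTorAmplitudeIn A a b ((DRing.restrictD (algebraMap A B)).obj K)) :
    DRing.IsPerfect B K ∧ DRing.HasTorAmplitudeIn B (a - d) b K := by
  open Groth.Agent.Lib.Helper13.DR Groth.Agent.Lib.Helper13.PC DerivedCategory in
  obtain ⟨E, c, hEv, hEff, ⟨eE⟩⟩ := hK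
  have hproj : ∀ i : ℤ, Projective (E.X i) := fun i => projective_of_Pfp (Pff_le_Pfp (hEff i))
  have : E.IsKProjective := isKProjective_of_forall_projective E c hEv hproj
  have hEfl : ∀ i : ℤ, Module.Flat B (E.X i) := fun i => by
    have := (hEff i).1
    have := (hEff i).2
    infer_instance
  have htor : DRing.HasTorAmplitudeIn A a b
      (Q.obj ((DRing.restrictCx (algebraMap A B)).obj E)) :=
    hasTorAmplitudeIn_of_iso ((DRing.restrictD (algebraMap A B)).mapIso eE.symm ≪≫
      restrictDQIso (algebraMap A B) E) hKa
  refine Groth.Agent.S6974.result B K ⟨E, c, hEv, hEff, ⟨eE⟩⟩ (a - d) b (fun m hm i hi => ?_)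
  have hz := Groth.Agent.Lib.Helper13.FG.isZero_homology_extCx_quotient_of_fibres d
    (fun p M => hgl p M) E c hEv hEfl a b htor m i hi
  exact ModuleCat.subsingleton_of_isZero (hz.of_iso
    ((DerivedCategory.homologyFunctor (ModuleCat.{u} (B ⧸ m)) i).mapIso
      ((DRing.LBaseChange (Ideal.Quotient.mk m)).mapIso eE.symm ≪≫
        LBaseChangeIso (Ideal.Quotient.mk m) E) ≪≫ homologyQIso _ i))

end Groth.Agent.S7035
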