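import Groth.Statements.S7036
import Groth.Agent.Lib.Helper13.DRingInjTri

set_option autoImplicit false
universe u
open CategoryTheory CategoryTheory.Limits
attribute [local instance] HasDerivedCategory.standard
open DRing

namespace Groth.Agent.S7036

/-- Let R be a commutative ring. (1) If K is an object of D(R) whose cohomology vanishes outside a
bounded range and every cohomology module H^i(K), placed in degree 0, has finite injective
dimension, then K has finite injective dimension. (2) If K is a bounded cochain complex of R-modules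
and every term K^i, placed in degree 0, has finite injective dimension, then K has finite injective
dimension. -/
theorem result (R : Type u) [CommRing R] :
    (∀ (K : Dual.D R), (∃ a b : ℤ, ∀ i : ℤ, (i < a ∨ b < i) → Subsingleton (Dual.HD R K i)) →
        (∀ i : ℤ, DRing.HasFiniteInjDim R (Dual.inD R (Dual.HD R K i))) → DRing.HasFiniteInjDim R K) ∧
      (∀ (K : DRing.Cx R) (a b : ℤ), DRing.VanishesOutside K a b →
        (∀ i : ℤ, DRing.HasFiniteInjDim R (Dual.inD R (K.X i))) → DRing.HasFiniteInjDim R (DRing.toD K)) := by

  have hext : ∀ T : Pretriangulated.Triangle (DerivedCategory (ModuleCat.{u} R)),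
      T ∈ Pretriangulated.distinguishedTriangles → DRing.HasFiniteInjDim R T.obj₁ →
      DRing.HasFiniteInjDim R T.obj₃ → DRing.HasFiniteInjDim R T.obj₂ :=
    fun T hT h1 h3 => Groth.Agent.Lib.Helper13.DR.hasFiniteInjDim_obj₂ T hT h1 h3
  have hzero : ∀ Z : DerivedCategory (ModuleCat.{u} R), IsZero Z → DRing.HasFiniteInjDim R Z :=
    fun Z hZ => ⟨0, 0, Groth.Agent.Lib.Helper13.DR.hasInjAmplitudeIn_of_isZero hZ 0 0⟩
  have : ObjectProperty.IsClosedUnderIsomorphisms (DRing.HasFiniteInjDim R) :=
    ⟨fun e ⟨a, b, h⟩ => ⟨a, b, Groth.Agent.Lib.Helper13.DR.hasInjAmplitudeIn_of_iso h e⟩⟩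
  constructor
  · rintro K ⟨a, b, hab⟩ hH
    refine Groth.Agent.Lib.Helper13.PC.devissage_homology (DRing.HasFiniteInjDim R) hext hzero K a b
      (fun i hi => ?_) (fun i => ?_)
    · have := hab i hi
      exact ModuleCat.isZero_of_subsingleton _
    · exact Groth.Agent.Lib.Helper13.DR.hasFiniteInjDim_single_shift (hH i) i
  · intro K a b hv hK
    exact Groth.Agent.Lib.Helper13.PC.devissage_termwise (DRing.HasFiniteInjDim R) hext hzero K a b hv
      (fun i => Groth.Agent.Lib.Helper13.DR.hasFiniteInjDim_single_shift (hK i) i)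

end Groth.Agent.S7036
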