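import Groth.Statements.S7039
-- import your own Groth.Agent.* helpers here

set_option autoImplicit false
universe u
open LocCoh

namespace Groth.Agent.S7039

/-- For a finitely generated ideal I of a commutative ring R and any R-module M, the quotient of M by
its submodule of I-power torsion elements has no nonzero element annihilated by I. -/
theorem result {R : Type u} [CommRing R] (I : Ideal R) (hI : I.FG)
    (M : Type u) [AddCommGroup M] [Module R M] :
    LocCoh.torsionBy I (M ⧸ DRing.torsionSub I M) = ⊥ := by
  classical
  obtain ⟨s, rfl⟩ := hI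
  rw [eq_bot_iff]
  intro y hy
  obtain ⟨x, rfl⟩ := Submodule.Quotient.mk_surjective _ y
  rw [Submodule.mem_bot, Submodule.Quotient.mk_eq_zero]
  have h1 : ∀ a ∈ Ideal.span (s : Set R), a • x ∈ DRing.torsionSub (Ideal.span (s : Set R)) M := by
    intro a ha
    have := (Submodule.mem_torsionBySet_iff _ _).mp hy ⟨a, ha⟩
    rw [← Submodule.Quotient.mk_smul, Submodule.Quotient.mk_eq_zero] at this
    exact this
  have h2 : ∀ f ∈ s, ∃ n : ℕ, ∀ b ∈ Ideal.span (s : Set R) ^ n, b • f • x = 0 := fun f hf =>
    h1 f (Ideal.subset_span hf)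
  choose! n hn using h2
  let N := s.sup n
  have h3 : ∀ a ∈ Ideal.span (s : Set R), ∀ b ∈ Ideal.span (s : Set R) ^ N, b • a • x = 0 := by
    intro a ha b hb
    induction ha using Submodule.span_induction with
    | mem f hf =>
      exact hn f hf b (Ideal.pow_le_pow_right (Finset.le_sup (f := n) hf) hb)
    | zero => simp
    | add a a' _ _ h h' => rw [add_smul, smul_add, h, h', add_zero]
    | smul r a _ h => rw [smul_eq_mul, mul_smul, smul_comm b r, h, smul_zero]
  refine ⟨N + 1, fun c hc => ?_⟩
  rw [pow_succ] at hc
  refine Submodule.mul_induction_on hc ?_ ?_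
  · intro b hb a ha
    rw [mul_smul]
    exact h3 a ha b hb
  · intro c c' h h'
    rw [add_smul, h, h', add_zero]

end Groth.Agent.S7039
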