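import Groth.Statements.S7040
import Mathlib.Algebra.Homology.ShortComplex.ModuleCat

set_option autoImplicit false
universe u
open CategoryTheory
open LocCoh

namespace Groth.Agent.S7040

/-- For a finitely generated ideal I of a commutative ring R, the property of being an I-power torsion
module (every element killed by a power of I) is a Serre class in the category of R-modules: it
holds for 0 and is closed under subobjects, quotients and extensions. -/
theorem result {R : Type u} [CommRing R] (I : Ideal R) (hI : I.FG) :
    ObjectProperty.IsSerreClass (C := ModuleCat.{u} R) (fun M => LocCoh.IsPowerTorsion I M) := by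
  refine { exists_zero := ?_, prop_of_mono := ?_, prop_of_epi := ?_, prop_X₂_of_shortExact := ?_ }
  · refine ⟨ModuleCat.of R PUnit, ModuleCat.isZero_of_subsingleton _, fun m => ⟨0, fun a _ => ?_⟩⟩
    exact Subsingleton.elim _ _
  · intro X Y f hf hY x
    obtain ⟨n, hn⟩ := hY (f.hom x)
    refine ⟨n, fun a ha => ?_⟩
    have hinj : Function.Injective f.hom := (ModuleCat.mono_iff_injective f).mp hf
    apply hinj
    rw [map_smul, hn a ha, map_zero]
  · intro X Y f hf hX y
    obtain ⟨x, rfl⟩ := (ModuleCat.epi_iff_surjective f).mp hf y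
    obtain ⟨n, hn⟩ := hX x
    refine ⟨n, fun a ha => ?_⟩
    rw [← map_smul, hn a ha, map_zero]
  · intro S hS h₁ h₃ x
    obtain ⟨n, hn⟩ := h₃ (S.g.hom x)
    -- I^n is finitely generated
    have hfg : (I ^ n).FG := Ideal.FG.pow hI
    obtain ⟨s, hs⟩ := hfg
    -- for each generator a ∈ s, a • x comes from X₁
    have hex : ∀ a ∈ I ^ n, ∃ y : S.X₁, S.f.hom y = a • x := by
      intro a ha
      have h0 : S.g.hom (a • x) = 0 := by rw [map_smul, hn a ha]
      exact (ShortComplex.ShortExact.moduleCat_exact_iff_function_exact S |>.mp hS.exact) _ |>.mp h0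
    choose! y hy using hex
    have hex2 : ∀ a ∈ I ^ n, ∃ m : ℕ, ∀ c ∈ I ^ m, c • y a = 0 := fun a _ => h₁ (y a)
    choose! m hm using hex2
    have hsub : ∀ a ∈ s, a ∈ I ^ n := fun a ha => hs ▸ Ideal.subset_span ha
    let M := s.sup m
    let N : Submodule R S.X₂ := Submodule.torsionBySet R S.X₂ ((I ^ M : Ideal R) : Set R)
    have hgen : ∀ a ∈ s, a • x ∈ N := by
      intro a ha
      rw [Submodule.mem_torsionBySet_iff]
      rintro ⟨c, hc⟩
      have hc' : c ∈ I ^ m a := Ideal.pow_le_pow_right (Finset.le_sup ha) hc
      change c • a • x = 0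
      rw [← hy a (hsub a ha), ← map_smul, hm a (hsub a ha) c hc', map_zero]
    have hall : ∀ a ∈ I ^ n, a • x ∈ N := by
      intro a ha
      rw [← hs] at ha
      induction ha using Submodule.span_induction with
      | mem a ha => exact hgen a ha
      | zero => rw [zero_smul]; exact N.zero_mem
      | add a b _ _ iha ihb => rw [add_smul]; exact N.add_mem iha ihb
      | smul r a _ iha => rw [smul_eq_mul, mul_smul]; exact N.smul_mem r iha
    refine ⟨M + n, fun b hb => ?_⟩
    rw [pow_add] at hb
    refine Submodule.mul_induction_on hb (fun c hc a ha => ?_) (fun b b' ihb ihb' => ?_)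
    · rw [mul_smul]
      have := hall a ha
      rw [Submodule.mem_torsionBySet_iff] at this
      exact this ⟨c, hc⟩
    · rw [add_smul, ihb, ihb', add_zero]

end Groth.Agent.S7040
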