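import Groth.Statements.S7041
import Mathlib.LinearAlgebra.TensorProduct.Basic
import Mathlib.RingTheory.Ideal.Quotient.Operations

set_option autoImplicit false
universe u
open TensorProduct
open LocCoh

namespace Groth.Agent.S7041

section

variable {R R' : Type u} [CommRing R] [CommRing R'] [Algebra R R'] (I : Ideal R)
  (hq : ∀ n : ℕ, 0 < n → Function.Bijective
    (Ideal.quotientMap (Ideal.map (algebraMap R R') (I ^ n)) (algebraMap R R') Ideal.le_comap_map))

include hq in
theorem exists_lift (k : ℕ) (hk : 0 < k) (r' : R') :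
    ∃ r : R, algebraMap R R' r - r' ∈ Ideal.map (algebraMap R R') (I ^ k) := by
  obtain ⟨x, hx⟩ := (hq k hk).2 (Ideal.Quotient.mk _ r')
  obtain ⟨r, rfl⟩ := Ideal.Quotient.mk_surjective x
  refine ⟨r, ?_⟩
  rw [Ideal.quotientMap_mk] at hx
  exact (Ideal.Quotient.eq).mp hx

include hq in
theorem mem_of_map_mem (k : ℕ) (hk : 0 < k) (r : R)
    (h : algebraMap R R' r ∈ Ideal.map (algebraMap R R') (I ^ k)) : r ∈ I ^ k := by
  have h1 : Ideal.quotientMap (Ideal.map (algebraMap R R') (I ^ k)) (algebraMap R R')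
      Ideal.le_comap_map (Ideal.Quotient.mk _ r) = 0 := by
    rw [Ideal.quotientMap_mk]
    exact Ideal.Quotient.eq_zero_iff_mem.mpr h
  have h2 := (hq k hk).1 (h1.trans (map_zero _).symm)
  exact Ideal.Quotient.eq_zero_iff_mem.mp h2

variable {M : Type u} [AddCommGroup M] [Module R M]

include hq in
theorem indep {k₁ k₂ : ℕ} (hk₁ : 0 < k₁) (hk₂ : 0 < k₂) (m : M)
    (h₁ : ∀ a ∈ I ^ k₁, a • m = 0) (h₂ : ∀ a ∈ I ^ k₂, a • m = 0) (r' : R') (r₁ r₂ : R)
    (hr₁ : algebraMap R R' r₁ - r' ∈ Ideal.map (algebraMap R R') (I ^ k₁))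
    (hr₂ : algebraMap R R' r₂ - r' ∈ Ideal.map (algebraMap R R') (I ^ k₂)) :
    r₁ • m = r₂ • m := by
  wlog hle : k₁ ≤ k₂ generalizing k₁ k₂ r₁ r₂
  · exact (this hk₂ hk₁ h₂ h₁ r₂ r₁ hr₂ hr₁ (le_of_not_ge hle)).symm
  have hr₂' : algebraMap R R' r₂ - r' ∈ Ideal.map (algebraMap R R') (I ^ k₁) :=
    Ideal.map_mono (Ideal.pow_le_pow_right hle) hr₂
  have h3 : algebraMap R R' (r₁ - r₂) ∈ Ideal.map (algebraMap R R') (I ^ k₁) := by
    have : algebraMap R R' (r₁ - r₂) = (algebraMap R R' r₁ - r') - (algebraMap R R' r₂ - r') := by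
      rw [map_sub]; ring
    rw [this]
    exact Ideal.sub_mem _ hr₁ hr₂'
  have h4 := mem_of_map_mem I hq k₁ hk₁ _ h3
  have h5 := h₁ _ h4
  rw [sub_smul, sub_eq_zero] at h5
  exact h5

end


/-- Let R → R' be a homomorphism of commutative rings and I an ideal of R such that the induced map
R/I^n → R'/I^n R' is bijective for every n > 0. Then for every R-module M in which every element is
killed by a power of I, the map M → R' ⊗_R M sending m to 1 ⊗ m is bijective. -/
theorem result {R R' : Type u} [CommRing R] [CommRing R'] [Algebra R R']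
    (I : Ideal R)
    (hq : ∀ n : ℕ, 0 < n → Function.Bijective
      (Ideal.quotientMap (Ideal.map (algebraMap R R') (I ^ n)) (algebraMap R R') Ideal.le_comap_map))
    (M : Type u) [AddCommGroup M] [Module R M] (hM : LocCoh.IsPowerTorsion I M) :
    Function.Bijective (fun m : M => (1 : R') ⊗ₜ[R] m) := by
  classical
  -- positive exponents
  have hM' : ∀ m : M, ∃ n : ℕ, 0 < n ∧ ∀ a ∈ I ^ n, a • m = 0 := by
    intro m
    obtain ⟨n, hn⟩ := hM m
    exact ⟨n + 1, Nat.succ_pos n, fun a ha => hn a (Ideal.pow_le_pow_right (Nat.le_succ n) ha)⟩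
  choose n hn0 hn using hM'
  choose lift hlift using fun (k : {k : ℕ // 0 < k}) (r' : R') => exists_lift I hq k.1 k.2 r'
  let β : R' → M → M := fun r' m => lift ⟨n m, hn0 m⟩ r' • m
  have hβ : ∀ (r' : R') (m : M) (k : ℕ) (hk : 0 < k) (hkm : ∀ a ∈ I ^ k, a • m = 0) (r : R)
      (hr : algebraMap R R' r - r' ∈ Ideal.map (algebraMap R R') (I ^ k)), β r' m = r • m := by
    intro r' m k hk hkm r hr
    exact indep I hq (hn0 m) hk m (hn m) hkm r' _ r (hlift ⟨n m, hn0 m⟩ r') hr
  -- bilinearity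
  let ψ : R' ⊗[R] M →ₗ[R] M := TensorProduct.lift (LinearMap.mk₂ R β
    (by
      intro r₁ r₂ m
      have h1 := hlift ⟨n m, hn0 m⟩ r₁
      have h2 := hlift ⟨n m, hn0 m⟩ r₂
      rw [hβ (r₁ + r₂) m (n m) (hn0 m) (hn m) (lift ⟨n m, hn0 m⟩ r₁ + lift ⟨n m, hn0 m⟩ r₂)
        (by
          have : algebraMap R R' (lift ⟨n m, hn0 m⟩ r₁ + lift ⟨n m, hn0 m⟩ r₂) - (r₁ + r₂) =
            (algebraMap R R' (lift ⟨n m, hn0 m⟩ r₁) - r₁) +
              (algebraMap R R' (lift ⟨n m, hn0 m⟩ r₂) - r₂) := by rw [map_add]; ring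
          rw [this]; exact Ideal.add_mem _ h1 h2), add_smul])
    (by
      intro c r' m
      have h1 := hlift ⟨n m, hn0 m⟩ r'
      rw [hβ (c • r') m (n m) (hn0 m) (hn m) (c * lift ⟨n m, hn0 m⟩ r')
        (by
          have : algebraMap R R' (c * lift ⟨n m, hn0 m⟩ r') - c • r' =
            algebraMap R R' c * (algebraMap R R' (lift ⟨n m, hn0 m⟩ r') - r') := by
            rw [map_mul, Algebra.smul_def]; ring
          rw [this]; exact Ideal.mul_mem_left _ _ h1), mul_smul])
    (by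
      intro r' m m'
      set k := max (n m) (n m') with hk
      have hk0 : 0 < k := lt_of_lt_of_le (hn0 m) (le_max_left _ _)
      have hkm : ∀ a ∈ I ^ k, a • m = 0 := fun a ha =>
        hn m a (Ideal.pow_le_pow_right (le_max_left _ _) ha)
      have hkm' : ∀ a ∈ I ^ k, a • m' = 0 := fun a ha =>
        hn m' a (Ideal.pow_le_pow_right (le_max_right _ _) ha)
      have hkmm : ∀ a ∈ I ^ k, a • (m + m') = 0 := fun a ha => by
        rw [smul_add, hkm a ha, hkm' a ha, add_zero]
      have h1 := hlift ⟨k, hk0⟩ r'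
      rw [hβ r' (m + m') k hk0 hkmm _ h1, hβ r' m k hk0 hkm _ h1, hβ r' m' k hk0 hkm' _ h1,
        smul_add])
    (by
      intro c r' m
      have hkm : ∀ a ∈ I ^ (n m), a • (c • m) = 0 := fun a ha => by
        rw [smul_comm, hn m a ha, smul_zero]
      have h1 := hlift ⟨n m, hn0 m⟩ r'
      rw [hβ r' (c • m) (n m) (hn0 m) hkm _ h1, smul_comm]))
  have hψ : ∀ m : M, ψ ((1 : R') ⊗ₜ[R] m) = m := by
    intro m
    change β 1 m = m
    rw [hβ 1 m (n m) (hn0 m) (hn m) 1 (by rw [map_one, sub_self]; exact Ideal.zero_mem _), one_smul]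
  constructor
  · intro m m' h
    have := congrArg ψ h
    rwa [hψ, hψ] at this
  · intro x
    induction x with
    | zero => exact ⟨0, by simp⟩
    | tmul r' m =>
      -- r' ⊗ m = 1 ⊗ (r • m)
      obtain ⟨r, hr⟩ := exists_lift I hq (n m) (hn0 m) r'
      refine ⟨r • m, ?_⟩
      -- elements of the extended ideal kill m in the tensor product
      have hkill : ∀ e ∈ Ideal.map (algebraMap R R') (I ^ n m), e ⊗ₜ[R] m = 0 := by
        intro e he
        refine Submodule.span_induction (p := fun e _ => e ⊗ₜ[R] m = 0) ?_ ?_ ?_ ?_ he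
        · rintro _ ⟨a, ha, rfl⟩
          rw [Algebra.algebraMap_eq_smul_one, TensorProduct.smul_tmul, hn m a ha, tmul_zero]
        · exact zero_tmul _ _
        · intro x y _ _ hx hy
          rw [add_tmul, hx, hy, add_zero]
        · intro s x _ hx
          have : (s • x) ⊗ₜ[R] m = s • (x ⊗ₜ[R] m) := rfl
          rw [this, hx, smul_zero]
      have h2 := hkill _ hr
      rw [sub_tmul, sub_eq_zero] at h2
      change (1 : R') ⊗ₜ[R] (r • m) = r' ⊗ₜ[R] m
      rw [← h2, Algebra.algebraMap_eq_smul_one, TensorProduct.smul_tmul]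
    | add x y hx hy =>
      obtain ⟨a, rfl⟩ := hx
      obtain ⟨b, rfl⟩ := hy
      exact ⟨a + b, by simp [tmul_add]⟩

end Groth.Agent.S7041
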