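import Groth.Statements.S7042
import Groth.Agent.Lib.Helper7.DerivedCompleteMT
import Groth.Agent.Lib.Helper7.FCompleteTorsion

set_option autoImplicit false
universe u
attribute [local instance] HasDerivedCategory.standard
open DRing

namespace Groth.Agent.S7042

lemma exists_pow_smul_top_eq_bot {A : Type u} [CommRing A] {M : Type u} [AddCommGroup M] [Module A M]
    (s : Finset A) (h : ∀ f ∈ s, ∃ n : ℕ, ∀ x : M, f ^ n • x = 0) :
    ∃ N : ℕ, Ideal.span (s : Set A) ^ N • (⊤ : Submodule A M) = ⊥ := by
  classical
  induction s using Finset.induction_on with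
  | empty =>
    refine ⟨1, ?_⟩
    rw [Finset.coe_empty, Ideal.span_empty, pow_one, Submodule.bot_smul]
  | insert g s _ ih =>
    obtain ⟨b, hb⟩ := ih fun f hf => h f (Finset.mem_insert_of_mem hf)
    obtain ⟨a, ha⟩ := h g (Finset.mem_insert_self g s)
    refine ⟨a + b, ?_⟩
    rw [eq_bot_iff, Finset.coe_insert, Ideal.span_insert]
    refine (Submodule.smul_mono_left Ideal.sup_pow_add_le_pow_sup_pow).trans ?_
    rw [Submodule.sup_smul, hb, sup_bot_eq, Ideal.span_singleton_pow, Submodule.ideal_span_singleton_smul]
    rintro _ ⟨x, -, rfl⟩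
    rw [Submodule.mem_bot]
    exact ha x

open Groth.Agent.Lib.Helper7 in


/-- Let I be a finitely generated ideal of a commutative ring A and let M be an A-module which, placed
in degree 0, is derived complete with respect to I, and in which every element is killed by a power
of I. Then a single power of I kills M. -/
theorem result {A : Type u} [CommRing A]
    (I : Ideal A) (hI : I.FG) (M : Type u) [AddCommGroup M] [Module A M]
    (hc : DRing.IsDerivedComplete I (Dual.inD A M)) (ht : LocCoh.IsPowerTorsion I M) :
    ∃ n : ℕ, I ^ n • (⊤ : Submodule A M) = ⊥ := by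
  rw [DerivedCompleteMT.isDerivedComplete_inD_iff] at hc
  obtain ⟨s, rfl⟩ := hI
  refine exists_pow_smul_top_eq_bot s fun f hf => ?_
  refine FComplete.exists_pow_smul_eq_zero_of_isFComplete (hc f (Ideal.subset_span hf)) fun x => ?_
  obtain ⟨n, hn⟩ := ht x
  exact ⟨n, hn _ (Ideal.pow_mem_pow (Ideal.subset_span hf) n)⟩

end Groth.Agent.S7042
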