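import Groth.Statements.S7043
import Groth.Agent.Lib.Helper7.DerivedCompleteMT

set_option autoImplicit false
universe u
attribute [local instance] HasDerivedCategory.standard
open DRing

namespace Groth.Agent.S7043

open Groth.Agent.Lib.Helper7 in


/-- Let f be an element of a commutative ring A and let M be an A-module which, placed in degree 0, is
derived complete with respect to the ideal (f). Then the ideal J = ⋂ f^n A annihilates the submodule
⋂ f^n M, which is the kernel of M → lim M/f^n M. (The case M = A says that J has square zero when A
itself is derived complete.) -/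
theorem result {A : Type u} [CommRing A] (f : A)
    (M : Type u) [AddCommGroup M] [Module A M]
    (hc : DRing.IsDerivedComplete (Ideal.span {f}) (Dual.inD A M)) :
    (⨅ n : ℕ, Ideal.span {f ^ n}) • (⨅ n : ℕ, (Ideal.span {f ^ n}) • (⊤ : Submodule A M)) = (⊥ : Submodule A M) := by
  rw [DerivedCompleteMT.isDerivedComplete_inD_iff] at hc
  have hf : FComplete.IsFComplete f M := hc f (Ideal.subset_span rfl)
  rw [eq_bot_iff, Submodule.smul_le]
  intro a ha x hx
  rw [Submodule.mem_bot]
  have ha' : ∀ n : ℕ, ∃ b : A, b * f ^ n = a := fun n =>
    Ideal.mem_span_singleton'.mp ((Submodule.mem_iInf _).mp ha n)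
  have hx' : ∀ n : ℕ, ∃ y : M, f ^ n • y = x := by
    intro n
    have := (Submodule.mem_iInf _).mp hx n
    rw [Submodule.ideal_span_singleton_smul, Submodule.mem_smul_pointwise_iff_exists] at this
    obtain ⟨y, -, hy⟩ := this
    exact ⟨y, hy⟩
  choose b hb using ha'
  choose y hy using hx'
  have key : (fun n => b n • x) = 0 := by
    apply hf.eq_zero
    intro n
    rw [smul_smul, ← sub_eq_zero, ← sub_smul]
    conv_lhs => rw [← hy n]
    rw [smul_smul]
    have : (b n - f * b (n + 1)) * f ^ n = 0 := by
      have h1 := hb n
      have h2 := hb (n + 1)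
      rw [pow_succ] at h2
      rw [sub_mul, h1, ← h2]
      ring
    rw [this, zero_smul]
  have h0 := congrFun key 0
  have hb0 : b 0 = a := by simpa using hb 0
  simpa [hb0] using h0

end Groth.Agent.S7043
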