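import Groth.Statements.S7049
import Groth.Agent.Lib.Helper7.DerivedCompleteMT
import Groth.Agent.Lib.Helper7.FCompletePrecomplete

set_option autoImplicit false
universe u
attribute [local instance] HasDerivedCategory.standard
open DRing

namespace Groth.Agent.S7049

open Groth.Agent.Lib.Helper7 in


/-- For a commutative ring A, a finitely generated ideal I and an A-module M such that M[0] is derived
complete with respect to I, the canonical map from M to its I-adic completion lim M/I^n M is
surjective. -/
theorem result {A : Type u} [CommRing A] (I : Ideal A) (hI : I.FG)
    (M : Type u) [AddCommGroup M] [Module A M] (hc : DRing.IsDerivedComplete I (Dual.inD A M)) :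
    Function.Surjective (AdicCompletion.of I M) := by
  rw [DerivedCompleteMT.isDerivedComplete_inD_iff] at hc
  obtain ⟨s, rfl⟩ := hI
  rw [AdicCompletion.of_surjective_iff]
  exact FComplete.isPrecomplete_span_of_isFComplete s (fun f hf => hc f (Ideal.subset_span hf))

end Groth.Agent.S7049
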