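import Groth.Statements.S7054
import Groth.Agent.Lib.Helper7.DerivedCompleteMT

set_option autoImplicit false
universe u
attribute [local instance] HasDerivedCategory.standard
open DRing

namespace Groth.Agent.S7054

open Groth.Agent.Lib.Helper7 in


/-- For a commutative ring A and an ideal I such that A, placed in degree 0, is derived complete with
respect to I, every object of D(A) isomorphic to a bounded above complex of finite free A-modules is
derived complete with respect to I. -/
theorem result {A : Type u} [CommRing A] (I : Ideal A)
    (hA : DRing.IsDerivedComplete I (Dual.inD A A)) (K : Dual.D A) (hK : DRing.IsPseudoCoherent' A K) :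
    DRing.IsDerivedComplete I K := by
  obtain ⟨E, b, -, hE, ⟨e⟩⟩ := hK
  refine DerivedComplete.of_iso I e ?_
  rw [DerivedCompleteMT.isDerivedComplete_inD_iff] at hA
  rw [DerivedCompleteMT.isDerivedComplete_iff]
  intro f hf i
  refine DerivedCompleteMT.isFComplete_HD_Q E (fun j => ?_) i
  have := (hE j).1
  have := (hE j).2
  exact DerivedCompleteMT.isFComplete_of_finite_free (hA f hf) (E.X j)

end Groth.Agent.S7054
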