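import Groth.Statements.S7058
import Groth.Agent.Lib.Helper13.Coind3

set_option autoImplicit false
universe u
attribute [local instance] HasDerivedCategory.standard
open CategoryTheory
open DRing

namespace Groth.Agent.S7058

/-- Let A be a commutative ring, I a finitely generated ideal, and assume the derived completion functor
(left adjoint to the inclusion of derived complete objects of D(A)) exists. If K is a cochain
complex of A-modules and some f in I acts bijectively on every term of K, then the derived
completion of K is zero. -/
theorem result {A : Type u} [CommRing A] (I : Ideal A) (hI : I.FG)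
    [DRing.HasDerivedCompletion I] (K : DRing.Cx A) (f : A) (hf : f ∈ I)
    (hK : ∀ i : ℤ, Function.Bijective (fun x : K.X i => f • x)) :
    Limits.IsZero ((DRing.derivedCompletion I).obj (DRing.toD K)).obj := by
  classical
  have hS : ∀ (i : ℤ), ∀ s ∈ Submonoid.powers f, Function.Bijective (fun x : K.X i => s • x) := by
    rintro i s ⟨n, rfl⟩
    induction n with
    | zero =>
      have : (fun x : K.X i => f ^ 0 • x) = id := by
        funext x
        simp
      rw [this]
      exact Function.bijective_id
    | succ n ih =>
      have : (fun x : K.X i => f ^ (n + 1) • x) =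
          (fun x : K.X i => f ^ n • x) ∘ (fun x : K.X i => f • x) := by
        funext x
        simp [pow_succ, mul_smul]
      rw [this]
      exact ih.comp (hK i)
  obtain ⟨E, ⟨e⟩⟩ := Groth.Agent.Lib.Helper13.Coind.exists_iso_restrictD (Submonoid.powers f) K hS
  set C := (DRing.derivedCompletion I).obj (DRing.toD K) with hCdef
  have hC : ∀ n : ℤ, Subsingleton (Dual.inD A (Localization.Away f) ⟶ C.obj⟦n⟧) :=
    fun n => C.property f hf n
  have h1 : Subsingleton
      ((DRing.restrictD (algebraMap A (Localization.Away f))).obj E ⟶ C.obj) :=
    Groth.Agent.Lib.Helper13.Coind.subsingleton_hom_restrictD (B := Localization.Away f) C.obj hC E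
  have h2 : Subsingleton (DRing.toD K ⟶ C.obj) :=
    (Iso.homCongr e (Iso.refl C.obj)).subsingleton_congr.2 h1
  have h3 : Subsingleton (C ⟶ C) :=
    ((DRing.derivedCompletionAdj I).homEquiv (DRing.toD K) C).subsingleton_congr.2 h2
  rw [Limits.IsZero.iff_id_eq_zero]
  have h4 : (𝟙 C : C ⟶ C) = 0 := Subsingleton.elim _ _
  have h5 := congrArg (fun g => (ObjectProperty.ι (DRing.IsDerivedComplete I)).map g) h4
  simpa using h5

end Groth.Agent.S7058
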