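import Groth.Statements.S7062
-- import your own Groth.Agent.* helpers here
import Mathlib
import Groth.Agent.Lib.Helper12.BL7

set_option autoImplicit false
universe u
open EtGlue

namespace Groth.Agent.S7062

/-- For a glueing pair (R → R', f), i.e. R/f^nR → R'/f^nR' is bijective for all n > 0 and the sequence 0
→ R → R' ⊕ R_f → R'_f → 0 is exact, the group Tor_1^R(R', f^n R) vanishes for every n > 0 (Tor
computed by resolving the second argument, the ideal f^n R). -/
theorem result {R R' : Type u} [CommRing R] [CommRing R'] [Algebra R R']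
    (f : R) (h : EtGlue.IsGlueingPair R R' f) (n : ℕ) (hn : 0 < n) :
    Subsingleton (DRing.Tor R 1 R' ↥(Ideal.span ({f ^ n} : Set R))) := by
  let I : Ideal R := Ideal.span ({f ^ n} : Set R)
  let p : R →ₗ[R] I :=
    { toFun := fun r => ⟨r * f ^ n, Ideal.mul_mem_left _ _ (Ideal.mem_span_singleton_self _)⟩
      map_add' := fun a b => Subtype.ext (add_mul a b (f ^ n))
      map_smul' := fun a b => Subtype.ext (by simp [mul_assoc]) }
  have hp : Function.Surjective p := by
    rintro ⟨x, hx⟩
    obtain ⟨a, rfl⟩ := Ideal.mem_span_singleton'.mp hx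
    exact ⟨a, rfl⟩
  let K : Submodule R R := LinearMap.ker p
  have hK : ∀ k ∈ K, ∃ m : ℕ, f ^ m * k = 0 := by
    intro k hk
    have : p k = 0 := hk
    have h2 : k * f ^ n = 0 := congrArg Subtype.val this
    exact ⟨n, by rw [mul_comm]; exact h2⟩
  exact Groth.Agent.Lib.Helper12.TorSecond.subsingleton_tor_one_of_injective R' K.subtype p
    (Submodule.injective_subtype K) hp (LinearMap.exact_subtype_ker_map p)
    (Groth.Agent.Lib.Helper12.BL.lTensor_subtype_injective_of_torsion h K hK)

end Groth.Agent.S7062
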