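import Groth.Statements.S7065
import Mathlib.RingTheory.Spectrum.Prime.Topology

set_option autoImplicit false
universe u
open EtGlue

namespace Groth.Agent.S7065

/-- Let R → R' be a homomorphism of commutative rings and f an element of R such that the induced map
R/fR → R'/fR' is bijective. Then Spec(R') ⊔ Spec(R_f) → Spec(R) is surjective: every prime of R is
the contraction of a prime of R' or of a prime of R_f. -/
theorem result {R R' : Type u} [CommRing R] [CommRing R']
    [Algebra R R'] (f : R)
    (hq : Function.Bijective
      (Ideal.quotientMap (Ideal.map (algebraMap R R') (Ideal.span {f})) (algebraMap R R') Ideal.le_comap_map))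
    (p : PrimeSpectrum R) :
    (∃ q : PrimeSpectrum R', PrimeSpectrum.comap (algebraMap R R') q = p) ∨
      ∃ q : PrimeSpectrum (Localization.Away f), PrimeSpectrum.comap (algebraMap R (Localization.Away f)) q = p := by
  by_cases hf : f ∈ p.asIdeal
  · left
    set I : Ideal R := Ideal.span {f} with hI
    set φ := Ideal.quotientMap (Ideal.map (algebraMap R R') I) (algebraMap R R') Ideal.le_comap_map
      with hφ
    have hp : p ∈ Set.range (PrimeSpectrum.comap (Ideal.Quotient.mk I)) := by
      rw [_root_.range_comap_of_surjective _ _ Ideal.Quotient.mk_surjective,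
        Ideal.mk_ker, PrimeSpectrum.mem_zeroLocus]
      intro x hx
      obtain ⟨a, rfl⟩ := Ideal.mem_span_singleton'.mp hx
      exact p.asIdeal.mul_mem_left a hf
    obtain ⟨pbar, rfl⟩ := hp
    let e := RingEquiv.ofBijective φ hq
    refine ⟨PrimeSpectrum.comap (Ideal.Quotient.mk (Ideal.map (algebraMap R R') I))
      (PrimeSpectrum.comap e.symm.toRingHom pbar), ?_⟩
    rw [← PrimeSpectrum.comap_comp_apply, ← Ideal.quotientMap_comp_mk (H := Ideal.le_comap_map),
      PrimeSpectrum.comap_comp_apply, ← hφ]
    congr 1
    rw [← PrimeSpectrum.comap_comp_apply]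
    have : e.symm.toRingHom.comp φ = RingHom.id _ :=
      RingHom.ext fun x => e.symm_apply_apply x
    rw [this]
    rfl
  · right
    have : p ∈ Set.range (PrimeSpectrum.comap (algebraMap R (Localization.Away f))) := by
      rw [PrimeSpectrum.localization_away_comap_range (Localization.Away f) f]
      exact hf
    exact this

end Groth.Agent.S7065
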