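import Groth.Statements.S7071
import Groth.Agent.Lib.Helper13.DRingRelPC

set_option autoImplicit false
universe u
attribute [local instance] HasDerivedCategory.standard
open DerCA

namespace Groth.Agent.S7071

/-- Let R → A be a pseudo-coherent homomorphism of commutative rings, m an integer and K an object of
D(A). Then the object K is m-pseudo-coherent as an object of D(A) exactly when, relative to R, it is
m-pseudo-coherent. -/
theorem result (R A : Type u) [CommRing R] [CommRing A]
    [Algebra R A] (hRA : MoreMor.IsPseudoCoherentHom R A) (m : ℤ) (K : Dual.D A) :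
    DerCA.IsRelPseudoCoherent R A m K ↔ DRing.IsPseudoCoherent A m K := by

  obtain ⟨n, φ, hφ, hpc⟩ := hRA
  have hB : Groth.Agent.Lib.Helper13.DR.IsPCHom (φ : MvPolynomial (Fin n) R →+* A) := by
    letI := φ.toRingHom.toAlgebra
    exact Groth.Agent.Lib.Helper13.DR.isPC_resSingle_self_of_algebra (MvPolynomial (Fin n) R) A hpc
  rw [Groth.Agent.Lib.Helper13.DR.isRelPseudoCoherent_iff φ hφ m K,
    Groth.Agent.Lib.Helper13.DR.isPseudoCoherent_iff]
  exact (Groth.Agent.Lib.Helper13.DR.isNPC_restrictD_iff hB m K).symm

end Groth.Agent.S7071
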