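import Groth.Statements.S7072
import Mathlib
import Groth.Agent.Lib.Helper16.NLPerf

set_option autoImplicit false
universe u
attribute [local instance] HasDerivedCategory.standard
open LCI

namespace Groth.Agent.S7072

section helpers
attribute [local instance] HasDerivedCategory.standard
open LCI

theorem result_aux {A B : Type u} [CommRing A] [CommRing B] [Algebra A B]
    (h : LCI.IsLCI A B) :
    DRing.IsPerfect B (LCI.NL A B) ∧ DRing.HasTorAmplitudeIn B (-1) 0 (LCI.NL A B) := by
  exact Groth.Agent.Lib.Helper16.NLPerf.nl_isPerfect_and_torAmplitude h

end helpers

/-- For a local complete intersection homomorphism of commutative rings A → B, the naive cotangent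
complex NL_{B/A} is a perfect object of D(B) and has tor amplitude in [-1, 0]. -/
theorem result {A B : Type u} [CommRing A] [CommRing B] [Algebra A B]
    (h : LCI.IsLCI A B) :
    DRing.IsPerfect B (LCI.NL A B) ∧ DRing.HasTorAmplitudeIn B (-1) 0 (LCI.NL A B) := by
  exact result_aux h

end Groth.Agent.S7072
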