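import Groth.Statements.S7074
import Groth.Agent.Lib.Helper13.RP2

set_option autoImplicit false
universe u
attribute [local instance] HasDerivedCategory.standard
open CategoryTheory
open Dual2

namespace Groth.Agent.S7074

/-- For a flat homomorphism of finite presentation R → A of commutative rings and an object K of D(A), K
is R-perfect (pseudo-coherent over A and of finite tor dimension over R) if and only if K is
isomorphic in D(A) to a bounded complex whose terms are finitely presented A-modules that are flat
as R-modules. -/
theorem result (R A : Type u) [CommRing R] [CommRing A] [Algebra R A]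
    [Module.Flat R A] [Algebra.FinitePresentation R A] (K : Dual.D A) :
    Dual2.IsRelPerfect R A K ↔
      ∃ (E : DRing.Cx A) (a b : ℤ), DRing.VanishesOutside E a b ∧
        (∀ i : ℤ, Module.FinitePresentation A (E.X i) ∧
          Module.Flat R ((ModuleCat.restrictScalars (algebraMap R A)).obj (E.X i))) ∧
        Nonempty (DRing.toD E ≅ K) := by
  constructor
  · intro hK
    obtain ⟨E, a, b, hv, hE, he⟩ := Groth.Agent.Lib.Helper13.RP.exists_Pfpfl_of_isRelPerfect K hK
    exact ⟨E, a, b, hv, hE, he⟩
  · rintro ⟨E, a, b, hv, hE, ⟨e⟩⟩
    exact Groth.Agent.Lib.Helper13.DV.isRelPerfect_of_iso R A e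
      (Groth.Agent.Lib.Helper13.RP.isRelPerfect_of_Pfpfl E a b hv hE)

end Groth.Agent.S7074
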