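import Groth.Statements.S7077
import Groth.Agent.Lib27.TwoTerm2
-- import your own Groth.Agent.* helpers here

set_option autoImplicit false
universe u
attribute [local instance] HasDerivedCategory.standard
open CategoryTheory
open DRing

namespace Groth.Agent.S7077

/-- (1)⇔(2): let R be a commutative ring and K an object of D(R) whose cohomology modules vanish outside
degrees -1 and 0. Then H^{-1}(K) vanishes and H^0(K) is a projective R-module if and only if
Ext^1_R(K, M) = Hom_{D(R)}(K, M[1]) vanishes for every R-module M. -/
theorem result {R : Type u} [CommRing R] (K : Dual.D R)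
    (hK : ∀ i : ℤ, i ≠ -1 → i ≠ 0 → Subsingleton (Dual.HD R K i)) :
    (Subsingleton (Dual.HD R K (-1)) ∧ Module.Projective R (Dual.HD R K 0)) ↔
      ∀ (M : Type u) [AddCommGroup M] [Module R M], Subsingleton (K ⟶ (Dual.inD R M)⟦(1 : ℤ)⟧) := by
  open Groth.Agent.Lib27.TwoTerm CategoryTheory.Limits CategoryTheory.Pretriangulated
    DerivedCategory in
  have i1 : DerivedCategory.IsLE K 0 := isLE_zero K hK
  have i2 : DerivedCategory.IsGE K (-1) := isGE_neg_one K hK
  constructor
  · rintro ⟨hm1, hproj⟩ M _ _
    have i3 : DerivedCategory.IsGE K 0 := by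
      rw [DerivedCategory.isGE_iff]
      intro i hi
      by_cases h : i = -1
      · subst h; exact isZero_of_subsingleton K (-1) hm1
      · exact isZero_of_subsingleton K i (hK i h (by lia))
    obtain ⟨Y, ⟨e⟩⟩ := exists_iso_singleFunctor_obj_of_isGE_of_isLE K 0
    have eY : (DerivedCategory.homologyFunctor (ModuleCat.{u} R) 0).obj K ≅ Y :=
      (DerivedCategory.homologyFunctor (ModuleCat.{u} R) 0).mapIso e ≪≫
        (singleFunctorCompHomologyFunctorIso (ModuleCat.{u} R) 0).app Y
    have hY : Module.Projective R Y := Module.Projective.of_equiv eY.toLinearEquiv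
    have hY' : Projective Y := inferInstance
    refine ⟨fun ξ η => ?_⟩
    have h0 : ∀ ζ : K ⟶ (Dual.inD R M)⟦(1 : ℤ)⟧, ζ = 0 := by
      intro ζ
      rw [← cancel_epi e.inv]
      rw [comp_zero]
      exact eq_zero_of_projective_of_isLE 0 (-1) (by lia) _ _
    rw [h0 ξ, h0 η]
  · intro hExt
    let H0 : ModuleCat.{u} R := (DerivedCategory.homologyFunctor (ModuleCat.{u} R) 0).obj K
    let F : ModuleCat.{u} R := ModuleCat.of R (H0 →₀ R)
    let p : F ⟶ H0 := ModuleCat.ofHom (Finsupp.linearCombination R id)
    have hp : Epi p := by
      rw [ModuleCat.epi_iff_surjective]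
      intro x
      refine ⟨Finsupp.single x 1, ?_⟩
      show (Finsupp.linearCombination R id) (Finsupp.single x 1) = x
      rw [Finsupp.linearCombination_single, one_smul]
      rfl
    have hF : Module.Free R F := inferInstanceAs (Module.Free R (H0 →₀ R))
    obtain ⟨u, hu⟩ := exists_lift_epi K F p
    obtain ⟨G, φ, β, hT⟩ := exists_presentation_triangle K F u hu
    have hβ : β = 0 := (hExt G).elim _ _
    obtain ⟨r, hr⟩ := exists_factor_of_comp_eq_zero φ K u β hT (𝟙 G) (by rw [hβ, zero_comp])
    have hφ : Mono φ := mono_of_mono_fac hr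
    have hmono := mono_homology_single_map φ 0
    constructor
    · have ex := HomologySequence.exact₃ _ hT (-1) 0 (by lia)
      have hz : IsZero ((DerivedCategory.homologyFunctor (ModuleCat.{u} R) (-1)).obj K) := by
        refine ex.isZero_of_both_zeros ?_ ?_
        · apply IsZero.eq_of_src
          exact DerivedCategory.isZero_of_isGE
            ((DerivedCategory.singleFunctor (ModuleCat.{u} R) 0).obj F) 0 (-1) (by lia)
        · exact (HomologySequence.mono_homologyMap_mor₁_iff _ hT (-1) 0 (by lia)).1 hmono
      exact ModuleCat.subsingleton_of_isZero hz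
    · -- `H^0(K)` is a retract of `H^0(F[0]) ≅ F`
      have ex := HomologySequence.exact₂ _ hT 0
      have hepi : Epi ((DerivedCategory.homologyFunctor (ModuleCat.{u} R) 0).map u) := hu
      let a := (DerivedCategory.homologyFunctor (ModuleCat.{u} R) 0).map
        ((DerivedCategory.singleFunctor (ModuleCat.{u} R) 0).map φ)
      let r' := (DerivedCategory.homologyFunctor (ModuleCat.{u} R) 0).map
        ((DerivedCategory.singleFunctor (ModuleCat.{u} R) 0).map r)
      let b := (DerivedCategory.homologyFunctor (ModuleCat.{u} R) 0).map u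
      have har : a ≫ r' = 𝟙 _ := by
        dsimp only [a, r']
        rw [← Functor.map_comp, ← Functor.map_comp, hr, CategoryTheory.Functor.map_id,
          CategoryTheory.Functor.map_id]
      have hab : a ≫ b = 0 := by
        dsimp only [a, b]
        have h0 : (DerivedCategory.singleFunctor (ModuleCat.{u} R) 0).map φ ≫ u = 0 :=
          comp_distTriang_mor_zero₁₂ _ hT
        rw [← Functor.map_comp, h0, Functor.map_zero]
      have ex' : (ShortComplex.mk a b hab).Exact := ex
      have hk : a ≫ (𝟙 _ - r' ≫ a) = 0 := by
        rw [Preadditive.comp_sub, Category.comp_id, ← Category.assoc, har, Category.id_comp,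
          sub_self]
      have : Epi (ShortComplex.mk a b hab).g := hepi
      obtain ⟨s, hs⟩ := ShortComplex.Exact.desc' ex' (𝟙 _ - r' ≫ a) hk
      have hsb : s ≫ b = 𝟙 _ := by
        rw [← cancel_epi b]
        have hs' : b ≫ s = 𝟙 _ - r' ≫ a := hs
        rw [← Category.assoc, hs', Preadditive.sub_comp, Category.id_comp, Category.assoc, hab,
          comp_zero, sub_zero, Category.comp_id]
      have eF : (DerivedCategory.homologyFunctor (ModuleCat.{u} R) 0).obj
          ((DerivedCategory.singleFunctor (ModuleCat.{u} R) 0).obj F) ≅ F :=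
        (singleFunctorCompHomologyFunctorIso (ModuleCat.{u} R) 0).app F
      have hproj : Module.Projective R ((DerivedCategory.homologyFunctor (ModuleCat.{u} R) 0).obj
          ((DerivedCategory.singleFunctor (ModuleCat.{u} R) 0).obj F)) :=
        Module.Projective.of_equiv eF.symm.toLinearEquiv
      refine Module.Projective.of_split s.hom b.hom ?_
      ext x
      have := congrArg (fun f => f.hom x) hsb
      simpa using this

end Groth.Agent.S7077
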