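import Groth.Statements.S7078
import Groth.Agent.Lib27.TwoTerm2
-- import your own Groth.Agent.* helpers here

set_option autoImplicit false
universe u
attribute [local instance] HasDerivedCategory.standard
open CategoryTheory
open DRing

namespace Groth.Agent.S7078

/-- For a commutative ring R and an object K of D(R) whose cohomology modules vanish outside degrees -1
and 0, K is represented by a two-term complex K^{-1} → K^0 with K^0 a free R-module. -/
theorem result {R : Type u} [CommRing R] (K : Dual.D R)
    (hK : ∀ i : ℤ, i ≠ -1 → i ≠ 0 → Subsingleton (Dual.HD R K i)) :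
    ∃ E : DRing.Cx R, DRing.VanishesOutside E (-1) 0 ∧ Module.Free R (E.X 0) ∧ Nonempty (DRing.toD E ≅ K) := by
  open Groth.Agent.Lib27.TwoTerm in
  have h1 : DerivedCategory.IsLE K 0 := isLE_zero K hK
  have h2 : DerivedCategory.IsGE K (-1) := isGE_neg_one K hK
  let H0 : ModuleCat.{u} R := (DerivedCategory.homologyFunctor (ModuleCat.{u} R) 0).obj K
  let F : ModuleCat.{u} R := ModuleCat.of R (H0 →₀ R)
  let p : F ⟶ H0 := ModuleCat.ofHom (Finsupp.linearCombination R id)
  have hp : Epi p := by
    rw [ModuleCat.epi_iff_surjective]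
    intro x
    refine ⟨Finsupp.single x 1, ?_⟩
    show (Finsupp.linearCombination R id) (Finsupp.single x 1) = x
    rw [Finsupp.linearCombination_single, one_smul]
    rfl
  have hF : Module.Free R F := inferInstanceAs (Module.Free R (H0 →₀ R))
  obtain ⟨u, hu⟩ := exists_lift_epi K F p
  obtain ⟨G, φ, β, hT⟩ := exists_presentation_triangle K F u hu
  refine ⟨cx φ, fun i hi => isZero_cx_X φ i hi, ?_, nonempty_iso_cx φ K u β hT⟩
  exact Module.Free.of_equiv (cxXIso₀ φ).symm.toLinearEquiv

end Groth.Agent.S7078
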