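import Groth.Statements.S7079
import Groth.Agent.Lib27.TwoTerm2
-- import your own Groth.Agent.* helpers here

set_option autoImplicit false
universe u
attribute [local instance] HasDerivedCategory.standard
open CategoryTheory
open DRing

namespace Groth.Agent.S7079

/-- For a Noetherian commutative ring R and an object K of D(R) whose cohomology modules vanish outside
degrees -1 and 0 and are finite modules in those two degrees, K is represented by a two-term complex
K^{-1} → K^0 with K^0 finite free and K^{-1} finite. -/
theorem result {R : Type u} [CommRing R] [IsNoetherianRing R] (K : Dual.D R)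
    (hK : ∀ i : ℤ, i ≠ -1 → i ≠ 0 → Subsingleton (Dual.HD R K i))
    (h1 : Module.Finite R (Dual.HD R K (-1))) (h0 : Module.Finite R (Dual.HD R K 0)) :
    ∃ E : DRing.Cx R, DRing.VanishesOutside E (-1) 0 ∧ Module.Free R (E.X 0) ∧ Module.Finite R (E.X 0) ∧
      Module.Finite R (E.X (-1)) ∧ Nonempty (DRing.toD E ≅ K) := by
  open Groth.Agent.Lib27.TwoTerm in
  have i1 : DerivedCategory.IsLE K 0 := isLE_zero K hK
  have i2 : DerivedCategory.IsGE K (-1) := isGE_neg_one K hK
  let H0 : ModuleCat.{u} R := (DerivedCategory.homologyFunctor (ModuleCat.{u} R) 0).obj K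
  obtain ⟨n, f, hf⟩ := Module.Finite.exists_fin' R H0
  let F : ModuleCat.{u} R := ModuleCat.of R (Fin n → R)
  let p : F ⟶ H0 := ModuleCat.ofHom f
  have hp : Epi p := (ModuleCat.epi_iff_surjective _).2 hf
  have hF : Module.Free R F := inferInstanceAs (Module.Free R (Fin n → R))
  have hF' : Module.Finite R F := inferInstanceAs (Module.Finite R (Fin n → R))
  obtain ⟨u, hu⟩ := exists_lift_epi K F p
  obtain ⟨G, φ, β, hT⟩ := exists_presentation_triangle K F u hu
  have hG : Module.Finite R G := finite_of_presentation_triangle φ K u β hT h1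
  refine ⟨cx φ, fun i hi => isZero_cx_X φ i hi, ?_, ?_, ?_, nonempty_iso_cx φ K u β hT⟩
  · exact Module.Free.of_equiv (cxXIso₀ φ).symm.toLinearEquiv
  · exact Module.Finite.equiv (cxXIso₀ φ).symm.toLinearEquiv
  · exact Module.Finite.equiv (cxXIso₁ φ).symm.toLinearEquiv

end Groth.Agent.S7079
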