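import Groth.Statements.S7080
import Mathlib.Algebra.Homology.DerivedCategory.TStructure
import Mathlib.Algebra.Homology.DerivedCategory.Linear
-- import your own Groth.Agent.* helpers here

set_option autoImplicit false
universe u
attribute [local instance] HasDerivedCategory.standard
open CategoryTheory
open DRing

namespace Groth.Agent.S7080

/-- Let R be a commutative ring and α : K → K' a morphism in D(R) between objects whose cohomology
vanishes outside degrees -1 and 0, such that H^0(α) is an isomorphism and H^{-1}(α) is surjective.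
If multiplication by an element f of R is the zero endomorphism of K in D(R), then it is also the
zero endomorphism of K'. -/
theorem result {R : Type u} [CommRing R] {K K' : Dual.D R} (α : K ⟶ K')
    (hK : ∀ i : ℤ, i ≠ -1 → i ≠ 0 → Subsingleton (Dual.HD R K i))
    (hK' : ∀ i : ℤ, i ≠ -1 → i ≠ 0 → Subsingleton (Dual.HD R K' i))
    (h0 : IsIso ((DerivedCategory.homologyFunctor (ModuleCat.{u} R) 0).map α))
    (h1 : Epi ((DerivedCategory.homologyFunctor (ModuleCat.{u} R) (-1)).map α))
    (f : R) (hf : f • (𝟙 K) = 0) : f • (𝟙 K') = 0 := by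
  open CategoryTheory.Limits CategoryTheory.Pretriangulated DerivedCategory
    DerivedCategory.TStructure in
  obtain ⟨C, β, γ, hT⟩ := distinguished_cocone_triangle α
  have hzero : ∀ (X : Dual.D R) (i : ℤ), Subsingleton (Dual.HD R X i) →
      IsZero ((DerivedCategory.homologyFunctor (ModuleCat.{u} R) i).obj X) := by
    intro X i h
    exact ModuleCat.isZero_of_subsingleton _
  have hC : DerivedCategory.IsLE C (-2) := by
    rw [DerivedCategory.isLE_iff]
    intro i hi
    have ex := HomologySequence.exact₃ _ hT i (i + 1) rfl
    refine ex.isZero_of_both_zeros ?_ ?_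
    · refine (HomologySequence.epi_homologyMap_mor₁_iff _ hT i).1 ?_
      show Epi ((DerivedCategory.homologyFunctor (ModuleCat.{u} R) i).map α)
      by_cases hi1 : i = -1
      · subst hi1; exact h1
      by_cases hi0 : i = 0
      · subst hi0; infer_instance
      · exact ⟨fun _ _ _ => (hzero K' i (hK' i hi1 hi0)).eq_of_src _ _⟩
    · refine (HomologySequence.mono_homologyMap_mor₁_iff _ hT i (i + 1) rfl).1 ?_
      show Mono ((DerivedCategory.homologyFunctor (ModuleCat.{u} R) (i + 1)).map α)
      by_cases hi1 : i = -1
      · subst hi1; exact inferInstanceAs (Mono ((DerivedCategory.homologyFunctor (ModuleCat.{u} R) 0).map α))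
      · exact ⟨fun _ _ _ => (hzero K (i + 1) (hK (i + 1) (by lia) (by lia))).eq_of_tgt _ _⟩
  have hK'GE : DerivedCategory.IsGE K' (-1) := by
    rw [DerivedCategory.isGE_iff]
    intro i hi
    exact hzero K' i (hK' i (by lia) (by lia))
  have hcomp : α ≫ (f • 𝟙 K') = 0 := by
    rw [Linear.comp_smul, Category.comp_id, ← Category.id_comp α, ← Linear.smul_comp, hf,
      zero_comp]
  obtain ⟨g', hg'⟩ := Triangle.yoneda_exact₂ _ hT (f • 𝟙 K') hcomp
  have : g' = 0 := t.zero_of_isLE_of_isGE g' (-2) (-1) (by lia) hC hK'GE
  rw [hg', this]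
  exact comp_zero

end Groth.Agent.S7080
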