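import Groth.Statements.S7081
import Groth.Agent.S14100
-- import your own Groth.Agent.* helpers here

set_option autoImplicit false
universe u
attribute [local instance] HasDerivedCategory.standard
open CategoryTheory
open DRing

namespace Groth.Agent.S7081

open CategoryTheory Category Pretriangulated Triangulated Limits DerivedCategory
  DerivedCategory.TStructure in
theorem aux {R : Type u} [CommRing R] {K₁ K₂ K₃ : DerivedCategory (ModuleCat.{u} R)}
    (φ : K₁ ⟶ K₂) (ψ : K₂ ⟶ K₃) [K₁.IsLE 0] [K₃.IsGE (-1)]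
    (hφ : (DerivedCategory.homologyFunctor (ModuleCat.{u} R) 0).map φ = 0)
    (hψ : (DerivedCategory.homologyFunctor (ModuleCat.{u} R) (-1)).map ψ = 0) :
    φ ≫ ψ = 0 := by
  have h1 : φ ≫ (t.truncGEπ 0).app K₂ = 0 := by
    apply Groth.Agent.S14100.Aux.eq_zero_of_homology 0
    rw [Functor.map_comp, hφ, zero_comp]
  obtain ⟨φ', hφ'⟩ : ∃ φ' : K₁ ⟶ (t.truncLT 0).obj K₂, φ = φ' ≫ (t.truncLTι 0).app K₂ :=
    Triangle.coyoneda_exact₂ _ (t.triangleLTGE_distinguished 0 K₂) φ h1
  have hnat := (t.truncLTι 0).naturality ψ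
  dsimp at hnat
  rw [hφ', assoc, ← hnat]
  have h2 : (t.truncLT 0).map ψ = 0 := by
    have : ((t.truncLT 0).obj K₂).IsLE (-1) := t.isLE_truncLT_obj _ 0 (-1) (by lia)
    have : ((t.truncLT 0).obj K₃).IsGE (-1) := inferInstance
    apply Groth.Agent.S14100.Aux.eq_zero_of_homology (-1)
    exact Groth.Agent.S14100.Aux.homology_truncLT_map_eq_zero _ 0 (-1) hψ
  rw [h2, zero_comp, comp_zero]

/-- Let R be a commutative ring and φ : K₁ → K₂, ψ : K₂ → K₃ morphisms in D(R) between objects whose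
cohomology vanishes outside degrees -1 and 0. If φ induces the zero map on H^0 and ψ induces the
zero map on H^{-1}, then the composite K₁ → K₃ is zero. -/
theorem result {R : Type u} [CommRing R] {K₁ K₂ K₃ : Dual.D R}
    (φ : K₁ ⟶ K₂) (ψ : K₂ ⟶ K₃)
    (h₁ : ∀ i : ℤ, i ≠ -1 → i ≠ 0 → Subsingleton (Dual.HD R K₁ i))
    (h₂ : ∀ i : ℤ, i ≠ -1 → i ≠ 0 → Subsingleton (Dual.HD R K₂ i))
    (h₃ : ∀ i : ℤ, i ≠ -1 → i ≠ 0 → Subsingleton (Dual.HD R K₃ i))
    (hφ : (DerivedCategory.homologyFunctor (ModuleCat.{u} R) 0).map φ = 0)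
    (hψ : (DerivedCategory.homologyFunctor (ModuleCat.{u} R) (-1)).map ψ = 0) :
    φ ≫ ψ = 0 := by
  have i1 : DerivedCategory.IsLE K₁ 0 := by
    rw [DerivedCategory.isLE_iff]
    intro i hi
    have := h₁ i (by lia) (by lia)
    exact ModuleCat.isZero_of_subsingleton _
  have i3 : DerivedCategory.IsGE K₃ (-1) := by
    rw [DerivedCategory.isGE_iff]
    intro i hi
    have := h₃ i (by lia) (by lia)
    exact ModuleCat.isZero_of_subsingleton _
  exact aux φ ψ hφ hψ

end Groth.Agent.S7081
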