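import Groth.Statements.S7082
import Groth.Agent.Lib27.TwoTerm2
-- import your own Groth.Agent.* helpers here

set_option autoImplicit false
universe u
attribute [local instance] HasDerivedCategory.standard
open CategoryTheory
open DRing

namespace Groth.Agent.S7082

/-- (1)⇔(3): let R be a commutative ring, I an ideal and K an object of D(R) whose cohomology vanishes
outside degrees -1 and 0. Then I annihilates Ext^1_R(K, N) = Hom_{D(R)}(K, N[1]) for every R-module
N if and only if, for every two-term complex E in degrees -1 and 0 with E^0 projective that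
represents K, and every a in I, multiplication by a on E^{-1} factors through the differential
E^{-1} → E^0. -/
theorem result {R : Type u} [CommRing R] (I : Ideal R) (K : Dual.D R)
    (hK : ∀ i : ℤ, i ≠ -1 → i ≠ 0 → Subsingleton (Dual.HD R K i)) :
    (∀ (N : Type u) [AddCommGroup N] [Module R N] (a : R), a ∈ I →
        ∀ ξ : K ⟶ (Dual.inD R N)⟦(1 : ℤ)⟧, a • ξ = 0) ↔
      ∀ (E : DRing.Cx R), DRing.VanishesOutside E (-1) 0 → Module.Projective R (E.X 0) →
        Nonempty (DRing.toD E ≅ K) → ∀ a : R, a ∈ I →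
          ∃ h : E.X 0 ⟶ E.X (-1), E.d (-1) 0 ≫ h = a • 𝟙 (E.X (-1)) := by
  open Groth.Agent.Lib27.TwoTerm CategoryTheory.Limits CategoryTheory.Pretriangulated
    DerivedCategory in
  have i1 : DerivedCategory.IsLE K 0 := isLE_zero K hK
  have i2 : DerivedCategory.IsGE K (-1) := isGE_neg_one K hK
  have hsmul : ∀ (G : ModuleCat.{u} R) (a : R),
      a • 𝟙 (((DerivedCategory.singleFunctor (ModuleCat.{u} R) 0).obj G)⟦(1 : ℤ)⟧) =
        ((DerivedCategory.singleFunctor (ModuleCat.{u} R) 0).map (a • 𝟙 G))⟦(1 : ℤ)⟧' := by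
    intro G a
    rw [Functor.map_smul, Functor.map_smul, CategoryTheory.Functor.map_id,
      CategoryTheory.Functor.map_id]
  constructor
  · intro hExt E hE _ ⟨e⟩ a ha
    let φ := E.d (-1) 0
    have eE : DerivedCategory.Q.obj (cx φ) ≅ K :=
      DerivedCategory.Q.mapIso (cxIso E hE) ≪≫ e
    obtain ⟨u, β, hT⟩ := exists_cx_triangle φ
    have hβ : a • β = 0 := by
      have h := hExt (E.X (-1)) a ha (eE.inv ≫ β)
      rw [← Linear.comp_smul] at h
      rw [← cancel_epi eE.inv, h, comp_zero]
    have h0 : β ≫ ((DerivedCategory.singleFunctor (ModuleCat.{u} R) 0).map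
        (a • 𝟙 (E.X (-1))))⟦(1 : ℤ)⟧' = 0 := by
      have h1 := hsmul (E.X (-1)) a
      refine (congrArg (fun t => β ≫ t) h1.symm).trans ?_
      show β ≫ (a • 𝟙 _) = 0
      rw [Linear.comp_smul, Category.comp_id, hβ]
    obtain ⟨r, hr⟩ := exists_factor_of_comp_eq_zero φ _ _ β hT (a • 𝟙 (E.X (-1))) h0
    exact ⟨r, hr⟩
  · intro hyp N _ _ a ha ξ
    let H0 : ModuleCat.{u} R := (DerivedCategory.homologyFunctor (ModuleCat.{u} R) 0).obj K
    let F : ModuleCat.{u} R := ModuleCat.of R (H0 →₀ R)
    let p : F ⟶ H0 := ModuleCat.ofHom (Finsupp.linearCombination R id)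
    have hp : Epi p := by
      rw [ModuleCat.epi_iff_surjective]
      intro x
      refine ⟨Finsupp.single x 1, ?_⟩
      show (Finsupp.linearCombination R id) (Finsupp.single x 1) = x
      rw [Finsupp.linearCombination_single, one_smul]
      rfl
    have hF : Module.Free R F := inferInstanceAs (Module.Free R (H0 →₀ R))
    obtain ⟨u, hu⟩ := exists_lift_epi K F p
    obtain ⟨G, φ, β, hT⟩ := exists_presentation_triangle K F u hu
    have hproj : Module.Projective R ((cx φ).X 0) :=
      Module.Projective.of_equiv (cxXIso₀ φ).symm.toLinearEquiv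
    obtain ⟨h, hh⟩ := hyp (cx φ) (fun i hi => isZero_cx_X φ i hi) hproj
      (nonempty_iso_cx φ K u β hT) a ha
    have hr : φ ≫ ((cxXIso₀ φ).inv ≫ h ≫ (cxXIso₁ φ).hom) = a • 𝟙 G := by
      rw [cx_d] at hh
      have h2 : φ ≫ (cxXIso₀ φ).inv ≫ h = (cxXIso₁ φ).inv ≫ (a • 𝟙 _) := by
        rw [← hh]
        simp only [Category.assoc, Iso.inv_hom_id_assoc]
      rw [← Category.assoc, ← Category.assoc, Category.assoc φ, h2, Category.assoc,
        Linear.smul_comp, Category.id_comp, Linear.comp_smul, Iso.inv_hom_id]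
    obtain ⟨γ, rfl⟩ := exists_factor_through_mor₃ φ K u β hT ((Dual.inD R N)⟦(1 : ℤ)⟧) ξ
    have h0 := comp_eq_zero_of_factor φ K u β hT (a • 𝟙 G) _ hr
    rw [← hsmul] at h0
    rw [← Linear.comp_smul, ← Category.id_comp γ, ← Linear.smul_comp, ← Category.assoc, h0,
      zero_comp]

end Groth.Agent.S7082
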