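import Groth.Statements.S7084
import Groth.Agent.Lib.Helper13.DRingNilp
import Groth.Agent.Lib.Helper13.SemiFree4
import Groth.Agent.Lib.Helper13.DRingTensorSES

set_option autoImplicit false
universe u
attribute [local instance] HasDerivedCategory.standard
open CategoryTheory
open LocCoh

namespace Groth.Agent.S7084

/-- Parts (1)–(2) in the case of a module killed by a power of the ideal: let R be a commutative ring, I
an ideal and K an object of D(R) such that K ⊗^L_R R/I has no cohomology in positive degrees. Then
for every R-module N annihilated by some power of I, K ⊗^L_R N has no cohomology in positive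
degrees. (The published statement allows any I-power torsion module N; this row takes N annihilated
by a single power of I, the case the published argument carries out in full, which contains the case
N = R/I^n.) The derived tensor products with modules are total left derived functors, assumed to
exist. -/
theorem result {R : Type u} [CommRing R] (I : Ideal R)
    [DRing.HasLTensor R (ModuleCat.of R (R ⧸ I))] (K : Dual.D R)
    (hK : ∀ i : ℤ, 0 < i → Subsingleton (Dual.HD R ((DRing.LTensor R (ModuleCat.of R (R ⧸ I))).obj K) i))
    (N : Type u) [AddCommGroup N] [Module R N] (n : ℕ) (hN : I ^ n • (⊤ : Submodule R N) = ⊥)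
    [DRing.HasLTensor R (ModuleCat.of R N)] (i : ℤ) (hi : 0 < i) :
    Subsingleton (Dual.HD R ((DRing.LTensor R (ModuleCat.of R N)).obj K) i) := by
  open Groth.Agent.Lib.Helper13.DR Groth.Agent.Lib.Helper13.PC Groth.Agent.Lib.Helper13.SF DRing in
  obtain ⟨E, hEK, hEproj, ⟨e⟩⟩ := exists_kprojective_rep (R := R) K
  have key : ∀ j : ℤ, 0 < j →
      Limits.IsZero (((tensorCx (ModuleCat.of R (R ⧸ I))).obj E).homology j) := by
    intro j hj
    have := hK j hj
    have hz : Limits.IsZero ((DerivedCategory.homologyFunctor (ModuleCat.{u} R) j).obj
        ((DRing.LTensor R (ModuleCat.of R (R ⧸ I))).obj K)) := ModuleCat.isZero_of_subsingleton _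
    exact hz.of_iso ((homologyQIso _ j).symm ≪≫
      (DerivedCategory.homologyFunctor (ModuleCat.{u} R) j).mapIso
        ((LTensorIso (ModuleCat.of R (R ⧸ I)) E).symm ≪≫
          (DRing.LTensor R (ModuleCat.of R (R ⧸ I))).mapIso e))
  have hN' : ∀ a ∈ I ^ n, ∀ x : N, a • x = 0 := by
    intro a ha x
    have hx : a • x ∈ I ^ n • (⊤ : Submodule R N) :=
      Submodule.smul_mem_smul ha Submodule.mem_top
    rw [hN] at hx
    simpa using hx
  have h2 := isZero_homology_tensorCx_of_quotient_vanishing I E hEproj 0 key n N hN' i hi
  have h3 : Limits.IsZero ((DerivedCategory.homologyFunctor (ModuleCat.{u} R) i).obj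
      ((DRing.LTensor R (ModuleCat.of R N)).obj K)) :=
    h2.of_iso ((DerivedCategory.homologyFunctor (ModuleCat.{u} R) i).mapIso
      ((DRing.LTensor R (ModuleCat.of R N)).mapIso e.symm ≪≫
        LTensorIso (ModuleCat.of R N) E) ≪≫ homologyQIso _ i)
  exact ModuleCat.subsingleton_of_isZero h3

end Groth.Agent.S7084
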