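import Groth.Statements.S7085
-- import your own Groth.Agent.* helpers here

set_option autoImplicit false
universe u
open LocCoh

namespace Groth.Agent.S7085

theorem pow_aux {R : Type u} [CommRing R] (I : Ideal R) (M : Type u) [AddCommGroup M] [Module R M]
    (h : LocCoh.torsionBy I M = ⊥) : ∀ n : ℕ, 1 ≤ n → LocCoh.torsionBy (I ^ n) M = ⊥ := by
  intro n hn
  induction n, hn using Nat.le_induction with
  | base => rwa [pow_one]
  | succ n hn ih =>
    rw [eq_bot_iff]
    intro m hm
    rw [Submodule.mem_torsionBySet_iff] at hm
    have hm' : m ∈ LocCoh.torsionBy I M := by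
      rw [Submodule.mem_torsionBySet_iff]
      rintro ⟨a, ha⟩
      have : a • m ∈ LocCoh.torsionBy (I ^ n) M := by
        rw [Submodule.mem_torsionBySet_iff]
        rintro ⟨b, hb⟩
        have := hm ⟨b * a, by rw [pow_succ]; exact Ideal.mul_mem_mul hb ha⟩
        simpa [mul_smul] using this
      rw [ih] at this
      simpa using this
    rw [h] at hm'
    exact hm'

/-- Let R be a commutative ring, I an ideal generated by finitely many elements f_1, …, f_t, and M an
R-module. Then: M has no nonzero element killed by I if and only if it has no nonzero element killed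
by I^n for every n ≥ 1; and M has no nonzero element killed by I if and only if an element of M
vanishing in every localization M_{f_i} is zero. -/
theorem result {R : Type u} [CommRing R] {t : ℕ} (f : Fin t → R)
    (I : Ideal R) (hI : Ideal.span (Set.range f) = I) (M : Type u) [AddCommGroup M] [Module R M] :
    (LocCoh.torsionBy I M = ⊥ ↔ ∀ n : ℕ, 1 ≤ n → LocCoh.torsionBy (I ^ n) M = ⊥) ∧
    (LocCoh.torsionBy I M = ⊥ ↔
      ∀ m : M, (∀ i : Fin t, LocalizedModule.mkLinearMap (Submonoid.powers (f i)) M m = 0) → m = 0) := by
  subst hI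
  refine ⟨⟨pow_aux _ M, fun h => by simpa using h 1 le_rfl⟩, ⟨fun h m hm => ?_, fun h => ?_⟩⟩
  · have hk : ∀ i, ∃ s : Submonoid.powers (f i), s • m = 0 := fun i =>
      (IsLocalizedModule.eq_zero_iff (Submonoid.powers (f i))
        (LocalizedModule.mkLinearMap (Submonoid.powers (f i)) M)).1 (hm i)
    have hrad : Ideal.span (Set.range f) ≤ (Submodule.span R {m}).annihilator.radical := by
      rw [Ideal.span_le]
      rintro _ ⟨i, rfl⟩
      obtain ⟨⟨_, k, rfl⟩, hs⟩ := hk i
      refine ⟨k, ?_⟩
      rw [Submodule.mem_annihilator_span_singleton]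
      exact hs
    obtain ⟨N, hN⟩ := Ideal.exists_pow_le_of_le_radical_of_fg hrad
      (Submodule.fg_span (Set.finite_range f))
    rcases Nat.eq_zero_or_pos N with h0 | hpos
    · subst h0
      have : (1 : R) ∈ (Submodule.span R {m}).annihilator := hN (by simp)
      rw [Submodule.mem_annihilator_span_singleton, one_smul] at this
      exact this
    · have hm0 : m ∈ LocCoh.torsionBy (Ideal.span (Set.range f) ^ N) M := by
        rw [Submodule.mem_torsionBySet_iff]
        rintro ⟨a, ha⟩
        have := hN ha
        rw [Submodule.mem_annihilator_span_singleton] at this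
        exact this
      rw [pow_aux _ M h N hpos] at hm0
      exact hm0
  · rw [eq_bot_iff]
    intro m hm
    rw [Submodule.mem_torsionBySet_iff] at hm
    refine h m (fun i => ?_)
    rw [IsLocalizedModule.eq_zero_iff (Submonoid.powers (f i))]
    refine ⟨⟨f i, 1, pow_one _⟩, ?_⟩
    exact hm ⟨f i, Ideal.subset_span ⟨i, rfl⟩⟩

end Groth.Agent.S7085
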