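import Groth.Statements.S7089
import Groth.Agent.Lib27.Resol
-- import your own Groth.Agent.* helpers here

set_option autoImplicit false
universe u
open CategoryTheory
open LocCoh

namespace Groth.Agent.S7089

section Helpers

open CategoryTheory.Limits Groth.Agent.Lib27.Resol

variable {R : Type u} [CommRing R] (I : Ideal R)

attribute [local instance] Classical.propDecidable

/-- index type -/
structure Idx (N : Type u) [AddCommGroup N] [Module R N] : Type u where
  x : N
  n : ℕ
  h : ∀ a ∈ I ^ n, a • x = 0

noncomputable def covMap (N : Type u) [AddCommGroup N] [Module R N] :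
    (DirectSum (Idx I N) fun p => R ⧸ I ^ p.n) →ₗ[R] N :=
  DirectSum.toModule R _ _ (fun p => Submodule.liftQ (I ^ p.n)
    (LinearMap.toSpanSingleton R N p.x) (by
      intro a ha
      rw [LinearMap.mem_ker, LinearMap.toSpanSingleton_apply]
      exact p.h a ha))

lemma covMap_surjective (N : Type u) [AddCommGroup N] [Module R N]
    (hN : LocCoh.IsPowerTorsion I N) : Function.Surjective (covMap I N) := by
  intro x
  obtain ⟨n, hn⟩ := hN x
  refine ⟨DirectSum.lof R _ _ (⟨x, n, hn⟩ : Idx I N) (Submodule.Quotient.mk 1), ?_⟩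
  rw [covMap, DirectSum.toModule_lof, Submodule.liftQ_apply, LinearMap.toSpanSingleton_apply,
    one_smul]

lemma isPowerTorsion_directSum {ι : Type u} (n : ι → ℕ) :
    LocCoh.IsPowerTorsion I (DirectSum ι fun j => R ⧸ I ^ n j) := by
  classical
  intro x
  induction x using DirectSum.induction_on with
  | zero => exact ⟨0, fun a _ => smul_zero a⟩
  | of i x =>
    refine ⟨n i, fun a ha => ?_⟩
    rw [← DirectSum.of_smul]
    obtain ⟨y, rfl⟩ := Submodule.Quotient.mk_surjective _ x
    have : a • (Submodule.Quotient.mk y : R ⧸ I ^ n i) = 0 := by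
      rw [← Submodule.Quotient.mk_smul, Submodule.Quotient.mk_eq_zero]
      exact Ideal.mul_mem_right _ _ ha
    rw [this, map_zero]
  | add x y hx hy =>
    obtain ⟨n₁, h₁⟩ := hx
    obtain ⟨n₂, h₂⟩ := hy
    refine ⟨max n₁ n₂, fun a ha => ?_⟩
    rw [smul_add, h₁ a (Ideal.pow_le_pow_right (le_max_left _ _) ha),
      h₂ a (Ideal.pow_le_pow_right (le_max_right _ _) ha), add_zero]

lemma isPowerTorsion_of_injective {X Y : Type u} [AddCommGroup X] [Module R X] [AddCommGroup Y]
    [Module R Y] (g : X →ₗ[R] Y) (hg : Function.Injective g) (hY : LocCoh.IsPowerTorsion I Y) :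
    LocCoh.IsPowerTorsion I X := by
  intro x
  obtain ⟨n, hn⟩ := hY (g x)
  refine ⟨n, fun a ha => hg ?_⟩
  rw [map_smul, hn a ha, map_zero]

/-- the cover data -/
noncomputable def cover : Cover (ModuleCat.{u} R) where
  cov N := ModuleCat.of R (DirectSum (Idx I N) fun p => R ⧸ I ^ p.n)
  π N := ModuleCat.ofHom (covMap I N)

lemma good : (cover I).Good (fun N : ModuleCat.{u} R => LocCoh.IsPowerTorsion I N) where
  iso e h := isPowerTorsion_of_injective I e.inv.hom
    ((ModuleCat.mono_iff_injective _).1 inferInstance) h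
  epi N hN := (ModuleCat.epi_iff_surjective _).2 (covMap_surjective I N hN)
  cov N _ := isPowerTorsion_directSum I _
  ker f hX := isPowerTorsion_of_injective I (kernel.ι f).hom
    ((ModuleCat.mono_iff_injective _).1 inferInstance) hX

end Helpers

/-- Let R be a commutative ring, I an ideal and M an R-module in which every element is killed by a
power of I. Then M has a left resolution by modules each of which is a direct sum of copies of R/I^n
for varying n: there are a chain complex K of R-modules, a quasi-isomorphism from K to M placed in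
degree 0, and for each i an isomorphism of K_i with such a direct sum. -/
theorem result {R : Type u} [CommRing R] (I : Ideal R)
    (M : Type u) [AddCommGroup M] [Module R M] (hM : LocCoh.IsPowerTorsion I M) :
    ∃ (K : ChainComplex (ModuleCat.{u} R) ℕ) (π : K ⟶ (ChainComplex.single₀ (ModuleCat.{u} R)).obj (ModuleCat.of R M)),
      QuasiIso π ∧ ∀ i : ℕ, ∃ (ι : Type u) (n : ι → ℕ),
        Nonempty (K.X i ≅ ModuleCat.of R (DirectSum ι fun j => R ⧸ I ^ n j)) := by
  have hg := good I
  refine ⟨(cover I).complex (ModuleCat.of R M), (cover I).aug (ModuleCat.of R M),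
    Groth.Agent.Lib27.Resol.Cover.quasiIso_aug hg _ hM, fun i => ?_⟩
  obtain ⟨Y, -, ⟨e⟩⟩ := Groth.Agent.Lib27.Resol.Cover.exists_X_iso hg (ModuleCat.of R M) hM i
  exact ⟨Idx I Y, fun p => p.n, ⟨e⟩⟩

end Groth.Agent.S7089
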