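import Groth.Statements.S7098
import Groth.Agent.Lib.Helper13.Coind2

set_option autoImplicit false
universe u
attribute [local instance] HasDerivedCategory.standard
open DRing

namespace Groth.Agent.S7098

/-- (1)⇔(2): let A be a commutative ring, f an element of A and K an object of D(A). Then every morphism
A_f[0] → K[n] vanishes for every integer n if and only if every morphism E → K vanishes for every
object E of D(A) obtained by restriction of scalars from D(A_f). -/
theorem result {A : Type u} [CommRing A] (f : A)
    (K : Dual.D A) :
    (∀ n : ℤ, Subsingleton (Dual.inD A (Localization.Away f) ⟶ K⟦n⟧)) ↔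
      ∀ E : Dual.D (Localization.Away f),
        Subsingleton ((DRing.restrictD (algebraMap A (Localization.Away f))).obj E ⟶ K) := by
  constructor
  · intro h E
    exact Groth.Agent.Lib.Helper13.Coind.subsingleton_hom_restrictD (B := Localization.Away f) K h E
  · intro h n
    exact Groth.Agent.Lib.Helper13.Coind.subsingleton_hom_inD_shift (B := Localization.Away f) K h n

end Groth.Agent.S7098
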