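import Groth.Statements.S7100
import Groth.Agent.S7068
import Groth.Agent.Lib.Helper13.PCMor1
import Groth.Agent.Lib.Helper13.RelPCFin

set_option autoImplicit false
universe u
attribute [local instance] HasDerivedCategory.standard
open DerCA

namespace Groth.Agent.S7100

/-- (1)⇔(4): let R → B → A be homomorphisms of commutative rings with B → A surjective and with R → B
and R → A both flat and of finite presentation. Then an object K of D(A) is pseudo-coherent
(isomorphic in D(A) to a bounded above complex of finite free modules) if and only if its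
restriction of scalars to D(B) is pseudo-coherent; and for every integer m, K is m-pseudo-coherent
if and only if its restriction of scalars to D(B) is m-pseudo-coherent. -/
theorem result (R B A : Type u) [CommRing R] [CommRing B] [CommRing A]
    [Algebra R B] [Algebra R A] [Algebra B A] [IsScalarTower R B A]
    (hφ : Function.Surjective (algebraMap B A))
    [Module.Flat R B] [Algebra.FinitePresentation R B] [Module.Flat R A] [Algebra.FinitePresentation R A]
    (K : Dual.D A) :
    (DRing.IsPseudoCoherent' A K ↔ DRing.IsPseudoCoherent' B ((DRing.restrictD (algebraMap B A)).obj K)) ∧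
      ∀ m : ℤ, (DRing.IsPseudoCoherent A m K ↔
        DRing.IsPseudoCoherent B m ((DRing.restrictD (algebraMap B A)).obj K)) := by
  have bridge : ∀ (C : Type u) [CommRing C] (m : ℤ) (L : Dual.D C),
      DRing.IsPseudoCoherent C m L ↔ DerCA.IsRelPseudoCoherent C C m L := by
    intro C _ m L
    let e : MvPolynomial (Fin 0) C ≃ₐ[C] C := MvPolynomial.isEmptyAlgEquiv C (Fin 0)
    rw [Groth.Agent.Lib.Helper13.DR.isRelPseudoCoherent_iff e.toAlgHom e.surjective m L,
      Groth.Agent.Lib.Helper13.DR.isPseudoCoherent_iff]
    exact Groth.Agent.Lib.Helper13.DR.isNPC_restrictD_iff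
      ((Groth.Agent.Lib.Helper13.DR.isPCHom_of_ringEquiv e.toRingEquiv).of_eq rfl) m L
  have hRA : MoreMor.IsPseudoCoherentHom R A := (Groth.Agent.S7068.result R A).1
  have hRB : MoreMor.IsPseudoCoherentHom R B := (Groth.Agent.S7068.result R B).1
  rw [Groth.Agent.Lib.Helper13.PM.isPseudoCoherentHom_iff_relPC] at hRA hRB
  have : Module.Finite B A := Module.Finite.of_surjective (Algebra.linearMap B A) hφ
  have key : ∀ m : ℤ, DRing.IsPseudoCoherent A m K ↔
      DRing.IsPseudoCoherent B m ((DRing.restrictD (algebraMap B A)).obj K) := by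
    intro m
    rw [bridge A m K, bridge B m _,
      Groth.Agent.Lib.Helper13.DR.isRelPC_iff_of_isRelPCModule (R := R) (A := A) (B := A) hRA K m,
      Groth.Agent.Lib.Helper13.DR.isRelPC_iff_of_isRelPCModule (R := R) (A := B) (B := B) hRB _ m]
    exact Groth.Agent.Lib.Helper13.DR.isRelPC_iff_restrict_of_finite (R := R) (A := B) (B := A) K m
  refine ⟨?_, key⟩
  rw [Groth.Agent.Lib.Helper13.DR.isPseudoCoherent'_iff_forall,
    Groth.Agent.Lib.Helper13.DR.isPseudoCoherent'_iff_forall]
  exact forall_congr' key

end Groth.Agent.S7100
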