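import Groth.Statements.S7106
import Groth.Agent.Lib.Helper13.PCHomotopy
import Groth.Agent.Lib.Helper13.DRingProj

set_option autoImplicit false
universe u
attribute [local instance] HasDerivedCategory.standard
open CategoryTheory
open DRing

namespace Groth.Agent.S7106

/-- Let R be a commutative ring, M a cochain complex of R-modules with M^i = 0 for i > 0 and M^0
projective, K a cochain complex with K^i = 0 for i outside [-1, 0] and K^0 projective, and a : M → K
a chain map. Then precomposition with a is the zero map Ext^1_R(K, N) → Ext^1_R(M, N) (morphisms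
into N[1] in D(R)) for every R-module N if and only if there is a map h : M^0 → K^{-1} with a^{-1} +
h ∘ d_M^{-1} = 0. (The published statement composes h^0 with the differential K^{-1} → K^0 of K,
which is not defined; this row composes it with the differential M^{-1} → M^0 of M, as the homotopy
in the published proof does.) -/
theorem result {R : Type u} [CommRing R] (M K : DRing.Cx R)
    (hM : ∀ i : ℤ, 0 < i → Limits.IsZero (M.X i)) (hM0 : Module.Projective R (M.X 0))
    (hK : ∀ i : ℤ, i ≠ -1 → i ≠ 0 → Limits.IsZero (K.X i)) (hK0 : Module.Projective R (K.X 0))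
    (a : M ⟶ K) :
    (∀ (N : Type u) [AddCommGroup N] [Module R N] (ξ : DRing.toD K ⟶ (Dual.inD R N)⟦(1 : ℤ)⟧),
        DerivedCategory.Q.map a ≫ ξ = 0) ↔
      ∃ h : M.X 0 ⟶ K.X (-1), a.f (-1) + M.d (-1) 0 ≫ h = 0 := by
  rw [← Groth.Agent.Lib.Helper13.PC.comp_eq_zero_iff_exists_homotopy_degree_zero M K hM
    ((IsProjective.iff_projective (R := R) (P := M.X 0)).1 hM0) hK
    ((IsProjective.iff_projective (R := R) (P := K.X 0)).1 hK0) a]
  constructor
  · intro H N ξ
    have := H N (ξ ≫ (Groth.Agent.Lib.Helper13.DR.shiftSingleIso 1 (-1) (by ring) N).inv)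
    rw [← Category.assoc] at this
    rw [← cancel_mono (Groth.Agent.Lib.Helper13.DR.shiftSingleIso 1 (-1) (by ring) N).inv, this,
      Limits.zero_comp]
  · intro H N _ _ ξ
    have := H (ModuleCat.of R N)
      (ξ ≫ (Groth.Agent.Lib.Helper13.DR.shiftSingleIso 1 (-1) (by ring) (ModuleCat.of R N)).hom)
    rw [← Category.assoc] at this
    rw [← cancel_mono (Groth.Agent.Lib.Helper13.DR.shiftSingleIso 1 (-1) (by ring)
      (ModuleCat.of R N)).hom, this, Limits.zero_comp]

end Groth.Agent.S7106
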