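import Groth.Statements.S7108
import Groth.Agent.Lib.Helper28.Swindle

set_option autoImplicit false
universe u
open CAlg

namespace Groth.Agent.S7108

/-- Every projective module P over a ring R becomes free after adding a suitable free module: P ⊕ F is
free for some free module F (here F is the free module on some index type). -/
theorem result (R : Type u) [CommRing R] (P : Type u) [AddCommGroup P]
    [Module R P] [Module.Projective R P] : ∃ ι : Type u, Module.Free R (P × (ι →₀ R)) := by
  obtain ⟨sec, hsec⟩ := Module.projective_def'.mp (inferInstance : Module.Projective R P)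
  -- `P × ker π ≃ (P →₀ R)` where `π` is the canonical surjection
  let π : (P →₀ R) →ₗ[R] P := Finsupp.linearCombination R id
  have hπ : ∀ p, π (sec p) = p := fun p => congrArg (fun φ : P →ₗ[R] P => φ p) hsec
  have hmem : ∀ x, ((LinearMap.id : (P →₀ R) →ₗ[R] (P →₀ R)) - sec ∘ₗ π) x ∈ LinearMap.ker π := by
    intro x
    simp [hπ]
  let ρ : (P →₀ R) →ₗ[R] LinearMap.ker π :=
    ((LinearMap.id : (P →₀ R) →ₗ[R] (P →₀ R)) - sec ∘ₗ π).codRestrict (LinearMap.ker π) hmem
  have hρ : ∀ x, ((ρ x : LinearMap.ker π) : P →₀ R) = x - sec (π x) := fun x => rfl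
  let e : (P × LinearMap.ker π) ≃ₗ[R] (P →₀ R) :=
    LinearEquiv.ofLinearMap
      (LinearMap.coprod sec (LinearMap.ker π).subtype)
      (LinearMap.prod π ρ)
      (by
        apply LinearMap.ext
        intro x
        simp [hρ])
      (by
        apply LinearMap.ext
        rintro ⟨p, ⟨k, hk⟩⟩
        have hk' : π k = 0 := hk
        apply Prod.ext
        · simp [hπ, hk']
        · apply Subtype.ext
          simp [hρ, hπ, hk'])
  exact ⟨ℕ × P, Module.Free.of_equiv
    (Groth.Agent.Lib.Helper28.swindleFree R P (LinearMap.ker π) P e).symm⟩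

end Groth.Agent.S7108
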