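import Groth.Statements.S7114
-- import your own Groth.Agent.* helpers here

set_option autoImplicit false
universe u
open CAlg

namespace Groth.Agent.S7114

/-- General form: no hypothesis on the ring is needed. -/
theorem length_quotient_pow (R : Type u) [CommRing R] (x : R) (n : ℕ) :
    Module.length R (R ⧸ Ideal.span {x ^ n}) ≤ (n : ℕ∞) * Module.length R (R ⧸ Ideal.span {x}) ∧
      (x ∈ nonZeroDivisors R →
        Module.length R (R ⧸ Ideal.span {x ^ n}) = (n : ℕ∞) * Module.length R (R ⧸ Ideal.span {x})) := by
  induction n with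
  | zero =>
    have : Subsingleton (R ⧸ Ideal.span {x ^ 0}) := by
      rw [pow_zero, Ideal.span_singleton_one]
      exact Submodule.Quotient.subsingleton_iff.2 rfl
    rw [Module.length_eq_zero]
    simp
  | succ n ih =>
    have hle : Ideal.span {x ^ (n + 1)} ≤ Ideal.span {x ^ n} := by
      rw [Ideal.span_singleton_le_span_singleton]
      exact ⟨x, pow_succ x n⟩
    let g : (R ⧸ Ideal.span {x ^ (n + 1)}) →ₗ[R] (R ⧸ Ideal.span {x ^ n}) :=
      Submodule.mapQ _ _ LinearMap.id hle
    have hg : Function.Surjective g := by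
      intro y
      obtain ⟨r, rfl⟩ := Submodule.Quotient.mk_surjective _ y
      exact ⟨Submodule.Quotient.mk r, rfl⟩
    have hle' : (Ideal.span {x} : Submodule R R) ≤
        Submodule.comap (LinearMap.mulLeft R (x ^ n)) (Ideal.span {x ^ (n + 1)} : Submodule R R) := by
      rw [Ideal.span_le, Set.singleton_subset_iff]
      change x ^ n * x ∈ Ideal.span {x ^ (n + 1)}
      rw [← pow_succ]
      exact Ideal.subset_span rfl
    let f : (R ⧸ Ideal.span {x}) →ₗ[R] (R ⧸ Ideal.span {x ^ (n + 1)}) :=
      Submodule.mapQ _ _ (LinearMap.mulLeft R (x ^ n)) hle'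
    have hfg : ∀ y, y ∈ LinearMap.ker g ↔ y ∈ LinearMap.range f := by
      intro y
      obtain ⟨r, rfl⟩ := Submodule.Quotient.mk_surjective _ y
      rw [LinearMap.mem_ker]
      change (Submodule.Quotient.mk r : R ⧸ Ideal.span {x ^ n}) = 0 ↔ _
      rw [Submodule.Quotient.mk_eq_zero, Ideal.mem_span_singleton']
      constructor
      · rintro ⟨s, rfl⟩
        refine ⟨Submodule.Quotient.mk s, ?_⟩
        change (Submodule.Quotient.mk (x ^ n * s) : R ⧸ Ideal.span {x ^ (n + 1)}) = _
        rw [mul_comm]
      · rintro ⟨z, hz⟩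
        obtain ⟨s, rfl⟩ := Submodule.Quotient.mk_surjective _ z
        change (Submodule.Quotient.mk (x ^ n * s) : R ⧸ Ideal.span {x ^ (n + 1)}) = _ at hz
        rw [Submodule.Quotient.eq, Ideal.mem_span_singleton'] at hz
        obtain ⟨t, ht⟩ := hz
        refine ⟨s - x * t, ?_⟩
        have : r = x ^ n * s - t * x ^ (n + 1) := by rw [ht]; ring
        rw [this, pow_succ]
        ring
    have hlen : Module.length R (R ⧸ Ideal.span {x ^ (n + 1)}) =
        Module.length R (LinearMap.ker g) + Module.length R (R ⧸ Ideal.span {x ^ n}) :=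
      Module.length_eq_add_of_exact (LinearMap.ker g).subtype g (Submodule.subtype_injective _) hg
        (LinearMap.exact_subtype_ker_map g)
    let f' : (R ⧸ Ideal.span {x}) →ₗ[R] LinearMap.ker g :=
      f.codRestrict (LinearMap.ker g) (fun c => (hfg _).2 ⟨c, rfl⟩)
    have hf' : Function.Surjective f' := by
      rintro ⟨y, hy⟩
      obtain ⟨c, hc⟩ := (hfg y).1 hy
      exact ⟨c, Subtype.ext hc⟩
    have hcast : ((n + 1 : ℕ) : ℕ∞) * Module.length R (R ⧸ Ideal.span {x}) =
        Module.length R (R ⧸ Ideal.span {x}) + (n : ℕ∞) * Module.length R (R ⧸ Ideal.span {x}) := by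
      push_cast; ring
    constructor
    · rw [hlen, hcast]
      exact add_le_add (Module.length_le_of_surjective f' hf') ih.1
    · intro hx
      rw [hlen, hcast, ih.2 hx]
      congr 1
      have hf'inj : Function.Injective f' := by
        intro c c' hcc
        have hcc' : f c = f c' := congrArg Subtype.val hcc
        obtain ⟨s, rfl⟩ := Submodule.Quotient.mk_surjective _ c
        obtain ⟨s', rfl⟩ := Submodule.Quotient.mk_surjective _ c'
        change (Submodule.Quotient.mk (x ^ n * s) : R ⧸ Ideal.span {x ^ (n + 1)}) =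
          Submodule.Quotient.mk (x ^ n * s') at hcc'
        rw [Submodule.Quotient.eq, Ideal.mem_span_singleton'] at hcc'
        obtain ⟨t, ht⟩ := hcc'
        rw [Submodule.Quotient.eq, Ideal.mem_span_singleton']
        refine ⟨t, ?_⟩
        have hxn : x ^ n ∈ nonZeroDivisors R := pow_mem hx n
        have h0 : (t * x - (s - s')) * x ^ n = 0 := by
          have : (t * x - (s - s')) * x ^ n = t * x ^ (n + 1) - (x ^ n * s - x ^ n * s') := by
            rw [pow_succ]; ring
          rw [this, ht, sub_self]
        have h1 := (mul_right_mem_nonZeroDivisors_eq_zero_iff hxn).1 h0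
        exact sub_eq_zero.1 h1
      exact ((LinearEquiv.ofBijective f' ⟨hf'inj, hf'⟩).length_eq).symm

/-- Let R be a Noetherian local ring of Krull dimension one and x an element of the maximal ideal lying
in no minimal prime of R. Then for every n the length of R/xⁿR is at most n times the length of
R/xR, and equality holds when x is a nonzerodivisor. -/
theorem result (R : Type u) [CommRing R] [IsNoetherianRing R] [IsLocalRing R]
    (hdim : ringKrullDim R = 1) (x : R) (hx : x ∈ IsLocalRing.maximalIdeal R)
    (hmin : ∀ p ∈ minimalPrimes R, x ∉ p) (n : ℕ) :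
    Module.length R (R ⧸ Ideal.span {x ^ n}) ≤ (n : ℕ∞) * Module.length R (R ⧸ Ideal.span {x}) ∧
      (x ∈ nonZeroDivisors R →
        Module.length R (R ⧸ Ideal.span {x ^ n}) = (n : ℕ∞) * Module.length R (R ⧸ Ideal.span {x})) := by
  exact length_quotient_pow R x n

end Groth.Agent.S7114
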