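import Groth.Statements.S7116
import Groth.Agent.Lib.Helper2.Sop

set_option autoImplicit false
universe u
open CAlg

namespace Groth.Agent.S7116

/-- Let R be a Noetherian local ring of Krull dimension d with maximal ideal m and let f be an element
of m contained in no minimal prime. Then there are g_1, ..., g_{d-1} in m and a natural number N
such that f, g_1, ..., g_{d-1} is a system of parameters (these d elements of m generate an ideal
with radical m) and, for every h in m^N, the elements f + h, g_1, ..., g_{d-1} again form a system
of parameters and the lengths of R/(f, g_1, ..., g_{d-1}) and R/(f + h, g_1, ..., g_{d-1}) agree. -/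
theorem result (R : Type u) [CommRing R] [IsNoetherianRing R] [IsLocalRing R]
    (d : ℕ) (hd : ringKrullDim R = d) (f : R) (hf : f ∈ IsLocalRing.maximalIdeal R)
    (hmin : ∀ p ∈ minimalPrimes R, f ∉ p) :
    ∃ (g : Fin (d - 1) → R) (N : ℕ), (∀ i, g i ∈ IsLocalRing.maximalIdeal R) ∧
      IsLocalRing.maximalIdeal R ≤ (Ideal.span (insert f (Set.range g))).radical ∧
      ∀ h ∈ IsLocalRing.maximalIdeal R ^ N,
        IsLocalRing.maximalIdeal R ≤ (Ideal.span (insert (f + h) (Set.range g))).radical ∧
        Module.length R (R ⧸ Ideal.span (insert f (Set.range g))) =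
          Module.length R (R ⧸ Ideal.span (insert (f + h) (Set.range g))) := by
  have hd' : ringKrullDim R ≤ (((d - 1) + 1 : ℕ) : WithBot ℕ∞) := by
    rw [hd]
    exact_mod_cast (by omega : d ≤ d - 1 + 1)
  obtain ⟨g, -, hgm, hg⟩ := Groth.Agent.Lib.Helper2.exists_sop_insert 0 (d - 1) hd' f hf hmin
  obtain ⟨N, hN⟩ := Ideal.exists_pow_le_of_le_radical_of_fg_radical hg
    (IsNoetherian.noetherian _)
  have key : ∀ h ∈ IsLocalRing.maximalIdeal R ^ (N + 1),
      Ideal.span (insert (f + h) (Set.range g)) = Ideal.span (insert f (Set.range g)) := by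
    intro h hh
    have hh' : h ∈ IsLocalRing.maximalIdeal R • Ideal.span (insert f (Set.range g)) := by
      rw [smul_eq_mul]
      have : IsLocalRing.maximalIdeal R ^ (N + 1) ≤
          IsLocalRing.maximalIdeal R * Ideal.span (insert f (Set.range g)) := by
        rw [pow_succ']
        exact Ideal.mul_mono_right hN
      exact this hh
    have hhq : h ∈ Ideal.span (insert f (Set.range g)) :=
      Ideal.mul_le_right (I := IsLocalRing.maximalIdeal R)
        (J := Ideal.span (insert f (Set.range g))) (by rwa [smul_eq_mul] at hh')
    apply le_antisymm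
    · rw [Ideal.span_le]
      intro x hx
      rcases hx with rfl | hx
      · exact Ideal.add_mem _ (Ideal.subset_span (Set.mem_insert _ _)) hhq
      · exact Ideal.subset_span (Set.mem_insert_of_mem _ hx)
    · apply Submodule.le_of_le_smul_of_le_jacobson_bot (I := IsLocalRing.maximalIdeal R)
        (IsNoetherian.noetherian _)
      · rw [IsLocalRing.jacobson_eq_maximalIdeal ⊥ bot_ne_top]
      · rw [Ideal.span_le]
        intro x hx
        rcases hx with hx | hx
        · have hmem : (f + h) + (-h) ∈ Ideal.span (insert (f + h) (Set.range g)) ⊔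
              IsLocalRing.maximalIdeal R • Ideal.span (insert f (Set.range g)) :=
            Submodule.add_mem_sup (Ideal.subset_span (Set.mem_insert _ _))
              (Submodule.neg_mem _ hh')
          rw [add_neg_cancel_right] at hmem
          rw [hx]
          exact hmem
        · exact Submodule.mem_sup_left (Ideal.subset_span (Set.mem_insert_of_mem _ hx))
  refine ⟨g, N + 1, hgm, hg, fun h hh => ?_⟩
  rw [key h hh]
  exact ⟨hg, rfl⟩

end Groth.Agent.S7116
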