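import Groth.Statements.S7122
import Groth.Agent.Lib.Helper2.Bezout

set_option autoImplicit false
universe u
open CAlg

namespace Groth.Agent.S7122

/-- Let R be a Bézout domain, n ≥ 1, and f_1, ..., f_n elements generating the unit ideal. Then some
invertible n × n matrix over R has (f_1, ..., f_n) as its first row. -/
theorem result (R : Type u) [CommRing R] [IsDomain R] [IsBezout R]
    (n : ℕ) (f : Fin (n + 1) → R) (hf : Ideal.span (Set.range f) = ⊤) :
    ∃ A : Matrix (Fin (n + 1)) (Fin (n + 1)) R, IsUnit A.det ∧ A 0 = f := by
  classical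
  let φ : (Fin (n + 1) → R) →ₗ[R] R := Fintype.linearCombination R f
  have hφ : Function.Surjective φ := by
    rw [← LinearMap.range_eq_top, Fintype.range_linearCombination]
    exact hf
  obtain ⟨E, hE⟩ := Groth.Agent.Lib.Helper2.exists_linearEquiv_first_coord R n φ hφ
  refine ⟨LinearMap.toMatrix' E.toLinearMap, ?_, ?_⟩
  · apply Matrix.isUnit_det_of_right_inverse (B := LinearMap.toMatrix' E.symm.toLinearMap)
    rw [← LinearMap.toMatrix'_comp]
    simp
  · funext j
    rw [LinearMap.toMatrix'_apply]
    change E _ 0 = f j
    rw [hE, Fintype.linearCombination_apply]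
    simp [Pi.single_apply]

end Groth.Agent.S7122
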