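import Groth.Statements.S7124
import Mathlib

set_option autoImplicit false
universe u
open CAlg

namespace Groth.Agent.S7124

open IsLocalRing

section

variable (A B K L : Type u) [CommRing A] [IsDomain A]
    [ValuationRing A] [CommRing B] [IsDomain B] [ValuationRing B] [Field K] [Field L]
    [Algebra A K] [IsFractionRing A K] [Algebra B L] [IsFractionRing B L] [Algebra A B] [Algebra K L]
    [Algebra A L] [IsScalarTower A K L] [IsScalarTower A B L]
    [IsLocalHom (algebraMap A B)]

include A in
theorem exists_unit_of_residue_li {ι : Type} [Fintype ι] (ω : ι → B)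
    (hω : LinearIndependent (ResidueField A) (fun i => residue B (ω i)))
    (c : ι → K) (hc : ∃ i, c i ≠ 0) :
    ∃ (α : K) (u : Bˣ), α ≠ 0 ∧
      ∑ i, c i • algebraMap B L (ω i) = α • algebraMap B L (u : B) := by
  classical
  let vA := ValuationRing.valuation A K
  obtain ⟨i₁, hi₁⟩ := hc
  have hs : (Finset.univ.filter (fun i => c i ≠ 0)).Nonempty := ⟨i₁, by simp [hi₁]⟩
  obtain ⟨i₀, hi₀s, hmax⟩ := Finset.exists_max_image _ (fun i => vA (c i)) hs
  have hα : c i₀ ≠ 0 := by simpa using hi₀s
  have hvα : 0 < vA (c i₀) := by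
    rw [Valuation.pos_iff]; exact hα
  have hle : ∀ i, vA (c i) ≤ vA (c i₀) := by
    intro i
    by_cases hi : c i = 0
    · rw [hi, map_zero]; exact zero_le
    · exact hmax i (by simp [hi])
  have hr : ∀ i, ∃ r : A, algebraMap A K r = c i / c i₀ := by
    intro i
    rw [← ValuationRing.mem_integer_iff, Valuation.mem_integer_iff, map_div₀]
    exact div_le_one_of_le₀ (hle i) zero_le
  choose r hr using hr
  have hr₀ : r i₀ = 1 := by
    apply IsFractionRing.injective A K
    rw [hr, div_self hα, map_one]
  let b : B := ∑ i, algebraMap A B (r i) * ω i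
  have hb : IsUnit b := by
    rw [← residue_ne_zero_iff_isUnit]
    intro h0
    have h1 : ∑ i, residue A (r i) • residue B (ω i) = 0 := by
      rw [← h0, map_sum]
      refine Finset.sum_congr rfl fun i _ => ?_
      rw [map_mul, Algebra.smul_def, ResidueField.algebraMap_residue]
    have h2 := Fintype.linearIndependent_iff.1 hω (fun i => residue A (r i)) h1 i₀
    rw [hr₀, map_one] at h2
    exact one_ne_zero h2
  refine ⟨c i₀, hb.unit, hα, ?_⟩
  rw [IsUnit.unit_spec, map_sum, Finset.smul_sum]
  refine Finset.sum_congr rfl fun i _ => ?_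
  have hci : c i = c i₀ * algebraMap A K (r i) := by
    rw [hr, mul_div_cancel₀ _ hα]
  rw [map_mul, ← IsScalarTower.algebraMap_apply A B L, IsScalarTower.algebraMap_apply A K L,
    hci, Algebra.smul_def, Algebra.smul_def, map_mul]
  ring

include A in
theorem linearIndependent_mul {ι κ : Type} [Fintype ι] [Fintype κ] (ω : ι → B)
    (hω : LinearIndependent (ResidueField A) (fun i => residue B (ω i)))
    (π : κ → Lˣ)
    (hπ : ∀ (j j' : κ) (α : K) (u : Bˣ), α ≠ 0 →
      (π j : L) = π j' * algebraMap K L α * algebraMap B L (u : B) → j = j') :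
    LinearIndependent K (fun p : ι × κ => algebraMap B L (ω p.1) * (π p.2 : L)) := by
  classical
  rw [Fintype.linearIndependent_iff]
  intro a ha
  by_contra hne
  push Not at hne
  obtain ⟨⟨i₁, j₁⟩, hp⟩ := hne
  -- for each j, rewrite the inner sum
  have hex : ∀ j, ∃ (α : K) (u : Bˣ), ((∃ i, a (i, j) ≠ 0) → α ≠ 0) ∧
      ∑ i, a (i, j) • algebraMap B L (ω i) = α • algebraMap B L (u : B) := by
    intro j
    by_cases hj : ∃ i, a (i, j) ≠ 0
    · obtain ⟨α, u, hα, hsum⟩ := exists_unit_of_residue_li A B K L ω hω (fun i => a (i, j)) hj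
      exact ⟨α, u, fun _ => hα, hsum⟩
    · push Not at hj
      refine ⟨0, 1, fun h => absurd h (by push Not; exact hj), ?_⟩
      simp [hj]
  choose α u hα hsum using hex
  let t : κ → L := fun j => (α j • algebraMap B L (u j : B)) * (π j : L)
  let J : Finset κ := Finset.univ.filter (fun j => ∃ i, a (i, j) ≠ 0)
  have hJ : J.Nonempty := ⟨j₁, by simp only [J, Finset.mem_filter, Finset.mem_univ, true_and]; exact ⟨i₁, hp⟩⟩
  have htJ : ∀ j, j ∉ J → t j = 0 := by
    intro j hj
    have hj' : ∀ i, a (i, j) = 0 := by
      simp only [J, Finset.mem_filter, Finset.mem_univ, true_and, not_exists, not_not] at hj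
      exact hj
    have := hsum j
    simp only [hj', zero_smul, Finset.sum_const_zero] at this
    change (α j • algebraMap B L (u j : B)) * (π j : L) = 0
    rw [← this, zero_mul]
  have hsum0 : ∑ j ∈ J, t j = 0 := by
    rw [Finset.sum_subset (Finset.subset_univ J) (fun j _ hj => htJ j hj)]
    rw [Fintype.sum_prod_type_right] at ha
    rw [← ha]
    refine Finset.sum_congr rfl fun j _ => ?_
    change (α j • algebraMap B L (u j : B)) * (π j : L) = _
    rw [← hsum j, Finset.sum_mul]
    refine Finset.sum_congr rfl fun i _ => ?_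
    rw [smul_mul_assoc]
  have htne : ∀ j ∈ J, t j ≠ 0 := by
    intro j hj
    have hαj : α j ≠ 0 := hα j (by simpa [J] using hj)
    have hu : algebraMap B L (u j : B) ≠ 0 := by
      rw [Ne, map_eq_zero_iff _ (IsFractionRing.injective B L)]
      exact (u j).ne_zero
    exact mul_ne_zero (smul_ne_zero hαj hu) (π j).ne_zero
  let vB := ValuationRing.valuation B L
  obtain ⟨j₀, hj₀, hmax⟩ := Finset.exists_max_image J (fun j => vB (t j)) hJ
  have ht₀ : t j₀ ≠ 0 := htne j₀ hj₀
  have hb : ∀ j ∈ J, ∃ b : B, algebraMap B L b = t j / t j₀ := by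
    intro j hj
    rw [← ValuationRing.mem_integer_iff, Valuation.mem_integer_iff, map_div₀]
    exact div_le_one_of_le₀ (hmax j hj) zero_le
  choose! b hb using hb
  have hb₀ : b j₀ = 1 := by
    apply IsFractionRing.injective B L
    rw [hb j₀ hj₀, div_self ht₀, map_one]
  have hbm : ∀ j ∈ J.erase j₀, b j ∈ maximalIdeal B := by
    intro j hj
    rw [Finset.mem_erase] at hj
    by_contra hnm
    rw [IsLocalRing.notMem_maximalIdeal] at hnm
    apply hj.1
    have hαj : α j ≠ 0 := hα j (by simpa [J] using hj.2)
    have hαj₀ : α j₀ ≠ 0 := hα j₀ (by simpa [J] using hj₀)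
    have hLj : algebraMap K L (α j) ≠ 0 := by
      rw [Ne, map_eq_zero]; exact hαj
    have huj : algebraMap B L (u j : B) ≠ 0 := by
      rw [Ne, map_eq_zero_iff _ (IsFractionRing.injective B L)]
      exact (u j).ne_zero
    have hu' : algebraMap B L ((u j)⁻¹ : Bˣ) = (algebraMap B L (u j : B))⁻¹ := by
      apply eq_inv_of_mul_eq_one_left
      rw [← map_mul, Units.inv_mul, map_one]
    refine hπ j j₀ (α j₀ / α j) (u j₀ * hnm.unit * (u j)⁻¹) (div_ne_zero hαj₀ hαj) ?_
    have h1 : t j = t j₀ * algebraMap B L (b j) := by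
      rw [hb j hj.2, mul_div_cancel₀ _ ht₀]
    change (α j • algebraMap B L (u j : B)) * (π j : L) =
      (α j₀ • algebraMap B L (u j₀ : B)) * (π j₀ : L) * algebraMap B L (b j) at h1
    rw [Algebra.smul_def, Algebra.smul_def] at h1
    rw [Units.val_mul, Units.val_mul, map_mul, map_mul, hu', IsUnit.unit_spec, map_div₀]
    field_simp
    linear_combination h1
  have hfinal : (1 : B) ∈ maximalIdeal B := by
    have h2 : ∑ j ∈ J, b j = 0 := by
      apply IsFractionRing.injective B L
      rw [map_sum, map_zero]
      rw [Finset.sum_congr rfl (fun j hj => hb j hj), ← Finset.sum_div, hsum0, zero_div]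
    rw [← Finset.add_sum_erase J b hj₀, hb₀] at h2
    have h3 : (1 : B) = -∑ j ∈ J.erase j₀, b j := eq_neg_of_add_eq_zero_left h2
    rw [h3]
    exact neg_mem (Ideal.sum_mem _ hbm)
  exact (Ideal.ne_top_iff_one _).1 (Ideal.IsPrime.ne_top inferInstance) hfinal

end

/-- Let A ⊆ B be an extension of valuation rings (both valuation domains, the inclusion injective and
local) with fraction fields K ⊆ L such that L/K is finite. Then the residue field of B is finite
over that of A, the value group of A has finite index in the value group of B, and (index of value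
groups) · (residue degree) ≤ [L : K]. Here the value group of B is written as Lˣ modulo the units of
B, and that of A as the image of Kˣ in it. -/
theorem result (A B K L : Type u) [CommRing A] [IsDomain A]
    [ValuationRing A] [CommRing B] [IsDomain B] [ValuationRing B] [Field K] [Field L]
    [Algebra A K] [IsFractionRing A K] [Algebra B L] [IsFractionRing B L] [Algebra A B] [Algebra K L]
    [Algebra A L] [IsScalarTower A K L] [IsScalarTower A B L] (hinj : Function.Injective (algebraMap A B))
    [IsLocalHom (algebraMap A B)] [FiniteDimensional K L] :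
    let UB : Subgroup Lˣ := (Units.map (algebraMap B L).toMonoidHom).range
    let ΓA : Subgroup (Lˣ ⧸ UB) := ((QuotientGroup.mk' UB).comp (Units.map (algebraMap K L).toMonoidHom)).range
    Module.Finite (IsLocalRing.ResidueField A) (IsLocalRing.ResidueField B) ∧ ΓA.index ≠ 0 ∧
      ΓA.index * Module.finrank (IsLocalRing.ResidueField A) (IsLocalRing.ResidueField B) ≤
        Module.finrank K L := by
  classical
  intro UB ΓA
  -- key inequality for arbitrary finite families
  have KL : ∀ (e' f' : ℕ) (q : Fin e' → (Lˣ ⧸ UB) ⧸ ΓA), Function.Injective q →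
      ∀ (ωbar : Fin f' → IsLocalRing.ResidueField B),
        LinearIndependent (IsLocalRing.ResidueField A) ωbar → f' * e' ≤ Module.finrank K L := by
    intro e' f' q hq ωbar hωbar
    have hω : ∀ i, ∃ w : B, IsLocalRing.residue B w = ωbar i :=
      fun i => IsLocalRing.residue_surjective _
    choose ω hω using hω
    have hπ : ∀ j, ∃ x : Lˣ, (QuotientGroup.mk (QuotientGroup.mk x : Lˣ ⧸ UB) : (Lˣ ⧸ UB) ⧸ ΓA) = q j := by
      intro j
      obtain ⟨g, hg⟩ := QuotientGroup.mk_surjective (q j)
      obtain ⟨x, hx⟩ := QuotientGroup.mk_surjective g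
      exact ⟨x, by rw [hx, hg]⟩
    choose π hπ using hπ
    have hli := linearIndependent_mul A B K L ω (by simpa [hω] using hωbar) π (by
      intro j j' α u hα heq
      apply hq
      rw [← hπ j, ← hπ j']
      obtain ⟨αu, hαu⟩ : ∃ αu : Kˣ, (αu : K) = α := ⟨Units.mk0 α hα, rfl⟩
      have heq' : π j = π j' * Units.map (algebraMap K L).toMonoidHom αu *
          Units.map (algebraMap B L).toMonoidHom u := by
        apply Units.ext
        rw [Units.val_mul, Units.val_mul, Units.coe_map, Units.coe_map]
        change (π j : L) = π j' * algebraMap K L (αu : K) * algebraMap B L (u : B)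
        rw [hαu]
        exact heq
      have h3 : (π j)⁻¹ * π j' = (Units.map (algebraMap K L).toMonoidHom αu)⁻¹ *
          (Units.map (algebraMap B L).toMonoidHom u)⁻¹ := by
        rw [heq', mul_inv_rev, mul_inv_rev, mul_assoc, mul_assoc, inv_mul_cancel, mul_one, mul_comm]
      have h4 : (QuotientGroup.mk ((Units.map (algebraMap K L).toMonoidHom αu)⁻¹ *
          (Units.map (algebraMap B L).toMonoidHom u)⁻¹) : Lˣ ⧸ UB) =
          QuotientGroup.mk ((Units.map (algebraMap K L).toMonoidHom αu)⁻¹) := by
        rw [QuotientGroup.eq, mul_inv_rev, inv_inv, inv_inv, mul_assoc, mul_inv_cancel, mul_one]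
        exact ⟨u, rfl⟩
      rw [QuotientGroup.eq]
      change ((QuotientGroup.mk' UB) (π j))⁻¹ * (QuotientGroup.mk' UB) (π j') ∈ ΓA
      rw [← map_inv, ← map_mul, h3, QuotientGroup.mk'_apply, h4]
      exact ⟨αu⁻¹, by simp⟩)
    have := hli.fintype_card_le_finrank
    simpa [Fintype.card_prod] using this
  -- (a) finiteness of the residue field extension
  have hfin : Module.Finite (IsLocalRing.ResidueField A) (IsLocalRing.ResidueField B) := by
    rw [← Module.rank_lt_aleph0_iff]
    refine lt_of_le_of_lt (rank_le (n := Module.finrank K L) ?_) Cardinal.natCast_lt_aleph0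
    intro s hs
    have hli : LinearIndependent (IsLocalRing.ResidueField A)
        (fun i : Fin s.card => ((s.equivFin.symm i : s) : IsLocalRing.ResidueField B)) :=
      hs.comp _ s.equivFin.symm.injective
    have := KL 1 s.card (fun _ => QuotientGroup.mk 1) (fun a b _ => Subsingleton.elim a b) _ hli
    simpa using this
  -- (b) finiteness of the index
  have hidx : ΓA.index ≠ 0 := by
    intro h0
    rw [Subgroup.index_eq_zero_iff_infinite] at h0
    let emb := Infinite.natEmbedding ((Lˣ ⧸ UB) ⧸ ΓA)
    have hli : LinearIndependent (IsLocalRing.ResidueField A)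
        (fun _ : Fin 1 => (1 : IsLocalRing.ResidueField B)) := by
      rw [Fintype.linearIndependent_iff]
      intro g hg i
      have : g 0 • (1 : IsLocalRing.ResidueField B) = 0 := by simpa using hg
      rw [smul_eq_zero] at this
      rcases this with h | h
      · have : i = 0 := Subsingleton.elim _ _
        rw [this]; exact h
      · exact absurd h one_ne_zero
    have := KL (Module.finrank K L + 1) 1 (fun j => emb j)
      (fun a b hab => Fin.ext (emb.injective hab)) _ hli
    omega
  refine ⟨hfin, hidx, ?_⟩
  -- (c) the inequality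
  have : Finite ((Lˣ ⧸ UB) ⧸ ΓA) := by
    by_contra hinf
    rw [not_finite_iff_infinite, ← Subgroup.index_eq_zero_iff_infinite] at hinf
    exact hidx hinf
  have hcard : ΓA.index = Nat.card ((Lˣ ⧸ UB) ⧸ ΓA) := Subgroup.index_eq_card ΓA
  let eq := Finite.equivFin ((Lˣ ⧸ UB) ⧸ ΓA)
  let bκ := Module.finBasis (IsLocalRing.ResidueField A) (IsLocalRing.ResidueField B)
  have := KL (Nat.card ((Lˣ ⧸ UB) ⧸ ΓA))
    (Module.finrank (IsLocalRing.ResidueField A) (IsLocalRing.ResidueField B))
    (fun j => eq.symm j) eq.symm.injective bκ bκ.linearIndependent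
  rw [hcard, mul_comm]
  exact this

end Groth.Agent.S7124
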