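import Groth.Statements.S7129
import Groth.Agent.Lib.Helper2.AbsFlat

set_option autoImplicit false
universe u
open EtAlg

namespace Groth.Agent.S7129

/-- Every module over a product of fields ∏ K_i is flat over it (the product is an absolutely flat
ring). -/
theorem result (ι : Type u) (K : ι → Type u) [∀ i, Field (K i)] (M : Type u)
    [AddCommGroup M] [Module (∀ i, K i) M] : Module.Flat (∀ i, K i) M := by
  classical
  have hv : ∀ a : (∀ i, K i), ∃ c : (∀ i, K i), a = a * a * c := by
    intro a
    refine ⟨fun i => (a i)⁻¹, ?_⟩
    funext i
    simp only [Pi.mul_apply]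
    by_cases h : a i = 0
    · simp [h]
    · field_simp
  have h1 := Groth.Agent.Lib.Helper2.isReduced_of_vnr hv
  have h2 := Groth.Agent.Lib.Helper2.isMaximal_of_vnr hv
  exact Groth.Agent.Lib.Helper2.flat_of_forall_isField_localization _
    (fun m hm => Groth.Agent.Lib.Helper2.isField_localization_of_isReduced h2 m) M

end Groth.Agent.S7129
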