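import Groth.Statements.S7136
import Groth.Agent.Lib.Helper2.ArtinReesHom

set_option autoImplicit false
universe u
open CAlg

namespace Groth.Agent.S7136

open Groth.Agent.Lib.Helper2 in
/-- Approximate lifting of maps `M → N/I^(n+c)N` to maps `M → N`. -/
theorem key (A : Type u) [CommRing A] [IsNoetherianRing A]
    (I : Ideal A) (M N : Type u) [AddCommGroup M] [Module A M] [Module.Finite A M] [AddCommGroup N]
    [Module A N] [Module.Finite A N] :
    ∃ c : ℕ, ∀ n : ℕ, ∀ ψ : M →ₗ[A] N ⧸ (I ^ (n + c) • ⊤ : Submodule A N),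
      ∃ φ : M →ₗ[A] N, ∀ (z : M) (w : N), Submodule.Quotient.mk w = ψ z →
        φ z - w ∈ (I ^ n • ⊤ : Submodule A N) := by
  classical
  obtain ⟨s, m, hm⟩ := Module.Finite.exists_fin (R := A) (M := M)
  let π : (Fin s → A) →ₗ[A] M := Fintype.linearCombination A m
  have hπ : Function.Surjective π := by
    rw [← LinearMap.range_eq_top, Fintype.range_linearCombination, hm]
  have hK : (LinearMap.ker π).FG := IsNoetherian.noetherian _
  obtain ⟨r, k, hk⟩ := Submodule.fg_iff_exists_fin_generating_family.1 hK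
  let T : (Fin s → N) →ₗ[A] (Fin r → N) :=
    LinearMap.pi (fun j => ∑ i, (k j i) • LinearMap.proj i)
  have hT : ∀ (x : Fin s → N) (j : Fin r), T x j = Fintype.linearCombination A x (k j) := by
    intro x j
    simp [T, Fintype.linearCombination_apply]
  obtain ⟨c, hc⟩ := exists_forall_exists_mem_smul_top_map_eq I T
  refine ⟨c, fun n ψ => ?_⟩
  have hx : ∀ i, ∃ xi : N, Submodule.Quotient.mk xi = ψ (m i) :=
    fun i => Submodule.Quotient.mk_surjective _ _
  choose x hx using hx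
  have h1 : ∀ v : Fin s → A,
      (Submodule.Quotient.mk (Fintype.linearCombination A x v) : N ⧸ (I ^ (n + c) • ⊤ : Submodule A N))
        = ψ (π v) := by
    intro v
    simp only [π, Fintype.linearCombination_apply, map_sum, map_smul]
    rw [← Submodule.mkQ_apply, map_sum]
    refine Finset.sum_congr rfl fun i _ => ?_
    rw [map_smul, Submodule.mkQ_apply, hx]
  have hTx : T x ∈ (I ^ (n + c) • ⊤ : Submodule A (Fin r → N)) := by
    refine pi_mem_smul_top _ _ (fun j => ?_)
    rw [hT, ← Submodule.Quotient.mk_eq_zero, h1]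
    have : k j ∈ LinearMap.ker π := by
      rw [← hk]; exact Submodule.subset_span ⟨j, rfl⟩
    rw [LinearMap.mem_ker.1 this, map_zero]
  obtain ⟨y, hy, hTy⟩ := hc n x hTx
  have hkill : LinearMap.ker π ≤ LinearMap.ker (Fintype.linearCombination A (x - y)) := by
    rw [← hk, Submodule.span_le]
    rintro _ ⟨j, rfl⟩
    change Fintype.linearCombination A (x - y) (k j) = 0
    rw [← hT, map_sub, hTy, sub_self, Pi.zero_apply]
  let φ : M →ₗ[A] N := ((LinearMap.ker π).liftQ (Fintype.linearCombination A (x - y)) hkill) ∘ₗ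
    (π.quotKerEquivOfSurjective hπ).symm.toLinearMap
  have hφ : ∀ v, φ (π v) = Fintype.linearCombination A (x - y) v := by
    intro v
    have : (π.quotKerEquivOfSurjective hπ).symm (π v) = Submodule.Quotient.mk v := by
      rw [LinearEquiv.symm_apply_eq, LinearMap.quotKerEquivOfSurjective_apply_mk]
    change (LinearMap.ker π).liftQ _ hkill ((π.quotKerEquivOfSurjective hπ).symm (π v)) = _
    rw [this, Submodule.liftQ_apply]
  refine ⟨φ, fun z w hw => ?_⟩
  obtain ⟨v, rfl⟩ := hπ z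
  rw [hφ]
  have hsplit : Fintype.linearCombination A (x - y) v - w =
      (Fintype.linearCombination A x v - w) - Fintype.linearCombination A y v := by
    simp only [Fintype.linearCombination_apply, Pi.sub_apply, smul_sub, Finset.sum_sub_distrib]
    abel
  rw [hsplit]
  refine Submodule.sub_mem _ ?_ ?_
  · have h2 : Fintype.linearCombination A x v - w ∈ (I ^ (n + c) • ⊤ : Submodule A N) := by
      rw [← Submodule.Quotient.eq, h1, hw]
    exact Submodule.smul_mono_left (Ideal.pow_le_pow_right (Nat.le_add_right n c)) h2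
  · rw [Fintype.linearCombination_apply]
    refine Submodule.sum_mem _ fun i _ => Submodule.smul_mem _ _ ?_
    exact map_mem_smul_top (I ^ n) (LinearMap.proj i : (Fin s → N) →ₗ[A] N) hy

open Groth.Agent.Lib.Helper2 in
/-- Bounded torsion of the kernel. -/
theorem key2 (A : Type u) [CommRing A] [IsNoetherianRing A]
    (I : Ideal A) (M N : Type u) [AddCommGroup M] [Module A M] [Module.Finite A M] [AddCommGroup N]
    [Module A N] [Module.Finite A N] :
    ∃ c : ℕ, ∀ n : ℕ, ∀ φ : M →ₗ[A] N, (∀ z, φ z ∈ (I ^ n • ⊤ : Submodule A N)) →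
      ∀ a ∈ I ^ c, a • φ ∈ (I ^ n • ⊤ : Submodule A (M →ₗ[A] N)) := by
  classical
  obtain ⟨s, m, hm⟩ := Module.Finite.exists_fin (R := A) (M := M)
  let ev : (M →ₗ[A] N) →ₗ[A] (Fin s → N) := LinearMap.pi (fun i => LinearMap.applyₗ (m i))
  have hev : Function.Injective ev := by
    intro φ φ' h
    refine LinearMap.ext_on_range hm fun i => ?_
    exact congrFun h i
  obtain ⟨c, hc⟩ := exists_forall_smul_mem_smul_top_of_injective I ev hev
  refine ⟨c, fun n φ hφ a ha => hc n φ ?_ a ha⟩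
  exact pi_mem_smul_top _ _ (fun i => hφ (m i))

/-- Let A be a Noetherian ring, I an ideal, and M, N finite A-modules; write N_n = N/IⁿN, so that
Hom_A(M/IⁿM, N_n) = Hom_A(M, N_n). Then (1) the inverse system (Hom_A(M, N_n))_n, with transition
maps induced by the projections N_k → N_n, is Mittag-Leffler; (2) there is c ≥ 0 such that for all n
the kernel and the cokernel of Hom_A(M, N)/IⁿHom_A(M, N) → Hom_A(M, N_n) are annihilated by I^c. -/
theorem result (A : Type u) [CommRing A] [IsNoetherianRing A]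
    (I : Ideal A) (M N : Type u) [AddCommGroup M] [Module A M] [Module.Finite A M] [AddCommGroup N] [Module A N]
    [Module.Finite A N] :
    let Nq : ℕ → Submodule A N := fun n => I ^ n • ⊤
    let pr : ∀ n k : ℕ, n ≤ k → (N ⧸ Nq k) →ₗ[A] (N ⧸ Nq n) :=
      fun n k hnk => Submodule.mapQ (Nq k) (Nq n) (LinearMap.id : N →ₗ[A] N) (Submodule.smul_mono_left (Ideal.pow_le_pow_right hnk))
    let red : ∀ n : ℕ, (M →ₗ[A] N) → (M →ₗ[A] N ⧸ Nq n) := fun n φ => (Nq n).mkQ ∘ₗ φ
    (∀ n : ℕ, ∃ m : ℕ, n ≤ m ∧ ∀ (k : ℕ) (hmk : m ≤ k) (hnm : n ≤ m) (ψ : M →ₗ[A] N ⧸ Nq m),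
        ∃ ψ' : M →ₗ[A] N ⧸ Nq k, pr n k (hnm.trans hmk) ∘ₗ ψ' = pr n m hnm ∘ₗ ψ) ∧
    ∃ c : ℕ, ∀ n : ℕ,
      (∀ φ : M →ₗ[A] N, red n φ = 0 → ∀ a ∈ I ^ c, a • φ ∈ (I ^ n • ⊤ : Submodule A (M →ₗ[A] N))) ∧
      (∀ (ψ : M →ₗ[A] N ⧸ Nq n), ∀ a ∈ I ^ c, ∃ φ : M →ₗ[A] N, red n φ = a • ψ) := by
  intro Nq pr red
  obtain ⟨c₁, h₁⟩ := key A I M N
  obtain ⟨c₂, h₂⟩ := key2 A I M N
  constructor
  · intro n
    refine ⟨n + c₁, Nat.le_add_right _ _, fun k hmk hnm ψ => ?_⟩
    obtain ⟨φ, hφ⟩ := h₁ n ψ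
    refine ⟨red k φ, ?_⟩
    ext z
    obtain ⟨w, hw⟩ := Submodule.Quotient.mk_surjective _ (ψ z)
    change pr n k (hnm.trans hmk) (Submodule.Quotient.mk (φ z)) = pr n (n + c₁) hnm (ψ z)
    rw [← hw]
    change (Submodule.Quotient.mk (φ z) : N ⧸ Nq n) = Submodule.Quotient.mk w
    rw [Submodule.Quotient.eq]
    exact hφ z w hw
  · refine ⟨max c₁ c₂, fun n => ⟨?_, ?_⟩⟩
    · intro φ hφ a ha
      have ha' : a ∈ I ^ c₂ := Ideal.pow_le_pow_right (le_max_right _ _) ha
      refine h₂ n φ (fun z => ?_) a ha'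
      have := LinearMap.congr_fun hφ z
      exact (Submodule.Quotient.mk_eq_zero _).1 this
    · intro ψ a ha
      have ha' : a ∈ I ^ c₁ := Ideal.pow_le_pow_right (le_max_left _ _) ha
      by_cases hn : c₁ ≤ n
      · obtain ⟨n', rfl⟩ : ∃ n', n = n' + c₁ := ⟨n - c₁, by omega⟩
        obtain ⟨φ, hφ⟩ := h₁ n' ψ
        refine ⟨a • φ, ?_⟩
        ext z
        obtain ⟨w, hw⟩ := Submodule.Quotient.mk_surjective _ (ψ z)
        change (Submodule.Quotient.mk (a • φ z) : N ⧸ Nq (n' + c₁)) = a • ψ z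
        rw [← hw, ← Submodule.Quotient.mk_smul, Submodule.Quotient.eq, ← smul_sub]
        have h3 := Submodule.smul_mem_smul ha' (hφ z w hw)
        rw [← Submodule.mul_smul, ← pow_add, add_comm] at h3
        exact h3
      · refine ⟨0, ?_⟩
        ext z
        obtain ⟨w, hw⟩ := Submodule.Quotient.mk_surjective _ (ψ z)
        change (Submodule.Quotient.mk ((0 : M →ₗ[A] N) z) : N ⧸ Nq n) = a • ψ z
        rw [← hw, ← Submodule.Quotient.mk_smul, LinearMap.zero_apply, Submodule.Quotient.mk_zero,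
          eq_comm, Submodule.Quotient.mk_eq_zero]
        have hle : I ^ c₁ ≤ I ^ n := Ideal.pow_le_pow_right (by omega)
        exact Submodule.smul_mem_smul (hle ha') Submodule.mem_top

end Groth.Agent.S7136
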