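import Groth.Statements.S7135
import Groth.Agent.S7136

set_option autoImplicit false
universe u
open CAlg

namespace Groth.Agent.S7135

/-- If `φ : M → N` is surjective modulo `I`, it is surjective modulo every power of `I`. -/
theorem top_le_range_sup_pow {A : Type u} [CommRing A] (I : Ideal A) {M N : Type u}
    [AddCommGroup M] [Module A M] [AddCommGroup N] [Module A N] (φ : M →ₗ[A] N)
    (h : (⊤ : Submodule A N) ≤ LinearMap.range φ ⊔ I • ⊤) (n : ℕ) :
    (⊤ : Submodule A N) ≤ LinearMap.range φ ⊔ I ^ n • ⊤ := by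
  induction n with
  | zero => simp
  | succ n ih =>
    calc (⊤ : Submodule A N) ≤ LinearMap.range φ ⊔ I ^ n • ⊤ := ih
      _ ≤ LinearMap.range φ ⊔ I ^ n • (LinearMap.range φ ⊔ I • ⊤) :=
        sup_le_sup_left (Submodule.smul_mono le_rfl h) _
      _ ≤ LinearMap.range φ ⊔ I ^ (n + 1) • ⊤ := by
        rw [Submodule.smul_sup, ← Submodule.mul_smul, ← pow_succ]
        refine sup_le le_sup_left (sup_le ?_ le_sup_right)
        exact le_trans Submodule.smul_le_right le_sup_left

/-- A map which is bijective modulo all powers of `I` induces an isomorphism on completions. -/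
theorem map_bijective_of_forall {A : Type u} [CommRing A] (I : Ideal A) {M N : Type u}
    [AddCommGroup M] [Module A M] [AddCommGroup N] [Module A N] (φ : M →ₗ[A] N)
    (h : ∀ n, Function.Bijective (φ.reduceModIdeal (I ^ n))) :
    Function.Bijective (AdicCompletion.map I φ) := by
  constructor
  · rw [injective_iff_map_eq_zero]
    intro x hx
    apply AdicCompletion.ext
    intro n
    have h1 : (AdicCompletion.map I φ x).val n = 0 := by rw [hx]; rfl
    rw [AdicCompletion.map_val_apply] at h1
    have h2 : φ.reduceModIdeal (I ^ n) (x.val n) = φ.reduceModIdeal (I ^ n) 0 := by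
      rw [h1, map_zero]
    exact (h n).1 h2
  · intro y
    have hx : ∀ n, ∃ xn, φ.reduceModIdeal (I ^ n) xn = y.val n := fun n => (h n).2 _
    choose x hx using hx
    refine ⟨⟨x, ?_⟩, ?_⟩
    · intro m n hmn
      apply (h m).1
      have h1 := LinearMap.congr_fun (AdicCompletion.transitionMap_comp_reduceModIdeal I φ hmn) (x n)
      simp only [LinearMap.comp_apply] at h1
      have h2 : (φ.reduceModIdeal (I ^ m)) (AdicCompletion.transitionMap I M hmn (x n)) =
          AdicCompletion.transitionMap I N hmn ((φ.reduceModIdeal (I ^ n)) (x n)) := h1.symm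
      rw [h2, hx, hx]
      exact y.2 hmn
    · apply AdicCompletion.ext
      intro n
      rw [AdicCompletion.map_val_apply]
      exact hx n

/-- Let A be a Noetherian ring, I an ideal and M, N finite A-modules. If M/IⁿM and N/IⁿN are isomorphic
for every n, then the I-adic completions of M and N are isomorphic as modules over the I-adic
completion of A. -/
theorem result (A : Type u) [CommRing A] [IsNoetherianRing A] (I : Ideal A)
    (M N : Type u) [AddCommGroup M] [Module A M] [Module.Finite A M] [AddCommGroup N] [Module A N]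
    [Module.Finite A N]
    (h : ∀ n : ℕ, Nonempty ((M ⧸ (I ^ n • ⊤ : Submodule A M)) ≃ₗ[A] (N ⧸ (I ^ n • ⊤ : Submodule A N)))) :
    Nonempty (AdicCompletion I M ≃ₗ[AdicCompletion I A] AdicCompletion I N) := by
  obtain ⟨c, hc⟩ := Groth.Agent.S7136.key A I M N
  obtain ⟨θ⟩ := h (1 + c)
  let ψ : M →ₗ[A] N ⧸ (I ^ (1 + c) • ⊤ : Submodule A N) :=
    θ.toLinearMap ∘ₗ (I ^ (1 + c) • ⊤ : Submodule A M).mkQ
  obtain ⟨φ, hφ⟩ := hc 1 ψ
  -- `φ` is surjective modulo `I`
  have hsurj1 : (⊤ : Submodule A N) ≤ LinearMap.range φ ⊔ I • ⊤ := by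
    intro y _
    obtain ⟨zbar, hz⟩ := θ.surjective (Submodule.Quotient.mk y)
    obtain ⟨z, rfl⟩ := Submodule.Quotient.mk_surjective _ zbar
    have h1 := hφ z y hz.symm
    rw [pow_one] at h1
    have : y = φ z + -(φ z - y) := by abel
    rw [this]
    exact Submodule.add_mem_sup ⟨z, rfl⟩ (Submodule.neg_mem _ h1)
  have hsurj : ∀ n, (⊤ : Submodule A N) ≤ LinearMap.range φ ⊔ I ^ n • ⊤ :=
    top_le_range_sup_pow I φ hsurj1
  have hbij : ∀ n, Function.Bijective (φ.reduceModIdeal (I ^ n)) := by
    intro n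
    let g : (M ⧸ (I ^ n • ⊤ : Submodule A M)) →ₗ[A] (N ⧸ (I ^ n • ⊤ : Submodule A N)) :=
      Submodule.mapQ _ _ φ (Submodule.smul_top_le_comap_smul_top (I ^ n) φ)
    have hg : Function.Surjective g := by
      intro ybar
      obtain ⟨y, rfl⟩ := Submodule.Quotient.mk_surjective _ ybar
      obtain ⟨y1, ⟨z, rfl⟩, y2, hy2, hy⟩ := Submodule.mem_sup.1 (hsurj n (Submodule.mem_top : y ∈ ⊤))
      refine ⟨Submodule.Quotient.mk z, ?_⟩
      change (Submodule.Quotient.mk (φ z) : N ⧸ (I ^ n • ⊤ : Submodule A N)) = _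
      rw [Submodule.Quotient.eq, ← hy]
      simpa using Submodule.neg_mem _ hy2
    obtain ⟨θn⟩ := h n
    have hsurj' : Function.Surjective (θn.symm.toLinearMap ∘ₗ g) :=
      θn.symm.surjective.comp hg
    have hinj' := IsNoetherian.injective_of_surjective_endomorphism _ hsurj'
    have hginj : Function.Injective g := by
      intro a b hab
      exact hinj' (by simp [hab])
    exact ⟨hginj, hg⟩
  exact ⟨LinearEquiv.ofBijective (AdicCompletion.map I φ) (map_bijective_of_forall I φ hbij)⟩

end Groth.Agent.S7135
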