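import Groth.Statements.S7140
import Mathlib

set_option autoImplicit false
universe u
open EtAlg

namespace Groth.Agent.S7140

open Polynomial

section Aux

variable {R : Type*} [CommRing R]

/-- coefficient `(C(p,i)/p) u w^(i-1)` plus the correction at `i = 1` -/
noncomputable def kasCoeff (p : ℕ) (u w : R) (i : ℕ) : R :=
  ((p.choose i / p : ℕ) : R) * u * w ^ (i - 1) + if i = 1 then 1 else 0

/-- the Kummer–Artin–Schreier polynomial -/
noncomputable def kasPoly (p : ℕ) (u w : R) : R[X] :=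
  X ^ p - X + (Finset.Ioo 0 p).sum (fun i => C (kasCoeff p u w i) * X ^ i)

lemma kasPoly_spec (p : ℕ) (hp : p.Prime) (u w : R) (hpu : (p : R) = u * w ^ (p - 1)) :
    C (w ^ p) * kasPoly p u w = (1 + C w * X) ^ p - 1 := by
  have h1 : (1 + C w * X : R[X]) ^ p = ((1 + X : R[X]) ^ p).comp (C w * X) := by
    rw [pow_comp, add_comp, one_comp, X_comp]
  ext n
  rw [coeff_C_mul, coeff_sub, h1, comp_C_mul_X_coeff, coeff_one_add_X_pow, coeff_one, kasPoly,
    coeff_add, coeff_sub, coeff_X_pow, coeff_X, finset_sum_coeff]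
  simp only [coeff_C_mul_X_pow]
  rw [Finset.sum_ite_eq]
  have hp2 : 2 ≤ p := hp.two_le
  rcases Nat.eq_zero_or_pos n with hn0 | hn0
  · subst hn0
    have : (0 : ℕ) ∉ Finset.Ioo 0 p := by simp
    rw [if_neg this, if_neg (by omega), if_neg (by omega), if_pos rfl]
    simp
  rcases lt_trichotomy n p with hnp | hnp | hnp
  · have hmem : n ∈ Finset.Ioo 0 p := Finset.mem_Ioo.mpr ⟨hn0, hnp⟩
    rw [if_pos hmem, if_neg (show ¬ n = p by omega), if_neg (show ¬ n = 0 by omega), kasCoeff]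
    have hdvd : p ∣ p.choose n := hp.dvd_choose_self (by omega) hnp
    have hch : (p.choose n : R) = ((p.choose n / p : ℕ) : R) * (u * w ^ (p - 1)) := by
      rw [← hpu, ← Nat.cast_mul, Nat.div_mul_cancel hdvd]
    rw [hch]
    obtain ⟨p', rfl⟩ : ∃ p', p = p' + 1 := ⟨p - 1, by omega⟩
    obtain ⟨n', rfl⟩ : ∃ n', n = n' + 1 := ⟨n - 1, by omega⟩
    simp only [Nat.add_sub_cancel]
    by_cases hn1 : n' + 1 = 1
    · rw [if_pos hn1.symm, if_pos hn1]; ring
    · rw [if_neg (fun h => hn1 h.symm), if_neg hn1]; ring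
  · subst hnp
    have : n ∉ Finset.Ioo 0 n := by simp
    rw [if_neg this, if_pos rfl, if_neg (by omega), if_neg (by omega)]
    simp
  · have : n ∉ Finset.Ioo 0 p := by simp; omega
    rw [if_neg this, if_neg (by omega), if_neg (by omega), if_neg (by omega),
      Nat.choose_eq_zero_of_lt hnp]
    simp

lemma kasCoeff_mem (p : ℕ) (hp : p.Prime) (u w b : R) (hub : u + 1 = w * b) (i : ℕ) :
    kasCoeff p u w i ∈ Ideal.span {w} := by
  have hp2 : 2 ≤ p := hp.two_le
  rw [Ideal.mem_span_singleton']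
  unfold kasCoeff
  by_cases hi1 : i = 1
  · subst hi1
    refine ⟨b, ?_⟩
    have : p.choose 1 / p = 1 := by rw [Nat.choose_one_right, Nat.div_self (by omega)]
    rw [this, if_pos rfl]
    simp only [Nat.cast_one, one_mul, Nat.sub_self, pow_zero, mul_one]
    rw [hub, mul_comm]
  · rw [if_neg hi1, add_zero]
    rcases Nat.eq_zero_or_pos i with hi0 | hi0
    · subst hi0
      have : p.choose 0 / p = 0 := by rw [Nat.choose_zero_right]; exact Nat.div_eq_of_lt (by omega)
      rw [this]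
      exact ⟨0, by simp⟩
    · obtain ⟨i', rfl⟩ : ∃ i', i = i' + 2 := ⟨i - 2, by omega⟩
      refine ⟨((p.choose (i' + 2) / p : ℕ) : R) * u * w ^ i', ?_⟩
      have : i' + 2 - 1 = i' + 1 := by omega
      rw [this, pow_succ]; ring

lemma kasPoly_map {R' : Type*} [CommRing R'] (φ : R →+* R') (p : ℕ) (u w : R) :
    (kasPoly p u w).map φ = kasPoly p (φ u) (φ w) := by
  unfold kasPoly kasCoeff
  simp only [Polynomial.map_add, Polynomial.map_sub, Polynomial.map_pow, Polynomial.map_X,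
    Polynomial.map_sum, Polynomial.map_mul, Polynomial.map_C, map_add, map_mul, map_pow,
    map_natCast]
  congr 1
  refine Finset.sum_congr rfl fun i _ => ?_
  split_ifs <;> simp

/-- the addition formula in the universal situation -/
lemma kasPoly_add_univ [IsDomain R] (p : ℕ) (hp : p.Prime) (u w : R) (hw : w ≠ 0)
    (hpu : (p : R) = u * w ^ (p - 1)) :
    let T := MvPolynomial (Fin 2) R
    let z₁ : T := MvPolynomial.X 0
    let z₂ : T := MvPolynomial.X 1
    aeval (z₁ + z₂ + algebraMap R T w * z₁ * z₂) (kasPoly p u w) =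
      aeval z₁ (kasPoly p u w) + aeval z₂ (kasPoly p u w)
        + algebraMap R T (w ^ p) * aeval z₁ (kasPoly p u w) * aeval z₂ (kasPoly p u w) := by
  intro T z₁ z₂
  have hspec := kasPoly_spec p hp u w hpu
  have key : ∀ t : T, algebraMap R T (w ^ p) * aeval t (kasPoly p u w)
      = (1 + algebraMap R T w * t) ^ p - 1 := by
    intro t
    have := congrArg (aeval t) hspec
    simpa using this
  have hW : algebraMap R T (w ^ p) ≠ 0 := by
    have hinj : Function.Injective (algebraMap R T) := MvPolynomial.C_injective (Fin 2) R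
    rw [Ne, map_eq_zero_iff _ hinj]
    exact pow_ne_zero p hw
  apply mul_left_cancel₀ hW
  have e1 := key z₁
  have e2 := key z₂
  have e3 := key (z₁ + z₂ + algebraMap R T w * z₁ * z₂)
  have e4 : (1 + algebraMap R T w * (z₁ + z₂ + algebraMap R T w * z₁ * z₂))
      = (1 + algebraMap R T w * z₁) * (1 + algebraMap R T w * z₂) := by ring
  rw [e4, mul_pow] at e3
  rw [e3]
  have e1' : (1 + algebraMap R T w * z₁) ^ p
      = algebraMap R T (w ^ p) * aeval z₁ (kasPoly p u w) + 1 := by rw [e1]; ring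
  have e2' : (1 + algebraMap R T w * z₂) ^ p
      = algebraMap R T (w ^ p) * aeval z₂ (kasPoly p u w) + 1 := by rw [e2]; ring
  rw [e1', e2']
  ring

end Aux

section Cyc

/-- the cyclotomic integers -/
abbrev Oc (p : ℕ) := AdjoinRoot (cyclotomic p ℤ)

/-- the canonical root -/
noncomputable def ζc (p : ℕ) : Oc p := AdjoinRoot.root (cyclotomic p ℤ)

lemma isDomain_Oc (p : ℕ) (hp : p.Prime) : IsDomain (Oc p) :=
  AdjoinRoot.isDomain_of_prime ((cyclotomic.irreducible hp.pos).prime)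

noncomputable def uO (p : ℕ) : Oc p :=
  ∏ k ∈ Finset.range (p - 1), ∑ j ∈ Finset.range (k + 1), (ζc p) ^ j

lemma natCast_ne_zero_Oc (p : ℕ) (hp : p.Prime) : ((p : ℕ) : Oc p) ≠ 0 := by
  have hinj : Function.Injective (AdjoinRoot.of (cyclotomic p ℤ)) :=
    AdjoinRoot.of.injective_of_degree_ne_zero (degree_cyclotomic_pos p ℤ hp.pos).ne'
  have : ((p : ℕ) : Oc p) = AdjoinRoot.of (cyclotomic p ℤ) (p : ℤ) := by simp
  rw [this, Ne, map_eq_zero_iff _ hinj]
  exact_mod_cast hp.ne_zero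

lemma natCast_eq_Oc (p : ℕ) (hp : p.Prime) :
    ((p : ℕ) : Oc p) = uO p * (1 - ζc p) ^ (p - 1) := by
  have := isDomain_Oc p hp
  have : NeZero ((p : ℕ) : Oc p) := ⟨natCast_ne_zero_Oc p hp⟩
  have hroot : IsRoot (cyclotomic p (Oc p)) (ζc p) := by
    rw [← map_cyclotomic_int p (Oc p), IsRoot.def, eval_map]
    have h0 : (Int.castRingHom (Oc p)) = AdjoinRoot.of (cyclotomic p ℤ) := RingHom.ext_int _ _
    rw [h0]
    exact AdjoinRoot.eval₂_root (cyclotomic p ℤ)
  have hprim : IsPrimitiveRoot (ζc p) p := (isRoot_cyclotomic_iff).mp hroot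
  obtain ⟨n, hn⟩ : ∃ n, p = n + 1 := ⟨p - 1, by have := hp.two_le; omega⟩
  have hprim' : IsPrimitiveRoot (ζc p) (n + 1) := hn ▸ hprim
  have h := IsPrimitiveRoot.prod_one_sub_pow_eq_order hprim'
  have h2 : ∀ k ∈ Finset.range n,
      (1 - (ζc p) ^ (k + 1)) = (1 - ζc p) * ∑ j ∈ Finset.range (k + 1), (ζc p) ^ j :=
    fun k _ => (mul_neg_geom_sum (ζc p) (k + 1)).symm
  rw [Finset.prod_congr rfl h2, Finset.prod_mul_distrib, Finset.prod_const, Finset.card_range] at h
  have hn' : p - 1 = n := by omega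
  rw [uO, hn', mul_comm, h, hn]
  push_cast
  rfl

lemma uO_add_one (p : ℕ) (hp : p.Prime) :
    ∃ b : Oc p, uO p + 1 = (1 - ζc p) * b := by
  have hp2 := hp.two_le
  let q := Ideal.Quotient.mk (Ideal.span {1 - ζc p})
  have hqw : q (1 - ζc p) = 0 :=
    Ideal.Quotient.eq_zero_iff_mem.mpr (Ideal.mem_span_singleton_self _)
  have hqζ : q (ζc p) = 1 := by
    have : q (1 - ζc p) = 1 - q (ζc p) := by rw [map_sub, map_one]
    rw [hqw] at this
    exact (sub_eq_zero.mp this.symm).symm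
  have hqp : q ((p : ℕ) : Oc p) = 0 := by
    rw [natCast_eq_Oc p hp, map_mul, map_pow, hqw, zero_pow (by omega), mul_zero]
  have hqu : q (uO p) = (((p - 1).factorial : ℕ) : Oc p ⧸ Ideal.span {1 - ζc p}) := by
    rw [uO, map_prod, ← Finset.prod_range_add_one_eq_factorial, Nat.cast_prod]
    refine Finset.prod_congr rfl fun k _ => ?_
    rw [map_sum]
    simp only [map_pow, hqζ, one_pow, Finset.sum_const, Finset.card_range, nsmul_eq_mul, mul_one]
  haveI : Fact p.Prime := ⟨hp⟩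
  have hwil : (p : ℕ) ∣ (p - 1).factorial + 1 := by
    rw [← ZMod.natCast_eq_zero_iff]
    push_cast
    rw [ZMod.wilsons_lemma]; ring
  obtain ⟨c, hc⟩ := hwil
  have : q (uO p + 1) = 0 := by
    rw [map_add, map_one, hqu]
    have : (((p - 1).factorial : ℕ) : Oc p ⧸ Ideal.span {1 - ζc p}) + 1
        = (((p - 1).factorial + 1 : ℕ) : Oc p ⧸ Ideal.span {1 - ζc p}) := by push_cast; ring
    rw [this, hc, Nat.cast_mul]
    have hqp' : ((p : ℕ) : Oc p ⧸ Ideal.span {1 - ζc p}) = 0 := by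
      rw [← hqp, map_natCast]
    rw [hqp', zero_mul]
  have hmem := Ideal.Quotient.eq_zero_iff_mem.mp this
  obtain ⟨b, hb⟩ := Ideal.mem_span_singleton'.mp hmem
  exact ⟨b, by rw [← hb, mul_comm]⟩

end Cyc


open Polynomial in
/-- Let p be a prime and A a ring with an element ζ satisfying 1 + ζ + ... + ζ^(p-1) = 0 (so that A is
an algebra over the ring of integers of the p-th cyclotomic field); set w = 1 - ζ. Then the
polynomial ((1 + wz)^p - 1)/w^p makes sense in A[z]: there is P in A[z] with w^p·P = (1 + wz)^p - 1,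
of the form z^p - z + Σ_{0<i<p} a_i z^i with all a_i in the ideal (w), and P(z₁ + z₂ + w z₁ z₂) =
P(z₁) + P(z₂) + w^p P(z₁)P(z₂) for all z₁, z₂ in any A-algebra. (The published statement asks only
for a primitive p-th root of unity; this row asks that ζ be a root of the p-th cyclotomic
polynomial, the case its proof treats. With ζ only of multiplicative order p the published statement
fails, for example for ζ = (1, e^{2πi/p}) in ℂ × ℂ.) -/
theorem result (p : ℕ) (hp : p.Prime) (A : Type u) [CommRing A] (ζ : A)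
    (hζ : aeval ζ (cyclotomic p ℤ) = 0) :
    ∃ P : A[X], C ((1 - ζ) ^ p) * P = (1 + C (1 - ζ) * X) ^ p - 1 ∧
      (∃ a : ℕ → A, (∀ i, a i ∈ Ideal.span {1 - ζ}) ∧
        P = X ^ p - X + (Finset.Ioo 0 p).sum (fun i => C (a i) * X ^ i)) ∧
      ∀ (S : Type u) [CommRing S] [Algebra A S] (z₁ z₂ : S),
        aeval (z₁ + z₂ + algebraMap A S (1 - ζ) * z₁ * z₂) P =
          aeval z₁ P + aeval z₂ P + algebraMap A S ((1 - ζ) ^ p) * aeval z₁ P * aeval z₂ P := by
  classical
  haveI := isDomain_Oc p hp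
  have hζ' : (cyclotomic p ℤ).eval₂ (Int.castRingHom A) ζ = 0 := by
    rw [← hζ, aeval_def]; rfl
  let φ : Oc p →+* A := AdjoinRoot.lift (Int.castRingHom A) ζ hζ'
  set ζ₀ := ζc p with hζ₀
  have hφζ : φ ζ₀ = ζ := AdjoinRoot.lift_root hζ'
  have hφw : φ (1 - ζ₀) = 1 - ζ := by rw [map_sub, map_one, hφζ]
  have hpu₀ := natCast_eq_Oc p hp
  obtain ⟨b₀, hb₀⟩ := uO_add_one p hp
  have hw₀ : (1 - ζ₀ : Oc p) ≠ 0 := by
    intro h
    apply natCast_ne_zero_Oc p hp
    rw [hpu₀, h, zero_pow (by have := hp.two_le; omega), mul_zero]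
  have hpu : ((p : ℕ) : A) = φ (uO p) * (1 - ζ) ^ (p - 1) := by
    have := congrArg φ hpu₀
    rw [map_natCast, map_mul, map_pow, hφw] at this
    exact this
  have hub : φ (uO p) + 1 = (1 - ζ) * φ b₀ := by
    have := congrArg φ hb₀
    rw [map_add, map_one, map_mul, hφw] at this
    exact this
  refine ⟨kasPoly p (φ (uO p)) (1 - ζ), kasPoly_spec p hp _ _ hpu,
    ⟨kasCoeff p (φ (uO p)) (1 - ζ), kasCoeff_mem p hp _ _ _ hub, rfl⟩, ?_⟩
  intro S _ _ z₁ z₂
  have hmap : kasPoly p (φ (uO p)) (1 - ζ) = (kasPoly p (uO p) (1 - ζ₀)).map φ := by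
    rw [kasPoly_map, hφw]
  have huniv := kasPoly_add_univ p hp (uO p) (1 - ζ₀) hw₀ hpu₀
  simp only at huniv
  let ψ : MvPolynomial (Fin 2) (Oc p) →+* S :=
    MvPolynomial.eval₂Hom ((algebraMap A S).comp φ) ![z₁, z₂]
  have hψC : ∀ r : Oc p, ψ (algebraMap (Oc p) (MvPolynomial (Fin 2) (Oc p)) r)
      = algebraMap A S (φ r) := by
    intro r
    simp [ψ, MvPolynomial.algebraMap_eq]
  have hψ0 : ψ (MvPolynomial.X 0) = z₁ := by simp [ψ]
  have hψ1 : ψ (MvPolynomial.X 1) = z₂ := by simp [ψ]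
  have hψa : ∀ (t : MvPolynomial (Fin 2) (Oc p)) (f : (Oc p)[X]),
      ψ (aeval t f) = aeval (ψ t) (f.map φ) := by
    intro t f
    have hcomp : ψ.comp (algebraMap (Oc p) (MvPolynomial (Fin 2) (Oc p)))
        = (algebraMap A S).comp φ := RingHom.ext fun r => hψC r
    rw [aeval_def, hom_eval₂, aeval_def, eval₂_map, hcomp]
  have := congrArg ψ huniv
  simp only [map_add, map_mul, hψa, hψC, hψ0, hψ1, ← hmap, hφw, map_pow] at this
  rw [map_pow]
  exact this

end Groth.Agent.S7140
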