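import Groth.Statements.S7141
-- import your own Groth.Agent.* helpers here
import Groth.Agent.Lib.Helper12.WEtField

set_option autoImplicit false
universe u
open EtAlg

namespace Groth.Agent.S7141

open Groth.Agent.Lib.Helper12.WEtField

/-- Let K be a field and, for a K-algebra A, let B_max(A) be its largest weakly étale K-subalgebra. (2)
For a K-subalgebra A' ⊆ A one has B_max(A') = B_max(A) ∩ A'. (4) The quotient map A → A_red =
A/nilradical restricts to a bijection B_max(A) → B_max(A_red). (6) If A ≠ 0 and its only idempotents
are 0 and 1, then B_max(A) is a field, algebraic and separable over K. (The published statement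
omits A ≠ 0; this row assumes it, since for A = 0 the largest weakly étale subalgebra is the zero
ring.) -/
theorem result (K : Type u) [Field K] (A : Type u) [CommRing A] [Algebra K A] :
    (∀ A' : Subalgebra K A,
      (EtAlgD.maxWeaklyEtale K A').map A'.val = EtAlgD.maxWeaklyEtale K A ⊓ A') ∧
    (Set.BijOn (Ideal.Quotient.mkₐ K (nilradical A)) (EtAlgD.maxWeaklyEtale K A)
      (EtAlgD.maxWeaklyEtale K (A ⧸ nilradical A))) ∧
    ((∀ e : A, IsIdempotentElem e → e = 0 ∨ e = 1) → Nontrivial A →
      IsField (EtAlgD.maxWeaklyEtale K A) ∧ Algebra.IsSeparable K (EtAlgD.maxWeaklyEtale K A)) := by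
  refine ⟨fun A' => ?_, ?_, fun hid hnt => ?_⟩
  · ext a
    simp only [Subalgebra.mem_map, Algebra.mem_inf]
    constructor
    · rintro ⟨a', ha', rfl⟩
      exact ⟨mem_maxWeaklyEtale.2 ((mem_maxWeaklyEtale.1 ha').map A'.val), a'.2⟩
    · rintro ⟨h1, h2⟩
      exact ⟨⟨a, h2⟩, mem_maxWeaklyEtale.2 (IsSepElt.of_map A'.val Subtype.val_injective
        (mem_maxWeaklyEtale.1 h1)), rfl⟩
  · refine ⟨?_, ?_, ?_⟩
    · intro a ha
      exact mem_maxWeaklyEtale.2 ((mem_maxWeaklyEtale.1 ha).map _)
    · intro a ha a' ha' h
      have hsub : a - a' ∈ EtAlgD.maxWeaklyEtale K A := Subalgebra.sub_mem _ ha ha'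
      have hnil : IsNilpotent (a - a') := by
        have : Ideal.Quotient.mk (nilradical A) (a - a') = 0 := by
          rw [map_sub, sub_eq_zero]; exact h
        rw [Ideal.Quotient.eq_zero_iff_mem] at this
        exact this
      have hWE := weaklyEtale_maxWeaklyEtale K A
      have hred : IsReduced (EtAlgD.maxWeaklyEtale K A) := isReduced_of_weaklyEtale (K := K)
      have h0 : (⟨a - a', hsub⟩ : EtAlgD.maxWeaklyEtale K A) = 0 := by
        apply IsReduced.eq_zero
        obtain ⟨n, hn⟩ := hnil
        exact ⟨n, Subtype.ext (by simpa using hn)⟩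
      have := congrArg Subtype.val h0
      exact sub_eq_zero.1 this
    · intro x hx
      obtain ⟨P, hsep, hP⟩ := mem_maxWeaklyEtale.1 hx
      obtain ⟨a, rfl⟩ := Ideal.Quotient.mk_surjective x
      have hnil : IsNilpotent (Polynomial.aeval a P) := by
        have : Ideal.Quotient.mkₐ K (nilradical A) (Polynomial.aeval a P) = 0 := by
          rw [← Polynomial.aeval_algHom_apply]; exact hP
        exact (Ideal.Quotient.eq_zero_iff_mem.1 this)
      have hunit : IsUnit (Polynomial.aeval a (Polynomial.derivative P)) := by
        obtain ⟨u, v, huv⟩ := hsep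
        have h1 : Polynomial.aeval a u * Polynomial.aeval a P +
            Polynomial.aeval a v * Polynomial.aeval a (Polynomial.derivative P) = 1 := by
          have := congrArg (Polynomial.aeval a) huv
          simpa using this
        have h2 : IsUnit (Polynomial.aeval a v * Polynomial.aeval a (Polynomial.derivative P)) := by
          have : Polynomial.aeval a v * Polynomial.aeval a (Polynomial.derivative P) =
              1 - Polynomial.aeval a u * Polynomial.aeval a P := by linear_combination h1
          rw [this]
          exact IsNilpotent.isUnit_one_sub ((Commute.all _ _).isNilpotent_mul_left hnil)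
        exact isUnit_of_mul_isUnit_right h2
      obtain ⟨r, ⟨hr1, hr2⟩, _⟩ :=
        Polynomial.existsUnique_nilpotent_sub_and_aeval_eq_zero hnil hunit
      refine ⟨r, mem_maxWeaklyEtale.2 ⟨P, hsep, hr2⟩, ?_⟩
      show Ideal.Quotient.mk _ r = Ideal.Quotient.mk _ a
      rw [eq_comm, Ideal.Quotient.eq]
      exact hr1
  · have hWE := weaklyEtale_maxWeaklyEtale K A
    refine ⟨?_, weaklyEtale_iff_isSeparable.1 hWE⟩
    refine { exists_pair_ne := ⟨0, 1, ?_⟩, mul_comm := mul_comm, mul_inv_cancel := ?_ }
    · intro h
      have := congrArg Subtype.val h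
      exact zero_ne_one this
    · intro b hb
      have hb' : IsSepElt K b := weaklyEtale_iff_forall_isSepElt.1 hWE b
      refine exists_mul_eq_one_of_isSepElt ?_ hb' hb
      intro e he
      have hidem : IsIdempotentElem (e : A) := by
        have := congrArg Subtype.val he
        exact this
      rcases hid _ hidem with h | h
      · left; exact Subtype.ext h
      · right; exact Subtype.ext h

end Groth.Agent.S7141
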