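import Groth.Statements.S7146
import Mathlib
import Groth.Agent.Lib.Helper11.HSSop

set_option autoImplicit false
universe u
open Filter
open CAlg

namespace Groth.Agent.S7146

/-- Let R be a Noetherian local ring of Krull dimension d and I the ideal generated by a system of
parameters g_1, ..., g_d (d elements of the maximal ideal generating an ideal with radical the
maximal ideal); let e_I be the multiplicity of I, i.e. d! times the top coefficient of the numerical
polynomial n ↦ length(R/I^(n+1)), equivalently the limit of d!·length(R/Iⁿ)/n^d. Then e_I ≤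
length(R/I). (Stated for a natural number e equal to that limit.) -/
theorem result (R : Type u) [CommRing R] [IsNoetherianRing R] [IsLocalRing R]
    (d : ℕ) (hd : ringKrullDim R = d) (g : Fin d → R) (hg : ∀ i, g i ∈ IsLocalRing.maximalIdeal R)
    (hsop : IsLocalRing.maximalIdeal R ≤ (Ideal.span (Set.range g)).radical) (e : ℕ)
    (he : Tendsto (fun n : ℕ => (d.factorial : ℝ) * ((Module.length R (R ⧸ Ideal.span (Set.range g) ^ n)).toNat : ℝ) / (n : ℝ) ^ d)
      atTop (nhds (e : ℝ))) :
    (e : ℕ∞) ≤ Module.length R (R ⧸ Ideal.span (Set.range g)) := by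
  by_cases htop : Module.length R (R ⧸ Ideal.span (Set.range g)) = ⊤
  · rw [htop]; exact le_top
  have hL := ENat.natCast_toNat htop
  have hbound : ∀ n, (Module.length R (R ⧸ Ideal.span (Set.range g) ^ n)).toNat ≤
      Groth.Agent.Lib.Helper11.HS.Bmon d n *
        (Module.length R (R ⧸ Ideal.span (Set.range g))).toNat := by
    intro n
    have h1 := Groth.Agent.Lib.Helper11.HS.length_quot_pow_le g n
    rw [← hL] at h1
    have h2 : ((Groth.Agent.Lib.Helper11.HS.Bmon d n : ℕ∞) *
        ((Module.length R (R ⧸ Ideal.span (Set.range g))).toNat : ℕ∞)) =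
        ((Groth.Agent.Lib.Helper11.HS.Bmon d n *
          (Module.length R (R ⧸ Ideal.span (Set.range g))).toNat : ℕ) : ℕ∞) := by
      push_cast; rfl
    rw [h2] at h1
    have h3 := ENat.toNat_le_toNat h1 (ENat.natCast_ne_top _)
    rwa [ENat.toNat_natCast] at h3
  have hle := Groth.Agent.Lib.Helper11.HS.limit_le_of_le_Bmon
    (fun n => (Module.length R (R ⧸ Ideal.span (Set.range g) ^ n)).toNat) d
    (Module.length R (R ⧸ Ideal.span (Set.range g))).toNat (e : ℝ) hbound he
  rw [← hL]
  exact_mod_cast hle

end Groth.Agent.S7146
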