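import Groth.Statements.S7147
import Mathlib
import Groth.Agent.Lib.Helper20.SerreSplitLoc

set_option autoImplicit false
universe u
open CAlg

namespace Groth.Agent.S7147


open Groth.Agent.Lib.Helper20

/-- Let R be a ring, M a finitely presented R-module and x a maximal ideal of R with residue field κ(x);
write M(x) = M/xM and let B(x) ⊆ M(x) be the orthogonal of the image of Hom_R(M, R) in the dual of
M(x), i.e. the classes of those m in M with φ(m) in x for every linear form φ on M, and V(x) =
M(x)/B(x). For s_1, ..., s_r in M the following are equivalent: (1) there is f in R, f not in x,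
such that the map R_f^r → M_f given by the s_i is the inclusion of a direct summand; (2) the images
of s_1, ..., s_r in V(x) are linearly independent over κ(x). -/
theorem result (R : Type u) [CommRing R] (M : Type u)
    [AddCommGroup M] [Module R M] [Module.FinitePresentation R M] (x : Ideal R) [x.IsMaximal]
    (r : ℕ) (s : Fin r → M) :
    let Mx := M ⧸ (x • ⊤ : Submodule R M)
    let Bx : Submodule (R ⧸ x) Mx :=
      Submodule.span (R ⧸ x) ((x • ⊤ : Submodule R M).mkQ '' {m : M | ∀ φ : M →ₗ[R] R, φ m ∈ x})
    (∃ f : R, f ∉ x ∧
      ∃ g : LocalizedModule (Submonoid.powers f) M →ₗ[Localization.Away f] (Fin r → Localization.Away f),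
        g ∘ₗ Fintype.linearCombination (Localization.Away f)
            (fun i => LocalizedModule.mkLinearMap (Submonoid.powers f) M (s i)) = LinearMap.id) ↔
    LinearIndependent (R ⧸ x) (fun i => Bx.mkQ ((x • ⊤ : Submodule R M).mkQ (s i))) := by
  intro Mx Bx
  let x' : MaximalSpectrum R := ⟨x, inferInstance⟩
  change _ ↔ LinearIndependent (R ⧸ x'.asIdeal) (fun i => SerreSplit.img x' (s i))
  constructor
  · rintro ⟨f, hfx, g, hg⟩
    obtain ⟨φ, hφ⟩ := SerreSplit.det_notMem_of_retraction x' s f hfx g hg
    exact SerreSplit.li_of_det x' s φ hφ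
  · intro hli
    obtain ⟨φ, hφ⟩ := SerreSplit.det_of_li x' s hli
    exact ⟨_, hφ, SerreSplit.exists_retraction_of_det s φ⟩

end Groth.Agent.S7147
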