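import Groth.Statements.S7150
import Mathlib
import Groth.Agent.Lib.Helper23.FieldSep

set_option autoImplicit false
universe u
open EtAlg

namespace Groth.Agent.S7150
open IsLocalRing

theorem lift_section (R B : Type u) [CommRing R] [CommRing B] [IsLocalRing B] [Algebra R B]
    (hnil : ∃ n : ℕ, maximalIdeal B ^ n = ⊥)
    [Algebra R (ResidueField B)] [IsScalarTower R B (ResidueField B)]
    [Algebra.FormallySmooth R (ResidueField B)] :
    ∃ σ : ResidueField B →ₐ[R] B, ∀ x, residue B (σ x) = x := by
  let g : B →ₐ[R] ResidueField B := IsScalarTower.toAlgHom R B (ResidueField B)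
  have hg : Function.Surjective g := residue_surjective
  have hk : RingHom.ker (g : B →+* ResidueField B) = maximalIdeal B := ker_residue
  have hg' : IsNilpotent (RingHom.ker (g : B →+* ResidueField B)) := by
    rw [hk]
    obtain ⟨n, hn⟩ := hnil
    exact ⟨n, hn⟩
  refine ⟨Algebra.FormallySmooth.liftOfSurjective (AlgHom.id R _) g hg hg', fun x => ?_⟩
  exact Algebra.FormallySmooth.liftOfSurjective_apply (AlgHom.id R _) g hg hg' x

theorem main (p : ℕ) (hp : p.Prime) (A : Type u) [CommRing A]
    [IsLocalRing A] [CharP A p] (hnil : ∃ n : ℕ, IsLocalRing.maximalIdeal A ^ n = ⊥) :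
    (∃ σ : IsLocalRing.ResidueField A →+* A, (IsLocalRing.residue A).comp σ = RingHom.id _) ∧
    ∀ (A' : Type u) [CommRing A'] [IsLocalRing A'] [Algebra A A'] [IsLocalHom (algebraMap A A')],
      (∃ n : ℕ, IsLocalRing.maximalIdeal A' ^ n = ⊥) →
      Algebra.IsGeometricallyReduced (IsLocalRing.ResidueField A) (IsLocalRing.ResidueField A') →
      ∀ σ : IsLocalRing.ResidueField A →+* A, (IsLocalRing.residue A).comp σ = RingHom.id _ →
        ∃ σ' : IsLocalRing.ResidueField A' →+* A', (IsLocalRing.residue A').comp σ' = RingHom.id _ ∧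
          σ'.comp (IsLocalRing.ResidueField.map (algebraMap A A')) = (algebraMap A A').comp σ := by
  haveI : Fact p.Prime := ⟨hp⟩
  constructor
  · letI : Algebra (ZMod p) A := ZMod.algebra A p
    letI : Algebra (ULift.{u} (ZMod p)) A := ULift.algebra' _ _
    haveI : Algebra.FormallySmooth (ULift.{u} (ZMod p)) (ResidueField A) :=
      Groth.Agent.Lib.Helper23.FieldSmooth.formallySmooth_of_perfectField _ _
    obtain ⟨σ, hσ⟩ := lift_section (ULift.{u} (ZMod p)) A hnil
    exact ⟨σ.toRingHom, RingHom.ext fun x => hσ x⟩
  · intro A' _ _ _ _ hnil' hgr σ hσ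
    letI : Algebra (ResidueField A) A' := ((algebraMap A A').comp σ).toAlgebra
    haveI : IsScalarTower (ResidueField A) A' (ResidueField A') := by
      refine IsScalarTower.of_algebraMap_eq fun x => ?_
      have hx : x = residue A (σ x) := (RingHom.congr_fun hσ x).symm
      conv_lhs => rw [hx]
      rfl
    haveI : Algebra.FormallySmooth (ResidueField A) (ResidueField A') :=
      (Groth.Agent.Lib.Helper23.FieldSep.formallySmooth_iff_isGeometricallyReduced _ _).mpr hgr
    obtain ⟨σ', hσ'⟩ := lift_section (ResidueField A) A' hnil'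
    refine ⟨σ'.toRingHom, RingHom.ext fun x => hσ' x, RingHom.ext fun x => ?_⟩
    exact σ'.commutes x


/-- Suppose p is a prime with p·1 = 0 in the local ring A and some power of the maximal ideal of A is
zero. Then the residue map A → κ_A has a section σ : κ_A → A that is a ring map. If moreover A → A'
is a local homomorphism to another local ring whose maximal ideal has a vanishing power, and the
residue field extension κ_{A'}/κ_A is separable (possibly transcendental, i.e. geometrically
reduced), then for any such σ there is a section σ' : κ_{A'} → A' compatible with σ. -/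
theorem result (p : ℕ) (hp : p.Prime) (A : Type u) [CommRing A]
    [IsLocalRing A] [CharP A p] (hnil : ∃ n : ℕ, IsLocalRing.maximalIdeal A ^ n = ⊥) :
    (∃ σ : IsLocalRing.ResidueField A →+* A, (IsLocalRing.residue A).comp σ = RingHom.id _) ∧
    ∀ (A' : Type u) [CommRing A'] [IsLocalRing A'] [Algebra A A'] [IsLocalHom (algebraMap A A')],
      (∃ n : ℕ, IsLocalRing.maximalIdeal A' ^ n = ⊥) →
      Algebra.IsGeometricallyReduced (IsLocalRing.ResidueField A) (IsLocalRing.ResidueField A') →
      ∀ σ : IsLocalRing.ResidueField A →+* A, (IsLocalRing.residue A).comp σ = RingHom.id _ →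
        ∃ σ' : IsLocalRing.ResidueField A' →+* A', (IsLocalRing.residue A').comp σ' = RingHom.id _ ∧
          σ'.comp (IsLocalRing.ResidueField.map (algebraMap A A')) = (algebraMap A A').comp σ := by
  exact main p hp A hnil

end Groth.Agent.S7150
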