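import Groth.Statements.S7153
import Mathlib.RingTheory.Filtration
-- import your own Groth.Agent.* helpers here

set_option autoImplicit false
universe u
open CAlg

namespace Groth.Agent.S7153

/-- Let A be a Noetherian ring, I an ideal and K → L → M a complex of finite A-modules with maps α, β
and homology H = Ker β / Im α; for n ≥ 0 let H_n be the homology of the induced complex K/IⁿK →
L/IⁿL → M/IⁿM, which is β⁻¹(IⁿM)/(Im α + IⁿL). Then there is c > 0 such that for every n: (i) the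
image of H_(n+c) → H_n is contained in, hence equal to, the image of H → H_n; (ii) the kernel and
the cokernel of H/IⁿH → H_n are annihilated by I^c. Everything is phrased with representatives in L. -/
theorem result (A : Type u) [CommRing A] [IsNoetherianRing A] (I : Ideal A)
    (K L M : Type u) [AddCommGroup K] [Module A K] [Module.Finite A K] [AddCommGroup L] [Module A L]
    [Module.Finite A L] [AddCommGroup M] [Module A M] [Module.Finite A M]
    (α : K →ₗ[A] L) (β : L →ₗ[A] M) (hαβ : β ∘ₗ α = 0) :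
    ∃ c : ℕ, 0 < c ∧ ∀ n : ℕ,
      (∀ y ∈ (I ^ (n + c) • ⊤ : Submodule A M).comap β,
        ∃ z ∈ LinearMap.ker β, y - z ∈ LinearMap.range α ⊔ (I ^ n • ⊤ : Submodule A L)) ∧
      (∀ z ∈ LinearMap.ker β, z ∈ LinearMap.range α ⊔ (I ^ n • ⊤ : Submodule A L) →
        ∀ a ∈ I ^ c, a • z ∈ LinearMap.range α ⊔ I ^ n • LinearMap.ker β) ∧
      (∀ y ∈ (I ^ n • ⊤ : Submodule A M).comap β, ∀ a ∈ I ^ c,
        ∃ z ∈ LinearMap.ker β, a • y - z ∈ LinearMap.range α ⊔ (I ^ n • ⊤ : Submodule A L)) := by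
  obtain ⟨c₁, hc₁⟩ := Ideal.exists_pow_inf_eq_pow_smul I (LinearMap.range β)
  obtain ⟨c₂, hc₂⟩ := Ideal.exists_pow_inf_eq_pow_smul I (LinearMap.ker β)
  have AR1 : ∀ n k : ℕ, c₁ ≤ k → ∀ m : M, m ∈ (I ^ (k + n) • ⊤ : Submodule A M) → m ∈ LinearMap.range β →
      ∃ y' ∈ (I ^ n • ⊤ : Submodule A L), β y' = m := by
    intro n k hk m hm hmr
    have h1 : m ∈ (I ^ (k + n) • ⊤ : Submodule A M) ⊓ LinearMap.range β := ⟨hm, hmr⟩
    rw [hc₁ (k + n) (by omega)] at h1
    have hle : I ^ (k + n - c₁) • ((I ^ c₁ • ⊤ : Submodule A M) ⊓ LinearMap.range β) ≤ I ^ n • LinearMap.range β :=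
      Submodule.smul_mono (Ideal.pow_le_pow_right (by omega)) inf_le_right
    have h2 := hle h1
    rw [LinearMap.range_eq_map, ← Submodule.map_smul''] at h2
    obtain ⟨y', hy', hy'm⟩ := h2
    exact ⟨y', hy', hy'm⟩
  have AR2 : ∀ n k : ℕ, c₂ ≤ k → ∀ l : L, l ∈ (I ^ (k + n) • ⊤ : Submodule A L) → l ∈ LinearMap.ker β →
      l ∈ I ^ n • LinearMap.ker β := by
    intro n k hk l hl hlk
    have h1 : l ∈ (I ^ (k + n) • ⊤ : Submodule A L) ⊓ LinearMap.ker β := ⟨hl, hlk⟩
    rw [hc₂ (k + n) (by omega)] at h1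
    have hle : I ^ (k + n - c₂) • ((I ^ c₂ • ⊤ : Submodule A L) ⊓ LinearMap.ker β) ≤ I ^ n • LinearMap.ker β :=
      Submodule.smul_mono (Ideal.pow_le_pow_right (by omega)) inf_le_right
    exact hle h1
  have hsmul : ∀ {N : Type u} [AddCommGroup N] [Module A N] (c n : ℕ) (a : A) (x : N), a ∈ I ^ c →
      x ∈ (I ^ n • ⊤ : Submodule A N) → a • x ∈ (I ^ (c + n) • ⊤ : Submodule A N) := by
    intro N _ _ c n a x ha hx
    rw [pow_add, Submodule.mul_smul]
    exact Submodule.smul_mem_smul ha hx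
  refine ⟨max c₁ c₂ + 1, Nat.succ_pos _, fun n => ⟨?_, ?_, ?_⟩⟩
  · intro y hy
    have hy' : β y ∈ (I ^ ((max c₁ c₂ + 1) + n) • ⊤ : Submodule A M) := by
      rw [add_comm]; exact hy
    obtain ⟨y', hy'1, hy'2⟩ := AR1 n (max c₁ c₂ + 1) (by omega) (β y) hy' (LinearMap.mem_range_self β y)
    refine ⟨y - y', ?_, ?_⟩
    · rw [LinearMap.mem_ker, map_sub, hy'2, sub_self]
    · rw [sub_sub_cancel]
      exact Submodule.mem_sup_right hy'1
  · intro z hz hzs a ha
    obtain ⟨_, ⟨k, rfl⟩, l, hl, rfl⟩ := Submodule.mem_sup.mp hzs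
    have hlk : l ∈ LinearMap.ker β := by
      have h1 : β (α k + l) = 0 := hz
      have h2 : β (α k) = 0 := by
        have := congrArg (fun φ => φ k) hαβ
        simpa using this
      rw [map_add, h2, zero_add] at h1
      exact h1
    have h3 : a • l ∈ (I ^ ((max c₁ c₂ + 1) + n) • ⊤ : Submodule A L) := hsmul _ _ a l ha hl
    have h4 : a • l ∈ I ^ n • LinearMap.ker β :=
      AR2 n (max c₁ c₂ + 1) (by omega) (a • l) h3 ((LinearMap.ker β).smul_mem a hlk)
    rw [smul_add, ← map_smul]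
    exact Submodule.add_mem_sup (LinearMap.mem_range_self α _) h4
  · intro y hy a ha
    have hy' : β (a • y) ∈ (I ^ ((max c₁ c₂ + 1) + n) • ⊤ : Submodule A M) := by
      rw [map_smul]
      exact hsmul _ _ a (β y) ha hy
    obtain ⟨y', hy'1, hy'2⟩ := AR1 n (max c₁ c₂ + 1) (by omega) (β (a • y)) hy' (LinearMap.mem_range_self β _)
    refine ⟨a • y - y', ?_, ?_⟩
    · rw [LinearMap.mem_ker, map_sub, hy'2, sub_self]
    · rw [sub_sub_cancel]
      exact Submodule.mem_sup_right hy'1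

end Groth.Agent.S7153
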