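import Groth.Statements.S7177
import Groth.Agent.S7178
import Groth.Agent.Lib.Helper2.DiagFlat
import Mathlib.RingTheory.Flat.Localization
import Mathlib.Tactic
-- import your own Groth.Agent.* helpers here

set_option autoImplicit false
universe u
open FlatMor

namespace Groth.Agent.S7177

open AlgebraicGeometry CategoryTheory Limits


open Groth.Agent.Lib.Helper2

open TensorProduct in
theorem flat_diagonal_SpecMap_iff {R S : CommRingCat.{u}} (φ : R ⟶ S) :
    Flat (pullback.diagonal (Spec.map φ)) ↔
      (letI := φ.hom.toAlgebra; (Algebra.TensorProduct.lmul' R (S := S)).Flat) := by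
  let _ := φ.hom.toAlgebra
  rw [show φ = CommRingCat.ofHom (algebraMap R S) from rfl, diagonal_SpecMap R S,
    MorphismProperty.cancel_right_of_respectsIso (P := @Flat),
    HasRingHomProperty.Spec_iff (P := @Flat)]
  rfl

theorem key (R C Rq Cp N : Type u) [CommRing R] [CommRing C] [CommRing Rq] [CommRing Cp]
    [AddCommGroup N] [Module Cp N]
    [Algebra R C] [Algebra R Rq] [Algebra C Cp] [Algebra Rq Cp] [Algebra R Cp]
    [IsScalarTower R C Cp] [IsScalarTower R Rq Cp]
    (M : Submonoid R) [IsLocalization M Rq] (M' : Submonoid C) [IsLocalization M' Cp]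
    (hflat : (Algebra.TensorProduct.lmul' R (S := C)).Flat)
    (hN : (letI := Module.compHom N (algebraMap Rq Cp); Module.Flat Rq N)) :
    Module.Flat Cp N := by
  letI : Module Rq N := Module.compHom N (algebraMap Rq Cp)
  haveI : IsScalarTower Rq Cp N := IsScalarTower.of_algebraMap_smul fun r m => rfl
  letI : Module C N := Module.compHom N (algebraMap C Cp)
  haveI : IsScalarTower C Cp N := IsScalarTower.of_algebraMap_smul fun r m => rfl
  letI : Module R N := Module.compHom N (algebraMap R Cp)
  haveI : IsScalarTower R Cp N := IsScalarTower.of_algebraMap_smul fun r m => rfl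
  haveI : IsScalarTower R Rq N := by
    refine IsScalarTower.of_algebraMap_smul fun r m => ?_
    show algebraMap Rq Cp (algebraMap R Rq r) • m = algebraMap R Cp r • m
    rw [← IsScalarTower.algebraMap_apply]
  haveI : IsScalarTower R C N := by
    refine IsScalarTower.of_algebraMap_smul fun r m => ?_
    show algebraMap C Cp (algebraMap R C r) • m = algebraMap R Cp r • m
    rw [← IsScalarTower.algebraMap_apply]
  haveI : Module.Flat Rq N := hN
  haveI : Module.Flat R Rq := IsLocalization.flat Rq M
  haveI : Module.Flat R N := Module.Flat.trans R Rq N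
  haveI : Module.Flat C N := flat_of_flat_lmul' R C N hflat
  exact (Module.flat_iff_of_isLocalization Cp M' N).mpr inferInstance

open AlgebraicGeometry CategoryTheory Limits in
/-- Let f : X → Y have flat diagonal and let F be an O_X-module flat over Y. Then F is flat as an
O_X-module. -/
theorem result {X Y : Scheme.{u}} (f : X ⟶ Y) [Flat (pullback.diagonal f)] (F : X.Modules)
    (hF : FlatMod.IsFlatOver f F) : FlatMod.IsFlat F := by
  intro x
  obtain ⟨_, ⟨V, hV : IsAffineOpen V, rfl⟩, hxV, -⟩ :=
    Y.isBasis_affineOpens.exists_subset_of_mem_open (Set.mem_univ (f x)) isOpen_univ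
  obtain ⟨_, ⟨U, hU : IsAffineOpen U, rfl⟩, hxU, hUV⟩ :=
    X.isBasis_affineOpens.exists_subset_of_mem_open (show x ∈ ((f ⁻¹ᵁ V : X.Opens) : Set X) from hxV)
      (f ⁻¹ᵁ V).isOpen
  have hd : (MorphismProperty.diagonal @Flat) (f.resLE V U hUV) :=
    IsZariskiLocalAtSource.resLE (P := MorphismProperty.diagonal @Flat) hUV
      (show Flat (pullback.diagonal f) from inferInstance)
  have hd2 : Flat (pullback.diagonal (Spec.map (f.appLE V U hUV))) := by
    have h3 : (MorphismProperty.diagonal @Flat) (Spec.map (f.appLE V U hUV)) := by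
      rw [Groth.Agent.S7178.resLE_eq f U V hU hV hUV,
        MorphismProperty.cancel_left_of_respectsIso (P := MorphismProperty.diagonal @Flat),
        MorphismProperty.cancel_right_of_respectsIso (P := MorphismProperty.diagonal @Flat)] at hd
      exact hd
    exact h3
  rw [flat_diagonal_SpecMap_iff] at hd2
  letI := (f.appLE V U hUV).hom.toAlgebra
  letI := X.presheaf.algebra_section_stalk ⟨x, hxU⟩
  have hlocX := hU.isLocalization_stalk ⟨x, hxU⟩
  letI := Y.presheaf.algebra_section_stalk ⟨f x, hxV⟩
  have hlocY := hV.isLocalization_stalk ⟨f x, hxV⟩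
  letI : Algebra (Y.presheaf.stalk (f x)) (X.presheaf.stalk x) := (f.stalkMap x).hom.toAlgebra
  letI : Algebra Γ(Y, V) (X.presheaf.stalk x) :=
    ((algebraMap Γ(X, U) (X.presheaf.stalk x)).comp (algebraMap Γ(Y, V) Γ(X, U))).toAlgebra
  haveI : IsScalarTower Γ(Y, V) Γ(X, U) (X.presheaf.stalk x) :=
    IsScalarTower.of_algebraMap_eq fun r => rfl
  haveI : IsScalarTower Γ(Y, V) (Y.presheaf.stalk (f x)) (X.presheaf.stalk x) := by
    refine IsScalarTower.of_algebraMap_eq fun r => ?_
    show X.presheaf.germ U x hxU ((f.appLE V U hUV) r) =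
      (f.stalkMap x) (Y.presheaf.germ V (f x) hxV r)
    rw [Scheme.Hom.germ_stalkMap_apply, Scheme.Hom.appLE]
    simp only [CommRingCat.hom_comp, RingHom.coe_comp, Function.comp_apply,
      X.presheaf.germ_res_apply]
  exact key Γ(Y, V) Γ(X, U) (Y.presheaf.stalk (f x)) (X.presheaf.stalk x) (F.presheaf.stalk x)
    (hV.primeIdealOf ⟨f x, hxV⟩).asIdeal.primeCompl (hU.primeIdealOf ⟨x, hxU⟩).asIdeal.primeCompl
    hd2 (hF x)

end Groth.Agent.S7177
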