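import Groth.Statements.S7183
import Groth.Agent.Lib.Helper1.FQ5

set_option autoImplicit false
universe u
open FlatMor

namespace Groth.Agent.S7183

open AlgebraicGeometry CategoryTheory Limits in
/-- Let i : Z → X, j : Z → Y be closed immersions with pushout P, let X' → X and Y' → Y be morphisms
whose base changes to Z are identified (a scheme Z' cartesian over both), let P' be the pushout of
Z' → X' and Z' → Y' and h : P' → P the induced morphism. Then h is locally of finite type (resp.
flat, resp. flat and locally of finite presentation, resp. smooth, resp. étale) if and only if X' →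
X and Y' → Y both are. -/
theorem result {X Y Z P X' Y' Z' P' : Scheme.{u}}
    (i : Z ⟶ X) (j : Z ⟶ Y) [IsClosedImmersion i] [IsClosedImmersion j] (a : X ⟶ P) (b : Y ⟶ P) (hP : IsPushout i j a b)
    (f : X' ⟶ X) (g : Y' ⟶ Y) (i' : Z' ⟶ X') (j' : Z' ⟶ Y') (c : Z' ⟶ Z) (hX : IsPullback i' c f i) (hY : IsPullback j' c g j)
    (a' : X' ⟶ P') (b' : Y' ⟶ P') (hP' : IsPushout i' j' a' b') (h : P' ⟶ P) (ha : a' ≫ h = f ≫ a) (hb : b' ≫ h = g ≫ b) :
    (LocallyOfFiniteType h ↔ LocallyOfFiniteType f ∧ LocallyOfFiniteType g) ∧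
    (Flat h ↔ Flat f ∧ Flat g) ∧
    ((Flat h ∧ LocallyOfFinitePresentation h) ↔ (Flat f ∧ LocallyOfFinitePresentation f) ∧ (Flat g ∧ LocallyOfFinitePresentation g)) ∧
    (Smooth h ↔ Smooth f ∧ Smooth g) ∧
    (Etale h ↔ Etale f ∧ Etale g) := by
  haveI hi' : IsClosedImmersion i' :=
    MorphismProperty.of_isPullback (P := @IsClosedImmersion) hX.flip inferInstance
  haveI hj' : IsClosedImmersion j' :=
    MorphismProperty.of_isPullback (P := @IsClosedImmersion) hY.flip inferInstance
  have hc := Groth.Agent.Lib.Helper1.FP.covering_of_closedImmersions i j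
  have hc' := Groth.Agent.Lib.Helper1.FP.covering_of_closedImmersions i' j'
  let e := (Groth.Agent.Lib.Helper1.FP.isPushout_toP hc).isoIsPushout _ _ hP
  let e' := (Groth.Agent.Lib.Helper1.FP.isPushout_toP hc').isoIsPushout _ _ hP'
  have he1 : Groth.Agent.Lib.Helper1.FP.toP₁ hc ≫ e.hom = a := by simp [e]
  have he2 : Groth.Agent.Lib.Helper1.FP.toP₂ hc ≫ e.hom = b := by simp [e]
  have he1' : Groth.Agent.Lib.Helper1.FP.toP₁ hc' ≫ e'.hom = a' := by simp [e']
  have he2' : Groth.Agent.Lib.Helper1.FP.toP₂ hc' ≫ e'.hom = b' := by simp [e']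
  have hk : e'.hom ≫ h = Groth.Agent.Lib.Helper1.FP.BCh.k hX hY hc ≫ e.hom := by
    apply (Groth.Agent.Lib.Helper1.FP.isPushout_toP hc').hom_ext
    · rw [← Category.assoc, he1', ha, ← Category.assoc,
        Groth.Agent.Lib.Helper1.FP.BCh.toP₁_k hX hY hc hc', Category.assoc, he1]
    · rw [← Category.assoc, he2', hb, ← Category.assoc,
        Groth.Agent.Lib.Helper1.FP.BCh.toP₂_k hX hY hc hc', Category.assoc, he2]
  have hh : h = e'.inv ≫ Groth.Agent.Lib.Helper1.FP.BCh.k hX hY hc ≫ e.hom := by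
    rw [← hk, Iso.inv_hom_id_assoc]
  have key := Groth.Agent.Lib.Helper1.FP.BCh.props_k hX hY hc hc'
  have tr : ∀ (W : MorphismProperty Scheme.{u}) [W.RespectsIso],
      W h ↔ W (Groth.Agent.Lib.Helper1.FP.BCh.k hX hY hc) := by
    intro W _
    rw [hh]
    exact (W.cancel_left_of_respectsIso e'.inv _).trans (W.cancel_right_of_respectsIso _ e.hom)
  exact ⟨(tr @LocallyOfFiniteType).trans key.1, (tr @Flat).trans key.2.1,
    (and_congr (tr @Flat) (tr @LocallyOfFinitePresentation)).trans key.2.2.1,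
    (tr @Smooth).trans key.2.2.2.1, (tr @Etale).trans key.2.2.2.2⟩

end Groth.Agent.S7183
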