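import Groth.Statements.S7191
import Groth.Agent.Lib.Helper1.CDLim4
import Groth.Agent.Lib.Helper13.LimitDescent

set_option autoImplicit false
universe u
open CategoryTheory AlgebraicGeometry
open FlatMor

namespace Groth.Agent.S7191

/-- Let S = lim S_i be a cofiltered limit of schemes with affine transition morphisms, f₀ : X₀ → Y₀ a
morphism over some S_{i₀} with Y₀ quasi-compact and quasi-separated and f₀ locally of finite
presentation, and f : X → Y its base change to S. If f is completely decomposed (every point of Y is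
the image of a point of X with the same residue field), then some base change f_i : X_i → Y_i of f₀
to an S_i, i → i₀, is completely decomposed. -/
theorem result {I : Type u} [SmallCategory I] [IsCofiltered I]
    (D : I ⥤ Scheme.{u}) (c : Limits.Cone D) (hc : Limits.IsLimit c)
    [∀ (i j : I) (a : i ⟶ j), IsAffineHom (D.map a)]
    (i0 : I) {X0 Y0 X Y : Scheme.{u}} (f0 : X0 ⟶ Y0) (q0 : Y0 ⟶ D.obj i0) [CompactSpace ↥Y0] [QuasiSeparatedSpace ↥Y0]
    [LocallyOfFinitePresentation f0]
    (f : X ⟶ Y) (q : Y ⟶ c.pt) (pY : Y ⟶ Y0) (pX : X ⟶ X0)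
    (hY : IsPullback pY q q0 (c.π.app i0)) (hX : IsPullback pX f f0 pY)
    (hcd : ∀ y : Y, ∃ x : X, f x = y ∧ Function.Bijective (f.residueFieldMap x)) :
    ∃ (i : I) (a : i ⟶ i0) (Xi Yi : Scheme.{u}) (fi : Xi ⟶ Yi) (qi : Yi ⟶ D.obj i) (pYi : Yi ⟶ Y0) (pXi : Xi ⟶ X0),
      IsPullback pYi qi q0 (D.map a) ∧ IsPullback pXi fi f0 pYi ∧
      ∀ y : Yi, ∃ x : Xi, fi x = y ∧ Function.Bijective (fi.residueFieldMap x) := by
  classical
  have : ∀ {i j : I} (a : i ⟶ j), IsAffineHom (D.map a) := fun a => inferInstance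
  let E : Over i0 ⥤ Scheme.{u} := Groth.Agent.Lib.Helper5.bcDiagram D i0 q0
  let e : Limits.Cone E := Groth.Agent.Lib.Helper5.bcCone D c i0 q0
  have he : Limits.IsLimit e := Groth.Agent.Lib.Helper5.isLimitBcCone D c hc i0 q0
  have hsnd : ∀ j : Over i0, IsAffineHom (Limits.pullback.snd (D.map j.hom) q0) := fun j =>
    MorphismProperty.pullback_snd _ _ inferInstance
  have hcs : ∀ j, CompactSpace (E.obj j) := by
    intro j
    have h1 := hsnd j
    have h2 : QuasiCompact (Limits.pullback.snd (D.map j.hom) q0) := inferInstance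
    change CompactSpace ↥(Limits.pullback (D.map j.hom) q0)
    exact QuasiCompact.compactSpace_of_compactSpace (Limits.pullback.snd (D.map j.hom) q0)
  have hqs : ∀ j, QuasiSeparatedSpace (E.obj j) := by
    intro j
    have h1 := hsnd j
    have h2 : QuasiSeparated (Limits.pullback.snd (D.map j.hom) q0) := inferInstance
    change QuasiSeparatedSpace ↥(Limits.pullback (D.map j.hom) q0)
    exact quasiSeparatedSpace_of_quasiSeparated (Limits.pullback.snd (D.map j.hom) q0)
  have haff : ∀ {j k : Over i0} (φ : j ⟶ k), IsAffineHom (E.map φ) := fun φ =>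
    (inferInstance : IsAffineHom ((Groth.Agent.Lib.Helper5.bcDiagram D i0 q0).map φ))
  let t : E ⟶ (Functor.const (Over i0)).obj Y0 :=
    { app := fun j => Limits.pullback.snd (D.map j.hom) q0
      naturality := fun j k φ => by
        refine Eq.trans ?_ (Category.comp_id _).symm
        exact Limits.pullback.lift_snd _ _ _ }
  let q' : e.pt ⟶ Y0 := Limits.pullback.snd (c.π.app i0) q0
  have hq : ∀ j, e.π.app j ≫ t.app j = q' := fun j =>
    Groth.Agent.Lib.Helper5.bcCone_π_app_snd D c i0 q0 j
  have hlim : ∀ y' : e.pt, Groth.Agent.Lib.Helper1.CDLim.LiftableTo f0 q' y' := by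
    intro y'
    let ι := Groth.Agent.Lib.Helper13.LimitDescent.isoY hY
    obtain ⟨x, hx, hbij⟩ := hcd (ι.inv y')
    have h1 := Groth.Agent.Lib.Helper1.CDLim.liftableTo_of_bijective hX.w x hbij
    rw [hx] at h1
    have h2 := h1.comp ι.inv
    have h3 : ι.inv ≫ pY = q' := by
      rw [Iso.inv_comp_eq]
      exact (Groth.Agent.Lib.Helper13.LimitDescent.isoY_hom_snd hY).symm
    rwa [h3] at h2
  obtain ⟨j, hj⟩ := Groth.Agent.Lib.Helper1.CDLim.exists_stage_liftableTo E e he f0 t q' hq hlim
  refine Groth.Agent.Lib.Helper13.LimitDescent.conclusion D i0 f0 q0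
    (fun {A B} (fi : A ⟶ B) => ∀ y : B, ∃ x : A, fi x = y ∧
      Function.Bijective (fi.residueFieldMap x)) j ?_
  intro w
  exact (Groth.Agent.Lib.Helper1.CDLim.liftableTo_iff
    (Groth.Agent.Lib.Helper13.LimitDescent.isPullback_Xj D i0 f0 q0 j) w).mp (hj w)

end Groth.Agent.S7191
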