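import Groth.Statements.S7199
import Mathlib
import Groth.Agent.Lib.Helper11.AlgInd1
import Groth.Agent.Lib.Helper11.AlgInd2

set_option autoImplicit false
universe u
open FlatMor

namespace Groth.Agent.S7199

/-- Take a field k, an integral domain A that is a finitely generated k-algebra, n ≥ 2 and g_1, …, g_n ∈
A, and suppose some irreducible component of the common zero locus of g_1 and g_2 in Spec A has
dimension dim A − 2. Then for suitable c_1, …, c_n ∈ k the n + 2 elements x_1, …, x_n, Σ g_i x_i, Σ
c_i g_i of the rational function field Frac(A)(x_1, …, x_n) form an algebraically independent family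
over k. -/
theorem result {k A : Type u} [Field k] [CommRing A] [IsDomain A] [Algebra k A]
    [Algebra.FiniteType k A] (m : ℕ) (g : Fin (m + 2) → A)
    (p : Ideal A) (hp : p ∈ (Ideal.span {g 0, g 1}).minimalPrimes) (hdim : ringKrullDim (A ⧸ p) + 2 = ringKrullDim A) :
    ∃ c : Fin (m + 2) → k,
      AlgebraicIndependent k
        (Sum.elim
          (fun i : Fin (m + 2) => algebraMap (MvPolynomial (Fin (m + 2)) (FractionRing A)) (FractionRing (MvPolynomial (Fin (m + 2)) (FractionRing A))) (MvPolynomial.X i))
          ![∑ i, algebraMap A (FractionRing (MvPolynomial (Fin (m + 2)) (FractionRing A))) (g i) *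
              algebraMap (MvPolynomial (Fin (m + 2)) (FractionRing A)) (FractionRing (MvPolynomial (Fin (m + 2)) (FractionRing A))) (MvPolynomial.X i),
            algebraMap A (FractionRing (MvPolynomial (Fin (m + 2)) (FractionRing A))) (∑ i, c i • g i)]) := by
  classical
  have hind := Groth.Agent.Lib.Helper11.AlgInd.algebraicIndependent_of_codim_two k A (g 0) (g 1) p hp hdim
  set K := FractionRing A with hK
  set R := MvPolynomial (Fin (m + 2)) K with hR
  set L := FractionRing R with hL
  have hinjK : Function.Injective (algebraMap A K) := IsFractionRing.injective A K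
  have hindK : AlgebraicIndependent k ![algebraMap A K (g 1), algebraMap A K (g 0)] := by
    have := hind.map' (f := IsScalarTower.toAlgHom k A K) hinjK
    convert this using 1
    funext i
    fin_cases i <;> rfl
  have key := Groth.Agent.Lib.Helper11.AlgInd.algebraicIndependent_X_linear (k := k) (K := K) (m + 1)
    (fun i => algebraMap A K (g i)) (algebraMap A K (g 1)) hindK
  have hinjL : Function.Injective (algebraMap R L) := IsFractionRing.injective R L
  have key2 := key.map' (f := IsScalarTower.toAlgHom k R L) hinjL
  refine ⟨(Pi.single (1 : Fin (m + 2)) (1 : k) : Fin (m + 2) → k), ?_⟩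
  have hc : (∑ i, (Pi.single (1 : Fin (m + 2)) (1 : k) : Fin (m + 2) → k) i • g i) = g 1 := by
    rw [Finset.sum_eq_single (1 : Fin (m + 2))]
    · simp
    · intro i _ hi
      simp [Pi.single_apply, hi]
    · intro h; exact absurd (Finset.mem_univ _) h
  rw [hc]
  have hAL : ∀ a : A, algebraMap A L a = algebraMap R L (MvPolynomial.C (algebraMap A K a)) := by
    intro a
    rw [IsScalarTower.algebraMap_apply A R L, IsScalarTower.algebraMap_apply A K R]
    rfl
  convert key2 using 1
  funext s
  rcases s with i | j
  · rfl
  · fin_cases j
    · simp only [Function.comp_apply, Sum.elim_inr]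
      show (∑ i, algebraMap A L (g i) * algebraMap R L (MvPolynomial.X i)) =
        (IsScalarTower.toAlgHom k R L) (∑ i, MvPolynomial.C (algebraMap A K (g i)) * MvPolynomial.X i)
      rw [map_sum]
      refine Finset.sum_congr rfl fun i _ => ?_
      rw [map_mul, hAL]
      rfl
    · simp only [Function.comp_apply, Sum.elim_inr]
      show algebraMap A L (g 1) = (IsScalarTower.toAlgHom k R L) (MvPolynomial.C (algebraMap A K (g 1)))
      rw [hAL]
      rfl

end Groth.Agent.S7199
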