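import Groth.Statements.S7220
import Mathlib
import Groth.Agent.Helper19.H1Cot3
import Groth.Agent.Helper19.Conormal7
import Groth.Agent.Helper19.OmegaGrp
-- import your own Groth.Agent.* helpers here

set_option autoImplicit false
universe u
open CategoryTheory CategoryTheory.Limits AlgebraicGeometry Opposite TopologicalSpace
attribute [local instance] HasDerivedCategory.standard
open FlatMor

namespace Groth.Agent.S7220

section helpers

open scoped TensorProduct
open Groth.Agent.Lib.Helper29.QCoh Groth.Agent.Helper19.OmegaD Groth.Agent.Helper19.Conormal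
open Groth.Agent.Helper19.H1Cot Groth.Agent.Helper19.OmegaGrp

variable {Z X : Scheme.{u}} (i : Z ⟶ X)

section chart

variable (U : Z.affineOpens) (V : X.affineOpens) (e : (U : Z.Opens) ≤ i ⁻¹ᵁ (V : X.Opens))

theorem appLE_eq_zero (x : Γ(X, (V : X.Opens))) (hx : x ∈ i.ker.ideal V) :
    (i.appLE (V : X.Opens) (U : Z.Opens) e).hom x = 0 := by
  have h1 : (i.app (V : X.Opens)).hom x = 0 := RingHom.mem_ker.mp (i.ideal_ker_le V hx)
  rw [Scheme.Hom.appLE]
  change (Z.presheaf.map (homOfLE e).op).hom ((i.app (V : X.Opens)).hom x) = 0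
  rw [h1, map_zero]

/-- The canonical map `Γ(C, U) → H¹(L_{Γ(Z,U)/Γ(X,V)})`. -/
noncomputable def kap :
    Γ(Omega.conormal i, (U : Z.Opens)) →ₗ[Γ(Z, (U : Z.Opens))] NLCx.ChartH1 i U V e :=
  letI := (i.appLE (V : X.Opens) (U : Z.Opens) e).hom.toAlgebra
  (kappa (B := Γ(Z, (U : Z.Opens))) (i.ker.ideal V) (appLE_eq_zero i U V e)).comp
    (conormalSectionsEquiv i V.2 U.2 e).toLinearMap

set_option maxRecDepth 16000 in
theorem kap_clsV (x : i.ker.ideal V) :
    letI := (i.appLE (V : X.Opens) (U : Z.Opens) e).hom.toAlgebra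
    kap i U V e (clsV i V.2 e x) =
      iotaH Γ(X, (V : X.Opens)) Γ(Z, (U : Z.Opens)) x.1 (appLE_eq_zero i U V e x.1 x.2) := by
  letI := (i.appLE (V : X.Opens) (U : Z.Opens) e).hom.toAlgebra
  unfold kap
  rw [LinearMap.comp_apply]
  have h := conormalSectionsEquiv_clsV i V.2 e U.2 x
  change kappa (B := Γ(Z, (U : Z.Opens))) (i.ker.ideal V) (appLE_eq_zero i U V e)
    (conormalSectionsEquiv i V.2 U.2 e (clsV i V.2 e x)) = _
  rw [h, kappa_tmul, one_smul]

set_option maxRecDepth 16000 in
/-- Sections of the conormal sheaf over a chart are combinations of classes. -/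
theorem induction_clsV {P : Γ(Omega.conormal i, (U : Z.Opens)) → Prop}
    (h0 : P 0) (hadd : ∀ m m', P m → P m' → P (m + m'))
    (hsmul : ∀ (b : Γ(Z, (U : Z.Opens))) (x : i.ker.ideal V), P (b • clsV i V.2 e x))
    (m : Γ(Omega.conormal i, (U : Z.Opens))) : P m := by
  letI := (i.appLE (V : X.Opens) (U : Z.Opens) e).hom.toAlgebra
  have hm : m = (conormalSectionsEquiv i V.2 U.2 e).symm (conormalSectionsEquiv i V.2 U.2 e m) :=
    (LinearEquiv.symm_apply_apply _ _).symm
  rw [hm]
  generalize conormalSectionsEquiv i V.2 U.2 e m = t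
  induction t using TensorProduct.induction_on with
  | zero => rw [map_zero]; exact h0
  | add t t' ht ht' => rw [map_add]; exact hadd _ _ ht ht'
  | tmul b x =>
    have h1 : b ⊗ₜ[Γ(X, (V : X.Opens))] x = b • ((1 : Γ(Z, (U : Z.Opens))) ⊗ₜ[Γ(X, (V : X.Opens))] x) := by
      rw [TensorProduct.smul_tmul', smul_eq_mul, mul_one]
    rw [h1, map_smul, ← conormalSectionsEquiv_clsV i V.2 e U.2 x, LinearEquiv.symm_apply_apply]
    exact hsmul b x

end chart

section nat

variable {U U' : Z.affineOpens} {V V' : X.affineOpens}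
  (e : (U : Z.Opens) ≤ i ⁻¹ᵁ (V : X.Opens)) (e' : (U' : Z.Opens) ≤ i ⁻¹ᵁ (V' : X.Opens))
  (hU : (U' : Z.Opens) ≤ (U : Z.Opens)) (hV : (V' : X.Opens) ≤ (V : X.Opens))

theorem res_mem_ideal (x : Γ(X, (V : X.Opens))) (hx : x ∈ i.ker.ideal V) :
    (X.presheaf.map (homOfLE hV).op).hom x ∈ i.ker.ideal V' :=
  i.ker.ideal_le_comap_ideal (U := V') (V := V) hV hx

/-- Restriction of an element of the ideal. -/
noncomputable def resI (x : i.ker.ideal V) : i.ker.ideal V' :=
  ⟨(X.presheaf.map (homOfLE hV).op).hom x.1, res_mem_ideal i hV x.1 x.2⟩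

theorem clsV_res (x : i.ker.ideal V) :
    res (Omega.conormal i) hU (clsV i V.2 e x) = clsV i V'.2 e' (resI i hV x) := by
  unfold clsV cls
  rw [res_res]
  have h1 : (idealModSectionsEquiv i.ker V').symm (resI i hV x) =
      res (ClSub.idealMod i.ker) hV ((idealModSectionsEquiv i.ker V).symm x) := by
    apply (idealModSectionsEquiv i.ker V').injective
    rw [LinearEquiv.apply_symm_apply]
    apply Subtype.ext
    have h2 := idealSect_res i.ker hV ((idealModSectionsEquiv i.ker V).symm x)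
    rw [idealSect_symm i V.2 x] at h2
    exact h2.symm
  rw [h1]
  have h3 : OmegaSh.conormalSect i (V' : X.Opens)
      (res (ClSub.idealMod i.ker) hV ((idealModSectionsEquiv i.ker V).symm x)) =
      res (Omega.conormal i) (i.preimage_mono hV)
        (OmegaSh.conormalSect i (V : X.Opens) ((idealModSectionsEquiv i.ker V).symm x)) :=
    pullSect_res i (ClSub.idealMod i.ker) hV _
  rw [h3, res_res]

set_option maxRecDepth 16000 in
theorem chartRes_smul_iotaH (b : Γ(Z, (U : Z.Opens))) (x : i.ker.ideal V) :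
    letI := (i.appLE (V : X.Opens) (U : Z.Opens) e).hom.toAlgebra
    letI := (i.appLE (V' : X.Opens) (U' : Z.Opens) e').hom.toAlgebra
    NLCx.chartRes e e' hU hV (b • iotaH Γ(X, (V : X.Opens)) Γ(Z, (U : Z.Opens)) x.1
        (appLE_eq_zero i U V e x.1 x.2)) =
      (Z.presheaf.map (homOfLE hU).op).hom b •
        iotaH Γ(X, (V' : X.Opens)) Γ(Z, (U' : Z.Opens)) (resI i hV x).1
          (appLE_eq_zero i U' V' e' (resI i hV x).1 (resI i hV x).2) := by
  letI := (i.appLE (V : X.Opens) (U : Z.Opens) e).hom.toAlgebra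
  letI := (i.appLE (V' : X.Opens) (U' : Z.Opens) e').hom.toAlgebra
  letI := (i.appLE (V : X.Opens) (U' : Z.Opens) (hU.trans e)).hom.toAlgebra
  letI := (Z.presheaf.map (homOfLE hU).op).hom.toAlgebra
  letI := (X.presheaf.map (homOfLE hV).op).hom.toAlgebra
  haveI : IsScalarTower Γ(X, (V : X.Opens)) Γ(X, (V' : X.Opens)) Γ(Z, (U' : Z.Opens)) :=
    IsScalarTower.of_algebraMap_eq' (by
      change (i.appLE _ _ _).hom = (i.appLE _ _ _).hom.comp (X.presheaf.map _).hom
      rw [← CommRingCat.hom_comp, Scheme.Hom.map_appLE])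
  haveI : IsScalarTower Γ(X, (V : X.Opens)) Γ(Z, (U : Z.Opens)) Γ(Z, (U' : Z.Opens)) :=
    IsScalarTower.of_algebraMap_eq' (by
      change (i.appLE _ _ _).hom = (Z.presheaf.map _).hom.comp (i.appLE _ _ _).hom
      rw [← CommRingCat.hom_comp, Scheme.Hom.appLE_map])
  change (Algebra.H1Cotangent.map Γ(X, (V : X.Opens)) Γ(X, (V' : X.Opens)) Γ(Z, (U : Z.Opens))
    Γ(Z, (U' : Z.Opens))) (b • iotaH Γ(X, (V : X.Opens)) Γ(Z, (U : Z.Opens)) x.1
        (appLE_eq_zero i U V e x.1 x.2)) = _
  rw [map_smul, map_iotaH, ← algebraMap_smul Γ(Z, (U' : Z.Opens)) b]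
  rfl

set_option maxRecDepth 16000 in
theorem chartRes_smul (b : Γ(Z, (U : Z.Opens))) (h : NLCx.ChartH1 i U V e) :
    NLCx.chartRes e e' hU hV (b • h) =
      (Z.presheaf.map (homOfLE hU).op).hom b • NLCx.chartRes e e' hU hV h := by
  letI := (i.appLE (V : X.Opens) (U : Z.Opens) e).hom.toAlgebra
  letI := (i.appLE (V' : X.Opens) (U' : Z.Opens) e').hom.toAlgebra
  letI := (i.appLE (V : X.Opens) (U' : Z.Opens) (hU.trans e)).hom.toAlgebra
  letI := (Z.presheaf.map (homOfLE hU).op).hom.toAlgebra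
  letI := (X.presheaf.map (homOfLE hV).op).hom.toAlgebra
  haveI : IsScalarTower Γ(X, (V : X.Opens)) Γ(X, (V' : X.Opens)) Γ(Z, (U' : Z.Opens)) :=
    IsScalarTower.of_algebraMap_eq' (by
      change (i.appLE _ _ _).hom = (i.appLE _ _ _).hom.comp (X.presheaf.map _).hom
      rw [← CommRingCat.hom_comp, Scheme.Hom.map_appLE])
  haveI : IsScalarTower Γ(X, (V : X.Opens)) Γ(Z, (U : Z.Opens)) Γ(Z, (U' : Z.Opens)) :=
    IsScalarTower.of_algebraMap_eq' (by
      change (i.appLE _ _ _).hom = (Z.presheaf.map _).hom.comp (i.appLE _ _ _).hom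
      rw [← CommRingCat.hom_comp, Scheme.Hom.appLE_map])
  change (Algebra.H1Cotangent.map Γ(X, (V : X.Opens)) Γ(X, (V' : X.Opens)) Γ(Z, (U : Z.Opens))
    Γ(Z, (U' : Z.Opens))) (b • h) = (Z.presheaf.map (homOfLE hU).op).hom b •
    (Algebra.H1Cotangent.map Γ(X, (V : X.Opens)) Γ(X, (V' : X.Opens)) Γ(Z, (U : Z.Opens))
    Γ(Z, (U' : Z.Opens))) h
  rw [map_smul, ← algebraMap_smul Γ(Z, (U' : Z.Opens)) b]
  rfl

theorem chartRes_zero :
    NLCx.chartRes e e' hU hV 0 = 0 := map_zero _

set_option maxRecDepth 16000 in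
theorem kap_res (m : Γ(Omega.conormal i, (U : Z.Opens))) :
    kap i U' V' e' (res (Omega.conormal i) hU m) = NLCx.chartRes e e' hU hV (kap i U V e m) := by
  induction m using induction_clsV i U V e with
  | h0 => rw [map_zero, map_zero, map_zero, map_zero]
  | hadd m m' hm hm' => rw [map_add, map_add, map_add, map_add, hm, hm']
  | hsmul b x =>
    rw [res_smul, clsV_res i e e' hU hV x, map_smul, map_smul, kap_clsV, kap_clsV]
    exact (chartRes_smul_iotaH i e e' hU hV b x).symm

end nat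

section bij

variable [IsImmersion i] [QuasiCompact i]
  (U : Z.affineOpens) (V : X.affineOpens) (e : (U : Z.Opens) ≤ i ⁻¹ᵁ (V : X.Opens))

/-- `a ∈ Γ(X,V)` cuts out a closed sub-chart `(D(a|_U), D(a))` of `(U, V)`. -/
def IsGood (a : Γ(X, (V : X.Opens))) : Prop :=
  X.basicOpen a ≤ i.coborderRange ∧
    Z.basicOpen ((i.appLE (V : X.Opens) (U : Z.Opens) e).hom a) = i ⁻¹ᵁ (X.basicOpen a)

theorem exists_isGood (z : Z) (hz : z ∈ (U : Z.Opens)) :
    ∃ a : Γ(X, (V : X.Opens)), IsGood i U V e a ∧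
      z ∈ Z.basicOpen ((i.appLE (V : X.Opens) (U : Z.Opens) e).hom a) := by
  obtain ⟨W, -, hWc, hWV, hzW, hWU⟩ := exists_cb i z (U : Z.Opens) hz (V : X.Opens) (e hz)
  obtain ⟨a, haW, hza⟩ := V.2.exists_basicOpen_le ⟨i z, hzW⟩ (e hz)
  have h1 : Z.basicOpen ((i.appLE (V : X.Opens) (U : Z.Opens) e).hom a) =
      i ⁻¹ᵁ (X.basicOpen a) := by
    rw [Scheme.Hom.appLE]
    change Z.basicOpen ((Z.presheaf.map (homOfLE e).op).hom ((i.app (V : X.Opens)).hom a)) = _
    rw [Scheme.basicOpen_res, Scheme.preimage_basicOpen]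
    apply le_antisymm inf_le_right
    apply le_inf _ le_rfl
    rw [← Scheme.preimage_basicOpen]
    exact (i.preimage_mono haW).trans hWU
  refine ⟨a, ⟨haW.trans hWc, h1⟩, ?_⟩
  rw [h1]
  exact hza

set_option maxRecDepth 16000 in
theorem kap_bijective_of_isClosedChart (hc : IsClosedChart i V.2 e) :
    Function.Bijective (kap i U V e) := by
  letI := (i.appLE (V : X.Opens) (U : Z.Opens) e).hom.toAlgebra
  have h1 := kappa_bijective_of_surjective Γ(X, (V : X.Opens)) Γ(Z, (U : Z.Opens)) hc.1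
    (i.ker.ideal V) hc.2 (appLE_eq_zero i U V e)
  exact h1.comp (conormalSectionsEquiv i V.2 U.2 e).bijective

/-- The sub-chart cut out by `a`. -/
noncomputable abbrev subU (a : Γ(X, (V : X.Opens))) : Z.affineOpens :=
  ⟨Z.basicOpen ((i.appLE (V : X.Opens) (U : Z.Opens) e).hom a),
    U.2.basicOpen ((i.appLE (V : X.Opens) (U : Z.Opens) e).hom a)⟩

noncomputable abbrev subV (a : Γ(X, (V : X.Opens))) : X.affineOpens :=
  ⟨X.basicOpen a, V.2.basicOpen a⟩

variable {i U V e} in
theorem IsGood.le {a : Γ(X, (V : X.Opens))} (ha : IsGood i U V e a) :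
    (subU i U V e a : Z.Opens) ≤ i ⁻¹ᵁ (subV (X := X) V a : X.Opens) := le_of_eq ha.2

variable {i U V e} in
theorem IsGood.bijective {a : Γ(X, (V : X.Opens))} (ha : IsGood i U V e a) :
    Function.Bijective (kap i (subU i U V e a) (subV V a) ha.le) :=
  kap_bijective_of_isClosedChart i _ _ _ (isClosedChart_of_eq i (subV (X := X) V a).2 ha.1 ha.2)

set_option maxRecDepth 16000 in
variable {i U V e} in
theorem IsGood.eq_zero_imp {a : Γ(X, (V : X.Opens))} (ha : IsGood i U V e a)
    (x : NLCx.ChartH1 i U V e)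
    (hx : NLCx.chartRes e ha.le (Z.basicOpen_le _) (X.basicOpen_le a) x = 0) :
    ∃ k : ℕ, ((i.appLE (V : X.Opens) (U : Z.Opens) e).hom a) ^ k • x = 0 := by
  letI := (i.appLE (V : X.Opens) (U : Z.Opens) e).hom.toAlgebra
  letI := (i.appLE (subV (X := X) V a : X.Opens) (subU i U V e a : Z.Opens) ha.le).hom.toAlgebra
  letI := (i.appLE (V : X.Opens) (subU i U V e a : Z.Opens)
    ((Z.basicOpen_le _).trans e)).hom.toAlgebra
  letI := (Z.presheaf.map (homOfLE (Z.basicOpen_le
    ((i.appLE (V : X.Opens) (U : Z.Opens) e).hom a))).op).hom.toAlgebra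
  letI := (X.presheaf.map (homOfLE (X.basicOpen_le a)).op).hom.toAlgebra
  haveI : IsScalarTower Γ(X, (V : X.Opens)) Γ(X, (subV (X := X) V a : X.Opens))
      Γ(Z, (subU i U V e a : Z.Opens)) :=
    IsScalarTower.of_algebraMap_eq' (by
      change (i.appLE _ _ _).hom = (i.appLE _ _ _).hom.comp (X.presheaf.map _).hom
      rw [← CommRingCat.hom_comp, Scheme.Hom.map_appLE])
  haveI : IsScalarTower Γ(X, (V : X.Opens)) Γ(Z, (U : Z.Opens)) Γ(Z, (subU i U V e a : Z.Opens)) :=
    IsScalarTower.of_algebraMap_eq' (by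
      change (i.appLE _ _ _).hom = (Z.presheaf.map _).hom.comp (i.appLE _ _ _).hom
      rw [← CommRingCat.hom_comp, Scheme.Hom.appLE_map])
  haveI : IsLocalization (Submonoid.powers a) Γ(X, (subV (X := X) V a : X.Opens)) :=
    V.2.isLocalization_basicOpen a
  haveI : IsLocalization.Away ((i.appLE (V : X.Opens) (U : Z.Opens) e).hom a)
      Γ(Z, (subU i U V e a : Z.Opens)) :=
    U.2.isLocalization_basicOpen _
  exact exists_pow_smul_eq_zero_of_map_eq_zero Γ(X, (V : X.Opens))
    Γ(X, (subV (X := X) V a : X.Opens)) Γ(Z, (U : Z.Opens)) Γ(Z, (subU i U V e a : Z.Opens))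
    (Submonoid.powers a) ((i.appLE (V : X.Opens) (U : Z.Opens) e).hom a) x hx

set_option maxRecDepth 16000 in
variable {i U V e} in
theorem IsGood.exists_pow_smul_mem_range {a : Γ(X, (V : X.Opens))} (ha : IsGood i U V e a)
    (h : NLCx.ChartH1 i U V e) :
    ∃ n : ℕ, ((i.appLE (V : X.Opens) (U : Z.Opens) e).hom a) ^ n • h ∈
      LinearMap.range (kap i U V e) := by
  obtain ⟨mb, hmb⟩ := ha.bijective.2
    (NLCx.chartRes e ha.le (Z.basicOpen_le _) (X.basicOpen_le a) h)
  obtain ⟨n, m, hnm⟩ := exists_pow_smul_eq_res (Omega.conormal i) U.2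
    ((i.appLE (V : X.Opens) (U : Z.Opens) e).hom a) mb
  have h1 : NLCx.chartRes e ha.le (Z.basicOpen_le _) (X.basicOpen_le a) (kap i U V e m) =
      NLCx.chartRes e ha.le (Z.basicOpen_le _) (X.basicOpen_le a)
        (((i.appLE (V : X.Opens) (U : Z.Opens) e).hom a) ^ n • h) := by
    rw [← kap_res i e ha.le (Z.basicOpen_le _) (X.basicOpen_le a) m, chartRes_smul, ← hmb,
      ← map_smul, map_pow]
    exact congrArg _ hnm.symm
  have h2 : NLCx.chartRes e ha.le (Z.basicOpen_le _) (X.basicOpen_le a)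
      (kap i U V e m - ((i.appLE (V : X.Opens) (U : Z.Opens) e).hom a) ^ n • h) = 0 := by
    rw [map_sub, h1, sub_self]
  obtain ⟨k, hk⟩ := ha.eq_zero_imp _ h2
  refine ⟨k + n, ⟨((i.appLE (V : X.Opens) (U : Z.Opens) e).hom a) ^ k • m, ?_⟩⟩
  rw [smul_sub, sub_eq_zero] at hk
  rw [map_smul, hk, smul_smul, ← pow_add]

set_option maxRecDepth 16000 in
theorem kap_bijective : Function.Bijective (kap i U V e) := by
  constructor
  · rw [injective_iff_map_eq_zero]
    intro m hm
    apply eq_zero_of_germ_eq_zero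
    intro z hz
    obtain ⟨a, ha, hza⟩ := exists_isGood i U V e z hz
    have h1 := kap_res i e ha.le (Z.basicOpen_le _) (X.basicOpen_le a) m
    rw [hm, chartRes_zero] at h1
    have h2 : res (Omega.conormal i) (Z.basicOpen_le _) m = 0 :=
      ha.bijective.1 (h1.trans (map_zero _).symm)
    rw [← germ_res (Omega.conormal i) (Z.basicOpen_le _) z hza m, h2, map_zero]
  · intro h
    let s : Set Γ(Z, (U : Z.Opens)) :=
      {b | ∃ a, IsGood i U V e a ∧ b = (i.appLE (V : X.Opens) (U : Z.Opens) e).hom a}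
    have hs : Ideal.span s = ⊤ := ideal_eq_top_of_forall_mem_basicOpen U.2 _ (fun z hz => by
      obtain ⟨a, ha, hza⟩ := exists_isGood i U V e z hz
      exact ⟨_, Ideal.subset_span ⟨a, ha, rfl⟩, hza⟩)
    have h3 := Submodule.mem_of_span_eq_top_of_smul_pow_mem (LinearMap.range (kap i U V e)) s hs h
      (by
        rintro ⟨b, a, ha, rfl⟩
        exact ha.exists_pow_smul_mem_range h)
    exact h3

end bij

section final

variable [IsImmersion i] [QuasiCompact i]

set_option maxRecDepth 16000 in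
/-- The system of identifications. -/
noncomputable def h1Sheaf : NLCx.H1Sheaf i (Omega.conormal i) where
  iso U V e := AddEquiv.ofBijective (kap i U V e).toAddMonoidHom (kap_bijective i U V e)
  map_smul U V e a m := (kap i U V e).map_smul a m
  map_res e e' hU hV m := kap_res i e e' hU hV m

theorem onCharts_subsingleton :
    NLCx.OnCharts i (fun A B _ _ _ => Subsingleton (Ω[B⁄A])) := by
  intro U V e
  have h : (i.appLE (V : X.Opens) (U : Z.Opens) e).hom.FormallyUnramified :=
    Scheme.Hom.formallyUnramified_appLE i V.2 U.2 e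
  letI := (i.appLE (V : X.Opens) (U : Z.Opens) e).hom.toAlgebra
  haveI : Algebra.FormallyUnramified Γ(X, (V : X.Opens)) Γ(Z, (U : Z.Opens)) := h
  infer_instance

end final

end helpers

/-- Let i : Z ⟶ X be a quasi-compact immersion. Then, in chart form, the naive cotangent complex
NL_{Z/X} is the conormal sheaf of Z in X placed in degree −1: (a) the conormal sheaf is the
cohomology sheaf H^{-1}(NL_{Z/X}) — its sections over every affine open U of Z mapping into an
affine open V of X can be identified with H^{-1} of the naive cotangent complex of Γ(Z, U) over Γ(X,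
V), compatibly with the action of functions and with restriction — and (b) the cohomology sheaf
H^0(NL_{Z/X}) = Ω_{Z/X} vanishes: for every such pair the module of Kähler differentials of Γ(Z, U)
over Γ(X, V) is zero. (In (a), existence of such a system of identifications only; the canonical
identification induced by the ideal-to-cotangent map is not pinned here. The published statement is
for an arbitrary immersion; this row takes i quasi-compact, which makes the kernel ideal sheaf used
to define the conormal sheaf the full kernel.) -/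
theorem result {Z X : Scheme.{u}} (i : Z ⟶ X) [IsImmersion i]
    [QuasiCompact i] :
    Nonempty (NLCx.H1Sheaf i (Omega.conormal i)) ∧
      NLCx.OnCharts i (fun A B _ _ _ => Subsingleton (Ω[B⁄A])) := by
  exact ⟨⟨h1Sheaf i⟩, onCharts_subsingleton i⟩

end Groth.Agent.S7220
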