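import Groth.Statements.S7223
import Mathlib
import Groth.Agent.Lib.Helper16.BcH1Fin

set_option autoImplicit false
universe u
open CategoryTheory CategoryTheory.Limits TensorProduct
attribute [local instance] HasDerivedCategory.standard
open FlatMor

namespace Groth.Agent.S7223

section helpers
open CategoryTheory CategoryTheory.Limits TensorProduct
attribute [local instance] HasDerivedCategory.standard
open FlatMor

theorem result_aux (A B A' B' : Type u) [CommRing A] [CommRing B]
    [CommRing A'] [CommRing B'] [Algebra A B] [Algebra A' B'] [Algebra A A'] [Algebra B B'] [Algebra A B']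
    [IsScalarTower A A' B'] [IsScalarTower A B B'] [Algebra.IsPushout A A' B B']
    (hB : LCI.IsLCI A B) (hB' : LCI.IsLCI A' B') :
    Module.Finite B' (LinearMap.ker (NLCx.bcH1Map
        ((Algebra.Generators.self A B).defaultHom (Algebra.Generators.self A' B')).toExtensionHom)) ∧
      Module.Projective B' (LinearMap.ker (NLCx.bcH1Map
        ((Algebra.Generators.self A B).defaultHom (Algebra.Generators.self A' B')).toExtensionHom)) := by
  obtain ⟨n, G, hG⟩ := Groth.Agent.Lib.Helper16.H1LCI.exists_generators hB
  have hsurj : Function.Surjective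
      (MvPolynomial.aeval (R := A') (fun i => algebraMap B B' (G.val i))) := by
    have hmap : ∀ p : MvPolynomial (Fin n) A,
        MvPolynomial.aeval (R := A') (fun i => algebraMap B B' (G.val i))
          (MvPolynomial.map (algebraMap A A') p) = algebraMap B B' (MvPolynomial.aeval G.val p) := by
      intro p
      induction p using MvPolynomial.induction_on with
      | C a =>
        simp only [MvPolynomial.map_C, MvPolynomial.aeval_C]
        rw [← IsScalarTower.algebraMap_apply, ← IsScalarTower.algebraMap_apply]
      | add p q hp hq => simp [hp, hq]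
      | mul_X p i hp => simp [hp]
    intro x
    refine (Algebra.IsPushout.out (R := A) (S := A') (R' := B) (S' := B')).inductionOn x _
      ⟨0, map_zero _⟩ ?_ ?_ ?_
    · intro m
      obtain ⟨p, rfl⟩ := G.aeval_val_surjective m
      exact ⟨MvPolynomial.map (algebraMap A A') p, hmap p⟩
    · rintro s y ⟨p, rfl⟩
      exact ⟨MvPolynomial.C s * p, by simp [Algebra.smul_def]⟩
    · rintro _ _ ⟨p, rfl⟩ ⟨q, rfl⟩
      exact ⟨p + q, map_add _ _ _⟩
  let G' : Algebra.Generators A' B' (Fin n) := Algebra.Generators.ofSurjective _ hsurj
  have hval : ∀ i, G'.val i = algebraMap B B' (G.val i) := fun i => rfl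
  have hG' : LCI.IsKoszulRegularIdeal G'.toExtension.ker := by
    obtain ⟨-, m, f', hf', hK'⟩ := hB'
    have h1 := Groth.Agent.S9269.result A' B' m n f' hf' (MvPolynomial.aeval G'.val) hsurj hK'
    have hker : G'.toExtension.ker =
        RingHom.ker (MvPolynomial.aeval (R := A') G'.val).toRingHom := by
      have h1 : G'.toExtension.ker = G'.ker := rfl
      rw [h1, Algebra.Generators.ker_eq_ker_aeval_val]
      rfl
    rw [hker]
    exact h1
  obtain ⟨hfin, hproj⟩ :=
    Groth.Agent.Lib.Helper16.BcH1Fin.finite_projective_ker_svHom G G' hval hG hG'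
  let v : (Algebra.Generators.self A B).toExtension.Hom G.toExtension :=
    ((Algebra.Generators.self A B).defaultHom G).toExtensionHom
  let u : G.toExtension.Hom (Algebra.Generators.self A B).toExtension :=
    (G.defaultHom (Algebra.Generators.self A B)).toExtensionHom
  let w' : (Algebra.Generators.self A' B').toExtension.Hom G'.toExtension :=
    ((Algebra.Generators.self A' B').defaultHom G').toExtensionHom
  let w'' : G'.toExtension.Hom (Algebra.Generators.self A' B').toExtension :=
    (G'.defaultHom (Algebra.Generators.self A' B')).toExtensionHom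
  obtain ⟨d, hd⟩ : ∃ d, d =
    ((Algebra.Generators.self A B).defaultHom (Algebra.Generators.self A' B')).toExtensionHom :=
    ⟨_, rfl⟩
  obtain ⟨s, hs⟩ : ∃ s, s =
    (Groth.Agent.Lib.Helper16.SameVars.svHom G G' hval).toExtensionHom := ⟨_, rfl⟩
  rw [← hd]
  rw [← hs] at hfin hproj
  let E := Groth.Agent.Lib.Helper16.BcH1.bcH1Equiv B' v u
  have key : ∀ x, Algebra.Extension.H1Cotangent.map w' (NLCx.bcH1Map d x) =
      NLCx.bcH1Map s (E x) := by
    intro x
    rw [← Groth.Agent.S7221.bcH1Map_comp, Groth.Agent.Lib.Helper16.BcH1.bcH1Equiv_apply,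
      ← Groth.Agent.Lib.Helper16.BcH1.bcH1Map_comp_hom, Groth.Agent.S7221.bcH1Map_eq]
  have hinj : Function.Injective (Algebra.Extension.H1Cotangent.map w') :=
    (Algebra.Extension.H1Cotangent.equiv w' w'').injective
  have hker : LinearMap.ker (NLCx.bcH1Map d) =
      Submodule.comap (E : _ →ₗ[B'] _) (LinearMap.ker (NLCx.bcH1Map s)) := by
    ext x
    rw [Submodule.mem_comap, LinearMap.mem_ker, LinearMap.mem_ker, LinearEquiv.coe_coe, ← key]
    constructor
    · intro hx; rw [hx, map_zero]
    · intro hx; exact hinj (hx.trans (map_zero _).symm)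
  rw [hker]
  let e := LinearEquiv.ofSubmodule' E (LinearMap.ker (NLCx.bcH1Map s))
  exact ⟨Module.Finite.equiv e.symm, Module.Projective.of_equiv e.symm⟩

end helpers

/-- Let A → B and A → A' be ring homomorphisms and B' an algebra over A' and over B making the square
cocartesian, B' = B ⊗_A A'. If A → B and A' → B' are both local complete intersection homomorphisms
(of finite type, with Koszul-regular kernel for a polynomial presentation), then the kernel of the
canonical map H^{-1}(NL_{B/A} ⊗_B B') → H^{-1}(NL_{B'/A'}) (presentations on all elements) is a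
finite projective B'-module. -/
theorem result (A B A' B' : Type u) [CommRing A] [CommRing B]
    [CommRing A'] [CommRing B'] [Algebra A B] [Algebra A' B'] [Algebra A A'] [Algebra B B'] [Algebra A B']
    [IsScalarTower A A' B'] [IsScalarTower A B B'] [Algebra.IsPushout A A' B B']
    (hB : LCI.IsLCI A B) (hB' : LCI.IsLCI A' B') :
    Module.Finite B' (LinearMap.ker (NLCx.bcH1Map
        ((Algebra.Generators.self A B).defaultHom (Algebra.Generators.self A' B')).toExtensionHom)) ∧
      Module.Projective B' (LinearMap.ker (NLCx.bcH1Map
        ((Algebra.Generators.self A B).defaultHom (Algebra.Generators.self A' B')).toExtensionHom)) := by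
  exact result_aux A B A' B' hB hB'

end Groth.Agent.S7223
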