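import Groth.Statements.S7237
import Mathlib

set_option autoImplicit false
universe u
open TensorProduct
open FlatMor

namespace Groth.Agent.S7237



open TensorProduct TrivSqZeroExt in
/-- the linear map `m ↦ (ι m, 1 ⊗ m)` into the trivial square zero extension. -/
noncomputable def gMap (A : Type u) [CommRing A] (M : Type u) [AddCommGroup M] [Module A M] :
    M →ₗ[A] TrivSqZeroExt (SymmetricAlgebra A M) (SymmetricAlgebra A M ⊗[A] M) where
  toFun m := inl (SymmetricAlgebra.ι A M m) + inr ((1 : SymmetricAlgebra A M) ⊗ₜ[A] m)
  map_add' x y := by
    apply TrivSqZeroExt.ext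
    · simp
    · simp [tmul_add]
  map_smul' a x := by
    apply TrivSqZeroExt.ext
    · simp
    · simp

open TensorProduct TrivSqZeroExt in
/-- the algebra map `Sym M → Sym M ⊕ ε (Sym M ⊗ M)`. -/
noncomputable def psi (A : Type u) [CommRing A] (M : Type u) [AddCommGroup M] [Module A M] :
    SymmetricAlgebra A M →ₐ[A]
      TrivSqZeroExt (SymmetricAlgebra A M) (SymmetricAlgebra A M ⊗[A] M) :=
  SymmetricAlgebra.lift (gMap A M)

open TensorProduct TrivSqZeroExt in
theorem psi_fst (A : Type u) [CommRing A] (M : Type u) [AddCommGroup M] [Module A M]
    (c : SymmetricAlgebra A M) : (psi A M c).fst = c := by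
  have h : (TrivSqZeroExt.fstHom A (SymmetricAlgebra A M) (SymmetricAlgebra A M ⊗[A] M)).comp
      (psi A M) = AlgHom.id A (SymmetricAlgebra A M) := by
    apply SymmetricAlgebra.algHom_ext
    ext m
    simp [psi, gMap]
  exact congrArg (fun f => f c) h

open TensorProduct TrivSqZeroExt in
/-- the derivation `Sym M → Sym M ⊗ M`. -/
noncomputable def der (A : Type u) [CommRing A] (M : Type u) [AddCommGroup M] [Module A M] :
    Derivation A (SymmetricAlgebra A M) (SymmetricAlgebra A M ⊗[A] M) where
  toFun c := (psi A M c).snd
  map_add' x y := by simp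
  map_smul' a x := by simp
  map_one_eq_zero' := by simp
  leibniz' a b := by
    simp only [LinearMap.coe_mk, AddHom.coe_mk, map_mul, TrivSqZeroExt.snd_mul, psi_fst,
      op_smul_eq_smul]

open TensorProduct TrivSqZeroExt in
theorem der_ι (A : Type u) [CommRing A] (M : Type u) [AddCommGroup M] [Module A M] (m : M) :
    der A M (SymmetricAlgebra.ι A M m) = (1 : SymmetricAlgebra A M) ⊗ₜ[A] m := by
  change (psi A M (SymmetricAlgebra.ι A M m)).snd = _
  simp [psi, gMap]

/-- Let A be a ring and M a finitely generated A-module, and let C = Sym_A(M) be the symmetric algebra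
of M with its canonical A-linear map ι : M → C. Then Ω_{C/A} = M ⊗_A C: the C-linear map C ⊗_A M →
Ω_{C/A} obtained by extending scalars in the A-linear map m ↦ d(ι m), d being the universal
A-derivation of C, is bijective. (The published lemma also computes the whole naive cotangent
complex of the presentation of C attached to a surjection A^m → M with kernel K, namely as K ⊗_A C →
⊕_j C dy_j; only its consequence for Ω is asserted here.) -/
theorem result (A : Type u) [CommRing A] (M : Type u)
    [AddCommGroup M] [Module A M] [Module.Finite A M] :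
    Function.Bijective (LinearMap.liftBaseChange (SymmetricAlgebra A M)
      ((KaehlerDifferential.D A (SymmetricAlgebra A M)).toLinearMap.restrictScalars A ∘ₗ SymmetricAlgebra.ι A M)) := by

  classical
  set φ := LinearMap.liftBaseChange (SymmetricAlgebra A M)
      ((KaehlerDifferential.D A (SymmetricAlgebra A M)).toLinearMap.restrictScalars A ∘ₗ
        SymmetricAlgebra.ι A M) with hφ
  set L := (der A M).liftKaehlerDifferential with hL
  have hφ1 : ∀ (c : SymmetricAlgebra A M) (m : M),
      φ (c ⊗ₜ[A] m) = c • KaehlerDifferential.D A (SymmetricAlgebra A M)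
        (SymmetricAlgebra.ι A M m) := by
    intro c m
    rw [hφ, LinearMap.liftBaseChange_tmul]
    rfl
  have hleft : ∀ n, L (φ n) = n := by
    intro n
    induction n using TensorProduct.induction_on with
    | zero => simp
    | tmul c m =>
      rw [hφ1, map_smul, hL, Derivation.liftKaehlerDifferential_comp_D, der_ι,
        TensorProduct.smul_tmul', smul_eq_mul, mul_one]
    | add x y hx hy => rw [map_add, map_add, hx, hy]
  have hder : ∀ c : SymmetricAlgebra A M,
      φ (der A M c) = KaehlerDifferential.D A (SymmetricAlgebra A M) c := by
    intro c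
    induction c using SymmetricAlgebra.induction with
    | algebraMap r => rw [Derivation.map_algebraMap, Derivation.map_algebraMap, map_zero]
    | ι m => rw [der_ι, hφ1, one_smul]
    | mul a b ha hb =>
      rw [Derivation.leibniz, Derivation.leibniz, map_add, map_smul, map_smul, ha, hb]
    | add a b ha hb => rw [map_add, map_add, map_add, ha, hb]
  have hright : φ ∘ₗ L = LinearMap.id := by
    apply Derivation.liftKaehlerDifferential_unique
    ext c
    change φ (L (KaehlerDifferential.D A (SymmetricAlgebra A M) c)) = _
    rw [hL, Derivation.liftKaehlerDifferential_comp_D, hder]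
    rfl
  refine Function.bijective_iff_has_inverse.mpr ⟨L, hleft, ?_⟩
  intro ω
  exact LinearMap.congr_fun hright ω

end Groth.Agent.S7237
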