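import Groth.Statements.S7243
import Mathlib
import Groth.Agent.Lib.Helper28.DCohTilde3

set_option autoImplicit false
universe u
open CategoryTheory CategoryTheory.Limits AlgebraicGeometry
attribute [local instance] HasDerivedCategory.standard
open Perf

namespace Groth.Agent.S7243

/-- Let A be a ring, M an object of D(A) and E = M~ the associated object of D(O_X), X = Spec A (tilde
being recorded as exact). The tor amplitude of E lies in [a, b] precisely when the tor amplitude of
M lies in that same interval; both are stated here in the flat-representative form (isomorphic to a
complex of flat modules vanishing outside [a, b]), which on either side is equivalent to the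
derived-tensor form. The finite tor dimension variant follows at once. -/
theorem result (A : Type u) [CommRing A] [PreservesFiniteLimits (tilde.functor (CommRingCat.of A))]
    (M : Dual.D A) (a b : ℤ) :
    DCoh.HasFlatAmplitudeIn a b ((DCoh.tildeD (CommRingCat.of A)).obj M) ↔ DRing.HasTorAmplitudeIn A a b M := by
  exact ⟨Groth.Agent.Lib.Helper28.DCohTilde.hasTorAmplitudeIn_of_hasFlatAmplitudeIn_tildeD
      (A := CommRingCat.of A) M a b,
    Groth.Agent.Lib.Helper28.DCohTilde.hasFlatAmplitudeIn_tildeD_of_hasTorAmplitudeIn
      (A := CommRingCat.of A) M a b⟩

end Groth.Agent.S7243
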