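import Groth.Statements.S7248
import Mathlib
import Groth.Agent.Lib.Helper28.DCohRes21

set_option autoImplicit false
universe u
open CategoryTheory CategoryTheory.Limits AlgebraicGeometry
attribute [local instance] HasDerivedCategory.standard
open Perf

namespace Groth.Agent.S7248

/-- Let f : X ⟶ S be flat and locally of finite presentation. Then a perfect object E of D(O_X) is
S-perfect, that is, E is pseudo-coherent (m-pseudo-coherent for every m) and, locally on X, the tor
dimension of E over the sheaf of rings f⁻¹O_S is finite (locally represented by a bounded complex of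
O_X-modules flat over S). -/
theorem result {X S : Scheme.{u}} (f : X ⟶ S) [Flat f] [LocallyOfFinitePresentation f]
    (E : DCoh.D X) (hE : DCoh.IsPerfect E) :
    (∀ m : ℤ, DCoh.IsPseudoCoherentD m E) ∧ DCoh.LocHasFiniteRelTorDim f E := by
  refine ⟨fun m => Groth.Agent.Lib.Helper28.DCohRes.isPseudoCoherentD_of_isPerfect hE m, ?_⟩
  intro x
  obtain ⟨V, hxV, hV⟩ := hE x
  obtain ⟨E₀, ⟨⟨a, b, hab⟩, hfree⟩, ⟨iso₀⟩⟩ := hV (DerivedCategory.Q.objPreimage E)
    ⟨DerivedCategory.Q.objObjPreimageIso E⟩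
  refine ⟨V, a, b, hxV, fun F' hF' => ?_⟩
  obtain ⟨eF'⟩ := hF'
  refine ⟨E₀, hab, fun i =>
    Groth.Agent.Lib.Helper28.DCohRes.isFlatOver_of_isFinLocFree (V.ι ≫ f) (hfree i), ⟨?_⟩⟩
  exact iso₀.symm ≪≫
    ((Groth.Agent.Lib.Helper28.DCohRes.resDQ V.ι).app (DerivedCategory.Q.objPreimage E)).symm ≪≫
    (Groth.Agent.Lib.Helper28.DCohRes.resD V.ι).mapIso
      (DerivedCategory.Q.objObjPreimageIso E ≪≫ eF'.symm) ≪≫
    (Groth.Agent.Lib.Helper28.DCohRes.resDQ V.ι).app F'

end Groth.Agent.S7248
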