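import Groth.Statements.S7254
import Mathlib
import Groth.Agent.Lib.Helper17.RFAmp
import Groth.Agent.S0484

set_option autoImplicit false
universe u
open CategoryTheory CategoryTheory.Limits AlgebraicGeometry
attribute [local instance] HasDerivedCategory.standard
open Perf

namespace Groth.Agent.S7254

/-- Let X be a scheme, F an additive functor from O_X-modules to abelian groups and N ≥ 0 an integer
such that F commutes with countable direct products and RᵖF(G) = 0 (right derived functors computed
with injective resolutions) for every p ≥ N and every quasi-coherent O_X-module G. Assume the total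
right derived functor RF : D(O_X) ⥤ D(Ab) exists. If E ∈ D(O_X) has quasi-coherent cohomology
sheaves and Hⁱ(E) = 0 for i ∉ [a, b], then Hⁱ(RF(E)) = 0 for i ∉ [a, b + N - 1]. -/
theorem result {X : Scheme.{u}} (F : X.Modules ⥤ AddCommGrpCat.{u}) [F.Additive]
    [PreservesLimitsOfShape (Discrete ℕ) F] [HasInjectiveResolutions X.Modules] (N : ℕ)
    (hF : ∀ G : X.Modules, Coh.IsQCoh G → ∀ p : ℕ, N ≤ p → IsZero ((F.rightDerived p).obj G))
    [(F.mapHomotopyCategory (ComplexShape.up ℤ) ⋙ DerivedCategory.Qh).HasRightDerivedFunctor (HomotopyCategory.quasiIso X.Modules (ComplexShape.up ℤ))]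
    (E : DCoh.D X) (hE : DCoh.IsQCohD E) (a b : ℤ) (hab : ∀ i : ℤ, i < a ∨ b < i → IsZero (DCoh.HD E i))
    (i : ℤ) (hi : i < a ∨ b + N - 1 < i) :
    IsZero ((DerivedCategory.homologyFunctor AddCommGrpCat.{u} i).obj
      (((F.mapHomotopyCategory (ComplexShape.up ℤ) ⋙ DerivedCategory.Qh).totalRightDerived DerivedCategory.Qh
        (HomotopyCategory.quasiIso X.Modules (ComplexShape.up ℤ))).obj E)) := by
  classical
  have hG : IsGrothendieckAbelian.{u} X.Modules :=
    Groth.Agent.S0484.result (Opens.grothendieckTopology X) X.ringCatSheaf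
  have hres : Groth.Agent.Lib.Helper17.DerKInj.HasKInjRes X.Modules :=
    Groth.Agent.Lib.Helper17.DerKInj.hasKInjRes_of_isGrothendieckAbelian
  have hiso : ∀ {M N : X.Modules} (_ : M ≅ N), Coh.IsQCoh M → Coh.IsQCoh N :=
    fun e h => (SheafOfModules.isQuasicoherent X.ringCatSheaf).prop_of_iso e h
  let K := DerivedCategory.Q.objPreimage E
  let e : DerivedCategory.Q.obj K ≅ E := DerivedCategory.Q.objObjPreimageIso E
  have hH : ∀ j : ℤ, K.homology j ≅ DCoh.HD E j := fun j =>
    ((DerivedCategory.homologyFunctorFactors X.Modules j).app K).symm ≪≫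
      (DerivedCategory.homologyFunctor X.Modules j).mapIso e
  have key := Groth.Agent.Lib.Helper17.RFAmp.isZero_HRF_of_amp F hres
    (fun G : X.Modules => Coh.IsQCoh G) hiso
    N hF (b - a + 1).toNat K a b (by omega)
    (fun j hj => (hab j hj).of_iso (hH j))
    (fun j _ _ => hiso (hH j).symm (hE j)) i hi
  exact key.of_iso ((Groth.Agent.Lib.Helper17.RFTri.HRF F i).mapIso e.symm)

end Groth.Agent.S7254
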