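import Groth.Statements.S7290
import Mathlib

set_option autoImplicit false
open CategoryTheory CategoryTheory.Limits AlgebraicGeometry Opposite
universe u
open ProEtW

namespace Groth.Agent.S7290

section helpers

/-- a set of primes is determined by the vanishing pattern on a finite set `E` -/
def DetBy {A : Type u} [CommRing A] (S : Set (PrimeSpectrum A)) : Prop :=
  ∃ E : Finset A, ∀ x y : PrimeSpectrum A,
    (∀ f ∈ E, f ∈ x.asIdeal ↔ f ∈ y.asIdeal) → x ∈ S → y ∈ S

theorem detBy_of_isConstructible {A : Type u} [CommRing A] (S : Set (PrimeSpectrum A))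
    (hS : Topology.IsConstructible S) : DetBy S := by
  classical
  induction S, hS using Topology.IsConstructible.induction_of_isTopologicalBasis
    (fun r : A => (PrimeSpectrum.basicOpen r : Set (PrimeSpectrum A)))
    PrimeSpectrum.isTopologicalBasis_basic_opens PrimeSpectrum.isCompact_basicOpen with
  | sdiff g s hs =>
    refine ⟨insert g hs.toFinset, fun x y hxy hx => ?_⟩
    obtain ⟨hxg, hxs⟩ := hx
    refine ⟨?_, ?_⟩
    · intro hyg
      exact hxg ((hxy g (Finset.mem_insert_self _ _)).2 hyg)
    · intro hy
      apply hxs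
      simp only [Set.mem_iUnion, SetLike.mem_coe, PrimeSpectrum.mem_basicOpen, exists_prop] at hy ⊢
      obtain ⟨j, hj, hjy⟩ := hy
      refine ⟨j, hj, fun h => hjy ?_⟩
      exact (hxy j (Finset.mem_insert_of_mem (hs.mem_toFinset.2 hj))).1 h
  | union s hs t ht hs' ht' =>
    obtain ⟨E, hE⟩ := hs'
    obtain ⟨E', hE'⟩ := ht'
    refine ⟨E ∪ E', fun x y hxy hx => ?_⟩
    rcases hx with hx | hx
    · exact Or.inl (hE x y (fun f hf => hxy f (Finset.mem_union_left _ hf)) hx)
    · exact Or.inr (hE' x y (fun f hf => hxy f (Finset.mem_union_right _ hf)) hx)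

end helpers

/-- Let A be a ring and let Spec A be the disjoint union of finitely many constructible subsets T_i.
Then there is a finite subset E of A such that the stratification of Spec A according to which
elements of E vanish at a point refines the given one: each nonempty stratum, consisting of the
primes whose intersection with E is a prescribed subset, is contained in one of the T_i. -/
theorem result (A : Type u) [CommRing A] {ι : Type u} [Finite ι]
    (T : ι → Set (PrimeSpectrum A)) (hT : ∀ i, Topology.IsConstructible (T i))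
    (hcov : ⋃ i, T i = Set.univ) (hdisj : Pairwise fun i j => Disjoint (T i) (T j)) :
    ∃ E : Finset A, ∀ E'' : Finset A, E'' ⊆ E →
      ∀ x : PrimeSpectrum A, (∀ f ∈ E, f ∈ x.asIdeal ↔ f ∈ E'') →
        ∃ i, {y : PrimeSpectrum A | ∀ f ∈ E, f ∈ y.asIdeal ↔ f ∈ E''} ⊆ T i := by
  classical
  have := Fintype.ofFinite ι
  choose E hE using fun i => detBy_of_isConstructible (T i) (hT i)
  refine ⟨Finset.univ.biUnion E, fun E'' _ x hx => ?_⟩
  have hxmem : x ∈ ⋃ i, T i := hcov ▸ Set.mem_univ x
  obtain ⟨i, hi⟩ := Set.mem_iUnion.1 hxmem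
  refine ⟨i, fun y hy => ?_⟩
  refine hE i x y (fun f hf => ?_) hi
  have hfE : f ∈ Finset.univ.biUnion E := Finset.mem_biUnion.2 ⟨i, Finset.mem_univ _, hf⟩
  rw [hx f hfE, hy f hfE]

end Groth.Agent.S7290
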