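import Groth.Statements.S7291
import Groth.Agent.Lib.Helper14.VLim2

set_option autoImplicit false
open CategoryTheory CategoryTheory.Limits AlgebraicGeometry Opposite
universe w u
open HTop

namespace Groth.Agent.S7291

open Groth.Agent.S7476 Groth.Agent.Lib.Helper14.VLim in
lemma isStandardV_singleton_iff {X Y : Scheme.{u}} [IsAffine X] [IsAffine Y] (f : X ⟶ Y) :
    HTop.IsStandardV (PreZeroHypercover.singleton.{w} f) ↔ Lift1 f := by
  constructor
  · intro h
    exact (hasValLift_singleton_iff f).mp h.lift
  · intro h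
    exact ⟨inferInstance, inferInstanceAs (Finite PUnit), fun _ => ‹IsAffine X›,
      (hasValLift_singleton_iff f).mpr h⟩

attribute [local instance] IsCofiltered.isConnected in
open Groth.Agent.S7476 Groth.Agent.Lib.Helper14.VLim in
lemma lift1_of_forall {Y : Scheme.{u}} [IsAffine Y]
    {I : Type u} [SmallCategory I] [IsCofiltered I] (D : I ⥤ Over Y) [∀ i, IsAffine (D.obj i).left]
    (c : Cone D) (hc : IsLimit ((Over.forget Y).mapCone c)) [IsAffine c.pt.left]
    (h : ∀ i, Lift1 (D.obj i).hom) : Lift1 c.pt.hom := by
  rw [lift1_iff_not_obst]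
  intro V _ _ g hob
  let D' : I ⥤ Scheme.{u} := (D ⋙ Over.pullback g) ⋙ Over.forget (Spec V)
  have hD' : ∀ i, IsAffine (D'.obj i) := fun i => by
    dsimp [D']
    infer_instance
  let c' : Cone D' := (Over.forget (Spec V)).mapCone ((Over.pullback g).mapCone c)
  have hcO : IsLimit c := isLimitOfReflects (Over.forget Y) hc
  have hc1 : IsLimit ((Over.pullback g).mapCone c) := isLimitOfPreserves (Over.pullback g) hcO
  have hc' : IsLimit c' := isLimitOfPreserves (Over.forget (Spec V)) hc1
  let p : ∀ i, D'.obj i ⟶ Spec V := fun i => ((Over.pullback g).obj (D.obj i)).hom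
  have hp : ∀ {i j : I} (f : i ⟶ j), D'.map f ≫ p j = p i := fun f =>
    Over.w ((Over.pullback g).map (D.map f))
  let q : c'.pt ⟶ Spec V := ((Over.pullback g).obj c.pt).hom
  have hq : ∀ i, c'.π.app i ≫ p i = q := fun i => Over.w ((Over.pullback g).map (c.π.app i))
  obtain ⟨i, hi⟩ := exists_obst_of_obst D' c' hc' p hp q hq hob
  exact (lift1_iff_not_obst (D.obj i).hom).mp (h i) V g hi

/-- Let Y be an affine scheme and let X be the limit (as a scheme) of a cofiltered system of affine
schemes X_i over Y. Then the one-member family X over Y is a standard V covering exactly when, for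
every i, the one-member family X_i over Y is a standard V covering. -/
theorem result {Y : Scheme.{u}} [IsAffine Y]
    {I : Type u} [SmallCategory I] [IsCofiltered I] (D : I ⥤ Over Y) [∀ i, IsAffine (D.obj i).left]
    (c : Cone D) (hc : IsLimit ((Over.forget Y).mapCone c)) :
    HTop.IsStandardV (PreZeroHypercover.singleton.{w} c.pt.hom) ↔
      ∀ i, HTop.IsStandardV (PreZeroHypercover.singleton.{w} (D.obj i).hom) := by
  have hD : ∀ i, IsAffine (((D ⋙ Over.forget Y)).obj i) := fun i => by
    dsimp
    infer_instance
  have hXaff : IsAffine c.pt.left := Scheme.isAffine_of_isLimit ((Over.forget Y).mapCone c) hc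
  rw [isStandardV_singleton_iff]
  constructor
  · intro h i
    rw [isStandardV_singleton_iff]
    intro V _ _ g
    obtain ⟨W, hWd, hWv, φ, hφ, g', hg'⟩ := h V g
    refine ⟨W, hWd, hWv, φ, hφ, g' ≫ (c.π.app i).left, ?_⟩
    have hw : (c.π.app i).left ≫ (D.obj i).hom = c.pt.hom := Over.w (c.π.app i)
    rw [Category.assoc, hw, hg']
  · intro h
    exact lift1_of_forall D c hc fun i => (isStandardV_singleton_iff _).mp (h i)

end Groth.Agent.S7291
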