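import Groth.Statements.S7318
import Mathlib

set_option autoImplicit false
open Finset
open Models Models.NumericalType

namespace Groth.Agent.S7318

section helpers
variable {n : ℕ} (T : Models.NumericalType n)

/-- the dual graph -/
def dualGraph : SimpleGraph (Fin n) where
  Adj i j := i ≠ j ∧ 0 < T.a i j
  symm := ⟨fun i j ⟨h1, h2⟩ => ⟨h1.symm, by rw [T.symm.apply]; exact h2⟩⟩
  loopless := ⟨fun i h => h.1 rfl⟩

theorem dualGraph_connected : (dualGraph T).Connected := by
  classical
  haveI : Nonempty (Fin n) := ⟨⟨0, T.pos⟩⟩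
  refine ⟨fun u v => ?_⟩
  by_contra hv
  let I : Finset (Fin n) := univ.filter (fun x => (dualGraph T).Reachable u x)
  have hI : I.Nonempty := ⟨u, by simp [I]⟩
  have hI' : I ≠ univ := by
    intro h
    have : v ∈ I := h ▸ Finset.mem_univ v
    simp only [I, Finset.mem_filter, Finset.mem_univ, true_and] at this
    exact hv this
  obtain ⟨i, hi, j, hj, hij⟩ := T.connected I hI hI'
  simp only [I, Finset.mem_filter, Finset.mem_univ, true_and] at hi hj
  have hne : i ≠ j := fun h => hj (h ▸ hi)
  have hadj : (dualGraph T).Adj i j :=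
    ⟨hne, lt_of_le_of_ne (T.offDiag_nonneg i j hne) (Ne.symm hij)⟩
  exact hj (hi.trans hadj.reachable)

theorem card_le : n ≤ T.edgeCount + 1 := by
  classical
  have h1 := (dualGraph_connected T).card_vert_le_card_edgeSet_add_one
  rw [Nat.card_eq_fintype_card, Fintype.card_fin, Nat.card_eq_fintype_card,
    ← SimpleGraph.edgeFinset_card] at h1
  refine h1.trans (Nat.add_le_add_right ?_ 1)
  unfold NumericalType.edgeCount
  apply Finset.card_le_card_of_surjOn (fun p : Fin n × Fin n => s(p.1, p.2))
  intro e he
  rw [Finset.mem_coe, SimpleGraph.mem_edgeFinset] at he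
  induction e using Sym2.ind with
  | _ i j =>
    rw [SimpleGraph.mem_edgeSet] at he
    obtain ⟨hne, hpos⟩ := he
    rcases lt_or_gt_of_ne hne with h | h
    · exact ⟨(i, j), by simp [h, hpos], rfl⟩
    · refine ⟨(j, i), ?_, Sym2.eq_swap⟩
      have : 0 < T.a j i := by rw [T.symm.apply]; exact hpos
      simp [h, this]

end helpers

/-- For a numerical type T on n indices with e pairs i < j such that a_ij > 0, the topological genus 1 -
n + e is ≥ 0. -/
theorem result {n : ℕ} (T : Models.NumericalType n) : 0 ≤ T.topGenus := by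
  have := card_le T
  unfold NumericalType.topGenus
  omega

end Groth.Agent.S7318
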