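import Groth.Statements.S7340
import Mathlib
-- import your own Groth.Agent.* helpers here

set_option autoImplicit false
universe u
open Polynomial
open Resolve

namespace Groth.Agent.S7340

section helpers

/-- an element killed by two coprime natural numbers vanishes -/
theorem eq_zero_of_coprime_nsmul {M : Type*} [AddCommGroup M] (m : M) (a b : ℕ)
    (hab : Nat.Coprime a b) (ha : a • m = 0) (hb : b • m = 0) : m = 0 := by
  have h1 := addOrderOf_dvd_of_nsmul_eq_zero ha
  have h2 := addOrderOf_dvd_of_nsmul_eq_zero hb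
  have h3 := Nat.eq_one_of_dvd_coprimes hab h1 h2
  exact AddMonoid.addOrderOf_eq_one_iff.mp h3

/-- the two binomial identities behind the integrality of `((s+h)^p - s^p - h^p)/p` -/
theorem choose_identities (q : ℕ) (hq : (q + 1).Prime) (m : ℕ) (hm : m < q) :
    (q + 1).choose (m + 1) / (q + 1) * (m + 1) = q.choose m ∧
      (q + 1).choose (m + 1) / (q + 1) * (q - m) = q.choose (m + 1) := by
  obtain ⟨γ, hγ⟩ : (q + 1) ∣ (q + 1).choose (m + 1) :=
    hq.dvd_choose_self (by omega) (by omega)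
  have hdiv : (q + 1).choose (m + 1) / (q + 1) = γ := by
    rw [hγ, Nat.mul_div_cancel_left _ (by omega)]
  rw [hdiv]
  constructor
  · have h1 := Nat.add_one_mul_choose_eq q m
    rw [hγ, mul_assoc] at h1
    exact (Nat.eq_of_mul_eq_mul_left (by omega) h1).symm
  · have h1 := Nat.choose_mul_succ_eq q (m + 1)
    rw [hγ, mul_assoc, mul_comm] at h1
    have h2 : q + 1 - (m + 1) = q - m := by omega
    rw [h2] at h1
    exact (Nat.eq_of_mul_eq_mul_left (by omega) h1).symm

/-- for a derivation `D` and a prime `p = q + 1`, the form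
`(s+h)^(p-1) d(s+h) - s^(p-1) ds - h^(p-1) dh` is exact. -/
theorem exists_exact {R B M : Type*} [CommRing R] [CommRing B] [Algebra R B] [AddCommGroup M]
    [Module B M] [Module R M] [IsScalarTower R B M] (D : Derivation R B M) (q : ℕ)
    (hq : (q + 1).Prime) (s h : B) :
    ∃ P : B, (s + h) ^ q • D (s + h) = s ^ q • D s + h ^ q • D h + D P := by
  refine ⟨∑ m ∈ Finset.range q, ((q + 1).choose (m + 1) / (q + 1)) • (s ^ (m + 1) * h ^ (q - m)), ?_⟩
  have hD : D (∑ m ∈ Finset.range q,
      ((q + 1).choose (m + 1) / (q + 1)) • (s ^ (m + 1) * h ^ (q - m))) =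
      ∑ m ∈ Finset.range q, ((s ^ m * h ^ (q - m) * (q.choose m : B)) • D s +
        (s ^ (m + 1) * h ^ (q - (m + 1)) * (q.choose (m + 1) : B)) • D h) := by
    rw [map_sum]
    refine Finset.sum_congr rfl fun m hm => ?_
    have hm' : m < q := Finset.mem_range.mp hm
    obtain ⟨i1, i2⟩ := choose_identities q hq m hm'
    rw [map_nsmul, Derivation.leibniz, Derivation.leibniz_pow, Derivation.leibniz_pow]
    have e1 : m + 1 - 1 = m := by omega
    have e2 : q - m - 1 = q - (m + 1) := by omega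
    rw [e1, e2, ← i1, ← i2]
    simp only [← Nat.cast_smul_eq_nsmul B, smul_add, smul_smul]
    rw [add_comm]
    congr 2
    · push_cast
      ring
    · push_cast
      ring
  rw [hD, map_add, smul_add, add_pow, Finset.sum_smul, Finset.sum_smul]
  have hS1 : ∑ m ∈ Finset.range (q + 1), (s ^ m * h ^ (q - m) * (q.choose m : B)) • D s =
      ∑ m ∈ Finset.range q, (s ^ m * h ^ (q - m) * (q.choose m : B)) • D s + s ^ q • D s := by
    rw [Finset.sum_range_succ]
    simp
  have hS2 : ∑ m ∈ Finset.range (q + 1), (s ^ m * h ^ (q - m) * (q.choose m : B)) • D h =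
      ∑ m ∈ Finset.range q, (s ^ (m + 1) * h ^ (q - (m + 1)) * (q.choose (m + 1) : B)) • D h +
        h ^ q • D h := by
    rw [Finset.sum_range_succ']
    simp
  rw [hS1, hS2, Finset.sum_add_distrib]
  abel

variable (p : ℕ) [hp : Fact p.Prime] (R : Type u) [CommRing R] [CharP R p] (c : R)

include hp in
theorem nontrivial_R : Nontrivial R := CharP.nontrivial_of_char_ne_one (R := R) (v := p) hp.out.ne_one

theorem monic_g : (X ^ p - C c : R[X]).Monic := monic_X_pow_sub_C c hp.out.ne_zero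

theorem natDegree_g : (X ^ p - C c : R[X]).natDegree = p := by
  haveI := nontrivial_R p R
  exact natDegree_X_pow_sub_C

theorem g_ne_one : (X ^ p - C c : R[X]) ≠ 1 := by
  intro h
  have := natDegree_g p R c
  rw [h, natDegree_one] at this
  exact hp.out.ne_zero this.symm

/-- every element has a representative of degree `< p` -/
theorem exists_repr (s : AdjoinRoot (X ^ p - C c : R[X])) :
    ∃ Q : R[X], Q.natDegree < p ∧ AdjoinRoot.mk (X ^ p - C c : R[X]) Q = s := by
  obtain ⟨P, rfl⟩ := AdjoinRoot.mk_surjective s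
  refine ⟨P %ₘ (X ^ p - C c), ?_, ?_⟩
  · have := natDegree_modByMonic_lt P (monic_g p R c) (g_ne_one p R c)
    rwa [natDegree_g] at this
  · have := AdjoinRoot.mk_leftInverse (monic_g p R c) (AdjoinRoot.mk _ P)
    rwa [AdjoinRoot.modByMonicHom_mk] at this

theorem root_pow : (AdjoinRoot.root (X ^ p - C c : R[X])) ^ p =
    algebraMap R (AdjoinRoot (X ^ p - C c : R[X])) c := by
  have h := AdjoinRoot.mk_self (f := (X ^ p - C c : R[X]))
  rw [map_sub, map_pow, AdjoinRoot.mk_X, AdjoinRoot.mk_C, sub_eq_zero] at h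
  rw [h, AdjoinRoot.algebraMap_eq]

theorem algebraMap_injective :
    Function.Injective (algebraMap R (AdjoinRoot (X ^ p - C c : R[X]))) := by
  haveI := nontrivial_R p R
  intro r r' h
  rw [AdjoinRoot.algebraMap_eq] at h
  have h1 : AdjoinRoot.mk (X ^ p - C c : R[X]) (C r) = AdjoinRoot.mk _ (C r') := by
    rw [AdjoinRoot.mk_C, AdjoinRoot.mk_C]
    exact h
  have h2 := congrArg (AdjoinRoot.modByMonicHom (monic_g p R c)) h1
  rw [AdjoinRoot.modByMonicHom_mk, AdjoinRoot.modByMonicHom_mk] at h2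
  have hdeg : ∀ r : R, (C r : R[X]).degree < (X ^ p - C c : R[X]).degree := by
    intro r
    rw [degree_eq_natDegree (monic_g p R c).ne_zero, natDegree_g]
    exact lt_of_le_of_lt degree_C_le (by exact_mod_cast hp.out.pos)
  rw [(modByMonic_eq_self_iff (monic_g p R c)).mpr (hdeg r),
    (modByMonic_eq_self_iff (monic_g p R c)).mpr (hdeg r')] at h2
  exact C_injective h2

variable (T : Ω[AdjoinRoot (X ^ p - C c : R[X])⁄R] →ₗ[R] Ω[R⁄ℤ])
  (hT : ∀ i : ℕ, i + 2 ≤ p →
      T (AdjoinRoot.root (X ^ p - C c) ^ i • KaehlerDifferential.D R _ (AdjoinRoot.root (X ^ p - C c))) = 0)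
  (hT' : T (AdjoinRoot.root (X ^ p - C c) ^ (p - 1) • KaehlerDifferential.D R _ (AdjoinRoot.root (X ^ p - C c))) =
      KaehlerDifferential.D ℤ R c)

include hT hT' in
theorem A1 (Q : R[X]) (hQ : Q.natDegree < p) :
    T (AdjoinRoot.mk (X ^ p - C c : R[X]) Q • KaehlerDifferential.D R _ (AdjoinRoot.root (X ^ p - C c))) =
      Q.coeff (p - 1) • KaehlerDifferential.D ℤ R c := by
  rw [← AdjoinRoot.aeval_eq, aeval_eq_sum_range' hQ, Finset.sum_smul, map_sum]
  have hp2 : 2 ≤ p := hp.out.two_le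
  rw [Finset.sum_eq_single (p - 1)]
  · rw [smul_assoc, map_smul, hT']
  · intro i hi hne
    rw [smul_assoc, map_smul, hT i (by have := Finset.mem_range.mp hi; omega), smul_zero]
  · intro h
    exact absurd (Finset.mem_range.mpr (by omega)) h

include hT hT' in
theorem A2 (s : AdjoinRoot (X ^ p - C c : R[X])) : T (KaehlerDifferential.D R _ s) = 0 := by
  obtain ⟨Q, hQ, rfl⟩ := exists_repr p R c s
  rw [← AdjoinRoot.aeval_eq, Derivation.map_aeval, AdjoinRoot.aeval_eq,
    A1 p R c T hT hT' _ (lt_of_le_of_lt (natDegree_derivative_le Q) (by have := hp.out.two_le; omega)),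
    coeff_derivative, coeff_eq_zero_of_natDegree_lt (by have := hp.out.two_le; omega), zero_mul,
    zero_smul]

theorem nsmul_p_eq_zero (m : Ω[R⁄ℤ]) : p • m = 0 := by
  rw [← Nat.cast_smul_eq_nsmul R, CharP.cast_eq_zero, zero_smul]

include hT hT' in
theorem A3 (s : AdjoinRoot (X ^ p - C c : R[X])) (i : ℕ) (hi : i + 2 ≤ p) :
    T (s ^ i • KaehlerDifferential.D R _ s) = 0 := by
  apply eq_zero_of_coprime_nsmul _ (i + 1) p
  · exact ((Nat.Prime.coprime_iff_not_dvd hp.out).mpr
      (Nat.not_dvd_of_pos_of_lt (by omega) (by omega))).symm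
  · rw [← map_nsmul]
    have := Derivation.leibniz_pow (KaehlerDifferential.D R (AdjoinRoot (X ^ p - C c : R[X]))) s (i + 1)
    rw [Nat.add_sub_cancel] at this
    rw [← this]
    exact A2 p R c T hT hT' _
  · exact nsmul_p_eq_zero p R _

include hT hT' in
theorem A4 (s h : AdjoinRoot (X ^ p - C c : R[X])) :
    T ((s + h) ^ (p - 1) • KaehlerDifferential.D R _ (s + h)) =
      T (s ^ (p - 1) • KaehlerDifferential.D R _ s) + T (h ^ (p - 1) • KaehlerDifferential.D R _ h) := by
  have hpq : p - 1 + 1 = p := Nat.sub_add_cancel hp.out.pos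
  obtain ⟨P, hP⟩ := exists_exact (KaehlerDifferential.D R (AdjoinRoot (X ^ p - C c : R[X])))
    (p - 1) (by rw [hpq]; exact hp.out) s h
  rw [hP, map_add, map_add, A2 p R c T hT hT' P, add_zero]

theorem A6 (Q : R[X]) : (AdjoinRoot.mk (X ^ p - C c : R[X]) Q) ^ p =
    algebraMap R (AdjoinRoot (X ^ p - C c : R[X])) ((Q.map (frobenius R p)).eval c) := by
  haveI : CharP (AdjoinRoot (X ^ p - C c : R[X])) p :=
    charP_of_injective_algebraMap (algebraMap_injective p R c) p
  have h := Polynomial.map_aeval_eq_aeval_map (φ := frobenius R p)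
    (ψ := frobenius (AdjoinRoot (X ^ p - C c : R[X])) p)
    (RingHom.frobenius_comm (algebraMap R (AdjoinRoot (X ^ p - C c : R[X]))) p) Q
    (AdjoinRoot.root (X ^ p - C c : R[X]))
  rw [frobenius_def, frobenius_def, AdjoinRoot.aeval_eq, root_pow,
    aeval_algebraMap_apply_eq_algebraMap_eval] at h
  exact h

theorem exp_identity (j : ℕ) : (j + 1) * (p - 1) + j = p * j + (p - 1) := by
  obtain ⟨q, hq⟩ : ∃ q, p = q + 1 := ⟨p - 1, (Nat.sub_add_cancel hp.out.pos).symm⟩
  rw [hq]
  simp only [Nat.add_sub_cancel]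
  ring

include hT hT' in
theorem A5 (Q : R[X]) :
    T ((AdjoinRoot.mk (X ^ p - C c : R[X]) Q) ^ (p - 1) •
        KaehlerDifferential.D R _ (AdjoinRoot.mk (X ^ p - C c : R[X]) Q)) =
      KaehlerDifferential.D ℤ R ((Q.map (frobenius R p)).eval c) := by
  induction Q using Polynomial.induction_on' with
  | add Q₁ Q₂ h₁ h₂ =>
    rw [map_add, A4 p R c T hT hT', h₁, h₂, Polynomial.map_add, eval_add, map_add]
  | monomial n r =>
    rw [Polynomial.map_monomial, eval_monomial, frobenius_def, ← C_mul_X_pow_eq_monomial, map_mul,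
      map_pow, AdjoinRoot.mk_C, AdjoinRoot.mk_X, ← AdjoinRoot.algebraMap_eq]
    have hrp : KaehlerDifferential.D ℤ R (r ^ p) = 0 := by
      rw [Derivation.leibniz_pow]
      exact nsmul_p_eq_zero p R _
    cases n with
    | zero =>
      rw [pow_zero, mul_one, Derivation.map_algebraMap, smul_zero, map_zero, pow_zero, mul_one, hrp]
    | succ j =>
      rw [Derivation.leibniz, Derivation.leibniz_pow, Derivation.map_algebraMap, smul_zero, add_zero,
        Nat.add_sub_cancel, Derivation.leibniz, Derivation.leibniz_pow, hrp, smul_zero, add_zero,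
        Nat.add_sub_cancel]
      have key : (algebraMap R (AdjoinRoot (X ^ p - C c : R[X])) r *
          AdjoinRoot.root (X ^ p - C c : R[X]) ^ (j + 1)) ^ (p - 1) *
          algebraMap R (AdjoinRoot (X ^ p - C c : R[X])) r *
            ((j + 1 : ℕ) : AdjoinRoot (X ^ p - C c : R[X])) *
              AdjoinRoot.root (X ^ p - C c : R[X]) ^ j =
          algebraMap R (AdjoinRoot (X ^ p - C c : R[X])) (((j + 1 : ℕ) : R) * r ^ p * c ^ j) *
            AdjoinRoot.root (X ^ p - C c : R[X]) ^ (p - 1) := by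
        have e1 : (algebraMap R (AdjoinRoot (X ^ p - C c : R[X])) r) ^ (p - 1) *
            algebraMap R (AdjoinRoot (X ^ p - C c : R[X])) r =
            algebraMap R (AdjoinRoot (X ^ p - C c : R[X])) (r ^ p) := by
          rw [← pow_succ, Nat.sub_add_cancel hp.out.pos, map_pow]
        have e2 : (AdjoinRoot.root (X ^ p - C c : R[X]) ^ (j + 1)) ^ (p - 1) *
            AdjoinRoot.root (X ^ p - C c : R[X]) ^ j =
            algebraMap R (AdjoinRoot (X ^ p - C c : R[X])) (c ^ j) *
              AdjoinRoot.root (X ^ p - C c : R[X]) ^ (p - 1) := by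
          rw [← pow_mul, ← pow_add, exp_identity p j, pow_add, pow_mul, root_pow, map_pow]
        rw [mul_pow, map_mul, map_mul, map_natCast]
        calc _ = ((algebraMap R (AdjoinRoot (X ^ p - C c : R[X])) r) ^ (p - 1) *
              algebraMap R (AdjoinRoot (X ^ p - C c : R[X])) r) *
              ((j + 1 : ℕ) : AdjoinRoot (X ^ p - C c : R[X])) *
              ((AdjoinRoot.root (X ^ p - C c : R[X]) ^ (j + 1)) ^ (p - 1) *
                AdjoinRoot.root (X ^ p - C c : R[X]) ^ j) := by ring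
          _ = _ := by rw [e1, e2]; ring
      rw [← Nat.cast_smul_eq_nsmul (AdjoinRoot (X ^ p - C c : R[X])), smul_smul, smul_smul, smul_smul, key,
        ← Algebra.smul_def, smul_assoc, map_smul, hT',
        ← Nat.cast_smul_eq_nsmul R, smul_smul, smul_smul]
      congr 1
      ring

end helpers

/-- Let p be a prime number and R an F_p-algebra, a, b ∈ R, S_a = R[x]/(x^p - a) and S_b = R[y]/(y^p -
b). The trace Tr_x : Ω_{S_a/R} → Ω_R is the R-linear map with x^i dx ↦ 0 for 0 ≤ i ≤ p - 2 and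
x^{p-1} dx ↦ da (these determine it, Ω_{S_a/R} being free over R on the x^i dx), and similarly Tr_y.
Then for every R-algebra homomorphism φ : S_a → S_b one has Tr_x = Tr_y ∘ φ_*: for all s, t ∈ S_a,
Tr_x(s dt) = Tr_y(φ(s) dφ(t)). Here Ω_R is the module of absolute differentials Ω_{R/Z}. -/
theorem result (p : ℕ) [Fact p.Prime] (R : Type u) [CommRing R] [CharP R p] (a b : R)
    (φ : AdjoinRoot (X ^ p - C a : R[X]) →ₐ[R] AdjoinRoot (X ^ p - C b : R[X]))
    (Tx : Ω[AdjoinRoot (X ^ p - C a : R[X])⁄R] →ₗ[R] Ω[R⁄ℤ])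
    (Ty : Ω[AdjoinRoot (X ^ p - C b : R[X])⁄R] →ₗ[R] Ω[R⁄ℤ])
    (hTx : ∀ i : ℕ, i + 2 ≤ p →
      Tx (AdjoinRoot.root (X ^ p - C a) ^ i • KaehlerDifferential.D R _ (AdjoinRoot.root (X ^ p - C a))) = 0)
    (hTx' : Tx (AdjoinRoot.root (X ^ p - C a) ^ (p - 1) • KaehlerDifferential.D R _ (AdjoinRoot.root (X ^ p - C a))) =
      KaehlerDifferential.D ℤ R a)
    (hTy : ∀ i : ℕ, i + 2 ≤ p →
      Ty (AdjoinRoot.root (X ^ p - C b) ^ i • KaehlerDifferential.D R _ (AdjoinRoot.root (X ^ p - C b))) = 0)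
    (hTy' : Ty (AdjoinRoot.root (X ^ p - C b) ^ (p - 1) • KaehlerDifferential.D R _ (AdjoinRoot.root (X ^ p - C b))) =
      KaehlerDifferential.D ℤ R b)
    (s t : AdjoinRoot (X ^ p - C a : R[X])) :
    Tx (s • KaehlerDifferential.D R _ t) = Ty (φ s • KaehlerDifferential.D R _ (φ t)) := by
  have hp2 : 2 ≤ p := (Fact.out : p.Prime).two_le
  obtain ⟨P, rfl⟩ := AdjoinRoot.mk_surjective t
  obtain ⟨Q, hQ, hQs⟩ := exists_repr p R a (s * AdjoinRoot.mk (X ^ p - C a : R[X]) (derivative P))
  obtain ⟨F, hF⟩ := AdjoinRoot.mk_surjective (φ (AdjoinRoot.root (X ^ p - C a : R[X])))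
  -- left side
  have hL : s • KaehlerDifferential.D R _ (AdjoinRoot.mk (X ^ p - C a : R[X]) P) =
      AdjoinRoot.mk (X ^ p - C a : R[X]) Q •
        KaehlerDifferential.D R _ (AdjoinRoot.root (X ^ p - C a : R[X])) := by
    rw [← AdjoinRoot.aeval_eq P, Derivation.map_aeval, AdjoinRoot.aeval_eq, smul_smul, hQs]
  -- right side
  have hR : φ s • KaehlerDifferential.D R _ (φ (AdjoinRoot.mk (X ^ p - C a : R[X]) P)) =
      φ (AdjoinRoot.mk (X ^ p - C a : R[X]) Q) •
        KaehlerDifferential.D R _ (φ (AdjoinRoot.root (X ^ p - C a : R[X]))) := by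
    rw [← AdjoinRoot.aeval_eq P, ← aeval_algHom_apply, Derivation.map_aeval, aeval_algHom_apply,
      AdjoinRoot.aeval_eq, smul_smul, ← map_mul, hQs]
  rw [hL, hR, A1 p R a Tx hTx hTx' Q hQ, ← AdjoinRoot.aeval_eq Q, ← aeval_algHom_apply,
    aeval_eq_sum_range' hQ, Finset.sum_smul, map_sum, Finset.sum_eq_single (p - 1)]
  · rw [smul_assoc, map_smul, ← hF, A5 p R b Ty hTy hTy' F]
    congr 2
    apply algebraMap_injective p R b
    rw [← A6 p R b F, hF, ← map_pow, root_pow, AlgHom.commutes]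
  · intro i hi hne
    rw [smul_assoc, map_smul, ← hF,
      A3 p R b Ty hTy hTy' _ i (by have := Finset.mem_range.mp hi; omega), smul_zero]
  · intro h
    exact absurd (Finset.mem_range.mpr (by omega)) h

end Groth.Agent.S7340
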