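import Groth.Statements.S7341
import Mathlib
import Groth.Agent.Lib.Helper26.NumType

set_option autoImplicit false
open Finset
open Models Models.NumericalType

namespace Groth.Agent.S7341

open Groth.Agent.Lib.Helper26.NumType
set_option linter.unreachableTactic false
set_option linter.unusedTactic false

/-- Classification of proper subgraphs which are chains of three vertices: let T be a numerical type on
n > 3 indices and i, j, k distinct (-2)-indices with a_ij > 0 and a_jk > 0. Then a_ik = 0 and, up to
reversing the order of i, j, k, one of the following holds for some integer w: (A3) w_i = w_j = w_k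
= w, a_ij = a_jk = w, with 2 m_i ≥ m_j, 2 m_j ≥ m_i + m_k, 2 m_k ≥ m_j; (C3) w_i = w_j = w, w_k =
2w, a_ij = w, a_jk = 2w, with 2 m_i ≥ m_j, 2 m_j ≥ m_i + 2 m_k, 2 m_k ≥ m_j; (B3) w_i = w_j = 2w,
w_k = w, a_ij = a_jk = 2w, with 2 m_i ≥ m_j, 2 m_j ≥ m_i + m_k, m_k ≥ m_j. -/
theorem result {n : ℕ} (T : Models.NumericalType n) (hn : 3 < n) (i j k : Fin n)
    (hij : i ≠ j) (hjk : j ≠ k) (hik : i ≠ k) (hi : T.IsMinusTwo i) (hj : T.IsMinusTwo j) (hk : T.IsMinusTwo k)
    (h1 : 0 < T.a i j) (h2 : 0 < T.a j k) :
    T.a i k = 0 ∧ ∃ (i' k' : Fin n) (w : ℤ), ((i' = i ∧ k' = k) ∨ (i' = k ∧ k' = i)) ∧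
      ((T.w i' = w ∧ T.w j = w ∧ T.w k' = w ∧ T.a i' j = w ∧ T.a j k' = w ∧
          T.m j ≤ 2 * T.m i' ∧ T.m i' + T.m k' ≤ 2 * T.m j ∧ T.m j ≤ 2 * T.m k') ∨
        (T.w i' = w ∧ T.w j = w ∧ T.w k' = 2 * w ∧ T.a i' j = w ∧ T.a j k' = 2 * w ∧
          T.m j ≤ 2 * T.m i' ∧ T.m i' + 2 * T.m k' ≤ 2 * T.m j ∧ T.m j ≤ 2 * T.m k') ∨
        (T.w i' = 2 * w ∧ T.w j = 2 * w ∧ T.w k' = w ∧ T.a i' j = 2 * w ∧ T.a j k' = 2 * w ∧
          T.m j ≤ 2 * T.m i' ∧ T.m i' + T.m k' ≤ 2 * T.m j ∧ T.m j ≤ T.m k')) := by
  have hwi := T.w_pos i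
  have hwj := T.w_pos j
  have hwk := T.w_pos k
  have hmi := T.m_pos i
  have hmj := T.m_pos j
  have hmk := T.m_pos k
  have haii := hi.2
  have hajj := hj.2
  have hakk := hk.2
  -- step 1: a i k = 0
  have hc : T.a i k = 0 := by
    by_contra hc
    have b1 := w_le_of_ne T hij h1.ne'
    have b2 := w_le_of_ne T hjk h2.ne'
    have b3 := w_le_of_ne T hik hc
    refine false_of_three T hij hjk hik hn 1 1 1 (Or.inl one_ne_zero) ?_
    rw [haii, hajj, hakk]
    linarith [b1.1, b1.2, b2.1, b2.2, b3.1, b3.2]
  refine ⟨hc, ?_⟩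
  -- divisibility data
  obtain ⟨p, hp⟩ := T.w_dvd i j
  obtain ⟨q, hq⟩ : T.w j ∣ T.a i j := by
    have := T.w_dvd j i
    rwa [T.symm.apply] at this
  obtain ⟨r, hr⟩ := T.w_dvd j k
  obtain ⟨s, hs⟩ : T.w k ∣ T.a j k := by
    have := T.w_dvd k j
    rwa [T.symm.apply] at this
  have hp0 : 0 < p := by
    by_contra hcon
    push Not at hcon
    nlinarith
  have hq0 : 0 < q := by
    by_contra hcon
    push Not at hcon
    nlinarith
  have hr0 : 0 < r := by
    by_contra hcon
    push Not at hcon
    nlinarith
  have hs0 : 0 < s := by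
    by_contra hcon
    push Not at hcon
    nlinarith
  -- key bound
  have hbound : p * q + r * s ≤ 3 := by
    by_contra hcon
    push Not at hcon
    refine false_of_three T hij hjk hik hn p 2 s (Or.inr (Or.inl two_ne_zero)) ?_
    rw [haii, hajj, hakk, hc]
    have e1 : -2 * T.w i * p ^ 2 + 2 * T.a i j * p * 2 = 2 * p * q * T.w j := by
      have : T.w i * p = T.w j * q := by rw [← hp, ← hq]
      rw [hp]
      linear_combination (2 * p) * this
    have e2 : -2 * T.w k * s ^ 2 + 2 * T.a j k * 2 * s = 2 * r * s * T.w j := by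
      have : T.w k * s = T.w j * r := by rw [← hs, ← hr]
      rw [hs]
      linear_combination (2 * s) * this
    nlinarith
  have hp2 : p ≤ 2 := by nlinarith
  have hq2 : q ≤ 2 := by nlinarith
  have hr2 : r ≤ 2 := by nlinarith
  have hs2 : s ≤ 2 := by nlinarith
  have hcases : (p = 1 ∧ q = 1 ∧ r = 1 ∧ s = 1) ∨ (p = 1 ∧ q = 1 ∧ r = 1 ∧ s = 2) ∨
      (p = 1 ∧ q = 1 ∧ r = 2 ∧ s = 1) ∨ (p = 1 ∧ q = 2 ∧ r = 1 ∧ s = 1) ∨
      (p = 2 ∧ q = 1 ∧ r = 1 ∧ s = 1) := by
    interval_cases p <;> interval_cases q <;> interval_cases r <;> interval_cases s <;>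
      first | omega | (exfalso; omega)
  -- row inequalities
  have Ri : T.a i j * T.m j ≤ 2 * T.w i * T.m i := by
    have := row_le_one T hij
    rw [haii] at this
    linarith
  have Rj : T.a i j * T.m i + T.a j k * T.m k ≤ 2 * T.w j * T.m j := by
    have := row_le_two T hij.symm hjk hik
    rw [hajj, T.symm.apply] at this
    linarith
  have Rk : T.a j k * T.m j ≤ 2 * T.w k * T.m k := by
    have := row_le_one T hjk.symm
    rw [hakk, T.symm.apply] at this
    linarith
  have hakj : T.a k j = T.a j k := T.symm.apply j k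
  have haji : T.a j i = T.a i j := T.symm.apply i j
  rcases hcases with ⟨rfl, rfl, rfl, rfl⟩ | ⟨rfl, rfl, rfl, rfl⟩ | ⟨rfl, rfl, rfl, rfl⟩ |
    ⟨rfl, rfl, rfl, rfl⟩ | ⟨rfl, rfl, rfl, rfl⟩
  · -- A3
    refine ⟨i, k, T.w j, Or.inl ⟨rfl, rfl⟩, Or.inl ⟨by linarith, rfl, by linarith, by linarith,
      by linarith, ?_, ?_, ?_⟩⟩
    · have e : T.a i j = T.w j := by linarith
      have e' : T.w i = T.w j := by linarith
      rw [e, e'] at Ri
      first
        | exact le_of_mul_le_mul_left (a := T.w j) (by linarith) hwj
        | exact le_of_mul_le_mul_left (a := T.w k) (by linarith) hwk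
        | exact le_of_mul_le_mul_left (a := T.w i) (by linarith) hwi
    · have e : T.a i j = T.w j := by linarith
      have e' : T.a j k = T.w j := by linarith
      rw [e, e'] at Rj
      first
        | exact le_of_mul_le_mul_left (a := T.w j) (by linarith) hwj
        | exact le_of_mul_le_mul_left (a := T.w k) (by linarith) hwk
        | exact le_of_mul_le_mul_left (a := T.w i) (by linarith) hwi
    · have e : T.a j k = T.w j := by linarith
      have e' : T.w k = T.w j := by linarith
      rw [e, e'] at Rk
      first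
        | exact le_of_mul_le_mul_left (a := T.w j) (by linarith) hwj
        | exact le_of_mul_le_mul_left (a := T.w k) (by linarith) hwk
        | exact le_of_mul_le_mul_left (a := T.w i) (by linarith) hwi
  · -- B3 : w_j = 2 w_k
    refine ⟨i, k, T.w k, Or.inl ⟨rfl, rfl⟩, Or.inr (Or.inr ⟨by linarith, by linarith, rfl,
      by linarith, by linarith, ?_, ?_, ?_⟩)⟩
    · have e : T.a i j = 2 * T.w k := by linarith
      have e' : T.w i = 2 * T.w k := by linarith
      rw [e, e'] at Ri
      first
        | exact le_of_mul_le_mul_left (a := T.w j) (by linarith) hwj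
        | exact le_of_mul_le_mul_left (a := T.w k) (by linarith) hwk
        | exact le_of_mul_le_mul_left (a := T.w i) (by linarith) hwi
    · have e : T.a i j = 2 * T.w k := by linarith
      have e' : T.a j k = 2 * T.w k := by linarith
      have e'' : T.w j = 2 * T.w k := by linarith
      rw [e, e', e''] at Rj
      first
        | exact le_of_mul_le_mul_left (a := T.w j) (by linarith) hwj
        | exact le_of_mul_le_mul_left (a := T.w k) (by linarith) hwk
        | exact le_of_mul_le_mul_left (a := T.w i) (by linarith) hwi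
    · have e : T.a j k = 2 * T.w k := by linarith
      rw [e] at Rk
      first
        | exact le_of_mul_le_mul_left (a := T.w j) (by linarith) hwj
        | exact le_of_mul_le_mul_left (a := T.w k) (by linarith) hwk
        | exact le_of_mul_le_mul_left (a := T.w i) (by linarith) hwi
  · -- C3 : w_k = 2 w_j
    refine ⟨i, k, T.w j, Or.inl ⟨rfl, rfl⟩, Or.inr (Or.inl ⟨by linarith, rfl, by linarith,
      by linarith, by linarith, ?_, ?_, ?_⟩)⟩
    · have e : T.a i j = T.w j := by linarith
      have e' : T.w i = T.w j := by linarith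
      rw [e, e'] at Ri
      first
        | exact le_of_mul_le_mul_left (a := T.w j) (by linarith) hwj
        | exact le_of_mul_le_mul_left (a := T.w k) (by linarith) hwk
        | exact le_of_mul_le_mul_left (a := T.w i) (by linarith) hwi
    · have e : T.a i j = T.w j := by linarith
      have e' : T.a j k = 2 * T.w j := by linarith
      rw [e, e'] at Rj
      first
        | exact le_of_mul_le_mul_left (a := T.w j) (by linarith) hwj
        | exact le_of_mul_le_mul_left (a := T.w k) (by linarith) hwk
        | exact le_of_mul_le_mul_left (a := T.w i) (by linarith) hwi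
    · have e : T.a j k = 2 * T.w j := by linarith
      have e' : T.w k = 2 * T.w j := by linarith
      rw [e, e'] at Rk
      first
        | exact le_of_mul_le_mul_left (a := T.w j) (by linarith) hwj
        | exact le_of_mul_le_mul_left (a := T.w k) (by linarith) hwk
        | exact le_of_mul_le_mul_left (a := T.w i) (by linarith) hwi
  · -- swapped C3 : w_i = 2 w_j, w_k = w_j
    refine ⟨k, i, T.w j, Or.inr ⟨rfl, rfl⟩, Or.inr (Or.inl ⟨by linarith, rfl, by linarith,
      by rw [hakj]; linarith, by rw [haji]; linarith, ?_, ?_, ?_⟩)⟩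
    · have e : T.a j k = T.w j := by linarith
      have e' : T.w k = T.w j := by linarith
      rw [e, e'] at Rk
      first
        | exact le_of_mul_le_mul_left (a := T.w j) (by linarith) hwj
        | exact le_of_mul_le_mul_left (a := T.w k) (by linarith) hwk
        | exact le_of_mul_le_mul_left (a := T.w i) (by linarith) hwi
    · have e : T.a i j = 2 * T.w j := by linarith
      have e' : T.a j k = T.w j := by linarith
      rw [e, e'] at Rj
      first
        | exact le_of_mul_le_mul_left (a := T.w j) (by linarith) hwj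
        | exact le_of_mul_le_mul_left (a := T.w k) (by linarith) hwk
        | exact le_of_mul_le_mul_left (a := T.w i) (by linarith) hwi
    · have e : T.a i j = 2 * T.w j := by linarith
      have e' : T.w i = 2 * T.w j := by linarith
      rw [e, e'] at Ri
      first
        | exact le_of_mul_le_mul_left (a := T.w j) (by linarith) hwj
        | exact le_of_mul_le_mul_left (a := T.w k) (by linarith) hwk
        | exact le_of_mul_le_mul_left (a := T.w i) (by linarith) hwi
  · -- swapped B3 : w_j = 2 w_i = w_k
    refine ⟨k, i, T.w i, Or.inr ⟨rfl, rfl⟩, Or.inr (Or.inr ⟨by linarith, by linarith, rfl,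
      by rw [hakj]; linarith, by rw [haji]; linarith, ?_, ?_, ?_⟩)⟩
    · have e : T.a j k = 2 * T.w i := by linarith
      have e' : T.w k = 2 * T.w i := by linarith
      rw [e, e'] at Rk
      first
        | exact le_of_mul_le_mul_left (a := T.w j) (by linarith) hwj
        | exact le_of_mul_le_mul_left (a := T.w k) (by linarith) hwk
        | exact le_of_mul_le_mul_left (a := T.w i) (by linarith) hwi
    · have e : T.a i j = 2 * T.w i := by linarith
      have e' : T.a j k = 2 * T.w i := by linarith
      have e'' : T.w j = 2 * T.w i := by linarith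
      rw [e, e', e''] at Rj
      first
        | exact le_of_mul_le_mul_left (a := T.w j) (by linarith) hwj
        | exact le_of_mul_le_mul_left (a := T.w k) (by linarith) hwk
        | exact le_of_mul_le_mul_left (a := T.w i) (by linarith) hwi
    · have e : T.a i j = 2 * T.w i := by linarith
      rw [e] at Ri
      first
        | exact le_of_mul_le_mul_left (a := T.w j) (by linarith) hwj
        | exact le_of_mul_le_mul_left (a := T.w k) (by linarith) hwk
        | exact le_of_mul_le_mul_left (a := T.w i) (by linarith) hwi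

end Groth.Agent.S7341
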