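import Groth.Statements.S7342
import Mathlib
import Groth.Agent.Lib.Helper26.NumType

set_option autoImplicit false
open Finset
open Models Models.NumericalType

namespace Groth.Agent.S7342

open Groth.Agent.Lib.Helper26.NumType

section helpers

/-- the edge predicate of the graph (on naturals) -/
def dEdge (t a b : ℕ) : Prop :=
  (1 ≤ a ∧ a + 1 ≤ t ∧ b = a + 1) ∨ (a = 0 ∧ b = 2) ∨ (a = t - 1 ∧ b = t + 1)

instance (t a b : ℕ) : Decidable (dEdge t a b) := by unfold dEdge; infer_instance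

def dAdj (t : ℕ) (s s' : Fin (t + 2)) : Prop := dEdge t s.val s'.val ∨ dEdge t s'.val s.val

instance (t : ℕ) : DecidableRel (dAdj t) := fun s s' => by unfold dAdj; infer_instance

def dC (t : ℕ) (s : Fin (t + 2)) : ℤ :=
  if s.val = 0 ∨ s.val = 1 ∨ s.val = t ∨ s.val = t + 1 then 1 else 2

theorem dC_nonneg (t : ℕ) (s : Fin (t + 2)) : 0 ≤ dC t s := by
  unfold dC; split_ifs <;> norm_num

theorem le_sum_one {r : ℕ} (c : Fin r → ℤ) (hc : ∀ s, 0 ≤ c s) (P : Fin r → Prop) [DecidablePred P]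
    (p : Fin r) (hp : P p) : c p ≤ ∑ x ∈ univ.filter P, c x := by
  have hsub : ({p} : Finset (Fin r)) ⊆ univ.filter P := by
    intro x hx
    rw [Finset.mem_singleton] at hx
    subst hx
    simp [hp]
  have := Finset.sum_le_sum_of_subset_of_nonneg hsub (f := c) (fun x _ _ => hc x)
  simpa using this

theorem le_sum_two {r : ℕ} (c : Fin r → ℤ) (hc : ∀ s, 0 ≤ c s) (P : Fin r → Prop) [DecidablePred P]
    (p q : Fin r) (hp : P p) (hq : P q) (hpq : p ≠ q) :
    c p + c q ≤ ∑ x ∈ univ.filter P, c x := by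
  have hsub : ({p, q} : Finset (Fin r)) ⊆ univ.filter P := by
    intro x hx
    rw [Finset.mem_insert, Finset.mem_singleton] at hx
    rcases hx with rfl | rfl <;> simp [hp, hq]
  have := Finset.sum_le_sum_of_subset_of_nonneg hsub (f := c) (fun x _ _ => hc x)
  rw [Finset.sum_pair hpq] at this
  exact this

theorem le_sum_three {r : ℕ} (c : Fin r → ℤ) (hc : ∀ s, 0 ≤ c s) (P : Fin r → Prop)
    [DecidablePred P] (p q u : Fin r) (hp : P p) (hq : P q) (hu : P u) (hpq : p ≠ q) (hpu : p ≠ u)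
    (hqu : q ≠ u) : c p + c q + c u ≤ ∑ x ∈ univ.filter P, c x := by
  have hsub : ({p, q, u} : Finset (Fin r)) ⊆ univ.filter P := by
    intro x hx
    rw [Finset.mem_insert, Finset.mem_insert, Finset.mem_singleton] at hx
    rcases hx with rfl | rfl | rfl <;> simp [hp, hq, hu]
  have := Finset.sum_le_sum_of_subset_of_nonneg hsub (f := c) (fun x _ _ => hc x)
  rw [Finset.sum_insert (by simp [hpq, hpu]), Finset.sum_pair hqu] at this
  linarith

theorem dC_one (t k : ℕ) (hk : k < t + 2) (h : k = 0 ∨ k = 1 ∨ k = t ∨ k = t + 1) :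
    dC t ⟨k, hk⟩ = 1 := if_pos h

theorem dC_two (t k : ℕ) (hk : k < t + 2) (h : ¬ (k = 0 ∨ k = 1 ∨ k = t ∨ k = t + 1)) :
    dC t ⟨k, hk⟩ = 2 := if_neg h

theorem dNull (t : ℕ) (ht : 4 ≤ t) (s : Fin (t + 2)) :
    2 * dC t s ≤ ∑ x ∈ univ.filter (dAdj t s), dC t x := by
  obtain ⟨k, hk⟩ := s
  have hcases : k = 0 ∨ k = 1 ∨ k = 2 ∨ (3 ≤ k ∧ k + 2 ≤ t) ∨ k = t - 1 ∨ k = t ∨ k = t + 1 := by
    omega
  rcases hcases with h0 | h0 | h0 | ⟨h3, h4⟩ | h0 | h0 | h0
  · have e1 : dEdge t k 2 := by unfold dEdge; omega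
    have h := le_sum_one (dC t) (dC_nonneg t) (dAdj t ⟨k, hk⟩) ⟨2, by omega⟩ (Or.inl e1)
    rw [dC_two t 2 (by omega) (by omega)] at h
    rw [dC_one t k hk (by omega)]
    linarith
  · have e1 : dEdge t k 2 := by unfold dEdge; omega
    have h := le_sum_one (dC t) (dC_nonneg t) (dAdj t ⟨k, hk⟩) ⟨2, by omega⟩ (Or.inl e1)
    rw [dC_two t 2 (by omega) (by omega)] at h
    rw [dC_one t k hk (by omega)]
    linarith
  · have e1 : dEdge t 1 k := by unfold dEdge; omega
    have e2 : dEdge t k 3 := by unfold dEdge; omega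
    have e3 : dEdge t 0 k := by unfold dEdge; omega
    have h := le_sum_three (dC t) (dC_nonneg t) (dAdj t ⟨k, hk⟩) ⟨1, by omega⟩ ⟨3, by omega⟩
      ⟨0, by omega⟩ (Or.inr e1) (Or.inl e2) (Or.inr e3)
      (by simp) (by simp) (by simp)
    rw [dC_one t 1 (by omega) (by omega), dC_two t 3 (by omega) (by omega),
      dC_one t 0 (by omega) (by omega)] at h
    rw [dC_two t k hk (by omega)]
    linarith
  · have e1 : dEdge t (k - 1) k := by unfold dEdge; omega
    have e2 : dEdge t k (k + 1) := by unfold dEdge; omega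
    have h := le_sum_two (dC t) (dC_nonneg t) (dAdj t ⟨k, hk⟩) ⟨k - 1, by omega⟩ ⟨k + 1, by omega⟩
      (Or.inr e1) (Or.inl e2) (by simp only [ne_eq, Fin.mk.injEq]; omega)
    rw [dC_two t (k - 1) (by omega) (by omega), dC_two t (k + 1) (by omega) (by omega)] at h
    rw [dC_two t k hk (by omega)]
    linarith
  · have e1 : dEdge t (t - 2) k := by unfold dEdge; omega
    have e2 : dEdge t k t := by unfold dEdge; omega
    have e3 : dEdge t k (t + 1) := by unfold dEdge; omega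
    have h := le_sum_three (dC t) (dC_nonneg t) (dAdj t ⟨k, hk⟩) ⟨t - 2, by omega⟩
      ⟨t, by omega⟩ ⟨t + 1, by omega⟩ (Or.inr e1) (Or.inl e2) (Or.inl e3)
      (by simp only [ne_eq, Fin.mk.injEq]; omega) (by simp only [ne_eq, Fin.mk.injEq]; omega)
      (by simp only [ne_eq, Fin.mk.injEq]; omega)
    rw [dC_two t (t - 2) (by omega) (by omega), dC_one t t (by omega) (by omega),
      dC_one t (t + 1) (by omega) (by omega)] at h
    rw [dC_two t k hk (by omega)]
    linarith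
  · have e1 : dEdge t (t - 1) k := by unfold dEdge; omega
    have h := le_sum_one (dC t) (dC_nonneg t) (dAdj t ⟨k, hk⟩) ⟨t - 1, by omega⟩ (Or.inr e1)
    rw [dC_two t (t - 1) (by omega) (by omega)] at h
    rw [dC_one t k hk (by omega)]
    linarith
  · have e1 : dEdge t (t - 1) k := by unfold dEdge; omega
    have h := le_sum_one (dC t) (dC_nonneg t) (dAdj t ⟨k, hk⟩) ⟨t - 1, by omega⟩ (Or.inr e1)
    rw [dC_two t (t - 1) (by omega) (by omega)] at h
    rw [dC_one t k hk (by omega)]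
    linarith

end helpers

/-- Let T be a numerical type on n indices, t ≥ 4 and n > t + 2. Then no t + 2 (-2)-indices of T,
pairwise distinct and numbered i_0, …, i_{t+1}, satisfy: a_{i_j i_{j+1}} > 0 for 1 ≤ j ≤ t - 1,
a_{i_0 i_2} > 0 and a_{i_{t-1} i_{t+1}} > 0. -/
theorem result {n : ℕ} (T : Models.NumericalType n) (t : ℕ) (ht : 4 ≤ t) (hn : t + 2 < n)
    (v : Fin (t + 2) ↪ Fin n) (hv : ∀ j, T.IsMinusTwo (v j))
    (hchain : ∀ j j' : Fin (t + 2), 1 ≤ j.val → j.val + 1 ≤ t → j'.val = j.val + 1 → 0 < T.a (v j) (v j'))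
    (h02 : ∀ j j' : Fin (t + 2), j.val = 0 → j'.val = 2 → 0 < T.a (v j) (v j'))
    (hlast : ∀ j j' : Fin (t + 2), j.val = t - 1 → j'.val = t + 1 → 0 < T.a (v j) (v j')) : False := by
  refine false_of_adj T v hn hv (dC t) (dC_nonneg t) ⟨⟨0, by omega⟩, ?_⟩ (dAdj t) ?_ ?_ (dNull t ht)
  · rw [dC_one t 0 (by omega) (by omega)]
    norm_num
  · intro s h
    rcases h with h | h <;> (unfold dEdge at h; omega)
  · have key : ∀ s s' : Fin (t + 2), dEdge t s.val s'.val → T.a (v s) (v s') ≠ 0 := by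
      intro s s' h
      rcases h with ⟨h1, h2, h3⟩ | ⟨h1, h2⟩ | ⟨h1, h2⟩
      · exact (hchain s s' h1 h2 h3).ne'
      · exact (h02 s s' h1 h2).ne'
      · exact (hlast s s' h1 h2).ne'
    rintro s s' (h | h)
    · exact key s s' h
    · rw [T.symm.apply]
      exact key s' s h

end Groth.Agent.S7342
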