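import Groth.Statements.S7345
import Mathlib
import Groth.Agent.Lib.Helper11.NumType

set_option autoImplicit false
open Finset
open Models Models.NumericalType

namespace Groth.Agent.S7345

section helpers
open Finset
open Models Models.NumericalType

open Groth.Agent.Lib.Helper11.NumType

theorem sum_univ_nine {M : Type*} [AddCommMonoid M] (f : Fin 9 → M) :
    ∑ i, f i = f 0 + f 1 + f 2 + f 3 + f 4 + f 5 + f 6 + f 7 + f 8 := by
  rw [Fin.sum_univ_castSucc, Fin.sum_univ_eight]
  rfl

theorem main {n : ℕ} (T : Models.NumericalType n) (hn : 9 < n)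
    (v : Fin 9 ↪ Fin n) (hv : ∀ j, T.IsMinusTwo (v j))
    (h01 : T.a (v 0) (v 1) ≠ 0) (h12 : T.a (v 1) (v 2) ≠ 0) (h23 : T.a (v 2) (v 3) ≠ 0)
    (h34 : T.a (v 3) (v 4) ≠ 0) (h45 : T.a (v 4) (v 5) ≠ 0) (h56 : T.a (v 5) (v 6) ≠ 0)
    (h67 : T.a (v 6) (v 7) ≠ 0) (h85 : T.a (v 8) (v 5) ≠ 0) : False := by
  have key := sub_neg T v hn ![1, 2, 3, 4, 5, 6, 4, 2, 3] 0 (by decide)
  simp only [sum_univ_nine] at key
  simp only [Matrix.cons_val_zero, Matrix.cons_val_one, Matrix.cons_val] at key
  have hd : ∀ j, T.a (v j) (v j) = -2 * T.w (v j) := fun j => (hv j).2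
  have hs : ∀ i j, T.a (v i) (v j) = T.a (v j) (v i) := fun i j => a_symm T _ _
  have hnn : ∀ i j : Fin 9, i ≠ j → 0 ≤ T.a (v i) (v j) := fun i j hij =>
    T.offDiag_nonneg _ _ (fun h => hij (v.injective h))
  have p01 : 0 < T.a (v 0) (v 1) := edge_pos T (fun h => absurd (v.injective h) (by decide)) h01
  have el01 := w_le_left T p01
  have er01 := w_le_right T p01
  have p12 : 0 < T.a (v 1) (v 2) := edge_pos T (fun h => absurd (v.injective h) (by decide)) h12
  have el12 := w_le_left T p12
  have er12 := w_le_right T p12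
  have p23 : 0 < T.a (v 2) (v 3) := edge_pos T (fun h => absurd (v.injective h) (by decide)) h23
  have el23 := w_le_left T p23
  have er23 := w_le_right T p23
  have p34 : 0 < T.a (v 3) (v 4) := edge_pos T (fun h => absurd (v.injective h) (by decide)) h34
  have el34 := w_le_left T p34
  have er34 := w_le_right T p34
  have p45 : 0 < T.a (v 4) (v 5) := edge_pos T (fun h => absurd (v.injective h) (by decide)) h45
  have el45 := w_le_left T p45
  have er45 := w_le_right T p45
  have p56 : 0 < T.a (v 5) (v 6) := edge_pos T (fun h => absurd (v.injective h) (by decide)) h56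
  have el56 := w_le_left T p56
  have er56 := w_le_right T p56
  have p67 : 0 < T.a (v 6) (v 7) := edge_pos T (fun h => absurd (v.injective h) (by decide)) h67
  have el67 := w_le_left T p67
  have er67 := w_le_right T p67
  have p85 : 0 < T.a (v 8) (v 5) := edge_pos T (fun h => absurd (v.injective h) (by decide)) h85
  have el85 := w_le_left T p85
  have er85 := w_le_right T p85
  have d0 := hd 0
  have d1 := hd 1
  have d2 := hd 2
  have d3 := hd 3
  have d4 := hd 4
  have d5 := hd 5
  have d6 := hd 6
  have d7 := hd 7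
  have d8 := hd 8
  have s10 := hs 1 0
  have s20 := hs 2 0
  have s21 := hs 2 1
  have s30 := hs 3 0
  have s31 := hs 3 1
  have s32 := hs 3 2
  have s40 := hs 4 0
  have s41 := hs 4 1
  have s42 := hs 4 2
  have s43 := hs 4 3
  have s50 := hs 5 0
  have s51 := hs 5 1
  have s52 := hs 5 2
  have s53 := hs 5 3
  have s54 := hs 5 4
  have s60 := hs 6 0
  have s61 := hs 6 1
  have s62 := hs 6 2
  have s63 := hs 6 3
  have s64 := hs 6 4
  have s65 := hs 6 5
  have s70 := hs 7 0
  have s71 := hs 7 1
  have s72 := hs 7 2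
  have s73 := hs 7 3
  have s74 := hs 7 4
  have s75 := hs 7 5
  have s76 := hs 7 6
  have s80 := hs 8 0
  have s81 := hs 8 1
  have s82 := hs 8 2
  have s83 := hs 8 3
  have s84 := hs 8 4
  have s85 := hs 8 5
  have s86 := hs 8 6
  have s87 := hs 8 7
  have n02 := hnn 0 2 (by decide)
  have n03 := hnn 0 3 (by decide)
  have n04 := hnn 0 4 (by decide)
  have n05 := hnn 0 5 (by decide)
  have n06 := hnn 0 6 (by decide)
  have n07 := hnn 0 7 (by decide)
  have n08 := hnn 0 8 (by decide)
  have n13 := hnn 1 3 (by decide)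
  have n14 := hnn 1 4 (by decide)
  have n15 := hnn 1 5 (by decide)
  have n16 := hnn 1 6 (by decide)
  have n17 := hnn 1 7 (by decide)
  have n18 := hnn 1 8 (by decide)
  have n24 := hnn 2 4 (by decide)
  have n25 := hnn 2 5 (by decide)
  have n26 := hnn 2 6 (by decide)
  have n27 := hnn 2 7 (by decide)
  have n28 := hnn 2 8 (by decide)
  have n35 := hnn 3 5 (by decide)
  have n36 := hnn 3 6 (by decide)
  have n37 := hnn 3 7 (by decide)
  have n38 := hnn 3 8 (by decide)
  have n46 := hnn 4 6 (by decide)
  have n47 := hnn 4 7 (by decide)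
  have n48 := hnn 4 8 (by decide)
  have n57 := hnn 5 7 (by decide)
  have n68 := hnn 6 8 (by decide)
  have n78 := hnn 7 8 (by decide)
  linarith

end helpers

/-- Let T be a numerical type on n > 9 indices. Then no nine (-2)-indices of T, pairwise distinct and
named d, e, f, g, h, i, j, k, l, have a_de, a_ef, a_fg, a_gh, a_hi, a_ij, a_jk and a_li all nonzero
(a chain of eight, d to k, with l joined to its sixth vertex i). (The published list of nonzero
entries ends with a_lh, joining l to the fifth vertex h; that configuration already contains the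
completed E7 configuration on eight of the indices and is impossible for that reason alone. The
pictured graph and the argument for it join l to the sixth vertex i, and this row states that case.) -/
theorem result {n : ℕ} (T : Models.NumericalType n) (hn : 9 < n)
    (v : Fin 9 ↪ Fin n) (hv : ∀ j, T.IsMinusTwo (v j))
    (h01 : T.a (v 0) (v 1) ≠ 0) (h12 : T.a (v 1) (v 2) ≠ 0) (h23 : T.a (v 2) (v 3) ≠ 0)
    (h34 : T.a (v 3) (v 4) ≠ 0) (h45 : T.a (v 4) (v 5) ≠ 0) (h56 : T.a (v 5) (v 6) ≠ 0)
    (h67 : T.a (v 6) (v 7) ≠ 0) (h85 : T.a (v 8) (v 5) ≠ 0) : False := by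
  exact main T hn v hv h01 h12 h23 h34 h45 h56 h67 h85

end Groth.Agent.S7345
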