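import Groth.Statements.S7346
import Mathlib
import Groth.Agent.Lib.Helper11.NumType

set_option autoImplicit false
open Finset
open Models Models.NumericalType

namespace Groth.Agent.S7346

section helpers
open Finset
open Models Models.NumericalType

open Groth.Agent.Lib.Helper11.NumType

theorem main {n : ℕ} (T : Models.NumericalType n) (hn : 4 < n)
    (v : Fin 4 ↪ Fin n) (hv : ∀ j, T.IsMinusTwo (v j)) (h01 : T.a (v 0) (v 1) ≠ 0) (h02 : T.a (v 0) (v 2) ≠ 0) (h03 : T.a (v 0) (v 3) ≠ 0) :
    ∃ w : ℤ, (∀ j : Fin 4, T.w (v j) = w) ∧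
      T.a (v 0) (v 1) = w ∧
      T.a (v 0) (v 2) = w ∧
      T.a (v 0) (v 3) = w ∧
      T.a (v 1) (v 2) = 0 ∧
      T.a (v 1) (v 3) = 0 ∧
      T.a (v 2) (v 3) = 0 ∧
      T.m (v 1) + T.m (v 2) + T.m (v 3) ≤ 2 * T.m (v 0) ∧
      T.m (v 0) ≤ 2 * T.m (v 1) ∧
      T.m (v 0) ≤ 2 * T.m (v 2) ∧
      T.m (v 0) ≤ 2 * T.m (v 3) := by
  have hd : ∀ j, T.a (v j) (v j) = -2 * T.w (v j) := fun j => (hv j).2
  have hs : ∀ i j, T.a (v i) (v j) = T.a (v j) (v i) := fun i j => a_symm T _ _
  have hnn : ∀ i j : Fin 4, i ≠ j → 0 ≤ T.a (v i) (v j) := fun i j hij =>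
    T.offDiag_nonneg _ _ (fun h => hij (v.injective h))
  have hwp : ∀ j, 0 < T.w (v j) := fun j => T.w_pos _
  have p01 : 0 < T.a (v 0) (v 1) := edge_pos T (fun h => absurd (v.injective h) (by decide)) h01
  have el01 := w_le_left T p01
  have er01 := w_le_right T p01
  have p02 : 0 < T.a (v 0) (v 2) := edge_pos T (fun h => absurd (v.injective h) (by decide)) h02
  have el02 := w_le_left T p02
  have er02 := w_le_right T p02
  have p03 : 0 < T.a (v 0) (v 3) := edge_pos T (fun h => absurd (v.injective h) (by decide)) h03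
  have el03 := w_le_left T p03
  have er03 := w_le_right T p03
  have d0 := hd 0
  have wp0 := hwp 0
  have d1 := hd 1
  have wp1 := hwp 1
  have d2 := hd 2
  have wp2 := hwp 2
  have d3 := hd 3
  have wp3 := hwp 3
  have s10 := hs 1 0
  have s20 := hs 2 0
  have s21 := hs 2 1
  have s30 := hs 3 0
  have s31 := hs 3 1
  have s32 := hs 3 2
  have n12 := hnn 1 2 (by decide)
  have n13 := hnn 1 3 (by decide)
  have n23 := hnn 2 3 (by decide)
  have key0 := sub_neg T v hn ![2, 1, 1, 2] 0 (by decide)
  simp only [Fin.sum_univ_four] at key0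
  simp only [Matrix.cons_val_zero, Matrix.cons_val_one, Matrix.cons_val] at key0
  have key1 := sub_neg T v hn ![2, 1, 1, 1] 0 (by decide)
  simp only [Fin.sum_univ_four] at key1
  simp only [Matrix.cons_val_zero, Matrix.cons_val_one, Matrix.cons_val] at key1
  have key2 := sub_neg T v hn ![2, 1, 0, 3] 0 (by decide)
  simp only [Fin.sum_univ_four] at key2
  simp only [Matrix.cons_val_zero, Matrix.cons_val_one, Matrix.cons_val] at key2
  have key3 := sub_neg T v hn ![2, 1, 0, 1] 0 (by decide)
  simp only [Fin.sum_univ_four] at key3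
  simp only [Matrix.cons_val_zero, Matrix.cons_val_one, Matrix.cons_val] at key3
  have key4 := sub_neg T v hn ![2, 1, 2, 1] 0 (by decide)
  simp only [Fin.sum_univ_four] at key4
  simp only [Matrix.cons_val_zero, Matrix.cons_val_one, Matrix.cons_val] at key4
  have key5 := sub_neg T v hn ![1, 0, 1, 1] 0 (by decide)
  simp only [Fin.sum_univ_four] at key5
  simp only [Matrix.cons_val_zero, Matrix.cons_val_one, Matrix.cons_val] at key5
  have key6 := sub_neg T v hn ![2, 0, 2, 1] 0 (by decide)
  simp only [Fin.sum_univ_four] at key6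
  simp only [Matrix.cons_val_zero, Matrix.cons_val_one, Matrix.cons_val] at key6
  have key7 := sub_neg T v hn ![2, 0, 1, 2] 0 (by decide)
  simp only [Fin.sum_univ_four] at key7
  simp only [Matrix.cons_val_zero, Matrix.cons_val_one, Matrix.cons_val] at key7
  have key8 := sub_neg T v hn ![2, 0, 1, 1] 0 (by decide)
  simp only [Fin.sum_univ_four] at key8
  simp only [Matrix.cons_val_zero, Matrix.cons_val_one, Matrix.cons_val] at key8
  have key9 := sub_neg T v hn ![2, 1, 3, 0] 0 (by decide)
  simp only [Fin.sum_univ_four] at key9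
  simp only [Matrix.cons_val_zero, Matrix.cons_val_one, Matrix.cons_val] at key9
  have key10 := sub_neg T v hn ![2, 1, 1, 0] 0 (by decide)
  simp only [Fin.sum_univ_four] at key10
  simp only [Matrix.cons_val_zero, Matrix.cons_val_one, Matrix.cons_val] at key10
  have key11 := sub_neg T v hn ![2, 2, 1, 1] 0 (by decide)
  simp only [Fin.sum_univ_four] at key11
  simp only [Matrix.cons_val_zero, Matrix.cons_val_one, Matrix.cons_val] at key11
  have key12 := sub_neg T v hn ![1, 1, 0, 1] 0 (by decide)
  simp only [Fin.sum_univ_four] at key12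
  simp only [Matrix.cons_val_zero, Matrix.cons_val_one, Matrix.cons_val] at key12
  have key13 := sub_neg T v hn ![2, 2, 0, 1] 0 (by decide)
  simp only [Fin.sum_univ_four] at key13
  simp only [Matrix.cons_val_zero, Matrix.cons_val_one, Matrix.cons_val] at key13
  have key14 := sub_neg T v hn ![1, 1, 1, 0] 0 (by decide)
  simp only [Fin.sum_univ_four] at key14
  simp only [Matrix.cons_val_zero, Matrix.cons_val_one, Matrix.cons_val] at key14
  have key15 := sub_neg T v hn ![2, 2, 1, 0] 0 (by decide)
  simp only [Fin.sum_univ_four] at key15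
  simp only [Matrix.cons_val_zero, Matrix.cons_val_one, Matrix.cons_val] at key15
  have key16 := sub_neg T v hn ![3, 3, 1, 0] 0 (by decide)
  simp only [Fin.sum_univ_four] at key16
  simp only [Matrix.cons_val_zero, Matrix.cons_val_one, Matrix.cons_val] at key16
  have key17 := sub_neg T v hn ![2, 1, 0, 2] 0 (by decide)
  simp only [Fin.sum_univ_four] at key17
  simp only [Matrix.cons_val_zero, Matrix.cons_val_one, Matrix.cons_val] at key17
  have key18 := sub_neg T v hn ![2, 1, 2, 0] 0 (by decide)
  simp only [Fin.sum_univ_four] at key18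
  simp only [Matrix.cons_val_zero, Matrix.cons_val_one, Matrix.cons_val] at key18
  have key19 := sub_neg T v hn ![6, 3, 2, 0] 0 (by decide)
  simp only [Fin.sum_univ_four] at key19
  simp only [Matrix.cons_val_zero, Matrix.cons_val_one, Matrix.cons_val] at key19
  have key20 := sub_neg T v hn ![2, 3, 1, 0] 0 (by decide)
  simp only [Fin.sum_univ_four] at key20
  simp only [Matrix.cons_val_zero, Matrix.cons_val_one, Matrix.cons_val] at key20
  have key21 := sub_neg T v hn ![4, 6, 1, 0] 0 (by decide)
  simp only [Fin.sum_univ_four] at key21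
  simp only [Matrix.cons_val_zero, Matrix.cons_val_one, Matrix.cons_val] at key21
  have key22 := sub_neg T v hn ![6, 9, 1, 0] 0 (by decide)
  simp only [Fin.sum_univ_four] at key22
  simp only [Matrix.cons_val_zero, Matrix.cons_val_one, Matrix.cons_val] at key22
  have key23 := sub_neg T v hn ![4, 2, 1, 0] 0 (by decide)
  simp only [Fin.sum_univ_four] at key23
  simp only [Matrix.cons_val_zero, Matrix.cons_val_one, Matrix.cons_val] at key23
  have key24 := sub_neg T v hn ![6, 3, 1, 0] 0 (by decide)
  simp only [Fin.sum_univ_four] at key24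
  simp only [Matrix.cons_val_zero, Matrix.cons_val_one, Matrix.cons_val] at key24
  have kz12 := sub_neg T v hn ![1, 1, 1, 0] 0 (by decide)
  simp only [Fin.sum_univ_four] at kz12
  simp only [Matrix.cons_val_zero, Matrix.cons_val_one, Matrix.cons_val] at kz12
  have z12 : T.a (v 1) (v 2) = 0 := by
    by_contra hne
    have hp := edge_pos T (fun h => absurd (v.injective h) (by decide)) hne
    have := w_le_left T hp
    have := w_le_right T hp
    linarith
  clear kz12
  have kz13 := sub_neg T v hn ![1, 1, 0, 1] 0 (by decide)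
  simp only [Fin.sum_univ_four] at kz13
  simp only [Matrix.cons_val_zero, Matrix.cons_val_one, Matrix.cons_val] at kz13
  have z13 : T.a (v 1) (v 3) = 0 := by
    by_contra hne
    have hp := edge_pos T (fun h => absurd (v.injective h) (by decide)) hne
    have := w_le_left T hp
    have := w_le_right T hp
    linarith
  clear kz13
  have kz23 := sub_neg T v hn ![1, 0, 1, 1] 0 (by decide)
  simp only [Fin.sum_univ_four] at kz23
  simp only [Matrix.cons_val_zero, Matrix.cons_val_one, Matrix.cons_val] at kz23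
  have z23 : T.a (v 2) (v 3) = 0 := by
    by_contra hne
    have hp := edge_pos T (fun h => absurd (v.injective h) (by decide)) hne
    have := w_le_left T hp
    have := w_le_right T hp
    linarith
  clear kz23
  rcases edge_cases T v hn hv (by decide) p01 with ⟨e01a, e01b⟩ | ⟨e01a, e01b⟩ | ⟨e01a, e01b⟩ | ⟨e01a, e01b⟩ | ⟨e01a, e01b⟩
  · rcases edge_cases T v hn hv (by decide) p02 with ⟨e02a, e02b⟩ | ⟨e02a, e02b⟩ | ⟨e02a, e02b⟩ | ⟨e02a, e02b⟩ | ⟨e02a, e02b⟩
    · rcases edge_cases T v hn hv (by decide) p03 with ⟨e03a, e03b⟩ | ⟨e03a, e03b⟩ | ⟨e03a, e03b⟩ | ⟨e03a, e03b⟩ | ⟨e03a, e03b⟩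
      · have r0 := row_le T v 0
        simp only [Fin.sum_univ_four] at r0
        have r1 := row_le T v 1
        simp only [Fin.sum_univ_four] at r1
        have r2 := row_le T v 2
        simp only [Fin.sum_univ_four] at r2
        have r3 := row_le T v 3
        simp only [Fin.sum_univ_four] at r3
        have hw1 : T.w (v 1) = T.w (v 0) := by linarith
        have hw2 : T.w (v 2) = T.w (v 0) := by linarith
        have hw3 : T.w (v 3) = T.w (v 0) := by linarith
        refine ⟨T.w (v 0), ?_, by linarith, by linarith, by linarith, z12, z13, z23, ?_, ?_, ?_, ?_⟩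
        · intro j; fin_cases j <;> simp <;> linarith
        · rw [d0, e01a, e02a, e03a] at r0
          have h : T.w (v 0) * (T.m (v 1) + T.m (v 2) + T.m (v 3) - 2 * T.m (v 0)) ≤ 0 := by linarith
          have := nonpos_of_mul_nonpos_right h wp0
          linarith
        · rw [s10, e01a, d1, hw1, z12, z13] at r1
          have h : T.w (v 0) * (T.m (v 0) - 2 * T.m (v 1)) ≤ 0 := by linarith
          have := nonpos_of_mul_nonpos_right h wp0
          linarith
        · rw [s20, e02a, d2, hw2, s21, z12, z23] at r2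
          have h : T.w (v 0) * (T.m (v 0) - 2 * T.m (v 2)) ≤ 0 := by linarith
          have := nonpos_of_mul_nonpos_right h wp0
          linarith
        · rw [s30, e03a, d3, hw3, s31, z13, s32, z23] at r3
          have h : T.w (v 0) * (T.m (v 0) - 2 * T.m (v 3)) ≤ 0 := by linarith
          have := nonpos_of_mul_nonpos_right h wp0
          linarith
      · exfalso; linarith
      · exfalso; linarith
      · exfalso; linarith
      · exfalso; linarith
    · rcases edge_cases T v hn hv (by decide) p03 with ⟨e03a, e03b⟩ | ⟨e03a, e03b⟩ | ⟨e03a, e03b⟩ | ⟨e03a, e03b⟩ | ⟨e03a, e03b⟩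
      · exfalso; linarith
      · exfalso; linarith
      · exfalso; linarith
      · exfalso; linarith
      · exfalso; linarith
    · rcases edge_cases T v hn hv (by decide) p03 with ⟨e03a, e03b⟩ | ⟨e03a, e03b⟩ | ⟨e03a, e03b⟩ | ⟨e03a, e03b⟩ | ⟨e03a, e03b⟩
      · exfalso; linarith
      · exfalso; linarith
      · exfalso; linarith
      · exfalso; linarith
      · exfalso; linarith
    · exfalso; linarith
    · exfalso; linarith
  · rcases edge_cases T v hn hv (by decide) p02 with ⟨e02a, e02b⟩ | ⟨e02a, e02b⟩ | ⟨e02a, e02b⟩ | ⟨e02a, e02b⟩ | ⟨e02a, e02b⟩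
    · rcases edge_cases T v hn hv (by decide) p03 with ⟨e03a, e03b⟩ | ⟨e03a, e03b⟩ | ⟨e03a, e03b⟩ | ⟨e03a, e03b⟩ | ⟨e03a, e03b⟩
      · exfalso; linarith
      · exfalso; linarith
      · exfalso; linarith
      · exfalso; linarith
      · exfalso; linarith
    · exfalso; linarith
    · exfalso; linarith
    · exfalso; linarith
    · exfalso; linarith
  · rcases edge_cases T v hn hv (by decide) p02 with ⟨e02a, e02b⟩ | ⟨e02a, e02b⟩ | ⟨e02a, e02b⟩ | ⟨e02a, e02b⟩ | ⟨e02a, e02b⟩
    · rcases edge_cases T v hn hv (by decide) p03 with ⟨e03a, e03b⟩ | ⟨e03a, e03b⟩ | ⟨e03a, e03b⟩ | ⟨e03a, e03b⟩ | ⟨e03a, e03b⟩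
      · exfalso; linarith
      · exfalso; linarith
      · exfalso; linarith
      · exfalso; linarith
      · exfalso; linarith
    · exfalso; linarith
    · exfalso; linarith
    · exfalso; linarith
    · exfalso; linarith
  · rcases edge_cases T v hn hv (by decide) p02 with ⟨e02a, e02b⟩ | ⟨e02a, e02b⟩ | ⟨e02a, e02b⟩ | ⟨e02a, e02b⟩ | ⟨e02a, e02b⟩
    · exfalso; linarith
    · exfalso; linarith
    · exfalso; linarith
    · exfalso; linarith
    · exfalso; linarith
  · rcases edge_cases T v hn hv (by decide) p02 with ⟨e02a, e02b⟩ | ⟨e02a, e02b⟩ | ⟨e02a, e02b⟩ | ⟨e02a, e02b⟩ | ⟨e02a, e02b⟩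
    · exfalso; linarith
    · exfalso; linarith
    · exfalso; linarith
    · exfalso; linarith
    · exfalso; linarith

end helpers

/-- Classification of proper subgraphs of type D4 (one vertex joined to three others): let T be a
numerical type on n > 4 indices and i_1, …, i_4 distinct (-2)-indices with a_{12}, a_{13}, a_{14}
nonzero. Then for some integer w all w_{i_j} equal w, these intersection numbers equal w, all other
a_{i_j i_k} (j ≠ k) vanish, and 2 m_1 ≥ m_2 + m_3 + m_4, 2 m_2 ≥ m_1, 2 m_3 ≥ m_1, 2 m_4 ≥ m_1. -/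
theorem result {n : ℕ} (T : Models.NumericalType n) (hn : 4 < n)
    (v : Fin 4 ↪ Fin n) (hv : ∀ j, T.IsMinusTwo (v j)) (h01 : T.a (v 0) (v 1) ≠ 0) (h02 : T.a (v 0) (v 2) ≠ 0) (h03 : T.a (v 0) (v 3) ≠ 0) :
    ∃ w : ℤ, (∀ j : Fin 4, T.w (v j) = w) ∧
      T.a (v 0) (v 1) = w ∧
      T.a (v 0) (v 2) = w ∧
      T.a (v 0) (v 3) = w ∧
      T.a (v 1) (v 2) = 0 ∧
      T.a (v 1) (v 3) = 0 ∧
      T.a (v 2) (v 3) = 0 ∧
      T.m (v 1) + T.m (v 2) + T.m (v 3) ≤ 2 * T.m (v 0) ∧
      T.m (v 0) ≤ 2 * T.m (v 1) ∧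
      T.m (v 0) ≤ 2 * T.m (v 2) ∧
      T.m (v 0) ≤ 2 * T.m (v 3) := by
  exact main T hn v hv h01 h02 h03

end Groth.Agent.S7346
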