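import Groth.Statements.S7348
import Mathlib
import Groth.Agent.Lib.Helper11.NumType

set_option autoImplicit false
open Finset
open Models Models.NumericalType

namespace Groth.Agent.S7348

section helpers
open Finset
open Models Models.NumericalType

open Groth.Agent.Lib.Helper11.NumType

theorem main {n : ℕ} (T : Models.NumericalType n) (hn : 6 < n)
    (v : Fin 6 ↪ Fin n) (hv : ∀ j, T.IsMinusTwo (v j)) (h01 : T.a (v 0) (v 1) ≠ 0) (h12 : T.a (v 1) (v 2) ≠ 0) (h23 : T.a (v 2) (v 3) ≠ 0) (h34 : T.a (v 3) (v 4) ≠ 0) (h25 : T.a (v 2) (v 5) ≠ 0) :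
    ∃ w : ℤ, (∀ j : Fin 6, T.w (v j) = w) ∧
      T.a (v 0) (v 1) = w ∧
      T.a (v 1) (v 2) = w ∧
      T.a (v 2) (v 3) = w ∧
      T.a (v 3) (v 4) = w ∧
      T.a (v 2) (v 5) = w ∧
      T.a (v 0) (v 2) = 0 ∧
      T.a (v 0) (v 3) = 0 ∧
      T.a (v 0) (v 4) = 0 ∧
      T.a (v 0) (v 5) = 0 ∧
      T.a (v 1) (v 3) = 0 ∧
      T.a (v 1) (v 4) = 0 ∧
      T.a (v 1) (v 5) = 0 ∧
      T.a (v 2) (v 4) = 0 ∧
      T.a (v 3) (v 5) = 0 ∧
      T.a (v 4) (v 5) = 0 ∧
      T.m (v 1) ≤ 2 * T.m (v 0) ∧
      T.m (v 0) + T.m (v 2) ≤ 2 * T.m (v 1) ∧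
      T.m (v 1) + T.m (v 3) + T.m (v 5) ≤ 2 * T.m (v 2) ∧
      T.m (v 2) + T.m (v 4) ≤ 2 * T.m (v 3) ∧
      T.m (v 3) ≤ 2 * T.m (v 4) ∧
      T.m (v 2) ≤ 2 * T.m (v 5) := by
  have hd : ∀ j, T.a (v j) (v j) = -2 * T.w (v j) := fun j => (hv j).2
  have hs : ∀ i j, T.a (v i) (v j) = T.a (v j) (v i) := fun i j => a_symm T _ _
  have hnn : ∀ i j : Fin 6, i ≠ j → 0 ≤ T.a (v i) (v j) := fun i j hij =>
    T.offDiag_nonneg _ _ (fun h => hij (v.injective h))
  have hwp : ∀ j, 0 < T.w (v j) := fun j => T.w_pos _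
  have p23 : 0 < T.a (v 2) (v 3) := edge_pos T (fun h => absurd (v.injective h) (by decide)) h23
  have el23 := w_le_left T p23
  have er23 := w_le_right T p23
  have p25 : 0 < T.a (v 2) (v 5) := edge_pos T (fun h => absurd (v.injective h) (by decide)) h25
  have el25 := w_le_left T p25
  have er25 := w_le_right T p25
  have p12 : 0 < T.a (v 1) (v 2) := edge_pos T (fun h => absurd (v.injective h) (by decide)) h12
  have el12 := w_le_left T p12
  have er12 := w_le_right T p12
  have p01 : 0 < T.a (v 0) (v 1) := edge_pos T (fun h => absurd (v.injective h) (by decide)) h01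
  have el01 := w_le_left T p01
  have er01 := w_le_right T p01
  have p34 : 0 < T.a (v 3) (v 4) := edge_pos T (fun h => absurd (v.injective h) (by decide)) h34
  have el34 := w_le_left T p34
  have er34 := w_le_right T p34
  have d0 := hd 0
  have wp0 := hwp 0
  have d1 := hd 1
  have wp1 := hwp 1
  have d2 := hd 2
  have wp2 := hwp 2
  have d3 := hd 3
  have wp3 := hwp 3
  have d4 := hd 4
  have wp4 := hwp 4
  have d5 := hd 5
  have wp5 := hwp 5
  have s10 := hs 1 0
  have s20 := hs 2 0
  have s21 := hs 2 1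
  have s30 := hs 3 0
  have s31 := hs 3 1
  have s32 := hs 3 2
  have s40 := hs 4 0
  have s41 := hs 4 1
  have s42 := hs 4 2
  have s43 := hs 4 3
  have s50 := hs 5 0
  have s51 := hs 5 1
  have s52 := hs 5 2
  have s53 := hs 5 3
  have s54 := hs 5 4
  have n02 := hnn 0 2 (by decide)
  have n03 := hnn 0 3 (by decide)
  have n04 := hnn 0 4 (by decide)
  have n05 := hnn 0 5 (by decide)
  have n13 := hnn 1 3 (by decide)
  have n14 := hnn 1 4 (by decide)
  have n15 := hnn 1 5 (by decide)
  have n24 := hnn 2 4 (by decide)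
  have n35 := hnn 3 5 (by decide)
  have n45 := hnn 4 5 (by decide)
  have key0 := sub_neg T v hn ![0, 1, 2, 2, 2, 1] 1 (by decide)
  simp only [Fin.sum_univ_six] at key0
  simp only [Matrix.cons_val_zero, Matrix.cons_val_one, Matrix.cons_val] at key0
  have key1 := sub_neg T v hn ![0, 1, 2, 2, 1, 1] 1 (by decide)
  simp only [Fin.sum_univ_six] at key1
  simp only [Matrix.cons_val_zero, Matrix.cons_val_one, Matrix.cons_val] at key1
  have key2 := sub_neg T v hn ![0, 0, 1, 2, 3, 0] 2 (by decide)
  simp only [Fin.sum_univ_six] at key2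
  simp only [Matrix.cons_val_zero, Matrix.cons_val_one, Matrix.cons_val] at key2
  have key3 := sub_neg T v hn ![0, 0, 1, 2, 1, 0] 2 (by decide)
  simp only [Fin.sum_univ_six] at key3
  simp only [Matrix.cons_val_zero, Matrix.cons_val_one, Matrix.cons_val] at key3
  have key4 := sub_neg T v hn ![1, 2, 2, 1, 0, 1] 0 (by decide)
  simp only [Fin.sum_univ_six] at key4
  simp only [Matrix.cons_val_zero, Matrix.cons_val_one, Matrix.cons_val] at key4
  have key5 := sub_neg T v hn ![2, 2, 2, 1, 0, 1] 0 (by decide)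
  simp only [Fin.sum_univ_six] at key5
  simp only [Matrix.cons_val_zero, Matrix.cons_val_one, Matrix.cons_val] at key5
  have key6 := sub_neg T v hn ![1, 2, 1, 0, 0, 0] 0 (by decide)
  simp only [Fin.sum_univ_six] at key6
  simp only [Matrix.cons_val_zero, Matrix.cons_val_one, Matrix.cons_val] at key6
  have key7 := sub_neg T v hn ![3, 2, 1, 0, 0, 0] 0 (by decide)
  simp only [Fin.sum_univ_six] at key7
  simp only [Matrix.cons_val_zero, Matrix.cons_val_one, Matrix.cons_val] at key7
  have key8 := sub_neg T v hn ![0, 1, 2, 1, 0, 1] 1 (by decide)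
  simp only [Fin.sum_univ_six] at key8
  simp only [Matrix.cons_val_zero, Matrix.cons_val_one, Matrix.cons_val] at key8
  have key9 := sub_neg T v hn ![0, 2, 2, 1, 0, 1] 1 (by decide)
  simp only [Fin.sum_univ_six] at key9
  simp only [Matrix.cons_val_zero, Matrix.cons_val_one, Matrix.cons_val] at key9
  have key10 := sub_neg T v hn ![0, 1, 2, 1, 0, 0] 1 (by decide)
  simp only [Fin.sum_univ_six] at key10
  simp only [Matrix.cons_val_zero, Matrix.cons_val_one, Matrix.cons_val] at key10
  have key11 := sub_neg T v hn ![0, 3, 2, 1, 0, 0] 1 (by decide)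
  simp only [Fin.sum_univ_six] at key11
  simp only [Matrix.cons_val_zero, Matrix.cons_val_one, Matrix.cons_val] at key11
  have key12 := sub_neg T v hn ![0, 1, 2, 1, 0, 2] 1 (by decide)
  simp only [Fin.sum_univ_six] at key12
  simp only [Matrix.cons_val_zero, Matrix.cons_val_one, Matrix.cons_val] at key12
  have key13 := sub_neg T v hn ![0, 1, 2, 0, 0, 2] 1 (by decide)
  simp only [Fin.sum_univ_six] at key13
  simp only [Matrix.cons_val_zero, Matrix.cons_val_one, Matrix.cons_val] at key13
  have key14 := sub_neg T v hn ![0, 1, 1, 0, 0, 1] 1 (by decide)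
  simp only [Fin.sum_univ_six] at key14
  simp only [Matrix.cons_val_zero, Matrix.cons_val_one, Matrix.cons_val] at key14
  have key15 := sub_neg T v hn ![0, 1, 2, 0, 0, 1] 1 (by decide)
  simp only [Fin.sum_univ_six] at key15
  simp only [Matrix.cons_val_zero, Matrix.cons_val_one, Matrix.cons_val] at key15
  have key16 := sub_neg T v hn ![0, 2, 2, 0, 0, 1] 1 (by decide)
  simp only [Fin.sum_univ_six] at key16
  simp only [Matrix.cons_val_zero, Matrix.cons_val_one, Matrix.cons_val] at key16
  have key17 := sub_neg T v hn ![0, 0, 2, 1, 0, 3] 2 (by decide)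
  simp only [Fin.sum_univ_six] at key17
  simp only [Matrix.cons_val_zero, Matrix.cons_val_one, Matrix.cons_val] at key17
  have key18 := sub_neg T v hn ![0, 0, 2, 1, 0, 1] 2 (by decide)
  simp only [Fin.sum_univ_six] at key18
  simp only [Matrix.cons_val_zero, Matrix.cons_val_one, Matrix.cons_val] at key18
  have key19 := sub_neg T v hn ![0, 1, 2, 2, 0, 1] 1 (by decide)
  simp only [Fin.sum_univ_six] at key19
  simp only [Matrix.cons_val_zero, Matrix.cons_val_one, Matrix.cons_val] at key19
  have key20 := sub_neg T v hn ![0, 1, 2, 2, 0, 0] 1 (by decide)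
  simp only [Fin.sum_univ_six] at key20
  simp only [Matrix.cons_val_zero, Matrix.cons_val_one, Matrix.cons_val] at key20
  have key21 := sub_neg T v hn ![0, 1, 1, 1, 0, 0] 1 (by decide)
  simp only [Fin.sum_univ_six] at key21
  simp only [Matrix.cons_val_zero, Matrix.cons_val_one, Matrix.cons_val] at key21
  have key22 := sub_neg T v hn ![0, 0, 1, 1, 0, 1] 2 (by decide)
  simp only [Fin.sum_univ_six] at key22
  simp only [Matrix.cons_val_zero, Matrix.cons_val_one, Matrix.cons_val] at key22
  have key23 := sub_neg T v hn ![0, 0, 2, 2, 0, 1] 2 (by decide)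
  simp only [Fin.sum_univ_six] at key23
  simp only [Matrix.cons_val_zero, Matrix.cons_val_one, Matrix.cons_val] at key23
  have key24 := sub_neg T v hn ![0, 0, 3, 3, 0, 1] 2 (by decide)
  simp only [Fin.sum_univ_six] at key24
  simp only [Matrix.cons_val_zero, Matrix.cons_val_one, Matrix.cons_val] at key24
  have key25 := sub_neg T v hn ![0, 2, 2, 1, 0, 0] 1 (by decide)
  simp only [Fin.sum_univ_six] at key25
  simp only [Matrix.cons_val_zero, Matrix.cons_val_one, Matrix.cons_val] at key25
  have key26 := sub_neg T v hn ![0, 0, 2, 1, 0, 2] 2 (by decide)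
  simp only [Fin.sum_univ_six] at key26
  simp only [Matrix.cons_val_zero, Matrix.cons_val_one, Matrix.cons_val] at key26
  have key27 := sub_neg T v hn ![0, 0, 6, 3, 0, 2] 2 (by decide)
  simp only [Fin.sum_univ_six] at key27
  simp only [Matrix.cons_val_zero, Matrix.cons_val_one, Matrix.cons_val] at key27
  have key28 := sub_neg T v hn ![0, 0, 2, 3, 0, 1] 2 (by decide)
  simp only [Fin.sum_univ_six] at key28
  simp only [Matrix.cons_val_zero, Matrix.cons_val_one, Matrix.cons_val] at key28
  have key29 := sub_neg T v hn ![0, 0, 4, 6, 0, 1] 2 (by decide)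
  simp only [Fin.sum_univ_six] at key29
  simp only [Matrix.cons_val_zero, Matrix.cons_val_one, Matrix.cons_val] at key29
  have key30 := sub_neg T v hn ![0, 0, 6, 9, 0, 1] 2 (by decide)
  simp only [Fin.sum_univ_six] at key30
  simp only [Matrix.cons_val_zero, Matrix.cons_val_one, Matrix.cons_val] at key30
  have key31 := sub_neg T v hn ![0, 0, 4, 2, 0, 1] 2 (by decide)
  simp only [Fin.sum_univ_six] at key31
  simp only [Matrix.cons_val_zero, Matrix.cons_val_one, Matrix.cons_val] at key31
  have key32 := sub_neg T v hn ![0, 0, 6, 3, 0, 1] 2 (by decide)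
  simp only [Fin.sum_univ_six] at key32
  simp only [Matrix.cons_val_zero, Matrix.cons_val_one, Matrix.cons_val] at key32
  have kz02 := sub_neg T v hn ![1, 1, 1, 0, 0, 0] 0 (by decide)
  simp only [Fin.sum_univ_six] at kz02
  simp only [Matrix.cons_val_zero, Matrix.cons_val_one, Matrix.cons_val] at kz02
  have z02 : T.a (v 0) (v 2) = 0 := by
    by_contra hne
    have hp := edge_pos T (fun h => absurd (v.injective h) (by decide)) hne
    have hzl := w_le_left T hp
    have hzr := w_le_right T hp
    linarith only [kz02, hzl, hzr, d0, d1, d2, s10, s20, s21, el01, er01, el12, er12]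
  clear kz02
  have kz03 := sub_neg T v hn ![1, 1, 1, 1, 0, 0] 0 (by decide)
  simp only [Fin.sum_univ_six] at kz03
  simp only [Matrix.cons_val_zero, Matrix.cons_val_one, Matrix.cons_val] at kz03
  have z03 : T.a (v 0) (v 3) = 0 := by
    by_contra hne
    have hp := edge_pos T (fun h => absurd (v.injective h) (by decide)) hne
    have hzl := w_le_left T hp
    have hzr := w_le_right T hp
    linarith only [kz03, hzl, hzr, d0, d1, d2, d3, s10, s20, s21, s30, s31, s32, el01, er01, n02, el12, er12, n13, el23, er23]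
  clear kz03
  have kz04 := sub_neg T v hn ![1, 1, 1, 1, 1, 0] 0 (by decide)
  simp only [Fin.sum_univ_six] at kz04
  simp only [Matrix.cons_val_zero, Matrix.cons_val_one, Matrix.cons_val] at kz04
  have z04 : T.a (v 0) (v 4) = 0 := by
    by_contra hne
    have hp := edge_pos T (fun h => absurd (v.injective h) (by decide)) hne
    have hzl := w_le_left T hp
    have hzr := w_le_right T hp
    linarith only [kz04, hzl, hzr, d0, d1, d2, d3, d4, s10, s20, s21, s30, s31, s32, s40, s41, s42, s43, el01, er01, n02, n03, el12, er12, n13, n14, el23, er23, n24, el34, er34]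
  clear kz04
  have kz05 := sub_neg T v hn ![1, 1, 1, 0, 0, 1] 0 (by decide)
  simp only [Fin.sum_univ_six] at kz05
  simp only [Matrix.cons_val_zero, Matrix.cons_val_one, Matrix.cons_val] at kz05
  have z05 : T.a (v 0) (v 5) = 0 := by
    by_contra hne
    have hp := edge_pos T (fun h => absurd (v.injective h) (by decide)) hne
    have hzl := w_le_left T hp
    have hzr := w_le_right T hp
    linarith only [kz05, hzl, hzr, d0, d1, d2, d5, s10, s20, s21, s50, s51, s52, el01, er01, n02, el12, er12, n15, el25, er25]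
  clear kz05
  have kz13 := sub_neg T v hn ![0, 1, 1, 1, 0, 0] 1 (by decide)
  simp only [Fin.sum_univ_six] at kz13
  simp only [Matrix.cons_val_zero, Matrix.cons_val_one, Matrix.cons_val] at kz13
  have z13 : T.a (v 1) (v 3) = 0 := by
    by_contra hne
    have hp := edge_pos T (fun h => absurd (v.injective h) (by decide)) hne
    have hzl := w_le_left T hp
    have hzr := w_le_right T hp
    linarith only [kz13, hzl, hzr, d1, d2, d3, s21, s31, s32, el12, er12, el23, er23]
  clear kz13
  have kz14 := sub_neg T v hn ![0, 1, 1, 1, 1, 0] 1 (by decide)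
  simp only [Fin.sum_univ_six] at kz14
  simp only [Matrix.cons_val_zero, Matrix.cons_val_one, Matrix.cons_val] at kz14
  have z14 : T.a (v 1) (v 4) = 0 := by
    by_contra hne
    have hp := edge_pos T (fun h => absurd (v.injective h) (by decide)) hne
    have hzl := w_le_left T hp
    have hzr := w_le_right T hp
    linarith only [kz14, hzl, hzr, d1, d2, d3, d4, s21, s31, s32, s41, s42, s43, el12, er12, n13, el23, er23, n24, el34, er34]
  clear kz14
  have kz15 := sub_neg T v hn ![0, 1, 1, 0, 0, 1] 1 (by decide)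
  simp only [Fin.sum_univ_six] at kz15
  simp only [Matrix.cons_val_zero, Matrix.cons_val_one, Matrix.cons_val] at kz15
  have z15 : T.a (v 1) (v 5) = 0 := by
    by_contra hne
    have hp := edge_pos T (fun h => absurd (v.injective h) (by decide)) hne
    have hzl := w_le_left T hp
    have hzr := w_le_right T hp
    linarith only [kz15, hzl, hzr, d1, d2, d5, s21, s51, s52, el12, er12, el25, er25]
  clear kz15
  have kz24 := sub_neg T v hn ![0, 0, 1, 1, 1, 0] 2 (by decide)
  simp only [Fin.sum_univ_six] at kz24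
  simp only [Matrix.cons_val_zero, Matrix.cons_val_one, Matrix.cons_val] at kz24
  have z24 : T.a (v 2) (v 4) = 0 := by
    by_contra hne
    have hp := edge_pos T (fun h => absurd (v.injective h) (by decide)) hne
    have hzl := w_le_left T hp
    have hzr := w_le_right T hp
    linarith only [kz24, hzl, hzr, d2, d3, d4, s32, s42, s43, el23, er23, el34, er34]
  clear kz24
  have kz35 := sub_neg T v hn ![0, 0, 1, 1, 0, 1] 2 (by decide)
  simp only [Fin.sum_univ_six] at kz35
  simp only [Matrix.cons_val_zero, Matrix.cons_val_one, Matrix.cons_val] at kz35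
  have z35 : T.a (v 3) (v 5) = 0 := by
    by_contra hne
    have hp := edge_pos T (fun h => absurd (v.injective h) (by decide)) hne
    have hzl := w_le_left T hp
    have hzr := w_le_right T hp
    linarith only [kz35, hzl, hzr, d2, d3, d5, s32, s52, s53, el23, er23, el25, er25]
  clear kz35
  have kz45 := sub_neg T v hn ![0, 0, 1, 1, 1, 1] 2 (by decide)
  simp only [Fin.sum_univ_six] at kz45
  simp only [Matrix.cons_val_zero, Matrix.cons_val_one, Matrix.cons_val] at kz45
  have z45 : T.a (v 4) (v 5) = 0 := by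
    by_contra hne
    have hp := edge_pos T (fun h => absurd (v.injective h) (by decide)) hne
    have hzl := w_le_left T hp
    have hzr := w_le_right T hp
    linarith only [kz45, hzl, hzr, d2, d3, d4, d5, s32, s42, s43, s52, s53, s54, el23, er23, n24, el25, er25, el34, er34, n35]
  clear kz45
  rcases edge_cases T v hn hv (by decide) p23 with ⟨e23a, e23b⟩ | ⟨e23a, e23b⟩ | ⟨e23a, e23b⟩ | ⟨e23a, e23b⟩ | ⟨e23a, e23b⟩
  · rcases edge_cases T v hn hv (by decide) p25 with ⟨e25a, e25b⟩ | ⟨e25a, e25b⟩ | ⟨e25a, e25b⟩ | ⟨e25a, e25b⟩ | ⟨e25a, e25b⟩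
    · rcases edge_cases T v hn hv (by decide) p12 with ⟨e12a, e12b⟩ | ⟨e12a, e12b⟩ | ⟨e12a, e12b⟩ | ⟨e12a, e12b⟩ | ⟨e12a, e12b⟩
      · rcases edge_cases T v hn hv (by decide) p01 with ⟨e01a, e01b⟩ | ⟨e01a, e01b⟩ | ⟨e01a, e01b⟩ | ⟨e01a, e01b⟩ | ⟨e01a, e01b⟩
        · rcases edge_cases T v hn hv (by decide) p34 with ⟨e34a, e34b⟩ | ⟨e34a, e34b⟩ | ⟨e34a, e34b⟩ | ⟨e34a, e34b⟩ | ⟨e34a, e34b⟩
          · have hw1 : T.w (v 1) = T.w (v 0) := by linarith only [e01a, e01b, e12a, e12b, e23a, e23b, e34a, e34b, e25a, e25b]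
            have hw2 : T.w (v 2) = T.w (v 0) := by linarith only [e01a, e01b, e12a, e12b, e23a, e23b, e34a, e34b, e25a, e25b]
            have hw3 : T.w (v 3) = T.w (v 0) := by linarith only [e01a, e01b, e12a, e12b, e23a, e23b, e34a, e34b, e25a, e25b]
            have hw4 : T.w (v 4) = T.w (v 0) := by linarith only [e01a, e01b, e12a, e12b, e23a, e23b, e34a, e34b, e25a, e25b]
            have hw5 : T.w (v 5) = T.w (v 0) := by linarith only [e01a, e01b, e12a, e12b, e23a, e23b, e34a, e34b, e25a, e25b]
            have ha00 : T.a (v 0) (v 0) = -2 * T.w (v 0) := by linarith only [d0]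
            have ha01 : T.a (v 0) (v 1) = T.w (v 0) := by linarith only [e01a]
            have ha02 : T.a (v 0) (v 2) = 0 := by linarith only [z02]
            have ha03 : T.a (v 0) (v 3) = 0 := by linarith only [z03]
            have ha04 : T.a (v 0) (v 4) = 0 := by linarith only [z04]
            have ha05 : T.a (v 0) (v 5) = 0 := by linarith only [z05]
            have ha10 : T.a (v 1) (v 0) = T.w (v 0) := by linarith only [e01a, s10]
            have ha11 : T.a (v 1) (v 1) = -2 * T.w (v 0) := by linarith only [d1, hw1]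
            have ha12 : T.a (v 1) (v 2) = T.w (v 0) := by linarith only [e12a, hw1]
            have ha13 : T.a (v 1) (v 3) = 0 := by linarith only [z13]
            have ha14 : T.a (v 1) (v 4) = 0 := by linarith only [z14]
            have ha15 : T.a (v 1) (v 5) = 0 := by linarith only [z15]
            have ha20 : T.a (v 2) (v 0) = 0 := by linarith only [z02, s20]
            have ha21 : T.a (v 2) (v 1) = T.w (v 0) := by linarith only [e12a, hw1, s21]
            have ha22 : T.a (v 2) (v 2) = -2 * T.w (v 0) := by linarith only [d2, hw2]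
            have ha23 : T.a (v 2) (v 3) = T.w (v 0) := by linarith only [e23a, hw2]
            have ha24 : T.a (v 2) (v 4) = 0 := by linarith only [z24]
            have ha25 : T.a (v 2) (v 5) = T.w (v 0) := by linarith only [e25a, hw2]
            have ha30 : T.a (v 3) (v 0) = 0 := by linarith only [z03, s30]
            have ha31 : T.a (v 3) (v 1) = 0 := by linarith only [z13, s31]
            have ha32 : T.a (v 3) (v 2) = T.w (v 0) := by linarith only [e23a, hw2, s32]
            have ha33 : T.a (v 3) (v 3) = -2 * T.w (v 0) := by linarith only [d3, hw3]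
            have ha34 : T.a (v 3) (v 4) = T.w (v 0) := by linarith only [e34a, hw3]
            have ha35 : T.a (v 3) (v 5) = 0 := by linarith only [z35]
            have ha40 : T.a (v 4) (v 0) = 0 := by linarith only [z04, s40]
            have ha41 : T.a (v 4) (v 1) = 0 := by linarith only [z14, s41]
            have ha42 : T.a (v 4) (v 2) = 0 := by linarith only [z24, s42]
            have ha43 : T.a (v 4) (v 3) = T.w (v 0) := by linarith only [e34a, hw3, s43]
            have ha44 : T.a (v 4) (v 4) = -2 * T.w (v 0) := by linarith only [d4, hw4]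
            have ha45 : T.a (v 4) (v 5) = 0 := by linarith only [z45]
            have ha50 : T.a (v 5) (v 0) = 0 := by linarith only [z05, s50]
            have ha51 : T.a (v 5) (v 1) = 0 := by linarith only [z15, s51]
            have ha52 : T.a (v 5) (v 2) = T.w (v 0) := by linarith only [e25a, hw2, s52]
            have ha53 : T.a (v 5) (v 3) = 0 := by linarith only [z35, s53]
            have ha54 : T.a (v 5) (v 4) = 0 := by linarith only [z45, s54]
            have ha55 : T.a (v 5) (v 5) = -2 * T.w (v 0) := by linarith only [d5, hw5]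
            have r0 := row_le T v 0
            simp only [Fin.sum_univ_six] at r0
            rw [ha00, ha01, ha02, ha03, ha04, ha05] at r0
            have r1 := row_le T v 1
            simp only [Fin.sum_univ_six] at r1
            rw [ha10, ha11, ha12, ha13, ha14, ha15] at r1
            have r2 := row_le T v 2
            simp only [Fin.sum_univ_six] at r2
            rw [ha20, ha21, ha22, ha23, ha24, ha25] at r2
            have r3 := row_le T v 3
            simp only [Fin.sum_univ_six] at r3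
            rw [ha30, ha31, ha32, ha33, ha34, ha35] at r3
            have r4 := row_le T v 4
            simp only [Fin.sum_univ_six] at r4
            rw [ha40, ha41, ha42, ha43, ha44, ha45] at r4
            have r5 := row_le T v 5
            simp only [Fin.sum_univ_six] at r5
            rw [ha50, ha51, ha52, ha53, ha54, ha55] at r5
            refine ⟨T.w (v 0), ?_, ha01, ha12, ha23, ha34, ha25, ha02, ha03, ha04, ha05, ha13, ha14, ha15, ha24, ha35, ha45, ?_, ?_, ?_, ?_, ?_, ?_⟩
            · intro j; fin_cases j <;> simp <;> linarith only [hw1, hw2, hw3, hw4, hw5]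
            · have h : T.w (v 0) * (T.m (v 1) - 2 * T.m (v 0)) ≤ 0 := by linarith only [r0]
              have := nonpos_of_mul_nonpos_right h wp0
              linarith only [this]
            · have h : T.w (v 0) * (T.m (v 0) + T.m (v 2) - 2 * T.m (v 1)) ≤ 0 := by linarith only [r1]
              have := nonpos_of_mul_nonpos_right h wp0
              linarith only [this]
            · have h : T.w (v 0) * (T.m (v 1) + T.m (v 3) + T.m (v 5) - 2 * T.m (v 2)) ≤ 0 := by linarith only [r2]
              have := nonpos_of_mul_nonpos_right h wp0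
              linarith only [this]
            · have h : T.w (v 0) * (T.m (v 2) + T.m (v 4) - 2 * T.m (v 3)) ≤ 0 := by linarith only [r3]
              have := nonpos_of_mul_nonpos_right h wp0
              linarith only [this]
            · have h : T.w (v 0) * (T.m (v 3) - 2 * T.m (v 4)) ≤ 0 := by linarith only [r4]
              have := nonpos_of_mul_nonpos_right h wp0
              linarith only [this]
            · have h : T.w (v 0) * (T.m (v 2) - 2 * T.m (v 5)) ≤ 0 := by linarith only [r5]
              have := nonpos_of_mul_nonpos_right h wp0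
              linarith only [this]
          · exfalso; linarith only [key0, d1, wp1, d2, wp2, d3, wp3, d4, wp4, d5, wp5, s21, s31, s32, s41, s42, s43, s51, s52, s53, s54, e12a, e12b, z13, z14, z15, e23a, e23b, z24, e25a, e25b, e34a, e34b, z35, z45]
          · exfalso; linarith only [key1, d1, wp1, d2, wp2, d3, wp3, d4, wp4, d5, wp5, s21, s31, s32, s41, s42, s43, s51, s52, s53, s54, e12a, e12b, z13, z14, z15, e23a, e23b, z24, e25a, e25b, e34a, e34b, z35, z45]
          · exfalso; linarith only [key2, d2, wp2, d3, wp3, d4, wp4, s32, s42, s43, e23a, e23b, z24, e34a, e34b]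
          · exfalso; linarith only [key3, d2, wp2, d3, wp3, d4, wp4, s32, s42, s43, e23a, e23b, z24, e34a, e34b]
        · exfalso; linarith only [key4, d0, wp0, d1, wp1, d2, wp2, d3, wp3, d5, wp5, s10, s20, s21, s30, s31, s32, s50, s51, s52, s53, e01a, e01b, z02, z03, z05, e12a, e12b, z13, z15, e23a, e23b, e25a, e25b, z35]
        · exfalso; linarith only [key5, d0, wp0, d1, wp1, d2, wp2, d3, wp3, d5, wp5, s10, s20, s21, s30, s31, s32, s50, s51, s52, s53, e01a, e01b, z02, z03, z05, e12a, e12b, z13, z15, e23a, e23b, e25a, e25b, z35]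
        · exfalso; linarith only [key6, d0, wp0, d1, wp1, d2, wp2, s10, s20, s21, e01a, e01b, z02, e12a, e12b]
        · exfalso; linarith only [key7, d0, wp0, d1, wp1, d2, wp2, s10, s20, s21, e01a, e01b, z02, e12a, e12b]
      · exfalso; linarith only [key8, d1, wp1, d2, wp2, d3, wp3, d5, wp5, s21, s31, s32, s51, s52, s53, e12a, e12b, z13, z15, e23a, e23b, e25a, e25b, z35]
      · exfalso; linarith only [key9, d1, wp1, d2, wp2, d3, wp3, d5, wp5, s21, s31, s32, s51, s52, s53, e12a, e12b, z13, z15, e23a, e23b, e25a, e25b, z35]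
      · exfalso; linarith only [key10, d1, wp1, d2, wp2, d3, wp3, s21, s31, s32, e12a, e12b, z13, e23a, e23b]
      · exfalso; linarith only [key11, d1, wp1, d2, wp2, d3, wp3, s21, s31, s32, e12a, e12b, z13, e23a, e23b]
    · rcases edge_cases T v hn hv (by decide) p12 with ⟨e12a, e12b⟩ | ⟨e12a, e12b⟩ | ⟨e12a, e12b⟩ | ⟨e12a, e12b⟩ | ⟨e12a, e12b⟩
      · exfalso; linarith only [key12, d1, wp1, d2, wp2, d3, wp3, d5, wp5, s21, s31, s32, s51, s52, s53, e12a, e12b, z13, z15, e23a, e23b, e25a, e25b, z35]
      · exfalso; linarith only [key13, d1, wp1, d2, wp2, d5, wp5, s21, s51, s52, e12a, e12b, z15, e25a, e25b]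
      · exfalso; linarith only [key14, d1, wp1, d2, wp2, d5, wp5, s21, s51, s52, e12a, e12b, z15, e25a, e25b]
      · exfalso; linarith only [key10, d1, wp1, d2, wp2, d3, wp3, s21, s31, s32, e12a, e12b, z13, e23a, e23b]
      · exfalso; linarith only [key14, d1, wp1, d2, wp2, d5, wp5, s21, s51, s52, e12a, e12b, z15, e25a, e25b]
    · rcases edge_cases T v hn hv (by decide) p12 with ⟨e12a, e12b⟩ | ⟨e12a, e12b⟩ | ⟨e12a, e12b⟩ | ⟨e12a, e12b⟩ | ⟨e12a, e12b⟩
      · exfalso; linarith only [key8, d1, wp1, d2, wp2, d3, wp3, d5, wp5, s21, s31, s32, s51, s52, s53, e12a, e12b, z13, z15, e23a, e23b, e25a, e25b, z35]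
      · exfalso; linarith only [key15, d1, wp1, d2, wp2, d5, wp5, s21, s51, s52, e12a, e12b, z15, e25a, e25b]
      · exfalso; linarith only [key16, d1, wp1, d2, wp2, d5, wp5, s21, s51, s52, e12a, e12b, z15, e25a, e25b]
      · exfalso; linarith only [key10, d1, wp1, d2, wp2, d3, wp3, s21, s31, s32, e12a, e12b, z13, e23a, e23b]
      · exfalso; linarith only [key16, d1, wp1, d2, wp2, d5, wp5, s21, s51, s52, e12a, e12b, z15, e25a, e25b]
    · exfalso; linarith only [key17, d2, wp2, d3, wp3, d5, wp5, s32, s52, s53, e23a, e23b, e25a, e25b, z35]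
    · exfalso; linarith only [key18, d2, wp2, d3, wp3, d5, wp5, s32, s52, s53, e23a, e23b, e25a, e25b, z35]
  · rcases edge_cases T v hn hv (by decide) p25 with ⟨e25a, e25b⟩ | ⟨e25a, e25b⟩ | ⟨e25a, e25b⟩ | ⟨e25a, e25b⟩ | ⟨e25a, e25b⟩
    · rcases edge_cases T v hn hv (by decide) p12 with ⟨e12a, e12b⟩ | ⟨e12a, e12b⟩ | ⟨e12a, e12b⟩ | ⟨e12a, e12b⟩ | ⟨e12a, e12b⟩
      · exfalso; linarith only [key19, d1, wp1, d2, wp2, d3, wp3, d5, wp5, s21, s31, s32, s51, s52, s53, e12a, e12b, z13, z15, e23a, e23b, e25a, e25b, z35]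
      · exfalso; linarith only [key20, d1, wp1, d2, wp2, d3, wp3, s21, s31, s32, e12a, e12b, z13, e23a, e23b]
      · exfalso; linarith only [key21, d1, wp1, d2, wp2, d3, wp3, s21, s31, s32, e12a, e12b, z13, e23a, e23b]
      · exfalso; linarith only [key15, d1, wp1, d2, wp2, d5, wp5, s21, s51, s52, e12a, e12b, z15, e25a, e25b]
      · exfalso; linarith only [key21, d1, wp1, d2, wp2, d3, wp3, s21, s31, s32, e12a, e12b, z13, e23a, e23b]
    · exfalso; linarith only [key22, d2, wp2, d3, wp3, d5, wp5, s32, s52, s53, e23a, e23b, e25a, e25b, z35]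
    · exfalso; linarith only [key23, d2, wp2, d3, wp3, d5, wp5, s32, s52, s53, e23a, e23b, e25a, e25b, z35]
    · exfalso; linarith only [key22, d2, wp2, d3, wp3, d5, wp5, s32, s52, s53, e23a, e23b, e25a, e25b, z35]
    · exfalso; linarith only [key24, d2, wp2, d3, wp3, d5, wp5, s32, s52, s53, e23a, e23b, e25a, e25b, z35]
  · rcases edge_cases T v hn hv (by decide) p25 with ⟨e25a, e25b⟩ | ⟨e25a, e25b⟩ | ⟨e25a, e25b⟩ | ⟨e25a, e25b⟩ | ⟨e25a, e25b⟩
    · rcases edge_cases T v hn hv (by decide) p12 with ⟨e12a, e12b⟩ | ⟨e12a, e12b⟩ | ⟨e12a, e12b⟩ | ⟨e12a, e12b⟩ | ⟨e12a, e12b⟩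
      · exfalso; linarith only [key8, d1, wp1, d2, wp2, d3, wp3, d5, wp5, s21, s31, s32, s51, s52, s53, e12a, e12b, z13, z15, e23a, e23b, e25a, e25b, z35]
      · exfalso; linarith only [key10, d1, wp1, d2, wp2, d3, wp3, s21, s31, s32, e12a, e12b, z13, e23a, e23b]
      · exfalso; linarith only [key25, d1, wp1, d2, wp2, d3, wp3, s21, s31, s32, e12a, e12b, z13, e23a, e23b]
      · exfalso; linarith only [key15, d1, wp1, d2, wp2, d5, wp5, s21, s51, s52, e12a, e12b, z15, e25a, e25b]
      · exfalso; linarith only [key25, d1, wp1, d2, wp2, d3, wp3, s21, s31, s32, e12a, e12b, z13, e23a, e23b]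
    · exfalso; linarith only [key26, d2, wp2, d3, wp3, d5, wp5, s32, s52, s53, e23a, e23b, e25a, e25b, z35]
    · exfalso; linarith only [key18, d2, wp2, d3, wp3, d5, wp5, s32, s52, s53, e23a, e23b, e25a, e25b, z35]
    · exfalso; linarith only [key26, d2, wp2, d3, wp3, d5, wp5, s32, s52, s53, e23a, e23b, e25a, e25b, z35]
    · exfalso; linarith only [key27, d2, wp2, d3, wp3, d5, wp5, s32, s52, s53, e23a, e23b, e25a, e25b, z35]
  · rcases edge_cases T v hn hv (by decide) p25 with ⟨e25a, e25b⟩ | ⟨e25a, e25b⟩ | ⟨e25a, e25b⟩ | ⟨e25a, e25b⟩ | ⟨e25a, e25b⟩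
    · exfalso; linarith only [key28, d2, wp2, d3, wp3, d5, wp5, s32, s52, s53, e23a, e23b, e25a, e25b, z35]
    · exfalso; linarith only [key28, d2, wp2, d3, wp3, d5, wp5, s32, s52, s53, e23a, e23b, e25a, e25b, z35]
    · exfalso; linarith only [key29, d2, wp2, d3, wp3, d5, wp5, s32, s52, s53, e23a, e23b, e25a, e25b, z35]
    · exfalso; linarith only [key28, d2, wp2, d3, wp3, d5, wp5, s32, s52, s53, e23a, e23b, e25a, e25b, z35]
    · exfalso; linarith only [key30, d2, wp2, d3, wp3, d5, wp5, s32, s52, s53, e23a, e23b, e25a, e25b, z35]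
  · rcases edge_cases T v hn hv (by decide) p25 with ⟨e25a, e25b⟩ | ⟨e25a, e25b⟩ | ⟨e25a, e25b⟩ | ⟨e25a, e25b⟩ | ⟨e25a, e25b⟩
    · exfalso; linarith only [key18, d2, wp2, d3, wp3, d5, wp5, s32, s52, s53, e23a, e23b, e25a, e25b, z35]
    · exfalso; linarith only [key18, d2, wp2, d3, wp3, d5, wp5, s32, s52, s53, e23a, e23b, e25a, e25b, z35]
    · exfalso; linarith only [key31, d2, wp2, d3, wp3, d5, wp5, s32, s52, s53, e23a, e23b, e25a, e25b, z35]
    · exfalso; linarith only [key18, d2, wp2, d3, wp3, d5, wp5, s32, s52, s53, e23a, e23b, e25a, e25b, z35]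
    · exfalso; linarith only [key32, d2, wp2, d3, wp3, d5, wp5, s32, s52, s53, e23a, e23b, e25a, e25b, z35]

end helpers

/-- Classification of proper subgraphs of type E6 (a chain i_1 … i_5 with i_6 joined to i_3): let T be a
numerical type on n > 6 indices and i_1, …, i_6 distinct (-2)-indices with a_{12}, a_{23}, a_{34},
a_{45}, a_{36} nonzero. Then for some integer w all w_{i_j} equal w, these intersection numbers
equal w, all other a_{i_j i_k} (j ≠ k) vanish, and 2 m_1 ≥ m_2, 2 m_2 ≥ m_1 + m_3, 2 m_3 ≥ m_2 + m_4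
+ m_6, 2 m_4 ≥ m_3 + m_5, 2 m_5 ≥ m_4, 2 m_6 ≥ m_3. (The published list of inequalities has 2 m_5 ≥
m_3 where the intersection matrix gives 2 m_5 ≥ m_4; the former fails for the extended E8
configuration of multiplicities 4, 5, 6, 4, 2 with 3 attached to the third vertex, so 2 m_5 ≥ m_4 is
stated.) -/
theorem result {n : ℕ} (T : Models.NumericalType n) (hn : 6 < n)
    (v : Fin 6 ↪ Fin n) (hv : ∀ j, T.IsMinusTwo (v j)) (h01 : T.a (v 0) (v 1) ≠ 0) (h12 : T.a (v 1) (v 2) ≠ 0) (h23 : T.a (v 2) (v 3) ≠ 0) (h34 : T.a (v 3) (v 4) ≠ 0) (h25 : T.a (v 2) (v 5) ≠ 0) :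
    ∃ w : ℤ, (∀ j : Fin 6, T.w (v j) = w) ∧
      T.a (v 0) (v 1) = w ∧
      T.a (v 1) (v 2) = w ∧
      T.a (v 2) (v 3) = w ∧
      T.a (v 3) (v 4) = w ∧
      T.a (v 2) (v 5) = w ∧
      T.a (v 0) (v 2) = 0 ∧
      T.a (v 0) (v 3) = 0 ∧
      T.a (v 0) (v 4) = 0 ∧
      T.a (v 0) (v 5) = 0 ∧
      T.a (v 1) (v 3) = 0 ∧
      T.a (v 1) (v 4) = 0 ∧
      T.a (v 1) (v 5) = 0 ∧
      T.a (v 2) (v 4) = 0 ∧
      T.a (v 3) (v 5) = 0 ∧
      T.a (v 4) (v 5) = 0 ∧
      T.m (v 1) ≤ 2 * T.m (v 0) ∧
      T.m (v 0) + T.m (v 2) ≤ 2 * T.m (v 1) ∧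
      T.m (v 1) + T.m (v 3) + T.m (v 5) ≤ 2 * T.m (v 2) ∧
      T.m (v 2) + T.m (v 4) ≤ 2 * T.m (v 3) ∧
      T.m (v 3) ≤ 2 * T.m (v 4) ∧
      T.m (v 2) ≤ 2 * T.m (v 5) := by
  exact main T hn v hv h01 h12 h23 h34 h25

end Groth.Agent.S7348
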