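import Groth.Statements.S7349
import Mathlib
import Groth.Agent.Lib.Helper11.NumType

set_option autoImplicit false
open Finset
open Models Models.NumericalType

namespace Groth.Agent.S7349

section helpers
open Finset
open Models Models.NumericalType

open Groth.Agent.Lib.Helper11.NumType

theorem main {n : ℕ} (T : Models.NumericalType n) (hn : 7 < n)
    (v : Fin 7 ↪ Fin n) (hv : ∀ j, T.IsMinusTwo (v j)) (h01 : T.a (v 0) (v 1) ≠ 0) (h12 : T.a (v 1) (v 2) ≠ 0) (h23 : T.a (v 2) (v 3) ≠ 0) (h34 : T.a (v 3) (v 4) ≠ 0) (h45 : T.a (v 4) (v 5) ≠ 0) (h36 : T.a (v 3) (v 6) ≠ 0) :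
    ∃ w : ℤ, (∀ j : Fin 7, T.w (v j) = w) ∧
      T.a (v 0) (v 1) = w ∧
      T.a (v 1) (v 2) = w ∧
      T.a (v 2) (v 3) = w ∧
      T.a (v 3) (v 4) = w ∧
      T.a (v 4) (v 5) = w ∧
      T.a (v 3) (v 6) = w ∧
      T.a (v 0) (v 2) = 0 ∧
      T.a (v 0) (v 3) = 0 ∧
      T.a (v 0) (v 4) = 0 ∧
      T.a (v 0) (v 5) = 0 ∧
      T.a (v 0) (v 6) = 0 ∧
      T.a (v 1) (v 3) = 0 ∧
      T.a (v 1) (v 4) = 0 ∧
      T.a (v 1) (v 5) = 0 ∧
      T.a (v 1) (v 6) = 0 ∧
      T.a (v 2) (v 4) = 0 ∧
      T.a (v 2) (v 5) = 0 ∧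
      T.a (v 2) (v 6) = 0 ∧
      T.a (v 3) (v 5) = 0 ∧
      T.a (v 4) (v 6) = 0 ∧
      T.a (v 5) (v 6) = 0 ∧
      T.m (v 1) ≤ 2 * T.m (v 0) ∧
      T.m (v 0) + T.m (v 2) ≤ 2 * T.m (v 1) ∧
      T.m (v 1) + T.m (v 3) ≤ 2 * T.m (v 2) ∧
      T.m (v 2) + T.m (v 4) + T.m (v 6) ≤ 2 * T.m (v 3) ∧
      T.m (v 3) + T.m (v 5) ≤ 2 * T.m (v 4) ∧
      T.m (v 4) ≤ 2 * T.m (v 5) ∧
      T.m (v 3) ≤ 2 * T.m (v 6) := by
  have hd : ∀ j, T.a (v j) (v j) = -2 * T.w (v j) := fun j => (hv j).2
  have hs : ∀ i j, T.a (v i) (v j) = T.a (v j) (v i) := fun i j => a_symm T _ _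
  have hnn : ∀ i j : Fin 7, i ≠ j → 0 ≤ T.a (v i) (v j) := fun i j hij =>
    T.offDiag_nonneg _ _ (fun h => hij (v.injective h))
  have hwp : ∀ j, 0 < T.w (v j) := fun j => T.w_pos _
  have p34 : 0 < T.a (v 3) (v 4) := edge_pos T (fun h => absurd (v.injective h) (by decide)) h34
  have el34 := w_le_left T p34
  have er34 := w_le_right T p34
  have p36 : 0 < T.a (v 3) (v 6) := edge_pos T (fun h => absurd (v.injective h) (by decide)) h36
  have el36 := w_le_left T p36
  have er36 := w_le_right T p36
  have p23 : 0 < T.a (v 2) (v 3) := edge_pos T (fun h => absurd (v.injective h) (by decide)) h23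
  have el23 := w_le_left T p23
  have er23 := w_le_right T p23
  have p12 : 0 < T.a (v 1) (v 2) := edge_pos T (fun h => absurd (v.injective h) (by decide)) h12
  have el12 := w_le_left T p12
  have er12 := w_le_right T p12
  have p01 : 0 < T.a (v 0) (v 1) := edge_pos T (fun h => absurd (v.injective h) (by decide)) h01
  have el01 := w_le_left T p01
  have er01 := w_le_right T p01
  have p45 : 0 < T.a (v 4) (v 5) := edge_pos T (fun h => absurd (v.injective h) (by decide)) h45
  have el45 := w_le_left T p45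
  have er45 := w_le_right T p45
  have d0 := hd 0
  have wp0 := hwp 0
  have d1 := hd 1
  have wp1 := hwp 1
  have d2 := hd 2
  have wp2 := hwp 2
  have d3 := hd 3
  have wp3 := hwp 3
  have d4 := hd 4
  have wp4 := hwp 4
  have d5 := hd 5
  have wp5 := hwp 5
  have d6 := hd 6
  have wp6 := hwp 6
  have s10 := hs 1 0
  have s20 := hs 2 0
  have s21 := hs 2 1
  have s30 := hs 3 0
  have s31 := hs 3 1
  have s32 := hs 3 2
  have s40 := hs 4 0
  have s41 := hs 4 1
  have s42 := hs 4 2
  have s43 := hs 4 3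
  have s50 := hs 5 0
  have s51 := hs 5 1
  have s52 := hs 5 2
  have s53 := hs 5 3
  have s54 := hs 5 4
  have s60 := hs 6 0
  have s61 := hs 6 1
  have s62 := hs 6 2
  have s63 := hs 6 3
  have s64 := hs 6 4
  have s65 := hs 6 5
  have n02 := hnn 0 2 (by decide)
  have n03 := hnn 0 3 (by decide)
  have n04 := hnn 0 4 (by decide)
  have n05 := hnn 0 5 (by decide)
  have n06 := hnn 0 6 (by decide)
  have n13 := hnn 1 3 (by decide)
  have n14 := hnn 1 4 (by decide)
  have n15 := hnn 1 5 (by decide)
  have n16 := hnn 1 6 (by decide)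
  have n24 := hnn 2 4 (by decide)
  have n25 := hnn 2 5 (by decide)
  have n26 := hnn 2 6 (by decide)
  have n35 := hnn 3 5 (by decide)
  have n46 := hnn 4 6 (by decide)
  have n56 := hnn 5 6 (by decide)
  have key0 := sub_neg T v hn ![0, 0, 1, 2, 2, 2, 1] 2 (by decide)
  simp only [Fin.sum_univ_seven] at key0
  simp only [Matrix.cons_val_zero, Matrix.cons_val_one, Matrix.cons_val] at key0
  have key1 := sub_neg T v hn ![0, 0, 1, 2, 2, 1, 1] 2 (by decide)
  simp only [Fin.sum_univ_seven] at key1
  simp only [Matrix.cons_val_zero, Matrix.cons_val_one, Matrix.cons_val] at key1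
  have key2 := sub_neg T v hn ![0, 0, 0, 1, 2, 3, 0] 3 (by decide)
  simp only [Fin.sum_univ_seven] at key2
  simp only [Matrix.cons_val_zero, Matrix.cons_val_one, Matrix.cons_val] at key2
  have key3 := sub_neg T v hn ![0, 0, 0, 1, 2, 1, 0] 3 (by decide)
  simp only [Fin.sum_univ_seven] at key3
  simp only [Matrix.cons_val_zero, Matrix.cons_val_one, Matrix.cons_val] at key3
  have key4 := sub_neg T v hn ![1, 2, 2, 2, 1, 0, 1] 0 (by decide)
  simp only [Fin.sum_univ_seven] at key4
  simp only [Matrix.cons_val_zero, Matrix.cons_val_one, Matrix.cons_val] at key4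
  have key5 := sub_neg T v hn ![2, 2, 2, 2, 1, 0, 1] 0 (by decide)
  simp only [Fin.sum_univ_seven] at key5
  simp only [Matrix.cons_val_zero, Matrix.cons_val_one, Matrix.cons_val] at key5
  have key6 := sub_neg T v hn ![1, 2, 1, 0, 0, 0, 0] 0 (by decide)
  simp only [Fin.sum_univ_seven] at key6
  simp only [Matrix.cons_val_zero, Matrix.cons_val_one, Matrix.cons_val] at key6
  have key7 := sub_neg T v hn ![3, 2, 1, 0, 0, 0, 0] 0 (by decide)
  simp only [Fin.sum_univ_seven] at key7
  simp only [Matrix.cons_val_zero, Matrix.cons_val_one, Matrix.cons_val] at key7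
  have key8 := sub_neg T v hn ![0, 1, 2, 2, 1, 0, 1] 1 (by decide)
  simp only [Fin.sum_univ_seven] at key8
  simp only [Matrix.cons_val_zero, Matrix.cons_val_one, Matrix.cons_val] at key8
  have key9 := sub_neg T v hn ![0, 2, 2, 2, 1, 0, 1] 1 (by decide)
  simp only [Fin.sum_univ_seven] at key9
  simp only [Matrix.cons_val_zero, Matrix.cons_val_one, Matrix.cons_val] at key9
  have key10 := sub_neg T v hn ![0, 1, 2, 1, 0, 0, 0] 1 (by decide)
  simp only [Fin.sum_univ_seven] at key10
  simp only [Matrix.cons_val_zero, Matrix.cons_val_one, Matrix.cons_val] at key10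
  have key11 := sub_neg T v hn ![0, 3, 2, 1, 0, 0, 0] 1 (by decide)
  simp only [Fin.sum_univ_seven] at key11
  simp only [Matrix.cons_val_zero, Matrix.cons_val_one, Matrix.cons_val] at key11
  have key12 := sub_neg T v hn ![0, 0, 1, 2, 1, 0, 1] 2 (by decide)
  simp only [Fin.sum_univ_seven] at key12
  simp only [Matrix.cons_val_zero, Matrix.cons_val_one, Matrix.cons_val] at key12
  have key13 := sub_neg T v hn ![0, 0, 2, 2, 1, 0, 1] 2 (by decide)
  simp only [Fin.sum_univ_seven] at key13
  simp only [Matrix.cons_val_zero, Matrix.cons_val_one, Matrix.cons_val] at key13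
  have key14 := sub_neg T v hn ![0, 0, 1, 2, 1, 0, 0] 2 (by decide)
  simp only [Fin.sum_univ_seven] at key14
  simp only [Matrix.cons_val_zero, Matrix.cons_val_one, Matrix.cons_val] at key14
  have key15 := sub_neg T v hn ![0, 0, 3, 2, 1, 0, 0] 2 (by decide)
  simp only [Fin.sum_univ_seven] at key15
  simp only [Matrix.cons_val_zero, Matrix.cons_val_one, Matrix.cons_val] at key15
  have key16 := sub_neg T v hn ![0, 0, 1, 2, 1, 0, 2] 2 (by decide)
  simp only [Fin.sum_univ_seven] at key16
  simp only [Matrix.cons_val_zero, Matrix.cons_val_one, Matrix.cons_val] at key16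
  have key17 := sub_neg T v hn ![0, 0, 1, 2, 0, 0, 2] 2 (by decide)
  simp only [Fin.sum_univ_seven] at key17
  simp only [Matrix.cons_val_zero, Matrix.cons_val_one, Matrix.cons_val] at key17
  have key18 := sub_neg T v hn ![0, 0, 1, 1, 0, 0, 1] 2 (by decide)
  simp only [Fin.sum_univ_seven] at key18
  simp only [Matrix.cons_val_zero, Matrix.cons_val_one, Matrix.cons_val] at key18
  have key19 := sub_neg T v hn ![0, 0, 1, 2, 0, 0, 1] 2 (by decide)
  simp only [Fin.sum_univ_seven] at key19
  simp only [Matrix.cons_val_zero, Matrix.cons_val_one, Matrix.cons_val] at key19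
  have key20 := sub_neg T v hn ![0, 0, 2, 2, 0, 0, 1] 2 (by decide)
  simp only [Fin.sum_univ_seven] at key20
  simp only [Matrix.cons_val_zero, Matrix.cons_val_one, Matrix.cons_val] at key20
  have key21 := sub_neg T v hn ![0, 0, 0, 2, 1, 0, 3] 3 (by decide)
  simp only [Fin.sum_univ_seven] at key21
  simp only [Matrix.cons_val_zero, Matrix.cons_val_one, Matrix.cons_val] at key21
  have key22 := sub_neg T v hn ![0, 0, 0, 2, 1, 0, 1] 3 (by decide)
  simp only [Fin.sum_univ_seven] at key22
  simp only [Matrix.cons_val_zero, Matrix.cons_val_one, Matrix.cons_val] at key22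
  have key23 := sub_neg T v hn ![0, 0, 1, 2, 2, 0, 1] 2 (by decide)
  simp only [Fin.sum_univ_seven] at key23
  simp only [Matrix.cons_val_zero, Matrix.cons_val_one, Matrix.cons_val] at key23
  have key24 := sub_neg T v hn ![0, 0, 1, 2, 2, 0, 0] 2 (by decide)
  simp only [Fin.sum_univ_seven] at key24
  simp only [Matrix.cons_val_zero, Matrix.cons_val_one, Matrix.cons_val] at key24
  have key25 := sub_neg T v hn ![0, 0, 1, 1, 1, 0, 0] 2 (by decide)
  simp only [Fin.sum_univ_seven] at key25
  simp only [Matrix.cons_val_zero, Matrix.cons_val_one, Matrix.cons_val] at key25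
  have key26 := sub_neg T v hn ![0, 0, 0, 1, 1, 0, 1] 3 (by decide)
  simp only [Fin.sum_univ_seven] at key26
  simp only [Matrix.cons_val_zero, Matrix.cons_val_one, Matrix.cons_val] at key26
  have key27 := sub_neg T v hn ![0, 0, 0, 2, 2, 0, 1] 3 (by decide)
  simp only [Fin.sum_univ_seven] at key27
  simp only [Matrix.cons_val_zero, Matrix.cons_val_one, Matrix.cons_val] at key27
  have key28 := sub_neg T v hn ![0, 0, 0, 3, 3, 0, 1] 3 (by decide)
  simp only [Fin.sum_univ_seven] at key28
  simp only [Matrix.cons_val_zero, Matrix.cons_val_one, Matrix.cons_val] at key28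
  have key29 := sub_neg T v hn ![0, 0, 2, 2, 1, 0, 0] 2 (by decide)
  simp only [Fin.sum_univ_seven] at key29
  simp only [Matrix.cons_val_zero, Matrix.cons_val_one, Matrix.cons_val] at key29
  have key30 := sub_neg T v hn ![0, 0, 0, 2, 1, 0, 2] 3 (by decide)
  simp only [Fin.sum_univ_seven] at key30
  simp only [Matrix.cons_val_zero, Matrix.cons_val_one, Matrix.cons_val] at key30
  have key31 := sub_neg T v hn ![0, 0, 0, 6, 3, 0, 2] 3 (by decide)
  simp only [Fin.sum_univ_seven] at key31
  simp only [Matrix.cons_val_zero, Matrix.cons_val_one, Matrix.cons_val] at key31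
  have key32 := sub_neg T v hn ![0, 0, 0, 2, 3, 0, 1] 3 (by decide)
  simp only [Fin.sum_univ_seven] at key32
  simp only [Matrix.cons_val_zero, Matrix.cons_val_one, Matrix.cons_val] at key32
  have key33 := sub_neg T v hn ![0, 0, 0, 4, 6, 0, 1] 3 (by decide)
  simp only [Fin.sum_univ_seven] at key33
  simp only [Matrix.cons_val_zero, Matrix.cons_val_one, Matrix.cons_val] at key33
  have key34 := sub_neg T v hn ![0, 0, 0, 6, 9, 0, 1] 3 (by decide)
  simp only [Fin.sum_univ_seven] at key34
  simp only [Matrix.cons_val_zero, Matrix.cons_val_one, Matrix.cons_val] at key34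
  have key35 := sub_neg T v hn ![0, 0, 0, 4, 2, 0, 1] 3 (by decide)
  simp only [Fin.sum_univ_seven] at key35
  simp only [Matrix.cons_val_zero, Matrix.cons_val_one, Matrix.cons_val] at key35
  have key36 := sub_neg T v hn ![0, 0, 0, 6, 3, 0, 1] 3 (by decide)
  simp only [Fin.sum_univ_seven] at key36
  simp only [Matrix.cons_val_zero, Matrix.cons_val_one, Matrix.cons_val] at key36
  have kz02 := sub_neg T v hn ![1, 1, 1, 0, 0, 0, 0] 0 (by decide)
  simp only [Fin.sum_univ_seven] at kz02
  simp only [Matrix.cons_val_zero, Matrix.cons_val_one, Matrix.cons_val] at kz02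
  have z02 : T.a (v 0) (v 2) = 0 := by
    by_contra hne
    have hp := edge_pos T (fun h => absurd (v.injective h) (by decide)) hne
    have hzl := w_le_left T hp
    have hzr := w_le_right T hp
    linarith only [kz02, hzl, hzr, d0, d1, d2, s10, s20, s21, el01, er01, el12, er12]
  clear kz02
  have kz03 := sub_neg T v hn ![1, 1, 1, 1, 0, 0, 0] 0 (by decide)
  simp only [Fin.sum_univ_seven] at kz03
  simp only [Matrix.cons_val_zero, Matrix.cons_val_one, Matrix.cons_val] at kz03
  have z03 : T.a (v 0) (v 3) = 0 := by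
    by_contra hne
    have hp := edge_pos T (fun h => absurd (v.injective h) (by decide)) hne
    have hzl := w_le_left T hp
    have hzr := w_le_right T hp
    linarith only [kz03, hzl, hzr, d0, d1, d2, d3, s10, s20, s21, s30, s31, s32, el01, er01, n02, el12, er12, n13, el23, er23]
  clear kz03
  have kz04 := sub_neg T v hn ![1, 1, 1, 1, 1, 0, 0] 0 (by decide)
  simp only [Fin.sum_univ_seven] at kz04
  simp only [Matrix.cons_val_zero, Matrix.cons_val_one, Matrix.cons_val] at kz04
  have z04 : T.a (v 0) (v 4) = 0 := by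
    by_contra hne
    have hp := edge_pos T (fun h => absurd (v.injective h) (by decide)) hne
    have hzl := w_le_left T hp
    have hzr := w_le_right T hp
    linarith only [kz04, hzl, hzr, d0, d1, d2, d3, d4, s10, s20, s21, s30, s31, s32, s40, s41, s42, s43, el01, er01, n02, n03, el12, er12, n13, n14, el23, er23, n24, el34, er34]
  clear kz04
  have kz05 := sub_neg T v hn ![1, 1, 1, 1, 1, 1, 0] 0 (by decide)
  simp only [Fin.sum_univ_seven] at kz05
  simp only [Matrix.cons_val_zero, Matrix.cons_val_one, Matrix.cons_val] at kz05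
  have z05 : T.a (v 0) (v 5) = 0 := by
    by_contra hne
    have hp := edge_pos T (fun h => absurd (v.injective h) (by decide)) hne
    have hzl := w_le_left T hp
    have hzr := w_le_right T hp
    linarith only [kz05, hzl, hzr, d0, d1, d2, d3, d4, d5, s10, s20, s21, s30, s31, s32, s40, s41, s42, s43, s50, s51, s52, s53, s54, el01, er01, n02, n03, n04, el12, er12, n13, n14, n15, el23, er23, n24, n25, el34, er34, n35, el45, er45]
  clear kz05
  have kz06 := sub_neg T v hn ![1, 1, 1, 1, 0, 0, 1] 0 (by decide)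
  simp only [Fin.sum_univ_seven] at kz06
  simp only [Matrix.cons_val_zero, Matrix.cons_val_one, Matrix.cons_val] at kz06
  have z06 : T.a (v 0) (v 6) = 0 := by
    by_contra hne
    have hp := edge_pos T (fun h => absurd (v.injective h) (by decide)) hne
    have hzl := w_le_left T hp
    have hzr := w_le_right T hp
    linarith only [kz06, hzl, hzr, d0, d1, d2, d3, d6, s10, s20, s21, s30, s31, s32, s60, s61, s62, s63, el01, er01, n02, n03, el12, er12, n13, n16, el23, er23, n26, el36, er36]
  clear kz06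
  have kz13 := sub_neg T v hn ![0, 1, 1, 1, 0, 0, 0] 1 (by decide)
  simp only [Fin.sum_univ_seven] at kz13
  simp only [Matrix.cons_val_zero, Matrix.cons_val_one, Matrix.cons_val] at kz13
  have z13 : T.a (v 1) (v 3) = 0 := by
    by_contra hne
    have hp := edge_pos T (fun h => absurd (v.injective h) (by decide)) hne
    have hzl := w_le_left T hp
    have hzr := w_le_right T hp
    linarith only [kz13, hzl, hzr, d1, d2, d3, s21, s31, s32, el12, er12, el23, er23]
  clear kz13
  have kz14 := sub_neg T v hn ![0, 1, 1, 1, 1, 0, 0] 1 (by decide)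
  simp only [Fin.sum_univ_seven] at kz14
  simp only [Matrix.cons_val_zero, Matrix.cons_val_one, Matrix.cons_val] at kz14
  have z14 : T.a (v 1) (v 4) = 0 := by
    by_contra hne
    have hp := edge_pos T (fun h => absurd (v.injective h) (by decide)) hne
    have hzl := w_le_left T hp
    have hzr := w_le_right T hp
    linarith only [kz14, hzl, hzr, d1, d2, d3, d4, s21, s31, s32, s41, s42, s43, el12, er12, n13, el23, er23, n24, el34, er34]
  clear kz14
  have kz15 := sub_neg T v hn ![0, 1, 1, 1, 1, 1, 0] 1 (by decide)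
  simp only [Fin.sum_univ_seven] at kz15
  simp only [Matrix.cons_val_zero, Matrix.cons_val_one, Matrix.cons_val] at kz15
  have z15 : T.a (v 1) (v 5) = 0 := by
    by_contra hne
    have hp := edge_pos T (fun h => absurd (v.injective h) (by decide)) hne
    have hzl := w_le_left T hp
    have hzr := w_le_right T hp
    linarith only [kz15, hzl, hzr, d1, d2, d3, d4, d5, s21, s31, s32, s41, s42, s43, s51, s52, s53, s54, el12, er12, n13, n14, el23, er23, n24, n25, el34, er34, n35, el45, er45]
  clear kz15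
  have kz16 := sub_neg T v hn ![0, 1, 1, 1, 0, 0, 1] 1 (by decide)
  simp only [Fin.sum_univ_seven] at kz16
  simp only [Matrix.cons_val_zero, Matrix.cons_val_one, Matrix.cons_val] at kz16
  have z16 : T.a (v 1) (v 6) = 0 := by
    by_contra hne
    have hp := edge_pos T (fun h => absurd (v.injective h) (by decide)) hne
    have hzl := w_le_left T hp
    have hzr := w_le_right T hp
    linarith only [kz16, hzl, hzr, d1, d2, d3, d6, s21, s31, s32, s61, s62, s63, el12, er12, n13, el23, er23, n26, el36, er36]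
  clear kz16
  have kz24 := sub_neg T v hn ![0, 0, 1, 1, 1, 0, 0] 2 (by decide)
  simp only [Fin.sum_univ_seven] at kz24
  simp only [Matrix.cons_val_zero, Matrix.cons_val_one, Matrix.cons_val] at kz24
  have z24 : T.a (v 2) (v 4) = 0 := by
    by_contra hne
    have hp := edge_pos T (fun h => absurd (v.injective h) (by decide)) hne
    have hzl := w_le_left T hp
    have hzr := w_le_right T hp
    linarith only [kz24, hzl, hzr, d2, d3, d4, s32, s42, s43, el23, er23, el34, er34]
  clear kz24
  have kz25 := sub_neg T v hn ![0, 0, 1, 1, 1, 1, 0] 2 (by decide)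
  simp only [Fin.sum_univ_seven] at kz25
  simp only [Matrix.cons_val_zero, Matrix.cons_val_one, Matrix.cons_val] at kz25
  have z25 : T.a (v 2) (v 5) = 0 := by
    by_contra hne
    have hp := edge_pos T (fun h => absurd (v.injective h) (by decide)) hne
    have hzl := w_le_left T hp
    have hzr := w_le_right T hp
    linarith only [kz25, hzl, hzr, d2, d3, d4, d5, s32, s42, s43, s52, s53, s54, el23, er23, n24, el34, er34, n35, el45, er45]
  clear kz25
  have kz26 := sub_neg T v hn ![0, 0, 1, 1, 0, 0, 1] 2 (by decide)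
  simp only [Fin.sum_univ_seven] at kz26
  simp only [Matrix.cons_val_zero, Matrix.cons_val_one, Matrix.cons_val] at kz26
  have z26 : T.a (v 2) (v 6) = 0 := by
    by_contra hne
    have hp := edge_pos T (fun h => absurd (v.injective h) (by decide)) hne
    have hzl := w_le_left T hp
    have hzr := w_le_right T hp
    linarith only [kz26, hzl, hzr, d2, d3, d6, s32, s62, s63, el23, er23, el36, er36]
  clear kz26
  have kz35 := sub_neg T v hn ![0, 0, 0, 1, 1, 1, 0] 3 (by decide)
  simp only [Fin.sum_univ_seven] at kz35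
  simp only [Matrix.cons_val_zero, Matrix.cons_val_one, Matrix.cons_val] at kz35
  have z35 : T.a (v 3) (v 5) = 0 := by
    by_contra hne
    have hp := edge_pos T (fun h => absurd (v.injective h) (by decide)) hne
    have hzl := w_le_left T hp
    have hzr := w_le_right T hp
    linarith only [kz35, hzl, hzr, d3, d4, d5, s43, s53, s54, el34, er34, el45, er45]
  clear kz35
  have kz46 := sub_neg T v hn ![0, 0, 0, 1, 1, 0, 1] 3 (by decide)
  simp only [Fin.sum_univ_seven] at kz46
  simp only [Matrix.cons_val_zero, Matrix.cons_val_one, Matrix.cons_val] at kz46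
  have z46 : T.a (v 4) (v 6) = 0 := by
    by_contra hne
    have hp := edge_pos T (fun h => absurd (v.injective h) (by decide)) hne
    have hzl := w_le_left T hp
    have hzr := w_le_right T hp
    linarith only [kz46, hzl, hzr, d3, d4, d6, s43, s63, s64, el34, er34, el36, er36]
  clear kz46
  have kz56 := sub_neg T v hn ![0, 0, 0, 1, 1, 1, 1] 3 (by decide)
  simp only [Fin.sum_univ_seven] at kz56
  simp only [Matrix.cons_val_zero, Matrix.cons_val_one, Matrix.cons_val] at kz56
  have z56 : T.a (v 5) (v 6) = 0 := by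
    by_contra hne
    have hp := edge_pos T (fun h => absurd (v.injective h) (by decide)) hne
    have hzl := w_le_left T hp
    have hzr := w_le_right T hp
    linarith only [kz56, hzl, hzr, d3, d4, d5, d6, s43, s53, s54, s63, s64, s65, el34, er34, n35, el36, er36, el45, er45, n46]
  clear kz56
  rcases edge_cases T v hn hv (by decide) p34 with ⟨e34a, e34b⟩ | ⟨e34a, e34b⟩ | ⟨e34a, e34b⟩ | ⟨e34a, e34b⟩ | ⟨e34a, e34b⟩
  · rcases edge_cases T v hn hv (by decide) p36 with ⟨e36a, e36b⟩ | ⟨e36a, e36b⟩ | ⟨e36a, e36b⟩ | ⟨e36a, e36b⟩ | ⟨e36a, e36b⟩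
    · rcases edge_cases T v hn hv (by decide) p23 with ⟨e23a, e23b⟩ | ⟨e23a, e23b⟩ | ⟨e23a, e23b⟩ | ⟨e23a, e23b⟩ | ⟨e23a, e23b⟩
      · rcases edge_cases T v hn hv (by decide) p12 with ⟨e12a, e12b⟩ | ⟨e12a, e12b⟩ | ⟨e12a, e12b⟩ | ⟨e12a, e12b⟩ | ⟨e12a, e12b⟩
        · rcases edge_cases T v hn hv (by decide) p01 with ⟨e01a, e01b⟩ | ⟨e01a, e01b⟩ | ⟨e01a, e01b⟩ | ⟨e01a, e01b⟩ | ⟨e01a, e01b⟩
          · rcases edge_cases T v hn hv (by decide) p45 with ⟨e45a, e45b⟩ | ⟨e45a, e45b⟩ | ⟨e45a, e45b⟩ | ⟨e45a, e45b⟩ | ⟨e45a, e45b⟩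
            · have hw1 : T.w (v 1) = T.w (v 0) := by linarith only [e01a, e01b, e12a, e12b, e23a, e23b, e34a, e34b, e45a, e45b, e36a, e36b]
              have hw2 : T.w (v 2) = T.w (v 0) := by linarith only [e01a, e01b, e12a, e12b, e23a, e23b, e34a, e34b, e45a, e45b, e36a, e36b]
              have hw3 : T.w (v 3) = T.w (v 0) := by linarith only [e01a, e01b, e12a, e12b, e23a, e23b, e34a, e34b, e45a, e45b, e36a, e36b]
              have hw4 : T.w (v 4) = T.w (v 0) := by linarith only [e01a, e01b, e12a, e12b, e23a, e23b, e34a, e34b, e45a, e45b, e36a, e36b]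
              have hw5 : T.w (v 5) = T.w (v 0) := by linarith only [e01a, e01b, e12a, e12b, e23a, e23b, e34a, e34b, e45a, e45b, e36a, e36b]
              have hw6 : T.w (v 6) = T.w (v 0) := by linarith only [e01a, e01b, e12a, e12b, e23a, e23b, e34a, e34b, e45a, e45b, e36a, e36b]
              have ha00 : T.a (v 0) (v 0) = -2 * T.w (v 0) := by linarith only [d0]
              have ha01 : T.a (v 0) (v 1) = T.w (v 0) := by linarith only [e01a]
              have ha02 : T.a (v 0) (v 2) = 0 := by linarith only [z02]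
              have ha03 : T.a (v 0) (v 3) = 0 := by linarith only [z03]
              have ha04 : T.a (v 0) (v 4) = 0 := by linarith only [z04]
              have ha05 : T.a (v 0) (v 5) = 0 := by linarith only [z05]
              have ha06 : T.a (v 0) (v 6) = 0 := by linarith only [z06]
              have ha10 : T.a (v 1) (v 0) = T.w (v 0) := by linarith only [e01a, s10]
              have ha11 : T.a (v 1) (v 1) = -2 * T.w (v 0) := by linarith only [d1, hw1]
              have ha12 : T.a (v 1) (v 2) = T.w (v 0) := by linarith only [e12a, hw1]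
              have ha13 : T.a (v 1) (v 3) = 0 := by linarith only [z13]
              have ha14 : T.a (v 1) (v 4) = 0 := by linarith only [z14]
              have ha15 : T.a (v 1) (v 5) = 0 := by linarith only [z15]
              have ha16 : T.a (v 1) (v 6) = 0 := by linarith only [z16]
              have ha20 : T.a (v 2) (v 0) = 0 := by linarith only [z02, s20]
              have ha21 : T.a (v 2) (v 1) = T.w (v 0) := by linarith only [e12a, hw1, s21]
              have ha22 : T.a (v 2) (v 2) = -2 * T.w (v 0) := by linarith only [d2, hw2]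
              have ha23 : T.a (v 2) (v 3) = T.w (v 0) := by linarith only [e23a, hw2]
              have ha24 : T.a (v 2) (v 4) = 0 := by linarith only [z24]
              have ha25 : T.a (v 2) (v 5) = 0 := by linarith only [z25]
              have ha26 : T.a (v 2) (v 6) = 0 := by linarith only [z26]
              have ha30 : T.a (v 3) (v 0) = 0 := by linarith only [z03, s30]
              have ha31 : T.a (v 3) (v 1) = 0 := by linarith only [z13, s31]
              have ha32 : T.a (v 3) (v 2) = T.w (v 0) := by linarith only [e23a, hw2, s32]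
              have ha33 : T.a (v 3) (v 3) = -2 * T.w (v 0) := by linarith only [d3, hw3]
              have ha34 : T.a (v 3) (v 4) = T.w (v 0) := by linarith only [e34a, hw3]
              have ha35 : T.a (v 3) (v 5) = 0 := by linarith only [z35]
              have ha36 : T.a (v 3) (v 6) = T.w (v 0) := by linarith only [e36a, hw3]
              have ha40 : T.a (v 4) (v 0) = 0 := by linarith only [z04, s40]
              have ha41 : T.a (v 4) (v 1) = 0 := by linarith only [z14, s41]
              have ha42 : T.a (v 4) (v 2) = 0 := by linarith only [z24, s42]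
              have ha43 : T.a (v 4) (v 3) = T.w (v 0) := by linarith only [e34a, hw3, s43]
              have ha44 : T.a (v 4) (v 4) = -2 * T.w (v 0) := by linarith only [d4, hw4]
              have ha45 : T.a (v 4) (v 5) = T.w (v 0) := by linarith only [e45a, hw4]
              have ha46 : T.a (v 4) (v 6) = 0 := by linarith only [z46]
              have ha50 : T.a (v 5) (v 0) = 0 := by linarith only [z05, s50]
              have ha51 : T.a (v 5) (v 1) = 0 := by linarith only [z15, s51]
              have ha52 : T.a (v 5) (v 2) = 0 := by linarith only [z25, s52]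
              have ha53 : T.a (v 5) (v 3) = 0 := by linarith only [z35, s53]
              have ha54 : T.a (v 5) (v 4) = T.w (v 0) := by linarith only [e45a, hw4, s54]
              have ha55 : T.a (v 5) (v 5) = -2 * T.w (v 0) := by linarith only [d5, hw5]
              have ha56 : T.a (v 5) (v 6) = 0 := by linarith only [z56]
              have ha60 : T.a (v 6) (v 0) = 0 := by linarith only [z06, s60]
              have ha61 : T.a (v 6) (v 1) = 0 := by linarith only [z16, s61]
              have ha62 : T.a (v 6) (v 2) = 0 := by linarith only [z26, s62]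
              have ha63 : T.a (v 6) (v 3) = T.w (v 0) := by linarith only [e36a, hw3, s63]
              have ha64 : T.a (v 6) (v 4) = 0 := by linarith only [z46, s64]
              have ha65 : T.a (v 6) (v 5) = 0 := by linarith only [z56, s65]
              have ha66 : T.a (v 6) (v 6) = -2 * T.w (v 0) := by linarith only [d6, hw6]
              have r0 := row_le T v 0
              simp only [Fin.sum_univ_seven] at r0
              rw [ha00, ha01, ha02, ha03, ha04, ha05, ha06] at r0
              have r1 := row_le T v 1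
              simp only [Fin.sum_univ_seven] at r1
              rw [ha10, ha11, ha12, ha13, ha14, ha15, ha16] at r1
              have r2 := row_le T v 2
              simp only [Fin.sum_univ_seven] at r2
              rw [ha20, ha21, ha22, ha23, ha24, ha25, ha26] at r2
              have r3 := row_le T v 3
              simp only [Fin.sum_univ_seven] at r3
              rw [ha30, ha31, ha32, ha33, ha34, ha35, ha36] at r3
              have r4 := row_le T v 4
              simp only [Fin.sum_univ_seven] at r4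
              rw [ha40, ha41, ha42, ha43, ha44, ha45, ha46] at r4
              have r5 := row_le T v 5
              simp only [Fin.sum_univ_seven] at r5
              rw [ha50, ha51, ha52, ha53, ha54, ha55, ha56] at r5
              have r6 := row_le T v 6
              simp only [Fin.sum_univ_seven] at r6
              rw [ha60, ha61, ha62, ha63, ha64, ha65, ha66] at r6
              refine ⟨T.w (v 0), ?_, ha01, ha12, ha23, ha34, ha45, ha36, ha02, ha03, ha04, ha05, ha06, ha13, ha14, ha15, ha16, ha24, ha25, ha26, ha35, ha46, ha56, ?_, ?_, ?_, ?_, ?_, ?_, ?_⟩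
              · intro j; fin_cases j <;> simp <;> linarith only [hw1, hw2, hw3, hw4, hw5, hw6]
              · have h : T.w (v 0) * (T.m (v 1) - 2 * T.m (v 0)) ≤ 0 := by linarith only [r0]
                have := nonpos_of_mul_nonpos_right h wp0
                linarith only [this]
              · have h : T.w (v 0) * (T.m (v 0) + T.m (v 2) - 2 * T.m (v 1)) ≤ 0 := by linarith only [r1]
                have := nonpos_of_mul_nonpos_right h wp0
                linarith only [this]
              · have h : T.w (v 0) * (T.m (v 1) + T.m (v 3) - 2 * T.m (v 2)) ≤ 0 := by linarith only [r2]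
                have := nonpos_of_mul_nonpos_right h wp0
                linarith only [this]
              · have h : T.w (v 0) * (T.m (v 2) + T.m (v 4) + T.m (v 6) - 2 * T.m (v 3)) ≤ 0 := by linarith only [r3]
                have := nonpos_of_mul_nonpos_right h wp0
                linarith only [this]
              · have h : T.w (v 0) * (T.m (v 3) + T.m (v 5) - 2 * T.m (v 4)) ≤ 0 := by linarith only [r4]
                have := nonpos_of_mul_nonpos_right h wp0
                linarith only [this]
              · have h : T.w (v 0) * (T.m (v 4) - 2 * T.m (v 5)) ≤ 0 := by linarith only [r5]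
                have := nonpos_of_mul_nonpos_right h wp0
                linarith only [this]
              · have h : T.w (v 0) * (T.m (v 3) - 2 * T.m (v 6)) ≤ 0 := by linarith only [r6]
                have := nonpos_of_mul_nonpos_right h wp0
                linarith only [this]
            · exfalso; linarith only [key0, d2, wp2, d3, wp3, d4, wp4, d5, wp5, d6, wp6, s32, s42, s43, s52, s53, s54, s62, s63, s64, s65, e23a, e23b, z24, z25, z26, e34a, e34b, z35, e36a, e36b, e45a, e45b, z46, z56]
            · exfalso; linarith only [key1, d2, wp2, d3, wp3, d4, wp4, d5, wp5, d6, wp6, s32, s42, s43, s52, s53, s54, s62, s63, s64, s65, e23a, e23b, z24, z25, z26, e34a, e34b, z35, e36a, e36b, e45a, e45b, z46, z56]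
            · exfalso; linarith only [key2, d3, wp3, d4, wp4, d5, wp5, s43, s53, s54, e34a, e34b, z35, e45a, e45b]
            · exfalso; linarith only [key3, d3, wp3, d4, wp4, d5, wp5, s43, s53, s54, e34a, e34b, z35, e45a, e45b]
          · exfalso; linarith only [key4, d0, wp0, d1, wp1, d2, wp2, d3, wp3, d4, wp4, d6, wp6, s10, s20, s21, s30, s31, s32, s40, s41, s42, s43, s60, s61, s62, s63, s64, e01a, e01b, z02, z03, z04, z06, e12a, e12b, z13, z14, z16, e23a, e23b, z24, z26, e34a, e34b, e36a, e36b, z46]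
          · exfalso; linarith only [key5, d0, wp0, d1, wp1, d2, wp2, d3, wp3, d4, wp4, d6, wp6, s10, s20, s21, s30, s31, s32, s40, s41, s42, s43, s60, s61, s62, s63, s64, e01a, e01b, z02, z03, z04, z06, e12a, e12b, z13, z14, z16, e23a, e23b, z24, z26, e34a, e34b, e36a, e36b, z46]
          · exfalso; linarith only [key6, d0, wp0, d1, wp1, d2, wp2, s10, s20, s21, e01a, e01b, z02, e12a, e12b]
          · exfalso; linarith only [key7, d0, wp0, d1, wp1, d2, wp2, s10, s20, s21, e01a, e01b, z02, e12a, e12b]
        · exfalso; linarith only [key8, d1, wp1, d2, wp2, d3, wp3, d4, wp4, d6, wp6, s21, s31, s32, s41, s42, s43, s61, s62, s63, s64, e12a, e12b, z13, z14, z16, e23a, e23b, z24, z26, e34a, e34b, e36a, e36b, z46]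
        · exfalso; linarith only [key9, d1, wp1, d2, wp2, d3, wp3, d4, wp4, d6, wp6, s21, s31, s32, s41, s42, s43, s61, s62, s63, s64, e12a, e12b, z13, z14, z16, e23a, e23b, z24, z26, e34a, e34b, e36a, e36b, z46]
        · exfalso; linarith only [key10, d1, wp1, d2, wp2, d3, wp3, s21, s31, s32, e12a, e12b, z13, e23a, e23b]
        · exfalso; linarith only [key11, d1, wp1, d2, wp2, d3, wp3, s21, s31, s32, e12a, e12b, z13, e23a, e23b]
      · exfalso; linarith only [key12, d2, wp2, d3, wp3, d4, wp4, d6, wp6, s32, s42, s43, s62, s63, s64, e23a, e23b, z24, z26, e34a, e34b, e36a, e36b, z46]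
      · exfalso; linarith only [key13, d2, wp2, d3, wp3, d4, wp4, d6, wp6, s32, s42, s43, s62, s63, s64, e23a, e23b, z24, z26, e34a, e34b, e36a, e36b, z46]
      · exfalso; linarith only [key14, d2, wp2, d3, wp3, d4, wp4, s32, s42, s43, e23a, e23b, z24, e34a, e34b]
      · exfalso; linarith only [key15, d2, wp2, d3, wp3, d4, wp4, s32, s42, s43, e23a, e23b, z24, e34a, e34b]
    · rcases edge_cases T v hn hv (by decide) p23 with ⟨e23a, e23b⟩ | ⟨e23a, e23b⟩ | ⟨e23a, e23b⟩ | ⟨e23a, e23b⟩ | ⟨e23a, e23b⟩
      · exfalso; linarith only [key16, d2, wp2, d3, wp3, d4, wp4, d6, wp6, s32, s42, s43, s62, s63, s64, e23a, e23b, z24, z26, e34a, e34b, e36a, e36b, z46]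
      · exfalso; linarith only [key17, d2, wp2, d3, wp3, d6, wp6, s32, s62, s63, e23a, e23b, z26, e36a, e36b]
      · exfalso; linarith only [key18, d2, wp2, d3, wp3, d6, wp6, s32, s62, s63, e23a, e23b, z26, e36a, e36b]
      · exfalso; linarith only [key14, d2, wp2, d3, wp3, d4, wp4, s32, s42, s43, e23a, e23b, z24, e34a, e34b]
      · exfalso; linarith only [key18, d2, wp2, d3, wp3, d6, wp6, s32, s62, s63, e23a, e23b, z26, e36a, e36b]
    · rcases edge_cases T v hn hv (by decide) p23 with ⟨e23a, e23b⟩ | ⟨e23a, e23b⟩ | ⟨e23a, e23b⟩ | ⟨e23a, e23b⟩ | ⟨e23a, e23b⟩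
      · exfalso; linarith only [key12, d2, wp2, d3, wp3, d4, wp4, d6, wp6, s32, s42, s43, s62, s63, s64, e23a, e23b, z24, z26, e34a, e34b, e36a, e36b, z46]
      · exfalso; linarith only [key19, d2, wp2, d3, wp3, d6, wp6, s32, s62, s63, e23a, e23b, z26, e36a, e36b]
      · exfalso; linarith only [key20, d2, wp2, d3, wp3, d6, wp6, s32, s62, s63, e23a, e23b, z26, e36a, e36b]
      · exfalso; linarith only [key14, d2, wp2, d3, wp3, d4, wp4, s32, s42, s43, e23a, e23b, z24, e34a, e34b]
      · exfalso; linarith only [key20, d2, wp2, d3, wp3, d6, wp6, s32, s62, s63, e23a, e23b, z26, e36a, e36b]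
    · exfalso; linarith only [key21, d3, wp3, d4, wp4, d6, wp6, s43, s63, s64, e34a, e34b, e36a, e36b, z46]
    · exfalso; linarith only [key22, d3, wp3, d4, wp4, d6, wp6, s43, s63, s64, e34a, e34b, e36a, e36b, z46]
  · rcases edge_cases T v hn hv (by decide) p36 with ⟨e36a, e36b⟩ | ⟨e36a, e36b⟩ | ⟨e36a, e36b⟩ | ⟨e36a, e36b⟩ | ⟨e36a, e36b⟩
    · rcases edge_cases T v hn hv (by decide) p23 with ⟨e23a, e23b⟩ | ⟨e23a, e23b⟩ | ⟨e23a, e23b⟩ | ⟨e23a, e23b⟩ | ⟨e23a, e23b⟩
      · exfalso; linarith only [key23, d2, wp2, d3, wp3, d4, wp4, d6, wp6, s32, s42, s43, s62, s63, s64, e23a, e23b, z24, z26, e34a, e34b, e36a, e36b, z46]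
      · exfalso; linarith only [key24, d2, wp2, d3, wp3, d4, wp4, s32, s42, s43, e23a, e23b, z24, e34a, e34b]
      · exfalso; linarith only [key25, d2, wp2, d3, wp3, d4, wp4, s32, s42, s43, e23a, e23b, z24, e34a, e34b]
      · exfalso; linarith only [key19, d2, wp2, d3, wp3, d6, wp6, s32, s62, s63, e23a, e23b, z26, e36a, e36b]
      · exfalso; linarith only [key25, d2, wp2, d3, wp3, d4, wp4, s32, s42, s43, e23a, e23b, z24, e34a, e34b]
    · exfalso; linarith only [key26, d3, wp3, d4, wp4, d6, wp6, s43, s63, s64, e34a, e34b, e36a, e36b, z46]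
    · exfalso; linarith only [key27, d3, wp3, d4, wp4, d6, wp6, s43, s63, s64, e34a, e34b, e36a, e36b, z46]
    · exfalso; linarith only [key26, d3, wp3, d4, wp4, d6, wp6, s43, s63, s64, e34a, e34b, e36a, e36b, z46]
    · exfalso; linarith only [key28, d3, wp3, d4, wp4, d6, wp6, s43, s63, s64, e34a, e34b, e36a, e36b, z46]
  · rcases edge_cases T v hn hv (by decide) p36 with ⟨e36a, e36b⟩ | ⟨e36a, e36b⟩ | ⟨e36a, e36b⟩ | ⟨e36a, e36b⟩ | ⟨e36a, e36b⟩
    · rcases edge_cases T v hn hv (by decide) p23 with ⟨e23a, e23b⟩ | ⟨e23a, e23b⟩ | ⟨e23a, e23b⟩ | ⟨e23a, e23b⟩ | ⟨e23a, e23b⟩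
      · exfalso; linarith only [key12, d2, wp2, d3, wp3, d4, wp4, d6, wp6, s32, s42, s43, s62, s63, s64, e23a, e23b, z24, z26, e34a, e34b, e36a, e36b, z46]
      · exfalso; linarith only [key14, d2, wp2, d3, wp3, d4, wp4, s32, s42, s43, e23a, e23b, z24, e34a, e34b]
      · exfalso; linarith only [key29, d2, wp2, d3, wp3, d4, wp4, s32, s42, s43, e23a, e23b, z24, e34a, e34b]
      · exfalso; linarith only [key19, d2, wp2, d3, wp3, d6, wp6, s32, s62, s63, e23a, e23b, z26, e36a, e36b]
      · exfalso; linarith only [key29, d2, wp2, d3, wp3, d4, wp4, s32, s42, s43, e23a, e23b, z24, e34a, e34b]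
    · exfalso; linarith only [key30, d3, wp3, d4, wp4, d6, wp6, s43, s63, s64, e34a, e34b, e36a, e36b, z46]
    · exfalso; linarith only [key22, d3, wp3, d4, wp4, d6, wp6, s43, s63, s64, e34a, e34b, e36a, e36b, z46]
    · exfalso; linarith only [key30, d3, wp3, d4, wp4, d6, wp6, s43, s63, s64, e34a, e34b, e36a, e36b, z46]
    · exfalso; linarith only [key31, d3, wp3, d4, wp4, d6, wp6, s43, s63, s64, e34a, e34b, e36a, e36b, z46]
  · rcases edge_cases T v hn hv (by decide) p36 with ⟨e36a, e36b⟩ | ⟨e36a, e36b⟩ | ⟨e36a, e36b⟩ | ⟨e36a, e36b⟩ | ⟨e36a, e36b⟩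
    · exfalso; linarith only [key32, d3, wp3, d4, wp4, d6, wp6, s43, s63, s64, e34a, e34b, e36a, e36b, z46]
    · exfalso; linarith only [key32, d3, wp3, d4, wp4, d6, wp6, s43, s63, s64, e34a, e34b, e36a, e36b, z46]
    · exfalso; linarith only [key33, d3, wp3, d4, wp4, d6, wp6, s43, s63, s64, e34a, e34b, e36a, e36b, z46]
    · exfalso; linarith only [key32, d3, wp3, d4, wp4, d6, wp6, s43, s63, s64, e34a, e34b, e36a, e36b, z46]
    · exfalso; linarith only [key34, d3, wp3, d4, wp4, d6, wp6, s43, s63, s64, e34a, e34b, e36a, e36b, z46]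
  · rcases edge_cases T v hn hv (by decide) p36 with ⟨e36a, e36b⟩ | ⟨e36a, e36b⟩ | ⟨e36a, e36b⟩ | ⟨e36a, e36b⟩ | ⟨e36a, e36b⟩
    · exfalso; linarith only [key22, d3, wp3, d4, wp4, d6, wp6, s43, s63, s64, e34a, e34b, e36a, e36b, z46]
    · exfalso; linarith only [key22, d3, wp3, d4, wp4, d6, wp6, s43, s63, s64, e34a, e34b, e36a, e36b, z46]
    · exfalso; linarith only [key35, d3, wp3, d4, wp4, d6, wp6, s43, s63, s64, e34a, e34b, e36a, e36b, z46]
    · exfalso; linarith only [key22, d3, wp3, d4, wp4, d6, wp6, s43, s63, s64, e34a, e34b, e36a, e36b, z46]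
    · exfalso; linarith only [key36, d3, wp3, d4, wp4, d6, wp6, s43, s63, s64, e34a, e34b, e36a, e36b, z46]

end helpers

/-- Classification of proper subgraphs of type E7 (a chain i_1 … i_6 with i_7 joined to i_4): let T be a
numerical type on n > 7 indices and i_1, …, i_7 distinct (-2)-indices with a_{12}, a_{23}, a_{34},
a_{45}, a_{56}, a_{47} nonzero. Then for some integer w all w_{i_j} equal w, these intersection
numbers equal w, all other a_{i_j i_k} (j ≠ k) vanish, and 2 m_1 ≥ m_2, 2 m_2 ≥ m_1 + m_3, 2 m_3 ≥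
m_2 + m_4, 2 m_4 ≥ m_3 + m_5 + m_7, 2 m_5 ≥ m_4 + m_6, 2 m_6 ≥ m_5, 2 m_7 ≥ m_4. -/
theorem result {n : ℕ} (T : Models.NumericalType n) (hn : 7 < n)
    (v : Fin 7 ↪ Fin n) (hv : ∀ j, T.IsMinusTwo (v j)) (h01 : T.a (v 0) (v 1) ≠ 0) (h12 : T.a (v 1) (v 2) ≠ 0) (h23 : T.a (v 2) (v 3) ≠ 0) (h34 : T.a (v 3) (v 4) ≠ 0) (h45 : T.a (v 4) (v 5) ≠ 0) (h36 : T.a (v 3) (v 6) ≠ 0) :
    ∃ w : ℤ, (∀ j : Fin 7, T.w (v j) = w) ∧
      T.a (v 0) (v 1) = w ∧
      T.a (v 1) (v 2) = w ∧
      T.a (v 2) (v 3) = w ∧
      T.a (v 3) (v 4) = w ∧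
      T.a (v 4) (v 5) = w ∧
      T.a (v 3) (v 6) = w ∧
      T.a (v 0) (v 2) = 0 ∧
      T.a (v 0) (v 3) = 0 ∧
      T.a (v 0) (v 4) = 0 ∧
      T.a (v 0) (v 5) = 0 ∧
      T.a (v 0) (v 6) = 0 ∧
      T.a (v 1) (v 3) = 0 ∧
      T.a (v 1) (v 4) = 0 ∧
      T.a (v 1) (v 5) = 0 ∧
      T.a (v 1) (v 6) = 0 ∧
      T.a (v 2) (v 4) = 0 ∧
      T.a (v 2) (v 5) = 0 ∧
      T.a (v 2) (v 6) = 0 ∧
      T.a (v 3) (v 5) = 0 ∧
      T.a (v 4) (v 6) = 0 ∧
      T.a (v 5) (v 6) = 0 ∧
      T.m (v 1) ≤ 2 * T.m (v 0) ∧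
      T.m (v 0) + T.m (v 2) ≤ 2 * T.m (v 1) ∧
      T.m (v 1) + T.m (v 3) ≤ 2 * T.m (v 2) ∧
      T.m (v 2) + T.m (v 4) + T.m (v 6) ≤ 2 * T.m (v 3) ∧
      T.m (v 3) + T.m (v 5) ≤ 2 * T.m (v 4) ∧
      T.m (v 4) ≤ 2 * T.m (v 5) ∧
      T.m (v 3) ≤ 2 * T.m (v 6) := by
  exact main T hn v hv h01 h12 h23 h34 h45 h36

end Groth.Agent.S7349
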