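import Groth.Statements.S7351
import Mathlib
import Groth.Agent.Lib.Helper11.NumType

set_option autoImplicit false
open Finset
open Models Models.NumericalType

namespace Groth.Agent.S7351

section helpers
open Models
open Models.NumericalType

open Groth.Agent.Lib.Helper11.NumType

theorem main {n : ℕ} (T : Models.NumericalType n) (hn : 5 < n)
    (v : Fin 5 ↪ Fin n) (hv : ∀ j, T.IsMinusTwo (v j))
    (h01 : 0 < T.a (v 0) (v 1)) (h02 : 0 < T.a (v 0) (v 2)) (h03 : 0 < T.a (v 0) (v 3)) (h04 : 0 < T.a (v 0) (v 4)) : False := by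
  have key := sub_neg T v hn ![2, 1, 1, 1, 1] 0 (by decide)
  simp only [Fin.sum_univ_five] at key
  simp only [Matrix.cons_val_zero, Matrix.cons_val_one, Matrix.cons_val] at key
  have hd : ∀ j, T.a (v j) (v j) = -2 * T.w (v j) := fun j => (hv j).2
  have hs : ∀ i j, T.a (v i) (v j) = T.a (v j) (v i) := fun i j => a_symm T _ _
  have hnn : ∀ i j : Fin 5, i ≠ j → 0 ≤ T.a (v i) (v j) := fun i j hij =>
    T.offDiag_nonneg _ _ (fun h => hij (v.injective h))
  have e1 := w_le_left T h01
  have e1' := w_le_right T h01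
  have e2 := w_le_left T h02
  have e2' := w_le_right T h02
  have e3 := w_le_left T h03
  have e3' := w_le_right T h03
  have e4 := w_le_left T h04
  have e4' := w_le_right T h04
  have := hd 0; have := hd 1; have := hd 2; have := hd 3; have := hd 4
  have := hs 1 0; have := hs 2 0; have := hs 3 0; have := hs 4 0
  have := hs 2 1; have := hs 3 1; have := hs 4 1; have := hs 3 2; have := hs 4 2; have := hs 4 3
  have := hnn 1 2 (by decide); have := hnn 1 3 (by decide); have := hnn 1 4 (by decide)
  have := hnn 2 3 (by decide); have := hnn 2 4 (by decide); have := hnn 3 4 (by decide)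
  linarith

end helpers

/-- Let T be a numerical type on n > 5 indices. There do not exist five distinct (-2)-indices h, i, j,
k, l with a_hi > 0, a_hj > 0, a_hk > 0 and a_hl > 0. -/
theorem result {n : ℕ} (T : Models.NumericalType n) (hn : 5 < n)
    (v : Fin 5 ↪ Fin n) (hv : ∀ j, T.IsMinusTwo (v j))
    (h01 : 0 < T.a (v 0) (v 1)) (h02 : 0 < T.a (v 0) (v 2)) (h03 : 0 < T.a (v 0) (v 3)) (h04 : 0 < T.a (v 0) (v 4)) : False := by
  exact main T hn v hv h01 h02 h03 h04

end Groth.Agent.S7351
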