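import Groth.Statements.S7352
import Mathlib
import Groth.Agent.Lib.Helper11.NumType

set_option autoImplicit false
open Finset
open Models Models.NumericalType

namespace Groth.Agent.S7352

section helpers
open Finset
open Models Models.NumericalType

open Groth.Agent.Lib.Helper11.NumType

theorem main {n : ℕ} (T : Models.NumericalType n) (hn : 4 < n)
    (v : Fin 4 ↪ Fin n) (hv : ∀ j, T.IsMinusTwo (v j)) (h01 : T.a (v 0) (v 1) ≠ 0) (h12 : T.a (v 1) (v 2) ≠ 0) (h23 : T.a (v 2) (v 3) ≠ 0) :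
    (T.a (v 0) (v 2) = 0 ∧ T.a (v 0) (v 3) = 0 ∧ T.a (v 1) (v 3) = 0) ∧
    ∃ (u : Fin 4 → Fin n) (w : ℤ), ((∀ j, u j = v j) ∨ (∀ j, u j = v (Fin.rev j))) ∧
      ((T.w (u 0) = w ∧ T.w (u 1) = w ∧ T.w (u 2) = w ∧ T.w (u 3) = w ∧ T.a (u 0) (u 1) = w ∧ T.a (u 1) (u 2) = w ∧ T.a (u 2) (u 3) = w ∧ T.m (u 1) ≤ 2 * T.m (u 0) ∧ T.m (u 0) + T.m (u 2) ≤ 2 * T.m (u 1) ∧ T.m (u 1) + T.m (u 3) ≤ 2 * T.m (u 2) ∧ T.m (u 2) ≤ 2 * T.m (u 3)) ∨
      (T.w (u 0) = w ∧ T.w (u 1) = w ∧ T.w (u 2) = w ∧ T.w (u 3) = 2 * w ∧ T.a (u 0) (u 1) = w ∧ T.a (u 1) (u 2) = w ∧ T.a (u 2) (u 3) = 2 * w ∧ T.m (u 1) ≤ 2 * T.m (u 0) ∧ T.m (u 0) + T.m (u 2) ≤ 2 * T.m (u 1) ∧ T.m (u 1) + 2 * T.m (u 3) ≤ 2 * T.m (u 2) ∧ T.m (u 2) ≤ 2 * T.m (u 3)) ∨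
      (T.w (u 0) = 2 * w ∧ T.w (u 1) = 2 * w ∧ T.w (u 2) = 2 * w ∧ T.w (u 3) = w ∧ T.a (u 0) (u 1) = 2 * w ∧ T.a (u 1) (u 2) = 2 * w ∧ T.a (u 2) (u 3) = 2 * w ∧ T.m (u 1) ≤ 2 * T.m (u 0) ∧ T.m (u 0) + T.m (u 2) ≤ 2 * T.m (u 1) ∧ T.m (u 1) + T.m (u 3) ≤ 2 * T.m (u 2) ∧ T.m (u 2) ≤ T.m (u 3)) ∨
      (T.w (u 0) = w ∧ T.w (u 1) = w ∧ T.w (u 2) = 2 * w ∧ T.w (u 3) = 2 * w ∧ T.a (u 0) (u 1) = w ∧ T.a (u 1) (u 2) = 2 * w ∧ T.a (u 2) (u 3) = 2 * w ∧ T.m (u 1) ≤ 2 * T.m (u 0) ∧ T.m (u 0) + 2 * T.m (u 2) ≤ 2 * T.m (u 1) ∧ T.m (u 1) + T.m (u 3) ≤ 2 * T.m (u 2) ∧ T.m (u 2) ≤ 2 * T.m (u 3))) := by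
  have hd : ∀ j, T.a (v j) (v j) = -2 * T.w (v j) := fun j => (hv j).2
  have hs : ∀ i j, T.a (v i) (v j) = T.a (v j) (v i) := fun i j => a_symm T _ _
  have hnn : ∀ i j : Fin 4, i ≠ j → 0 ≤ T.a (v i) (v j) := fun i j hij =>
    T.offDiag_nonneg _ _ (fun h => hij (v.injective h))
  have hwp : ∀ j, 0 < T.w (v j) := fun j => T.w_pos _
  have p01 : 0 < T.a (v 0) (v 1) := edge_pos T (fun h => absurd (v.injective h) (by decide)) h01
  have el01 := w_le_left T p01
  have er01 := w_le_right T p01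
  have p12 : 0 < T.a (v 1) (v 2) := edge_pos T (fun h => absurd (v.injective h) (by decide)) h12
  have el12 := w_le_left T p12
  have er12 := w_le_right T p12
  have p23 : 0 < T.a (v 2) (v 3) := edge_pos T (fun h => absurd (v.injective h) (by decide)) h23
  have el23 := w_le_left T p23
  have er23 := w_le_right T p23
  have d0 := hd 0
  have wp0 := hwp 0
  have d1 := hd 1
  have wp1 := hwp 1
  have d2 := hd 2
  have wp2 := hwp 2
  have d3 := hd 3
  have wp3 := hwp 3
  have s10 := hs 1 0
  have s20 := hs 2 0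
  have s21 := hs 2 1
  have s30 := hs 3 0
  have s31 := hs 3 1
  have s32 := hs 3 2
  have n02 := hnn 0 2 (by decide)
  have n03 := hnn 0 3 (by decide)
  have n13 := hnn 1 3 (by decide)
  have key0 := sub_neg T v hn ![0, 1, 2, 3] 1 (by decide)
  simp only [Fin.sum_univ_four] at key0
  simp only [Matrix.cons_val_zero, Matrix.cons_val_one, Matrix.cons_val] at key0
  have key1 := sub_neg T v hn ![0, 1, 2, 1] 1 (by decide)
  simp only [Fin.sum_univ_four] at key1
  simp only [Matrix.cons_val_zero, Matrix.cons_val_one, Matrix.cons_val] at key1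
  have key2 := sub_neg T v hn ![0, 1, 2, 2] 1 (by decide)
  simp only [Fin.sum_univ_four] at key2
  simp only [Matrix.cons_val_zero, Matrix.cons_val_one, Matrix.cons_val] at key2
  have key3 := sub_neg T v hn ![0, 3, 6, 2] 1 (by decide)
  simp only [Fin.sum_univ_four] at key3
  simp only [Matrix.cons_val_zero, Matrix.cons_val_one, Matrix.cons_val] at key3
  have key4 := sub_neg T v hn ![0, 1, 1, 1] 1 (by decide)
  simp only [Fin.sum_univ_four] at key4
  simp only [Matrix.cons_val_zero, Matrix.cons_val_one, Matrix.cons_val] at key4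
  have key5 := sub_neg T v hn ![0, 2, 2, 1] 1 (by decide)
  simp only [Fin.sum_univ_four] at key5
  simp only [Matrix.cons_val_zero, Matrix.cons_val_one, Matrix.cons_val] at key5
  have key6 := sub_neg T v hn ![0, 3, 3, 1] 1 (by decide)
  simp only [Fin.sum_univ_four] at key6
  simp only [Matrix.cons_val_zero, Matrix.cons_val_one, Matrix.cons_val] at key6
  have key7 := sub_neg T v hn ![1, 2, 3, 0] 0 (by decide)
  simp only [Fin.sum_univ_four] at key7
  simp only [Matrix.cons_val_zero, Matrix.cons_val_one, Matrix.cons_val] at key7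
  have key8 := sub_neg T v hn ![1, 2, 1, 0] 0 (by decide)
  simp only [Fin.sum_univ_four] at key8
  simp only [Matrix.cons_val_zero, Matrix.cons_val_one, Matrix.cons_val] at key8
  have key9 := sub_neg T v hn ![1, 2, 2, 2] 0 (by decide)
  simp only [Fin.sum_univ_four] at key9
  simp only [Matrix.cons_val_zero, Matrix.cons_val_one, Matrix.cons_val] at key9
  have key10 := sub_neg T v hn ![1, 2, 2, 1] 0 (by decide)
  simp only [Fin.sum_univ_four] at key10
  simp only [Matrix.cons_val_zero, Matrix.cons_val_one, Matrix.cons_val] at key10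
  have key11 := sub_neg T v hn ![1, 2, 2, 0] 0 (by decide)
  simp only [Fin.sum_univ_four] at key11
  simp only [Matrix.cons_val_zero, Matrix.cons_val_one, Matrix.cons_val] at key11
  have key12 := sub_neg T v hn ![3, 6, 2, 0] 0 (by decide)
  simp only [Fin.sum_univ_four] at key12
  simp only [Matrix.cons_val_zero, Matrix.cons_val_one, Matrix.cons_val] at key12
  have key13 := sub_neg T v hn ![1, 1, 1, 1] 0 (by decide)
  simp only [Fin.sum_univ_four] at key13
  simp only [Matrix.cons_val_zero, Matrix.cons_val_one, Matrix.cons_val] at key13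
  have key14 := sub_neg T v hn ![2, 2, 2, 1] 0 (by decide)
  simp only [Fin.sum_univ_four] at key14
  simp only [Matrix.cons_val_zero, Matrix.cons_val_one, Matrix.cons_val] at key14
  have key15 := sub_neg T v hn ![1, 1, 1, 0] 0 (by decide)
  simp only [Fin.sum_univ_four] at key15
  simp only [Matrix.cons_val_zero, Matrix.cons_val_one, Matrix.cons_val] at key15
  have key16 := sub_neg T v hn ![2, 2, 1, 0] 0 (by decide)
  simp only [Fin.sum_univ_four] at key16
  simp only [Matrix.cons_val_zero, Matrix.cons_val_one, Matrix.cons_val] at key16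
  have key17 := sub_neg T v hn ![3, 3, 1, 0] 0 (by decide)
  simp only [Fin.sum_univ_four] at key17
  simp only [Matrix.cons_val_zero, Matrix.cons_val_one, Matrix.cons_val] at key17
  have key18 := sub_neg T v hn ![2, 4, 1, 0] 0 (by decide)
  simp only [Fin.sum_univ_four] at key18
  simp only [Matrix.cons_val_zero, Matrix.cons_val_one, Matrix.cons_val] at key18
  have key19 := sub_neg T v hn ![3, 6, 1, 0] 0 (by decide)
  simp only [Fin.sum_univ_four] at key19
  simp only [Matrix.cons_val_zero, Matrix.cons_val_one, Matrix.cons_val] at key19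
  have key20 := sub_neg T v hn ![3, 2, 1, 0] 0 (by decide)
  simp only [Fin.sum_univ_four] at key20
  simp only [Matrix.cons_val_zero, Matrix.cons_val_one, Matrix.cons_val] at key20
  have key21 := sub_neg T v hn ![6, 4, 1, 0] 0 (by decide)
  simp only [Fin.sum_univ_four] at key21
  simp only [Matrix.cons_val_zero, Matrix.cons_val_one, Matrix.cons_val] at key21
  have key22 := sub_neg T v hn ![9, 6, 1, 0] 0 (by decide)
  simp only [Fin.sum_univ_four] at key22
  simp only [Matrix.cons_val_zero, Matrix.cons_val_one, Matrix.cons_val] at key22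
  have kz02 := sub_neg T v hn ![1, 1, 1, 0] 0 (by decide)
  simp only [Fin.sum_univ_four] at kz02
  simp only [Matrix.cons_val_zero, Matrix.cons_val_one, Matrix.cons_val] at kz02
  have z02 : T.a (v 0) (v 2) = 0 := by
    by_contra hne
    have hp := edge_pos T (fun h => absurd (v.injective h) (by decide)) hne
    have hzl := w_le_left T hp
    have hzr := w_le_right T hp
    linarith only [kz02, hzl, hzr, d0, d1, d2, s10, s20, s21, el01, er01, el12, er12]
  clear kz02
  have kz03 := sub_neg T v hn ![1, 1, 1, 1] 0 (by decide)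
  simp only [Fin.sum_univ_four] at kz03
  simp only [Matrix.cons_val_zero, Matrix.cons_val_one, Matrix.cons_val] at kz03
  have z03 : T.a (v 0) (v 3) = 0 := by
    by_contra hne
    have hp := edge_pos T (fun h => absurd (v.injective h) (by decide)) hne
    have hzl := w_le_left T hp
    have hzr := w_le_right T hp
    linarith only [kz03, hzl, hzr, d0, d1, d2, d3, s10, s20, s21, s30, s31, s32, el01, er01, n02, el12, er12, n13, el23, er23]
  clear kz03
  have kz13 := sub_neg T v hn ![0, 1, 1, 1] 1 (by decide)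
  simp only [Fin.sum_univ_four] at kz13
  simp only [Matrix.cons_val_zero, Matrix.cons_val_one, Matrix.cons_val] at kz13
  have z13 : T.a (v 1) (v 3) = 0 := by
    by_contra hne
    have hp := edge_pos T (fun h => absurd (v.injective h) (by decide)) hne
    have hzl := w_le_left T hp
    have hzr := w_le_right T hp
    linarith only [kz13, hzl, hzr, d1, d2, d3, s21, s31, s32, el12, er12, el23, er23]
  clear kz13
  rcases edge_cases T v hn hv (by decide) p01 with ⟨e01a, e01b⟩ | ⟨e01a, e01b⟩ | ⟨e01a, e01b⟩ | ⟨e01a, e01b⟩ | ⟨e01a, e01b⟩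
  · rcases edge_cases T v hn hv (by decide) p12 with ⟨e12a, e12b⟩ | ⟨e12a, e12b⟩ | ⟨e12a, e12b⟩ | ⟨e12a, e12b⟩ | ⟨e12a, e12b⟩
    · rcases edge_cases T v hn hv (by decide) p23 with ⟨e23a, e23b⟩ | ⟨e23a, e23b⟩ | ⟨e23a, e23b⟩ | ⟨e23a, e23b⟩ | ⟨e23a, e23b⟩
      · have hw0 : T.w (v 0) = 1 * T.w (v 0) := by linarith only [e01a, e01b, e12a, e12b, e23a, e23b]
        have hw1 : T.w (v 1) = 1 * T.w (v 0) := by linarith only [e01a, e01b, e12a, e12b, e23a, e23b]
        have hw2 : T.w (v 2) = 1 * T.w (v 0) := by linarith only [e01a, e01b, e12a, e12b, e23a, e23b]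
        have hw3 : T.w (v 3) = 1 * T.w (v 0) := by linarith only [e01a, e01b, e12a, e12b, e23a, e23b]
        have ha00 : T.a (v 0) (v 0) = -2 * T.w (v 0) := by linarith only [d0, hw0]
        have ha01 : T.a (v 0) (v 1) = 1 * T.w (v 0) := by linarith only [e01a, hw0]
        have ha02 : T.a (v 0) (v 2) = 0 * T.w (v 0) := by linarith only [z02]
        have ha03 : T.a (v 0) (v 3) = 0 * T.w (v 0) := by linarith only [z03]
        have ha10 : T.a (v 1) (v 0) = 1 * T.w (v 0) := by linarith only [e01a, hw0, s10]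
        have ha11 : T.a (v 1) (v 1) = -2 * T.w (v 0) := by linarith only [d1, hw1]
        have ha12 : T.a (v 1) (v 2) = 1 * T.w (v 0) := by linarith only [e12a, hw1]
        have ha13 : T.a (v 1) (v 3) = 0 * T.w (v 0) := by linarith only [z13]
        have ha20 : T.a (v 2) (v 0) = 0 * T.w (v 0) := by linarith only [z02, s20]
        have ha21 : T.a (v 2) (v 1) = 1 * T.w (v 0) := by linarith only [e12a, hw1, s21]
        have ha22 : T.a (v 2) (v 2) = -2 * T.w (v 0) := by linarith only [d2, hw2]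
        have ha23 : T.a (v 2) (v 3) = 1 * T.w (v 0) := by linarith only [e23a, hw2]
        have ha30 : T.a (v 3) (v 0) = 0 * T.w (v 0) := by linarith only [z03, s30]
        have ha31 : T.a (v 3) (v 1) = 0 * T.w (v 0) := by linarith only [z13, s31]
        have ha32 : T.a (v 3) (v 2) = 1 * T.w (v 0) := by linarith only [e23a, hw2, s32]
        have ha33 : T.a (v 3) (v 3) = -2 * T.w (v 0) := by linarith only [d3, hw3]
        have r0 := row_le T v 0
        simp only [Fin.sum_univ_four] at r0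
        rw [ha00, ha01, ha02, ha03] at r0
        have h0 : T.w (v 0) * (1 * T.m (v 1) - 2 * T.m (v 0)) ≤ 0 := by linarith only [r0]
        have t0 := nonpos_of_mul_nonpos_right h0 wp0
        have r1 := row_le T v 1
        simp only [Fin.sum_univ_four] at r1
        rw [ha10, ha11, ha12, ha13] at r1
        have h1 : T.w (v 0) * (1 * T.m (v 0) + 1 * T.m (v 2) - 2 * T.m (v 1)) ≤ 0 := by linarith only [r1]
        have t1 := nonpos_of_mul_nonpos_right h1 wp0
        have r2 := row_le T v 2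
        simp only [Fin.sum_univ_four] at r2
        rw [ha20, ha21, ha22, ha23] at r2
        have h2 : T.w (v 0) * (1 * T.m (v 1) + 1 * T.m (v 3) - 2 * T.m (v 2)) ≤ 0 := by linarith only [r2]
        have t2 := nonpos_of_mul_nonpos_right h2 wp0
        have r3 := row_le T v 3
        simp only [Fin.sum_univ_four] at r3
        rw [ha30, ha31, ha32, ha33] at r3
        have h3 : T.w (v 0) * (1 * T.m (v 2) - 2 * T.m (v 3)) ≤ 0 := by linarith only [r3]
        have t3 := nonpos_of_mul_nonpos_right h3 wp0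
        refine ⟨⟨z02, z03, z13⟩, ![v 0, v 1, v 2, v 3], T.w (v 0), Or.inl (by intro j; fin_cases j <;> rfl), ?_⟩
        simp only [Matrix.cons_val_zero, Matrix.cons_val_one, Matrix.cons_val]
        exact Or.inl ⟨by first | trivial | linarith only [hw0, hw1, hw2, hw3, ha01, ha10, ha12, ha21, ha23, ha32, s10, s21, s32, t0, t1, t2, t3], by first | trivial | linarith only [hw0, hw1, hw2, hw3, ha01, ha10, ha12, ha21, ha23, ha32, s10, s21, s32, t0, t1, t2, t3], by first | trivial | linarith only [hw0, hw1, hw2, hw3, ha01, ha10, ha12, ha21, ha23, ha32, s10, s21, s32, t0, t1, t2, t3], by first | trivial | linarith only [hw0, hw1, hw2, hw3, ha01, ha10, ha12, ha21, ha23, ha32, s10, s21, s32, t0, t1, t2, t3], by first | trivial | linarith only [hw0, hw1, hw2, hw3, ha01, ha10, ha12, ha21, ha23, ha32, s10, s21, s32, t0, t1, t2, t3], by first | trivial | linarith only [hw0, hw1, hw2, hw3, ha01, ha10, ha12, ha21, ha23, ha32, s10, s21, s32, t0, t1, t2, t3], by first | trivial | linarith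 only [hw0, hw1, hw2, hw3, ha01, ha10, ha12, ha21, ha23, ha32, s10, s21, s32, t0, t1, t2, t3], by first | trivial | linarith only [hw0, hw1, hw2, hw3, ha01, ha10, ha12, ha21, ha23, ha32, s10, s21, s32, t0, t1, t2, t3], by first | trivial | linarith only [hw0, hw1, hw2, hw3, ha01, ha10, ha12, ha21, ha23, ha32, s10, s21, s32, t0, t1, t2, t3], by first | trivial | linarith only [hw0, hw1, hw2, hw3, ha01, ha10, ha12, ha21, ha23, ha32, s10, s21, s32, t0, t1, t2, t3], by first | trivial | linarith only [hw0, hw1, hw2, hw3, ha01, ha10, ha12, ha21, ha23, ha32, s10, s21, s32, t0, t1, t2, t3]⟩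
      · have hw0 : T.w (v 0) = 2 * T.w (v 3) := by linarith only [e01a, e01b, e12a, e12b, e23a, e23b]
        have hw1 : T.w (v 1) = 2 * T.w (v 3) := by linarith only [e01a, e01b, e12a, e12b, e23a, e23b]
        have hw2 : T.w (v 2) = 2 * T.w (v 3) := by linarith only [e01a, e01b, e12a, e12b, e23a, e23b]
        have hw3 : T.w (v 3) = 1 * T.w (v 3) := by linarith only [e01a, e01b, e12a, e12b, e23a, e23b]
        have ha00 : T.a (v 0) (v 0) = -4 * T.w (v 3) := by linarith only [d0, hw0]
        have ha01 : T.a (v 0) (v 1) = 2 * T.w (v 3) := by linarith only [e01a, hw0]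
        have ha02 : T.a (v 0) (v 2) = 0 * T.w (v 3) := by linarith only [z02]
        have ha03 : T.a (v 0) (v 3) = 0 * T.w (v 3) := by linarith only [z03]
        have ha10 : T.a (v 1) (v 0) = 2 * T.w (v 3) := by linarith only [e01a, hw0, s10]
        have ha11 : T.a (v 1) (v 1) = -4 * T.w (v 3) := by linarith only [d1, hw1]
        have ha12 : T.a (v 1) (v 2) = 2 * T.w (v 3) := by linarith only [e12a, hw1]
        have ha13 : T.a (v 1) (v 3) = 0 * T.w (v 3) := by linarith only [z13]
        have ha20 : T.a (v 2) (v 0) = 0 * T.w (v 3) := by linarith only [z02, s20]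
        have ha21 : T.a (v 2) (v 1) = 2 * T.w (v 3) := by linarith only [e12a, hw1, s21]
        have ha22 : T.a (v 2) (v 2) = -4 * T.w (v 3) := by linarith only [d2, hw2]
        have ha23 : T.a (v 2) (v 3) = 2 * T.w (v 3) := by linarith only [e23a, hw2]
        have ha30 : T.a (v 3) (v 0) = 0 * T.w (v 3) := by linarith only [z03, s30]
        have ha31 : T.a (v 3) (v 1) = 0 * T.w (v 3) := by linarith only [z13, s31]
        have ha32 : T.a (v 3) (v 2) = 2 * T.w (v 3) := by linarith only [e23a, hw2, s32]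
        have ha33 : T.a (v 3) (v 3) = -2 * T.w (v 3) := by linarith only [d3, hw3]
        have r0 := row_le T v 0
        simp only [Fin.sum_univ_four] at r0
        rw [ha00, ha01, ha02, ha03] at r0
        have h0 : T.w (v 3) * (2 * T.m (v 1) - 4 * T.m (v 0)) ≤ 0 := by linarith only [r0]
        have t0 := nonpos_of_mul_nonpos_right h0 wp3
        have r1 := row_le T v 1
        simp only [Fin.sum_univ_four] at r1
        rw [ha10, ha11, ha12, ha13] at r1
        have h1 : T.w (v 3) * (2 * T.m (v 0) + 2 * T.m (v 2) - 4 * T.m (v 1)) ≤ 0 := by linarith only [r1]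
        have t1 := nonpos_of_mul_nonpos_right h1 wp3
        have r2 := row_le T v 2
        simp only [Fin.sum_univ_four] at r2
        rw [ha20, ha21, ha22, ha23] at r2
        have h2 : T.w (v 3) * (2 * T.m (v 1) + 2 * T.m (v 3) - 4 * T.m (v 2)) ≤ 0 := by linarith only [r2]
        have t2 := nonpos_of_mul_nonpos_right h2 wp3
        have r3 := row_le T v 3
        simp only [Fin.sum_univ_four] at r3
        rw [ha30, ha31, ha32, ha33] at r3
        have h3 : T.w (v 3) * (2 * T.m (v 2) - 2 * T.m (v 3)) ≤ 0 := by linarith only [r3]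
        have t3 := nonpos_of_mul_nonpos_right h3 wp3
        refine ⟨⟨z02, z03, z13⟩, ![v 0, v 1, v 2, v 3], T.w (v 3), Or.inl (by intro j; fin_cases j <;> rfl), ?_⟩
        simp only [Matrix.cons_val_zero, Matrix.cons_val_one, Matrix.cons_val]
        exact Or.inr (Or.inr (Or.inl ⟨by first | trivial | linarith only [hw0, hw1, hw2, hw3, ha01, ha10, ha12, ha21, ha23, ha32, s10, s21, s32, t0, t1, t2, t3], by first | trivial | linarith only [hw0, hw1, hw2, hw3, ha01, ha10, ha12, ha21, ha23, ha32, s10, s21, s32, t0, t1, t2, t3], by first | trivial | linarith only [hw0, hw1, hw2, hw3, ha01, ha10, ha12, ha21, ha23, ha32, s10, s21, s32, t0, t1, t2, t3], by first | trivial | linarith only [hw0, hw1, hw2, hw3, ha01, ha10, ha12, ha21, ha23, ha32, s10, s21, s32, t0, t1, t2, t3], by first | trivial | linarith only [hw0, hw1, hw2, hw3, ha01, ha10, ha12, ha21, ha23, ha32, s10, s21, s32, t0, t1, t2, t3], by first | trivial | linarith only [hw0, hw1, hw2, hw3, ha01, ha10, ha12, ha21, ha23,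 ha32, s10, s21, s32, t0, t1, t2, t3], by first | trivial | linarith only [hw0, hw1, hw2, hw3, ha01, ha10, ha12, ha21, ha23, ha32, s10, s21, s32, t0, t1, t2, t3], by first | trivial | linarith only [hw0, hw1, hw2, hw3, ha01, ha10, ha12, ha21, ha23, ha32, s10, s21, s32, t0, t1, t2, t3], by first | trivial | linarith only [hw0, hw1, hw2, hw3, ha01, ha10, ha12, ha21, ha23, ha32, s10, s21, s32, t0, t1, t2, t3], by first | trivial | linarith only [hw0, hw1, hw2, hw3, ha01, ha10, ha12, ha21, ha23, ha32, s10, s21, s32, t0, t1, t2, t3], by first | trivial | linarith only [hw0, hw1, hw2, hw3, ha01, ha10, ha12, ha21, ha23, ha32, s10, s21, s32, t0, t1, t2, t3]⟩))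
      · have hw0 : T.w (v 0) = 1 * T.w (v 0) := by linarith only [e01a, e01b, e12a, e12b, e23a, e23b]
        have hw1 : T.w (v 1) = 1 * T.w (v 0) := by linarith only [e01a, e01b, e12a, e12b, e23a, e23b]
        have hw2 : T.w (v 2) = 1 * T.w (v 0) := by linarith only [e01a, e01b, e12a, e12b, e23a, e23b]
        have hw3 : T.w (v 3) = 2 * T.w (v 0) := by linarith only [e01a, e01b, e12a, e12b, e23a, e23b]
        have ha00 : T.a (v 0) (v 0) = -2 * T.w (v 0) := by linarith only [d0, hw0]
        have ha01 : T.a (v 0) (v 1) = 1 * T.w (v 0) := by linarith only [e01a, hw0]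
        have ha02 : T.a (v 0) (v 2) = 0 * T.w (v 0) := by linarith only [z02]
        have ha03 : T.a (v 0) (v 3) = 0 * T.w (v 0) := by linarith only [z03]
        have ha10 : T.a (v 1) (v 0) = 1 * T.w (v 0) := by linarith only [e01a, hw0, s10]
        have ha11 : T.a (v 1) (v 1) = -2 * T.w (v 0) := by linarith only [d1, hw1]
        have ha12 : T.a (v 1) (v 2) = 1 * T.w (v 0) := by linarith only [e12a, hw1]
        have ha13 : T.a (v 1) (v 3) = 0 * T.w (v 0) := by linarith only [z13]
        have ha20 : T.a (v 2) (v 0) = 0 * T.w (v 0) := by linarith only [z02, s20]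
        have ha21 : T.a (v 2) (v 1) = 1 * T.w (v 0) := by linarith only [e12a, hw1, s21]
        have ha22 : T.a (v 2) (v 2) = -2 * T.w (v 0) := by linarith only [d2, hw2]
        have ha23 : T.a (v 2) (v 3) = 2 * T.w (v 0) := by linarith only [e23a, hw2]
        have ha30 : T.a (v 3) (v 0) = 0 * T.w (v 0) := by linarith only [z03, s30]
        have ha31 : T.a (v 3) (v 1) = 0 * T.w (v 0) := by linarith only [z13, s31]
        have ha32 : T.a (v 3) (v 2) = 2 * T.w (v 0) := by linarith only [e23a, hw2, s32]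
        have ha33 : T.a (v 3) (v 3) = -4 * T.w (v 0) := by linarith only [d3, hw3]
        have r0 := row_le T v 0
        simp only [Fin.sum_univ_four] at r0
        rw [ha00, ha01, ha02, ha03] at r0
        have h0 : T.w (v 0) * (1 * T.m (v 1) - 2 * T.m (v 0)) ≤ 0 := by linarith only [r0]
        have t0 := nonpos_of_mul_nonpos_right h0 wp0
        have r1 := row_le T v 1
        simp only [Fin.sum_univ_four] at r1
        rw [ha10, ha11, ha12, ha13] at r1
        have h1 : T.w (v 0) * (1 * T.m (v 0) + 1 * T.m (v 2) - 2 * T.m (v 1)) ≤ 0 := by linarith only [r1]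
        have t1 := nonpos_of_mul_nonpos_right h1 wp0
        have r2 := row_le T v 2
        simp only [Fin.sum_univ_four] at r2
        rw [ha20, ha21, ha22, ha23] at r2
        have h2 : T.w (v 0) * (1 * T.m (v 1) + 2 * T.m (v 3) - 2 * T.m (v 2)) ≤ 0 := by linarith only [r2]
        have t2 := nonpos_of_mul_nonpos_right h2 wp0
        have r3 := row_le T v 3
        simp only [Fin.sum_univ_four] at r3
        rw [ha30, ha31, ha32, ha33] at r3
        have h3 : T.w (v 0) * (2 * T.m (v 2) - 4 * T.m (v 3)) ≤ 0 := by linarith only [r3]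
        have t3 := nonpos_of_mul_nonpos_right h3 wp0
        refine ⟨⟨z02, z03, z13⟩, ![v 0, v 1, v 2, v 3], T.w (v 0), Or.inl (by intro j; fin_cases j <;> rfl), ?_⟩
        simp only [Matrix.cons_val_zero, Matrix.cons_val_one, Matrix.cons_val]
        exact Or.inr (Or.inl ⟨by first | trivial | linarith only [hw0, hw1, hw2, hw3, ha01, ha10, ha12, ha21, ha23, ha32, s10, s21, s32, t0, t1, t2, t3], by first | trivial | linarith only [hw0, hw1, hw2, hw3, ha01, ha10, ha12, ha21, ha23, ha32, s10, s21, s32, t0, t1, t2, t3], by first | trivial | linarith only [hw0, hw1, hw2, hw3, ha01, ha10, ha12, ha21, ha23, ha32, s10, s21, s32, t0, t1, t2, t3], by first | trivial | linarith only [hw0, hw1, hw2, hw3, ha01, ha10, ha12, ha21, ha23, ha32, s10, s21, s32, t0, t1, t2, t3], by first | trivial | linarith only [hw0, hw1, hw2, hw3, ha01, ha10, ha12, ha21, ha23, ha32, s10, s21, s32, t0, t1, t2, t3], by first | trivial | linarith only [hw0, hw1, hw2, hw3, ha01, ha10, ha12, ha21, ha23, ha32,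 s10, s21, s32, t0, t1, t2, t3], by first | trivial | linarith only [hw0, hw1, hw2, hw3, ha01, ha10, ha12, ha21, ha23, ha32, s10, s21, s32, t0, t1, t2, t3], by first | trivial | linarith only [hw0, hw1, hw2, hw3, ha01, ha10, ha12, ha21, ha23, ha32, s10, s21, s32, t0, t1, t2, t3], by first | trivial | linarith only [hw0, hw1, hw2, hw3, ha01, ha10, ha12, ha21, ha23, ha32, s10, s21, s32, t0, t1, t2, t3], by first | trivial | linarith only [hw0, hw1, hw2, hw3, ha01, ha10, ha12, ha21, ha23, ha32, s10, s21, s32, t0, t1, t2, t3], by first | trivial | linarith only [hw0, hw1, hw2, hw3, ha01, ha10, ha12, ha21, ha23, ha32, s10, s21, s32, t0, t1, t2, t3]⟩)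
      · exfalso; linarith only [key0, d1, wp1, d2, wp2, d3, wp3, s21, s31, s32, e12a, e12b, z13, e23a, e23b]
      · exfalso; linarith only [key1, d1, wp1, d2, wp2, d3, wp3, s21, s31, s32, e12a, e12b, z13, e23a, e23b]
    · rcases edge_cases T v hn hv (by decide) p23 with ⟨e23a, e23b⟩ | ⟨e23a, e23b⟩ | ⟨e23a, e23b⟩ | ⟨e23a, e23b⟩ | ⟨e23a, e23b⟩
      · have hw0 : T.w (v 0) = 2 * T.w (v 2) := by linarith only [e01a, e01b, e12a, e12b, e23a, e23b]
        have hw1 : T.w (v 1) = 2 * T.w (v 2) := by linarith only [e01a, e01b, e12a, e12b, e23a, e23b]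
        have hw2 : T.w (v 2) = 1 * T.w (v 2) := by linarith only [e01a, e01b, e12a, e12b, e23a, e23b]
        have hw3 : T.w (v 3) = 1 * T.w (v 2) := by linarith only [e01a, e01b, e12a, e12b, e23a, e23b]
        have ha00 : T.a (v 0) (v 0) = -4 * T.w (v 2) := by linarith only [d0, hw0]
        have ha01 : T.a (v 0) (v 1) = 2 * T.w (v 2) := by linarith only [e01a, hw0]
        have ha02 : T.a (v 0) (v 2) = 0 * T.w (v 2) := by linarith only [z02]
        have ha03 : T.a (v 0) (v 3) = 0 * T.w (v 2) := by linarith only [z03]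
        have ha10 : T.a (v 1) (v 0) = 2 * T.w (v 2) := by linarith only [e01a, hw0, s10]
        have ha11 : T.a (v 1) (v 1) = -4 * T.w (v 2) := by linarith only [d1, hw1]
        have ha12 : T.a (v 1) (v 2) = 2 * T.w (v 2) := by linarith only [e12a, hw1]
        have ha13 : T.a (v 1) (v 3) = 0 * T.w (v 2) := by linarith only [z13]
        have ha20 : T.a (v 2) (v 0) = 0 * T.w (v 2) := by linarith only [z02, s20]
        have ha21 : T.a (v 2) (v 1) = 2 * T.w (v 2) := by linarith only [e12a, hw1, s21]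
        have ha22 : T.a (v 2) (v 2) = -2 * T.w (v 2) := by linarith only [d2, hw2]
        have ha23 : T.a (v 2) (v 3) = 1 * T.w (v 2) := by linarith only [e23a, hw2]
        have ha30 : T.a (v 3) (v 0) = 0 * T.w (v 2) := by linarith only [z03, s30]
        have ha31 : T.a (v 3) (v 1) = 0 * T.w (v 2) := by linarith only [z13, s31]
        have ha32 : T.a (v 3) (v 2) = 1 * T.w (v 2) := by linarith only [e23a, hw2, s32]
        have ha33 : T.a (v 3) (v 3) = -2 * T.w (v 2) := by linarith only [d3, hw3]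
        have r0 := row_le T v 0
        simp only [Fin.sum_univ_four] at r0
        rw [ha00, ha01, ha02, ha03] at r0
        have h0 : T.w (v 2) * (2 * T.m (v 1) - 4 * T.m (v 0)) ≤ 0 := by linarith only [r0]
        have t0 := nonpos_of_mul_nonpos_right h0 wp2
        have r1 := row_le T v 1
        simp only [Fin.sum_univ_four] at r1
        rw [ha10, ha11, ha12, ha13] at r1
        have h1 : T.w (v 2) * (2 * T.m (v 0) + 2 * T.m (v 2) - 4 * T.m (v 1)) ≤ 0 := by linarith only [r1]
        have t1 := nonpos_of_mul_nonpos_right h1 wp2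
        have r2 := row_le T v 2
        simp only [Fin.sum_univ_four] at r2
        rw [ha20, ha21, ha22, ha23] at r2
        have h2 : T.w (v 2) * (2 * T.m (v 1) + 1 * T.m (v 3) - 2 * T.m (v 2)) ≤ 0 := by linarith only [r2]
        have t2 := nonpos_of_mul_nonpos_right h2 wp2
        have r3 := row_le T v 3
        simp only [Fin.sum_univ_four] at r3
        rw [ha30, ha31, ha32, ha33] at r3
        have h3 : T.w (v 2) * (1 * T.m (v 2) - 2 * T.m (v 3)) ≤ 0 := by linarith only [r3]
        have t3 := nonpos_of_mul_nonpos_right h3 wp2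
        refine ⟨⟨z02, z03, z13⟩, ![v 3, v 2, v 1, v 0], T.w (v 2), Or.inr (by intro j; fin_cases j <;> rfl), ?_⟩
        simp only [Matrix.cons_val_zero, Matrix.cons_val_one, Matrix.cons_val]
        exact Or.inr (Or.inr (Or.inr (⟨by first | trivial | linarith only [hw0, hw1, hw2, hw3, ha01, ha10, ha12, ha21, ha23, ha32, s10, s21, s32, t0, t1, t2, t3], by first | trivial | linarith only [hw0, hw1, hw2, hw3, ha01, ha10, ha12, ha21, ha23, ha32, s10, s21, s32, t0, t1, t2, t3], by first | trivial | linarith only [hw0, hw1, hw2, hw3, ha01, ha10, ha12, ha21, ha23, ha32, s10, s21, s32, t0, t1, t2, t3], by first | trivial | linarith only [hw0, hw1, hw2, hw3, ha01, ha10, ha12, ha21, ha23, ha32, s10, s21, s32, t0, t1, t2, t3], by first | trivial | linarith only [hw0, hw1, hw2, hw3, ha01, ha10, ha12, ha21, ha23, ha32, s10, s21, s32, t0, t1, t2, t3], by first | trivial | linarith only [hw0, hw1, hw2, hw3, ha01, ha10, ha12, ha21, ha23, ha32, s10, s21, s32, t0, t1, t2, t3], by first | trivial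 | linarith only [hw0, hw1, hw2, hw3, ha01, ha10, ha12, ha21, ha23, ha32, s10, s21, s32, t0, t1, t2, t3], by first | trivial | linarith only [hw0, hw1, hw2, hw3, ha01, ha10, ha12, ha21, ha23, ha32, s10, s21, s32, t0, t1, t2, t3], by first | trivial | linarith only [hw0, hw1, hw2, hw3, ha01, ha10, ha12, ha21, ha23, ha32, s10, s21, s32, t0, t1, t2, t3], by first | trivial | linarith only [hw0, hw1, hw2, hw3, ha01, ha10, ha12, ha21, ha23, ha32, s10, s21, s32, t0, t1, t2, t3], by first | trivial | linarith only [hw0, hw1, hw2, hw3, ha01, ha10, ha12, ha21, ha23, ha32, s10, s21, s32, t0, t1, t2, t3]⟩)))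
      · exfalso; linarith only [key2, d1, wp1, d2, wp2, d3, wp3, s21, s31, s32, e12a, e12b, z13, e23a, e23b]
      · exfalso; linarith only [key1, d1, wp1, d2, wp2, d3, wp3, s21, s31, s32, e12a, e12b, z13, e23a, e23b]
      · exfalso; linarith only [key2, d1, wp1, d2, wp2, d3, wp3, s21, s31, s32, e12a, e12b, z13, e23a, e23b]
      · exfalso; linarith only [key3, d1, wp1, d2, wp2, d3, wp3, s21, s31, s32, e12a, e12b, z13, e23a, e23b]
    · rcases edge_cases T v hn hv (by decide) p23 with ⟨e23a, e23b⟩ | ⟨e23a, e23b⟩ | ⟨e23a, e23b⟩ | ⟨e23a, e23b⟩ | ⟨e23a, e23b⟩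
      · have hw0 : T.w (v 0) = 1 * T.w (v 0) := by linarith only [e01a, e01b, e12a, e12b, e23a, e23b]
        have hw1 : T.w (v 1) = 1 * T.w (v 0) := by linarith only [e01a, e01b, e12a, e12b, e23a, e23b]
        have hw2 : T.w (v 2) = 2 * T.w (v 0) := by linarith only [e01a, e01b, e12a, e12b, e23a, e23b]
        have hw3 : T.w (v 3) = 2 * T.w (v 0) := by linarith only [e01a, e01b, e12a, e12b, e23a, e23b]
        have ha00 : T.a (v 0) (v 0) = -2 * T.w (v 0) := by linarith only [d0, hw0]
        have ha01 : T.a (v 0) (v 1) = 1 * T.w (v 0) := by linarith only [e01a, hw0]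
        have ha02 : T.a (v 0) (v 2) = 0 * T.w (v 0) := by linarith only [z02]
        have ha03 : T.a (v 0) (v 3) = 0 * T.w (v 0) := by linarith only [z03]
        have ha10 : T.a (v 1) (v 0) = 1 * T.w (v 0) := by linarith only [e01a, hw0, s10]
        have ha11 : T.a (v 1) (v 1) = -2 * T.w (v 0) := by linarith only [d1, hw1]
        have ha12 : T.a (v 1) (v 2) = 2 * T.w (v 0) := by linarith only [e12a, hw1]
        have ha13 : T.a (v 1) (v 3) = 0 * T.w (v 0) := by linarith only [z13]
        have ha20 : T.a (v 2) (v 0) = 0 * T.w (v 0) := by linarith only [z02, s20]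
        have ha21 : T.a (v 2) (v 1) = 2 * T.w (v 0) := by linarith only [e12a, hw1, s21]
        have ha22 : T.a (v 2) (v 2) = -4 * T.w (v 0) := by linarith only [d2, hw2]
        have ha23 : T.a (v 2) (v 3) = 2 * T.w (v 0) := by linarith only [e23a, hw2]
        have ha30 : T.a (v 3) (v 0) = 0 * T.w (v 0) := by linarith only [z03, s30]
        have ha31 : T.a (v 3) (v 1) = 0 * T.w (v 0) := by linarith only [z13, s31]
        have ha32 : T.a (v 3) (v 2) = 2 * T.w (v 0) := by linarith only [e23a, hw2, s32]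
        have ha33 : T.a (v 3) (v 3) = -4 * T.w (v 0) := by linarith only [d3, hw3]
        have r0 := row_le T v 0
        simp only [Fin.sum_univ_four] at r0
        rw [ha00, ha01, ha02, ha03] at r0
        have h0 : T.w (v 0) * (1 * T.m (v 1) - 2 * T.m (v 0)) ≤ 0 := by linarith only [r0]
        have t0 := nonpos_of_mul_nonpos_right h0 wp0
        have r1 := row_le T v 1
        simp only [Fin.sum_univ_four] at r1
        rw [ha10, ha11, ha12, ha13] at r1
        have h1 : T.w (v 0) * (1 * T.m (v 0) + 2 * T.m (v 2) - 2 * T.m (v 1)) ≤ 0 := by linarith only [r1]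
        have t1 := nonpos_of_mul_nonpos_right h1 wp0
        have r2 := row_le T v 2
        simp only [Fin.sum_univ_four] at r2
        rw [ha20, ha21, ha22, ha23] at r2
        have h2 : T.w (v 0) * (2 * T.m (v 1) + 2 * T.m (v 3) - 4 * T.m (v 2)) ≤ 0 := by linarith only [r2]
        have t2 := nonpos_of_mul_nonpos_right h2 wp0
        have r3 := row_le T v 3
        simp only [Fin.sum_univ_four] at r3
        rw [ha30, ha31, ha32, ha33] at r3
        have h3 : T.w (v 0) * (2 * T.m (v 2) - 4 * T.m (v 3)) ≤ 0 := by linarith only [r3]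
        have t3 := nonpos_of_mul_nonpos_right h3 wp0
        refine ⟨⟨z02, z03, z13⟩, ![v 0, v 1, v 2, v 3], T.w (v 0), Or.inl (by intro j; fin_cases j <;> rfl), ?_⟩
        simp only [Matrix.cons_val_zero, Matrix.cons_val_one, Matrix.cons_val]
        exact Or.inr (Or.inr (Or.inr (⟨by first | trivial | linarith only [hw0, hw1, hw2, hw3, ha01, ha10, ha12, ha21, ha23, ha32, s10, s21, s32, t0, t1, t2, t3], by first | trivial | linarith only [hw0, hw1, hw2, hw3, ha01, ha10, ha12, ha21, ha23, ha32, s10, s21, s32, t0, t1, t2, t3], by first | trivial | linarith only [hw0, hw1, hw2, hw3, ha01, ha10, ha12, ha21, ha23, ha32, s10, s21, s32, t0, t1, t2, t3], by first | trivial | linarith only [hw0, hw1, hw2, hw3, ha01, ha10, ha12, ha21, ha23, ha32, s10, s21, s32, t0, t1, t2, t3], by first | trivial | linarith only [hw0, hw1, hw2, hw3, ha01, ha10, ha12, ha21, ha23, ha32, s10, s21, s32, t0, t1, t2, t3], by first | trivial | linarith only [hw0, hw1, hw2, hw3, ha01, ha10, ha12, ha21, ha23,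 ha32, s10, s21, s32, t0, t1, t2, t3], by first | trivial | linarith only [hw0, hw1, hw2, hw3, ha01, ha10, ha12, ha21, ha23, ha32, s10, s21, s32, t0, t1, t2, t3], by first | trivial | linarith only [hw0, hw1, hw2, hw3, ha01, ha10, ha12, ha21, ha23, ha32, s10, s21, s32, t0, t1, t2, t3], by first | trivial | linarith only [hw0, hw1, hw2, hw3, ha01, ha10, ha12, ha21, ha23, ha32, s10, s21, s32, t0, t1, t2, t3], by first | trivial | linarith only [hw0, hw1, hw2, hw3, ha01, ha10, ha12, ha21, ha23, ha32, s10, s21, s32, t0, t1, t2, t3], by first | trivial | linarith only [hw0, hw1, hw2, hw3, ha01, ha10, ha12, ha21, ha23, ha32, s10, s21, s32, t0, t1, t2, t3]⟩)))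
      · exfalso; linarith only [key4, d1, wp1, d2, wp2, d3, wp3, s21, s31, s32, e12a, e12b, z13, e23a, e23b]
      · exfalso; linarith only [key5, d1, wp1, d2, wp2, d3, wp3, s21, s31, s32, e12a, e12b, z13, e23a, e23b]
      · exfalso; linarith only [key4, d1, wp1, d2, wp2, d3, wp3, s21, s31, s32, e12a, e12b, z13, e23a, e23b]
      · exfalso; linarith only [key6, d1, wp1, d2, wp2, d3, wp3, s21, s31, s32, e12a, e12b, z13, e23a, e23b]
    · exfalso; linarith only [key7, d0, wp0, d1, wp1, d2, wp2, s10, s20, s21, e01a, e01b, z02, e12a, e12b]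
    · exfalso; linarith only [key8, d0, wp0, d1, wp1, d2, wp2, s10, s20, s21, e01a, e01b, z02, e12a, e12b]
  · rcases edge_cases T v hn hv (by decide) p12 with ⟨e12a, e12b⟩ | ⟨e12a, e12b⟩ | ⟨e12a, e12b⟩ | ⟨e12a, e12b⟩ | ⟨e12a, e12b⟩
    · rcases edge_cases T v hn hv (by decide) p23 with ⟨e23a, e23b⟩ | ⟨e23a, e23b⟩ | ⟨e23a, e23b⟩ | ⟨e23a, e23b⟩ | ⟨e23a, e23b⟩
      · have hw0 : T.w (v 0) = 2 * T.w (v 1) := by linarith only [e01a, e01b, e12a, e12b, e23a, e23b]
        have hw1 : T.w (v 1) = 1 * T.w (v 1) := by linarith only [e01a, e01b, e12a, e12b, e23a, e23b]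
        have hw2 : T.w (v 2) = 1 * T.w (v 1) := by linarith only [e01a, e01b, e12a, e12b, e23a, e23b]
        have hw3 : T.w (v 3) = 1 * T.w (v 1) := by linarith only [e01a, e01b, e12a, e12b, e23a, e23b]
        have ha00 : T.a (v 0) (v 0) = -4 * T.w (v 1) := by linarith only [d0, hw0]
        have ha01 : T.a (v 0) (v 1) = 2 * T.w (v 1) := by linarith only [e01a, hw0]
        have ha02 : T.a (v 0) (v 2) = 0 * T.w (v 1) := by linarith only [z02]
        have ha03 : T.a (v 0) (v 3) = 0 * T.w (v 1) := by linarith only [z03]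
        have ha10 : T.a (v 1) (v 0) = 2 * T.w (v 1) := by linarith only [e01a, hw0, s10]
        have ha11 : T.a (v 1) (v 1) = -2 * T.w (v 1) := by linarith only [d1, hw1]
        have ha12 : T.a (v 1) (v 2) = 1 * T.w (v 1) := by linarith only [e12a, hw1]
        have ha13 : T.a (v 1) (v 3) = 0 * T.w (v 1) := by linarith only [z13]
        have ha20 : T.a (v 2) (v 0) = 0 * T.w (v 1) := by linarith only [z02, s20]
        have ha21 : T.a (v 2) (v 1) = 1 * T.w (v 1) := by linarith only [e12a, hw1, s21]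
        have ha22 : T.a (v 2) (v 2) = -2 * T.w (v 1) := by linarith only [d2, hw2]
        have ha23 : T.a (v 2) (v 3) = 1 * T.w (v 1) := by linarith only [e23a, hw2]
        have ha30 : T.a (v 3) (v 0) = 0 * T.w (v 1) := by linarith only [z03, s30]
        have ha31 : T.a (v 3) (v 1) = 0 * T.w (v 1) := by linarith only [z13, s31]
        have ha32 : T.a (v 3) (v 2) = 1 * T.w (v 1) := by linarith only [e23a, hw2, s32]
        have ha33 : T.a (v 3) (v 3) = -2 * T.w (v 1) := by linarith only [d3, hw3]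
        have r0 := row_le T v 0
        simp only [Fin.sum_univ_four] at r0
        rw [ha00, ha01, ha02, ha03] at r0
        have h0 : T.w (v 1) * (2 * T.m (v 1) - 4 * T.m (v 0)) ≤ 0 := by linarith only [r0]
        have t0 := nonpos_of_mul_nonpos_right h0 wp1
        have r1 := row_le T v 1
        simp only [Fin.sum_univ_four] at r1
        rw [ha10, ha11, ha12, ha13] at r1
        have h1 : T.w (v 1) * (2 * T.m (v 0) + 1 * T.m (v 2) - 2 * T.m (v 1)) ≤ 0 := by linarith only [r1]
        have t1 := nonpos_of_mul_nonpos_right h1 wp1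
        have r2 := row_le T v 2
        simp only [Fin.sum_univ_four] at r2
        rw [ha20, ha21, ha22, ha23] at r2
        have h2 : T.w (v 1) * (1 * T.m (v 1) + 1 * T.m (v 3) - 2 * T.m (v 2)) ≤ 0 := by linarith only [r2]
        have t2 := nonpos_of_mul_nonpos_right h2 wp1
        have r3 := row_le T v 3
        simp only [Fin.sum_univ_four] at r3
        rw [ha30, ha31, ha32, ha33] at r3
        have h3 : T.w (v 1) * (1 * T.m (v 2) - 2 * T.m (v 3)) ≤ 0 := by linarith only [r3]
        have t3 := nonpos_of_mul_nonpos_right h3 wp1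
        refine ⟨⟨z02, z03, z13⟩, ![v 3, v 2, v 1, v 0], T.w (v 1), Or.inr (by intro j; fin_cases j <;> rfl), ?_⟩
        simp only [Matrix.cons_val_zero, Matrix.cons_val_one, Matrix.cons_val]
        exact Or.inr (Or.inl ⟨by first | trivial | linarith only [hw0, hw1, hw2, hw3, ha01, ha10, ha12, ha21, ha23, ha32, s10, s21, s32, t0, t1, t2, t3], by first | trivial | linarith only [hw0, hw1, hw2, hw3, ha01, ha10, ha12, ha21, ha23, ha32, s10, s21, s32, t0, t1, t2, t3], by first | trivial | linarith only [hw0, hw1, hw2, hw3, ha01, ha10, ha12, ha21, ha23, ha32, s10, s21, s32, t0, t1, t2, t3], by first | trivial | linarith only [hw0, hw1, hw2, hw3, ha01, ha10, ha12, ha21, ha23, ha32, s10, s21, s32, t0, t1, t2, t3], by first | trivial | linarith only [hw0, hw1, hw2, hw3, ha01, ha10, ha12, ha21, ha23, ha32, s10, s21, s32, t0, t1, t2, t3], by first | trivial | linarith only [hw0, hw1, hw2, hw3, ha01, ha10, ha12, ha21, ha23, ha32, s10, s21, s32, t0, t1, t2, t3], by first | trivial |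 linarith only [hw0, hw1, hw2, hw3, ha01, ha10, ha12, ha21, ha23, ha32, s10, s21, s32, t0, t1, t2, t3], by first | trivial | linarith only [hw0, hw1, hw2, hw3, ha01, ha10, ha12, ha21, ha23, ha32, s10, s21, s32, t0, t1, t2, t3], by first | trivial | linarith only [hw0, hw1, hw2, hw3, ha01, ha10, ha12, ha21, ha23, ha32, s10, s21, s32, t0, t1, t2, t3], by first | trivial | linarith only [hw0, hw1, hw2, hw3, ha01, ha10, ha12, ha21, ha23, ha32, s10, s21, s32, t0, t1, t2, t3], by first | trivial | linarith only [hw0, hw1, hw2, hw3, ha01, ha10, ha12, ha21, ha23, ha32, s10, s21, s32, t0, t1, t2, t3]⟩)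
      · exfalso; linarith only [key9, d0, wp0, d1, wp1, d2, wp2, d3, wp3, s10, s20, s21, s30, s31, s32, e01a, e01b, z02, z03, e12a, e12b, z13, e23a, e23b]
      · exfalso; linarith only [key10, d0, wp0, d1, wp1, d2, wp2, d3, wp3, s10, s20, s21, s30, s31, s32, e01a, e01b, z02, z03, e12a, e12b, z13, e23a, e23b]
      · exfalso; linarith only [key0, d1, wp1, d2, wp2, d3, wp3, s21, s31, s32, e12a, e12b, z13, e23a, e23b]
      · exfalso; linarith only [key1, d1, wp1, d2, wp2, d3, wp3, s21, s31, s32, e12a, e12b, z13, e23a, e23b]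
    · exfalso; linarith only [key11, d0, wp0, d1, wp1, d2, wp2, s10, s20, s21, e01a, e01b, z02, e12a, e12b]
    · exfalso; linarith only [key8, d0, wp0, d1, wp1, d2, wp2, s10, s20, s21, e01a, e01b, z02, e12a, e12b]
    · exfalso; linarith only [key11, d0, wp0, d1, wp1, d2, wp2, s10, s20, s21, e01a, e01b, z02, e12a, e12b]
    · exfalso; linarith only [key12, d0, wp0, d1, wp1, d2, wp2, s10, s20, s21, e01a, e01b, z02, e12a, e12b]
  · rcases edge_cases T v hn hv (by decide) p12 with ⟨e12a, e12b⟩ | ⟨e12a, e12b⟩ | ⟨e12a, e12b⟩ | ⟨e12a, e12b⟩ | ⟨e12a, e12b⟩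
    · rcases edge_cases T v hn hv (by decide) p23 with ⟨e23a, e23b⟩ | ⟨e23a, e23b⟩ | ⟨e23a, e23b⟩ | ⟨e23a, e23b⟩ | ⟨e23a, e23b⟩
      · have hw0 : T.w (v 0) = 1 * T.w (v 0) := by linarith only [e01a, e01b, e12a, e12b, e23a, e23b]
        have hw1 : T.w (v 1) = 2 * T.w (v 0) := by linarith only [e01a, e01b, e12a, e12b, e23a, e23b]
        have hw2 : T.w (v 2) = 2 * T.w (v 0) := by linarith only [e01a, e01b, e12a, e12b, e23a, e23b]
        have hw3 : T.w (v 3) = 2 * T.w (v 0) := by linarith only [e01a, e01b, e12a, e12b, e23a, e23b]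
        have ha00 : T.a (v 0) (v 0) = -2 * T.w (v 0) := by linarith only [d0, hw0]
        have ha01 : T.a (v 0) (v 1) = 2 * T.w (v 0) := by linarith only [e01a, hw0]
        have ha02 : T.a (v 0) (v 2) = 0 * T.w (v 0) := by linarith only [z02]
        have ha03 : T.a (v 0) (v 3) = 0 * T.w (v 0) := by linarith only [z03]
        have ha10 : T.a (v 1) (v 0) = 2 * T.w (v 0) := by linarith only [e01a, hw0, s10]
        have ha11 : T.a (v 1) (v 1) = -4 * T.w (v 0) := by linarith only [d1, hw1]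
        have ha12 : T.a (v 1) (v 2) = 2 * T.w (v 0) := by linarith only [e12a, hw1]
        have ha13 : T.a (v 1) (v 3) = 0 * T.w (v 0) := by linarith only [z13]
        have ha20 : T.a (v 2) (v 0) = 0 * T.w (v 0) := by linarith only [z02, s20]
        have ha21 : T.a (v 2) (v 1) = 2 * T.w (v 0) := by linarith only [e12a, hw1, s21]
        have ha22 : T.a (v 2) (v 2) = -4 * T.w (v 0) := by linarith only [d2, hw2]
        have ha23 : T.a (v 2) (v 3) = 2 * T.w (v 0) := by linarith only [e23a, hw2]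
        have ha30 : T.a (v 3) (v 0) = 0 * T.w (v 0) := by linarith only [z03, s30]
        have ha31 : T.a (v 3) (v 1) = 0 * T.w (v 0) := by linarith only [z13, s31]
        have ha32 : T.a (v 3) (v 2) = 2 * T.w (v 0) := by linarith only [e23a, hw2, s32]
        have ha33 : T.a (v 3) (v 3) = -4 * T.w (v 0) := by linarith only [d3, hw3]
        have r0 := row_le T v 0
        simp only [Fin.sum_univ_four] at r0
        rw [ha00, ha01, ha02, ha03] at r0
        have h0 : T.w (v 0) * (2 * T.m (v 1) - 2 * T.m (v 0)) ≤ 0 := by linarith only [r0]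
        have t0 := nonpos_of_mul_nonpos_right h0 wp0
        have r1 := row_le T v 1
        simp only [Fin.sum_univ_four] at r1
        rw [ha10, ha11, ha12, ha13] at r1
        have h1 : T.w (v 0) * (2 * T.m (v 0) + 2 * T.m (v 2) - 4 * T.m (v 1)) ≤ 0 := by linarith only [r1]
        have t1 := nonpos_of_mul_nonpos_right h1 wp0
        have r2 := row_le T v 2
        simp only [Fin.sum_univ_four] at r2
        rw [ha20, ha21, ha22, ha23] at r2
        have h2 : T.w (v 0) * (2 * T.m (v 1) + 2 * T.m (v 3) - 4 * T.m (v 2)) ≤ 0 := by linarith only [r2]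
        have t2 := nonpos_of_mul_nonpos_right h2 wp0
        have r3 := row_le T v 3
        simp only [Fin.sum_univ_four] at r3
        rw [ha30, ha31, ha32, ha33] at r3
        have h3 : T.w (v 0) * (2 * T.m (v 2) - 4 * T.m (v 3)) ≤ 0 := by linarith only [r3]
        have t3 := nonpos_of_mul_nonpos_right h3 wp0
        refine ⟨⟨z02, z03, z13⟩, ![v 3, v 2, v 1, v 0], T.w (v 0), Or.inr (by intro j; fin_cases j <;> rfl), ?_⟩
        simp only [Matrix.cons_val_zero, Matrix.cons_val_one, Matrix.cons_val]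
        exact Or.inr (Or.inr (Or.inl ⟨by first | trivial | linarith only [hw0, hw1, hw2, hw3, ha01, ha10, ha12, ha21, ha23, ha32, s10, s21, s32, t0, t1, t2, t3], by first | trivial | linarith only [hw0, hw1, hw2, hw3, ha01, ha10, ha12, ha21, ha23, ha32, s10, s21, s32, t0, t1, t2, t3], by first | trivial | linarith only [hw0, hw1, hw2, hw3, ha01, ha10, ha12, ha21, ha23, ha32, s10, s21, s32, t0, t1, t2, t3], by first | trivial | linarith only [hw0, hw1, hw2, hw3, ha01, ha10, ha12, ha21, ha23, ha32, s10, s21, s32, t0, t1, t2, t3], by first | trivial | linarith only [hw0, hw1, hw2, hw3, ha01, ha10, ha12, ha21, ha23, ha32, s10, s21, s32, t0, t1, t2, t3], by first | trivial | linarith only [hw0, hw1, hw2, hw3, ha01, ha10, ha12, ha21, ha23, ha32, s10, s21, s32, t0, t1, t2, t3], by first | trivial | linarith only [hw0, hw1, hw2, hw3, ha01, ha10, ha12, ha21, ha23, ha32, s10, s21, s32, t0, t1, t2, t3], by first | trivial | linarith only [hw0, hw1, hw2, hw3, ha01, ha10, ha12, ha21, ha23,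 ha32, s10, s21, s32, t0, t1, t2, t3], by first | trivial | linarith only [hw0, hw1, hw2, hw3, ha01, ha10, ha12, ha21, ha23, ha32, s10, s21, s32, t0, t1, t2, t3], by first | trivial | linarith only [hw0, hw1, hw2, hw3, ha01, ha10, ha12, ha21, ha23, ha32, s10, s21, s32, t0, t1, t2, t3], by first | trivial | linarith only [hw0, hw1, hw2, hw3, ha01, ha10, ha12, ha21, ha23, ha32, s10, s21, s32, t0, t1, t2, t3]⟩))
      · exfalso; linarith only [key13, d0, wp0, d1, wp1, d2, wp2, d3, wp3, s10, s20, s21, s30, s31, s32, e01a, e01b, z02, z03, e12a, e12b, z13, e23a, e23b]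
      · exfalso; linarith only [key14, d0, wp0, d1, wp1, d2, wp2, d3, wp3, s10, s20, s21, s30, s31, s32, e01a, e01b, z02, z03, e12a, e12b, z13, e23a, e23b]
      · exfalso; linarith only [key0, d1, wp1, d2, wp2, d3, wp3, s21, s31, s32, e12a, e12b, z13, e23a, e23b]
      · exfalso; linarith only [key1, d1, wp1, d2, wp2, d3, wp3, s21, s31, s32, e12a, e12b, z13, e23a, e23b]
    · exfalso; linarith only [key15, d0, wp0, d1, wp1, d2, wp2, s10, s20, s21, e01a, e01b, z02, e12a, e12b]
    · exfalso; linarith only [key16, d0, wp0, d1, wp1, d2, wp2, s10, s20, s21, e01a, e01b, z02, e12a, e12b]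
    · exfalso; linarith only [key15, d0, wp0, d1, wp1, d2, wp2, s10, s20, s21, e01a, e01b, z02, e12a, e12b]
    · exfalso; linarith only [key17, d0, wp0, d1, wp1, d2, wp2, s10, s20, s21, e01a, e01b, z02, e12a, e12b]
  · rcases edge_cases T v hn hv (by decide) p12 with ⟨e12a, e12b⟩ | ⟨e12a, e12b⟩ | ⟨e12a, e12b⟩ | ⟨e12a, e12b⟩ | ⟨e12a, e12b⟩
    · exfalso; linarith only [key8, d0, wp0, d1, wp1, d2, wp2, s10, s20, s21, e01a, e01b, z02, e12a, e12b]
    · exfalso; linarith only [key8, d0, wp0, d1, wp1, d2, wp2, s10, s20, s21, e01a, e01b, z02, e12a, e12b]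
    · exfalso; linarith only [key18, d0, wp0, d1, wp1, d2, wp2, s10, s20, s21, e01a, e01b, z02, e12a, e12b]
    · exfalso; linarith only [key8, d0, wp0, d1, wp1, d2, wp2, s10, s20, s21, e01a, e01b, z02, e12a, e12b]
    · exfalso; linarith only [key19, d0, wp0, d1, wp1, d2, wp2, s10, s20, s21, e01a, e01b, z02, e12a, e12b]
  · rcases edge_cases T v hn hv (by decide) p12 with ⟨e12a, e12b⟩ | ⟨e12a, e12b⟩ | ⟨e12a, e12b⟩ | ⟨e12a, e12b⟩ | ⟨e12a, e12b⟩
    · exfalso; linarith only [key20, d0, wp0, d1, wp1, d2, wp2, s10, s20, s21, e01a, e01b, z02, e12a, e12b]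
    · exfalso; linarith only [key20, d0, wp0, d1, wp1, d2, wp2, s10, s20, s21, e01a, e01b, z02, e12a, e12b]
    · exfalso; linarith only [key21, d0, wp0, d1, wp1, d2, wp2, s10, s20, s21, e01a, e01b, z02, e12a, e12b]
    · exfalso; linarith only [key20, d0, wp0, d1, wp1, d2, wp2, s10, s20, s21, e01a, e01b, z02, e12a, e12b]
    · exfalso; linarith only [key22, d0, wp0, d1, wp1, d2, wp2, s10, s20, s21, e01a, e01b, z02, e12a, e12b]

end helpers

/-- Classification of proper subgraphs which are chains of four vertices: let T be a numerical type on n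
> 4 indices and i_1, …, i_4 distinct (-2)-indices with a_{i_j i_{j+1}} nonzero for j < 4. Then
a_{i_j i_l} = 0 for |j - l| ≥ 2 and, after possibly reversing the order of the indices, for some
integer w one of the following holds: (A4) w = (w, w, w, w), consecutive a = (w, w, w), with 2m_1 ≥
m_2, 2m_2 ≥ m_1 + m_3, 2m_3 ≥ m_2 + m_4, 2m_4 ≥ m_3; (C4) w = (w, w, w, 2w), consecutive a = (w, w,
2w), with 2m_1 ≥ m_2, 2m_2 ≥ m_1 + m_3, 2m_3 ≥ m_2 + 2m_4, 2m_4 ≥ m_3; (B4) w = (2w, 2w, 2w, w),
consecutive a = (2w, 2w, 2w), with 2m_1 ≥ m_2, 2m_2 ≥ m_1 + m_3, 2m_3 ≥ m_2 + m_4, m_4 ≥ m_3; (F4) w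
= (w, w, 2w, 2w), consecutive a = (w, 2w, 2w), with 2m_1 ≥ m_2, 2m_2 ≥ m_1 + 2m_3, 2m_3 ≥ m_2 + m_4,
2m_4 ≥ m_3. -/
theorem result {n : ℕ} (T : Models.NumericalType n) (hn : 4 < n)
    (v : Fin 4 ↪ Fin n) (hv : ∀ j, T.IsMinusTwo (v j)) (h01 : T.a (v 0) (v 1) ≠ 0) (h12 : T.a (v 1) (v 2) ≠ 0) (h23 : T.a (v 2) (v 3) ≠ 0) :
    (T.a (v 0) (v 2) = 0 ∧ T.a (v 0) (v 3) = 0 ∧ T.a (v 1) (v 3) = 0) ∧
    ∃ (u : Fin 4 → Fin n) (w : ℤ), ((∀ j, u j = v j) ∨ (∀ j, u j = v (Fin.rev j))) ∧
      ((T.w (u 0) = w ∧ T.w (u 1) = w ∧ T.w (u 2) = w ∧ T.w (u 3) = w ∧ T.a (u 0) (u 1) = w ∧ T.a (u 1) (u 2) = w ∧ T.a (u 2) (u 3) = w ∧ T.m (u 1) ≤ 2 * T.m (u 0) ∧ T.m (u 0) + T.m (u 2) ≤ 2 * T.m (u 1) ∧ T.m (u 1) + T.m (u 3) ≤ 2 * T.m (u 2) ∧ T.m (u 2) ≤ 2 * T.m (u 3)) ∨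
      (T.w (u 0) = w ∧ T.w (u 1) = w ∧ T.w (u 2) = w ∧ T.w (u 3) = 2 * w ∧ T.a (u 0) (u 1) = w ∧ T.a (u 1) (u 2) = w ∧ T.a (u 2) (u 3) = 2 * w ∧ T.m (u 1) ≤ 2 * T.m (u 0) ∧ T.m (u 0) + T.m (u 2) ≤ 2 * T.m (u 1) ∧ T.m (u 1) + 2 * T.m (u 3) ≤ 2 * T.m (u 2) ∧ T.m (u 2) ≤ 2 * T.m (u 3)) ∨
      (T.w (u 0) = 2 * w ∧ T.w (u 1) = 2 * w ∧ T.w (u 2) = 2 * w ∧ T.w (u 3) = w ∧ T.a (u 0) (u 1) = 2 * w ∧ T.a (u 1) (u 2) = 2 * w ∧ T.a (u 2) (u 3) = 2 * w ∧ T.m (u 1) ≤ 2 * T.m (u 0) ∧ T.m (u 0) + T.m (u 2) ≤ 2 * T.m (u 1) ∧ T.m (u 1) + T.m (u 3) ≤ 2 * T.m (u 2) ∧ T.m (u 2) ≤ T.m (u 3)) ∨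
      (T.w (u 0) = w ∧ T.w (u 1) = w ∧ T.w (u 2) = 2 * w ∧ T.w (u 3) = 2 * w ∧ T.a (u 0) (u 1) = w ∧ T.a (u 1) (u 2) = 2 * w ∧ T.a (u 2) (u 3) = 2 * w ∧ T.m (u 1) ≤ 2 * T.m (u 0) ∧ T.m (u 0) + 2 * T.m (u 2) ≤ 2 * T.m (u 1) ∧ T.m (u 1) + T.m (u 3) ≤ 2 * T.m (u 2) ∧ T.m (u 2) ≤ 2 * T.m (u 3))) := by
  exact main T hn v hv h01 h12 h23

end Groth.Agent.S7352
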