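import Groth.Statements.S7354
import Mathlib
import Groth.Agent.Helper19.NumChain
-- import your own Groth.Agent.* helpers here

set_option autoImplicit false
open Finset
open Models Models.NumericalType

namespace Groth.Agent.S7354

section helpers
open Groth.Agent.Helper19.NumChain

variable {n : ℕ} (T : Models.NumericalType n)

local macro "fo" : tactic =>
  `(tactic| first | omega | (dsimp only; omega) | (simp; omega) | simp)

/-- the conclusion for a given ordering -/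
def Concl (t : ℕ) (u : Fin t → Fin n) (w : ℤ) : Prop :=
  (∀ j k : Fin t, j.val + 1 < k.val → T.a (u j) (u k) = 0) ∧
      ((∀ j : Fin t, T.w (u j) = w) ∧ (∀ j j' : Fin t, j'.val = j.val + 1 → T.a (u j) (u j') = w) ∨
        ((∀ j : Fin t, j.val + 1 < t → T.w (u j) = w) ∧ (∀ j : Fin t, j.val + 1 = t → T.w (u j) = 2 * w) ∧
          (∀ j j' : Fin t, j'.val = j.val + 1 → j'.val + 1 < t → T.a (u j) (u j') = w) ∧
          (∀ j j' : Fin t, j'.val = j.val + 1 → j'.val + 1 = t → T.a (u j) (u j') = 2 * w)) ∨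
        ((∀ j : Fin t, j.val + 1 < t → T.w (u j) = 2 * w) ∧ (∀ j : Fin t, j.val + 1 = t → T.w (u j) = w) ∧
          (∀ j j' : Fin t, j'.val = j.val + 1 → T.a (u j) (u j') = 2 * w)))

theorem core (t : ℕ) (ht : 5 < t) (hn : t < n) (v : Fin t ↪ Fin n) (hv : ∀ j, T.IsMinusTwo (v j))
    (hchain : ∀ j j' : Fin t, j'.val = j.val + 1 → T.a (v j) (v j') ≠ 0) :
    ∃ W, 0 < W ∧
      (∀ j k : Fin t, j.val + 1 < k.val → T.a (v j) (v k) = 0) ∧
      (∀ j : Fin t, 1 ≤ j.val → j.val + 1 < t → T.w (v j) = W) ∧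
      (∀ j j' : Fin t, j'.val = j.val + 1 → 1 ≤ j.val → j'.val + 1 < t → T.a (v j) (v j') = W) ∧
      (∀ j j' : Fin t, j.val = 0 → j'.val = 1 → EndOK W (T.w (v j)) (T.a (v j) (v j'))) ∧
      (∀ j j' : Fin t, j.val + 2 = t → j'.val + 1 = t →
        EndOK W (T.w (v j')) (T.a (v j) (v j'))) := by
  obtain ⟨vv, hvvdef⟩ : ∃ vv : ℕ → Fin n,
      vv = fun j => if h : j < t then v ⟨j, h⟩ else v ⟨0, by omega⟩ := ⟨_, rfl⟩
  have hvv : ∀ (j : ℕ) (h : j < t), vv j = v ⟨j, h⟩ := by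
    intro j h
    rw [hvvdef]
    exact dif_pos h
  have hvv' : ∀ j : Fin t, v j = vv j.val := fun j => (hvv j.val j.2).symm
  have hinj : ∀ i j, i < t → j < t → vv i = vv j → i = j := by
    intro i j hi hj h
    rw [hvv i hi, hvv j hj] at h
    have := v.injective h
    exact Fin.mk.inj_iff.mp this
  have hv2 : ∀ j, j < t → T.IsMinusTwo (vv j) := by
    intro j hj
    rw [hvv j hj]
    exact hv _
  have hch : ∀ j, j + 1 < t → T.a (vv j) (vv (j + 1)) ≠ 0 := by
    intro j hj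
    rw [hvv j (by omega), hvv (j + 1) hj]
    exact hchain _ _ rfl
  obtain ⟨W, hW, hw, ha, hEL, hER⟩ := chain T (by omega) t (by omega) vv hinj hv2 hch
  refine ⟨W, hW, ?_, ?_, ?_, ?_, ?_⟩
  · intro j k hjk
    by_contra hne
    have hK : 2 ≤ k.val - j.val := by omega
    refine false_of_cycle T v hn hv (k.val - j.val) hK
      (fun l => ⟨j.val + l.val, by have := l.2; have := k.2; omega⟩) ?_ ?_ ?_
    · intro a b hab
      have := Fin.mk.inj_iff.mp hab
      exact Fin.ext (by omega)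
    · intro i h
      exact hchain _ _ (by simp; omega)
    · convert hne using 3
      · apply Fin.ext
        simp
      · apply Fin.ext
        simp
        omega
  · intro j h1 h2
    rw [hvv' j]
    exact hw j.val h1 h2
  · intro j j' hjj' h1 h2
    rw [hvv' j, hvv' j', hjj']
    exact ha j.val h1 (by omega)
  · intro j j' hj hj'
    rw [hvv' j, hvv' j', hj, hj']
    exact hEL
  · intro j j' hj hj'
    rw [hvv' j, hvv' j']
    have e1 : j.val = t - 2 := by omega
    have e2 : j'.val = t - 1 := by omega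
    rw [e1, e2]
    exact hER

theorem not_both (t : ℕ) (ht : 5 < t) (hn : t < n) (v : Fin t ↪ Fin n)
    (hv : ∀ j, T.IsMinusTwo (v j)) (W : ℤ) (hW : 0 < W)
    (hw : ∀ j : Fin t, 1 ≤ j.val → j.val + 1 < t → T.w (v j) = W)
    (ha : ∀ j j' : Fin t, j'.val = j.val + 1 → 1 ≤ j.val → j'.val + 1 < t → T.a (v j) (v j') = W)
    (hL : (T.w (v ⟨0, by omega⟩) = 2 * W ∧ T.a (v ⟨0, by omega⟩) (v ⟨1, by omega⟩) = 2 * W) ∨
      (2 * T.w (v ⟨0, by omega⟩) = W ∧ T.a (v ⟨0, by omega⟩) (v ⟨1, by omega⟩) = W))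
    (hR : (T.w (v ⟨t - 1, by omega⟩) = 2 * W ∧
        T.a (v ⟨t - 2, by omega⟩) (v ⟨t - 1, by omega⟩) = 2 * W) ∨
      (2 * T.w (v ⟨t - 1, by omega⟩) = W ∧
        T.a (v ⟨t - 2, by omega⟩) (v ⟨t - 1, by omega⟩) = W)) : False := by
  have h0t : 0 < t := by omega
  have h1t : 1 < t := by omega
  have h2t : 2 < t := by omega
  have ht1 : t - 1 < t := by omega
  have ht2 : t - 2 < t := by omega
  have ht3 : t - 3 < t := by omega
  classical
  have hsymm : ∀ i j, T.a i j = T.a j i := fun i j => Groth.Agent.Lib.Helper11.NumType.a_symm T i j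
  obtain ⟨w0, hw0⟩ : ∃ w0, w0 = T.w (v ⟨0, h0t⟩) := ⟨_, rfl⟩
  obtain ⟨e0, he0⟩ : ∃ e0, e0 = T.a (v ⟨0, h0t⟩) (v ⟨1, h1t⟩) := ⟨_, rfl⟩
  obtain ⟨w1, hw1⟩ : ∃ w1, w1 = T.w (v ⟨t - 1, ht1⟩) := ⟨_, rfl⟩
  obtain ⟨e1, he1⟩ : ∃ e1, e1 = T.a (v ⟨t - 2, ht2⟩) (v ⟨t - 1, ht1⟩) := ⟨_, rfl⟩
  rw [← hw0, ← he0] at hL
  rw [← hw1, ← he1] at hR
  obtain ⟨cL, hcL, hL0, hL1⟩ : ∃ cL : ℤ, 0 < cL ∧ -2 * w0 * cL + e0 * 2 = 0 ∧ e0 * cL = 2 * W := by
    rcases hL with ⟨h1, h2⟩ | ⟨h1, h2⟩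
    · exact ⟨1, by norm_num, by rw [h1, h2]; ring, by rw [h2]; ring⟩
    · exact ⟨2, by norm_num, by rw [h2, ← h1]; ring, by rw [h2]; ring⟩
  obtain ⟨cR, hcR, hR0, hR1⟩ : ∃ cR : ℤ, 0 < cR ∧ -2 * w1 * cR + e1 * 2 = 0 ∧ e1 * cR = 2 * W := by
    rcases hR with ⟨h1, h2⟩ | ⟨h1, h2⟩
    · exact ⟨1, by norm_num, by rw [h1, h2]; ring, by rw [h2]; ring⟩
    · exact ⟨2, by norm_num, by rw [h2, ← h1]; ring, by rw [h2]; ring⟩
  obtain ⟨c, hcdef⟩ : ∃ c : Fin t → ℤ,
      c = fun s => if s.val = 0 then cL else if s.val + 1 = t then cR else 2 := ⟨_, rfl⟩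
  have hc0 : ∀ s : Fin t, s.val = 0 → c s = cL := by
    intro s hs
    rw [hcdef]
    exact if_pos hs
  have hcl : ∀ s : Fin t, s.val + 1 = t → c s = cR := by
    intro s hs
    rw [hcdef]
    dsimp only
    rw [if_neg (by omega), if_pos hs]
  have hcm : ∀ s : Fin t, s.val ≠ 0 → s.val + 1 ≠ t → c s = 2 := by
    intro s hs hs'
    rw [hcdef]
    dsimp only
    rw [if_neg hs, if_neg hs']
  have hc : ∀ s, 0 ≤ c s := by
    intro s
    by_cases h0 : s.val = 0
    · rw [hc0 s h0]; exact hcL.le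
    · by_cases h1 : s.val + 1 = t
      · rw [hcl s h1]; exact hcR.le
      · rw [hcm s h0 h1]; norm_num
  refine false_of_rows T v hn c hc ⟨⟨0, h0t⟩, by rw [hc0 _ rfl]; exact hcL.ne'⟩ ?_
  intro s
  by_cases h0 : s.val = 0
  · have hs : s = ⟨0, h0t⟩ := Fin.ext h0
    subst hs
    refine ⟨{⟨1, h1t⟩}, ?_, ?_⟩
    · simp
    · rw [Finset.sum_singleton, (hv _).2, ← hw0, ← he0, hc0 _ rfl, hcm ⟨1, h1t⟩ (by fo) (by fo)]
      linarith
  · by_cases h1 : s.val + 1 = t
    · have hs : s = ⟨t - 1, ht1⟩ := Fin.ext (by fo)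
      subst hs
      refine ⟨{⟨t - 2, ht2⟩}, ?_, ?_⟩
      · simp
        omega
      · rw [Finset.sum_singleton, (hv _).2, ← hw1, hsymm, ← he1, hcl _ (by fo),
          hcm ⟨t - 2, ht2⟩ (by fo) (by fo)]
        linarith
    · by_cases h2 : s.val = 1
      · have hs : s = ⟨1, h1t⟩ := Fin.ext h2
        subst hs
        refine ⟨{⟨0, h0t⟩, ⟨2, h2t⟩}, ?_, ?_⟩
        · simp
        · rw [Finset.sum_pair (by fo), (hv _).2, hw ⟨1, h1t⟩ (by fo) (by fo),
            hsymm _ (v ⟨0, h0t⟩), ← he0, hc0 ⟨0, h0t⟩ rfl,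
            ha ⟨1, h1t⟩ ⟨2, h2t⟩ rfl (by fo) (by fo),
            hcm ⟨1, h1t⟩ (by fo) (by fo),
            hcm ⟨2, h2t⟩ (by fo) (by fo)]
          linarith
      · by_cases h3 : s.val + 2 = t
        · have hs : s = ⟨t - 2, ht2⟩ := Fin.ext (by fo)
          subst hs
          refine ⟨{⟨t - 3, ht3⟩, ⟨t - 1, ht1⟩}, ?_, ?_⟩
          · simp
            omega
          · rw [Finset.sum_pair (by fo), (hv _).2,
              hw ⟨t - 2, ht2⟩ (by fo) (by fo),
              hsymm _ (v ⟨t - 3, ht3⟩),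
              ha ⟨t - 3, ht3⟩ ⟨t - 2, ht2⟩ (by fo) (by fo)
                (by fo), ← he1, hcl ⟨t - 1, ht1⟩ (by fo),
              hcm ⟨t - 2, ht2⟩ (by fo) (by fo),
              hcm ⟨t - 3, ht3⟩ (by fo) (by fo)]
            linarith
        · have hlt := s.2
          refine ⟨{⟨s.val - 1, by omega⟩, ⟨s.val + 1, by omega⟩}, ?_, ?_⟩
          · simp only [Finset.mem_insert, Finset.mem_singleton, not_or]
            constructor
            · intro h
              have := congrArg Fin.val h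
              simp at this
              omega
            · intro h
              have := congrArg Fin.val h
              simp at this
          · rw [Finset.sum_pair (by fo), (hv _).2,
              hw s (by omega) (by omega),
              hsymm _ (v ⟨s.val - 1, by omega⟩),
              ha ⟨s.val - 1, by omega⟩ s (by fo) (by fo) (by omega),
              ha s ⟨s.val + 1, by omega⟩ rfl (by omega) (by fo),
              hcm s h0 h1,
              hcm ⟨s.val - 1, by omega⟩ (by fo) (by fo),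
              hcm ⟨s.val + 1, by omega⟩ (by fo) (by fo)]
            linarith

theorem concl_of_left_simple (t : ℕ) (ht : 5 < t) (v : Fin t ↪ Fin n) (W : ℤ) (hW : 0 < W)
    (hz : ∀ j k : Fin t, j.val + 1 < k.val → T.a (v j) (v k) = 0)
    (hw : ∀ j : Fin t, 1 ≤ j.val → j.val + 1 < t → T.w (v j) = W)
    (ha : ∀ j j' : Fin t, j'.val = j.val + 1 → 1 ≤ j.val → j'.val + 1 < t → T.a (v j) (v j') = W)
    (hEL : ∀ j j' : Fin t, j.val = 0 → j'.val = 1 → EndOK W (T.w (v j)) (T.a (v j) (v j')))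
    (hER : ∀ j j' : Fin t, j.val + 2 = t → j'.val + 1 = t →
      EndOK W (T.w (v j')) (T.a (v j) (v j')))
    (hleft : T.w (v ⟨0, by omega⟩) = W) : ∃ w, Concl T t v w := by
  have h0t : 0 < t := by omega
  have h1t : 1 < t := by omega
  have h2t : 2 < t := by omega
  have ht1 : t - 1 < t := by omega
  have ht2 : t - 2 < t := by omega
  have ht3 : t - 3 < t := by omega
  have hw0 : ∀ j : Fin t, j.val = 0 → T.w (v j) = W := by
    intro j hj
    have : j = ⟨0, h0t⟩ := Fin.ext hj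
    rw [this]
    exact hleft
  have he0 : ∀ j j' : Fin t, j.val = 0 → j'.val = 1 → T.a (v j) (v j') = W := by
    intro j j' hj hj'
    rcases hEL j j' hj hj' with ⟨-, h⟩ | ⟨h, -⟩ | ⟨h, -⟩
    · exact h
    · rw [hw0 j hj] at h
      omega
    · rw [hw0 j hj] at h
      omega
  have hwm : ∀ j : Fin t, j.val + 1 < t → T.w (v j) = W := by
    intro j hj
    by_cases h0 : j.val = 0
    · exact hw0 j h0
    · exact hw j (by omega) hj
  have ham : ∀ j j' : Fin t, j'.val = j.val + 1 → j'.val + 1 < t → T.a (v j) (v j') = W := by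
    intro j j' hjj' hj'
    by_cases h0 : j.val = 0
    · exact he0 j j' h0 (by omega)
    · exact ha j j' hjj' (by omega) hj'
  rcases hER ⟨t - 2, ht2⟩ ⟨t - 1, ht1⟩ (by fo) (by fo) with
    ⟨h1, h2⟩ | ⟨h1, h2⟩ | ⟨h1, h2⟩
  · refine ⟨W, hz, Or.inl ⟨?_, ?_⟩⟩
    · intro j
      by_cases hj : j.val + 1 < t
      · exact hwm j hj
      · have : j = ⟨t - 1, ht1⟩ := Fin.ext (by have := j.2; simp; omega)
        rw [this]
        exact h1
    · intro j j' hjj'
      by_cases hj : j'.val + 1 < t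
      · exact ham j j' hjj' hj
      · have e1 : j' = ⟨t - 1, ht1⟩ := Fin.ext (by have := j'.2; simp; omega)
        have e2 : j = ⟨t - 2, ht2⟩ := Fin.ext (by have := j'.2; simp; omega)
        rw [e1, e2]
        exact h2
  · refine ⟨W, hz, Or.inr (Or.inl ⟨hwm, ?_, ham, ?_⟩)⟩
    · intro j hj
      have : j = ⟨t - 1, ht1⟩ := Fin.ext (by fo)
      rw [this]
      exact h1
    · intro j j' hjj' hj
      have e1 : j' = ⟨t - 1, ht1⟩ := Fin.ext (by fo)
      have e2 : j = ⟨t - 2, ht2⟩ := Fin.ext (by fo)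
      rw [e1, e2]
      exact h2
  · refine ⟨T.w (v ⟨t - 1, ht1⟩), hz, Or.inr (Or.inr ⟨?_, ?_, ?_⟩)⟩
    · intro j hj
      rw [hwm j hj, h1]
    · intro j hj
      have : j = ⟨t - 1, ht1⟩ := Fin.ext (by fo)
      rw [this]
    · intro j j' hjj'
      by_cases hj : j'.val + 1 < t
      · rw [ham j j' hjj' hj, h1]
      · have e1 : j' = ⟨t - 1, ht1⟩ := Fin.ext (by have := j'.2; simp; omega)
        have e2 : j = ⟨t - 2, ht2⟩ := Fin.ext (by have := j'.2; simp; omega)
        rw [e1, e2, h2, h1]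

end helpers

/-- Let T be a numerical type on n indices, t > 5 with n > t, and i_1, …, i_t distinct (-2)-indices with
a_{i_j i_{j+1}} nonzero for j = 1, …, t - 1. Then, after possibly reversing the order of the
indices, for some integer w either (A) w_{i_1} = … = w_{i_t} = w and a_{i_j i_{j+1}} = w for all j;
or (C) w_{i_1} = … = w_{i_{t-1}} = w, w_{i_t} = 2w, a_{i_j i_{j+1}} = w for j < t - 1 and a_{i_{t-1}
i_t} = 2w; or (B) w_{i_1} = … = w_{i_{t-1}} = 2w, w_{i_t} = w and a_{i_j i_{j+1}} = 2w for all j;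
and in every case a_{i_j i_k} = 0 whenever k > j + 1. -/
theorem result {n : ℕ} (T : Models.NumericalType n) (t : ℕ) (ht : 5 < t) (hn : t < n)
    (v : Fin t ↪ Fin n) (hv : ∀ j, T.IsMinusTwo (v j))
    (hchain : ∀ j j' : Fin t, j'.val = j.val + 1 → T.a (v j) (v j') ≠ 0) :
    ∃ (u : Fin t → Fin n) (w : ℤ), ((∀ j, u j = v j) ∨ (∀ j, u j = v (Fin.rev j))) ∧
      (∀ j k : Fin t, j.val + 1 < k.val → T.a (u j) (u k) = 0) ∧
      ((∀ j : Fin t, T.w (u j) = w) ∧ (∀ j j' : Fin t, j'.val = j.val + 1 → T.a (u j) (u j') = w) ∨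
        ((∀ j : Fin t, j.val + 1 < t → T.w (u j) = w) ∧ (∀ j : Fin t, j.val + 1 = t → T.w (u j) = 2 * w) ∧
          (∀ j j' : Fin t, j'.val = j.val + 1 → j'.val + 1 < t → T.a (u j) (u j') = w) ∧
          (∀ j j' : Fin t, j'.val = j.val + 1 → j'.val + 1 = t → T.a (u j) (u j') = 2 * w)) ∨
        ((∀ j : Fin t, j.val + 1 < t → T.w (u j) = 2 * w) ∧ (∀ j : Fin t, j.val + 1 = t → T.w (u j) = w) ∧
          (∀ j j' : Fin t, j'.val = j.val + 1 → T.a (u j) (u j') = 2 * w))) := by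
  obtain ⟨W, hW, hz, hw, ha, hEL, hER⟩ := core T t ht hn v hv hchain
  by_cases hleft : T.w (v ⟨0, by omega⟩) = W
  · obtain ⟨w, hC⟩ := concl_of_left_simple T t ht v W hW hz hw ha hEL hER hleft
    exact ⟨v, w, Or.inl (fun j => rfl), hC.1, hC.2⟩
  · have hright : T.w (v ⟨t - 1, by omega⟩) = W := by
      by_contra hright
      refine not_both T t ht hn v hv W hW hw ha ?_ ?_
      · rcases hEL ⟨0, by omega⟩ ⟨1, by omega⟩ rfl rfl with ⟨h, -⟩ | h | h
        · exact absurd h hleft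
        · exact Or.inl h
        · exact Or.inr h
      · rcases hER ⟨t - 2, by omega⟩ ⟨t - 1, by omega⟩ (by simp; omega) (by simp; omega) with
          ⟨h, -⟩ | h | h
        · exact absurd h hright
        · exact Or.inl h
        · exact Or.inr h
    obtain ⟨v', hv'def⟩ : ∃ v' : Fin t ↪ Fin n, ∀ j, v' j = v (Fin.rev j) :=
      ⟨⟨fun j => v (Fin.rev j), fun a b h => Fin.rev_injective (v.injective h)⟩, fun j => rfl⟩
    have hv' : ∀ j, T.IsMinusTwo (v' j) := fun j => by rw [hv'def]; exact hv _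
    have hchain' : ∀ j j' : Fin t, j'.val = j.val + 1 → T.a (v' j) (v' j') ≠ 0 := by
      intro j j' hjj'
      rw [hv'def, hv'def, Groth.Agent.Lib.Helper11.NumType.a_symm]
      apply hchain
      have := j'.2
      simp only [Fin.val_rev]
      omega
    obtain ⟨W', hW', hz', hw', ha', hEL', hER'⟩ := core T t ht hn v' hv' hchain'
    have hWW : W' = W := by
      rw [← hw' ⟨1, by omega⟩ (le_refl _) (by simp; omega), hv'def]
      exact hw _ (by simp only [Fin.val_rev]; omega) (by simp only [Fin.val_rev]; omega)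
    have hleft' : T.w (v' ⟨0, by omega⟩) = W' := by
      rw [hWW, hv'def]
      convert hright using 3
      apply Fin.ext
      simp only [Fin.val_rev]
    obtain ⟨w, hC⟩ := concl_of_left_simple T t ht v' W' hW' hz' hw' ha' hEL' hER' hleft'
    exact ⟨v', w, Or.inr hv'def, hC.1, hC.2⟩

end Groth.Agent.S7354
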