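import Groth.Statements.S7355
import Mathlib
import Groth.Agent.Helper19.NumChain
import Groth.Agent.S7347
-- import your own Groth.Agent.* helpers here

set_option autoImplicit false
open Finset
open Models Models.NumericalType

namespace Groth.Agent.S7355

section helpers
open Groth.Agent.Helper19.NumChain

variable {n : ℕ} (T : Models.NumericalType n)

local macro "fo" : tactic =>
  `(tactic| first | omega | (dsimp only; omega) | (simp; omega) | simp)

/-- vanishing of the non-edges -/
theorem zeros (t : ℕ) (ht : 4 < t) (hn : t + 1 < n)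
    (v : Fin (t + 1) ↪ Fin n) (hv : ∀ j, T.IsMinusTwo (v j))
    (hchain : ∀ j j' : Fin (t + 1), j'.val = j.val + 1 → j'.val < t → T.a (v j) (v j') ≠ 0)
    (hbranch : ∀ j j' : Fin (t + 1), j.val + 2 = t → j'.val = t → T.a (v j) (v j') ≠ 0)
    (j k : Fin (t + 1)) (hjk : j.val < k.val) (h1 : ¬ (k.val = j.val + 1 ∧ k.val < t))
    (h2 : ¬ (j.val + 2 = t ∧ k.val = t)) : T.a (v j) (v k) = 0 := by
  have hsymm : ∀ i j, T.a i j = T.a j i := fun i j => Groth.Agent.Lib.Helper11.NumType.a_symm T i j
  have htt : t < t + 1 := by omega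
  have ht1 : t - 1 < t + 1 := by omega
  have ht2 : t - 2 < t + 1 := by omega
  by_contra hne
  have hkt := k.2
  by_cases hk : k.val < t
  · -- chain segment
    have hK : 2 ≤ k.val - j.val := by omega
    refine false_of_cycle T v hn hv (k.val - j.val) hK
      (fun l => ⟨j.val + l.val, by have := l.2; omega⟩) ?_ ?_ ?_
    · intro a b hab
      have := Fin.mk.inj_iff.mp hab
      exact Fin.ext (by omega)
    · intro i h
      exact hchain _ _ (by fo) (by have := i.2; fo)
    · convert hne using 3
      · apply Fin.ext
        simp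
      · apply Fin.ext
        simp
        omega
  · have hkt' : k.val = t := by omega
    by_cases hj : j.val + 2 < t
    · -- path j, ..., t-2, t
      obtain ⟨K, hKdef⟩ : ∃ K, K = t - 1 - j.val := ⟨_, rfl⟩
      have hK : 2 ≤ K := by omega
      have hpb : ∀ l : Fin (K + 1), (if l.val < K then j.val + l.val else t) < t + 1 := by
        intro l
        split_ifs <;> omega
      refine false_of_cycle T v hn hv K hK
        (fun l => ⟨if l.val < K then j.val + l.val else t, hpb l⟩) ?_ ?_ ?_
      · intro a b hab
        have h3 := Fin.mk.inj_iff.mp hab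
        have ha := a.2
        have hb := b.2
        apply Fin.ext
        split_ifs at h3 <;> omega
      · intro i h
        by_cases hi : i.val + 1 < K
        · apply hchain
          · dsimp only
            rw [if_pos hi, if_pos (by omega)]
            omega
          · dsimp only
            rw [if_pos hi]
            omega
        · apply hbranch
          · dsimp only
            rw [if_pos (by omega)]
            omega
          · dsimp only
            rw [if_neg (by omega)]
      · convert hne using 3
        · apply Fin.ext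
          dsimp only
          rw [if_pos (by fo)]
          simp
        · apply Fin.ext
          dsimp only
          rw [if_neg (by simp)]
          exact hkt'.symm
    · -- j = t - 1: triangle t-1, t-2, t
      have hjt : j.val = t - 1 := by omega
      have hpb : ∀ l : Fin (2 + 1),
          (if l.val = 0 then t - 1 else if l.val = 1 then t - 2 else t) < t + 1 := by
        intro l
        split_ifs <;> omega
      refine false_of_cycle T v hn hv 2 (le_refl 2)
        (fun l => ⟨if l.val = 0 then t - 1 else if l.val = 1 then t - 2 else t, hpb l⟩) ?_ ?_ ?_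
      · intro a b hab
        have h3 := Fin.mk.inj_iff.mp hab
        have ha := a.2
        have hb := b.2
        apply Fin.ext
        split_ifs at h3 <;> omega
      · intro i h
        have hi : i.val = 0 ∨ i.val = 1 := by omega
        rcases hi with hi | hi
        · rw [hsymm]
          apply hchain
          · dsimp only
            rw [if_pos hi, if_neg (by omega), if_pos (by omega)]
            omega
          · dsimp only
            rw [if_pos hi]
            omega
        · apply hbranch
          · dsimp only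
            rw [if_neg (by omega), if_pos hi]
            omega
          · dsimp only
            rw [if_neg (by omega), if_neg (by omega)]
      · convert hne using 3
        · apply Fin.ext
          dsimp only
          rw [if_pos (by simp)]
          exact hjt.symm
        · apply Fin.ext
          dsimp only
          rw [if_neg (by simp), if_neg (by simp)]
          exact hkt'.symm

theorem main (t : ℕ) (ht : 4 < t) (hn : t + 1 < n)
    (v : Fin (t + 1) ↪ Fin n) (hv : ∀ j, T.IsMinusTwo (v j))
    (hchain : ∀ j j' : Fin (t + 1), j'.val = j.val + 1 → j'.val < t → T.a (v j) (v j') ≠ 0)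
    (hbranch : ∀ j j' : Fin (t + 1), j.val + 2 = t → j'.val = t → T.a (v j) (v j') ≠ 0) :
    ∃ w : ℤ, (∀ j : Fin (t + 1), T.w (v j) = w) ∧
      (∀ j j' : Fin (t + 1), j'.val = j.val + 1 → j'.val < t → T.a (v j) (v j') = w) ∧
      (∀ j j' : Fin (t + 1), j.val + 2 = t → j'.val = t → T.a (v j) (v j') = w) := by
  classical
  have hsymm : ∀ i j, T.a i j = T.a j i := fun i j => Groth.Agent.Lib.Helper11.NumType.a_symm T i j
  have h0t : 0 < t + 1 := by omega
  have h1t : 1 < t + 1 := by omega
  have h2t : 2 < t + 1 := by omega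
  have htt : t < t + 1 := by omega
  have ht1 : t - 1 < t + 1 := by omega
  have ht2 : t - 2 < t + 1 := by omega
  have ht3 : t - 3 < t + 1 := by omega
  obtain ⟨vv, hvvdef⟩ : ∃ vv : ℕ → Fin n,
      vv = fun j => if h : j < t + 1 then v ⟨j, h⟩ else v ⟨0, h0t⟩ := ⟨_, rfl⟩
  have hvv : ∀ (j : ℕ) (h : j < t + 1), vv j = v ⟨j, h⟩ := by
    intro j h
    rw [hvvdef]
    exact dif_pos h
  have hvv' : ∀ j : Fin (t + 1), v j = vv j.val := fun j => (hvv j.val j.2).symm
  have hinj : ∀ i j, i < t + 1 → j < t + 1 → vv i = vv j → i = j := by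
    intro i j hi hj h
    rw [hvv i hi, hvv j hj] at h
    have := v.injective h
    exact Fin.mk.inj_iff.mp this
  have hv2 : ∀ j, j < t + 1 → T.IsMinusTwo (vv j) := by
    intro j hj
    rw [hvv j hj]
    exact hv _
  have hch : ∀ j, j + 1 < t → T.a (vv j) (vv (j + 1)) ≠ 0 := by
    intro j hj
    rw [hvv j (by omega), hvv (j + 1) (by omega)]
    exact hchain _ _ rfl hj
  have hbr : T.a (vv (t - 2)) (vv t) ≠ 0 := by
    rw [hvv (t - 2) ht2, hvv t htt]
    exact hbranch _ _ (by fo) rfl
  -- the fork
  have hxinj : Function.Injective (fun i : Fin 5 => vv (t - 4 + i.val)) := by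
    intro i j hij
    have := hinj (t - 4 + i.val) (t - 4 + j.val) (by have := i.2; omega) (by have := j.2; omega) hij
    exact Fin.ext (by omega)
  have e1 : t - 4 + 1 = t - 3 := by omega
  have e2 : t - 4 + 2 = t - 2 := by omega
  have e3 : t - 4 + 3 = t - 1 := by omega
  have e4 : t - 4 + 4 = t := by omega
  have e32 : t - 3 + 1 = t - 2 := by omega
  have e21 : t - 2 + 1 = t - 1 := by omega
  have e43 : t - 4 + 1 = t - 3 := by omega
  obtain ⟨w, hwall, a01, a12, a23, a24, -⟩ := Groth.Agent.S7347.result T (by omega)
    ⟨fun i : Fin 5 => vv (t - 4 + i.val), hxinj⟩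
    (fun j => hv2 _ (by have := j.2; show t - 4 + j.val < t + 1; omega))
    (by
      show T.a (vv (t - 4 + 0)) (vv (t - 4 + 1)) ≠ 0
      exact hch (t - 4) (by omega))
    (by
      show T.a (vv (t - 4 + 1)) (vv (t - 4 + 2)) ≠ 0
      rw [e1, e2, ← e32]
      exact hch (t - 3) (by omega))
    (by
      show T.a (vv (t - 4 + 2)) (vv (t - 4 + 3)) ≠ 0
      rw [e2, e3, ← e21]
      exact hch (t - 2) (by omega))
    (by
      show T.a (vv (t - 4 + 2)) (vv (t - 4 + 4)) ≠ 0
      rw [e2, e4]
      exact hbr)
  have w2 : T.w (vv (t - 2)) = w := by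
    have := hwall 2
    rw [← e2]
    exact this
  have w3 : T.w (vv (t - 1)) = w := by
    have := hwall 3
    rw [← e3]
    exact this
  have w4 : T.w (vv t) = w := by
    have := hwall 4
    have h4 : T.w (vv (t - 4 + 4)) = w := this
    rw [e4] at h4
    exact h4
  have b23 : T.a (vv (t - 2)) (vv (t - 1)) = w := by
    have h4 : T.a (vv (t - 4 + 2)) (vv (t - 4 + 3)) = w := a23
    rw [e2, e3] at h4
    exact h4
  have b24 : T.a (vv (t - 2)) (vv t) = w := by
    have h4 : T.a (vv (t - 4 + 2)) (vv (t - 4 + 4)) = w := a24
    rw [e2, e4] at h4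
    exact h4
  -- the chain
  obtain ⟨W, hW, hw, ha, hEL, -⟩ := chain T (by omega) t (by omega) vv
    (fun i j hi hj => hinj i j (by omega) (by omega)) (fun j hj => hv2 j (by omega)) hch
  have hWw : W = w := by
    rw [← hw (t - 2) (by omega) (by omega), w2]
  rw [hWw] at hw ha hEL hW
  -- the left end is simple
  have hleft : T.w (vv 0) = w ∧ T.a (vv 0) (vv 1) = w := by
    rcases hEL with h | hL
    · exact h
    · exfalso
      obtain ⟨w0, hw0⟩ : ∃ w0, w0 = T.w (vv 0) := ⟨_, rfl⟩
      obtain ⟨e0, he0⟩ : ∃ e0, e0 = T.a (vv 0) (vv 1) := ⟨_, rfl⟩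
      rw [← hw0, ← he0] at hL
      obtain ⟨cL, hcL, hL0, hL1⟩ : ∃ cL : ℤ, 0 < cL ∧ -2 * w0 * cL + e0 * 2 = 0 ∧
          e0 * cL = 2 * w := by
        rcases hL with ⟨h1, h2⟩ | ⟨h1, h2⟩
        · exact ⟨1, by norm_num, by rw [h1, h2]; ring, by rw [h2]; ring⟩
        · exact ⟨2, by norm_num, by rw [h2, ← h1]; ring, by rw [h2]; ring⟩
      obtain ⟨c, hcdef⟩ : ∃ c : Fin (t + 1) → ℤ,
          c = fun s : Fin (t + 1) => if s.val = 0 then cL else if s.val + 2 ≤ t then 2 else 1 := ⟨_, rfl⟩
      have hc0 : ∀ s : Fin (t + 1), s.val = 0 → c s = cL := by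
        intro s hs
        rw [hcdef]
        exact if_pos hs
      have hcm : ∀ s : Fin (t + 1), s.val ≠ 0 → s.val + 2 ≤ t → c s = 2 := by
        intro s hs hs'
        rw [hcdef]
        dsimp only
        rw [if_neg hs, if_pos hs']
      have hcl : ∀ s : Fin (t + 1), ¬ s.val + 2 ≤ t → c s = 1 := by
        intro s hs
        rw [hcdef]
        dsimp only
        rw [if_neg (by omega), if_neg hs]
      have hc : ∀ s, 0 ≤ c s := by
        intro s
        by_cases h0 : s.val = 0
        · rw [hc0 s h0]; exact hcL.le
        · by_cases h1 : s.val + 2 ≤ t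
          · rw [hcm s h0 h1]; norm_num
          · rw [hcl s h1]; norm_num
      refine false_of_rows T v hn c hc ⟨⟨0, h0t⟩, by rw [hc0 _ rfl]; exact hcL.ne'⟩ ?_
      intro s
      have hd : T.a (v s) (v s) = -2 * T.w (v s) := (hv s).2
      by_cases h0 : s.val = 0
      · have hs : s = ⟨0, h0t⟩ := Fin.ext h0
        rw [hs]
        refine ⟨{⟨1, h1t⟩}, by simp, ?_⟩
        rw [Finset.sum_singleton, (hv _).2, hvv' ⟨0, h0t⟩, hvv' ⟨1, h1t⟩]
        dsimp only
        rw [← hw0, ← he0, hc0 _ rfl, hcm ⟨1, h1t⟩ (by fo) (by fo)]
        linarith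
      · by_cases h1 : s.val = 1
        · have hs : s = ⟨1, h1t⟩ := Fin.ext h1
          rw [hs]
          refine ⟨{⟨0, h0t⟩, ⟨2, h2t⟩}, by simp, ?_⟩
          rw [Finset.sum_pair (by simp), (hv _).2, hvv' ⟨0, h0t⟩, hvv' ⟨1, h1t⟩, hvv' ⟨2, h2t⟩]
          dsimp only
          rw [hw 1 (le_refl 1) (by omega), hsymm _ (vv 0), ← he0, ha 1 (le_refl 1) (by omega),
            hc0 ⟨0, h0t⟩ rfl, hcm ⟨1, h1t⟩ (by fo) (by fo), hcm ⟨2, h2t⟩ (by fo) (by fo)]
          linarith
        · by_cases h2 : s.val + 2 < t
          · -- interior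
            have hlt := s.2
            refine ⟨{⟨s.val - 1, by omega⟩, ⟨s.val + 1, by omega⟩}, ?_, ?_⟩
            · simp only [Finset.mem_insert, Finset.mem_singleton, not_or]
              constructor
              · intro h
                have := congrArg Fin.val h
                simp at this
                omega
              · intro h
                have := congrArg Fin.val h
                simp at this
            · rw [Finset.sum_pair (by simp only [ne_eq, Fin.mk.injEq]; omega), (hv _).2, hvv' s,
                hvv' ⟨s.val - 1, by omega⟩, hvv' ⟨s.val + 1, by omega⟩]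
              dsimp only
              have hp : T.a (vv s.val) (vv (s.val - 1)) = w := by
                rw [hsymm]
                have := ha (s.val - 1) (by omega) (by omega)
                rwa [show s.val - 1 + 1 = s.val by omega] at this
              rw [hw s.val (by omega) (by omega), hp, ha s.val (by omega) (by omega),
                hcm s h0 (by omega), hcm ⟨s.val - 1, by omega⟩ (by fo) (by fo),
                hcm ⟨s.val + 1, by omega⟩ (by fo) (by fo)]
              linarith
          · by_cases h3 : s.val + 2 = t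
            · -- the fork
              have hs : s = ⟨t - 2, ht2⟩ := Fin.ext (by fo)
              rw [hs]
              refine ⟨{⟨t - 3, ht3⟩, ⟨t - 1, ht1⟩, ⟨t, htt⟩}, ?_, ?_⟩
              · simp only [Finset.mem_insert, Finset.mem_singleton, not_or, Fin.mk.injEq]
                omega
              · rw [Finset.sum_insert (by
                    simp only [Finset.mem_insert, Finset.mem_singleton, not_or, Fin.mk.injEq]
                    omega),
                  Finset.sum_pair (by simp only [ne_eq, Fin.mk.injEq]; omega), (hv _).2,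
                  hvv' ⟨t - 2, ht2⟩, hvv' ⟨t - 3, ht3⟩, hvv' ⟨t - 1, ht1⟩, hvv' ⟨t, htt⟩]
                dsimp only
                have hp : T.a (vv (t - 2)) (vv (t - 3)) = w := by
                  rw [hsymm]
                  have := ha (t - 3) (by omega) (by omega)
                  rwa [e32] at this
                rw [w2, hp, b23, b24, hcm ⟨t - 2, ht2⟩ (by fo) (by fo),
                  hcm ⟨t - 3, ht3⟩ (by fo) (by fo), hcl ⟨t - 1, ht1⟩ (by fo),
                  hcl ⟨t, htt⟩ (by fo)]
                linarith
            · by_cases h4 : s.val + 1 = t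
              · have hs : s = ⟨t - 1, ht1⟩ := Fin.ext (by fo)
                rw [hs]
                refine ⟨{⟨t - 2, ht2⟩}, by simp; omega, ?_⟩
                rw [Finset.sum_singleton, (hv _).2, hvv' ⟨t - 1, ht1⟩, hvv' ⟨t - 2, ht2⟩]
                dsimp only
                rw [w3, hsymm, b23, hcl ⟨t - 1, ht1⟩ (by fo), hcm ⟨t - 2, ht2⟩ (by fo) (by fo)]
                linarith
              · have hlt := s.2
                have hs : s = ⟨t, htt⟩ := Fin.ext (by fo)
                rw [hs]
                refine ⟨{⟨t - 2, ht2⟩}, by simp; omega, ?_⟩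
                rw [Finset.sum_singleton, (hv _).2, hvv' ⟨t, htt⟩, hvv' ⟨t - 2, ht2⟩]
                dsimp only
                rw [w4, hsymm, b24, hcl ⟨t, htt⟩ (by fo), hcm ⟨t - 2, ht2⟩ (by fo) (by fo)]
                linarith
  refine ⟨w, ?_, ?_, ?_⟩
  · intro j
    rw [hvv' j]
    have hlt := j.2
    by_cases h0 : j.val = 0
    · rw [h0]; exact hleft.1
    · by_cases h1 : j.val + 1 < t
      · exact hw j.val (by omega) h1
      · by_cases h2 : j.val + 1 = t
        · rw [show j.val = t - 1 by omega]; exact w3
        · rw [show j.val = t by omega]; exact w4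
  · intro j j' hjj' hj'
    rw [hvv' j, hvv' j', hjj']
    by_cases h0 : j.val = 0
    · rw [h0]; exact hleft.2
    · by_cases h1 : j.val + 2 < t
      · exact ha j.val (by omega) h1
      · have : j.val = t - 2 := by omega
        rw [this, e21]
        exact b23
  · intro j j' hj hj'
    rw [hvv' j, hvv' j', hj', show j.val = t - 2 by omega]
    exact b24

end helpers

/-- Classification of proper subgraphs of type D: let T be a numerical type on n indices, t > 4 with n >
t + 1, and i_1, …, i_{t+1} distinct (-2)-indices such that a_{i_j i_{j+1}} is nonzero for j = 1, …,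
t - 1 and a_{i_{t-1} i_{t+1}} is nonzero. Then for some integer w one has w_{i_1} = … = w_{i_{t+1}}
= w, a_{i_j i_{j+1}} = w for j < t, a_{i_{t-1} i_{t+1}} = w, and a_{i_j i_k} = 0 for all other pairs
j ≠ k. -/
theorem result {n : ℕ} (T : Models.NumericalType n) (t : ℕ) (ht : 4 < t) (hn : t + 1 < n)
    (v : Fin (t + 1) ↪ Fin n) (hv : ∀ j, T.IsMinusTwo (v j))
    (hchain : ∀ j j' : Fin (t + 1), j'.val = j.val + 1 → j'.val < t → T.a (v j) (v j') ≠ 0)
    (hbranch : ∀ j j' : Fin (t + 1), j.val + 2 = t → j'.val = t → T.a (v j) (v j') ≠ 0) :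
    ∃ w : ℤ, (∀ j : Fin (t + 1), T.w (v j) = w) ∧
      (∀ j j' : Fin (t + 1), j'.val = j.val + 1 → j'.val < t → T.a (v j) (v j') = w) ∧
      (∀ j j' : Fin (t + 1), j.val + 2 = t → j'.val = t → T.a (v j) (v j') = w) ∧
      (∀ j k : Fin (t + 1), j.val < k.val → ¬ (k.val = j.val + 1 ∧ k.val < t) → ¬ (j.val + 2 = t ∧ k.val = t) →
        T.a (v j) (v k) = 0) := by
  obtain ⟨w, h1, h2, h3⟩ := main T t ht hn v hv hchain hbranch
  exact ⟨w, h1, h2, h3, fun j k hjk hn1 hn2 => zeros T t ht hn v hv hchain hbranch j k hjk hn1 hn2⟩

end Groth.Agent.S7355
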