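import Groth.Statements.S7363
import Mathlib
import Groth.Agent.Lib.Helper26.NumTypeGenusOne

set_option autoImplicit false
open Finset
open Models Models.NumericalType

namespace Groth.Agent.S7363

open Groth.Agent.Lib.Helper26.NumType

section helpers

theorem sum3 (i j k : Fin 3) (hij : i ≠ j) (hjk : j ≠ k) (hik : i ≠ k) (f : Fin 3 → ℤ) :
    ∑ l, f l = f i + f j + f k := by
  rw [Fin.sum_univ_three]
  fin_cases i <;> fin_cases j <;> fin_cases k <;> simp_all <;> ring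

/-- the six types of the statement -/
def Types3 (T : Models.NumericalType 3) (i j k : Fin 3) (m w : ℤ) : Prop :=
      ((T.m i = m ∧ T.m j = m ∧ T.m k = m ∧ T.a i i = -2 * w ∧ T.a j j = -2 * w ∧ T.a k k = -2 * w ∧
          T.a i j = w ∧ T.a i k = w ∧ T.a j k = w ∧ T.w i = w ∧ T.w j = w ∧ T.w k = w) ∨
        (T.m i = m ∧ T.m j = 2 * m ∧ T.m k = m ∧ T.a i i = -2 * w ∧ T.a i j = w ∧ T.a i k = 0 ∧ T.a j j = -2 * w ∧
          T.a j k = 3 * w ∧ T.a k k = -6 * w ∧ T.w i = w ∧ T.w j = w ∧ T.w k = 3 * w) ∨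
        (T.m i = m ∧ T.m j = 2 * m ∧ T.m k = 3 * m ∧ T.a i i = -6 * w ∧ T.a i j = 3 * w ∧ T.a i k = 0 ∧ T.a j j = -6 * w ∧
          T.a j k = 3 * w ∧ T.a k k = -2 * w ∧ T.w i = 3 * w ∧ T.w j = 3 * w ∧ T.w k = w) ∨
        (T.m i = 2 * m ∧ T.m j = 2 * m ∧ T.m k = m ∧ T.a i i = -2 * w ∧ T.a i j = 2 * w ∧ T.a i k = 0 ∧ T.a j j = -4 * w ∧
          T.a j k = 4 * w ∧ T.a k k = -8 * w ∧ T.w i = w ∧ T.w j = 2 * w ∧ T.w k = 4 * w) ∨
        (T.m i = m ∧ T.m j = m ∧ T.m k = m ∧ T.a i i = -2 * w ∧ T.a i j = 2 * w ∧ T.a i k = 0 ∧ T.a j j = -4 * w ∧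
          T.a j k = 2 * w ∧ T.a k k = -2 * w ∧ T.w i = w ∧ T.w j = 2 * w ∧ T.w k = w) ∨
        (T.m i = m ∧ T.m j = 2 * m ∧ T.m k = m ∧ T.a i i = -4 * w ∧ T.a i j = 2 * w ∧ T.a i k = 0 ∧ T.a j j = -2 * w ∧
          T.a j k = 2 * w ∧ T.a k k = -4 * w ∧ T.w i = 2 * w ∧ T.w j = w ∧ T.w k = 2 * w))

theorem cases_pqrs (p q r s : ℤ) (hp0 : 0 < p) (hq0 : 0 < q) (hr0 : 0 < r) (hs0 : 0 < s)
    (hsum : p * q + r * s = 4) :
    (p = 1 ∧ q = 1 ∧ r = 3 ∧ s = 1) ∨ (p = 1 ∧ q = 1 ∧ r = 1 ∧ s = 3) ∨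
      (p = 2 ∧ q = 1 ∧ r = 2 ∧ s = 1) ∨ (p = 2 ∧ q = 1 ∧ r = 1 ∧ s = 2) ∨
      (p = 1 ∧ q = 2 ∧ r = 2 ∧ s = 1) ∨ (p = 1 ∧ q = 2 ∧ r = 1 ∧ s = 2) ∨
      (p = 1 ∧ q = 3 ∧ r = 1 ∧ s = 1) ∨ (p = 3 ∧ q = 1 ∧ r = 1 ∧ s = 1) := by
  have hp3 : p ≤ 3 := by nlinarith
  have hq3 : q ≤ 3 := by nlinarith
  have hr3 : r ≤ 3 := by nlinarith
  have hs3 : s ≤ 3 := by nlinarith
  interval_cases p <;> interval_cases q <;> interval_cases r <;> interval_cases s <;> omega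

theorem path_case (T : Models.NumericalType 3) (h2 : ∀ l, T.IsMinusTwo l) (i j k : Fin 3)
    (hij : i ≠ j) (hjk : j ≠ k) (hik : i ≠ k) (a_ik : T.a i k = 0) (a_ij : 0 < T.a i j)
    (a_jk : 0 < T.a j k) : ∃ m w, Types3 T i j k m w ∨ Types3 T k j i m w := by
  have aii := (h2 i).2
  have ajj := (h2 j).2
  have akk := (h2 k).2
  have hwi := T.w_pos i
  have hwj := T.w_pos j
  have hwk := T.w_pos k
  have hmi := T.m_pos i
  have hmj := T.m_pos j
  have hmk := T.m_pos k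
  have a_ji : T.a j i = T.a i j := T.symm.apply i j
  have a_kj : T.a k j = T.a j k := T.symm.apply j k
  have a_ki : T.a k i = 0 := by rw [T.symm.apply]; exact a_ik
  have ri := congrFun T.mulVec_m i
  have rj := congrFun T.mulVec_m j
  have rk := congrFun T.mulVec_m k
  simp only [Matrix.mulVec, dotProduct, Pi.zero_apply] at ri rj rk
  rw [sum3 i j k hij hjk hik] at ri rj rk
  rw [aii, a_ik] at ri
  rw [a_ji, ajj] at rj
  rw [a_ki, a_kj, akk] at rk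
  obtain ⟨p, hp⟩ := T.w_dvd i j
  obtain ⟨q, hq⟩ : T.w j ∣ T.a i j := a_ji ▸ T.w_dvd j i
  obtain ⟨r, hr⟩ := T.w_dvd j k
  obtain ⟨s, hs⟩ : T.w k ∣ T.a j k := a_kj ▸ T.w_dvd k j
  have hp0 : 0 < p := by
    by_contra hcon
    push Not at hcon
    nlinarith
  have hq0 : 0 < q := by
    by_contra hcon
    push Not at hcon
    nlinarith
  have hr0 : 0 < r := by
    by_contra hcon
    push Not at hcon
    nlinarith
  have hs0 : 0 < s := by
    by_contra hcon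
    push Not at hcon
    nlinarith
  have e_i : p * T.m j = 2 * T.m i := by
    have : T.w i * (p * T.m j) = T.w i * (2 * T.m i) := by
      rw [hp] at ri
      linarith
    exact mul_left_cancel₀ hwi.ne' this
  have e_k : s * T.m j = 2 * T.m k := by
    have : T.w k * (s * T.m j) = T.w k * (2 * T.m k) := by
      rw [hs] at rk
      linarith
    exact mul_left_cancel₀ hwk.ne' this
  have e_j : q * T.m i + r * T.m k = 2 * T.m j := by
    have : T.w j * (q * T.m i + r * T.m k) = T.w j * (2 * T.m j) := by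
      have h1 : T.a i j * T.m i = T.w j * (q * T.m i) := by rw [hq]; ring
      have h2' : T.a j k * T.m k = T.w j * (r * T.m k) := by rw [hr]; ring
      linarith
    exact mul_left_cancel₀ hwj.ne' this
  have hsum : p * q + r * s = 4 := by
    have : (p * q + r * s) * T.m j = 4 * T.m j := by
      calc (p * q + r * s) * T.m j = q * (p * T.m j) + r * (s * T.m j) := by ring
        _ = q * (2 * T.m i) + r * (2 * T.m k) := by rw [e_i, e_k]
        _ = 2 * (q * T.m i + r * T.m k) := by ring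
        _ = 4 * T.m j := by rw [e_j]; ring
    exact mul_right_cancel₀ hmj.ne' this
  have hcases := cases_pqrs p q r s hp0 hq0 hr0 hs0 hsum
  unfold Types3
  rcases hcases with ⟨rfl, rfl, rfl, rfl⟩ | ⟨rfl, rfl, rfl, rfl⟩ | ⟨rfl, rfl, rfl, rfl⟩ |
    ⟨rfl, rfl, rfl, rfl⟩ | ⟨rfl, rfl, rfl, rfl⟩ | ⟨rfl, rfl, rfl, rfl⟩ | ⟨rfl, rfl, rfl, rfl⟩ |
    ⟨rfl, rfl, rfl, rfl⟩
  · -- T2 (i,j,k)
    refine ⟨T.m i, T.w i, Or.inl (Or.inr (Or.inl ⟨rfl, by linarith, by linarith, aii, by linarith,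
      a_ik, by rw [ajj]; linarith, by linarith, by rw [akk]; linarith, rfl, by linarith,
      by linarith⟩))⟩
  · -- T3 (i,j,k)
    refine ⟨T.m i, T.w k, Or.inl (Or.inr (Or.inr (Or.inl ⟨rfl, by linarith, by linarith,
      by rw [aii]; linarith, by linarith, a_ik, by rw [ajj]; linarith, by linarith, akk,
      by linarith, by linarith, rfl⟩)))⟩
  · -- T4 (i,j,k)
    refine ⟨T.m k, T.w i, Or.inl (Or.inr (Or.inr (Or.inr (Or.inl ⟨by linarith, by linarith, rfl,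
      aii, by linarith, a_ik, by rw [ajj]; linarith, by linarith, by rw [akk]; linarith, rfl,
      by linarith, by linarith⟩))))⟩
  · -- T5 (i,j,k)
    refine ⟨T.m i, T.w i, Or.inl (Or.inr (Or.inr (Or.inr (Or.inr (Or.inl ⟨rfl, by linarith,
      by linarith, aii, by linarith, a_ik, by rw [ajj]; linarith, by linarith,
      by rw [akk]; linarith, rfl, by linarith, by linarith⟩)))))⟩
  · -- T6 (i,j,k)
    refine ⟨T.m i, T.w j, Or.inl (Or.inr (Or.inr (Or.inr (Or.inr (Or.inr ⟨rfl, by linarith,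
      by linarith, by rw [aii]; linarith, by linarith, a_ik, ajj, by linarith,
      by rw [akk]; linarith, by linarith, rfl, by linarith⟩)))))⟩
  · -- T4 (k,j,i)
    refine ⟨T.m i, T.w k, Or.inr (Or.inr (Or.inr (Or.inr (Or.inl ⟨by linarith, by linarith, rfl,
      akk, by rw [a_kj]; linarith, a_ki, by rw [ajj]; linarith, by rw [a_ji]; linarith,
      by rw [aii]; linarith, rfl, by linarith, by linarith⟩))))⟩
  · -- T2 (k,j,i)
    refine ⟨T.m k, T.w k, Or.inr (Or.inr (Or.inl ⟨rfl, by linarith, by linarith, akk,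
      by rw [a_kj]; linarith, a_ki, by rw [ajj]; linarith, by rw [a_ji]; linarith,
      by rw [aii]; linarith, rfl, by linarith, by linarith⟩))⟩
  · -- T3 (k,j,i)
    refine ⟨T.m k, T.w i, Or.inr (Or.inr (Or.inr (Or.inl ⟨rfl, by linarith, by linarith,
      by rw [akk]; linarith, by rw [a_kj]; linarith, a_ki, by rw [ajj]; linarith,
      by rw [a_ji]; linarith, aii, by linarith, by linarith, rfl⟩)))⟩

theorem triangle_case (T : Models.NumericalType 3) (h2 : ∀ l, T.IsMinusTwo l)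
    (a01 : T.a 0 1 ≠ 0) (a02 : T.a 0 2 ≠ 0) (a12 : T.a 1 2 ≠ 0) :
    ∃ m w, Types3 T 0 1 2 m w := by
  have a00 := (h2 0).2
  have a11 := (h2 1).2
  have a22 := (h2 2).2
  have hm0 := T.m_pos 0
  have hm1 := T.m_pos 1
  have hm2 := T.m_pos 2
  have hw0 := T.w_pos 0
  have a10 : T.a 1 0 = T.a 0 1 := T.symm.apply 0 1
  have a20 : T.a 2 0 = T.a 0 2 := T.symm.apply 0 2
  have a21 : T.a 2 1 = T.a 1 2 := T.symm.apply 1 2
  have r0 := congrFun T.mulVec_m 0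
  have r1 := congrFun T.mulVec_m 1
  have r2 := congrFun T.mulVec_m 2
  simp only [Matrix.mulVec, dotProduct, Pi.zero_apply, Fin.sum_univ_three] at r0 r1 r2
  rw [a00] at r0
  rw [a10, a11] at r1
  rw [a20, a21, a22] at r2
  have b01 := w_le_of_ne T (by decide : (0 : Fin 3) ≠ 1) a01
  have b02 := w_le_of_ne T (by decide : (0 : Fin 3) ≠ 2) a02
  have b12 := w_le_of_ne T (by decide : (1 : Fin 3) ≠ 2) a12
  have hb0 : 0 ≤ T.a 0 1 + T.a 0 2 - 2 * T.w 0 := by linarith [b01.1, b02.1]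
  have hb1 : 0 ≤ T.a 0 1 + T.a 1 2 - 2 * T.w 1 := by linarith [b01.2, b12.1]
  have hb2 : 0 ≤ T.a 0 2 + T.a 1 2 - 2 * T.w 2 := by linarith [b02.2, b12.2]
  have hsum : T.m 0 * (T.a 0 1 + T.a 0 2 - 2 * T.w 0) + T.m 1 * (T.a 0 1 + T.a 1 2 - 2 * T.w 1) +
      T.m 2 * (T.a 0 2 + T.a 1 2 - 2 * T.w 2) = 0 := by linarith
  have t0 := mul_nonneg hm0.le hb0
  have t1 := mul_nonneg hm1.le hb1
  have t2 := mul_nonneg hm2.le hb2
  have z0 : T.a 0 1 + T.a 0 2 - 2 * T.w 0 = 0 := by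
    have : T.m 0 * (T.a 0 1 + T.a 0 2 - 2 * T.w 0) = 0 := by linarith
    rcases mul_eq_zero.1 this with h | h
    · exact absurd h hm0.ne'
    · exact h
  have z1 : T.a 0 1 + T.a 1 2 - 2 * T.w 1 = 0 := by
    have : T.m 1 * (T.a 0 1 + T.a 1 2 - 2 * T.w 1) = 0 := by linarith
    rcases mul_eq_zero.1 this with h | h
    · exact absurd h hm1.ne'
    · exact h
  have z2 : T.a 0 2 + T.a 1 2 - 2 * T.w 2 = 0 := by
    have : T.m 2 * (T.a 0 2 + T.a 1 2 - 2 * T.w 2) = 0 := by linarith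
    rcases mul_eq_zero.1 this with h | h
    · exact absurd h hm2.ne'
    · exact h
  have e01 : T.a 0 1 = T.w 0 := by linarith [b01.1, b02.1]
  have e02 : T.a 0 2 = T.w 0 := by linarith [b01.1, b02.1]
  have e12 : T.a 1 2 = T.w 0 := by linarith [b01.2, b12.1, b02.2, b12.2]
  have ew1 : T.w 1 = T.w 0 := by linarith
  have ew2 : T.w 2 = T.w 0 := by linarith
  rw [e01, e02] at r0
  rw [e01, e12, ew1] at r1
  have q0 : T.m 1 + T.m 2 = 2 * T.m 0 := by
    have : T.w 0 * (T.m 1 + T.m 2) = T.w 0 * (2 * T.m 0) := by linarith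
    exact mul_left_cancel₀ hw0.ne' this
  have q1 : T.m 0 + T.m 2 = 2 * T.m 1 := by
    have : T.w 0 * (T.m 0 + T.m 2) = T.w 0 * (2 * T.m 1) := by linarith
    exact mul_left_cancel₀ hw0.ne' this
  refine ⟨T.m 0, T.w 0, Or.inl ⟨rfl, by linarith, by linarith, a00, by rw [a11]; linarith,
    by rw [a22]; linarith, e01, e02, e12, rfl, ew1, ew2⟩⟩

theorem pos_of_ne' (T : Models.NumericalType 3) {i j : Fin 3} (hij : i ≠ j) (h : T.a i j ≠ 0) :
    0 < T.a i j := lt_of_le_of_ne (T.offDiag_nonneg i j hij) (Ne.symm h)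

end helpers

theorem main7363 (T : Models.NumericalType 3) (hmin : T.IsMinimal) (hg : T.genus = 1) :
    ∃ (i j k : Fin 3) (m w : ℤ), i ≠ j ∧ j ≠ k ∧ i ≠ k ∧ T.g i = 0 ∧ T.g j = 0 ∧ T.g k = 0 ∧
      Types3 T i j k m w := by
  have h2 := isMinusTwo_of_isMinimal_of_genus_one T (by norm_num) hmin hg
  have g0 := (h2 0).1
  have g1 := (h2 1).1
  have g2 := (h2 2).1
  -- connectivity at each vertex
  have c0 : T.a 0 1 ≠ 0 ∨ T.a 0 2 ≠ 0 := by
    obtain ⟨i, hi, j, hj, hij⟩ := T.connected {0} (by simp) (by decide)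
    rw [Finset.mem_singleton] at hi
    subst hi
    fin_cases j
    · simp at hj
    · exact Or.inl hij
    · exact Or.inr hij
  have c1 : T.a 0 1 ≠ 0 ∨ T.a 1 2 ≠ 0 := by
    obtain ⟨i, hi, j, hj, hij⟩ := T.connected {1} (by simp) (by decide)
    rw [Finset.mem_singleton] at hi
    subst hi
    fin_cases j
    · left; rw [← T.symm.apply]; exact hij
    · simp at hj
    · exact Or.inr hij
  have c2 : T.a 0 2 ≠ 0 ∨ T.a 1 2 ≠ 0 := by
    obtain ⟨i, hi, j, hj, hij⟩ := T.connected {2} (by simp) (by decide)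
    rw [Finset.mem_singleton] at hi
    subst hi
    fin_cases j
    · left; rw [← T.symm.apply]; exact hij
    · right; rw [← T.symm.apply]; exact hij
    · simp at hj
  have a10 : T.a 1 0 = T.a 0 1 := T.symm.apply 0 1
  have a20 : T.a 2 0 = T.a 0 2 := T.symm.apply 0 2
  have a21 : T.a 2 1 = T.a 1 2 := T.symm.apply 1 2
  by_cases h02 : T.a 0 2 = 0
  · -- path 0 - 1 - 2
    have h01 : T.a 0 1 ≠ 0 := by tauto
    have h12 : T.a 1 2 ≠ 0 := by tauto
    obtain ⟨m, w, h | h⟩ := path_case T h2 0 1 2 (by decide) (by decide) (by decide) h02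
      (pos_of_ne' T (by decide) h01) (pos_of_ne' T (by decide) h12)
    · exact ⟨0, 1, 2, m, w, by decide, by decide, by decide, g0, g1, g2, h⟩
    · exact ⟨2, 1, 0, m, w, by decide, by decide, by decide, g2, g1, g0, h⟩
  · by_cases h01 : T.a 0 1 = 0
    · -- path 0 - 2 - 1
      have h12 : T.a 1 2 ≠ 0 := by tauto
      obtain ⟨m, w, h | h⟩ := path_case T h2 0 2 1 (by decide) (by decide) (by decide) h01
        (pos_of_ne' T (by decide) h02) (pos_of_ne' T (by decide) (a21 ▸ h12))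
      · exact ⟨0, 2, 1, m, w, by decide, by decide, by decide, g0, g2, g1, h⟩
      · exact ⟨1, 2, 0, m, w, by decide, by decide, by decide, g1, g2, g0, h⟩
    · by_cases h12 : T.a 1 2 = 0
      · -- path 1 - 0 - 2
        obtain ⟨m, w, h | h⟩ := path_case T h2 1 0 2 (by decide) (by decide) (by decide) h12
          (pos_of_ne' T (by decide) (a10 ▸ h01)) (pos_of_ne' T (by decide) h02)
        · exact ⟨1, 0, 2, m, w, by decide, by decide, by decide, g1, g0, g2, h⟩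
        · exact ⟨2, 0, 1, m, w, by decide, by decide, by decide, g2, g0, g1, h⟩
      · obtain ⟨m, w, h⟩ := triangle_case T h2 h01 h02 h12
        exact ⟨0, 1, 2, m, w, by decide, by decide, by decide, g0, g1, g2, h⟩

/-- Genus one classification: case n = 3: let T be a minimal numerical type of genus 1 on three indices.
Then all g = 0 and, for some ordering i, j, k of the indices and some integers m, w, the data (m; a;
w) is one of: (m,m,m; a_ii = a_jj = a_kk = -2w, a_ij = a_ik = a_jk = w; w,w,w); (m,2m,m; a_ii = -2w,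
a_ij = w, a_ik = 0, a_jj = -2w, a_jk = 3w, a_kk = -6w; w,w,3w); (m,2m,3m; a_ii = -6w, a_ij = 3w,
a_ik = 0, a_jj = -6w, a_jk = 3w, a_kk = -2w; 3w,3w,w); (2m,2m,m; a_ii = -2w, a_ij = 2w, a_ik = 0,
a_jj = -4w, a_jk = 4w, a_kk = -8w; w,2w,4w); (m,m,m; a_ii = -2w, a_ij = 2w, a_ik = 0, a_jj = -4w,
a_jk = 2w, a_kk = -2w; w,2w,w); (m,2m,m; a_ii = -4w, a_ij = 2w, a_ik = 0, a_jj = -2w, a_jk = 2w,
a_kk = -4w; 2w,w,2w). Only the classification direction is stated. -/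
theorem result (T : Models.NumericalType 3) (hmin : T.IsMinimal) (hg : T.genus = 1) :
    ∃ (i j k : Fin 3) (m w : ℤ), i ≠ j ∧ j ≠ k ∧ i ≠ k ∧ T.g i = 0 ∧ T.g j = 0 ∧ T.g k = 0 ∧
      ((T.m i = m ∧ T.m j = m ∧ T.m k = m ∧ T.a i i = -2 * w ∧ T.a j j = -2 * w ∧ T.a k k = -2 * w ∧
          T.a i j = w ∧ T.a i k = w ∧ T.a j k = w ∧ T.w i = w ∧ T.w j = w ∧ T.w k = w) ∨
        (T.m i = m ∧ T.m j = 2 * m ∧ T.m k = m ∧ T.a i i = -2 * w ∧ T.a i j = w ∧ T.a i k = 0 ∧ T.a j j = -2 * w ∧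
          T.a j k = 3 * w ∧ T.a k k = -6 * w ∧ T.w i = w ∧ T.w j = w ∧ T.w k = 3 * w) ∨
        (T.m i = m ∧ T.m j = 2 * m ∧ T.m k = 3 * m ∧ T.a i i = -6 * w ∧ T.a i j = 3 * w ∧ T.a i k = 0 ∧ T.a j j = -6 * w ∧
          T.a j k = 3 * w ∧ T.a k k = -2 * w ∧ T.w i = 3 * w ∧ T.w j = 3 * w ∧ T.w k = w) ∨
        (T.m i = 2 * m ∧ T.m j = 2 * m ∧ T.m k = m ∧ T.a i i = -2 * w ∧ T.a i j = 2 * w ∧ T.a i k = 0 ∧ T.a j j = -4 * w ∧
          T.a j k = 4 * w ∧ T.a k k = -8 * w ∧ T.w i = w ∧ T.w j = 2 * w ∧ T.w k = 4 * w) ∨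
        (T.m i = m ∧ T.m j = m ∧ T.m k = m ∧ T.a i i = -2 * w ∧ T.a i j = 2 * w ∧ T.a i k = 0 ∧ T.a j j = -4 * w ∧
          T.a j k = 2 * w ∧ T.a k k = -2 * w ∧ T.w i = w ∧ T.w j = 2 * w ∧ T.w k = w) ∨
        (T.m i = m ∧ T.m j = 2 * m ∧ T.m k = m ∧ T.a i i = -4 * w ∧ T.a i j = 2 * w ∧ T.a i k = 0 ∧ T.a j j = -2 * w ∧
          T.a j k = 2 * w ∧ T.a k k = -4 * w ∧ T.w i = 2 * w ∧ T.w j = w ∧ T.w k = 2 * w)) := by
  obtain ⟨i, j, k, m, w, h1, h2, h3, h4, h5, h6, h7⟩ := main7363 T hmin hg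
  exact ⟨i, j, k, m, w, h1, h2, h3, h4, h5, h6, h7⟩

end Groth.Agent.S7363
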