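import Groth.Statements.S7364
import Mathlib
import Groth.Agent.Lib.Helper26.NTC19

set_option autoImplicit false
open Finset
open Models Models.NumericalType

namespace Groth.Agent.S7364

open Groth.Agent.Lib.Helper26.NTC

/-- Genus one classification: case n = 4: let T be a minimal numerical type of genus 1 on 4 indices.
Then all g_i = 0 and, for some permutation σ of the indices and some integers m, w, the
multiplicities, weights and intersection matrix (m_{σ(i)}, w_{σ(i)}, a_{σ(i)σ(j)}) are those of one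
of the following 6 types: [four cycle] m = (m, m, m, m), w = (w, w, w, w), a = (-2 * w w 0 w / w -2
* w w 0 / 0 w -2 * w w / w 0 w -2 * w); [up equal up] m = (2 * m, 2 * m, 2 * m, m), w = (w, 2 * w, 2
* w, 4 * w), a = (-2 * w 2 * w 0 0 / 2 * w -4 * w 2 * w 0 / 0 2 * w -4 * w 4 * w / 0 0 4 * w -8 *
w); [up equal down] m = (m, m, m, m), w = (w, 2 * w, 2 * w, w), a = (-2 * w 2 * w 0 0 / 2 * w -4 * w
2 * w 0 / 0 2 * w -4 * w 2 * w / 0 0 2 * w -2 * w); [down equal up] m = (m, 2 * m, 2 * m, m), w = (2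
* w, w, w, 2 * w), a = (-4 * w 2 * w 0 0 / 2 * w -2 * w w 0 / 0 w -2 * w 2 * w / 0 0 2 * w -4 * w);
[triple with up] m = (2 * m, m, m, m), w = (w, w, w, 2 * w), a = (-2 * w w w 2 * w / w -2 * w 0 0 /
w 0 -2 * w 0 / 2 * w 0 0 -4 * w); [triple with down] m = (2 * m, m, m, 2 * m), w = (2 * w, 2 * w, 2
* w, w), a = (-4 * w 2 * w 2 * w 2 * w / 2 * w -4 * w 0 0 / 2 * w 0 -4 * w 0 / 2 * w 0 0 -2 * w).
Only the classification direction is stated. -/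
theorem result (T : Models.NumericalType 4) (hmin : T.IsMinimal) (hg : T.genus = 1) :
    (∀ i, T.g i = 0) ∧ ∃ (σ : Equiv.Perm (Fin 4)) (m w : ℤ),
      ((T.m (σ 0) = m ∧ T.m (σ 1) = m ∧ T.m (σ 2) = m ∧ T.m (σ 3) = m ∧ T.w (σ 0) = w ∧ T.w (σ 1) = w ∧ T.w (σ 2) = w ∧ T.w (σ 3) = w ∧ T.a (σ 0) (σ 0) = -2 * w ∧ T.a (σ 0) (σ 1) = w ∧ T.a (σ 0) (σ 2) = 0 ∧ T.a (σ 0) (σ 3) = w ∧ T.a (σ 1) (σ 1) = -2 * w ∧ T.a (σ 1) (σ 2) = w ∧ T.a (σ 1) (σ 3) = 0 ∧ T.a (σ 2) (σ 2) = -2 * w ∧ T.a (σ 2) (σ 3) = w ∧ T.a (σ 3) (σ 3) = -2 * w) ∨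
      (T.m (σ 0) = 2 * m ∧ T.m (σ 1) = 2 * m ∧ T.m (σ 2) = 2 * m ∧ T.m (σ 3) = m ∧ T.w (σ 0) = w ∧ T.w (σ 1) = 2 * w ∧ T.w (σ 2) = 2 * w ∧ T.w (σ 3) = 4 * w ∧ T.a (σ 0) (σ 0) = -2 * w ∧ T.a (σ 0) (σ 1) = 2 * w ∧ T.a (σ 0) (σ 2) = 0 ∧ T.a (σ 0) (σ 3) = 0 ∧ T.a (σ 1) (σ 1) = -4 * w ∧ T.a (σ 1) (σ 2) = 2 * w ∧ T.a (σ 1) (σ 3) = 0 ∧ T.a (σ 2) (σ 2) = -4 * w ∧ T.a (σ 2) (σ 3) = 4 * w ∧ T.a (σ 3) (σ 3) = -8 * w) ∨
      (T.m (σ 0) = m ∧ T.m (σ 1) = m ∧ T.m (σ 2) = m ∧ T.m (σ 3) = m ∧ T.w (σ 0) = w ∧ T.w (σ 1) = 2 * w ∧ T.w (σ 2) = 2 * w ∧ T.w (σ 3) = w ∧ T.a (σ 0) (σ 0) = -2 * w ∧ T.a (σ 0) (σ 1) = 2 * w ∧ T.a (σ 0) (σ 2) = 0 ∧ T.a (σ 0) (σ 3) = 0 ∧ T.a (σ 1) (σ 1) = -4 * w ∧ T.a (σ 1) (σ 2) = 2 * w ∧ T.a (σ 1) (σ 3) = 0 ∧ T.a (σ 2) (σ 2) = -4 * w ∧ T.a (σ 2) (σ 3) = 2 * w ∧ T.a (σ 3) (σ 3) = -2 * w) ∨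
      (T.m (σ 0) = m ∧ T.m (σ 1) = 2 * m ∧ T.m (σ 2) = 2 * m ∧ T.m (σ 3) = m ∧ T.w (σ 0) = 2 * w ∧ T.w (σ 1) = w ∧ T.w (σ 2) = w ∧ T.w (σ 3) = 2 * w ∧ T.a (σ 0) (σ 0) = -4 * w ∧ T.a (σ 0) (σ 1) = 2 * w ∧ T.a (σ 0) (σ 2) = 0 ∧ T.a (σ 0) (σ 3) = 0 ∧ T.a (σ 1) (σ 1) = -2 * w ∧ T.a (σ 1) (σ 2) = w ∧ T.a (σ 1) (σ 3) = 0 ∧ T.a (σ 2) (σ 2) = -2 * w ∧ T.a (σ 2) (σ 3) = 2 * w ∧ T.a (σ 3) (σ 3) = -4 * w) ∨
      (T.m (σ 0) = 2 * m ∧ T.m (σ 1) = m ∧ T.m (σ 2) = m ∧ T.m (σ 3) = m ∧ T.w (σ 0) = w ∧ T.w (σ 1) = w ∧ T.w (σ 2) = w ∧ T.w (σ 3) = 2 * w ∧ T.a (σ 0) (σ 0) = -2 * w ∧ T.a (σ 0) (σ 1) = w ∧ T.a (σ 0) (σ 2) = w ∧ T.a (σ 0) (σ 3) = 2 * w ∧ T.a (σ 1) (σ 1) = -2 * w ∧ T.a (σ 1) (σ 2) = 0 ∧ T.a (σ 1) (σ 3) = 0 ∧ T.a (σ 2) (σ 2) = -2 * w ∧ T.a (σ 2) (σ 3) = 0 ∧ T.a (σ 3) (σ 3) = -4 * w) ∨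
      (T.m (σ 0) = 2 * m ∧ T.m (σ 1) = m ∧ T.m (σ 2) = m ∧ T.m (σ 3) = 2 * m ∧ T.w (σ 0) = 2 * w ∧ T.w (σ 1) = 2 * w ∧ T.w (σ 2) = 2 * w ∧ T.w (σ 3) = w ∧ T.a (σ 0) (σ 0) = -4 * w ∧ T.a (σ 0) (σ 1) = 2 * w ∧ T.a (σ 0) (σ 2) = 2 * w ∧ T.a (σ 0) (σ 3) = 2 * w ∧ T.a (σ 1) (σ 1) = -4 * w ∧ T.a (σ 1) (σ 2) = 0 ∧ T.a (σ 1) (σ 3) = 0 ∧ T.a (σ 2) (σ 2) = -4 * w ∧ T.a (σ 2) (σ 3) = 0 ∧ T.a (σ 3) (σ 3) = -2 * w)) := by
  obtain ⟨hg0, h2, hcl⟩ := classify (T := T) (by omega) hmin hg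
  refine ⟨hg0, ?_⟩
  rcases hcl with h | h | ⟨v, hv⟩
  · obtain ⟨σ, m, w, h⟩ := h
    rcases h with h | h | h | h | ⟨-, h5⟩ | h | ⟨-, h6⟩
    · refine ⟨σ, m, w, Or.inl ?_⟩
      obtain ⟨xm0, xw0, xa0, xa1, xz⟩ := h
      split_ands
      · exact xm0 (0 : Fin 4)
      · exact xm0 (1 : Fin 4)
      · exact xm0 (2 : Fin 4)
      · exact xm0 (3 : Fin 4)
      · exact xw0 (0 : Fin 4)
      · exact xw0 (1 : Fin 4)
      · exact xw0 (2 : Fin 4)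
      · exact xw0 (3 : Fin 4)
      · rw [h2, xw0 (0 : Fin 4)] <;> ring
      · exact xa0 (0 : Fin 4) (1 : Fin 4) (by decide) (by decide)
      · exact xz (0 : Fin 4) (2 : Fin 4) (by decide) (by decide) (by decide)
      · exact xa1 (0 : Fin 4) (3 : Fin 4) (by decide) (by decide)
      · rw [h2, xw0 (1 : Fin 4)] <;> ring
      · exact xa0 (1 : Fin 4) (2 : Fin 4) (by decide) (by decide)
      · exact xz (1 : Fin 4) (3 : Fin 4) (by decide) (by decide) (by decide)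
      · rw [h2, xw0 (2 : Fin 4)] <;> ring
      · exact xa0 (2 : Fin 4) (3 : Fin 4) (by decide) (by decide)
      · rw [h2, xw0 (3 : Fin 4)] <;> ring
    · refine ⟨σ, m, w, Or.inr (Or.inl ?_)⟩
      obtain ⟨xm0, xm1, xw0, xw1, xw2, xa0, xa1, xz⟩ := h
      split_ands
      · exact xm0 (0 : Fin 4) (by decide)
      · exact xm0 (1 : Fin 4) (by decide)
      · exact xm0 (2 : Fin 4) (by decide)
      · exact xm1 (3 : Fin 4) (by decide)
      · exact xw0 (0 : Fin 4) (by decide)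
      · exact xw1 (1 : Fin 4) (by decide)
      · exact xw1 (2 : Fin 4) (by decide)
      · exact xw2 (3 : Fin 4) (by decide)
      · rw [h2, xw0 (0 : Fin 4) (by decide)] <;> ring
      · exact xa0 (0 : Fin 4) (1 : Fin 4) (by decide) (by decide)
      · exact xz (0 : Fin 4) (2 : Fin 4) (by decide) (by decide) (by decide)
      · exact xz (0 : Fin 4) (3 : Fin 4) (by decide) (by decide) (by decide)
      · rw [h2, xw1 (1 : Fin 4) (by decide)] <;> ring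
      · exact xa0 (1 : Fin 4) (2 : Fin 4) (by decide) (by decide)
      · exact xz (1 : Fin 4) (3 : Fin 4) (by decide) (by decide) (by decide)
      · rw [h2, xw1 (2 : Fin 4) (by decide)] <;> ring
      · exact xa1 (2 : Fin 4) (3 : Fin 4) (by decide) (by decide)
      · rw [h2, xw2 (3 : Fin 4) (by decide)] <;> ring
    · refine ⟨σ, m, w, Or.inr (Or.inr (Or.inl ?_))⟩
      obtain ⟨xm0, xw0, xw1, xw2, xa0, xz⟩ := h
      split_ands
      · exact xm0 (0 : Fin 4)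
      · exact xm0 (1 : Fin 4)
      · exact xm0 (2 : Fin 4)
      · exact xm0 (3 : Fin 4)
      · exact xw0 (0 : Fin 4) (by decide)
      · exact xw1 (1 : Fin 4) (by decide)
      · exact xw1 (2 : Fin 4) (by decide)
      · exact xw2 (3 : Fin 4) (by decide)
      · rw [h2, xw0 (0 : Fin 4) (by decide)] <;> ring
      · exact xa0 (0 : Fin 4) (1 : Fin 4) (by decide) (by decide)
      · exact xz (0 : Fin 4) (2 : Fin 4) (by decide) (by decide)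
      · exact xz (0 : Fin 4) (3 : Fin 4) (by decide) (by decide)
      · rw [h2, xw1 (1 : Fin 4) (by decide)] <;> ring
      · exact xa0 (1 : Fin 4) (2 : Fin 4) (by decide) (by decide)
      · exact xz (1 : Fin 4) (3 : Fin 4) (by decide) (by decide)
      · rw [h2, xw1 (2 : Fin 4) (by decide)] <;> ring
      · exact xa0 (2 : Fin 4) (3 : Fin 4) (by decide) (by decide)
      · rw [h2, xw2 (3 : Fin 4) (by decide)] <;> ring
    · refine ⟨σ, m, w, Or.inr (Or.inr (Or.inr (Or.inl ?_)))⟩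
      obtain ⟨xm0, xm1, xm2, xw0, xw1, xw2, xa0, xa1, xa2, xz⟩ := h
      split_ands
      · exact xm0 (0 : Fin 4) (by decide)
      · exact xm1 (1 : Fin 4) (by decide)
      · exact xm1 (2 : Fin 4) (by decide)
      · exact xm2 (3 : Fin 4) (by decide)
      · exact xw0 (0 : Fin 4) (by decide)
      · exact xw1 (1 : Fin 4) (by decide)
      · exact xw1 (2 : Fin 4) (by decide)
      · exact xw2 (3 : Fin 4) (by decide)
      · rw [h2, xw0 (0 : Fin 4) (by decide)] <;> ring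
      · exact xa0 (0 : Fin 4) (1 : Fin 4) (by decide) (by decide)
      · exact xz (0 : Fin 4) (2 : Fin 4) (by decide) (by decide) (by decide) (by decide)
      · exact xz (0 : Fin 4) (3 : Fin 4) (by decide) (by decide) (by decide) (by decide)
      · rw [h2, xw1 (1 : Fin 4) (by decide)] <;> ring
      · exact xa1 (1 : Fin 4) (2 : Fin 4) (by decide) (by decide)
      · exact xz (1 : Fin 4) (3 : Fin 4) (by decide) (by decide) (by decide) (by decide)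
      · rw [h2, xw1 (2 : Fin 4) (by decide)] <;> ring
      · exact xa2 (2 : Fin 4) (3 : Fin 4) (by decide) (by decide)
      · rw [h2, xw2 (3 : Fin 4) (by decide)] <;> ring
    · omega
    · obtain ⟨σ', hp0, hp1, hp2, hp3⟩ : ∃ σ' : Equiv.Perm (Fin 4), σ' 0 = σ 1 ∧ σ' 1 = σ 2 ∧ σ' 2 = σ 3 ∧ σ' 3 = σ 0 := by
        refine ⟨(finRotate 4).trans σ, ?_, ?_, ?_, ?_⟩
        · show σ (finRotate 4 0) = σ 1
          rw [show finRotate 4 0 = (1 : Fin 4) from by decide]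
        · show σ (finRotate 4 1) = σ 2
          rw [show finRotate 4 1 = (2 : Fin 4) from by decide]
        · show σ (finRotate 4 2) = σ 3
          rw [show finRotate 4 2 = (3 : Fin 4) from by decide]
        · show σ (finRotate 4 3) = σ 0
          rw [show finRotate 4 3 = (0 : Fin 4) from by decide]
      refine ⟨σ', m, w, Or.inr (Or.inr (Or.inr (Or.inr (Or.inr (?_)))))⟩
      simp only [hp0, hp1, hp2, hp3]
      obtain ⟨xm0, xm1, xw0, xw1, xa0, xa1, xz⟩ := h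
      split_ands
      · exact xm0 (1 : Fin 4) (by decide)
      · exact xm1 (2 : Fin 4) (by decide)
      · exact xm1 (3 : Fin 4) (by decide)
      · exact xm0 (0 : Fin 4) (by decide)
      · exact xw1 (1 : Fin 4) (by decide)
      · exact xw1 (2 : Fin 4) (by decide)
      · exact xw1 (3 : Fin 4) (by decide)
      · exact xw0 (0 : Fin 4) (by decide)
      · rw [h2, xw1 (1 : Fin 4) (by decide)] <;> ring
      · exact xa0 (1 : Fin 4) (2 : Fin 4) (by decide) (by decide)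
      · exact xa1 (1 : Fin 4) (3 : Fin 4) (by decide) (by decide)
      · rw [T.symm.apply]; exact xa0 (0 : Fin 4) (1 : Fin 4) (by decide) (by decide)
      · rw [h2, xw1 (2 : Fin 4) (by decide)] <;> ring
      · exact xz (2 : Fin 4) (3 : Fin 4) (by decide) (by decide) (by decide)
      · rw [T.symm.apply]; exact xz (0 : Fin 4) (2 : Fin 4) (by decide) (by decide) (by decide)
      · rw [h2, xw1 (3 : Fin 4) (by decide)] <;> ring
      · rw [T.symm.apply]; exact xz (0 : Fin 4) (3 : Fin 4) (by decide) (by decide) (by decide)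
      · rw [h2, xw0 (0 : Fin 4) (by decide)] <;> ring
    · omega
  · exfalso
    rcases h with h | h | h | h | h <;> have := h.card <;> omega
  · obtain ⟨l, hlv, hl2, hl1⟩ := hv.cc_four
    obtain ⟨σ, hσ0, hσ3⟩ : ∃ σ : Equiv.Perm (Fin 4), σ 0 = v ∧ σ 3 = l := by
      have h0 : (Equiv.swap 0 v).symm l ≠ 0 := by
        intro h
        have := congrArg (Equiv.swap 0 v) h
        rw [Equiv.apply_symm_apply, Equiv.swap_apply_left] at this
        exact hlv this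
      refine ⟨(Equiv.swap 3 ((Equiv.swap 0 v).symm l)).trans (Equiv.swap 0 v), ?_, ?_⟩
      · show Equiv.swap 0 v (Equiv.swap 3 ((Equiv.swap 0 v).symm l) 0) = v
        rw [Equiv.swap_apply_of_ne_of_ne (by decide) (Ne.symm h0), Equiv.swap_apply_left]
      · show Equiv.swap 0 v (Equiv.swap 3 ((Equiv.swap 0 v).symm l) 3) = l
        rw [Equiv.swap_apply_left, Equiv.apply_symm_apply]
    have hinj := σ.injective
    have n1 : σ 1 ≠ v := fun h => absurd (hinj (h.trans hσ0.symm)) (by decide)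
    have n2 : σ 2 ≠ v := fun h => absurd (hinj (h.trans hσ0.symm)) (by decide)
    have n3 : σ 3 ≠ v := fun h => absurd (hinj (h.trans hσ0.symm)) (by decide)
    have l1 : σ 1 ≠ l := fun h => absurd (hinj (h.trans hσ3.symm)) (by decide)
    have l2 : σ 2 ≠ l := fun h => absurd (hinj (h.trans hσ3.symm)) (by decide)
    have ne12 : σ 1 ≠ σ 2 := fun h => absurd (hinj h) (by decide)
    have ne13 : σ 1 ≠ σ 3 := fun h => absurd (hinj h) (by decide)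
    have ne23 : σ 2 ≠ σ 3 := fun h => absurd (hinj h) (by decide)
    have hm1 := hv.m_eq h2 _ n1
    have hm2 := hv.m_eq h2 _ n2
    have hm3 := hv.m_eq h2 _ n3
    have hc1 := hl1 _ n1 l1
    have hc2 := hl1 _ n2 l2
    have hc3 : cc T v (σ 3) = 2 := by rw [hσ3]; exact hl2
    refine ⟨σ, T.m (σ 1), T.w v, Or.inr (Or.inr (Or.inr (Or.inr (Or.inl ?_))))⟩
    split_ands
    · rw [hσ0]; exact hm1
    · rfl
    · linarith
    · linarith
    · rw [hσ0]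
    · rw [hv.w_eq _ n1, hc1] <;> ring
    · rw [hv.w_eq _ n2, hc2] <;> ring
    · rw [hv.w_eq _ n3, hc3] <;> ring
    · rw [hσ0, h2]
    · rw [hσ0, hv.a_eq _ n1, hc1] <;> ring
    · rw [hσ0, hv.a_eq _ n2, hc2] <;> ring
    · rw [hσ0, hv.a_eq _ n3, hc3] <;> ring
    · rw [h2, hv.w_eq _ n1, hc1] <;> ring
    · exact hv.a_zero _ _ n1 n2 ne12
    · exact hv.a_zero _ _ n1 n3 ne13
    · rw [h2, hv.w_eq _ n2, hc2] <;> ring
    · exact hv.a_zero _ _ n2 n3 ne23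
    · rw [h2, hv.w_eq _ n3, hc3] <;> ring

end Groth.Agent.S7364
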