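import Groth.Statements.S7365
import Mathlib
import Groth.Agent.Lib.Helper26.NTC19

set_option autoImplicit false
open Finset
open Models Models.NumericalType

namespace Groth.Agent.S7365

open Groth.Agent.Lib.Helper26.NTC

/-- Genus one classification: case n = 5: let T be a minimal numerical type of genus 1 on 5 indices.
Then all g_i = 0 and, for some permutation σ of the indices and some integers m, w, the
multiplicities, weights and intersection matrix (m_{σ(i)}, w_{σ(i)}, a_{σ(i)σ(j)}) are those of one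
of the following 9 types: [five cycle] m = (m, m, m, m, m), w = (w, w, w, w, w), a = (-2 * w w 0 0 w
/ w -2 * w w 0 0 / 0 w -2 * w w 0 / 0 0 w -2 * w w / w 0 0 w -2 * w); [equal equal up equal] m = (m,
2 * m, 3 * m, 2 * m, m), w = (w, w, w, 2 * w, 2 * w), a = (-2 * w w 0 0 0 / w -2 * w w 0 0 / 0 w -2
* w 2 * w 0 / 0 0 2 * w -4 * w 2 * w / 0 0 0 2 * w -4 * w); [equal equal down equal] m = (m, 2 * m,
3 * m, 4 * m, 2 * m), w = (2 * w, 2 * w, 2 * w, w, w), a = (-4 * w 2 * w 0 0 0 / 2 * w -4 * w 2 * w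
0 0 / 0 2 * w -4 * w 2 * w 0 / 0 0 2 * w -2 * w w / 0 0 0 w -2 * w); [up equal equal up] m = (2 * m,
2 * m, 2 * m, 2 * m, m), w = (w, 2 * w, 2 * w, 2 * w, 4 * w), a = (-2 * w 2 * w 0 0 0 / 2 * w -4 * w
2 * w 0 0 / 0 2 * w -4 * w 2 * w 0 / 0 0 2 * w -4 * w 4 * w / 0 0 0 4 * w -8 * w); [up equal equal
down] m = (m, m, m, m, m), w = (w, 2 * w, 2 * w, 2 * w, w), a = (-2 * w 2 * w 0 0 0 / 2 * w -4 * w 2
* w 0 0 / 0 2 * w -4 * w 2 * w 0 / 0 0 2 * w -4 * w 2 * w / 0 0 0 2 * w -2 * w); [down equal equal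
up] m = (m, 2 * m, 2 * m, 2 * m, m), w = (2 * w, w, w, w, 2 * w), a = (-4 * w 2 * w 0 0 0 / 2 * w -2
* w w 0 0 / 0 w -2 * w w 0 / 0 0 w -2 * w 2 * w / 0 0 0 2 * w -4 * w); [quadruple] m = (2 * m, m, m,
m, m), w = (w, w, w, w, w), a = (-2 * w w w w w / w -2 * w 0 0 0 / w 0 -2 * w 0 0 / w 0 0 -2 * w 0 /
w 0 0 0 -2 * w); [triple extended up] m = (m, 2 * m, 2 * m, m, m), w = (2 * w, w, w, w, w), a = (-4
* w 2 * w 0 0 0 / 2 * w -2 * w w 0 0 / 0 w -2 * w w w / 0 0 w -2 * w 0 / 0 0 w 0 -2 * w); [triple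
extended down] m = (2 * m, 2 * m, 2 * m, m, m), w = (w, 2 * w, 2 * w, 2 * w, 2 * w), a = (-2 * w 2 *
w 0 0 0 / 2 * w -4 * w 2 * w 0 0 / 0 2 * w -4 * w 2 * w 2 * w / 0 0 2 * w -4 * w 0 / 0 0 2 * w 0 -4
* w). Only the classification direction is stated. -/
theorem result (T : Models.NumericalType 5) (hmin : T.IsMinimal) (hg : T.genus = 1) :
    (∀ i, T.g i = 0) ∧ ∃ (σ : Equiv.Perm (Fin 5)) (m w : ℤ),
      ((T.m (σ 0) = m ∧ T.m (σ 1) = m ∧ T.m (σ 2) = m ∧ T.m (σ 3) = m ∧ T.m (σ 4) = m ∧ T.w (σ 0) = w ∧ T.w (σ 1) = w ∧ T.w (σ 2) = w ∧ T.w (σ 3) = w ∧ T.w (σ 4) = w ∧ T.a (σ 0) (σ 0) = -2 * w ∧ T.a (σ 0) (σ 1) = w ∧ T.a (σ 0) (σ 2) = 0 ∧ T.a (σ 0) (σ 3) = 0 ∧ T.a (σ 0) (σ 4) = w ∧ T.a (σ 1) (σ 1) = -2 * w ∧ T.a (σ 1) (σ 2) = w ∧ T.a (σ 1) (σ 3) = 0 ∧ T.a (σ 1) (σ 4) = 0 ∧ T.a (σ 2) (σ 2) = -2 * w ∧ T.a (σ 2) (σ 3) = w ∧ T.a (σ 2) (σ 4) = 0 ∧ T.a (σ 3) (σ 3)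 = -2 * w ∧ T.a (σ 3) (σ 4) = w ∧ T.a (σ 4) (σ 4) = -2 * w) ∨
      (T.m (σ 0) = m ∧ T.m (σ 1) = 2 * m ∧ T.m (σ 2) = 3 * m ∧ T.m (σ 3) = 2 * m ∧ T.m (σ 4) = m ∧ T.w (σ 0) = w ∧ T.w (σ 1) = w ∧ T.w (σ 2) = w ∧ T.w (σ 3) = 2 * w ∧ T.w (σ 4) = 2 * w ∧ T.a (σ 0) (σ 0) = -2 * w ∧ T.a (σ 0) (σ 1) = w ∧ T.a (σ 0) (σ 2) = 0 ∧ T.a (σ 0) (σ 3) = 0 ∧ T.a (σ 0) (σ 4) = 0 ∧ T.a (σ 1) (σ 1) = -2 * w ∧ T.a (σ 1) (σ 2) = w ∧ T.a (σ 1) (σ 3) = 0 ∧ T.a (σ 1) (σ 4) = 0 ∧ T.a (σ 2) (σ 2) = -2 * w ∧ T.a (σ 2) (σ 3) = 2 * w ∧ T.a (σ 2) (σ 4) = 0 ∧ T.a (σ 3) (σ 3) = -4 * w ∧ T.a (σ 3) (σ 4) = 2 * w ∧ T.a (σ 4) (σ 4) = -4 * w) ∨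
      (T.m (σ 0) = m ∧ T.m (σ 1) = 2 * m ∧ T.m (σ 2) = 3 * m ∧ T.m (σ 3) = 4 * m ∧ T.m (σ 4) = 2 * m ∧ T.w (σ 0) = 2 * w ∧ T.w (σ 1) = 2 * w ∧ T.w (σ 2) = 2 * w ∧ T.w (σ 3) = w ∧ T.w (σ 4) = w ∧ T.a (σ 0) (σ 0) = -4 * w ∧ T.a (σ 0) (σ 1) = 2 * w ∧ T.a (σ 0) (σ 2) = 0 ∧ T.a (σ 0) (σ 3) = 0 ∧ T.a (σ 0) (σ 4) = 0 ∧ T.a (σ 1) (σ 1) = -4 * w ∧ T.a (σ 1) (σ 2) = 2 * w ∧ T.a (σ 1) (σ 3) = 0 ∧ T.a (σ 1) (σ 4) = 0 ∧ T.a (σ 2) (σ 2) = -4 * w ∧ T.a (σ 2) (σ 3) = 2 * w ∧ T.a (σ 2) (σ 4) = 0 ∧ T.a (σ 3) (σ 3) = -2 * w ∧ T.a (σ 3) (σ 4) = w ∧ T.a (σ 4) (σ 4) = -2 * w) ∨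
      (T.m (σ 0) = 2 * m ∧ T.m (σ 1) = 2 * m ∧ T.m (σ 2) = 2 * m ∧ T.m (σ 3) = 2 * m ∧ T.m (σ 4) = m ∧ T.w (σ 0) = w ∧ T.w (σ 1) = 2 * w ∧ T.w (σ 2) = 2 * w ∧ T.w (σ 3) = 2 * w ∧ T.w (σ 4) = 4 * w ∧ T.a (σ 0) (σ 0) = -2 * w ∧ T.a (σ 0) (σ 1) = 2 * w ∧ T.a (σ 0) (σ 2) = 0 ∧ T.a (σ 0) (σ 3) = 0 ∧ T.a (σ 0) (σ 4) = 0 ∧ T.a (σ 1) (σ 1) = -4 * w ∧ T.a (σ 1) (σ 2) = 2 * w ∧ T.a (σ 1) (σ 3) = 0 ∧ T.a (σ 1) (σ 4) = 0 ∧ T.a (σ 2) (σ 2) = -4 * w ∧ T.a (σ 2) (σ 3) = 2 * w ∧ T.a (σ 2) (σ 4) = 0 ∧ T.a (σ 3) (σ 3) = -4 * w ∧ T.a (σ 3) (σ 4) = 4 * w ∧ T.a (σ 4) (σ 4) = -8 * w) ∨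
      (T.m (σ 0) = m ∧ T.m (σ 1) = m ∧ T.m (σ 2) = m ∧ T.m (σ 3) = m ∧ T.m (σ 4) = m ∧ T.w (σ 0) = w ∧ T.w (σ 1) = 2 * w ∧ T.w (σ 2) = 2 * w ∧ T.w (σ 3) = 2 * w ∧ T.w (σ 4) = w ∧ T.a (σ 0) (σ 0) = -2 * w ∧ T.a (σ 0) (σ 1) = 2 * w ∧ T.a (σ 0) (σ 2) = 0 ∧ T.a (σ 0) (σ 3) = 0 ∧ T.a (σ 0) (σ 4) = 0 ∧ T.a (σ 1) (σ 1) = -4 * w ∧ T.a (σ 1) (σ 2) = 2 * w ∧ T.a (σ 1) (σ 3) = 0 ∧ T.a (σ 1) (σ 4) = 0 ∧ T.a (σ 2) (σ 2) = -4 * w ∧ T.a (σ 2) (σ 3) = 2 * w ∧ T.a (σ 2) (σ 4) = 0 ∧ T.a (σ 3) (σ 3) = -4 * w ∧ T.a (σ 3) (σ 4) = 2 * w ∧ T.a (σ 4) (σ 4) = -2 * w) ∨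
      (T.m (σ 0) = m ∧ T.m (σ 1) = 2 * m ∧ T.m (σ 2) = 2 * m ∧ T.m (σ 3) = 2 * m ∧ T.m (σ 4) = m ∧ T.w (σ 0) = 2 * w ∧ T.w (σ 1) = w ∧ T.w (σ 2) = w ∧ T.w (σ 3) = w ∧ T.w (σ 4) = 2 * w ∧ T.a (σ 0) (σ 0) = -4 * w ∧ T.a (σ 0) (σ 1) = 2 * w ∧ T.a (σ 0) (σ 2) = 0 ∧ T.a (σ 0) (σ 3) = 0 ∧ T.a (σ 0) (σ 4) = 0 ∧ T.a (σ 1) (σ 1) = -2 * w ∧ T.a (σ 1) (σ 2) = w ∧ T.a (σ 1) (σ 3) = 0 ∧ T.a (σ 1) (σ 4) = 0 ∧ T.a (σ 2) (σ 2) = -2 * w ∧ T.a (σ 2) (σ 3) = w ∧ T.a (σ 2) (σ 4) = 0 ∧ T.a (σ 3) (σ 3) = -2 * w ∧ T.a (σ 3) (σ 4) = 2 * w ∧ T.a (σ 4) (σ 4) = -4 * w) ∨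
      (T.m (σ 0) = 2 * m ∧ T.m (σ 1) = m ∧ T.m (σ 2) = m ∧ T.m (σ 3) = m ∧ T.m (σ 4) = m ∧ T.w (σ 0) = w ∧ T.w (σ 1) = w ∧ T.w (σ 2) = w ∧ T.w (σ 3) = w ∧ T.w (σ 4) = w ∧ T.a (σ 0) (σ 0) = -2 * w ∧ T.a (σ 0) (σ 1) = w ∧ T.a (σ 0) (σ 2) = w ∧ T.a (σ 0) (σ 3) = w ∧ T.a (σ 0) (σ 4) = w ∧ T.a (σ 1) (σ 1) = -2 * w ∧ T.a (σ 1) (σ 2) = 0 ∧ T.a (σ 1) (σ 3) = 0 ∧ T.a (σ 1) (σ 4) = 0 ∧ T.a (σ 2) (σ 2) = -2 * w ∧ T.a (σ 2) (σ 3) = 0 ∧ T.a (σ 2) (σ 4) = 0 ∧ T.a (σ 3) (σ 3) = -2 * w ∧ T.a (σ 3) (σ 4) = 0 ∧ T.a (σ 4) (σ 4) = -2 * w) ∨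
      (T.m (σ 0) = m ∧ T.m (σ 1) = 2 * m ∧ T.m (σ 2) = 2 * m ∧ T.m (σ 3) = m ∧ T.m (σ 4) = m ∧ T.w (σ 0) = 2 * w ∧ T.w (σ 1) = w ∧ T.w (σ 2) = w ∧ T.w (σ 3) = w ∧ T.w (σ 4) = w ∧ T.a (σ 0) (σ 0) = -4 * w ∧ T.a (σ 0) (σ 1) = 2 * w ∧ T.a (σ 0) (σ 2) = 0 ∧ T.a (σ 0) (σ 3) = 0 ∧ T.a (σ 0) (σ 4) = 0 ∧ T.a (σ 1) (σ 1) = -2 * w ∧ T.a (σ 1) (σ 2) = w ∧ T.a (σ 1) (σ 3) = 0 ∧ T.a (σ 1) (σ 4) = 0 ∧ T.a (σ 2) (σ 2) = -2 * w ∧ T.a (σ 2) (σ 3) = w ∧ T.a (σ 2) (σ 4) = w ∧ T.a (σ 3) (σ 3) = -2 * w ∧ T.a (σ 3) (σ 4) = 0 ∧ T.a (σ 4) (σ 4) = -2 * w) ∨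
      (T.m (σ 0) = 2 * m ∧ T.m (σ 1) = 2 * m ∧ T.m (σ 2) = 2 * m ∧ T.m (σ 3) = m ∧ T.m (σ 4) = m ∧ T.w (σ 0) = w ∧ T.w (σ 1) = 2 * w ∧ T.w (σ 2) = 2 * w ∧ T.w (σ 3) = 2 * w ∧ T.w (σ 4) = 2 * w ∧ T.a (σ 0) (σ 0) = -2 * w ∧ T.a (σ 0) (σ 1) = 2 * w ∧ T.a (σ 0) (σ 2) = 0 ∧ T.a (σ 0) (σ 3) = 0 ∧ T.a (σ 0) (σ 4) = 0 ∧ T.a (σ 1) (σ 1) = -4 * w ∧ T.a (σ 1) (σ 2) = 2 * w ∧ T.a (σ 1) (σ 3) = 0 ∧ T.a (σ 1) (σ 4) = 0 ∧ T.a (σ 2) (σ 2) = -4 * w ∧ T.a (σ 2) (σ 3) = 2 * w ∧ T.a (σ 2) (σ 4) = 2 * w ∧ T.a (σ 3) (σ 3) = -4 * w ∧ T.a (σ 3) (σ 4) = 0 ∧ T.a (σ 4) (σ 4) = -4 * w)) := by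
  obtain ⟨hg0, h2, hcl⟩ := classify (T := T) (by omega) hmin hg
  refine ⟨hg0, ?_⟩
  rcases hcl with h | h | ⟨v, hv⟩
  · obtain ⟨σ, m, w, h⟩ := h
    refine ⟨σ, m, w, ?_⟩
    rcases h with h | h | h | h | ⟨h, -⟩ | h | ⟨-, h6⟩
    · refine Or.inl ?_
      obtain ⟨xm0, xw0, xa0, xa1, xz⟩ := h
      split_ands
      · exact xm0 (0 : Fin 5)
      · exact xm0 (1 : Fin 5)
      · exact xm0 (2 : Fin 5)
      · exact xm0 (3 : Fin 5)
      · exact xm0 (4 : Fin 5)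
      · exact xw0 (0 : Fin 5)
      · exact xw0 (1 : Fin 5)
      · exact xw0 (2 : Fin 5)
      · exact xw0 (3 : Fin 5)
      · exact xw0 (4 : Fin 5)
      · rw [h2, xw0 (0 : Fin 5)] <;> ring
      · exact xa0 (0 : Fin 5) (1 : Fin 5) (by decide) (by decide)
      · exact xz (0 : Fin 5) (2 : Fin 5) (by decide) (by decide) (by decide)
      · exact xz (0 : Fin 5) (3 : Fin 5) (by decide) (by decide) (by decide)
      · exact xa1 (0 : Fin 5) (4 : Fin 5) (by decide) (by decide)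
      · rw [h2, xw0 (1 : Fin 5)] <;> ring
      · exact xa0 (1 : Fin 5) (2 : Fin 5) (by decide) (by decide)
      · exact xz (1 : Fin 5) (3 : Fin 5) (by decide) (by decide) (by decide)
      · exact xz (1 : Fin 5) (4 : Fin 5) (by decide) (by decide) (by decide)
      · rw [h2, xw0 (2 : Fin 5)] <;> ring
      · exact xa0 (2 : Fin 5) (3 : Fin 5) (by decide) (by decide)
      · exact xz (2 : Fin 5) (4 : Fin 5) (by decide) (by decide) (by decide)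
      · rw [h2, xw0 (3 : Fin 5)] <;> ring
      · exact xa0 (3 : Fin 5) (4 : Fin 5) (by decide) (by decide)
      · rw [h2, xw0 (4 : Fin 5)] <;> ring
    · refine Or.inr (Or.inr (Or.inr (Or.inl ?_)))
      obtain ⟨xm0, xm1, xw0, xw1, xw2, xa0, xa1, xz⟩ := h
      split_ands
      · exact xm0 (0 : Fin 5) (by decide)
      · exact xm0 (1 : Fin 5) (by decide)
      · exact xm0 (2 : Fin 5) (by decide)
      · exact xm0 (3 : Fin 5) (by decide)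
      · exact xm1 (4 : Fin 5) (by decide)
      · exact xw0 (0 : Fin 5) (by decide)
      · exact xw1 (1 : Fin 5) (by decide)
      · exact xw1 (2 : Fin 5) (by decide)
      · exact xw1 (3 : Fin 5) (by decide)
      · exact xw2 (4 : Fin 5) (by decide)
      · rw [h2, xw0 (0 : Fin 5) (by decide)] <;> ring
      · exact xa0 (0 : Fin 5) (1 : Fin 5) (by decide) (by decide)
      · exact xz (0 : Fin 5) (2 : Fin 5) (by decide) (by decide) (by decide)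
      · exact xz (0 : Fin 5) (3 : Fin 5) (by decide) (by decide) (by decide)
      · exact xz (0 : Fin 5) (4 : Fin 5) (by decide) (by decide) (by decide)
      · rw [h2, xw1 (1 : Fin 5) (by decide)] <;> ring
      · exact xa0 (1 : Fin 5) (2 : Fin 5) (by decide) (by decide)
      · exact xz (1 : Fin 5) (3 : Fin 5) (by decide) (by decide) (by decide)
      · exact xz (1 : Fin 5) (4 : Fin 5) (by decide) (by decide) (by decide)
      · rw [h2, xw1 (2 : Fin 5) (by decide)] <;> ring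
      · exact xa0 (2 : Fin 5) (3 : Fin 5) (by decide) (by decide)
      · exact xz (2 : Fin 5) (4 : Fin 5) (by decide) (by decide) (by decide)
      · rw [h2, xw1 (3 : Fin 5) (by decide)] <;> ring
      · exact xa1 (3 : Fin 5) (4 : Fin 5) (by decide) (by decide)
      · rw [h2, xw2 (4 : Fin 5) (by decide)] <;> ring
    · refine Or.inr (Or.inr (Or.inr (Or.inr (Or.inl ?_))))
      obtain ⟨xm0, xw0, xw1, xw2, xa0, xz⟩ := h
      split_ands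
      · exact xm0 (0 : Fin 5)
      · exact xm0 (1 : Fin 5)
      · exact xm0 (2 : Fin 5)
      · exact xm0 (3 : Fin 5)
      · exact xm0 (4 : Fin 5)
      · exact xw0 (0 : Fin 5) (by decide)
      · exact xw1 (1 : Fin 5) (by decide)
      · exact xw1 (2 : Fin 5) (by decide)
      · exact xw1 (3 : Fin 5) (by decide)
      · exact xw2 (4 : Fin 5) (by decide)
      · rw [h2, xw0 (0 : Fin 5) (by decide)] <;> ring
      · exact xa0 (0 : Fin 5) (1 : Fin 5) (by decide) (by decide)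
      · exact xz (0 : Fin 5) (2 : Fin 5) (by decide) (by decide)
      · exact xz (0 : Fin 5) (3 : Fin 5) (by decide) (by decide)
      · exact xz (0 : Fin 5) (4 : Fin 5) (by decide) (by decide)
      · rw [h2, xw1 (1 : Fin 5) (by decide)] <;> ring
      · exact xa0 (1 : Fin 5) (2 : Fin 5) (by decide) (by decide)
      · exact xz (1 : Fin 5) (3 : Fin 5) (by decide) (by decide)
      · exact xz (1 : Fin 5) (4 : Fin 5) (by decide) (by decide)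
      · rw [h2, xw1 (2 : Fin 5) (by decide)] <;> ring
      · exact xa0 (2 : Fin 5) (3 : Fin 5) (by decide) (by decide)
      · exact xz (2 : Fin 5) (4 : Fin 5) (by decide) (by decide)
      · rw [h2, xw1 (3 : Fin 5) (by decide)] <;> ring
      · exact xa0 (3 : Fin 5) (4 : Fin 5) (by decide) (by decide)
      · rw [h2, xw2 (4 : Fin 5) (by decide)] <;> ring
    · refine Or.inr (Or.inr (Or.inr (Or.inr (Or.inr (Or.inl ?_)))))
      obtain ⟨xm0, xm1, xm2, xw0, xw1, xw2, xa0, xa1, xa2, xz⟩ := h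
      split_ands
      · exact xm0 (0 : Fin 5) (by decide)
      · exact xm1 (1 : Fin 5) (by decide)
      · exact xm1 (2 : Fin 5) (by decide)
      · exact xm1 (3 : Fin 5) (by decide)
      · exact xm2 (4 : Fin 5) (by decide)
      · exact xw0 (0 : Fin 5) (by decide)
      · exact xw1 (1 : Fin 5) (by decide)
      · exact xw1 (2 : Fin 5) (by decide)
      · exact xw1 (3 : Fin 5) (by decide)
      · exact xw2 (4 : Fin 5) (by decide)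
      · rw [h2, xw0 (0 : Fin 5) (by decide)] <;> ring
      · exact xa0 (0 : Fin 5) (1 : Fin 5) (by decide) (by decide)
      · exact xz (0 : Fin 5) (2 : Fin 5) (by decide) (by decide) (by decide) (by decide)
      · exact xz (0 : Fin 5) (3 : Fin 5) (by decide) (by decide) (by decide) (by decide)
      · exact xz (0 : Fin 5) (4 : Fin 5) (by decide) (by decide) (by decide) (by decide)
      · rw [h2, xw1 (1 : Fin 5) (by decide)] <;> ring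
      · exact xa1 (1 : Fin 5) (2 : Fin 5) (by decide) (by decide)
      · exact xz (1 : Fin 5) (3 : Fin 5) (by decide) (by decide) (by decide) (by decide)
      · exact xz (1 : Fin 5) (4 : Fin 5) (by decide) (by decide) (by decide) (by decide)
      · rw [h2, xw1 (2 : Fin 5) (by decide)] <;> ring
      · exact xa1 (2 : Fin 5) (3 : Fin 5) (by decide) (by decide)
      · exact xz (2 : Fin 5) (4 : Fin 5) (by decide) (by decide) (by decide) (by decide)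
      · rw [h2, xw1 (3 : Fin 5) (by decide)] <;> ring
      · exact xa2 (3 : Fin 5) (4 : Fin 5) (by decide) (by decide)
      · rw [h2, xw2 (4 : Fin 5) (by decide)] <;> ring
    · refine Or.inr (Or.inr (Or.inr (Or.inr (Or.inr (Or.inr (Or.inr (Or.inl ?_)))))))
      obtain ⟨xm0, xm1, xm2, xw0, xw1, xa0, xa1, xa2, xz⟩ := h
      split_ands
      · exact xm0 (0 : Fin 5) (by decide)
      · exact xm1 (1 : Fin 5) (by decide)
      · exact xm1 (2 : Fin 5) (by decide)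
      · exact xm2 (3 : Fin 5) (by decide)
      · exact xm2 (4 : Fin 5) (by decide)
      · exact xw0 (0 : Fin 5) (by decide)
      · exact xw1 (1 : Fin 5) (by decide)
      · exact xw1 (2 : Fin 5) (by decide)
      · exact xw1 (3 : Fin 5) (by decide)
      · exact xw1 (4 : Fin 5) (by decide)
      · rw [h2, xw0 (0 : Fin 5) (by decide)] <;> ring
      · exact xa0 (0 : Fin 5) (1 : Fin 5) (by decide) (by decide)
      · exact xz (0 : Fin 5) (2 : Fin 5) (by decide) (by decide) (by decide) (by decide)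
      · exact xz (0 : Fin 5) (3 : Fin 5) (by decide) (by decide) (by decide) (by decide)
      · exact xz (0 : Fin 5) (4 : Fin 5) (by decide) (by decide) (by decide) (by decide)
      · rw [h2, xw1 (1 : Fin 5) (by decide)] <;> ring
      · exact xa1 (1 : Fin 5) (2 : Fin 5) (by decide) (by decide)
      · exact xz (1 : Fin 5) (3 : Fin 5) (by decide) (by decide) (by decide) (by decide)
      · exact xz (1 : Fin 5) (4 : Fin 5) (by decide) (by decide) (by decide) (by decide)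
      · rw [h2, xw1 (2 : Fin 5) (by decide)] <;> ring
      · exact xa1 (2 : Fin 5) (3 : Fin 5) (by decide) (by decide)
      · exact xa2 (2 : Fin 5) (4 : Fin 5) (by decide) (by decide)
      · rw [h2, xw1 (3 : Fin 5) (by decide)] <;> ring
      · exact xz (3 : Fin 5) (4 : Fin 5) (by decide) (by decide) (by decide) (by decide)
      · rw [h2, xw1 (4 : Fin 5) (by decide)] <;> ring
    · refine Or.inr (Or.inr (Or.inr (Or.inr (Or.inr (Or.inr (Or.inr (Or.inr (?_))))))))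
      obtain ⟨xm0, xm1, xw0, xw1, xa0, xa1, xz⟩ := h
      split_ands
      · exact xm0 (0 : Fin 5) (by decide)
      · exact xm0 (1 : Fin 5) (by decide)
      · exact xm0 (2 : Fin 5) (by decide)
      · exact xm1 (3 : Fin 5) (by decide)
      · exact xm1 (4 : Fin 5) (by decide)
      · exact xw0 (0 : Fin 5) (by decide)
      · exact xw1 (1 : Fin 5) (by decide)
      · exact xw1 (2 : Fin 5) (by decide)
      · exact xw1 (3 : Fin 5) (by decide)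
      · exact xw1 (4 : Fin 5) (by decide)
      · rw [h2, xw0 (0 : Fin 5) (by decide)] <;> ring
      · exact xa0 (0 : Fin 5) (1 : Fin 5) (by decide) (by decide)
      · exact xz (0 : Fin 5) (2 : Fin 5) (by decide) (by decide) (by decide)
      · exact xz (0 : Fin 5) (3 : Fin 5) (by decide) (by decide) (by decide)
      · exact xz (0 : Fin 5) (4 : Fin 5) (by decide) (by decide) (by decide)
      · rw [h2, xw1 (1 : Fin 5) (by decide)] <;> ring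
      · exact xa0 (1 : Fin 5) (2 : Fin 5) (by decide) (by decide)
      · exact xz (1 : Fin 5) (3 : Fin 5) (by decide) (by decide) (by decide)
      · exact xz (1 : Fin 5) (4 : Fin 5) (by decide) (by decide) (by decide)
      · rw [h2, xw1 (2 : Fin 5) (by decide)] <;> ring
      · exact xa0 (2 : Fin 5) (3 : Fin 5) (by decide) (by decide)
      · exact xa1 (2 : Fin 5) (4 : Fin 5) (by decide) (by decide)
      · rw [h2, xw1 (3 : Fin 5) (by decide)] <;> ring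
      · exact xz (3 : Fin 5) (4 : Fin 5) (by decide) (by decide) (by decide)
      · rw [h2, xw1 (4 : Fin 5) (by decide)] <;> ring
    · omega
  · rcases h with h | h | h | h | h
    · obtain ⟨e, m, w, he, hm, hw, hd, hA⟩ := h
      obtain ⟨σ, hσ⟩ : ∃ σ : Equiv.Perm (Fin 5), ∀ i, σ i = e i := ⟨Equiv.ofBijective e he, fun _ => rfl⟩
      refine ⟨σ, m, w, Or.inr (Or.inr (Or.inl ?_))⟩
      split_ands
      · rw [hσ, hm]; simp [dF4a]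
      · rw [hσ, hm]; simp [dF4a]
      · rw [hσ, hm]; simp [dF4a]
      · rw [hσ, hm]; simp [dF4a]
      · rw [hσ, hm]; simp [dF4a]
      · rw [hσ, hw]; simp [wF4a]
      · rw [hσ, hw]; simp [wF4a]
      · rw [hσ, hw]; simp [wF4a]
      · rw [hσ, hw]; simp [wF4a]
      · rw [hσ, hw]; simp [wF4a]
      · rw [hσ, hd]; simp [wF4a] <;> ring
      · simp only [hσ]; rw [hA _ _ (by decide)]; simp [wF4a, CF4a]
      · simp only [hσ]; rw [hA _ _ (by decide)]; simp [wF4a, CF4a]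
      · simp only [hσ]; rw [hA _ _ (by decide)]; simp [wF4a, CF4a]
      · simp only [hσ]; rw [hA _ _ (by decide)]; simp [wF4a, CF4a]
      · rw [hσ, hd]; simp [wF4a] <;> ring
      · simp only [hσ]; rw [hA _ _ (by decide)]; simp [wF4a, CF4a]
      · simp only [hσ]; rw [hA _ _ (by decide)]; simp [wF4a, CF4a]
      · simp only [hσ]; rw [hA _ _ (by decide)]; simp [wF4a, CF4a]
      · rw [hσ, hd]; simp [wF4a] <;> ring
      · simp only [hσ]; rw [hA _ _ (by decide)]; simp [wF4a, CF4a]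
      · simp only [hσ]; rw [hA _ _ (by decide)]; simp [wF4a, CF4a]
      · rw [hσ, hd]; simp [wF4a] <;> ring
      · simp only [hσ]; rw [hA _ _ (by decide)]; simp [wF4a, CF4a]
      · rw [hσ, hd]; simp [wF4a] <;> ring
    · obtain ⟨e, m, w, he, hm, hw, hd, hA⟩ := h
      obtain ⟨σ, hσ⟩ : ∃ σ : Equiv.Perm (Fin 5), ∀ i, σ i = e i := ⟨Equiv.ofBijective e he, fun _ => rfl⟩
      refine ⟨σ, m, w, Or.inr (Or.inl ?_)⟩
      split_ands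
      · rw [hσ, hm]; simp [dF4b]
      · rw [hσ, hm]; simp [dF4b]
      · rw [hσ, hm]; simp [dF4b]
      · rw [hσ, hm]; simp [dF4b]
      · rw [hσ, hm]; simp [dF4b]
      · rw [hσ, hw]; simp [wF4b]
      · rw [hσ, hw]; simp [wF4b]
      · rw [hσ, hw]; simp [wF4b]
      · rw [hσ, hw]; simp [wF4b]
      · rw [hσ, hw]; simp [wF4b]
      · rw [hσ, hd]; simp [wF4b] <;> ring
      · simp only [hσ]; rw [hA _ _ (by decide)]; simp [wF4b, CF4b]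
      · simp only [hσ]; rw [hA _ _ (by decide)]; simp [wF4b, CF4b]
      · simp only [hσ]; rw [hA _ _ (by decide)]; simp [wF4b, CF4b]
      · simp only [hσ]; rw [hA _ _ (by decide)]; simp [wF4b, CF4b]
      · rw [hσ, hd]; simp [wF4b] <;> ring
      · simp only [hσ]; rw [hA _ _ (by decide)]; simp [wF4b, CF4b]
      · simp only [hσ]; rw [hA _ _ (by decide)]; simp [wF4b, CF4b]
      · simp only [hσ]; rw [hA _ _ (by decide)]; simp [wF4b, CF4b]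
      · rw [hσ, hd]; simp [wF4b] <;> ring
      · simp only [hσ]; rw [hA _ _ (by decide)]; simp [wF4b, CF4b]
      · simp only [hσ]; rw [hA _ _ (by decide)]; simp [wF4b, CF4b]
      · rw [hσ, hd]; simp [wF4b] <;> ring
      · simp only [hσ]; rw [hA _ _ (by decide)]; simp [wF4b, CF4b]
      · rw [hσ, hd]; simp [wF4b] <;> ring
    · exfalso; have := h.card; omega
    · exfalso; have := h.card; omega
    · exfalso; have := h.card; omega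
  · have hc := fun u hu => hv.cc_five u hu
    obtain ⟨σ, hσ0, hσne⟩ : ∃ σ : Equiv.Perm (Fin 5), σ 0 = v ∧ ∀ i, i ≠ 0 → σ i ≠ v := by
      refine ⟨Equiv.swap 0 v, Equiv.swap_apply_left 0 v, fun i hi h => hi ?_⟩
      have : Equiv.swap 0 v i = Equiv.swap 0 v 0 := by rw [h, Equiv.swap_apply_left]
      exact (Equiv.swap 0 v).injective this
    have hinj := σ.injective
    have n1 := hσne 1 (by decide)
    have n2 := hσne 2 (by decide)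
    have n3 := hσne 3 (by decide)
    have n4 := hσne 4 (by decide)
    have ne12 : σ 1 ≠ σ 2 := fun h => absurd (hinj h) (by decide)
    have ne13 : σ 1 ≠ σ 3 := fun h => absurd (hinj h) (by decide)
    have ne14 : σ 1 ≠ σ 4 := fun h => absurd (hinj h) (by decide)
    have ne23 : σ 2 ≠ σ 3 := fun h => absurd (hinj h) (by decide)
    have ne24 : σ 2 ≠ σ 4 := fun h => absurd (hinj h) (by decide)
    have ne34 : σ 3 ≠ σ 4 := fun h => absurd (hinj h) (by decide)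
    have hm1 := hv.m_eq h2 _ n1
    have hm2 := hv.m_eq h2 _ n2
    have hm3 := hv.m_eq h2 _ n3
    have hm4 := hv.m_eq h2 _ n4
    refine ⟨σ, T.m (σ 1), T.w v, Or.inr (Or.inr (Or.inr (Or.inr (Or.inr (Or.inr (Or.inl ?_))))))⟩
    split_ands
    · rw [hσ0]; exact hm1
    · rfl
    · linarith
    · linarith
    · linarith
    · rw [hσ0]
    · rw [hv.w_eq _ n1, hc _ n1, one_mul]
    · rw [hv.w_eq _ n2, hc _ n2, one_mul]
    · rw [hv.w_eq _ n3, hc _ n3, one_mul]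
    · rw [hv.w_eq _ n4, hc _ n4, one_mul]
    · rw [hσ0, h2]
    · rw [hσ0, hv.a_eq _ n1, hc _ n1, one_mul]
    · rw [hσ0, hv.a_eq _ n2, hc _ n2, one_mul]
    · rw [hσ0, hv.a_eq _ n3, hc _ n3, one_mul]
    · rw [hσ0, hv.a_eq _ n4, hc _ n4, one_mul]
    · rw [h2, hv.w_eq _ n1, hc _ n1, one_mul]
    · exact hv.a_zero _ _ n1 n2 ne12
    · exact hv.a_zero _ _ n1 n3 ne13
    · exact hv.a_zero _ _ n1 n4 ne14
    · rw [h2, hv.w_eq _ n2, hc _ n2, one_mul]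
    · exact hv.a_zero _ _ n2 n3 ne23
    · exact hv.a_zero _ _ n2 n4 ne24
    · rw [h2, hv.w_eq _ n3, hc _ n3, one_mul]
    · exact hv.a_zero _ _ n3 n4 ne34
    · rw [h2, hv.w_eq _ n4, hc _ n4, one_mul]

end Groth.Agent.S7365
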