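import Groth.Statements.S7367
import Mathlib
import Groth.Agent.Lib.Helper26.NTC18

set_option autoImplicit false
open Finset
open Models Models.NumericalType

namespace Groth.Agent.S7367

open Groth.Agent.Lib.Helper26.NTC

/-- Genus one classification: case n = 6: let T be a minimal numerical type of genus 1 on 6 indices.
Then all g_i = 0 and, for some permutation σ of the indices and some integers m, w, the
multiplicities, weights and intersection matrix (m_{σ(i)}, w_{σ(i)}, a_{σ(i)σ(j)}) are those of one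
of the following 7 types: [cycle] m = (m, m, m, m, m, m), w = (w, w, w, w, w, w), a = (-2 * w w 0 0
0 w / w -2 * w w 0 0 0 / 0 w -2 * w w 0 0 / 0 0 w -2 * w w 0 / 0 0 0 w -2 * w w / w 0 0 0 w -2 * w);
[up chain equal up] m = (2 * m, 2 * m, 2 * m, 2 * m, 2 * m, m), w = (w, 2 * w, 2 * w, 2 * w, 2 * w,
4 * w), a = (-2 * w 2 * w 0 0 0 0 / 2 * w -4 * w 2 * w 0 0 0 / 0 2 * w -4 * w 2 * w 0 0 / 0 0 2 * w
-4 * w 2 * w 0 / 0 0 0 2 * w -4 * w 4 * w / 0 0 0 0 4 * w -8 * w); [up chain equal down] m = (m, m,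
m, m, m, m), w = (w, 2 * w, 2 * w, 2 * w, 2 * w, w), a = (-2 * w 2 * w 0 0 0 0 / 2 * w -4 * w 2 * w
0 0 0 / 0 2 * w -4 * w 2 * w 0 0 / 0 0 2 * w -4 * w 2 * w 0 / 0 0 0 2 * w -4 * w 2 * w / 0 0 0 0 2 *
w -2 * w); [down chain equal up] m = (m, 2 * m, 2 * m, 2 * m, 2 * m, m), w = (2 * w, w, w, w, w, 2 *
w), a = (-4 * w 2 * w 0 0 0 0 / 2 * w -2 * w w 0 0 0 / 0 w -2 * w w 0 0 / 0 0 w -2 * w w 0 / 0 0 0 w
-2 * w 2 * w / 0 0 0 0 2 * w -4 * w); [D extended up] m = (m, 2 * m, 2 * m, 2 * m, m, m), w = (2 *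
w, w, w, w, w, w), a = (-4 * w 2 * w 0 0 0 0 / 2 * w -2 * w w 0 0 0 / 0 w -2 * w w 0 0 / 0 0 w -2 *
w w w / 0 0 0 w -2 * w 0 / 0 0 0 w 0 -2 * w); [D extended down] m = (2 * m, 2 * m, 2 * m, 2 * m, m,
m), w = (w, 2 * w, 2 * w, 2 * w, 2 * w, 2 * w), a = (-2 * w 2 * w 0 0 0 0 / 2 * w -4 * w 2 * w 0 0 0
/ 0 2 * w -4 * w 2 * w 0 0 / 0 0 2 * w -4 * w 2 * w 2 * w / 0 0 0 2 * w -4 * w 0 / 0 0 0 2 * w 0 -4
* w); [double triple] m = (m, m, 2 * m, 2 * m, m, m), w = (w, w, w, w, w, w), a = (-2 * w 0 w 0 0 0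
/ 0 -2 * w w 0 0 0 / w w -2 * w w 0 0 / 0 0 w -2 * w w w / 0 0 0 w -2 * w 0 / 0 0 0 w 0 -2 * w).
Only the classification direction is stated. (In the family with weights (w, 2w, …, 2w, w) the
consecutive intersection numbers are 2w, as divisibility by the weights forces; the published list
prints w there, and omits m_{n-2} = 2m in the two D-type families.) -/
theorem result (T : Models.NumericalType 6) (hmin : T.IsMinimal) (hg : T.genus = 1) :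
    (∀ i, T.g i = 0) ∧ ∃ (σ : Equiv.Perm (Fin 6)) (m w : ℤ),
      ((T.m (σ 0) = m ∧ T.m (σ 1) = m ∧ T.m (σ 2) = m ∧ T.m (σ 3) = m ∧ T.m (σ 4) = m ∧ T.m (σ 5) = m ∧ T.w (σ 0) = w ∧ T.w (σ 1) = w ∧ T.w (σ 2) = w ∧ T.w (σ 3) = w ∧ T.w (σ 4) = w ∧ T.w (σ 5) = w ∧ T.a (σ 0) (σ 0) = -2 * w ∧ T.a (σ 0) (σ 1) = w ∧ T.a (σ 0) (σ 2) = 0 ∧ T.a (σ 0) (σ 3) = 0 ∧ T.a (σ 0) (σ 4) = 0 ∧ T.a (σ 0) (σ 5) = w ∧ T.a (σ 1) (σ 1) = -2 * w ∧ T.a (σ 1) (σ 2) = w ∧ T.a (σ 1) (σ 3) = 0 ∧ T.a (σ 1) (σ 4) = 0 ∧ T.a (σ 1) (σ 5) = 0 ∧ T.a (σ 2) (σ 2) = -2 * w ∧ T.a (σ 2) (σ 3) = w ∧ T.a (σ 2) (σ 4) = 0 ∧ T.a (σ 2) (σ 5) = 0 ∧ T.a (σ 3) (σ 3) = -2 * w ∧ T.a (σ 3) (σ 4) = w ∧ T.a (σ 3) (σ 5) = 0 ∧ T.a (σ 4) (σ 4) = -2 * w ∧ T.a (σ 4) (σ 5) = w ∧ T.a (σ 5) (σ 5) = -2 * w) ∨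
      (T.m (σ 0) = 2 * m ∧ T.m (σ 1) = 2 * m ∧ T.m (σ 2) = 2 * m ∧ T.m (σ 3) = 2 * m ∧ T.m (σ 4) = 2 * m ∧ T.m (σ 5) = m ∧ T.w (σ 0) = w ∧ T.w (σ 1) = 2 * w ∧ T.w (σ 2) = 2 * w ∧ T.w (σ 3) = 2 * w ∧ T.w (σ 4) = 2 * w ∧ T.w (σ 5) = 4 * w ∧ T.a (σ 0) (σ 0) = -2 * w ∧ T.a (σ 0) (σ 1) = 2 * w ∧ T.a (σ 0) (σ 2) = 0 ∧ T.a (σ 0) (σ 3) = 0 ∧ T.a (σ 0) (σ 4) = 0 ∧ T.a (σ 0) (σ 5) = 0 ∧ T.a (σ 1) (σ 1) = -4 * w ∧ T.a (σ 1) (σ 2) = 2 * w ∧ T.a (σ 1) (σ 3) = 0 ∧ T.a (σ 1) (σ 4) = 0 ∧ T.a (σ 1) (σ 5) = 0 ∧ T.a (σ 2) (σ 2) = -4 * w ∧ T.a (σ 2) (σ 3) = 2 * w ∧ T.a (σ 2) (σ 4) = 0 ∧ T.a (σ 2) (σ 5) = 0 ∧ T.a (σ 3) (σ 3) = -4 * w ∧ T.a (σ 3) (σ 4) = 2 * w ∧ T.a (σ 3) (σ 5) = 0 ∧ T.a (σ 4) (σ 4) = -4 * w ∧ T.a (σ 4) (σ 5) = 4 * w ∧ T.a (σ 5) (σ 5) = -8 * w) ∨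
      (T.m (σ 0) = m ∧ T.m (σ 1) = m ∧ T.m (σ 2) = m ∧ T.m (σ 3) = m ∧ T.m (σ 4) = m ∧ T.m (σ 5) = m ∧ T.w (σ 0) = w ∧ T.w (σ 1) = 2 * w ∧ T.w (σ 2) = 2 * w ∧ T.w (σ 3) = 2 * w ∧ T.w (σ 4) = 2 * w ∧ T.w (σ 5) = w ∧ T.a (σ 0) (σ 0) = -2 * w ∧ T.a (σ 0) (σ 1) = 2 * w ∧ T.a (σ 0) (σ 2) = 0 ∧ T.a (σ 0) (σ 3) = 0 ∧ T.a (σ 0) (σ 4) = 0 ∧ T.a (σ 0) (σ 5) = 0 ∧ T.a (σ 1) (σ 1) = -4 * w ∧ T.a (σ 1) (σ 2) = 2 * w ∧ T.a (σ 1) (σ 3) = 0 ∧ T.a (σ 1) (σ 4) = 0 ∧ T.a (σ 1) (σ 5) = 0 ∧ T.a (σ 2) (σ 2) = -4 * w ∧ T.a (σ 2) (σ 3) = 2 * w ∧ T.a (σ 2) (σ 4) = 0 ∧ T.a (σ 2) (σ 5) = 0 ∧ T.a (σ 3) (σ 3) = -4 * w ∧ T.a (σ 3) (σ 4) = 2 * w ∧ T.a (σ 3) (σ 5) = 0 ∧ T.a (σ 4) (σ 4) = -4 * w ∧ T.a (σ 4) (σ 5) = 2 * w ∧ T.a (σ 5) (σ 5) = -2 * w) ∨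
      (T.m (σ 0) = m ∧ T.m (σ 1) = 2 * m ∧ T.m (σ 2) = 2 * m ∧ T.m (σ 3) = 2 * m ∧ T.m (σ 4) = 2 * m ∧ T.m (σ 5) = m ∧ T.w (σ 0) = 2 * w ∧ T.w (σ 1) = w ∧ T.w (σ 2) = w ∧ T.w (σ 3) = w ∧ T.w (σ 4) = w ∧ T.w (σ 5) = 2 * w ∧ T.a (σ 0) (σ 0) = -4 * w ∧ T.a (σ 0) (σ 1) = 2 * w ∧ T.a (σ 0) (σ 2) = 0 ∧ T.a (σ 0) (σ 3) = 0 ∧ T.a (σ 0) (σ 4) = 0 ∧ T.a (σ 0) (σ 5) = 0 ∧ T.a (σ 1) (σ 1) = -2 * w ∧ T.a (σ 1) (σ 2) = w ∧ T.a (σ 1) (σ 3) = 0 ∧ T.a (σ 1) (σ 4) = 0 ∧ T.a (σ 1) (σ 5) = 0 ∧ T.a (σ 2) (σ 2) = -2 * w ∧ T.a (σ 2) (σ 3) = w ∧ T.a (σ 2) (σ 4) = 0 ∧ T.a (σ 2) (σ 5) = 0 ∧ T.a (σ 3) (σ 3) = -2 * w ∧ T.a (σ 3) (σ 4) = w ∧ T.a (σ 3) (σ 5) = 0 ∧ T.a (σ 4) (σ 4) = -2 * w ∧ T.a (σ 4) (σ 5) = 2 * w ∧ T.a (σ 5) (σ 5) = -4 * w) ∨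
      (T.m (σ 0) = m ∧ T.m (σ 1) = 2 * m ∧ T.m (σ 2) = 2 * m ∧ T.m (σ 3) = 2 * m ∧ T.m (σ 4) = m ∧ T.m (σ 5) = m ∧ T.w (σ 0) = 2 * w ∧ T.w (σ 1) = w ∧ T.w (σ 2) = w ∧ T.w (σ 3) = w ∧ T.w (σ 4) = w ∧ T.w (σ 5) = w ∧ T.a (σ 0) (σ 0) = -4 * w ∧ T.a (σ 0) (σ 1) = 2 * w ∧ T.a (σ 0) (σ 2) = 0 ∧ T.a (σ 0) (σ 3) = 0 ∧ T.a (σ 0) (σ 4) = 0 ∧ T.a (σ 0) (σ 5) = 0 ∧ T.a (σ 1) (σ 1) = -2 * w ∧ T.a (σ 1) (σ 2) = w ∧ T.a (σ 1) (σ 3) = 0 ∧ T.a (σ 1) (σ 4) = 0 ∧ T.a (σ 1) (σ 5) = 0 ∧ T.a (σ 2) (σ 2) = -2 * w ∧ T.a (σ 2) (σ 3) = w ∧ T.a (σ 2) (σ 4) = 0 ∧ T.a (σ 2) (σ 5) = 0 ∧ T.a (σ 3) (σ 3) = -2 * w ∧ T.a (σ 3) (σ 4) = w ∧ T.a (σ 3) (σ 5) = w ∧ T.a (σ 4) (σ 4) = -2 * w ∧ T.a (σ 4) (σ 5) = 0 ∧ T.a (σ 5) (σ 5) = -2 * w) ∨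
      (T.m (σ 0) = 2 * m ∧ T.m (σ 1) = 2 * m ∧ T.m (σ 2) = 2 * m ∧ T.m (σ 3) = 2 * m ∧ T.m (σ 4) = m ∧ T.m (σ 5) = m ∧ T.w (σ 0) = w ∧ T.w (σ 1) = 2 * w ∧ T.w (σ 2) = 2 * w ∧ T.w (σ 3) = 2 * w ∧ T.w (σ 4) = 2 * w ∧ T.w (σ 5) = 2 * w ∧ T.a (σ 0) (σ 0) = -2 * w ∧ T.a (σ 0) (σ 1) = 2 * w ∧ T.a (σ 0) (σ 2) = 0 ∧ T.a (σ 0) (σ 3) = 0 ∧ T.a (σ 0) (σ 4) = 0 ∧ T.a (σ 0) (σ 5) = 0 ∧ T.a (σ 1) (σ 1) = -4 * w ∧ T.a (σ 1) (σ 2) = 2 * w ∧ T.a (σ 1) (σ 3) = 0 ∧ T.a (σ 1) (σ 4) = 0 ∧ T.a (σ 1) (σ 5) = 0 ∧ T.a (σ 2) (σ 2) = -4 * w ∧ T.a (σ 2) (σ 3) = 2 * w ∧ T.a (σ 2) (σ 4) = 0 ∧ T.a (σ 2) (σ 5) = 0 ∧ T.a (σ 3) (σ 3) = -4 * w ∧ T.a (σ 3) (σ 4) = 2 * w ∧ T.a (σ 3) (σ 5) = 2 * w ∧ T.a (σ 4) (σ 4) = -4 * w ∧ T.a (σ 4) (σ 5) = 0 ∧ T.a (σ 5) (σ 5) = -4 * w) ∨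
      (T.m (σ 0) = m ∧ T.m (σ 1) = m ∧ T.m (σ 2) = 2 * m ∧ T.m (σ 3) = 2 * m ∧ T.m (σ 4) = m ∧ T.m (σ 5) = m ∧ T.w (σ 0) = w ∧ T.w (σ 1) = w ∧ T.w (σ 2) = w ∧ T.w (σ 3) = w ∧ T.w (σ 4) = w ∧ T.w (σ 5) = w ∧ T.a (σ 0) (σ 0) = -2 * w ∧ T.a (σ 0) (σ 1) = 0 ∧ T.a (σ 0) (σ 2) = w ∧ T.a (σ 0) (σ 3) = 0 ∧ T.a (σ 0) (σ 4) = 0 ∧ T.a (σ 0) (σ 5) = 0 ∧ T.a (σ 1) (σ 1) = -2 * w ∧ T.a (σ 1) (σ 2) = w ∧ T.a (σ 1) (σ 3) = 0 ∧ T.a (σ 1) (σ 4) = 0 ∧ T.a (σ 1) (σ 5) = 0 ∧ T.a (σ 2) (σ 2) = -2 * w ∧ T.a (σ 2) (σ 3) = w ∧ T.a (σ 2) (σ 4) = 0 ∧ T.a (σ 2) (σ 5) = 0 ∧ T.a (σ 3) (σ 3) = -2 * w ∧ T.a (σ 3) (σ 4) = w ∧ T.a (σ 3) (σ 5) = w ∧ T.a (σ 4) (σ 4) = -2 * w ∧ T.a (σ 4) (σ 5) = 0 ∧ T.a (σ 5) (σ 5) = -2 * w)) := by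
  obtain ⟨hg0, h2, hcl⟩ := classify (T := T) (by omega) hmin hg
  refine ⟨hg0, ?_⟩
  rcases hcl with h | h | ⟨v, hv⟩
  · obtain ⟨σ, m, w, h⟩ := h
    refine ⟨σ, m, w, ?_⟩
    rcases h with h | h | h | h | ⟨h, -⟩ | h | ⟨h, -⟩
    · refine Or.inl ?_
      obtain ⟨xm0, xw0, xa0, xa1, xz⟩ := h
      split_ands
      · exact xm0 (0 : Fin 6)
      · exact xm0 (1 : Fin 6)
      · exact xm0 (2 : Fin 6)
      · exact xm0 (3 : Fin 6)
      · exact xm0 (4 : Fin 6)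
      · exact xm0 (5 : Fin 6)
      · exact xw0 (0 : Fin 6)
      · exact xw0 (1 : Fin 6)
      · exact xw0 (2 : Fin 6)
      · exact xw0 (3 : Fin 6)
      · exact xw0 (4 : Fin 6)
      · exact xw0 (5 : Fin 6)
      · rw [h2, xw0 (0 : Fin 6)] <;> ring
      · exact xa0 (0 : Fin 6) (1 : Fin 6) (by decide) (by decide)
      · exact xz (0 : Fin 6) (2 : Fin 6) (by decide) (by decide) (by decide)
      · exact xz (0 : Fin 6) (3 : Fin 6) (by decide) (by decide) (by decide)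
      · exact xz (0 : Fin 6) (4 : Fin 6) (by decide) (by decide) (by decide)
      · exact xa1 (0 : Fin 6) (5 : Fin 6) (by decide) (by decide)
      · rw [h2, xw0 (1 : Fin 6)] <;> ring
      · exact xa0 (1 : Fin 6) (2 : Fin 6) (by decide) (by decide)
      · exact xz (1 : Fin 6) (3 : Fin 6) (by decide) (by decide) (by decide)
      · exact xz (1 : Fin 6) (4 : Fin 6) (by decide) (by decide) (by decide)
      · exact xz (1 : Fin 6) (5 : Fin 6) (by decide) (by decide) (by decide)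
      · rw [h2, xw0 (2 : Fin 6)] <;> ring
      · exact xa0 (2 : Fin 6) (3 : Fin 6) (by decide) (by decide)
      · exact xz (2 : Fin 6) (4 : Fin 6) (by decide) (by decide) (by decide)
      · exact xz (2 : Fin 6) (5 : Fin 6) (by decide) (by decide) (by decide)
      · rw [h2, xw0 (3 : Fin 6)] <;> ring
      · exact xa0 (3 : Fin 6) (4 : Fin 6) (by decide) (by decide)
      · exact xz (3 : Fin 6) (5 : Fin 6) (by decide) (by decide) (by decide)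
      · rw [h2, xw0 (4 : Fin 6)] <;> ring
      · exact xa0 (4 : Fin 6) (5 : Fin 6) (by decide) (by decide)
      · rw [h2, xw0 (5 : Fin 6)] <;> ring
    · refine Or.inr (Or.inl ?_)
      obtain ⟨xm0, xm1, xw0, xw1, xw2, xa0, xa1, xz⟩ := h
      split_ands
      · exact xm0 (0 : Fin 6) (by decide)
      · exact xm0 (1 : Fin 6) (by decide)
      · exact xm0 (2 : Fin 6) (by decide)
      · exact xm0 (3 : Fin 6) (by decide)
      · exact xm0 (4 : Fin 6) (by decide)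
      · exact xm1 (5 : Fin 6) (by decide)
      · exact xw0 (0 : Fin 6) (by decide)
      · exact xw1 (1 : Fin 6) (by decide)
      · exact xw1 (2 : Fin 6) (by decide)
      · exact xw1 (3 : Fin 6) (by decide)
      · exact xw1 (4 : Fin 6) (by decide)
      · exact xw2 (5 : Fin 6) (by decide)
      · rw [h2, xw0 (0 : Fin 6) (by decide)] <;> ring
      · exact xa0 (0 : Fin 6) (1 : Fin 6) (by decide) (by decide)
      · exact xz (0 : Fin 6) (2 : Fin 6) (by decide) (by decide) (by decide)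
      · exact xz (0 : Fin 6) (3 : Fin 6) (by decide) (by decide) (by decide)
      · exact xz (0 : Fin 6) (4 : Fin 6) (by decide) (by decide) (by decide)
      · exact xz (0 : Fin 6) (5 : Fin 6) (by decide) (by decide) (by decide)
      · rw [h2, xw1 (1 : Fin 6) (by decide)] <;> ring
      · exact xa0 (1 : Fin 6) (2 : Fin 6) (by decide) (by decide)
      · exact xz (1 : Fin 6) (3 : Fin 6) (by decide) (by decide) (by decide)
      · exact xz (1 : Fin 6) (4 : Fin 6) (by decide) (by decide) (by decide)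
      · exact xz (1 : Fin 6) (5 : Fin 6) (by decide) (by decide) (by decide)
      · rw [h2, xw1 (2 : Fin 6) (by decide)] <;> ring
      · exact xa0 (2 : Fin 6) (3 : Fin 6) (by decide) (by decide)
      · exact xz (2 : Fin 6) (4 : Fin 6) (by decide) (by decide) (by decide)
      · exact xz (2 : Fin 6) (5 : Fin 6) (by decide) (by decide) (by decide)
      · rw [h2, xw1 (3 : Fin 6) (by decide)] <;> ring
      · exact xa0 (3 : Fin 6) (4 : Fin 6) (by decide) (by decide)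
      · exact xz (3 : Fin 6) (5 : Fin 6) (by decide) (by decide) (by decide)
      · rw [h2, xw1 (4 : Fin 6) (by decide)] <;> ring
      · exact xa1 (4 : Fin 6) (5 : Fin 6) (by decide) (by decide)
      · rw [h2, xw2 (5 : Fin 6) (by decide)] <;> ring
    · refine Or.inr (Or.inr (Or.inl ?_))
      obtain ⟨xm0, xw0, xw1, xw2, xa0, xz⟩ := h
      split_ands
      · exact xm0 (0 : Fin 6)
      · exact xm0 (1 : Fin 6)
      · exact xm0 (2 : Fin 6)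
      · exact xm0 (3 : Fin 6)
      · exact xm0 (4 : Fin 6)
      · exact xm0 (5 : Fin 6)
      · exact xw0 (0 : Fin 6) (by decide)
      · exact xw1 (1 : Fin 6) (by decide)
      · exact xw1 (2 : Fin 6) (by decide)
      · exact xw1 (3 : Fin 6) (by decide)
      · exact xw1 (4 : Fin 6) (by decide)
      · exact xw2 (5 : Fin 6) (by decide)
      · rw [h2, xw0 (0 : Fin 6) (by decide)] <;> ring
      · exact xa0 (0 : Fin 6) (1 : Fin 6) (by decide) (by decide)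
      · exact xz (0 : Fin 6) (2 : Fin 6) (by decide) (by decide)
      · exact xz (0 : Fin 6) (3 : Fin 6) (by decide) (by decide)
      · exact xz (0 : Fin 6) (4 : Fin 6) (by decide) (by decide)
      · exact xz (0 : Fin 6) (5 : Fin 6) (by decide) (by decide)
      · rw [h2, xw1 (1 : Fin 6) (by decide)] <;> ring
      · exact xa0 (1 : Fin 6) (2 : Fin 6) (by decide) (by decide)
      · exact xz (1 : Fin 6) (3 : Fin 6) (by decide) (by decide)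
      · exact xz (1 : Fin 6) (4 : Fin 6) (by decide) (by decide)
      · exact xz (1 : Fin 6) (5 : Fin 6) (by decide) (by decide)
      · rw [h2, xw1 (2 : Fin 6) (by decide)] <;> ring
      · exact xa0 (2 : Fin 6) (3 : Fin 6) (by decide) (by decide)
      · exact xz (2 : Fin 6) (4 : Fin 6) (by decide) (by decide)
      · exact xz (2 : Fin 6) (5 : Fin 6) (by decide) (by decide)
      · rw [h2, xw1 (3 : Fin 6) (by decide)] <;> ring
      · exact xa0 (3 : Fin 6) (4 : Fin 6) (by decide) (by decide)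
      · exact xz (3 : Fin 6) (5 : Fin 6) (by decide) (by decide)
      · rw [h2, xw1 (4 : Fin 6) (by decide)] <;> ring
      · exact xa0 (4 : Fin 6) (5 : Fin 6) (by decide) (by decide)
      · rw [h2, xw2 (5 : Fin 6) (by decide)] <;> ring
    · refine Or.inr (Or.inr (Or.inr (Or.inl ?_)))
      obtain ⟨xm0, xm1, xm2, xw0, xw1, xw2, xa0, xa1, xa2, xz⟩ := h
      split_ands
      · exact xm0 (0 : Fin 6) (by decide)
      · exact xm1 (1 : Fin 6) (by decide)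
      · exact xm1 (2 : Fin 6) (by decide)
      · exact xm1 (3 : Fin 6) (by decide)
      · exact xm1 (4 : Fin 6) (by decide)
      · exact xm2 (5 : Fin 6) (by decide)
      · exact xw0 (0 : Fin 6) (by decide)
      · exact xw1 (1 : Fin 6) (by decide)
      · exact xw1 (2 : Fin 6) (by decide)
      · exact xw1 (3 : Fin 6) (by decide)
      · exact xw1 (4 : Fin 6) (by decide)
      · exact xw2 (5 : Fin 6) (by decide)
      · rw [h2, xw0 (0 : Fin 6) (by decide)] <;> ring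
      · exact xa0 (0 : Fin 6) (1 : Fin 6) (by decide) (by decide)
      · exact xz (0 : Fin 6) (2 : Fin 6) (by decide) (by decide) (by decide) (by decide)
      · exact xz (0 : Fin 6) (3 : Fin 6) (by decide) (by decide) (by decide) (by decide)
      · exact xz (0 : Fin 6) (4 : Fin 6) (by decide) (by decide) (by decide) (by decide)
      · exact xz (0 : Fin 6) (5 : Fin 6) (by decide) (by decide) (by decide) (by decide)
      · rw [h2, xw1 (1 : Fin 6) (by decide)] <;> ring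
      · exact xa1 (1 : Fin 6) (2 : Fin 6) (by decide) (by decide)
      · exact xz (1 : Fin 6) (3 : Fin 6) (by decide) (by decide) (by decide) (by decide)
      · exact xz (1 : Fin 6) (4 : Fin 6) (by decide) (by decide) (by decide) (by decide)
      · exact xz (1 : Fin 6) (5 : Fin 6) (by decide) (by decide) (by decide) (by decide)
      · rw [h2, xw1 (2 : Fin 6) (by decide)] <;> ring
      · exact xa1 (2 : Fin 6) (3 : Fin 6) (by decide) (by decide)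
      · exact xz (2 : Fin 6) (4 : Fin 6) (by decide) (by decide) (by decide) (by decide)
      · exact xz (2 : Fin 6) (5 : Fin 6) (by decide) (by decide) (by decide) (by decide)
      · rw [h2, xw1 (3 : Fin 6) (by decide)] <;> ring
      · exact xa1 (3 : Fin 6) (4 : Fin 6) (by decide) (by decide)
      · exact xz (3 : Fin 6) (5 : Fin 6) (by decide) (by decide) (by decide) (by decide)
      · rw [h2, xw1 (4 : Fin 6) (by decide)] <;> ring
      · exact xa2 (4 : Fin 6) (5 : Fin 6) (by decide) (by decide)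
      · rw [h2, xw2 (5 : Fin 6) (by decide)] <;> ring
    · refine Or.inr (Or.inr (Or.inr (Or.inr (Or.inl ?_))))
      obtain ⟨xm0, xm1, xm2, xw0, xw1, xa0, xa1, xa2, xz⟩ := h
      split_ands
      · exact xm0 (0 : Fin 6) (by decide)
      · exact xm1 (1 : Fin 6) (by decide)
      · exact xm1 (2 : Fin 6) (by decide)
      · exact xm1 (3 : Fin 6) (by decide)
      · exact xm2 (4 : Fin 6) (by decide)
      · exact xm2 (5 : Fin 6) (by decide)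
      · exact xw0 (0 : Fin 6) (by decide)
      · exact xw1 (1 : Fin 6) (by decide)
      · exact xw1 (2 : Fin 6) (by decide)
      · exact xw1 (3 : Fin 6) (by decide)
      · exact xw1 (4 : Fin 6) (by decide)
      · exact xw1 (5 : Fin 6) (by decide)
      · rw [h2, xw0 (0 : Fin 6) (by decide)] <;> ring
      · exact xa0 (0 : Fin 6) (1 : Fin 6) (by decide) (by decide)
      · exact xz (0 : Fin 6) (2 : Fin 6) (by decide) (by decide) (by decide) (by decide)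
      · exact xz (0 : Fin 6) (3 : Fin 6) (by decide) (by decide) (by decide) (by decide)
      · exact xz (0 : Fin 6) (4 : Fin 6) (by decide) (by decide) (by decide) (by decide)
      · exact xz (0 : Fin 6) (5 : Fin 6) (by decide) (by decide) (by decide) (by decide)
      · rw [h2, xw1 (1 : Fin 6) (by decide)] <;> ring
      · exact xa1 (1 : Fin 6) (2 : Fin 6) (by decide) (by decide)
      · exact xz (1 : Fin 6) (3 : Fin 6) (by decide) (by decide) (by decide) (by decide)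
      · exact xz (1 : Fin 6) (4 : Fin 6) (by decide) (by decide) (by decide) (by decide)
      · exact xz (1 : Fin 6) (5 : Fin 6) (by decide) (by decide) (by decide) (by decide)
      · rw [h2, xw1 (2 : Fin 6) (by decide)] <;> ring
      · exact xa1 (2 : Fin 6) (3 : Fin 6) (by decide) (by decide)
      · exact xz (2 : Fin 6) (4 : Fin 6) (by decide) (by decide) (by decide) (by decide)
      · exact xz (2 : Fin 6) (5 : Fin 6) (by decide) (by decide) (by decide) (by decide)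
      · rw [h2, xw1 (3 : Fin 6) (by decide)] <;> ring
      · exact xa1 (3 : Fin 6) (4 : Fin 6) (by decide) (by decide)
      · exact xa2 (3 : Fin 6) (5 : Fin 6) (by decide) (by decide)
      · rw [h2, xw1 (4 : Fin 6) (by decide)] <;> ring
      · exact xz (4 : Fin 6) (5 : Fin 6) (by decide) (by decide) (by decide) (by decide)
      · rw [h2, xw1 (5 : Fin 6) (by decide)] <;> ring
    · refine Or.inr (Or.inr (Or.inr (Or.inr (Or.inr (Or.inl ?_)))))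
      obtain ⟨xm0, xm1, xw0, xw1, xa0, xa1, xz⟩ := h
      split_ands
      · exact xm0 (0 : Fin 6) (by decide)
      · exact xm0 (1 : Fin 6) (by decide)
      · exact xm0 (2 : Fin 6) (by decide)
      · exact xm0 (3 : Fin 6) (by decide)
      · exact xm1 (4 : Fin 6) (by decide)
      · exact xm1 (5 : Fin 6) (by decide)
      · exact xw0 (0 : Fin 6) (by decide)
      · exact xw1 (1 : Fin 6) (by decide)
      · exact xw1 (2 : Fin 6) (by decide)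
      · exact xw1 (3 : Fin 6) (by decide)
      · exact xw1 (4 : Fin 6) (by decide)
      · exact xw1 (5 : Fin 6) (by decide)
      · rw [h2, xw0 (0 : Fin 6) (by decide)] <;> ring
      · exact xa0 (0 : Fin 6) (1 : Fin 6) (by decide) (by decide)
      · exact xz (0 : Fin 6) (2 : Fin 6) (by decide) (by decide) (by decide)
      · exact xz (0 : Fin 6) (3 : Fin 6) (by decide) (by decide) (by decide)
      · exact xz (0 : Fin 6) (4 : Fin 6) (by decide) (by decide) (by decide)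
      · exact xz (0 : Fin 6) (5 : Fin 6) (by decide) (by decide) (by decide)
      · rw [h2, xw1 (1 : Fin 6) (by decide)] <;> ring
      · exact xa0 (1 : Fin 6) (2 : Fin 6) (by decide) (by decide)
      · exact xz (1 : Fin 6) (3 : Fin 6) (by decide) (by decide) (by decide)
      · exact xz (1 : Fin 6) (4 : Fin 6) (by decide) (by decide) (by decide)
      · exact xz (1 : Fin 6) (5 : Fin 6) (by decide) (by decide) (by decide)
      · rw [h2, xw1 (2 : Fin 6) (by decide)] <;> ring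
      · exact xa0 (2 : Fin 6) (3 : Fin 6) (by decide) (by decide)
      · exact xz (2 : Fin 6) (4 : Fin 6) (by decide) (by decide) (by decide)
      · exact xz (2 : Fin 6) (5 : Fin 6) (by decide) (by decide) (by decide)
      · rw [h2, xw1 (3 : Fin 6) (by decide)] <;> ring
      · exact xa0 (3 : Fin 6) (4 : Fin 6) (by decide) (by decide)
      · exact xa1 (3 : Fin 6) (5 : Fin 6) (by decide) (by decide)
      · rw [h2, xw1 (4 : Fin 6) (by decide)] <;> ring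
      · exact xz (4 : Fin 6) (5 : Fin 6) (by decide) (by decide) (by decide)
      · rw [h2, xw1 (5 : Fin 6) (by decide)] <;> ring
    · refine Or.inr (Or.inr (Or.inr (Or.inr (Or.inr (Or.inr (?_))))))
      obtain ⟨xm0, xm1, xm2, xw0, xa0, xa1, xa2, xa3, xz⟩ := h
      split_ands
      · exact xm0 (0 : Fin 6) (by decide)
      · exact xm0 (1 : Fin 6) (by decide)
      · exact xm1 (2 : Fin 6) (by decide)
      · exact xm1 (3 : Fin 6) (by decide)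
      · exact xm2 (4 : Fin 6) (by decide)
      · exact xm2 (5 : Fin 6) (by decide)
      · exact xw0 (0 : Fin 6)
      · exact xw0 (1 : Fin 6)
      · exact xw0 (2 : Fin 6)
      · exact xw0 (3 : Fin 6)
      · exact xw0 (4 : Fin 6)
      · exact xw0 (5 : Fin 6)
      · rw [h2, xw0 (0 : Fin 6)] <;> ring
      · exact xz (0 : Fin 6) (1 : Fin 6) (by decide) (by decide) (by decide) (by decide) (by decide)
      · exact xa0 (0 : Fin 6) (2 : Fin 6) (by decide) (by decide)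
      · exact xz (0 : Fin 6) (3 : Fin 6) (by decide) (by decide) (by decide) (by decide) (by decide)
      · exact xz (0 : Fin 6) (4 : Fin 6) (by decide) (by decide) (by decide) (by decide) (by decide)
      · exact xz (0 : Fin 6) (5 : Fin 6) (by decide) (by decide) (by decide) (by decide) (by decide)
      · rw [h2, xw0 (1 : Fin 6)] <;> ring
      · exact xa1 (1 : Fin 6) (2 : Fin 6) (by decide) (by decide)
      · exact xz (1 : Fin 6) (3 : Fin 6) (by decide) (by decide) (by decide) (by decide) (by decide)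
      · exact xz (1 : Fin 6) (4 : Fin 6) (by decide) (by decide) (by decide) (by decide) (by decide)
      · exact xz (1 : Fin 6) (5 : Fin 6) (by decide) (by decide) (by decide) (by decide) (by decide)
      · rw [h2, xw0 (2 : Fin 6)] <;> ring
      · exact xa2 (2 : Fin 6) (3 : Fin 6) (by decide) (by decide)
      · exact xz (2 : Fin 6) (4 : Fin 6) (by decide) (by decide) (by decide) (by decide) (by decide)
      · exact xz (2 : Fin 6) (5 : Fin 6) (by decide) (by decide) (by decide) (by decide) (by decide)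
      · rw [h2, xw0 (3 : Fin 6)] <;> ring
      · exact xa2 (3 : Fin 6) (4 : Fin 6) (by decide) (by decide)
      · exact xa3 (3 : Fin 6) (5 : Fin 6) (by decide) (by decide)
      · rw [h2, xw0 (4 : Fin 6)] <;> ring
      · exact xz (4 : Fin 6) (5 : Fin 6) (by decide) (by decide) (by decide) (by decide) (by decide)
      · rw [h2, xw0 (5 : Fin 6)] <;> ring
  · exfalso
    rcases h with h | h | h | h | h <;> have := h.card <;> omega
  · exfalso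
    have := hv.card_le
    omega

end Groth.Agent.S7367
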