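import Groth.Statements.S7379
import Groth.Agent.Lib.Helper1.ISLim2

set_option autoImplicit false
universe u
open CategoryTheory AlgebraicGeometry
open Lim
open Groth.Agent.Lib.Helper1.NA Opposite

namespace Groth.Agent.S7379

/-- Let `ι : X → Y` be a closed immersion with `Y` quasi-compact and quasi-separated. Then, in the
category of schemes over `Y`, `X` is the limit of a nonempty directed inverse system whose objects
`X_i → Y` are closed immersions of finite presentation. -/
theorem result {X Y : Scheme.{u}} (ι : X ⟶ Y)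
    [IsClosedImmersion ι] [CompactSpace Y] [QuasiSeparatedSpace Y] :
    ∃ (I : Type u) (_ : Preorder I) (_ : IsDirected I (fun a b => a ≤ b)) (_ : Nonempty I)
      (D : Iᵒᵖ ⥤ Over Y) (c : Limits.Cone D) (_ : Limits.IsLimit c),
      (∀ i, IsClosedImmersion (D.obj i).hom ∧ LocallyOfFinitePresentation (D.obj i).hom) ∧
      Nonempty (c.pt ≅ Over.mk ι) := by
  obtain ⟨I, hP, hD, hN, J, hJ, hsup, hfp⟩ := exists_closed_fp_family ι
  refine ⟨I, hP, hD, hN, subDiag J hJ, subCone J hJ (⨆ b, J b) (le_iSup J), isLimitSubCone J hJ,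
    fun i => ⟨?_, ?_⟩, ?_⟩
  · change IsClosedImmersion (J i.unop).subschemeι
    infer_instance
  · exact hfp i.unop
  · have hk : ι.ker = (⨆ b, J b).subschemeι.ker := by
      rw [Scheme.IdealSheafData.ker_subschemeι, hsup]
    have hiso := IsClosedImmersion.isIso_lift ι (⨆ b, J b).subschemeι hk
    let e : (⨆ b, J b).subscheme ≅ X :=
      @asIso _ _ _ _ (IsClosedImmersion.lift ι (⨆ b, J b).subschemeι hk.le) hiso
    have he : e.hom ≫ ι = (⨆ b, J b).subschemeι := IsClosedImmersion.lift_fac _ _ _
    exact ⟨Over.isoMk (f := Over.mk (⨆ b, J b).subschemeι) (g := Over.mk ι) e he⟩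

end Groth.Agent.S7379
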