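import Groth.Statements.S7380
import Groth.Agent.Lib.Helper1.ISLim3

set_option autoImplicit false
universe u
open CategoryTheory AlgebraicGeometry
open Lim
open Groth.Agent.Lib.Helper1.NA Opposite

namespace Groth.Agent.S7380

/-- Let `f : X → S` be locally of finite type with `X` quasi-compact and quasi-separated and `S`
quasi-separated. Then, in the category of schemes over `S`, `X` is the limit of a nonempty directed
inverse system of schemes `X_i → S` of finite presentation (locally of finite presentation,
quasi-compact and quasi-separated), each `X_i` being a quasi-compact and quasi-separated scheme,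
whose transition morphisms are closed immersions. -/
theorem result {X S : Scheme.{u}}
    (f : X ⟶ S) [LocallyOfFiniteType f] [CompactSpace X] [QuasiSeparatedSpace X] [QuasiSeparatedSpace S] :
    ∃ (I : Type u) (_ : Preorder I) (_ : IsDirected I (fun a b => a ≤ b)) (_ : Nonempty I)
      (D : Iᵒᵖ ⥤ Over S) (c : Limits.Cone D) (_ : Limits.IsLimit c),
      (∀ i, LocallyOfFinitePresentation (D.obj i).hom ∧ QuasiCompact (D.obj i).hom ∧
        QuasiSeparated (D.obj i).hom ∧ CompactSpace (D.obj i).left ∧ QuasiSeparatedSpace (D.obj i).left) ∧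
      (∀ (i j : Iᵒᵖ) (a : i ⟶ j), IsClosedImmersion (D.map a).left) ∧
      Nonempty (c.pt ≅ Over.mk f) := by
  obtain ⟨X', f', j, h1, h2, h3, h4, h5, h6, h7⟩ := exists_closedImmersion_fp f
  obtain ⟨I, hP, hD, hN, J, hJ, hsup, hfp⟩ := exists_closed_fp_family j
  haveI : IsConnected Iᵒᵖ := IsCofiltered.isConnected _
  refine ⟨I, hP, hD, hN, subDiag J hJ ⋙ Over.map f',
    (Over.map f').mapCone (subCone J hJ (⨆ b, J b) (le_iSup J)),
    isLimitMapConeOverMap f' _ (isLimitSubCone J hJ), fun i => ?_, fun i i' a => ?_, ?_⟩
  · have hci : IsClosedImmersion (J i.unop).subschemeι := inferInstance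
    have hlfp := hfp i.unop
    have hc : CompactSpace (J i.unop).subscheme :=
      QuasiCompact.compactSpace_of_compactSpace (J i.unop).subschemeι
    have hq : QuasiSeparatedSpace (J i.unop).subscheme :=
      quasiSeparatedSpace_of_quasiSeparated (J i.unop).subschemeι
    refine ⟨?_, ?_, ?_, hc, hq⟩
    · change LocallyOfFinitePresentation ((J i.unop).subschemeι ≫ f')
      infer_instance
    · change QuasiCompact ((J i.unop).subschemeι ≫ f')
      infer_instance
    · change QuasiSeparated ((J i.unop).subschemeι ≫ f')
      infer_instance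
  · change IsClosedImmersion (Scheme.IdealSheafData.inclusion (hJ (leOfHom a.unop)))
    infer_instance
  · have hk : j.ker = (⨆ b, J b).subschemeι.ker := by
      rw [Scheme.IdealSheafData.ker_subschemeι, hsup]
    have hiso := IsClosedImmersion.isIso_lift j (⨆ b, J b).subschemeι hk
    let e : (⨆ b, J b).subscheme ≅ X :=
      @asIso _ _ _ _ (IsClosedImmersion.lift j (⨆ b, J b).subschemeι hk.le) hiso
    have he : e.hom ≫ j = (⨆ b, J b).subschemeι := IsClosedImmersion.lift_fac _ _ _
    have he' : e.hom ≫ f = (⨆ b, J b).subschemeι ≫ f' := by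
      rw [← h7, ← Category.assoc, he]
    exact ⟨Over.isoMk (f := Over.mk ((⨆ b, J b).subschemeι ≫ f')) (g := Over.mk f) e he'⟩

end Groth.Agent.S7380
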