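import Groth.Statements.S7381
import Groth.Agent.Lib.Helper1.ISFin

set_option autoImplicit false
universe u
open CategoryTheory AlgebraicGeometry
open Lim
open Groth.Agent.Lib.Helper1.NA Opposite

namespace Groth.Agent.S7381

/-- Let `f : X → S` be finite with `S` quasi-compact and quasi-separated. Then, in the category of
schemes over `S`, `X` is the limit of a nonempty directed inverse system of schemes `X_i → S` that
are finite and locally of finite presentation, with closed immersions as transition morphisms. -/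
theorem result {X S : Scheme.{u}} (f : X ⟶ S) [IsFinite f]
    [CompactSpace S] [QuasiSeparatedSpace S] :
    ∃ (I : Type u) (_ : Preorder I) (_ : IsDirected I (fun a b => a ≤ b)) (_ : Nonempty I)
      (D : Iᵒᵖ ⥤ Over S) (c : Limits.Cone D) (_ : Limits.IsLimit c),
      (∀ i, IsFinite (D.obj i).hom ∧ LocallyOfFinitePresentation (D.obj i).hom) ∧
      (∀ (i j : Iᵒᵖ) (a : i ⟶ j), IsClosedImmersion (D.map a).left) ∧
      Nonempty (c.pt ≅ Over.mk f) := by
  obtain ⟨X'', f'', j'', h1, h2, h3, h4, h5, h6, h7, h8⟩ := exists_closedImmersion_fp_affine f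
  obtain ⟨I, hP, hD, hN, J, hJ, hsup, hfp⟩ := exists_closed_fp_family j''
  have hint : IsIntegralHom (j'' ≫ f'') := by rw [h8]; infer_instance
  have hlft : LocallyOfFiniteType f'' := inferInstance
  obtain ⟨b₀, hb₀⟩ := exists_isFinite_subscheme f'' j'' J hJ hsup
  let I' : Type u := {b : I // b₀ ≤ b}
  have hD' : IsDirected I' (fun a b => a ≤ b) := ⟨fun a b => by
    obtain ⟨c, hc1, hc2⟩ := exists_ge_ge a.1 b.1
    exact ⟨⟨c, a.2.trans hc1⟩, hc1, hc2⟩⟩
  have hN' : Nonempty I' := ⟨⟨b₀, le_rfl⟩⟩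
  let J' : I' → X''.IdealSheafData := fun b => J b.1
  have hJ' : Monotone J' := fun a b h => hJ h
  have hsup' : (⨆ b, J' b) = j''.ker := by
    rw [← hsup]
    apply le_antisymm
    · exact iSup_le fun b => le_iSup J b.1
    · refine iSup_le fun b => ?_
      obtain ⟨c, hc1, hc2⟩ := exists_ge_ge b b₀
      exact (hJ hc1).trans (le_iSup J' ⟨c, hc2⟩)
  haveI : IsConnected I'ᵒᵖ := IsCofiltered.isConnected _
  refine ⟨I', inferInstance, hD', hN', subDiag J' hJ' ⋙ Over.map f'',
    (Over.map f'').mapCone (subCone J' hJ' (⨆ b, J' b) (le_iSup J')),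
    isLimitMapConeOverMap f'' _ (isLimitSubCone J' hJ'), fun i => ⟨?_, ?_⟩, fun i i' a => ?_, ?_⟩
  · exact hb₀ i.unop.1 i.unop.2
  · have hlfp := hfp i.unop.1
    change LocallyOfFinitePresentation ((J i.unop.1).subschemeι ≫ f'')
    infer_instance
  · change IsClosedImmersion (Scheme.IdealSheafData.inclusion (hJ' (leOfHom a.unop)))
    infer_instance
  · have hk : j''.ker = (⨆ b, J' b).subschemeι.ker := by
      rw [Scheme.IdealSheafData.ker_subschemeι, hsup']
    have hiso := IsClosedImmersion.isIso_lift j'' (⨆ b, J' b).subschemeι hk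
    let e : (⨆ b, J' b).subscheme ≅ X :=
      @asIso _ _ _ _ (IsClosedImmersion.lift j'' (⨆ b, J' b).subschemeι hk.le) hiso
    have he : e.hom ≫ j'' = (⨆ b, J' b).subschemeι := IsClosedImmersion.lift_fac _ _ _
    have he' : e.hom ≫ f = (⨆ b, J' b).subschemeι ≫ f'' := by
      rw [← h8, ← Category.assoc, he]
    exact ⟨Over.isoMk (f := Over.mk ((⨆ b, J' b).subschemeι ≫ f'')) (g := Over.mk f) e he'⟩

end Groth.Agent.S7381
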