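import Groth.Statements.S7384
import Groth.Agent.Lib.Helper1.NAMor

set_option autoImplicit false
universe u
open CategoryTheory AlgebraicGeometry
open Lim
open Groth.Agent.Lib.Helper1.NA Opposite

namespace Groth.Agent.S7384

/-- Let `f : X → S` be a morphism of quasi-compact quasi-separated schemes. Then `f` is a limit of
morphisms `f_i : X_i → S_i` indexed by a nonempty directed set: there are inverse systems `X_i`,
`S_i` of quasi-compact schemes locally of finite type over `ℤ` with affine transition morphisms, a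
compatible family of morphisms `f_i`, and limit cones identified with `X` and `S` compatibly with
`f`. -/
theorem result {X S : Scheme.{u}} (f : X ⟶ S) [CompactSpace X]
    [QuasiSeparatedSpace X] [CompactSpace S] [QuasiSeparatedSpace S] :
    ∃ (I : Type u) (_ : Preorder I) (_ : IsDirected I (fun a b => a ≤ b)) (_ : Nonempty I)
      (DX DS : Iᵒᵖ ⥤ Scheme.{u}) (φ : DX ⟶ DS)
      (cX : Limits.Cone DX) (cS : Limits.Cone DS) (_ : Limits.IsLimit cX) (_ : Limits.IsLimit cS)
      (eX : cX.pt ≅ X) (eS : cS.pt ≅ S),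
      (∀ (i j : Iᵒᵖ) (a : i ⟶ j), IsAffineHom (DX.map a) ∧ IsAffineHom (DS.map a)) ∧
      (∀ i, CompactSpace (DX.obj i) ∧ CompactSpace (DS.obj i) ∧
        LocallyOfFiniteType (Limits.IsTerminal.from specULiftZIsTerminal (DX.obj i)) ∧
        LocallyOfFiniteType (Limits.IsTerminal.from specULiftZIsTerminal (DS.obj i))) ∧
      (∀ i, cX.π.app i ≫ φ.app i = eX.hom ≫ f ≫ eS.inv ≫ cS.π.app i) := by
  classical
  obtain ⟨PX⟩ := nonempty_pres X
  obtain ⟨PS⟩ := nonempty_pres S
  refine ⟨Tri f PX PS, inferInstance, inferInstance, inferInstance, Tri.DX f PX PS, Tri.DS f PX PS,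
    Tri.φ f PX PS, Tri.cX f PX PS, Tri.cS f PX PS, Tri.hcX f PX PS, Tri.hcS f PX PS, Iso.refl X,
    Iso.refl S, ?_, ?_, ?_⟩
  · intro i j a
    exact ⟨PX.haff _ _ _, PS.haff _ _ _⟩
  · intro i
    exact ⟨(PX.hft _).1, (PS.hft _).1, (PX.hft _).2, (PS.hft _).2⟩
  · intro i
    change PX.π.app (op i.unop.a) ≫ i.unop.g = 𝟙 X ≫ f ≫ 𝟙 S ≫ PS.π.app (op i.unop.b)
    rw [Category.id_comp, Category.id_comp]
    exact i.unop.w

end Groth.Agent.S7384
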