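import Groth.Statements.S7392
import Mathlib
import Groth.Agent.Helper19.QCohProj
-- import your own Groth.Agent.* helpers here

set_option autoImplicit false
universe u
open CategoryTheory AlgebraicGeometry
open Opposite
open Mor

namespace Groth.Agent.S7392

section helpers

theorem projective_compHom_iff {R S : Type u} [CommRing R] [CommRing S] (e : R ≃+* S)
    (N : Type u) [AddCommGroup N] [Module S N] :
    (letI := Module.compHom N (e : R →+* S); Module.Projective R N) ↔ Module.Projective S N := by
  letI := Module.compHom N (e : R →+* S)
  haveI : RingHomInvPair (e : R →+* S) (e.symm : S →+* R) := RingHomInvPair.of_ringEquiv e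
  haveI : RingHomInvPair (e.symm : S →+* R) (e : R →+* S) := RingHomInvPair.of_ringEquiv e.symm
  let e₂ : N ≃ₛₗ[(e : R →+* S)] N :=
    { AddEquiv.refl N with
      map_smul' := fun r n => rfl }
  constructor
  · intro h
    exact Module.Projective.of_equiv e₂
  · intro h
    exact Module.Projective.of_equiv e₂.symm

theorem projective_congr_module {R N : Type u} [CommRing R] [AddCommGroup N]
    (m1 m2 : Module R N) (h : ∀ (r : R) (x : N), m1.smul r x = m2.smul r x) :
    @Module.Projective R _ N _ m1 ↔ @Module.Projective R _ N _ m2 := by
  have : m1 = m2 := Module.ext' _ _ h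
  subst this
  rfl

theorem top_iff (A : CommRingCat.{u}) (M : ModuleCat.{u} A) :
    Module.Projective Γ(Spec A, ⊤) Γ(tilde M, ⊤) ↔ Module.Projective A M := by
  have h1 : Module.Projective A Γ(tilde M, ⊤) ↔ Module.Projective A M := by
    constructor
    · intro h
      haveI : Module.Projective A ↑((modulesSpecToSheaf.obj (tilde M)).presheaf.obj (op ⊤)) := h
      exact Module.Projective.of_equiv' (tilde.isoTop M).toLinearEquiv.symm
    · intro h
      exact Module.Projective.of_equiv' (tilde.isoTop M).toLinearEquiv
  rw [← h1]
  let e : A ≃+* Γ(Spec A, ⊤) := (Scheme.ΓSpecIso A).symm.commRingCatIsoToRingEquiv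
  have key := projective_compHom_iff e Γ(tilde M, ⊤)
  rw [← key]
  apply projective_congr_module
  intro r x
  change e r • x = r • x
  rw [Scheme.Modules.smul_Spec_def]
  congr 1

end helpers

/-- For a ring `A` and an `A`-module `M`, the module `M~` on `Spec A` is locally projective (projective
sections over every affine open) if and only if `M` is a projective `A`-module. -/
theorem result (A : CommRingCat.{u}) (M : ModuleCat.{u} A) :
    (∀ U : (Spec A).Opens, IsAffineOpen U →
      Module.Projective ((Spec A).ringCatSheaf.obj.obj (op U)) ((tilde M).val.obj (op U))) ↔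
      Module.Projective A M := by
  rw [← top_iff A M]
  constructor
  · intro h
    exact h ⊤ (isAffineOpen_top (Spec A))
  · intro h U hU
    exact Groth.Agent.Helper19.QCohProj.proj_of_affine_cover (tilde M) (I := PUnit.{u + 1})
      (fun _ => ⊤) (by simp) (fun _ => isAffineOpen_top (Spec A)) (fun _ => h) hU

end Groth.Agent.S7392
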