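import Groth.Statements.S7393
import Mathlib
import Groth.Agent.Lib.Helper23.GScheme
-- import your own Groth.Agent.* helpers here

set_option autoImplicit false
universe u
open CategoryTheory AlgebraicGeometry
open Mor

namespace Groth.Agent.S7393
open IsLocalRing Groth.Agent.Lib.Helper18.Exc Groth.Agent.Lib.Helper9.ClosedPt Groth.Agent.Lib.Helper23.GScheme


/-- A scheme `X` is a G-scheme (every point has an affine open neighbourhood whose coordinate ring is a
G-ring) if and only if `X` is locally Noetherian and, for every closed point `x`, the completion map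
of the local ring `O_{X,x} → O_{X,x}^∧` is a regular ring map. -/
theorem result (X : Scheme.{u}) :
    (∀ x : X, ∃ U : X.Opens, x ∈ U ∧ IsAffineOpen U ∧ CAlg.IsGRing Γ(X, U)) ↔
      IsLocallyNoetherian X ∧ ∀ x : X, IsClosed ({x} : Set X) →
        CAlg.IsRegularHom (X.presheaf.stalk x)
          (AdicCompletion (IsLocalRing.maximalIdeal (X.presheaf.stalk x)) (X.presheaf.stalk x)) := by
  constructor
  · intro h
    choose U hxU hUaff hUG using h
    haveI : IsLocallyNoetherian X := by
      refine isLocallyNoetherian_of_affine_cover (S := fun x : X => (⟨U x, hUaff x⟩ : X.affineOpens))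
        ?_ (fun x => (hUG x).1)
      rw [eq_top_iff]
      intro x _
      exact TopologicalSpace.Opens.mem_iSup.mpr ⟨x, hxU x⟩
    refine ⟨inferInstance, fun x _ => ?_⟩
    exact (stalk_iff (hUaff x) ⟨x, hxU x⟩).mpr ((hUG x).2 _)
  · rintro ⟨hN, h⟩ x
    obtain ⟨_, ⟨U, hU : IsAffineOpen U, rfl⟩, hxU, -⟩ :=
      X.isBasis_affineOpens.exists_subset_of_mem_open (Set.mem_univ x) isOpen_univ
    refine ⟨U, hxU, hU, ?_⟩
    haveI : IsNoetherianRing Γ(X, U) := IsLocallyNoetherian.component_noetherian ⟨U, hU⟩
    refine ⟨inferInstance, fun p hp => ?_⟩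
    obtain ⟨y, hy⟩ := primeIdealOf_surjective hU ⟨p, hp⟩
    obtain ⟨z, hz, hyz⟩ := exists_isClosed_specializes (y : X)
    have h1 := pt_of_specializes hyz (h z hz)
    have h2 := (stalk_iff hU y).mp h1
    have h3 : (hU.primeIdealOf y).asIdeal = p := congrArg PrimeSpectrum.asIdeal hy
    exact isRegularHom_cpl_congr h3 h2

end Groth.Agent.S7393
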