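import Groth.Statements.S7395
import Groth.Agent.Lib.Helper1.NACI
import Groth.Agent.Lib.Helper13.LimSeparated

set_option autoImplicit false
universe u
open CategoryTheory AlgebraicGeometry
open Lim
open Groth.Agent.Lib.Helper1.NA Opposite

namespace Groth.Agent.S7395

/-- Let `f : X → S` be separated and of finite type with `S` quasi-compact and quasi-separated. Then
there are a separated morphism `f' : X' → S` of finite presentation and a closed immersion `X → X'`
over `S`. -/
theorem result {X S : Scheme.{u}} (f : X ⟶ S) [IsSeparated f]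
    [LocallyOfFiniteType f] [QuasiCompact f] [CompactSpace S] [QuasiSeparatedSpace S] :
    ∃ (X' : Scheme.{u}) (f' : X' ⟶ S) (j : X ⟶ X'), IsSeparated f' ∧ LocallyOfFinitePresentation f' ∧
      QuasiCompact f' ∧ IsClosedImmersion j ∧ j ≫ f' = f := by
  classical
  have hX : CompactSpace X := QuasiCompact.compactSpace_of_compactSpace f
  have hXq : QuasiSeparatedSpace X := quasiSeparatedSpace_of_quasiSeparated f
  obtain ⟨I, hP, hD, hne, D, s, c, hc, e, hcomm, hfp, haff, hπ, hcomp⟩ := exists_fp_limit' f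
  have hne2 := hne
  obtain ⟨i₀⟩ := hne2
  have hA : ∀ {i j : Iᵒᵖ} (a : i ⟶ j), IsAffineHom (D.map a) := fun a => haff _ _ a
  let sa : ∀ i : Iᵒᵖ, D.obj i ⟶ S := fun i => s.app i
  have hC : ∀ i, CompactSpace (D.obj i) := hcomp
  have hQ : ∀ i, QuasiSeparatedSpace (D.obj i) := fun i =>
    have : QuasiSeparated (sa i) := (hfp i).2.2
    quasiSeparatedSpace_of_quasiSeparated (sa i)
  have hlft : LocallyOfFiniteType (c.π.app (op i₀)) := by
    have h0 : coneLeg D c (op i₀) ≫ strMap D s (op i₀) = e.hom ≫ f := hcomm _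
    have h1 : LocallyOfFiniteType (coneLeg D c (op i₀) ≫ strMap D s (op i₀)) := by
      rw [h0]; infer_instance
    exact locallyOfFiniteType_of_comp (coneLeg D c (op i₀)) (strMap D s (op i₀))
  obtain ⟨j, hj, hci⟩ := exists_isClosedImmersion_π D c hc haff i₀
  have hsep : IsSeparated (c.π.app (op i₀) ≫ s.app (op i₀)) := by
    rw [hcomm]; infer_instance
  obtain ⟨i₁, hi₁⟩ := Groth.Agent.Lib.Helper13.exists_isSeparated_app D s c hc (op i₀)
  obtain ⟨k, hk1, hk2⟩ := exists_ge_ge j i₁.unop
  have hk := hci k hk1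
  have hs : IsSeparated (strMap D s (op k)) := hi₁ (op k) (homOfLE hk2).op
  have h0 : coneLeg D c (op k) ≫ strMap D s (op k) = e.hom ≫ f := hcomm _
  refine ⟨D.obj (op k), strMap D s (op k), e.inv ≫ coneLeg D c (op k), hs, (hfp _).1, (hfp _).2.1,
    inferInstance, ?_⟩
  rw [Category.assoc, h0, Iso.inv_hom_id_assoc]

end Groth.Agent.S7395
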