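import Groth.Statements.S7396
import Groth.Agent.Lib.Helper1.ISFin

set_option autoImplicit false
universe u
open CategoryTheory AlgebraicGeometry
open Lim
open Groth.Agent.Lib.Helper1.NA Opposite

namespace Groth.Agent.S7396

/-- Let `f : X → S` be finite with `S` quasi-compact and quasi-separated. Then there are a morphism `f'
: X' → S` which is finite and of finite presentation and a closed immersion `X → X'` over `S`. -/
theorem result {X S : Scheme.{u}} (f : X ⟶ S) [IsFinite f]
    [CompactSpace S] [QuasiSeparatedSpace S] :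
    ∃ (X' : Scheme.{u}) (f' : X' ⟶ S) (j : X ⟶ X'), IsFinite f' ∧ LocallyOfFinitePresentation f' ∧
      IsClosedImmersion j ∧ j ≫ f' = f := by
  obtain ⟨X'', f'', j'', h1, h2, h3, h4, h5, h6, h7, h8⟩ := exists_closedImmersion_fp_affine f
  obtain ⟨I, hP, hD, hN, J, hJ, hsup, hfp⟩ := exists_closed_fp_family j''
  have hint : IsIntegralHom (j'' ≫ f'') := by rw [h8]; infer_instance
  have hlft : LocallyOfFiniteType f'' := inferInstance
  obtain ⟨b₀, hb₀⟩ := exists_isFinite_subscheme f'' j'' J hJ hsup
  have hker : (J b₀).subschemeι.ker ≤ j''.ker := by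
    rw [Scheme.IdealSheafData.ker_subschemeι, ← hsup]
    exact le_iSup J b₀
  let j : X ⟶ (J b₀).subscheme := IsClosedImmersion.lift (J b₀).subschemeι j'' hker
  have hj : j ≫ (J b₀).subschemeι = j'' := IsClosedImmersion.lift_fac _ _ _
  have hcj : IsClosedImmersion (j ≫ (J b₀).subschemeι) := by rw [hj]; infer_instance
  have hlfp := hfp b₀
  refine ⟨(J b₀).subscheme, (J b₀).subschemeι ≫ f'', j, hb₀ b₀ le_rfl, inferInstance,
    IsClosedImmersion.of_comp j (J b₀).subschemeι, ?_⟩
  rw [← Category.assoc, hj, h8]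

end Groth.Agent.S7396
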