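import Groth.Statements.S7397
-- import your own Groth.Agent.* helpers here

set_option autoImplicit false
universe u
open Mor

namespace Groth.Agent.S7397

/-- Let `A ⊆ B` be a ring extension and `b ∈ B`, `b ∉ A`, with `b^n, b^(n+1) ∈ A` for some `n ≥ 2`. Then
some `b' ∈ B` with `b' ∉ A` has `b'^2 ∈ A` and `b'^3 ∈ A`. -/
theorem result {B : Type u} [CommRing B] (A : Subring B) (b : B) (hb : b ∉ A)
    (n : ℕ) (hn : 2 ≤ n) (h1 : b ^ n ∈ A) (h2 : b ^ (n + 1) ∈ A) :
    ∃ b' : B, b' ∉ A ∧ b' ^ 2 ∈ A ∧ b' ^ 3 ∈ A := by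
  classical
  have hbig : ∀ m, n * n ≤ m → b ^ m ∈ A := by
    intro m hm
    have hn0 : 0 < n := by omega
    have hq : n ≤ m / n := by
      rw [Nat.le_div_iff_mul_le hn0]
      exact hm
    have hr : m % n < n := Nat.mod_lt _ hn0
    have hm' : m = n * (m / n - m % n) + (n + 1) * (m % n) := by
      have h3 := Nat.div_add_mod m n
      have h4 : n * (m / n - m % n) = n * (m / n) - n * (m % n) := Nat.mul_sub n _ _
      have h5 : n * (m % n) ≤ n * (m / n) := Nat.mul_le_mul_left n (by omega)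
      rw [h4, add_mul, one_mul]
      omega
    rw [hm', pow_add, pow_mul, pow_mul]
    exact A.mul_mem (A.pow_mem h1 _) (A.pow_mem h2 _)
  let P : ℕ → Prop := fun m => b ^ m ∉ A
  have hP1 : P 1 := by
    change b ^ 1 ∉ A
    rwa [pow_one]
  have h1N : 1 ≤ n * n := Nat.mul_pos (by omega) (by omega)
  have hk := Nat.findGreatest_spec (P := P) h1N hP1
  have hk1 : 1 ≤ Nat.findGreatest P (n * n) := Nat.le_findGreatest h1N hP1
  have hgt : ∀ m, Nat.findGreatest P (n * n) < m → b ^ m ∈ A := by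
    intro m hm
    by_cases hmN : m ≤ n * n
    · have := Nat.findGreatest_is_greatest (P := P) hm hmN
      change ¬ (b ^ m ∉ A) at this
      exact not_not.mp this
    · exact hbig m (by omega)
  refine ⟨b ^ Nat.findGreatest P (n * n), hk, ?_, ?_⟩
  · rw [← pow_mul]
    exact hgt _ (by omega)
  · rw [← pow_mul]
    exact hgt _ (by omega)

end Groth.Agent.S7397
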