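import Groth.Statements.S7398
import Groth.Agent.Lib.Helper6.SqCube
-- import your own Groth.Agent.* helpers here

set_option autoImplicit false
universe u
open CategoryTheory AlgebraicGeometry
open Mor

namespace Groth.Agent.S7398

/-- Let `A ⊆ B` be a ring extension with `A ≠ B` such that `Spec B → Spec A` is a universal
homeomorphism whose residue field extensions are all trivial. Then some `b ∈ B` with `b ∉ A` has
`b^2 ∈ A` and `b^3 ∈ A`. (Here `A → B` is an injective, non-surjective ring map and membership in
`A` means membership in its image.) -/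
theorem result {A B : Type u} [CommRing A] [CommRing B]
    (φ : A →+* B) (hinj : Function.Injective φ) (hns : ¬ Function.Surjective φ)
    (hU : FlatMor.IsUnivHomeo (Spec.map (CommRingCat.ofHom φ)))
    (hres : ∀ x : Spec (CommRingCat.of B), Function.Surjective ((Spec.map (CommRingCat.ofHom φ)).residueFieldMap x)) :
    ∃ b : B, b ∉ φ.range ∧ b ^ 2 ∈ φ.range ∧ b ^ 3 ∈ φ.range := by
  letI : Algebra A B := φ.toAlgebra
  have hne : ¬ Function.Surjective (algebraMap A B) := hns
  have hU' : FlatMor.IsUnivHomeo (Spec.map (CommRingCat.ofHom (algebraMap A B))) := hU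
  have htriv : Groth.Agent.Lib.Helper6.UnivHomeoRing.TrivRF A B :=
    (Groth.Agent.Lib.Helper6.UnivHomeoRing.trivRF_iff A B).mpr hres
  exact Groth.Agent.Lib.Helper6.SqCube.exists_sq_cube hne hU' htriv

end Groth.Agent.S7398
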