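import Groth.Statements.S7404
import Groth.Agent.Lib.Helper6.UnivHomeoRing
-- import your own Groth.Agent.* helpers here

set_option autoImplicit false
universe u
open CategoryTheory AlgebraicGeometry
open Mor

namespace Groth.Agent.S7404

/-- Let `A → B` be a ring map and `B' ⊆ B` an `A`-subalgebra, with `f : Spec B → Spec A` and `f' : Spec
B' → Spec A` the induced morphisms. Each of the following properties passes from `f` to `f'`: being
a universal homeomorphism; being a universal homeomorphism with trivial residue field extensions;
being universally closed; being both universally closed and universally injective. -/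
theorem result {A B : Type u} [CommRing A] [CommRing B] [Algebra A B]
    (B' : Subalgebra A B) :
    (FlatMor.IsUnivHomeo (Spec.map (CommRingCat.ofHom (algebraMap A B))) →
      FlatMor.IsUnivHomeo (Spec.map (CommRingCat.ofHom (algebraMap A B')))) ∧
    ((FlatMor.IsUnivHomeo (Spec.map (CommRingCat.ofHom (algebraMap A B))) ∧
      ∀ x : Spec (CommRingCat.of B),
        Function.Surjective ((Spec.map (CommRingCat.ofHom (algebraMap A B))).residueFieldMap x)) →
      FlatMor.IsUnivHomeo (Spec.map (CommRingCat.ofHom (algebraMap A B'))) ∧
      ∀ x : Spec (CommRingCat.of B'),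
        Function.Surjective ((Spec.map (CommRingCat.ofHom (algebraMap A B'))).residueFieldMap x)) ∧
    (UniversallyClosed (Spec.map (CommRingCat.ofHom (algebraMap A B))) →
      UniversallyClosed (Spec.map (CommRingCat.ofHom (algebraMap A B')))) ∧
    (UniversallyClosed (Spec.map (CommRingCat.ofHom (algebraMap A B))) →
      UniversallyInjective (Spec.map (CommRingCat.ofHom (algebraMap A B))) →
      UniversallyClosed (Spec.map (CommRingCat.ofHom (algebraMap A B'))) ∧
      UniversallyInjective (Spec.map (CommRingCat.ofHom (algebraMap A B')))) := by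
  refine ⟨Groth.Agent.Lib.Helper6.UnivHomeoRing.isUnivHomeo_subalgebra B', ?_, Groth.Agent.Lib.Helper6.UnivHomeoRing.universallyClosed_subalgebra B', ?_⟩
  · rintro ⟨h1, h2⟩
    have huc := Groth.Agent.Lib.Helper12.IsUnivHomeo.universallyClosed h1
    exact ⟨Groth.Agent.Lib.Helper6.UnivHomeoRing.isUnivHomeo_subalgebra B' h1,
      Groth.Agent.Lib.Helper6.UnivHomeoRing.residueFieldMap_surjective_subalgebra B' huc h2⟩
  · intro h1 h2
    exact ⟨Groth.Agent.Lib.Helper6.UnivHomeoRing.universallyClosed_subalgebra B' h1,
      Groth.Agent.Lib.Helper6.UnivHomeoRing.universallyInjective_subalgebra B' h1 h2⟩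

end Groth.Agent.S7404
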