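import Groth.Statements.S7412
-- import your own Groth.Agent.* helpers here

set_option autoImplicit false
universe u
open Desc

namespace Groth.Agent.S7412

/-- Let `R` be a ring and `f : M → N` a map of `R`-modules. Then `f` is universally injective (`f ⊗ 1_P`
is injective for every `R`-module `P`; here `P` ranges over modules in the same universe, which
suffices) if and only if the map of character modules `C(N) → C(M)`, `C(-) = Hom_ℤ(-, ℚ/ℤ)`, is a
split surjection of `R`-modules. -/
theorem result {R : Type u} [CommRing R] {M N : Type u}
    [AddCommGroup M] [Module R M] [AddCommGroup N] [Module R N] (f : M →ₗ[R] N) :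
    (∀ (P : Type u) [AddCommGroup P] [Module R P], Function.Injective (f.lTensor P)) ↔
      ∃ g : CharacterModule M →ₗ[R] CharacterModule N, (CharacterModule.dual f).comp g = LinearMap.id := by
  constructor
  · intro h
    have hsurj := CharacterModule.dual_surjective_of_injective _ (h (CharacterModule M))
    obtain ⟨c', hc'⟩ := hsurj (CharacterModule.homEquiv (R := R) (A := CharacterModule M) (B := M)
      LinearMap.id)
    refine ⟨CharacterModule.homEquiv.symm c', ?_⟩
    ext φ m
    have h1 : c' ((f.lTensor (CharacterModule M)) (φ ⊗ₜ[R] m)) =
        (CharacterModule.homEquiv (R := R) (A := CharacterModule M) (B := M) LinearMap.id)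
          (φ ⊗ₜ[R] m) := congr($hc' (φ ⊗ₜ[R] m))
    rw [LinearMap.lTensor_tmul] at h1
    change c' (φ ⊗ₜ[R] f m) = φ m
    rw [h1]
    rfl
  · rintro ⟨g, hg⟩ P _ _
    rw [← CharacterModule.dual_surjective_iff_injective]
    intro c
    refine ⟨CharacterModule.homEquiv (g.comp (CharacterModule.homEquiv.symm c)), ?_⟩
    apply CharacterModule.ext
    intro x
    induction x using TensorProduct.induction_on with
    | zero => simp
    | tmul p m =>
      have h1 : (g (CharacterModule.homEquiv.symm c p)) (f m) =
          (CharacterModule.homEquiv.symm c p) m := congr($hg (CharacterModule.homEquiv.symm c p) m)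
      change (CharacterModule.homEquiv (g.comp (CharacterModule.homEquiv.symm c)))
        ((f.lTensor P) (p ⊗ₜ[R] m)) = c (p ⊗ₜ[R] m)
      rw [LinearMap.lTensor_tmul]
      have h2 : (CharacterModule.homEquiv (g.comp (CharacterModule.homEquiv.symm c)))
          (p ⊗ₜ[R] f m) = (g (CharacterModule.homEquiv.symm c p)) (f m) := rfl
      rw [h2, h1]
      rfl
    | add x y hx hy => rw [map_add, map_add, hx, hy]

end Groth.Agent.S7412
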