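import Groth.Statements.S7413
import Mathlib
import Groth.Agent.Helper19.QCohProj
import Groth.Agent.Lib.Helper29.QCohPullback
-- import your own Groth.Agent.* helpers here

set_option autoImplicit false
universe u
open CategoryTheory AlgebraicGeometry
open Opposite
open Mor

namespace Groth.Agent.S7413

open Groth.Agent.Lib.Helper29.QCoh in

/-- Let `f : X → Y` be a morphism of schemes and `G` a quasi-coherent, locally projective `O_Y`-module
(projective sections over every affine open). Then `f^* G` is locally projective on `X`. -/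
theorem result {X Y : Scheme.{u}} (f : X ⟶ Y) (G : Y.Modules) [Coh.IsQCoh G]
    (hG : ∀ V : Y.Opens, IsAffineOpen V → Module.Projective (Y.ringCatSheaf.obj.obj (op V)) (G.val.obj (op V)))
    (U : X.Opens) (hU : IsAffineOpen U) :
    Module.Projective (X.ringCatSheaf.obj.obj (op U)) (((Scheme.Modules.pullback f).obj G).val.obj (op U)) := by
  haveI : G.IsQuasicoherent := ‹Coh.IsQCoh G›
  haveI : ((Scheme.Modules.pullback f).obj G).IsQuasicoherent := isQuasicoherent_pullback f G
  refine Groth.Agent.Helper19.QCohProj.proj_of_affine_cover ((Scheme.Modules.pullback f).obj G)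
    (I := AffinePairs f) (fun p => (p.1.1 : X.Opens)) (isOpenCover_affinePairs f)
    (fun p => p.1.1.2) (fun p => ?_) hU
  letI := (f.appLE p.1.2.1 p.1.1.1 p.2).hom.toAlgebra
  haveI : Module.Projective Γ(Y, p.1.2.1) Γ(G, p.1.2.1) := hG p.1.2.1 p.1.2.2
  exact Module.Projective.of_equiv' (pullbackSectionsEquiv f G p.1.1.2 p.1.2.2 p.2).symm

end Groth.Agent.S7413
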