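import Groth.Statements.S7414
import Mathlib
import Groth.Agent.Lib.Helper18.Exc3

set_option autoImplicit false
universe u
open CategoryTheory AlgebraicGeometry
open Mor

namespace Groth.Agent.S7414

/-- A scheme `X` is a G-scheme (every point has an affine open neighbourhood with G-ring coordinate
ring) if and only if `O_X(U)` is a G-ring for every affine open `U ⊆ X`. -/
theorem result (X : Scheme.{u}) :
    (∀ x : X, ∃ U : X.Opens, x ∈ U ∧ IsAffineOpen U ∧ CAlg.IsGRing Γ(X, U)) ↔
      ∀ U : X.Opens, IsAffineOpen U → CAlg.IsGRing Γ(X, U) := by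
  constructor
  · intro h V hV
    choose U hxU hUaff hUG using h
    refine of_affine_open_cover (P := fun W => CAlg.IsGRing Γ(X, W.1))
      (fun x : X => (⟨U x, hUaff x⟩ : X.affineOpens)) ?_ ⟨V, hV⟩ ?_ ?_ (fun x => hUG x)
    · rw [eq_top_iff]
      intro x _
      exact TopologicalSpace.Opens.mem_iSup.mpr ⟨x, hxU x⟩
    · intro W f hW
      have := W.2.isLocalization_basicOpen f
      exact Groth.Agent.Lib.Helper18.Exc.isGRing_of_isLocalization Γ(X, W.1)
        (Submonoid.powers f) Γ(X, X.basicOpen f) hW
    · intro W s hs hall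
      apply Groth.Agent.Lib.Helper18.Exc.isGRing_of_span_eq_top _ s hs
      intro f hf
      exact ⟨Γ(X, X.basicOpen f), inferInstance, inferInstance,
        W.2.isLocalization_basicOpen f, hall ⟨f, hf⟩⟩
  · intro h x
    obtain ⟨U, hU, hxU, -⟩ := TopologicalSpace.Opens.isBasis_iff_nbhd.mp X.isBasis_affineOpens
      (show x ∈ (⊤ : X.Opens) from trivial)
    exact ⟨U, hxU, hU, h U hU⟩

end Groth.Agent.S7414
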