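import Groth.Statements.S7415
-- import your own Groth.Agent.* helpers here

set_option autoImplicit false
universe u
open CategoryTheory AlgebraicGeometry
open Mor

namespace Groth.Agent.S7415

/-- Let `X` be a reduced scheme with finitely many irreducible components and `x ∈ X`. Then `x` has an
affine open neighbourhood `U` such that `O_X(U) → O_{X,x}` is injective. -/
theorem result (X : Scheme.{u}) [AlgebraicGeometry.IsReduced X]
    (hirr : (irreducibleComponents (X : Type u)).Finite) (x : X) : X.IsGermInjectiveAt x := by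
  classical
  -- the union of the components not containing `x`
  set T : Set X := ⋃ Z ∈ {Z ∈ irreducibleComponents (X : Type u) | x ∉ Z}, Z with hT
  have hTc : IsClosed T := by
    refine Set.Finite.isClosed_biUnion (hirr.subset fun Z hZ ↦ hZ.1) ?_
    exact fun Z hZ ↦ isClosed_of_mem_irreducibleComponents Z hZ.1
  have hxT : x ∉ T := by
    simp only [hT, Set.mem_iUnion, not_exists]
    exact fun Z hZ hx ↦ hZ.2 hx
  obtain ⟨_, ⟨U, hU : IsAffineOpen U, rfl⟩, hxU, hUT⟩ :=
    (X.isBasis_affineOpens).exists_subset_of_mem_open (show x ∈ Tᶜ from hxT) hTc.isOpen_compl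
  refine ⟨⟨U, hxU, hU, ?_⟩⟩
  rw [injective_iff_map_eq_zero]
  intro s hs
  rw [← basicOpen_eq_bot_iff]
  by_contra hne
  obtain ⟨y, hy⟩ : ∃ y, y ∈ X.basicOpen s := by
    by_contra h
    apply hne
    ext z
    simp only [not_exists] at h
    simpa using h z
  have hyU : y ∈ U := X.basicOpen_le s hy
  -- the component through `y` contains `x`
  have hxZ : x ∈ irreducibleComponent y := by
    by_contra hx
    exact hUT hyU (Set.mem_biUnion (x := irreducibleComponent y)
      ⟨irreducibleComponent_mem_irreducibleComponents y, hx⟩ mem_irreducibleComponent)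
  obtain ⟨V, hxV, iU, iV, e⟩ := X.presheaf.germ_eq x hxU hxU s 0 (by rw [hs, map_zero])
  have hV : V ⊓ X.basicOpen s = ⊥ := by
    rw [← Scheme.basicOpen_res _ _ iU.op, e, map_zero, Scheme.basicOpen_zero]
  have := (isIrreducible_irreducibleComponent (x := y)).isPreirreducible V (X.basicOpen s)
    V.2 (X.basicOpen s).2 ⟨x, hxZ, hxV⟩ ⟨y, mem_irreducibleComponent, hy⟩
  obtain ⟨z, -, hzV, hzs⟩ := this
  have : z ∈ V ⊓ X.basicOpen s := ⟨hzV, hzs⟩
  rw [hV] at this
  exact this

end Groth.Agent.S7415
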