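import Groth.Statements.S7416
-- import your own Groth.Agent.* helpers here

set_option autoImplicit false
universe u
open CategoryTheory AlgebraicGeometry
open Mor

namespace Groth.Agent.S7416

lemma aux {X : Scheme.{u}} {U₀ : X.Opens} (hU : IsAffineOpen U₀) (f : Γ(X, U₀)) (D : X.Opens)
    (hD : D = X.basicOpen f) (g : Γ(X, D)) : ∃ f' : Γ(X, U₀), X.basicOpen f' = X.basicOpen g := by
  subst hD
  exact hU.basicOpen_basicOpen_is_basicOpen f g

/-- Let `U`, `V` be affine schemes and `W → U`, `W → V` open immersions. Then every `w ∈ W` has an open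
neighbourhood `W' ⊆ W` whose images in `U` and in `V` are standard opens `D(f) ⊆ U`, `D(g) ⊆ V` (in
particular `W'` is affine). -/
theorem result {U V W : Scheme.{u}} [IsAffine U]
    [IsAffine V] (i : W ⟶ U) (j : W ⟶ V) [IsOpenImmersion i] [IsOpenImmersion j] (w : W) :
    ∃ (W' : W.Opens) (f : Γ(U, ⊤)) (g : Γ(V, ⊤)), w ∈ W' ∧ i ''ᵁ W' = U.basicOpen f ∧ j ''ᵁ W' = V.basicOpen g := by
  obtain ⟨f₁, hf₁, hwf₁⟩ := (isAffineOpen_top U).exists_basicOpen_le (V := i.opensRange)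
    ⟨i w, ⟨w, rfl⟩⟩ trivial
  set W₁ : W.Opens := i ⁻¹ᵁ (U.basicOpen f₁) with hW₁
  have hiW₁ : i ''ᵁ W₁ = U.basicOpen f₁ := by
    rw [hW₁, i.image_preimage_eq_opensRange_inf, inf_eq_right]
    exact hf₁
  have hwW₁ : w ∈ W₁ := hwf₁
  obtain ⟨g₁, hg₁, hwg₁⟩ := (isAffineOpen_top V).exists_basicOpen_le (V := j ''ᵁ W₁)
    ⟨j w, ⟨w, hwW₁, rfl⟩⟩ trivial
  set W' : W.Opens := j ⁻¹ᵁ (V.basicOpen g₁) with hW'
  have hjW' : j ''ᵁ W' = V.basicOpen g₁ := by
    rw [hW', j.image_preimage_eq_opensRange_inf, inf_eq_right]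
    exact hg₁.trans (j.image_le_opensRange _)
  have hW'W₁ : W' ≤ W₁ := by
    intro x hx
    obtain ⟨x', hx', e⟩ := hg₁ hx
    rwa [← j.isOpenEmbedding.injective e]
  let r : Γ(W, W₁) := W.presheaf.map (homOfLE le_top).op (j.appTop g₁)
  have hr : W.basicOpen r = W' := by
    rw [Scheme.basicOpen_res, ← Scheme.preimage_basicOpen_top, inf_eq_right]
    exact hW'W₁
  obtain ⟨f, hf⟩ := aux (isAffineOpen_top U) f₁ (i ''ᵁ W₁) hiW₁ ((i.appIso W₁).inv r)
  refine ⟨W', f, g₁, hwg₁, ?_, hjW'⟩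
  rw [hf, ← Scheme.image_basicOpen, hr]

end Groth.Agent.S7416
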