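import Groth.Statements.S7426
import Groth.Agent.Lib.Helper6.AWNScheme2
-- import your own Groth.Agent.* helpers here

set_option autoImplicit false
universe u
open CategoryTheory AlgebraicGeometry
open HTop

namespace Groth.Agent.S7426

/-- For a scheme `X` the following are equivalent: `X` is absolutely weakly normal; `X^awn → X` is an
isomorphism (equivalently, the identity of `X` is an absolute weak normalization); every universal
homeomorphism `Y → X` with `Y` reduced is an isomorphism. -/
theorem result (X : Scheme.{u}) :
    (HTop.IsAWN X ↔ HTop.IsAWNormalization (𝟙 X)) ∧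
    (HTop.IsAWN X ↔ ∀ (Y : Scheme.{u}) (π : Y ⟶ X), FlatMor.IsUnivHomeo π → AlgebraicGeometry.IsReduced Y → IsIso π) := by
  constructor
  · constructor
    · intro hX
      exact Groth.Agent.Lib.Helper6.AWNSch.isAWNormalization_of_isAWN (𝟙 X)
        (Groth.Agent.Lib.Helper12.isUnivHomeo_of_isIso _) hX
    · intro h
      exact Groth.Agent.Lib.Helper6.AWNSch.isAWN_source_of_isAWNormalization (𝟙 X) h
  · constructor
    · intro hX Y π hπ hY
      exact Groth.Agent.Lib.Helper6.AWNSch.isIso_of_isAWN_of_isReduced hX π hπ
    · intro H
      obtain ⟨G, ν, hν, hG⟩ := Groth.Agent.Lib.Helper6.AWNSch.exists_isAWNormalization X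
      have hred := Groth.Agent.Lib.Helper6.AWNSch.isReduced_of_isAWN hG
      have hiso : IsIso ν := H G ν hν.1 hred
      have : IsIso (inv ν) := inferInstance
      exact Groth.Agent.Lib.Helper6.AWNSch.isAWN_of_isIso (inv ν) hG

end Groth.Agent.S7426
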