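import Groth.Statements.S7431
import Mathlib.Algebra.Category.Ring.Constructions
import Mathlib.AlgebraicGeometry.Morphisms.OpenImmersion

set_option autoImplicit false
universe u
open CategoryTheory AlgebraicGeometry
open Lim

namespace Groth.Agent.S7431

open Limits in
lemma pullback_elems {B B' R R' : Type u} [CommRing B] [CommRing B'] [CommRing R] [CommRing R']
    (s : B →+* R) (t : R' →+* R) (p : B' →+* B) (q : B' →+* R')
    (hsq : IsPullback (CommRingCat.ofHom p) (CommRingCat.ofHom q) (CommRingCat.ofHom s)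
      (CommRingCat.ofHom t)) :
    (∀ b r', s b = t r' → ∃ b', p b' = b ∧ q b' = r') ∧
    (∀ b' b'', p b' = p b'' → q b' = q b'' → b' = b'') := by
  let e : CommRingCat.of B' ≅
      (CommRingCat.pullbackCone (CommRingCat.ofHom s) (CommRingCat.ofHom t)).pt :=
    hsq.isLimit.conePointUniqueUpToIso
      (CommRingCat.pullbackConeIsLimit (CommRingCat.ofHom s) (CommRingCat.ofHom t))
  have h1 : e.hom ≫ (CommRingCat.pullbackCone (CommRingCat.ofHom s) (CommRingCat.ofHom t)).fst =
      CommRingCat.ofHom p :=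
    IsLimit.conePointUniqueUpToIso_hom_comp _ _ WalkingCospan.left
  have h2 : e.hom ≫ (CommRingCat.pullbackCone (CommRingCat.ofHom s) (CommRingCat.ofHom t)).snd =
      CommRingCat.ofHom q :=
    IsLimit.conePointUniqueUpToIso_hom_comp _ _ WalkingCospan.right
  have h1' : e.inv ≫ CommRingCat.ofHom p =
      (CommRingCat.pullbackCone (CommRingCat.ofHom s) (CommRingCat.ofHom t)).fst :=
    (Iso.inv_comp_eq _).mpr h1.symm
  have h2' : e.inv ≫ CommRingCat.ofHom q =
      (CommRingCat.pullbackCone (CommRingCat.ofHom s) (CommRingCat.ofHom t)).snd :=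
    (Iso.inv_comp_eq _).mpr h2.symm
  constructor
  · intro b r' h
    refine ⟨e.inv.hom ⟨(b, r'), h⟩, ?_, ?_⟩
    · exact congr(($h1').hom ⟨(b, r'), h⟩)
    · exact congr(($h2').hom ⟨(b, r'), h⟩)
  · intro b' b'' hp hq
    have hinj : Function.Injective e.hom.hom := (ConcreteCategory.bijective_of_isIso e.hom).1
    apply hinj
    apply Subtype.ext
    apply Prod.ext
    · exact (congr(($h1).hom b')).trans (hp.trans (congr(($h1).hom b'')).symm)
    · exact (congr(($h2).hom b')).trans (hq.trans (congr(($h2).hom b'')).symm)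

lemma awayMap_bijective {B B' R R' : Type u} [CommRing B] [CommRing B'] [CommRing R]
    [CommRing R'] (s : B →+* R) (t : R' →+* R) (p : B' →+* B) (q : B' →+* R')
    (hw : ∀ x, s (p x) = t (q x))
    (hex : ∀ b r', s b = t r' → ∃ b', p b' = b ∧ q b' = r')
    (huniq : ∀ b' b'', p b' = p b'' → q b' = q b'' → b' = b'')
    (h : B') (hiso : Function.Bijective (Localization.awayMap s (p h))) :
    Function.Bijective (Localization.awayMap q h) := by
  obtain ⟨hinj, hsurj⟩ := hiso
  rw [Localization.awayMap_injective_iff] at hinj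
  rw [Localization.awayMap_surjective_iff] at hsurj
  constructor
  · rw [Localization.awayMap_injective_iff]
    intro b' hb'
    obtain ⟨n, hn⟩ := hinj (p b') (by rw [hw, hb', map_zero])
    refine ⟨n, huniq _ _ ?_ ?_⟩
    · rw [map_mul, map_pow, hn, map_zero]
    · rw [map_mul, hb', mul_zero, map_zero]
  · rw [Localization.awayMap_surjective_iff]
    intro r'
    obtain ⟨b, m, hb⟩ := hsurj (t r')
    obtain ⟨b', -, hb'⟩ := hex b (q h ^ m * r') (by rw [hb, map_mul, map_pow, hw])
    exact ⟨b', m, hb'⟩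

/-- Let `B' = B ×_R R'` be a cartesian square of rings with maps `s : B → R`, `t : R' → R`, and let `W'
= D(f_1) ∪ … ∪ D(f_n) ⊆ Spec R'` with `t(f_i) = s(g_i)` for elements `g_i ∈ B` such that `B_{g_i} →
R_{s(g_i)}` is an isomorphism for each `i`. Then the composite `W' → Spec R' → Spec B'`, the second
map coming from `B' → R'`, is an open immersion. -/
theorem result {B B' R R' : Type u} [CommRing B] [CommRing B']
    [CommRing R] [CommRing R'] (s : B →+* R) (t : R' →+* R) (p : B' →+* B) (q : B' →+* R')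
    (hsq : IsPullback (CommRingCat.ofHom p) (CommRingCat.ofHom q) (CommRingCat.ofHom s) (CommRingCat.ofHom t))
    {n : ℕ} (f : Fin n → R') (g : Fin n → B) (hfg : ∀ i, t (f i) = s (g i))
    (hiso : ∀ i, Function.Bijective (Localization.awayMap s (g i))) :
    IsOpenImmersion (Scheme.Opens.ι (X := Spec (CommRingCat.of R')) (⨆ i, PrimeSpectrum.basicOpen (f i)) ≫
      Spec.map (CommRingCat.ofHom q)) := by
  obtain ⟨hex, huniq⟩ := pullback_elems s t p q hsq
  have hw : ∀ x, s (p x) = t (q x) := fun x ↦ congr(($hsq.w).hom x)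
  choose h hph hqh using fun i ↦ hex (g i) (f i) (hfg i).symm
  obtain rfl : g = fun i ↦ p (h i) := funext fun i ↦ (hph i).symm
  obtain rfl : f = fun i ↦ q (h i) := funext fun i ↦ (hqh i).symm
  have hbij : ∀ i, Function.Bijective (Localization.awayMap q (h i)) := fun i ↦
    awayMap_bijective s t p q hw hex huniq (h i) (hiso i)
  set W' : (Spec (CommRingCat.of R')).Opens := ⨆ i, PrimeSpectrum.basicOpen (q (h i)) with hW'
  set φ : Spec (CommRingCat.of R') ⟶ Spec (CommRingCat.of B') :=
    Spec.map (CommRingCat.ofHom q) with hφ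
  let ι (i : Fin n) : Spec (CommRingCat.of (Localization.Away (q (h i)))) ⟶
      Spec (CommRingCat.of R') :=
    Spec.map (CommRingCat.ofHom (algebraMap R' (Localization.Away (q (h i)))))
  have hι (i) : IsOpenImmersion (ι i) := IsOpenImmersion.of_isLocalization (q (h i))
  have hιφ (i) : IsOpenImmersion (ι i ≫ φ) := by
    have e : ι i ≫ φ = Spec.map (CommRingCat.ofHom (Localization.awayMap q (h i))) ≫
        Spec.map (CommRingCat.ofHom (algebraMap B' (Localization.Away (h i)))) := by
      rw [← Spec.map_comp, ← Spec.map_comp, ← CommRingCat.ofHom_comp, ← CommRingCat.ofHom_comp]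
      congr 2
      exact (IsLocalization.map_comp _).symm
    rw [e]
    have : IsIso (CommRingCat.ofHom (Localization.awayMap q (h i))) :=
      (ConcreteCategory.isIso_iff_bijective _).mpr (hbij i)
    have : IsOpenImmersion (Spec.map (CommRingCat.ofHom
        (algebraMap B' (Localization.Away (h i))))) := IsOpenImmersion.of_isLocalization (h i)
    infer_instance
  have hrange (i) : Set.range (ι i) =
      ((PrimeSpectrum.basicOpen (q (h i)) : TopologicalSpace.Opens (PrimeSpectrum R')) :
        Set (PrimeSpectrum R')) :=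
    PrimeSpectrum.localization_away_comap_range _ _
  have hmemφ (i) (y : Spec (CommRingCat.of R')) :
      φ y ∈ PrimeSpectrum.basicOpen (h i) ↔ y ∈ PrimeSpectrum.basicOpen (q (h i)) := Iff.rfl
  have hmem (x : W') : ∃ i, x.1 ∈ PrimeSpectrum.basicOpen (q (h i)) := by
    have : x.1 ∈ ⨆ i, PrimeSpectrum.basicOpen (q (h i)) := x.2
    exact TopologicalSpace.Opens.mem_iSup.mp this
  apply IsOpenImmersion.of_forall_source_exists
  · intro x y hxy
    obtain ⟨i, hi⟩ := hmem x
    have hxy' : φ x.1 = φ y.1 := hxy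
    have hi' : y.1 ∈ PrimeSpectrum.basicOpen (q (h i)) := by
      rw [← hmemφ, ← hxy', hmemφ]
      exact hi
    obtain ⟨x', hx'⟩ : x.1 ∈ Set.range (ι i) := by rw [hrange]; exact hi
    obtain ⟨y', hy'⟩ : y.1 ∈ Set.range (ι i) := by rw [hrange]; exact hi'
    have : (ι i ≫ φ) x' = (ι i ≫ φ) y' := by
      change φ (ι i x') = φ (ι i y')
      rw [hx', hy', hxy']
    have := (ι i ≫ φ).isOpenEmbedding.injective this
    apply Subtype.ext
    rw [← hx', ← hy', this]
  · intro x
    obtain ⟨i, hi⟩ := hmem x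
    have hsub : Set.range (ι i) ⊆ Set.range W'.ι := by
      rw [hrange, Scheme.Opens.range_ι]
      exact fun y hy ↦ TopologicalSpace.Opens.mem_iSup.mpr ⟨i, hy⟩
    have hfac : IsOpenImmersion.lift W'.ι (ι i) hsub ≫ W'.ι = ι i :=
      IsOpenImmersion.lift_fac _ _ _
    have hopen : IsOpenImmersion (IsOpenImmersion.lift W'.ι (ι i) hsub) := by
      have : IsOpenImmersion (IsOpenImmersion.lift W'.ι (ι i) hsub ≫ W'.ι) := by
        rw [hfac]; infer_instance
      exact IsOpenImmersion.of_comp _ W'.ι
    refine ⟨_, IsOpenImmersion.lift W'.ι (ι i) hsub, hopen, ?_, ?_⟩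
    · obtain ⟨x', hx'⟩ : x.1 ∈ Set.range (ι i) := by rw [hrange]; exact hi
      refine ⟨x', ?_⟩
      apply W'.ι.isOpenEmbedding.injective
      rw [← Scheme.Hom.comp_apply, hfac]
      exact hx'
    · rw [← Category.assoc, hfac]
      exact hιφ i

end Groth.Agent.S7431
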