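import Groth.Statements.S7435
import Groth.Agent.Lib.Helper6.BddFibFinrank
-- import your own Groth.Agent.* helpers here

set_option autoImplicit false
universe u
open CategoryTheory AlgebraicGeometry
open BddFib

namespace Groth.Agent.S7435

/-- If `f` is finite locally free of degree `d`, then `d` bounds the degrees of the fibres of `f`. -/
theorem result {X Y : Scheme.{u}} (f : X ⟶ Y) (d : ℕ) (hf : Mor2.IsFinLocFreeOfDeg d f) :
    BddFib.FibreDegLE f d := by
  obtain ⟨⟨h1, h2, h3⟩, hd⟩ := hf
  intro y
  have hfin : IsFinite (f.fiberToSpecResidueField y) :=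
    inferInstanceAs (IsFinite (Limits.pullback.snd f (Y.fromSpecResidueField y)))
  have hflat : Flat (f.fiberToSpecResidueField y) :=
    inferInstanceAs (Flat (Limits.pullback.snd f (Y.fromSpecResidueField y)))
  let pt : Spec (Y.residueField y) := IsLocalRing.closedPoint (Y.residueField y)
  have := Groth.Agent.Lib.Helper6.BddFibLib.finiteOfDegLE_of_finite_flat
    (Field.toIsField _) (f.fiberToSpecResidueField y) pt
  have e : (f.fiberToSpecResidueField y).finrank pt = d := by
    have := Scheme.Hom.finrank_pullback_snd f (Y.fromSpecResidueField y) pt
    rw [show (Y.fromSpecResidueField y) pt = y from Scheme.fromSpecResidueField_apply _ _] at this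
    rw [hd y] at this
    exact this
  rw [e] at this
  exact this

end Groth.Agent.S7435
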