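import Groth.Statements.S7447
import Groth.Agent.Lib.Helper1.NAMain

set_option autoImplicit false
universe u
open CategoryTheory AlgebraicGeometry
open Opposite
open Lim
open Groth.Agent.Lib.Helper1.NA

namespace Groth.Agent.S7447

/-- Noetherian approximation relative to a quasi-compact open: let `S` be quasi-compact and
quasi-separated, `V ⊆ S` a quasi-compact open, and `V = lim V_i` the limit of an inverse system,
over a nonempty directed set `I`, of schemes of finite type over `ℤ` with affine transition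
morphisms. Then there are a nonempty directed set `J`, an inverse system `(S_j)` of schemes of
finite type over `ℤ` with affine transition morphisms and `S = lim S_j`, an order preserving map `α
: J → I`, opens `V'_j ⊆ S_j` and isomorphisms `V'_j ≅ V_{α(j)}` such that: the transition maps
satisfy `g_{jj'}⁻¹(V'_{j'}) = V'_j`; `V` is the inverse image of each `V'_j` under `S → S_j` (which
identifies `V` with `lim V'_j`); the composite `V → V'_j → V_{α(j)}` is the projection; and the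
squares `V'_j → V_{α(j)} → V_{α(j')}`, `V'_j → V'_{j'} → V_{α(j')}` commute. -/
theorem result (S : Scheme.{u}) [CompactSpace S] [QuasiSeparatedSpace S]
    (V : S.Opens) (hV : IsCompact (V : Set S)) (I : Type u) [Preorder I] [IsDirected I (fun a b => a ≤ b)] [Nonempty I]
    (DV : Iᵒᵖ ⥤ Scheme.{u}) (haff : ∀ (i i' : Iᵒᵖ) (a : i ⟶ i'), IsAffineHom (DV.map a))
    (hft : ∀ i, CompactSpace (DV.obj i) ∧ LocallyOfFiniteType (Limits.IsTerminal.from specULiftZIsTerminal (DV.obj i)))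
    (cV : Limits.Cone DV) (hcV : Limits.IsLimit cV) (eV : cV.pt ≅ (V : Scheme.{u})) :
    ∃ (J : Type u) (_ : Preorder J) (_ : IsDirected J (fun a b => a ≤ b)) (_ : Nonempty J)
      (DS : Jᵒᵖ ⥤ Scheme.{u}) (cS : Limits.Cone DS) (_ : Limits.IsLimit cS) (eS : cS.pt ≅ S)
      (α : J →o I) (V' : ∀ j : J, (DS.obj (op j)).Opens)
      (φ : ∀ j : J, (V' j : Scheme.{u}) ≅ DV.obj (op (α j))),
      (∀ (j j' : Jᵒᵖ) (a : j ⟶ j'), IsAffineHom (DS.map a)) ∧
      (∀ j, CompactSpace (DS.obj j) ∧ LocallyOfFiniteType (Limits.IsTerminal.from specULiftZIsTerminal (DS.obj j))) ∧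
      (∀ (j j' : J) (h : j' ≤ j), (DS.map (homOfLE h).op) ⁻¹ᵁ (V' j') = V' j) ∧
      (∀ j : J, (eS.inv ≫ cS.π.app (op j)) ⁻¹ᵁ (V' j) = V) ∧
      (∀ j : J, ∃ ρ : (V : Scheme.{u}) ⟶ (V' j : Scheme.{u}),
        ρ ≫ (V' j).ι = V.ι ≫ eS.inv ≫ cS.π.app (op j) ∧ ρ ≫ (φ j).hom = eV.inv ≫ cV.π.app (op (α j))) ∧
      (∀ (j j' : J) (h : j' ≤ j), ∃ τ : (V' j : Scheme.{u}) ⟶ (V' j' : Scheme.{u}),
        τ ≫ (V' j').ι = (V' j).ι ≫ DS.map (homOfLE h).op ∧
        (φ j).hom ≫ DV.map (homOfLE (α.mono h)).op = τ ≫ (φ j').hom) := by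
  classical
  let v : cV.pt ⟶ S := eV.hom ≫ V.ι
  have hft' : ∀ i, FTZ (DV.obj i) := hft
  obtain ⟨E⟩ := nonempty_ext_of_qcqs DV haff hft' cV hcV v
  have hu : ∀ j, IsOpenImmersion (E.u j) := E.hu
  let u' : ∀ j : E.J, DV.obj (op (E.α j)) ⟶ E.DS.obj (op j) := E.u
  have hu' : ∀ j, IsOpenImmersion (u' j) := E.hu
  have hvr : v.opensRange = V := by
    rw [Scheme.Hom.opensRange_comp_of_isIso, Scheme.Opens.opensRange_ι]
  refine ⟨E.J, E.preJ, E.dirJ, E.neJ, E.DS, Limits.Cone.mk S E.π, E.hlim, Iso.refl S, E.α,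
    fun j => (u' j).opensRange, fun j => (u' j).isoOpensRange.symm, E.haff, E.hft, ?_, ?_, ?_, ?_⟩
  · intro j j' h
    exact (opensRange_eq_of_isPullback (E.pb_trans j j' h).flip).symm
  · intro j
    have h1 := opensRange_eq_of_isPullback (E.pb_cone j).flip
    rw [hvr] at h1
    rw [h1]
    congr 1
  · intro j
    refine ⟨eV.inv ≫ cV.π.app (op (E.α j)) ≫ (u' j).isoOpensRange.hom, ?_, ?_⟩
    · have hw : cV.π.app (op (E.α j)) ≫ u' j = v ≫ E.π.app (op j) := (E.pb_cone j).w
      change (eV.inv ≫ cV.π.app (op (E.α j)) ≫ (u' j).isoOpensRange.hom) ≫ (u' j).opensRange.ι =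
        V.ι ≫ 𝟙 S ≫ E.π.app (op j)
      rw [Category.assoc, Category.assoc, Scheme.Hom.isoOpensRange_hom_ι, hw, Category.id_comp]
      change eV.inv ≫ (eV.hom ≫ V.ι) ≫ E.π.app (op j) = _
      rw [Category.assoc, Iso.inv_hom_id_assoc]
    · change (eV.inv ≫ cV.π.app (op (E.α j)) ≫ (u' j).isoOpensRange.hom) ≫
        (u' j).isoOpensRange.inv = _
      rw [Category.assoc, Category.assoc, Iso.hom_inv_id, Category.comp_id]
  · intro j j' h
    refine ⟨(u' j).isoOpensRange.inv ≫ DV.map (homOfLE (E.α.mono h)).op ≫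
      (u' j').isoOpensRange.hom, ?_, ?_⟩
    · have hw : DV.map (homOfLE (E.α.mono h)).op ≫ u' j' = u' j ≫ E.DS.map (homOfLE h).op :=
        (E.pb_trans j j' h).w
      rw [Category.assoc, Category.assoc, Scheme.Hom.isoOpensRange_hom_ι, hw,
        ← Category.assoc, Scheme.Hom.isoOpensRange_inv_comp]
    · change (u' j).isoOpensRange.inv ≫ DV.map (homOfLE (E.α.mono h)).op =
        ((u' j).isoOpensRange.inv ≫ DV.map (homOfLE (E.α.mono h)).op ≫
          (u' j').isoOpensRange.hom) ≫ (u' j').isoOpensRange.inv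
      rw [Category.assoc, Category.assoc, Iso.hom_inv_id, Category.comp_id]

end Groth.Agent.S7447
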