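import Groth.Statements.S7455
import Groth.Agent.Lib.Helper25.GrpdTrans
import Groth.Agent.S2757

set_option autoImplicit false
universe u
open CategoryTheory CategoryTheory.Limits AlgebraicGeometry
open Grpd

namespace Groth.Agent.S7455

/-- Let (U, R, s, t, c) be a groupoid scheme over S with U the spectrum of a perfect field, s and t
locally of finite type, and R reduced. Then s and t are smooth. (A groupoid scheme carries U, R, s,
t, c, e, i over S with the groupoid axioms on T-points; c is defined on the fibre product of s and t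
and sends a pair (a, b) with s(a) = t(b) to a composed with b.) -/
theorem result (S : Scheme.{u}) (G : Grpd.GroupoidScheme S) (k : Type u) [Field k] [PerfectField k] (eU : G.U ≅ Spec (CommRingCat.of k)) [LocallyOfFiniteType G.s] [LocallyOfFiniteType G.t] [IsReduced G.R] : Smooth G.s ∧ Smooth G.t := by
  have hsub : Subsingleton G.U := eU.hom.homeomorph.injective.subsingleton
  have hint : IsIntegral G.U :=
    have : Nonempty G.U := ⟨eU.inv (Classical.arbitrary _)⟩
    isIntegral_of_isOpenImmersion eU.hom
  have hN : IsLocallyNoetherian G.U := isLocallyNoetherian_of_isOpenImmersion eU.hom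
  have hfp : LocallyOfFinitePresentation G.s :=
    LocallyOfFinitePresentation.iff_locallyOfFiniteType.mpr inferInstance
  have hflat : Flat G.s := inferInstance
  have key : Smooth G.s := by
    rw [← Scheme.Hom.smoothLocus_eq_top_iff, ← top_le_iff]
    rintro r -
    -- a smooth point
    obtain ⟨v, hv⟩ : ∃ v, v ∈ G.s.smoothLocus := by
      have hd : Dense ((G.s ≫ eU.hom).smoothLocus : Set G.R) :=
        Scheme.Hom.dense_smoothLocus_of_perfectField _
      have : Nonempty G.R := ⟨r⟩
      obtain ⟨v, hv⟩ := hd.nonempty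
      refine ⟨v, ?_⟩
      have h1 : Smooth ((G.s ≫ eU.hom).smoothLocus.ι ≫ G.s ≫ eU.hom) :=
        Groth.Agent.Lib.Helper13.smooth_ι_comp_of_le_smoothLocus _ _ le_rfl
      have h2 : Smooth ((G.s ≫ eU.hom).smoothLocus.ι ≫ G.s) := by
        have : (G.s ≫ eU.hom).smoothLocus.ι ≫ G.s =
            ((G.s ≫ eU.hom).smoothLocus.ι ≫ G.s ≫ eU.hom) ≫ eU.inv := by
          simp
        rw [this]
        infer_instance
      exact Groth.Agent.Lib.Helper13.le_smoothLocus_of_smooth_ι_comp G.s _ hv
    -- a point of `R ×_{s,t} R` with first coordinate `v` and product `r`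
    obtain ⟨w, hw1, hw2⟩ := Scheme.Pullback.exists_preimage_pullback (f := G.t) (g := G.t) v r
      (Subsingleton.elim _ _)
    let x' := Groth.Agent.Lib.Helper25.GrpdTrans.phi G w
    have hx1 : pullback.fst G.s G.t x' = v := by
      rw [← hw1, ← Scheme.Hom.comp_apply, Groth.Agent.Lib.Helper25.GrpdTrans.phi_fst]
    have hx2 : G.c x' = r := by
      rw [← hw2, ← Scheme.Hom.comp_apply, Groth.Agent.Lib.Helper25.GrpdTrans.phi_c]
    -- Step A: `snd` is smooth near `x'`
    let V := G.s.smoothLocus
    let W := pullback.fst G.s G.t ⁻¹ᵁ V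
    have hxW : x' ∈ W := by
      change pullback.fst G.s G.t x' ∈ V
      rw [hx1]; exact hv
    have hV : Smooth (V.ι ≫ G.s) :=
      Groth.Agent.Lib.Helper13.smooth_ι_comp_of_le_smoothLocus G.s V le_rfl
    have hW : Smooth (W.ι ≫ pullback.snd G.s G.t) := by
      have sq1 := isPullback_morphismRestrict (pullback.fst G.s G.t) V
      have sq2 : IsPullback (pullback.fst G.s G.t) (pullback.snd G.s G.t) G.s G.t :=
        IsPullback.of_hasPullback _ _
      exact MorphismProperty.of_isPullback (sq1.paste_vert sq2) hV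
    -- Step B: descend along the square `c, snd, s, s`
    let sq := Groth.Agent.Lib.Helper25.GrpdTrans.isPullback_c_snd G
    let ι := sq.isoPullback
    have hι1 : ι.hom ≫ pullback.fst G.s G.s = G.c := sq.isoPullback_hom_fst
    have hι2 : ι.inv ≫ pullback.snd G.s G.t = pullback.snd G.s G.s := sq.isoPullback_inv_snd
    let x'' := ι.hom x'
    have hA : ∃ U' : (pullback G.s G.s).Opens, x'' ∈ U' ∧
        Smooth (U'.ι ≫ pullback.snd G.s G.s) := by
      refine ⟨ι.inv ⁻¹ᵁ W, ?_, ?_⟩
      · change ι.inv (ι.hom x') ∈ W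
        rw [← Scheme.Hom.comp_apply, ι.hom_inv_id]
        exact hxW
      · have e1 : (ι.inv ⁻¹ᵁ W).ι ≫ pullback.snd G.s G.s =
            (ι.inv ∣_ W) ≫ (W.ι ≫ pullback.snd G.s G.t) := by
          rw [← hι2, ← Category.assoc, ← morphismRestrict_ι, Category.assoc]
        rw [e1]
        infer_instance
    obtain ⟨U₀, hrU₀, hU₀⟩ := Groth.Agent.S2757.result G.s G.s x''
      (Flat.stalkMap G.s _) hA
    have hr : pullback.fst G.s G.s x'' = r := by
      rw [← hx2, ← hι1, Scheme.Hom.comp_apply]
    rw [hr] at hrU₀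
    exact Groth.Agent.Lib.Helper13.le_smoothLocus_of_smooth_ι_comp G.s U₀ hrU₀
  refine ⟨key, ?_⟩
  have : G.t = G.i ≫ G.s := G.i_s.symm
  rw [this]
  infer_instance


end Groth.Agent.S7455
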