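import Groth.Statements.S7457
import Groth.Agent.Lib.Helper25.GrpdTrans

set_option autoImplicit false
universe u
open CategoryTheory CategoryTheory.Limits AlgebraicGeometry
open Grpd

namespace Groth.Agent.S7457

/-- Let (U, R, s, t, c) be a groupoid scheme over S. Let φ : R x_(t,U,t) R -> R x_(s,U,t) R be the
morphism sending a pair (a, b) with the same target to (a, a^{-1} composed with b), that is, the
morphism whose first component is the first projection and whose second component is c applied to (i
composed after the first projection, second projection). Then φ is an isomorphism and composed with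
c it gives the second projection. Moreover the square with sides c, the second projection R
x_(s,U,t) R -> R, s and s is cartesian. (A groupoid scheme carries U, R, s, t, c, e, i over S with
the groupoid axioms on T-points; c is defined on the fibre product of s and t and sends a pair (a,
b) with s(a) = t(b) to a composed with b.) -/
theorem result (S : Scheme.{u}) (G : Grpd.GroupoidScheme S) : (∀ φ : pullback G.t G.t ⟶ pullback G.s G.t, φ ≫ pullback.fst G.s G.t = pullback.fst G.t G.t → φ ≫ pullback.snd G.s G.t = pullback.lift (pullback.fst G.t G.t ≫ G.i) (pullback.snd G.t G.t) ((Category.assoc _ _ _).trans ((congrArg (fun x => pullback.fst G.t G.t ≫ x) G.i_s).trans pullback.condition)) ≫ G.c → IsIso φ ∧ φ ≫ G.c = pullback.snd G.t G.t) ∧ IsPullback G.c (pullback.snd G.s G.t) G.s G.s := by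
  refine ⟨?_, Groth.Agent.Lib.Helper25.GrpdTrans.isPullback_c_snd G⟩
  intro φ h1 h2
  have : φ = Groth.Agent.Lib.Helper25.GrpdTrans.phi G := by
    apply pullback.hom_ext
    · rw [h1, Groth.Agent.Lib.Helper25.GrpdTrans.phi_fst]
    · rw [h2, Groth.Agent.Lib.Helper25.GrpdTrans.phi_snd]
      rfl
  rw [this]
  exact ⟨inferInstance, Groth.Agent.Lib.Helper25.GrpdTrans.phi_c G⟩


end Groth.Agent.S7457
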