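import Groth.Statements.S7459
import Groth.Agent.Lib.Helper25.GrpShear
import Mathlib.AlgebraicGeometry.Morphisms.UniversallyOpen

set_option autoImplicit false
universe u
open CategoryTheory MonoidalCategory CartesianMonoidalCategory MonObj GrpObj AlgebraicGeometry
open GrpSch

namespace Groth.Agent.S7459

/-- Let G be a group scheme over a field k, W an open subscheme of G and f : T -> G a morphism of
schemes (T becomes a k-scheme through f). Then the image of the composition T x_k W -> G x_k G -> G,
the second map being the multiplication, is open. -/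
theorem result (K : Type u) [Field K] (G : Over (Spec (CommRingCat.of K))) [GrpObj G] (W : G.left.Opens) (T : Scheme.{u}) (f : T ⟶ G.left) : IsOpen (Set.range ⇑(((Over.homMk f rfl : Over.mk (f ≫ G.hom) ⟶ G) ⊗ₘ (Over.homMk W.ι rfl : Over.mk (W.ι ≫ G.hom) ⟶ G)) ≫ μ[G]).left) := by
  set T' : Over (Spec (CommRingCat.of K)) := Over.mk (f ≫ G.hom) with hT'
  set W' : Over (Spec (CommRingCat.of K)) := Over.mk (W.ι ≫ G.hom) with hW'
  set ψ : T' ⟶ G := Over.homMk f rfl with hψ
  set ω : W' ⟶ G := Over.homMk W.ι rfl with hω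
  have e : (ψ ⊗ₘ ω) ≫ μ[G] =
      (T' ◁ ω) ≫ (Groth.Agent.Lib.Helper25.shearIso ψ).hom ≫ snd T' G := by
    rw [← Groth.Agent.Lib.Helper25.whiskerRight_mul_eq_shear, tensorHom_def', Category.assoc]
  rw [e, Over.comp_left, Over.comp_left]
  have h1 : IsOpenImmersion (T' ◁ ω).left := by
    rw [Over.whiskerLeft_left]
    have : IsOpenImmersion ω.left := inferInstanceAs (IsOpenImmersion W.ι)
    infer_instance
  have h2 : IsIso (Groth.Agent.Lib.Helper25.shearIso ψ).hom.left :=
    inferInstanceAs (IsIso ((Over.forget _).map (Groth.Agent.Lib.Helper25.shearIso ψ).hom))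
  have h3 : UniversallyOpen (snd T' G).left := by
    rw [Over.snd_left]
    have : UniversallyOpen T'.hom := inferInstance
    infer_instance
  exact ((T' ◁ ω).left ≫ (Groth.Agent.Lib.Helper25.shearIso ψ).hom.left ≫
    (snd T' G).left).isOpenMap.isOpen_range

end Groth.Agent.S7459
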