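import Groth.Statements.S7461
import Mathlib
import Groth.Agent.Lib.Helper25.GrpdTrans

set_option autoImplicit false
universe u
open CategoryTheory CategoryTheory.Limits AlgebraicGeometry
open Grpd

namespace Groth.Agent.S7461


/-- Let (U, R, s, t, c) be a groupoid scheme over S with s and t finite locally free. Then U is a
disjoint union of R-invariant open subschemes U_r, r = 1, 2, 3, ..., such that s and t restricted
over U_r are finite locally free of rank r. Here the decomposition is indexed by all natural numbers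
with U_0 empty, R-invariance of U_r means s^{-1}(U_r) = t^{-1}(U_r), and 'finite locally free of
rank r' means finite, flat, locally of finite presentation with rank function constant equal to r.
(A groupoid scheme carries U, R, s, t, c, e, i over S with the groupoid axioms on T-points; c is
defined on the fibre product of s and t and sends a pair (a, b) with s(a) = t(b) to a composed with
b.) -/
theorem result (S : Scheme.{u}) (G : Grpd.GroupoidScheme S) [IsFinite G.s] [Flat G.s] [LocallyOfFinitePresentation G.s] [IsFinite G.t] [Flat G.t] [LocallyOfFinitePresentation G.t] : ∃ V : ℕ → G.U.Opens, V 0 = ⊥ ∧ (∀ r r', r ≠ r' → Disjoint (V r) (V r')) ∧ (⨆ r, V r) = ⊤ ∧ ∀ r, G.s ⁻¹ᵁ V r = G.t ⁻¹ᵁ V r ∧ Mor2.IsFinLocFreeOfDeg r (G.s ∣_ V r) ∧ Mor2.IsFinLocFreeOfDeg r (G.t ∣_ V r) := by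

  have hts : G.t = G.i ≫ G.s := G.i_s.symm
  have hrank_t : Scheme.Hom.finrank G.t = Scheme.Hom.finrank G.s := by
    rw [hts]; exact Scheme.Hom.finrank_comp_left_of_isIso G.i G.s
  have hinv : ∀ x : G.R, Scheme.Hom.finrank G.s (G.s x) = Scheme.Hom.finrank G.s (G.t x) := by
    intro x
    have h1 := Scheme.Hom.finrank_pullback_snd G.s G.t x
    have h2 := Scheme.Hom.finrank_of_isPullback G.c (Limits.pullback.snd G.s G.t) G.s G.s
      (Groth.Agent.Lib.Helper25.GrpdTrans.isPullback_c_snd G) x
    rw [← h2, h1]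
  have hsurj : Surjective G.s := ⟨fun u => ⟨G.e u, by
    rw [← Scheme.Hom.comp_apply, G.e_s]; rfl⟩⟩
  have hone : 1 ≤ Scheme.Hom.finrank G.s := (Scheme.Hom.one_le_finrank_iff_surjective G.s).mpr hsurj
  have hlc := Scheme.Hom.isLocallyConstant_finrank G.s
  refine ⟨fun r => ⟨Scheme.Hom.finrank G.s ⁻¹' {r}, hlc.isOpen_fiber r⟩, ?_, ?_, ?_, ?_⟩
  · ext x
    simp only [TopologicalSpace.Opens.coe_mk, Set.mem_preimage, Set.mem_singleton_iff,
      TopologicalSpace.Opens.coe_bot, Set.mem_empty_iff_false, iff_false]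
    have := hone x
    simp only [Pi.one_apply] at this
    omega
  · intro r r' hrr'
    rw [disjoint_iff]
    ext x
    simp only [TopologicalSpace.Opens.coe_inf, TopologicalSpace.Opens.coe_mk, Set.mem_inter_iff,
      Set.mem_preimage, Set.mem_singleton_iff, TopologicalSpace.Opens.coe_bot,
      Set.mem_empty_iff_false, iff_false, not_and]
    intro h1 h2
    exact hrr' (h1.symm.trans h2)
  · rw [eq_top_iff]
    intro x _
    simp only [TopologicalSpace.Opens.mem_iSup]
    exact ⟨Scheme.Hom.finrank G.s x, rfl⟩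
  · intro r
    refine ⟨?_, ⟨⟨inferInstance, inferInstance, inferInstance⟩, ?_⟩, ⟨⟨inferInstance, inferInstance, inferInstance⟩, ?_⟩⟩
    · ext x
      show Scheme.Hom.finrank G.s (G.s x) = r ↔ Scheme.Hom.finrank G.s (G.t x) = r
      rw [hinv x]
    · intro y
      have := Scheme.Hom.finrank_of_isPullback _ _ _ _
        (isPullback_morphismRestrict G.s ⟨Scheme.Hom.finrank G.s ⁻¹' {r}, hlc.isOpen_fiber r⟩).flip y
      rw [this]
      exact y.2
    · intro y
      have := Scheme.Hom.finrank_of_isPullback _ _ _ _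
        (isPullback_morphismRestrict G.t ⟨Scheme.Hom.finrank G.s ⁻¹' {r}, hlc.isOpen_fiber r⟩).flip y
      rw [this, hrank_t]
      exact y.2

end Groth.Agent.S7461
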