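import Groth.Statements.S7463
import Groth.Agent.Lib.Helper25.GrpdClosure
import Groth.Agent.Lib.Helper25.GrpdPair

set_option autoImplicit false
universe u
open CategoryTheory CategoryTheory.Limits AlgebraicGeometry
open Grpd

namespace Groth.Agent.S7463

/-- Consider a groupoid scheme (U, R, s, t, c) over S in which U is the spectrum of a field, and write Z
for the closure of the image of the morphism j = (t, s) : R -> U x_S U. Then, set-theoretically,
pr_02 carries Z x_(pr_1,U,pr_0) Z into Z: given the morphism pr_02 from (U x_S U) x_(pr_1,U,pr_0) (U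
x_S U) to U x_S U, whose components are pr_0 of the first factor and pr_1 of the second, any point
both of whose projections land in Z is mapped to a point of Z. (A groupoid scheme consists of U, R,
s, t, c, e, i over S satisfying the groupoid axioms on T-points; c is defined on the fibre product
of s and t and takes a pair (a, b) with s(a) = t(b) to the composite of a with b.) -/
theorem result (S : Scheme.{u}) (G : Grpd.GroupoidScheme S) (k : Type u) [Field k] (eU : G.U ≅ Spec (CommRingCat.of k)) (pr02 : pullback (pullback.snd G.pU G.pU) (pullback.fst G.pU G.pU) ⟶ pullback G.pU G.pU) (h0 : pr02 ≫ pullback.fst G.pU G.pU = pullback.fst (pullback.snd G.pU G.pU) (pullback.fst G.pU G.pU) ≫ pullback.fst G.pU G.pU) (h1 : pr02 ≫ pullback.snd G.pU G.pU = pullback.snd (pullback.snd G.pU G.pU) (pullback.fst G.pU G.pU) ≫ pullback.snd G.pU G.pU) (p : ↑(pullback (pullback.snd G.pU G.pU) (pullback.fst G.pU G.pU))) (h₁ : pullback.fst (pullback.snd G.pU G.pU) (pullback.fst G.pU G.pU) p ∈ closure (Set.range ⇑G.j)) (h₂ : pullback.snd (pullback.snd G.pU G.pU) (pullback.fst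 G.pU G.pU) p ∈ closure (Set.range ⇑G.j)) : pr02 p ∈ closure (Set.range ⇑G.j) := by
  have hsub : Subsingleton G.U := eU.hom.homeomorph.injective.subsingleton
  let f := Groth.Agent.Lib.Helper25.GrpdPair.jHom G
  have hf2 : IsIso f.fU := (inferInstance : IsIso (𝟙 G.U))
  have hf3 : Subsingleton (Groth.Agent.Lib.Helper25.GrpdPair.pairGroupoid G.U G.pU).U := hsub
  have hpr : pr02 = (Groth.Agent.Lib.Helper25.GrpdPair.pairGroupoid G.U G.pU).c := by
    change pr02 = Groth.Agent.Lib.Helper25.GrpdPair.pairC G.U G.pU
    apply pullback.hom_ext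
    · rw [h0, Groth.Agent.Lib.Helper25.GrpdPair.pairC, pullback.lift_fst]
    · rw [h1, Groth.Agent.Lib.Helper25.GrpdPair.pairC, pullback.lift_snd]
  rw [hpr]
  exact Groth.Agent.Lib.Helper25.GrpdClosure.c_mem_closure f p h₁ h₂


end Groth.Agent.S7463
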