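import Groth.Statements.S7464
import Mathlib
import Groth.Agent.S7456

set_option autoImplicit false
universe u
open CategoryTheory CategoryTheory.Limits AlgebraicGeometry
open Grpd

namespace Groth.Agent.S7464


/-- Let (U, R, s, t, c) be a groupoid scheme over S with s and t finite, and let u, u' be distinct
points of U in the same orbit, say u = s(r) and u' = t(r). Then u' does not lie in the closure of u.
(The published statement calls u, u' points of R; this row takes them to be points of U, as the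
orbit condition and the proof require.) (A groupoid scheme carries U, R, s, t, c, e, i over S with
the groupoid axioms on T-points; c is defined on the fibre product of s and t and sends a pair (a,
b) with s(a) = t(b) to a composed with b.) -/
theorem result (S : Scheme.{u}) (G : Grpd.GroupoidScheme S) [IsFinite G.s] [IsFinite G.t] (r : G.R) (hne : G.s r ≠ G.t r) : ¬ (G.s r ⤳ G.t r) := by

  let O : Set G.U := ⇑G.t '' (⇑G.s ⁻¹' {G.s r})
  have hOfin : O.Finite := (G.s.finite_preimage_singleton (G.s r)).image _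
  have hOinv : ⇑G.s ⁻¹' O = ⇑G.t ⁻¹' O := Groth.Agent.S7456.inv_eq G {G.s r}
  have huO : G.s r ∈ O := by
    refine ⟨G.e (G.s r), ?_, ?_⟩
    · show G.s (G.e (G.s r)) = G.s r
      rw [← Scheme.Hom.comp_apply, G.e_s]; rfl
    · rw [← Scheme.Hom.comp_apply, G.e_t]; rfl
  have claim : ∀ n : ℕ, ∀ ρ : G.R, G.s ρ ∈ O → ({b ∈ O | G.s ρ ⤳ b}).ncard = n →
      G.s ρ ≠ G.t ρ → ¬ (G.s ρ ⤳ G.t ρ) := by
    intro n
    induction n using Nat.strong_induction_on with
    | _ n ih =>
      intro ρ hρO hcard hne' hsp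
      obtain ⟨ρ', hρρ', hsρ'⟩ := (G.s.isClosedMap.specializingMap) hsp
      have hρρ'' : ρ ⤳ ρ' := hρρ'
      have hne2 : ρ ≠ ρ' := fun h => hne' (by rw [← hsρ', ← h])
      have htne : G.t ρ ≠ G.t ρ' := by
        intro hteq
        have hdisc := G.t.isDiscrete_preimage_singleton (G.t ρ)
        haveI : DiscreteTopology ↥(⇑G.t ⁻¹' {G.t ρ}) := isDiscrete_iff_discreteTopology.mp hdisc
        have h1 : (⟨ρ, rfl⟩ : ↥(⇑G.t ⁻¹' {G.t ρ})) ⤳ ⟨ρ', hteq.symm⟩ :=
          (subtype_specializes_iff _ _).mpr hρρ''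
        exact hne2 (congrArg Subtype.val h1.eq)
      have hsp' : G.s ρ' ⤳ G.t ρ' := by rw [hsρ']; exact hρρ''.map G.t.continuous
      have hρ'O : G.s ρ' ∈ O := by
        rw [hsρ']
        have : ρ ∈ ⇑G.s ⁻¹' O := hρO
        rw [hOinv] at this; exact this
      have hlt : ({b ∈ O | G.s ρ' ⤳ b}).ncard < n := by
        rw [← hcard]
        apply Set.ncard_lt_ncard _ (hOfin.subset (Set.sep_subset _ _))
        refine ⟨fun b hb => ⟨hb.1, hsp.trans (hsρ' ▸ hb.2)⟩, ?_⟩
        intro hsub
        have : G.s ρ ∈ {b ∈ O | G.s ρ' ⤳ b} := hsub ⟨hρO, specializes_rfl⟩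
        have h2 : G.t ρ ⤳ G.s ρ := hsρ' ▸ this.2
        exact hne' (hsp.antisymm h2).eq
      exact ih _ hlt ρ' hρ'O rfl (hsρ' ▸ htne) hsp'
  exact claim _ r huO rfl hne

end Groth.Agent.S7464
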