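import Groth.Statements.S7468
import Mathlib
import Groth.Agent.Lib.Lead.VLift
import Groth.Agent.Lib.Lead.VCover
-- import your own Groth.Agent.* helpers here

set_option autoImplicit false
universe w u
open HTop

namespace Groth.Agent.S7468

open CategoryTheory CategoryTheory.Limits AlgebraicGeometry in
/-- If T is affine and a finite family is obtained by restricting one proper surjective morphism U -> T
to the pieces of a finite affine open cover of U, then the family is a standard V covering. -/
theorem result {T : Scheme.{u}} (E : PreZeroHypercover.{w} T) (hE : HTop.IsStandardPh E) : HTop.IsStandardV E := by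
  obtain ⟨haffT, hfin, haff, U, f, ι, hprop, hsurj, hopen, hfac, hcov⟩ := hE
  refine ⟨haffT, hfin, haff, ?_⟩
  intro V _ _ g
  obtain ⟨W, hWd, hWv, φ, hφ, g', hg'⟩ :=
    Groth.Agent.Lib.Lead.exists_extVal_lift_of_universallyClosed_surjective f V g
  obtain ⟨j, hj⟩ := hcov (g' (IsLocalRing.closedPoint W : ↥(Spec W)))
  have := hopen j
  have hj' : g' (IsLocalRing.closedPoint W : ↥(Spec W)) ∈ (ι j).opensRange := hj
  have hrange : Set.range g' ⊆ Set.range (ι j) := by
    have := Groth.Agent.Lib.Lead.range_subset_of_closedPoint_mem W g' (ι j).opensRange hj'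
    rwa [Scheme.Opens.range_ι] at this
  let g'' : Spec W ⟶ E.X j := IsOpenImmersion.lift (ι j) g' hrange
  have hg'' : g'' ≫ ι j = g' := IsOpenImmersion.lift_fac _ _ _
  refine ⟨W, hWd, hWv, φ, hφ, j, g'', ?_⟩
  rw [← hfac j, ← Category.assoc, hg'', hg']

end Groth.Agent.S7468
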