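import Groth.Statements.S7474
import Mathlib
import Groth.Agent.Lib.Lead.VSheaf
-- import your own Groth.Agent.* helpers here

set_option autoImplicit false
universe w u
open HTop

namespace Groth.Agent.S7474

open CategoryTheory CategoryTheory.Limits AlgebraicGeometry in
/-- A presheaf F of sets on the category of all schemes has the sheaf property for every V covering
family exactly when F is a sheaf for the Zariski topology and has the sheaf property for each
standard V covering. -/
theorem result (F : Scheme.{u}ᵒᵖ ⥤ Type w) : HTop.IsVSheaf F ↔ (Presieve.IsSheaf Scheme.zariskiTopology F ∧ ∀ (T : Scheme.{u}) (E : PreZeroHypercover.{u} T), HTop.IsStandardV E → Presieve.IsSheafFor F E.presieve₀) := by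
  constructor
  · intro hV
    exact ⟨Groth.Agent.Lib.Lead.isSheaf_zariski_of_isVSheaf hV, fun T E hE =>
      hV _ ((HTop.presieve₀_mem_vPrecoverage_iff E).mpr
        (Groth.Agent.Lib.Lead.isVCover_of_isStandardV E hE))⟩
  · rintro ⟨hzar, hstd⟩ X R hR
    obtain ⟨E, hE, rfl⟩ := PreZeroHypercoverFamily.mem_precoverage_iff.mp hR
    exact Groth.Agent.Lib.Lead.isSheafFor_of_isVCover hzar hstd E hE

end Groth.Agent.S7474
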