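import Groth.Statements.S7475
import Mathlib
import Groth.Agent.Lib.Lead.VSheaf
-- import your own Groth.Agent.* helpers here

set_option autoImplicit false
universe w u
open HTop

namespace Groth.Agent.S7475

open CategoryTheory CategoryTheory.Limits AlgebraicGeometry in
/-- Variant with a single arrow: a presheaf of sets on all schemes has the sheaf property for every V
covering family exactly when it is a Zariski sheaf and has the sheaf property for every morphism V
-> U of affine schemes that on its own forms a standard V covering. -/
theorem result (F : Scheme.{u}ᵒᵖ ⥤ Type w) : HTop.IsVSheaf F ↔ (Presieve.IsSheaf Scheme.zariskiTopology F ∧ ∀ (U V : Scheme.{u}) (f : V ⟶ U), HTop.IsStandardV (PreZeroHypercover.singleton f) → Presieve.IsSheafFor F (Presieve.singleton f)) := by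
  constructor
  · intro hV
    refine ⟨Groth.Agent.Lib.Lead.isSheaf_zariski_of_isVSheaf hV, fun U V f hf => ?_⟩
    rw [← PreZeroHypercover.presieve₀_singleton]
    exact hV _ ((HTop.presieve₀_mem_vPrecoverage_iff _).mpr
      (Groth.Agent.Lib.Lead.isVCover_of_isStandardV _ hf))
  · rintro ⟨hzar, hsing⟩ X R hR
    obtain ⟨E, hE, rfl⟩ := PreZeroHypercoverFamily.mem_precoverage_iff.mp hR
    have hstd : ∀ (T : Scheme.{u}) (G : PreZeroHypercover.{u} T), HTop.IsStandardV G →
        Presieve.IsSheafFor F G.presieve₀ := by
      intro T G hG
      have := hG.finite_index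
      rw [← Groth.Agent.Lib.Lead.isSheafFor_singleton_sigmaDesc_iff hzar G]
      exact hsing _ _ _ (Groth.Agent.Lib.Lead.isStandardV_singleton_sigmaDesc G hG)
    exact Groth.Agent.Lib.Lead.isSheafFor_of_isVCover hzar hstd E hE

end Groth.Agent.S7475
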