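import Groth.Statements.S7477
import Mathlib
import Groth.Agent.Lib.Lead.VSubmersive
-- import your own Groth.Agent.* helpers here

set_option autoImplicit false
universe w u
open HTop

namespace Groth.Agent.S7477

open CategoryTheory CategoryTheory.Limits AlgebraicGeometry in
/-- If {f_i : X_i -> X} is a V covering (indexed by a type in the universe of X), then the morphism from
the coproduct of the X_i to X induced by the f_i is universally submersive. -/
theorem result {X : Scheme.{u}} (E : PreZeroHypercover.{u} X) (hE : HTop.IsVCover E) : SGA1.UnivSubmersive (Sigma.desc E.f) := by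
  intro X' Y' i₁ i₂ f' h
  change Topology.IsQuotientMap f'
  have hG : HTop.IsVCover (E.pullback₁ i₂) := Groth.Agent.Lib.Lead.isVCover_pullback₁ i₂ E hE
  refine Groth.Agent.Lib.Lead.isQuotientMap_of_isVCover (E.pullback₁ i₂) hG f' (fun i => ?_)
  have hcomm : pullback.fst i₂ (E.f i) ≫ i₂ =
      (pullback.snd i₂ (E.f i) ≫ Sigma.ι E.X i) ≫ Sigma.desc E.f := by
    rw [Category.assoc, Sigma.ι_desc, pullback.condition]
  exact ⟨h.lift (pullback.fst i₂ (E.f i)) (pullback.snd i₂ (E.f i) ≫ Sigma.ι E.X i) hcomm,
    h.lift_fst _ _ _⟩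

end Groth.Agent.S7477
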