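import Groth.Statements.S7479
import Groth.Agent.Lib.Helper14.PhComp3

set_option autoImplicit false
universe w u
open HTop

namespace Groth.Agent.S7479

open CategoryTheory CategoryTheory.Limits AlgebraicGeometry in
/-- Let T be an affine scheme. (1) For every open covering of T there is a standard ph covering of T
that refines it. (2) If E is a standard ph covering of T and, for each member U_j of E, F_j is a
standard ph covering of U_j, then some standard ph covering of T refines the composite family of all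
W_ji -> T. -/
theorem result {T : Scheme.{u}} [IsAffine T] : (∀ 𝒰 : T.OpenCover, ∃ F : PreZeroHypercover.{0} T, HTop.IsStandardPh F ∧ Nonempty (F.Hom 𝒰.toPreZeroHypercover)) ∧ (∀ (E : PreZeroHypercover.{w} T), HTop.IsStandardPh E → ∀ F : ∀ j, PreZeroHypercover.{w} (E.X j), (∀ j, HTop.IsStandardPh (F j)) → ∃ F' : PreZeroHypercover.{0} T, HTop.IsStandardPh F' ∧ Nonempty (F'.Hom (E.bind F))) := by
  classical
  constructor
  · intro 𝒰
    obtain ⟨F', hF', s, h, hw⟩ := Groth.Agent.Lib.Helper14.PhComp.exists_standardPh_of_good (𝟙 T)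
      𝒰.toPreZeroHypercover (PreZeroHypercover.singleton.{0} (𝟙 T))
      (Groth.Agent.Lib.Helper14.PhComp.isPropFam_singleton_id T) (fun a y => by
        obtain ⟨i, x, hx⟩ := 𝒰.exists_eq y
        exact ⟨𝒰.X i, 𝒰.f i, inferInstance, i, 𝟙 _, ⟨x, hx⟩, by
          change 𝟙 _ ≫ 𝒰.f i = 𝒰.f i ≫ 𝟙 T
          rw [Category.id_comp, Category.comp_id]⟩)
    refine ⟨F', hF', ⟨⟨s, h, fun k => ?_⟩⟩⟩
    have := hw k
    rw [Category.comp_id] at this
    exact this
  · intro E hE F hF
    obtain ⟨U, f, ι, hf, hfs, hι, hιf, hcov⟩ := hE.exists_proper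
    have hfin := hE.finite_index
    have haff := hE.isAffine_obj
    choose V g κ hg hgs hκ hκg hκcov using fun j => (hF j).exists_proper
    let B : PreZeroHypercover.{w} U :=
      { I₀ := Σ j : E.I₀, (F j).I₀
        X := fun q => (F q.1).X q.2
        f := fun q => (F q.1).f q.2 ≫ ι q.1 }
    have hB : ∀ j (v : V j), Groth.Agent.Lib.Helper14.PhComp.Good B (g j ≫ ι j) v := by
      intro j v
      obtain ⟨i, hi⟩ := hκcov j v
      refine ⟨(F j).X i, κ j i, hκ j i, ⟨j, i⟩, 𝟙 _, hi, ?_⟩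
      change 𝟙 _ ≫ (F j).f i ≫ ι j = κ j i ≫ g j ≫ ι j
      rw [Category.id_comp, ← Category.assoc, hκg]
    obtain ⟨F', hF', s, h, hw⟩ := Groth.Agent.Lib.Helper14.PhComp.exists_standardPh_refinement f
      E.X ι hcov V g B hB
    refine ⟨F', hF', ⟨⟨s, h, fun k => ?_⟩⟩⟩
    rw [← hw k]
    change h k ≫ (F (s k).1).f (s k).2 ≫ E.f (s k).1 = h k ≫ ((F (s k).1).f (s k).2 ≫ ι (s k).1) ≫ f
    rw [Category.assoc, hιf]

end Groth.Agent.S7479
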