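import Groth.Statements.S7480
import Groth.Agent.Lib.Helper14.PhComp4

set_option autoImplicit false
universe w u
open HTop

namespace Groth.Agent.S7480

open CategoryTheory CategoryTheory.Limits AlgebraicGeometry in
/-- If E is a ph covering of T and T' -> T is any morphism of schemes, then the family of base changes
T' x_T T_i -> T' is a ph covering of T'. -/
theorem result {T T' : Scheme.{u}} (g : T' ⟶ T) (E : PreZeroHypercover.{w} T) (hE : HTop.IsPhCover E) : HTop.IsPhCover (E.pullback₁ g) := by
  refine ⟨fun i => ?_, fun U' => ?_⟩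
  · have := hE.1 i
    exact (inferInstance : LocallyOfFiniteType (pullback.fst g (E.f i)))
  · have hU' : IsAffine ((U' : T'.Opens) : Scheme.{u}) := U'.2
    obtain ⟨F, hF, hR⟩ := Groth.Agent.Lib.Helper14.PhComp.exists_standardPh_refinesOver
      ((U' : T'.Opens).ι ≫ g) E hE
    refine ⟨F, hF, fun j => ?_⟩
    obtain ⟨i, h, hh⟩ := hR j
    exact ⟨i, pullback.lift (F.f j ≫ (U' : T'.Opens).ι) h (by rw [hh, Category.assoc]),
      pullback.lift_fst _ _ _⟩

end Groth.Agent.S7480
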