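import Groth.Statements.S7481
import Groth.Agent.Lib.Helper14.PhComp4

set_option autoImplicit false
universe w u
open HTop

namespace Groth.Agent.S7481

open CategoryTheory CategoryTheory.Limits AlgebraicGeometry in
/-- Let E be a ph covering of a scheme T and, for every member T_i of E, let F_i be a ph covering of
T_i. Then the composite family of all T_ij -> T is a ph covering of T. -/
theorem result {T : Scheme.{u}} (E : PreZeroHypercover.{w} T) (hE : HTop.IsPhCover E) (F : ∀ i, PreZeroHypercover.{w} (E.X i)) (hF : ∀ i, HTop.IsPhCover (F i)) : HTop.IsPhCover (E.bind F) := by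
  refine ⟨fun q => ?_, fun U => ?_⟩
  · have := hE.1 q.1
    have := (hF q.1).1 q.2
    exact (inferInstance : LocallyOfFiniteType ((F q.1).f q.2 ≫ E.f q.1))
  · obtain ⟨G, hG, hRG⟩ := hE.2 U
    choose i h hh using hRG
    have haff := hG.isAffine_obj
    choose H hH hRH using fun j =>
      Groth.Agent.Lib.Helper14.PhComp.exists_standardPh_refinesOver (h j) (F (i j)) (hF (i j))
    obtain ⟨F', hF', ⟨φ⟩⟩ := Groth.Agent.Lib.Helper14.PhComp.exists_standardPh_bind G hG H hH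
    refine ⟨F', hF', fun k => ?_⟩
    obtain ⟨m, h', hh'⟩ := hRH (φ.s₀ k).1 (φ.s₀ k).2
    have hw := φ.w₀ k
    change φ.h₀ k ≫ (H (φ.s₀ k).1).f (φ.s₀ k).2 ≫ G.f (φ.s₀ k).1 = F'.f k at hw
    refine ⟨⟨i (φ.s₀ k).1, m⟩, φ.h₀ k ≫ h', ?_⟩
    change (φ.h₀ k ≫ h') ≫ (F (i (φ.s₀ k).1)).f m ≫ E.f (i (φ.s₀ k).1) = F'.f k ≫ (U : T.Opens).ι
    have key : h' ≫ (F (i (φ.s₀ k).1)).f m ≫ E.f (i (φ.s₀ k).1) =
        (H (φ.s₀ k).1).f (φ.s₀ k).2 ≫ G.f (φ.s₀ k).1 ≫ (U : T.Opens).ι := by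
      rw [← Category.assoc, hh', Category.assoc, hh]
    calc (φ.h₀ k ≫ h') ≫ (F (i (φ.s₀ k).1)).f m ≫ E.f (i (φ.s₀ k).1)
        = φ.h₀ k ≫ (h' ≫ (F (i (φ.s₀ k).1)).f m ≫ E.f (i (φ.s₀ k).1)) := Category.assoc _ _ _
      _ = φ.h₀ k ≫ ((H (φ.s₀ k).1).f (φ.s₀ k).2 ≫ G.f (φ.s₀ k).1 ≫ (U : T.Opens).ι) :=
        congrArg (φ.h₀ k ≫ ·) key
      _ = (φ.h₀ k ≫ (H (φ.s₀ k).1).f (φ.s₀ k).2 ≫ G.f (φ.s₀ k).1) ≫ (U : T.Opens).ι := by
        simp only [Category.assoc]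
      _ = F'.f k ≫ (U : T.Opens).ι := by rw [hw]

end Groth.Agent.S7481
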