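import Groth.Statements.S7484
import Groth.Agent.Lib.Helper24.DescFin3

set_option autoImplicit false
open CategoryTheory CategoryTheory.Limits AlgebraicGeometry
universe u
open Desc

namespace Groth.Agent.S7484

open CategoryTheory CategoryTheory.Limits AlgebraicGeometry Opposite


/-- Let p : X -> Y be a surjective finite locally free morphism and d a positive integer such that for
every algebraically closed field k and every k-point of Y there are at most d k-points of X over it.
Let V be a scheme over X such that any d points of V (not necessarily distinct) lying over one point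
of Y are contained in an affine open of V. Then every descent datum on V relative to p is effective.
(Descent data are taken in functor-of-points form.) -/
theorem result {X Y : Scheme.{u}} (p : X ⟶ Y) [Surjective p] [IsFinite p] [Flat p] [LocallyOfFinitePresentation p] (d : ℕ) (hd : 0 < d) (hfib : ∀ (k : Type u) [Field k] [IsAlgClosed k] (y : Spec (CommRingCat.of k) ⟶ Y), Set.encard {x : Spec (CommRingCat.of k) ⟶ X | x ≫ p = y} ≤ d) (D : Desc.SchDD p) (hV : ∀ (y : Y) (v : Fin d → ↑(D.obj.left)), (∀ i, p (D.obj.hom (v i)) = y) → ∃ U : D.obj.left.Opens, IsAffineOpen U ∧ ∀ i, v i ∈ U) : ∃ W : Over Y, Nonempty ((Desc.toDD p).obj W ≅ D) := by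
  classical
  refine Groth.Agent.Lib.Helper24.DescFin.exists_iso_toDD_of_finite p D (d := (d : ℕ∞))
    (fun k _ _ y => hfib k y) ?_
  intro y s hsc hs
  by_cases hne : s.Nonempty
  · obtain ⟨v₀, hv₀⟩ := hne
    have hsc' : s.card ≤ d := by exact_mod_cast hsc
    let v : Fin d → D.obj.left := fun i =>
      if h : i.val < s.card then (s.equivFin.symm ⟨i.val, h⟩).val else v₀
    have hv : ∀ i, v i ∈ s := by
      intro i
      by_cases h : i.val < s.card
      · simp only [v, dif_pos h]; exact (s.equivFin.symm ⟨i.val, h⟩).2
      · simp only [v, dif_neg h]; exact hv₀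
    obtain ⟨U, hU, hU'⟩ := hV y v (fun i => hs _ (hv i))
    refine ⟨U, fun w hw => ?_, (U : Scheme.{u}), hU, 𝟙 _, inferInstance⟩
    have hj : (s.equivFin ⟨w, hw⟩).val < d := lt_of_lt_of_le (s.equivFin ⟨w, hw⟩).isLt hsc'
    have : v ⟨(s.equivFin ⟨w, hw⟩).val, hj⟩ = w := by
      simp only [v, dif_pos (s.equivFin ⟨w, hw⟩).isLt]
      simp
    rw [← this]; exact hU' _
  · rw [Finset.not_nonempty_iff_eq_empty] at hne
    subst hne
    exact ⟨⊥, by simp, ((⊥ : D.obj.left.Opens) : Scheme.{u}), isAffineOpen_bot _, 𝟙 _,
      inferInstance⟩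

end Groth.Agent.S7484
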