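import Groth.Statements.S7485
import Groth.Agent.Lib.Helper24.DescFin3
import Groth.Agent.Lib.Helper29.Avoid

set_option autoImplicit false
open CategoryTheory CategoryTheory.Limits AlgebraicGeometry
universe u
open Desc

namespace Groth.Agent.S7485

open CategoryTheory CategoryTheory.Limits AlgebraicGeometry Opposite


/-- Let p : X -> Y be a surjective finite locally free morphism and V a scheme over X which has an ample
invertible module. Then every descent datum on V relative to p is effective. (Descent data are taken
in functor-of-points form.) -/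
theorem result {X Y : Scheme.{u}} (p : X ⟶ Y) [Surjective p] [IsFinite p] [Flat p] [LocallyOfFinitePresentation p] (D : Desc.SchDD p) (L : D.obj.left.Modules) (hL : CohB1.IsAmple L) : ∃ W : Over Y, Nonempty ((Desc.toDD p).obj W ≅ D) := by
  refine Groth.Agent.Lib.Helper24.DescFin.exists_iso_toDD_of_finite p D (d := ⊤)
    (Groth.Agent.Lib.Helper24.FibCount.geomFibLE_top p) ?_
  intro y s _ hs
  obtain ⟨n, t, hZ, -, haff⟩ :=
    Groth.Agent.Lib.Helper29.QCoh.exists_affine_genLocus_finite_subset hL
      (s : Set D.obj.left) s.finite_toSet ⊤ (fun _ _ => trivial)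
  exact ⟨CohB1.genLocus _ t, fun v hv => hZ hv, _, haff, 𝟙 _, inferInstance⟩

end Groth.Agent.S7485
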