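import Groth.Statements.S7486
import Mathlib.AlgebraicGeometry.AffineScheme
import Groth.Agent.Lib.Helper10.GrpdPts
import Groth.Agent.Lib.Helper10.GrpdInvBasis

set_option autoImplicit false
universe u
open CategoryTheory CategoryTheory.Limits AlgebraicGeometry
open Grpd

namespace Groth.Agent.S7486

open CategoryTheory CategoryTheory.Limits AlgebraicGeometry in
lemma isoSpec_inv_appTop' (X : Scheme.{u}) [IsAffine X] :
    X.isoSpec.inv.appTop = (Scheme.ΓSpecIso Γ(X, ⊤)).inv := by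
  have h1 : X.isoSpec.inv.appTop ≫ X.isoSpec.hom.appTop = 𝟙 _ := by
    rw [← Scheme.Hom.comp_appTop, Iso.hom_inv_id]; rfl
  have h2 : X.isoSpec.hom.appTop = (Scheme.ΓSpecIso Γ(X, ⊤)).hom := X.toSpecΓ_appTop
  rw [h2] at h1
  rw [← cancel_mono (Scheme.ΓSpecIso Γ(X, ⊤)).hom, h1, Iso.inv_hom_id]

open CategoryTheory CategoryTheory.Limits AlgebraicGeometry in
lemma appTop_SpecMap_isoSpec_inv {X : Scheme.{u}} [IsAffine X] {D : CommRingCat.{u}}
    (φ : Γ(X, ⊤) ⟶ D) :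
    (Spec.map φ ≫ X.isoSpec.inv).appTop ≫ (Scheme.ΓSpecIso D).hom = φ := by
  rw [Scheme.Hom.comp_appTop, Category.assoc, Scheme.ΓSpecIso_naturality, isoSpec_inv_appTop',
    Iso.inv_hom_id_assoc]

/-- Let (U, R, s, t, c) be a groupoid scheme over S with U = Spec A and R = Spec B affine (A, B the
rings of global functions), and let x_i, i in I, be elements of A such that B is free as an A-module
through s^# with basis the elements t^#(x_i). Let C be the subring of R-invariant functions (those a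
with s^#(a) = t^#(a)). Then the x_i form a basis of A as a C-module, and the C-linear map A (x)_C A
-> B sending a (x) a' to t^#(a) s^#(a') is bijective (B carries the C-module structure through s^#).
(A groupoid scheme carries U, R, s, t, c, e, i over S with the groupoid axioms on T-points; c is
defined on the fibre product of s and t and sends a pair (a, b) with s(a) = t(b) to a composed with
b.) -/
theorem result (S : Scheme.{u}) (G : Grpd.GroupoidScheme S) [IsAffine G.U] [IsAffine G.R] (I : Type u) (x : I → Γ(G.U, ⊤)) (hB : letI := G.s.appTop.hom.toAlgebra; ∃ b : Module.Basis I Γ(G.U, ⊤) Γ(G.R, ⊤), ∀ i, b i = G.t.appTop.hom (x i)) : (∃ b : Module.Basis I G.invariants Γ(G.U, ⊤), ∀ i, b i = x i) ∧ (letI := (G.s.appTop.hom.comp G.invariants.subtype).toAlgebra; ∀ φ : TensorProduct G.invariants Γ(G.U, ⊤) Γ(G.U, ⊤) →ₗ[G.invariants] Γ(G.R, ⊤), (∀ a a' : Γ(G.U, ⊤), φ (a ⊗ₜ[G.invariants]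 a') = G.t.appTop.hom a * G.s.appTop.hom a') → Function.Bijective φ) := by
  open Groth.Agent.Lib.Helper10.GrpdPts Groth.Agent.Lib.Helper10.GrpdInvBasis TensorProduct in
  classical
  let σ : Γ(G.U, ⊤) →+* Γ(G.R, ⊤) := G.s.appTop.hom
  let τ : Γ(G.U, ⊤) →+* Γ(G.R, ⊤) := G.t.appTop.hom
  let ε : Γ(G.R, ⊤) →+* Γ(G.U, ⊤) := G.e.appTop.hom
  let algS : Algebra Γ(G.U, ⊤) Γ(G.R, ⊤) := σ.toAlgebra
  obtain ⟨b, hb⟩ := hB
  replace hb : ∀ i, b i = τ (x i) := hb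
  have hεσ : ∀ a, ε (σ a) = a := by
    intro a
    have h : G.s.appTop ≫ G.e.appTop = 𝟙 _ := by
      rw [← Scheme.Hom.comp_appTop, G.e_s]; rfl
    exact congrArg (fun f => f.hom a) h
  have hετ : ∀ a, ε (τ a) = a := by
    intro a
    have h : G.t.appTop ≫ G.e.appTop = 𝟙 _ := by
      rw [← Scheme.Hom.comp_appTop, G.e_t]; rfl
    exact congrArg (fun f => f.hom a) h
  -- the test ring `D = B ⊗_{t, A, s} B`
  let D : CommRingCat.{u} := CommRingCat.of (Bt τ ⊗[Γ(G.U, ⊤)] Γ(G.R, ⊤))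
  let r₁ : Γ(G.R, ⊤) →+* (Bt τ ⊗[Γ(G.U, ⊤)] Γ(G.R, ⊤)) :=
    (Algebra.TensorProduct.includeRight (R := Γ(G.U, ⊤)) (A := Bt τ) (B := Γ(G.R, ⊤))).toRingHom
  let r₂ : Γ(G.R, ⊤) →+* (Bt τ ⊗[Γ(G.U, ⊤)] Γ(G.R, ⊤)) :=
    (Algebra.TensorProduct.includeLeftRingHom (R := Γ(G.U, ⊤)) (A := Bt τ)
      (B := Γ(G.R, ⊤))).comp (toBt τ)
  have hr₁ : ∀ m, r₁ m = (1 : Bt τ) ⊗ₜ[Γ(G.U, ⊤)] m := fun m => rfl
  have hr₂ : ∀ m, r₂ m = (toBt τ m) ⊗ₜ[Γ(G.U, ⊤)] (1 : Γ(G.R, ⊤)) := fun m => rfl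
  let φ₁ : Γ(G.R, ⊤) ⟶ D := CommRingCat.ofHom r₁
  let φ₂ : Γ(G.R, ⊤) ⟶ D := CommRingCat.ofHom r₂
  have hφ : G.s.appTop ≫ φ₁ = G.t.appTop ≫ φ₂ := by
    ext a
    change r₁ (σ a) = r₂ (τ a)
    rw [hr₁, hr₂]
    have e1 : σ a = a • (1 : Γ(G.R, ⊤)) := by rw [Algebra.smul_def, mul_one]; rfl
    have e2 : toBt τ (τ a) = a • (1 : Bt τ) := by rw [Algebra.smul_def, mul_one]; rfl
    rw [e1, e2, TensorProduct.tmul_smul, TensorProduct.smul_tmul']
  let α : Spec D ⟶ G.R := Spec.map φ₁ ≫ G.R.isoSpec.inv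
  let β : Spec D ⟶ G.R := Spec.map φ₂ ≫ G.R.isoSpec.inv
  have hαβ : α ≫ G.s = β ≫ G.t := by
    simp only [α, β, Category.assoc]
    rw [← Scheme.isoSpec_inv_naturality, ← Scheme.isoSpec_inv_naturality, ← Category.assoc,
      ← Category.assoc, ← Spec.map_comp, ← Spec.map_comp, hφ]
  let γ' : Spec D ⟶ G.R := pc G α β hαβ
  let γ : Γ(G.R, ⊤) →+* (Bt τ ⊗[Γ(G.U, ⊤)] Γ(G.R, ⊤)) :=
    (γ'.appTop ≫ (Scheme.ΓSpecIso D).hom).hom
  have hγτ : ∀ a, γ (τ a) = (1 : Bt τ) ⊗ₜ[Γ(G.U, ⊤)] (τ a) := by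
    intro a
    have h1 : G.t.appTop ≫ γ'.appTop = G.t.appTop ≫ α.appTop := by
      rw [← Scheme.Hom.comp_appTop, ← Scheme.Hom.comp_appTop, pc_t]
    have h2 : α.appTop ≫ (Scheme.ΓSpecIso D).hom = φ₁ := appTop_SpecMap_isoSpec_inv φ₁
    have h3 : G.t.appTop ≫ γ'.appTop ≫ (Scheme.ΓSpecIso D).hom = G.t.appTop ≫ φ₁ := by
      rw [← Category.assoc, h1, Category.assoc, h2]
    exact congrArg (fun f => f.hom a) h3
  have hγσ : ∀ a, γ (σ a) = (toBt τ (σ a)) ⊗ₜ[Γ(G.U, ⊤)] (1 : Γ(G.R, ⊤)) := by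
    intro a
    have h1 : G.s.appTop ≫ γ'.appTop = G.s.appTop ≫ β.appTop := by
      rw [← Scheme.Hom.comp_appTop, ← Scheme.Hom.comp_appTop, pc_s]
    have h2 : β.appTop ≫ (Scheme.ΓSpecIso D).hom = φ₂ := appTop_SpecMap_isoSpec_inv φ₂
    have h3 : G.s.appTop ≫ γ'.appTop ≫ (Scheme.ΓSpecIso D).hom = G.s.appTop ≫ φ₂ := by
      rw [← Category.assoc, h1, Category.assoc, h2]
    exact congrArg (fun f => f.hom a) h3
  obtain ⟨h1, h2⟩ := basis_and_bijective σ τ x rfl ε hεσ hετ b hb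
    (coef_mem σ τ x rfl b hb γ hγτ hγσ)
  refine ⟨h1, ?_⟩
  intro φ hφ'
  exact h2 φ.toAddMonoidHom hφ'

end Groth.Agent.S7486
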