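import Groth.Statements.S7487
import Mathlib
import Groth.Agent.Lib.Helper20.HQ3
import Groth.Agent.Lib.Helper20.HQ4
import Groth.Agent.Lib.Helper25.GrpdTrans
import Groth.Agent.S1879

set_option autoImplicit false
universe u
open CategoryTheory CategoryTheory.Limits AlgebraicGeometry
open Grpd

namespace Groth.Agent.S7487



open TensorProduct Polynomial in
theorem sT_eq {C A B C' : Type u} [CommRing C] [CommRing A] [CommRing B] [CommRing C']
    [Algebra C A] [Algebra C B] [Algebra C C'] (s : A →ₐ[C] B)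
    (sT : A ⊗[C] C' →ₐ[C] B ⊗[C] C') (h : ∀ a c, sT (a ⊗ₜ c) = s a ⊗ₜ c) (x : A ⊗[C] C') :
    sT x = Groth.Agent.Lib.Helper20.HQ.bc s C' x := by
  induction x using TensorProduct.induction_on with
  | zero => simp
  | tmul a c => rw [h]; simp
  | add x y hx hy => rw [map_add, map_add, hx, hy]

/-- Let (U, R, s, t, c) be a groupoid scheme over S with U = Spec A and R = Spec B affine and s, t
finite locally free; let C be the subring of R-invariant functions of A and C -> C' a ring map. Put
A' = A (x)_C C' and B' = B (x)_C C' (B a C-algebra through s^#) and let C^1 be the subring of A'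
where the two maps s^# (x) 1, t^# (x) 1 : A' -> B' agree; the structure map C' -> A' lands in C^1,
giving φ : C' -> C^1. Then: (a) for every f in C^1 there are n > 0 and a polynomial P over C' whose
image in A'[x] is (x - f)^n; (b) every element of the kernel of φ is nilpotent; (c) if C -> C' is
flat then φ is bijective, that is C' -> A' is injective with image C^1. (The published statement
also asserts that the base change is again a groupoid scheme; this row omits that clause.) (A
groupoid scheme carries U, R, s, t, c, e, i over S with the groupoid axioms on T-points; c is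
defined on the fibre product of s and t and sends a pair (a, b) with s(a) = t(b) to a composed with
b.) -/
theorem result (S : Scheme.{u}) (G : Grpd.GroupoidScheme S) [IsAffine G.U] [IsAffine G.R] [IsFinite G.s] [Flat G.s] [LocallyOfFinitePresentation G.s] [IsFinite G.t] [Flat G.t] [LocallyOfFinitePresentation G.t] (C' : Type u) [CommRing C'] [Algebra G.invariants C'] : letI : Algebra G.invariants Γ(G.R, ⊤) := (G.s.appTop.hom.comp G.invariants.subtype).toAlgebra; ∀ (sT tT : TensorProduct G.invariants Γ(G.U, ⊤) C' →ₐ[G.invariants] TensorProduct G.invariants Γ(G.R, ⊤) C'), (∀ (a : Γ(G.U, ⊤)) (c : C'), sT (a ⊗ₜ c) = G.s.appTop.hom a ⊗ₜ c) → (∀ (a : Γ(G.U, ⊤)) (c : C'), tT (a ⊗ₜ c) = G.t.appTop.hom a ⊗ₜ c) → (∀ f : TensorProduct G.invariants Γ(G.U, ⊤) C', sT f = tT f → ∃ (n : ℕ) (P : Polynomial C'), 0 < n ∧ Polynomial.map (Algebra.TensorProduct.includeRight : C' →ₐ[G.invariants] TensorProduct G.invariants Γ(G.U, ⊤) C').toRingHom P = (Polynomial.X - Polynomial.C f) ^ n) ∧ (∀ c : C', (Algebra.TensorProduct.includeRight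 : C' →ₐ[G.invariants] TensorProduct G.invariants Γ(G.U, ⊤) C') c = 0 → IsNilpotent c) ∧ (Module.Flat G.invariants C' → Function.Injective (Algebra.TensorProduct.includeRight : C' →ₐ[G.invariants] TensorProduct G.invariants Γ(G.U, ⊤) C') ∧ ∀ f : TensorProduct G.invariants Γ(G.U, ⊤) C', sT f = tT f → f ∈ Set.range (Algebra.TensorProduct.includeRight : C' →ₐ[G.invariants] TensorProduct G.invariants Γ(G.U, ⊤) C')) := by

  classical
  intro sT tT hsT htT
  letI algCB : Algebra G.invariants Γ(G.R, ⊤) :=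
    (G.s.appTop.hom.comp G.invariants.subtype).toAlgebra
  letI algCD : Algebra G.invariants Γ(pullback G.s G.t, ⊤) :=
    ((pullback.snd G.s G.t).appTop.hom.comp (G.s.appTop.hom.comp G.invariants.subtype)).toAlgebra
  have hinvmem : ∀ c : G.invariants, G.s.appTop.hom c.1 = G.t.appTop.hom c.1 := fun c => c.2
  let sA : Γ(G.U, ⊤) →ₐ[G.invariants] Γ(G.R, ⊤) :=
    { G.s.appTop.hom with commutes' := fun _ => rfl }
  let tA : Γ(G.U, ⊤) →ₐ[G.invariants] Γ(G.R, ⊤) :=
    { G.t.appTop.hom with commutes' := fun c => (hinvmem c).symm }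
  have hsTx := sT_eq sA sT hsT
  have htTx := sT_eq tA tT htT
  have hC : ∀ a, sA a = tA a → a ∈ Set.range (algebraMap G.invariants Γ(G.U, ⊤)) := by
    intro a ha
    exact ⟨⟨a, ha⟩, rfl⟩
  have hinj : Function.Injective (algebraMap G.invariants Γ(G.U, ⊤)) := Subtype.val_injective
  refine ⟨?_, ?_, ?_⟩
  · intro f hf
    rw [hsTx, htTx] at hf
    have hfs : ∀ x : Γ(G.U, ⊤), (pullback.fst G.s G.t).appTop.hom (G.s.appTop.hom x) =
        (pullback.snd G.s G.t).appTop.hom (G.t.appTop.hom x) := by
      intro x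
      have h := congrArg (fun φ => φ.appTop.hom x) (pullback.condition (f := G.s) (g := G.t))
      simp only [Scheme.Hom.comp_appTop, CommRingCat.hom_comp, RingHom.comp_apply] at h
      exact h
    have hcs : ∀ x : Γ(G.U, ⊤), G.c.appTop.hom (G.s.appTop.hom x) =
        (pullback.snd G.s G.t).appTop.hom (G.s.appTop.hom x) := by
      intro x
      have h := congrArg (fun φ => φ.appTop.hom x) (Groth.Agent.Lib.Helper25.GrpdTrans.c_s G)
      simp only [Scheme.Hom.comp_appTop, CommRingCat.hom_comp, RingHom.comp_apply] at h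
      exact h
    have hct : ∀ x : Γ(G.U, ⊤), (pullback.fst G.s G.t).appTop.hom (G.t.appTop.hom x) =
        G.c.appTop.hom (G.t.appTop.hom x) := by
      intro x
      have h := congrArg (fun φ => φ.appTop.hom x) (Groth.Agent.Lib.Helper25.GrpdTrans.c_t G)
      simp only [Scheme.Hom.comp_appTop, CommRingCat.hom_comp, RingHom.comp_apply] at h
      exact h.symm
    let fstA : Γ(G.R, ⊤) →ₐ[G.invariants] Γ(pullback G.s G.t, ⊤) :=
      { (pullback.fst G.s G.t).appTop.hom with
        commutes' := fun c => by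
          show (pullback.fst G.s G.t).appTop.hom (G.s.appTop.hom c.1) =
            (pullback.snd G.s G.t).appTop.hom (G.s.appTop.hom c.1)
          rw [hfs, hinvmem] }
    let sndA : Γ(G.R, ⊤) →ₐ[G.invariants] Γ(pullback G.s G.t, ⊤) :=
      { (pullback.snd G.s G.t).appTop.hom with commutes' := fun _ => rfl }
    let cA : Γ(G.R, ⊤) →ₐ[G.invariants] Γ(pullback G.s G.t, ⊤) :=
      { G.c.appTop.hom with
        commutes' := fun c => by
          show G.c.appTop.hom (G.s.appTop.hom c.1) =
            (pullback.snd G.s G.t).appTop.hom (G.s.appTop.hom c.1)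
          rw [hcs] }
    have sq1 : IsPushout (CommRingCat.ofHom tA.toRingHom) (CommRingCat.ofHom sA.toRingHom)
        (CommRingCat.ofHom sndA.toRingHom) (CommRingCat.ofHom fstA.toRingHom) :=
      Groth.Agent.S1880.isPushout_appTop (IsPullback.of_hasPullback G.s G.t)
    have sq2 : IsPushout (CommRingCat.ofHom sA.toRingHom) (CommRingCat.ofHom sA.toRingHom)
        (CommRingCat.ofHom sndA.toRingHom) (CommRingCat.ofHom cA.toRingHom) :=
      Groth.Agent.S1880.isPushout_appTop
        (Groth.Agent.Lib.Helper25.GrpdTrans.isPullback_c_snd G)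
    letI algAB : Algebra Γ(G.U, ⊤) Γ(G.R, ⊤) := sA.toRingHom.toAlgebra
    haveI hfin : Module.Finite Γ(G.U, ⊤) Γ(G.R, ⊤) := G.s.finite_appTop
    haveI hflat : Module.Flat Γ(G.U, ⊤) Γ(G.R, ⊤) :=
      (HasRingHomProperty.iff_of_isAffine (P := @Flat)).mp inferInstance
    haveI hfp : Algebra.FinitePresentation Γ(G.U, ⊤) Γ(G.R, ⊤) :=
      (HasRingHomProperty.iff_of_isAffine (P := @LocallyOfFinitePresentation)).mp inferInstance
    haveI : Module.FinitePresentation Γ(G.U, ⊤) Γ(G.R, ⊤) :=
      Module.FinitePresentation.of_finite_of_finitePresentation _ _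
    haveI : Module.Projective Γ(G.U, ⊤) Γ(G.R, ⊤) := Module.Flat.projective_of_finitePresentation
    obtain ⟨n, Q, _, _, ⟨e⟩⟩ := Groth.Agent.S1879.exists_compl Γ(G.U, ⊤) Γ(G.R, ⊤)
    obtain ⟨bN, -⟩ : ∃ bN : Module.Basis (Fin n) Γ(G.U, ⊤) (Fin n → Γ(G.U, ⊤)), bN = bN :=
      ⟨Pi.basisFun Γ(G.U, ⊤) (Fin n), rfl⟩
    have hes : ∀ a : Γ(G.U, ⊤), G.e.appTop.hom (G.s.appTop.hom a) = a := by
      intro a
      have h := congrArg (fun φ => φ.appTop.hom a) G.e_s
      simp only [Scheme.Hom.comp_appTop, CommRingCat.hom_comp, RingHom.comp_apply] at h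
      simpa using h
    let l : Γ(G.R, ⊤) →ₗ[Γ(G.U, ⊤)] Γ(G.U, ⊤) :=
      { toFun := G.e.appTop.hom
        map_add' := map_add _
        map_smul' := fun a b => by
          show G.e.appTop.hom (G.s.appTop.hom a * b) = a * G.e.appTop.hom b
          rw [map_mul, hes] }
    have hl : l 1 = 1 := map_one G.e.appTop.hom
    obtain ⟨ρ, hρ⟩ : ∃ ρ : Polynomial Γ(G.U, ⊤), ρ = Groth.Agent.Lib.Helper20.HQ.rho e bN :=
      ⟨_, rfl⟩
    have horth := Groth.Agent.Lib.Helper20.HQ.rho_coeff_mul e bN
    have h1 := Groth.Agent.Lib.Helper20.HQ.rho_eval_one e bN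
    have h0 := Groth.Agent.Lib.Helper20.HQ.rho_coeff_zero e bN l hl
    rw [← hρ] at horth h1 h0
    -- the two invariant elements of `A ⊗ C'[X]`
    obtain ⟨ga, hga'⟩ : ∃ ga : TensorProduct G.invariants Γ(G.U, ⊤) (Polynomial C'),
        ga = (1 : Γ(G.U, ⊤)) ⊗ₜ[G.invariants] (Polynomial.X : Polynomial C') := ⟨_, rfl⟩
    obtain ⟨fT, hfT'⟩ : ∃ fT : TensorProduct G.invariants Γ(G.U, ⊤) (Polynomial C'),
        fT = Algebra.TensorProduct.map (AlgHom.id G.invariants Γ(G.U, ⊤))
          (Polynomial.CAlgHom : C' →ₐ[G.invariants] Polynomial C') f := ⟨_, rfl⟩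
    have hga : Groth.Agent.Lib.Helper20.HQ.bc sA (Polynomial C') ga =
        Groth.Agent.Lib.Helper20.HQ.bc tA (Polynomial C') ga := by
      rw [hga']
      simp only [Groth.Agent.Lib.Helper20.HQ.bc, Algebra.TensorProduct.map_tmul, map_one]
    have hfT : Groth.Agent.Lib.Helper20.HQ.bc sA (Polynomial C') fT =
        Groth.Agent.Lib.Helper20.HQ.bc tA (Polynomial C') fT := by
      rw [hfT', Groth.Agent.Lib.Helper20.HQ.bc_specialize_apply,
        Groth.Agent.Lib.Helper20.HQ.bc_specialize_apply, hf]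
    obtain ⟨pa, hpa⟩ := Groth.Agent.Lib.Helper20.HQ.eval_rho_mem_range sA tA fstA sndA cA
      sq1 sq2 hct hC e bN (Polynomial C') ga hga
    obtain ⟨pb, hpb⟩ := Groth.Agent.Lib.Helper20.HQ.eval_rho_mem_range sA tA fstA sndA cA
      sq1 sq2 hct hC e bN (Polynomial C') (ga - fT) (by rw [map_sub, map_sub, hga, hfT])
    rw [← hρ] at hpa hpb
    -- transport along `Phi`
    obtain ⟨incl, hincl⟩ : ∃ incl : C' →+* TensorProduct G.invariants Γ(G.U, ⊤) C',
        incl = (Algebra.TensorProduct.includeRight :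
          C' →ₐ[G.invariants] TensorProduct G.invariants Γ(G.U, ⊤) C').toRingHom := ⟨_, rfl⟩
    obtain ⟨ρ', hρ'⟩ : ∃ ρ' : Polynomial (TensorProduct G.invariants Γ(G.U, ⊤) C'),
        ρ' = ρ.map (Algebra.TensorProduct.includeLeftRingHom :
          Γ(G.U, ⊤) →+* TensorProduct G.invariants Γ(G.U, ⊤) C') := ⟨_, rfl⟩
    have hΦ : ∀ y : TensorProduct G.invariants Γ(G.U, ⊤) (Polynomial C'),
        Groth.Agent.Lib.Helper20.HQ.Phi (Polynomial.eval y
          (ρ.map (Algebra.TensorProduct.includeLeftRingHom :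
            Γ(G.U, ⊤) →+* TensorProduct G.invariants Γ(G.U, ⊤) (Polynomial C')))) =
        ρ'.eval₂ Polynomial.C (Groth.Agent.Lib.Helper20.HQ.Phi y) := by
      intro y
      rw [Polynomial.eval_map, hρ', Polynomial.eval₂_map]
      have := Polynomial.hom_eval₂ ρ (Algebra.TensorProduct.includeLeftRingHom :
            Γ(G.U, ⊤) →+* TensorProduct G.invariants Γ(G.U, ⊤) (Polynomial C'))
        (Groth.Agent.Lib.Helper20.HQ.Phi (C := G.invariants) (A := Γ(G.U, ⊤))
          (C' := C')).toRingHom y
      refine this.trans ?_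
      congr 1
      apply RingHom.ext
      intro a
      exact Groth.Agent.Lib.Helper20.HQ.Phi_includeLeft a
    have hA : pa.map incl = ρ' := by
      have h := congrArg Groth.Agent.Lib.Helper20.HQ.Phi hpa
      rw [Groth.Agent.Lib.Helper20.HQ.Phi_includeRight, hΦ, hga',
        Groth.Agent.Lib.Helper20.HQ.Phi_one_tmul_X, Polynomial.eval₂_C_X] at h
      rw [hincl]
      exact h
    have hB : pb.map incl = ρ'.comp (Polynomial.X - Polynomial.C f) := by
      have h := congrArg Groth.Agent.Lib.Helper20.HQ.Phi hpb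
      rw [Groth.Agent.Lib.Helper20.HQ.Phi_includeRight, hΦ, map_sub, hga',
        Groth.Agent.Lib.Helper20.HQ.Phi_one_tmul_X, hfT',
        Groth.Agent.Lib.Helper20.HQ.Phi_map_C] at h
      rw [hincl]
      exact h
    have horth' : ∀ r s, ρ'.coeff r * ρ'.coeff s = if r = s then ρ'.coeff r else 0 := by
      intro r s
      rw [hρ', Polynomial.coeff_map, Polynomial.coeff_map, ← map_mul, horth]
      split_ifs <;> simp
    have h1' : ρ'.eval 1 = 1 := by
      rw [hρ', Polynomial.eval_one_map, h1, map_one]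
    have h0' : ρ'.coeff 0 = 0 := by
      rw [hρ', Polynomial.coeff_map, h0, map_zero]
    have hfin := Groth.Agent.Lib.Helper20.HQ.sum_idem_comp_pow ρ' horth' h1' h0'
      (Polynomial.X - Polynomial.C f)
    refine ⟨ρ'.natDegree.factorial, ∑ r ∈ Finset.range (ρ'.natDegree + 1),
      Polynomial.C (pa.coeff r) * pb ^ (ρ'.natDegree.factorial / r), Nat.factorial_pos _, ?_⟩
    rw [← hincl, Polynomial.map_sum, ← hfin]
    refine Finset.sum_congr rfl fun r _ => ?_
    rw [Polynomial.map_mul, Polynomial.map_pow, Polynomial.map_C, hB, ← Polynomial.coeff_map, hA]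
  · intro c hc
    rw [nilpotent_iff_mem_prime]
    intro J hJ
    haveI hint : Algebra.IsIntegral G.invariants Γ(G.U, ⊤) := Groth.Agent.S1879.result S G
    haveI : FaithfulSMul G.invariants Γ(G.U, ⊤) :=
      (faithfulSMul_iff_algebraMap_injective _ _).mpr hinj
    have hsurj : Function.Surjective
        (PrimeSpectrum.comap (algebraMap G.invariants Γ(G.U, ⊤))) :=
      Algebra.IsIntegral.comap_surjective _ _
    haveI hS : Surjective (Spec.map (CommRingCat.ofHom (algebraMap G.invariants Γ(G.U, ⊤)))) :=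
      ⟨hsurj⟩
    have hS3 : Surjective (Spec.map (CommRingCat.ofHom
        (Algebra.TensorProduct.includeRight :
          C' →ₐ[G.invariants] TensorProduct G.invariants Γ(G.U, ⊤) C').toRingHom)) := by
      have key : (pullbackSpecIso G.invariants Γ(G.U, ⊤) C').inv ≫ pullback.snd _ _ =
          Spec.map (CommRingCat.ofHom (Algebra.TensorProduct.includeRight :
            C' →ₐ[G.invariants] TensorProduct G.invariants Γ(G.U, ⊤) C').toRingHom) :=
        pullbackSpecIso_inv_snd _ _ _
      rw [← key]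
      infer_instance
    obtain ⟨P, hP⟩ := hS3.surj ⟨J, hJ⟩
    have h1 : c ∈ ((Spec.map (CommRingCat.ofHom
        (Algebra.TensorProduct.includeRight :
          C' →ₐ[G.invariants] TensorProduct G.invariants Γ(G.U, ⊤) C').toRingHom)) P).asIdeal := by
      show (Algebra.TensorProduct.includeRight :
          C' →ₐ[G.invariants] TensorProduct G.invariants Γ(G.U, ⊤) C') c ∈ P.asIdeal
      rw [hc]
      exact zero_mem _
    rw [hP] at h1
    exact h1
  · intro hflat
    refine ⟨Groth.Agent.Lib.Helper20.HQ.includeRight_injective_of_flat hinj C', ?_⟩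
    intro f hf
    rw [hsTx, htTx] at hf
    exact Groth.Agent.Lib.Helper20.HQ.mem_range_includeRight_of_flat sA tA hC C' f hf

end Groth.Agent.S7487
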