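import Groth.Statements.S7493
import Mathlib.AlgebraicGeometry.ResidueField
import Mathlib.AlgebraicGeometry.Pullbacks
import Groth.Agent.Lib.Helper10.AlgClosedExt

set_option autoImplicit false
universe u
open CategoryTheory CategoryTheory.Limits AlgebraicGeometry
open Grpd

namespace Groth.Agent.S7493

open CategoryTheory CategoryTheory.Limits AlgebraicGeometry in
/-- If `x : T ⟶ X` (with `T` having field residue fields, as always) composes with `f : X ⟶ Y` to
an isomorphism, then `f` induces an isomorphism of residue fields at `x pt`. -/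
lemma isIso_residueFieldMap_of_comp {T X Y : Scheme.{u}} (x : T ⟶ X) (f : X ⟶ Y) (pt : T)
    [IsIso (x ≫ f)] : IsIso (f.residueFieldMap (x pt)) := by
  have h1 : (x ≫ f).residueFieldMap pt = f.residueFieldMap (x pt) ≫ x.residueFieldMap pt :=
    Scheme.residueFieldMap_comp x f pt
  have h2' : IsIso ((x ≫ f).residueFieldMap pt) := inferInstance
  have h2 : IsIso (f.residueFieldMap (x pt) ≫ x.residueFieldMap pt) := by
    rw [← h1]
    exact h2'
  have hinj : Function.Injective (x.residueFieldMap pt).hom :=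
    (x.residueFieldMap pt).hom.injective
  have hsurj : Function.Surjective (x.residueFieldMap pt).hom := by
    intro y
    refine ⟨(f.residueFieldMap (x pt)).hom
      ((inv (f.residueFieldMap (x pt) ≫ x.residueFieldMap pt)).hom y), ?_⟩
    have := congrArg (fun g => g.hom y)
      (IsIso.inv_hom_id (f.residueFieldMap (x pt) ≫ x.residueFieldMap pt))
    exact this
  have h3 : IsIso (x.residueFieldMap pt) := by
    rw [ConcreteCategory.isIso_iff_bijective]
    exact ⟨hinj, hsurj⟩
  exact IsIso.of_isIso_comp_right _ (x.residueFieldMap pt)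

/-- Let (U, R, s, t, c) be a groupoid scheme over S with U = Spec k for a field k, and let r be a point
of R. Then there exist a field extension k -> k' with k' algebraically closed and a point r' of the
restriction R' of R along g : U' = Spec k' -> U, that is R' = (U' x_(g,U,t) R) x_(s pr, U, g) U'
with t' the projection to the first factor U' and s' the projection to the last factor U', such that
r' maps to r under R' -> R and both s' and t' induce isomorphisms on residue fields at r' (k' ->
κ(r') bijective). (A groupoid scheme carries U, R, s, t, c, e, i over S with the groupoid axioms on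
T-points; c is defined on the fibre product of s and t and sends a pair (a, b) with s(a) = t(b) to a
composed with b.) -/
theorem result (S : Scheme.{u}) (G : Grpd.GroupoidScheme S) (k : Type u) [Field k] (eU : G.U ≅ Spec (CommRingCat.of k)) (r : G.R) : ∃ (k' : Type u) (_ : Field k') (_ : IsAlgClosed k') (_ : Algebra k k'), ∃ r' : ↑(pullback (pullback.snd (Spec.map (CommRingCat.ofHom (algebraMap k k')) ≫ eU.inv) G.t ≫ G.s) (Spec.map (CommRingCat.ofHom (algebraMap k k')) ≫ eU.inv)), (pullback.fst (pullback.snd (Spec.map (CommRingCat.ofHom (algebraMap k k')) ≫ eU.inv) G.t ≫ G.s) (Spec.map (CommRingCat.ofHom (algebraMap k k')) ≫ eU.inv) ≫ pullback.snd (Spec.map (CommRingCat.ofHom (algebraMap k k')) ≫ eU.inv) G.t) r' = r ∧ IsIso ((pullback.snd (pullback.snd (Spec.map (CommRingCat.ofHom (algebraMap k k')) ≫ eU.inv) G.t ≫ G.s) (Spec.map (CommRingCat.ofHom (algebraMap k k')) ≫ eU.inv)).residueFieldMap r') ∧ IsIso ((pullback.fst (pullback.snd (Spec.map (CommRingCat.ofHom (algebraMap k k')) ≫ eU.inv) G.t ≫ G.s)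 (Spec.map (CommRingCat.ofHom (algebraMap k k')) ≫ eU.inv) ≫ pullback.fst (Spec.map (CommRingCat.ofHom (algebraMap k k')) ≫ eU.inv) G.t).residueFieldMap r') := by
  open Groth.Agent.Lib.Helper10.AlgClosedExt in
  let pr : Spec (G.R.residueField r) ⟶ G.R := G.R.fromSpecResidueField r
  let τ' : CommRingCat.of k ⟶ G.R.residueField r := Spec.preimage (pr ≫ G.t ≫ eU.hom)
  let σ' : CommRingCat.of k ⟶ G.R.residueField r := Spec.preimage (pr ≫ G.s ≫ eU.hom)
  have hτ' : Spec.map τ' = pr ≫ G.t ≫ eU.hom := Spec.map_preimage _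
  have hσ' : Spec.map σ' = pr ≫ G.s ≫ eU.hom := Spec.map_preimage _
  obtain ⟨k', hk'F, hk'C, j, b, hb⟩ :=
    exists_algClosed_aut' (k := k) (κ := G.R.residueField r) (Field.toIsField _) σ'.hom τ'.hom
  obtain ⟨j', hj'⟩ : ∃ j' : G.R.residueField r ⟶ CommRingCat.of k', ∀ y, j'.hom y = j y :=
    ⟨CommRingCat.ofHom j, fun _ => rfl⟩
  obtain ⟨b', hb'⟩ : ∃ b' : CommRingCat.of k' ⟶ CommRingCat.of k', ∀ y, b'.hom y = b y :=
    ⟨CommRingCat.ofHom b.toRingHom, fun _ => rfl⟩
  have hb'iso : IsIso b' := by
    rw [ConcreteCategory.isIso_iff_bijective]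
    have : (b' : k' → k') = b := funext hb'
    change Function.Bijective (b' : k' → k')
    rw [this]
    exact b.bijective
  have e1 : τ' ≫ j' ≫ b' = σ' ≫ j' := by
    ext a
    change b'.hom (j'.hom (τ'.hom a)) = j'.hom (σ'.hom a)
    rw [hb', hj', hj', hb]
  let _ : Algebra k k' := (τ' ≫ j').hom.toAlgebra
  refine ⟨k', hk'F, hk'C, (τ' ≫ j').hom.toAlgebra, ?_⟩
  have hι : CommRingCat.ofHom (algebraMap k k') = τ' ≫ j' := rfl
  set gk := Spec.map (CommRingCat.ofHom (algebraMap k k')) ≫ eU.inv with hgk_def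
  let ρ : Spec (CommRingCat.of k') ⟶ G.R := Spec.map j' ≫ pr
  have hgk : gk = ρ ≫ G.t := by
    rw [hgk_def, hι, Spec.map_comp, hτ']
    simp only [ρ, Category.assoc, Iso.hom_inv_id, Category.comp_id]
  let β : Spec (CommRingCat.of k') ⟶ Spec (CommRingCat.of k') := Spec.map b'
  have hβiso : IsIso β := inferInstance
  have hβ : β ≫ gk = ρ ≫ G.s := by
    rw [hgk_def, hι, ← Category.assoc, ← Spec.map_comp, Category.assoc, e1, Spec.map_comp, hσ']
    simp only [ρ, Category.assoc, Iso.hom_inv_id, Category.comp_id]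
  let x₁ : Spec (CommRingCat.of k') ⟶ pullback gk G.t :=
    pullback.lift (𝟙 _) ρ (by rw [Category.id_comp, hgk])
  have hx₁f : x₁ ≫ pullback.fst gk G.t = 𝟙 _ := pullback.lift_fst _ _ _
  have hx₁s : x₁ ≫ pullback.snd gk G.t = ρ := pullback.lift_snd _ _ _
  let x : Spec (CommRingCat.of k') ⟶ pullback (pullback.snd gk G.t ≫ G.s) gk :=
    pullback.lift x₁ β (by rw [← Category.assoc, hx₁s, hβ])
  have hxf : x ≫ pullback.fst (pullback.snd gk G.t ≫ G.s) gk = x₁ := pullback.lift_fst _ _ _
  have hxs : x ≫ pullback.snd (pullback.snd gk G.t ≫ G.s) gk = β := pullback.lift_snd _ _ _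
  let pt : ↥(Spec (CommRingCat.of k')) := IsLocalRing.closedPoint k'
  refine ⟨x pt, ?_, ?_, ?_⟩
  · rw [← Scheme.Hom.comp_apply, ← Category.assoc, hxf, hx₁s]
    have hρ : ρ pt = pr ((Spec.map j') pt) := rfl
    rw [hρ]
    exact Scheme.fromSpecResidueField_apply r _
  · have : IsIso (x ≫ pullback.snd (pullback.snd gk G.t ≫ G.s) gk) := by rw [hxs]; exact hβiso
    exact isIso_residueFieldMap_of_comp x _ pt
  · have : IsIso (x ≫ pullback.fst (pullback.snd gk G.t ≫ G.s) gk ≫ pullback.fst gk G.t) := by
      rw [← Category.assoc, hxf, hx₁f]; infer_instance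
    exact isIso_residueFieldMap_of_comp x _ pt

end Groth.Agent.S7493
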