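import Groth.Statements.S7494
-- (no extra imports)

set_option autoImplicit false
universe u
open CategoryTheory MonoidalCategory CartesianMonoidalCategory MonObj GrpObj AlgebraicGeometry
open AlgGrp

namespace Groth.Agent.S7494

open CategoryTheory MonoidalCategory CartesianMonoidalCategory MonObj GrpObj AlgebraicGeometry in
lemma one_smul' {S : Scheme.{u}} {G X : Over S} [GrpObj G] (a : AlgGrp.Action G X) {T : Over S}
    (x : T ⟶ X) : lift (toUnit T ≫ η[G]) x ≫ a.act = x := by
  have h : lift (toUnit T ≫ η[G]) x = lift (toUnit T) x ≫ (η[G] ▷ X) := by
    rw [lift_whiskerRight]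
  rw [h, Category.assoc, a.one_act, lift_leftUnitor_hom]

open CategoryTheory MonoidalCategory CartesianMonoidalCategory MonObj GrpObj AlgebraicGeometry in
lemma mul_smul' {S : Scheme.{u}} {G X : Over S} [GrpObj G] (a : AlgGrp.Action G X) {T : Over S}
    (g h : T ⟶ G) (x : T ⟶ X) :
    lift (g * h) x ≫ a.act = lift g (lift h x ≫ a.act) ≫ a.act := by
  have e : lift (g * h) x = lift (lift g h) x ≫ (μ[G] ▷ X) := by
    rw [lift_whiskerRight, Hom.mul_def]
  rw [e, Category.assoc, a.mul_act, lift_lift_associator_hom_assoc, lift_whiskerLeft_assoc]

/-- Let G be a group scheme over S acting on a scheme X over S by a. The action is free, meaning that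
for every scheme T over S and all T-points g of G and x of X with g · x = x one has g = 1, if and
only if the morphism G x_S X -> X x_S X, (g, x) ↦ (a(g, x), x), is a monomorphism of schemes. -/
theorem result {S : Scheme.{u}} (G X : Over S) [GrpObj G] (a : AlgGrp.Action G X) : (∀ (T : Over S) (g : T ⟶ G) (x : T ⟶ X), lift g x ≫ a.act = x → g = toUnit T ≫ η[G]) ↔ Mono (lift a.act (snd G X)).left := by
  constructor
  · intro hfree
    have : Mono (lift a.act (snd G X)) := by
      constructor
      intro T p p' hpp'
      have h1 : (p ≫ fst G X) = p ≫ fst G X := rfl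
      set g := p ≫ fst G X with hg
      set x := p ≫ snd G X with hx
      set g' := p' ≫ fst G X with hg'
      set x' := p' ≫ snd G X with hx'
      have hp : p = lift g x := by
        apply CartesianMonoidalCategory.hom_ext <;> simp [hg, hx]
      have hp' : p' = lift g' x' := by
        apply CartesianMonoidalCategory.hom_ext <;> simp [hg', hx']
      have hxx' : x = x' := by
        have := congrArg (· ≫ snd X X) hpp'
        simpa [hx, hx'] using this
      have hact : lift g x ≫ a.act = lift g' x' ≫ a.act := by
        have := congrArg (· ≫ fst X X) hpp'
        simp only [Category.assoc, lift_fst] at this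
        rw [← hp, ← hp']
        exact this
      -- (g'⁻¹ * g) • x = x
      have key : lift (g'⁻¹ * g) x ≫ a.act = x := by
        rw [mul_smul', hact, ← mul_smul', inv_mul_cancel, Hom.one_def, ← hxx', one_smul']
      have := hfree T _ x key
      rw [← Hom.one_def] at this
      have hgg' : g = g' := by
        have := congrArg (g' * ·) this
        simpa using this
      rw [hp, hp', hgg', hxx']
    infer_instance
  · intro hmono T g x hgx
    have : Mono (lift a.act (snd G X)) := Over.mono_of_mono_left _
    have h : lift g x ≫ lift a.act (snd G X) = lift (toUnit T ≫ η[G]) x ≫ lift a.act (snd G X) := by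
      apply CartesianMonoidalCategory.hom_ext
      · simp only [Category.assoc, lift_fst, hgx, one_smul']
      · simp only [Category.assoc, lift_snd]
    have := (cancel_mono _).1 h
    have := congrArg (· ≫ fst G X) this
    simpa using this

end Groth.Agent.S7494
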