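import Groth.Statements.S7496
-- import your own Groth.Agent.* helpers here

set_option autoImplicit false
universe w u
open CategoryTheory CategoryTheory.Limits AlgebraicGeometry
open HTop

namespace Groth.Agent.S7496

theorem isCompact_inter_preimage {T X : Scheme.{u}} [QuasiSeparatedSpace T] (f : X ⟶ T)
    (V : X.Opens) (hV : IsCompact (V : Set X)) (W : T.Opens) (hW : IsCompact (W : Set T)) :
    IsCompact ((V : Set X) ∩ f ⁻¹' (W : Set T)) := by
  have : CompactSpace ↥(V : Scheme.{u}) := isCompact_iff_compactSpace.mp hV
  have hqc : QuasiCompact (V.ι ≫ f) := quasiCompact_of_compactSpace _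
  have h1 : IsCompact ((V.ι ≫ f) ⁻¹' (W : Set T)) :=
    hqc.isCompact_preimage _ W.isOpen hW
  have h2 := h1.image V.ι.continuous
  have e : V.ι '' ((V.ι ≫ f) ⁻¹' (W : Set T)) = (V : Set X) ∩ f ⁻¹' (W : Set T) := by
    have : ((V.ι ≫ f) ⁻¹' (W : Set T)) = V.ι ⁻¹' (f ⁻¹' (W : Set T)) := by
      ext x
      simp
    rw [this, Set.image_preimage_eq_inter_range, Scheme.Opens.range_ι, Set.inter_comm]
  rwa [e] at h2


/-- Let T be a quasi-separated scheme and {f_i : T_i -> T} a family of morphisms. Then every affine open
of T is the union of the images of finitely many quasi-compact opens of the T_i (the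
quasi-compactness condition in the definition of an fpqc covering) if and only if for every point t
of T there are finitely many quasi-compact opens U_j of members T_(i_j) such that the union of the
f_(i_j)(U_j) is a neighbourhood of t. (The published statement also asks every f_i to be flat, on
both sides, and lists two more equivalent forms of the quasi-compactness condition; this row omits
flatness, which plays no part in the equivalence, and states only the equivalence of the
quasi-compactness condition with the neighbourhood condition.) -/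
theorem result {T : Scheme.{u}} [QuasiSeparatedSpace T] (E : PreZeroHypercover.{w} T) : QuasiCompactCover E ↔ ∀ t : T, ∃ (n : ℕ) (i : Fin n → E.I₀) (V : ∀ j, (E.X (i j)).Opens), (∀ j, IsCompact (V j : Set (E.X (i j)))) ∧ (⋃ j, ⇑(E.f (i j)) '' (V j : Set (E.X (i j)))) ∈ nhds t := by
  constructor
  · intro hqc t
    obtain ⟨_, ⟨U, hU : IsAffineOpen U, rfl⟩, htU, -⟩ :=
      T.isBasis_affineOpens.exists_subset_of_mem_open (Set.mem_univ t) isOpen_univ
    obtain ⟨n, i, V, hV, hUV⟩ := QuasiCompactCover.exists_isAffineOpen_of_isCompact E hU.isCompact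
    refine ⟨n, i, V, fun j => (hV j).isCompact, ?_⟩
    rw [hUV]
    exact U.isOpen.mem_nhds htU
  · intro h
    refine ⟨fun {U} hU => ?_⟩
    apply IsCompactOpenCovered.of_isCompact_of_forall_exists_isCompactOpenCovered hU.isCompact
    intro x hx
    obtain ⟨n, i, V, hVc, hN⟩ := h x
    set N : Set T := ⋃ j, ⇑(E.f (i j)) '' (V j : Set (E.X (i j))) with hNdef
    have hxint : x ∈ (U : Set T) ∩ interior N := ⟨hx, mem_interior_iff_mem_nhds.mpr hN⟩
    obtain ⟨_, ⟨W, hW : IsAffineOpen W, rfl⟩, hxW, hWsub⟩ :=
      T.isBasis_affineOpens.exists_subset_of_mem_open hxint (U.isOpen.inter isOpen_interior)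
    refine ⟨W, fun y hy => (hWsub hy).1, hxW, W.isOpen, ?_⟩
    refine IsCompactOpenCovered.of_finite (κ := Fin n) i
      (fun j => V j ⊓ (E.f (i j)) ⁻¹ᵁ W) (fun j => ?_) ?_
    · exact isCompact_inter_preimage (E.f (i j)) (V j) (hVc j) W hW.isCompact
    · have : ∀ j, ⇑(E.f (i j)) '' ((V j ⊓ (E.f (i j)) ⁻¹ᵁ W : (E.X (i j)).Opens) : Set (E.X (i j))) =
          ⇑(E.f (i j)) '' (V j : Set (E.X (i j))) ∩ (W : Set T) := by
        intro j
        rw [← Set.image_inter_preimage]
        rfl
      simp only [this]
      rw [← Set.iUnion_inter, ← hNdef]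
      exact Set.inter_eq_right.mpr fun y hy => interior_subset (hWsub hy).2

end Groth.Agent.S7496
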