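import Groth.Statements.S7497
-- import your own Groth.Agent.* helpers here

set_option autoImplicit false
universe u
open CategoryTheory CategoryTheory.Limits AlgebraicGeometry
open HTop

namespace Groth.Agent.S7497

/-- Let {f_i : T_i -> T} be a family of flat morphisms of schemes and {g_j : S_j -> T} an fpqc covering
such that for every j the family of base changes {S_j x_T T_i -> S_j} is an fpqc covering. Then {f_i
: T_i -> T} is an fpqc covering. (fpqc coverings are Mathlib's: flat, jointly surjective, every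
affine open of the target covered by images of finitely many quasi-compact opens.) -/
theorem result {T : Scheme.{u}} (E : PreZeroHypercover.{u} T) (hflat : ∀ i, Flat (E.f i)) (𝒱 : Scheme.Cover Scheme.fpqcPrecoverage T) (hloc : ∀ j, (E.pullback₁ (𝒱.f j)).presieve₀ ∈ Scheme.fpqcPrecoverage (𝒱.X j)) : E.presieve₀ ∈ Scheme.fpqcPrecoverage T := by
  have hV : 𝒱.presieve₀ ∈ Scheme.fpqcPrecoverage T := 𝒱.mem₀
  change 𝒱.presieve₀ ∈ (Scheme.qcPrecoverage ⊓ Scheme.precoverage @Flat) T at hV
  change ∀ j, (E.pullback₁ (𝒱.f j)).presieve₀ ∈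
    (Scheme.qcPrecoverage ⊓ Scheme.precoverage @Flat) (𝒱.X j) at hloc
  change E.presieve₀ ∈ (Scheme.qcPrecoverage ⊓ Scheme.precoverage @Flat) T
  have hVqc : QuasiCompactCover 𝒱.toPreZeroHypercover :=
    Scheme.presieve₀_mem_qcPrecoverage_iff.mp hV.1
  have hVcov := (Scheme.presieve₀_mem_precoverage_iff _).mp hV.2
  have hlocqc : ∀ j, QuasiCompactCover (E.pullback₁ (𝒱.f j)) :=
    fun j => Scheme.presieve₀_mem_qcPrecoverage_iff.mp (hloc j).1
  have hloccov := fun j => (Scheme.presieve₀_mem_precoverage_iff _).mp (hloc j).2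
  refine ⟨?_, ?_⟩
  · rw [Scheme.presieve₀_mem_qcPrecoverage_iff]
    have h𝒱' : QuasiCompactCover (QuasiCompactCover.ulift 𝒱.toPreZeroHypercover) := inferInstance
    have hloc' : ∀ k, QuasiCompactCover
        (E.pullback₁ ((QuasiCompactCover.ulift 𝒱.toPreZeroHypercover).f k)) := fun k => hlocqc _
    have hF : QuasiCompactCover ((QuasiCompactCover.ulift 𝒱.toPreZeroHypercover).bind
        (fun k => E.pullback₁ ((QuasiCompactCover.ulift 𝒱.toPreZeroHypercover).f k))) :=
      inferInstance
    refine QuasiCompactCover.of_hom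
      (𝒱 := (QuasiCompactCover.ulift 𝒱.toPreZeroHypercover).bind
        (fun k => E.pullback₁ ((QuasiCompactCover.ulift 𝒱.toPreZeroHypercover).f k)))
      ⟨fun ji => ji.2, fun ji => pullback.snd _ _, ?_⟩
    intro ji
    exact pullback.condition.symm
  · rw [Scheme.presieve₀_mem_precoverage_iff]
    refine ⟨fun t => ?_, hflat⟩
    obtain ⟨j, s, rfl⟩ := hVcov.1 t
    obtain ⟨i, z, rfl⟩ := (hloccov j).1 s
    refine ⟨i, (pullback.snd (𝒱.f j) (E.f i)) z, ?_⟩
    rw [← Scheme.Hom.comp_apply, ← pullback.condition, Scheme.Hom.comp_apply]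
    rfl

end Groth.Agent.S7497
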