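import Groth.Statements.S7498
import Mathlib.AlgebraicGeometry.PullbackCarrier
import Mathlib.AlgebraicGeometry.ResidueField
import Groth.Agent.Lib.Helper10.GrpdPts

set_option autoImplicit false
universe u
open CategoryTheory CategoryTheory.Limits AlgebraicGeometry
open Grpd

namespace Groth.Agent.S7498

/-- Let (U, R, s, t, c) be a groupoid scheme over S and r, r' points of R with t(r) = t(r'); put u =
s(r), u' = s(r') and let F_u, F_u' be the scheme-theoretic fibres of s. Then there are a field k
which is a common extension of κ(u) and κ(u') (morphisms a, b : Spec k -> U with images u, u') and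
an isomorphism of the base changes (F_u)_k and (F_u')_k over Spec k, which moreover can be chosen to
send some point lying over r to a point lying over r'. (The published statement also compares the
germs of s at r and at r' when s and t are flat or flat of finite presentation; this row omits
that.) (A groupoid scheme carries U, R, s, t, c, e, i over S with the groupoid axioms on T-points; c
is defined on the fibre product of s and t and sends a pair (a, b) with s(a) = t(b) to a composed
with b.) -/
theorem result (S : Scheme.{u}) (G : Grpd.GroupoidScheme S) (r r' : G.R) (h : G.t r = G.t r') : ∃ (k : Type u) (_ : Field k) (a b : Spec (CommRingCat.of k) ⟶ G.U) (φ : pullback G.s a ≅ pullback G.s b) (p : ↑(pullback G.s a)), a (IsLocalRing.closedPoint k) = G.s r ∧ b (IsLocalRing.closedPoint k) = G.s r' ∧ φ.hom ≫ pullback.snd G.s b = pullback.snd G.s a ∧ pullback.fst G.s a p = r ∧ pullback.fst G.s b (φ.hom p) = r' := by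
  open Groth.Agent.Lib.Helper10.GrpdPts in
  obtain ⟨z, hz₁, hz₂⟩ := Scheme.Pullback.exists_preimage_pullback (f := G.t) (g := G.t) r r' h
  let k : Type u := (pullback G.t G.t).residueField z
  let pt : Spec (CommRingCat.of k) ⟶ pullback G.t G.t := (pullback G.t G.t).fromSpecResidueField z
  have hpt : pt (IsLocalRing.closedPoint k) = z := Scheme.fromSpecResidueField_apply _ _
  let ρ₁ : Spec (CommRingCat.of k) ⟶ G.R := pt ≫ pullback.fst G.t G.t
  let ρ₂ : Spec (CommRingCat.of k) ⟶ G.R := pt ≫ pullback.snd G.t G.t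
  have hρ₁ : ρ₁ (IsLocalRing.closedPoint k) = r := by
    change pullback.fst G.t G.t (pt (IsLocalRing.closedPoint k)) = r
    rw [hpt, hz₁]
  have hρ₂ : ρ₂ (IsLocalRing.closedPoint k) = r' := by
    change pullback.snd G.t G.t (pt (IsLocalRing.closedPoint k)) = r'
    rw [hpt, hz₂]
  have hρ : ρ₁ ≫ G.t = ρ₂ ≫ G.t := by
    simp only [ρ₁, ρ₂, Category.assoc, pullback.condition]
  let a : Spec (CommRingCat.of k) ⟶ G.U := ρ₁ ≫ G.s
  let b : Spec (CommRingCat.of k) ⟶ G.U := ρ₂ ≫ G.s
  have hδ : (ρ₁ ≫ G.i) ≫ G.s = ρ₂ ≫ G.t := by rw [Category.assoc, G.i_s, hρ]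
  let δ : Spec (CommRingCat.of k) ⟶ G.R := pc G (ρ₁ ≫ G.i) ρ₂ hδ
  have hδs : δ ≫ G.s = b := pc_s _ _ _
  have hδt : δ ≫ G.t = a := by rw [pc_t, Category.assoc, G.i_t]
  have hx : pullback.fst G.s a ≫ G.s = (pullback.snd G.s a ≫ δ) ≫ G.t := by
    rw [pullback.condition, Category.assoc, hδt]
  let fwd : pullback G.s a ⟶ pullback G.s b :=
    pullback.lift (pc G (pullback.fst G.s a) (pullback.snd G.s a ≫ δ) hx) (pullback.snd G.s a)
      (by rw [pc_s, Category.assoc, hδs])
  have hy : pullback.fst G.s b ≫ G.s = (pullback.snd G.s b ≫ δ) ≫ G.s := by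
    rw [pullback.condition, Category.assoc, hδs]
  have hy' : pullback.fst G.s b ≫ G.s = ((pullback.snd G.s b ≫ δ) ≫ G.i) ≫ G.t := by
    rw [Category.assoc, G.i_t, hy]
  let bwd : pullback G.s b ⟶ pullback G.s a :=
    pullback.lift (pc G (pullback.fst G.s b) ((pullback.snd G.s b ≫ δ) ≫ G.i) hy')
      (pullback.snd G.s b)
      (by rw [pc_s, Category.assoc, G.i_s, Category.assoc, hδt])
  have h1 : fwd ≫ bwd = 𝟙 _ := by
    apply pullback.hom_ext
    · rw [Category.assoc, pullback.lift_fst, Category.id_comp, precomp_pc]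
      have e1 : fwd ≫ pullback.fst G.s b =
        pc G (pullback.fst G.s a) (pullback.snd G.s a ≫ δ) hx := pullback.lift_fst _ _ _
      have e2 : fwd ≫ (pullback.snd G.s b ≫ δ) ≫ G.i = (pullback.snd G.s a ≫ δ) ≫ G.i := by
        rw [← Category.assoc, ← Category.assoc]
        congr 2
        exact pullback.lift_snd _ _ _
      rw [pc_congr _ e1 e2]
      exact pc_pc_i _ _ hx
    · rw [Category.assoc, pullback.lift_snd, Category.id_comp]
      exact pullback.lift_snd _ _ _
  have h2 : bwd ≫ fwd = 𝟙 _ := by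
    apply pullback.hom_ext
    · rw [Category.assoc, pullback.lift_fst, Category.id_comp, precomp_pc]
      have e1 : bwd ≫ pullback.fst G.s a =
        pc G (pullback.fst G.s b) ((pullback.snd G.s b ≫ δ) ≫ G.i) hy' := pullback.lift_fst _ _ _
      have e2 : bwd ≫ pullback.snd G.s a ≫ δ = pullback.snd G.s b ≫ δ := by
        rw [← Category.assoc]
        congr 1
        exact pullback.lift_snd _ _ _
      rw [pc_congr _ e1 e2]
      exact pc_i_pc _ _ hy
    · rw [Category.assoc, pullback.lift_snd, Category.id_comp]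
      exact pullback.lift_snd _ _ _
  let q : Spec (CommRingCat.of k) ⟶ pullback G.s a :=
    pullback.lift ρ₁ (𝟙 _) (by rw [Category.id_comp])
  have hq1 : q ≫ pullback.fst G.s a = ρ₁ := pullback.lift_fst _ _ _
  have hq2 : q ≫ pullback.snd G.s a = 𝟙 _ := pullback.lift_snd _ _ _
  have hq3 : q ≫ fwd ≫ pullback.fst G.s b = ρ₂ := by
    rw [pullback.lift_fst, precomp_pc]
    have e2 : q ≫ pullback.snd G.s a ≫ δ = δ := by rw [← Category.assoc, hq2, Category.id_comp]
    rw [pc_congr _ hq1 e2]
    exact pc_i_pc' ρ₁ ρ₂ hρ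
  refine ⟨k, inferInstance, a, b, ⟨fwd, bwd, h1, h2⟩, q (IsLocalRing.closedPoint k), ?_, ?_,
    pullback.lift_snd _ _ _, ?_, ?_⟩
  · change G.s (ρ₁ (IsLocalRing.closedPoint k)) = _
    rw [hρ₁]
  · change G.s (ρ₂ (IsLocalRing.closedPoint k)) = _
    rw [hρ₂]
  · rw [← hρ₁, ← hq1]; rfl
  · rw [← hρ₂, ← hq3]; rfl

end Groth.Agent.S7498
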