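import Groth.Statements.S7499
import Groth.Agent.S0593
import Groth.Agent.Lib.Helper10.GrpdMaxOpen
-- import your own Groth.Agent.* helpers here

set_option autoImplicit false
universe u
open CategoryTheory CategoryTheory.Limits AlgebraicGeometry
open Grpd

namespace Groth.Agent.S7499

/-- Let (U, R, s, t, c) be a groupoid scheme over S with s and t integral, and g : U' -> U an integral
morphism such that every R-orbit of U meets the image of g. Let R' = (U' x_(g,U,t) R) x_(s pr, U, g)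
U' be the restriction of R to U', with t' the projection to the first factor U' and s' the
projection to the last. If u' is a point of U' contained in an affine open W' of U' with t'^{-1}(W')
= s'^{-1}(W'), then g(u') is contained in an affine open W of U with s^{-1}(W) = t^{-1}(W). (A
groupoid scheme carries U, R, s, t, c, e, i over S with the groupoid axioms on T-points; c is
defined on the fibre product of s and t and sends a pair (a, b) with s(a) = t(b) to a composed with
b.) -/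
theorem result (S : Scheme.{u}) (G : Grpd.GroupoidScheme S) [IsIntegralHom G.s] [IsIntegralHom G.t] (U' : Scheme.{u}) (g : U' ⟶ G.U) [IsIntegralHom g] (horb : ∀ u : G.U, ∃ r : G.R, G.s r = u ∧ G.t r ∈ Set.range ⇑g) (u' : U') (W' : U'.Opens) (hW' : IsAffineOpen W') (hu' : u' ∈ W') (hinv : (pullback.fst (pullback.snd g G.t ≫ G.s) g ≫ pullback.fst g G.t) ⁻¹ᵁ W' = (pullback.snd (pullback.snd g G.t ≫ G.s) g) ⁻¹ᵁ W') : ∃ W : G.U.Opens, IsAffineOpen W ∧ g u' ∈ W ∧ G.s ⁻¹ᵁ W = G.t ⁻¹ᵁ W := by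
  classical
  -- points of the restricted groupoid
  have key : ∀ (a b : U') (r : G.R), g a = G.t r → G.s r = g b → (a ∈ W' ↔ b ∈ W') := by
    intro a b r h1 h2
    obtain ⟨p, hp1, hp2⟩ :=
      Scheme.Pullback.exists_preimage_pullback (f := g) (g := G.t) a r h1
    have h3 : (pullback.snd g G.t ≫ G.s) p = g b := by
      rw [Scheme.Hom.comp_apply, hp2, h2]
    obtain ⟨ρ, hρ1, hρ2⟩ := Scheme.Pullback.exists_preimage_pullback
      (f := pullback.snd g G.t ≫ G.s) (g := g) p b h3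
    have e1 : ρ ∈ (pullback.fst (pullback.snd g G.t ≫ G.s) g ≫ pullback.fst g G.t) ⁻¹ᵁ W' ↔
        a ∈ W' := by
      change (pullback.fst (pullback.snd g G.t ≫ G.s) g ≫ pullback.fst g G.t) ρ ∈ W' ↔ _
      rw [Scheme.Hom.comp_apply, hρ1, hp1]
    have e2 : ρ ∈ (pullback.snd (pullback.snd g G.t ≫ G.s) g) ⁻¹ᵁ W' ↔ b ∈ W' := by
      change pullback.snd (pullback.snd g G.t ≫ G.s) g ρ ∈ W' ↔ _
      rw [hρ2]
    rw [← e1, ← e2, hinv]
  -- composition on points
  have comp_pt : ∀ r₁ r₂ : G.R, G.s r₁ = G.t r₂ → ∃ r, G.s r = G.s r₂ ∧ G.t r = G.t r₁ := by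
    intro r₁ r₂ h
    obtain ⟨ρ, h1, h2⟩ :=
      Scheme.Pullback.exists_preimage_pullback (f := G.s) (g := G.t) r₁ r₂ h
    have hl : pullback.lift (pullback.fst G.s G.t) (pullback.snd G.s G.t) pullback.condition =
        𝟙 _ := by
      apply pullback.hom_ext <;> simp
    refine ⟨G.c ρ, ?_, ?_⟩
    · have := G.comp_s (pullback.fst G.s G.t) (pullback.snd G.s G.t) pullback.condition
      rw [hl, Category.id_comp] at this
      rw [← Scheme.Hom.comp_apply, this, Scheme.Hom.comp_apply, h2]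
    · have := G.comp_t (pullback.fst G.s G.t) (pullback.snd G.s G.t) pullback.condition
      rw [hl, Category.id_comp] at this
      rw [← Scheme.Hom.comp_apply, this, Scheme.Hom.comp_apply, h1]
  -- the invariant open
  let D : Set G.U := g '' (W' : Set U')ᶜ
  have hD : IsClosed D := g.isClosedMap _ W'.isOpen.isClosed_compl
  let C : Set G.U := G.s '' (G.t ⁻¹' D)
  have hC : IsClosed C := G.s.isClosedMap _ (hD.preimage G.t.continuous)
  let W : G.U.Opens := ⟨Cᶜ, hC.isOpen_compl⟩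
  have memW : ∀ u : G.U, u ∈ W ↔ ∀ r : G.R, G.s r = u → ∀ a : U', g a = G.t r → a ∈ W' := by
    intro u
    change u ∉ C ↔ _
    constructor
    · intro hu r hr a ha
      by_contra hcon
      exact hu ⟨r, ⟨a, hcon, ha⟩, hr⟩
    · rintro h ⟨r, ⟨a, ha1, ha2⟩, hr⟩
      exact ha1 (h r hr a ha2)
  have hle : G.s ⁻¹ᵁ W ≤ G.t ⁻¹ᵁ W := by
    intro r hr
    change G.t r ∈ W
    rw [memW]
    intro r₁ hr₁ a ha
    obtain ⟨r₂, h1, h2⟩ := comp_pt r₁ r hr₁
    exact (memW (G.s r)).mp hr r₂ h1 a (ha.trans h2.symm)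
  have heq : G.s ⁻¹ᵁ W = G.t ⁻¹ᵁ W := Groth.Agent.Lib.Helper10.GrpdMaxOpen.eq_of_le G W hle
  have hgu : g u' ∈ W := by
    rw [memW]
    intro r hr a ha
    exact (key a u' r ha hr).mpr hu'
  have hpre : g ⁻¹ᵁ W = W' := by
    ext a
    change g a ∈ W ↔ a ∈ W'
    rw [memW]
    constructor
    · intro h
      refine h (G.e (g a)) ?_ a ?_
      · rw [← Scheme.Hom.comp_apply, G.e_s]; rfl
      · rw [← Scheme.Hom.comp_apply, G.e_t]; rfl
    · intro ha r hr b hb
      exact (key b a r hb hr).mpr ha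
  refine ⟨W, ?_, hgu, heq⟩
  -- affineness
  have haffpre : IsAffine (g ⁻¹ᵁ W).toScheme := by
    have : IsAffineOpen (g ⁻¹ᵁ W) := by rw [hpre]; exact hW'
    exact this
  have hg1 : IsIntegralHom (g ∣_ W) :=
    IsZariskiLocalAtTarget.restrict (inferInstance : IsIntegralHom g) _
  have ht1 : IsIntegralHom (G.t ∣_ W) :=
    IsZariskiLocalAtTarget.restrict (inferInstance : IsIntegralHom G.t) _
  have hs1 : IsIntegralHom (G.s ∣_ W) :=
    IsZariskiLocalAtTarget.restrict (inferInstance : IsIntegralHom G.s) _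
  have haffX : IsAffine (pullback (g ∣_ W) (G.t ∣_ W)) :=
    isAffine_of_isAffineHom (pullback.fst (g ∣_ W) (G.t ∣_ W))
  let F : pullback (g ∣_ W) (G.t ∣_ W) ⟶ W.toScheme :=
    pullback.snd (g ∣_ W) (G.t ∣_ W) ≫ (G.R.isoOfEq heq.symm).hom ≫ (G.s ∣_ W)
  have hFint : IsIntegralHom F := inferInstance
  have hFsurj : Surjective F := by
    refine ⟨fun w => ?_⟩
    obtain ⟨r, hr1, a, ha⟩ := horb w.1
    have hrs : r ∈ G.s ⁻¹ᵁ W := by
      change G.s r ∈ W
      rw [hr1]; exact w.2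
    have hrt : r ∈ G.t ⁻¹ᵁ W := heq ▸ hrs
    have haW : a ∈ g ⁻¹ᵁ W := by
      change g a ∈ W
      rw [ha]; exact hrt
    let a' : (g ⁻¹ᵁ W).toScheme := ⟨a, haW⟩
    let r' : (G.t ⁻¹ᵁ W).toScheme := ⟨r, hrt⟩
    have hpt : (g ∣_ W) a' = (G.t ∣_ W) r' := by
      apply Subtype.ext
      rw [morphismRestrict_base_coe, morphismRestrict_base_coe]
      exact ha
    obtain ⟨ξ, -, hξ⟩ := Scheme.Pullback.exists_preimage_pullback (f := g ∣_ W)
      (g := G.t ∣_ W) a' r' hpt
    refine ⟨ξ, ?_⟩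
    apply Subtype.ext
    change ((pullback.snd (g ∣_ W) (G.t ∣_ W) ≫ (G.R.isoOfEq heq.symm).hom ≫ (G.s ∣_ W)) ξ).1 = w.1
    rw [Scheme.Hom.comp_apply, Scheme.Hom.comp_apply, hξ, morphismRestrict_base_coe]
    have h5 : ((G.R.isoOfEq heq.symm).hom r').1 = r := by
      have := congr($(Scheme.isoOfEq_hom_ι G.R heq.symm) r')
      exact this
    rw [h5, hr1]
  exact Groth.Agent.S0593.result _ _ F

end Groth.Agent.S7499
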