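import Groth.Statements.S7500
import Mathlib.AlgebraicGeometry.Pullbacks
import Groth.Agent.Lib.Helper10.GrpdPts

set_option autoImplicit false
universe u
open CategoryTheory CategoryTheory.Limits AlgebraicGeometry
open Grpd

namespace Groth.Agent.S7500

/-- Let (U, R, s, t, c) be a groupoid scheme over S and G -> U its stabilizer group scheme (the base
change of j = (t, s) along the diagonal). The action of G on R by composition, base changed to G_0 =
G x_(U, pr_0) (U x_S U), makes R a pseudo G_0-torsor over U x_S U. Concretely: let α : G x_(U, t) R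
-> R x_(s, U, t) R be the morphism with components (γ viewed in R, r) and β : G x_(U, t) R -> R
x_(j, U x_S U, j) R the morphism with components (c ∘ α, r); then β is an isomorphism. (A groupoid
scheme carries U, R, s, t, c, e, i over S with the groupoid axioms on T-points; c is defined on the
fibre product of s and t and sends a pair (a, b) with s(a) = t(b) to a composed with b.) -/
theorem result (S : Scheme.{u}) (G : Grpd.GroupoidScheme S) (α : pullback G.stabilizerToU G.t ⟶ pullback G.s G.t) (hα₁ : α ≫ pullback.fst G.s G.t = pullback.fst G.stabilizerToU G.t ≫ pullback.fst G.j G.diag) (hα₂ : α ≫ pullback.snd G.s G.t = pullback.snd G.stabilizerToU G.t) (β : pullback G.stabilizerToU G.t ⟶ pullback G.j G.j) (hβ₁ : β ≫ pullback.fst G.j G.j = α ≫ G.c) (hβ₂ : β ≫ pullback.snd G.j G.j = pullback.snd G.stabilizerToU G.t) : IsIso β := by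
  open Groth.Agent.Lib.Helper10.GrpdPts in
  -- notation
  replace hα₁ : α ≫ pullback.fst G.s G.t = pullback.fst G.stabilizerToU G.t ≫ stabFst G := hα₁
  set γ' : pullback G.stabilizerToU G.t ⟶ G.R :=
    pullback.fst G.stabilizerToU G.t ≫ stabFst G with hγ'
  set r : pullback G.stabilizerToU G.t ⟶ G.R := pullback.snd G.stabilizerToU G.t with hr
  have hγ's : γ' ≫ G.s = r ≫ G.t := by
    rw [hγ', Category.assoc, stabFst_s, pullback.condition]
  have hαc : α ≫ G.c = pc G γ' r hγ's := by
    unfold pc
    congr 1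
    apply pullback.hom_ext
    · rw [pullback.lift_fst, hα₁]
    · rw [pullback.lift_snd, hα₂]
  set r₁ : pullback G.j G.j ⟶ G.R := pullback.fst G.j G.j with hr₁
  set r₂ : pullback G.j G.j ⟶ G.R := pullback.snd G.j G.j with hr₂
  have hj : r₁ ≫ G.j = r₂ ≫ G.j := pullback.condition
  obtain ⟨ht, hs⟩ := (j_eq_iff r₁ r₂).1 hj
  have hγ : r₁ ≫ G.s = (r₂ ≫ G.i) ≫ G.t := by rw [Category.assoc, G.i_t, hs]
  set γ : pullback G.j G.j ⟶ G.R := pc G r₁ (r₂ ≫ G.i) hγ with hγdef
  let sp : pullback G.j G.j ⟶ G.stabilizer := stabLift γ (r₂ ≫ G.t)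
    (by rw [hγdef, pc_s, Category.assoc, G.i_s]) (by rw [hγdef, pc_t, ht])
  have hsp : sp ≫ G.stabilizerToU = r₂ ≫ G.t := stabLift_toU _ _ _ _
  let inv : pullback G.j G.j ⟶ pullback G.stabilizerToU G.t := pullback.lift sp r₂ hsp
  have hinvγ' : inv ≫ γ' = γ := by
    rw [hγ', ← Category.assoc, pullback.lift_fst]
    exact stabLift_fst _ _ _ _
  have hinvr : inv ≫ r = r₂ := pullback.lift_snd _ _ _
  refine ⟨inv, ?_, ?_⟩
  · apply pullback.hom_ext
    · rw [Category.assoc, pullback.lift_fst, Category.id_comp]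
      apply stab_hom_ext
      rw [Category.assoc, stabLift_fst, hγdef, precomp_pc]
      have e1 : β ≫ r₁ = pc G γ' r hγ's := by rw [hr₁, hβ₁, hαc]
      have e2 : β ≫ r₂ ≫ G.i = r ≫ G.i := by rw [← Category.assoc, hr₂, hβ₂]
      rw [pc_congr _ e1 e2]
      exact pc_pc_i γ' r hγ's
    · rw [Category.assoc, pullback.lift_snd, Category.id_comp, hr₂, hβ₂]
  · apply pullback.hom_ext
    · rw [Category.assoc, hβ₁, hαc, Category.id_comp, precomp_pc, pc_congr _ hinvγ' hinvr]
      exact pc_i_pc r₁ r₂ hs
    · rw [Category.assoc, hβ₂, Category.id_comp]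
      exact hinvr

end Groth.Agent.S7500
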