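import Groth.Statements.S7501
import Mathlib.CategoryTheory.Sites.Canonical
import Mathlib.AlgebraicGeometry.Sites.BigZariski

set_option autoImplicit false
universe w u
open HTop

namespace Groth.Agent.S7501

open CategoryTheory CategoryTheory.Limits AlgebraicGeometry in
/-- A jointly surjective family of open immersions generates a Zariski covering sieve. -/
lemma generate_ofArrows_mem_zariski {P : Scheme.{u}} {J : Type*} (X : J → Scheme.{u})
    (ι : ∀ j, X j ⟶ P) (hopen : ∀ j, IsOpenImmersion (ι j))
    (hcov : ∀ x : P, ∃ j, x ∈ Set.range (ι j).base) :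
    Sieve.ofArrows X ι ∈ Scheme.zariskiTopology P :=
  (Scheme.Cover.mkOfCovers (P := @IsOpenImmersion) J X ι (fun x => by
    obtain ⟨j, y, hy⟩ := hcov x
    exact ⟨j, y, hy⟩) hopen).mem_grothendieckTopology

open CategoryTheory CategoryTheory.Limits AlgebraicGeometry in
/-- Let F be a presheaf of sets on the category of schemes. If F is a sheaf for the Zariski topology
and, for every proper surjective morphism f : V -> U, F has the sheaf property for the one-arrow
family {f} (sections over V whose two pullbacks to V x_U V agree come from exactly one section over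
U), then F has the sheaf property for every ph covering. (The published statement is an equivalence
for presheaves on the big ph site of a base scheme and adds that, for a Zariski sheaf, the condition
on proper surjective morphisms may be asked only for affine targets; this row states, for presheaves
on all schemes, only that the two conditions imply the sheaf property for ph coverings.) -/
theorem result (F : Scheme.{u}ᵒᵖ ⥤ Type w) (h₁ : Presieve.IsSheaf Scheme.zariskiTopology F) (h₂ : ∀ (U V : Scheme.{u}) (f : V ⟶ U), IsProper f → Surjective f → Presieve.IsSheafFor F (Presieve.singleton f)) : HTop.IsPhSheaf F := by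
  intro X R hR
  set J := Sheaf.finestTopologySingle F with hJ
  have hZ : Scheme.zariskiTopology ≤ J := fun X S hS Y f =>
    h₁ _ (Scheme.zariskiTopology.pullback_stable f hS)
  have hP : ∀ {U V : Scheme.{u}} (f : V ⟶ U), IsProper f → Surjective f →
      Sieve.generate (Presieve.singleton f) ∈ J U := by
    intro U V f hf hs Y g
    rw [← Sieve.pullbackArrows_comm, Presieve.pullback_singleton,
      ← Presieve.isSheafFor_iff_generate]
    exact h₂ _ _ _ inferInstance inferInstance
  obtain ⟨E, hE, rfl⟩ := PreZeroHypercoverFamily.mem_precoverage_iff.mp hR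
  have hE : HTop.IsPhCover E := hE
  rw [Presieve.isSheafFor_iff_generate]
  suffices h : Sieve.generate E.presieve₀ ∈ J X by
    have := h X (𝟙 X)
    rwa [Sieve.pullback_id] at this
  -- reduce to affine opens
  have hcovX : Sieve.ofArrows _ (X.openCoverOfIsOpenCover _ (iSup_affineOpens_eq_top X)).f ∈ J X :=
    hZ _ (X.openCoverOfIsOpenCover _ (iSup_affineOpens_eq_top X)).mem_grothendieckTopology
  refine J.transitive hcovX _ ?_
  rintro Y f ⟨Z, a, b, ⟨U'⟩, rfl⟩
  rw [Sieve.pullback_comp]
  apply J.pullback_stable
  obtain ⟨U, hU'⟩ : ∃ U : X.affineOpens, U = U' := ⟨U', rfl⟩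
  subst hU'
  change Sieve.pullback (U : X.Opens).ι (Sieve.generate E.presieve₀) ∈ J _
  obtain ⟨F', hF', href⟩ := hE.2 U
  have hsub : Sieve.generate F'.presieve₀ ≤
      Sieve.pullback (U : X.Opens).ι (Sieve.generate E.presieve₀) := by
    rintro Y' f' ⟨Z', a', b', ⟨j⟩, rfl⟩
    obtain ⟨i, h, hh⟩ := href j
    refine ⟨E.X i, a' ≫ h, E.f i, ⟨i⟩, ?_⟩
    rw [Category.assoc, Category.assoc, hh]
  refine J.superset_covering hsub ?_
  obtain ⟨P, f, ι, hprop, hsurj, hopen, hfac, hcov⟩ := hF'.exists_proper
  refine J.transitive (hP f hprop hsurj) _ ?_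
  rintro Y' f' ⟨Z', a', b', ⟨⟩, rfl⟩
  rw [Sieve.pullback_comp]
  apply J.pullback_stable
  have hsub2 : Sieve.ofArrows _ ι ≤ Sieve.pullback f (Sieve.generate F'.presieve₀) := by
    rintro Y'' f'' ⟨Z'', a'', b'', ⟨j⟩, rfl⟩
    refine ⟨F'.X j, a'', F'.f j, ⟨j⟩, ?_⟩
    rw [Category.assoc, hfac]
  exact J.superset_covering hsub2 (hZ _ (generate_ofArrows_mem_zariski _ ι hopen hcov))

end Groth.Agent.S7501
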