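import Groth.Statements.S7509
import Groth.Agent.Lib.Helper25.GrpdPair

set_option autoImplicit false
universe u
open CategoryTheory CategoryTheory.Limits AlgebraicGeometry
open Grpd

namespace Groth.Agent.S7509

/-- Let (U, R, s, t, c) be a groupoid scheme over S with U the spectrum of a field and R quasi-compact
(equivalently s, t quasi-compact), and let Z be the scheme-theoretic image of j = (t, s) : R -> U
x_S U. Then (U, Z, pr_0|_Z, pr_1|_Z, pr_02) is a groupoid scheme over S; stated as: there are a
groupoid scheme G' over S and a morphism of groupoid schemes φ : (U, R, s, t, c) -> G' which is an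
isomorphism on object schemes, such that j' : G'.R -> G'.U x_S G'.U is a closed immersion whose
kernel ideal sheaf equals the kernel ideal sheaf of j followed by the induced isomorphism U x_S U ->
G'.U x_S G'.U (so G'.R is the scheme-theoretic image of j, transported). (A groupoid scheme carries
U, R, s, t, c, e, i over S with the groupoid axioms on T-points; c is defined on the fibre product
of s and t and sends a pair (a, b) with s(a) = t(b) to a composed with b.) -/
theorem result (S : Scheme.{u}) (G : Grpd.GroupoidScheme S) (k : Type u) [Field k] (eU : G.U ≅ Spec (CommRingCat.of k)) [CompactSpace G.R] : ∃ (G' : Grpd.GroupoidScheme S) (φ : Grpd.GroupoidScheme.Hom G G'), IsIso φ.fU ∧ IsClosedImmersion G'.j ∧ G'.j.ker = (G.j ≫ pullback.map G.pU G.pU G'.pU G'.pU φ.fU φ.fU (𝟙 S) ((Category.comp_id _).trans φ.fU_over.symm) ((Category.comp_id _).trans φ.fU_over.symm)).ker := by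
  have h1 : Subsingleton G.U := eU.hom.homeomorph.injective.subsingleton
  have h2 : IsIntegral G.U :=
    have : Nonempty G.U := ⟨eU.inv (Classical.arbitrary _)⟩
    isIntegral_of_isOpenImmersion eU.hom
  have hA : IsAffine G.U := IsAffine.of_isIso eU.hom
  have hqs : QuasiSeparatedSpace ↥(pullback G.pU G.pU) :=
    quasiSeparatedSpace_of_quasiSeparated (pullback.fst G.pU G.pU)
  have hqc : QuasiCompact G.j := inferInstance
  let f := Groth.Agent.Lib.Helper25.GrpdPair.jHom G
  have hf1 : QuasiCompact f.fR := hqc
  have hf2 : IsIso f.fU := (inferInstance : IsIso (𝟙 G.U))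
  have hf3 : Subsingleton (Groth.Agent.Lib.Helper25.GrpdPair.pairGroupoid G.U G.pU).U := h1
  have hf4 : IsIntegral (Groth.Agent.Lib.Helper25.GrpdPair.pairGroupoid G.U G.pU).U := h2
  have hj : (Groth.Agent.Lib.Helper25.GrpdImage.imageGroupoid f).j =
      Groth.Agent.Lib.Helper25.GrpdImage.ι f := by
    apply pullback.hom_ext
    · rw [GroupoidScheme.j, pullback.lift_fst]; rfl
    · rw [GroupoidScheme.j, pullback.lift_snd]; rfl
  have hci : IsClosedImmersion (Groth.Agent.Lib.Helper25.GrpdImage.ι f) :=
    (inferInstance : IsClosedImmersion f.fR.imageι)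
  refine ⟨Groth.Agent.Lib.Helper25.GrpdImage.imageGroupoid f,
    Groth.Agent.Lib.Helper25.GrpdImage.toImageHom f, hf2, ?_, ?_⟩
  · rw [hj]; exact hci
  · refine (congrArg Scheme.Hom.ker hj).trans ?_
    refine (Groth.Agent.Lib.Helper25.GrpdImage.ker_ι f).trans ?_
    congr 1
    change G.j = G.j ≫ pullback.map G.pU G.pU G.pU G.pU (𝟙 _) (𝟙 _) (𝟙 S) _ _
    have : pullback.map G.pU G.pU G.pU G.pU (𝟙 _) (𝟙 _) (𝟙 S)
        (by simp) (by simp) = 𝟙 _ := by
      apply pullback.hom_ext <;> simp
    rw [this, Category.comp_id]


end Groth.Agent.S7509
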