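import Groth.Statements.S7510
import Mathlib.AlgebraicGeometry.PullbackCarrier
import Mathlib.AlgebraicGeometry.ResidueField
import Mathlib.AlgebraicGeometry.Restrict
import Groth.Agent.Lib.Helper10.GrpdPts

set_option autoImplicit false
universe u
open CategoryTheory CategoryTheory.Limits AlgebraicGeometry
open Grpd

namespace Groth.Agent.S7510

section Waux
open CategoryTheory CategoryTheory.Limits AlgebraicGeometry

variable {P Q : MorphismProperty Scheme.{u}} [P.RespectsIso]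
  {W : ∀ {X Y : Scheme.{u}} (f : X ⟶ Y), Q f → X.Opens}

lemma W_congr {X Y : Scheme.{u}} {f f' : X ⟶ Y} (h : f = f') (hf : Q f) (hf' : Q f') :
    W f hf = W f' hf' := by
  subst h; rfl

lemma W_iso_le (hWP : ∀ {X Y : Scheme.{u}} (f : X ⟶ Y) (hf : Q f), P ((W f hf).ι ≫ f))
    (hWmax : ∀ {X Y : Scheme.{u}} (f : X ⟶ Y) (hf : Q f) (V : X.Opens),
      P (V.ι ≫ f) → V ≤ W f hf)
    {X X' Y : Scheme.{u}} (φ : X' ⟶ X) [IsIso φ] (f : X ⟶ Y) (hf : Q f) (hf' : Q (φ ≫ f)) :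
    φ ⁻¹ᵁ (W f hf) ≤ W (φ ≫ f) hf' := by
  apply hWmax
  rw [← Category.assoc, ← morphismRestrict_ι, Category.assoc, P.cancel_left_of_respectsIso]
  exact hWP f hf

lemma W_iso (hWP : ∀ {X Y : Scheme.{u}} (f : X ⟶ Y) (hf : Q f), P ((W f hf).ι ≫ f))
    (hWmax : ∀ {X Y : Scheme.{u}} (f : X ⟶ Y) (hf : Q f) (V : X.Opens),
      P (V.ι ≫ f) → V ≤ W f hf)
    {X X' Y : Scheme.{u}} (φ : X' ⟶ X) [IsIso φ] (f : X ⟶ Y) (hf : Q f) (hf' : Q (φ ≫ f)) :
    φ ⁻¹ᵁ (W f hf) = W (φ ≫ f) hf' := by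
  apply le_antisymm (W_iso_le hWP hWmax φ f hf hf')
  have e : inv φ ≫ φ ≫ f = f := by rw [IsIso.inv_hom_id_assoc]
  have hf'' : Q (inv φ ≫ φ ≫ f) := by rw [e]; exact hf
  have h1 := W_iso_le hWP hWmax (inv φ) (φ ≫ f) hf' hf''
  have h2 : W (inv φ ≫ φ ≫ f) hf'' = W f hf := W_congr e _ _
  intro x hx
  have h3 : φ x ∈ (inv φ) ⁻¹ᵁ (W (φ ≫ f) hf') := by
    change (inv φ) (φ x) ∈ W (φ ≫ f) hf'
    rw [← Scheme.Hom.comp_apply, IsIso.hom_inv_id]
    exact hx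
  have h4 := h1 h3
  rw [h2] at h4
  exact h4

lemma W_comp_iso (hWP : ∀ {X Y : Scheme.{u}} (f : X ⟶ Y) (hf : Q f), P ((W f hf).ι ≫ f))
    (hWmax : ∀ {X Y : Scheme.{u}} (f : X ⟶ Y) (hf : Q f) (V : X.Opens),
      P (V.ι ≫ f) → V ≤ W f hf)
    {X Y Y' : Scheme.{u}} (f : X ⟶ Y) (e : Y ⟶ Y') [IsIso e] (hf : Q f) (hfe : Q (f ≫ e)) :
    W (f ≫ e) hfe = W f hf := by
  apply le_antisymm
  · apply hWmax
    have := hWP (f ≫ e) hfe
    rwa [← Category.assoc, P.cancel_right_of_respectsIso] at this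
  · apply hWmax
    rw [← Category.assoc, P.cancel_right_of_respectsIso]
    exact hWP f hf

end Waux

/-- Let (U, R, s, t, c, e, i) be a groupoid scheme over S and g : U' -> U a morphism; write h = s ∘ pr_1
: U' x_(g,U,t) R -> U. Let P, Q, R be properties of morphisms of schemes, with P invariant under
composition with isomorphisms, such that (1) R implies Q, (2) Q is stable under base change and
composition, (3) every morphism f : X -> Y with Q has a largest open W(P, f) of X on which the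
restriction of f has P (given here as a function W with these two properties), and (4) for f with Q
and a base change along Y' -> Y with R, the preimage of W(P, f) in X x_Y Y' is W(P, f') for the base
change f'. If s, t have R and g has Q, then there is an open W of U' whose preimage in U' x_(g,U,t)
R equals W(P, h). (The published statement speaks of arbitrary properties of morphisms; this row
asks P to be invariant under composition with isomorphisms, which the proof uses to identify the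
largest opens on the two isomorphic fibre products of h with t and with s.) (A groupoid scheme
carries U, R, s, t, c, e, i over S with the groupoid axioms on T-points; c is defined on the fibre
product of s and t and sends a pair (a, b) with s(a) = t(b) to a composed with b.) -/
theorem result (S : Scheme.{u}) (G : Grpd.GroupoidScheme S) {U' : Scheme.{u}} (g : U' ⟶ G.U) (P Q R : MorphismProperty Scheme.{u}) [P.RespectsIso] (hRQ : R ≤ Q) [Q.IsStableUnderBaseChange] [Q.IsStableUnderComposition] (W : ∀ {X Y : Scheme.{u}} (f : X ⟶ Y), Q f → X.Opens) (hWP : ∀ {X Y : Scheme.{u}} (f : X ⟶ Y) (hf : Q f), P ((W f hf).ι ≫ f)) (hWmax : ∀ {X Y : Scheme.{u}} (f : X ⟶ Y) (hf : Q f) (V : X.Opens), P (V.ι ≫ f) → V ≤ W f hf) (hWbc : ∀ {X Y Y' : Scheme.{u}} (f : X ⟶ Y) (hf : Q f) (b : Y' ⟶ Y), R b → ∀ hf' : Q (pullback.snd f b), pullback.fst f b ⁻¹ᵁ W f hf = W (pullback.snd f b) hf') (hs : R G.s) (ht : R G.t) (hg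 : Q g) (hh : Q (pullback.snd g G.t ≫ G.s)) : ∃ V : U'.Opens, pullback.fst g G.t ⁻¹ᵁ V = W (pullback.snd g G.t ≫ G.s) hh := by
  open Groth.Agent.Lib.Helper10.GrpdPts in
  -- notation
  set pr₀ := pullback.fst g G.t with hpr₀
  set pr₁ := pullback.snd g G.t with hpr₁
  set h := pr₁ ≫ G.s with hh_def
  have hcond : pr₀ ≫ g = pr₁ ≫ G.t := pullback.condition
  -- the fibre product `A = X ×_{h, U, t} R`
  set fst := pullback.fst h G.t with hfst
  set snd := pullback.snd h G.t with hsnd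
  have hA : (fst ≫ pr₁) ≫ G.s = snd ≫ G.t := by
    rw [Category.assoc]; exact pullback.condition
  -- `N (u', r, r') = (u', r ∘ r')`
  let N : pullback h G.t ⟶ pullback g G.t :=
    pullback.lift (fst ≫ pr₀) (pc G (fst ≫ pr₁) snd hA)
      (by rw [pc_t, Category.assoc, hcond, Category.assoc])
  have hN₀ : N ≫ pr₀ = fst ≫ pr₀ := pullback.lift_fst _ _ _
  have hN₁ : N ≫ pr₁ = pc G (fst ≫ pr₁) snd hA := pullback.lift_snd _ _ _
  let ψ : pullback h G.t ⟶ pullback h G.t :=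
    pullback.lift N (snd ≫ G.i)
      (by
        change N ≫ pr₁ ≫ G.s = _
        rw [← Category.assoc, hN₁, pc_s, Category.assoc, G.i_t])
  have hψ₁ : ψ ≫ fst = N := pullback.lift_fst _ _ _
  have hψ₂ : ψ ≫ snd = snd ≫ G.i := pullback.lift_snd _ _ _
  have hψψ : ψ ≫ ψ = 𝟙 _ := by
    apply pullback.hom_ext
    · rw [Category.assoc, Category.id_comp]
      change ψ ≫ ψ ≫ fst = fst
      rw [hψ₁]
      apply pullback.hom_ext
      · rw [Category.assoc]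
        change ψ ≫ N ≫ pr₀ = fst ≫ pr₀
        rw [hN₀, ← Category.assoc, hψ₁, hN₀]
      · rw [Category.assoc]
        change ψ ≫ N ≫ pr₁ = fst ≫ pr₁
        rw [hN₁, precomp_pc]
        have e1 : ψ ≫ fst ≫ pr₁ = pc G (fst ≫ pr₁) snd hA := by
          rw [← Category.assoc, hψ₁, hN₁]
        rw [pc_congr _ e1 hψ₂]
        exact pc_pc_i _ _ hA
    · rw [Category.assoc, Category.id_comp]
      change ψ ≫ ψ ≫ snd = snd
      rw [hψ₂, ← Category.assoc, hψ₂, Category.assoc, i_comp_i, Category.comp_id]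
  have : IsIso ψ := ⟨ψ, hψψ, hψψ⟩
  -- the key equality of opens on `A`
  have hQsnd : Q snd := Q.pullback_snd _ _ hh
  have hkey : fst ⁻¹ᵁ (W h hh) = N ⁻¹ᵁ (W h hh) := by
    have e1 : fst ⁻¹ᵁ (W h hh) = W snd hQsnd := hWbc h hh G.t ht hQsnd
    have hQ2 : Q (ψ ≫ snd) := (Q.cancel_left_of_respectsIso ψ snd).2 hQsnd
    have e2 : ψ ⁻¹ᵁ (W snd hQsnd) = W (ψ ≫ snd) hQ2 := W_iso hWP hWmax ψ snd hQsnd hQ2
    have hQ3 : Q (snd ≫ G.i) := (Q.cancel_right_of_respectsIso snd G.i).2 hQsnd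
    have e3 : W (ψ ≫ snd) hQ2 = W (snd ≫ G.i) hQ3 := W_congr hψ₂ _ _
    have e4 : W (snd ≫ G.i) hQ3 = W snd hQsnd := W_comp_iso hWP hWmax snd G.i hQsnd hQ3
    have e5 : N ⁻¹ᵁ (W h hh) = ψ ⁻¹ᵁ (fst ⁻¹ᵁ (W h hh)) := by
      rw [← hψ₁]; rfl
    rw [e5, e1, e2, e3, e4]
  -- saturation
  have hsat : ∀ x₁ x₂ : ↑(pullback g G.t), pr₀ x₁ = pr₀ x₂ → x₁ ∈ W h hh → x₂ ∈ W h hh := by
    intro x₁ x₂ hx hx₁
    obtain ⟨z, hz₁, hz₂⟩ := Scheme.Pullback.exists_preimage_pullback (f := pr₀) (g := pr₀) x₁ x₂ hx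
    let κ : Type u := (pullback pr₀ pr₀).residueField z
    let ζ : Spec (CommRingCat.of κ) ⟶ pullback pr₀ pr₀ := (pullback pr₀ pr₀).fromSpecResidueField z
    obtain ⟨pt, hζ⟩ : ∃ pt : ↥(Spec (CommRingCat.of κ)), ζ pt = z :=
      ⟨IsLocalRing.closedPoint κ, Scheme.fromSpecResidueField_apply _ _⟩
    obtain ⟨ξ₁, hξ₁d⟩ : ∃ ξ : Spec (CommRingCat.of κ) ⟶ pullback g G.t,
      ξ = ζ ≫ pullback.fst pr₀ pr₀ := ⟨_, rfl⟩
    obtain ⟨ξ₂, hξ₂d⟩ : ∃ ξ : Spec (CommRingCat.of κ) ⟶ pullback g G.t,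
      ξ = ζ ≫ pullback.snd pr₀ pr₀ := ⟨_, rfl⟩
    have hξ₁ : ξ₁ pt = x₁ := by
      rw [hξ₁d]
      change pullback.fst pr₀ pr₀ (ζ pt) = x₁
      rw [hζ, hz₁]
    have hξ₂ : ξ₂ pt = x₂ := by
      rw [hξ₂d]
      change pullback.snd pr₀ pr₀ (ζ pt) = x₂
      rw [hζ, hz₂]
    have hξ : ξ₁ ≫ pr₀ = ξ₂ ≫ pr₀ := by
      rw [hξ₁d, hξ₂d, Category.assoc, Category.assoc, pullback.condition]
    obtain ⟨r₁, hr₁⟩ : ∃ r : Spec (CommRingCat.of κ) ⟶ G.R, r = ξ₁ ≫ pr₁ := ⟨_, rfl⟩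
    obtain ⟨r₂, hr₂⟩ : ∃ r : Spec (CommRingCat.of κ) ⟶ G.R, r = ξ₂ ≫ pr₁ := ⟨_, rfl⟩
    have hrt : r₁ ≫ G.t = r₂ ≫ G.t :=
      calc r₁ ≫ G.t = ξ₁ ≫ pr₁ ≫ G.t := by rw [hr₁, Category.assoc]
      _ = ξ₁ ≫ pr₀ ≫ g := by rw [hcond]
      _ = (ξ₁ ≫ pr₀) ≫ g := (Category.assoc _ _ _).symm
      _ = (ξ₂ ≫ pr₀) ≫ g := by rw [hξ]
      _ = ξ₂ ≫ pr₀ ≫ g := Category.assoc _ _ _
      _ = ξ₂ ≫ pr₁ ≫ G.t := by rw [hcond]
      _ = r₂ ≫ G.t := by rw [hr₂, Category.assoc]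
    have hr' : (r₁ ≫ G.i) ≫ G.s = r₂ ≫ G.t := by rw [Category.assoc, G.i_s, hrt]
    obtain ⟨r', hr'd⟩ : ∃ r : Spec (CommRingCat.of κ) ⟶ G.R, r = pc G (r₁ ≫ G.i) r₂ hr' :=
      ⟨_, rfl⟩
    have hr't : r' ≫ G.t = r₁ ≫ G.s := by rw [hr'd, pc_t, Category.assoc, G.i_t]
    have hacond : ξ₁ ≫ h = r' ≫ G.t := by
      rw [hr't, hr₁, Category.assoc]
    let a : Spec (CommRingCat.of κ) ⟶ pullback h G.t := pullback.lift ξ₁ r' hacond
    have ha₁ : a ≫ fst = ξ₁ := pullback.lift_fst _ _ _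
    have ha₂ : a ≫ snd = r' := pullback.lift_snd _ _ _
    have haN : a ≫ N = ξ₂ := by
      apply pullback.hom_ext
      · rw [Category.assoc]
        change a ≫ N ≫ pr₀ = ξ₂ ≫ pr₀
        rw [hN₀, ← Category.assoc, ha₁, hξ]
      · rw [Category.assoc]
        change a ≫ N ≫ pr₁ = ξ₂ ≫ pr₁
        rw [hN₁, precomp_pc]
        have e1 : a ≫ fst ≫ pr₁ = r₁ := by rw [← Category.assoc, ha₁, hr₁]
        have e2 : a ≫ snd = pc G (r₁ ≫ G.i) r₂ hr' := by rw [ha₂, hr'd]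
        rw [pc_congr _ e1 e2, ← hr₂]
        exact pc_i_pc' r₁ r₂ hrt
    have h1 : a pt ∈ fst ⁻¹ᵁ (W h hh) := by
      change fst (a pt) ∈ W h hh
      rw [← Scheme.Hom.comp_apply, ha₁, hξ₁]
      exact hx₁
    rw [hkey] at h1
    change N (a pt) ∈ W h hh at h1
    rw [← Scheme.Hom.comp_apply, haN, hξ₂] at h1
    exact h1
  -- the section and the open `V`
  let σ : U' ⟶ pullback g G.t :=
    pullback.lift (𝟙 U') (g ≫ G.e) (by rw [Category.id_comp, Category.assoc, G.e_t, Category.comp_id])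
  have hσ : σ ≫ pr₀ = 𝟙 U' := pullback.lift_fst _ _ _
  refine ⟨σ ⁻¹ᵁ (W h hh), ?_⟩
  ext x
  have hx : pr₀ (σ (pr₀ x)) = pr₀ x := by
    rw [← Scheme.Hom.comp_apply, hσ]; rfl
  constructor
  · intro hx'
    exact hsat _ _ hx hx'
  · intro hx'
    exact hsat _ _ hx.symm hx'

end Groth.Agent.S7510
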