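import Groth.Statements.S7511
-- import your own Groth.Agent.* helpers here

set_option autoImplicit false
universe u
open CategoryTheory CategoryTheory.Limits AlgebraicGeometry
open HTop

namespace Groth.Agent.S7511

/-- Let {f_i : T_i -> T} be a family of morphisms of schemes (indexed by a type in the universe of T, so
that the coproduct exists). Then it is an fpqc covering if and only if the one-arrow family
consisting of the induced morphism from the coproduct of the T_i to T is an fpqc covering. -/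
theorem result {T : Scheme.{u}} (E : PreZeroHypercover.{u} T) : E.presieve₀ ∈ Scheme.fpqcPrecoverage T ↔ Presieve.singleton (Sigma.desc E.f) ∈ Scheme.fpqcPrecoverage T := by
  change E.presieve₀ ∈ (Scheme.qcPrecoverage ⊓ Scheme.precoverage @Flat) T ↔
    Presieve.singleton (Sigma.desc E.f) ∈ (Scheme.qcPrecoverage ⊓ Scheme.precoverage @Flat) T
  rw [← PreZeroHypercover.presieve₀_singleton.{u}]
  constructor
  · rintro ⟨hqc, hfl⟩
    rw [Scheme.presieve₀_mem_qcPrecoverage_iff] at hqc
    rw [Scheme.presieve₀_mem_precoverage_iff] at hfl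
    refine ⟨?_, ?_⟩
    · rw [Scheme.presieve₀_mem_qcPrecoverage_iff]
      exact QuasiCompactCover.of_hom (𝒱 := E)
        ⟨fun _ => PUnit.unit, fun i => Sigma.ι E.X i, fun i => by
          simp [PreZeroHypercover.singleton]⟩
    · rw [PreZeroHypercover.presieve₀_singleton, Scheme.singleton_mem_precoverage_iff]
      have : ∀ i, Flat (E.f i) := hfl.2
      refine ⟨?_, inferInstance⟩
      intro t
      obtain ⟨i, y, rfl⟩ := hfl.1 t
      exact ⟨Sigma.ι E.X i y, by rw [← Scheme.Hom.comp_apply, Sigma.ι_desc]⟩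
  · rintro ⟨hqc, hfl⟩
    rw [Scheme.presieve₀_mem_qcPrecoverage_iff] at hqc
    rw [PreZeroHypercover.presieve₀_singleton, Scheme.singleton_mem_precoverage_iff] at hfl
    obtain ⟨hsurj, hflat⟩ := hfl
    have hcomp : (fun p : Σ i, E.X i => E.f p.1 p.2) = (Sigma.desc E.f) ∘ (sigmaMk E.X) := by
      funext ⟨i, x⟩
      simp only [Function.comp_apply, sigmaMk_mk]
      rw [← Scheme.Hom.comp_apply, Sigma.ι_desc]
    refine ⟨?_, ?_⟩
    · rw [Scheme.presieve₀_mem_qcPrecoverage_iff]
      refine ⟨fun {U} hU => ?_⟩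
      have h1 : ∃ V : TopologicalSpace.Opens ↥(∐ E.X), IsCompact (V : Set ↥(∐ E.X)) ∧
          (Sigma.desc E.f) '' (V : Set ↥(∐ E.X)) = U := by
        have h0 := hU.isCompactOpenCovered (PreZeroHypercover.singleton.{u} (Sigma.desc E.f))
        rw [IsCompactOpenCovered.iff_of_unique] at h0
        exact h0
      obtain ⟨V, hVc, hVU⟩ := h1
      rw [IsCompactOpenCovered.iff_isCompactOpenCovered_sigmaMk, IsCompactOpenCovered.iff_of_unique]
      refine ⟨⟨(sigmaMk E.X) ⁻¹' (V : Set _), V.2.preimage (sigmaMk E.X).continuous⟩, ?_, ?_⟩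
      · exact (sigmaMk E.X).isCompact_preimage.mpr hVc
      · show (fun p : Σ i, E.X i => E.f p.1 p.2) '' ((sigmaMk E.X) ⁻¹' (V : Set _)) = U
        rw [hcomp, Set.image_comp, Set.image_preimage_eq _ (sigmaMk E.X).surjective]
        exact hVU
    · rw [Scheme.presieve₀_mem_precoverage_iff]
      refine ⟨fun t => ?_, fun i => ?_⟩
      · obtain ⟨z, rfl⟩ := hsurj t
        obtain ⟨⟨i, x⟩, rfl⟩ := (sigmaMk E.X).surjective z
        refine ⟨i, x, ?_⟩
        rw [sigmaMk_mk, ← Scheme.Hom.comp_apply, Sigma.ι_desc]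
      · rw [← Sigma.ι_desc E.f i]
        infer_instance

end Groth.Agent.S7511
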