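import Groth.Statements.S7512
import Mathlib.AlgebraicGeometry.Sites.Fpqc

set_option autoImplicit false
universe w u
open HTop

namespace Groth.Agent.S7512

open CategoryTheory CategoryTheory.Limits AlgebraicGeometry in
/-- Let {f_i : T_i -> T} be a family of flat morphisms of schemes. Assume that for every affine scheme Z
and every morphism h : Z -> T there is a standard fpqc covering of Z (a finite family of flat
morphisms Z_j -> Z with Z_j affine whose images cover Z) refining the family of base changes {T_i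
x_T Z -> Z} (every Z_j -> Z factors through some T_i compatibly with h). Then {f_i : T_i -> T} is an
fpqc covering (in Mathlib's sense). -/
theorem result {T : Scheme.{u}} (E : PreZeroHypercover.{w} T) (hflat : ∀ i, Flat (E.f i)) (href : ∀ (Z : Scheme.{u}) [IsAffine Z] (h : Z ⟶ T), ∃ F : PreZeroHypercover.{0} Z, Finite F.I₀ ∧ (∀ j, IsAffine (F.X j)) ∧ (∀ j, Flat (F.f j)) ∧ (∀ z : Z, ∃ (j : F.I₀) (x : F.X j), F.f j x = z) ∧ HTop.RefinesOver h F E) : E.presieve₀ ∈ Scheme.fpqcPrecoverage T := by
  refine ⟨?_, ?_⟩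
  · rw [Scheme.presieve₀_mem_qcPrecoverage_iff]
    constructor
    intro U hU
    have hUa : IsAffine (U : Scheme.{u}) := hU
    obtain ⟨F, hfin, haff, -, hsurj, hr⟩ := href (U : Scheme.{u}) U.ι
    choose a t ht using hr
    have h1 : IsCompactOpenCovered (fun j => ((F.f j ≫ U.ι : F.X j ⟶ T) : F.X j → T)) (U : Set T) := by
      refine IsCompactOpenCovered.of_finite (κ := F.I₀) id (fun _ => ⊤)
        (fun j => ?_) ?_
      · have := haff j
        exact CompactSpace.isCompact_univ
      · ext x
        simp only [id_eq, TopologicalSpace.Opens.coe_top, Set.image_univ, Set.mem_iUnion,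
          Set.mem_range, SetLike.mem_coe]
        constructor
        · rintro ⟨j, y, rfl⟩
          exact (F.f j y).2
        · intro hx
          obtain ⟨j, y, hy⟩ := hsurj ⟨x, hx⟩
          refine ⟨j, y, ?_⟩
          change U.ι (F.f j y) = x
          rw [hy]
          rfl
    refine IsCompactOpenCovered.of_comp (f := fun i => (E.f i : E.X i → T))
      (fun j => ((F.f j ≫ U.ι : F.X j ⟶ T) : F.X j → T)) (a := a) (fun j => (t j : F.X j → E.X (a j)))
      (fun j => (t j).continuous) (fun j => ?_) (fun i => (E.f i).continuous) U.isOpen h1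
    funext y
    change (F.f j ≫ U.ι) y = (t j ≫ E.f (a j)) y
    rw [ht j]
  · refine (Scheme.presieve₀_mem_precoverage_iff (P := @Flat) E).mpr ⟨fun x => ?_, hflat⟩
    obtain ⟨U, hU, hxU, -⟩ : ∃ U : T.Opens, U ∈ T.affineOpens ∧ x ∈ U ∧ U ≤ ⊤ :=
      TopologicalSpace.Opens.isBasis_iff_nbhd.mp T.isBasis_affineOpens
        (TopologicalSpace.Opens.mem_top x)
    have hUa : IsAffine (U : Scheme.{u}) := hU
    obtain ⟨F, -, -, -, hsurj, hr⟩ := href (U : Scheme.{u}) U.ι
    obtain ⟨j, y, hy⟩ := hsurj ⟨x, hxU⟩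
    obtain ⟨i, t, ht⟩ := hr j
    refine ⟨i, t y, ?_⟩
    change (t ≫ E.f i) y = x
    rw [ht]
    change U.ι (F.f j y) = x
    rw [hy]
    rfl

end Groth.Agent.S7512
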