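import Groth.Statements.S7513
import Mathlib
import Groth.Agent.Lib.Helper20.HG6

set_option autoImplicit false
universe u
open CategoryTheory CategoryTheory.Limits AlgebraicGeometry
open Grpd

namespace Groth.Agent.S7513



section helpers
open Groth.Agent.Lib.Helper20.HG

theorem strata_aux {X Y : Scheme.{u}} (π : Y ⟶ X) [IsFinite π] (r : ℕ) :
    Mor2.IsFinLocFreeOfDeg (r + 1) (pullback.snd π
      (((fit π r).subschemeι ⁻¹ᵁ (fit π (r + 1)).support.compl).ι ≫ (fit π r).subschemeι)) := by
  have H := (IsPullback.of_hasPullback π
    (((fit π r).subschemeι ⁻¹ᵁ (fit π (r + 1)).support.compl).ι ≫ (fit π r).subschemeι)).flip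
  apply isFinLocFreeOfDeg_of_fit
  · rw [← comap_fit H r, Scheme.IdealSheafData.comap_comp, comap_subschemeι_self, comap_bot]
  · rw [← comap_fit H (r + 1), ← Scheme.IdealSheafData.support_eq_bot_iff,
      Scheme.IdealSheafData.support_comap]
    apply TopologicalSpace.Closeds.ext
    rw [TopologicalSpace.Closeds.coe_preimage, TopologicalSpace.Closeds.coe_bot,
      Set.eq_empty_iff_forall_notMem]
    intro x hx
    have hx1 : ((fit π r).subschemeι ⁻¹ᵁ (fit π (r + 1)).support.compl).ι x ∈
        (fit π r).subschemeι ⁻¹ᵁ (fit π (r + 1)).support.compl := x.2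
    exact hx1 hx

end helpers

/-- Let (U, R, s, t, c) be a groupoid scheme over S with s and t finite. Then there are closed
subschemes U = Z_0 ⊇ Z_1 ⊇ Z_2 ⊇ ..., each invariant under R, (given by quasi-coherent ideal sheaves
I_0 = 0 ≤ I_1 ≤ I_2 ≤ ...) with empty intersection such that for every r the restriction of s over
the locally closed stratum Z_r minus Z_(r+1) (the open of the subscheme Z_r complementary to the
support of Z_(r+1)) is finite locally free of rank r + 1. R-invariance of Z_r is expressed as an
isomorphism between the pullbacks of s and of t along Z_r -> U compatible with the maps to R;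
'finite locally free of rank n' is finite, flat, locally of finite presentation with constant rank
n. (A groupoid scheme carries U, R, s, t, c, e, i over S with the groupoid axioms on T-points; c is
defined on the fibre product of s and t and sends a pair (a, b) with s(a) = t(b) to a composed with
b.) -/
theorem result (S : Scheme.{u}) (G : Grpd.GroupoidScheme S) [IsFinite G.s] [IsFinite G.t] : ∃ Z : ℕ → G.U.IdealSheafData, Z 0 = ⊥ ∧ Monotone Z ∧ (⋂ r, ((Z r).support : Set G.U)) = ∅ ∧ (∀ r, ∃ φ : pullback G.s (Z r).subschemeι ≅ pullback G.t (Z r).subschemeι, φ.hom ≫ pullback.fst G.t (Z r).subschemeι = pullback.fst G.s (Z r).subschemeι) ∧ ∀ r, Mor2.IsFinLocFreeOfDeg (r + 1) (pullback.snd G.s (((Z r).subschemeι ⁻¹ᵁ (Z (r + 1)).support.compl).ι ≫ (Z r).subschemeι)) := by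

  classical
  open Groth.Agent.Lib.Helper20.HG in
  exact ⟨fun r => fit G.s r, fit_zero_of_section G.s G.e G.e_s, fit_mono G.s,
    iInter_support_fit G.s,
    fun r => exists_iso_of_comap_eq G.s G.t _ (comap_s_eq_comap_t G r),
    fun r => strata_aux G.s r⟩

end Groth.Agent.S7513
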