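import Groth.Statements.S7514
import Mathlib.AlgebraicGeometry.Morphisms.FormallyUnramified
import Mathlib.AlgebraicGeometry.Morphisms.IsIso
import Mathlib.AlgebraicGeometry.ResidueField
import Mathlib.FieldTheory.IsAlgClosed.AlgebraicClosure
import Mathlib.CategoryTheory.Limits.Shapes.Diagonal

set_option autoImplicit false
universe u
open CategoryTheory CategoryTheory.Limits AlgebraicGeometry
open Grpd

namespace Groth.Agent.S7514

/-- Let S be a scheme, U a scheme over S and j : R -> U x_S U a pre-relation, with t = pr_0 ∘ j and s =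
pr_1 ∘ j. Assume (1) s and t are unramified (formally unramified and locally of finite type), (2)
for every algebraically closed field k, the map from k-points of R to pairs of k-points of U is
injective with image an equivalence relation, and (3) there are morphisms e : U -> R, i : R -> R and
c : R x_(s,U,t) R -> R such that j ∘ e is the diagonal, j ∘ i is j followed by the flip of the two
factors, and j ∘ c is pr_02 ∘ (j x j) (the arrow c(a, b) has target t(a) and source s(b)). Then j is
an equivalence relation: j is a monomorphism and, for every scheme T, the relation 'there is a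
T-point r of R with t ∘ r = a and s ∘ r = b' on T-points a, b of U is an equivalence relation. -/
theorem result {S U R : Scheme.{u}} (pU : U ⟶ S) (j : R ⟶ pullback pU pU) [FormallyUnramified (j ≫ pullback.fst pU pU)] [LocallyOfFiniteType (j ≫ pullback.fst pU pU)] [FormallyUnramified (j ≫ pullback.snd pU pU)] [LocallyOfFiniteType (j ≫ pullback.snd pU pU)] (h₂ : ∀ (k : Type u) [Field k] [IsAlgClosed k], Function.Injective (fun r : Spec (CommRingCat.of k) ⟶ R => r ≫ j) ∧ Equivalence (fun a b : Spec (CommRingCat.of k) ⟶ U => ∃ r : Spec (CommRingCat.of k) ⟶ R, r ≫ j ≫ pullback.fst pU pU = a ∧ r ≫ j ≫ pullback.snd pU pU = b)) (e : U ⟶ R) (he : e ≫ j = pullback.lift (𝟙 U) (𝟙 U) rfl) (i : R ⟶ R) (hi : i ≫ j = j ≫ (pullbackSymmetry pU pU).hom) (c : pullback (j ≫ pullback.snd pU pU) (j ≫ pullback.fst pU pU) ⟶ R) (hc₁ : c ≫ j ≫ pullback.fst pU pU = pullback.fst (j ≫ pullback.snd pU pU) (j ≫ pullback.fst pU pU) ≫ j ≫ pullback.fst pU pU) (hc₂ : c ≫ j ≫ pullback.snd pU pU = pullback.snd (j ≫ pullback.snd pU pU) (j ≫ pullback.fst pU pU) ≫ j ≫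 pullback.snd pU pU) : Mono j ∧ ∀ T : Scheme.{u}, Equivalence (fun a b : T ⟶ U => ∃ r : T ⟶ R, r ≫ j ≫ pullback.fst pU pU = a ∧ r ≫ j ≫ pullback.snd pU pU = b) := by
  constructor
  · -- `j` is unramified and universally injective, so its diagonal is a surjective open immersion
    have h1 : FormallyUnramified j := FormallyUnramified.of_comp j (pullback.fst pU pU)
    have h2 : LocallyOfFiniteType j := locallyOfFiniteType_of_comp j (pullback.fst pU pU)
    have h3 : IsOpenImmersion (pullback.diagonal j) := inferInstance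
    rw [← pullback.isIso_diagonal_iff, isIso_iff_isOpenImmersion_and_surjective]
    refine ⟨h3, ⟨fun z => ?_⟩⟩
    let κ : Type u := (pullback j j).residueField z
    let k : Type u := AlgebraicClosure κ
    obtain ⟨ζ, hζ⟩ : ∃ ζ : Spec (CommRingCat.of k) ⟶ pullback j j, ∀ pt, ζ pt = z := by
      refine ⟨Spec.map (CommRingCat.ofHom (algebraMap κ k)) ≫
        (pullback j j).fromSpecResidueField z, fun pt => ?_⟩
      change (pullback j j).fromSpecResidueField z
        ((Spec.map (CommRingCat.ofHom (algebraMap κ k))) pt) = z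
      exact Scheme.fromSpecResidueField_apply z _
    have hinj := (h₂ k).1
    have h12 : ζ ≫ pullback.fst j j = ζ ≫ pullback.snd j j := by
      apply hinj
      change (ζ ≫ pullback.fst j j) ≫ j = (ζ ≫ pullback.snd j j) ≫ j
      rw [Category.assoc, Category.assoc, pullback.condition]
    have hfac : ζ = (ζ ≫ pullback.fst j j) ≫ pullback.diagonal j := by
      apply pullback.hom_ext
      · rw [Category.assoc, pullback.diagonal_fst, Category.comp_id]
      · rw [Category.assoc, pullback.diagonal_snd, Category.comp_id, h12]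
    let pt : ↥(Spec (CommRingCat.of k)) := IsLocalRing.closedPoint k
    refine ⟨(ζ ≫ pullback.fst j j) pt, ?_⟩
    rw [← Scheme.Hom.comp_apply, ← hfac, hζ]
  · intro T
    refine ⟨fun a => ?_, fun {a b} => ?_, fun {a b c'} => ?_⟩
    · refine ⟨a ≫ e, ?_, ?_⟩
      · rw [Category.assoc, ← Category.assoc e, he, pullback.lift_fst, Category.comp_id]
      · rw [Category.assoc, ← Category.assoc e, he, pullback.lift_snd, Category.comp_id]
    · rintro ⟨r, hr₁, hr₂⟩
      refine ⟨r ≫ i, ?_, ?_⟩
      · rw [Category.assoc, ← Category.assoc i, hi, Category.assoc, pullbackSymmetry_hom_comp_fst,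
          hr₂]
      · rw [Category.assoc, ← Category.assoc i, hi, Category.assoc, pullbackSymmetry_hom_comp_snd,
          hr₁]
    · rintro ⟨r₁, hr₁, hr₁'⟩ ⟨r₂, hr₂, hr₂'⟩
      have hcond : r₁ ≫ j ≫ pullback.snd pU pU = r₂ ≫ j ≫ pullback.fst pU pU := by
        rw [hr₁', hr₂]
      refine ⟨pullback.lift r₁ r₂ hcond ≫ c, ?_, ?_⟩
      · rw [Category.assoc, hc₁, pullback.lift_fst_assoc, hr₁]
      · rw [Category.assoc, hc₂, pullback.lift_snd_assoc, hr₂']

end Groth.Agent.S7514
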