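import Groth.Statements.S7521
import Groth.Agent.Lib.Helper24.DescFin3
import Groth.Agent.Lib.Helper29.Avoid

set_option autoImplicit false
open CategoryTheory CategoryTheory.Limits AlgebraicGeometry
universe u
open Desc

namespace Groth.Agent.S7521

open CategoryTheory CategoryTheory.Limits AlgebraicGeometry Opposite


/-- Let p : X -> Y be a surjective finite locally free morphism and V a scheme over X which has an
invertible module ample relative to V -> X. Then every descent datum on V relative to p is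
effective. (A quasi-projective morphism V -> X, in particular a projective one, carries such a
module.) (Descent data are taken in functor-of-points form.) -/
theorem result {X Y : Scheme.{u}} (p : X ⟶ Y) [Surjective p] [IsFinite p] [Flat p] [LocallyOfFinitePresentation p] (D : Desc.SchDD p) (L : D.obj.left.Modules) (hL : RelAmple.IsRelAmple D.obj.hom L) : ∃ W : Over Y, Nonempty ((Desc.toDD p).obj W ≅ D) := by
  classical
  refine Groth.Agent.Lib.Helper24.DescFin.exists_iso_toDD_of_finite p D (d := ⊤)
    (Groth.Agent.Lib.Helper24.FibCount.geomFibLE_top p) ?_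
  intro y s _ hs
  obtain ⟨O, hOaff, hy, -⟩ := TopologicalSpace.Opens.isBasis_iff_nbhd.mp Y.isBasis_affineOpens
    (TopologicalSpace.Opens.mem_top y)
  have hX' : IsAffineOpen (p ⁻¹ᵁ O) := hOaff.preimage p
  let W : D.obj.left.Opens := D.obj.hom ⁻¹ᵁ (p ⁻¹ᵁ O)
  have hA := hL.2 ⟨p ⁻¹ᵁ O, hX'⟩
  have hsW : ∀ v ∈ s, v ∈ W := by
    intro v hv
    change p (D.obj.hom v) ∈ O
    rw [hs v hv]; exact hy
  let Z : Set (W : Scheme.{u}) := W.ι ⁻¹' (s : Set D.obj.left)
  have hZfin : Z.Finite := s.finite_toSet.preimage W.ι.isEmbedding.injective.injOn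
  obtain ⟨n, t, hZ, -, haff⟩ :=
    Groth.Agent.Lib.Helper29.QCoh.exists_affine_genLocus_finite_subset hA Z hZfin ⊤
      (fun _ _ => trivial)
  refine ⟨W.ι ''ᵁ (CohB1.genLocus _ t), fun v hv => ?_, _,
    haff.image_of_isOpenImmersion W.ι, 𝟙 _, inferInstance⟩
  exact ⟨⟨v, hsW v hv⟩, hZ (show (⟨v, hsW v hv⟩ : W) ∈ Z from hv), rfl⟩

end Groth.Agent.S7521
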