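import Groth.Statements.S7522
-- import your own Groth.Agent.* helpers here

set_option autoImplicit false
universe u
open CategoryTheory CategoryTheory.Limits AlgebraicGeometry
open Grpd

namespace Groth.Agent.S7522

/-- Let S be a scheme, U a scheme over S and j : R -> U x_S U a pre-equivalence relation, that is a
morphism such that for every scheme T the image of the T-points of R in pairs of T-points of U is an
equivalence relation; write t = pr_0 ∘ j and s = pr_1 ∘ j. Then the relation on the points of U in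
which x ∼ y when some point r of R has t(r) = x and s(r) = y is an equivalence relation. -/
theorem result {S U R : Scheme.{u}} (pU : U ⟶ S) (j : R ⟶ pullback pU pU) (hj : ∀ T : Scheme.{u}, Equivalence (fun a b : T ⟶ U => ∃ r : T ⟶ R, r ≫ j ≫ pullback.fst pU pU = a ∧ r ≫ j ≫ pullback.snd pU pU = b)) : Equivalence (fun x y : ↥U => ∃ r : R, (j ≫ pullback.fst pU pU) r = x ∧ (j ≫ pullback.snd pU pU) r = y) := by
  have key : ∀ (T : Scheme.{u}) (pt : T) (a b : T ⟶ U),
      (∃ r : T ⟶ R, r ≫ j ≫ pullback.fst pU pU = a ∧ r ≫ j ≫ pullback.snd pU pU = b) →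
      ∃ r : R, (j ≫ pullback.fst pU pU) r = a pt ∧ (j ≫ pullback.snd pU pU) r = b pt := by
    rintro T pt a b ⟨r, rfl, rfl⟩
    exact ⟨r pt, by simp, by simp⟩
  have hpt : ∀ (X : Scheme.{u}) (x : X), Nonempty ↥(Spec (X.residueField x)) := by
    intro X x
    exact (inferInstance : Nonempty (PrimeSpectrum (X.residueField x)))
  refine ⟨?_, ?_, ?_⟩
  · intro x
    obtain ⟨pt⟩ := hpt U x
    obtain ⟨r, h1, h2⟩ := key _ pt _ _ ((hj (Spec (U.residueField x))).refl
      (U.fromSpecResidueField x))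
    exact ⟨r, by rw [h1, Scheme.fromSpecResidueField_apply],
      by rw [h2, Scheme.fromSpecResidueField_apply]⟩
  · rintro x y ⟨r, rfl, rfl⟩
    obtain ⟨pt⟩ := hpt R r
    have hrel : ∃ r' : Spec (R.residueField r) ⟶ R,
        r' ≫ j ≫ pullback.fst pU pU = R.fromSpecResidueField r ≫ j ≫ pullback.fst pU pU ∧
        r' ≫ j ≫ pullback.snd pU pU = R.fromSpecResidueField r ≫ j ≫ pullback.snd pU pU :=
      ⟨_, rfl, rfl⟩
    obtain ⟨r', h1, h2⟩ := key _ pt _ _ ((hj (Spec (R.residueField r))).symm hrel)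
    refine ⟨r', ?_, ?_⟩
    · rw [h1]
      simp [Scheme.fromSpecResidueField_apply]
    · rw [h2]
      simp [Scheme.fromSpecResidueField_apply]
  · rintro x y z ⟨r1, rfl, hy⟩ ⟨r2, hy2, rfl⟩
    obtain ⟨w, hw1, hw2⟩ := Scheme.Pullback.exists_preimage_pullback
      (f := j ≫ pullback.snd pU pU) (g := j ≫ pullback.fst pU pU) r1 r2 (hy.trans hy2.symm)
    obtain ⟨pt⟩ := hpt _ w
    set ω := (pullback (j ≫ pullback.snd pU pU) (j ≫ pullback.fst pU pU)).fromSpecResidueField w
      with hω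
    have h12 : (ω ≫ pullback.fst _ _) ≫ j ≫ pullback.snd pU pU =
        (ω ≫ pullback.snd _ _) ≫ j ≫ pullback.fst pU pU := by
      rw [Category.assoc, Category.assoc, pullback.condition]
    have rel1 : ∃ r' : Spec ((pullback (j ≫ pullback.snd pU pU)
        (j ≫ pullback.fst pU pU)).residueField w) ⟶ R,
        r' ≫ j ≫ pullback.fst pU pU = (ω ≫ pullback.fst _ _) ≫ j ≫ pullback.fst pU pU ∧
        r' ≫ j ≫ pullback.snd pU pU = (ω ≫ pullback.fst _ _) ≫ j ≫ pullback.snd pU pU :=
      ⟨_, rfl, rfl⟩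
    have rel2 : ∃ r' : Spec ((pullback (j ≫ pullback.snd pU pU)
        (j ≫ pullback.fst pU pU)).residueField w) ⟶ R,
        r' ≫ j ≫ pullback.fst pU pU = (ω ≫ pullback.fst _ _) ≫ j ≫ pullback.snd pU pU ∧
        r' ≫ j ≫ pullback.snd pU pU = (ω ≫ pullback.snd _ _) ≫ j ≫ pullback.snd pU pU :=
      ⟨ω ≫ pullback.snd _ _, h12.symm, rfl⟩
    obtain ⟨r', h1, h2⟩ := key _ pt _ _ ((hj _).trans rel1 rel2)
    refine ⟨r', ?_, ?_⟩
    · rw [h1]
      simp [hω, Scheme.fromSpecResidueField_apply, hw1]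
    · rw [h2]
      simp [hω, Scheme.fromSpecResidueField_apply, hw2]

end Groth.Agent.S7522
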