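import Groth.Statements.S7524
import Groth.Agent.Lib.Helper25.Constructible

set_option autoImplicit false
universe u
open SpecSp

namespace Groth.Agent.S7524

/-- A continuous map f : X → Y of spectral spaces is spectral if and only if it is continuous when X and
Y both carry their constructible topologies. -/
theorem result {X Y : Type u} [TopologicalSpace X] [TopologicalSpace Y]
    [SpectralSpace X] [SpectralSpace Y] (f : X → Y) (hf : Continuous f) :
    IsSpectralMap f ↔ @Continuous X Y (constructibleTopology X) (constructibleTopology Y) f := by
  refine ⟨fun h => Groth.Agent.Lib.Helper25.continuous_constructibleTopology_of_isSpectralMap f h,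
    fun hc => ⟨hf, fun s hs1 hs2 => ?_⟩⟩
  apply Groth.Agent.Lib.Helper25.isCompact_of_isClosed_constructibleTopology
  have h1 : @IsClosed Y (constructibleTopology Y) s := by
    rw [← @isOpen_compl_iff Y s (constructibleTopology Y)]
    exact IsCompact.isOpen_constructibleTopology_of_isClosed (by rwa [compl_compl])
      hs1.isClosed_compl
  exact @IsClosed.preimage X Y (constructibleTopology X) (constructibleTopology Y) f hc s h1

end Groth.Agent.S7524
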