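import Groth.Statements.S7539
import Groth.Agent.Lib.Lead.Spectral
import Mathlib.Tactic.TFAE
-- import your own Groth.Agent.* helpers here

set_option autoImplicit false
universe u
open SpecSp

namespace Groth.Agent.S7539

/-- For a subset W of a spectral space X, these five conditions coincide: (1) W can be written as an
intersection of constructible subsets and is stable under generalization; (2) W is quasi-compact and
stable under generalization; (3) for some quasi-compact E ⊆ X, W consists exactly of the points that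
specialize to a point of E; (4) W is the intersection of some family of quasi-compact opens; (5)
there are a nonempty index set I and quasi-compact opens U_i with W = ⋂ U_i such that for all i, j
some U_k is contained in U_i ∩ U_j. -/
theorem result {X : Type u} [TopologicalSpace X] [SpectralSpace X] (W : Set X) :
    List.TFAE [
      (∃ S : Set (Set X), (∀ s ∈ S, Topology.IsConstructible s) ∧ W = ⋂₀ S) ∧ StableUnderGeneralization W,
      IsCompact W ∧ StableUnderGeneralization W,
      ∃ E : Set X, IsCompact E ∧ W = {x | ∃ e ∈ E, x ⤳ e},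
      ∃ S : Set (Set X), (∀ s ∈ S, IsOpen s ∧ IsCompact s) ∧ W = ⋂₀ S,
      ∃ (I : Type u) (_ : Nonempty I) (U : I → Set X), (∀ i, IsOpen (U i) ∧ IsCompact (U i)) ∧
        W = ⋂ i, U i ∧ ∀ i j, ∃ k, U k ⊆ U i ∩ U j] := by
  tfae_have 4 → 1 := by
    rintro ⟨S, hS, rfl⟩
    refine ⟨⟨S, fun s hs => (hS s hs).2.isConstructible (hS s hs).1, rfl⟩, ?_⟩
    intro x y hyx hx
    rw [Set.mem_sInter] at hx ⊢
    intro s hs
    exact hyx.mem_open (hS s hs).1 (hx s hs)
  tfae_have 1 → 2 := by
    rintro ⟨⟨S, hS, rfl⟩, hgen⟩
    refine ⟨?_, hgen⟩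
    apply Groth.Agent.Lib.Lead.isCompact_of_isClosed_constructible
    exact @isClosed_sInter X (constructibleTopology X) S fun s hs =>
      (Groth.Agent.Lib.Lead.isClopen_constructible_of_isConstructible (hS s hs)).1
  tfae_have 2 → 3 := by
    rintro ⟨hc, hgen⟩
    refine ⟨W, hc, ?_⟩
    ext x
    constructor
    · intro hx; exact ⟨x, hx, specializes_rfl⟩
    · rintro ⟨e, he, hxe⟩; exact hgen hxe he
  tfae_have 3 → 4 := by
    rintro ⟨E, hE, rfl⟩
    refine ⟨{U : Set X | IsOpen U ∧ IsCompact U ∧ E ⊆ U}, fun s hs => ⟨hs.1, hs.2.1⟩, ?_⟩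
    exact Groth.Agent.Lib.Lead.generalizations_eq_sInter hE
  tfae_have 5 → 4 := by
    rintro ⟨I, _, U, hU, rfl, -⟩
    refine ⟨Set.range U, ?_, by rw [Set.sInter_range]⟩
    rintro _ ⟨i, rfl⟩
    exact hU i
  tfae_have 4 → 5 := by
    classical
    rintro ⟨S, hS, rfl⟩
    refine ⟨Finset S, ⟨∅⟩, fun F => ⋂ s ∈ F, (s : Set X), ?_, ?_, ?_⟩
    · intro F
      constructor
      · exact F.finite_toSet.isOpen_biInter fun s _ => (hS s.1 s.2).1
      · induction F using Finset.induction_on with
        | empty => dsimp only; simpa using isCompact_univ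
        | insert a F _ ih =>
          dsimp only at ih ⊢
          rw [Finset.set_biInter_insert]
          exact QuasiSeparatedSpace.inter_isCompact _ _ (hS a.1 a.2).1 (hS a.1 a.2).2
            (F.finite_toSet.isOpen_biInter fun s _ => (hS s.1 s.2).1) ih
    · ext x
      simp only [Set.mem_sInter, Set.mem_iInter]
      constructor
      · intro hx F s _; exact hx s.1 s.2
      · intro hx s hs
        exact hx {⟨s, hs⟩} ⟨s, hs⟩ (Finset.mem_singleton_self _)
    · intro F G
      refine ⟨F ∪ G, ?_⟩
      intro x hx
      simp only [Set.mem_iInter, Set.mem_inter_iff] at hx ⊢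
      exact ⟨fun s hs => hx s (Finset.mem_union_left _ hs),
        fun s hs => hx s (Finset.mem_union_right _ hs)⟩
  tfae_finish

end Groth.Agent.S7539
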