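import Groth.Statements.S7541
import Groth.Agent.Lib.Lead.SpectralSub
-- import your own Groth.Agent.* helpers here

set_option autoImplicit false
universe u
open SpecSp

namespace Groth.Agent.S7541

/-- Let X be a spectral space, E ⊆ X a constructible subset and W the set of points of X that specialize
to a point of E. Then the subspace W minus E is a spectral space. (The description of W minus E as a
limit of the U_i minus E is not recorded here.) -/
theorem result {X : Type u} [TopologicalSpace X] [SpectralSpace X]
    (E : Set X) (hE : Topology.IsConstructible E) :
    SpectralSpace ↥({x : X | ∃ e ∈ E, x ⤳ e} \ E) := by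
  apply Groth.Agent.Lib.Lead.spectralSpace_of_isClosed_constructible
  rw [Set.diff_eq]
  exact @IsClosed.inter X _ _ (constructibleTopology X)
    (Groth.Agent.Lib.Lead.isClosed_constructible_generalizations hE)
    (Groth.Agent.Lib.Lead.isClopen_constructible_of_isConstructible hE.compl).1

end Groth.Agent.S7541
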