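import Groth.Statements.S7542
-- import your own Groth.Agent.* helpers here

set_option autoImplicit false
universe u
open ConstrTop

namespace Groth.Agent.S7542

/-- Let X be a topological space such that the quasi-compact opens form a basis for the topology, and
let T ⊆ X be retrocompact in X. Then for any constructible subset E ⊆ X, the intersection E ∩ T is
constructible in T (with the induced topology). -/
theorem result {X : Type u} [TopologicalSpace X] [PrespectralSpace X]
    (T : Set X) (hT : IsRetrocompact T) (E : Set X) (hE : Topology.IsConstructible E) :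
    Topology.IsConstructible ((Subtype.val : T → X) ⁻¹' E) := by
  refine hE.preimage continuous_subtype_val ?_
  intro U hUo hUr V hVc hVo
  obtain ⟨V', hV'o, rfl⟩ := isOpen_induced_iff.mp hVo
  have hK : IsCompact (Subtype.val '' (Subtype.val ⁻¹' V' : Set T)) :=
    hVc.image continuous_subtype_val
  have hKV' : Subtype.val '' (Subtype.val ⁻¹' V' : Set T) ⊆ V' := by
    rintro _ ⟨x, hx, rfl⟩; exact hx
  obtain ⟨W, hWc, hWo, hKW, hWV'⟩ :=
    PrespectralSpace.exists_isCompact_and_isOpen_between hK hV'o hKV'
  have hVW : (Subtype.val ⁻¹' V' : Set T) = Subtype.val ⁻¹' W := by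
    ext x
    constructor
    · intro hx; exact hKW ⟨x, hx, rfl⟩
    · intro hx; exact hWV' hx
  rw [hVW, Subtype.isCompact_iff]
  have himg : Subtype.val '' ((Subtype.val ⁻¹' U : Set T) ∩ Subtype.val ⁻¹' W) = T ∩ (U ∩ W) := by
    ext x
    constructor
    · rintro ⟨y, ⟨hy1, hy2⟩, rfl⟩
      exact ⟨y.2, hy1, hy2⟩
    · rintro ⟨hxT, hxU, hxW⟩
      exact ⟨⟨x, hxT⟩, ⟨hxU, hxW⟩, rfl⟩
  rw [himg]
  exact hT (hUr hWc hWo) (hUo.inter hWo)

end Groth.Agent.S7542
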