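import Groth.Statements.S7544
-- import your own Groth.Agent.* helpers here

set_option autoImplicit false
universe u
open ConstrTop

namespace Groth.Agent.S7544

/-- Let X be a quasi-compact topological space whose quasi-compact opens form a basis and are closed
under pairwise intersection. Take T ⊆ X to be locally closed, quasi-compact, and with retrocompact
complement. Then T is constructible in X. -/
theorem result {X : Type u} [TopologicalSpace X]
    [CompactSpace X] [PrespectralSpace X] [QuasiSeparatedSpace X]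
    (T : Set X) (hT : IsLocallyClosed T) (hTc : IsCompact T) (hTr : IsRetrocompact Tᶜ) :
    Topology.IsConstructible T := by
  obtain ⟨U, Z, hU, hZ, rfl⟩ := hT
  obtain ⟨V, hVc, hVo, hTV, hVU⟩ :=
    PrespectralSpace.exists_isCompact_and_isOpen_between hTc hU Set.inter_subset_left
  have hW : IsCompact ((U ∩ Z)ᶜ ∩ V) := hTr hVc hVo
  have hWeq : (U ∩ Z)ᶜ ∩ V = Zᶜ ∩ V := by
    ext x
    simp only [Set.mem_inter_iff, Set.mem_compl_iff, not_and]
    constructor
    · rintro ⟨h1, h2⟩
      exact ⟨h1 (hVU h2), h2⟩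
    · rintro ⟨h1, h2⟩
      exact ⟨fun _ => h1, h2⟩
  have hWo : IsOpen ((U ∩ Z)ᶜ ∩ V) := by
    rw [hWeq]; exact hZ.isOpen_compl.inter hVo
  have heq : U ∩ Z = V \ ((U ∩ Z)ᶜ ∩ V) := by
    ext x
    constructor
    · rintro ⟨h1, h2⟩
      exact ⟨hTV ⟨h1, h2⟩, fun h => h.1 ⟨h1, h2⟩⟩
    · rintro ⟨h1, h2⟩
      by_contra hcon
      exact h2 ⟨hcon, h1⟩
  rw [heq]
  exact (hVc.isConstructible hVo).sdiff (hW.isConstructible hWo)

end Groth.Agent.S7544
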