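import Groth.Statements.S7546
-- import your own Groth.Agent.* helpers here

set_option autoImplicit false
universe u
open ConstrTop

namespace Groth.Agent.S7546

open Set


lemma fwd {X : Type u} [TopologicalSpace X] (Z : Set X) (hZ : IsIrreducible Z)
    {n : ℕ} (L : Fin n → Set X) (hL : ∀ i, IsLocallyClosed (L i)) (E : Set X) (hE : E = ⋃ i, L i)
    (h : Z ⊆ closure (E ∩ Z)) :
    ∃ U : Set X, IsOpen U ∧ U ∩ Z ⊆ E ∧ Z ⊆ closure (U ∩ Z) := by
  classical
  have h1 : E ∩ Z = ⋃ i, (L i ∩ Z) := by rw [hE, iUnion_inter]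
  rw [h1, closure_iUnion_of_finite] at h
  have h2 := (isIrreducible_iff_sUnion_isClosed.mp hZ)
    (Finset.univ.image fun i => closure (L i ∩ Z))
    (by
      intro z hz
      rw [Finset.mem_image] at hz
      obtain ⟨i, -, rfl⟩ := hz
      exact isClosed_closure)
    (by
      intro x hx
      obtain ⟨i, hi⟩ := mem_iUnion.mp (h hx)
      exact mem_sUnion.mpr ⟨closure (L i ∩ Z), by simp, hi⟩)
  obtain ⟨z, hz, hZz⟩ := h2
  rw [Finset.mem_image] at hz
  obtain ⟨i, -, rfl⟩ := hz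
  obtain ⟨U, C, hU, hC, hUC⟩ := hL i
  have hZC : Z ⊆ C := by
    refine hZz.trans (closure_minimal ?_ hC)
    rw [hUC]
    exact fun x hx => hx.1.2
  have hUZ : U ∩ Z = L i ∩ Z := by
    rw [hUC]
    ext x
    constructor
    · rintro ⟨hxU, hxZ⟩
      exact ⟨⟨hxU, hZC hxZ⟩, hxZ⟩
    · rintro ⟨⟨hxU, -⟩, hxZ⟩
      exact ⟨hxU, hxZ⟩
  refine ⟨U, hU, ?_, ?_⟩
  · rw [hUZ, hE]
    exact fun x hx => mem_iUnion.mpr ⟨i, hx.1⟩
  · rw [hUZ]
    exact hZz

/-- Let X be a topological space, Z ⊆ X irreducible and E ⊆ X a finite union of locally closed subsets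
(for instance a constructible set). Then E ∩ Z is dense in Z if and only if E ∩ Z contains a subset
of the form U ∩ Z, U open in X, which is dense in Z. If moreover ξ ∈ Z is a generic point of Z,
these conditions are equivalent to ξ ∈ E. -/
theorem result {X : Type u} [TopologicalSpace X] (Z : Set X) (hZ : IsIrreducible Z)
    {n : ℕ} (L : Fin n → Set X) (hL : ∀ i, IsLocallyClosed (L i)) (E : Set X) (hE : E = ⋃ i, L i) :
    (Z ⊆ closure (E ∩ Z) ↔ ∃ U : Set X, IsOpen U ∧ U ∩ Z ⊆ E ∧ Z ⊆ closure (U ∩ Z)) ∧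
    (∀ ξ : X, ξ ∈ Z → Z ⊆ closure {ξ} → (Z ⊆ closure (E ∩ Z) ↔ ξ ∈ E)) := by
  have bwd : (∃ U : Set X, IsOpen U ∧ U ∩ Z ⊆ E ∧ Z ⊆ closure (U ∩ Z)) → Z ⊆ closure (E ∩ Z) := by
    rintro ⟨U, -, hUE, hd⟩
    exact hd.trans (closure_mono fun x hx => ⟨hUE hx, hx.2⟩)
  refine ⟨⟨fwd Z hZ L hL E hE, bwd⟩, ?_⟩
  intro ξ hξZ hgen
  constructor
  · intro h
    obtain ⟨U, hU, hUE, hd⟩ := fwd Z hZ L hL E hE h
    obtain ⟨z0, hz0⟩ := hZ.nonempty
    have hne : (U ∩ Z).Nonempty := by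
      by_contra hemp
      rw [Set.not_nonempty_iff_eq_empty] at hemp
      rw [hemp, closure_empty] at hd
      exact hd hz0
    obtain ⟨z, hzU, hzZ⟩ := hne
    have hzc : z ∈ closure {ξ} := hgen hzZ
    rw [mem_closure_iff] at hzc
    obtain ⟨w, hwU, hw⟩ := hzc U hU hzU
    rw [mem_singleton_iff] at hw
    subst hw
    exact hUE ⟨hwU, hξZ⟩
  · intro hξE
    refine hgen.trans (closure_mono ?_)
    rintro x hx
    rw [mem_singleton_iff] at hx
    subst hx
    exact ⟨hξE, hξZ⟩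

end Groth.Agent.S7546
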