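import Groth.Statements.S7547
-- import your own Groth.Agent.* helpers here

set_option autoImplicit false
universe u
open PtTop

namespace Groth.Agent.S7547

open Set Topology

/-- Let X be a Kolmogorov topological space whose quasi-compact opens form a basis for the topology. If
X is not Jacobson, there is a point x ∈ X which is not closed but such that {x} is locally closed. -/
theorem result {X : Type u} [TopologicalSpace X]
    [T0Space X] [PrespectralSpace X] (hX : ¬ JacobsonSpace X) :
    ∃ x : X, ¬ IsClosed ({x} : Set X) ∧ IsLocallyClosed ({x} : Set X) := by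
  rw [jacobsonSpace_iff_locallyClosed] at hX
  push Not at hX
  obtain ⟨Z, ⟨z, hz⟩, hZ, hZe⟩ := hX
  obtain ⟨U, C, hU, hC, rfl⟩ := hZ
  obtain ⟨V, ⟨hVo, hVc⟩, hzV, hVU⟩ :=
    PrespectralSpace.isTopologicalBasis.exists_subset_of_mem_open hz.1 hU
  have hWc : IsCompact (V ∩ C) := hVc.inter_right hC
  have : CompactSpace ↥(V ∩ C) := isCompact_iff_compactSpace.mp hWc
  obtain ⟨x, -, hx⟩ := IsClosed.exists_closed_singleton (X := ↥(V ∩ C)) isClosed_univ
    ⟨⟨z, hzV, hz.2⟩, mem_univ _⟩
  obtain ⟨C', hC', hCx⟩ := (IsInducing.subtypeVal).isClosed_iff.mp hx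
  refine ⟨x.1, ?_, ?_⟩
  · intro hcl
    have : x.1 ∈ U ∩ C ∩ closedPoints X := ⟨⟨hVU x.2.1, x.2.2⟩, hcl⟩
    rw [hZe] at this
    exact this
  · have : ({x.1} : Set X) = V ∩ (C ∩ C') := by
      ext y
      constructor
      · intro hy
        rw [mem_singleton_iff] at hy
        subst hy
        refine ⟨x.2.1, x.2.2, ?_⟩
        have : x ∈ Subtype.val ⁻¹' C' := by rw [hCx]; rfl
        exact this
      · rintro ⟨hyV, hyC, hyC'⟩
        have : (⟨y, hyV, hyC⟩ : ↥(V ∩ C)) ∈ Subtype.val ⁻¹' C' := hyC'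
        rw [hCx, mem_singleton_iff] at this
        rw [mem_singleton_iff, ← this]
    rw [this]
    exact ⟨V, C ∩ C', hVo, hC.inter hC', rfl⟩

end Groth.Agent.S7547
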