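import Groth.Statements.S7548
-- import your own Groth.Agent.* helpers here

set_option autoImplicit false
universe u
open PtTop

namespace Groth.Agent.S7548

open Set Topology

/-- Let X be a Jacobson space and let T = ⋃ T_i be a union of subsets T_i ⊆ X each locally closed in X
(open, closed, locally closed and constructible subsets are of this form). Then T is Jacobson and
every point of T closed in T is closed in X. -/
theorem result {X : Type u} [TopologicalSpace X] [JacobsonSpace X]
    {ι : Type u} (T : ι → Set X) (hT : ∀ i, IsLocallyClosed (T i)) :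
    JacobsonSpace ↥(⋃ i, T i) ∧
      closedPoints ↥(⋃ i, T i) ⊆ (Subtype.val : ↥(⋃ i, T i) → X) ⁻¹' closedPoints X := by
  constructor
  · rw [jacobsonSpace_iff_locallyClosed]
    intro Z hZne hZ
    obtain ⟨L, hL, rfl⟩ := (IsInducing.subtypeVal).isLocallyClosed_iff.mp hZ
    obtain ⟨⟨z, hzT⟩, hzL⟩ := hZne
    obtain ⟨i, hzi⟩ := mem_iUnion.mp hzT
    obtain ⟨y, ⟨hyL, hyi⟩, hyc⟩ := nonempty_inter_closedPoints (Z := L ∩ T i)
      ⟨z, hzL, hzi⟩ (hL.inter (hT i))
    refine ⟨⟨y, mem_iUnion.mpr ⟨i, hyi⟩⟩, hyL, ?_⟩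
    exact preimage_closedPoints_subset Subtype.val_injective continuous_subtype_val hyc
  · rintro ⟨x, hxT⟩ hx
    rw [mem_closedPoints_iff] at hx
    show IsClosed ({x} : Set X)
    apply isClosed_singleton_of_isLocallyClosed_singleton
    obtain ⟨i, hxi⟩ := mem_iUnion.mp hxT
    obtain ⟨C, hC, hCx⟩ := (IsInducing.subtypeVal).isClosed_iff.mp hx
    have : ({x} : Set X) = T i ∩ C := by
      ext y
      constructor
      · intro hy
        rw [mem_singleton_iff] at hy
        subst hy
        refine ⟨hxi, ?_⟩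
        have : (⟨y, hxT⟩ : ↥(⋃ i, T i)) ∈ Subtype.val ⁻¹' C := by rw [hCx]; rfl
        exact this
      · rintro ⟨hyi, hyC⟩
        have : (⟨y, mem_iUnion.mpr ⟨i, hyi⟩⟩ : ↥(⋃ i, T i)) ∈ Subtype.val ⁻¹' C := hyC
        rw [hCx, mem_singleton_iff] at this
        exact congrArg Subtype.val this
    rw [this]
    exact (hT i).inter hC.isLocallyClosed

end Groth.Agent.S7548
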