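import Groth.Statements.S7549
import Groth.Agent.Helper19.Strat
-- import your own Groth.Agent.* helpers here

set_option autoImplicit false
universe u
open PtTop

namespace Groth.Agent.S7549

open Set Topology Groth.Agent.Helper19


variable {X : Type u} [TopologicalSpace X]

/-- every nonempty constructible set contains a nonempty locally closed subset -/
lemma exists_locallyClosed_subset {T : Set X} (hT : IsConstructible T) (hne : T.Nonempty) :
    ∃ L : Set X, IsLocallyClosed L ∧ L.Nonempty ∧ L ⊆ T := by
  obtain ⟨m, V, hV, hsat⟩ := exists_sat_of_isConstructible hT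
  obtain ⟨x, hx⟩ := hne
  have hx' : x ∈ ⋃ A, atom V A := by rw [iUnion_atom]; trivial
  obtain ⟨A, hA⟩ := mem_iUnion.mp hx'
  exact ⟨atom V A, isLocallyClosed_atom (fun a => (hV a).1) A, ⟨x, hA⟩,
    hsat.atom_subset ⟨x, hA, hx⟩⟩

lemma subset_of_preimage_subset [JacobsonSpace X] {E E' : Set X} (hE : IsConstructible E)
    (hE' : IsConstructible E')
    (h : (Subtype.val : closedPoints X → X) ⁻¹' E ⊆ Subtype.val ⁻¹' E') : E ⊆ E' := by
  by_contra hne
  have hne' : (E \ E').Nonempty := by
    rw [Set.not_subset] at hne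
    obtain ⟨x, hx, hx'⟩ := hne
    exact ⟨x, hx, hx'⟩
  obtain ⟨L, hL, hLne, hLE⟩ := exists_locallyClosed_subset (hE.sdiff hE') hne'
  obtain ⟨y, hyL, hyc⟩ := nonempty_inter_closedPoints hLne hL
  exact (hLE hyL).2 (h (show (⟨y, hyc⟩ : closedPoints X) ∈ Subtype.val ⁻¹' E from (hLE hyL).1))

lemma subset_of_preimage_subset_of_isOpen [JacobsonSpace X] {U U' : Set X} (hU : IsOpen U)
    (hU' : IsOpen U')
    (h : (Subtype.val : closedPoints X → X) ⁻¹' U ⊆ Subtype.val ⁻¹' U') : U ⊆ U' := by
  by_contra hne
  have hne' : (U ∩ U'ᶜ).Nonempty := by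
    rw [Set.not_subset] at hne
    obtain ⟨x, hx, hx'⟩ := hne
    exact ⟨x, hx, hx'⟩
  obtain ⟨y, hyL, hyc⟩ := nonempty_inter_closedPoints hne'
    (hU.isLocallyClosed.inter hU'.isClosed_compl.isLocallyClosed)
  exact hyL.2 (h (show (⟨y, hyc⟩ : closedPoints X) ∈ Subtype.val ⁻¹' U from hyL.1))

lemma compact_iff [JacobsonSpace X] {U : Set X} (hU : IsOpen U) :
    IsCompact U ↔ IsCompact ((Subtype.val : closedPoints X → X) ⁻¹' U) := by
  constructor
  · intro hc
    rw [isCompact_iff_finite_subcover]
    intro J W hW hcov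
    choose V hV hVW using fun j => (IsInducing.subtypeVal).isOpen_iff.mp (hW j)
    have h1 : U ⊆ ⋃ j, V j := by
      apply subset_of_preimage_subset_of_isOpen hU (isOpen_iUnion hV)
      rw [preimage_iUnion]
      simp_rw [hVW]
      exact hcov
    obtain ⟨t, ht⟩ := hc.elim_finite_subcover V hV h1
    refine ⟨t, ?_⟩
    intro x hx
    have := ht hx
    simp only [mem_iUnion] at this ⊢
    obtain ⟨j, hj, hxj⟩ := this
    refine ⟨j, hj, ?_⟩
    rw [← hVW j]
    exact hxj
  · intro hc
    rw [isCompact_iff_finite_subcover]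
    intro J V hV hcov
    have h1 : (Subtype.val : closedPoints X → X) ⁻¹' U ⊆ ⋃ j, Subtype.val ⁻¹' (V j) := by
      rw [← preimage_iUnion]
      exact preimage_mono hcov
    obtain ⟨t, ht⟩ := hc.elim_finite_subcover _
      (fun j => (hV j).preimage continuous_subtype_val) h1
    refine ⟨t, ?_⟩
    have hopen : IsOpen (⋃ j ∈ t, V j) := isOpen_biUnion fun j _ => hV j
    apply subset_of_preimage_subset_of_isOpen hU hopen
    intro x hx
    have := ht hx
    simp only [mem_iUnion, mem_preimage] at this ⊢
    exact this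

lemma retro_iff [JacobsonSpace X] {U : Set X} (hU : IsOpen U) :
    IsRetrocompact U ↔ IsRetrocompact ((Subtype.val : closedPoints X → X) ⁻¹' U) := by
  constructor
  · intro hr W hWc hWo
    obtain ⟨V, hV, rfl⟩ := (IsInducing.subtypeVal).isOpen_iff.mp hWo
    have hVc : IsCompact V := (compact_iff hV).mpr hWc
    rw [← preimage_inter]
    exact (compact_iff (hU.inter hV)).mp (hr hVc hV)
  · intro hr V hVc hVo
    have := hr ((compact_iff hVo).mp hVc) (hVo.preimage continuous_subtype_val)
    rw [← preimage_inter] at this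
    exact (compact_iff (hU.inter hVo)).mpr this

/-- Let X be a Jacobson space and X₀ ⊆ X the subspace of closed points. (a) For U ⊆ X open, U is
quasi-compact if and only if U ∩ X₀ is quasi-compact, and U is retrocompact in X if and only if U ∩
X₀ is retrocompact in X₀. (b) The rule E ↦ E ∩ X₀ is an inclusion-preserving and
inclusion-reflecting bijection between the constructible subsets of X and the constructible subsets
of X₀. -/
theorem result {X : Type u} [TopologicalSpace X] [JacobsonSpace X] :
    (∀ U : Set X, IsOpen U →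
      (IsCompact U ↔ IsCompact ((Subtype.val : closedPoints X → X) ⁻¹' U)) ∧
      (IsRetrocompact U ↔ IsRetrocompact ((Subtype.val : closedPoints X → X) ⁻¹' U))) ∧
    (∀ E : Set X, Topology.IsConstructible E →
      Topology.IsConstructible ((Subtype.val : closedPoints X → X) ⁻¹' E)) ∧
    (∀ E E' : Set X, Topology.IsConstructible E → Topology.IsConstructible E' →
      ((Subtype.val : closedPoints X → X) ⁻¹' E ⊆ Subtype.val ⁻¹' E' ↔ E ⊆ E')) ∧
    (∀ F : Set (closedPoints X), Topology.IsConstructible F →
      ∃ E : Set X, Topology.IsConstructible E ∧ (Subtype.val : closedPoints X → X) ⁻¹' E = F) := by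
  refine ⟨fun U hU => ⟨compact_iff hU, retro_iff hU⟩, ?_, ?_, ?_⟩
  · intro E hE
    exact hE.preimage continuous_subtype_val fun s hs hr => (retro_iff hs).mp hr
  · intro E E' hE hE'
    exact ⟨subset_of_preimage_subset hE hE', fun h => preimage_mono h⟩
  · intro F hF
    induction hF using IsConstructible.empty_union_induction with
    | open_retrocompact W hWo hWc =>
      obtain ⟨V, hV, rfl⟩ := (IsInducing.subtypeVal).isOpen_iff.mp hWo
      exact ⟨V, ((retro_iff hV).mpr hWc).isConstructible hV, rfl⟩
    | union s hs t ht ihs iht =>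
      obtain ⟨E, hE, rfl⟩ := ihs
      obtain ⟨E', hE', rfl⟩ := iht
      exact ⟨E ∪ E', hE.union hE', rfl⟩
    | compl s hs ihs =>
      obtain ⟨E, hE, rfl⟩ := ihs
      exact ⟨Eᶜ, hE.compl, rfl⟩

end Groth.Agent.S7549
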