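import Groth.Statements.S7550
import Mathlib.Topology.NoetherianSpace
import Mathlib.Topology.Sober
-- import your own Groth.Agent.* helpers here

set_option autoImplicit false
universe u
open PtTop

namespace Groth.Agent.S7550

open Set Function Topology


/-- in a Noetherian quasi-sober space, a point in the closure of `S` is a specialization of a
point `ξ ∈ closure S` which specializes to a point of `S`. -/
lemma exists_generic {X : Type u} [TopologicalSpace X] [TopologicalSpace.NoetherianSpace X]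
    [QuasiSober X] (S : Set X) (x : X) (hx : x ∈ closure S) :
    ∃ ξ s, ξ ⤳ x ∧ s ∈ S ∧ ξ ⤳ s ∧ ξ ∈ closure S := by
  let P : Set (TopologicalSpace.Closeds X) := {Z | x ∈ closure (S ∩ Z)}
  have hP : P.Nonempty := ⟨⊤, by simpa [P] using hx⟩
  obtain ⟨Z, hZP, hZmin⟩ := wellFounded_lt.has_min P hP
  have hZP' : x ∈ closure (S ∩ Z) := hZP
  -- density
  have hdense : closure (S ∩ (Z : Set X)) = Z := by
    let Z' : TopologicalSpace.Closeds X := ⟨closure (S ∩ Z), isClosed_closure⟩
    have hZ'Z : Z' ≤ Z := closure_minimal inter_subset_right Z.isClosed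
    have hZ'P : Z' ∈ P := by
      show x ∈ closure (S ∩ closure (S ∩ Z))
      exact closure_mono (fun y (hy : y ∈ S ∩ (Z : Set X)) => (⟨hy.1, subset_closure hy⟩ : y ∈ S ∩ closure (S ∩ (Z : Set X)))) hZP'
    by_contra hne
    have hlt : Z' < Z := lt_of_le_of_ne hZ'Z (fun h => hne (congrArg (fun C : TopologicalSpace.Closeds X => (C : Set X)) h))
    exact hZmin Z' hZ'P hlt
  have hxZ : x ∈ (Z : Set X) := hdense ▸ hZP'
  have hirr : IsIrreducible (Z : Set X) := by
    refine ⟨⟨x, hxZ⟩, ?_⟩
    rw [isPreirreducible_iff_isClosed_union_isClosed]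
    intro Z₁ Z₂ hZ₁ hZ₂ hcov
    by_contra hcon
    push Not at hcon
    obtain ⟨hn1, hn2⟩ := hcon
    let W₁ : TopologicalSpace.Closeds X := ⟨Z₁ ∩ Z, hZ₁.inter Z.isClosed⟩
    let W₂ : TopologicalSpace.Closeds X := ⟨Z₂ ∩ Z, hZ₂.inter Z.isClosed⟩
    have hW₁ : W₁ < Z := by
      refine lt_of_le_of_ne (fun x hx => hx.2) (fun h => hn1 ?_)
      intro x hx
      have : x ∈ (W₁ : Set X) := h ▸ hx
      exact this.1
    have hW₂ : W₂ < Z := by
      refine lt_of_le_of_ne (fun x hx => hx.2) (fun h => hn2 ?_)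
      intro x hx
      have : x ∈ (W₂ : Set X) := h ▸ hx
      exact this.1
    have : S ∩ (Z : Set X) = (S ∩ W₁) ∪ (S ∩ W₂) := by
      ext x
      constructor
      · rintro ⟨hxE, hxZ⟩
        rcases hcov hxZ with h | h
        · exact Or.inl ⟨hxE, h, hxZ⟩
        · exact Or.inr ⟨hxE, h, hxZ⟩
      · rintro (⟨hxE, -, hxZ⟩ | ⟨hxE, -, hxZ⟩) <;> exact ⟨hxE, hxZ⟩
    rw [this, closure_union] at hZP'
    rcases hZP' with h | h
    · exact hZmin W₁ h hW₁
    · exact hZmin W₂ h hW₂
  obtain ⟨ξ, hξ⟩ := QuasiSober.sober hirr Z.isClosed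
  have hne : (S ∩ (Z : Set X)).Nonempty := by
    by_contra h
    rw [not_nonempty_iff_eq_empty] at h
    rw [h, closure_empty] at hZP'
    exact hZP'
  obtain ⟨s, hsS, hsZ⟩ := hne
  refine ⟨ξ, s, hξ.specializes hxZ, hsS, hξ.specializes hsZ, ?_⟩
  have : ξ ∈ (Z : Set X) := hξ.mem
  rw [← hdense] at this
  exact closure_mono inter_subset_left this

/-- Let f : X → Y be a continuous and open map of topological spaces, with X Noetherian, every
irreducible closed subset of X having a generic point, and Y Kolmogorov. Then generalizations lift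
along f. (Part (1), closed maps are specializing, is a library fact.) -/
theorem result {X Y : Type u} [TopologicalSpace X] [TopologicalSpace Y]
    [TopologicalSpace.NoetherianSpace X] [QuasiSober X] [T0Space Y]
    (f : X → Y) (hf : Continuous f) (hfo : IsOpenMap f) :
    GeneralizingMap f := by
  intro x' y hy
  have hx' : x' ∈ closure (f ⁻¹' {y}) := by
    rw [mem_closure_iff]
    intro U hU hxU
    have : y ∈ f '' U := hy.mem_open (hfo U hU) ⟨x', hxU, rfl⟩
    obtain ⟨u, huU, hu⟩ := this
    exact ⟨u, huU, hu⟩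
  obtain ⟨ξ, s, hξx, hsS, hξs, hξc⟩ := exists_generic (f ⁻¹' {y}) x' hx'
  refine ⟨ξ, hξx, ?_⟩
  have h1 : f ξ ⤳ y := by
    have := hξs.map hf
    rwa [show f s = y from hsS] at this
  have h2 : y ⤳ f ξ := by
    rw [specializes_iff_mem_closure]
    have : f ξ ∈ closure (f '' (f ⁻¹' {y})) := image_closure_subset_closure_image hf ⟨ξ, hξc, rfl⟩
    exact closure_mono (image_preimage_subset f {y}) this
  exact (h1.antisymm h2).eq

end Groth.Agent.S7550
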