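import Groth.Statements.S7551
-- import your own Groth.Agent.* helpers here

set_option autoImplicit false
universe u
open PtTop

namespace Groth.Agent.S7551

open Set Topology


lemma key {U X : Type u} [TopologicalSpace U] [TopologicalSpace X] [T0Space U]
    (π : U → X) (hπ : Continuous π) (hπo : IsOpenMap π)
    (hfin : ∀ x : X, (π ⁻¹' {x}).Finite) (hπs : Function.Surjective π)
    (x x' : X) (hcl : closure ({x} : Set X) = closure {x'}) :
    ∀ m ∈ π ⁻¹' {x}, (∀ y ∈ π ⁻¹' {x} ∪ π ⁻¹' {x'}, y ⤳ m → m ⤳ y) → x = x' := by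
  intro m hm hmax
  have h1 : m ∈ π ⁻¹' closure {x'} := by
    rw [← hcl]
    exact subset_closure hm
  rw [hπo.preimage_closure_eq_closure_preimage hπ, ← biUnion_of_singleton (π ⁻¹' {x'}),
    (hfin x').closure_biUnion] at h1
  simp only [mem_iUnion] at h1
  obtain ⟨u', hu', hmu'⟩ := h1
  have hs1 : u' ⤳ m := specializes_iff_mem_closure.mpr hmu'
  have hs2 : m ⤳ u' := hmax u' (Or.inr hu') hs1
  have : u' = m := (hs1.antisymm hs2).eq
  subst this
  exact hm.symm.trans hu'

/-- Let s, t : R → U and π : U → X be continuous maps between topological spaces satisfying: (1) π is an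
open map, (2) U is a sober space, (3) s and t have finite fibres, (4) generalizations lift along s
and along t, and (5) the image of (t, s) : R → U × U is an equivalence relation on U and π
identifies X, as a set, with the quotient of U by it. Then X is Kolmogorov. -/
theorem result {R U X : Type u}
    [TopologicalSpace R] [TopologicalSpace U] [TopologicalSpace X] [QuasiSober U] [T0Space U]
    (s t : R → U) (π : U → X) (hs : Continuous s) (ht : Continuous t) (hπ : Continuous π)
    (hπo : IsOpenMap π) (hsf : ∀ u, (s ⁻¹' {u}).Finite) (htf : ∀ u, (t ⁻¹' {u}).Finite)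
    (hsg : GeneralizingMap s) (htg : GeneralizingMap t)
    (hE : Equivalence fun u u' : U => ∃ r, t r = u ∧ s r = u')
    (hπs : Function.Surjective π) (hπq : ∀ u u' : U, π u = π u' ↔ ∃ r, t r = u ∧ s r = u') :
    T0Space X := by
  classical
  have hfin : ∀ x : X, (π ⁻¹' {x}).Finite := by
    intro x
    obtain ⟨u, rfl⟩ := hπs x
    apply ((hsf u).image t).subset
    intro u' hu'
    obtain ⟨r, hr1, hr2⟩ := (hπq u' u).mp hu'
    exact ⟨r, hr2, hr1⟩
  rw [t0Space_iff_inseparable]
  intro x x' hxx'
  have hcl : closure ({x} : Set X) = closure {x'} := inseparable_iff_closure_eq.mp hxx'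
  let _ := specializationPreorder U
  have hAfin : (π ⁻¹' {x} ∪ π ⁻¹' {x'}).Finite := (hfin x).union (hfin x')
  have hAne : (π ⁻¹' {x} ∪ π ⁻¹' {x'}).Nonempty := by
    obtain ⟨u, hu⟩ := hπs x
    exact ⟨u, Or.inl hu⟩
  obtain ⟨m, hmA, hmmax⟩ := hAfin.exists_maximal hAne
  have hmax : ∀ y ∈ π ⁻¹' {x} ∪ π ⁻¹' {x'}, y ⤳ m → m ⤳ y := fun y hy h => hmmax hy h
  rcases hmA with hm | hm
  · exact key π hπ hπo hfin hπs x x' hcl m hm hmax
  · refine (key π hπ hπo hfin hπs x' x hcl.symm m hm ?_).symm
    intro y hy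
    exact hmax y hy.symm

end Groth.Agent.S7551
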