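import Groth.Statements.S7553
import Mathlib.Topology.NoetherianSpace
import Mathlib.Topology.Sober
-- import your own Groth.Agent.* helpers here

set_option autoImplicit false
universe u
open ConstrTop

namespace Groth.Agent.S7553

open Set Function Topology


/-- dichotomy for a constructible set against an irreducible set -/
lemma dichotomy {X : Type u} [TopologicalSpace X] {s : Set X} (hs : IsConstructible s)
    (Z : Set X) (hZ : IsIrreducible Z) :
    (∃ U : Set X, IsOpen U ∧ (U ∩ Z).Nonempty ∧ U ∩ Z ⊆ s) ∨ ¬ (Z ⊆ closure (s ∩ Z)) := by
  induction hs using IsConstructible.empty_union_induction with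
  | open_retrocompact U hUo hUc =>
    by_cases hne : (U ∩ Z).Nonempty
    · exact Or.inl ⟨U, hUo, hne, inter_subset_left⟩
    · right
      rw [not_nonempty_iff_eq_empty] at hne
      rw [hne, closure_empty]
      intro h
      obtain ⟨z, hz⟩ := hZ.nonempty
      exact h hz
  | union s hs t ht ihs iht =>
    rcases ihs with ⟨U, hU, hne, hsub⟩ | hns
    · exact Or.inl ⟨U, hU, hne, hsub.trans subset_union_left⟩
    · rcases iht with ⟨U, hU, hne, hsub⟩ | hnt
      · exact Or.inl ⟨U, hU, hne, hsub.trans subset_union_right⟩
      · right
        intro h
        rw [union_inter_distrib_right, closure_union] at h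
        rcases (isPreirreducible_iff_isClosed_union_isClosed.mp hZ.isPreirreducible) _ _
          isClosed_closure isClosed_closure h with h1 | h1
        · exact hns h1
        · exact hnt h1
  | compl s hs ih =>
    rcases ih with ⟨U, hU, hne, hsub⟩ | hns
    · right
      intro h
      have h1 : closure (sᶜ ∩ Z) ⊆ Uᶜ := by
        apply closure_minimal _ hU.isClosed_compl
        rintro z ⟨hzs, hzZ⟩ hzU
        exact hzs (hsub ⟨hzU, hzZ⟩)
      obtain ⟨z, hzU, hzZ⟩ := hne
      exact h1 (h hzZ) hzU
    · left
      refine ⟨(closure (s ∩ Z))ᶜ, isClosed_closure.isOpen_compl, ?_, ?_⟩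
      · rw [not_subset] at hns
        obtain ⟨z, hzZ, hz⟩ := hns
        exact ⟨z, hz, hzZ⟩
      · rintro z ⟨hz, hzZ⟩ hzs
        exact hz (subset_closure ⟨hzs, hzZ⟩)

lemma closed_of_spec {X : Type u} [TopologicalSpace X]
    [TopologicalSpace.NoetherianSpace X] [QuasiSober X] (E : Set X) (hE : IsConstructible E)
    (hsp : StableUnderSpecialization E) : IsClosed E := by
  -- claim: for every closed Z, closure (E ∩ Z) ⊆ E
  have key : ∀ Z : TopologicalSpace.Closeds X, closure (E ∩ Z) ⊆ E := by
    intro Z
    induction Z using WellFoundedLT.induction with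
    | _ Z ih =>
      by_cases hW : closure (E ∩ Z) = Z
      · -- dense case
        by_cases hirr : IsIrreducible (Z : Set X)
        · rcases dichotomy hE Z hirr with ⟨U, hU, hne, hsub⟩ | hn
          · obtain ⟨ξ, hg⟩ := QuasiSober.sober hirr Z.isClosed
            have hξU : ξ ∈ U := by
              rw [hg.mem_open_set_iff hU, inter_comm]
              exact hne
            have hξE : ξ ∈ E := hsub ⟨hξU, hg.mem⟩
            rw [hW]
            intro z hz
            exact hsp (hg.specializes hz) hξE
          · exact absurd hW.ge hn
        · -- reducible or empty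
          by_cases hemp : (Z : Set X) = ∅
          · rw [hemp, inter_empty, closure_empty]
            exact empty_subset _
          · have hne : (Z : Set X).Nonempty := nonempty_iff_ne_empty.mpr hemp
            have hnp : ¬ IsPreirreducible (Z : Set X) := fun h => hirr ⟨hne, h⟩
            rw [isPreirreducible_iff_isClosed_union_isClosed] at hnp
            push Not at hnp
            obtain ⟨Z₁, Z₂, hZ₁, hZ₂, hcov, hn1, hn2⟩ := hnp
            let W₁ : TopologicalSpace.Closeds X := ⟨Z₁ ∩ Z, hZ₁.inter Z.isClosed⟩
            let W₂ : TopologicalSpace.Closeds X := ⟨Z₂ ∩ Z, hZ₂.inter Z.isClosed⟩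
            have hW₁ : W₁ < Z := by
              refine lt_of_le_of_ne (fun x hx => hx.2) (fun h => hn1 ?_)
              intro x hx
              have : x ∈ (W₁ : Set X) := h ▸ hx
              exact this.1
            have hW₂ : W₂ < Z := by
              refine lt_of_le_of_ne (fun x hx => hx.2) (fun h => hn2 ?_)
              intro x hx
              have : x ∈ (W₂ : Set X) := h ▸ hx
              exact this.1
            have : E ∩ (Z : Set X) = (E ∩ W₁) ∪ (E ∩ W₂) := by
              ext x
              constructor
              · rintro ⟨hxE, hxZ⟩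
                rcases hcov hxZ with h | h
                · exact Or.inl ⟨hxE, h, hxZ⟩
                · exact Or.inr ⟨hxE, h, hxZ⟩
              · rintro (⟨hxE, -, hxZ⟩ | ⟨hxE, -, hxZ⟩) <;> exact ⟨hxE, hxZ⟩
            rw [this, closure_union]
            exact union_subset (ih W₁ hW₁) (ih W₂ hW₂)
      · -- W ⊊ Z
        let W : TopologicalSpace.Closeds X := ⟨closure (E ∩ Z), isClosed_closure⟩
        have hWZ : (W : Set X) ⊆ Z := closure_minimal inter_subset_right Z.isClosed
        have hlt : W < Z := lt_of_le_of_ne hWZ (fun h => hW (congrArg (fun C : TopologicalSpace.Closeds X => (C : Set X)) h))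
        have heq : E ∩ (W : Set X) = E ∩ Z := by
          ext x
          constructor
          · rintro ⟨h1, h2⟩
            exact ⟨h1, hWZ h2⟩
          · rintro ⟨h1, h2⟩
            exact ⟨h1, subset_closure ⟨h1, h2⟩⟩
        have := ih W hlt
        rwa [heq] at this
  have := key ⊤
  simp only [TopologicalSpace.Closeds.coe_top, inter_univ] at this
  exact closure_subset_iff_isClosed.mp this

/-- Let X be a Noetherian sober topological space and E ⊆ X. (1) A constructible E that is closed under
specialization is a closed subset. (2) A constructible E that is closed under generalization is an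
open subset. -/
theorem result {X : Type u} [TopologicalSpace X]
    [TopologicalSpace.NoetherianSpace X] [QuasiSober X] [T0Space X] (E : Set X) (hE : Topology.IsConstructible E) :
    (StableUnderSpecialization E → IsClosed E) ∧ (StableUnderGeneralization E → IsOpen E) := by
  refine ⟨closed_of_spec E hE, fun h => ?_⟩
  have := closed_of_spec Eᶜ hE.compl h.compl
  exact isClosed_compl_iff.mp this

end Groth.Agent.S7553
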