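import Groth.Statements.S7554
-- import your own Groth.Agent.* helpers here

set_option autoImplicit false
universe u
open PtTop

namespace Groth.Agent.S7554

open Set Function

/-- Let X be a topological space with an open covering X = ⋃ U_i and let T ⊆ X. If T ∩ U_i is nowhere
dense in U_i (with the induced topology) for every i, then T is nowhere dense in X. -/
theorem result {X : Type u} [TopologicalSpace X] {ι : Type u}
    (U : ι → Set X) (hU : ∀ i, IsOpen (U i)) (hcov : ⋃ i, U i = Set.univ) (T : Set X)
    (hT : ∀ i, IsNowhereDense ((Subtype.val : U i → X) ⁻¹' T)) :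
    IsNowhereDense T := by
  rw [IsNowhereDense, eq_empty_iff_forall_notMem]
  intro x hx
  obtain ⟨i, hi⟩ : ∃ i, x ∈ U i := by
    have : x ∈ ⋃ i, U i := hcov ▸ mem_univ x
    exact mem_iUnion.mp this
  have h := hT i
  rw [IsNowhereDense, eq_empty_iff_forall_notMem] at h
  apply h ⟨x, hi⟩
  rw [mem_interior]
  refine ⟨Subtype.val ⁻¹' interior (closure T), ?_, isOpen_interior.preimage continuous_subtype_val, hx⟩
  rintro ⟨y, hy⟩ hyW
  have hyc : y ∈ closure T := interior_subset hyW
  rw [Topology.IsInducing.subtypeVal.closure_eq_preimage_closure_image, Subtype.image_preimage_coe]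
  exact (hU i).inter_closure ⟨hy, hyc⟩

end Groth.Agent.S7554
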