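import Groth.Statements.S7555
-- import your own Groth.Agent.* helpers here

set_option autoImplicit false
universe u
open PtTop

namespace Groth.Agent.S7555

open Set Function

/-- Let f : X → X be a surjective continuous self-map of a Hausdorff topological space with f ≠ id. Then
there is a closed subset E ⊊ X such that X = E ∪ f(E). -/
theorem result {X : Type u} [TopologicalSpace X] [T2Space X]
    (f : X → X) (hf : Continuous f) (hsurj : Function.Surjective f) (hne : f ≠ id) :
    ∃ E : Set X, IsClosed E ∧ E ≠ Set.univ ∧ E ∪ f '' E = Set.univ := by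
  obtain ⟨x, hx⟩ : ∃ x, f x ≠ x := by
    by_contra h
    push Not at h
    exact hne (funext h)
  obtain ⟨U', V', hU', hV', hxU', hsxV', hdisj⟩ := t2_separation (Ne.symm hx)
  set U := U' ∩ f ⁻¹' V' with hU
  have hUo : IsOpen U := hU'.inter (hV'.preimage hf)
  have hxU : x ∈ U := ⟨hxU', hsxV'⟩
  have hsU : ∀ e ∈ U, f e ∉ U := by
    intro e he hse
    exact Set.disjoint_left.mp hdisj hse.1 he.2
  refine ⟨Uᶜ, hUo.isClosed_compl, fun h => ?_, ?_⟩
  · have : x ∈ Uᶜ := h ▸ mem_univ x
    exact this hxU
  · rw [eq_univ_iff_forall]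
    intro y
    by_cases hy : y ∈ U
    · obtain ⟨e, rfl⟩ := hsurj y
      right
      refine ⟨e, fun he => hsU e he hy, rfl⟩
    · exact Or.inl hy

end Groth.Agent.S7555
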