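import Groth.Statements.S7556
import Mathlib.Topology.Compactification.StoneCech
-- import your own Groth.Agent.* helpers here

set_option autoImplicit false
universe u
open PtTop

namespace Groth.Agent.S7556

open Set Function


/-- `X` with the discrete topology -/
def Disc (X : Type u) : Type u := X

instance (X : Type u) : TopologicalSpace (Disc X) := ⊥

instance (X : Type u) : DiscreteTopology (Disc X) := ⟨rfl⟩

/-- a self-map over an irreducible cover is the identity -/
lemma eq_id_of_minimal {E X : Type u} [TopologicalSpace E] [TopologicalSpace X] [T2Space E]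
    (ρ : E → X) (hmin : ∀ E₀ : Set E, IsClosed E₀ → E₀ ≠ univ → ρ '' E₀ ≠ univ)
    (s : E → E) (hs : Continuous s) (hρs : ρ ∘ s = ρ) (hρsurj : Surjective ρ) : s = id := by
  funext x
  by_contra hx
  obtain ⟨U', V', hU', hV', hxU', hsxV', hdisj⟩ := t2_separation (Ne.symm hx)
  -- U = U' ∩ s⁻¹ V'
  set U := U' ∩ s ⁻¹' V' with hU
  have hUo : IsOpen U := hU'.inter (hV'.preimage hs)
  have hxU : x ∈ U := ⟨hxU', hsxV'⟩
  have hsU : ∀ e ∈ U, s e ∉ U := by
    intro e he hse
    exact Set.disjoint_left.mp hdisj hse.1 he.2
  refine hmin Uᶜ hUo.isClosed_compl (fun h => ?_) ?_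
  · have : x ∈ Uᶜ := h ▸ mem_univ x
    exact this hxU
  · rw [eq_univ_iff_forall]
    intro y
    obtain ⟨e, rfl⟩ := hρsurj y
    by_cases he : e ∈ U
    · exact ⟨s e, hsU e he, congrFun hρs e⟩
    · exact ⟨e, he, rfl⟩

/-- Let X be a quasi-compact Hausdorff space. There is a continuous surjection p : X' → X with X'
quasi-compact, Hausdorff and extremally disconnected such that no proper closed subset of X' maps
onto X; and if q : X'' → X is a second cover with the same properties, there is a homeomorphism X' ≃
X'' compatible with p and q. -/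
theorem result (X : Type u) [TopologicalSpace X] [CompactSpace X] [T2Space X] :
    (∃ (X' : Type u) (_ : TopologicalSpace X') (_ : CompactSpace X') (_ : T2Space X') (_ : ExtremallyDisconnected X')
        (p : X' → X), Continuous p ∧ Function.Surjective p ∧
        ∀ E : Set X', IsClosed E → E ≠ Set.univ → p '' E ≠ Set.univ) ∧
    (∀ (X' X'' : Type u) [TopologicalSpace X'] [CompactSpace X'] [T2Space X'] [ExtremallyDisconnected X']
        [TopologicalSpace X''] [CompactSpace X''] [T2Space X''] [ExtremallyDisconnected X'']
        (p : X' → X) (q : X'' → X),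
        Continuous p → Function.Surjective p → (∀ E : Set X', IsClosed E → E ≠ Set.univ → p '' E ≠ Set.univ) →
        Continuous q → Function.Surjective q → (∀ E : Set X'', IsClosed E → E ≠ Set.univ → q '' E ≠ Set.univ) →
        ∃ h : X' ≃ₜ X'', q ∘ h = p) := by
  constructor
  · -- existence
    let i : Disc X → X := fun x => x
    have hi : Continuous i := continuous_of_discreteTopology
    let π : StoneCech (Disc X) → X := stoneCechExtend hi
    have hπ : Continuous π := continuous_stoneCechExtend hi
    have hπs : Surjective π := fun x => ⟨stoneCechUnit (x : Disc X), congrFun (stoneCechExtend_extends hi) x⟩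
    obtain ⟨E, hEc, hEonto, hEmin⟩ := exists_compact_surjective_zorn_subset hπ hπs
    let ρ : E → X := E.domRestrict π
    have hρ : Continuous ρ := hπ.continuousOn.domRestrict
    have hρs : Surjective ρ := fun a => by
      rcases (hEonto ▸ mem_univ a : a ∈ π '' E) with ⟨d, hd, rfl⟩
      exact ⟨⟨d, hd⟩, rfl⟩
    have hmin : ∀ E₀ : Set E, IsClosed E₀ → E₀ ≠ univ → ρ '' E₀ ≠ univ :=
      fun E₀ h1 h2 => hEmin E₀ h2 h1
    -- E is projective
    have hproj : CompactT2.Projective (StoneCech (Disc X)) := StoneCech.projective
    obtain ⟨r, hr, hρr⟩ := hproj hπ hρ hρs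
    have hrE : (r ∘ (Subtype.val : E → StoneCech (Disc X))) = id := by
      apply eq_id_of_minimal ρ hmin _ (hr.comp continuous_subtype_val) _ hρs
      rw [← comp_assoc, hρr]
      rfl
    have hEproj : CompactT2.Projective E := by
      intro Y Z _ _ _ _ _ _ f g hf hg hgs
      obtain ⟨h, hh, hgh⟩ := hproj (hf.comp hr) hg hgs
      refine ⟨h ∘ Subtype.val, hh.comp continuous_subtype_val, ?_⟩
      rw [← comp_assoc, hgh, comp_assoc, hrE, comp_id]
    exact ⟨E, inferInstance, hEc, inferInstance, hEproj.extremallyDisconnected, ρ, hρ, hρs, hmin⟩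
  · intro X' X'' _ _ _ _ _ _ _ _ p q hp hps hpmin hq hqs hqmin
    have hproj' : CompactT2.Projective X' := CompactT2.ExtremallyDisconnected.projective
    obtain ⟨h, hh, hqh⟩ := hproj' hp hq hqs
    have hhs : Surjective h := by
      rw [← range_eq_univ]
      by_contra hne
      refine hqmin (range h) (isCompact_range hh).isClosed hne ?_
      rw [← range_comp, hqh, range_eq_univ.mpr hps]
    have hzorn : ∀ E₀ : Set X', E₀ ≠ univ → IsClosed E₀ → h '' E₀ ≠ univ := by
      intro E₀ hne hcl himg
      refine hpmin E₀ hcl hne ?_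
      rw [← hqh, image_comp, himg, image_univ, range_eq_univ.mpr hqs]
    refine ⟨ExtremallyDisconnected.homeoCompactToT2 hh hhs hzorn, ?_⟩
    rw [← hqh]
    rfl

end Groth.Agent.S7556
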