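import Groth.Statements.S7557
import Mathlib.Topology.Algebra.Ring.Basic
import Mathlib.Topology.Category.TopCat.Limits.Basic
import Mathlib.Algebra.Category.Ring.Limits
-- import your own Groth.Agent.* helpers here

set_option autoImplicit false
universe u
open CategoryTheory CategoryTheory.Limits
open PtTop

namespace Groth.Agent.S7557

open CategoryTheory CategoryTheory.Limits PtTop


variable {J : Type u} [Category.{u} J] (F : J ⥤ TopCommRingCat.{u})

/-- The subring of compatible families. -/
def sec : Subring (∀ j, F.obj j) where
  carrier := {x | ∀ {j j' : J} (f : j ⟶ j'), (F.map f).1 (x j) = x j'}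
  mul_mem' := by
    intro a b ha hb j j' f
    simp only [Pi.mul_apply, map_mul, ha f, hb f]
  one_mem' := by
    intro j j' f
    simp
  add_mem' := by
    intro a b ha hb j j' f
    simp only [Pi.add_apply, map_add, ha f, hb f]
  zero_mem' := by
    intro j j' f
    simp
  neg_mem' := by
    intro a ha j j' f
    simp only [Pi.neg_apply, map_neg, ha f]

/-- projection -/
def proj (j : J) : sec F →+* F.obj j :=
  (Pi.evalRingHom (fun j => F.obj j) j).comp (sec F).subtype

lemma proj_apply (j : J) (x : sec F) : proj F j x = x.1 j := rfl

lemma continuous_proj (j : J) : Continuous (proj F j) :=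
  (continuous_apply j).comp continuous_subtype_val

/-- limit cone -/
def limitCone : Cone F where
  pt := TopCommRingCat.of (sec F)
  π :=
    { app := fun j => ⟨proj F j, continuous_proj F j⟩
      naturality := by
        intro j j' f
        apply Subtype.ext
        apply RingHom.ext
        intro x
        exact (x.2 f).symm }

/-- the lift as a ring hom -/
def liftHom {R : Type u} [CommRing R] (φ : ∀ j, R →+* F.obj j)
    (hφ : ∀ {j j' : J} (f : j ⟶ j') (x : R), (F.map f).1 (φ j x) = φ j' x) : R →+* sec F where
  toFun x := ⟨fun j => φ j x, fun f => hφ f x⟩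
  map_one' := by apply Subtype.ext; funext j; simp
  map_mul' a b := by apply Subtype.ext; funext j; simp
  map_zero' := by apply Subtype.ext; funext j; simp
  map_add' a b := by apply Subtype.ext; funext j; simp

lemma continuous_liftHom {R : Type u} [CommRing R] [TopologicalSpace R] (φ : ∀ j, R →+* F.obj j)
    (hφ : ∀ {j j' : J} (f : j ⟶ j') (x : R), (F.map f).1 (φ j x) = φ j' x)
    (hc : ∀ j, Continuous (φ j)) : Continuous (liftHom F φ hφ) :=
  Continuous.subtype_mk (continuous_pi hc) _

lemma cone_compat (s : Cone F) {j j' : J} (f : j ⟶ j') (x : s.pt) :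
    (F.map f).1 ((s.π.app j).1 x) = (s.π.app j').1 x :=
  congrArg (fun g => g.1 x) (s.w f)

/-- it is a limit -/
def isLimit : IsLimit (limitCone F) where
  lift s := ⟨liftHom F (fun j => (s.π.app j).1) (cone_compat F s),
    continuous_liftHom F _ (cone_compat F s) (fun j => (s.π.app j).2)⟩
  fac s j := by
    apply Subtype.ext
    apply RingHom.ext
    intro x
    rfl
  uniq s m hm := by
    apply Subtype.ext
    apply RingHom.ext
    intro x
    apply Subtype.ext
    funext j
    exact congrArg (fun g => g.1 x) (hm j)

/-- the image cone in `TopCat` is a limit -/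
def isLimitTop : IsLimit ((forget₂ TopCommRingCat TopCat).mapCone (limitCone F)) where
  lift s := TopCat.ofHom
    ⟨fun x => (⟨fun j => (s.π.app j).hom x, fun {j j'} f =>
        congrArg (fun g : s.pt ⟶ (F ⋙ forget₂ TopCommRingCat TopCat).obj j' => g.hom x) (s.w f)⟩ : sec F),
      Continuous.subtype_mk (continuous_pi fun j => (s.π.app j).hom.continuous) _⟩
  fac s j := by
    apply TopCat.hom_ext
    apply ContinuousMap.ext
    intro x
    rfl
  uniq s m hm := by
    apply TopCat.hom_ext
    apply ContinuousMap.ext
    intro x
    apply Subtype.ext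
    funext j
    exact congrArg (fun g : s.pt ⟶ (F ⋙ forget₂ TopCommRingCat TopCat).obj j => g.hom x) (hm j)

/-- the image cone in `CommRingCat` is a limit -/
def isLimitRing : IsLimit ((forget₂ TopCommRingCat CommRingCat).mapCone (limitCone F)) where
  lift s := CommRingCat.ofHom (liftHom F (fun j => (s.π.app j).hom) (fun {j j'} f x =>
        congrArg (fun g : s.pt ⟶ (F ⋙ forget₂ TopCommRingCat CommRingCat).obj j' => g.hom x) (s.w f)))
  fac s j := by
    apply CommRingCat.hom_ext
    apply RingHom.ext
    intro x
    rfl
  uniq s m hm := by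
    apply CommRingCat.hom_ext
    apply RingHom.ext
    intro x
    apply Subtype.ext
    funext j
    exact congrArg (fun g : s.pt ⟶ (F ⋙ forget₂ TopCommRingCat CommRingCat).obj j => g.hom x) (hm j)

/-- The category of topological rings (commutative, with continuous ring homomorphisms) has limits, and
limits commute with the forgetful functors to topological spaces and to rings. -/
theorem result :
    HasLimits TopCommRingCat.{u} ∧
    PreservesLimits (forget₂ TopCommRingCat.{u} TopCat.{u}) ∧
    PreservesLimits (forget₂ TopCommRingCat.{u} CommRingCat.{u}) := by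
  refine ⟨⟨fun J _ => ⟨fun F => ⟨⟨⟨limitCone F, isLimit F⟩⟩⟩⟩⟩, ⟨fun {J} _ => ⟨fun {F} => ?_⟩⟩,
    ⟨fun {J} _ => ⟨fun {F} => ?_⟩⟩⟩
  · exact preservesLimit_of_preserves_limit_cone (isLimit F) (isLimitTop F)
  · exact preservesLimit_of_preserves_limit_cone (isLimit F) (isLimitRing F)

end Groth.Agent.S7557
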