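import Groth.Statements.S7558
import Mathlib.Topology.Algebra.Ring.Basic
import Mathlib.Algebra.Category.Ring.Colimits
-- import your own Groth.Agent.* helpers here

set_option autoImplicit false
universe u
open CategoryTheory CategoryTheory.Limits
open PtTop

namespace Groth.Agent.S7558

open CategoryTheory CategoryTheory.Limits PtTop


section finest

variable {ι : Type*} {R : ι → Type*} [∀ i, TopologicalSpace (R i)] {C : Type*} [Ring C]
  (f : ∀ i, R i → C)

/-- the ring topologies on `C` making all `f i` continuous -/
def good : Set (TopologicalSpace C) :=
  {t | @IsTopologicalRing C t _ ∧ ∀ i, @Continuous _ _ _ t (f i)}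

/-- the finest ring topology on `C` making all `f i` continuous -/
@[instance_reducible] def finest : TopologicalSpace C := sInf (good f)

lemma finest_ring : @IsTopologicalRing C (finest f) _ :=
  letI := finest f
  { toContinuousAdd := continuousAdd_sInf fun t ht =>
      let _ := t; let _ := ht.1; inferInstance
    toContinuousMul := continuousMul_sInf fun t ht =>
      let _ := t; let _ := ht.1; inferInstance
    toContinuousNeg := continuousNeg_sInf fun t ht =>
      let _ := t; let _ := ht.1; inferInstance }

lemma continuous_finest (i : ι) : @Continuous _ _ _ (finest f) (f i) :=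
  continuous_sInf_rng.2 fun _ ht => ht.2 i

lemma induced_ring {D : Type*} [Ring D] [TopologicalSpace D] [IsTopologicalRing D] (g : C →+* D) :
    @IsTopologicalRing C (TopologicalSpace.induced g inferInstance) _ :=
  letI : TopologicalSpace C := TopologicalSpace.induced g inferInstance
  have hg : Topology.IsInducing g := ⟨rfl⟩
  { toContinuousAdd := hg.continuousAdd g
    toContinuousMul := hg.continuousMul g
    toContinuousNeg := hg.continuousNeg (map_neg g) }

lemma continuous_of_finest {D : Type*} [Ring D] [TopologicalSpace D] [IsTopologicalRing D]
    (g : C →+* D) (h : ∀ i, Continuous (g ∘ f i)) : @Continuous _ _ (finest f) _ g := by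
  rw [continuous_iff_le_induced]
  refine sInf_le ⟨induced_ring g, fun i => ?_⟩
  rw [continuous_induced_rng]
  exact h i

end finest

variable {J : Type u} [Category.{u} J] (F : J ⥤ TopCommRingCat.{u})

/-- the underlying diagram of rings -/
abbrev G : J ⥤ CommRingCat.{u} := F ⋙ forget₂ TopCommRingCat CommRingCat

/-- the colimit ring -/
noncomputable abbrev Cpt : CommRingCat.{u} := colimit (G F)

/-- the inclusions -/
noncomputable def inc (j : J) : F.obj j →+* Cpt F := (colimit.ι (G F) j).hom

noncomputable instance : TopologicalSpace (Cpt F) := finest (fun j => (inc F j : F.obj j → Cpt F))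

instance : IsTopologicalRing (Cpt F) := finest_ring _

lemma continuous_inc (j : J) : Continuous (inc F j) :=
  continuous_finest (fun j => (inc F j : F.obj j → Cpt F)) j

/-- colimit cocone -/
noncomputable def colimitCocone : Cocone F where
  pt := TopCommRingCat.of (Cpt F)
  ι :=
    { app := fun j => ⟨inc F j, continuous_inc F j⟩
      naturality := by
        intro j j' f
        apply Subtype.ext
        apply RingHom.ext
        intro x
        exact congrArg (fun g : (G F).obj j ⟶ Cpt F => g.hom x) (colimit.w (G F) f) }

/-- the desc ring hom -/
noncomputable def descHom (s : Cocone F) : Cpt F →+* s.pt :=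
  (colimit.desc (G F) ((forget₂ TopCommRingCat CommRingCat).mapCocone s)).hom

lemma descHom_inc (s : Cocone F) (j : J) (x : F.obj j) :
    descHom F s (inc F j x) = (s.ι.app j).1 x :=
  congrArg (fun g : (G F).obj j ⟶ ((forget₂ TopCommRingCat CommRingCat).mapCocone s).pt => g.hom x)
    (colimit.ι_desc ((forget₂ TopCommRingCat CommRingCat).mapCocone s) j)

lemma continuous_descHom (s : Cocone F) : Continuous (descHom F s) := by
  apply continuous_of_finest
  intro j
  have : (descHom F s) ∘ (inc F j) = (s.ι.app j).1 := by
    funext x
    exact descHom_inc F s j x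
  rw [this]
  exact (s.ι.app j).2

/-- it is a colimit -/
noncomputable def isColimit : IsColimit (colimitCocone F) where
  desc s := ⟨descHom F s, continuous_descHom F s⟩
  fac s j := by
    apply Subtype.ext
    apply RingHom.ext
    intro x
    exact descHom_inc F s j x
  uniq s m hm := by
    apply Subtype.ext
    let m' : Cpt F →+* s.pt := m.1
    have : (CommRingCat.ofHom m' : Cpt F ⟶ ((forget₂ TopCommRingCat CommRingCat).mapCocone s).pt) =
        colimit.desc (G F) ((forget₂ TopCommRingCat CommRingCat).mapCocone s) := by
      apply colimit.hom_ext
      intro j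
      refine Eq.trans ?_ (colimit.ι_desc ((forget₂ TopCommRingCat CommRingCat).mapCocone s) j).symm
      apply CommRingCat.hom_ext
      apply RingHom.ext
      intro x
      exact congrArg (fun g : F.obj j ⟶ s.pt => g.1 x) (hm j)
    exact congrArg (fun g => g.hom) this

/-- the image cocone is a colimit -/
noncomputable def isColimitRing :
    IsColimit ((forget₂ TopCommRingCat CommRingCat).mapCocone (colimitCocone F)) :=
  IsColimit.ofIsoColimit (colimit.isColimit (G F)) (Cocone.ext (Iso.refl _) (fun j => by
    apply CommRingCat.hom_ext
    apply RingHom.ext
    intro x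
    rfl))

/-- The category of topological rings (commutative, with continuous ring homomorphisms) has colimits,
and colimits commute with the forgetful functor to rings. -/
theorem result :
    HasColimits TopCommRingCat.{u} ∧
    PreservesColimits (forget₂ TopCommRingCat.{u} CommRingCat.{u}) := by
  refine ⟨⟨fun J _ => ⟨fun F => ⟨⟨⟨colimitCocone F, isColimit F⟩⟩⟩⟩⟩, ⟨fun {J} _ => ⟨fun {F} => ?_⟩⟩⟩
  exact preservesColimit_of_preserves_colimit_cocone (isColimit F) (isColimitRing F)

end Groth.Agent.S7558
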