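import Groth.Statements.S7559
import Groth.Agent.Helper19.Strat
-- import your own Groth.Agent.* helpers here

set_option autoImplicit false
universe u
open PtTop

namespace Groth.Agent.S7559

open Set Groth.Agent.Helper19

/-- Let X be a topological space and X = ∐ P_k a finite partition into locally closed parts. Then there
is a finite stratification of X refining it: a finite partially ordered index set I and pairwise
disjoint locally closed strata S_i covering X with closure(S_j) ⊆ ⋃_{i ≤ j} S_i, such that every
part P_k is a union of strata. -/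
theorem result {X : Type u} [TopologicalSpace X]
    {n : ℕ} (P : Fin n → Set X) (hP : ∀ k, IsLocallyClosed (P k)) (hcov : ⋃ k, P k = Set.univ)
    (hdisj : ∀ k k', k ≠ k' → Disjoint (P k) (P k')) :
    ∃ (I : Type) (_ : Fintype I) (_ : PartialOrder I) (S : I → Set X),
      (∀ i, IsLocallyClosed (S i)) ∧ (⋃ i, S i = Set.univ) ∧ (∀ i j, i ≠ j → Disjoint (S i) (S j)) ∧
      (∀ j, closure (S j) ⊆ ⋃ i ∈ Set.Iic j, S i) ∧
      (∀ i k, (S i ∩ P k).Nonempty → S i ⊆ P k) := by
  classical
  choose U C hU hC hUC using hP
  let V : Fin n ⊕ Fin n → Set X := Sum.elim U (fun k => (C k)ᶜ)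
  have hV : ∀ a, IsOpen (V a) := by
    rintro (k | k)
    · exact hU k
    · exact (hC k).isOpen_compl
  have hsat : ∀ k, Sat V (P k) := by
    intro k
    rw [hUC k]
    refine Sat.inter (Sat.self (V := V) (Sum.inl k)) ?_
    have := (Sat.self (V := V) (Sum.inr k)).compl
    simpa [V] using this
  refine ⟨Finset (Fin n ⊕ Fin n), inferInstance, inferInstance, atom V, ?_, ?_, ?_, ?_, ?_⟩
  · exact isLocallyClosed_atom hV
  · exact iUnion_atom V
  · exact fun i j h => atom_disjoint h
  · exact closure_atom_subset hV
  · exact fun i k h => (hsat k).atom_subset h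

end Groth.Agent.S7559
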