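import Groth.Statements.S7560
import Groth.Agent.Helper19.Strat
-- import your own Groth.Agent.* helpers here

set_option autoImplicit false
universe u
open ConstrTop

namespace Groth.Agent.S7560

open Set Groth.Agent.Helper19

/-- Let X be a topological space written as a finite union X = T_1 ∪ … ∪ T_n of constructible subsets.
Then there is a finite stratification X = ∐ S_i (pairwise disjoint locally closed strata indexed by
a finite partially ordered set, with closure(S_j) ⊆ ⋃_{i ≤ j} S_i) whose strata are constructible
and such that every T_k is a union of strata. -/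
theorem result {X : Type u} [TopologicalSpace X]
    {n : ℕ} (T : Fin n → Set X) (hT : ∀ k, Topology.IsConstructible (T k)) (hcov : ⋃ k, T k = Set.univ) :
    ∃ (I : Type) (_ : Fintype I) (_ : PartialOrder I) (S : I → Set X),
      (∀ i, IsLocallyClosed (S i) ∧ Topology.IsConstructible (S i)) ∧ (⋃ i, S i = Set.univ) ∧
      (∀ i j, i ≠ j → Disjoint (S i) (S j)) ∧
      (∀ j, closure (S j) ⊆ ⋃ i ∈ Set.Iic j, S i) ∧
      (∀ i k, (S i ∩ T k).Nonempty → S i ⊆ T k) := by
  classical
  choose m W hW hsatW using fun k => exists_sat_of_isConstructible (hT k)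
  let V : (Σ k : Fin n, Fin (m k)) → Set X := fun a => W a.1 a.2
  have hV : ∀ a, IsOpen (V a) := fun a => (hW a.1 a.2).1
  have hVc : ∀ a, Topology.IsConstructible (V a) := fun a =>
    (hW a.1 a.2).2.isConstructible (hW a.1 a.2).1
  have hsat : ∀ k, Sat V (T k) := fun k =>
    (hsatW k).comp (fun a => (⟨k, a⟩ : Σ k : Fin n, Fin (m k))) (fun a => rfl)
  refine ⟨Finset (Σ k : Fin n, Fin (m k)), inferInstance, inferInstance, atom V, ?_, ?_, ?_, ?_, ?_⟩
  · exact fun i => ⟨isLocallyClosed_atom hV i, isConstructible_atom hVc i⟩
  · exact iUnion_atom V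
  · exact fun i j h => atom_disjoint h
  · exact closure_atom_subset hV
  · exact fun i k h => (hsat k).atom_subset h

end Groth.Agent.S7560
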