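import Groth.Statements.S7561
-- import your own Groth.Agent.* helpers here

set_option autoImplicit false
universe u
open PtTop

namespace Groth.Agent.S7561

open Set Topology


variable {X : Type u} [TopologicalSpace X]

/-- shrink a nonempty relatively open subset of `Z` so that it becomes homogeneous w.r.t. a finite
family of locally closed sets -/
lemma hom (Z : Set X) (PP : Finset (Set X)) (hPP : ∀ P ∈ PP, IsLocallyClosed P) :
    ∀ W₀ : Set X, IsOpen W₀ → (Z ∩ W₀).Nonempty →
      ∃ W : Set X, IsOpen W ∧ W ⊆ W₀ ∧ (Z ∩ W).Nonempty ∧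
        ∀ P ∈ PP, Z ∩ W ⊆ P ∨ Disjoint (Z ∩ W) P := by
  classical
  induction PP using Finset.induction_on with
  | empty =>
    intro W₀ hW₀ hne
    exact ⟨W₀, hW₀, subset_rfl, hne, by simp⟩
  | insert P PP hP ih =>
    intro W₀ hW₀ hne
    obtain ⟨W₁, hW₁, hW₁₀, hne₁, hhom₁⟩ :=
      ih (fun Q hQ => hPP Q (Finset.mem_insert_of_mem hQ)) W₀ hW₀ hne
    obtain ⟨V, C, hV, hC, hPVC⟩ := hPP P (Finset.mem_insert_self P PP)
    by_cases hcase : Z ∩ W₁ ⊆ closure (P ∩ (Z ∩ W₁))
    · refine ⟨W₁ ∩ V, hW₁.inter hV, inter_subset_left.trans hW₁₀, ?_, ?_⟩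
      · have : (P ∩ (Z ∩ W₁)).Nonempty := by
          by_contra hemp
          rw [Set.not_nonempty_iff_eq_empty] at hemp
          rw [hemp, closure_empty] at hcase
          obtain ⟨x, hx⟩ := hne₁
          exact hcase hx
        obtain ⟨x, hxP, hxZ, hxW⟩ := this
        rw [hPVC] at hxP
        exact ⟨x, hxZ, hxW, hxP.1⟩
      · intro Q hQ
        rw [Finset.mem_insert] at hQ
        rcases hQ with rfl | hQ
        · left
          rintro x ⟨hxZ, hxW, hxV⟩
          have hxC : x ∈ C := by
            have h1 : x ∈ closure (Q ∩ (Z ∩ W₁)) := hcase ⟨hxZ, hxW⟩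
            have h2 : closure (Q ∩ (Z ∩ W₁)) ⊆ C := by
              apply closure_minimal _ hC
              rw [hPVC]
              exact fun y hy => hy.1.2
            exact h2 h1
          rw [hPVC]
          exact ⟨hxV, hxC⟩
        · have hsub : Z ∩ (W₁ ∩ V) ⊆ Z ∩ W₁ := fun x hx => ⟨hx.1, hx.2.1⟩
          rcases hhom₁ Q hQ with h | h
          · exact Or.inl (hsub.trans h)
          · exact Or.inr (h.mono_left hsub)
    · rw [Set.not_subset] at hcase
      obtain ⟨x, hxU, hxc⟩ := hcase
      refine ⟨W₁ ∩ (closure (P ∩ (Z ∩ W₁)))ᶜ, hW₁.inter isClosed_closure.isOpen_compl,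
        inter_subset_left.trans hW₁₀, ⟨x, hxU.1, hxU.2, hxc⟩, ?_⟩
      intro Q hQ
      rw [Finset.mem_insert] at hQ
      rcases hQ with rfl | hQ
      · right
        rw [Set.disjoint_left]
        rintro y ⟨hyZ, hyW, hyc⟩ hyQ
        exact hyc (subset_closure ⟨hyQ, hyZ, hyW⟩)
      · have hsub : Z ∩ (W₁ ∩ (closure (P ∩ (Z ∩ W₁)))ᶜ) ⊆ Z ∩ W₁ := fun x hx => ⟨hx.1, hx.2.1⟩
        rcases hhom₁ Q hQ with h | h
        · exact Or.inl (hsub.trans h)
        · exact Or.inr (h.mono_left hsub)

/-- `SS` is a good stratification of `Z` refining `PP`. -/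
def Good (Z : Set X) (PP SS : Finset (Set X)) : Prop :=
  (∀ S ∈ SS, IsLocallyClosed S) ∧ ⋃₀ (SS : Set (Set X)) = Z ∧
  (∀ S ∈ SS, ∀ S' ∈ SS, S ≠ S' → Disjoint S S') ∧
  (∀ S ∈ SS, ∀ S' ∈ SS, (S ∩ closure S').Nonempty → S ⊆ closure S') ∧
  (∀ S ∈ SS, ∀ P ∈ PP, (S ∩ P).Nonempty → S ⊆ P)

lemma main [TopologicalSpace.NoetherianSpace X] (Z : TopologicalSpace.Closeds X) :
    ∀ PP : Finset (Set X), (∀ P ∈ PP, IsLocallyClosed P) →
      ∃ SS : Finset (Set X), Good (Z : Set X) PP SS := by
  classical
  induction Z using WellFoundedLT.induction with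
  | ind Z ih =>
    intro PP hPP
    by_cases hZ : (Z : Set X) = ∅
    · refine ⟨∅, by simp, by simp [hZ], by simp, by simp, by simp⟩
    · have hne : ((Z : Set X) ∩ univ).Nonempty := by
        rwa [inter_univ, nonempty_iff_ne_empty]
      obtain ⟨W, hW, -, hUne, hhom⟩ := hom (Z : Set X) PP hPP univ isOpen_univ hne
      let Z₁ : TopologicalSpace.Closeds X := ⟨(Z : Set X) ∩ Wᶜ, Z.isClosed.inter hW.isClosed_compl⟩
      have hZ₁ : (Z₁ : Set X) = (Z : Set X) ∩ Wᶜ := rfl
      have hle : Z₁ ≤ Z := by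
        intro x hx
        exact hx.1
      have hlt : Z₁ < Z := by
        refine lt_of_le_of_ne hle (fun heq => ?_)
        obtain ⟨x, hxZ, hxW⟩ := hUne
        have : x ∈ (Z₁ : Set X) := by rw [heq]; exact hxZ
        exact this.2 hxW
      have hPP' : ∀ P ∈ insert (closure ((Z : Set X) ∩ W)) PP, IsLocallyClosed P := by
        intro P hP
        rw [Finset.mem_insert] at hP
        rcases hP with rfl | hP
        · exact isClosed_closure.isLocallyClosed
        · exact hPP P hP
      obtain ⟨SS₁, h1, h2, h3, h4, h5⟩ := ih Z₁ hlt (insert (closure ((Z : Set X) ∩ W)) PP) hPP'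
      have hsubZ₁ : ∀ S ∈ SS₁, S ⊆ (Z : Set X) ∩ Wᶜ := by
        intro S hS
        rw [← hZ₁, ← h2]
        exact subset_sUnion_of_mem hS
      have hdisjU : ∀ S ∈ SS₁, Disjoint ((Z : Set X) ∩ W) S := by
        intro S hS
        rw [Set.disjoint_left]
        intro x hxU hxS
        exact (hsubZ₁ S hS hxS).2 hxU.2
      refine ⟨insert ((Z : Set X) ∩ W) SS₁, ?_, ?_, ?_, ?_, ?_⟩
      · intro S hS
        rw [Finset.mem_insert] at hS
        rcases hS with rfl | hS
        · exact ⟨W, Z, hW, Z.isClosed, inter_comm _ _⟩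
        · exact h1 S hS
      · rw [Finset.coe_insert, sUnion_insert, h2, hZ₁]
        ext x
        constructor
        · rintro (hx | hx)
          · exact hx.1
          · exact hx.1
        · intro hx
          by_cases hxW : x ∈ W
          · exact Or.inl ⟨hx, hxW⟩
          · exact Or.inr ⟨hx, hxW⟩
      · intro S hS S' hS' hne'
        rw [Finset.mem_insert] at hS hS'
        rcases hS with rfl | hS <;> rcases hS' with rfl | hS'
        · exact absurd rfl hne'
        · exact hdisjU S' hS'
        · exact (hdisjU S hS).symm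
        · exact h3 S hS S' hS' hne'
      · intro S hS S' hS' hne'
        rw [Finset.mem_insert] at hS hS'
        rcases hS with rfl | hS <;> rcases hS' with rfl | hS'
        · exact subset_closure
        · exfalso
          obtain ⟨x, hxU, hxc⟩ := hne'
          have : closure S' ⊆ (Z : Set X) ∩ Wᶜ :=
            closure_minimal (hsubZ₁ S' hS') Z₁.isClosed
          exact (this hxc).2 hxU.2
        · exact h5 S hS _ (Finset.mem_insert_self _ _) hne'
        · exact h4 S hS S' hS' hne'
      · intro S hS P hP hne'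
        rw [Finset.mem_insert] at hS
        rcases hS with rfl | hS
        · rcases hhom P hP with h | h
          · exact h
          · exact absurd hne' (Set.not_nonempty_iff_eq_empty.mpr (Set.disjoint_iff_inter_eq_empty.mp h))
        · exact h5 S hS P (Finset.mem_insert_of_mem hP) hne'

/-- Let X be a Noetherian topological space and X = ∐ P_k a finite partition into locally closed parts.
Then it is refined by a finite good stratification: a finite partition X = ∐ S_i into locally closed
strata such that S_i ∩ closure(S_j) ≠ ∅ implies S_i ⊆ closure(S_j), with every P_k a union of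
strata. -/
theorem result {X : Type u} [TopologicalSpace X]
    [TopologicalSpace.NoetherianSpace X]
    {n : ℕ} (P : Fin n → Set X) (hP : ∀ k, IsLocallyClosed (P k)) (hcov : ⋃ k, P k = Set.univ)
    (hdisj : ∀ k k', k ≠ k' → Disjoint (P k) (P k')) :
    ∃ (m : ℕ) (S : Fin m → Set X),
      (∀ i, IsLocallyClosed (S i)) ∧ (⋃ i, S i = Set.univ) ∧ (∀ i j, i ≠ j → Disjoint (S i) (S j)) ∧
      (∀ i j, (S i ∩ closure (S j)).Nonempty → S i ⊆ closure (S j)) ∧
      (∀ i k, (S i ∩ P k).Nonempty → S i ⊆ P k) := by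
  classical
  obtain ⟨SS, h1, h2, h3, h4, h5⟩ := main (⊤ : TopologicalSpace.Closeds X)
    (Finset.univ.image P) (by
      intro Q hQ
      rw [Finset.mem_image] at hQ
      obtain ⟨k, -, rfl⟩ := hQ
      exact hP k)
  let e := SS.equivFin
  refine ⟨SS.card, fun i => (e.symm i).1, ?_, ?_, ?_, ?_, ?_⟩
  · exact fun i => h1 _ (e.symm i).2
  · rw [TopologicalSpace.Closeds.coe_top] at h2
    rw [← h2]
    ext x
    simp only [mem_iUnion, mem_sUnion, Finset.mem_coe]
    constructor
    · rintro ⟨i, hi⟩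
      exact ⟨_, (e.symm i).2, hi⟩
    · rintro ⟨S, hS, hx⟩
      refine ⟨e ⟨S, hS⟩, ?_⟩
      rw [Equiv.symm_apply_apply]
      exact hx
  · intro i j hij
    apply h3 _ (e.symm i).2 _ (e.symm j).2
    intro heq
    exact hij (e.symm.injective (Subtype.ext heq))
  · exact fun i j => h4 _ (e.symm i).2 _ (e.symm j).2
  · intro i k
    exact h5 _ (e.symm i).2 (P k) (Finset.mem_image_of_mem P (Finset.mem_univ k))

end Groth.Agent.S7561
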