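import Groth.Statements.S7562
-- import your own Groth.Agent.* helpers here

set_option autoImplicit false
universe u
open PtTop

namespace Groth.Agent.S7562

open Set Function

/-- Let f : X → Y be a surjective closed continuous map of topological spaces and T ⊆ Y. Then the
closure of T equals f applied to the closure of f⁻¹(T), and T is locally closed in Y if and only if
f⁻¹(T) is locally closed in X. The published statement also asserts that Y carries the quotient
topology of X; this row states the closure formula and the locally-closed equivalence only. -/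
theorem result {X Y : Type u} [TopologicalSpace X] [TopologicalSpace Y]
    (f : X → Y) (hf : Continuous f) (hc : IsClosedMap f) (hs : Function.Surjective f) (T : Set Y) :
    closure T = f '' closure (f ⁻¹' T) ∧ (IsLocallyClosed T ↔ IsLocallyClosed (f ⁻¹' T)) := by
  have hcl : ∀ S : Set Y, closure S = f '' closure (f ⁻¹' S) := by
    intro S
    apply subset_antisymm
    · apply closure_minimal _ (hc _ isClosed_closure)
      intro y hy
      obtain ⟨x, rfl⟩ := hs y
      exact ⟨x, subset_closure hy, rfl⟩
    · rintro _ ⟨x, hx, rfl⟩
      exact hf.closure_preimage_subset S hx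
  refine ⟨hcl T, ⟨fun h => h.preimage hf, fun h => ?_⟩⟩
  -- closure T \ T is closed
  rw [isLocallyClosed_iff_isOpen_coborder] at h ⊢
  -- coborder T = (closure T \ T)ᶜ
  have key : IsClosed (closure T \ T) := by
    have h1 : closure T \ T = f '' (closure (f ⁻¹' T) \ f ⁻¹' T) := by
      rw [hcl T]
      ext y
      constructor
      · rintro ⟨⟨x, hx, rfl⟩, hy⟩
        exact ⟨x, ⟨hx, hy⟩, rfl⟩
      · rintro ⟨x, ⟨hx, hxT⟩, rfl⟩
        exact ⟨⟨x, hx, rfl⟩, hxT⟩
    rw [h1]
    apply hc
    have h2 : closure (f ⁻¹' T) \ f ⁻¹' T = (coborder (f ⁻¹' T))ᶜ := by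
      rw [coborder, compl_compl]
    rw [h2]
    exact h.isClosed_compl
  show IsOpen (closure T \ T)ᶜ
  exact key.isOpen_compl

end Groth.Agent.S7562
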