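import Groth.Statements.S7563
-- import your own Groth.Agent.* helpers here

set_option autoImplicit false
universe u
open PtTop

namespace Groth.Agent.S7563

open Set Function


lemma exists_subset_of_cover {X : Type u} [TopologicalSpace X] {n : ℕ} (Z : Fin n → Set X)
    (hZ : ∀ i, IsClosed (Z i)) (S : Set X) (hS : IsIrreducible S) (hSZ : S ⊆ ⋃ i, Z i) :
    ∃ i, S ⊆ Z i := by
  classical
  have := (isIrreducible_iff_sUnion_isClosed.mp hS) (Finset.univ.image Z)
    (by intro z hz; obtain ⟨i, -, rfl⟩ := Finset.mem_image.mp hz; exact hZ i)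
    (by
      intro x hx
      obtain ⟨i, hi⟩ := mem_iUnion.mp (hSZ hx)
      exact mem_sUnion.mpr ⟨Z i, by simp, hi⟩)
  obtain ⟨z, hz, hSz⟩ := this
  obtain ⟨i, -, rfl⟩ := Finset.mem_image.mp hz
  exact ⟨i, hSz⟩

/-- Let X be a topological space and X = X_1 ∪ … ∪ X_n with each X_i irreducible and closed and no X_i
contained in the union of the others. Then the irreducible components of X are precisely the sets
X_1, …, X_n. -/
theorem result {X : Type u} [TopologicalSpace X]
    {n : ℕ} (Z : Fin n → Set X) (hZ : ∀ i, IsIrreducible (Z i) ∧ IsClosed (Z i))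
    (hcov : ⋃ i, Z i = Set.univ) (hirr : ∀ i, ¬ Z i ⊆ ⋃ j ∈ ({i}ᶜ : Set (Fin n)), Z j) :
    irreducibleComponents X = Set.range Z := by
  have hsub : ∀ S : Set X, IsIrreducible S → ∃ i, S ⊆ Z i := fun S hS =>
    exists_subset_of_cover Z (fun i => (hZ i).2) S hS (hcov ▸ subset_univ S)
  have hmax : ∀ i, Z i ∈ irreducibleComponents X := by
    intro i
    refine ⟨(hZ i).1, ?_⟩
    intro S hS hiS
    obtain ⟨j, hj⟩ := hsub S hS
    by_cases hji : j = i
    · subst hji
      exact hj
    · exfalso
      apply hirr i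
      intro x hx
      exact mem_biUnion (show j ∈ ({i}ᶜ : Set (Fin n)) from hji) (hj (hiS hx))
  ext C
  constructor
  · intro hC
    obtain ⟨i, hi⟩ := hsub C hC.1
    exact ⟨i, (subset_antisymm hi (hC.2 (hZ i).1 hi)).symm⟩
  · rintro ⟨i, rfl⟩
    exact hmax i

end Groth.Agent.S7563
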