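import Groth.Statements.S7564
-- import your own Groth.Agent.* helpers here

set_option autoImplicit false
universe u
open PtTop

namespace Groth.Agent.S7564

open Set Function

/-- For a continuous surjection f : X → Y, if X has finitely many irreducible components, say n of them,
then Y has at most n irreducible components. -/
theorem result {X Y : Type u} [TopologicalSpace X] [TopologicalSpace Y]
    (f : X → Y) (hf : Continuous f) (hs : Function.Surjective f) (hfin : (irreducibleComponents X).Finite) :
    (irreducibleComponents Y).Finite ∧ (irreducibleComponents Y).ncard ≤ (irreducibleComponents X).ncard := by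
  classical
  let g : Set X → Set Y := fun C => closure (f '' C)
  have hsub : irreducibleComponents Y ⊆ g '' irreducibleComponents X := by
    intro D hD
    have hcov : D ⊆ ⋃₀ ((hfin.toFinset.image g : Finset (Set Y)) : Set (Set Y)) := by
      intro y _
      obtain ⟨x, rfl⟩ := hs y
      refine mem_sUnion.mpr ⟨g (irreducibleComponent x), ?_, ?_⟩
      · simp only [Finset.coe_image, Finite.coe_toFinset]
        exact ⟨_, irreducibleComponent_mem_irreducibleComponents x, rfl⟩
      · exact subset_closure ⟨x, mem_irreducibleComponent, rfl⟩
    obtain ⟨z, hz, hDz⟩ := (isIrreducible_iff_sUnion_isClosed.mp hD.1) _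
      (by
        intro z hz
        obtain ⟨C, -, rfl⟩ := Finset.mem_image.mp hz
        exact isClosed_closure) hcov
    obtain ⟨C, hC, rfl⟩ := Finset.mem_image.mp hz
    have hC' : C ∈ irreducibleComponents X := hfin.mem_toFinset.mp hC
    have hirr : IsIrreducible (g C) := (hC'.1.image f hf.continuousOn).closure
    exact ⟨C, hC', subset_antisymm (hD.2 hirr hDz) hDz⟩
  have hfin' : (g '' irreducibleComponents X).Finite := hfin.image g
  exact ⟨hfin'.subset hsub, (ncard_le_ncard hsub hfin').trans (ncard_image_le hfin)⟩

end Groth.Agent.S7564
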