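import Groth.Statements.S7565
import Mathlib.Topology.NoetherianSpace
-- import your own Groth.Agent.* helpers here

set_option autoImplicit false
universe u
open PtTop

namespace Groth.Agent.S7565

open Set Function Topology

/-- Let f : X → Y be a continuous open map of topological spaces and assume every point of X has a
Noetherian neighbourhood. Then every point of f(X) (with the induced topology) has a Noetherian
neighbourhood. The published statement also asserts that a continuous image of a Noetherian space is
Noetherian; this row states the part about open maps and locally Noetherian spaces. -/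
theorem result {X Y : Type u} [TopologicalSpace X] [TopologicalSpace Y]
    (f : X → Y) (hf : Continuous f) (hfo : IsOpenMap f)
    (hX : ∀ x : X, ∃ E ∈ nhds x, TopologicalSpace.NoetherianSpace E) :
    ∀ y : Set.range f, ∃ E : Set (Set.range f), E ∈ nhds y ∧ TopologicalSpace.NoetherianSpace E := by
  rintro ⟨_, x, rfl⟩
  obtain ⟨E, hE, hEN⟩ := hX x
  have hfE : f '' E ∈ nhds (f x) := hfo.image_mem_nhds hE
  refine ⟨Subtype.val ⁻¹' (f '' E), continuous_subtype_val.continuousAt hfE, ?_⟩
  have hN : TopologicalSpace.NoetherianSpace (f '' E) := by
    have := TopologicalSpace.NoetherianSpace.range (f ∘ (Subtype.val : E → X))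
      (hf.comp continuous_subtype_val)
    rwa [range_comp, Subtype.range_val] at this
  rw [TopologicalSpace.noetherianSpace_set_iff] at hN ⊢
  intro t ht
  rw [Subtype.isCompact_iff]
  apply hN
  rintro _ ⟨z, hz, rfl⟩
  exact ht hz

end Groth.Agent.S7565
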