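import Groth.Statements.S7567
import Groth.Agent.Lib.Helper6.SpectralComponents
-- import your own Groth.Agent.* helpers here

set_option autoImplicit false
universe u
open PtTop

namespace Groth.Agent.S7567

/-- Let X be a quasi-compact topological space whose quasi-compact opens form a basis, any two of them
meeting in a quasi-compact set. For a subset T ⊆ X these two conditions are equivalent: (a) T can be
written as an intersection of clopen subsets of X; (b) T is closed and is a union of connected
components of X. -/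
theorem result {X : Type u} [TopologicalSpace X]
    [CompactSpace X] [PrespectralSpace X] [QuasiSeparatedSpace X] (T : Set X) :
    (∃ S : Set (Set X), (∀ Z ∈ S, IsClopen Z) ∧ T = ⋂₀ S) ↔
      (IsClosed T ∧ ∀ x ∈ T, connectedComponent x ⊆ T) := by
  constructor
  · rintro ⟨S, hS, rfl⟩
    refine ⟨isClosed_sInter fun Z hZ => (hS Z hZ).1, fun x hx y hy => ?_⟩
    exact Set.mem_sInter.mpr fun Z hZ =>
      (hS Z hZ).connectedComponent_subset (Set.mem_sInter.mp hx Z hZ) hy
  · rintro ⟨hT, hTc⟩
    refine ⟨{Z | IsClopen Z ∧ T ⊆ Z}, fun Z hZ => hZ.1, ?_⟩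
    apply Set.Subset.antisymm
    · exact Set.subset_sInter fun Z hZ => hZ.2
    · intro x hx
      by_contra hxT
      -- for each `t ∈ T` a clopen neighbourhood of `t` avoiding `x`
      have h1 : ∀ t ∈ T, ∃ Z : Set X, IsClopen Z ∧ t ∈ Z ∧ x ∉ Z := by
        intro t ht
        have hxt : x ∉ connectedComponent t := fun h => hxT (hTc t ht h)
        rw [Groth.Agent.Lib.Helper6.connectedComponent_eq_sInter_isClopen t] at hxt
        simp only [Set.mem_sInter, not_forall] at hxt
        obtain ⟨Z, ⟨hZ, htZ⟩, hxZ⟩ := hxt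
        exact ⟨Z, hZ, htZ, hxZ⟩
      choose! Z hZ htZ hxZ using h1
      obtain ⟨u, huT, hu⟩ := hT.isCompact.elim_finite_subcover_image (b := T) (c := Z)
        (fun t ht => (hZ t ht).2) (fun t ht => Set.mem_biUnion ht (htZ t ht))
      have hclopen : IsClopen (⋃ t ∈ u, Z t) :=
        hu.1.isClopen_biUnion fun t ht => hZ t (huT ht)
      have hxU : x ∈ ⋃ t ∈ u, Z t := Set.mem_sInter.mp hx _ ⟨hclopen, hu.2⟩
      simp only [Set.mem_iUnion, exists_prop] at hxU
      obtain ⟨t, htu, hxt⟩ := hxU
      exact hxZ t (huT htu) hxt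

end Groth.Agent.S7567
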