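import Groth.Statements.S7568
import Mathlib

set_option autoImplicit false
universe u
open PtTop

namespace Groth.Agent.S7568

open Topology Set


/-- Let X be a Hausdorff quasi-compact space, X = ⋃ U_i an open covering, p ≥ 0 an integer, and for
every (p+1)-tuple (i_0, …, i_p) an open covering of U_{i_0} ∩ … ∩ U_{i_p} by opens W_{i_0…i_p,k}.
Then there are an open covering X = ⋃_{j ∈ J} V_j and a map α : J → I with closure(V_j) ⊆ U_{α(j)}
such that each V_{j_0} ∩ … ∩ V_{j_p} is contained in W_{α(j_0)…α(j_p),k} for some k. The published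
statement allows a covering of an empty intersection to have no members; this row requires every
covering W_{i_0…i_p} to have at least one member (possibly empty), without which the conclusion
fails. -/
theorem result {X : Type u} [TopologicalSpace X] [CompactSpace X] [T2Space X]
    {ι : Type u} (U : ι → Set X) (hU : ∀ i, IsOpen (U i)) (hcov : ⋃ i, U i = Set.univ) (p : ℕ)
    (W : (Fin (p + 1) → ι) → Set (Set X)) (hWo : ∀ t, ∀ w ∈ W t, IsOpen w)
    (hWc : ∀ t, ⋃₀ W t = ⋂ l, U (t l)) (hWne : ∀ t, (W t).Nonempty) :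
    ∃ (J : Type u) (V : J → Set X) (α : J → ι), (∀ j, IsOpen (V j)) ∧ (⋃ j, V j = Set.univ) ∧
      (∀ j, closure (V j) ⊆ U (α j)) ∧
      (∀ t : Fin (p + 1) → J, ∃ w ∈ W (α ∘ t), (⋂ l, V (t l)) ⊆ w) := by
  classical
  -- an index for each point
  have hidx : ∀ x : X, ∃ i, x ∈ U i := fun x => mem_iUnion.mp (hcov ▸ mem_univ x)
  choose idx hidx using hidx
  -- shrink
  have hO : ∀ x : X, ∃ O : Set X, IsOpen O ∧ x ∈ O ∧ closure O ⊆ U (idx x) := by
    intro x
    obtain ⟨O, hOo, hxO, hOU, -⟩ := exists_open_between_and_isCompact_closure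
      (isCompact_singleton (x := x)) (hU (idx x)) (singleton_subset_iff.mpr (hidx x))
    exact ⟨O, hOo, singleton_subset_iff.mp hxO, hOU⟩
  choose O hOo hxO hOU using hO
  obtain ⟨T, hT⟩ := isCompact_univ.elim_finite_subcover O hOo
    (fun x _ => mem_iUnion.mpr ⟨x, hxO x⟩)
  -- for each point a member of the finite cover containing it
  have hζ : ∀ x : X, ∃ z : T, x ∈ O z := by
    intro x
    obtain ⟨z, hz⟩ := mem_iUnion.mp (hT (mem_univ x))
    obtain ⟨hzT, hxz⟩ := mem_iUnion.mp hz
    exact ⟨⟨z, hzT⟩, hxz⟩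
  choose ζ hζ using hζ
  let β : T → ι := fun z => idx z
  -- chosen members of the coverings
  have hw : ∀ (x : X) (s : Fin (p + 1) → T), ∃ w : Set X, IsOpen w ∧ x ∈ w ∧
      ((x ∈ ⋂ l, U (β (s l))) → w ∈ W (β ∘ s)) := by
    intro x s
    by_cases hx : x ∈ ⋂ l, U (β (s l))
    · have hx' : x ∈ ⋃₀ W (β ∘ s) := by
        rw [hWc]
        exact hx
      obtain ⟨w, hwW, hxw⟩ := hx'
      exact ⟨w, hWo _ w hwW, hxw, fun _ => hwW⟩
    · exact ⟨univ, isOpen_univ, mem_univ x, fun h => absurd h hx⟩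
  choose w hwo hxw hwW using hw
  -- for each point and member of `T`, a neighbourhood avoiding the closure if possible
  have hc : ∀ (x : X) (z : T), ∃ c : Set X, IsOpen c ∧ x ∈ c ∧
      ((x ∉ closure (O z)) → c ⊆ (closure (O z))ᶜ) := by
    intro x z
    by_cases hx : x ∈ closure (O z)
    · exact ⟨univ, isOpen_univ, mem_univ x, fun h => absurd hx h⟩
    · exact ⟨(closure (O z))ᶜ, isClosed_closure.isOpen_compl, hx, fun _ => subset_rfl⟩
  choose c hco hxc hcc using hc
  let N : X → Set X := fun x => O (ζ x) ∩ ((⋂ z : T, c x z) ∩ ⋂ s : Fin (p + 1) → T, w x s)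
  refine ⟨X, N, fun x => β (ζ x), ?_, ?_, ?_, ?_⟩
  · intro x
    exact (hOo _).inter ((isOpen_iInter_of_finite fun z => hco x z).inter
      (isOpen_iInter_of_finite fun s => hwo x s))
  · rw [eq_univ_iff_forall]
    intro x
    exact mem_iUnion.mpr ⟨x, hζ x, mem_iInter.mpr fun z => hxc x z, mem_iInter.mpr fun s => hxw x s⟩
  · intro x
    exact (closure_mono inter_subset_left).trans (hOU _)
  · intro t
    by_cases hne : (⋂ l, N (t l)).Nonempty
    · obtain ⟨y, hy⟩ := hne
      have hy' : ∀ l, y ∈ N (t l) := fun l => mem_iInter.mp hy l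
      set s : Fin (p + 1) → T := fun l => ζ (t l) with hs
      have hx0 : t 0 ∈ ⋂ l, U (β (s l)) := by
        refine mem_iInter.mpr fun l => ?_
        apply hOU
        by_contra hcl
        have h1 : y ∈ c (t 0) (s l) := mem_iInter.mp (hy' 0).2.1 (s l)
        have h2 := hcc (t 0) (s l) hcl h1
        exact h2 (subset_closure (hy' l).1)
      refine ⟨w (t 0) s, hwW (t 0) s hx0, ?_⟩
      intro x hx
      exact mem_iInter.mp (mem_iInter.mp hx 0).2.2 s
    · obtain ⟨w', hw'⟩ := hWne ((fun x => β (ζ x)) ∘ t)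
      refine ⟨w', hw', ?_⟩
      rw [not_nonempty_iff_eq_empty] at hne
      rw [hne]
      exact empty_subset _

end Groth.Agent.S7568
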