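import Groth.Statements.S7570
import Mathlib

set_option autoImplicit false
universe u
open PtTop

namespace Groth.Agent.S7570

open Topology Set


/-- Let X be a topological space and Z ⊆ X a quasi-compact subset such that any two distinct points of Z
have disjoint open neighbourhoods in X. Let p ≥ 0, let U_i ⊆ X be opens with Z ⊆ ⋃ U_i, and for
every (p+1)-tuple let W_{i_0…i_p} ⊆ U_{i_0} ∩ … ∩ U_{i_p} be an open with W_{i_0…i_p} ∩ Z = U_{i_0}
∩ … ∩ U_{i_p} ∩ Z. Then there are opens V_i with (1) Z ⊆ ⋃ V_i, (2) V_i ⊆ U_i, (3) closure(V_i) ∩ Z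
⊆ U_i, and (4) V_{i_0} ∩ … ∩ V_{i_p} ⊆ W_{i_0…i_p} for all (p+1)-tuples. -/
theorem result {X : Type u} [TopologicalSpace X]
    (Z : Set X) (hZ : IsCompact Z)
    (hZsep : ∀ z ∈ Z, ∀ z' ∈ Z, z ≠ z' → ∃ A B : Set X, IsOpen A ∧ IsOpen B ∧ z ∈ A ∧ z' ∈ B ∧ Disjoint A B)
    {ι : Type u} (U : ι → Set X) (hU : ∀ i, IsOpen (U i)) (hcov : Z ⊆ ⋃ i, U i) (p : ℕ)
    (W : (Fin (p + 1) → ι) → Set X) (hWo : ∀ t, IsOpen (W t)) (hWU : ∀ t, W t ⊆ ⋂ l, U (t l))
    (hWZ : ∀ t, W t ∩ Z = (⋂ l, U (t l)) ∩ Z) :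
    ∃ V : ι → Set X, (∀ i, IsOpen (V i)) ∧ (Z ⊆ ⋃ i, V i) ∧ (∀ i, V i ⊆ U i) ∧
      (∀ i, closure (V i) ∩ Z ⊆ U i) ∧ (∀ t : Fin (p + 1) → ι, (⋂ l, V (t l)) ⊆ W t) := by
  classical
  -- choose an index for each point of `Z`
  have hidx : ∀ z : Z, ∃ i, (z : X) ∈ U i := fun z => mem_iUnion.mp (hcov z.2)
  choose idx hidx using hidx
  -- separate `z` from `Z \ U (idx z)`
  have hsep : ∀ z : Z, ∃ A B : Set X, IsOpen A ∧ IsOpen B ∧ (z : X) ∈ A ∧ Z \ U (idx z) ⊆ B ∧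
      Disjoint A B := by
    intro z
    have hL : IsCompact (Z \ U (idx z)) := hZ.diff (hU (idx z))
    have hdisj : Disjoint (𝓝 (z : X)) (𝓝ˢ (Z \ U (idx z))) := by
      rw [hL.disjoint_nhdsSet_right]
      intro y hy
      have hne : (z : X) ≠ y := by
        rintro rfl
        exact hy.2 (hidx z)
      obtain ⟨A, B, hA, hB, hzA, hyB, hAB⟩ := hZsep z z.2 y hy.1 hne
      exact Filter.disjoint_of_disjoint_of_mem hAB (hA.mem_nhds hzA) (hB.mem_nhds hyB)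
    obtain ⟨A', hA', B', hB', hAB⟩ := Filter.disjoint_iff.mp hdisj
    obtain ⟨A, hAA', hAo, hzA⟩ := mem_nhds_iff.mp hA'
    obtain ⟨B, hBo, hLB, hBB'⟩ := mem_nhdsSet_iff_exists.mp hB'
    exact ⟨A, B, hAo, hBo, hzA, hLB, hAB.mono hAA' hBB'⟩
  choose A B hAo hBo hzA hLB hAB using hsep
  -- finite subcover
  obtain ⟨T, hT⟩ := hZ.elim_finite_subcover (fun z : Z => A z) hAo
    (fun x hx => mem_iUnion.mpr ⟨⟨x, hx⟩, hzA ⟨x, hx⟩⟩)
  -- first approximation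
  let V₀ : ι → Set X := fun i => U i ∩ ⋃ z ∈ T.filter (fun z => idx z = i), A z
  have hV₀o : ∀ i, IsOpen (V₀ i) := fun i =>
    (hU i).inter (isOpen_biUnion fun z _ => hAo z)
  have hV₀U : ∀ i, V₀ i ⊆ U i := fun i => inter_subset_left
  have hAZ : ∀ z : Z, A z ∩ Z ⊆ U (idx z) := by
    intro z x hx
    by_contra hxU
    have : x ∈ B z := hLB z ⟨hx.2, hxU⟩
    exact (Set.disjoint_left.mp (hAB z) hx.1) this
  have hV₀cov : Z ⊆ ⋃ i, V₀ i := by
    intro x hx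
    obtain ⟨z, hz⟩ := mem_iUnion.mp (hT hx)
    obtain ⟨hzT, hxA⟩ := mem_iUnion.mp hz
    refine mem_iUnion.mpr ⟨idx z, hAZ z ⟨hxA, hx⟩, ?_⟩
    exact mem_biUnion (Finset.mem_filter.mpr ⟨hzT, rfl⟩) hxA
  have hV₀cl : ∀ i, closure (V₀ i) ∩ Z ⊆ U i := by
    intro i x hx
    have h1 : closure (V₀ i) ⊆ ⋃ z ∈ T.filter (fun z => idx z = i), closure (A z) := by
      refine (closure_mono inter_subset_right).trans ?_
      rw [Finset.closure_biUnion]
    obtain ⟨z, hz⟩ := mem_iUnion.mp (h1 hx.1)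
    obtain ⟨hzT, hxA⟩ := mem_iUnion.mp hz
    have hzi : idx z = i := (Finset.mem_filter.mp hzT).2
    have hcl : closure (A z) ⊆ (B z)ᶜ :=
      closure_minimal (hAB z).subset_compl_right (hBo z).isClosed_compl
    by_contra hxU
    have : x ∈ B z := hLB z ⟨hx.2, by rw [hzi]; exact hxU⟩
    exact hcl hxA this
  -- the bad closed sets
  let Bad : (Fin (p + 1) → ι) → Set X := fun t => (⋂ l, closure (V₀ (t l))) \ W t
  have hBadc : ∀ t, IsClosed (Bad t) := fun t =>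
    (isClosed_iInter fun l => isClosed_closure).sdiff (hWo t)
  have hBadZ : ∀ t, Disjoint (Bad t) Z := by
    intro t
    rw [Set.disjoint_left]
    intro x hx hxZ
    have h1 : x ∈ (⋂ l, U (t l)) ∩ Z :=
      ⟨mem_iInter.mpr fun l => hV₀cl (t l) ⟨mem_iInter.mp hx.1 l, hxZ⟩, hxZ⟩
    rw [← hWZ t] at h1
    exact hx.2 h1.1
  let C : Set X := ⋃ s : Fin (p + 1) → T, Bad (fun l => idx (s l))
  have hCc : IsClosed C := isClosed_iUnion_of_finite fun s => hBadc _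
  have hCZ : Disjoint C Z := by
    rw [Set.disjoint_iUnion_left]
    intro s
    exact hBadZ _
  refine ⟨fun i => V₀ i \ C, fun i => (hV₀o i).sdiff hCc, ?_, fun i => sdiff_subset.trans (hV₀U i),
    fun i => ?_, ?_⟩
  · intro x hx
    obtain ⟨i, hi⟩ := mem_iUnion.mp (hV₀cov hx)
    exact mem_iUnion.mpr ⟨i, hi, fun hxC => Set.disjoint_left.mp hCZ hxC hx⟩
  · exact (inter_subset_inter_left Z (closure_mono sdiff_subset)).trans (hV₀cl i)
  · intro t x hx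
    have hx' : ∀ l, x ∈ V₀ (t l) \ C := fun l => mem_iInter.mp hx l
    -- each `t l` is `idx` of an element of `T`
    have hex : ∀ l, ∃ z : T, idx z = t l := by
      intro l
      obtain ⟨z, hz⟩ := mem_iUnion.mp (hx' l).1.2
      obtain ⟨hzT, -⟩ := mem_iUnion.mp hz
      exact ⟨⟨z, (Finset.mem_filter.mp hzT).1⟩, (Finset.mem_filter.mp hzT).2⟩
    choose s hs using hex
    have ht : (fun l => idx (s l)) = t := funext hs
    by_contra hxW
    have hxBad : x ∈ Bad t :=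
      ⟨mem_iInter.mpr fun l => subset_closure (hx' l).1, hxW⟩
    apply (hx' 0).2
    refine mem_iUnion.mpr ⟨s, ?_⟩
    rw [ht]
    exact hxBad

end Groth.Agent.S7570
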