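import Groth.Statements.S7569
import Mathlib
import Groth.Agent.S7570

set_option autoImplicit false
universe u
open PtTop

namespace Groth.Agent.S7569

open Topology Set


/-- Let X be a Hausdorff, locally quasi-compact space and Z ⊆ X a quasi-compact subset. Let p ≥ 0, let
U_i ⊆ X be opens with Z ⊆ ⋃ U_i, and for every (p+1)-tuple (i_0, …, i_p) let W_{i_0…i_p} ⊆ U_{i_0} ∩
… ∩ U_{i_p} be an open with W_{i_0…i_p} ∩ Z = U_{i_0} ∩ … ∩ U_{i_p} ∩ Z. Then there are opens V_i ⊆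
X with Z ⊆ ⋃ V_i, closure(V_i) ⊆ U_i for all i, and V_{i_0} ∩ … ∩ V_{i_p} ⊆ W_{i_0…i_p} for all
(p+1)-tuples. -/
theorem result {X : Type u} [TopologicalSpace X]
    [T2Space X] [LocallyCompactSpace X] (Z : Set X) (hZ : IsCompact Z)
    {ι : Type u} (U : ι → Set X) (hU : ∀ i, IsOpen (U i)) (hcov : Z ⊆ ⋃ i, U i) (p : ℕ)
    (W : (Fin (p + 1) → ι) → Set X) (hWo : ∀ t, IsOpen (W t)) (hWU : ∀ t, W t ⊆ ⋂ l, U (t l))
    (hWZ : ∀ t, W t ∩ Z = (⋂ l, U (t l)) ∩ Z) :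
    ∃ V : ι → Set X, (∀ i, IsOpen (V i)) ∧ (Z ⊆ ⋃ i, V i) ∧ (∀ i, closure (V i) ⊆ U i) ∧
      (∀ t : Fin (p + 1) → ι, (⋂ l, V (t l)) ⊆ W t) := by
  classical
  obtain ⟨V₀, hV₀o, hV₀cov, hV₀U, -, hV₀W⟩ := Groth.Agent.S7570.result Z hZ
    (fun z _ z' _ hne => by
      obtain ⟨A, B, hA, hB, hzA, hzB, hAB⟩ := t2_separation hne
      exact ⟨A, B, hA, hB, hzA, hzB, hAB⟩) U hU hcov p W hWo hWU hWZ
  have hidx : ∀ z : Z, ∃ i, (z : X) ∈ V₀ i := fun z => mem_iUnion.mp (hV₀cov z.2)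
  choose idx hidx using hidx
  have hO : ∀ z : Z, ∃ O : Set X, IsOpen O ∧ (z : X) ∈ O ∧ closure O ⊆ V₀ (idx z) := by
    intro z
    obtain ⟨O, hOo, hzO, hOV, -⟩ := exists_open_between_and_isCompact_closure
      (isCompact_singleton (x := (z : X))) (hV₀o (idx z)) (singleton_subset_iff.mpr (hidx z))
    exact ⟨O, hOo, singleton_subset_iff.mp hzO, hOV⟩
  choose O hOo hzO hOV using hO
  obtain ⟨T, hT⟩ := hZ.elim_finite_subcover (fun z : Z => O z) hOo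
    (fun x hx => mem_iUnion.mpr ⟨⟨x, hx⟩, hzO ⟨x, hx⟩⟩)
  refine ⟨fun i => ⋃ z ∈ T.filter (fun z => idx z = i), O z,
    fun i => isOpen_biUnion fun z _ => hOo z, ?_, ?_, ?_⟩
  · intro x hx
    obtain ⟨z, hz⟩ := mem_iUnion.mp (hT hx)
    obtain ⟨hzT, hxO⟩ := mem_iUnion.mp hz
    exact mem_iUnion.mpr ⟨idx z, mem_biUnion (Finset.mem_filter.mpr ⟨hzT, rfl⟩) hxO⟩
  · intro i
    rw [Finset.closure_biUnion]
    intro x hx
    obtain ⟨z, hz⟩ := mem_iUnion.mp hx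
    obtain ⟨hzT, hxO⟩ := mem_iUnion.mp hz
    have hzi : idx z = i := (Finset.mem_filter.mp hzT).2
    exact hV₀U i (hzi ▸ hOV z hxO)
  · intro t x hx
    apply hV₀W t
    refine mem_iInter.mpr fun l => ?_
    obtain ⟨z, hz⟩ := mem_iUnion.mp (mem_iInter.mp hx l)
    obtain ⟨hzT, hxO⟩ := mem_iUnion.mp hz
    have hzi : idx z = t l := (Finset.mem_filter.mp hzT).2
    exact hzi ▸ hOV z (subset_closure hxO)

end Groth.Agent.S7569
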