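import Groth.Statements.S7571
import Mathlib.Topology.Category.TopCat.Limits.Cofiltered
-- import your own Groth.Agent.* helpers here

set_option autoImplicit false
universe u
open CategoryTheory CategoryTheory.Limits
open PtTop

namespace Groth.Agent.S7571

/-- Let j ↦ X_j be a diagram of topological spaces over a cofiltered category with limit X and
projections f_j. (1) Every open of X is a union of subsets of the form f_j⁻¹(U_j) with U_j ⊆ X_j
open. (2) Every quasi-compact open of X equals f_i⁻¹(U_i) for some i and some open U_i ⊆ X_i. -/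
theorem result {J : Type u} [SmallCategory J] [IsCofiltered J]
    (F : J ⥤ TopCat.{u}) (c : Cone F) (hc : IsLimit c) :
    (∀ W : Set c.pt, IsOpen W →
      ∃ S : Set (Σ j, Set (F.obj j)), (∀ s ∈ S, IsOpen s.2) ∧ W = ⋃ s ∈ S, c.π.app s.1 ⁻¹' s.2) ∧
    (∀ W : Set c.pt, IsOpen W → IsCompact W →
      ∃ (i : J) (Ui : Set (F.obj i)), IsOpen Ui ∧ W = c.π.app i ⁻¹' Ui) := by
  classical
  have hB := TopCat.isTopologicalBasis_cofiltered_limit F c hc (fun j => {V | IsOpen V})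
    (fun j => TopologicalSpace.isTopologicalBasis_opens) (fun i => isOpen_univ)
    (fun i U1 U2 h1 h2 => h1.inter h2)
    (fun i j f V hV => hV.preimage (F.map f).hom.continuous)
  have key : ∀ W : Set c.pt, IsOpen W → ∀ x ∈ W, ∃ (j : J) (V : Set (F.obj j)), IsOpen V ∧
      x ∈ c.π.app j ⁻¹' V ∧ c.π.app j ⁻¹' V ⊆ W := by
    intro W hW x hx
    obtain ⟨U, ⟨j, V, hV, rfl⟩, hxU, hUW⟩ := hB.exists_subset_of_mem_open hx hW
    exact ⟨j, V, hV, hxU, hUW⟩
  refine ⟨fun W hW => ?_, fun W hW hWc => ?_⟩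
  · refine ⟨{s | IsOpen s.2 ∧ c.π.app s.1 ⁻¹' s.2 ⊆ W}, fun s hs => hs.1, ?_⟩
    apply Set.Subset.antisymm
    · intro x hx
      obtain ⟨j, V, hV, hxV, hVW⟩ := key W hW x hx
      exact Set.mem_biUnion (x := (⟨j, V⟩ : Σ j, Set (F.obj j))) ⟨hV, hVW⟩ hxV
    · exact Set.iUnion₂_subset fun s hs => hs.2
  · have key' : ∀ x ∈ W, ∃ s : (Σ j, Set (F.obj j)), IsOpen s.2 ∧
        x ∈ c.π.app s.1 ⁻¹' s.2 ∧ c.π.app s.1 ⁻¹' s.2 ⊆ W := by
      intro x hx
      obtain ⟨j, V, hV, hxV, hVW⟩ := key W hW x hx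
      exact ⟨⟨j, V⟩, hV, hxV, hVW⟩
    have : Nonempty (Σ j, Set (F.obj j)) := ⟨⟨IsCofiltered.nonempty.some, ∅⟩⟩
    choose! s hV hxV hVW using key'
    let j : c.pt → J := fun x => (s x).1
    let V : ∀ x, Set (F.obj (j x)) := fun x => (s x).2
    obtain ⟨t, htW, htfin, ht⟩ := hWc.elim_finite_subcover_image (b := W)
      (c := fun x => c.π.app (j x) ⁻¹' V x)
      (fun x hx => (hV x hx).preimage (c.π.app (j x)).hom.continuous)
      (fun x hx => Set.mem_biUnion hx (hxV x hx))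
    obtain ⟨i, hi⟩ := IsCofiltered.inf_objs_exists (htfin.toFinset.image j)
    have hi' : ∀ x ∈ t, Nonempty (i ⟶ j x) := fun x hx =>
      hi (Finset.mem_image_of_mem j (htfin.mem_toFinset.mpr hx))
    let g : ∀ x, x ∈ t → (i ⟶ j x) := fun x hx => (hi' x hx).some
    refine ⟨i, ⋃ (x) (hx : x ∈ t), F.map (g x hx) ⁻¹' V x,
      isOpen_iUnion fun x => isOpen_iUnion fun hx =>
        (hV x (htW hx)).preimage (F.map (g x hx)).hom.continuous, ?_⟩
    have hnat : ∀ x (hx : x ∈ t),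
        c.π.app i ⁻¹' (F.map (g x hx) ⁻¹' V x) = c.π.app (j x) ⁻¹' V x := by
      intro x hx
      rw [← Set.preimage_comp, ← TopCat.coe_comp, c.w]
    rw [Set.preimage_iUnion₂]
    apply Set.Subset.antisymm
    · intro x hx
      obtain ⟨y, hy, hxy⟩ := Set.mem_iUnion₂.mp (ht hx)
      refine Set.mem_iUnion₂.mpr ⟨y, hy, ?_⟩
      rw [hnat y hy]
      exact hxy
    · refine Set.iUnion₂_subset fun x hx => ?_
      rw [hnat x hx]
      exact hVW x (htW hx)

end Groth.Agent.S7571
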