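import Groth.Statements.S7578
-- import your own Groth.Agent.* helpers here
import Groth.Agent.Lib.Helper12.Codim

set_option autoImplicit false
universe u
open PtTop

namespace Groth.Agent.S7578

/-- Let X be a topological space which is locally Noetherian (every point has a Noetherian
neighbourhood) and sober, and let δ, δ' be two dimension functions on X. Then δ − δ' is locally
constant. -/
theorem result {X : Type u} [TopologicalSpace X] [QuasiSober X] [T0Space X]
    (hX : ∀ x : X, ∃ E ∈ nhds x, TopologicalSpace.NoetherianSpace E)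
    (δ δ' : X → ℤ) (hδ : PtTop.IsDimensionFunction δ) (hδ' : PtTop.IsDimensionFunction δ') :
    IsLocallyConstant (fun x => δ x - δ' x) := by
  open Groth.Agent.Lib.Helper12.Codim TopologicalSpace Topology in
  have hspec : ∀ x y : X, x ⤳ y → δ x - δ' x = δ y - δ' y := by
    intro x y hxy
    have h1 := (dimFun_main δ hδ).2 x y hxy
    have h2 := (dimFun_main δ' hδ').2 x y hxy
    rw [h1] at h2
    have h3 : (δ x - δ y).toNat = (δ' x - δ' y).toNat := by exact_mod_cast h2
    have h4 : δ y ≤ δ x := by
      by_cases e : x = y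
      · rw [e]
      · exact (hδ.1 x y hxy e).le
    have h5 : δ' y ≤ δ' x := by
      by_cases e : x = y
      · rw [e]
      · exact (hδ'.1 x y hxy e).le
    omega
  rw [IsLocallyConstant.iff_eventually_eq]
  intro x
  obtain ⟨E, hE, hN⟩ := hX x
  have hxE : x ∈ E := mem_of_mem_nhds hE
  haveI := hN
  let x' : E := ⟨x, hxE⟩
  have hfin : (irreducibleComponents E).Finite := NoetherianSpace.finite_irreducibleComponents
  let Bad : Set E := ⋃₀ {C ∈ irreducibleComponents E | x' ∉ C}
  have hBadClosed : IsClosed Bad := by
    change IsClosed (⋃₀ {C ∈ irreducibleComponents E | x' ∉ C})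
    rw [Set.sUnion_eq_biUnion]
    apply Set.Finite.isClosed_biUnion (hfin.subset (fun C hC => hC.1))
    intro C hC
    exact isClosed_of_mem_irreducibleComponents C hC.1
  have hx'Bad : x' ∉ Bad := by
    rintro ⟨C, ⟨hC, hxC⟩, hx'C⟩
    exact hxC hx'C
  have hnhds : Subtype.val '' Badᶜ ∈ 𝓝 x := by
    have h1 : Badᶜ ∈ 𝓝 x' := hBadClosed.isOpen_compl.mem_nhds hx'Bad
    have h2 := map_nhds_subtype_coe_eq_nhds hxE hE
    rw [← h2]
    exact Filter.image_mem_map h1
  filter_upwards [hnhds]
  rintro _ ⟨y', hy', rfl⟩
  have hC := irreducibleComponent_mem_irreducibleComponents y'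
  have hyC : y' ∈ irreducibleComponent y' := mem_irreducibleComponent
  have hxC : x' ∈ irreducibleComponent y' := by
    by_contra hne
    exact hy' ⟨_, ⟨hC, hne⟩, hyC⟩
  have hirr : IsIrreducible (Subtype.val '' irreducibleComponent y') :=
    (isIrreducible_irreducibleComponent).image _ continuous_subtype_val.continuousOn
  have hη : IsGenericPoint hirr.genericPoint (closure (Subtype.val '' irreducibleComponent y')) :=
    hirr.isGenericPoint_genericPoint_closure
  have h1 : hirr.genericPoint ⤳ x := hη.specializes (subset_closure ⟨x', hxC, rfl⟩)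
  have h2 : hirr.genericPoint ⤳ (y' : X) := hη.specializes (subset_closure ⟨y', hyC, rfl⟩)
  change δ (y' : X) - δ' (y' : X) = δ x - δ' x
  rw [← hspec _ x h1, ← hspec _ y' h2]

end Groth.Agent.S7578
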