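import Groth.Statements.S7579
import Mathlib.Topology.Connected.Separation
-- import your own Groth.Agent.* helpers here

set_option autoImplicit false
universe u
open SpecSp

namespace Groth.Agent.S7579


theorem totallySeparated (X : Type u) [TopologicalSpace X] [SpectralSpace X] :
    TotallySeparatedSpace (WithConstructibleTopology X) := by
  rw [totallySeparatedSpace_iff_exists_isClopen]
  intro x y hxy
  have hxy' : x.ofTopology ≠ y.ofTopology := fun h => hxy (WithTopology.ext h)
  -- a compact open containing exactly one of the two points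
  have key : ∃ V : Set X, IsOpen V ∧ IsCompact V ∧
      ((x.ofTopology ∈ V ∧ y.ofTopology ∉ V) ∨ (y.ofTopology ∈ V ∧ x.ofTopology ∉ V)) := by
    obtain ⟨U, hU, hU'⟩ := exists_isOpen_xor_mem hxy'
    rcases hU' with ⟨h1, h2⟩ | ⟨h1, h2⟩
    · obtain ⟨V, ⟨hVo, hVc⟩, hxV, hVU⟩ :=
        (PrespectralSpace.isTopologicalBasis (X := X)).exists_subset_of_mem_open h1 hU
      exact ⟨V, hVo, hVc, Or.inl ⟨hxV, fun h => h2 (hVU h)⟩⟩
    · obtain ⟨V, ⟨hVo, hVc⟩, hxV, hVU⟩ :=
        (PrespectralSpace.isTopologicalBasis (X := X)).exists_subset_of_mem_open h1 hU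
      exact ⟨V, hVo, hVc, Or.inr ⟨hxV, fun h => h2 (hVU h)⟩⟩
  obtain ⟨V, hVo, hVc, hV⟩ := key
  have hpre : (WithTopology.toTopology (constructibleTopology X)) ⁻¹'
      (WithTopology.ofTopology ⁻¹' V : Set (WithConstructibleTopology X)) = V := rfl
  have hclopen : IsClopen (WithTopology.ofTopology ⁻¹' V : Set (WithConstructibleTopology X)) := by
    constructor
    · rw [WithConstructibleTopology.isClosed_iff, hpre,
        ← @isOpen_compl_iff _ _ (constructibleTopology X)]
      apply IsCompact.isOpen_constructibleTopology_of_isClosed
      · simpa using hVc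
      · simpa using hVo.isClosed_compl
    · rw [WithConstructibleTopology.isOpen_iff, hpre]
      exact hVc.isOpen_constructibleTopology_of_isOpen hVo
  rcases hV with ⟨h1, h2⟩ | ⟨h1, h2⟩
  · exact ⟨_, hclopen, h1, h2⟩
  · exact ⟨_, hclopen.compl, h2, fun h => h h1⟩

/-- Let X be a spectral space. Then X with its constructible topology is Hausdorff and totally
disconnected. The published statement also asserts that the constructible topology is quasi-compact;
this row states the Hausdorff and totally disconnected parts. -/
theorem result (X : Type u) [TopologicalSpace X] [SpectralSpace X] :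
    T2Space (WithConstructibleTopology X) ∧ TotallyDisconnectedSpace (WithConstructibleTopology X) := by
  have := totallySeparated X
  exact ⟨inferInstance, inferInstance⟩

end Groth.Agent.S7579
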