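import Groth.Statements.S7589
import Groth.Agent.Lib.Helper21.BaseChg5
import Groth.Agent.Lib.Helper21.FibDim9
import Groth.Agent.Lib.Helper18.SerreReg2
-- import your own Groth.Agent.* helpers here

set_option autoImplicit false
universe u
open CategoryTheory CategoryTheory.Limits AlgebraicGeometry
attribute [local instance] Curv2.stalkAlgebra Curv2.resAlgebra
open Variety

namespace Groth.Agent.S7589

/-- Let X be locally of finite type over a field k, K an extension field of k, y a point of the base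
change X_K and x its image in X; write a = trdeg_k κ(x) and a' = trdeg_K κ(y). Then dim O_{X_K, y} +
a' = dim O_{X, x} + a, and the fibre ring O_{X_K, y} / m_x O_{X_K, y} has Krull dimension a - a' (in
particular a' ≤ a); dimensions in WithBot ℕ∞. -/
theorem result (k : Type u) [Field k] (X : Scheme.{u}) [X.Over (Spec (CommRingCat.of k))] [LocallyOfFiniteType (X ↘ (Spec (CommRingCat.of k)))]
    (K : Type u) [Field K] [Algebra k K] (y : ↥(Curv2.bc k X K)) (a a' : ℕ)
    (ha : Algebra.trdeg k (X.residueField (Curv2.bcFst k X K y)) = a)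
    (ha' : letI : (Curv2.bc k X K).Over (Spec (CommRingCat.of K)) := ⟨Curv2.bcSnd k X K⟩
      Algebra.trdeg K ((Curv2.bc k X K).residueField y) = a') :
    ringKrullDim ((Curv2.bc k X K).presheaf.stalk y) + (a' : WithBot ℕ∞) =
        ringKrullDim (X.presheaf.stalk (Curv2.bcFst k X K y)) + (a : WithBot ℕ∞) ∧
      ringKrullDim (↥((Curv2.bc k X K).presheaf.stalk y) ⧸ Ideal.map ((Curv2.bcFst k X K).stalkMap y).hom (IsLocalRing.maximalIdeal ↥(X.presheaf.stalk (Curv2.bcFst k X K y)))) + (a' : WithBot ℕ∞) =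
        (a : WithBot ℕ∞) := by
  let _ : (Curv2.bc k X K).Over (Spec (CommRingCat.of K)) := ⟨Curv2.bcSnd k X K⟩
  have hpb : IsPullback (Curv2.bcFst k X K) (Curv2.bcSnd k X K) (X ↘ Spec (CommRingCat.of k))
      (Spec.map (CommRingCat.ofHom (algebraMap k K))) := IsPullback.of_hasPullback _ _
  have hlft' : LocallyOfFiniteType (Curv2.bcSnd k X K) :=
    Groth.Agent.Lib.Helper21.BaseChg.locallyOfFiniteType_of_isPullback_field k K _ _ _ _ hpb
  have hlft'' : LocallyOfFiniteType (Curv2.bc k X K ↘ Spec (CommRingCat.of K)) := hlft'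
  have hflat : Flat (Curv2.bcFst k X K) :=
    Groth.Agent.Lib.Helper21.BaseChg.flat_of_isPullback_field k K _ _ _ _ hpb
  have : IsLocallyNoetherian X :=
    LocallyOfFiniteType.isLocallyNoetherian (X ↘ Spec (CommRingCat.of k))
  have : IsLocallyNoetherian (Curv2.bc k X K) :=
    LocallyOfFiniteType.isLocallyNoetherian (Curv2.bcSnd k X K)
  obtain ⟨b, hb⟩ := Groth.Agent.Lib.Helper18.SerreReg.exists_ringKrullDim_eq_nat
    (X.presheaf.stalk (Curv2.bcFst k X K y))
  obtain ⟨b', hb'⟩ := Groth.Agent.Lib.Helper18.SerreReg.exists_ringKrullDim_eq_nat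
    ((Curv2.bc k X K).presheaf.stalk y)
  have hL := Groth.Agent.Lib.Helper21.BaseChg.localDim_eq_of_isPullback_field k K _ _ _ _ hpb y
  rw [Groth.Agent.Lib.Helper21.ChartPt.localDim_eq_add K (Curv2.bc k X K) y a' b' ha' hb',
    Groth.Agent.Lib.Helper21.ChartPt.localDim_eq_add k X (Curv2.bcFst k X K y) a b ha hb] at hL
  have hL' : a' + b' = a + b := by exact_mod_cast hL
  have hdim := Groth.Agent.Lib.Helper21.BaseChg.ringKrullDim_stalk_eq_add_of_flat
    (Curv2.bcFst k X K) y
  rw [hb, hb'] at hdim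
  constructor
  · rw [hb, hb']
    have : b' + a' = b + a := by omega
    exact_mod_cast this
  · set Q := ringKrullDim (↥((Curv2.bc k X K).presheaf.stalk y) ⧸
      Ideal.map ((Curv2.bcFst k X K).stalkMap y).hom
        (IsLocalRing.maximalIdeal ↥(X.presheaf.stalk (Curv2.bcFst k X K y)))) with hQ
    have h1 : Q + (a' : WithBot ℕ∞) + (b : ℕ) = (a : WithBot ℕ∞) + (b : ℕ) := by
      have h2 : Q + (a' : WithBot ℕ∞) + (b : ℕ) = ((b : ℕ) + Q) + (a' : WithBot ℕ∞) := by
        abel
      rw [h2, ← hdim]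
      have : b' + a' = a + b := by omega
      exact_mod_cast this
    apply le_antisymm
    · exact Groth.Agent.Lib.Helper21.FibDim.le_of_add_nat_le_add_nat _ _ b h1.le
    · exact Groth.Agent.Lib.Helper21.FibDim.le_of_add_nat_le_add_nat _ _ b h1.ge

end Groth.Agent.S7589
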