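import Groth.Statements.S7595
import Groth.Agent.Lib.Helper21.BaseChg2

set_option autoImplicit false
universe u
open CategoryTheory CategoryTheory.Limits AlgebraicGeometry
open Variety

namespace Groth.Agent.S7595

/-- Let X be a scheme over a field k, K an extension field of k and T an irreducible component of X.
Then each point of the inverse image of T in X_K lies on some irreducible component of X_K that is
contained in this inverse image; so the inverse image of T is the union of the irreducible
components of X_K lying inside it. -/
theorem result (k : Type u) [Field k] (X : Scheme.{u}) [X.Over (Spec (CommRingCat.of k))] (K : Type u) [Field K] [Algebra k K]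
    (T : Set ↥X) (hT : T ∈ irreducibleComponents ↥X) :
    (Curv2.bcFst k X K).base ⁻¹' T = ⋃₀ {Z : Set ↥(Curv2.bc k X K) | Z ∈ irreducibleComponents ↥(Curv2.bc k X K) ∧ Z ⊆ (Curv2.bcFst k X K).base ⁻¹' T} := by
  have hpb : IsPullback (Curv2.bcFst k X K) (Curv2.bcSnd k X K) (X ↘ Spec (CommRingCat.of k))
      (Spec.map (CommRingCat.ofHom (algebraMap k K))) := IsPullback.of_hasPullback _ _
  haveI hflat : Flat (Curv2.bcFst k X K) :=
    Groth.Agent.Lib.Helper21.BaseChg.flat_of_isPullback_field k K _ _ _ _ hpb
  have hgen := Flat.generalizingMap (Curv2.bcFst k X K)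
  apply Set.Subset.antisymm
  · intro y hy
    have hTirr : IsIrreducible T := hT.1
    have hTcl : IsClosed T := isClosed_of_mem_irreducibleComponents T hT
    obtain ⟨ξ, hξ⟩ := QuasiSober.sober hTirr hTcl
    have h1 : ξ ⤳ (Curv2.bcFst k X K).base y := by
      rw [specializes_iff_mem_closure, hξ.def]
      exact hy
    obtain ⟨y', hy'y, hy'ξ⟩ := hgen h1
    have hZirr : IsIrreducible (irreducibleComponent y') := isIrreducible_irreducibleComponent
    have hZcl : IsClosed (irreducibleComponent y') := isClosed_irreducibleComponent
    refine ⟨irreducibleComponent y', ⟨irreducibleComponent_mem_irreducibleComponents y', ?_⟩, ?_⟩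
    · obtain ⟨ζ, hζ⟩ := QuasiSober.sober hZirr hZcl
      have h2 : ζ ⤳ y' := by
        rw [specializes_iff_mem_closure, hζ.def]
        exact mem_irreducibleComponent
      have h3 : (Curv2.bcFst k X K).base ζ ⤳ ξ := by
        have := h2.map (Curv2.bcFst k X K).base.hom.continuous
        rwa [hy'ξ] at this
      have h4 : closure {(Curv2.bcFst k X K).base ζ} ⊆ T := by
        apply hT.2 (isIrreducible_singleton.closure)
        rw [← hξ.def]
        exact h3.closure_subset
      intro z hz
      have h5 : ζ ⤳ z := by
        rw [specializes_iff_mem_closure, hζ.def]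
        exact hz
      have h6 := h5.map (Curv2.bcFst k X K).base.hom.continuous
      exact h4 h6.mem_closure
    · exact hy'y.mem_closed hZcl mem_irreducibleComponent
  · rintro y ⟨Z, ⟨_, hZ⟩, hy⟩
    exact hZ hy

end Groth.Agent.S7595
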