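import Groth.Statements.S7600
import Groth.Agent.Lib.Helper14.GeomAt
import Groth.Agent.Lib.Helper4.HznNormal

set_option autoImplicit false
universe u
open CategoryTheory CategoryTheory.Limits AlgebraicGeometry
open Variety

namespace Groth.Agent.S7600

/-- (2) ⇒ (1): let X be a scheme over a field k, k' an extension field of k and x' a point of X_{k'}
with image x in X. If X_{k'} is geometrically normal at x' over k' (for every extension field k'' of
k' and every point x'' of (X_{k'})_{k''} over x' the local ring at x'' is an integrally closed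
domain), then X is geometrically normal at x over k. -/
theorem result (k : Type u) [Field k] (X : Scheme.{u}) [X.Over (Spec (CommRingCat.of k))] (k' : Type u) [Field k'] [Algebra k k'] (x' : ↥(Curv2.bc k X k'))
    (h : letI : (Curv2.bc k X k').Over (Spec (CommRingCat.of k')) := ⟨Curv2.bcSnd k X k'⟩
      ∀ (k'' : Type u) [Field k''] [Algebra k' k''] (x'' : ↥(Curv2.bc k' (Curv2.bc k X k') k'')), Curv2.bcFst k' (Curv2.bc k X k') k'' x'' = x' →
          IsDomain ↥((Curv2.bc k' (Curv2.bc k X k') k'').presheaf.stalk x'') ∧ IsIntegrallyClosed ↥((Curv2.bc k' (Curv2.bc k X k') k'').presheaf.stalk x'')) :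
    ∀ (K : Type u) [Field K] [Algebra k K] (y : ↥(Curv2.bc k X K)), Curv2.bcFst k X K y = (Curv2.bcFst k X k' x') →
          IsDomain ↥((Curv2.bc k X K).presheaf.stalk y) ∧ IsIntegrallyClosed ↥((Curv2.bc k X K).presheaf.stalk y) := by
  have hP : ∀ {R S : Type u} [CommRing R] [CommRing S] (φ : R →+* S), φ.FaithfullyFlat →
      (IsDomain S ∧ IsIntegrallyClosed S) → (IsDomain R ∧ IsIntegrallyClosed R) := by
    intro R S _ _ φ hφ hS
    algebraize [φ]
    have : Module.FaithfullyFlat R S := hφ
    have := hS.1
    have := hS.2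
    exact Groth.Agent.Lib.Helper4.Hzn.isDomain_and_isIntegrallyClosed_of_faithfullyFlat R S
  exact Groth.Agent.Lib.Helper14.AS.geomAt_of_bcStr
    (fun R _ => IsDomain R ∧ IsIntegrallyClosed R) hP (X ↘ Spec (CommRingCat.of k)) k' _ x' rfl h

end Groth.Agent.S7600
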