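import Groth.Statements.S7601
import Groth.Agent.Lib.Helper1.FPS3
import Groth.Agent.Lib.Helper1.NormalTensor6

set_option autoImplicit false
universe u
open CategoryTheory CategoryTheory.Limits AlgebraicGeometry
open Variety

namespace Groth.Agent.S7601

/-- Let X be a geometrically normal scheme over a field k (X_K is a normal scheme for every extension
field K of k) and Y a normal scheme over k. Then X ×_k Y is a normal scheme. -/
theorem result (k : Type u) [Field k] (X : Scheme.{u}) [X.Over (Spec (CommRingCat.of k))] (Y : Scheme.{u}) [Y.Over (Spec (CommRingCat.of k))]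
    (hX : ∀ (K : Type u) [Field K] [Algebra k K], Pi1.IsNormalScheme (Curv2.bc k X K)) (hY : Pi1.IsNormalScheme Y) :
    Pi1.IsNormalScheme (pullback (X ↘ (Spec (CommRingCat.of k))) (Y ↘ (Spec (CommRingCat.of k)))) := by
  intro z
  obtain ⟨A, _, _, iA, _, a, hA, ha⟩ := Groth.Agent.Lib.Helper1.FPS.exists_affine_chart
    (X ↘ Spec (CommRingCat.of k))
    ((pullback.fst (X ↘ Spec (CommRingCat.of k)) (Y ↘ Spec (CommRingCat.of k))).base z)
  obtain ⟨B, _, _, iB, _, b, hB, hb⟩ := Groth.Agent.Lib.Helper1.FPS.exists_affine_chart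
    (Y ↘ Spec (CommRingCat.of k))
    ((pullback.snd (X ↘ Spec (CommRingCat.of k)) (Y ↘ Spec (CommRingCat.of k))).base z)
  obtain ⟨Q, -, -, ⟨e⟩⟩ := Groth.Agent.Lib.Helper1.FPS.exists_prime_stalk_equiv
    (X ↘ Spec (CommRingCat.of k)) (Y ↘ Spec (CommRingCat.of k)) iA iB hA hB z a b ha hb
  have hBn : EGA4.IsNormalRing B :=
    Groth.Agent.Lib.Helper1.FPS.isNormalRing_of_isNormalScheme iB hY
  have hAg : EGA4.IsGeomNormal k A := by
    intro k' _ _ hfin
    have h1 : EGA4.IsNormalRing (TensorProduct k A k') :=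
      Groth.Agent.Lib.Helper1.FPS.isNormalRing_tensor_of_isNormalScheme
        (X ↘ Spec (CommRingCat.of k)) (Spec.map (CommRingCat.ofHom (algebraMap k k')))
        iA (𝟙 _) hA (Category.id_comp _).symm (hX k')
    exact Groth.Agent.Lib.Helper18.FormFib.isNormalRing_of_ringEquiv
      (Algebra.TensorProduct.comm k A k').toRingEquiv h1
  have h2 := Groth.Agent.Lib.Helper1.NormalTensor.isNormalRing_tensor k A B hAg hBn Q.asIdeal
  exact Groth.Agent.Lib.Helper1.FPS.normalPair_of_ringEquiv e h2

end Groth.Agent.S7601
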