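import Groth.Statements.S7602
import Groth.Agent.Lib.Helper1.FPS3
import Groth.Agent.Lib.Helper1.NormalField

set_option autoImplicit false
universe u
open CategoryTheory CategoryTheory.Limits AlgebraicGeometry
open Variety

namespace Groth.Agent.S7602

/-- Let X be a normal scheme over a field k and K an extension field of k which is separable over k in
the sense that Spec K → Spec k is geometrically reduced (K ⊗_k k' reduced for every field k' over
k). Then X_K is a normal scheme. -/
theorem result (k : Type u) [Field k] (X : Scheme.{u}) [X.Over (Spec (CommRingCat.of k))] (hX : Pi1.IsNormalScheme X)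
    (K : Type u) [Field K] [Algebra k K] [GeometricallyReduced (Spec.map (CommRingCat.ofHom (algebraMap k K)))] :
    Pi1.IsNormalScheme (Curv2.bc k X K) := by
  have hgr : Algebra.IsGeometricallyReduced k K := by
    rw [Algebra.isGeometricallyReduced_field_iff]
    have h1 : geometrically IsReduced (Spec.map (CommRingCat.ofHom (algebraMap k K))) :=
      (geometricallyReduced_iff _).mp inferInstance
    have h2 : IsReduced (pullback (Spec.map (CommRingCat.ofHom (algebraMap k K)))
        (Spec.map (CommRingCat.ofHom (algebraMap k (AlgebraicClosure k))))) :=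
      (geometrically_iff_of_commRing.mp h1) _ _ (IsPullback.of_hasPullback _ _)
    have h3 : IsReduced (Spec (CommRingCat.of (TensorProduct k K (AlgebraicClosure k)))) :=
      isReduced_of_isOpenImmersion (pullbackSpecIso k K (AlgebraicClosure k)).inv
    have h4 : _root_.IsReduced (TensorProduct k K (AlgebraicClosure k)) :=
      (affine_isReduced_iff _).mp h3
    exact isReduced_of_injective (Algebra.TensorProduct.comm k (AlgebraicClosure k) K).toRingHom
      (Algebra.TensorProduct.comm k (AlgebraicClosure k) K).injective
  intro z
  obtain ⟨A, _, _, iA, _, a, hA, ha⟩ := Groth.Agent.Lib.Helper1.FPS.exists_affine_chart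
    (X ↘ Spec (CommRingCat.of k)) ((Curv2.bcFst k X K).base z)
  obtain ⟨Q, -, -, ⟨e⟩⟩ := Groth.Agent.Lib.Helper1.FPS.exists_prime_stalk_equiv
    (X ↘ Spec (CommRingCat.of k)) (Spec.map (CommRingCat.ofHom (algebraMap k K))) iA (𝟙 _) hA
    (Category.id_comp _).symm z a ((Curv2.bcSnd k X K).base z) ha rfl
  have hAn : EGA4.IsNormalRing A :=
    Groth.Agent.Lib.Helper1.FPS.isNormalRing_of_isNormalScheme iA hX
  have h1 : EGA4.IsNormalRing (TensorProduct k K A) :=
    Groth.Agent.Lib.Helper1.NormalField.isNormalRing_tensor_of_isGeometricallyReduced k K A hAn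
  have h2 : EGA4.IsNormalRing (TensorProduct k A K) :=
    Groth.Agent.Lib.Helper18.FormFib.isNormalRing_of_ringEquiv
      (Algebra.TensorProduct.comm k K A).toRingEquiv h1
  exact Groth.Agent.Lib.Helper1.FPS.normalPair_of_ringEquiv e (h2 Q.asIdeal)

end Groth.Agent.S7602
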