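import Groth.Statements.S7603
import Groth.Agent.Lib.Helper1.ConnIrr

set_option autoImplicit false
universe u
open CategoryTheory CategoryTheory.Limits AlgebraicGeometry
open Variety

namespace Groth.Agent.S7603

/-- (2) ⇔ (3): let X be a proper scheme over a field k which is geometrically normal (X_K is a normal
scheme for every extension field K of k). Then X is geometrically connected over k exactly when it
is geometrically irreducible over k. (The published statement lists geometric integrality as a
further equivalent condition; given geometric normality it is equivalent to geometric irreducibility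
by a direct argument, so this row omits it.) -/
theorem result (k : Type u) [Field k] (X : Scheme.{u}) [X.Over (Spec (CommRingCat.of k))] [IsProper (X ↘ (Spec (CommRingCat.of k)))]
    (hX : ∀ (K : Type u) [Field K] [Algebra k K], Pi1.IsNormalScheme (Curv2.bc k X K)) :
    GeometricallyConnected (X ↘ (Spec (CommRingCat.of k))) ↔ GeometricallyIrreducible (X ↘ (Spec (CommRingCat.of k))) := by
  constructor
  · intro h
    refine ⟨geometrically_iff_of_isClosedUnderIsomorphisms.mpr fun K _ y => ?_⟩
    letI : Algebra k K := (Spec.preimage y).hom.toAlgebra
    have hy : y = Spec.map (CommRingCat.ofHom (algebraMap k K)) := (Spec.map_preimage y).symm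
    rw [hy]
    haveI : ConnectedSpace ↥(Curv2.bc k X K) :=
      GeometricallyConnected.geometrically_connectedSpace _ _ _ (IsPullback.of_hasPullback _ _)
    haveI : LocallyOfFiniteType (Curv2.bcSnd k X K) :=
      inferInstanceAs (LocallyOfFiniteType (pullback.snd (X ↘ Spec (CommRingCat.of k))
        (Spec.map (CommRingCat.ofHom (algebraMap k K)))))
    haveI : IsLocallyNoetherian (Curv2.bc k X K) :=
      LocallyOfFiniteType.isLocallyNoetherian (Curv2.bcSnd k X K)
    exact Groth.Agent.Lib.Helper1.ConnIrr.irreducibleSpace_of_connected (Curv2.bc k X K)
      (fun x => (hX K x).1)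
  · intro h
    exact Groth.Agent.Lib.Helper1.GeomIrrSep.geometricallyConnected_of_geometricallyIrreducible _

end Groth.Agent.S7603
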