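import Groth.Statements.S7614
import Groth.Agent.Lib.Helper25.QAff
-- import your own Groth.Agent.* helpers here

set_option autoImplicit false
universe u
open CategoryTheory CategoryTheory.Limits AlgebraicGeometry
open Variety

namespace Groth.Agent.S7614

/-- Let X be a scheme over a field k and K an extension field of k. If X_K is quasi-affine, then X is
quasi-affine. -/
theorem result (k : Type u) [Field k] (X : Scheme.{u}) [X.Over (Spec (CommRingCat.of k))] (K : Type u) [Field K] [Algebra k K]
    [(Curv2.bc k X K).IsQuasiAffine] : X.IsQuasiAffine := by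
  have hX : (Curv2.bc k X K).IsQuasiAffine := inferInstance
  let φ : CommRingCat.of k ⟶ CommRingCat.of K := CommRingCat.ofHom (algebraMap k K)
  have hflat : Flat (Spec.map φ) := by
    rw [Flat.SpecMap_iff]
    exact (RingHom.flat_algebraMap_iff).mpr inferInstance
  have hsurj : Surjective (Spec.map φ) := by
    constructor
    intro x
    have : Nonempty (Spec (CommRingCat.of K)) := inferInstance
    obtain ⟨y⟩ := this
    exact ⟨y, Subsingleton.elim _ _⟩
  let P : Scheme.{u} := Limits.pullback (Spec.map φ) (X ↘ Spec (CommRingCat.of k))
  let e : P ≅ Curv2.bc k X K := pullbackSymmetry _ _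
  have hP : P.IsQuasiAffine := by
    have : CompactSpace P := e.hom.homeomorph.symm.compactSpace
    exact Scheme.IsQuasiAffine.of_isImmersion e.hom
  exact Groth.Agent.Lib.Helper25.QAff.isQuasiAffine_of_pullback_fst_Spec φ
    (X ↘ Spec (CommRingCat.of k)) ⟨hsurj, hflat⟩ hP

end Groth.Agent.S7614
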