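import Groth.Statements.S7615
import Groth.Agent.Lib.Helper21.GeomConnSch
import Groth.Agent.Lib.Helper21.SepRed
-- import your own Groth.Agent.* helpers here

set_option autoImplicit false
universe u
open CategoryTheory CategoryTheory.Limits AlgebraicGeometry
open Variety

namespace Groth.Agent.S7615

/-- Let X be a proper variety over a field k (integral, separated, of finite type and proper over k) and
K = H^0(X, O_X), a k-algebra via the structure morphism. Then K is a field, finite over k; K/k is
separable when X is geometrically reduced over k, and purely inseparable when X is geometrically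
irreducible over k. -/
theorem result (k : Type u) [Field k] (X : Scheme.{u}) [X.Over (Spec (CommRingCat.of k))] [IsIntegral X] [IsProper (X ↘ (Spec (CommRingCat.of k)))] :
    letI := ((X ↘ (Spec (CommRingCat.of k))).appTop.hom.comp (Scheme.ΓSpecIso (CommRingCat.of k)).inv.hom : k →+* Γ(X, ⊤)).toAlgebra
    IsField ↑Γ(X, ⊤) ∧ Module.Finite k ↑Γ(X, ⊤) ∧
      (GeometricallyReduced (X ↘ (Spec (CommRingCat.of k))) → Algebra.IsSeparable k ↑Γ(X, ⊤)) ∧
      (GeometricallyIrreducible (X ↘ (Spec (CommRingCat.of k))) → IsPurelyInseparable k ↑Γ(X, ⊤)) := by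
  classical
  letI : Algebra k Γ(X, ⊤) := ((X ↘ (Spec (CommRingCat.of k))).appTop.hom.comp
    (Scheme.ΓSpecIso (CommRingCat.of k)).inv.hom : k →+* Γ(X, ⊤)).toAlgebra
  set f := X ↘ (Spec (CommRingCat.of k)) with hf
  have halg : algebraMap k Γ(X, ⊤) = ((Scheme.ΓSpecIso (CommRingCat.of k)).inv ≫ f.appTop).hom := rfl
  have hfield := isField_of_universallyClosed k f
  have hfin : Module.Finite k Γ(X, ⊤) := by
    have h1 : f.appTop.hom.Finite := finite_appTop_of_universallyClosed k f
    have h2 : ((Scheme.ΓSpecIso (CommRingCat.of k)).inv.hom).Finite :=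
      RingHom.Finite.of_surjective _
        ((ConcreteCategory.isIso_iff_bijective (Scheme.ΓSpecIso (CommRingCat.of k)).inv).mp
          inferInstance).2
    exact RingHom.Finite.comp h1 h2
  haveI := hfin
  haveI : Algebra.IsIntegral k Γ(X, ⊤) := Algebra.IsIntegral.of_finite k _
  refine ⟨hfield, hfin, ?_, ?_⟩
  · intro hgr
    letI : Field Γ(X, ⊤) := hfield.toField
    let Ω := AlgebraicClosure k
    let y : Spec (CommRingCat.of Ω) ⟶ Spec (CommRingCat.of k) :=
      Spec.map (CommRingCat.ofHom (algebraMap k Ω))
    have H := IsPullback.of_hasPullback f y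
    haveI : IsReduced (Limits.pullback f y) :=
      GeometricallyReduced.geometrically_isReduced (f := f) y _ _ H
    obtain ⟨e⟩ := Groth.Agent.Lib.Helper21.GeomConnSch.nonempty_ringEquiv_tensor k Ω f _ _ H halg
    haveI : _root_.IsReduced (TensorProduct k Ω Γ(X, ⊤)) :=
      isReduced_of_injective e.toRingHom e.injective
    haveI : Algebra.IsAlgebraic k Γ(X, ⊤) := Algebra.IsAlgebraic.of_finite k _
    exact Groth.Agent.Lib.Helper21.SepRed.isSeparable_of_isReduced_tensor k Γ(X, ⊤) Ω
  · intro hgi
    letI : Field Γ(X, ⊤) := hfield.toField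
    haveI hgc : GeometricallyConnected f :=
      ⟨fun K _ y Z fst snd H => by
        haveI : IrreducibleSpace Z := hgi.geometrically_irreducibleSpace y fst snd H
        infer_instance⟩
    obtain ⟨-, hK⟩ :=
      (Groth.Agent.Lib.Helper21.GeomConnSch.geometricallyConnected_iff k f halg).mp hgc
    haveI := Groth.Agent.Lib.Helper21.GeomConnAlg.isPurelyInseparable_residueField k Γ(X, ⊤) hK
    let res : Γ(X, ⊤) →ₐ[k] IsLocalRing.ResidueField Γ(X, ⊤) :=
      IsScalarTower.toAlgHom k Γ(X, ⊤) (IsLocalRing.ResidueField Γ(X, ⊤))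
    have hbij : Function.Bijective res :=
      ⟨(res : Γ(X, ⊤) →+* IsLocalRing.ResidueField Γ(X, ⊤)).injective,
        IsLocalRing.residue_surjective⟩
    exact (AlgEquiv.ofBijective res hbij).symm.isPurelyInseparable

end Groth.Agent.S7615
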