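import Groth.Statements.S7618
import Mathlib
import Groth.Agent.Lib.Helper6.IntegralField
-- import your own Groth.Agent.* helpers here

set_option autoImplicit false
universe u
open CategoryTheory CategoryTheory.Limits AlgebraicGeometry
open Variety

namespace Groth.Agent.S7618

/-- Let X be a connected reduced scheme over a field k. Then the global functions on X that are integral
over k form a field. -/
theorem result (k : Type u) [Field k] (X : Scheme.{u}) [X.Over (Spec (CommRingCat.of k))] [ConnectedSpace ↥X] [IsReduced X] :
    letI := ((X ↘ (Spec (CommRingCat.of k))).appTop.hom.comp (Scheme.ΓSpecIso (CommRingCat.of k)).inv.hom : k →+* Γ(X, ⊤)).toAlgebra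
    IsField ↥(integralClosure k ↑Γ(X, ⊤)) := by
  letI := ((X ↘ (Spec (CommRingCat.of k))).appTop.hom.comp (Scheme.ΓSpecIso (CommRingCat.of k)).inv.hom : k →+* Γ(X, ⊤)).toAlgebra
  have hne : Nonempty ↥X := inferInstance
  have : Nontrivial ↑Γ(X, ⊤) := @Scheme.component_nontrivial X ⊤ ⟨⟨hne.some, trivial⟩⟩
  have : _root_.IsReduced ↑Γ(X, ⊤) := inferInstance
  have : _root_.IsReduced ↥(integralClosure k ↑Γ(X, ⊤)) :=
    isReduced_of_injective (integralClosure k ↑Γ(X, ⊤)).val Subtype.val_injective
  refine Groth.Agent.Lib.Helper6.IntegralField.isField_of_isIntegral_of_idempotent_trivial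
    (k := k) ?_
  intro e he
  have he' : IsIdempotentElem (e : ↑Γ(X, ⊤)) := by
    have := congrArg Subtype.val he.eq
    exact this
  rcases Groth.Agent.Lib.Helper6.IntegralField.idempotent_trivial_of_connected X _ he' with h | h
  · left; exact Subtype.ext h
  · right; exact Subtype.ext h

end Groth.Agent.S7618
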