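import Groth.Statements.S7619
import Groth.Agent.Lib.Helper25.UnramAtPoly

set_option autoImplicit false
universe u
open CategoryTheory CategoryTheory.Limits AlgebraicGeometry
open scoped TensorProduct
open Variety

namespace Groth.Agent.S7619

/-- Let A → B be a finite type ring map (a finite type morphism of affine schemes), q a prime of B and r
= dim_{κ(q)} Ω_{B/A} ⊗_B κ(q). Then there is an A-algebra homomorphism A[x_1, …, x_r] → B for which
B is unramified over A[x_1, …, x_r] at q. -/
theorem result (A B : Type u) [CommRing A] [CommRing B] [Algebra A B] [Algebra.FiniteType A B]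
    (q : Ideal B) [q.IsPrime] (r : ℕ) (hr : Module.finrank q.ResidueField (q.ResidueField ⊗[B] Ω[B⁄A]) = r) :
    ∃ φ : MvPolynomial (Fin r) A →ₐ[A] B,
      letI := φ.toRingHom.toAlgebra
      Algebra.IsUnramifiedAt (MvPolynomial (Fin r) A) q := by
  classical
  set κ := q.ResidueField with hκ
  set S : Set (κ ⊗[B] Ω[B⁄A]) :=
    Set.range (fun b : B => (1 : κ) ⊗ₜ[B] KaehlerDifferential.D A B b) with hS
  have hSspan : Submodule.span κ S = ⊤ := by
    rw [eq_top_iff]
    rintro z -
    induction z using TensorProduct.induction_on with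
    | zero => exact Submodule.zero_mem _
    | add x y hx hy => exact Submodule.add_mem _ hx hy
    | tmul c m =>
      have hm : m ∈ Submodule.span B (Set.range (KaehlerDifferential.D A B)) := by
        rw [KaehlerDifferential.span_range_derivation]; trivial
      induction hm using Submodule.span_induction with
      | mem y hy =>
        obtain ⟨b, rfl⟩ := hy
        have : c ⊗ₜ[B] KaehlerDifferential.D A B b =
            c • ((1 : κ) ⊗ₜ[B] KaehlerDifferential.D A B b) := by
          rw [TensorProduct.smul_tmul', smul_eq_mul, mul_one]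
        rw [this]
        exact Submodule.smul_mem _ _ (Submodule.subset_span ⟨b, rfl⟩)
      | zero => rw [TensorProduct.tmul_zero]; exact Submodule.zero_mem _
      | add y z _ _ hy hz => rw [TensorProduct.tmul_add]; exact Submodule.add_mem _ hy hz
      | smul b y _ hy =>
        rw [TensorProduct.tmul_smul, ← algebraMap_smul κ b]
        exact Submodule.smul_mem _ _ hy
  obtain ⟨f, hfS, hfspan, -⟩ := Submodule.exists_fun_fin_finrank_span_eq κ S
  have hd : Module.finrank κ (Submodule.span κ S) = r := by
    rw [hSspan, finrank_top]; exact hr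
  choose b hb using hfS
  let b' : Fin r → B := fun i => b (Fin.cast hd.symm i)
  let φ : MvPolynomial (Fin r) A →ₐ[A] B := MvPolynomial.aeval b'
  refine ⟨φ, ?_⟩
  letI : Algebra (MvPolynomial (Fin r) A) B := φ.toRingHom.toAlgebra
  have htower : IsScalarTower A (MvPolynomial (Fin r) A) B :=
    IsScalarTower.of_algebraMap_eq fun a => (φ.commutes a).symm
  have hft : Algebra.FiniteType (MvPolynomial (Fin r) A) B :=
    Algebra.FiniteType.of_restrictScalars_finiteType A _ _
  apply Groth.Agent.Lib.Helper25.UnramAtPoly.isUnramifiedAt_of_span_eq_top A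
    (MvPolynomial (Fin r) A) B q (fun i : Fin r => (MvPolynomial.X i : MvPolynomial (Fin r) A))
  rw [eq_top_iff]
  intro z _
  have hz : z ∈ Submodule.span κ (Set.range f) := by rw [hfspan, hSspan]; trivial
  refine (Submodule.span_mono ?_) hz
  rintro _ ⟨j, rfl⟩
  refine ⟨Fin.cast hd j, ?_⟩
  rw [← hb j]
  change (1 : κ) ⊗ₜ[B] KaehlerDifferential.D A B (φ (MvPolynomial.X (Fin.cast hd j))) = _
  simp only [φ, MvPolynomial.aeval_X, b']
  rfl


end Groth.Agent.S7619
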