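import Groth.Statements.S7622
import Mathlib
import Groth.Agent.Lib.Helper23.CohenEq
import Groth.Agent.Lib.Helper23.FieldSep

set_option autoImplicit false
universe u
open CategoryTheory CategoryTheory.Limits AlgebraicGeometry
open Variety

namespace Groth.Agent.S7622

open IsLocalRing

theorem main (k A : Type u) [Field k] [CommRing A] [Algebra k A]
    [IsNoetherianRing A] [IsLocalRing A] [Algebra.IsGeometricallyReduced k (IsLocalRing.ResidueField A)] :
    ∃ (n : ℕ) (I : Ideal (MvPowerSeries (Fin n) (IsLocalRing.ResidueField A)))
      (e : (MvPowerSeries (Fin n) (IsLocalRing.ResidueField A) ⧸ I) ≃ₐ[k]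
        AdicCompletion (IsLocalRing.maximalIdeal A) A),
      ∀ a : A, e (Ideal.Quotient.mk I (MvPowerSeries.C (IsLocalRing.residue A a))) -
          algebraMap A (AdicCompletion (IsLocalRing.maximalIdeal A) A) a ∈
        (IsLocalRing.maximalIdeal A).map (algebraMap A (AdicCompletion (IsLocalRing.maximalIdeal A) A)) := by
  let Ah := AdicCompletion (maximalIdeal A) A
  haveI : IsNoetherianRing Ah := Groth.Agent.Lib.Helper23.CohenEq.isNoetherianRing_adicCompletion
  -- the residue field iso
  let ι : ResidueField A ≃+* ResidueField Ah :=
    RingEquiv.ofBijective (ResidueField.map (algebraMap A Ah)) (AdicCompletion.residueField_map_bijective A)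
  have hιk : ∀ c : k, ι (algebraMap k (ResidueField A) c) = algebraMap k (ResidueField Ah) c := by
    intro c
    change ResidueField.map (algebraMap A Ah) (residue A (algebraMap k A c)) = residue Ah (algebraMap k Ah c)
    rw [ResidueField.map_residue, ← IsScalarTower.algebraMap_apply k A Ah]
  let ιₐ : ResidueField A ≃ₐ[k] ResidueField Ah := { ι with commutes' := hιk }
  have hfs : Algebra.FormallySmooth k (ResidueField A) :=
    (Groth.Agent.Lib.Helper23.FieldSep.formallySmooth_iff_isGeometricallyReduced k _).mpr inferInstance
  have hfs' : Algebra.FormallySmooth k (ResidueField Ah) := Algebra.FormallySmooth.of_equiv ιₐ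
  obtain ⟨u, hu⟩ := Groth.Agent.Lib.Helper23.CohenEq.exists_section_algHom k Ah
  obtain ⟨n, v, hv, -, hvC⟩ := Groth.Agent.Lib.Helper23.CohenEq.exists_surjective_powerSeries Ah
    (u : ResidueField Ah →+* Ah) hu
  let E := Groth.Agent.Lib.Helper23.CohenEq.mvPowerSeriesMapEquiv (Fin n) ι
  let w₀ : MvPowerSeries (Fin n) (ResidueField A) →+* Ah := v.comp (E : _ →+* _)
  have hw₀C : ∀ y, w₀ (MvPowerSeries.C y) = u (ι y) := by
    intro y
    simp only [w₀, RingHom.comp_apply, RingHom.coe_coe]
    rw [Groth.Agent.Lib.Helper23.CohenEq.mvPowerSeriesMapEquiv_C, hvC]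
    rfl
  let w : MvPowerSeries (Fin n) (ResidueField A) →ₐ[k] Ah :=
    { w₀ with
      commutes' := fun c => by
        change w₀ (algebraMap k (MvPowerSeries (Fin n) (ResidueField A)) c) = _
        rw [MvPowerSeries.algebraMap_apply, hw₀C]
        erw [hιk]
        exact u.commutes c }
  have hw : Function.Surjective w := hv.comp E.surjective
  refine ⟨n, RingHom.ker w, Ideal.quotientKerAlgEquivOfSurjective hw, fun a => ?_⟩
  rw [← AdicCompletion.maximalIdeal_eq_map]
  change w (MvPowerSeries.C (residue A a)) - algebraMap A Ah a ∈ maximalIdeal Ah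
  change w₀ (MvPowerSeries.C (residue A a)) - algebraMap A Ah a ∈ maximalIdeal Ah
  rw [hw₀C, ← residue_eq_zero_iff, map_sub, hu, sub_eq_zero]
  change ResidueField.map (algebraMap A Ah) (residue A a) = _
  rw [ResidueField.map_residue]


/-- Let A be a Noetherian local algebra over a field k (such as the local ring of a locally Noetherian
k-scheme at a point) whose residue field κ is a separable extension of k, meaning geometrically
reduced over k; κ need not be algebraic over k. Then there are n ≥ 0, an ideal I of κ[[x_1, …, x_n]]
and a k-algebra isomorphism e from κ[[x_1, …, x_n]]/I onto the completion A^∧ of A at its maximal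
ideal which induces the identity on residue fields: for every a in A, the value of e on the constant
power series whose value is the residue class of a is congruent to the image of a modulo the
extended maximal ideal of A^∧. -/
theorem result (k A : Type u) [Field k] [CommRing A] [Algebra k A]
    [IsNoetherianRing A] [IsLocalRing A] [Algebra.IsGeometricallyReduced k (IsLocalRing.ResidueField A)] :
    ∃ (n : ℕ) (I : Ideal (MvPowerSeries (Fin n) (IsLocalRing.ResidueField A)))
      (e : (MvPowerSeries (Fin n) (IsLocalRing.ResidueField A) ⧸ I) ≃ₐ[k]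
        AdicCompletion (IsLocalRing.maximalIdeal A) A),
      ∀ a : A, e (Ideal.Quotient.mk I (MvPowerSeries.C (IsLocalRing.residue A a))) -
          algebraMap A (AdicCompletion (IsLocalRing.maximalIdeal A) A) a ∈
        (IsLocalRing.maximalIdeal A).map (algebraMap A (AdicCompletion (IsLocalRing.maximalIdeal A) A)) := by
  exact main k A

end Groth.Agent.S7622
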