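import Groth.Statements.S7625
import Mathlib
import Groth.Agent.Lib.Helper6.QFac3
-- import your own Groth.Agent.* helpers here

set_option autoImplicit false
universe u
open CategoryTheory CategoryTheory.Limits AlgebraicGeometry
open Variety

namespace Groth.Agent.S7625

/-- Let f : X → S be locally of finite type, x a point of X with image s, V an affine open neighbourhood
of s in S, and suppose dim_x(X_s) = d. Then there is an affine open neighbourhood U of x with f(U) ⊆
V and a factorisation of f|_U as U → 𝔸^d_V → V with U → 𝔸^d_V locally quasi-finite and locally of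
finite type (hence quasi-finite, U being affine). -/
theorem result {X S : Scheme.{u}} (f : X ⟶ S) [LocallyOfFiniteType f] (x : ↥X)
    (V : S.Opens) (hV : IsAffineOpen V) (hxV : f x ∈ V) (d : ℕ) (hd : FlatMor.fibreDimAt f x = d) :
    ∃ (U : X.Opens), IsAffineOpen U ∧ x ∈ U ∧
      ∃ (g : (U : Scheme.{u}) ⟶ (V : Scheme.{u})) (π : (U : Scheme.{u}) ⟶ 𝔸(ULift.{u} (Fin d); (V : Scheme.{u}))),
        g ≫ V.ι = U.ι ≫ f ∧ π ≫ (𝔸(ULift.{u} (Fin d); (V : Scheme.{u})) ↘ (V : Scheme.{u})) = g ∧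
          LocallyQuasiFinite π ∧ LocallyOfFiniteType π := by
  obtain ⟨U, hU, e, hxU, -, φ, hφC, hφ⟩ :=
    Groth.Agent.Lib.Helper6.QFac.exists_affine_quasiFinite f x V hV hxV ⊤ trivial d hd.le
  haveI : IsOpenImmersion (AffineSpace.map (ULift.{u} (Fin d)) hV.isoSpec.inv) :=
    MorphismProperty.of_isPullback (P := @IsOpenImmersion)
      (AffineSpace.isPullback_map (n := ULift.{u} (Fin d)) hV.isoSpec.inv).flip inferInstance
  haveI : LocallyQuasiFinite (Spec.map (CommRingCat.ofHom φ)) := by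
    rw [HasRingHomProperty.Spec_iff (P := @LocallyQuasiFinite)]
    exact hφ
  have hcomp : (hU.isoSpec.hom ≫ Spec.map (CommRingCat.ofHom φ) ≫
      (AffineSpace.SpecIso (ULift.{u} (Fin d)) Γ(S, V)).inv ≫
        AffineSpace.map (ULift.{u} (Fin d)) hV.isoSpec.inv) ≫
      (𝔸(ULift.{u} (Fin d); (V : Scheme.{u})) ↘ (V : Scheme.{u})) = f.resLE V U e := by
    rw [← cancel_mono V.ι, Scheme.Hom.resLE_comp_ι]
    simp only [Category.assoc]
    rw [AffineSpace.map_over_assoc, AffineSpace.SpecIso_inv_over_assoc, ← Spec.map_comp_assoc]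
    have h1 : CommRingCat.ofHom MvPolynomial.C ≫ CommRingCat.ofHom φ = f.appLE V U e := by
      ext a
      exact congrArg (fun ψ : Γ(S, V) →+* Γ(X, U) => ψ a) hφC
    have h2 : hV.isoSpec.inv ≫ V.ι = hV.fromSpec := rfl
    rw [h1, h2, IsAffineOpen.SpecMap_appLE_fromSpec f hV hU e]
    unfold IsAffineOpen.fromSpec
    simp
  refine ⟨U, hU, hxU, f.resLE V U e, hU.isoSpec.hom ≫ Spec.map (CommRingCat.ofHom φ) ≫
    (AffineSpace.SpecIso (ULift.{u} (Fin d)) Γ(S, V)).inv ≫
      AffineSpace.map (ULift.{u} (Fin d)) hV.isoSpec.inv, Scheme.Hom.resLE_comp_ι f e, hcomp,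
    inferInstance, ?_⟩
  haveI : LocallyOfFiniteType ((hU.isoSpec.hom ≫ Spec.map (CommRingCat.ofHom φ) ≫
      (AffineSpace.SpecIso (ULift.{u} (Fin d)) Γ(S, V)).inv ≫
        AffineSpace.map (ULift.{u} (Fin d)) hV.isoSpec.inv) ≫
      (𝔸(ULift.{u} (Fin d); (V : Scheme.{u})) ↘ (V : Scheme.{u}))) := by
    rw [hcomp]; infer_instance
  exact locallyOfFiniteType_of_comp _ (𝔸(ULift.{u} (Fin d); (V : Scheme.{u})) ↘ (V : Scheme.{u}))

end Groth.Agent.S7625
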