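import Groth.Statements.S7636
import Groth.Agent.S7673
import Groth.Agent.Lib.Helper2.DegAdd.Basic

set_option autoImplicit false
universe u
open CategoryTheory CategoryTheory.Limits AlgebraicGeometry
open Variety

namespace Groth.Agent.S7636

/-- Let X be proper of dimension at most one over a field k, let k' be a field extension of k and let E
be a finite locally free module of rank n on X. Then the degree of the pullback of E to the base
change X_{k'}, computed over k', equals the degree of E over k. -/
theorem result (k : Type u) [Field k] (X : Scheme.{u}) [X.Over (Spec (CommRingCat.of k))] [IsProper (X ↘ (Spec (CommRingCat.of k)))]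
    (hdim : topologicalKrullDim X ≤ 1) (k' : Type u) [Field k'] [Algebra k k']
    (n : ℕ) (E : X.Modules) (hE : FlatMod.IsFinLocFreeOfRank n E) :
    @Curv2.deg k' _ (Curv2.bc k X k') ⟨Curv2.bcSnd k X k'⟩
        ((Scheme.Modules.pullback (Curv2.bcFst k X k')).obj E) n = Curv2.deg k X E n := by
  have hEc : Coh.IsCoh E := Groth.Agent.Lib.Helper2.DegAdd.isCoh_of_isFinLocFreeOfRank hE
  have hOc : Coh.IsCoh (Coh.structureModule X) :=
    ⟨Groth.Agent.Lib.Helper29.QCoh.isQuasicoherent_of_isInvertible
        (Groth.Agent.Lib.Helper29.QCoh.isInvertible_unit X),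
      Groth.Agent.Lib.Helper29.QCoh.isFiniteType_of_isInvertible
        (Groth.Agent.Lib.Helper29.QCoh.isInvertible_unit X)⟩
  have h1 := Groth.Agent.S7673.result k X k' E hEc
  have h2 := Groth.Agent.S7673.result k X k' (Coh.structureModule X) hOc
  letI : (Curv2.bc k X k').Over (Spec (CommRingCat.of k')) := ⟨Curv2.bcSnd k X k'⟩
  have h3 : Curv2.euler k' (Curv2.bc k X k')
      ((Scheme.Modules.pullback (Curv2.bcFst k X k')).obj (Coh.structureModule X)) =
      Curv2.euler k' (Curv2.bc k X k') (Coh.structureModule (Curv2.bc k X k')) := by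
    unfold Curv2.euler
    congr 1
    funext i
    rw [(Groth.Agent.Lib.Lead.Koszul.HHlinEquiv k'
      (Groth.Agent.Lib.Helper29.QCoh.pullbackUnitIso (Curv2.bcFst k X k')) i).finrank_eq]
  unfold Curv2.deg
  rw [← h3]
  exact congrArg₂ (fun a b : ℤ => a - n * b) h1 h2

end Groth.Agent.S7636
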