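import Groth.Statements.S7644
-- import your own Groth.Agent.* helpers here

set_option autoImplicit false
universe u
open CategoryTheory CategoryTheory.Limits AlgebraicGeometry
open Variety

namespace Groth.Agent.S7644

/-- If X is an irreducible scheme of positive dimension, separated over a field k, and x is a closed
point of X, then the open subscheme obtained by removing x is not proper over k. -/
theorem result (k : Type u) [Field k] (X : Scheme.{u}) [X.Over (Spec (CommRingCat.of k))]
    [IsSeparated (X ↘ (Spec (CommRingCat.of k)))] [IrreducibleSpace X] (hdim : 0 < topologicalKrullDim X)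
    (x : X) (hx : IsClosed ({x} : Set X)) :
    ¬ IsProper (Scheme.Opens.ι (⟨({x} : Set X)ᶜ, hx.isOpen_compl⟩ : X.Opens) ≫ (X ↘ (Spec (CommRingCat.of k)))) := by
  intro hprop
  let U : X.Opens := ⟨({x} : Set X)ᶜ, hx.isOpen_compl⟩
  have hι : IsProper U.ι := IsProper.of_comp U.ι (X ↘ (Spec (CommRingCat.of k)))
  have hcl : IsClosed (Set.range U.ι) := U.ι.isClosedMap.isClosed_range
  have hrange : Set.range U.ι = ({x} : Set X)ᶜ := Scheme.Opens.range_ι U
  rw [hrange, isClosed_compl_iff] at hcl
  -- `{x}` is open, closed and nonempty in an irreducible space: it is everything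
  have hall : ∀ z : X, z = x := by
    intro z
    by_contra hz
    have h1 : (({x} : Set X) ∩ ({x} : Set X)ᶜ).Nonempty :=
      nonempty_preirreducible_inter hcl hx.isOpen_compl ⟨x, rfl⟩ ⟨z, hz⟩
    obtain ⟨w, hw1, hw2⟩ := h1
    exact hw2 hw1
  have hsub : Subsingleton X := ⟨fun a b => (hall a).trans (hall b).symm⟩
  have hsub' : Subsingleton (TopologicalSpace.IrreducibleCloseds X) := by
    refine ⟨fun a b => ?_⟩
    apply TopologicalSpace.IrreducibleCloseds.ext
    obtain ⟨za, hza⟩ := a.isIrreducible.nonempty
    obtain ⟨zb, hzb⟩ := b.isIrreducible.nonempty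
    ext w
    constructor
    · intro _
      rw [Subsingleton.elim w zb]; exact hzb
    · intro _
      rw [Subsingleton.elim w za]; exact hza
  have hle : topologicalKrullDim X ≤ 0 := Order.krullDim_nonpos_of_subsingleton
  exact absurd hdim (not_lt.mpr hle)

end Groth.Agent.S7644
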