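import Groth.Statements.S7651
import Groth.Agent.Lib.Helper9.DimOneLocal

set_option autoImplicit false
universe u
open CategoryTheory CategoryTheory.Limits AlgebraicGeometry
open Variety

namespace Groth.Agent.S7651

open Groth.Agent.Lib.Helper9.DimOneLocal

/-- depth one gives a regular element in the maximal ideal -/
theorem exists_regular_of_depth_eq_one (A : Type u) [CommRing A] [IsLocalRing A]
    (h : LocCoh.depth A A = 1) :
    ∃ g ∈ IsLocalRing.maximalIdeal A, IsSMulRegular A g := by
  classical
  unfold LocCoh.depth LocCoh.idealDepth at h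
  split_ifs at h with h0
  · exact absurd h (by simp)
  · by_contra hcon
    push Not at hcon
    have hle : (⨆ (rs : List A) (_ : RingTheory.Sequence.IsWeaklyRegular A rs ∧
        ∀ r ∈ rs, r ∈ IsLocalRing.maximalIdeal A), (rs.length : ℕ∞)) ≤ 0 := by
      refine iSup_le fun rs => iSup_le fun hrs => ?_
      cases rs with
      | nil => simp
      | cons r rs' =>
        exfalso
        have h1 := ((RingTheory.Sequence.isWeaklyRegular_cons_iff A r rs').mp hrs.1).1
        exact hcon r (hrs.2 r (List.mem_cons_self)) h1
    rw [h] at hle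
    exact absurd hle (by simp)


/-- Let (A, m) be a Noetherian local ring of dimension one and f ∈ m. Then (1) m = √(f), (2) f lies in
no minimal prime of A, and (3) A_f ≅ ∏_{p minimal} A_p as A-algebras, are equivalent; such an f
exists; if A has depth one, for instance if A is reduced, they are also equivalent to (4) f is a
nonzerodivisor and to (5) A → A_f is the localization of A at all its nonzerodivisors; and if A is
reduced they are also equivalent to (6) A_f ≅ ∏_{p minimal} κ(p) as A-algebras. -/
theorem result (A : Type u) [CommRing A] [IsLocalRing A]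
    [IsNoetherianRing A] (hdim : ringKrullDim A = 1) :
    (∃ f ∈ IsLocalRing.maximalIdeal A, ∀ p ∈ minimalPrimes A, f ∉ p) ∧
    ∀ f ∈ IsLocalRing.maximalIdeal A,
      ((IsLocalRing.maximalIdeal A = (Ideal.span {f}).radical) ↔ (∀ p ∈ minimalPrimes A, f ∉ p)) ∧
      ((∀ p ∈ minimalPrimes A, f ∉ p) ↔
        Nonempty (Localization.Away f ≃ₐ[A] (∀ p : {p : PrimeSpectrum A // p.asIdeal ∈ minimalPrimes A}, Localization.AtPrime p.1.asIdeal))) ∧
      ((LocCoh.depth A A = 1 ∨ IsReduced A) →
        ((∀ p ∈ minimalPrimes A, f ∉ p) ↔ f ∈ nonZeroDivisors A) ∧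
        ((∀ p ∈ minimalPrimes A, f ∉ p) ↔ IsLocalization (nonZeroDivisors A) (Localization.Away f))) ∧
      (IsReduced A →
        ((∀ p ∈ minimalPrimes A, f ∉ p) ↔
          Nonempty (Localization.Away f ≃ₐ[A] (∀ p : {p : PrimeSpectrum A // p.asIdeal ∈ minimalPrimes A}, p.1.asIdeal.ResidueField)))) := by
  classical
  set m := IsLocalRing.maximalIdeal A with hm
  have hconv : ∀ f : A, (∀ p ∈ minimalPrimes A, f ∉ p) ↔ ∀ p : MinP A, f ∉ p.1.asIdeal := by
    intro f
    constructor
    · intro h p; exact h _ p.2
    · intro h p hp; exact h ⟨⟨p, hp.1.1⟩, hp⟩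
  have hmnot : m ∉ minimalPrimes A := maximalIdeal_notMem_minimalPrimes hdim
  refine ⟨?_, fun f hf => ⟨?_, ?_, ?_, ?_⟩⟩
  · -- existence by prime avoidance
    by_contra hcon
    push Not at hcon
    have hfin : (minimalPrimes A).Finite := minimalPrimes.finite_of_isNoetherianRing A
    have hsub : (m : Set A) ⊆ ⋃ p ∈ (hfin.toFinset : Set (Ideal A)), (p : Set A) := by
      intro x hx
      obtain ⟨p, hp, hxp⟩ := hcon x hx
      simp only [Set.Finite.coe_toFinset, Set.mem_iUnion, SetLike.mem_coe, exists_prop]
      exact ⟨p, hp, hxp⟩
    rw [Ideal.subset_union_prime (f := fun p : Ideal A => p) ⊥ ⊥] at hsub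
    · obtain ⟨p, hp, hmp⟩ := hsub
      rw [Set.Finite.mem_toFinset] at hp
      have : p = m := le_antisymm (IsLocalRing.le_maximalIdeal hp.1.1.ne_top) hmp
      exact hmnot (this ▸ hp)
    · intro p hp _ _
      rw [Set.Finite.mem_toFinset] at hp
      exact hp.1.1
  · -- (1) ↔ (2)
    constructor
    · intro h p hp hfp
      have h1 : (Ideal.span {f}).radical ≤ p := by
        rw [hp.1.1.radical_le_iff, Ideal.span_singleton_le_iff_mem]
        exact hfp
      rw [← h] at h1
      have : p = m := le_antisymm (IsLocalRing.le_maximalIdeal hp.1.1.ne_top) h1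
      exact hmnot (this ▸ hp)
    · intro h
      obtain ⟨k, hk⟩ := exists_pow_le_span hdim f ((hconv f).mp h)
      apply le_antisymm
      · intro x hx
        exact ⟨k, hk (Ideal.pow_mem_pow hx k)⟩
      · have hmprime : m.IsPrime := (IsLocalRing.maximalIdeal.isMaximal A).isPrime
        rw [hmprime.radical_le_iff, Ideal.span_singleton_le_iff_mem]
        exact hf
  · -- (2) ↔ (3)
    constructor
    · intro h
      have hloc : IsLocalization.Away f (LocMin A) :=
        isLocalization_away hdim f hf ((hconv f).mp h)
      exact ⟨IsLocalization.algEquiv (Submonoid.powers f) (Localization.Away f) (LocMin A)⟩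
    · rintro ⟨e⟩
      rw [hconv]
      intro p
      apply notMem_of_isUnit_algebraMap p f
      have h1 : IsUnit (algebraMap A (Localization.Away f) f) :=
        IsLocalization.Away.algebraMap_isUnit f
      have h2 : IsUnit (e (algebraMap A (Localization.Away f) f)) := h1.map e
      rw [e.commutes] at h2
      have h3 := (Pi.isUnit_iff.mp h2) p
      rwa [Pi.algebraMap_apply] at h3
  · -- depth one or reduced
    intro hdr
    have hK : (∀ p ∈ minimalPrimes A, f ∉ p) → f ∈ nonZeroDivisors A := by
      intro h
      rw [mem_nonZeroDivisors_iff_right]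
      intro w hw
      rcases hdr with hdepth | hred
      · obtain ⟨g, hg, hgreg⟩ := exists_regular_of_depth_eq_one A hdepth
        obtain ⟨k, hk⟩ := exists_pow_le_span hdim f ((hconv f).mp h)
        have hgk : g ^ k ∈ Ideal.span {f} := hk (Ideal.pow_mem_pow hg k)
        obtain ⟨c, hc⟩ := Ideal.mem_span_singleton'.mp hgk
        have h1 : g ^ k • w = g ^ k • (0 : A) := by
          rw [smul_zero, smul_eq_mul, ← hc, mul_assoc, mul_comm f w, hw, mul_zero]
        exact (hgreg.pow k) h1
      · have h1 : w ∈ nilradical A := by
          rw [nilradical, ← Ideal.sInf_minimalPrimes]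
          rw [Submodule.mem_sInf]
          intro p hp
          have : w * f ∈ p := by rw [hw]; exact p.zero_mem
          exact (hp.1.1.mem_or_mem this).resolve_right (h p hp)
        rw [nilradical_eq_zero] at h1
        exact h1
    have hK' : f ∈ nonZeroDivisors A → (∀ p ∈ minimalPrimes A, f ∉ p) := by
      intro h p hp hfp
      exact Set.disjoint_left.mp (Ideal.disjoint_nonZeroDivisors_of_mem_minimalPrimes hp) hfp h
    refine ⟨⟨hK, hK'⟩, ?_, ?_⟩
    · intro h
      have hfn : f ∈ nonZeroDivisors A := hK h
      apply IsLocalization.of_le (M := Submonoid.powers f) (nonZeroDivisors A)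
      · exact Submonoid.powers_le.mpr hfn
      · intro y hy
        -- y is in no minimal prime
        have hy' : ∀ p : MinP A, y ∉ p.1.asIdeal := fun p hyp =>
          Set.disjoint_left.mp (Ideal.disjoint_nonZeroDivisors_of_mem_minimalPrimes p.2) hyp hy
        obtain ⟨k, hk⟩ := exists_pow_le_span hdim y hy'
        have hfk : f ^ k ∈ Ideal.span {y} := hk (Ideal.pow_mem_pow hf k)
        obtain ⟨c, hc⟩ := Ideal.mem_span_singleton'.mp hfk
        have h1 : IsUnit (algebraMap A (Localization.Away f) (f ^ k)) := by
          rw [map_pow]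
          exact (IsLocalization.Away.algebraMap_isUnit f).pow k
        rw [← hc, map_mul] at h1
        exact isUnit_of_mul_isUnit_right h1
    · intro hloc
      apply hK'
      rw [mem_nonZeroDivisors_iff_right]
      intro w hw
      have hinj : Function.Injective (algebraMap A (Localization.Away f)) :=
        IsLocalization.injective (Localization.Away f) (le_refl (nonZeroDivisors A))
      apply hinj
      rw [map_zero]
      have h1 : algebraMap A (Localization.Away f) w * algebraMap A (Localization.Away f) f = 0 := by
        rw [← map_mul, hw, map_zero]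
      exact (IsLocalization.Away.algebraMap_isUnit (S := Localization.Away f) f).mul_left_eq_zero.mp h1
  · -- reduced: residue fields
    intro hred
    -- each localization at a minimal prime is a field
    have hbij : ∀ p : MinP A, Function.Bijective
        (algebraMap (Localization.AtPrime p.1.asIdeal) p.1.asIdeal.ResidueField) := by
      intro p
      refine ⟨?_, IsLocalRing.residue_surjective⟩
      rw [injective_iff_map_eq_zero]
      intro x hx
      have hx' : x ∈ IsLocalRing.maximalIdeal (Localization.AtPrime p.1.asIdeal) := by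
        rw [← IsLocalRing.residue_eq_zero_iff]
        exact hx
      rw [← IsLocalization.AtPrime.map_eq_maximalIdeal p.1.asIdeal] at hx'
      -- x is nilpotent
      have h1 := IsLocalization.AtPrime.radical_map_of_mem_minimalPrimes
        (A := Localization.AtPrime p.1.asIdeal) p.1.asIdeal ⊥ p.2
      rw [Ideal.map_bot] at h1
      rw [← h1] at hx'
      obtain ⟨n, hn⟩ := hx'
      exact IsReduced.eq_zero x ⟨n, hn⟩
    let E : LocMin A ≃ₐ[A] (∀ p : MinP A, p.1.asIdeal.ResidueField) :=
      AlgEquiv.piCongrRight fun p =>
        AlgEquiv.ofBijective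
          (IsScalarTower.toAlgHom A (Localization.AtPrime p.1.asIdeal) p.1.asIdeal.ResidueField)
          (hbij p)
    constructor
    · intro h
      have hloc : IsLocalization.Away f (LocMin A) :=
        isLocalization_away hdim f hf ((hconv f).mp h)
      exact ⟨(IsLocalization.algEquiv (Submonoid.powers f) (Localization.Away f)
        (LocMin A)).trans E⟩
    · rintro ⟨e⟩
      rw [hconv]
      intro p hfp
      have h1 : IsUnit (algebraMap A (Localization.Away f) f) :=
        IsLocalization.Away.algebraMap_isUnit f
      have h2 : IsUnit (e (algebraMap A (Localization.Away f) f)) := h1.map e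
      rw [e.commutes] at h2
      have h3 := (Pi.isUnit_iff.mp h2) p
      rw [Pi.algebraMap_apply, Ideal.algebraMap_residueField_eq_zero.mpr hfp] at h3
      exact not_isUnit_zero h3

end Groth.Agent.S7651
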