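import Groth.Statements.S7653
import Groth.Agent.Lib.Helper21.NagataOne
-- import your own Groth.Agent.* helpers here

set_option autoImplicit false
universe u
open CategoryTheory CategoryTheory.Limits AlgebraicGeometry
open Variety

namespace Groth.Agent.S7653

/-- For a reduced local Nagata ring A of Krull dimension one, the δ-invariant of A is zero exactly when
A is a DVR (in particular a domain). -/
theorem result (A : Type u) [CommRing A] [IsLocalRing A]
    [IsReduced A] (hN : CAlg.IsNagata A) (hdim : ringKrullDim A = 1) :
    Curv2.deltaInv A = 0 ↔ ∃ _ : IsDomain A, IsDiscreteValuationRing A := by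
  haveI : IsNoetherianRing A := hN.1
  constructor
  · intro h0
    unfold Curv2.deltaInv at h0
    rw [Module.length_eq_zero_iff] at h0
    have hsurj : ∀ x : FractionRing A, IsIntegral A x → ∃ c : A, x = algebraMap A (FractionRing A) c := by
      intro x hx
      have h1 : (Submodule.Quotient.mk (⟨x, hx⟩ : integralClosure A (FractionRing A)) :
          integralClosure A (FractionRing A) ⧸
            LinearMap.range (Algebra.linearMap A (integralClosure A (FractionRing A)))) = 0 :=
        Subsingleton.elim _ _
      rw [Submodule.Quotient.mk_eq_zero] at h1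
      obtain ⟨c, hc⟩ := h1
      exact ⟨c, (congrArg Subtype.val hc).symm⟩
    obtain ⟨hdom, hic⟩ :=
      Groth.Agent.Lib.Helper6.NormalTotalFrac.normal_of_integrallyClosed_in_totalFrac
        (FractionRing A) (minimalPrimes.finite_of_isNoetherianRing A) hsurj
        (IsLocalRing.maximalIdeal A)
    have hle : (IsLocalRing.maximalIdeal A).primeCompl ≤ IsUnit.submonoid A := by
      intro y hy
      by_contra hu
      exact hy ((IsLocalRing.mem_maximalIdeal y).mpr hu)
    let e : A ≃+* Localization.AtPrime (IsLocalRing.maximalIdeal A) :=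
      (IsLocalization.atUnits A (IsLocalRing.maximalIdeal A).primeCompl
        (S := Localization.AtPrime (IsLocalRing.maximalIdeal A)) hle).toRingEquiv
    haveI hdomA : IsDomain A := e.injective.isDomain e.toRingHom
    haveI : IsIntegrallyClosed A := IsIntegrallyClosed.of_equiv e.symm
    refine ⟨hdomA, ?_⟩
    haveI : Ring.KrullDimLE 1 A := Ring.krullDimLE_iff.mpr (by rw [hdim]; rfl)
    have h3 : IsIntegrallyClosed A ∧ ∀ P : Ideal A, P ≠ ⊥ → P.IsPrime → P = IsLocalRing.maximalIdeal A := by
      refine ⟨inferInstance, fun P hP0 hP => ?_⟩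
      have := (Ring.krullDimLE_one_iff_of_noZeroDivisors.mp inferInstance) P hP0 hP
      exact IsLocalRing.eq_maximalIdeal this
    have hpid : IsPrincipalIdealRing A :=
      ((tfae_of_isNoetherianRing_of_isLocalRing_of_isDomain A).out 0 3).mpr h3
    have hnf : ¬ IsField A := by
      intro hf
      have := ringKrullDim_eq_zero_of_isField hf
      rw [hdim] at this
      exact one_ne_zero this
    exact { not_a_field' := fun h => hnf (IsLocalRing.isField_iff_maximalIdeal_eq.mpr h) }
  · rintro ⟨hdom, hdvr⟩
    unfold Curv2.deltaInv
    rw [Module.length_eq_zero_iff]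
    refine ⟨fun x y => ?_⟩
    obtain ⟨x, rfl⟩ := Submodule.mkQ_surjective _ x
    obtain ⟨y, rfl⟩ := Submodule.mkQ_surjective _ y
    have hall : ∀ z : integralClosure A (FractionRing A),
        z ∈ LinearMap.range (Algebra.linearMap A (integralClosure A (FractionRing A))) := by
      intro z
      obtain ⟨c, hc⟩ := (IsIntegrallyClosed.isIntegral_iff (R := A) (K := FractionRing A)).mp z.2
      exact ⟨c, Subtype.ext hc⟩
    rw [Submodule.mkQ_apply, Submodule.mkQ_apply,
      (Submodule.Quotient.mk_eq_zero _).mpr (hall x), (Submodule.Quotient.mk_eq_zero _).mpr (hall y)]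

end Groth.Agent.S7653
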