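import Groth.Statements.S7655
import Groth.Agent.Lib.Helper21.BrR3
-- import your own Groth.Agent.* helpers here

set_option autoImplicit false
universe u
open CategoryTheory CategoryTheory.Limits AlgebraicGeometry
open Variety

namespace Groth.Agent.S7655

/-- Let (A, m) be a reduced Nagata local ring of dimension one. Then the δ-invariant of A is at least
the number of geometric branches of A minus one. -/
theorem result (A : Type u) [CommRing A] [IsLocalRing A]
    [IsReduced A] (hN : CAlg.IsNagata A) (hdim : ringKrullDim A = 1) :
    Brnch.numGeomBranches A ≤ Curv2.deltaInv A + 1 := by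
  haveI : IsNoetherianRing A := hN.1
  haveI hfin : Module.Finite A (integralClosure A (FractionRing A)) :=
    Groth.Agent.Lib.Helper21.NagataOne.finite_integralClosure A hN
  rw [Groth.Agent.Lib.Helper21.BrR.numGeomBranches_eq A (FractionRing A)
    (minimalPrimes.finite_of_isNoetherianRing A)]
  haveI := Groth.Agent.Lib.Helper21.BrR.finite_maximalSpectrum A
    (integralClosure A (FractionRing A))
  letI := Fintype.ofFinite (MaximalSpectrum (integralClosure A (FractionRing A)))
  rw [Groth.Agent.Lib.Helper21.Br.card_sigma_eq_tsum, tsum_fintype]
  calc ∑ m, ENat.card (Groth.Agent.Lib.Helper21.BrR.Emb' A (FractionRing A) m)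
      ≤ ∑ m : MaximalSpectrum (integralClosure A (FractionRing A)),
          Module.length A (integralClosure A (FractionRing A) ⧸ m.asIdeal) :=
        Finset.sum_le_sum (fun m _ => Groth.Agent.Lib.Helper21.BrR.card_emb_le A (FractionRing A) m)
    _ = Module.length A (∀ m : MaximalSpectrum (integralClosure A (FractionRing A)),
          integralClosure A (FractionRing A) ⧸ m.asIdeal) :=
        (Module.length_pi_of_fintype A _).symm
    _ ≤ Curv2.deltaInv A + 1 :=
        Groth.Agent.Lib.Helper21.BrR.length_pi_le A (integralClosure A (FractionRing A))

end Groth.Agent.S7655
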