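import Groth.Statements.S7657
import Groth.Agent.Lib.Helper21.Br5
-- import your own Groth.Agent.* helpers here

set_option autoImplicit false
universe u
open CategoryTheory CategoryTheory.Limits AlgebraicGeometry
open Variety

namespace Groth.Agent.S7657

/-- For an integral scheme X with normalization ν : X^ν → X and a point x: (1) X has as many branches at
x as there are points of X^ν lying over x; (2) counted geometrically, the branches of X at x number
Σ_{ν(x') = x} [κ(x') : κ(x)]_s, the separable degree being counted as the number of κ(x)-embeddings
of κ(x') into an algebraic closure. (The published statement allows any scheme each of whose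
quasi-compact opens meets only finitely many irreducible components; this row takes X integral.) -/
theorem result (X : Scheme.{u}) [IsIntegral X]
    [QuasiCompact (X.fromSpecStalk (genericPoint X))] [QuasiSeparated (X.fromSpecStalk (genericPoint X))]
    (x : X) :
    Brnch.numBranchesAt X x =
        ENat.card {x' : ↥(Curv2.normalization X) // (Curv2.normalizationι X).base x' = x} ∧
      Brnch.numGeomBranchesAt X x =
        ∑' x' : {x' : ↥(Curv2.normalization X) // (Curv2.normalizationι X).base x' = x},
          (letI := ((Curv2.normalizationι X).residueFieldMap x'.1).hom.toAlgebra
           ENat.card (Field.Emb (X.residueField ((Curv2.normalizationι X).base x'.1))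
             ((Curv2.normalization X).residueField x'.1))) := by
  have key : ∀ (h : Spec (CommRingCat.of X.functionField) ⟶ X)
      (_ : h = Groth.Agent.Lib.Helper6.GU.genHom X X.functionField (𝟙 _))
      [QuasiCompact h] [QuasiSeparated h],
      Brnch.numBranchesAt X x =
        ENat.card {x' : h.normalization // h.fromNormalization.base x' = x} ∧
      Brnch.numGeomBranchesAt X x =
        ∑' x' : {x' : h.normalization // h.fromNormalization.base x' = x},
          (letI := (h.fromNormalization.residueFieldMap x'.1).hom.toAlgebra
           ENat.card (Field.Emb (X.residueField (h.fromNormalization.base x'.1))
             (h.normalization.residueField x'.1))) := by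
    intro h hh _ _
    subst hh
    exact Groth.Agent.Lib.Helper21.Br.main X x
  exact key (X.fromSpecStalk (genericPoint X))
    (by simp only [Groth.Agent.Lib.Helper6.GU.genHom]; erw [Spec.map_id];
        exact (Category.id_comp _).symm)

end Groth.Agent.S7657
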