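import Groth.Statements.S7660
import Mathlib
import Groth.Agent.Lib.Helper20.HH7

set_option autoImplicit false
universe u
open CategoryTheory CategoryTheory.Limits AlgebraicGeometry
open Variety

namespace Groth.Agent.S7660


/-- For a morphism of schemes f : T → X with T affine and X quasi-separated with finitely many
irreducible components, assume f sends the generic point of each irreducible component of T to the
generic point of an irreducible component of X, and distinct such points to distinct points, and let
t_1, …, t_m ∈ T be points at which O_{X, f(t_j)} → O_{T, t_j} is an isomorphism. Then there is an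
affine open of X containing f(t_1), …, f(t_m). -/
theorem result {T X : Scheme.{u}} (f : T ⟶ X)
    [IsAffine T] [QuasiSeparatedSpace X] (hX : (irreducibleComponents (X : Type u)).Finite)
    (hgen : ∀ η : T, closure ({η} : Set T) ∈ irreducibleComponents (T : Type u) → closure ({(f.base η)} : Set X) ∈ irreducibleComponents (X : Type u))
    (hinj : ∀ η η' : T, closure ({η} : Set T) ∈ irreducibleComponents (T : Type u) → closure ({η'} : Set T) ∈ irreducibleComponents (T : Type u) → f.base η = f.base η' → η = η')
    (s : Finset T) (hs : ∀ t ∈ s, IsIso (f.stalkMap t)) :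
    ∃ U : X.Opens, IsAffineOpen U ∧ ∀ t ∈ s, f.base t ∈ U := by

  open Groth.Agent.Lib.Helper20.HH in
  obtain ⟨V, hV, hVs⟩ := exists_affine_general f hX
    (fun η hη => (isMaxGen_iff _).mp (hgen η ((isMaxGen_iff η).mpr hη)))
    (fun η η' hη hη' hff => hinj η η' ((isMaxGen_iff η).mpr hη) ((isMaxGen_iff η').mpr hη') hff)
    (s : Set T) s.finite_toSet (fun t ht => hs t ht)
  exact ⟨V, hV, fun t ht => hVs t ht⟩

end Groth.Agent.S7660
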