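import Groth.Statements.S7663
import Groth.Agent.Lib.Helper21.KA8
-- import your own Groth.Agent.* helpers here

set_option autoImplicit false
universe u
open CategoryTheory CategoryTheory.Limits AlgebraicGeometry
open Variety

namespace Groth.Agent.S7663

/-- Let K be a field and A, B ⊆ K subrings with fraction field K, with A Noetherian of dimension one.
Then A ⊗ B → K is not surjective (equivalently, the subring generated by A and B is not K) if and
only if some discrete valuation ring O ⊆ K with fraction field K contains both A and B. -/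
theorem result (K : Type u) [Field K]
    (A : Subring K) [IsFractionRing A K] (B : Subring K) [IsFractionRing B K] [IsNoetherianRing A] (hdim : ringKrullDim A = 1) :
    A ⊔ B ≠ ⊤ ↔ ∃ O : ValuationSubring K, IsDiscreteValuationRing O ∧ A ≤ O.toSubring ∧ B ≤ O.toSubring := by
  classical
  constructor
  · intro hne
    let C : Subring K := A ⊔ B
    have hAC : A ≤ C := le_sup_left
    have hBC : B ≤ C := le_sup_right
    have hKD : Ring.KrullDimLE 1 A := Ring.krullDimLE_iff.mpr (le_of_eq hdim)
    let algAC : Algebra A C := (Subring.inclusion hAC).toAlgebra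
    have tow : IsScalarTower A C K := IsScalarTower.of_algebraMap_eq fun _ => rfl
    have hinjC : Function.Injective (algebraMap C K) := Subtype.val_injective
    have hCN : IsNoetherianRing C :=
      Groth.Agent.Lib.Helper21.KA.isNoetherianRing_of_injective A K K C hinjC
    -- every element of `K` is a quotient of elements of `A`
    have hquot : ∀ k : K, ∃ a a' : A, (a' : K) ≠ 0 ∧ k = (a : K) / (a' : K) := by
      intro k
      obtain ⟨a, a', ha', rfl⟩ := IsFractionRing.div_surjective (A := A) k
      refine ⟨a, a', ?_, rfl⟩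
      have : a' ≠ 0 := nonZeroDivisors.ne_zero ha'
      exact fun h0 => this (Subtype.ext h0)
    have hCnf : ¬ IsField C := by
      intro hf
      apply hne
      rw [eq_top_iff]
      intro k _
      obtain ⟨a, a', ha', rfl⟩ := hquot k
      let c' : C := ⟨a', hAC a'.2⟩
      have hc'0 : c' ≠ 0 := fun h0 => ha' (congrArg Subtype.val h0)
      obtain ⟨d, hd⟩ := hf.mul_inv_cancel hc'0
      have hd' : (a' : K) * (d : K) = 1 := congrArg Subtype.val hd
      have : (a : K) / (a' : K) = (a : K) * (d : K) := by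
        rw [div_eq_iff ha', mul_assoc, mul_comm (d : K), hd', mul_one]
      rw [this]
      exact C.mul_mem (hAC a.2) d.2
    obtain ⟨𝔫, h𝔫max⟩ := Ideal.exists_maximal C
    have h𝔫p : 𝔫.IsPrime := h𝔫max.isPrime
    have h𝔫0 : 𝔫 ≠ ⊥ := Ring.ne_bot_of_isMaximal_of_not_isField h𝔫max hCnf
    have hS : Subfield.closure (Set.range (algebraMap C K) ∪ ((∅ : Finset K) : Set K)) = ⊤ := by
      rw [eq_top_iff]
      intro k _
      obtain ⟨a, a', -, rfl⟩ := hquot k
      exact div_mem (Subfield.subset_closure (Or.inl ⟨⟨a, hAC a.2⟩, rfl⟩))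
        (Subfield.subset_closure (Or.inl ⟨⟨a', hAC a'.2⟩, rfl⟩))
    obtain ⟨O, hOdvr, hOC, -⟩ :=
      Groth.Agent.Lib.Helper21.KA.exists_dvr_of_closure_eq_top C K hinjC ∅ hS 𝔫 h𝔫0
    refine ⟨O, hOdvr, fun a ha => hOC ⟨a, hAC ha⟩, fun b hb => hOC ⟨b, hBC hb⟩⟩
  · rintro ⟨O, hOdvr, hAO, hBO⟩ htop
    have hOtop : O.toSubring = ⊤ := by
      rw [eq_top_iff, ← htop]
      exact sup_le hAO hBO
    apply IsDiscreteValuationRing.not_isField O
    refine ⟨⟨0, 1, zero_ne_one⟩, mul_comm, ?_⟩
    intro a ha
    have ha0 : (a : K) ≠ 0 := fun h0 => ha (Subtype.ext h0)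
    have hmem : (a : K)⁻¹ ∈ O.toSubring := by rw [hOtop]; exact Subring.mem_top _
    exact ⟨⟨(a : K)⁻¹, hmem⟩, Subtype.ext (mul_inv_cancel₀ ha0)⟩

end Groth.Agent.S7663
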