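import Groth.Statements.S7666
import Mathlib

set_option autoImplicit false
universe u
open CategoryTheory CategoryTheory.Limits AlgebraicGeometry
open Variety

namespace Groth.Agent.S7666

/-- Let A be a one-dimensional Noetherian local ring and L = ∏ A_p, the product over the minimal primes
of A. If a_1, a_2 ∈ m_A have the same image in L, then a_1 and a_2 have equal n-th powers for some
positive integer n. -/
theorem result (A : Type u) [CommRing A]
    [IsLocalRing A] [IsNoetherianRing A] (hdim : ringKrullDim A = 1)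
    (a₁ a₂ : A) (h₁ : a₁ ∈ IsLocalRing.maximalIdeal A) (h₂ : a₂ ∈ IsLocalRing.maximalIdeal A)
    (heq : ∀ p : {p : PrimeSpectrum A // p.asIdeal ∈ minimalPrimes A},
      algebraMap A (Localization.AtPrime p.1.asIdeal) a₁ = algebraMap A (Localization.AtPrime p.1.asIdeal) a₂) :
    ∃ n : ℕ, 0 < n ∧ a₁ ^ n = a₂ ^ n := by
  classical
  set j := a₁ - a₂ with hj
  set m := IsLocalRing.maximalIdeal A with hm
  -- the annihilator of j
  let J : Ideal A := (Ideal.span {j}).annihilator
  have hJmem : ∀ x, x ∈ J ↔ x * j = 0 := by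
    intro x
    change x ∈ (Ideal.span {j}).annihilator ↔ _
    rw [Submodule.mem_annihilator_span_singleton]; rfl
  have hann : ∀ p : Ideal A, p ∈ minimalPrimes A → ¬ J ≤ p := by
    intro p hp hle
    have hpp : p.IsPrime := hp.1.1
    let P : PrimeSpectrum A := ⟨p, hpp⟩
    have := heq ⟨P, hp⟩
    obtain ⟨s, hs⟩ := (IsLocalization.eq_iff_exists p.primeCompl _).mp this
    have : (s : A) ∈ J := by
      rw [hJmem, hj, mul_sub, hs, sub_self]
    exact s.2 (hle this)
  -- every prime containing J equals m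
  have hprime : ∀ q : Ideal A, J ≤ q → q.IsPrime → q = m := by
    intro q hJq hq
    obtain ⟨p, hp, hpq⟩ := Ideal.exists_minimalPrimes_le (I := ⊥) (J := q) bot_le
    have hpp : p.IsPrime := hp.1.1
    have hne : p ≠ q := fun h => hann p hp (h ▸ hJq)
    have hlt : p < q := lt_of_le_of_ne hpq hne
    by_contra hqm
    have hqm' : q < m := lt_of_le_of_ne (IsLocalRing.le_maximalIdeal hq.ne_top) hqm
    let s : LTSeries (PrimeSpectrum A) :=
      { length := 2
        toFun := ![⟨p, hpp⟩, ⟨q, hq⟩, ⟨m, (IsLocalRing.maximalIdeal.isMaximal A).isPrime⟩]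
        step := by
          intro i
          fin_cases i
          · exact hlt
          · exact hqm' }
    have h2 : ((2 : ℕ) : WithBot ℕ∞) ≤ ringKrullDim A := Order.LTSeries.length_le_krullDim s
    rw [hdim] at h2
    norm_cast at h2
  have hrad : m ≤ J.radical := by
    rw [Ideal.radical_eq_sInf]
    refine le_sInf fun q hq => ?_
    rw [hprime q hq.1 hq.2]
  obtain ⟨k, hk⟩ := Ideal.exists_pow_le_of_le_radical_of_fg hrad (IsNoetherian.noetherian m)
  refine ⟨k + 1, Nat.succ_pos k, ?_⟩
  have hsum : (∑ i ∈ Finset.range (k + 1), a₁ ^ i * a₂ ^ (k + 1 - 1 - i)) ∈ m ^ k := by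
    refine Ideal.sum_mem _ fun i hi => ?_
    have hi' : i ≤ k := Nat.lt_succ_iff.mp (Finset.mem_range.mp hi)
    have hki : m ^ k = m ^ i * m ^ (k + 1 - 1 - i) := by
      rw [← pow_add]; congr 1; omega
    rw [hki]
    exact Ideal.mul_mem_mul (Ideal.pow_mem_pow h₁ _) (Ideal.pow_mem_pow h₂ _)
  have h0 := (hJmem _).mp (hk hsum)
  rw [hj, geom_sum₂_mul] at h0
  exact sub_eq_zero.mp h0

end Groth.Agent.S7666
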