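import Groth.Statements.S7667
import Mathlib

set_option autoImplicit false
universe u
open CategoryTheory CategoryTheory.Limits AlgebraicGeometry
open Variety

namespace Groth.Agent.S7667

/-- Let A be a one-dimensional Noetherian local ring, L the product of the localizations A_p over its
minimal primes p, and I the intersection of those primes (the nilradical of A). If f ∈ L equals i +
a with a in the maximal ideal of A and i ∈ I·L, then for some positive integer n, f^n belongs to the
subring of L obtained as the image of the structure map from A. -/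
theorem result (A : Type u) [CommRing A]
    [IsLocalRing A] [IsNoetherianRing A] (hdim : ringKrullDim A = 1)
    (a : A) (ha : a ∈ IsLocalRing.maximalIdeal A)
    (i : ∀ p : {p : PrimeSpectrum A // p.asIdeal ∈ minimalPrimes A}, Localization.AtPrime p.1.asIdeal)
    (hi : i ∈ (nilradical A).map (algebraMap A (∀ p : {p : PrimeSpectrum A // p.asIdeal ∈ minimalPrimes A}, Localization.AtPrime p.1.asIdeal))) :
    ∃ n : ℕ, 0 < n ∧ (i + algebraMap A (∀ p : {p : PrimeSpectrum A // p.asIdeal ∈ minimalPrimes A}, Localization.AtPrime p.1.asIdeal) a) ^ n ∈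
      (algebraMap A (∀ p : {p : PrimeSpectrum A // p.asIdeal ∈ minimalPrimes A}, Localization.AtPrime p.1.asIdeal)).range := by
  classical
  set m := IsLocalRing.maximalIdeal A with hm
  let P := {p : PrimeSpectrum A // p.asIdeal ∈ minimalPrimes A}
  let L := ∀ p : P, Localization.AtPrime p.1.asIdeal
  -- finiteness of P
  have hfin : Finite P := by
    have h1 : (minimalPrimes A).Finite := minimalPrimes.finite_of_isNoetherianRing A
    have : Finite (minimalPrimes A) := h1
    refine Finite.of_injective (fun p : P => (⟨p.1.asIdeal, p.2⟩ : minimalPrimes A)) ?_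
    intro p q h
    apply Subtype.ext
    apply PrimeSpectrum.ext
    exact congrArg Subtype.val h
  have : Fintype P := Fintype.ofFinite P
  -- elements of a minimal prime are nilpotent in the localization
  have hnil : ∀ (q : P) (x : A), x ∈ q.1.asIdeal →
      IsNilpotent (algebraMap A (Localization.AtPrime q.1.asIdeal) x) := by
    intro q x hx
    have h1 := IsLocalization.AtPrime.radical_map_of_mem_minimalPrimes
      (A := Localization.AtPrime q.1.asIdeal) q.1.asIdeal ⊥ q.2
    rw [Ideal.map_bot] at h1
    have h2 : algebraMap A (Localization.AtPrime q.1.asIdeal) x ∈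
        q.1.asIdeal.map (algebraMap A (Localization.AtPrime q.1.asIdeal)) :=
      Ideal.mem_map_of_mem _ hx
    rw [← h1] at h2
    obtain ⟨n, hn⟩ := h2
    exact ⟨n, hn⟩
  -- "idempotent-like" elements
  have hE : ∀ p : P, ∃ e : A, e ∉ p.1.asIdeal ∧
      ∀ q : P, q ≠ p → algebraMap A (Localization.AtPrime q.1.asIdeal) e = 0 := by
    intro p
    have hc : ∀ q : P, q ≠ p → ∃ c : A, c ∈ q.1.asIdeal ∧ c ∉ p.1.asIdeal := by
      intro q hqp
      by_contra hcon
      push Not at hcon
      have hle : q.1.asIdeal ≤ p.1.asIdeal := fun c hc => hcon c hc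
      have hle' : p.1.asIdeal ≤ q.1.asIdeal := p.2.2 ⟨q.1.isPrime, bot_le⟩ hle
      apply hqp
      apply Subtype.ext
      apply PrimeSpectrum.ext
      exact le_antisymm hle hle'
    let c : P → A := fun q => if h : q ≠ p then (hc q h).choose else 1
    have hcq : ∀ q : P, q ≠ p → c q ∈ q.1.asIdeal := by
      intro q h
      simp only [c, dif_pos h]
      exact (hc q h).choose_spec.1
    have hcp : ∀ q : P, c q ∉ p.1.asIdeal := by
      intro q
      by_cases h : q ≠ p
      · simp only [c, dif_pos h]
        exact (hc q h).choose_spec.2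
      · simp only [c, dif_neg h]
        exact fun h1 => p.1.isPrime.ne_top ((Ideal.eq_top_iff_one _).mpr h1)
    let u : A := ∏ q, c q
    have hup : u ∉ p.1.asIdeal := by
      intro h
      obtain ⟨q, -, hq⟩ := (Ideal.IsPrime.prod_mem_iff (hp := p.1.isPrime)).mp h
      exact hcp q hq
    have huq : ∀ q : P, q ≠ p → u ∈ q.1.asIdeal := by
      intro q h
      exact Ideal.prod_mem _ (Finset.mem_univ q) (hcq q h)
    have hr : ∀ q : P, q ≠ p → ∃ r : ℕ,
        (algebraMap A (Localization.AtPrime q.1.asIdeal) u) ^ r = 0 := fun q h =>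
      hnil q u (huq q h)
    let r : P → ℕ := fun q => if h : q ≠ p then (hr q h).choose else 0
    refine ⟨u ^ (∑ q, r q), fun h => hup (p.1.isPrime.mem_of_pow_mem _ h), fun q hq => ?_⟩
    have h1 : (algebraMap A (Localization.AtPrime q.1.asIdeal) u) ^ r q = 0 := by
      simp only [r, dif_pos hq]
      exact (hr q hq).choose_spec
    rw [map_pow]
    have h2 : r q ≤ ∑ q, r q := Finset.single_le_sum (f := r) (fun _ _ => Nat.zero_le _)
      (Finset.mem_univ q)
    rw [← Nat.sub_add_cancel h2, pow_add, h1, mul_zero]
  choose e hep heq using hE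
  -- Step B
  have hB : ∀ l : L, ∃ s x : A, (∀ p : P, s ∉ p.1.asIdeal) ∧
      algebraMap A L s * l = algebraMap A L x := by
    intro l
    have hl : ∀ p : P, ∃ (x : A) (t : p.1.asIdeal.primeCompl),
        IsLocalization.mk' (Localization.AtPrime p.1.asIdeal) x t = l p := fun p =>
      IsLocalization.exists_mk'_eq p.1.asIdeal.primeCompl (l p)
    choose x t hxt using hl
    have hcomp : ∀ (f : P → A) (q : P),
        algebraMap A (Localization.AtPrime q.1.asIdeal) (∑ p, e p * f p) =
        algebraMap A (Localization.AtPrime q.1.asIdeal) (e q * f q) := by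
      intro f q
      rw [map_sum, Finset.sum_eq_single q]
      · intro p _ hpq
        rw [map_mul, heq p q (Ne.symm hpq), zero_mul]
      · intro h; exact absurd (Finset.mem_univ q) h
    refine ⟨∑ p, e p * (t p : A), ∑ p, e p * x p, fun q hq => ?_, ?_⟩
    · have h1 : algebraMap A (Localization.AtPrime q.1.asIdeal) (∑ p, e p * (t p : A)) ∈
          IsLocalRing.maximalIdeal (Localization.AtPrime q.1.asIdeal) := by
        rw [← IsLocalization.AtPrime.map_eq_maximalIdeal q.1.asIdeal]
        exact Ideal.mem_map_of_mem _ hq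
      rw [hcomp] at h1
      have h2 : IsUnit (algebraMap A (Localization.AtPrime q.1.asIdeal) (e q * (t q : A))) := by
        apply IsLocalization.map_units (Localization.AtPrime q.1.asIdeal)
          (⟨e q * (t q : A), ?_⟩ : q.1.asIdeal.primeCompl)
        exact fun h => (q.1.isPrime.mem_or_mem h).elim (hep q) (t q).2
      exact h1 h2
    · funext q
      rw [Pi.mul_apply, Pi.algebraMap_apply, Pi.algebraMap_apply, hcomp, hcomp, ← hxt q,
        map_mul, map_mul, mul_assoc, mul_comm (algebraMap A _ (t q : A)),
        IsLocalization.mk'_spec]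
  -- Step C
  have hC : ∀ s : A, (∀ p : P, s ∉ p.1.asIdeal) → ∃ k : ℕ, m ^ k ≤ Ideal.span {s} := by
    intro s hs
    have hprime : ∀ q : Ideal A, Ideal.span {s} ≤ q → q.IsPrime → q = m := by
      intro q hJq hq
      obtain ⟨p, hp, hpq⟩ := Ideal.exists_minimalPrimes_le (I := ⊥) (J := q) bot_le
      have hpp : p.IsPrime := hp.1.1
      have hne : p ≠ q := by
        intro h
        apply hs ⟨⟨p, hpp⟩, hp⟩
        change s ∈ p
        rw [h]
        exact hJq (Ideal.subset_span rfl)
      have hlt : p < q := lt_of_le_of_ne hpq hne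
      by_contra hqm
      have hqm' : q < m := lt_of_le_of_ne (IsLocalRing.le_maximalIdeal hq.ne_top) hqm
      let sr : LTSeries (PrimeSpectrum A) :=
        { length := 2
          toFun := ![⟨p, hpp⟩, ⟨q, hq⟩, ⟨m, (IsLocalRing.maximalIdeal.isMaximal A).isPrime⟩]
          step := by
            intro i
            fin_cases i
            · exact hlt
            · exact hqm' }
      have h2 : ((2 : ℕ) : WithBot ℕ∞) ≤ ringKrullDim A := Order.LTSeries.length_le_krullDim sr
      rw [hdim] at h2
      norm_cast at h2
    have hrad : m ≤ (Ideal.span {s}).radical := by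
      rw [Ideal.radical_eq_sInf]
      refine le_sInf fun q hq => ?_
      rw [hprime q hq.1 hq.2]
    exact Ideal.exists_pow_le_of_le_radical_of_fg hrad (IsNoetherian.noetherian m)
  -- Step D
  have hD : ∀ l : L, ∃ k : ℕ, ∀ n, k ≤ n → algebraMap A L a ^ n * l ∈ (algebraMap A L).range := by
    intro l
    obtain ⟨s, x, hs, hsx⟩ := hB l
    obtain ⟨k, hk⟩ := hC s hs
    have hak : a ^ k ∈ Ideal.span {s} := hk (Ideal.pow_mem_pow ha k)
    obtain ⟨c, hc⟩ := Ideal.mem_span_singleton'.mp hak
    have hunit : IsUnit (algebraMap A L s) := by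
      rw [Pi.isUnit_iff]
      intro q
      exact IsLocalization.map_units (Localization.AtPrime q.1.asIdeal)
        (⟨s, hs q⟩ : q.1.asIdeal.primeCompl)
    have hkey : algebraMap A L a ^ k * l = algebraMap A L (c * x) := by
      apply hunit.mul_left_cancel
      rw [← map_pow, ← hc, map_mul, map_mul]
      calc algebraMap A L s * (algebraMap A L c * algebraMap A L s * l)
          = algebraMap A L s * algebraMap A L c * (algebraMap A L s * l) := by ring
        _ = algebraMap A L s * (algebraMap A L c * algebraMap A L x) := by rw [hsx]; ring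
    refine ⟨k, fun n hn => ?_⟩
    rw [← Nat.sub_add_cancel hn, pow_add, mul_assoc, hkey, ← map_pow, ← map_mul]
    exact ⟨_, rfl⟩
  -- Step E
  obtain ⟨r, hr⟩ := IsNoetherianRing.isNilpotent_nilradical A
  have hir : i ^ r = 0 := by
    have h1 : i ^ r ∈ ((nilradical A).map (algebraMap A L)) ^ r := Ideal.pow_mem_pow hi r
    rw [← Ideal.map_pow, hr, Ideal.zero_eq_bot, Ideal.map_bot] at h1
    exact h1
  -- Step F
  choose kk hkk using hD
  let K : ℕ := (Finset.range r).sup (fun j => kk (i ^ j))
  refine ⟨r + K + 1, Nat.succ_pos _, ?_⟩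
  rw [add_pow]
  refine Subring.sum_mem _ fun j hj => ?_
  by_cases hjr : j < r
  · have h1 : kk (i ^ j) ≤ r + K + 1 - j := by
      have : kk (i ^ j) ≤ K := Finset.le_sup (f := fun j => kk (i ^ j)) (Finset.mem_range.mpr hjr)
      omega
    have h2 := hkk (i ^ j) _ h1
    have h3 : i ^ j * algebraMap A L a ^ (r + K + 1 - j) * ((r + K + 1).choose j : L) =
        (algebraMap A L a ^ (r + K + 1 - j) * i ^ j) * ((r + K + 1).choose j : L) := by ring
    rw [h3]
    exact Subring.mul_mem _ h2 (natCast_mem _ _)
  · have : i ^ j = 0 := by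
      rw [← Nat.sub_add_cancel (not_lt.mp hjr), pow_add, hir, mul_zero]
    rw [this, zero_mul, zero_mul]
    exact Subring.zero_mem _

end Groth.Agent.S7667
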