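import Groth.Statements.S7668
import Mathlib

set_option autoImplicit false
universe u
open CategoryTheory CategoryTheory.Limits AlgebraicGeometry
open Variety

namespace Groth.Agent.S7668

/-- Let A be a ring, p_1, …, p_r primes of A and S = A ∖ ⋃ p_i. Then S is a multiplicative subset, S⁻¹A
is semi-local, and contraction to A is a bijection from the maximal ideals of S⁻¹A onto the maximal
elements of {p_1, …, p_r}. -/
theorem result (A : Type u) [CommRing A]
    (r : ℕ) (p : Fin r → PrimeSpectrum A) :
    Finite (MaximalSpectrum (Localization (⨅ i, (p i).asIdeal.primeCompl))) ∧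
      Set.BijOn (fun m : Ideal (Localization (⨅ i, (p i).asIdeal.primeCompl)) =>
          m.comap (algebraMap A (Localization (⨅ i, (p i).asIdeal.primeCompl))))
        {m | m.IsMaximal}
        {q | q ∈ Set.range (fun i => (p i).asIdeal) ∧
          ∀ j, q ≤ (p j).asIdeal → q = (p j).asIdeal} := by
  classical
  set M : Submonoid A := ⨅ i, (p i).asIdeal.primeCompl with hM
  set S := Localization M
  have memM : ∀ x : A, x ∈ M ↔ ∀ i, x ∉ (p i).asIdeal := by
    intro x
    rw [hM, Submonoid.mem_iInf]
    rfl
  have hdisj : ∀ i, Disjoint (M : Set A) ((p i).asIdeal : Set A) := by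
    intro i
    rw [Set.disjoint_left]
    intro x hx hxi
    exact (memM x).mp hx i hxi
  -- a prime of A disjoint from M lies in some p i
  have hle : ∀ q : Ideal A, q.IsPrime → Disjoint (M : Set A) (q : Set A) → ∃ i, q ≤ (p i).asIdeal := by
    intro q hq hd
    have hsub : (q : Set A) ⊆ ⋃ i ∈ ((Finset.univ : Finset (Fin r)) : Set (Fin r)), ((p i).asIdeal : Set A) := by
      intro x hx
      by_contra hcon
      simp only [Finset.coe_univ, Set.mem_univ, Set.iUnion_true, Set.mem_iUnion, SetLike.mem_coe, not_exists] at hcon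
      exact Set.disjoint_left.mp hd ((memM x).mpr hcon) hx
    by_cases hr : r = 0
    · subst hr
      exfalso
      have : (1 : A) ∈ M := M.one_mem
      have h0 : (0 : A) ∈ M := (memM 0).mpr (fun i => i.elim0)
      exact Set.disjoint_left.mp hd h0 q.zero_mem
    · have i0 : Fin r := ⟨0, Nat.pos_of_ne_zero hr⟩
      obtain ⟨i, _, hi⟩ := (Ideal.subset_union_prime (s := Finset.univ) (f := fun i => (p i).asIdeal) i0 i0
        (fun i _ _ _ => (p i).isPrime)).mp hsub
      exact ⟨i, hi⟩
  let P : Fin r → Ideal S := fun i => Ideal.map (algebraMap A S) (p i).asIdeal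
  have hPprime : ∀ i, (P i).IsPrime := fun i =>
    IsLocalization.isPrime_of_isPrime_disjoint M S _ (p i).isPrime (hdisj i)
  have hPunder : ∀ i, (P i).comap (algebraMap A S) = (p i).asIdeal := fun i =>
    IsLocalization.under_map_of_isPrime_disjoint M S (p i).isPrime (hdisj i)
  -- every maximal ideal is some P i with p i maximal among the p j
  have hmax : ∀ m : Ideal S, m.IsMaximal → ∃ i, m = P i ∧ ∀ j, (p i).asIdeal ≤ (p j).asIdeal →
      (p i).asIdeal = (p j).asIdeal := by
    intro m hm
    have hmp := (IsLocalization.isPrime_iff_isPrime_disjoint M S m).mp hm.isPrime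
    obtain ⟨i, hi⟩ := hle _ hmp.1 hmp.2
    have hmi : m ≤ P i := by
      rw [← IsLocalization.under_le_under_iff M (S := S)]
      change m.comap (algebraMap A S) ≤ (P i).comap (algebraMap A S)
      rw [hPunder]; exact hi
    have hmeq : m = P i := hm.eq_of_le (hPprime i).ne_top hmi
    refine ⟨i, hmeq, fun j hij => ?_⟩
    have hPij : P i ≤ P j := Ideal.map_mono hij
    have : P i = P j := by
      rw [← hmeq]
      exact hm.eq_of_le (hPprime j).ne_top (hmeq ▸ hPij)
    rw [← hPunder i, ← hPunder j, this]
  constructor
  · -- finiteness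
    have : ∀ m : MaximalSpectrum S, ∃ i, m.asIdeal = P i := fun m =>
      let ⟨i, hi, _⟩ := hmax m.asIdeal m.isMaximal; ⟨i, hi⟩
    choose g hg using this
    have hinj : Function.Injective g := by
      intro m m' h
      ext1
      rw [hg m, hg m', h]
    exact Finite.of_injective g hinj
  · refine ⟨?_, ?_, ?_⟩
    · intro m hm
      obtain ⟨i, hi, hi'⟩ := hmax m hm
      refine ⟨⟨i, ?_⟩, fun j hj => ?_⟩
      · change (p i).asIdeal = m.comap _
        rw [hi, hPunder]
      · change m.comap _ = _
        change m.comap _ ≤ _ at hj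
        rw [hi, hPunder] at hj ⊢
        exact hi' j hj
    · intro m hm m' hm' h
      change m.comap _ = m'.comap _ at h
      have h1 : m ≤ m' := by
        rw [← IsLocalization.under_le_under_iff M (S := S)]; exact le_of_eq h
      have h2 : m' ≤ m := by
        rw [← IsLocalization.under_le_under_iff M (S := S)]; exact le_of_eq h.symm
      exact le_antisymm h1 h2
    · rintro q ⟨⟨i, rfl⟩, hq⟩
      obtain ⟨m, hm, hPm⟩ := Ideal.exists_le_maximal (P i) (hPprime i).ne_top
      obtain ⟨j, hj, _⟩ := hmax m hm
      have : (p i).asIdeal ≤ (p j).asIdeal := by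
        rw [← hPunder i, ← hPunder j, ← hj]
        exact Ideal.comap_mono hPm
      have heq := hq j this
      refine ⟨m, hm, ?_⟩
      change m.comap _ = _
      rw [hj, hPunder]
      exact heq.symm

end Groth.Agent.S7668
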