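import Groth.Statements.S7671
-- import your own Groth.Agent.* helpers here
import Groth.Agent.Lib.Helper29.FBCFlat

set_option autoImplicit false
universe u
open CategoryTheory CategoryTheory.Limits AlgebraicGeometry
open Variety

namespace Groth.Agent.S7671

open CategoryTheory.Limits in
open scoped TensorProduct in
open Groth.Agent.Lib.Helper29.FBCFlat in
theorem aux (A B : Type u) [CommRing A]
    [CommRing B] [Algebra A B] [Module.FaithfullyFlat A B]
    (X : Scheme.{u}) (f : X ⟶ Spec (CommRingCat.of A)) [CompactSpace X] [QuasiSeparatedSpace X]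
    [Finite (MaximalSpectrum Γ(X, ⊤))] (L : X.Modules) (hL : PicF.IsInvertible L)
    (htriv : Nonempty ((Scheme.Modules.pullback
        (pullback.fst f (Spec.map (CommRingCat.ofHom (algebraMap A B))))).obj L ≅
      Coh.structureModule (pullback f (Spec.map (CommRingCat.ofHom (algebraMap A B)))))) :
    Nonempty (L ≅ Coh.structureModule X) := by
  let φ : CommRingCat.of A ⟶ Γ(X, ⊤) := (Scheme.ΓSpecIso (CommRingCat.of A)).inv ≫ f.appTop
  letI : Algebra A Γ(X, ⊤) := φ.hom.toAlgebra
  have hfac : f = X.toSpecΓ ≫ Spec.map φ := by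
    have h1 := Scheme.toSpecΓ_naturality f
    rw [← SpecMap_ΓSpecIso_hom] at h1
    have h2 : f = (f ≫ Spec.map (Scheme.ΓSpecIso (CommRingCat.of A)).hom) ≫
        Spec.map (Scheme.ΓSpecIso (CommRingCat.of A)).inv := by
      rw [Category.assoc, ← Spec.map_comp, Iso.inv_hom_id, Spec.map_id, Category.comp_id]
    rw [h2, h1, Category.assoc, ← Spec.map_comp]
  set s := Spec.map (CommRingCat.ofHom (algebraMap A B)) with hs
  have hpo := CommRingCat.isPushout_tensorProduct A Γ(X, ⊤) B
  have hpb_bot := isPullback_SpecMap_of_isPushout _ _ _ _ hpo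
  have hφ : CommRingCat.ofHom (algebraMap A Γ(X, ⊤)) = φ := rfl
  rw [hφ] at hpb_bot
  have hcond : (pullback.fst f s ≫ X.toSpecΓ) ≫ Spec.map φ = pullback.snd f s ≫ s := by
    rw [Category.assoc, ← hfac]
    exact pullback.condition
  let q' := hpb_bot.lift (pullback.fst f s ≫ X.toSpecΓ) (pullback.snd f s) hcond
  have hq1 : q' ≫ Spec.map (CommRingCat.ofHom (S := (Γ(X, ⊤) : Type u) ⊗[A] B)
      Algebra.TensorProduct.includeLeftRingHom) = pullback.fst f s ≫ X.toSpecΓ :=
    hpb_bot.lift_fst _ _ _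
  have hq2 : q' ≫ Spec.map (CommRingCat.ofHom (S := (Γ(X, ⊤) : Type u) ⊗[A] B)
      Algebra.TensorProduct.includeRight.toRingHom) = pullback.snd f s :=
    hpb_bot.lift_snd _ _ _
  have hout : IsPullback (pullback.fst f s)
      (q' ≫ Spec.map (CommRingCat.ofHom (S := (Γ(X, ⊤) : Type u) ⊗[A] B)
        Algebra.TensorProduct.includeRight.toRingHom)) (X.toSpecΓ ≫ Spec.map φ) s := by
    rw [hq2, ← hfac]
    exact IsPullback.of_hasPullback f s
  have hpb_top := IsPullback.of_bot hout hq1.symm hpb_bot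
  have halg : CommRingCat.ofHom (S := (Γ(X, ⊤) : Type u) ⊗[A] B)
      Algebra.TensorProduct.includeLeftRingHom =
      CommRingCat.ofHom (algebraMap (Γ(X, ⊤) : Type u) ((Γ(X, ⊤) : Type u) ⊗[A] B)) := by
    congr 1
  rw [halg] at hpb_top
  have ha : Function.Bijective (aX (R := (Γ(X, ⊤) : Type u)) X.toSpecΓ ⊤) := by
    have h1 : aXc (R := (Γ(X, ⊤) : Type u)) X.toSpecΓ ⊤ = 𝟙 _ := by
      unfold aXc
      have h2 : X.toSpecΓ.appLE ⊤ ⊤ le_top = X.toSpecΓ.appTop := by
        simp [Scheme.Hom.appLE, Scheme.Hom.appTop]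
      rw [h2, Scheme.toSpecΓ_appTop]
      exact Iso.inv_hom_id _
    change Function.Bijective (aXc (R := (Γ(X, ⊤) : Type u)) X.toSpecΓ ⊤).hom
    rw [h1]
    exact Function.bijective_id
  exact nonempty_iso_unit (R := (Γ(X, ⊤) : Type u)) (R' := (Γ(X, ⊤) : Type u) ⊗[A] B)
    X.toSpecΓ (pullback.fst f s) q' hpb_top ha L hL htriv

/-- Let A → B be faithfully flat and X a quasi-compact and quasi-separated scheme over A such that
H^0(X, O_X) is a semi-local ring. Then Pic(X) → Pic(X_B) is injective: an invertible module on X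
which becomes trivial on X_B is trivial. -/
theorem result (A B : Type u) [CommRing A]
    [CommRing B] [Algebra A B] [Module.FaithfullyFlat A B]
    (X : Scheme.{u}) (f : X ⟶ Spec (CommRingCat.of A)) [CompactSpace X] [QuasiSeparatedSpace X]
    (hsl : Finite (MaximalSpectrum Γ(X, ⊤))) (L : X.Modules) (hL : PicF.IsInvertible L)
    (htriv : Nonempty ((Scheme.Modules.pullback
        (pullback.fst f (Spec.map (CommRingCat.ofHom (algebraMap A B))))).obj L ≅
      Coh.structureModule (pullback f (Spec.map (CommRingCat.ofHom (algebraMap A B)))))) :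
    Nonempty (L ≅ Coh.structureModule X) := by
  haveI := hsl
  exact aux A B X f L hL htriv

end Groth.Agent.S7671
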