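import Groth.Statements.S7676
-- import your own Groth.Agent.* helpers here
import Groth.Agent.Lib.Helper29.Hyp3
import Groth.Agent.Lib.Helper29.SerreA

set_option autoImplicit false
universe u
open CategoryTheory CategoryTheory.Limits AlgebraicGeometry
open Variety

namespace Groth.Agent.S7676

/-- Let k be a field, n ≥ 1 and i : H → P^n_k a hyperplane, the zero scheme of a nonzero section of
O(1). Then there is an isomorphism φ : P^{n-1}_k → H under which i^*O(1) pulls back to O(1).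
(Indexed here with P^{n+1} and P^n.) -/
theorem result (k : Type u) [Field k] (n : ℕ)
    (s : Coh.structureModule (CohB1.ProjSpace (n + 1) k) ⟶ Twist.twistProjSpace (n + 1) k 1) (hs : s ≠ 0) :
    ∃ φ : CohB1.ProjSpace n k ≅ (PicF2.zeroScheme _ s).subscheme,
      Nonempty ((Scheme.Modules.pullback (φ.hom ≫ (PicF2.zeroScheme _ s).subschemeι)).obj
          (Twist.twistProjSpace (n + 1) k 1) ≅ Twist.twistProjSpace n k 1) := by
  classical
  -- the linear form
  obtain ⟨l, hl⟩ := Groth.Agent.Lib.Helper29.QCoh.polySec_surjective (n + 1) k 1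
    (Groth.Agent.Lib.Helper29.QCoh.sval s ⊤)
  have hgl : Groth.Agent.Lib.Helper29.QCoh.sval s ⊤ =
      Groth.Agent.Lib.Helper29.QCoh.gOf (CohB1.polyGrading (n + 1) k) l := hl.symm
  have hl0 : l.1 ≠ 0 := by
    intro h0
    apply hs
    apply Groth.Agent.Lib.Helper29.QCoh.hom_ext_of_sval
    rw [Groth.Agent.Lib.Helper29.QCoh.sval_zero', ← hl]
    have hl' : l = 0 := Subtype.ext h0
    rw [hl']
    have := Groth.Agent.Lib.Helper29.QCoh.polySec_add (n + 1) k 1 0 0
    rw [add_zero] at this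
    exact left_eq_add.mp this
  obtain ⟨c, hc⟩ := Groth.Agent.Lib.Helper29.Hyp.exists_eq_lin n l.1 l.2
  obtain ⟨i0, hi0⟩ := Groth.Agent.Lib.Helper29.Hyp.exists_ne_zero_of_lin_ne_zero n c (hc ▸ hl0)
  have hker := Groth.Agent.Lib.Helper29.Hyp.ker_map_eq_zeroScheme n c i0 s l hgl hc hi0
  obtain ⟨φ, hφ⟩ := Groth.Agent.Lib.Helper29.Hyp.exists_iso_subscheme_of_ker_eq
    (Proj.map (Groth.Agent.Lib.Helper29.Hyp.psiG n c i0)
      (Groth.Agent.Lib.Helper29.Hyp.psiG_irrelevant n c i0)) _ hker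
  have key : Nonempty ((Scheme.Modules.pullback
      (Proj.map (Groth.Agent.Lib.Helper29.Hyp.psiG n c i0)
        (Groth.Agent.Lib.Helper29.Hyp.psiG_irrelevant n c i0))).obj
      (Twist.twist (CohB1.polyGrading (n + 1) k) 1) ≅ Twist.twist (CohB1.polyGrading n k) 1) := by
    refine Groth.Agent.Lib.Helper29.Hyp.exists_iso_pullback_map_twist_one
      (Groth.Agent.Lib.Helper29.Hyp.psiG n c i0)
      (Groth.Agent.Lib.Helper29.Hyp.psiG_irrelevant n c i0)
      (fun m : Fin (n + 1) => Groth.Agent.Lib.Helper29.QCoh.Xi (n + 1) k (i0.succAbove m)) ?_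
    intro x
    obtain ⟨m, hm⟩ := Groth.Agent.Lib.Helper29.QCoh.exists_mem_basicOpen_X n k x
    refine ⟨m, ?_⟩
    have hX : Groth.Agent.Lib.Helper29.Hyp.psiG n c i0
        (Groth.Agent.Lib.Helper29.QCoh.Xi (n + 1) k (i0.succAbove m)).1 = MvPolynomial.X m :=
      Groth.Agent.Lib.Helper29.Hyp.psi_X_succAbove n c i0 m
    rw [hX]
    exact hm
  rw [← hφ] at key
  exact ⟨φ, key⟩

end Groth.Agent.S7676
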