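import Groth.Statements.S7677
import Groth.Agent.Lib.Lead.Koszul.SerreVanish

set_option autoImplicit false
universe u
open CategoryTheory CategoryTheory.Limits AlgebraicGeometry
open Variety

namespace Groth.Agent.S7677

/-- Let k be a field, n ≥ 0 and F a coherent module on P^n_k with Hilbert polynomial P, i.e. χ(P^n_k,
F(d)) = P(d) for all d. Then P(d) = dim_k H^0(P^n_k, F(d)) for all d ≫ 0. -/
theorem result (k : Type u) [Field k] (n : ℕ)
    (F : (CohB1.ProjSpace n k).Modules) (hF : Coh.IsCoh F) (P : Polynomial ℚ)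
    (hP : ∀ d : ℤ, (Curv2.euler k (CohB1.ProjSpace n k)
      (CohB1.tensorMod F (Twist.twistProjSpace n k d)) : ℚ) = P.eval (d : ℚ)) :
    ∃ d₀ : ℤ, ∀ d : ℤ, d₀ ≤ d →
      P.eval (d : ℚ) = (Module.finrank k (Coh.HH (CohB1.ProjSpace n k)
        (CohB1.tensorMod F (Twist.twistProjSpace n k d)) 0) : ℚ) := by
  obtain ⟨j₀, hj⟩ := Groth.Agent.Lib.Lead.Koszul.exists_vanishing_tw n k F hF
  refine ⟨j₀, fun d hd => ?_⟩
  rw [← hP d]
  have hvan : ∀ i : ℕ, 1 ≤ i → Module.finrank k (Coh.HH (CohB1.ProjSpace n k)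
      (CohB1.tensorMod F (Twist.twistProjSpace n k d)) i) = 0 := by
    intro i hi
    haveI := hj d hd i hi
    exact Module.finrank_zero_of_subsingleton
  have he : Curv2.euler k (CohB1.ProjSpace n k)
      (CohB1.tensorMod F (Twist.twistProjSpace n k d)) =
      (Module.finrank k (Coh.HH (CohB1.ProjSpace n k)
        (CohB1.tensorMod F (Twist.twistProjSpace n k d)) 0) : ℤ) := by
    unfold Curv2.euler
    rw [finsum_eq_single _ 0]
    · simp
    · intro i hi
      rw [hvan i (Nat.one_le_iff_ne_zero.mpr hi)]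
      simp
  rw [he]
  simp

end Groth.Agent.S7677
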