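import Groth.Statements.S7679
import Groth.Agent.Lib.Lead.SD.AmpleNeg

set_option autoImplicit false
universe u
open CategoryTheory CategoryTheory.Limits AlgebraicGeometry
open Variety

namespace Groth.Agent.S7679

/-- Let X be proper over a field k, L an ample invertible module and F a coherent module such that
Ass(F) contains no closed point. Then Γ(X, F ⊗ L^{⊗n}) = 0 for n ≪ 0; here negative powers of L are
written as positive powers of an inverse M of L. -/
theorem result (k : Type u) [Field k] (X : Scheme.{u}) [X.Over (Spec (CommRingCat.of k))] [IsProper (X ↘ (Spec (CommRingCat.of k)))]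
    (L : X.Modules) (hL : CohB1.IsAmple L) (M : X.Modules) (hM : ClSub.IsInverseOf L M)
    (F : X.Modules) (hF : Coh.IsCoh F) (hass : ∀ x : X, IsClosed ({x} : Set X) → ¬ Curv2.IsAssPoint F x) :
    ∃ n₀ : ℕ, ∀ n : ℕ, n₀ ≤ n →
      Subsingleton (Coh.HH X (CohB1.tensorMod F (CohB1.tensorPow M n)) 0) := by
  haveI : IsLocallyNoetherian (Spec (CommRingCat.of k)) :=
    isLocallyNoetherian_Spec.mpr (inferInstanceAs (IsNoetherianRing k))
  haveI : IsLocallyNoetherian X :=
    LocallyOfFiniteType.isLocallyNoetherian (X ↘ (Spec (CommRingCat.of k)))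
  exact Groth.Agent.Lib.Lead.SD.AmpleNeg.exists_vanishing_neg k X L hL M hM 1 F hF
    (fun x hx => by
      exact_mod_cast Groth.Agent.Lib.Lead.SD.AmpleNeg.one_le_depth_of_not_isAssPoint F hF x
        (hass x hx)) 0 (by norm_num)

end Groth.Agent.S7679
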