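import Groth.Statements.S7684
import Groth.Agent.Lib.Helper21.NormDimOne2
-- import your own Groth.Agent.* helpers here

set_option autoImplicit false
universe u
open CategoryTheory CategoryTheory.Limits AlgebraicGeometry
open Variety

namespace Groth.Agent.S7684

/-- For an integral scheme: let X be an integral locally Noetherian scheme of dimension one and ν : X^ν
→ X its normalization. Then ν has finite fibres and finite residue field extensions, and X^ν is a
locally Noetherian scheme whose nonempty affine opens are spectra of Dedekind domains. (The
published statement is for any locally Noetherian X of dimension one, with X^ν → X_red, and also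
says that ν is integral, surjective and birational, that X^ν is normal and that its stalks are the
integral closures of those of X; here X is integral, and those clauses, which hold for the
normalization of every integral scheme, are not restated.) -/
theorem result (X : Scheme.{u}) [IsIntegral X] [IsLocallyNoetherian X]
    [QuasiCompact (X.fromSpecStalk (genericPoint X))] [QuasiSeparated (X.fromSpecStalk (genericPoint X))]
    (hdim : topologicalKrullDim X = 1) :
    (∀ x : X, Finite {x' : ↥(Curv2.normalization X) // (Curv2.normalizationι X).base x' = x}) ∧
      (∀ x' : ↥(Curv2.normalization X),
        letI := ((Curv2.normalizationι X).residueFieldMap x').hom.toAlgebra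
        Module.Finite (X.residueField ((Curv2.normalizationι X).base x')) ((Curv2.normalization X).residueField x')) ∧
      IsLocallyNoetherian (Curv2.normalization X) ∧
      (∀ U : (Curv2.normalization X).affineOpens, ((U : (Curv2.normalization X).Opens) : Set ↥(Curv2.normalization X)).Nonempty →
        IsDedekindDomain Γ(Curv2.normalization X, (U : (Curv2.normalization X).Opens))) := by
  have key : ∀ (h : Spec (CommRingCat.of X.functionField) ⟶ X)
      (_ : h = Groth.Agent.Lib.Helper6.GU.genHom X X.functionField (𝟙 _))
      [QuasiCompact h] [QuasiSeparated h],
      (∀ x : X, Finite {x' : h.normalization // h.fromNormalization.base x' = x}) ∧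
      (∀ x' : h.normalization,
        letI := (h.fromNormalization.residueFieldMap x').hom.toAlgebra
        Module.Finite (X.residueField (h.fromNormalization.base x'))
          (h.normalization.residueField x')) ∧
      IsLocallyNoetherian h.normalization ∧
      (∀ U : h.normalization.affineOpens,
        ((U : h.normalization.Opens) : Set h.normalization).Nonempty →
        IsDedekindDomain Γ(h.normalization, (U : h.normalization.Opens))) := by
    intro h hh _ _
    subst hh
    exact ⟨Groth.Agent.Lib.Helper21.NormDimOne.finite_fibre X hdim,
      Groth.Agent.Lib.Helper21.NormDimOne.finite_residueField X hdim,
      Groth.Agent.Lib.Helper21.NormDimOne.isLocallyNoetherian_normalization X hdim,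
      fun U hne => Groth.Agent.Lib.Helper21.NormDimOne.isDedekindDomain_sections X hdim U.1 U.2 hne⟩
  exact key (X.fromSpecStalk (genericPoint X))
    (by simp only [Groth.Agent.Lib.Helper6.GU.genHom]; erw [Spec.map_id];
        exact (Category.id_comp _).symm)

end Groth.Agent.S7684
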