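import Groth.Statements.S7690
import Groth.Agent.Lib.Lead.SD.FieldBC
import Groth.Agent.Lib.Helper29.VA7

set_option autoImplicit false
universe u
open CategoryTheory CategoryTheory.Limits AlgebraicGeometry
open Variety

namespace Groth.Agent.S7690

/-- Let k'/k be a field extension (k' in the universe of k), n ≥ 0, F a coherent module on P^n_k with
pullback F' to P^n_{k'}. For every integer m, F is m-regular exactly when F' is. Here P^n_{k'} is
taken as the base change P^n_k ×_k Spec k' and the m-regularity of F' is spelled out as the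
vanishing of H^i(P^n_{k'}, (F(m − i))') for 1 ≤ i ≤ n, (F(m − i))' being the pullback of F ⊗ O(m −
i). -/
theorem result (k : Type u) [Field k] (n : ℕ)
    (k' : Type u) [Field k'] [Algebra k k'] (F : (CohB1.ProjSpace n k).Modules) (hF : Coh.IsCoh F) (m : ℤ) :
    Curv2.IsMRegular k n F m ↔
      ∀ i : ℕ, 1 ≤ i → i ≤ n →
        Subsingleton (Coh.HH (Curv2.bc k (CohB1.ProjSpace n k) k')
          ((Scheme.Modules.pullback (Curv2.bcFst k (CohB1.ProjSpace n k) k')).obj
            (CohB1.tensorMod F (Twist.twistProjSpace n k (m - i)))) i) := by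
  haveI : IsProper ((CohB1.ProjSpace n k) ↘ (Spec (CommRingCat.of k))) := by
    change IsProper (CohB1.ProjSpace.toSpec n k)
    exact Groth.Agent.Lib.Helper29.QCoh.isProper_toSpec n k
  haveI : CompactSpace (CohB1.ProjSpace n k) :=
    QuasiCompact.compactSpace_of_compactSpace ((CohB1.ProjSpace n k) ↘ (Spec (CommRingCat.of k)))
  haveI : QuasiSeparatedSpace (CohB1.ProjSpace n k) :=
    quasiSeparatedSpace_of_quasiSeparated ((CohB1.ProjSpace n k) ↘ (Spec (CommRingCat.of k)))
  unfold Curv2.IsMRegular
  refine forall_congr' fun i => forall_congr' fun _ => forall_congr' fun _ => ?_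
  haveI := hF.1
  haveI : (Twist.twistProjSpace n k (m - i)).IsQuasicoherent :=
    (Groth.Agent.Lib.Lead.Pn.isCoh_twist n k (m - i)).1
  exact (Groth.Agent.Lib.Lead.SD.FieldBC.subsingleton_HH_bc_iff k _ k' _ i).symm

end Groth.Agent.S7690
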