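import Groth.Statements.S8256
import Groth.Agent.Lib.Helper3.OfAff
import Groth.Agent.Lib.Helper3.QCAlgLift2
import Groth.Agent.Lib.Helper3.QCAlgPushout
import Mathlib

set_option autoImplicit false
universe u
open CategoryTheory CategoryTheory.Limits AlgebraicGeometry Opposite TopologicalSpace
open EGA2

namespace Groth.Agent.S8256

section Aux
open RelSpec Groth.Agent.Lib.Helper3 AlgebraicGeometry.Scheme.AffineZariskiSite

variable {X X' Y Z S : Scheme.{u}} (g : Y ⟶ S) [IsAffineHom g]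
    (f : X ⟶ Y) [IsAffineHom f] (f' : X' ⟶ Y) [IsAffineHom f'] (p : Z ⟶ X) (p' : Z ⟶ X')
    (hZ : IsPullback p p' f f')

include hZ in
omit [IsAffineHom g] [IsAffineHom f] [IsAffineHom f'] in
theorem preimage_eq (U : S.Opens) : (p ≫ f ≫ g) ⁻¹ᵁ U = (p' ≫ f' ≫ g) ⁻¹ᵁ U := by
  rw [← Category.assoc, ← Category.assoc, hZ.w]

include hZ in
/-- the chartwise pushout -/
theorem isPushout_sections (U : S.Opens) (hU : IsAffineOpen U) :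
    IsPushout (f.appLE (g ⁻¹ᵁ U) ((f ≫ g) ⁻¹ᵁ U) le_rfl)
      (f'.appLE (g ⁻¹ᵁ U) ((f' ≫ g) ⁻¹ᵁ U) le_rfl)
      (p.appLE ((f ≫ g) ⁻¹ᵁ U) ((p ≫ f ≫ g) ⁻¹ᵁ U) le_rfl)
      (p'.appLE ((f' ≫ g) ⁻¹ᵁ U) ((p ≫ f ≫ g) ⁻¹ᵁ U) (preimage_eq g f f' p p' hZ U).le) := by
  have hUY : (p ≫ f ≫ g) ⁻¹ᵁ U = p ⁻¹ᵁ ((f ≫ g) ⁻¹ᵁ U) ⊓ p' ⁻¹ᵁ ((f' ≫ g) ⁻¹ᵁ U) := by
    have h1 : p' ⁻¹ᵁ ((f' ≫ g) ⁻¹ᵁ U) = (p ≫ f ≫ g) ⁻¹ᵁ U :=
      (preimage_eq g f f' p p' hZ U).symm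
    rw [h1]
    exact (inf_idem _).symm
  have hiso := isIso_pushoutSection_of_isAffineOpen hZ (US := g ⁻¹ᵁ U)
    (UT := (f' ≫ g) ⁻¹ᵁ U) (UX := (f ≫ g) ⁻¹ᵁ U) le_rfl le_rfl hUY (hU.preimage g)
    (hU.preimage (f' ≫ g)) (hU.preimage (f ≫ g))
  exact (isIso_pushoutSection_iff hZ le_rfl le_rfl hUY).mp hiso


end Aux
open RelSpec Groth.Agent.Lib.Helper3 AlgebraicGeometry.Scheme.AffineZariskiSite


/-- Let Y be affine over S (g : Y → S affine) and X, X' affine over Y (f, f' affine), and let Z = X ×_Y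
X' with projections p : Z → X, p' : Z → X'. Then Z is affine over Y and over S, and its direct-image
algebra on S is the tensor product: the square of quasi-coherent O_S-algebras A(Y) → A(X), A(Y) →
A(X'), A(X) → A(Z), A(X') → A(Z), whose maps are induced by f, f', p, p', is a pushout square in the
category of quasi-coherent O_S-algebras. -/
theorem result {X X' Y Z S : Scheme.{u}} (g : Y ⟶ S) [IsAffineHom g]
    (f : X ⟶ Y) [IsAffineHom f] (f' : X' ⟶ Y) [IsAffineHom f'] (p : Z ⟶ X) (p' : Z ⟶ X') [IsAffineHom p]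
    (hZ : IsPullback p p' f f') :
    IsPushout
      (C := RelSpec.QCAlg S)
      (⟨AffAlg.algHom g (f ≫ g) f rfl, AffAlg.algHom_comm g (f ≫ g) f rfl⟩ :
        RelSpec.QCAlg.directImage g ⟶ RelSpec.QCAlg.directImage (f ≫ g))
      (⟨AffAlg.algHom g (f' ≫ g) f' rfl, AffAlg.algHom_comm g (f' ≫ g) f' rfl⟩ :
        RelSpec.QCAlg.directImage g ⟶ RelSpec.QCAlg.directImage (f' ≫ g))
      (⟨AffAlg.algHom (f ≫ g) (p ≫ f ≫ g) p rfl, AffAlg.algHom_comm (f ≫ g) (p ≫ f ≫ g) p rfl⟩ :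
        RelSpec.QCAlg.directImage (f ≫ g) ⟶ RelSpec.QCAlg.directImage (p ≫ f ≫ g))
      (⟨AffAlg.algHom (f' ≫ g) (p ≫ f ≫ g) p'
          ((Category.assoc p' f' g).symm.trans ((congrArg (· ≫ g) hZ.w.symm).trans (Category.assoc p f g))),
        AffAlg.algHom_comm (f' ≫ g) (p ≫ f ≫ g) p'
          ((Category.assoc p' f' g).symm.trans ((congrArg (· ≫ g) hZ.w.symm).trans (Category.assoc p f g)))⟩ :
        RelSpec.QCAlg.directImage (f' ≫ g) ⟶ RelSpec.QCAlg.directImage (p ≫ f ≫ g)) := by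
  set a : QCAlg.directImage g ⟶ QCAlg.directImage (f ≫ g) :=
    ⟨AffAlg.algHom g (f ≫ g) f rfl, AffAlg.algHom_comm g (f ≫ g) f rfl⟩ with ha
  set a' : QCAlg.directImage g ⟶ QCAlg.directImage (f' ≫ g) :=
    ⟨AffAlg.algHom g (f' ≫ g) f' rfl, AffAlg.algHom_comm g (f' ≫ g) f' rfl⟩ with ha'
  set b : QCAlg.directImage (f ≫ g) ⟶ QCAlg.directImage (p ≫ f ≫ g) :=
    ⟨AffAlg.algHom (f ≫ g) (p ≫ f ≫ g) p rfl, AffAlg.algHom_comm (f ≫ g) (p ≫ f ≫ g) p rfl⟩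
    with hb
  have e' : p' ≫ f' ≫ g = p ≫ f ≫ g :=
    (Category.assoc p' f' g).symm.trans ((congrArg (· ≫ g) hZ.w.symm).trans (Category.assoc p f g))
  set b' : QCAlg.directImage (f' ≫ g) ⟶ QCAlg.directImage (p ≫ f ≫ g) :=
    ⟨AffAlg.algHom (f' ≫ g) (p ≫ f ≫ g) p' e', AffAlg.algHom_comm (f' ≫ g) (p ≫ f ≫ g) p' e'⟩
    with hb'
  have happ_a : ∀ U : S.Opens, a.hom.app (op U) =
      f.appLE (g ⁻¹ᵁ U) ((f ≫ g) ⁻¹ᵁ U) le_rfl := fun U => algHom_app g (f ≫ g) f rfl U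
  have happ_a' : ∀ U : S.Opens, a'.hom.app (op U) =
      f'.appLE (g ⁻¹ᵁ U) ((f' ≫ g) ⁻¹ᵁ U) le_rfl := fun U => algHom_app g (f' ≫ g) f' rfl U
  have happ_b : ∀ U : S.Opens, b.hom.app (op U) =
      p.appLE ((f ≫ g) ⁻¹ᵁ U) ((p ≫ f ≫ g) ⁻¹ᵁ U) le_rfl :=
    fun U => algHom_app (f ≫ g) (p ≫ f ≫ g) p rfl U
  have happ_b' : ∀ U : S.Opens, b'.hom.app (op U) =
      p'.appLE ((f' ≫ g) ⁻¹ᵁ U) ((p ≫ f ≫ g) ⁻¹ᵁ U) (preimage_eq g f f' p p' hZ U).le :=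
    fun U => algHom_app (f' ≫ g) (p ≫ f ≫ g) p' e' U
  have hpo : ∀ (U : S.Opens) (_ : IsAffineOpen U),
      IsPushout (a.hom.app (op U)) (a'.hom.app (op U)) (b.hom.app (op U)) (b'.hom.app (op U)) := by
    intro U hU
    rw [happ_a, happ_a', happ_b, happ_b']
    exact isPushout_sections g f f' p p' hZ U hU
  exact QCAlg.isPushout_of_charts a a' b b' hpo

end Groth.Agent.S8256
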