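import Groth.Statements.S8260
import Mathlib

set_option autoImplicit false
universe u
open CategoryTheory CategoryTheory.Limits AlgebraicGeometry Opposite TopologicalSpace
open scoped HomogeneousIdeal
open EGA2

namespace Groth.Agent.S8260

/-- the local description of `p` over an affine open -/
theorem morphismRestrict_eq {Y P : Scheme.{u}} (𝒮 : RelProj.QCGrAlg Y) (p : P ⟶ Y)
    (chart : ∀ (U : Y.Opens) (hU : IsAffineOpen U),
      (((p ⁻¹ᵁ U : P.Opens) : Scheme.{u}) ≅ Proj (𝒮.deg U hU)))
    (hP : RelProj.IsRelProj 𝒮 p chart) (U : Y.Opens) (hU : IsAffineOpen U) :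
    p ∣_ U = (chart U hU).hom ≫ Proj.toSpecZero (𝒮.deg U hU) ≫ Spec.map (𝒮.strZero U hU) ≫
      hU.isoSpec.inv := by
  rw [← cancel_mono U.ι, morphismRestrict_ι, ← hP.chart_over U hU]
  simp only [Category.assoc, IsAffineOpen.isoSpec_inv_ι]

theorem finiteType_zero {Y : Scheme.{u}} (𝒮 : RelProj.QCGrAlg Y) (U : Y.Opens)
    (hU : IsAffineOpen U) (hft : (𝒮.str.app (op U)).hom.FiniteType) :
    Algebra.FiniteType (𝒮.deg U hU 0) (𝒮.presheaf.obj (op U)) ∧
      (𝒮.strZero U hU).hom.FiniteType := by
  have hcomp : (𝒮.str.app (op U)).hom =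
      (algebraMap (𝒮.deg U hU 0) (𝒮.presheaf.obj (op U))).comp (𝒮.strZero U hU).hom := by
    ext r
    rfl
  constructor
  · rw [← RingHom.finiteType_algebraMap]
    rw [hcomp] at hft
    exact RingHom.FiniteType.of_comp_finiteType hft
  · have hz : (𝒮.strZero U hU).hom =
        (GradedRing.projZeroRingHom' (𝒮.deg U hU)).comp (𝒮.str.app (op U)).hom := by
      ext r
      have hr : (𝒮.str.app (op U)).hom r ∈ 𝒮.deg U hU 0 := 𝒮.str_mem U hU r
      have := GradedRing.projZeroRingHom'_apply_coe (𝒜 := 𝒮.deg U hU)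
        ⟨(𝒮.str.app (op U)).hom r, hr⟩
      rw [RingHom.comp_apply]
      exact congrArg Subtype.val this.symm
    rw [hz]
    refine RingHom.FiniteType.comp (RingHom.FiniteType.of_surjective _ ?_) hft
    intro a
    exact ⟨a, GradedRing.projZeroRingHom'_apply_coe (𝒜 := 𝒮.deg U hU) a⟩

/-- If the quasi-coherent positively graded O_Y-algebra 𝒮 is of finite type (over every affine open U of
Y the ring 𝒮(U) is a finitely generated O_Y(U)-algebra), then its relative homogeneous spectrum
Proj(𝒮) is of finite type over Y. -/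
theorem result {Y P : Scheme.{u}} (𝒮 : RelProj.QCGrAlg Y)
    (hft : ∀ (U : Y.Opens) (hU : IsAffineOpen U), (𝒮.str.app (op U)).hom.FiniteType)
    (p : P ⟶ Y)
    (chart : ∀ (U : Y.Opens) (hU : IsAffineOpen U), (((p ⁻¹ᵁ U : P.Opens) : Scheme.{u}) ≅ Proj (𝒮.deg U hU)))
    (hP : RelProj.IsRelProj 𝒮 p chart) : LocallyOfFiniteType p ∧ QuasiCompact p := by
  have key : ∀ (U : Y.Opens) (hU : IsAffineOpen U),
      LocallyOfFiniteType (p ∣_ U) ∧ QuasiCompact (p ∣_ U) := by
    intro U hU
    obtain ⟨h0, h1⟩ := finiteType_zero 𝒮 U hU (hft U hU)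
    have h2 : LocallyOfFiniteType (Spec.map (𝒮.strZero U hU)) := by
      rw [HasRingHomProperty.Spec_iff (P := @LocallyOfFiniteType)]
      exact h1
    rw [morphismRestrict_eq 𝒮 p chart hP U hU]
    constructor <;> infer_instance
  constructor
  · rw [IsZariskiLocalAtTarget.iff_of_openCover (P := @LocallyOfFiniteType) Y.affineCover]
    intro i
    exact (MorphismProperty.arrow_mk_iso_iff @LocallyOfFiniteType
      (morphismRestrictOpensRange p (Y.affineCover.f i))).mp
      (key _ (isAffineOpen_opensRange _)).1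
  · rw [IsZariskiLocalAtTarget.iff_of_openCover (P := @QuasiCompact) Y.affineCover]
    intro i
    exact (MorphismProperty.arrow_mk_iso_iff @QuasiCompact
      (morphismRestrictOpensRange p (Y.affineCover.f i))).mp
      (key _ (isAffineOpen_opensRange _)).2

end Groth.Agent.S8260
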