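import Groth.Statements.S8261
import Groth.Agent.Lib.Helper3.ProjFT
import Mathlib.AlgebraicGeometry.Morphisms.FiniteType
import Mathlib.AlgebraicGeometry.Morphisms.QuasiCompact

set_option autoImplicit false
universe u
open CategoryTheory CategoryTheory.Limits AlgebraicGeometry Opposite TopologicalSpace
open scoped HomogeneousIdeal
open EGA2

namespace Groth.Agent.S8261

section Aux
open Groth.Agent.Lib.Helper3 HomogeneousLocalization

variable {R A σ : Type u} [CommRing R] [CommRing A] [SetLike σ A] [AddSubgroupClass σ A]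
  (𝒜 : ℕ → σ) [GradedRing 𝒜] (ρ₀ : R →+* 𝒜 0)
  (hgen : Subring.closure ((𝒜 0 : Set A) ∪ (𝒜 1 : Set A)) = ⊤)
  (T : Finset A) (hT : (↑T : Set A) ⊆ (𝒜 1 : Set A))
  (hspan : ∀ x ∈ 𝒜 1, ∃ c : A → R, x = ∑ t' ∈ T, (ρ₀ (c t') : A) * t')

include hgen hspan in
theorem adjoin_eq_top : Algebra.adjoin (𝒜 0) (Set.range (fun t : T => (t : A))) = ⊤ := by
  rw [eq_top_iff]
  rintro x -
  have hx : x ∈ Subring.closure ((𝒜 0 : Set A) ∪ (𝒜 1 : Set A)) := by rw [hgen]; trivial
  have hle : Subring.closure ((𝒜 0 : Set A) ∪ (𝒜 1 : Set A)) ≤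
      (Algebra.adjoin (𝒜 0) (Set.range (fun t : T => (t : A)))).toSubring := by
    rw [Subring.closure_le]
    rintro y (hy | hy)
    · exact Subalgebra.algebraMap_mem _ (⟨y, hy⟩ : 𝒜 0)
    · obtain ⟨c, hc⟩ := hspan y hy
      change y ∈ Algebra.adjoin (𝒜 0) (Set.range (fun t : T => (t : A)))
      rw [hc]
      refine Subalgebra.sum_mem _ fun t' ht' => ?_
      refine Subalgebra.mul_mem _ (Subalgebra.algebraMap_mem _ (ρ₀ (c t'))) ?_
      exact Algebra.subset_adjoin ⟨⟨t', ht'⟩, rfl⟩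
  exact hle hx

include hgen hT hspan in
theorem iSup_basicOpen_eq_top : ⨆ t : T, Proj.basicOpen 𝒜 (t : A) = ⊤ :=
  Proj.iSup_basicOpen_eq_top' 𝒜 (fun t : T => (t : A)) (fun t => ⟨1, hT t.2⟩)
    (adjoin_eq_top 𝒜 ρ₀ hgen T hspan)

include hgen hT hspan in
set_option backward.isDefEq.respectTransparency.types false in
theorem loft : LocallyOfFiniteType (Proj.toSpecZero 𝒜 ≫ Spec.map (CommRingCat.ofHom ρ₀)) := by
  rw [IsZariskiLocalAtSource.iff_of_iSup_eq_top (P := @LocallyOfFiniteType) _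
    (iSup_basicOpen_eq_top 𝒜 ρ₀ hgen T hT hspan)]
  intro i
  rw [← MorphismProperty.cancel_left_of_respectsIso (P := @LocallyOfFiniteType)
    (Proj.basicOpenIsoSpec 𝒜 (i : A) (hT i.2) one_pos).inv, ← Category.assoc,
    ← Proj.awayι, Proj.awayι_toSpecZero_assoc, ← Spec.map_comp,
    HasRingHomProperty.Spec_iff (P := @LocallyOfFiniteType)]
  exact ProjFT.finiteType 𝒜 (hT i.2) ρ₀ hgen T hspan

include hgen hT hspan in
theorem compactSpace : CompactSpace (Proj 𝒜) := by
  have H (i : T) : IsCompact (Proj.basicOpen 𝒜 (i : A)).1 := by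
    rw [← Proj.opensRange_awayι _ _ (hT i.2) one_pos]
    exact isCompact_range (Proj.awayι _ _ (hT i.2) one_pos).continuous
  have := congr($(iSup_basicOpen_eq_top 𝒜 ρ₀ hgen T hT hspan).1)
  simp only [TopologicalSpace.Opens.iSup_mk, TopologicalSpace.Opens.carrier_eq_coe,
    TopologicalSpace.Opens.coe_mk, TopologicalSpace.Opens.coe_top] at this
  rw [← isCompact_univ_iff, ← this]
  exact isCompact_iUnion H

end Aux

/-- the local description of `p` over an affine open -/
theorem morphismRestrict_eq {Y P : Scheme.{u}} (𝒮 : RelProj.QCGrAlg Y) (p : P ⟶ Y)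
    (chart : ∀ (U : Y.Opens) (hU : IsAffineOpen U),
      (((p ⁻¹ᵁ U : P.Opens) : Scheme.{u}) ≅ Proj (𝒮.deg U hU)))
    (hP : RelProj.IsRelProj 𝒮 p chart) (U : Y.Opens) (hU : IsAffineOpen U) :
    p ∣_ U = (chart U hU).hom ≫ (Proj.toSpecZero (𝒮.deg U hU) ≫ Spec.map (𝒮.strZero U hU)) ≫
      hU.isoSpec.inv := by
  rw [← cancel_mono U.ι, morphismRestrict_ι, ← hP.chart_over U hU]
  simp only [Category.assoc, IsAffineOpen.isoSpec_inv_ι]



/-- Let 𝒮 be a quasi-coherent positively graded O_Y-algebra generated by 𝒮_1 with 𝒮_1 of finite type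
over O_Y. Then Proj(𝒮) is of finite type over Y. -/
theorem result {Y P : Scheme.{u}} (𝒮 : RelProj.QCGrAlg Y)
    (hgen : 𝒮.IsGenDegOne) (hft : 𝒮.IsFTDeg 1) (p : P ⟶ Y)
    (chart : ∀ (U : Y.Opens) (hU : IsAffineOpen U), (((p ⁻¹ᵁ U : P.Opens) : Scheme.{u}) ≅ Proj (𝒮.deg U hU)))
    (hP : RelProj.IsRelProj 𝒮 p chart) : LocallyOfFiniteType p ∧ QuasiCompact p := by
  have key : ∀ (U : Y.Opens) (hU : IsAffineOpen U),
      LocallyOfFiniteType (p ∣_ U) ∧ QuasiCompact (p ∣_ U) := by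
    intro U hU
    obtain ⟨T, hT, hspan⟩ := hft U hU
    have h1 : LocallyOfFiniteType
        (Proj.toSpecZero (𝒮.deg U hU) ≫ Spec.map (𝒮.strZero U hU)) :=
      loft (𝒮.deg U hU) (𝒮.strZero U hU).hom (hgen U hU) T hT hspan
    have h2 : QuasiCompact
        (Proj.toSpecZero (𝒮.deg U hU) ≫ Spec.map (𝒮.strZero U hU)) := by
      rw [HasAffineProperty.iff_of_isAffine (P := @QuasiCompact)]
      exact compactSpace (𝒮.deg U hU) (𝒮.strZero U hU).hom (hgen U hU) T hT hspan
    rw [morphismRestrict_eq 𝒮 p chart hP U hU]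
    constructor <;> infer_instance
  constructor
  · rw [IsZariskiLocalAtTarget.iff_of_openCover (P := @LocallyOfFiniteType) Y.affineCover]
    intro i
    exact (MorphismProperty.arrow_mk_iso_iff @LocallyOfFiniteType
      (morphismRestrictOpensRange p (Y.affineCover.f i))).mp
      (key _ (isAffineOpen_opensRange _)).1
  · rw [IsZariskiLocalAtTarget.iff_of_openCover (P := @QuasiCompact) Y.affineCover]
    intro i
    exact (MorphismProperty.arrow_mk_iso_iff @QuasiCompact
      (morphismRestrictOpensRange p (Y.affineCover.f i))).mp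
      (key _ (isAffineOpen_opensRange _)).2

end Groth.Agent.S8261
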