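import Groth.Statements.S8264
import Groth.Agent.Lib.Helper3.ProjIntegral

set_option autoImplicit false
universe u
open CategoryTheory CategoryTheory.Limits AlgebraicGeometry Opposite TopologicalSpace
open scoped HomogeneousIdeal
open EGA2

namespace Groth.Agent.S8264

section Aux
open Groth.Agent.Lib.Helper3

variable {Y P : Scheme.{u}} [IsIntegral Y] (𝒮 : RelProj.QCGrAlg Y)
    (hint : ∀ (U : Y.Opens) (hU : IsAffineOpen U), (U : Set Y).Nonempty →
      IsDomain (𝒮.presheaf.obj (op U)) ∧ ((𝒮.deg U hU)₊).toIdeal ≠ ⊥)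
    (p : P ⟶ Y)
    (chart : ∀ (U : Y.Opens) (hU : IsAffineOpen U), (((p ⁻¹ᵁ U : P.Opens) : Scheme.{u}) ≅ Proj (𝒮.deg U hU)))

include hint chart in
theorem isIntegral_preimage (U : Y.Opens) (hU : IsAffineOpen U) (hne : (U : Set Y).Nonempty) :
    IsIntegral ((p ⁻¹ᵁ U : P.Opens) : Scheme.{u}) := by
  obtain ⟨hdom, hirr⟩ := hint U hU hne
  have := ProjIntegral.isIntegral_of_isDomain (𝒮.deg U hU) hirr
  exact IsIntegral.of_isIso (chart U hU).inv

include hint chart in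
theorem isIrreducible_preimage (U : Y.Opens) (hU : IsAffineOpen U) (hne : (U : Set Y).Nonempty) :
    IsIrreducible ((p ⁻¹ᵁ U : P.Opens) : Set P) := by
  have := isIntegral_preimage 𝒮 hint p chart U hU hne
  have h2 : IrreducibleSpace ↥(p ⁻¹ᵁ U : P.Opens) :=
    inferInstanceAs (IrreducibleSpace ((p ⁻¹ᵁ U : P.Opens) : Scheme.{u}))
  exact IsIrreducible.of_subtype

include hint chart in
theorem irreducibleSpace : IrreducibleSpace P := by
  have hY : Nonempty Y := inferInstance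
  obtain ⟨y⟩ := hY
  obtain ⟨U₀, hU₀, hyU₀, -⟩ := exists_isAffineOpen_mem_and_subset (x := y) (U := (⊤ : Y.Opens)) trivial
  have hneP : Nonempty P := by
    obtain ⟨x, -⟩ := (isIrreducible_preimage 𝒮 hint p chart U₀ hU₀ ⟨y, hyU₀⟩).nonempty
    exact ⟨x⟩
  have hpre : PreirreducibleSpace P := by
    refine PreirreducibleSpace.of_forall_nonempty_inter ?_
    rintro O₁ O₂ hO₁ hO₂ ⟨x, hx⟩ ⟨y, hy⟩
    obtain ⟨U, hU, hxU, -⟩ := exists_isAffineOpen_mem_and_subset (x := p x) (U := (⊤ : Y.Opens)) trivial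
    obtain ⟨V, hV, hyV, -⟩ := exists_isAffineOpen_mem_and_subset (x := p y) (U := (⊤ : Y.Opens)) trivial
    obtain ⟨w, hwU, hwV⟩ : ((U : Set Y) ∩ V).Nonempty :=
      nonempty_preirreducible_inter U.isOpen V.isOpen ⟨p x, hxU⟩ ⟨p y, hyV⟩
    obtain ⟨W, hW, hwW, hWUV⟩ := exists_isAffineOpen_mem_and_subset (x := w) (U := U ⊓ V) ⟨hwU, hwV⟩
    have hWirr := isIrreducible_preimage 𝒮 hint p chart W hW ⟨w, hwW⟩
    obtain ⟨z, hz⟩ := hWirr.nonempty
    have hzU : z ∈ ((p ⁻¹ᵁ U : P.Opens) : Set P) := (hWUV hz).1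
    have hzV : z ∈ ((p ⁻¹ᵁ V : P.Opens) : Set P) := (hWUV hz).2
    -- a point of O₁ in p⁻¹W
    obtain ⟨x₁, -, hx₁O, hx₁W⟩ := (isIrreducible_preimage 𝒮 hint p chart U hU ⟨p x, hxU⟩).isPreirreducible
      O₁ ((p ⁻¹ᵁ W : P.Opens) : Set P) hO₁ (p ⁻¹ᵁ W).isOpen ⟨x, hxU, hx⟩ ⟨z, hzU, hz⟩
    obtain ⟨y₁, -, hy₁O, hy₁W⟩ := (isIrreducible_preimage 𝒮 hint p chart V hV ⟨p y, hyV⟩).isPreirreducible
      O₂ ((p ⁻¹ᵁ W : P.Opens) : Set P) hO₂ (p ⁻¹ᵁ W).isOpen ⟨y, hyV, hy⟩ ⟨z, hzV, hz⟩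
    obtain ⟨t, -, ht₁, ht₂⟩ := hWirr.isPreirreducible O₁ O₂ hO₁ hO₂ ⟨x₁, hx₁W, hx₁O⟩ ⟨y₁, hy₁W, hy₁O⟩
    exact ⟨t, ht₁, ht₂⟩
  exact { toPreirreducibleSpace := hpre, toNonempty := hneP }

include hint chart in
theorem isReduced : IsReduced P := by
  let ι := {U : Y.affineOpens // (U.1 : Set Y).Nonempty}
  have hcov : IsOpenCover (fun i : ι => p ⁻¹ᵁ i.1.1) := by
    rw [IsOpenCover, eq_top_iff]
    rintro x -
    obtain ⟨U, hU, hxU, -⟩ := exists_isAffineOpen_mem_and_subset (x := p x) (U := (⊤ : Y.Opens)) trivial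
    exact Opens.mem_iSup.mpr ⟨⟨⟨U, hU⟩, ⟨p x, hxU⟩⟩, hxU⟩
  let 𝒰 : P.OpenCover := P.openCoverOfIsOpenCover _ hcov
  have : ∀ i, IsReduced (𝒰.X i) := by
    rintro ⟨⟨U, hU⟩, hne⟩
    have := isIntegral_preimage 𝒮 hint p chart U hU hne
    change IsReduced ((p ⁻¹ᵁ U : P.Opens) : Scheme.{u})
    infer_instance
  exact IsReduced.of_openCover _ 𝒰

include hint chart in
theorem denseRange : DenseRange p.base := by
  rw [DenseRange, dense_iff_inter_open]
  rintro O hO ⟨y, hy⟩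
  obtain ⟨U, hU, hyU, hUO⟩ := exists_isAffineOpen_mem_and_subset (x := y) (U := ⟨O, hO⟩) hy
  obtain ⟨x, hx⟩ := (isIrreducible_preimage 𝒮 hint p chart U hU ⟨y, hyU⟩).nonempty
  exact ⟨p x, hUO hx, x, rfl⟩

end Aux


/-- Let Y be an integral scheme and 𝒮 a quasi-coherent positively graded O_Y-algebra with 𝒮_0 = O_Y
which is integral, stated here affine-locally: over every nonempty affine open U the ring 𝒮(U) is an
integral domain whose irrelevant ideal is nonzero (for Y integral this is equivalent to the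
stalkwise condition of the published text: every stalk 𝒮_y an integral domain with (𝒮_y)_+ ≠ 0).
Then Proj(𝒮) is integral and its structure morphism to Y is dominant. -/
theorem result {Y P : Scheme.{u}} [IsIntegral Y] (𝒮 : RelProj.QCGrAlg Y)
    (h0 : ∀ (U : Y.Opens) (hU : IsAffineOpen U), Function.Bijective (𝒮.strZero U hU).hom)
    (hint : ∀ (U : Y.Opens) (hU : IsAffineOpen U), (U : Set Y).Nonempty →
      IsDomain (𝒮.presheaf.obj (op U)) ∧ ((𝒮.deg U hU)₊).toIdeal ≠ ⊥)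
    (p : P ⟶ Y)
    (chart : ∀ (U : Y.Opens) (hU : IsAffineOpen U), (((p ⁻¹ᵁ U : P.Opens) : Scheme.{u}) ≅ Proj (𝒮.deg U hU)))
    (hP : RelProj.IsRelProj 𝒮 p chart) : IsIntegral P ∧ DenseRange p.base := by
  refine ⟨?_, denseRange 𝒮 hint p chart⟩
  have := irreducibleSpace 𝒮 hint p chart
  have := isReduced 𝒮 hint p chart
  exact isIntegral_of_irreducibleSpace_of_isReduced P

end Groth.Agent.S8264
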