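import Groth.Statements.S8265
import Groth.Agent.Lib.Helper3.ProjIntegral
import Groth.Agent.Lib.Helper3.ProjZero
import Groth.Agent.Lib.Helper3.RelProjExist

set_option autoImplicit false
universe u
open CategoryTheory CategoryTheory.Limits AlgebraicGeometry Opposite TopologicalSpace
open scoped HomogeneousIdeal
open EGA2

namespace Groth.Agent.S8265

section Aux
open Groth.Agent.Lib.Helper3

section ring
variable {A σ : Type u} [CommRing A] [SetLike σ A] [AddSubgroupClass σ A]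
  (𝒜 : ℕ → σ) [GradedRing 𝒜]

/-- In an integral `Proj` of an essentially reduced graded ring, homogeneous elements of positive
degree have no zero divisors among themselves. -/
theorem eq_zero_or_eq_zero_of_pos [IsIntegral (Proj 𝒜)]
    (hred : ∀ x ∈ (𝒜₊).toIdeal, IsNilpotent x → x = 0)
    {a b : ℕ} (ha : 0 < a) (hb : 0 < b) {x y : A} (hx : x ∈ 𝒜 a) (hy : y ∈ 𝒜 b)
    (hxy : x * y = 0) : x = 0 ∨ y = 0 := by
  set η := genericPoint (Proj 𝒜) with hη
  have hgen : IsGenericPoint η Set.univ := genericPoint_spec _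
  have hP : ∀ {m : ℕ} {h : A}, 0 < m → h ∈ 𝒜 m → h ∈ η.asHomogeneousIdeal.toIdeal → h = 0 := by
    intro m h hm hh hhη
    apply hred _ (HomogeneousIdeal.mem_irrelevant_of_mem 𝒜 hm hh)
    by_contra hnil
    obtain ⟨z, hz⟩ := ProjIntegral.exists_mem_basicOpen_of_not_isNilpotent 𝒜 h hm hh hnil
    have : η ∈ (Proj.basicOpen 𝒜 h : Set (Proj 𝒜)) :=
      (hgen.mem_open_set_iff (Proj.basicOpen 𝒜 _).isOpen).mpr ⟨z, trivial, hz⟩
    exact (Proj.mem_basicOpen 𝒜 _ _).mp this hhη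
  have : x * y ∈ η.asHomogeneousIdeal.toIdeal := by rw [hxy]; exact zero_mem _
  rcases η.isPrime.mem_or_mem this with h | h
  · exact Or.inl (hP ha hx h)
  · exact Or.inr (hP hb hy h)

end ring

variable {Y P : Scheme.{u}} [IsIntegral Y] (𝒮 : RelProj.QCGrAlg Y)
    (h0 : ∀ (U : Y.Opens) (hU : IsAffineOpen U), Function.Bijective (𝒮.strZero U hU).hom)
    (hred : ∀ (U : Y.Opens) (hU : IsAffineOpen U) (x : 𝒮.presheaf.obj (op U)),
      x ∈ (𝒮.deg U hU)₊ → IsNilpotent x → x = 0)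
    {p : P ⟶ Y}
    {chart : ∀ (U : Y.Opens) (hU : IsAffineOpen U), (((p ⁻¹ᵁ U : P.Opens) : Scheme.{u}) ≅ Proj (𝒮.deg U hU))}
    (hP : RelProj.IsRelProj 𝒮 p chart) [IsIntegral P] (hdom : DenseRange p.base)
    (U : Y.Opens) (hU : IsAffineOpen U) (hne : (U : Set Y).Nonempty)

include hdom hne chart in
omit [IsIntegral Y] in
theorem isIntegral_proj : IsIntegral (Proj (𝒮.deg U hU)) := by
  obtain ⟨x, hx⟩ := hdom.exists_mem_open U.isOpen hne
  have : Nonempty ↥((p ⁻¹ᵁ U : P.Opens) : Scheme.{u}) := ⟨⟨x, hx⟩⟩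
  have : IsIntegral ((p ⁻¹ᵁ U : P.Opens) : Scheme.{u}) :=
    isIntegral_of_isOpenImmersion (p ⁻¹ᵁ U).ι
  exact IsIntegral.of_isIso (chart U hU).hom

include hP in
omit [IsIntegral Y] [IsIntegral P] in
/-- the point of `P` over a point `q` of the chart maps into `D(r)` iff `str r ∉ q` -/
theorem mem_basicOpen_iff (r : Γ(Y, U)) (z : ↥((p ⁻¹ᵁ U : P.Opens) : Scheme.{u})) :
    p ((p ⁻¹ᵁ U).ι z) ∈ Y.basicOpen r ↔
      (𝒮.str.app (op U)).hom r ∉ ((chart U hU).hom z).asHomogeneousIdeal := by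
  rw [← ProjLoc.mem_toSpecZero_preimage_iff (𝒮.str_mem U hU r), ← RelProjExist.toU_preimage]
  change ((p ⁻¹ᵁ U).ι ≫ p) z ∈ Y.basicOpen r ↔
    ((chart U hU).hom ≫ RelProjExist.toU 𝒮 U hU ≫ U.ι) z ∈ Y.basicOpen r
  rw [RelProjExist.toU_ι, hP.chart_over U hU]

end Aux


/-- Let Y be an integral scheme and 𝒮 a quasi-coherent positively graded O_Y-algebra with 𝒮_0 = O_Y
which is essentially reduced (affine-locally, every nilpotent element of the irrelevant ideal of
𝒮(U) vanishes). If Proj(𝒮) is integral and dominant over Y, then 𝒮 is integral: over every nonempty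
affine open U, 𝒮(U) is an integral domain with nonzero irrelevant ideal (for Y integral, the
affine-local form of the stalkwise condition of the text). -/
theorem result {Y P : Scheme.{u}} [IsIntegral Y] (𝒮 : RelProj.QCGrAlg Y)
    (h0 : ∀ (U : Y.Opens) (hU : IsAffineOpen U), Function.Bijective (𝒮.strZero U hU).hom)
    (hred : ∀ (U : Y.Opens) (hU : IsAffineOpen U) (x : 𝒮.presheaf.obj (op U)),
      x ∈ (𝒮.deg U hU)₊ → IsNilpotent x → x = 0)
    (p : P ⟶ Y)
    (chart : ∀ (U : Y.Opens) (hU : IsAffineOpen U), (((p ⁻¹ᵁ U : P.Opens) : Scheme.{u}) ≅ Proj (𝒮.deg U hU)))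
    (hP : RelProj.IsRelProj 𝒮 p chart) [IsIntegral P] (hdom : DenseRange p.base)
    (U : Y.Opens) (hU : IsAffineOpen U) (hne : (U : Set Y).Nonempty) :
    IsDomain (𝒮.presheaf.obj (op U)) ∧ ((𝒮.deg U hU)₊).toIdeal ≠ ⊥ := by
  classical
  have hintP := isIntegral_proj 𝒮 (chart := chart) hdom U hU hne
  have hirr : ((𝒮.deg U hU)₊).toIdeal ≠ ⊥ := by
    intro hbot
    obtain ⟨q⟩ : Nonempty (Proj (𝒮.deg U hU)) := inferInstance
    apply q.not_irrelevant_le
    change ((𝒮.deg U hU)₊).toIdeal ≤ q.asHomogeneousIdeal.toIdeal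
    rw [hbot]
    exact bot_le
  refine ⟨?_, hirr⟩
  have hUne : Nonempty U := hne.to_subtype
  have hR : IsDomain Γ(Y, U) := inferInstance
  have hredU : ∀ x ∈ ((𝒮.deg U hU)₊).toIdeal, IsNilpotent x → x = 0 := hred U hU
  -- the mixed case
  have hmixed : ∀ {b : ℕ}, 0 < b → ∀ {x y : 𝒮.presheaf.obj (op U)}, x ∈ 𝒮.deg U hU 0 →
      y ∈ 𝒮.deg U hU b → x * y = 0 → x = 0 ∨ y = 0 := by
    intro b hb x y hx hy hxy
    by_contra hcon
    push Not at hcon
    obtain ⟨hx0, hy0⟩ := hcon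
    obtain ⟨r, hr⟩ := (h0 U hU).2 ⟨x, hx⟩
    have hrx : (𝒮.str.app (op U)).hom r = x := congrArg Subtype.val hr
    have hr0 : r ≠ 0 := by
      rintro rfl
      apply hx0
      rw [← hrx, map_zero]
    have hynil : ¬ IsNilpotent y := fun h =>
      hy0 (hredU y (HomogeneousIdeal.mem_irrelevant_of_mem _ hb hy) h)
    obtain ⟨q, hq⟩ := Groth.Agent.Lib.Helper3.ProjIntegral.exists_mem_basicOpen_of_not_isNilpotent
      _ y hb hy hynil
    have hD : ((Y.basicOpen r : Y.Opens) : Set Y).Nonempty := by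
      rw [← Opens.ne_bot_iff_nonempty, Ne, AlgebraicGeometry.basicOpen_eq_bot_iff]
      exact hr0
    have hD' : ((p ⁻¹ᵁ Y.basicOpen r : P.Opens) : Set P).Nonempty := by
      obtain ⟨z, hz⟩ := hdom.exists_mem_open (Y.basicOpen r).isOpen hD
      exact ⟨z, hz⟩
    have hO : (((p ⁻¹ᵁ U).ι ''ᵁ ((chart U hU).hom ⁻¹ᵁ Proj.basicOpen (𝒮.deg U hU) y) : P.Opens) :
        Set P).Nonempty := by
      refine ⟨(p ⁻¹ᵁ U).ι ((chart U hU).inv q), (chart U hU).inv q, ?_, rfl⟩
      change (chart U hU).hom ((chart U hU).inv q) ∈ Proj.basicOpen (𝒮.deg U hU) y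
      rw [← Scheme.Hom.comp_apply, Iso.inv_hom_id]
      exact hq
    obtain ⟨z, hz1, z', hz', rfl⟩ := nonempty_preirreducible_inter
      (p ⁻¹ᵁ Y.basicOpen r).isOpen (Opens.isOpen _) hD' hO
    have h1 := (mem_basicOpen_iff 𝒮 hP U hU r z').mp hz1
    rw [hrx] at h1
    have h2 : x * y ∈ ((chart U hU).hom z').asHomogeneousIdeal.toIdeal := by
      rw [hxy]; exact zero_mem _
    rcases ((chart U hU).hom z').isPrime.mem_or_mem h2 with h | h
    · exact h1 h
    · exact hz' h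
  have hbp : (⊥ : Ideal (𝒮.presheaf.obj (op U))).IsPrime := by
    refine (Ideal.IsHomogeneous.bot (𝒮.deg U hU)).isPrime_of_homogeneous_mem_or_mem ?_ ?_
    · intro h
      exact hirr (le_bot_iff.mp (h ▸ le_top))
    · rintro x y ⟨a, hx⟩ ⟨b, hy⟩ hxy
      rw [Ideal.mem_bot] at hxy ⊢
      rw [Ideal.mem_bot]
      rcases Nat.eq_zero_or_pos a with rfl | ha <;> rcases Nat.eq_zero_or_pos b with rfl | hb
      · obtain ⟨r, hr⟩ := (h0 U hU).2 ⟨x, hx⟩
        obtain ⟨s, hs⟩ := (h0 U hU).2 ⟨y, hy⟩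
        have hrs : (𝒮.strZero U hU).hom (r * s) = (𝒮.strZero U hU).hom 0 := by
          rw [map_mul, hr, hs, map_zero]
          exact Subtype.ext hxy
        rcases mul_eq_zero.mp ((h0 U hU).1 hrs) with h | h
        · left
          have := congrArg Subtype.val hr
          rw [h, map_zero] at this
          exact this.symm
        · right
          have := congrArg Subtype.val hs
          rw [h, map_zero] at this
          exact this.symm
      · exact hmixed hb hx hy hxy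
      · rw [mul_comm] at hxy
        exact (hmixed ha hy hx hxy).symm
      · exact eq_zero_or_eq_zero_of_pos _ hredU ha hb hx hy hxy
  exact IsDomain.of_bot_isPrime _

end Groth.Agent.S8265
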