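import Groth.Statements.S8266
import Mathlib

set_option autoImplicit false
universe u
open CategoryTheory CategoryTheory.Limits AlgebraicGeometry Opposite TopologicalSpace
open scoped HomogeneousIdeal
open EGA2

namespace S8266aux

variable {A σ : Type u} [CommRing A] [SetLike σ A] [AddSubgroupClass σ A] (𝒜 : ℕ → σ) [GradedRing 𝒜]

theorem isReduced_away
    (hred : ∀ f ∈ (HomogeneousIdeal.irrelevant 𝒜).toIdeal, IsNilpotent f → f = 0)
    (f : A) {m : ℕ} (hm : 0 < m) (hf : f ∈ 𝒜 m) :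
    _root_.IsReduced (HomogeneousLocalization.Away 𝒜 f) := by
  constructor
  intro x hx
  obtain ⟨k, hk⟩ := hx
  obtain ⟨n, a, ha, rfl⟩ := HomogeneousLocalization.Away.mk_surjective 𝒜 hf x
  apply HomogeneousLocalization.val_injective
  have h1 := congrArg HomogeneousLocalization.val hk
  rw [HomogeneousLocalization.val_pow, HomogeneousLocalization.Away.val_mk,
    HomogeneousLocalization.val_zero, Localization.mk_pow, Localization.mk_eq_mk',
    IsLocalization.mk'_eq_zero_iff] at h1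
  obtain ⟨⟨_, j, rfl⟩, hj⟩ := h1
  simp only at hj
  have hfa : f * a ∈ (HomogeneousIdeal.irrelevant 𝒜).toIdeal :=
    HomogeneousIdeal.mem_irrelevant_of_mem 𝒜 (i := m + n • m) (by omega)
      (SetLike.mul_mem_graded hf ha)
  have hnil : IsNilpotent (f * a) := by
    refine ⟨j + k, ?_⟩
    rw [mul_pow, pow_add, pow_add]
    calc f ^ j * f ^ k * (a ^ j * a ^ k) = (f ^ j * a ^ k) * (f ^ k * a ^ j) := by ring
      _ = 0 := by rw [hj, zero_mul]
  have h0 := hred _ hfa hnil
  rw [HomogeneousLocalization.Away.val_mk, HomogeneousLocalization.val_zero,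
    Localization.mk_eq_mk', IsLocalization.mk'_eq_zero_iff]
  exact ⟨⟨f, 1, pow_one f⟩, h0⟩

theorem proj_isReduced
    (hred : ∀ f ∈ (HomogeneousIdeal.irrelevant 𝒜).toIdeal, IsNilpotent f → f = 0) :
    AlgebraicGeometry.IsReduced (Proj 𝒜) := by
  have : ∀ i, AlgebraicGeometry.IsReduced ((Proj.affineOpenCover 𝒜).openCover.X i) := by
    intro i
    have := isReduced_away 𝒜 hred i.2.1 i.1.2 i.2.2
    exact inferInstanceAs (AlgebraicGeometry.IsReduced (Spec (.of (HomogeneousLocalization.Away 𝒜 i.2.1))))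
  exact AlgebraicGeometry.IsReduced.of_openCover _ (Proj.affineOpenCover 𝒜).openCover

end S8266aux

namespace S8266aux
open EGA2

theorem main {Y P : Scheme.{u}} (𝒮 : RelProj.QCGrAlg Y)
    (hred : ∀ (U : Y.Opens) (hU : IsAffineOpen U) (x : 𝒮.presheaf.obj (op U)),
      x ∈ (𝒮.deg U hU)₊ → IsNilpotent x → x = 0)
    (p : P ⟶ Y)
    (chart : ∀ (U : Y.Opens) (hU : IsAffineOpen U), (((p ⁻¹ᵁ U : P.Opens) : Scheme.{u}) ≅ Proj (𝒮.deg U hU))) :
    AlgebraicGeometry.IsReduced P := by
  let 𝒰 : P.OpenCover := P.openCoverOfIsOpenCover _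
    (.comap (iSup_affineOpens_eq_top Y) p.base.1)
  have : ∀ i, AlgebraicGeometry.IsReduced (𝒰.X i) := by
    rintro ⟨U, hU'⟩
    have hU : IsAffineOpen U := hU'
    have h1 : AlgebraicGeometry.IsReduced (Proj (𝒮.deg U hU)) :=
      proj_isReduced (𝒮.deg U hU) (fun f hf hn => hred U hU f hf hn)
    change AlgebraicGeometry.IsReduced ((p ⁻¹ᵁ U : P.Opens) : Scheme.{u})
    have hiso : IsIso (chart U hU).hom := inferInstance
    have hoi : IsOpenImmersion (chart U hU).hom := inferInstance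
    exact isReduced_of_isOpenImmersion (chart U hU).hom
  exact AlgebraicGeometry.IsReduced.of_openCover _ 𝒰

end S8266aux

namespace Groth.Agent.S8266

/-- If the quasi-coherent positively graded O_Y-algebra 𝒮 is essentially reduced (affine-locally, no
nonzero nilpotent element in the irrelevant ideal), then Proj(𝒮) is reduced. -/
theorem result {Y P : Scheme.{u}} (𝒮 : RelProj.QCGrAlg Y)
    (hred : ∀ (U : Y.Opens) (hU : IsAffineOpen U) (x : 𝒮.presheaf.obj (op U)),
      x ∈ (𝒮.deg U hU)₊ → IsNilpotent x → x = 0)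
    (p : P ⟶ Y)
    (chart : ∀ (U : Y.Opens) (hU : IsAffineOpen U), (((p ⁻¹ᵁ U : P.Opens) : Scheme.{u}) ≅ Proj (𝒮.deg U hU)))
    (hP : RelProj.IsRelProj 𝒮 p chart) : IsReduced P := by
  exact S8266aux.main 𝒮 hred p chart

end Groth.Agent.S8266
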