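import Groth.Statements.S8267
import Groth.Agent.Lib.Helper3.SymQCAlg2
import Groth.Agent.Lib.Helper3.ZMTAffFT

set_option autoImplicit false
universe u
open CategoryTheory CategoryTheory.Limits AlgebraicGeometry Opposite TopologicalSpace
open EGA2

namespace Groth.Agent.S8267

open RelSpec Groth.Agent.Lib.Helper3 Groth.Agent.Lib.Helper3.SymQC Groth.Agent.Lib.Helper29.QCoh

theorem finiteType_symmetricAlgebra (R M : Type*) [CommRing R] [AddCommGroup M] [Module R M]
    [Module.Finite R M] : (algebraMap R (SymmetricAlgebra R M)).FiniteType := by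
  classical
  obtain ⟨s, hs⟩ := (Module.finite_def (R := R) (M := M)).mp inferInstance
  rw [RingHom.finiteType_algebraMap]
  refine ⟨⟨s.image (SymmetricAlgebra.ι R M), ?_⟩⟩
  rw [eq_top_iff]
  rintro x -
  induction x using SymmetricAlgebra.induction with
  | algebraMap r => exact Subalgebra.algebraMap_mem _ r
  | ι m =>
    have hm : m ∈ Submodule.span R (s : Set M) := hs ▸ Submodule.mem_top
    induction hm using Submodule.span_induction with
    | mem y hy =>
      exact Algebra.subset_adjoin (Finset.mem_coe.mpr (Finset.mem_image_of_mem _ hy))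
    | zero => rw [map_zero]; exact Subalgebra.zero_mem _
    | add a b _ _ ha hb => rw [map_add]; exact Subalgebra.add_mem _ ha hb
    | smul r a _ ha => rw [map_smul]; exact Subalgebra.smul_mem _ ha r
  | mul a b ha hb => exact Subalgebra.mul_mem _ ha hb
  | add a b ha hb => exact Subalgebra.add_mem _ ha hb



/-- Let E be a quasi-coherent O_S-module of finite type and A (through j : E → A) its symmetric algebra.
Then the vector bundle V(E) = Spec(A) is of finite type over S, i.e. its (affine) structure morphism
is locally of finite type. -/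
theorem result {S : Scheme.{u}} (E : S.Modules) (hE : Coh.IsCoh E)
    (A : RelSpec.QCAlg S) (j : E ⟶ A.toModule) (hA : RelSpec.IsSymAlg E A j) :
    LocallyOfFiniteType A.π := by
  have h1 : E.IsQuasicoherent := hE.1
  have h2 : E.IsFiniteType := hE.2
  refine QCAlg.locallyOfFiniteType_π A fun U => ?_
  obtain ⟨e, he1, -⟩ := exists_ringEquiv_of_isSymAlg hA U.1 U.2
  have hfin : Module.Finite Γ(S, U.1) Γ(E, U.1) := module_finite_of_isFiniteType E U.2
  have h3 : (A.str.app (op U.1)).hom =
      e.toRingHom.comp (algebraMap Γ(S, U.1) (SymmetricAlgebra Γ(S, U.1) Γ(E, U.1))) :=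
    RingHom.ext fun r => (he1 r).symm
  rw [h3]
  exact (RingHom.FiniteType.of_surjective _ e.surjective).comp
    (finiteType_symmetricAlgebra _ _)

end Groth.Agent.S8267
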