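import Groth.Statements.S8268
import Groth.Agent.Lib.Helper3.SymQCAlg2
import Groth.Agent.Lib.Helper3.SpecMapChart
import Groth.Agent.Lib.Helper29.QCohAffine

set_option autoImplicit false
universe u
open CategoryTheory CategoryTheory.Limits AlgebraicGeometry Opposite TopologicalSpace
open EGA2

namespace Groth.Agent.S8268

open RelSpec Groth.Agent.Lib.Helper3 Groth.Agent.Lib.Helper3.SymQC Groth.Agent.Lib.Helper29.QCoh
open Groth.Agent.Lib.Helper3.SymAlg

/-- A ring map out of a symmetric algebra is surjective if its image contains the scalars and a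
set of module generators... here: the images of `algebraMap` and of `ι ∘ u` for `u` surjective. -/
theorem surjective_of_sym {R M N C : Type*} [CommRing R] [AddCommGroup M] [Module R M]
    [AddCommGroup N] [Module R N] [CommRing C]
    (θ : SymmetricAlgebra R M →+* C) (e : SymmetricAlgebra R N ≃+* C) (u : M → N)
    (hu : Function.Surjective u)
    (h1 : ∀ r : R, θ (algebraMap R _ r) = e (algebraMap R _ r))
    (h2 : ∀ m, θ (SymmetricAlgebra.ι R M m) = e (SymmetricAlgebra.ι R N (u m))) :
    Function.Surjective θ := by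
  intro c
  obtain ⟨y, rfl⟩ := e.surjective c
  induction y using SymmetricAlgebra.induction with
  | algebraMap r => exact ⟨_, h1 r⟩
  | ι n =>
    obtain ⟨m, rfl⟩ := hu n
    exact ⟨_, h2 m⟩
  | mul a b ha hb =>
    obtain ⟨x, hx⟩ := ha
    obtain ⟨y, hy⟩ := hb
    exact ⟨x * y, by rw [map_mul, map_mul, hx, hy]⟩
  | add a b ha hb =>
    obtain ⟨x, hx⟩ := ha
    obtain ⟨y, hy⟩ := hb
    exact ⟨x + y, by rw [map_add, map_add, hx, hy]⟩



/-- A surjective homomorphism E → F of quasi-coherent O_S-modules induces a closed immersion V(F) → V(E)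
of the associated vector bundles (relative spectra of the symmetric algebras; the algebra map A → B
is the one extending E → F). -/
theorem result {S : Scheme.{u}} (E F : S.Modules) (hE : Coh.IsQCoh E)
    (hF : Coh.IsQCoh F) (u : E ⟶ F) [Epi u]
    (A B : RelSpec.QCAlg S) (j : E ⟶ A.toModule) (k : F ⟶ B.toModule)
    (hA : RelSpec.IsSymAlg E A j) (hB : RelSpec.IsSymAlg F B k)
    (ψ : A ⟶ B) (hψ : j ≫ RelSpec.QCAlg.Hom.toModuleMap ψ = u ≫ k) :
    IsClosedImmersion (RelSpec.QCAlg.specMap ψ) := by
  have h1 : E.IsQuasicoherent := hE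
  have h2 : F.IsQuasicoherent := hF
  refine QCAlg.specMap_of_charts ψ @IsClosedImmersion fun U hU => ?_
  refine IsClosedImmersion.spec_of_surjective _ ?_
  obtain ⟨eA, heA1, heA2⟩ := exists_ringEquiv_of_isSymAlg hA U hU
  obtain ⟨eB, heB1, heB2⟩ := exists_ringEquiv_of_isSymAlg hB U hU
  have hsurj : Function.Surjective ((ψ.hom.app (op U)).hom.comp eA.toRingHom) := by
    refine surjective_of_sym _ eB (u.app U) (app_surjective_of_epi u hU) (fun r => ?_)
      (fun m => ?_)
    · rw [RingHom.comp_apply]
      refine (congrArg _ (heA1 r)).trans ?_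
      rw [heB1]
      exact congrArg (fun t => t.hom r) (NatTrans.congr_app ψ.comm (op U))
    · rw [RingHom.comp_apply]
      refine (congrArg _ (heA2 m)).trans ?_
      rw [heB2]
      exact congrArg (fun t => (show B.presheaf.obj (op U) from t.app U m)) hψ
  intro b
  obtain ⟨x, hx⟩ := hsurj b
  exact ⟨eA x, hx⟩

end Groth.Agent.S8268
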