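import Groth.Statements.S8269
import Groth.Agent.Lib.Helper3.SymQCAlg2
import Groth.Agent.Lib.Helper3.SpecMapChart
import Groth.Agent.Lib.Helper3.QCAlgLift3
import Groth.Agent.Lib.Helper3.QCAlgGen

set_option autoImplicit false
universe u
open CategoryTheory CategoryTheory.Limits AlgebraicGeometry Opposite TopologicalSpace
open EGA2

namespace Groth.Agent.S8269

open RelSpec Groth.Agent.Lib.Helper3 Groth.Agent.Lib.Helper3.SymQC Groth.Agent.Lib.Helper29.QCoh
open Groth.Agent.Lib.Helper3.SymAlg

theorem hasFTThrough_of_hyp {Y : Scheme.{u}}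
    (hY : (CompactSpace Y ∧ Y.IsSeparated) ∨ NoetherianSpace Y) :
    HasFTThrough Y ∧ CompactSpace Y := by
  rcases hY with ⟨h1, h2⟩ | h
  · exact ⟨hasFTThrough_of_qcqs, h1⟩
  · refine ⟨hasFTThrough_of_locallyNoetherian fun x => ⟨⊤, trivial, ?_⟩, inferInstance⟩
    exact NoetherianSpace.set _



/-- Let Y be either a quasi-compact separated scheme or a scheme with Noetherian underlying space, and X
affine and of finite type over Y. Then X is Y-isomorphic to a closed subscheme of a vector bundle
V(E) with E a quasi-coherent O_Y-module of finite type: there are such an E, its symmetric algebra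
A, and a closed immersion X → Spec(A) over Y. -/
theorem result {X Y : Scheme.{u}}
    (hY : (CompactSpace Y ∧ Y.IsSeparated) ∨ NoetherianSpace Y) (f : X ⟶ Y) [IsAffineHom f]
    [LocallyOfFiniteType f] :
    ∃ (E : Y.Modules) (_ : Coh.IsCoh E) (A : RelSpec.QCAlg Y) (j : E ⟶ A.toModule)
      (_ : RelSpec.IsSymAlg E A j) (i : X ⟶ A.spec), IsClosedImmersion i ∧ i ≫ A.π = f := by
  obtain ⟨hft, hcpt⟩ := hasFTThrough_of_hyp hY
  set B := QCAlg.directImage f with hB
  have hBft : ∀ U : Y.affineOpens, (B.str.app (op (U : Y.Opens))).hom.FiniteType := fun U => by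
    have h := f.finiteType_appLE U.2 (U.2.preimage f) le_rfl
    rwa [← Scheme.Hom.app_eq_appLE] at h
  obtain ⟨E, hEqc, hEft, hEgen⟩ := exists_finiteType_submodule_generating hft B hBft
  have : E.toModules.IsQuasicoherent := hEqc
  set ψ : symAlg E.toModules ⟶ B := liftHom B E.ι with hψ
  have hsurj : ∀ (U : Y.Opens) (_ : IsAffineOpen U),
      Function.Surjective (ψ.hom.app (op U)).hom := by
    intro U hU b
    have hb : b ∈ (liftSec B E.ι U).range := by
      have hle : Subring.closure (Set.range (strB B U) ∪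
          {s | (show Γ(B.toModule, U) from s) ∈ E.carrier U}) ≤ (liftSec B E.ι U).range := by
        rw [Subring.closure_le]
        rintro x (⟨r, rfl⟩ | hx)
        · exact ⟨_, liftSec_algebraMap B E.ι U r⟩
        · obtain ⟨t, ht⟩ := E.exists_of_mem U _ hx
          exact ⟨_, (liftSec_ι B E.ι U t).trans ht⟩
      exact hle ((hEgen U hU).symm ▸ Subring.mem_top b)
    obtain ⟨x, hx⟩ := hb
    refine ⟨γi E.toModules U hU x, ?_⟩
    rw [liftHom_app B E.ι U hU, γh_γi]
    exact hx
  have hcl : IsClosedImmersion (QCAlg.specMap ψ) :=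
    QCAlg.specMap_of_charts ψ @IsClosedImmersion fun U hU =>
      IsClosedImmersion.spec_of_surjective _ (hsurj U hU)
  have hiso : IsIso (canonicalToSpec f) := isIso_canonicalToSpec_of_isAffineHom f
  refine ⟨E.toModules, ⟨hEqc, hEft⟩, symAlg E.toModules, j E.toModules, isSymAlg,
    canonicalToSpec f ≫ QCAlg.specMap ψ, inferInstance, ?_⟩
  rw [Category.assoc, QCAlg.specMap_π, canonicalToSpec_π]

end Groth.Agent.S8269
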