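import Groth.Statements.S8271
import Groth.Agent.Lib.Helper3.SymQCAlg2
import Groth.Agent.Lib.Helper3.SpecPullback
import Groth.Agent.Lib.Helper3.SymAlgSum
import Groth.Agent.Lib.Helper29.QCohPullback

set_option autoImplicit false
universe u
open CategoryTheory CategoryTheory.Limits AlgebraicGeometry Opposite TopologicalSpace
open EGA2

namespace Groth.Agent.S8271

open RelSpec Groth.Agent.Lib.Helper3 Groth.Agent.Lib.Helper3.SymQC Groth.Agent.Lib.Helper29.QCoh
open Groth.Agent.Lib.Helper3.SymAlg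

theorem isQuasicoherent_biprod {S : Scheme.{u}} (E F : S.Modules) [E.IsQuasicoherent]
    [F.IsQuasicoherent] : (E ⊞ F).IsQuasicoherent := by
  have : (E ⨿ F).IsQuasicoherent := by
    apply isQuasicoherent_colimit_aux (pair E F)
    rintro ⟨_ | _⟩
    · exact inferInstanceAs E.IsQuasicoherent
    · exact inferInstanceAs F.IsQuasicoherent
  exact isQuasicoherent_of_iso (biprod.isoCoprod E F).symm



/-- For quasi-coherent O_S-modules E and F, the vector bundle V(E ⊕ F) is identified with V(E) ×_S V(F):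
with A_E, A_F, A the symmetric algebras of E, F, E ⊕ F and ψ_E : A_E → A, ψ_F : A_F → A the algebra
maps extending the inclusions of the two summands, the square formed by Spec(A) → Spec(A_E), Spec(A)
→ Spec(A_F) and the two structure morphisms to S is a pullback square. -/
theorem result {S : Scheme.{u}} (E F : S.Modules) (hE : Coh.IsQCoh E) (hF : Coh.IsQCoh F)
    (AE AF A : RelSpec.QCAlg S) (jE : E ⟶ AE.toModule) (jF : F ⟶ AF.toModule) (j : E ⊞ F ⟶ A.toModule)
    (hAE : RelSpec.IsSymAlg E AE jE) (hAF : RelSpec.IsSymAlg F AF jF) (hA : RelSpec.IsSymAlg (E ⊞ F) A j)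
    (ψE : AE ⟶ A) (ψF : AF ⟶ A)
    (hψE : jE ≫ RelSpec.QCAlg.Hom.toModuleMap ψE = biprod.inl ≫ j)
    (hψF : jF ≫ RelSpec.QCAlg.Hom.toModuleMap ψF = biprod.inr ≫ j) :
    IsPullback (RelSpec.QCAlg.specMap ψE) (RelSpec.QCAlg.specMap ψF) AE.π AF.π := by
  have h1 : E.IsQuasicoherent := hE
  have h2 : F.IsQuasicoherent := hF
  have h3 : (E ⊞ F).IsQuasicoherent := isQuasicoherent_biprod E F
  refine QCAlg.isPullback_specMap_of_charts ψE ψF fun U hU => ?_
  obtain ⟨eE, heE1, heE2⟩ := exists_ringEquiv_of_isSymAlg hAE U hU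
  obtain ⟨eF, heF1, heF2⟩ := exists_ringEquiv_of_isSymAlg hAF U hU
  obtain ⟨e, he1, he2⟩ := exists_ringEquiv_of_isSymAlg hA U hU
  let i1 : Γ(E, U) →+ Γ(E ⊞ F, U) := ((biprod.inl : E ⟶ E ⊞ F).app U).hom
  let i2 : Γ(F, U) →+ Γ(E ⊞ F, U) := ((biprod.inr : F ⟶ E ⊞ F).app U).hom
  let p1 : Γ(E ⊞ F, U) →+ Γ(E, U) := ((biprod.fst : E ⊞ F ⟶ E).app U).hom
  let p2 : Γ(E ⊞ F, U) →+ Γ(F, U) := ((biprod.snd : E ⊞ F ⟶ F).app U).hom
  have hi1 : ∀ (r : Γ(S, U)) m, i1 (r • m) = r • i1 m := fun r m =>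
    (biprod.inl : E ⟶ E ⊞ F).app_smul r m
  have hi2 : ∀ (r : Γ(S, U)) m, i2 (r • m) = r • i2 m := fun r m =>
    (biprod.inr : F ⟶ E ⊞ F).app_smul r m
  have hp1 : ∀ (r : Γ(S, U)) m, p1 (r • m) = r • p1 m := fun r m =>
    (biprod.fst : E ⊞ F ⟶ E).app_smul r m
  have hp2 : ∀ (r : Γ(S, U)) m, p2 (r • m) = r • p2 m := fun r m =>
    (biprod.snd : E ⊞ F ⟶ F).app_smul r m
  have h11 : ∀ m, p1 (i1 m) = m := fun m =>
    congrArg (fun k : E ⟶ E => k.app U m) (biprod.inl_fst (X := E) (Y := F))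
  have h22 : ∀ m, p2 (i2 m) = m := fun m =>
    congrArg (fun k : F ⟶ F => k.app U m) (biprod.inr_snd (X := E) (Y := F))
  have h12 : ∀ m, p1 (i2 m) = 0 := fun m =>
    congrArg (fun k : F ⟶ E => k.app U m) (biprod.inr_fst (X := E) (Y := F))
  have h21 : ∀ m, p2 (i1 m) = 0 := fun m =>
    congrArg (fun k : E ⟶ F => k.app U m) (biprod.inl_snd (X := E) (Y := F))
  have htot : ∀ p, i1 (p1 p) + i2 (p2 p) = p := fun p =>
    congrArg (fun k : E ⊞ F ⟶ E ⊞ F => k.app U p) (biprod.total (X := E) (Y := F))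
  have hpo := isPushout_sym_biprod i1 i2 p1 p2 hi1 hi2 hp1 hp2 h11 h22 h12 h21 htot
  refine hpo.of_iso (Iso.refl _) eE.toCommRingCatIso eF.toCommRingCatIso e.toCommRingCatIso
    ?_ ?_ ?_ ?_
  · ext r
    exact heE1 r
  · ext r
    exact heF1 r
  · have : e.toRingHom.comp (symMapId i1 hi1) = (ψE.hom.app (op U)).hom.comp eE.toRingHom := by
      refine ringHom_ext (fun r => ?_) (fun m => ?_)
      · rw [RingHom.comp_apply, RingHom.comp_apply, symMapId_algebraMap]
        refine (he1 r).trans ?_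
        refine Eq.trans ?_ (congrArg _ (heE1 r)).symm
        exact (congrArg (fun t => t.hom r) (NatTrans.congr_app ψE.comm (op U))).symm
      · rw [RingHom.comp_apply, RingHom.comp_apply, symMapId_ι]
        refine (he2 _).trans ?_
        refine Eq.trans ?_ (congrArg _ (heE2 m)).symm
        exact (congrArg (fun t => (show A.presheaf.obj (op U) from t.app U m)) hψE).symm
    ext x
    exact congrArg (fun k => k x) this
  · have : e.toRingHom.comp (symMapId i2 hi2) = (ψF.hom.app (op U)).hom.comp eF.toRingHom := by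
      refine ringHom_ext (fun r => ?_) (fun m => ?_)
      · rw [RingHom.comp_apply, RingHom.comp_apply, symMapId_algebraMap]
        refine (he1 r).trans ?_
        refine Eq.trans ?_ (congrArg _ (heF1 r)).symm
        exact (congrArg (fun t => t.hom r) (NatTrans.congr_app ψF.comm (op U))).symm
      · rw [RingHom.comp_apply, RingHom.comp_apply, symMapId_ι]
        refine (he2 _).trans ?_
        refine Eq.trans ?_ (congrArg _ (heF2 m)).symm
        exact (congrArg (fun t => (show A.presheaf.obj (op U) from t.app U m)) hψF).symm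
    ext x
    exact congrArg (fun k => k x) this

end Groth.Agent.S8271
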