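import Groth.Statements.S8272
import Groth.Agent.Lib.Helper8.ProjNZD

set_option autoImplicit false
universe u
open CategoryTheory CategoryTheory.Limits AlgebraicGeometry Opposite TopologicalSpace
open EGA2

namespace Groth.Agent.S8272

/-- Let T be a positively graded ring, Z = Proj T and g ∈ T_d (d > 0) a homogeneous element that is not
a zero divisor in T. Then Z is the smallest closed subscheme of Z containing the open D_+(g);
equivalently the kernel (ideal sheaf) of the open immersion D_+(g) → Z vanishes. -/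
theorem result {R A : Type u} [CommRing R] [CommRing A] [Algebra R A]
    (𝒜 : ℕ → Submodule R A) [GradedAlgebra 𝒜] {d : ℕ} (hd : 0 < d) (g : A) (hg : g ∈ 𝒜 d)
    (hnz : g ∈ nonZeroDivisors A) :
    (Proj.basicOpen 𝒜 g).ι.ker = ⊥ := by
  rw [eq_bot_iff, Scheme.IdealSheafData.le_def]
  intro U
  refine ((Proj.basicOpen 𝒜 g).ι.ideal_ker_le U).trans ?_
  rw [Scheme.IdealSheafData.ideal_bot]
  intro s hs
  have hs' : ((Proj.basicOpen 𝒜 g).ι.app U.1).hom s = 0 := hs
  rw [Scheme.Opens.ι_app] at hs'
  have := Groth.Agent.Lib.Helper8.ProjNZD.eq_zero_of_restrict_eq_zero 𝒜 hg hnz U.1 _ _ ?_ s hs'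
  · rw [this]; exact Submodule.zero_mem _
  · intro x hx
    exact ⟨⟨x, hx.1⟩, hx.2, rfl⟩

end Groth.Agent.S8272
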