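import Groth.Statements.S8273
import Groth.Agent.Lib.Helper3.RelProjMap

set_option autoImplicit false
universe u
open CategoryTheory CategoryTheory.Limits AlgebraicGeometry Opposite TopologicalSpace
open scoped HomogeneousIdeal
open EGA2

namespace Groth.Agent.S8273

section Aux
open Groth.Agent.Lib.Helper3

variable {Y P P' : Scheme.{u}} {𝒮 : RelProj.QCGrAlg Y} {p : P ⟶ Y}
    {chart : ∀ (U : Y.Opens) (hU : IsAffineOpen U), (((p ⁻¹ᵁ U : P.Opens) : Scheme.{u}) ≅ Proj (𝒮.deg U hU))}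
    (hP : RelProj.IsRelProj 𝒮 p chart) {p' : P' ⟶ Y}
    {chart' : ∀ (U : Y.Opens) (hU : IsAffineOpen U), (((p' ⁻¹ᵁ U : P'.Opens) : Scheme.{u}) ≅ Proj (𝒮.deg U hU))}
    (hP' : RelProj.IsRelProj 𝒮 p' chart')

include hP hP' in
theorem compat (U : Y.Opens) (hU : IsAffineOpen U) (r : Γ(Y, U)) :
    P.homOfLE (p.preimage_mono (Y.basicOpen_le r)) ≫
      ((chart U hU).hom ≫ (chart' U hU).inv ≫ (p' ⁻¹ᵁ U).ι) =
    (chart (Y.basicOpen r) (hU.basicOpen r)).hom ≫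
      (chart' (Y.basicOpen r) (hU.basicOpen r)).inv ≫ (p' ⁻¹ᵁ Y.basicOpen r).ι := by
  rw [reassoc_of% hP.chart_res U hU r, RelProjMap.map_res_chart_inv hP' U hU r]

/-- the comparison morphism -/
noncomputable def cmp : P ⟶ P' :=
  RelGlue.glueOver p (fun U hU => (chart U hU).hom ≫ (chart' U hU).inv ≫ (p' ⁻¹ᵁ U).ι)
    (fun U hU r => compat hP hP' U hU r)

theorem ι_cmp (U : Y.Opens) (hU : IsAffineOpen U) :
    (p ⁻¹ᵁ U).ι ≫ cmp hP hP' = (chart U hU).hom ≫ (chart' U hU).inv ≫ (p' ⁻¹ᵁ U).ι :=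
  RelGlue.ι_glueOver p _ _ U hU

theorem cmp_cmp : cmp hP hP' ≫ cmp hP' hP = 𝟙 P := by
  refine RelGlue.hom_ext_over p fun U hU => ?_
  rw [reassoc_of% ι_cmp hP hP' U hU, ι_cmp hP' hP U hU]
  simp

end Aux


/-- Uniqueness of the relative homogeneous spectrum: two schemes over Y equipped with the chart data of
Proj(𝒮) are related by a unique morphism compatible with the charts (chartwise the identity of Proj
𝒮(U)), and that morphism is a Y-isomorphism. -/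
theorem result {Y P P' : Scheme.{u}} (𝒮 : RelProj.QCGrAlg Y) (p : P ⟶ Y)
    (chart : ∀ (U : Y.Opens) (hU : IsAffineOpen U), (((p ⁻¹ᵁ U : P.Opens) : Scheme.{u}) ≅ Proj (𝒮.deg U hU)))
    (hP : RelProj.IsRelProj 𝒮 p chart) (p' : P' ⟶ Y)
    (chart' : ∀ (U : Y.Opens) (hU : IsAffineOpen U), (((p' ⁻¹ᵁ U : P'.Opens) : Scheme.{u}) ≅ Proj (𝒮.deg U hU)))
    (hP' : RelProj.IsRelProj 𝒮 p' chart') :
    (∃! e : P ⟶ P', ∀ (U : Y.Opens) (hU : IsAffineOpen U),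
        (p ⁻¹ᵁ U).ι ≫ e = (chart U hU).hom ≫ (chart' U hU).inv ≫ (p' ⁻¹ᵁ U).ι) ∧
      ∀ e : P ⟶ P', (∀ (U : Y.Opens) (hU : IsAffineOpen U),
        (p ⁻¹ᵁ U).ι ≫ e = (chart U hU).hom ≫ (chart' U hU).inv ≫ (p' ⁻¹ᵁ U).ι) → IsIso e ∧ e ≫ p' = p := by
  have huniq : ∀ e : P ⟶ P', (∀ (U : Y.Opens) (hU : IsAffineOpen U),
        (p ⁻¹ᵁ U).ι ≫ e = (chart U hU).hom ≫ (chart' U hU).inv ≫ (p' ⁻¹ᵁ U).ι) →
      e = cmp hP hP' := fun e he =>
    Groth.Agent.Lib.Helper3.RelGlue.hom_ext_over p fun U hU =>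
      (he U hU).trans (ι_cmp hP hP' U hU).symm
  refine ⟨⟨cmp hP hP', ι_cmp hP hP', huniq⟩, fun e he => ?_⟩
  obtain rfl := huniq e he
  refine ⟨⟨cmp hP' hP, cmp_cmp hP hP', cmp_cmp hP' hP⟩, ?_⟩
  refine Groth.Agent.Lib.Helper3.RelGlue.hom_ext_over p fun U hU => ?_
  rw [reassoc_of% ι_cmp hP hP' U hU, ← hP'.chart_over U hU, Iso.inv_hom_id_assoc,
    hP.chart_over U hU]

end Groth.Agent.S8273
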