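import Groth.Statements.S8274
import Groth.Agent.Lib.Helper3.RelProjMap
import Groth.Agent.Lib.Helper3.RelGlueOpens

set_option autoImplicit false
universe u
open CategoryTheory CategoryTheory.Limits AlgebraicGeometry Opposite TopologicalSpace
open scoped HomogeneousIdeal
open EGA2

namespace Groth.Agent.S8274

section Aux
open Groth.Agent.Lib.Helper3

theorem ι_image_homOfLE_preimage {P : Scheme.{u}} {V' V : P.Opens} (h : V' ≤ V)
    (O : (V : Scheme.{u}).Opens) :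
    V'.ι ''ᵁ (P.homOfLE h ⁻¹ᵁ O) = V.ι ''ᵁ O ⊓ V' := by
  ext x
  constructor
  · rintro ⟨y, hy, rfl⟩
    refine ⟨⟨P.homOfLE h y, hy, ?_⟩, y.2⟩
    change (P.homOfLE h ≫ V.ι) y = _
    rw [Scheme.homOfLE_ι]; rfl
  · rintro ⟨⟨z, hz, rfl⟩, hx⟩
    refine ⟨⟨z.1, hx⟩, ?_, rfl⟩
    have : P.homOfLE h ⟨z.1, hx⟩ = z := by
      apply Subtype.ext
      change (P.homOfLE h ≫ V.ι) ⟨z.1, hx⟩ = _
      rw [Scheme.homOfLE_ι]; rfl
    change P.homOfLE h ⟨z.1, hx⟩ ∈ O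
    rw [this]; exact hz

variable {Y P : Scheme.{u}} (𝒮 : RelProj.QCGrAlg Y) (p : P ⟶ Y)
    (chart : ∀ (U : Y.Opens) (hU : IsAffineOpen U), (((p ⁻¹ᵁ U : P.Opens) : Scheme.{u}) ≅ Proj (𝒮.deg U hU)))
    (f : 𝒮.presheaf.obj (op ⊤))

/-- the restriction of the global section -/
noncomputable def fres (U : Y.Opens) : 𝒮.presheaf.obj (op U) :=
  (𝒮.presheaf.map (homOfLE le_top).op).hom f

/-- the open over `U` -/
noncomputable def W (U : Y.Opens) (hU : IsAffineOpen U) : P.Opens :=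
  (p ⁻¹ᵁ U).ι ''ᵁ ((chart U hU).hom ⁻¹ᵁ Proj.basicOpen (𝒮.deg U hU) (fres 𝒮 f U))

theorem W_le (U : Y.Opens) (hU : IsAffineOpen U) : W 𝒮 p chart f U hU ≤ p ⁻¹ᵁ U := by
  rintro _ ⟨y, -, rfl⟩
  exact y.2

variable {p chart} in
theorem W_res (hP : RelProj.IsRelProj 𝒮 p chart) (U : Y.Opens) (hU : IsAffineOpen U)
    (r : Γ(Y, U)) :
    W 𝒮 p chart f (Y.basicOpen r) (hU.basicOpen r) =
      W 𝒮 p chart f U hU ⊓ p ⁻¹ᵁ Y.basicOpen r := by
  unfold W
  rw [← ι_image_homOfLE_preimage (p.preimage_mono (Y.basicOpen_le r))]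
  congr 1
  rw [← Scheme.Hom.comp_preimage, hP.chart_res U hU r, Scheme.Hom.comp_preimage,
    Proj.map_preimage_basicOpen]
  congr 2
  change _ = (𝒮.presheaf.map (homOfLE (Y.basicOpen_le r)).op).hom
    ((𝒮.presheaf.map (homOfLE le_top).op).hom f)
  rw [← CommRingCat.comp_apply, ← 𝒮.presheaf.map_comp]
  rfl

end Aux


/-- Let 𝒮 be a quasi-coherent positively graded O_Y-algebra, P = Proj(𝒮) with structure morphism p and
charts, and f a global section of 𝒮 homogeneous of degree d > 0. There is an open subset X_f of P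
such that for every affine open U of Y, X_f ∩ p⁻¹(U) is the open D_+(f|U) of Proj 𝒮(U) transported
by the chart; moreover X_f is affine over Y. (The identification of X_f with the spectrum of a
quotient of the d-th Veronese algebra is not stated here.) -/
theorem result {Y P : Scheme.{u}} (𝒮 : RelProj.QCGrAlg Y) (p : P ⟶ Y)
    (chart : ∀ (U : Y.Opens) (hU : IsAffineOpen U), (((p ⁻¹ᵁ U : P.Opens) : Scheme.{u}) ≅ Proj (𝒮.deg U hU)))
    (hP : RelProj.IsRelProj 𝒮 p chart) {d : ℕ} (hd : 0 < d) (f : 𝒮.presheaf.obj (op ⊤))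
    (hf : ∀ (U : Y.Opens) (hU : IsAffineOpen U), (𝒮.presheaf.map (homOfLE le_top).op).hom f ∈ 𝒮.deg U hU d) :
    ∃ Xf : P.Opens,
      (∀ (U : Y.Opens) (hU : IsAffineOpen U),
        Xf ⊓ p ⁻¹ᵁ U =
          (p ⁻¹ᵁ U).ι ''ᵁ ((chart U hU).hom ⁻¹ᵁ
            Proj.basicOpen (𝒮.deg U hU) ((𝒮.presheaf.map (homOfLE le_top).op).hom f))) ∧
      IsAffineHom (Xf.ι ≫ p) := by
  have hinf := Groth.Agent.Lib.Helper3.RelGlue.iSup_inf_preimage p (W 𝒮 p chart f)
    (W_le 𝒮 p chart f) (W_res 𝒮 f hP)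
  refine ⟨⨆ V : Y.affineOpens, W 𝒮 p chart f V.1 V.2, hinf, ⟨fun U hU => ?_⟩⟩
  rw [← (Scheme.Opens.ι _).isAffineOpen_iff_of_isOpenImmersion, Scheme.Hom.comp_preimage,
    Scheme.Hom.image_preimage_eq_opensRange_inf, Scheme.Opens.opensRange_ι, hinf U hU]
  unfold W
  rw [Scheme.Hom.isAffineOpen_iff_of_isOpenImmersion]
  exact (Proj.isAffineOpen_basicOpen _ _ (hf U hU) hd).preimage_of_isIso _

end Groth.Agent.S8274
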