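import Groth.Statements.S8278
import Groth.Agent.Lib.Helper8.Natural

set_option autoImplicit false
universe u
open EGA2

namespace Groth.Agent.S8278

open Groth.Agent.Lib.Helper8.Natural

/-- For a positively graded ring S, the graded ring S♮ with S♮_n = S_{≥ n} = ⊕_{m ≥ n} S_m (presented
here as a graded ring S' with an injective algebra homomorphism φ : S' → S[X] carrying S'_n onto
S_{≥ n}·X^n for every n, so that S'_0 is identified with S), and n₀ ≥ 1: S♮_n = (S♮_1)^n for n ≥ n₀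
if and only if S_n = (S_1)^n for n ≥ n₀. (n₀ ≥ 1 because the zeroth power of a submodule is the span
of 1, not the degree-zero part.) -/
theorem result {R A B : Type u} [CommRing R] [CommRing A] [Algebra R A]
    (𝒜 : ℕ → Submodule R A) [GradedAlgebra 𝒜] [CommRing B] [Algebra R B] (ℬ : ℕ → Submodule R B) [GradedAlgebra ℬ]
    (φ : B →ₐ[R] Polynomial A) (hφ : Function.Injective φ)
    (hdeg : ∀ n : ℕ, Submodule.map φ.toLinearMap (ℬ n) =
      Submodule.map ((Polynomial.monomial n : A →ₗ[A] Polynomial A).restrictScalars R) (⨆ (m : ℕ) (_ : n ≤ m), 𝒜 m)) (n₀ : ℕ) (hn₀ : 1 ≤ n₀) :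
    (∀ n : ℕ, n₀ ≤ n → ℬ n = ℬ 1 ^ n) ↔ (∀ n : ℕ, n₀ ≤ n → 𝒜 n = 𝒜 1 ^ n) := by
  have key : ∀ n : ℕ, ℬ n = ℬ 1 ^ n ↔ ge 𝒜 n = ge 𝒜 1 ^ n :=
    fun n => B_eq_pow_iff 𝒜 ℬ φ hφ hdeg n
  constructor
  · intro h n hn
    exact eq_pow_of_ge_eq_pow 𝒜 ((key n).mp (h n hn))
  · intro h n hn
    rw [key]
    apply le_antisymm _ (ge_pow_le 𝒜 n)
    refine iSup₂_le fun m hm => ?_
    rw [h m (by omega)]
    obtain ⟨k, rfl⟩ : ∃ k, n = k + 1 := ⟨n - 1, by omega⟩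
    obtain ⟨j, rfl⟩ : ∃ j, m = k + (j + 1) := ⟨m - k - 1, by omega⟩
    rw [pow_add, pow_succ (ge 𝒜 1) k]
    refine mul_le_mul' (pow_le_pow_left' (le_ge 𝒜 le_rfl) k) ?_
    exact (pow_le_graded 𝒜 (j + 1)).trans (le_ge 𝒜 (by omega))

end Groth.Agent.S8278
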