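import Groth.Statements.S8280
import Mathlib

set_option autoImplicit false
universe u
open CategoryTheory CategoryTheory.Limits AlgebraicGeometry Opposite TopologicalSpace
open scoped HomogeneousIdeal
open EGA2

namespace S8280aux

/-- a relevant homogeneous prime cannot contain all pieces of large degree. -/
theorem exists_notMem {A σ ι : Type*} [CommRing A] [SetLike σ A] [AddSubgroupClass σ A]
    (𝒜 : ℕ → σ) [GradedRing 𝒜] (y : ProjectiveSpectrum 𝒜) (g : ι → A)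
    (hgen : ∃ n₀ : ℕ, ∀ n, n₀ ≤ n → (𝒜 n : Set A) ⊆ (Ideal.span (Set.range g) : Set A)) :
    ∃ a, g a ∉ y.asHomogeneousIdeal := by
  by_contra hcon
  push Not at hcon
  obtain ⟨n₀, hn₀⟩ := hgen
  have hspan : Ideal.span (Set.range g) ≤ y.asHomogeneousIdeal.toIdeal := by
    rw [Ideal.span_le]
    rintro _ ⟨a, rfl⟩
    exact hcon a
  apply y.not_irrelevant_le
  change 𝒜₊.toIdeal ≤ y.asHomogeneousIdeal.toIdeal
  rw [HomogeneousIdeal.toIdeal_irrelevant_le]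
  intro i hi x hx
  have hx' : x ∈ 𝒜 i := hx
  have hpow : x ^ (n₀ + 1) ∈ 𝒜 ((n₀ + 1) • i) := SetLike.pow_mem_graded _ hx'
  have hle : n₀ ≤ (n₀ + 1) • i := by
    rw [smul_eq_mul]
    nlinarith
  have h1 : x ^ (n₀ + 1) ∈ y.asHomogeneousIdeal.toIdeal := hspan (hn₀ _ hle hpow)
  exact y.isPrime.mem_of_pow_mem _ h1

theorem main {Y P : Scheme.{u}} (𝒮 : RelProj.QCGrAlg Y) (p : P ⟶ Y)
    (chart : ∀ (U : Y.Opens) (hU : IsAffineOpen U), (((p ⁻¹ᵁ U : P.Opens) : Scheme.{u}) ≅ Proj (𝒮.deg U hU)))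
    {ι : Type u}
    (f : ι → 𝒮.presheaf.obj (op ⊤))
    (hgen : ∀ (U : Y.Opens) (hU : IsAffineOpen U), ∃ n₀ : ℕ, ∀ n, n₀ ≤ n →
      (𝒮.deg U hU n : Set (𝒮.presheaf.obj (op U))) ⊆
        (Ideal.span (Set.range fun a => (𝒮.presheaf.map (homOfLE (le_top : U ≤ ⊤)).op).hom (f a)) :
          Set (𝒮.presheaf.obj (op U))))
    (X : ι → P.Opens)
    (hX : ∀ (a : ι) (U : Y.Opens) (hU : IsAffineOpen U),
      X a ⊓ p ⁻¹ᵁ U =
        (p ⁻¹ᵁ U).ι ''ᵁ ((chart U hU).hom ⁻¹ᵁ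
          Proj.basicOpen (𝒮.deg U hU) ((𝒮.presheaf.map (homOfLE le_top).op).hom (f a)))) :
    ⨆ a, X a = ⊤ := by
  rw [eq_top_iff]
  intro x _
  obtain ⟨U, hU, hxU⟩ : ∃ (U : Y.Opens) (_ : IsAffineOpen U), p.base x ∈ U := by
    obtain ⟨_, ⟨U, hU, rfl⟩, hx, -⟩ :=
      Y.isBasis_affineOpens.exists_subset_of_mem_open (Set.mem_univ (p.base x)) isOpen_univ
    exact ⟨U, hU, hx⟩
  let x' : ((p ⁻¹ᵁ U : P.Opens) : Scheme.{u}) := ⟨x, hxU⟩
  let y : Proj (𝒮.deg U hU) := (chart U hU).hom.base x'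
  obtain ⟨a, ha⟩ := exists_notMem (𝒮.deg U hU) y
    (fun a => (𝒮.presheaf.map (homOfLE (le_top : U ≤ ⊤)).op).hom (f a)) (hgen U hU)
  rw [Opens.mem_iSup]
  refine ⟨a, ?_⟩
  have hmem : x ∈ X a ⊓ p ⁻¹ᵁ U := by
    rw [hX a U hU]
    exact ⟨x', ha, rfl⟩
  exact hmem.1

end S8280aux


namespace Groth.Agent.S8280

/-- Let (f_α) be global sections of the quasi-coherent positively graded O_Y-algebra 𝒮, homogeneous of
positive degrees, such that the ideal they generate contains all 𝒮_n from some degree on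
(affine-locally). Then the opens X_{f_α} of Proj(𝒮) (characterised chartwise by the basic opens
D_+(f_α|U)) cover Proj(𝒮). (The published hypothesis fixes one degree, valid over all of Y, from
which on the f_α generate; this row asks for such a degree over each affine open separately, which
is all the proof, carried out one affine open at a time, uses.) -/
theorem result {Y P : Scheme.{u}} (𝒮 : RelProj.QCGrAlg Y) (p : P ⟶ Y)
    (chart : ∀ (U : Y.Opens) (hU : IsAffineOpen U), (((p ⁻¹ᵁ U : P.Opens) : Scheme.{u}) ≅ Proj (𝒮.deg U hU)))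
    (hP : RelProj.IsRelProj 𝒮 p chart) {ι : Type u} (d : ι → ℕ) (hd : ∀ a, 0 < d a)
    (f : ι → 𝒮.presheaf.obj (op ⊤))
    (hf : ∀ (a : ι) (U : Y.Opens) (hU : IsAffineOpen U), (𝒮.presheaf.map (homOfLE le_top).op).hom (f a) ∈ 𝒮.deg U hU (d a))
    (hgen : ∀ (U : Y.Opens) (hU : IsAffineOpen U), ∃ n₀ : ℕ, ∀ n, n₀ ≤ n →
      (𝒮.deg U hU n : Set (𝒮.presheaf.obj (op U))) ⊆
        (Ideal.span (Set.range fun a => (𝒮.presheaf.map (homOfLE (le_top : U ≤ ⊤)).op).hom (f a)) :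
          Set (𝒮.presheaf.obj (op U))))
    (X : ι → P.Opens)
    (hX : ∀ (a : ι) (U : Y.Opens) (hU : IsAffineOpen U),
      X a ⊓ p ⁻¹ᵁ U =
        (p ⁻¹ᵁ U).ι ''ᵁ ((chart U hU).hom ⁻¹ᵁ
          Proj.basicOpen (𝒮.deg U hU) ((𝒮.presheaf.map (homOfLE le_top).op).hom (f a)))) :
    ⨆ a, X a = ⊤ := by
  exact S8280aux.main 𝒮 p chart f hgen X hX

end Groth.Agent.S8280
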