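import Groth.Statements.S8281
import Groth.Agent.Lib.Helper3.QCAlgLift2
import Groth.Agent.S8255

set_option autoImplicit false
universe u
open CategoryTheory CategoryTheory.Limits AlgebraicGeometry Opposite TopologicalSpace
open EGA2

namespace Groth.Agent.S8281

open RelSpec Groth.Agent.Lib.Helper3

variable {S S' : Scheme.{u}} (q : S' ⟶ S) (B : RelSpec.QCAlg S)
    (B' : RelSpec.QCAlg S') (u : B.presheaf ⟶ q.base _* B'.presheaf)

/-- the algebra map attached to a q-morphism -/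
noncomputable def omega₀ : B.presheaf ⟶ q.base _* (B'.π.base _* B'.spec.presheaf) :=
  haveI := Groth.Agent.S8255.result B'
  u ≫ (TopCat.Presheaf.pushforward CommRingCat.{u} q.base).map (inv B'.gammaMap)

theorem str_omega₀
    (hu : B.str ≫ u = q.c ≫ (TopCat.Presheaf.pushforward CommRingCat.{u} q.base).map B'.str) :
    B.str ≫ omega₀ q B B' u =
      q.c ≫ (TopCat.Presheaf.pushforward CommRingCat.{u} q.base).map B'.π.c := by
  have := Groth.Agent.S8255.result B'
  unfold omega₀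
  rw [reassoc_of% hu, ← Functor.map_comp]
  have h1 : B'.str ≫ inv B'.gammaMap = B'.π.c := by
    rw [IsIso.comp_inv_eq, B'.π_c_gammaMap]
  rw [h1]

noncomputable def omega : B.presheaf ⟶ (B'.π ≫ q).base _* B'.spec.presheaf :=
  omega₀ q B B' u

theorem omega_app (U : S.Opens) :
    (omega q B B' u).app (op U) =
      haveI := Groth.Agent.S8255.result B'
      u.app (op U) ≫ (inv B'.gammaMap).app (op (q ⁻¹ᵁ U)) := rfl

theorem str_omega
    (hu : B.str ≫ u = q.c ≫ (TopCat.Presheaf.pushforward CommRingCat.{u} q.base).map B'.str) :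
    B.str ≫ omega q B B' u = (B'.π ≫ q).c :=
  str_omega₀ q B B' u hu


theorem gamma_nat (V W : S'.Opens) (hW : IsAffineOpen W) (hle : W ≤ V) :
    B'.gammaMap.app (op V) ≫ B'.presheaf.map (homOfLE hle).op =
      B'.spec.presheaf.map (homOfLE (B'.π.preimage_mono hle)).op ≫ B'.gammaAff W hW := by
  rw [← B'.gammaMap_app W hW]
  exact (B'.gammaMap.naturality (homOfLE hle).op).symm

set_option backward.isDefEq.respectTransparency false in
theorem chart (U : S.Opens) (hU : IsAffineOpen U) (U' : S'.Opens) (hU' : IsAffineOpen U')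
    (hle : U' ≤ q ⁻¹ᵁ U) :
    B'.ι U' hU' ≫ QCAlg.lift B (B'.π ≫ q) (omega q B B' u) =
      Spec.map ((u.app (op U) : B.presheaf.obj (op U) ⟶ B'.presheaf.obj (op (q ⁻¹ᵁ U))) ≫
              B'.presheaf.map (homOfLE hle).op) ≫ B.ι U hU := by
  have := Groth.Agent.S8255.result B'
  have hj : ⊤ ≤ (B'.ι U' hU') ⁻¹ᵁ ((B'.π ≫ q) ⁻¹ᵁ U) :=
    (B'.top_le_preimage U' hU').trans ((B'.ι U' hU').preimage_mono (B'.π.preimage_mono hle))
  rw [QCAlg.comp_lift_of_le B (B'.π ≫ q) _ U hU (B'.ι U' hU') hj]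
  congr 2
  rw [omega_app, Category.assoc]
  congr 1
  have h2 : (B'.ι U' hU').appLE ((B'.π ≫ q) ⁻¹ᵁ U) ⊤ hj =
      B'.spec.presheaf.map (homOfLE (B'.π.preimage_mono hle)).op ≫
        (B'.ι U' hU').appLE (B'.π ⁻¹ᵁ U') ⊤ (B'.top_le_preimage U' hU') :=
    (Scheme.Hom.map_appLE _ _ _).symm
  rw [h2, Category.assoc]
  have h3 := gamma_nat B' (q ⁻¹ᵁ U) U' hU' hle
  unfold QCAlg.gammaAff at h3
  rw [← h3, ← Category.assoc, ← NatTrans.comp_app, IsIso.inv_hom_id, NatTrans.id_app]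
  exact Category.id_comp _


/-- index type for the charts of `Spec(B')` lying over affine opens of `S` -/
structure Idx where
  U : S.Opens
  hU : IsAffineOpen U
  U' : S'.Opens
  hU' : IsAffineOpen U'
  hle : U' ≤ q ⁻¹ᵁ U

theorem hom_ext_charts {Z : Scheme.{u}} (v v' : B'.spec ⟶ Z)
    (h : ∀ (U : S.Opens) (_ : IsAffineOpen U) (U' : S'.Opens) (hU' : IsAffineOpen U')
      (_ : U' ≤ q ⁻¹ᵁ U), B'.ι U' hU' ≫ v = B'.ι U' hU' ≫ v') : v = v' := by
  let W : Idx q → B'.spec.Opens := fun p ↦ (B'.ι p.U' p.hU').opensRange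
  have hW : IsOpenCover W := by
    refine top_le_iff.mp fun x _ ↦ ?_
    obtain ⟨_, ⟨U, hU : IsAffineOpen U, rfl⟩, hxU, -⟩ :=
      S.isBasis_affineOpens.exists_subset_of_mem_open (Set.mem_univ (q (B'.π x))) isOpen_univ
    obtain ⟨_, ⟨U', hU' : IsAffineOpen U', rfl⟩, hxU', hle⟩ :=
      S'.isBasis_affineOpens.exists_subset_of_mem_open (show B'.π x ∈ q ⁻¹ᵁ U from hxU)
        (q ⁻¹ᵁ U).isOpen
    refine Opens.mem_iSup.mpr ⟨⟨U, hU, U', hU', hle⟩, ?_⟩
    change x ∈ (B'.ι U' hU').opensRange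
    rw [← B'.π_preimage U' hU']
    exact hxU'
  refine Scheme.Cover.hom_ext (B'.spec.openCoverOfIsOpenCover W hW) _ _ fun p ↦ ?_
  change (W p).ι ≫ v = (W p).ι ≫ v'
  have h1 : (W p).ι = (B'.ι p.U' p.hU').isoOpensRange.inv ≫ B'.ι p.U' p.hU' :=
    (Scheme.Hom.isoOpensRange_inv_comp _).symm
  rw [h1, Category.assoc, Category.assoc, h p.U p.hU p.U' p.hU' p.hle]



/-- Let q : S' → S be a morphism, B and B' quasi-coherent algebras over O_S and O_{S'}, and u : B →
q_*B' a q-morphism (compatible with the structure maps). Then u induces a unique morphism v =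
Spec(u) : Spec(B') → Spec(B) which on the charts over affine opens U ⊆ S, U' ⊆ q⁻¹(U) is Spec of the
ring map B(U) → B'(U') given by u and restriction; it lies over q. -/
theorem result {S S' : Scheme.{u}} (q : S' ⟶ S) (B : RelSpec.QCAlg S)
    (B' : RelSpec.QCAlg S') (u : B.presheaf ⟶ q.base _* B'.presheaf)
    (hu : B.str ≫ u = q.c ≫ (TopCat.Presheaf.pushforward CommRingCat.{u} q.base).map B'.str) :
    (∃! v : B'.spec ⟶ B.spec,
        ∀ (U : S.Opens) (hU : IsAffineOpen U) (U' : S'.Opens) (hU' : IsAffineOpen U') (hle : U' ≤ q ⁻¹ᵁ U),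
          B'.ι U' hU' ≫ v =
            Spec.map ((u.app (op U) : B.presheaf.obj (op U) ⟶ B'.presheaf.obj (op (q ⁻¹ᵁ U))) ≫
              B'.presheaf.map (homOfLE hle).op) ≫ B.ι U hU) ∧
      ∀ v : B'.spec ⟶ B.spec,
        (∀ (U : S.Opens) (hU : IsAffineOpen U) (U' : S'.Opens) (hU' : IsAffineOpen U') (hle : U' ≤ q ⁻¹ᵁ U),
          B'.ι U' hU' ≫ v =
            Spec.map ((u.app (op U) : B.presheaf.obj (op U) ⟶ B'.presheaf.obj (op (q ⁻¹ᵁ U))) ≫
              B'.presheaf.map (homOfLE hle).op) ≫ B.ι U hU) →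
        v ≫ B.π = B'.π ≫ q := by
  have huniq : ∀ v : B'.spec ⟶ B.spec,
      (∀ (U : S.Opens) (hU : IsAffineOpen U) (U' : S'.Opens) (hU' : IsAffineOpen U')
        (hle : U' ≤ q ⁻¹ᵁ U), B'.ι U' hU' ≫ v =
            Spec.map ((u.app (op U) : B.presheaf.obj (op U) ⟶ B'.presheaf.obj (op (q ⁻¹ᵁ U))) ≫
              B'.presheaf.map (homOfLE hle).op) ≫ B.ι U hU) →
      v = QCAlg.lift B (B'.π ≫ q) (omega q B B' u) := by
    intro v hv
    refine hom_ext_charts q B' v _ fun U hU U' hU' hle ↦ ?_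
    rw [hv U hU U' hU' hle, chart q B B' u U hU U' hU' hle]
  refine ⟨⟨QCAlg.lift B (B'.π ≫ q) (omega q B B' u), chart q B B' u, huniq⟩, fun v hv ↦ ?_⟩
  rw [huniq v hv]
  exact QCAlg.lift_π B (B'.π ≫ q) _ (str_omega q B B' u hu)

end Groth.Agent.S8281
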