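import Groth.Statements.S8283
import Mathlib
import Groth.Agent.Lib.Helper8.SectionDVR
import Groth.Agent.S9501

set_option autoImplicit false
universe u
open CategoryTheory CategoryTheory.Limits AlgebraicGeometry Opposite TopologicalSpace
open EGA2

namespace S8283aux
open Groth.Agent.Lib.Helper8.SectionDVR

theorem exists_generator {X V : Scheme.{u}} (j : X ⟶ V) [IsClosedImmersion j]
    (hJ : BlowUp.IsEffCartierIdeal j.ker) (x : X) :
    ∃ t : V.presheaf.stalk (j.base x), t ∈ nonZeroDivisors (V.presheaf.stalk (j.base x)) ∧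
      (j.stalkMap x).hom t = 0 ∧ (∀ b, (j.stalkMap x).hom b = 0 → ∃ c, b = t * c) := by
  obtain ⟨U, hvU, f, hf, hI⟩ := hJ (j.base x)
  have hU : IsAffineOpen U.1 := U.2
  have hU' : IsAffineOpen (j ⁻¹ᵁ U.1) := hU.preimage j
  have hker : j.ker.ideal U = RingHom.ker (j.app U.1).hom := j.ker_apply U
  have hsurj : Function.Surjective (j.app U.1).hom := j.app_surjective U.1 hU
  have hxU : x ∈ j ⁻¹ᵁ U.1 := hvU
  let _ := V.presheaf.algebra_section_stalk ⟨j.base x, hvU⟩
  have hloc := hU.isLocalization_stalk ⟨j.base x, hvU⟩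
  let _ := X.presheaf.algebra_section_stalk ⟨x, hxU⟩
  have hloc' := hU'.isLocalization_stalk ⟨x, hxU⟩
  have hfker : (j.app U.1).hom f = 0 := by
    have : f ∈ j.ker.ideal U := by rw [hI]; exact Ideal.mem_span_singleton_self f
    rw [hker] at this
    exact this
  refine ⟨V.presheaf.germ U.1 (j.base x) hvU f, ?_, ?_, ?_⟩
  · exact IsLocalization.map_nonZeroDivisors_le
      (hU.primeIdealOf ⟨j.base x, hvU⟩).asIdeal.primeCompl _ ⟨f, hf, rfl⟩
  · have := j.germ_stalkMap_apply U.1 x hvU f
    erw [this, hfker, map_zero]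
  · intro b hb
    obtain ⟨⟨g, h⟩, hgh⟩ :=
      IsLocalization.surj (hU.primeIdealOf ⟨j.base x, hvU⟩).asIdeal.primeCompl b
    have hgerm : ∀ r : Γ(V, U.1), (j.stalkMap x).hom (algebraMap Γ(V, U.1) _ r) =
        algebraMap Γ(X, j ⁻¹ᵁ U.1) (X.presheaf.stalk x) ((j.app U.1).hom r) := fun r =>
      j.germ_stalkMap_apply U.1 x hvU r
    have hg0 : algebraMap Γ(X, j ⁻¹ᵁ U.1) (X.presheaf.stalk x) ((j.app U.1).hom g) = 0 := by
      have := congrArg (j.stalkMap x).hom hgh
      rw [map_mul, hb, zero_mul] at this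
      rw [← hgerm]
      exact this.symm
    obtain ⟨⟨h', hh'⟩, hh'0⟩ :=
      (IsLocalization.map_eq_zero_iff (hU'.primeIdealOf ⟨x, hxU⟩).asIdeal.primeCompl _ _).mp hg0
    obtain ⟨h'', rfl⟩ := hsurj h'
    have hu'' : IsUnit (algebraMap Γ(V, U.1) (V.presheaf.stalk (j.base x)) h'') := by
      have h1 : IsUnit ((j.stalkMap x).hom (algebraMap Γ(V, U.1) _ h'')) := by
        rw [hgerm]
        exact IsLocalization.map_units _ (⟨_, hh'⟩ : (hU'.primeIdealOf ⟨x, hxU⟩).asIdeal.primeCompl)
      exact (isUnit_map_iff (j.stalkMap x).hom _).mp h1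
    have hu : IsUnit (algebraMap Γ(V, U.1) (V.presheaf.stalk (j.base x)) h) :=
      IsLocalization.map_units _ h
    have hmem : h'' * g ∈ j.ker.ideal U := by
      rw [hker, RingHom.mem_ker, map_mul]
      exact hh'0
    rw [hI, Ideal.mem_span_singleton'] at hmem
    obtain ⟨c, hc⟩ := hmem
    obtain ⟨u, hu⟩ := hu
    obtain ⟨u'', hu''⟩ := hu''
    refine ⟨algebraMap Γ(V, U.1) _ c * ↑u⁻¹ * ↑u''⁻¹, ?_⟩
    have h2 := congrArg (algebraMap Γ(V, U.1) (V.presheaf.stalk (j.base x))) hc
    rw [map_mul, map_mul, ← hgh, ← hu, ← hu''] at h2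
    change b = algebraMap Γ(V, U.1) _ f * _
    have e1 : (↑u : V.presheaf.stalk (j.base x)) * ↑u⁻¹ = 1 := u.mul_inv
    have e2 : (↑u'' : V.presheaf.stalk (j.base x)) * ↑u''⁻¹ = 1 := u''.mul_inv
    linear_combination (-b) * e1 + (-(b * ↑u * ↑u⁻¹)) * e2 - (↑u⁻¹ * ↑u''⁻¹) * h2

end S8283aux

namespace S8283aux
open Groth.Agent.Lib.Helper8.SectionDVR IsLocalRing

theorem key {X V : Scheme.{u}} (π : V ⟶ X)
    (j : X ⟶ V) [IsClosedImmersion j] (hj : j ≫ π = 𝟙 X) (hJ : BlowUp.IsEffCartierIdeal j.ker)
    (x : X) (v : V) (hv : v = j.base x) :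
    ∃ t : V.presheaf.stalk v,
      (∀ n : ℕ, t ^ n ∉ Ideal.map (π.stalkMap v).hom (maximalIdeal (X.presheaf.stalk (π.base v)))) ∧
      ¬ IsUnit t ∧
      maximalIdeal (V.presheaf.stalk v) ≤
        Ideal.map (π.stalkMap v).hom (maximalIdeal (X.presheaf.stalk (π.base v))) ⊔ Ideal.span {t} := by
  subst hv
  obtain ⟨t, htnzd, hψt, hkert⟩ := exists_generator j hJ x
  have hiso : IsIso (j ≫ π) := by rw [hj]; infer_instance
  have hcomp : (j ≫ π).stalkMap x = π.stalkMap (j.base x) ≫ j.stalkMap x :=
    Scheme.Hom.stalkMap_comp j π x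
  have hbij : Function.Bijective ((j.stalkMap x).hom.comp (π.stalkMap (j.base x)).hom) := by
    have := ConcreteCategory.bijective_of_isIso ((j ≫ π).stalkMap x)
    rw [hcomp] at this
    exact this
  have hφloc : IsLocalHom (π.stalkMap (j.base x)).hom := inferInstance
  have hψloc : IsLocalHom (j.stalkMap x).hom := inferInstance
  have hle : Ideal.map (π.stalkMap (j.base x)).hom
      (maximalIdeal (X.presheaf.stalk (π.base (j.base x)))) ≤ maximalIdeal _ :=
    ((IsLocalRing.local_hom_TFAE (π.stalkMap (j.base x)).hom).out 0 2).mp hφloc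
  have hne : Ideal.map (π.stalkMap (j.base x)).hom
      (maximalIdeal (X.presheaf.stalk (π.base (j.base x)))) ≠ ⊤ := fun h =>
    (Ideal.IsPrime.ne_top (inferInstance : (maximalIdeal (V.presheaf.stalk (j.base x))).IsPrime))
      (top_le_iff.mp (h ▸ hle))
  have htnu : ¬ IsUnit t := by
    intro h
    have := h.map (j.stalkMap x).hom
    rw [hψt] at this
    exact not_isUnit_zero this
  refine ⟨t, fun n => pow_notMem_map _ _ hbij t htnzd hψt hkert _ hne n, htnu, ?_⟩
  intro b hb
  obtain ⟨a', ha'⟩ := hbij.2 ((j.stalkMap x).hom b)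
  have ha'm : a' ∈ maximalIdeal (X.presheaf.stalk (π.base (j.base x))) := by
    rw [IsLocalRing.mem_maximalIdeal]
    intro hu
    have h1 : IsUnit ((j.stalkMap x).hom b) := by
      rw [← ha']
      exact hu.map _
    exact (IsLocalRing.mem_maximalIdeal b).mp hb ((isUnit_map_iff (j.stalkMap x).hom b).mp h1)
  have h0 : (j.stalkMap x).hom (b - (π.stalkMap (j.base x)).hom a') = 0 := by
    rw [map_sub]
    have : (j.stalkMap x).hom ((π.stalkMap (j.base x)).hom a') = (j.stalkMap x).hom b := ha'
    rw [this, sub_self]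
  obtain ⟨c, hc⟩ := hkert _ h0
  have hb' : b = (π.stalkMap (j.base x)).hom a' + t * c := by rw [← hc]; ring
  rw [hb']
  exact Submodule.add_mem_sup (Ideal.mem_map_of_mem _ ha'm)
    (Ideal.mul_mem_right _ _ (Ideal.mem_span_singleton_self t))

theorem main {X V : Scheme.{u}} (π : V ⟶ X) [LocallyOfFiniteType π]
    (j : X ⟶ V) [IsClosedImmersion j] (hj : j ≫ π = 𝟙 X) (hJ : BlowUp.IsEffCartierIdeal j.ker) (x : X) :
    ∃ _ : IsDomain ((π.fiber (π.base (j.base x))).presheaf.stalk (π.asFiber (j.base x))),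
      IsDiscreteValuationRing ((π.fiber (π.base (j.base x))).presheaf.stalk (π.asFiber (j.base x))) := by
  obtain ⟨t, ht1, htnu, ht2⟩ := key π j hj hJ x
    ((π.fiberι (π.base (j.base x))).base (π.asFiber (j.base x))) (π.fiberι_asFiber (j.base x))
  obtain ⟨hsurj, hker⟩ := Groth.Agent.S9501.result π (π.base (j.base x)) (π.asFiber (j.base x))
  have hNoeth : IsLocallyNoetherian (π.fiber (π.base (j.base x))) := by
    unfold Scheme.Hom.fiber
    infer_instance
  have hσloc : IsLocalHom ((π.fiberι (π.base (j.base x))).stalkMap (π.asFiber (j.base x))).hom :=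
    inferInstance
  apply isDVR_of_principal (((π.fiberι (π.base (j.base x))).stalkMap (π.asFiber (j.base x))).hom t)
  · apply le_antisymm
    · intro c hc
      obtain ⟨b, rfl⟩ := hsurj c
      have hbm : b ∈ maximalIdeal _ := by
        rw [IsLocalRing.mem_maximalIdeal]
        intro hu
        exact (IsLocalRing.mem_maximalIdeal _).mp hc (hu.map _)
      obtain ⟨z, hz, w, hw, rfl⟩ := Submodule.mem_sup.mp (ht2 hbm)
      rw [Ideal.mem_span_singleton'] at hw
      obtain ⟨d, rfl⟩ := hw
      rw [← hker, RingHom.mem_ker] at hz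
      rw [map_add, hz, zero_add, map_mul, Ideal.mem_span_singleton']
      exact ⟨_, rfl⟩
    · rw [Ideal.span_singleton_le_iff_mem, IsLocalRing.mem_maximalIdeal]
      intro hu
      exact htnu ((isUnit_map_iff _ t).mp hu)
  · rintro ⟨n, hn⟩
    rw [← map_pow, ← RingHom.mem_ker, hker] at hn
    exact ht1 n hn

end S8283aux

namespace Groth.Agent.S8283

/-- Let π : V → X be locally of finite type and j : X → V a section of π that is a closed immersion with
invertible ideal sheaf. Then for every x ∈ X the local ring at j(x) of the fibre π⁻¹(π(j(x))) =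
π⁻¹(x) is a regular local ring of dimension one, i.e. a discrete valuation ring (so j(x) lies on a
single irreducible component of the fibre; the completion of that local ring is then a power-series
ring in one variable over the residue field of x). (The published statement assumes π of finite
type; this row assumes only that π is locally of finite type, which is all the proof uses: it needs
no more than the Noetherian property of the local rings of the fibre.) -/
theorem result {X V : Scheme.{u}} (π : V ⟶ X) [LocallyOfFiniteType π]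
    (j : X ⟶ V) [IsClosedImmersion j] (hj : j ≫ π = 𝟙 X) (hJ : BlowUp.IsEffCartierIdeal j.ker) (x : X) :
    ∃ _ : IsDomain ((π.fiber (π.base (j.base x))).presheaf.stalk (π.asFiber (j.base x))),
      IsDiscreteValuationRing ((π.fiber (π.base (j.base x))).presheaf.stalk (π.asFiber (j.base x))) := by
  exact S8283aux.main π j hj hJ x

end Groth.Agent.S8283
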