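import Groth.Statements.S8285
import Groth.Agent.Lib.Helper3.TwistQC
import Groth.Agent.Lib.Helper3.ChartQC
import Groth.Agent.Lib.Helper3.RelTildeK

set_option autoImplicit false
universe u
open CategoryTheory CategoryTheory.Limits AlgebraicGeometry Opposite TopologicalSpace
open scoped HomogeneousIdeal
noncomputable section
open EGA2

namespace Groth.Agent.S8285
open Groth.Agent.Lib.Helper3

/-- The twisting sheaf O_P(n) on the relative homogeneous spectrum P = Proj(𝒮), given through its
chartwise identifications with the O(n) of the Proj 𝒮(U), is a quasi-coherent O_P-module. -/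
theorem result {Y P : Scheme.{u}} (𝒮 : RelProj.QCGrAlg Y) (p : P ⟶ Y)
    (chart : ∀ (U : Y.Opens) (hU : IsAffineOpen U), (((p ⁻¹ᵁ U : P.Opens) : Scheme.{u}) ≅ Proj (𝒮.deg U hU)))
    (hP : RelProj.IsRelProj 𝒮 p chart) (n : ℤ) (L : P.Modules)
    (lam : ∀ (U : Y.Opens) (hU : IsAffineOpen U),
      L ⟶ (Scheme.Modules.pushforward (RelProj.emb p chart U hU)).obj (GrTwist.twist (𝒮.deg U hU) n))
    (hL : RelProj.IsRelTwist 𝒮 p chart n L lam) : Coh.IsQCoh L := by
  apply ChartQC.isQuasicoherent_of_charts
  intro x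
  obtain ⟨U, hU, hx, -⟩ := exists_isAffineOpen_mem_and_subset (x := p.base x) (U := ⊤) trivial
  have hr : Set.range (RelProj.emb p chart U hU).base = ((p ⁻¹ᵁ U : P.Opens) : Set P) :=
    RelTilde.range_e p chart ⟨U, hU⟩
  refine ⟨Proj (𝒮.deg U hU), RelProj.emb p chart U hU, inferInstance,
    GrTwist.twist (𝒮.deg U hU) n, lam U hU, ?_, ?_, ?_⟩
  · rw [hr]; exact hx
  · exact TwistQC.twist_isQuasicoherent _ n
  · intro W hW
    refine hL.bijective U hU W (fun w hw => ?_)
    have : w ∈ Set.range (RelProj.emb p chart U hU).base := hW hw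
    rw [hr] at this
    exact this

end Groth.Agent.S8285
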