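import Groth.Statements.S8290
import Groth.Agent.Lib.Helper3.ChartTriv
import Groth.Agent.Lib.Helper3.RelTildeK

set_option autoImplicit false
universe u
open CategoryTheory CategoryTheory.Limits AlgebraicGeometry Opposite TopologicalSpace
open scoped HomogeneousIdeal
noncomputable section
open EGA2

namespace Groth.Agent.S8290
open Groth.Agent.Lib.Helper3

/-- Let 𝒮 be a quasi-coherent positively graded O_Y-algebra, X = Proj(𝒮), and U a quasi-compact open
subset of X. There is an integer d > 0 such that for every n divisible by d the twisting sheaf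
O_X(n) restricted to U is invertible. (The published statement adds that its inverse is O_X(-n)|U.) -/
theorem result {Y X : Scheme.{u}} (𝒮 : RelProj.QCGrAlg Y) (q : X ⟶ Y)
    (chart : ∀ (U : Y.Opens) (hU : IsAffineOpen U), (((q ⁻¹ᵁ U : X.Opens) : Scheme.{u}) ≅ Proj (𝒮.deg U hU)))
    (hX : RelProj.IsRelProj 𝒮 q chart) (U : X.Opens) (hU : IsCompact (U : Set X)) :
    ∃ d : ℕ, 0 < d ∧ ∀ (n : ℤ), (d : ℤ) ∣ n →
      ∀ (L : X.Modules)
        (lam : ∀ (V : Y.Opens) (hV : IsAffineOpen V),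
          L ⟶ (Scheme.Modules.pushforward (RelProj.emb q chart V hV)).obj (GrTwist.twist (𝒮.deg V hV) n)),
        RelProj.IsRelTwist 𝒮 q chart n L lam → PicF.IsInvertible (L.restrict U.ι) := by
  classical
  have hpt : ∀ x : X, ∃ (V : Y.Opens) (hV : IsAffineOpen V) (m : ℕ) (_ : 0 < m)
      (g : 𝒮.presheaf.obj (op V)) (_ : g ∈ 𝒮.deg V hV m) (y : Proj (𝒮.deg V hV)),
      g ∉ y.asHomogeneousIdeal ∧ (RelProj.emb q chart V hV).base y = x := by
    intro x
    obtain ⟨V, hV, hx, -⟩ := exists_isAffineOpen_mem_and_subset (x := q.base x) (U := ⊤) trivial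
    obtain ⟨y, hy⟩ := RelTilde.exists_of_mem_R q chart ⟨V, hV⟩ x hx
    obtain ⟨m, hm, g, hg, hgy⟩ := TildeExact.exists_pos_notMem (𝒜 := 𝒮.deg V hV) y
    exact ⟨V, hV, m, hm, g, hg, y, hgy, hy⟩
  choose V hV m hm g hg y hgy hy using hpt
  let O : X → X.Opens := fun x =>
    RelProj.emb q chart (V x) (hV x) ''ᵁ Proj.basicOpen (𝒮.deg (V x) (hV x)) (g x)
  have hxO : ∀ x, x ∈ O x := fun x => ⟨y x, hgy x, hy x⟩
  obtain ⟨t, ht⟩ := hU.elim_finite_subcover (fun x => (O x : Set X)) (fun x => (O x).isOpen)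
    (fun x _ => Set.mem_iUnion.mpr ⟨x, hxO x⟩)
  refine ⟨∏ x ∈ t, m x, Finset.prod_pos fun x _ => hm x, ?_⟩
  rintro n ⟨k, rfl⟩ L lam hL
  apply TwistTriv.isInvertible_restrict_of_isTriv' U
  intro x' hx'
  have hmem := ht hx'
  simp only [Set.mem_iUnion] at hmem
  obtain ⟨z, hzt, ⟨y', hy'g, hy'x⟩⟩ := hmem
  obtain ⟨c, hc⟩ := Finset.dvd_prod_of_mem m hzt
  have hinv : PicF.IsInvertible ((GrTwist.twist (𝒮.deg (V z) (hV z))
      (((∏ x ∈ t, m x : ℕ) : ℤ) * k)).restrict (Proj.basicOpen (𝒮.deg (V z) (hV z)) (g z)).ι) := by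
    apply TwistTriv.isInvertible_restrict_of_isTriv'
    intro w hw
    refine ⟨Proj.basicOpen _ (g z), _, hw, le_rfl,
      TwistTriv.isTriv_eSec _ ⟨g z, hg z⟩ ((c : ℤ) * k).toNat (-((c : ℤ) * k)).toNat ?_ _ le_rfl⟩
    rw [Int.toNat_sub_toNat_neg, hc]
    push_cast
    ring
  have hr : Set.range (RelProj.emb q chart (V z) (hV z)).base = ((q ⁻¹ᵁ (V z) : X.Opens) : Set X) :=
    RelTilde.range_e q chart ⟨V z, hV z⟩
  obtain ⟨W, e, hxW, -, hW⟩ := ChartTriv.exists_isTriv_of_chart (RelProj.emb q chart (V z) (hV z)) L _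
    (lam (V z) (hV z))
    (fun W hW => hL.bijective (V z) (hV z) W (fun w hw => by
      have : w ∈ Set.range (RelProj.emb q chart (V z) (hV z)).base := hW hw
      rw [hr] at this
      exact this))
    _ hinv y' hy'g
  refine ⟨W ⊓ U, Groth.Agent.Lib.Helper29.QCoh.res L inf_le_left e, ⟨?_, hx'⟩, inf_le_right,
    hW.restrict inf_le_left⟩
  rw [← hy'x]
  exact hxW

end Groth.Agent.S8290
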