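import Groth.Statements.S8299
import Mathlib
import Groth.Agent.Lib.Helper8.RelCone2

set_option autoImplicit false
universe u
open CategoryTheory CategoryTheory.Limits AlgebraicGeometry Opposite TopologicalSpace
open scoped HomogeneousIdeal
noncomputable section
open EGA2

open scoped HomogeneousIdeal

namespace S8299aux
open Groth.Agent.Lib.Helper8.RelCone2

theorem main {Y Y' : Scheme.{u}} (q : Y' ⟶ Y) (𝒮 : RelProj.QCGrAlg Y) (𝒮' : RelProj.QCGrAlg Y')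
    (u : 𝒮.presheaf ⟶ q.base _* 𝒮'.presheaf)
    (φ : ∀ (U : Y.Opens) (hU : IsAffineOpen U) (U' : Y'.Opens) (hU' : IsAffineOpen U') (_ : U' ≤ q ⁻¹ᵁ U),
      𝒮.deg U hU →+*ᵍ 𝒮'.deg U' hU')
    (hφ : ∀ (U : Y.Opens) (hU : IsAffineOpen U) (U' : Y'.Opens) (hU' : IsAffineOpen U') (hle : U' ≤ q ⁻¹ᵁ U),
      (φ U hU U' hU' hle).toRingHom =
        ((u.app (op U) : 𝒮.presheaf.obj (op U) ⟶ 𝒮'.presheaf.obj (op (q ⁻¹ᵁ U))) ≫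
          𝒮'.presheaf.map (homOfLE hle).op).hom)
    (Φ : 𝒮'.toQCAlg.spec ⟶ 𝒮.toQCAlg.spec)
    (hΦ : ∀ (U : Y.Opens) (hU : IsAffineOpen U) (U' : Y'.Opens) (hU' : IsAffineOpen U') (hle : U' ≤ q ⁻¹ᵁ U),
      𝒮'.toQCAlg.ι U' hU' ≫ Φ =
        Spec.map ((u.app (op U) : 𝒮.presheaf.obj (op U) ⟶ 𝒮'.presheaf.obj (op (q ⁻¹ᵁ U))) ≫
          𝒮'.presheaf.map (homOfLE hle).op) ≫ 𝒮.toQCAlg.ι U hU) :
    Φ ⁻¹ᵁ RelCone.pointedCone 𝒮 ≤ RelCone.pointedCone 𝒮' := by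
  intro c' hc'
  obtain ⟨U₁, hU₁, hy⟩ : ∃ (U₁ : Y.Opens) (_ : IsAffineOpen U₁),
      q.base (𝒮'.toQCAlg.π.base c') ∈ U₁ := by
    obtain ⟨_, ⟨U, hU, rfl⟩, hx, -⟩ :=
      Y.isBasis_affineOpens.exists_subset_of_mem_open
        (Set.mem_univ (q.base (𝒮'.toQCAlg.π.base c'))) isOpen_univ
    exact ⟨U, hU, hx⟩
  obtain ⟨U', hU', hy', hle⟩ : ∃ (U' : Y'.Opens) (_ : IsAffineOpen U'),
      𝒮'.toQCAlg.π.base c' ∈ U' ∧ U' ≤ q ⁻¹ᵁ U₁ := by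
    obtain ⟨_, ⟨U, hU, rfl⟩, hx, hsub⟩ :=
      Y'.isBasis_affineOpens.exists_subset_of_mem_open
        (show 𝒮'.toQCAlg.π.base c' ∈ ((q ⁻¹ᵁ U₁ : Y'.Opens) : Set Y') from hy) (q ⁻¹ᵁ U₁).isOpen
    exact ⟨U, hU, hx, hsub⟩
  obtain ⟨p', rfl⟩ := (mem_range_ι_iff _ U' hU' c').mpr hy'
  have h1 : Φ.base ((𝒮'.toQCAlg.ι U' hU').base p') =
      (𝒮.toQCAlg.ι U₁ hU₁).base ((Spec.map ((u.app (op U₁) :
        𝒮.presheaf.obj (op U₁) ⟶ 𝒮'.presheaf.obj (op (q ⁻¹ᵁ U₁))) ≫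
          𝒮'.presheaf.map (homOfLE hle).op)).base p') :=
    congrArg (fun f : Spec (𝒮'.presheaf.obj (op U')) ⟶ 𝒮.toQCAlg.spec => f.base p')
      (hΦ U₁ hU₁ U' hU' hle)
  have h2 : Φ.base ((𝒮'.toQCAlg.ι U' hU').base p') ∈ RelCone.pointedCone 𝒮 := hc'
  rw [h1, ι_mem_pointedCone_iff] at h2
  rw [ι_mem_pointedCone_iff]
  rw [mem_vertexCompl_iff] at h2 ⊢
  intro hcon
  apply h2
  intro x hx
  have h3 := hcon (map_mem_irrelevant (φ U₁ hU₁ U' hU' hle) hx)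
  have h4 : (φ U₁ hU₁ U' hU' hle) x = ((u.app (op U₁) :
        𝒮.presheaf.obj (op U₁) ⟶ 𝒮'.presheaf.obj (op (q ⁻¹ᵁ U₁))) ≫
          𝒮'.presheaf.map (homOfLE hle).op).hom x :=
    congrArg (fun g : 𝒮.presheaf.obj (op U₁) →+* 𝒮'.presheaf.obj (op U') => g x)
      (hφ U₁ hU₁ U' hU' hle)
  rw [h4] at h3
  exact h3

end S8299aux


namespace Groth.Agent.S8299

/-- Let q : Y' → Y be a morphism of schemes, 𝒮 and 𝒮' quasi-coherent positively graded algebras over O_Y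
and O_{Y'} with 𝒮_0 = O_Y and 𝒮'_0 = O_{Y'}, and φ : 𝒮 → q_*𝒮' a graded q-morphism (a map of sheaves
of rings compatible with the structure maps through q^♯, whose components 𝒮(U) → 𝒮'(U') for affine
opens U' ⊆ q⁻¹(U) preserve degrees, recorded as graded ring homomorphisms); let C = Spec(𝒮), C' =
Spec(𝒮') be the affine cones and Φ : C' → C the morphism Spec(φ), i.e. the morphism which on the
charts over affine opens U' ⊆ q⁻¹(U) is Spec of 𝒮(U) → 𝒮'(U'); let E ⊆ C and E' ⊆ C' be the pointed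
affine cones (defined chart by chart as the complements of V(𝒮(U)_+), resp. V(𝒮'(U')_+)). Then the
inverse image of E under Φ is contained in E'. -/
theorem result {Y Y' : Scheme.{u}} (q : Y' ⟶ Y) (𝒮 : RelProj.QCGrAlg Y) (𝒮' : RelProj.QCGrAlg Y')
    (h0 : RelCone.StrZeroBij 𝒮) (h0' : RelCone.StrZeroBij 𝒮')
    (u : 𝒮.presheaf ⟶ q.base _* 𝒮'.presheaf)
    (hu : 𝒮.str ≫ u = q.c ≫ (TopCat.Presheaf.pushforward CommRingCat.{u} q.base).map 𝒮'.str)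
    (φ : ∀ (U : Y.Opens) (hU : IsAffineOpen U) (U' : Y'.Opens) (hU' : IsAffineOpen U') (_ : U' ≤ q ⁻¹ᵁ U),
      𝒮.deg U hU →+*ᵍ 𝒮'.deg U' hU')
    (hφ : ∀ (U : Y.Opens) (hU : IsAffineOpen U) (U' : Y'.Opens) (hU' : IsAffineOpen U') (hle : U' ≤ q ⁻¹ᵁ U),
      (φ U hU U' hU' hle).toRingHom =
        ((u.app (op U) : 𝒮.presheaf.obj (op U) ⟶ 𝒮'.presheaf.obj (op (q ⁻¹ᵁ U))) ≫
          𝒮'.presheaf.map (homOfLE hle).op).hom)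
    (Φ : 𝒮'.toQCAlg.spec ⟶ 𝒮.toQCAlg.spec)
    (hΦ : ∀ (U : Y.Opens) (hU : IsAffineOpen U) (U' : Y'.Opens) (hU' : IsAffineOpen U') (hle : U' ≤ q ⁻¹ᵁ U),
      𝒮'.toQCAlg.ι U' hU' ≫ Φ =
        Spec.map ((u.app (op U) : 𝒮.presheaf.obj (op U) ⟶ 𝒮'.presheaf.obj (op (q ⁻¹ᵁ U))) ≫
          𝒮'.presheaf.map (homOfLE hle).op) ≫ 𝒮.toQCAlg.ι U hU) :
    Φ ⁻¹ᵁ RelCone.pointedCone 𝒮 ≤ RelCone.pointedCone 𝒮' := by
  exact S8299aux.main q 𝒮 𝒮' u φ hφ Φ hΦ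

end Groth.Agent.S8299
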