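import Groth.Statements.S8300
import Mathlib
import Groth.Agent.Lib.Helper8.RelCone2
import Groth.Agent.S8299

set_option autoImplicit false
universe u
open CategoryTheory CategoryTheory.Limits AlgebraicGeometry Opposite TopologicalSpace
open scoped HomogeneousIdeal
noncomputable section
open EGA2

open scoped HomogeneousIdeal

namespace S8300aux
open Groth.Agent.Lib.Helper8.RelCone2

section alg
variable {A σ : Type u} [CommRing A] [SetLike σ A] [AddSubgroupClass σ A] {𝒜 : ℕ → σ} [GradedRing 𝒜]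
variable {B τ : Type u} [CommRing B] [SetLike τ B] [AddSubgroupClass τ B] {ℬ : ℕ → τ} [GradedRing ℬ]

theorem irrelevant_le_of_domOpen_eq_top (ψ : 𝒜 →+*ᵍ ℬ) (h : RelCone.domOpen ψ = ⊤)
    (p : Ideal B) [hp : p.IsPrime] (hle : 𝒜₊.toIdeal ≤ p.comap (ψ : A →+* B)) :
    ℬ₊.toIdeal ≤ p := by
  by_contra hnot
  let P := p.homogeneousCore ℬ
  have hPprime : P.toIdeal.IsPrime := hp.homogeneousCore
  have hPle : P.toIdeal ≤ p := Ideal.toIdeal_homogeneousCore_le ℬ p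
  have hrel : ¬ ℬ₊ ≤ P := fun hc => hnot (le_trans hc hPle)
  let x : Proj ℬ := (⟨P, hPprime, hrel⟩ : ProjectiveSpectrum ℬ)
  have hx : x ∈ RelCone.domOpen ψ := by rw [h]; trivial
  obtain ⟨f, hf, hfx⟩ := (RelCone.mem_domOpen ψ x).mp hx
  apply hfx
  have hAle : 𝒜₊.toIdeal ≤ P.toIdeal.comap (ψ : A →+* B) := by
    rw [HomogeneousIdeal.toIdeal_irrelevant_le]
    intro i hi y hy
    have hy' : y ∈ 𝒜₊ := HomogeneousIdeal.mem_irrelevant_of_mem _ hi hy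
    have h1 : ψ y ∈ p := hle hy'
    exact Ideal.mem_homogeneousCore_of_homogeneous_of_mem ⟨i, ψ.map_mem hy⟩ h1
  exact hAle hf

theorem domOpen_eq_top_of_forall (ψ : 𝒜 →+*ᵍ ℬ)
    (h : ∀ (p : Ideal B) [p.IsPrime], 𝒜₊.toIdeal ≤ p.comap (ψ : A →+* B) → ℬ₊.toIdeal ≤ p) :
    RelCone.domOpen ψ = ⊤ := by
  rw [eq_top_iff]
  intro x _
  rw [RelCone.mem_domOpen]
  by_contra hcon
  push Not at hcon
  apply x.not_irrelevant_le
  exact h x.asHomogeneousIdeal.toIdeal (fun f hf => hcon f hf)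

end alg

theorem main {Y Y' : Scheme.{u}} (q : Y' ⟶ Y) (𝒮 : RelProj.QCGrAlg Y) (𝒮' : RelProj.QCGrAlg Y')
    (u : 𝒮.presheaf ⟶ q.base _* 𝒮'.presheaf)
    (φ : ∀ (U : Y.Opens) (hU : IsAffineOpen U) (U' : Y'.Opens) (hU' : IsAffineOpen U') (_ : U' ≤ q ⁻¹ᵁ U),
      𝒮.deg U hU →+*ᵍ 𝒮'.deg U' hU')
    (hφ : ∀ (U : Y.Opens) (hU : IsAffineOpen U) (U' : Y'.Opens) (hU' : IsAffineOpen U') (hle : U' ≤ q ⁻¹ᵁ U),
      (φ U hU U' hU' hle).toRingHom =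
        ((u.app (op U) : 𝒮.presheaf.obj (op U) ⟶ 𝒮'.presheaf.obj (op (q ⁻¹ᵁ U))) ≫
          𝒮'.presheaf.map (homOfLE hle).op).hom)
    (Φ : 𝒮'.toQCAlg.spec ⟶ 𝒮.toQCAlg.spec)
    (hΦ : ∀ (U : Y.Opens) (hU : IsAffineOpen U) (U' : Y'.Opens) (hU' : IsAffineOpen U') (hle : U' ≤ q ⁻¹ᵁ U),
      𝒮'.toQCAlg.ι U' hU' ≫ Φ =
        Spec.map ((u.app (op U) : 𝒮.presheaf.obj (op U) ⟶ 𝒮'.presheaf.obj (op (q ⁻¹ᵁ U))) ≫
          𝒮'.presheaf.map (homOfLE hle).op) ≫ 𝒮.toQCAlg.ι U hU) :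
    (∀ (U : Y.Opens) (hU : IsAffineOpen U) (U' : Y'.Opens) (hU' : IsAffineOpen U') (hle : U' ≤ q ⁻¹ᵁ U),
        RelCone.domOpen (φ U hU U' hU' hle) = ⊤) ↔
      Φ ⁻¹ᵁ RelCone.pointedCone 𝒮 = RelCone.pointedCone 𝒮' := by
  have hΦpt : ∀ (U : Y.Opens) (hU : IsAffineOpen U) (U' : Y'.Opens) (hU' : IsAffineOpen U')
      (hle : U' ≤ q ⁻¹ᵁ U) (p' : Spec (𝒮'.presheaf.obj (op U'))),
      Φ.base ((𝒮'.toQCAlg.ι U' hU').base p') =
      (𝒮.toQCAlg.ι U hU).base ((Spec.map ((u.app (op U) :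
        𝒮.presheaf.obj (op U) ⟶ 𝒮'.presheaf.obj (op (q ⁻¹ᵁ U))) ≫
          𝒮'.presheaf.map (homOfLE hle).op)).base p') := fun U hU U' hU' hle p' =>
    congrArg (fun f : Spec (𝒮'.presheaf.obj (op U')) ⟶ 𝒮.toQCAlg.spec => f.base p')
      (hΦ U hU U' hU' hle)
  have hφpt : ∀ (U : Y.Opens) (hU : IsAffineOpen U) (U' : Y'.Opens) (hU' : IsAffineOpen U')
      (hle : U' ≤ q ⁻¹ᵁ U) (x : 𝒮.presheaf.obj (op U)),
      (φ U hU U' hU' hle) x = ((u.app (op U) :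
        𝒮.presheaf.obj (op U) ⟶ 𝒮'.presheaf.obj (op (q ⁻¹ᵁ U))) ≫
          𝒮'.presheaf.map (homOfLE hle).op).hom x := fun U hU U' hU' hle x =>
    congrArg (fun g : 𝒮.presheaf.obj (op U) →+* 𝒮'.presheaf.obj (op U') => g x)
      (hφ U hU U' hU' hle)
  constructor
  · intro hdom
    apply le_antisymm (S8299aux.main q 𝒮 𝒮' u φ hφ Φ hΦ)
    intro c' hc'
    obtain ⟨U₁, hU₁, hy⟩ : ∃ (U₁ : Y.Opens) (_ : IsAffineOpen U₁),
        q.base (𝒮'.toQCAlg.π.base c') ∈ U₁ := by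
      obtain ⟨_, ⟨U, hU, rfl⟩, hx, -⟩ :=
        Y.isBasis_affineOpens.exists_subset_of_mem_open
          (Set.mem_univ (q.base (𝒮'.toQCAlg.π.base c'))) isOpen_univ
      exact ⟨U, hU, hx⟩
    obtain ⟨U', hU', hy', hle⟩ : ∃ (U' : Y'.Opens) (_ : IsAffineOpen U'),
        𝒮'.toQCAlg.π.base c' ∈ U' ∧ U' ≤ q ⁻¹ᵁ U₁ := by
      obtain ⟨_, ⟨U, hU, rfl⟩, hx, hsub⟩ :=
        Y'.isBasis_affineOpens.exists_subset_of_mem_open
          (show 𝒮'.toQCAlg.π.base c' ∈ ((q ⁻¹ᵁ U₁ : Y'.Opens) : Set Y') from hy) (q ⁻¹ᵁ U₁).isOpen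
      exact ⟨U, hU, hx, hsub⟩
    obtain ⟨p', rfl⟩ := (mem_range_ι_iff _ U' hU' c').mpr hy'
    rw [ι_mem_pointedCone_iff, mem_vertexCompl_iff] at hc'
    change Φ.base ((𝒮'.toQCAlg.ι U' hU').base p') ∈ RelCone.pointedCone 𝒮
    rw [hΦpt U₁ hU₁ U' hU' hle p', ι_mem_pointedCone_iff, mem_vertexCompl_iff]
    intro hA
    apply hc'
    apply irrelevant_le_of_domOpen_eq_top (φ U₁ hU₁ U' hU' hle) (hdom U₁ hU₁ U' hU' hle) p'.asIdeal
    intro x hx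
    have := hA hx
    change (φ U₁ hU₁ U' hU' hle) x ∈ p'.asIdeal
    rw [hφpt]
    exact this
  · intro heq U hU U' hU' hle
    apply domOpen_eq_top_of_forall
    intro p hp hA
    by_contra hB
    let p' : Spec (𝒮'.presheaf.obj (op U')) := (⟨p, hp⟩ : PrimeSpectrum _)
    have hp' : p' ∈ RelCone.vertexCompl (𝒮'.deg U' hU') := by
      rw [mem_vertexCompl_iff]; exact hB
    have hc' : (𝒮'.toQCAlg.ι U' hU').base p' ∈ RelCone.pointedCone 𝒮' :=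
      (ι_mem_pointedCone_iff 𝒮' U' hU' p').mpr hp'
    rw [← heq] at hc'
    change Φ.base ((𝒮'.toQCAlg.ι U' hU').base p') ∈ RelCone.pointedCone 𝒮 at hc'
    rw [hΦpt U hU U' hU' hle p', ι_mem_pointedCone_iff, mem_vertexCompl_iff] at hc'
    apply hc'
    intro x hx
    have := hA hx
    change (φ U hU U' hU' hle) x ∈ p at this
    rw [hφpt] at this
    exact this

end S8300aux


namespace Groth.Agent.S8300

/-- Let q : Y' → Y be a morphism of schemes, 𝒮 and 𝒮' quasi-coherent positively graded algebras over O_Y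
and O_{Y'} with 𝒮_0 = O_Y and 𝒮'_0 = O_{Y'}, and φ : 𝒮 → q_*𝒮' a graded q-morphism (a map of sheaves
of rings compatible with the structure maps through q^♯, whose components 𝒮(U) → 𝒮'(U') for affine
opens U' ⊆ q⁻¹(U) preserve degrees, recorded as graded ring homomorphisms); let C = Spec(𝒮), C' =
Spec(𝒮') be the affine cones and Φ : C' → C the morphism Spec(φ), i.e. the morphism which on the
charts over affine opens U' ⊆ q⁻¹(U) is Spec of 𝒮(U) → 𝒮'(U'); let E ⊆ C and E' ⊆ C' be the pointed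
affine cones (defined chart by chart as the complements of V(𝒮(U)_+), resp. V(𝒮'(U')_+)). Then
Proj(φ) is everywhere defined, which here means that for all affine opens U' ⊆ q⁻¹(U) the open of
Proj 𝒮'(U') where the morphism induced by 𝒮(U) → 𝒮'(U') is defined (the complement of V_+ of the
ideal generated by the image of the irrelevant ideal of 𝒮(U)) is the whole of Proj 𝒮'(U'), if and
only if the inverse image of E under Φ equals E'. -/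
theorem result {Y Y' : Scheme.{u}} (q : Y' ⟶ Y) (𝒮 : RelProj.QCGrAlg Y) (𝒮' : RelProj.QCGrAlg Y')
    (h0 : RelCone.StrZeroBij 𝒮) (h0' : RelCone.StrZeroBij 𝒮')
    (u : 𝒮.presheaf ⟶ q.base _* 𝒮'.presheaf)
    (hu : 𝒮.str ≫ u = q.c ≫ (TopCat.Presheaf.pushforward CommRingCat.{u} q.base).map 𝒮'.str)
    (φ : ∀ (U : Y.Opens) (hU : IsAffineOpen U) (U' : Y'.Opens) (hU' : IsAffineOpen U') (_ : U' ≤ q ⁻¹ᵁ U),
      𝒮.deg U hU →+*ᵍ 𝒮'.deg U' hU')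
    (hφ : ∀ (U : Y.Opens) (hU : IsAffineOpen U) (U' : Y'.Opens) (hU' : IsAffineOpen U') (hle : U' ≤ q ⁻¹ᵁ U),
      (φ U hU U' hU' hle).toRingHom =
        ((u.app (op U) : 𝒮.presheaf.obj (op U) ⟶ 𝒮'.presheaf.obj (op (q ⁻¹ᵁ U))) ≫
          𝒮'.presheaf.map (homOfLE hle).op).hom)
    (Φ : 𝒮'.toQCAlg.spec ⟶ 𝒮.toQCAlg.spec)
    (hΦ : ∀ (U : Y.Opens) (hU : IsAffineOpen U) (U' : Y'.Opens) (hU' : IsAffineOpen U') (hle : U' ≤ q ⁻¹ᵁ U),
      𝒮'.toQCAlg.ι U' hU' ≫ Φ =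
        Spec.map ((u.app (op U) : 𝒮.presheaf.obj (op U) ⟶ 𝒮'.presheaf.obj (op (q ⁻¹ᵁ U))) ≫
          𝒮'.presheaf.map (homOfLE hle).op) ≫ 𝒮.toQCAlg.ι U hU) :
    (∀ (U : Y.Opens) (hU : IsAffineOpen U) (U' : Y'.Opens) (hU' : IsAffineOpen U') (hle : U' ≤ q ⁻¹ᵁ U),
        RelCone.domOpen (φ U hU U' hU' hle) = ⊤) ↔
      Φ ⁻¹ᵁ RelCone.pointedCone 𝒮 = RelCone.pointedCone 𝒮' := by
  exact S8300aux.main q 𝒮 𝒮' u φ hφ Φ hΦ

end Groth.Agent.S8300
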