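import Groth.Statements.S8304
import Groth.Agent.Lib.Helper3.OfAff
import Groth.Agent.Lib.Helper3.ModHomAff
import Groth.Agent.Lib.Helper3.SymQCAlg2
import Groth.Agent.Lib.Helper3.QCAlgSub

set_option autoImplicit false
universe u
open CategoryTheory CategoryTheory.Limits AlgebraicGeometry Opposite TopologicalSpace
open scoped HomogeneousIdeal
noncomputable section
open EGA2

namespace Groth.Agent.S8304

section Aux
open RelSpec Groth.Agent.Lib.Helper3 Groth.Agent.Lib.Helper29.QCoh
open AlgebraicGeometry.Scheme.AffineZariskiSite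

variable {Y : Scheme.{u}} {𝒮 𝒮h : RelProj.QCGrAlg Y} {ι : 𝒮.toQCAlg ⟶ 𝒮h.toQCAlg}
  {z : 𝒮h.presheaf.obj (op ⊤)} (hz : RelCone.IsPolyOver 𝒮 𝒮h ι z) (B : QCAlg Y)
  (ψ₁ : 𝒮.toQCAlg ⟶ B) (b : B.presheaf.obj (op ⊤))

/-- The global section `b` restricted to `U`. -/
noncomputable def bRes (U : Y.Opens) : B.presheaf.obj (op U) :=
  (B.presheaf.map (homOfLE le_top).op).hom b

theorem bRes_res {U V : Y.Opens} (i : V ≤ U) :
    (B.presheaf.map (homOfLE i).op).hom (bRes B b U) = bRes B b V := by
  unfold bRes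
  rw [← CommRingCat.comp_apply, ← B.presheaf.map_comp]
  rfl

theorem z_res {U V : Y.Opens} (i : V ≤ U) :
    (𝒮h.presheaf.map (homOfLE i).op).hom (RelCone.restrictTop 𝒮h z U) =
      RelCone.restrictTop 𝒮h z V := by
  unfold RelCone.restrictTop
  rw [← CommRingCat.comp_apply, ← 𝒮h.presheaf.map_comp]
  rfl

/-- The descent map over an affine open: `ι x ↦ ψ₁ x`, `z ↦ b`. -/
noncomputable def descApp (U : Y.Opens) (hU : IsAffineOpen U) :
    𝒮h.presheaf.obj (op U) ⟶ B.presheaf.obj (op U) :=
  CommRingCat.ofHom ((Polynomial.eval₂RingHom (ψ₁.hom.app (op U)).hom (bRes B b U)).comp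
    (hz.polyEquiv U hU).symm.toRingHom)

theorem descApp_ι (U : Y.Opens) (hU : IsAffineOpen U) (x : 𝒮.presheaf.obj (op U)) :
    (descApp hz B ψ₁ b U hU).hom ((ι.hom.app (op U)).hom x) = (ψ₁.hom.app (op U)).hom x := by
  have e : hz.polyEquiv U hU (Polynomial.C x) = (ι.hom.app (op U)).hom x := by
    rw [RelCone.IsPolyOver.polyEquiv_apply, Polynomial.eval₂_C]
  rw [← e]
  simp [descApp]

theorem descApp_z (U : Y.Opens) (hU : IsAffineOpen U) :
    (descApp hz B ψ₁ b U hU).hom (RelCone.restrictTop 𝒮h z U) = bRes B b U := by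
  have e : hz.polyEquiv U hU Polynomial.X = RelCone.restrictTop 𝒮h z U := by
    rw [RelCone.IsPolyOver.polyEquiv_apply, Polynomial.eval₂_X]
  rw [← e]
  simp [descApp]

include hz in
theorem ringHom_ext_poly (U : Y.Opens) (hU : IsAffineOpen U) {R : Type u} [CommRing R]
    (f g : 𝒮h.presheaf.obj (op U) →+* R)
    (h1 : ∀ x : 𝒮.presheaf.obj (op U), f ((ι.hom.app (op U)).hom x) = g ((ι.hom.app (op U)).hom x))
    (h2 : f (RelCone.restrictTop 𝒮h z U) = g (RelCone.restrictTop 𝒮h z U)) : f = g := by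
  have h : f.comp (hz.polyEquiv U hU).toRingHom = g.comp (hz.polyEquiv U hU).toRingHom := by
    refine Polynomial.ringHom_ext (fun a => ?_) ?_
    · simp only [RingHom.comp_apply, RingEquiv.toRingHom_eq_coe, RingEquiv.coe_toRingHom,
        RelCone.IsPolyOver.polyEquiv_apply, Polynomial.eval₂_C]
      exact h1 a
    · simp only [RingHom.comp_apply, RingEquiv.toRingHom_eq_coe, RingEquiv.coe_toRingHom,
        RelCone.IsPolyOver.polyEquiv_apply, Polynomial.eval₂_X]
      exact h2
  ext y
  obtain ⟨p, rfl⟩ := (hz.polyEquiv U hU).surjective y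
  exact congrArg (fun k => k p) h

theorem descApp_naturality {U V : Y.Opens} (hU : IsAffineOpen U) (hV : IsAffineOpen V)
    (i : V ≤ U) :
    𝒮h.presheaf.map (homOfLE i).op ≫ descApp hz B ψ₁ b V hV =
      descApp hz B ψ₁ b U hU ≫ B.presheaf.map (homOfLE i).op := by
  ext1
  refine ringHom_ext_poly hz U hU _ _ (fun x => ?_) ?_
  · rw [CommRingCat.hom_comp, CommRingCat.hom_comp, RingHom.comp_apply, RingHom.comp_apply,
      descApp_ι]
    have h1 : (𝒮h.presheaf.map (homOfLE i).op).hom ((ι.hom.app (op U)).hom x) =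
        (ι.hom.app (op V)).hom ((𝒮.presheaf.map (homOfLE i).op).hom x) :=
      (congrArg (fun k => k.hom x) (ι.hom.naturality (homOfLE i).op)).symm
    rw [h1, descApp_ι]
    exact congrArg (fun k => k.hom x) (ψ₁.hom.naturality (homOfLE i).op)
  · rw [CommRingCat.hom_comp, CommRingCat.hom_comp, RingHom.comp_apply, RingHom.comp_apply,
      descApp_z, z_res, descApp_z, bRes_res]

/-- The descent maps as a natural transformation on the affine site. -/
noncomputable def descNat :
    (toOpensFunctor Y).op ⋙ 𝒮h.presheaf ⟶ (toOpensFunctor Y).op ⋙ B.presheaf where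
  app W := descApp hz B ψ₁ b W.unop.1 W.unop.2
  naturality W W' i := descApp_naturality hz B ψ₁ b W.unop.2 W'.unop.2 (toOpens_mono i.unop.le)

/-- The descent homomorphism `𝒮[z] ⟶ B`. -/
noncomputable def desc : 𝒮h.toQCAlg ⟶ B where
  hom := OfAff.extend (descNat hz B ψ₁ b)
  comm := by
    refine OfAff.presheafHom_ext_aff fun U hU => ?_
    rw [NatTrans.comp_app]
    have h1 : (OfAff.extend (descNat hz B ψ₁ b)).app (op U) = descApp hz B ψ₁ b U hU :=
      OfAff.extend_app (descNat hz B ψ₁ b) (op (OfAff.aff U hU))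
    rw [h1]
    have h2 : 𝒮h.str.app (op U) = 𝒮.str.app (op U) ≫ ι.hom.app (op U) :=
      (congrArg (fun k => k.app (op U)) ι.comm).symm
    ext r
    rw [h2, CommRingCat.hom_comp, CommRingCat.hom_comp, RingHom.comp_apply, RingHom.comp_apply,
      descApp_ι]
    exact congrArg (fun k => (k.app (op U)).hom r) ψ₁.comm

theorem desc_app (U : Y.Opens) (hU : IsAffineOpen U) :
    (desc hz B ψ₁ b).hom.app (op U) = descApp hz B ψ₁ b U hU :=
  OfAff.extend_app (descNat hz B ψ₁ b) (op (OfAff.aff U hU))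

theorem ι_desc : ι ≫ desc hz B ψ₁ b = ψ₁ := by
  refine OfAff.hom_ext_aff fun U hU => ?_
  change ι.hom.app (op U) ≫ (desc hz B ψ₁ b).hom.app (op U) = _
  rw [desc_app hz B ψ₁ b U hU]
  ext x
  rw [CommRingCat.hom_comp, RingHom.comp_apply, descApp_ι]


/-- A function as a section of the structure module. -/
def uSec (U : Y.Opens) (r : Γ(Y, U)) : Γ(Coh.structureModule Y, U) := r

theorem uSec_smul (U : Y.Opens) (r s : Γ(Y, U)) : r • uSec U s = uSec U (r * s) := rfl

theorem uSec_res {U V : Y.Opens} (i : V ≤ U) (r : Γ(Y, U)) :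
    res (Coh.structureModule Y) i (uSec U r) = uSec V ((Y.presheaf.map (homOfLE i).op).hom r) := rfl

/-- A morphism out of the structure module is determined by the image of `1`. -/
theorem unit_app_eq {N : Y.Modules} (φ : Coh.structureModule Y ⟶ N) (U : Y.Opens) (r : Γ(Y, U)) :
    φ.app U (uSec U r) = r • φ.app U (uSec U 1) := by
  have h := φ.app_smul r (uSec U 1)
  rw [← h, uSec_smul, mul_one]

theorem unit_app_one_res {N : Y.Modules} (φ : Coh.structureModule Y ⟶ N) {U V : Y.Opens}
    (i : V ≤ U) : φ.app V (uSec V 1) = res N i (φ.app U (uSec U 1)) := by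
  rw [← app_res φ i, uSec_res, map_one]

end Aux

open RelSpec Groth.Agent.Lib.Helper3 Groth.Agent.Lib.Helper29.QCoh Groth.Agent.Lib.Helper3.SymQC


/-- At the level of graded algebras: let E be a quasi-coherent O_Y-module and 𝒮 = Sym(E) its graded
symmetric algebra (j : E → 𝒮 landing in degree one), and let Ŝ = 𝒮[z] be given through a graded
homomorphism ι : 𝒮 → Ŝ and a global section z of degree one with 𝒮(U)[X] → Ŝ(U), X ↦ z, bijective
over every affine open U. If k : O_Y → Ŝ is a module homomorphism sending the unit section to z over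
every open, then Ŝ together with the map E ⊕ O_Y → Ŝ whose components are j followed by ι, and k, is
the graded symmetric algebra of E ⊕ O_Y. Consequently the projective cone of V(E) = Spec(Sym E),
which is Proj(Ŝ), is the projective bundle P(E ⊕ O_Y), and its locus at infinity Proj(𝒮) is P(E). -/
theorem result {Y : Scheme.{u}} (E : Y.Modules) (hE : Coh.IsQCoh E)
    (𝒮 𝒮h : RelProj.QCGrAlg Y) (j : E ⟶ 𝒮.toModule) (hS : RelProj.IsGrSymAlg E 𝒮 j)
    (ι : 𝒮.toQCAlg ⟶ 𝒮h.toQCAlg) (z : 𝒮h.presheaf.obj (op ⊤)) (hz : RelCone.IsPolyOver 𝒮 𝒮h ι z)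
    (k : Coh.structureModule Y ⟶ 𝒮h.toModule)
    (hk : ∀ U : Y.Opens, (k.app U) (1 : Γ(Y, U)) = RelCone.restrictTop 𝒮h z U) :
    RelProj.IsGrSymAlg (E ⊞ Coh.structureModule Y) 𝒮h
      (biprod.desc (j ≫ RelSpec.QCAlg.Hom.toModuleMap ι) k) := by
  have hk' : ∀ U : Y.Opens, (show 𝒮h.presheaf.obj (op U) from k.app U (uSec U 1)) =
      RelCone.restrictTop 𝒮h z U := hk
  refine ⟨?_, ?_⟩
  · intro B φ
    let φ₁ : E ⟶ B.toModule := biprod.inl ≫ φ
    let φ₂ : Coh.structureModule Y ⟶ B.toModule := biprod.inr ≫ φ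
    obtain ⟨ψ₁, hψ₁, hψ₁u⟩ := hS.1 B φ₁
    let b : B.presheaf.obj (op ⊤) := φ₂.app ⊤ (uSec ⊤ 1)
    have hb : ∀ U : Y.Opens, (show B.presheaf.obj (op U) from φ₂.app U (uSec U 1)) =
        bRes B b U := fun U => unit_app_one_res φ₂ le_top
    refine ⟨desc hz B ψ₁ b, ?_, ?_⟩
    · -- compatibility
      refine biprod.hom_ext' _ _ ?_ ?_
      · rw [← Category.assoc, biprod.inl_desc, Category.assoc, ← toModuleMap_comp, ι_desc]
        exact hψ₁
      · rw [← Category.assoc, biprod.inr_desc]
        refine modulesHom_ext_aff fun U hU r => ?_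
        have e1 : (k ≫ QCAlg.Hom.toModuleMap (desc hz B ψ₁ b)).app U (uSec U r) =
            (show Γ(Y, U) from r) •
              (k ≫ QCAlg.Hom.toModuleMap (desc hz B ψ₁ b)).app U (uSec U 1) :=
          unit_app_eq _ U r
        have e2 : φ₂.app U (uSec U r) = (show Γ(Y, U) from r) • φ₂.app U (uSec U 1) :=
          unit_app_eq _ U r
        refine e1.trans (Eq.trans ?_ e2.symm)
        congr 1
        change (show B.presheaf.obj (op U) from _) = (show B.presheaf.obj (op U) from _)
        rw [hb U]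
        have e3 : (show B.presheaf.obj (op U) from
            (k ≫ QCAlg.Hom.toModuleMap (desc hz B ψ₁ b)).app U (uSec U 1)) =
            ((desc hz B ψ₁ b).hom.app (op U)).hom
              (show 𝒮h.presheaf.obj (op U) from k.app U (uSec U 1)) := rfl
        rw [e3, hk' U, desc_app hz B ψ₁ b U hU, descApp_z]
    · intro ψ' hψ'
      have h1 : ι ≫ ψ' = ψ₁ := by
        apply hψ₁u
        have := congrArg (fun t => biprod.inl ≫ t) hψ'
        rw [← Category.assoc, biprod.inl_desc, Category.assoc, ← toModuleMap_comp] at this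
        exact this
      have h2 : k ≫ QCAlg.Hom.toModuleMap ψ' = φ₂ := by
        have := congrArg (fun t => biprod.inr ≫ t) hψ'
        rw [← Category.assoc, biprod.inr_desc] at this
        exact this
      refine OfAff.hom_ext_aff fun U hU => ?_
      rw [desc_app hz B ψ₁ b U hU]
      ext1
      refine ringHom_ext_poly hz U hU _ _ (fun x => ?_) ?_
      · rw [descApp_ι, ← h1]
        rfl
      · rw [descApp_z, ← hb U, ← h2]
        have e3 : (show B.presheaf.obj (op U) from
            (k ≫ QCAlg.Hom.toModuleMap ψ').app U (uSec U 1)) =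
            (ψ'.hom.app (op U)).hom
              (show 𝒮h.presheaf.obj (op U) from k.app U (uSec U 1)) := rfl
        rw [e3, hk' U]
  · intro U hU x
    let D : E ⊞ Coh.structureModule Y ⟶ 𝒮h.toModule :=
      biprod.desc (j ≫ RelSpec.QCAlg.Hom.toModuleMap ι) k
    have htot : x = (biprod.inl : E ⟶ E ⊞ Coh.structureModule Y).app U
          ((biprod.fst : E ⊞ Coh.structureModule Y ⟶ E).app U x) +
        (biprod.inr : Coh.structureModule Y ⟶ E ⊞ Coh.structureModule Y).app U
          ((biprod.snd : E ⊞ Coh.structureModule Y ⟶ Coh.structureModule Y).app U x) :=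
      (congrArg (fun t : E ⊞ Coh.structureModule Y ⟶ E ⊞ Coh.structureModule Y => t.app U x)
        (biprod.total (X := E) (Y := Coh.structureModule Y))).symm
    have h1 : ∀ e : Γ(E, U), D.app U ((biprod.inl : E ⟶ E ⊞ Coh.structureModule Y).app U e) =
        (j ≫ RelSpec.QCAlg.Hom.toModuleMap ι).app U e := fun e =>
      congrArg (fun t : E ⟶ 𝒮h.toModule => t.app U e)
        (biprod.inl_desc (j ≫ RelSpec.QCAlg.Hom.toModuleMap ι) k)
    have h2 : ∀ r : Γ(Coh.structureModule Y, U),
        D.app U ((biprod.inr : Coh.structureModule Y ⟶ E ⊞ Coh.structureModule Y).app U r) =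
        k.app U r := fun r =>
      congrArg (fun t : Coh.structureModule Y ⟶ 𝒮h.toModule => t.app U r)
        (biprod.inr_desc (j ≫ RelSpec.QCAlg.Hom.toModuleMap ι) k)
    change (show 𝒮h.presheaf.obj (op U) from D.app U x) ∈ 𝒮h.deg U hU 1
    rw [htot, map_add, h1, h2]
    refine AddSubgroup.add_mem _ ?_ ?_
    · exact hz.graded U hU 1 _ (hS.2 U hU _)
    · set r := (biprod.snd : E ⊞ Coh.structureModule Y ⟶ Coh.structureModule Y).app U x with hr
      have e1 : k.app U r = (show Γ(Y, U) from r) • k.app U (uSec U 1) := unit_app_eq k U r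
      rw [e1, smul_toModule, hk' U]
      have := SetLike.mul_mem_graded (𝒮h.str_mem U hU (show Γ(Y, U) from r)) (hz.deg_z U hU)
      rw [zero_add] at this
      exact this

end Groth.Agent.S8304
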