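import Groth.Statements.S8305
import Groth.Agent.Lib.Helper3.StalkBij
import Groth.Agent.S3570

set_option autoImplicit false
universe u
open CategoryTheory CategoryTheory.Limits AlgebraicGeometry Opposite TopologicalSpace
noncomputable section
open EGA2

namespace Groth.Agent.S8305



/-- Let X and Y be schemes affine over S with structure morphisms gX and gY, h : Y → X a morphism over
S, F a quasi-coherent O_X-module, G a quasi-coherent O_Y-module and v : F → h_*G a homomorphism of
O_X-modules, so that (h, v) is a morphism of pairs (Y, G) → (X, F). Then h and v are isomorphisms if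
and only if the direct-image algebra homomorphism A(h) : gX_*O_X → gY_*O_Y and the direct image A(v)
= gX_*(v) : gX_*F → gX_*h_*G are isomorphisms (the pair (A(h), A(v)) is a di-isomorphism). -/
theorem result {X Y S : Scheme.{u}} (gX : X ⟶ S) [IsAffineHom gX]
    (gY : Y ⟶ S) [IsAffineHom gY] (h : Y ⟶ X) (hh : h ≫ gX = gY)
    (F : X.Modules) (G : Y.Modules) (hF : Coh.IsQCoh F) (hG : Coh.IsQCoh G)
    (v : F ⟶ (Scheme.Modules.pushforward h).obj G) :
    (IsIso h ∧ IsIso v) ↔
      (IsIso (AffAlg.algHom gX gY h hh) ∧ IsIso ((Scheme.Modules.pushforward gX).map v)) := by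
  have : F.IsQuasicoherent := hF
  have : G.IsQuasicoherent := hG
  constructor
  · rintro ⟨h1, h2⟩
    exact ⟨(Groth.Agent.S3570.result gX gY h hh).mp h1, inferInstance⟩
  · rintro ⟨h1, h2⟩
    have hiso : IsIso h := (Groth.Agent.S3570.result gX gY h hh).mpr h1
    refine ⟨hiso, ?_⟩
    have : ((Scheme.Modules.pushforward h).obj G).IsQuasicoherent :=
      Groth.Agent.Lib.Helper29.QCoh.isQuasicoherent_pushforward_of_qcqs h G
    rw [Groth.Agent.Lib.Helper29.QCoh.isIso_iff_stalkMap_bijective]
    intro x
    obtain ⟨_, ⟨U, hU, rfl⟩, hxU, -⟩ := S.isBasis_affineOpens.exists_subset_of_mem_open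
      (Set.mem_univ (gX x)) isOpen_univ
    have hW : IsAffineOpen (gX ⁻¹ᵁ U) := hU.preimage gX
    have h3 : IsIso (((Scheme.Modules.pushforward gX).map v).app U) := inferInstance
    have h4 : Function.Bijective (v.app (gX ⁻¹ᵁ U)) :=
      (ConcreteCategory.isIso_iff_bijective _).mp h3
    exact Groth.Agent.Lib.Helper3.stalkMap_bijective_of_app_bijective v hW h4 x hxU

end Groth.Agent.S8305
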