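import Groth.Statements.S8306
import Mathlib
import Groth.Agent.Lib.Helper29.QCohAffine

set_option autoImplicit false
universe u
open CategoryTheory CategoryTheory.Limits AlgebraicGeometry Opposite TopologicalSpace
noncomputable section
open EGA2


namespace S8306aux
open Groth.Agent.Lib.Helper29.QCoh

theorem main {X S : Scheme.{u}} (f : X ⟶ S) [IsAffineHom f]
    (F G : X.Modules) (hF : Coh.IsQCoh F) (hG : Coh.IsQCoh G) (v : F ⟶ G) [Epi v] :
    Epi ((AMod.dirImg f).map v) := by
  have : F.IsQuasicoherent := hF
  have : G.IsQuasicoherent := hG
  let R' := AMod.ringSheaf (RelSpec.QCAlg.directImage f)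
  have : (SheafOfModules.toSheaf.{u} R').ReflectsEpimorphisms :=
    Functor.reflectsEpimorphisms_of_faithful _
  apply (SheafOfModules.toSheaf.{u} R').epi_of_epi_map
  -- show local surjectivity
  have hls : Presheaf.IsLocallySurjective (Opens.grothendieckTopology S)
      ((SheafOfModules.toSheaf.{u} R').map ((AMod.dirImg f).map v)).hom := by
    change TopCat.Presheaf.IsLocallySurjective _
    rw [TopCat.Presheaf.isLocallySurjective_iff]
    intro U t x hx
    obtain ⟨_, ⟨V, hV, rfl⟩, hxV, hVU⟩ :=
      S.isBasis_affineOpens.exists_subset_of_mem_open hx U.isOpen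
    have hV' : IsAffineOpen (f ⁻¹ᵁ V) := hV.preimage f
    refine ⟨V, hVU, ?_, hxV⟩
    obtain ⟨s, hs⟩ := app_surjective_of_epi v hV' (G.val.map (homOfLE (f.preimage_mono hVU)).op t)
    exact ⟨s, hs⟩
  exact (TopCat.Sheaf.isLocallySurjective_iff_epi _).mp hls

end S8306aux

namespace Groth.Agent.S8306

/-- Exactness: in the form it takes for the direct image: let f : X → S be an affine morphism and v : F
→ G an epimorphism between quasi-coherent O_X-modules. Then the direct image f_*(v) : f_*F → f_*G, a
homomorphism of modules over the direct-image algebra f_*O_X, is again an epimorphism. (The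
published statement says that the module on X attached to a quasi-coherent f_*O_X-module is an exact
functor of that module; since this functor is inverse to the direct image on quasi-coherent modules
and the direct image is left exact, its exactness amounts to the direct image preserving
epimorphisms between quasi-coherent modules.) -/
theorem result {X S : Scheme.{u}} (f : X ⟶ S) [IsAffineHom f]
    (F G : X.Modules) (hF : Coh.IsQCoh F) (hG : Coh.IsQCoh G) (v : F ⟶ G) [Epi v] :
    Epi ((AMod.dirImg f).map v) := by
  exact S8306aux.main f F G hF hG v

end Groth.Agent.S8306
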