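import Groth.Statements.S8312
import Groth.Agent.Lib.Helper8.Natural

set_option autoImplicit false
universe u
open scoped HomogeneousIdeal
open EGA2

namespace Groth.Agent.S8312

open Groth.Agent.Lib.Helper8.Natural

/-- Let S be a positively graded ring (an ℕ-graded R-algebra) and S♮ the graded ring with S♮_n = S_[n] =
⊕_{m ≥ n} S_m, presented as a graded ring S' with an injective algebra homomorphism φ : S' → S[X]
carrying S'_n onto S_[n]·X^n; for a homogeneous f ∈ S_d write f♮ for the element of S' with φ(f♮) =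
f·X^d (f placed in degree d of S♮). If (f_α) is a family of homogeneous elements of S of positive
degrees such that every element of the irrelevant ideal S_+ has a positive power in the ideal
generated by the f_α (that is, S_+ is the radical in S_+ of that ideal), then every element of the
irrelevant ideal S'_+ has a positive power in the ideal of S' generated by the f_α♮. -/
theorem result {R A B : Type u} [CommRing R] [CommRing A] [Algebra R A]
    (𝒜 : ℕ → Submodule R A) [GradedAlgebra 𝒜] [CommRing B] [Algebra R B] (ℬ : ℕ → Submodule R B) [GradedAlgebra ℬ]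
    (φ : B →ₐ[R] Polynomial A) (hφ : Function.Injective φ)
    (hdeg : ∀ n : ℕ, Submodule.map φ.toLinearMap (ℬ n) =
      Submodule.map ((Polynomial.monomial n : A →ₗ[A] Polynomial A).restrictScalars R) (⨆ (m : ℕ) (_ : n ≤ m), 𝒜 m))
    {ι : Type u} (d : ι → ℕ) (hd : ∀ a, 0 < d a) (f : ι → A) (hf : ∀ a, f a ∈ 𝒜 (d a))
    (hrad : ∀ g ∈ (HomogeneousIdeal.irrelevant 𝒜).toIdeal, ∃ n : ℕ, 0 < n ∧ g ^ n ∈ Ideal.span (Set.range f))
    (fn : ι → B) (hfn : ∀ a, φ (fn a) = Polynomial.monomial (d a) (f a)) :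
    ∀ g ∈ (HomogeneousIdeal.irrelevant ℬ).toIdeal, ∃ n : ℕ, 0 < n ∧ g ^ n ∈ Ideal.span (Set.range fn) := by
  set J : Ideal B := Ideal.span (Set.range fn) with hJ
  set ψ : A →+* B := psi 𝒜 ℬ φ hφ hdeg with hψ
  -- `ψ (f a) = fn a`
  have hψf : ∀ a, ψ (f a) = fn a := fun a => hφ (by
    rw [hψ, phi_psi_of_mem 𝒜 ℬ φ hφ hdeg (hf a), hfn])
  -- `ψ` maps `A₊` into the radical of `J`
  have hψrad : ∀ a ∈ (HomogeneousIdeal.irrelevant 𝒜).toIdeal, ψ a ∈ J.radical := by
    intro a ha
    obtain ⟨N, _, hN⟩ := hrad a ha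
    refine ⟨N, ?_⟩
    rw [← map_pow]
    have : Ideal.map ψ (Ideal.span (Set.range f)) ≤ J := by
      rw [Ideal.map_span, Ideal.span_le]
      rintro _ ⟨_, ⟨a, rfl⟩, rfl⟩
      rw [hψf]
      exact Ideal.subset_span ⟨a, rfl⟩
    exact this (Ideal.mem_map_of_mem ψ hN)
  -- every homogeneous element of positive degree lies in the radical of `J`
  have hhom : ∀ n : ℕ, 0 < n → ∀ b ∈ ℬ n, b ∈ J.radical := by
    intro n hn b hb
    obtain ⟨a, ha, hba⟩ := exists_of_mem_B 𝒜 ℬ φ hdeg hb
    have key : ∃ b', φ b' = Polynomial.monomial n a ∧ b' ∈ J.radical := by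
      refine ge_induction 𝒜 (P := fun a => ∃ b', φ b' = Polynomial.monomial n a ∧ b' ∈ J.radical)
        ?_ ?_ ?_ ha
      · intro m hm x hx
        obtain ⟨b', _, hb'⟩ := exists_of_mem_ge 𝒜 ℬ φ hdeg (le_ge 𝒜 hm hx)
        refine ⟨b', hb', ?_⟩
        obtain ⟨c, _, hc⟩ := exists_of_mem_ge 𝒜 ℬ φ hdeg (n := 0) (a := x ^ (m - n))
          (by rw [ge_zero]; exact Submodule.mem_top)
        have hpow : b' ^ m = c * ψ x ^ n := hφ (by
          rw [map_pow, map_mul, map_pow, hb', hc, hψ, phi_psi_of_mem 𝒜 ℬ φ hφ hdeg hx,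
            Polynomial.monomial_pow, Polynomial.monomial_pow, Polynomial.monomial_mul_monomial,
            ← pow_add, Nat.sub_add_cancel hm, Nat.zero_add, Nat.mul_comm])
        have hx' : ψ x ∈ J.radical :=
          hψrad x (HomogeneousIdeal.mem_irrelevant_of_mem 𝒜 (by omega) hx)
        have : b' ^ m ∈ J.radical := by
          rw [hpow]
          exact Ideal.mul_mem_left _ _ (Ideal.pow_mem_of_mem _ hx' n hn)
        have h2 : b' ∈ J.radical.radical := ⟨m, this⟩
        rwa [Ideal.radical_idem] at h2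
      · exact ⟨0, by simp, zero_mem _⟩
      · rintro x y ⟨bx, hbx, hbx'⟩ ⟨by', hby, hby'⟩
        exact ⟨bx + by', by rw [map_add, map_add, hbx, hby], add_mem hbx' hby'⟩
    obtain ⟨b', hb', hb'J⟩ := key
    have : b = b' := hφ (by rw [hba, hb'])
    rw [this]; exact hb'J
  have hle : (HomogeneousIdeal.irrelevant ℬ).toIdeal ≤ J.radical := by
    rw [HomogeneousIdeal.toIdeal_irrelevant_le]
    intro n hn b hb
    exact hhom n hn b hb
  intro g hg
  obtain ⟨k, hk⟩ := hle hg
  rcases Nat.eq_zero_or_pos k with rfl | hk0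
  · refine ⟨1, one_pos, ?_⟩
    rw [pow_zero] at hk
    rw [(Ideal.eq_top_iff_one J).mpr hk]
    exact Submodule.mem_top
  · exact ⟨k, hk0, hk⟩

end Groth.Agent.S8312
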