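import Groth.Statements.S8322
import Groth.Agent.Lib.Helper3.TildeQC
import Groth.Agent.Lib.Helper3.ChartQC
import Groth.Agent.Lib.Helper3.RelTildeK

set_option autoImplicit false
universe u
open CategoryTheory CategoryTheory.Limits AlgebraicGeometry Opposite TopologicalSpace
open scoped HomogeneousIdeal
noncomputable section
open EGA2

namespace Groth.Agent.S8322
open Groth.Agent.Lib.Helper3

/-- Quasi-coherence: for a general quasi-coherent graded 𝒮-module ℳ: the module (ℳ(n))~ on P = Proj(𝒮),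
given through its chartwise identifications with the modules (ℳ(U)(n))~ on the Proj 𝒮(U), is a
quasi-coherent O_P-module. -/
theorem result {Y P : Scheme.{u}} (𝒮 : RelProj.QCGrAlg Y) (p : P ⟶ Y)
    (chart : ∀ (U : Y.Opens) (hU : IsAffineOpen U), (((p ⁻¹ᵁ U : P.Opens) : Scheme.{u}) ≅ Proj (𝒮.deg U hU)))
    (hP : RelProj.IsRelProj 𝒮 p chart) (ℳ : RelProj.GrModule 𝒮)
    (hℳ : Coh.IsQCoh ((AMod.toOS 𝒮.toQCAlg).obj ℳ.mod)) (n : ℤ) (F : P.Modules)
    (lam : ∀ (U : Y.Opens) (hU : IsAffineOpen U),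
      F ⟶ (Scheme.Modules.pushforward (RelProj.emb p chart U hU)).obj (GrMod.tilde (𝒮.deg U hU) (ℳ.deg U hU) n))
    (hF : RelProj.IsRelTilde 𝒮 p chart ℳ n F lam) : Coh.IsQCoh F := by
  apply ChartQC.isQuasicoherent_of_charts
  intro x
  obtain ⟨U, hU, hx, -⟩ := exists_isAffineOpen_mem_and_subset (x := p.base x) (U := ⊤) trivial
  have hr : Set.range (RelProj.emb p chart U hU).base = ((p ⁻¹ᵁ U : P.Opens) : Set P) :=
    RelTilde.range_e p chart ⟨U, hU⟩
  refine ⟨Proj (𝒮.deg U hU), RelProj.emb p chart U hU, inferInstance,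
    GrMod.tilde (𝒮.deg U hU) (ℳ.deg U hU) n, lam U hU, ?_, ?_, ?_⟩
  · rw [hr]; exact hx
  · exact TildeQC.tilde_isQuasicoherent _ _ n
  · intro W hW
    refine hF.bijective U hU W (fun w hw => ?_)
    have : w ∈ Set.range (RelProj.emb p chart U hU).base := hW hw
    rw [hr] at this
    exact this

end Groth.Agent.S8322
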