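import Groth.Statements.S8323
import Groth.Agent.Lib.Helper3.RelTildeU

set_option autoImplicit false
universe u
open CategoryTheory CategoryTheory.Limits AlgebraicGeometry Opposite TopologicalSpace
open scoped HomogeneousIdeal
noncomputable section
open EGA2

namespace Groth.Agent.S8323
open Groth.Agent.Lib.Helper3

/-- Two O_P-modules on P = Proj(𝒮), each identified chartwise with the modules (ℳ(U)(n))~ on the Proj
𝒮(U) (bijectively on sections, compatibly along restrictions to basic opens), are related by exactly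
one O_P-module map commuting with the identifications, and that map is an isomorphism. -/
theorem result {Y P : Scheme.{u}} (𝒮 : RelProj.QCGrAlg Y) (p : P ⟶ Y)
    (chart : ∀ (U : Y.Opens) (hU : IsAffineOpen U), (((p ⁻¹ᵁ U : P.Opens) : Scheme.{u}) ≅ Proj (𝒮.deg U hU)))
    (hP : RelProj.IsRelProj 𝒮 p chart) (ℳ : RelProj.GrModule 𝒮)
    (hℳ : Coh.IsQCoh ((AMod.toOS 𝒮.toQCAlg).obj ℳ.mod)) (n : ℤ) (F : P.Modules)
    (lam : ∀ (U : Y.Opens) (hU : IsAffineOpen U),
      F ⟶ (Scheme.Modules.pushforward (RelProj.emb p chart U hU)).obj (GrMod.tilde (𝒮.deg U hU) (ℳ.deg U hU) n))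
    (hF : RelProj.IsRelTilde 𝒮 p chart ℳ n F lam) (F' : P.Modules)
    (lam' : ∀ (U : Y.Opens) (hU : IsAffineOpen U),
      F' ⟶ (Scheme.Modules.pushforward (RelProj.emb p chart U hU)).obj (GrMod.tilde (𝒮.deg U hU) (ℳ.deg U hU) n))
    (hF' : RelProj.IsRelTilde 𝒮 p chart ℳ n F' lam') :
    (∃! φ : F ⟶ F', ∀ (U : Y.Opens) (hU : IsAffineOpen U), φ ≫ lam' U hU = lam U hU) ∧
      ∀ φ : F ⟶ F', (∀ (U : Y.Opens) (hU : IsAffineOpen U), φ ≫ lam' U hU = lam U hU) → IsIso φ := by
  have hi : IsIso (RelTilde.lift p chart hP ℳ n hF') := RelTilde.isIso_lift p chart hP ℳ n hℳ hF'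
  have key : ∀ φ : F ⟶ F', (∀ (U : Y.Opens) (hU : IsAffineOpen U), φ ≫ lam' U hU = lam U hU) →
      φ ≫ RelTilde.lift p chart hP ℳ n hF' = RelTilde.lift p chart hP ℳ n hF := by
    intro φ hφ
    apply RelTilde.hom_ext_lam
    intro U hU
    rw [Category.assoc, RelTilde.lift_lam p chart hP ℳ n hF' U hU, RelTilde.lift_lam p chart hP ℳ n hF U hU]
    exact hφ U hU
  refine ⟨⟨RelTilde.lift p chart hP ℳ n hF ≫ inv (RelTilde.lift p chart hP ℳ n hF'), ?_, ?_⟩, ?_⟩
  · intro U hU
    rw [← RelTilde.lift_lam p chart hP ℳ n hF' U hU, Category.assoc, IsIso.inv_hom_id_assoc]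
    exact RelTilde.lift_lam p chart hP ℳ n hF U hU
  · intro φ hφ
    rw [← key φ hφ, Category.assoc, IsIso.hom_inv_id, Category.comp_id]
  · intro φ hφ
    have hi' : IsIso (RelTilde.lift p chart hP ℳ n hF) := RelTilde.isIso_lift p chart hP ℳ n hℳ hF
    have h1 := key φ hφ
    have h2 : IsIso (φ ≫ RelTilde.lift p chart hP ℳ n hF') := by rw [h1]; exact hi'
    exact IsIso.of_isIso_comp_right φ (RelTilde.lift p chart hP ℳ n hF')

end Groth.Agent.S8323
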