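import Groth.Statements.S8334
import Groth.Agent.Lib.Helper3.TwistQuot2
import Groth.Agent.Lib.Helper3.QCAlgFT

set_option autoImplicit false
universe u
open CategoryTheory CategoryTheory.Limits AlgebraicGeometry Opposite TopologicalSpace
open scoped HomogeneousIdeal
noncomputable section
open EGA2

namespace Groth.Agent.S8334
open Groth.Agent.Lib.Helper3

/-- Let Y be a quasi-compact separated scheme, or a scheme with Noetherian underlying space, 𝒮 a
quasi-coherent positively graded O_Y-algebra generated by 𝒮_1 with 𝒮_1 of finite type, p : P =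
Proj(𝒮) → Y, and F a quasi-coherent O_P-module of finite type. Then there is n₀ such that for every
n ≥ n₀, F is a quotient of (p^*G)(−n) = p^*(G) ⊗ O_P(−n) for some quasi-coherent O_Y-module G of
finite type (which may vary with n), O_P(−n) being given through its chartwise identifications. -/
theorem result {Y P : Scheme.{u}} (𝒮 : RelProj.QCGrAlg Y) (p : P ⟶ Y)
    (chart : ∀ (U : Y.Opens) (hU : IsAffineOpen U), (((p ⁻¹ᵁ U : P.Opens) : Scheme.{u}) ≅ Proj (𝒮.deg U hU)))
    (hP : RelProj.IsRelProj 𝒮 p chart)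
    (hY : (CompactSpace Y ∧ Y.IsSeparated) ∨ NoetherianSpace Y) (hgen : 𝒮.IsGenDegOne)
    (hft : 𝒮.IsFTDeg 1) (F : P.Modules) (hFq : Coh.IsQCoh F) (hFt : CohB1.IsFT F) :
    ∃ n₀ : ℤ, ∀ (n : ℤ), n₀ ≤ n → ∀ (L : P.Modules)
      (lam : ∀ (U : Y.Opens) (hU : IsAffineOpen U),
      L ⟶ (Scheme.Modules.pushforward (RelProj.emb p chart U hU)).obj (GrTwist.twist (𝒮.deg U hU) (-n))),
      RelProj.IsRelTwist 𝒮 p chart (-n) L lam →
        ∃ (G : Y.Modules) (π : CohB1.tensorMod ((Scheme.Modules.pullback p).obj G) L ⟶ F),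
          Coh.IsQCoh G ∧ CohB1.IsFT G ∧ Epi π := by
  haveI : F.IsQuasicoherent := hFq
  haveI : F.IsFiniteType := hFt
  have hFT : HasFTThrough Y ∧ CompactSpace Y := by
    rcases hY with ⟨h1, h2⟩ | h2
    · haveI := h1
      haveI := h2
      exact ⟨hasFTThrough_of_qcqs, h1⟩
    · haveI := h2
      refine ⟨hasFTThrough_of_locallyNoetherian fun x => ⟨⊤, trivial, ?_⟩, inferInstance⟩
      exact NoetherianSpace.set _
  haveI := hFT.2
  obtain ⟨n₀, hn₀⟩ := RelGlued.exists_quotient_pullback_twist p chart hP hFT.1 hgen hft F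
  refine ⟨n₀, fun n hn L lam hL => ?_⟩
  obtain ⟨G, π, hGq, hGft, hπ⟩ := hn₀ n hn L lam hL
  exact ⟨G, π, hGq, hGft, hπ⟩

end Groth.Agent.S8334
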