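import Groth.Statements.S8338
import Groth.Agent.Lib.Helper3.TildeSect
import Groth.Agent.Lib.Helper3.TildeExact

set_option autoImplicit false
universe u
open CategoryTheory CategoryTheory.Limits AlgebraicGeometry Opposite TopologicalSpace
noncomputable section
open EGA2

namespace Groth.Agent.S8338
open Groth.Agent.Lib.Helper3

/-- For an exact sequence M₁ → M₂ → M₃ of graded S-modules with degree-preserving maps u, v and every
integer n, the induced morphisms M₁(n)~ → M₂(n)~ → M₃(n)~ of modules on X = Proj S give an exact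
sequence of sections over every basic open D_+(f), f homogeneous of positive degree (these opens are
affine and cover X, so the sequence of modules is exact). Gradings by additive subgroups, modules
graded in non-negative degrees. -/
theorem result {A σ : Type u} [CommRing A] [SetLike σ A] [AddSubgroupClass σ A] (𝒜 : ℕ → σ)
    [GradedRing 𝒜] {M₁ τ₁ : Type u} [AddCommGroup M₁] [Module A M₁] [SetLike τ₁ M₁] [AddSubgroupClass τ₁ M₁]
    (ℳ₁ : ℕ → τ₁) [SetLike.GradedSMul 𝒜 ℳ₁] [DirectSum.Decomposition ℳ₁]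
    {M₂ τ₂ : Type u} [AddCommGroup M₂] [Module A M₂] [SetLike τ₂ M₂] [AddSubgroupClass τ₂ M₂]
    (ℳ₂ : ℕ → τ₂) [SetLike.GradedSMul 𝒜 ℳ₂] [DirectSum.Decomposition ℳ₂]
    {M₃ τ₃ : Type u} [AddCommGroup M₃] [Module A M₃] [SetLike τ₃ M₃] [AddSubgroupClass τ₃ M₃]
    (ℳ₃ : ℕ → τ₃) [SetLike.GradedSMul 𝒜 ℳ₃] [DirectSum.Decomposition ℳ₃]
    (u : M₁ →ₗ[A] M₂) (hu : ∀ (i : ℕ) (m : M₁), m ∈ ℳ₁ i → u m ∈ ℳ₂ i)
    (v : M₂ →ₗ[A] M₃) (hv : ∀ (i : ℕ) (m : M₂), m ∈ ℳ₂ i → v m ∈ ℳ₃ i)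
    (hex : Function.Exact u v) (n : ℤ) {d : ℕ} (hd : 0 < d) (f : A) (hf : f ∈ 𝒜 d) :
    Function.Exact ((GrMod.map 𝒜 u hu n).app (Proj.basicOpen 𝒜 f))
      ((GrMod.map 𝒜 v hv n).app (Proj.basicOpen 𝒜 f)) := by
  classical
  intro s₂
  let s₂' : GrMod.sect 𝒜 ℳ₂ n (op (ProjectiveSpectrum.basicOpen 𝒜 f)) := s₂
  constructor
  · intro hs
    obtain ⟨k, i, m, hi, hval⟩ := TildeSect.exists_eq_mk_basicOpen 𝒜 ℳ₂ n hd hf s₂'
    -- `v m / f^k` vanishes at all points of `D₊(f)`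
    have hz : ∀ x : ProjectiveSpectrum.basicOpen 𝒜 f,
        (LocalizedModule.mk (v m.1) ⟨f ^ k, fun h => (ProjectiveSpectrum.mem_basicOpen 𝒜 f x.1).mp x.2
          (x.1.isPrime.mem_of_pow_mem k h)⟩ : GrMod.LocMod 𝒜 (M := M₃) x.1) = 0 := by
      intro x
      have h1 : GrMod.locMap v x.1 ((s₂'.1 x).1) = 0 :=
        congrArg (fun t : GrMod.sect 𝒜 ℳ₃ n (op (ProjectiveSpectrum.basicOpen 𝒜 f)) => (t.1 x).1) hs
      rw [hval x, GrMod.locMap_mk] at h1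
      exact h1
    obtain ⟨N, hN⟩ := TildeSect.exists_pow_smul_eq_zero 𝒜 ℳ₃ hd hf k i ⟨v m.1, hv i m.1 m.2⟩ hz
    have hvz : v (f ^ N • m.1) = 0 := by rw [map_smul]; exact hN
    obtain ⟨m₁, hm₁⟩ := (hex (f ^ N • m.1)).mp hvz
    have hmem : f ^ N • m.1 ∈ ℳ₂ (N * d + i) := TildeExact.pow_smul_mem hf N m.2
    let m₁' : ℳ₁ (N * d + i) := DirectSum.decompose ℳ₁ m₁ (N * d + i)
    have hm₁' : u (m₁' : M₁) = f ^ N • m.1 := by
      rw [TildeExact.map_decompose u hu m₁ (N * d + i), hm₁]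
      exact DirectSum.decompose_of_mem_same ℳ₂ hmem
    have hdeg : ((N * d + i : ℕ) : ℤ) = (((N + k) • d : ℕ) : ℤ) + n := by
      rw [smul_eq_mul]; push_cast; rw [hi]; ring
    have hO : ∀ y : ProjectiveSpectrum.basicOpen 𝒜 f, f ^ (N + k) ∉ y.1.asHomogeneousIdeal :=
      fun y h => (ProjectiveSpectrum.mem_basicOpen 𝒜 f y.1).mp y.2 (y.1.isPrime.mem_of_pow_mem _ h)
    let t : GrMod.sect 𝒜 ℳ₁ n (op (ProjectiveSpectrum.basicOpen 𝒜 f)) :=
      TildeExact.fracSect n hdeg m₁' ⟨f ^ (N + k), SetLike.pow_mem_graded (N + k) hf⟩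
        (ProjectiveSpectrum.basicOpen 𝒜 f) hO
    refine ⟨t, ?_⟩
    refine Subtype.ext (funext fun x => Subtype.ext ?_)
    change GrMod.locMap u x.1 ((t.1 x).1) = (s₂'.1 x).1
    rw [hval x, TildeExact.fracSect_val, GrMod.locMap_mk, hm₁', LocalizedModule.mk_eq]
    refine ⟨1, ?_⟩
    change (1 : A) • (f ^ k • (f ^ N • m.1)) = (1 : A) • (f ^ (N + k) • m.1)
    rw [smul_smul (f ^ k), ← pow_add, Nat.add_comm]
  · rintro ⟨t, rfl⟩
    let t' : GrMod.sect 𝒜 ℳ₁ n (op (ProjectiveSpectrum.basicOpen 𝒜 f)) := t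
    refine Subtype.ext (funext fun x => Subtype.ext ?_)
    change GrMod.locMap v x.1 (GrMod.locMap u x.1 ((t'.1 x).1)) = 0
    induction (t'.1 x).1 using LocalizedModule.induction_on with
    | h m s =>
      rw [GrMod.locMap_mk, GrMod.locMap_mk, hex.apply_apply_eq_zero, LocalizedModule.zero_mk]

end Groth.Agent.S8338
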