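import Groth.Statements.S8340
import Groth.Agent.Lib.Helper3.RelTensorU

set_option autoImplicit false
universe u
open CategoryTheory CategoryTheory.Limits AlgebraicGeometry Opposite TopologicalSpace
open scoped HomogeneousIdeal
noncomputable section
open EGA2

namespace Groth.Agent.S8340
open Groth.Agent.Lib.Helper3

/-- For a quasi-compact open U of X = Proj(𝒮), 𝒮 any quasi-coherent positively graded O_Y-algebra, there
is d > 0 such that for every n divisible by d the module O_X(−n)|U is an inverse of O_X(n)|U: the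
tensor product O_X(n)|U ⊗ O_X(−n)|U is isomorphic to O_U (existence of an isomorphism; the twisting
sheaves are given through their chartwise identifications). -/
theorem result {Y X : Scheme.{u}} (𝒮 : RelProj.QCGrAlg Y) (q : X ⟶ Y)
    (chart : ∀ (U : Y.Opens) (hU : IsAffineOpen U), (((q ⁻¹ᵁ U : X.Opens) : Scheme.{u}) ≅ Proj (𝒮.deg U hU)))
    (hX : RelProj.IsRelProj 𝒮 q chart) (U : X.Opens) (hU : IsCompact (U : Set X)) :
    ∃ d : ℕ, 0 < d ∧ ∀ (n : ℤ), (d : ℤ) ∣ n →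
      ∀ (L : X.Modules)
        (lam : ∀ (V : Y.Opens) (hV : IsAffineOpen V),
          L ⟶ (Scheme.Modules.pushforward (RelProj.emb q chart V hV)).obj (GrTwist.twist (𝒮.deg V hV) n)),
        RelProj.IsRelTwist 𝒮 q chart n L lam →
      ∀ (L' : X.Modules)
        (lam' : ∀ (V : Y.Opens) (hV : IsAffineOpen V),
          L' ⟶ (Scheme.Modules.pushforward (RelProj.emb q chart V hV)).obj (GrTwist.twist (𝒮.deg V hV) (-n))),
        RelProj.IsRelTwist 𝒮 q chart (-n) L' lam' →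
          Nonempty (CohB1.tensorMod (L.restrict U.ι) (L'.restrict U.ι) ≅ Coh.structureModule (U : Scheme.{u})) := by
  classical
  have hpt : ∀ x : X, ∃ (V : Y.Opens) (hV : IsAffineOpen V) (m : ℕ) (_ : 0 < m)
      (g : 𝒮.presheaf.obj (op V)) (_ : g ∈ 𝒮.deg V hV m) (y : Proj (𝒮.deg V hV)),
      g ∉ y.asHomogeneousIdeal ∧ (RelProj.emb q chart V hV).base y = x := by
    intro x
    obtain ⟨V, hV, hx, -⟩ := exists_isAffineOpen_mem_and_subset (x := q.base x) (U := ⊤) trivial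
    obtain ⟨y, hy⟩ := RelTilde.exists_of_mem_R q chart ⟨V, hV⟩ x hx
    obtain ⟨m, hm, g, hg, hgy⟩ := TildeExact.exists_pos_notMem (𝒜 := 𝒮.deg V hV) y
    exact ⟨V, hV, m, hm, g, hg, y, hgy, hy⟩
  choose V hV m hm g hg y hgy hy using hpt
  let O : X → X.Opens := fun x =>
    RelGlued.stdOpen q chart ⟨V x, hV x⟩ (⟨g x, hg x⟩ : 𝒮.deg (V x) (hV x) (m x))
  have hxO : ∀ x, x ∈ O x := fun x => by
    have := (RelGlued.mem_stdOpen q chart ⟨V x, hV x⟩
      (⟨g x, hg x⟩ : 𝒮.deg (V x) (hV x) (m x)) (y x)).mpr (hgy x)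
    rw [hy x] at this
    exact this
  obtain ⟨t, ht⟩ := hU.elim_finite_subcover (fun x => (O x : Set X)) (fun x => (O x).isOpen)
    (fun x _ => Set.mem_iUnion.mpr ⟨x, hxO x⟩)
  refine ⟨∏ x ∈ t, m x, Finset.prod_pos fun x _ => hm x, ?_⟩
  rintro n ⟨k, rfl⟩ L lam hL L' lam' hL'
  apply RelGlued.nonempty_tensor_neg_iso q chart hX _ U _ hL hL'
  intro x' hx'
  have hmem := ht hx'
  simp only [Set.mem_iUnion] at hmem
  obtain ⟨z, hzt, hz⟩ := hmem
  obtain ⟨c, hc⟩ := Finset.dvd_prod_of_mem m hzt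
  refine ⟨⟨V z, hV z⟩, m z, ⟨g z, hg z⟩, (c : ℤ) * k, ?_, hz⟩
  rw [hc]
  push_cast
  ring

end Groth.Agent.S8340
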