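import Groth.Statements.S8344
-- import your own Groth.Agent.* helpers here

set_option autoImplicit false
universe u
open ConstrTop

namespace Groth.Agent.S8344

/-- In a topological space X, every constructible subset is retrocompact in X, that is, it meets every
quasi-compact open subset of X in a quasi-compact set. -/
theorem result {X : Type u} [TopologicalSpace X] {s : Set X}
    (hs : Topology.IsConstructible s) : IsRetrocompact s := by
  unfold Topology.IsConstructible at hs
  have hsub : IsSublattice {U : Set X | IsOpen U ∧ IsRetrocompact U} :=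
    ⟨fun U hU V hV => ⟨hU.1.union hV.1, hU.2.union hV.2⟩,
      fun U hU V hV => ⟨hU.1.inter hV.1, hU.2.inter_isOpen hV.2 hV.1⟩⟩
  have hbot : (⊥ : Set X) ∈ {U : Set X | IsOpen U ∧ IsRetrocompact U} :=
    ⟨isOpen_empty, IsRetrocompact.empty⟩
  have htop : (⊤ : Set X) ∈ {U : Set X | IsOpen U ∧ IsRetrocompact U} :=
    ⟨isOpen_univ, IsRetrocompact.univ⟩
  refine BooleanSubalgebra.closure_sdiff_sup_induction hsub hbot htop
    (p := fun g _ => IsRetrocompact g) ?_ ?_ s hs
  · intro U hU V hV W hWc hWo
    have h1 : IsCompact (U ∩ W) := hU.2 hWc hWo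
    have h2 : IsCompact ((U ∩ W) ∩ Vᶜ) := h1.inter_right hV.1.isClosed_compl
    have : (U \ V) ∩ W = (U ∩ W) ∩ Vᶜ := by
      ext x; simp only [Set.mem_inter_iff, Set.mem_sdiff, Set.mem_compl_iff]; tauto
    rw [this]; exact h2
  · intro U _ V _ hU hV
    exact hU.union hV

end Groth.Agent.S8344
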