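import Groth.Statements.S8345
-- import your own Groth.Agent.* helpers here

set_option autoImplicit false
universe u
open ConstrTop

namespace Groth.Agent.S8345

open TopologicalSpace in
/-- Suppose X is a topological space that is Noetherian. Then a subset s of X is constructible exactly
when s can be written as the union of finitely many locally closed subsets of X. -/
theorem result {X : Type u} [TopologicalSpace X]
    [NoetherianSpace X] (s : Set X) :
    Topology.IsConstructible s ↔
      ∃ (n : ℕ) (Z : Fin n → Set X), (∀ i, IsLocallyClosed (Z i)) ∧ s = ⋃ i, Z i := by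
  classical
  have hopen : ∀ U : Set X, IsOpen U → Topology.IsConstructible U := fun U hU =>
    BooleanSubalgebra.subset_closure
      ⟨hU, fun W _ _ => NoetherianSpace.isCompact _⟩
  constructor
  · intro hs
    unfold Topology.IsConstructible at hs
    have hsub : IsSublattice {U : Set X | IsOpen U ∧ IsRetrocompact U} :=
      ⟨fun U hU V hV => ⟨hU.1.union hV.1, hU.2.union hV.2⟩,
        fun U hU V hV => ⟨hU.1.inter hV.1, hU.2.inter_isOpen hV.2 hV.1⟩⟩
    have hbot : (⊥ : Set X) ∈ {U : Set X | IsOpen U ∧ IsRetrocompact U} :=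
      ⟨isOpen_empty, IsRetrocompact.empty⟩
    have htop : (⊤ : Set X) ∈ {U : Set X | IsOpen U ∧ IsRetrocompact U} :=
      ⟨isOpen_univ, IsRetrocompact.univ⟩
    obtain ⟨t, rfl⟩ := (BooleanSubalgebra.mem_closure_iff_sup_sdiff hsub hbot htop).mp hs
    refine ⟨t.card, fun i => ((t.equivFin.symm i).1.1.1 \ (t.equivFin.symm i).1.2.1), ?_, ?_⟩
    · intro i
      exact (t.equivFin.symm i).1.1.2.1.isLocallyClosed.inter
        (t.equivFin.symm i).1.2.2.1.isClosed_compl.isLocallyClosed
    · ext x
      simp only [Finset.sup_set_eq_biUnion, Set.mem_iUnion, exists_prop]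
      constructor
      · rintro ⟨a, ha, hx⟩
        refine ⟨t.equivFin ⟨a, ha⟩, ?_⟩
        simpa using hx
      · rintro ⟨i, hx⟩
        exact ⟨(t.equivFin.symm i).1, (t.equivFin.symm i).2, hx⟩
  · rintro ⟨n, Z, hZ, rfl⟩
    refine Topology.IsConstructible.iUnion fun i => ?_
    obtain ⟨U, C, hU, hC, h⟩ := hZ i
    rw [h]
    exact (hopen U hU).inter (hopen _ hC.isOpen_compl).of_compl

end Groth.Agent.S8345
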