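import Groth.Statements.S8346
-- import your own Groth.Agent.* helpers here

set_option autoImplicit false
universe u
open ConstrTop

namespace Groth.Agent.S8346

open Topology Set in
theorem isRetrocompact_of_isConstructible {X : Type u} [TopologicalSpace X] {s : Set X}
    (hs : Topology.IsConstructible s) : IsRetrocompact s := by
  induction s, hs using BooleanSubalgebra.closure_sdiff_sup_induction with
  | isSublattice =>
    exact ⟨fun s hs t ht ↦ ⟨hs.1.union ht.1, hs.2.union ht.2⟩,
      fun s hs t ht ↦ ⟨hs.1.inter ht.1, hs.2.inter_isOpen ht.2 ht.1⟩⟩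
  | bot_mem => exact ⟨isOpen_empty, .empty⟩
  | top_mem => exact ⟨isOpen_univ, .univ⟩
  | sdiff U hU V hV =>
    intro K hK hKo
    have : (U \ V) ∩ K = (U ∩ K) ∩ Vᶜ := by
      ext; simp only [mem_inter_iff, mem_sdiff, mem_compl_iff]; tauto
    rw [this]
    exact (hU.2 hK hKo).inter_right hV.1.isClosed_compl
  | sup s _ t _ hs' ht' => exact hs'.union ht'

open TopologicalSpace in
/-- Let X be a topological space admitting a basis of open subsets which are retrocompact in X. Then
every locally constructible subset T of X is retrocompact in X. -/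
theorem result {X : Type u} [TopologicalSpace X]
    {B : Set (Set X)} (hB : IsTopologicalBasis B) (hBr : ∀ U ∈ B, IsRetrocompact U) {T : Set X}
    (hT : Topology.IsLocallyConstructible T) : IsRetrocompact T := by
  intro K hK hKo
  have key : ∀ x ∈ K, ∃ V : Set X, IsOpen V ∧ x ∈ V ∧ IsCompact (T ∩ (V ∩ K)) := by
    intro x _
    obtain ⟨U, hxU, hU, hUT⟩ := hT x
    obtain ⟨V, hVB, hxV, hVU⟩ := hB.mem_nhds_iff.1 hxU
    have hVo : IsOpen V := hB.isOpen hVB
    refine ⟨V, hVo, hxV, ?_⟩
    have h1 : Topology.IsConstructible (Subtype.val ⁻¹' T : Set V) :=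
      (hUT.preimage_of_isOpenEmbedding (Topology.IsOpenEmbedding.id.restrict hVU hVo) :)
    have h2 := isRetrocompact_of_isConstructible h1
    have hVK : IsCompact (V ∩ K) := hBr V hVB hK hKo
    have h3 : IsCompact (Subtype.val ⁻¹' (V ∩ K) : Set V) :=
      (Topology.IsEmbedding.subtypeVal.isCompact_preimage_iff (by simp)).2 hVK
    have h4 : IsOpen (Subtype.val ⁻¹' (V ∩ K) : Set V) :=
      (hVo.inter hKo).preimage continuous_subtype_val
    have h5 := (h2 h3 h4).image continuous_subtype_val
    convert h5 using 1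
    ext y
    simp only [Set.mem_inter_iff, Set.mem_image, Set.mem_preimage, Subtype.exists,
      exists_and_right, exists_eq_right]
    tauto
  choose! V hVo hxV hVc using key
  obtain ⟨σ, hσ, hKσ⟩ := hK.elim_nhds_subcover V (fun x hx => (hVo x hx).mem_nhds (hxV x hx))
  have : T ∩ K = ⋃ x ∈ σ, T ∩ (V x ∩ K) := by
    ext y
    simp only [Set.mem_inter_iff, Set.mem_iUnion, exists_prop]
    constructor
    · rintro ⟨hyT, hyK⟩
      obtain ⟨x, hx, hyx⟩ := Set.mem_iUnion₂.1 (hKσ hyK)
      exact ⟨x, hx, hyT, hyx, hyK⟩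
    · rintro ⟨x, _, hyT, _, hyK⟩
      exact ⟨hyT, hyK⟩
  rw [this]
  exact σ.isCompact_biUnion fun x hx => hVc x (hσ x hx)

end Groth.Agent.S8346
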