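import Groth.Statements.S8347
import Groth.Agent.Lib.Helper5.SpSeqStat

set_option autoImplicit false
universe v u
open CategoryTheory CategoryTheory.Limits
open SpSeq

namespace Groth.Agent.S8347

open Groth.Agent.Lib.Helper5 in
lemma gr_congr {C : Type u} [Category.{v} C] [Abelian C] {r₀ : ℤ}
    {E : CohomologicalSpectralSequence C r₀} {H : ℤ → C} (a : SpSeq.Abutment E H)
    (n' n : ℤ) (h : n' = n) (p : ℤ) :
    Nonempty (SpSeq.grPiece (a.fil n') (a.anti n') p ≅ SpSeq.grPiece (a.fil n) (a.anti n) p) := by
  subst h
  exact ⟨Iso.refl _⟩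

open Groth.Agent.Lib.Helper5 in
/-- The limit term at `(p, n - p)` is the `p`-th graded piece of `H n`. -/
lemma nonempty_beta {C : Type u} [Category.{v} C] [Abelian C] {r₀ : ℤ}
    {E : CohomologicalSpectralSequence C r₀} {H : ℤ → C} (a : SpSeq.Abutment E H)
    (n p : ℤ) :
    Nonempty ((E.page (a.rk (p, n - p)) (a.stat (p, n - p)).1).X (p, n - p) ≅
      SpSeq.grPiece (a.fil n) (a.anti n) p) := by
  obtain ⟨e⟩ := gr_congr a (p + (n - p)) n (by ring) p
  exact ⟨a.β (p, n - p) ≪≫ e⟩

/-- Let E be a spectral sequence in an abelian category with abutment data (H^m), and suppose that for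
some page r and every total degree m there is an integer q(m) such that E_r^{m-q,q} = 0 for every q
other than q(m). Let n be a total degree such that the filtration of H^n is discrete (some step is
zero) and exhaustive (H^n is the supremum of the steps), and such that the position (n - q(n), q(n))
is stationary from page r on. Then H^n is isomorphic to E_r^{n-q(n), q(n)}. (The published statement
asserts this without any condition on the differentials at the surviving positions; that version
fails when a differential d_r links the surviving terms of two consecutive total degrees, for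
instance a spectral sequence whose only nonzero page-2 terms are E_2^{0,1} and E_2^{2,0} with d_2 an
isomorphism between them and zero abutment. The stationarity assumed here is automatic when q(m)
does not depend on m and r ≥ 2.) -/
theorem result {C : Type u} [Category.{v} C] [Abelian C] {r₀ : ℤ}
    (E : CohomologicalSpectralSequence C r₀) {H : ℤ → C} (a : SpSeq.Abutment E H)
    (r : ℤ) (hr : r₀ ≤ r) (q : ℤ → ℤ)
    (hdeg : ∀ m q' : ℤ, q' ≠ q m → IsZero ((E.page r hr).X (m - q', q')))
    (n : ℤ) (hdisc : (a.filObj n).IsDiscrete) (hexh : a.IsExhaustive n)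
    (hst : SpSeq.StationaryAt E (n - q n, q n) r) :
    Nonempty (H n ≅ (E.page r hr).X (n - q n, q n)) := by
  classical
  obtain ⟨p₀, hp₀⟩ : ∃ p₀, p₀ = n - q n := ⟨_, rfl⟩
  have hq : q n = n - p₀ := by lia
  -- graded pieces vanish away from `p₀`
  have hgr : ∀ p : ℤ, p ≠ p₀ → IsZero (SpSeq.grPiece (a.fil n) (a.anti n) p) := by
    intro p hp
    obtain ⟨e⟩ := nonempty_beta a n p
    refine IsZero.of_iso ?_ e.symm
    have h1 : IsZero ((E.page r hr).X (p, n - p)) := by
      have h2 := hdeg n (n - p) (by lia)
      have h3 : (n - (n - p), n - p) = (p, n - p) := Prod.ext (by simp) rfl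
      rwa [h3] at h2
    rcases le_total r (a.rk (p, n - p)) with hle | hle
    · exact Groth.Agent.Lib.Helper5.SpSeqStat.isZero_page_of_le E r hr _ h1 _ hle
    · obtain ⟨e'⟩ := Groth.Agent.Lib.Helper5.SpSeqStat.nonempty_pageIso_of_stationary E
        (p, n - p) _ (a.stat (p, n - p)) r hle
      exact h1.of_iso e'
  have hstep : ∀ p : ℤ, p ≠ p₀ → a.fil n (p + 1) = a.fil n p := fun p hp =>
    Groth.Agent.Lib.Helper5.SpSeqStat.fil_succ_eq_of_isZero_gr _ _ _ (hgr p hp)
  -- the filtration vanishes above `p₀`
  have hbot : a.fil n (p₀ + 1) = ⊥ := by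
    obtain ⟨b, hb⟩ := hdisc
    change a.fil n b = ⊥ at hb
    rcases le_total b (p₀ + 1) with hle | hle
    · exact le_bot_iff.mp (hb ▸ a.anti n hle)
    · have key : ∀ k : ℤ, k ≤ b → p₀ + 1 ≤ k → a.fil n k = ⊥ := by
        intro k hk
        induction k, hk using Int.leInductionDown with
        | base => exact fun _ => hb
        | pred k hk ih =>
          intro hk'
          have h1 := hstep (k - 1) (by lia)
          rw [sub_add_cancel] at h1
          rw [← h1]
          exact ih (by lia)
      exact key _ hle le_rfl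
  -- and is everything from `p₀` down
  have htop : a.fil n p₀ = ⊤ := by
    have key : ∀ k : ℤ, k ≤ p₀ → a.fil n k = a.fil n p₀ := by
      intro k hk
      induction k, hk using Int.leInductionDown with
      | base => rfl
      | pred k hk ih =>
        have h1 := hstep (k - 1) (by lia)
        rw [sub_add_cancel] at h1
        rw [← h1]
        exact ih
    refine top_le_iff.mp (hexh.2 ?_)
    rintro _ ⟨k, rfl⟩
    change a.fil n k ≤ a.fil n p₀
    rcases le_total k p₀ with hle | hle
    · exact (key k hle).le
    · exact a.anti n hle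
  have e1 : SpSeq.grPiece (a.fil n) (a.anti n) p₀ ≅ H n :=
    Groth.Agent.Lib.Helper5.SpSeqStat.subquotTopBotIso _ _ _ htop hbot
  obtain ⟨e2⟩ := nonempty_beta a n p₀
  have hpq : (n - q n, q n) = (p₀, n - p₀) := Prod.ext hp₀.symm hq
  have hst' : SpSeq.StationaryAt E (p₀, n - p₀) r := by
    have := hst
    rwa [hpq] at this
  obtain ⟨e3⟩ := Groth.Agent.Lib.Helper5.SpSeqStat.nonempty_pageIso_of_stationary' E
    (p₀, n - p₀) r _ hst' (a.stat (p₀, n - p₀))
  have e4 : (E.page r hr).X (n - q n, q n) ≅ (E.page r hst'.1).X (p₀, n - p₀) :=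
    eqToIso (by rw [hpq])
  exact ⟨e1.symm ≪≫ e2.symm ≪≫ e3.symm ≪≫ e4.symm⟩

end Groth.Agent.S8347
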