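import Groth.Statements.S8348
import Mathlib

set_option autoImplicit false
universe v u
open CategoryTheory CategoryTheory.Limits
open HomAlg3

namespace Groth.Agent.S8348

section helpers

variable {C : Type u} [Category.{v} C] [Abelian C]

section
variable (Q : CochainComplex C ℕ) (i : ℕ)

theorem epi_toCycles (hac : IsZero (Q.homology (i + 1))) : Epi (Q.toCycles i (i + 1)) := by
  have hcok := Q.homologyIsCokernel i (i + 1) (by simp)
  apply Preadditive.epi_of_cancel_zero
  intro P g hg
  have h1 : Q.homologyπ (i + 1) ≫ hcok.desc (CokernelCofork.ofπ g hg) = g :=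
    Cofork.IsColimit.π_desc hcok
  exact h1.symm.trans (by rw [hac.eq_of_src (hcok.desc _) 0, comp_zero])

theorem iCycles_toCycles : Q.iCycles i ≫ Q.toCycles i (i + 1) = 0 := by
  rw [← cancel_mono (Q.iCycles (i + 1)), Category.assoc, Q.toCycles_i, Q.iCycles_d, zero_comp]

/-- the section of `toCycles` determined by a retraction of `iCycles` -/
theorem exists_section (hac : IsZero (Q.homology (i + 1))) (r : Q.X i ⟶ Q.cycles i)
    (hr : Q.iCycles i ≫ r = 𝟙 _) :
    ∃ s : Q.cycles (i + 1) ⟶ Q.X i, Q.toCycles i (i + 1) ≫ s = 𝟙 _ - r ≫ Q.iCycles i ∧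
      s ≫ Q.toCycles i (i + 1) = 𝟙 _ := by
  have := epi_toCycles Q i hac
  have he : kernel.ι (Q.toCycles i (i + 1)) ≫ (𝟙 _ - r ≫ Q.iCycles i) = 0 := by
    have h1 : kernel.ι (Q.toCycles i (i + 1)) ≫ Q.d i (i + 1) = 0 := by
      rw [← Q.toCycles_i i (i + 1), ← Category.assoc, kernel.condition, zero_comp]
    have h2 : Q.liftCycles (kernel.ι (Q.toCycles i (i + 1))) (i + 1) (by simp) h1 ≫ Q.iCycles i =
        kernel.ι (Q.toCycles i (i + 1)) := Q.liftCycles_i _ _ _ _
    rw [← h2, Category.assoc, Preadditive.comp_sub, Category.comp_id, ← Category.assoc (Q.iCycles i),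
      hr, Category.id_comp, sub_self, comp_zero]
  refine ⟨Abelian.epiDesc (Q.toCycles i (i + 1)) _ he, Abelian.comp_epiDesc _ _ he, ?_⟩
  rw [← cancel_epi (Q.toCycles i (i + 1)), ← Category.assoc, Abelian.comp_epiDesc,
    Preadditive.sub_comp, Category.id_comp, Category.assoc, iCycles_toCycles, comp_zero, sub_zero,
    Category.comp_id]

end

theorem main (Q : CochainComplex C ℕ) (hinj : ∀ i : ℕ, Injective (Q.X i))
    (hac : ∀ i : ℕ, IsZero (Q.homology (i + 1)))
    (hsplit : ∀ i : ℕ, IsSplitMono (Q.iCycles i)) : Injective Q := by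
  -- retractions and sections
  have hr : ∀ i, ∃ r : Q.X i ⟶ Q.cycles i, Q.iCycles i ≫ r = 𝟙 _ := fun i =>
    ⟨retraction (Q.iCycles i), IsSplitMono.id (Q.iCycles i)⟩
  choose r hr using hr
  have hs := fun i => exists_section Q i (hac i) (r i) (hr i)
  choose s hs1 hs2 using hs
  have hZinj : ∀ i, Injective (Q.cycles i) := by
    intro i
    refine ⟨fun {A B} u m _ => ?_⟩
    have := hinj i
    refine ⟨Injective.factorThru (u ≫ Q.iCycles i) m ≫ r i, ?_⟩
    rw [← Category.assoc, Injective.comp_factorThru, Category.assoc, hr, Category.comp_id]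
  refine ⟨fun {X Y} g f _ => ?_⟩
  -- components into cycles
  let a : ∀ i, Y.X i ⟶ Q.cycles i := fun i =>
    have := hZinj i
    Injective.factorThru (g.f i ≫ r i) (f.f i)
  have ha : ∀ i, f.f i ≫ a i = g.f i ≫ r i := fun i => by
    have := hZinj i
    exact Injective.comp_factorThru _ _
  let h : Y ⟶ Q :=
    { f := fun i => a i ≫ Q.iCycles i + (Y.d i (i + 1) ≫ a (i + 1)) ≫ s i
      comm' := by
        rintro i j (rfl : i + 1 = j)
        rw [Preadditive.add_comp, Preadditive.comp_add, Category.assoc, Q.iCycles_d, comp_zero,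
          zero_add]
        have h1 : s i ≫ Q.d i (i + 1) = Q.iCycles (i + 1) := by
          rw [← Q.toCycles_i i (i + 1), ← Category.assoc, hs2, Category.id_comp]
        rw [Category.assoc, h1]
        simp only [Category.assoc]
        rw [Y.d_comp_d_assoc, zero_comp, add_zero] }
  refine ⟨h, ?_⟩
  ext i
  have h1 : (f ≫ h).f i = f.f i ≫ (a i ≫ Q.iCycles i + (Y.d i (i + 1) ≫ a (i + 1)) ≫ s i) := rfl
  rw [h1, Preadditive.comp_add, ← Category.assoc, ha]
  simp only [Category.assoc]
  rw [f.comm_assoc, ← Category.assoc (f.f (i + 1)), ha]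
  simp only [Category.assoc]
  rw [← g.comm_assoc, ← Q.toCycles_i i (i + 1)]
  simp only [Category.assoc]
  rw [← Category.assoc (Q.iCycles (i + 1)), hr, Category.id_comp, hs1, ← Preadditive.comp_add,
    add_sub_cancel, Category.comp_id]


end helpers

/-- Let C be an abelian category and Q a cochain complex of objects of C in degrees 0, 1, 2, ... such
that every Q^i is injective, every homology object H^i(Q) with i ≥ 1 is zero, and every inclusion of
the cycles Z^i(Q) into Q^i (i ≥ 0) is a split monomorphism. Then Q is an injective object of the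
category of cochain complexes of C indexed by the natural numbers. (The published statement is for
the narrower class of complexes with Z^i(Q) = B^i(Q) for every i ≥ 0, which in degree 0, where there
is no incoming differential, forces Z^0(Q) = 0; this row allows a nonzero Z^0(Q), so that it pairs
with the embedding of an arbitrary complex into such a Q. Such a Q is the direct sum of Z^0(Q)
placed in degree 0 and of the two-term complexes with Z^{i+1}(Q) in degrees i and i+1 and the
identity as differential, and the published argument carries over with Z^i(Q) in place of B^i(Q) as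
the first summand of Q^i.) -/
theorem result {C : Type u} [Category.{v} C] [Abelian C]
    (Q : CochainComplex C ℕ) (hinj : ∀ i : ℕ, Injective (Q.X i)) (hac : ∀ i : ℕ, IsZero (Q.homology (i + 1)))
    (hsplit : ∀ i : ℕ, IsSplitMono (Q.iCycles i)) : Injective Q := main Q hinj hac hsplit

end Groth.Agent.S8348
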