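import Groth.Statements.S8349
import Mathlib

set_option autoImplicit false
universe v u
open CategoryTheory CategoryTheory.Limits
open HomAlg3

namespace Groth.Agent.S8349

section helpers

variable {C : Type u} [Category.{v} C] [Abelian C]

/-- the complex with `Q^i = I^i ⊞ I^(i+1)` and differential `(x, y) ↦ (y, 0)` -/
noncomputable abbrev QQ (I : ℕ → C) : CochainComplex C ℕ :=
  CochainComplex.of (fun i => I i ⊞ I (i + 1))
    (fun i => (biprod.snd : I i ⊞ I (i + 1) ⟶ I (i + 1)) ≫ (biprod.inl : I (i + 1) ⟶ I (i + 1) ⊞ I (i + 1 + 1)))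
    (fun i => by simp)

theorem QQ_d (I : ℕ → C) (i : ℕ) : (QQ I).d i (i + 1) =
    (biprod.snd : I i ⊞ I (i + 1) ⟶ I (i + 1)) ≫ (biprod.inl : I (i + 1) ⟶ I (i + 1) ⊞ I (i + 1 + 1)) :=
  CochainComplex.of_d (fun i => I i ⊞ I (i + 1))
    (fun i => (biprod.snd : I i ⊞ I (i + 1) ⟶ I (i + 1)) ≫ (biprod.inl : I (i + 1) ⟶ I (i + 1) ⊞ I (i + 1 + 1))) i

section
variable (I : ℕ → C) (i : ℕ)

theorem iCycles_snd : (QQ I).iCycles i ≫ (biprod.snd : I i ⊞ I (i + 1) ⟶ I (i + 1)) = 0 := by
  have h := (QQ I).iCycles_d i (i + 1)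
  rw [QQ_d] at h
  rw [← cancel_mono (biprod.inl : I (i + 1) ⟶ I (i + 1) ⊞ I (i + 1 + 1)), Category.assoc, zero_comp]
  exact h

theorem iCycles_fst_inl : (QQ I).iCycles i ≫ (biprod.fst : I i ⊞ I (i + 1) ⟶ I i) ≫
    (biprod.inl : I i ⟶ I i ⊞ I (i + 1)) = (QQ I).iCycles i := by
  have h1 : (biprod.fst : I i ⊞ I (i + 1) ⟶ I i) ≫ (biprod.inl : I i ⟶ I i ⊞ I (i + 1)) =
      𝟙 _ - (biprod.snd : I i ⊞ I (i + 1) ⟶ I (i + 1)) ≫ biprod.inr := by
    rw [eq_sub_iff_add_eq, biprod.total]
  rw [h1, Preadditive.comp_sub, ← Category.assoc, iCycles_snd, zero_comp, sub_zero]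
  exact Category.comp_id _

theorem isSplitMono_iCycles : IsSplitMono ((QQ I).iCycles i) := by
  have hp : ((biprod.fst : I i ⊞ I (i + 1) ⟶ I i) ≫ (biprod.inl : I i ⟶ I i ⊞ I (i + 1))) ≫
      (QQ I).d i (i + 1) = 0 := by
    rw [QQ_d]; simp
  refine ⟨⟨⟨(QQ I).liftCycles _ (i + 1) (by simp) hp, ?_⟩⟩⟩
  rw [← cancel_mono ((QQ I).iCycles i), Category.assoc, (QQ I).liftCycles_i, Category.id_comp]
  exact iCycles_fst_inl I i

theorem isZero_homology : IsZero ((QQ I).homology (i + 1)) := by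
  -- toCycles is split epi
  let σ : (QQ I).cycles (i + 1) ⟶ (QQ I).X i :=
    (QQ I).iCycles (i + 1) ≫ (biprod.fst : I (i + 1) ⊞ I (i + 1 + 1) ⟶ I (i + 1)) ≫
      (biprod.inr : I (i + 1) ⟶ I i ⊞ I (i + 1))
  have hσ : σ ≫ (QQ I).toCycles i (i + 1) = 𝟙 _ := by
    rw [← cancel_mono ((QQ I).iCycles (i + 1)), Category.assoc, (QQ I).toCycles_i, QQ_d,
      Category.id_comp]
    simp only [σ, Category.assoc]
    rw [biprod.inr_snd_assoc]
    exact iCycles_fst_inl I (i + 1)
  have hepi : Epi ((QQ I).toCycles i (i + 1)) := epi_of_epi_fac hσ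
  apply IsZero.of_epi_eq_zero ((QQ I).homologyπ (i + 1))
  rw [← cancel_epi ((QQ I).toCycles i (i + 1)), (QQ I).toCycles_comp_homologyπ, comp_zero]

end

theorem main [EnoughInjectives C] (A : CochainComplex C ℕ) :
    ∃ (Q : CochainComplex C ℕ) (f : A ⟶ Q), Mono f ∧ (∀ i : ℕ, Injective (Q.X i)) ∧
      (∀ i : ℕ, IsZero (Q.homology (i + 1))) ∧ ∀ i : ℕ, IsSplitMono (Q.iCycles i) := by
  let I : ℕ → C := fun i => Injective.under (A.X i)
  let f : A ⟶ QQ I := CochainComplex.ofHom
    (fun i => (biprod.lift (Injective.ι (A.X i)) (A.d i (i + 1) ≫ Injective.ι (A.X (i + 1))) :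
      A.X i ⟶ I i ⊞ I (i + 1)))
    (fun i => by
      rw [QQ_d]
      apply biprod.hom_ext <;> simp)
  refine ⟨QQ I, f, ?_, ?_, isZero_homology I, isSplitMono_iCycles I⟩
  · apply HomologicalComplex.mono_of_mono_f
    intro i
    have h1 : f.f i ≫ (biprod.fst : I i ⊞ I (i + 1) ⟶ I i) = Injective.ι (A.X i) :=
      biprod.lift_fst _ _
    have : Mono (f.f i ≫ (biprod.fst : I i ⊞ I (i + 1) ⟶ I i)) := by
      rw [h1]; infer_instance
    exact mono_of_mono (f.f i) (biprod.fst : I i ⊞ I (i + 1) ⟶ I i)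
  · intro i
    show Injective (I i ⊞ I (i + 1))
    infer_instance


end helpers

/-- Let C be an abelian category in which every object embeds in an injective object, and let A be a
cochain complex of objects of C in degrees 0, 1, 2, .... Then there are a cochain complex Q, with
every Q^i injective, H^i(Q) = 0 for every i ≥ 1 and every cycle inclusion Z^i(Q) ⟶ Q^i (i ≥ 0) a
split monomorphism, and a monomorphism of complexes A ⟶ Q. (The published statement asks Z^i(Q) =
B^i(Q) for every i ≥ 0; in degree 0, where there is no incoming differential, this makes Z^0(Q) = 0,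
and then no complex with nonzero degree-0 cycles, for instance a nonzero object placed in degree 0,
embeds in such a Q, because the degree-0 component of a chain map into Q factors through Z^0(Q).
This row asks vanishing homology in positive degrees only; the published construction, which embeds
each A^i in an injective I^i and takes Q^i = I^i ⊕ I^{i+1}, proves that version once an injective
I^0 containing A^0 is used in degree 0 as well.) -/
theorem result {C : Type u} [Category.{v} C] [Abelian C]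
    [EnoughInjectives C] (A : CochainComplex C ℕ) :
    ∃ (Q : CochainComplex C ℕ) (f : A ⟶ Q), Mono f ∧ (∀ i : ℕ, Injective (Q.X i)) ∧
      (∀ i : ℕ, IsZero (Q.homology (i + 1))) ∧ ∀ i : ℕ, IsSplitMono (Q.iCycles i) := main A

end Groth.Agent.S8349
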