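import Groth.Statements.S8352
import Groth.Agent.Lib.Helper16.CompleteFiltration
import Mathlib.CategoryTheory.CofilteredSystem

set_option autoImplicit false
universe u
open CategoryTheory CategoryTheory.Limits Opposite
open HomAlg3

namespace Groth.Agent.S8352

/-- A compatible family along successor maps is a section. -/
theorem map_eq_of_succ (G : ℕᵒᵖ ⥤ Type u) (z : ∀ k : ℕ, G.obj (op k))
    (hz : ∀ k, G.map (homOfLE (Nat.le_succ k)).op (z (k + 1)) = z k) :
    ∀ (b a : ℕ) (h : b ≤ a), G.map (homOfLE h).op (z a) = z b := by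
  intro b a h
  induction a, h using Nat.le_induction with
  | base =>
    have : (homOfLE (le_refl b)).op = 𝟙 (op b) := Subsingleton.elim _ _
    rw [this, G.map_id]; rfl
  | succ a h ih =>
    have : (homOfLE (h.trans (Nat.le_succ a))).op =
        (homOfLE (Nat.le_succ a)).op ≫ (homOfLE h).op := Subsingleton.elim _ _
    rw [this, G.map_comp]
    show G.map _ (G.map _ _) = _
    rw [hz, ih]

theorem exists_section_of_mem_eventualRange (T : ℕᵒᵖ ⥤ Type u) (hT : T.IsMittagLeffler)
    (n : ℕ) (x : T.obj (op n)) (hx : x ∈ T.eventualRange (op n)) :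
    ∃ s : T.sections, s.1 (op n) = x := by
  obtain ⟨z, hz, hzn⟩ := Groth.Agent.Lib.Helper16.exists_compatible_family_of_surjective n
    (fun k => T.toEventualRanges.obj (op k))
    (fun k => T.toEventualRanges.map (homOfLE (Nat.le_succ k)).op)
    (fun k => Functor.surjective_toEventualRanges T hT _) ⟨x, hx⟩
  have key := map_eq_of_succ T.toEventualRanges z hz
  refine ⟨⟨fun j => (z j.unop).1, ?_⟩, ?_⟩
  · intro j j' f
    have h : j'.unop ≤ j.unop := leOfHom f.unop
    have hf : f = (homOfLE h).op := Subsingleton.elim _ _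
    have := congrArg Subtype.val (key j'.unop j.unop h)
    rw [hf]
    exact this
  · show (z n).1 = x
    rw [hzn]

theorem range_π_eq (F : ℕᵒᵖ ⥤ AddCommGrpCat.{u})
    (hF : (F ⋙ forget AddCommGrpCat).IsMittagLeffler) (n : ℕ) (x : F.obj (op n)) :
    x ∈ (limit.π F (op n)).hom.range ↔
      ∀ (k : ℕ) (hk : n ≤ k), x ∈ (F.map (homOfLE hk).op).hom.range := by
  constructor
  · rintro ⟨a, rfl⟩ k hk
    refine ⟨(limit.π F (op k)).hom a, ?_⟩
    have := limit.w F (homOfLE hk).op
    rw [← this]
    rfl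
  · intro h
    have hx : x ∈ (F ⋙ forget AddCommGrpCat).eventualRange (op n) := by
      rw [Functor.eventualRange]
      simp only [Set.mem_iInter]
      intro i f
      have hk : n ≤ i.unop := leOfHom f.unop
      obtain ⟨y, hy⟩ := h i.unop hk
      have hf : f = (homOfLE hk).op := Subsingleton.elim _ _
      refine ⟨y, ?_⟩
      rw [hf]
      exact hy
    obtain ⟨s, hs⟩ := exists_section_of_mem_eventualRange _ hF n x hx
    let t := isLimitOfPreserves (forget AddCommGrpCat) (limit.isLimit F)
    refine ⟨(Types.isLimitEquivSections t).symm s, ?_⟩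
    have := Types.isLimitEquivSections_symm_apply t s (op n)
    rw [hs] at this
    exact this

/-- Category of abelian groups, system indexed by the natural numbers: Let (A_k) be an inverse system of
abelian groups satisfying the Mittag-Leffler condition, A = lim A_k with projections π_p : A ⟶ A_p.
Filter A and each A_k by the kernels of the maps to A_{p-1} (with A_{-1} = 0); the graded piece
gr^p(A) is identified with Im(π_p) ∩ Ker(A_p ⟶ A_{p-1}) and gr^p(A_k), k ≥ p, with Im(A_k ⟶ A_p) ∩
Ker(A_p ⟶ A_{p-1}), a decreasing family of subgroups of A_p. The statement gr^p(A) ≅ lim_k gr^p(A_k)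
then reads: Im(π_0) = ⋂_k Im(A_k ⟶ A_0), and for every p, Im(π_{p+1}) ∩ Ker(A_{p+1} ⟶ A_p) = ⋂_{k ≥
p+1} (Im(A_k ⟶ A_{p+1}) ∩ Ker(A_{p+1} ⟶ A_p)). -/
theorem result (F : ℕᵒᵖ ⥤ AddCommGrpCat.{u})
    (hF : (F ⋙ forget AddCommGrpCat).IsMittagLeffler) :
    (limit.π F (op 0)).hom.range = ⨅ k : ℕ, (F.map (homOfLE (Nat.zero_le k)).op).hom.range ∧
      ∀ p : ℕ, (limit.π F (op (p + 1))).hom.range ⊓ (F.map (homOfLE (Nat.le_succ p)).op).hom.ker =
        ⨅ (k : ℕ) (hk : p + 1 ≤ k),
          (F.map (homOfLE hk).op).hom.range ⊓ (F.map (homOfLE (Nat.le_succ p)).op).hom.ker := by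
  constructor
  · ext x
    rw [range_π_eq F hF 0 x, AddSubgroup.mem_iInf]
    exact ⟨fun h k => h k (Nat.zero_le k), fun h k _ => h k⟩
  · intro p
    ext x
    simp only [AddSubgroup.mem_inf, AddSubgroup.mem_iInf]
    rw [range_π_eq F hF (p + 1) x]
    constructor
    · rintro ⟨h1, h2⟩ k hk
      exact ⟨h1 k hk, h2⟩
    · intro h
      exact ⟨fun k hk => (h k hk).1, (h (p + 1) le_rfl).2⟩

end Groth.Agent.S8352
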