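import Groth.Statements.S8353
import Mathlib

set_option autoImplicit false
universe u
open HomAlg3

namespace Groth.Agent.S8353

theorem smodEq_pow_iff {S : Type*} [CommRing S] (J : Ideal S) (k : ℕ) (x y : S) :
    x ≡ y [SMOD (J ^ k • ⊤ : Submodule S S)] ↔ x - y ∈ J ^ k := by
  rw [SModEq.sub_mem, smul_eq_mul, Ideal.mul_top]

theorem exists_coeffs_of_approx {S : Type*} [CommRing S] (J : Ideal S) [IsAdicComplete J S]
    {N : Type*} [AddCommGroup N] [Module S N] {T : Type*} [Fintype T] (g : T → N) (j : ℕ)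
    (K : ℕ → Submodule S N) (hsep : ∀ x, (∀ m, x ∈ K m) → x = 0)
    (hK : ∀ m t, ∀ a ∈ J ^ (j + m), a • g t ∈ K m)
    (step : ∀ m, ∀ x ∈ K m, ∃ c : T → S, (∀ t, c t ∈ J ^ (j + m)) ∧
      x - ∑ t, c t • g t ∈ K (m + 1)) :
    ∀ x ∈ K 0, ∃ a : T → S, (∀ t, a t ∈ J ^ j) ∧ x = ∑ t, a t • g t := by
  intro x hx
  choose! c hc1 hc2 using step
  let X : ℕ → N := fun k => Nat.rec x (fun k y => y - ∑ t, c k y t • g t) k
  have hX0 : X 0 = x := rfl
  have hXs : ∀ k, X (k + 1) = X k - ∑ t, c k (X k) t • g t := fun k => rfl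
  have hX : ∀ k, X k ∈ K k := by
    intro k
    induction k with
    | zero => simpa [hX0] using hx
    | succ k ih => rw [hXs]; exact hc2 k (X k) ih
  let s : ℕ → T → S := fun m t => ∑ k ∈ Finset.range m, c k (X k) t
  have hs : ∀ m, x - ∑ t, s m t • g t = X m := by
    intro m
    induction m with
    | zero => simp [s, hX0]
    | succ m ih =>
      have e : x - ∑ t, s (m + 1) t • g t =
          (x - ∑ t, s m t • g t) - ∑ t, c m (X m) t • g t := by
        simp only [s, Finset.sum_range_succ, add_smul, Finset.sum_add_distrib]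
        abel
      rw [e, ih, hXs]
  have hcauchy : ∀ t, ∃ W : S, ∀ n, s (n - j) t ≡ W [SMOD (J ^ n • ⊤ : Submodule S S)] := by
    intro t
    apply IsPrecomplete.prec' (I := J) (fun n => s (n - j) t)
    apply (AdicCompletion.isAdicCauchy_iff J S (fun n => s (n - j) t)).mpr
    intro n
    rw [smodEq_pow_iff]
    by_cases hn : n < j
    · have h1 : n - j = 0 := by omega
      have h2 : n + 1 - j = 0 := by omega
      rw [h1, h2, sub_self]
      exact Ideal.zero_mem _
    · have h2 : n + 1 - j = (n - j) + 1 := by omega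
      have : s (n - j) t - s (n + 1 - j) t = - c (n - j) (X (n - j)) t := by
        rw [h2]
        simp [s, Finset.sum_range_succ]
      rw [this]
      have h1 := hc1 (n - j) (X (n - j)) (hX _) t
      have h3 : j + (n - j) = n := by omega
      rw [h3] at h1
      exact (Ideal.neg_mem_iff _).mpr h1
  choose W hW using hcauchy
  have hWj : ∀ t, W t ∈ J ^ j := by
    intro t
    have := (smodEq_pow_iff J j _ _).mp (hW t j)
    rw [Nat.sub_self] at this
    simpa [s] using this
  have hWm : ∀ t m, s m t - W t ∈ J ^ (j + m) := by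
    intro t m
    have := (smodEq_pow_iff J (j + m) _ _).mp (hW t (j + m))
    rwa [Nat.add_sub_cancel_left] at this
  refine ⟨W, hWj, ?_⟩
  rw [← sub_eq_zero]
  apply hsep
  intro m
  have e : x - ∑ t, W t • g t = X m + ∑ t, (s m t - W t) • g t := by
    rw [← hs m]
    simp only [sub_smul, Finset.sum_sub_distrib]
    abel
  rw [e]
  exact Submodule.add_mem _ (hX m) (Submodule.sum_mem _ fun t _ => hK m t _ (hWm t m))


theorem exists_finset_of_fg_map_mkQ {S : Type*} [CommRing S] {M : Type*} [AddCommGroup M]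
    [Module S M] (A B : Submodule S M) (h : (A.map B.mkQ).FG) :
    ∃ G : Finset M, (↑G ⊆ (A : Set M)) ∧ A ≤ Submodule.span S (G : Set M) ⊔ B := by
  classical
  obtain ⟨T', hT'⟩ := h
  have h1 : ∀ t ∈ T', ∃ a ∈ A, B.mkQ a = t := fun t ht => by
    have : t ∈ A.map B.mkQ := hT' ▸ Submodule.subset_span ht
    exact this
  choose! a ha1 ha2 using h1
  refine ⟨T'.image a, ?_, ?_⟩
  · intro x hx
    simp only [Finset.coe_image, Set.mem_image, Finset.mem_coe] at hx
    obtain ⟨t, ht, rfl⟩ := hx
    exact ha1 t ht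
  · intro x hx
    have hx' : B.mkQ x ∈ Submodule.span S (T' : Set (M ⧸ B)) := hT' ▸ Submodule.mem_map_of_mem hx
    have h2 : (T' : Set (M ⧸ B)) = B.mkQ '' (T'.image a : Finset M) := by
      ext t
      simp only [Finset.coe_image, Set.mem_image, Finset.mem_coe, exists_exists_and_eq_and]
      constructor
      · intro ht
        exact ⟨t, ht, ha2 t ht⟩
      · rintro ⟨t', ht', rfl⟩
        rwa [ha2 t' ht']
    rw [h2, ← Submodule.map_span] at hx'
    obtain ⟨y, hy, hyx⟩ := hx'
    have h3 : x - y ∈ B := by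
      rw [← Submodule.Quotient.mk_eq_zero, Submodule.Quotient.mk_sub, sub_eq_zero]
      exact hyx.symm
    exact Submodule.mem_sup.mpr ⟨y, hy, x - y, h3, by abel⟩


theorem main {S : Type u} [CommRing S]
    (J : Ideal S) [IsAdicComplete J S] {M : Type u} [AddCommGroup M] [Module S M]
    (F : ℤ → Submodule S M) (hF : Antitone F) (p₀ : ℤ) (hp₀ : F p₀ = ⊤)
    (hJ : ∀ p : ℤ, J • F p ≤ F (p + 1)) (hsep : ⨅ p : ℤ, F p = ⊥)
    (hgr : ∀ p : ℤ, (Submodule.map (F (p + 1)).mkQ (F p)).FG)
    (p₁ : ℤ) (hp₁ : ∀ p : ℤ, p₁ ≤ p → F (p + 1) = J • F p ⊔ F (p + 2)) :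
    Module.Finite S M ∧ ∃ p₁ : ℤ, ∀ p : ℤ, p₁ ≤ p → J • F p = F (p + 1) := by
  classical
  obtain ⟨P, hP0, hP1⟩ : ∃ P : ℤ, p₀ ≤ P ∧ p₁ ≤ P := ⟨max p₀ p₁, le_max_left _ _, le_max_right _ _⟩
  obtain ⟨G, hG1, hG2⟩ := exists_finset_of_fg_map_mkQ (F P) (F (P + 1)) (hgr P)
  set N' : Submodule S M := Submodule.span S (G : Set M) with hN'
  have hN'P : N' ≤ F P := Submodule.span_le.mpr hG1
  -- two inductions
  have ind : ∀ j : ℕ, F (P + j) ≤ J ^ j • N' ⊔ F (P + j + 1) := by
    intro j
    induction j with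
    | zero => simpa using hG2
    | succ j ih =>
      have e1 : P + ((j + 1 : ℕ) : ℤ) = (P + j) + 1 := by push_cast; ring
      have e2 : P + ((j + 1 : ℕ) : ℤ) + 1 = (P + j) + 2 := by push_cast; ring
      rw [e1, hp₁ (P + j) (by omega), ← e1, e2]
      refine sup_le ?_ le_sup_right
      calc J • F (P + j) ≤ J • (J ^ j • N' ⊔ F (P + j + 1)) := Submodule.smul_mono le_rfl ih
        _ = J ^ (j + 1) • N' ⊔ J • F (P + j + 1) := by
          rw [Submodule.smul_sup, ← Submodule.mul_smul, ← pow_succ']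
        _ ≤ J ^ (j + 1) • N' ⊔ F (P + j + 2) := by
          refine sup_le_sup_left ?_ _
          have := hJ (P + j + 1)
          have e3 : P + (j : ℤ) + 1 + 1 = P + j + 2 := by ring
          rwa [e3] at this
  have ind2 : ∀ j : ℕ, J ^ j • N' ≤ F (P + j) := by
    intro j
    induction j with
    | zero => simpa using hN'P
    | succ j ih =>
      have e1 : P + ((j + 1 : ℕ) : ℤ) = (P + j) + 1 := by push_cast; ring
      rw [pow_succ', Submodule.mul_smul, e1]
      exact (Submodule.smul_mono le_rfl ih).trans (hJ _)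
  have hsep' : ∀ (j : ℕ) (x : M), (∀ m : ℕ, x ∈ F (P + j + m)) → x = 0 := by
    intro j x hx
    have : x ∈ ⨅ p : ℤ, F p := by
      rw [Submodule.mem_iInf]
      intro p
      exact hF (show p ≤ P + j + ((p - P - j).toNat : ℤ) by omega) (hx _)
    rwa [hsep, Submodule.mem_bot] at this
  have key : ∀ j : ℕ, F (P + j) = J ^ j • N' := by
    intro j
    refine le_antisymm ?_ (ind2 j)
    intro x hx
    have hrange : Submodule.span S (Set.range fun t : G => (t : M)) = N' := by
      rw [hN', Subtype.range_coe_subtype]; rfl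
    have hK : ∀ (m : ℕ) (t : G), ∀ a ∈ J ^ (j + m), a • (t : M) ∈ F (P + j + m) := by
      intro m t a ha
      have := ind2 (j + m) (Submodule.smul_mem_smul ha (Submodule.subset_span t.2))
      have e : P + ((j + m : ℕ) : ℤ) = P + j + m := by push_cast; ring
      rwa [e] at this
    have hstep : ∀ m : ℕ, ∀ x ∈ F (P + j + m), ∃ c : G → S, (∀ t, c t ∈ J ^ (j + m)) ∧
        x - ∑ t : G, c t • (t : M) ∈ F (P + j + (m + 1 : ℕ)) := by
      intro m x hx
      have e : P + ((j + m : ℕ) : ℤ) = P + j + m := by push_cast; ring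
      have h1 := ind (j + m)
      rw [e] at h1
      obtain ⟨y, hy, z, hz, rfl⟩ := Submodule.mem_sup.mp (h1 hx)
      rw [← hrange, Submodule.mem_ideal_smul_span_iff_exists_sum] at hy
      obtain ⟨c, hc, rfl⟩ := hy
      refine ⟨c, hc, ?_⟩
      rw [Finsupp.sum_fintype c (fun i c => c • (i : M)) (fun i => zero_smul _ _),
        add_sub_cancel_left]
      have e' : P + (j : ℤ) + ((m + 1 : ℕ) : ℤ) = P + j + m + 1 := by push_cast; ring
      rwa [e']
    obtain ⟨a, ha, rfl⟩ := exists_coeffs_of_approx J (fun t : G => (t : M)) j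
      (fun m => F (P + j + m)) (hsep' j) hK hstep x (by simpa using hx)
    exact Submodule.sum_mem _ fun t _ =>
      Submodule.smul_mem_smul (ha t) (Submodule.subset_span t.2)
  constructor
  · -- finiteness
    have hfg : ∀ n : ℕ, (F (P - n)).FG := by
      intro n
      induction n with
      | zero =>
        have := key 0
        simp only [Nat.cast_zero, add_zero, pow_zero, Ideal.one_eq_top, Submodule.top_smul] at this
        simp only [Nat.cast_zero, sub_zero]
        rw [this]
        exact Submodule.fg_span G.finite_toSet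
      | succ n ih =>
        have e : P - ((n + 1 : ℕ) : ℤ) + 1 = P - n := by push_cast; ring
        have h1 := hgr (P - ((n + 1 : ℕ) : ℤ))
        rw [e] at h1
        refine Submodule.fg_of_fg_map_of_fg_inf_ker (F (P - n)).mkQ h1 ?_
        rw [Submodule.ker_mkQ, inf_eq_right.mpr (hF (by push_cast; omega))]
        exact ih
    have := hfg (P - p₀).toNat
    have e : P - ((P - p₀).toNat : ℤ) = p₀ := by omega
    rw [e, hp₀] at this
    exact Module.finite_def.mpr this
  · refine ⟨P, fun p hp => ?_⟩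
    obtain ⟨j, rfl⟩ : ∃ j : ℕ, p = P + j := ⟨(p - P).toNat, by omega⟩
    have e1 : P + (j : ℤ) + 1 = P + ((j + 1 : ℕ) : ℤ) := by push_cast; ring
    rw [e1, key j, key (j + 1), pow_succ', Submodule.mul_smul]



/-- Let S be a Noetherian ring which is separated and complete for the adic topology of an ideal J, and
let M be an S-module with a decreasing filtration (F^p M)_{p ∈ ℤ} by submodules such that F^p M = M
for some p, J·F^p M ⊆ F^{p+1} M for all p, and ⋂_p F^p M = 0. Then the following are equivalent: (a)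
M is a finitely generated S-module and J·F^p M = F^{p+1} M for all large p; (c) every F^p M /
F^{p+1} M is a finitely generated S-module and, for all large p, the map J ⊗ (F^p M/F^{p+1} M) ⟶
F^{p+1} M/F^{p+2} M is surjective, that is F^{p+1} M = J·F^p M + F^{p+2} M. (The published statement
also lists a third equivalent condition, finite generation of the associated graded module over the
associated graded ring; this row states the equivalence of the other two.) -/
theorem result {S : Type u} [CommRing S] [IsNoetherianRing S]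
    (J : Ideal S) [IsAdicComplete J S] {M : Type u} [AddCommGroup M] [Module S M]
    (F : ℤ → Submodule S M) (hF : Antitone F) (hcod : ∃ p₀ : ℤ, F p₀ = ⊤)
    (hJ : ∀ p : ℤ, J • F p ≤ F (p + 1)) (hsep : ⨅ p : ℤ, F p = ⊥) :
    (Module.Finite S M ∧ ∃ p₁ : ℤ, ∀ p : ℤ, p₁ ≤ p → J • F p = F (p + 1)) ↔
      ((∀ p : ℤ, (Submodule.map (F (p + 1)).mkQ (F p)).FG) ∧
        ∃ p₁ : ℤ, ∀ p : ℤ, p₁ ≤ p → F (p + 1) = J • F p ⊔ F (p + 2)) := by
  constructor
  · rintro ⟨hfin, p₁, hp₁⟩
    have : IsNoetherian S M := isNoetherian_of_isNoetherianRing_of_finite S M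
    refine ⟨fun p => (IsNoetherian.noetherian (F p)).map _, p₁, fun p hp => ?_⟩
    rw [hp₁ p hp]
    exact (sup_of_le_left (hF (by omega))).symm
  · rintro ⟨hgr, p₁, hp₁⟩
    obtain ⟨p₀, hp₀⟩ := hcod
    exact main J F hF p₀ hp₀ hJ hsep hgr p₁ hp₁

end Groth.Agent.S8353
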