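import Groth.Statements.S8365
import Groth.Agent.Helper19.SchDomEpi
import Mathlib.RingTheory.Spectrum.Prime.Homeomorph
import Mathlib.AlgebraicGeometry.Limits
import Mathlib.Tactic
-- import your own Groth.Agent.* helpers here

set_option autoImplicit false
universe u
open CategoryTheory MonObj AlgebraicGeometry
open LieS

namespace Groth.Agent.S8365

section T
variable {S : Scheme.{u}} (B : Type u) [CommRing B] (f : Spec (CommRingCat.of B) ⟶ S)

section defs
variable (M : Type u) [AddCommGroup M] [Module B M] [Module Bᵐᵒᵖ M] [IsCentralScalar B M]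

/-- `Spec` of the square-zero extension `B ⊕ M`, over `S`. -/
noncomputable def tpt : Over S :=
  Over.mk (Spec.map (CommRingCat.ofHom (algebraMap B (TrivSqZeroExt B M))) ≫ f)

noncomputable def tproj : tpt B f M ⟶ pt B f :=
  Over.homMk (Spec.map (CommRingCat.ofHom (algebraMap B (TrivSqZeroExt B M)))) rfl

theorem fstHom_comp_algebraMap :
    (TrivSqZeroExt.fstHom B B M).toRingHom.comp (algebraMap B (TrivSqZeroExt B M)) = RingHom.id B :=
  RingHom.ext fun b => by simp

noncomputable def tzero : pt B f ⟶ tpt B f M :=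
  Over.homMk (Spec.map (CommRingCat.ofHom (TrivSqZeroExt.fstHom B B M).toRingHom)) (by
    change Spec.map _ ≫ Spec.map _ ≫ f = f
    rw [← Category.assoc, LieS.specMap_comp, fstHom_comp_algebraMap, CommRingCat.ofHom_id]
    erw [Spec.map_id]; exact Category.id_comp f)

end defs

variable {M N K : Type u} [AddCommGroup M] [Module B M] [Module Bᵐᵒᵖ M] [IsCentralScalar B M]
  [AddCommGroup N] [Module B N] [Module Bᵐᵒᵖ N] [IsCentralScalar B N]
  [AddCommGroup K] [Module B K] [Module Bᵐᵒᵖ K] [IsCentralScalar B K]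

theorem map_comp_algebraMap (ℓ : M →ₗ[B] N) :
    (TrivSqZeroExt.map ℓ).toRingHom.comp (algebraMap B (TrivSqZeroExt B M)) =
      algebraMap B (TrivSqZeroExt B N) :=
  RingHom.ext fun b => by simp [TrivSqZeroExt.algebraMap_eq_inl]

noncomputable def tmap (ℓ : M →ₗ[B] N) : tpt B f N ⟶ tpt B f M :=
  Over.homMk (Spec.map (CommRingCat.ofHom (TrivSqZeroExt.map ℓ).toRingHom)) (by
    change Spec.map _ ≫ Spec.map _ ≫ f = Spec.map _ ≫ f
    rw [← Category.assoc, LieS.specMap_comp, map_comp_algebraMap])

theorem tmap_comp (ℓ₁ : M →ₗ[B] N) (ℓ₂ : N →ₗ[B] K) :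
    tmap B f ℓ₂ ≫ tmap B f ℓ₁ = tmap B f (ℓ₂.comp ℓ₁) := by
  ext
  change Spec.map _ ≫ Spec.map _ = Spec.map _
  rw [LieS.specMap_comp, TrivSqZeroExt.map_comp_map]
  rfl

theorem tmap_id : tmap B f (LinearMap.id : M →ₗ[B] M) = 𝟙 _ := by
  ext
  change Spec.map _ = 𝟙 _
  rw [TrivSqZeroExt.map_id]
  erw [Spec.map_id]

theorem tmap_zero : tmap B f (0 : M →ₗ[B] N) = tproj B f N ≫ tzero B f M := by
  ext
  change Spec.map _ = Spec.map _ ≫ Spec.map _
  rw [LieS.specMap_comp]
  congr 2
  refine RingHom.ext fun x => ?_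
  refine TrivSqZeroExt.ext ?_ ?_ <;> simp [TrivSqZeroExt.algebraMap_eq_inl]

theorem tzero_tmap (ℓ : M →ₗ[B] N) : tzero B f N ≫ tmap B f ℓ = tzero B f M := by
  ext
  change Spec.map _ ≫ Spec.map _ = Spec.map _
  rw [LieS.specMap_comp]
  congr 2
  refine RingHom.ext fun x => ?_
  simp

/-- the two projections `D → B[ε]` as one map to the product -/
noncomputable def prodHom : TrivSqZeroExt B (B × B) →+* DualNumber B × DualNumber B :=
  (TrivSqZeroExt.map (LinearMap.fst B B B)).toRingHom.prod
    (TrivSqZeroExt.map (LinearMap.snd B B B)).toRingHom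

theorem prodHom_injective : Function.Injective (prodHom B) := by
  rw [injective_iff_map_eq_zero]
  intro x hx
  have h1 : TrivSqZeroExt.map (LinearMap.fst B B B) x = 0 := congrArg Prod.fst hx
  have h2 : TrivSqZeroExt.map (LinearMap.snd B B B) x = 0 := congrArg Prod.snd hx
  have h3 := congrArg TrivSqZeroExt.fst h1
  have h4 := congrArg TrivSqZeroExt.snd h1
  have h5 := congrArg TrivSqZeroExt.snd h2
  simp only [TrivSqZeroExt.fst_map, TrivSqZeroExt.snd_map, TrivSqZeroExt.fst_zero,
    TrivSqZeroExt.snd_zero, LinearMap.fst_apply, LinearMap.snd_apply] at h3 h4 h5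
  refine TrivSqZeroExt.ext h3 ?_
  exact Prod.ext h4 h5

theorem comap_map_fst_surjective :
    Function.Surjective (PrimeSpectrum.comap
      (TrivSqZeroExt.map (LinearMap.fst B B B)).toRingHom) := by
  refine (PrimeSpectrum.isHomeomorph_comap _ ?_ ?_).surjective
  · intro x
    refine ⟨1, one_pos, ⟨TrivSqZeroExt.inl x.fst + TrivSqZeroExt.inr (x.snd, 0), ?_⟩⟩
    refine TrivSqZeroExt.ext ?_ ?_ <;> simp
  · intro x hx
    rw [RingHom.mem_ker] at hx
    refine ⟨2, ?_⟩
    have hx' : x.fst = 0 := by
      have := congrArg TrivSqZeroExt.fst hx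
      simpa using this
    refine TrivSqZeroExt.ext ?_ ?_ <;> simp [pow_two, hx']

theorem comap_prodHom_surjective :
    Function.Surjective (PrimeSpectrum.comap (prodHom B)) := by
  intro p
  obtain ⟨q, rfl⟩ := comap_map_fst_surjective B p
  refine ⟨PrimeSpectrum.comap (RingHom.fst _ _) q, ?_⟩
  rw [← PrimeSpectrum.comap_comp_apply]
  rfl

theorem E_uniq {X : Over S} (c c' : tpt B f (B × B) ⟶ X)
    (h1 : tmap B f (LinearMap.fst B B B) ≫ c = tmap B f (LinearMap.fst B B B) ≫ c')
    (h2 : tmap B f (LinearMap.snd B B B) ≫ c = tmap B f (LinearMap.snd B B B) ≫ c') : c = c' := by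
  apply Over.OverMorphism.ext
  have h1' := congrArg (fun t => t.left) h1
  have h2' := congrArg (fun t => t.left) h2
  simp only [Over.comp_left] at h1' h2'
  refine Groth.Agent.Helper19.SchDomEpi.specMap_eq_of_comp_eq
    (CommRingCat.ofHom (R := TrivSqZeroExt B (B × B)) (S := DualNumber B × DualNumber B) (prodHom B))
    (prodHom_injective B) (comap_prodHom_surjective B) _ _ ?_
  rw [← cancel_epi (coprodSpec (DualNumber B) (DualNumber B))]
  apply Limits.coprod.hom_ext
  · rw [coprodSpec_inl_assoc, coprodSpec_inl_assoc, ← Category.assoc, ← Category.assoc,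
      LieS.specMap_comp]
    exact h1'
  · rw [coprodSpec_inr_assoc, coprodSpec_inr_assoc, ← Category.assoc, ← Category.assoc,
      LieS.specMap_comp]
    exact h2'

variable {X : Over S} [MonObj X]

theorem tmap_zero_comp (a : tpt B f B ⟶ X) (ha : tzero B f B ≫ a = 1) :
    tmap B f (0 : B →ₗ[B] M) ≫ a = 1 := by
  rw [tmap_zero, Category.assoc, ha, MonObj.comp_one]

/-- the key identity: `a * (neg ≫ a) = 1` for a point restricting to the unit section -/
theorem mul_neg_eq_one (a : tpt B f B ⟶ X) (ha : tzero B f B ≫ a = 1) :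
    a * (tmap B f (-LinearMap.id : B →ₗ[B] B) ≫ a) = 1 := by
  obtain ⟨a', ha'⟩ : ∃ a', a' = tmap B f (-LinearMap.id : B →ₗ[B] B) ≫ a := ⟨_, rfl⟩
  have ha'0 : tzero B f B ≫ a' = 1 := by
    rw [ha', ← Category.assoc, tzero_tmap, ha]
  rw [← ha']
  let c : tpt B f (B × B) ⟶ X :=
    (tmap B f (LinearMap.inl B B B) ≫ a) * (tmap B f (LinearMap.inr B B B) ≫ a')
  let c' : tpt B f (B × B) ⟶ X :=
    tmap B f ((LinearMap.inl B B B) - (LinearMap.inr B B B)) ≫ a
  have hcc' : c = c' := by
    apply E_uniq
    · show tmap B f (LinearMap.fst B B B) ≫ ((tmap B f (LinearMap.inl B B B) ≫ a) *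
        (tmap B f (LinearMap.inr B B B) ≫ a')) =
        tmap B f (LinearMap.fst B B B) ≫ tmap B f ((LinearMap.inl B B B) - (LinearMap.inr B B B)) ≫ a
      rw [MonObj.comp_mul, ← Category.assoc, ← Category.assoc, ← Category.assoc, tmap_comp,
        tmap_comp, tmap_comp]
      have e1 : (LinearMap.fst B B B).comp (LinearMap.inl B B B) = LinearMap.id := by ext; simp
      have e2 : (LinearMap.fst B B B).comp (LinearMap.inr B B B) = 0 := by ext; simp
      have e3 : (LinearMap.fst B B B).comp ((LinearMap.inl B B B) - (LinearMap.inr B B B)) =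
          LinearMap.id := by ext; simp
      rw [e1, e2, e3, tmap_id, Category.id_comp, tmap_zero_comp B f a' ha'0, _root_.mul_one]
    · show tmap B f (LinearMap.snd B B B) ≫ ((tmap B f (LinearMap.inl B B B) ≫ a) *
        (tmap B f (LinearMap.inr B B B) ≫ a')) =
        tmap B f (LinearMap.snd B B B) ≫ tmap B f ((LinearMap.inl B B B) - (LinearMap.inr B B B)) ≫ a
      rw [MonObj.comp_mul, ← Category.assoc, ← Category.assoc, ← Category.assoc, tmap_comp,
        tmap_comp, tmap_comp]
      have e1 : (LinearMap.snd B B B).comp (LinearMap.inl B B B) = 0 := by ext; simp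
      have e2 : (LinearMap.snd B B B).comp (LinearMap.inr B B B) = LinearMap.id := by ext; simp
      have e3 : (LinearMap.snd B B B).comp ((LinearMap.inl B B B) - (LinearMap.inr B B B)) =
          -LinearMap.id := by ext; simp
      rw [e1, e2, e3, tmap_id, Category.id_comp, tmap_zero_comp B f a ha, _root_.one_mul, ha']
  have h3 := congrArg (fun t => tmap B f (LinearMap.coprod LinearMap.id LinearMap.id : B × B →ₗ[B] B) ≫ t) hcc'
  simp only [c, c'] at h3
  rw [MonObj.comp_mul, ← Category.assoc, ← Category.assoc, ← Category.assoc, tmap_comp,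
    tmap_comp, tmap_comp] at h3
  have e1 : (LinearMap.coprod LinearMap.id LinearMap.id : B × B →ₗ[B] B).comp (LinearMap.inl B B B) =
      LinearMap.id := by ext; simp
  have e2 : (LinearMap.coprod LinearMap.id LinearMap.id : B × B →ₗ[B] B).comp (LinearMap.inr B B B) =
      LinearMap.id := by ext; simp
  have e3 : (LinearMap.coprod LinearMap.id LinearMap.id : B × B →ₗ[B] B).comp
      ((LinearMap.inl B B B) - (LinearMap.inr B B B)) = 0 := by ext; simp
  rw [e1, e2, e3, tmap_id, Category.id_comp, Category.id_comp, tmap_zero_comp B f a ha] at h3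
  exact h3

theorem isUnit_of_zero (a : tpt B f B ⟶ X) (ha : tzero B f B ≫ a = 1) : IsUnit a := by
  obtain ⟨a', ha'⟩ : ∃ a', a' = tmap B f (-LinearMap.id : B →ₗ[B] B) ≫ a := ⟨_, rfl⟩
  have ha'0 : tzero B f B ≫ a' = 1 := by
    rw [ha', ← Category.assoc, tzero_tmap, ha]
  have h1 : a * a' = 1 := ha' ▸ mul_neg_eq_one B f a ha
  have h2 : a' * a = 1 := by
    have := mul_neg_eq_one B f a' ha'0
    rw [ha', ← Category.assoc, tmap_comp] at this
    have e : (-LinearMap.id : B →ₗ[B] B).comp (-LinearMap.id) = LinearMap.id := by ext; simp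
    rw [e, tmap_id, Category.id_comp, ← ha'] at this
    exact this
  exact ⟨⟨a, a', h1, h2⟩, rfl⟩

end T

/-- For a monoid scheme X over a scheme S (an associative unital monoid object in S-schemes) and an
affine S-scheme T = Spec B, a point of X with values in the dual numbers over T is invertible if and
only if its restriction along the zero section ε = 0 is invertible in X(T); in particular every such
point restricting to the unit section is invertible. (The published statement is for monoid-valued
functors satisfying a tangent-space exactness condition, which every representable functor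
satisfies, and its special case where the restriction is the unit section allows unital composition
laws that need not be associative; this row treats monoid schemes only.) -/
theorem result (S : Scheme.{u}) (X : Over S) [MonObj X] (B : Type u) [CommRing B]
    (f : Spec (CommRingCat.of B) ⟶ S) (v : LieS.dpt B f ⟶ X) :
    IsUnit v ↔ IsUnit (LieS.zeroSec B f ≫ v) := by
  let pre : ∀ {T T' : Over S} (t : T ⟶ T'), (T' ⟶ X) →* (T ⟶ X) := fun t =>
    { toFun := fun w => t ≫ w
      map_one' := MonObj.comp_one _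
      map_mul' := fun _ _ => MonObj.comp_mul _ _ _ }
  constructor
  · intro hv
    exact hv.map (pre (LieS.zeroSec B f))
  · rintro ⟨u, hu⟩
    obtain ⟨u', hu'⟩ : ∃ u' : pt B f ⟶ X, u' = ↑u⁻¹ := ⟨_, rfl⟩
    have h1 : (LieS.zeroSec B f ≫ v) * u' = 1 := by rw [← hu, hu']; exact u.mul_inv
    have h2 : u' * (LieS.zeroSec B f ≫ v) = 1 := by rw [← hu, hu']; exact u.inv_mul
    have hv' : IsUnit (v * (LieS.proj B f ≫ u')) := by
      apply isUnit_of_zero B f (X := X) (show tpt B f B ⟶ X from v * (LieS.proj B f ≫ u'))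
      show LieS.zeroSec B f ≫ (v * (LieS.proj B f ≫ u')) = 1
      rw [MonObj.comp_mul, ← Category.assoc, LieS.zeroSec_proj, Category.id_comp, h1]
    have hpu : IsUnit (LieS.proj B f ≫ (LieS.zeroSec B f ≫ v)) :=
      (show IsUnit (LieS.zeroSec B f ≫ v) from ⟨u, hu⟩).map (pre (LieS.proj B f))
    have hv2 : v = (v * (LieS.proj B f ≫ u')) * (LieS.proj B f ≫ (LieS.zeroSec B f ≫ v)) := by
      rw [_root_.mul_assoc, ← MonObj.comp_mul, h2, MonObj.comp_one, _root_.mul_one]
    rw [hv2]
    exact hv'.mul hpu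

end Groth.Agent.S8365
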