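import Groth.Statements.S8357
import Groth.Agent.S8365
import Mathlib.Tactic
-- import your own Groth.Agent.* helpers here

set_option autoImplicit false
universe u
open CategoryTheory MonObj AlgebraicGeometry
open LieS

namespace Groth.Agent.S8357

open Groth.Agent.S8365

section
variable {S : Scheme.{u}} (B : Type u) [CommRing B] (f : Spec (CommRingCat.of B) ⟶ S)

theorem scale_eq_tmap (b : B) :
    LieS.scale B f b = tmap B f (b • (LinearMap.id : B →ₗ[B] B)) := by
  ext
  change Spec.map _ = Spec.map _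
  congr 2
  refine RingHom.ext fun x => ?_
  refine TrivSqZeroExt.ext ?_ ?_ <;>
    simp [LieS.scaleHom, LieS.dualHom_apply, TrivSqZeroExt.algebraMap_eq_inl, mul_comm]

variable {X : Over S} [MonObj X]

theorem smul_mul_smul (a : tpt B f B ⟶ X) (ha : tzero B f B ≫ a = 1) (b₁ b₂ : B) :
    (tmap B f (b₁ • (LinearMap.id : B →ₗ[B] B)) ≫ a) * (tmap B f (b₂ • (LinearMap.id : B →ₗ[B] B)) ≫ a) =
      tmap B f ((b₁ + b₂) • (LinearMap.id : B →ₗ[B] B)) ≫ a := by
  obtain ⟨a₁, ha₁⟩ : ∃ a₁, a₁ = tmap B f (b₁ • (LinearMap.id : B →ₗ[B] B)) ≫ a := ⟨_, rfl⟩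
  obtain ⟨a₂, ha₂⟩ : ∃ a₂, a₂ = tmap B f (b₂ • (LinearMap.id : B →ₗ[B] B)) ≫ a := ⟨_, rfl⟩
  have ha₁0 : tzero B f B ≫ a₁ = 1 := by rw [ha₁, ← Category.assoc, tzero_tmap, ha]
  have ha₂0 : tzero B f B ≫ a₂ = 1 := by rw [ha₂, ← Category.assoc, tzero_tmap, ha]
  rw [← ha₁, ← ha₂]
  obtain ⟨ℓ, hℓ⟩ : ∃ ℓ : B →ₗ[B] B × B, ℓ = b₁ • LinearMap.inl B B B + b₂ • LinearMap.inr B B B :=
    ⟨_, rfl⟩
  have hcc' : (tmap B f (LinearMap.inl B B B) ≫ a₁) * (tmap B f (LinearMap.inr B B B) ≫ a₂) =
      tmap B f ℓ ≫ a := by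
    apply E_uniq
    · rw [MonObj.comp_mul, ← Category.assoc, ← Category.assoc, ← Category.assoc, tmap_comp,
        tmap_comp, tmap_comp]
      have e1 : (LinearMap.fst B B B).comp (LinearMap.inl B B B) = LinearMap.id := by ext; simp
      have e2 : (LinearMap.fst B B B).comp (LinearMap.inr B B B) = 0 := by ext; simp
      have e3 : (LinearMap.fst B B B).comp ℓ = b₁ • LinearMap.id := by rw [hℓ]; ext; simp
      rw [e1, e2, e3, tmap_id, Category.id_comp, tmap_zero_comp B f a₂ ha₂0, _root_.mul_one, ha₁]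
    · rw [MonObj.comp_mul, ← Category.assoc, ← Category.assoc, ← Category.assoc, tmap_comp,
        tmap_comp, tmap_comp]
      have e1 : (LinearMap.snd B B B).comp (LinearMap.inl B B B) = 0 := by ext; simp
      have e2 : (LinearMap.snd B B B).comp (LinearMap.inr B B B) = LinearMap.id := by ext; simp
      have e3 : (LinearMap.snd B B B).comp ℓ = b₂ • LinearMap.id := by rw [hℓ]; ext; simp
      rw [e1, e2, e3, tmap_id, Category.id_comp, tmap_zero_comp B f a₁ ha₁0, _root_.one_mul, ha₂]
  have h3 := congrArg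
    (fun t => tmap B f (LinearMap.coprod LinearMap.id LinearMap.id : B × B →ₗ[B] B) ≫ t) hcc'
  rw [MonObj.comp_mul, ← Category.assoc, ← Category.assoc, ← Category.assoc, tmap_comp,
    tmap_comp, tmap_comp] at h3
  have e1 : (LinearMap.coprod LinearMap.id LinearMap.id : B × B →ₗ[B] B).comp (LinearMap.inl B B B) =
      LinearMap.id := by ext; simp
  have e2 : (LinearMap.coprod LinearMap.id LinearMap.id : B × B →ₗ[B] B).comp (LinearMap.inr B B B) =
      LinearMap.id := by ext; simp
  have e3 : (LinearMap.coprod LinearMap.id LinearMap.id : B × B →ₗ[B] B).comp ℓ =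
      (b₁ + b₂) • LinearMap.id := by rw [hℓ]; ext; simp
  rw [e1, e2, e3, tmap_id, Category.id_comp, Category.id_comp] at h3
  exact h3

end

/-- For a group scheme G over a scheme S and an affine S-scheme T = Spec B, the map induced on
Lie(G/S)(T) by the n-th power map of G is multiplication by n; that is, for v in Lie(G/S)(T) and an
integer n, the n-th power of v in the group law inherited from G is the rescaling of v by the image
of n in B. -/
theorem result (S : Scheme.{u}) (G : Over S) [GrpObj G] (B : Type u) [CommRing B]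
    (f : Spec (CommRingCat.of B) ⟶ S) (v : LieS.Lie G B f) (n : ℤ) :
    v ^ n = ((n : B) • v : LieS.Lie G B f) := by
  have hv0 : tzero B f B ≫ (show tpt B f B ⟶ G from v.1) = 1 := v.2
  have hsm : ∀ b : B, (b • v).1 = tmap B f (b • (LinearMap.id : B →ₗ[B] B)) ≫
      (show tpt B f B ⟶ G from v.1) := by
    intro b
    rw [LieS.smul_val, scale_eq_tmap]
    rfl
  have hadd : ∀ b₁ b₂ : B, (b₁ • v) * (b₂ • v) = (b₁ + b₂) • v := by
    intro b₁ b₂
    apply Subtype.ext
    rw [Subgroup.coe_mul, hsm, hsm, hsm]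
    exact smul_mul_smul B f _ hv0 b₁ b₂
  have hone : (1 : B) • v = v := by
    apply Subtype.ext
    rw [hsm, one_smul, tmap_id]
    exact Category.id_comp _
  have hzero : (0 : B) • v = 1 := by
    apply Subtype.ext
    rw [hsm, zero_smul]
    exact tmap_zero_comp B f _ hv0
  have hnat : ∀ k : ℕ, v ^ k = ((k : B) • v : LieS.Lie G B f) := by
    intro k
    induction k with
    | zero => rw [pow_zero, Nat.cast_zero, hzero]
    | succ k ih =>
      rw [pow_succ, ih, Nat.cast_succ]
      conv_lhs => rw [← hone]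
      rw [hone]
      conv_lhs => rw [show ((k : B) • v) * v = ((k : B) • v) * ((1 : B) • v) by rw [hone]]
      rw [hadd]
  cases n with
  | ofNat k => simpa using hnat k
  | negSucc k =>
    rw [zpow_negSucc, hnat, inv_eq_iff_eq_inv, eq_comm, inv_eq_iff_mul_eq_one, hadd]
    rw [Int.cast_negSucc, neg_add_cancel, hzero]

end Groth.Agent.S8357
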