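import Groth.Statements.S8361
import Groth.Agent.Helper19.SchDomEpi
import Mathlib.RingTheory.Spectrum.Prime.Homeomorph
import Mathlib.Tactic
-- import your own Groth.Agent.* helpers here

set_option autoImplicit false
universe u
open CategoryTheory MonObj AlgebraicGeometry
open LieS

namespace Groth.Agent.S8361

theorem mulHom_injective (B : Type u) [CommRing B] : Function.Injective (LieS.mulHom B) := by
  rw [injective_iff_map_eq_zero]
  intro x hx
  have h1 := congrArg (fun t : D2 B => t.fst.fst) hx
  have h2 := congrArg (fun t : D2 B => t.snd.snd) hx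
  simp [LieS.mulHom, LieS.dualHom_apply, TrivSqZeroExt.algebraMap_eq_inl'] at h1 h2
  exact TrivSqZeroExt.ext h1 h2

theorem fst_comp_mulHom (B : Type u) [CommRing B] :
    ((TrivSqZeroExt.fstHom B B B).toRingHom.comp
      (TrivSqZeroExt.fstHom (DualNumber B) (DualNumber B) (DualNumber B)).toRingHom).comp (LieS.mulHom B) =
      (TrivSqZeroExt.fstHom B B B).toRingHom := by
  refine RingHom.ext fun x => ?_
  simp [LieS.mulHom, LieS.dualHom_apply, TrivSqZeroExt.algebraMap_eq_inl']

theorem comap_fst_surjective (B : Type u) [CommRing B] :
    Function.Surjective (PrimeSpectrum.comap (TrivSqZeroExt.fstHom B B B).toRingHom) := by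
  refine (PrimeSpectrum.isHomeomorph_comap _ ?_ ?_).surjective
  · intro x
    exact ⟨1, one_pos, ⟨TrivSqZeroExt.inl x, by simp⟩⟩
  · intro x hx
    rw [RingHom.mem_ker] at hx
    refine ⟨2, ?_⟩
    have hx' : x.fst = 0 := by simpa using hx
    ext <;> simp [pow_two, hx']

theorem comap_mulHom_surjective (B : Type u) [CommRing B] :
    Function.Surjective (PrimeSpectrum.comap (CommRingCat.ofHom (R := DualNumber B) (S := D2 B) (LieS.mulHom B)).hom) := by
  intro p
  obtain ⟨p0, rfl⟩ := comap_fst_surjective B p
  refine ⟨PrimeSpectrum.comap ((TrivSqZeroExt.fstHom B B B).toRingHom.comp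
      (TrivSqZeroExt.fstHom (DualNumber B) (DualNumber B) (DualNumber B)).toRingHom) p0, ?_⟩
  have := fst_comp_mulHom B
  rw [← PrimeSpectrum.comap_comp_apply]
  exact congrArg (fun t => PrimeSpectrum.comap t p0) this

/-- Uniqueness of the bracket: for a group scheme G over a scheme S and an affine S-scheme T = Spec B:
an element of Lie(G/S)(T) is determined by its pull-back along the coordinate-multiplying map from
the iterated dual numbers over T to the dual numbers over T; in particular the bracket of x and y,
the element whose pull-back is the commutator of x read in the second dual coordinate with y read in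
the first, is unique when it exists. -/
theorem result (S : Scheme.{u}) (G : Over S) [GrpObj G] (B : Type u) [CommRing B]
    (f : Spec (CommRingCat.of B) ⟶ S) (x y z z' : LieS.Lie G B f)
    (h : LieS.IsBracket G B f x y z) (h' : LieS.IsBracket G B f x y z') : z = z' := by
  have heq : mulMap B f ≫ z.1 = mulMap B f ≫ z'.1 := h.trans h'.symm
  have hleft := congrArg (fun t => t.left) heq
  simp only [Over.comp_left] at hleft
  apply Subtype.ext
  apply Over.OverMorphism.ext
  exact Groth.Agent.Helper19.SchDomEpi.specMap_eq_of_comp_eq (CommRingCat.ofHom (R := DualNumber B) (S := D2 B) (LieS.mulHom B))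
    (mulHom_injective B) (comap_mulHom_surjective B) _ _ hleft

end Groth.Agent.S8361
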