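import Groth.Statements.S8362
import Mathlib

set_option autoImplicit false
universe u
open CategoryTheory AlgebraicGeometry
open SGA3

namespace Groth.Agent.S8362

section helpers
open CategoryTheory.Limits

/-- ring-level lemma -/
theorem bijective_of_sq_zero {R A B : Type*} [CommRing R] [CommRing A] [CommRing B]
    (J : Ideal R) (hJ : J * J = ⊥) (σA : R →+* A) (σB : R →+* B) (φ ρ : A →+* B)
    (hφ : φ.comp σA = σB) (hρ : ρ.comp σA = σB) (hρb : Function.Bijective ρ)
    (h : ∀ a, φ a - ρ a ∈ J.map σB) : Function.Bijective φ := by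
  have hφ' : ∀ r, φ (σA r) = σB r := fun r => RingHom.congr_fun hφ r
  have hρ' : ∀ r, ρ (σA r) = σB r := fun r => RingHom.congr_fun hρ r
  have hsq : J.map σB * J.map σB = ⊥ := by rw [← Ideal.map_mul, hJ, Ideal.map_bot]
  have hmapφ : (J.map σA).map φ = J.map σB := by rw [Ideal.map_map, hφ]
  have hmapρ : (J.map σA).map ρ = J.map σB := by rw [Ideal.map_map, hρ]
  -- φ and ρ agree on J.map σA
  have hF : ∀ x ∈ J.map σA, φ x = ρ x := by
    intro x hx
    refine Submodule.span_induction (p := fun x _ => φ x = ρ x) ?_ ?_ ?_ ?_ hx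
    · rintro _ ⟨j, hj, rfl⟩
      rw [hφ', hρ']
    · simp
    · intro x y _ _ hx hy
      rw [map_add, map_add, hx, hy]
    · intro a x hxmem hx
      rw [smul_eq_mul, map_mul, map_mul, ← hx]
      have h1 : (φ a - ρ a) * φ x ∈ J.map σB * J.map σB := by
        refine Ideal.mul_mem_mul (h a) ?_
        rw [← hmapφ]
        exact Ideal.mem_map_of_mem φ hxmem
      rw [hsq, Ideal.mem_bot, sub_mul, sub_eq_zero] at h1
      exact h1
  -- elements with ρ-image in J.map σB
  have hback : ∀ a, ρ a ∈ J.map σB → a ∈ J.map σA := by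
    intro a ha
    rw [← hmapρ, Ideal.mem_map_iff_of_surjective ρ hρb.2] at ha
    obtain ⟨x, hx, hxa⟩ := ha
    rwa [← hρb.1 hxa]
  constructor
  · rw [injective_iff_map_eq_zero]
    intro a ha
    have h1 : ρ a ∈ J.map σB := by
      have := h a
      rw [ha, zero_sub, neg_mem_iff] at this
      exact this
    have h2 := hF a (hback a h1)
    rw [ha] at h2
    exact (injective_iff_map_eq_zero ρ).mp hρb.1 a h2.symm
  · intro b
    obtain ⟨a₀, rfl⟩ := hρb.2 b
    have h1 := h a₀
    rw [← hmapρ, Ideal.mem_map_iff_of_surjective ρ hρb.2] at h1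
    obtain ⟨x, hx, hxa⟩ := h1
    refine ⟨a₀ - x, ?_⟩
    rw [map_sub, hF x hx, hxa]
    ring



theorem surjective_SpecMap_mk {R : Type u} [CommRing R] (J : Ideal R) (hJ : J * J = ⊥) :
    Surjective (Spec.map (CommRingCat.ofHom (Ideal.Quotient.mk J))) := by
  rw [surjective_iff]
  intro p
  have hp : p ∈ PrimeSpectrum.zeroLocus (J : Set R) := by
    have : PrimeSpectrum.zeroLocus (J : Set R) = Set.univ := by
      rw [PrimeSpectrum.zeroLocus_eq_univ_iff]
      intro x hx
      refine ⟨2, ?_⟩
      have : x * x ∈ J * J := Ideal.mul_mem_mul hx hx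
      rw [hJ, Ideal.mem_bot] at this
      rw [pow_two, this]; exact Ideal.zero_mem _
    rw [this]; trivial
  have h2 := _root_.range_comap_of_surjective (R ⧸ J) (Ideal.Quotient.mk J)
    Ideal.Quotient.mk_surjective
  rw [Ideal.mk_ker] at h2
  rw [← h2] at hp
  exact hp


set_option backward.isDefEq.respectTransparency false in
theorem main {R : Type u} [CommRing R] (J : Ideal R) (hJ : J * J = ⊥) (X : Scheme.{u})
    (f : X ⟶ Spec (CommRingCat.of R)) (u : X ⟶ X) (huf : u ≫ f = f)
    (hi : pullback.fst f (Spec.map (CommRingCat.ofHom (Ideal.Quotient.mk J))) ≫ u =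
      pullback.fst f (Spec.map (CommRingCat.ofHom (Ideal.Quotient.mk J)))) : IsIso u := by
  -- identity on points
  have hsurj : Surjective (pullback.fst f (Spec.map (CommRingCat.ofHom (Ideal.Quotient.mk J)))) := by
    have := surjective_SpecMap_mk J hJ
    infer_instance
  have hpt : ∀ x : X, u x = x := by
    intro x
    obtain ⟨y, rfl⟩ := hsurj.surj x
    rw [← Scheme.Hom.comp_apply, hi]
  have hpre : ∀ W : X.Opens, u ⁻¹ᵁ W = W := by
    intro W
    ext x
    show u x ∈ W ↔ x ∈ W
    rw [hpt]
  have key : ∀ W : X.Opens, IsAffineOpen W → IsIso (u.app W) := by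
    intro W hW
    have hV : IsAffineOpen (u ⁻¹ᵁ W) := by rw [hpre]; exact hW
    have hVW : u ⁻¹ᵁ W ≤ W := (hpre W).le
    let φ : Γ(X, W) ⟶ Γ(X, u ⁻¹ᵁ W) := u.app W
    let ρ : Γ(X, W) ⟶ Γ(X, u ⁻¹ᵁ W) := X.presheaf.map (homOfLE hVW).op
    let σW : CommRingCat.of R ⟶ Γ(X, W) := Spec.preimage (hW.fromSpec ≫ f)
    let σV : CommRingCat.of R ⟶ Γ(X, u ⁻¹ᵁ W) := Spec.preimage (hV.fromSpec ≫ f)
    have F1 : Spec.map φ ≫ hW.fromSpec = hV.fromSpec ≫ u := by
      have := hW.SpecMap_appLE_fromSpec u hV le_rfl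
      rwa [Scheme.Hom.appLE_eq_app] at this
    have F2 : Spec.map ρ ≫ hW.fromSpec = hV.fromSpec := hW.map_fromSpec hV (homOfLE hVW).op
    have F3W : Spec.map σW = hW.fromSpec ≫ f := Spec.map_preimage _
    have F3V : Spec.map σV = hV.fromSpec ≫ f := Spec.map_preimage _
    have hσφ : σW ≫ φ = σV := Spec.map_injective (by
      rw [Spec.map_comp, F3W, ← Category.assoc, F1, Category.assoc, huf, F3V])
    have hσρ : σW ≫ ρ = σV := Spec.map_injective (by
      rw [Spec.map_comp, F3W, ← Category.assoc, F2, F3V])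
    -- quotient
    let q : Γ(X, u ⁻¹ᵁ W) ⟶ CommRingCat.of (Γ(X, u ⁻¹ᵁ W) ⧸ J.map σV.hom) :=
      CommRingCat.ofHom (Ideal.Quotient.mk (J.map σV.hom))
    have hkill : ∀ j ∈ J, (q.hom.comp σV.hom) j = 0 := fun j hj =>
      Ideal.Quotient.eq_zero_iff_mem.mpr (Ideal.mem_map_of_mem _ hj)
    let ℓ : CommRingCat.of (R ⧸ J) ⟶ CommRingCat.of (Γ(X, u ⁻¹ᵁ W) ⧸ J.map σV.hom) :=
      CommRingCat.ofHom (Ideal.Quotient.lift J (q.hom.comp σV.hom) hkill)
    have hℓ : CommRingCat.ofHom (Ideal.Quotient.mk J) ≫ ℓ = σV ≫ q := by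
      ext r
      simp [ℓ]
    have hzf : (Spec.map q ≫ hV.fromSpec) ≫ f =
        Spec.map ℓ ≫ Spec.map (CommRingCat.ofHom (Ideal.Quotient.mk J)) := by
      rw [← Spec.map_comp, hℓ, Spec.map_comp, F3V, Category.assoc]
    have hzu : (Spec.map q ≫ hV.fromSpec) ≫ u = Spec.map q ≫ hV.fromSpec := by
      have h1 : pullback.lift (Spec.map q ≫ hV.fromSpec) (Spec.map ℓ) hzf ≫ pullback.fst _ _ =
          Spec.map q ≫ hV.fromSpec := pullback.lift_fst _ _ _
      rw [← h1, Category.assoc, hi]
    have hφρ : φ ≫ q = ρ ≫ q := by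
      apply Spec.map_injective
      rw [← cancel_mono hW.fromSpec, Spec.map_comp, Spec.map_comp, Category.assoc, Category.assoc,
        F1, F2, ← Category.assoc, hzu]
    have hρiso : IsIso ρ := by
      have e : homOfLE hVW = eqToHom (hpre W) := Subsingleton.elim _ _
      show IsIso (X.presheaf.map (homOfLE hVW).op)
      rw [e]
      infer_instance
    have hbij : Function.Bijective φ.hom := by
      refine bijective_of_sq_zero J hJ σW.hom σV.hom φ.hom ρ.hom ?_ ?_ ?_ ?_
      · rw [← CommRingCat.hom_comp, hσφ]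
      · rw [← CommRingCat.hom_comp, hσρ]
      · exact ConcreteCategory.bijective_of_isIso ρ
      · intro a
        rw [← Ideal.Quotient.eq]
        exact congrArg (fun g => g.hom a) hφρ
    exact (ConcreteCategory.isIso_iff_bijective φ).mpr hbij
  have h := HasAffineProperty.of_iSup_eq_top (P := MorphismProperty.isomorphisms Scheme)
    (Q := fun X _ f _ ↦ IsAffine X ∧ IsIso (f.appTop)) (f := u)
    (fun W : X.affineOpens => W) (iSup_affineOpens_eq_top X) (by
      intro W
      refine ⟨?_, ?_⟩
      · have : IsAffineOpen (u ⁻¹ᵁ W.1) := by rw [hpre]; exact W.2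
        exact this
      · rw [morphismRestrict_appTop]
        have : IsIso (u.app (W.1.ι ''ᵁ ⊤)) :=
          key _ (by rw [Scheme.Opens.ι_image_top]; exact W.2)
        infer_instance)
  exact h


end helpers

/-- Over an affine base S = Spec R with S₀ = Spec (R/J) for an ideal J of square zero: for an arbitrary
S-scheme X, every S-endomorphism of X inducing the identity on X ×_S S₀ is an automorphism. (The
published statement is over an arbitrary base scheme with a quasi-coherent ideal of square zero;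
this row is its case of an affine base, to which it reduces since being an isomorphism is local on
the base.) -/
theorem result (R : Type u) [CommRing R] (J : Ideal R) (hJ : J * J = ⊥)
    (X : Over (Spec (CommRingCat.of R))) (u : X ⟶ X)
    (h : (Over.pullback (Spec.map (CommRingCat.ofHom (Ideal.Quotient.mk J)))).map u = 𝟙 _) :
    IsIso u := by
  have h1 := congrArg (fun m => m.left ≫ Limits.pullback.fst X.hom
    (Spec.map (CommRingCat.ofHom (Ideal.Quotient.mk J)))) h
  simp only [Over.pullback_map_left, Over.id_left, Category.id_comp] at h1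
  rw [Limits.pullback.lift_fst] at h1
  have h2 : IsIso u.left := main J hJ X.left X.hom u.left (Over.w u) h1
  have h3 : IsIso ((Over.forget _).map u) := h2
  exact isIso_of_reflects_iso u (Over.forget _)

end Groth.Agent.S8362
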