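import Groth.Statements.S8364
import Mathlib.Tactic

set_option autoImplicit false
universe u
open SGA3

namespace Groth.Agent.S8364

/-- An `R`-algebra endomorphism of `A` congruent to the identity modulo `J A`, with `J` of square
zero, is bijective. -/
theorem bijective_of_sub_mem (R A : Type u) [CommRing R] [CommRing A] [Algebra R A]
    (J : Ideal R) (hJ : J * J = ⊥) (u : A →ₐ[R] A)
    (hu : ∀ a, u a - a ∈ Ideal.map (algebraMap R A) J) : Function.Bijective u := by
  set I := Ideal.map (algebraMap R A) J with hI
  -- `u` fixes `I` pointwise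
  have hfix : ∀ i ∈ I, u i = i := by
    intro i hi
    refine Submodule.span_induction (p := fun i _ => u i = i) ?_ ?_ ?_ ?_ hi
    · rintro _ ⟨j, hj, rfl⟩
      simp
    · simp
    · intro x y _ _ hx hy
      rw [map_add, hx, hy]
    · intro a x hx ihx
      rw [smul_eq_mul, map_mul, ihx]
      have h1 : (u a - a) * x = 0 := by
        have hmem : (u a - a) * x ∈ I * I := Ideal.mul_mem_mul (hu a) hx
        have hII : I * I = ⊥ := by
          rw [hI, ← Ideal.map_mul, hJ, Ideal.map_bot]
        rw [hII] at hmem
        exact hmem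
      linear_combination h1
  constructor
  · rw [injective_iff_map_eq_zero]
    intro a ha
    have h1 : a ∈ I := by
      have := hu a
      rw [ha, zero_sub] at this
      simpa using I.neg_mem this
    rw [← hfix a h1]; exact ha
  · intro b
    refine ⟨b - (u b - b), ?_⟩
    rw [map_sub, hfix _ (hu b)]
    ring

/-- For a commutative ring R, an ideal J of R of square zero, a smooth R-algebra A and the extended
ideal I = J·A, every R-algebra automorphism of A/I lifts to an R-algebra automorphism of A. (The
published statement concerns the automorphism functor of a smooth affine S-scheme E and affine test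
schemes Y; this row is the case Y = S = Spec R, E = Spec A, which gives the general one after
replacing R by the ring of Y.) -/
theorem result (R A : Type u) [CommRing R] [CommRing A] [Algebra R A]
    [Algebra.Smooth R A] (J : Ideal R) (hJ : J * J = ⊥)
    (φ₀ : (A ⧸ Ideal.map (algebraMap R A) J) ≃ₐ[R] (A ⧸ Ideal.map (algebraMap R A) J)) :
    ∃ φ : A ≃ₐ[R] A,
      (Ideal.Quotient.mkₐ R (Ideal.map (algebraMap R A) J)).comp φ.toAlgHom =
        φ₀.toAlgHom.comp (Ideal.Quotient.mkₐ R (Ideal.map (algebraMap R A) J)) := by
  have hII : (Ideal.map (algebraMap R A) J) * (Ideal.map (algebraMap R A) J) = ⊥ := by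
    rw [← Ideal.map_mul, hJ, Ideal.map_bot]
  have hnil : IsNilpotent (Ideal.map (algebraMap R A) J) := ⟨2, by rw [pow_two, hII]; rfl⟩
  obtain ⟨φ, hφ⟩ := Algebra.FormallySmooth.exists_lift (Ideal.map (algebraMap R A) J) hnil
    (φ₀.toAlgHom.comp (Ideal.Quotient.mkₐ R (Ideal.map (algebraMap R A) J)))
  obtain ⟨ψ, hψ⟩ := Algebra.FormallySmooth.exists_lift (Ideal.map (algebraMap R A) J) hnil
    (φ₀.symm.toAlgHom.comp (Ideal.Quotient.mkₐ R (Ideal.map (algebraMap R A) J)))
  have hφ' : ∀ a, Ideal.Quotient.mk (Ideal.map (algebraMap R A) J) (φ a) = φ₀ (Ideal.Quotient.mk (Ideal.map (algebraMap R A) J) a) := fun a =>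
    AlgHom.congr_fun hφ a
  have hψ' : ∀ a, Ideal.Quotient.mk (Ideal.map (algebraMap R A) J) (ψ a) = φ₀.symm (Ideal.Quotient.mk (Ideal.map (algebraMap R A) J) a) := fun a =>
    AlgHom.congr_fun hψ a
  have h1 : Function.Bijective (φ.comp ψ) := by
    apply bijective_of_sub_mem R A J hJ
    intro a
    rw [← Ideal.Quotient.eq, AlgHom.comp_apply, hφ', hψ']
    simp
  have h2 : Function.Bijective (ψ.comp φ) := by
    apply bijective_of_sub_mem R A J hJ
    intro a
    rw [← Ideal.Quotient.eq, AlgHom.comp_apply, hψ', hφ']
    simp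
  have hbij : Function.Bijective φ := by
    constructor
    · exact Function.Injective.of_comp (f := ψ) h2.1
    · exact Function.Surjective.of_comp (g := ψ) h1.2
  exact ⟨AlgEquiv.ofBijective φ hbij, hφ⟩

end Groth.Agent.S8364
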