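import Groth.Statements.S8369
import Mathlib.Tactic
import Mathlib.RingTheory.Flat.EquationalCriterion

set_option autoImplicit false
universe u v
open SGA3

namespace Groth.Agent.S8369

/-- If `M ⧸ N` is flat then `N ⊓ J M ≤ J N`. -/
theorem inf_smul_top_le_of_flat_quotient (A : Type u) [CommRing A] (J : Ideal A)
    (M : Type v) [AddCommGroup M] [Module A M] (N : Submodule A M) [Module.Flat A (M ⧸ N)] :
    N ⊓ J • (⊤ : Submodule A M) ≤ J • N := by
  classical
  rintro x ⟨hxN, hxJ⟩
  have hxJ' : x ∈ J • Submodule.span A (Set.range (id : M → M)) := by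
    simpa using hxJ
  obtain ⟨a, haJ, hax⟩ := (Submodule.mem_ideal_smul_span_iff_exists_sum J (id : M → M) x).1 hxJ'
  simp only [id] at hax
  -- the relation in the quotient
  have hrel : ∑ i : a.support, a i.1 • (N.mkQ i.1) = 0 := by
    have h1 : ∑ i : a.support, a i.1 • (N.mkQ i.1) = N.mkQ (∑ i : a.support, a i.1 • i.1) := by
      rw [map_sum]; simp
    rw [h1]
    have h2 : ∑ i : a.support, a i.1 • (i.1 : M) = x := by
      rw [← hax, Finsupp.sum]
      exact Finset.sum_coe_sort a.support (fun m => a m • m)
    rw [h2]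
    simpa using hxN
  obtain ⟨k, α, y, hy, hα⟩ := Module.Flat.isTrivialRelation_of_sum_smul_eq_zero hrel
  have hz : ∀ j, ∃ z : M, N.mkQ z = y j := fun j => N.mkQ_surjective (y j)
  choose z hz using hz
  have hn : ∀ i : a.support, (i.1 : M) - ∑ j, α i j • z j ∈ N := by
    intro i
    rw [← Submodule.Quotient.mk_eq_zero, Submodule.Quotient.mk_sub]
    have : (Submodule.Quotient.mk (∑ j, α i j • z j) : M ⧸ N) = ∑ j, α i j • y j := by
      rw [← Submodule.mkQ_apply, map_sum]
      simp [hz]
    rw [this, ← hy i]
    simp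
  have hx : x = ∑ i : a.support, a i.1 • ((i.1 : M) - ∑ j, α i j • z j) := by
    have h2 : ∑ i : a.support, a i.1 • (i.1 : M) = x := by
      rw [← hax, Finsupp.sum]
      exact Finset.sum_coe_sort a.support (fun m => a m • m)
    have h3 : ∑ i : a.support, a i.1 • ∑ j, α i j • z j = 0 := by
      simp_rw [Finset.smul_sum, smul_smul]
      rw [Finset.sum_comm]
      apply Finset.sum_eq_zero
      intro j _
      rw [← Finset.sum_smul, hα j, zero_smul]
    simp_rw [smul_sub]
    rw [Finset.sum_sub_distrib, h2, h3, sub_zero]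
  rw [hx]
  exact Submodule.sum_mem _ fun i _ => Submodule.smul_mem_smul (haJ i.1) (hn i)

/-- Let A be a commutative ring, J a nilpotent ideal, N ⊆ M A-modules with M/N flat over A. If elements
of N have images generating the image of N in M/JM, then they generate N. (The published statement
takes finitely many elements; this row allows an arbitrary set, which the same argument permits.) -/
theorem result (A : Type u) [CommRing A] (J : Ideal A) (hJ : IsNilpotent J)
    (M : Type v) [AddCommGroup M] [Module A M] (N : Submodule A M) [Module.Flat A (M ⧸ N)] (s : Set M)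
    (hs : s ⊆ N)
    (hgen : (Submodule.span A s).map (J • (⊤ : Submodule A M)).mkQ = N.map (J • (⊤ : Submodule A M)).mkQ) :
    Submodule.span A s = N := by
  set N' := Submodule.span A s with hN'
  have hN'N : N' ≤ N := Submodule.span_le.2 hs
  have h1 : N ≤ N' ⊔ J • N := by
    intro n hn
    have : (J • (⊤ : Submodule A M)).mkQ n ∈ N.map (J • (⊤ : Submodule A M)).mkQ :=
      Submodule.mem_map_of_mem hn
    rw [← hgen] at this
    obtain ⟨n', hn', hnn'⟩ := this
    have hdiff : n - n' ∈ J • (⊤ : Submodule A M) := by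
      rw [← Submodule.Quotient.mk_eq_zero, Submodule.Quotient.mk_sub]
      simp only [Submodule.mkQ_apply] at hnn'
      rw [hnn', sub_self]
    have hdiffN : n - n' ∈ N := N.sub_mem hn (hN'N hn')
    have := inf_smul_top_le_of_flat_quotient A J M N ⟨hdiffN, hdiff⟩
    have e : n = n' + (n - n') := by abel
    rw [e]
    exact Submodule.add_mem_sup hn' this
  have h2 : ∀ k : ℕ, N ≤ N' ⊔ J ^ k • N := by
    intro k
    induction k with
    | zero => simp
    | succ k ih =>
      refine ih.trans (sup_le le_sup_left ?_)
      calc J ^ k • N ≤ J ^ k • (N' ⊔ J • N) := Submodule.smul_mono le_rfl h1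
        _ = J ^ k • N' ⊔ J ^ k • (J • N) := Submodule.smul_sup _ _ _
        _ ≤ N' ⊔ J ^ (k + 1) • N := by
          refine sup_le_sup Submodule.smul_le_right ?_
          rw [← Submodule.mul_smul, ← pow_succ]
  obtain ⟨k, hk⟩ := hJ
  apply le_antisymm hN'N
  have := h2 k
  rw [hk, Ideal.zero_eq_bot, Submodule.bot_smul, sup_bot_eq] at this
  exact this

end Groth.Agent.S8369
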