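import Groth.Statements.S8370
import Mathlib.Tactic
-- import your own Groth.Agent.* helpers here

set_option autoImplicit false
universe u
open CategoryTheory MonObj AlgebraicGeometry
open LieS

namespace Groth.Agent.S8370

theorem dualHom_comp_bcHom {B C : Type u} [CommRing B] [CommRing C] (ψ : DualNumber B →+* C)
    (hc : ψ DualNumber.eps * ψ DualNumber.eps = 0) :
    (LieS.dualHom (RingHom.id C) (ψ DualNumber.eps) hc).comp
      (LieS.bcHom (ψ.comp (algebraMap B (DualNumber B)))) = ψ := by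
  refine RingHom.ext fun x => ?_
  have hx : x = algebraMap B (DualNumber B) x.fst + algebraMap B (DualNumber B) x.snd * DualNumber.eps := by
    refine TrivSqZeroExt.ext ?_ ?_ <;> simp [TrivSqZeroExt.algebraMap_eq_inl']
  conv_rhs => rw [hx]
  simp [LieS.bcHom, LieS.dualHom_apply, TrivSqZeroExt.algebraMap_eq_inl']

theorem dualHom_comp_algebraMap' {C : Type u} [CommRing C] (c : C) (hc : c * c = 0) :
    (LieS.dualHom (RingHom.id C) c hc).comp (algebraMap C (DualNumber C)) = RingHom.id C :=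
  LieS.dualHom_comp_algebraMap _ _ _

/-- the affine-local step -/
theorem step (S : Scheme.{u}) (G K : Over S) [GrpObj G] [GrpObj K] (i : K ⟶ G)
    [IsMonHom i] (B : Type u) [CommRing B] (f : Spec (CommRingCat.of B) ⟶ S) (x : LieS.Lie G B f)
    (HR : ∀ (B' : Type u) [CommRing B'] (h : B →+* B')
      (k : LieS.pt B' (Spec.map (CommRingCat.ofHom h) ≫ f) ⟶ K),
      LieS.Ad G B' (Spec.map (CommRingCat.ofHom h) ≫ f) (k ≫ i) (LieS.pull G f h x) = LieS.pull G f h x)
    (X' : Over S) (y : X' ⟶ LieS.dpt B f) (h : X' ⟶ K)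
    (C : Type u) [CommRing C] (j : Spec (CommRingCat.of C) ⟶ X'.left) :
    j ≫ ((y ≫ x.1) * (h ≫ i)).left = j ≫ ((h ≫ i) * (y ≫ x.1)).left := by
  -- the ring map
  obtain ⟨ψ', hψ'⟩ := Spec.map_surjective (j ≫ y.left)
  obtain ⟨ψ, rfl⟩ : ∃ ψ : DualNumber B →+* C, CommRingCat.ofHom ψ = ψ' := ⟨ψ'.hom, rfl⟩
  have hc : ψ DualNumber.eps * ψ DualNumber.eps = 0 := by
    rw [← map_mul, LieS.eps_sq, map_zero]
  obtain ⟨hC, hhC⟩ : ∃ hC : B →+* C, hC = ψ.comp (algebraMap B (DualNumber B)) := ⟨_, rfl⟩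
  -- W = Spec C over S via j
  let W : Over S := Over.mk (j ≫ X'.hom)
  let jO : W ⟶ X' := Over.homMk j rfl
  have hWhom : Spec.map (CommRingCat.ofHom hC) ≫ f = j ≫ X'.hom := by
    have h1 : y.left ≫ (LieS.dpt B f).hom = X'.hom := Over.w y
    calc Spec.map (CommRingCat.ofHom hC) ≫ f
        = Spec.map (CommRingCat.ofHom ψ) ≫
            Spec.map (CommRingCat.ofHom (algebraMap B (DualNumber B))) ≫ f := by
          rw [hhC, ← Category.assoc, LieS.specMap_comp]
      _ = (j ≫ y.left) ≫ (LieS.dpt B f).hom := by rw [hψ']; rfl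
      _ = j ≫ X'.hom := by rw [Category.assoc, h1]
  let e : LieS.pt C (Spec.map (CommRingCat.ofHom hC) ≫ f) ≅ W :=
    Over.isoMk (Iso.refl _) (by
      show 𝟙 _ ≫ (j ≫ X'.hom) = Spec.map _ ≫ f
      rw [Category.id_comp, hWhom])
  let k : LieS.pt C (Spec.map (CommRingCat.ofHom hC) ≫ f) ⟶ K := e.hom ≫ jO ≫ h
  have hAd := HR C hC k
  have hAd1 := congrArg Subtype.val hAd
  -- unfold Ad and pull
  have hAd2 : (LieS.proj C (Spec.map (CommRingCat.ofHom hC) ≫ f) ≫ (k ≫ i)) *
      (LieS.dptMap f hC ≫ x.1) *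
      (LieS.proj C (Spec.map (CommRingCat.ofHom hC) ≫ f) ≫ (k ≫ i))⁻¹ =
      LieS.dptMap f hC ≫ x.1 := hAd1
  -- the section ε ↦ c
  let y₁ : LieS.pt C (Spec.map (CommRingCat.ofHom hC) ≫ f) ⟶
      LieS.dpt C (Spec.map (CommRingCat.ofHom hC) ≫ f) :=
    Over.homMk (Spec.map (CommRingCat.ofHom (LieS.dualHom (RingHom.id C) (ψ DualNumber.eps) hc))) (by
      change Spec.map _ ≫ Spec.map _ ≫ _ = _
      rw [← Category.assoc, LieS.specMap_comp, dualHom_comp_algebraMap', CommRingCat.ofHom_id]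
      erw [Spec.map_id]
      exact Category.id_comp _)
  have hy₁proj : y₁ ≫ LieS.proj C (Spec.map (CommRingCat.ofHom hC) ≫ f) = 𝟙 _ := by
    ext
    change Spec.map _ ≫ Spec.map _ = 𝟙 _
    rw [LieS.specMap_comp, dualHom_comp_algebraMap', CommRingCat.ofHom_id]
    erw [Spec.map_id]
  have hy₁map : y₁ ≫ LieS.dptMap f hC = e.hom ≫ jO ≫ y := by
    ext
    change Spec.map _ ≫ Spec.map _ = 𝟙 _ ≫ j ≫ y.left
    rw [LieS.specMap_comp, Category.id_comp, hhC, dualHom_comp_bcHom]
    exact hψ'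
  have h3 := congrArg (fun t => y₁ ≫ t) hAd2
  simp only [MonObj.comp_mul, GrpObj.comp_inv] at h3
  rw [← Category.assoc, hy₁proj, Category.id_comp, ← Category.assoc y₁, hy₁map] at h3
  -- h3 : (k ≫ i) * ((e.hom ≫ jO ≫ y) ≫ x.1) * (k ≫ i)⁻¹ = (e.hom ≫ jO ≫ y) ≫ x.1
  have h4 : (k ≫ i) * ((e.hom ≫ jO ≫ y) ≫ x.1) = ((e.hom ≫ jO ≫ y) ≫ x.1) * (k ≫ i) := by
    calc (k ≫ i) * ((e.hom ≫ jO ≫ y) ≫ x.1)
        = ((k ≫ i) * ((e.hom ≫ jO ≫ y) ≫ x.1) * (k ≫ i)⁻¹) * (k ≫ i) := by group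
      _ = ((e.hom ≫ jO ≫ y) ≫ x.1) * (k ≫ i) := by rw [h3]
  have h5 : (e.hom ≫ jO) ≫ ((h ≫ i) * (y ≫ x.1)) = (e.hom ≫ jO) ≫ ((y ≫ x.1) * (h ≫ i)) := by
    rw [MonObj.comp_mul, MonObj.comp_mul]
    simpa [k, Category.assoc] using h4
  have h6 := congrArg (fun t => t.left) h5
  simp only [Over.comp_left] at h6
  have h7 : e.hom.left ≫ jO.left = j := Category.id_comp _
  rw [h7] at h6
  exact h6.symm

/-- For a group scheme G over a scheme S (the group law of the Lie algebra functor of a group scheme is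
commutative, which the published statement assumes), a sub-group-scheme K of G given by a
monomorphic homomorphism i, and an affine S-scheme T = Spec B: an element x of Lie(G/S)(T) belongs
to the Lie algebra of the centraliser of K, i.e. the point x of G with values in the dual numbers
I_T commutes with every point of K with values in any scheme over I_T, if and only if x is fixed by
the adjoint action of every point of K with values in an affine scheme T' = Spec B' over T (acting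
on the restriction of x to T'). -/
theorem result (S : Scheme.{u}) (G K : Over S) [GrpObj G] [GrpObj K] (i : K ⟶ G)
    [IsMonHom i] [Mono i] (B : Type u) [CommRing B] (f : Spec (CommRingCat.of B) ⟶ S) (x : LieS.Lie G B f) :
    (∀ (X' : Over S) (y : X' ⟶ LieS.dpt B f) (h : X' ⟶ K), (y ≫ x.1) * (h ≫ i) = (h ≫ i) * (y ≫ x.1)) ↔
    (∀ (B' : Type u) [CommRing B'] (h : B →+* B')
      (k : LieS.pt B' (Spec.map (CommRingCat.ofHom h) ≫ f) ⟶ K),
      LieS.Ad G B' (Spec.map (CommRingCat.ofHom h) ≫ f) (k ≫ i) (LieS.pull G f h x) = LieS.pull G f h x) := by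
  constructor
  · intro HL B' _ h k
    apply Subtype.ext
    show (LieS.proj B' (Spec.map (CommRingCat.ofHom h) ≫ f) ≫ (k ≫ i)) *
      (LieS.dptMap f h ≫ x.1) *
      (LieS.proj B' (Spec.map (CommRingCat.ofHom h) ≫ f) ≫ (k ≫ i))⁻¹ = LieS.dptMap f h ≫ x.1
    have := HL _ (LieS.dptMap f h) (LieS.proj B' (Spec.map (CommRingCat.ofHom h) ≫ f) ≫ k)
    rw [Category.assoc] at this
    rw [← this]
    group
  · intro HR X' y h
    apply Over.OverMorphism.ext
    refine X'.left.affineOpenCover.openCover.hom_ext _ _ ?_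
    intro idx
    exact step S G K i B f x HR X' y h _ (X'.left.affineOpenCover.f idx)

end Groth.Agent.S8370
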