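import Groth.Statements.S8372
import Mathlib
import Groth.Agent.Lib.Helper11.RC3

set_option autoImplicit false
universe u
open scoped TensorProduct
open SGA3t2b

namespace Groth.Agent.S8372

/-- Over an affine base Spec A: let L be a Lie algebra over the commutative ring A which is a finitely
generated projective A-module, and a an element of L which is quasi-regular (its image in every
fibre κ(p) ⊗ L is a regular element). Then every Cartan subalgebra of L relative to A (locally a
direct summand, with nilpotent self-normalizing fibres) which contains a is the Engel subalgebra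
Nil(a, L) of elements killed by a power of ad(a); and a lies in some relative Cartan subalgebra (a
is regular) if and only if the quotient module of L by Nil(a, L) is projective and ad(a) induces a
bijection of that quotient (injective and surjective modulo Nil(a, L)). -/
theorem result {A : Type u} [CommRing A] {L : Type u} [LieRing L]
    [LieAlgebra A L] [Module.Finite A L] [Module.Projective A L] (a : L) (ha : SGA3t2b.IsQuasiRegular A L a) :
    (∀ H : LieSubalgebra A L, SGA3t2b.IsCartanRel H → a ∈ H → H = LieSubalgebra.engel A a) ∧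
    ((∃ H : LieSubalgebra A L, SGA3t2b.IsCartanRel H ∧ a ∈ H) ↔
      (Module.Projective A (L ⧸ (LieSubalgebra.engel A a).toSubmodule) ∧
        (∀ z : L, ⁅a, z⁆ ∈ LieSubalgebra.engel A a → z ∈ LieSubalgebra.engel A a) ∧
        (∀ y : L, ∃ z : L, ⁅a, z⁆ - y ∈ LieSubalgebra.engel A a))) := by
  open Groth.Agent.Lib.Helper11.RC in
  refine ⟨fun H hH haH => eq_engel_of_isCartanRel a ha H hH haH, ⟨?_, ?_⟩⟩
  · rintro ⟨H, hH, haH⟩
    have hHe := eq_engel_of_isCartanRel a ha H hH haH
    refine ⟨hHe ▸ hH.1, fun z hz => (lie_mem_engel_iff A a z).mp hz, fun y => ?_⟩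
    obtain ⟨q, hq⟩ := adQuot_surjective_of_isCartanRel a ha H hH haH (H.toSubmodule.mkQ y)
    obtain ⟨z, rfl⟩ := Submodule.mkQ_surjective _ q
    refine ⟨z, ?_⟩
    rw [adQuot, Submodule.mkQ_apply, Submodule.mapQ_apply, Submodule.mkQ_apply, ← sub_eq_zero,
      ← Submodule.Quotient.mk_sub, Submodule.Quotient.mk_eq_zero] at hq
    rw [← hHe]
    exact hq
  · rintro ⟨hproj, -, hsurj⟩
    exact ⟨_, isCartanRel_engel a ha hproj hsurj, LieSubalgebra.self_mem_engel A a⟩

end Groth.Agent.S8372
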