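import Groth.Statements.S8373
import Mathlib
import Groth.Agent.Lib.Helper11.RC3
import Groth.Agent.Lib.Helper11.RC4

set_option autoImplicit false
universe u
open scoped TensorProduct
open SGA3t2b

namespace Groth.Agent.S8373

/-- Over an affine base Spec A: let L be a Lie algebra over A which is a finitely generated projective
A-module, H a Cartan subalgebra of L relative to A, a an element of H which is quasi-regular in L,
and u an automorphism of the Lie algebra L over A. Then u(H) = H if and only if u(a) ∈ H. -/
theorem result {A : Type u} [CommRing A] {L : Type u} [LieRing L]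
    [LieAlgebra A L] [Module.Finite A L] [Module.Projective A L]
    (H : LieSubalgebra A L) (hH : SGA3t2b.IsCartanRel H) (a : L) (haH : a ∈ H)
    (ha : SGA3t2b.IsQuasiRegular A L a) (u : L ≃ₗ⁅A⁆ L) :
    H.map u.toLieHom = H ↔ u a ∈ H := by
  open Groth.Agent.Lib.Helper11.RC in
  constructor
  · intro h
    rw [← h]
    exact (LieSubalgebra.mem_map _ _ _).mpr ⟨a, haH, rfl⟩
  · intro hua
    have he : ∀ x y, u.toLinearEquiv ⁅x, y⁆ = ⁅u.toLinearEquiv x, u.toLinearEquiv y⁆ :=
      fun x y => u.map_lie x y
    have hq : SGA3t2b.IsQuasiRegular A L (u a) := by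
      intro p
      have h1 : (1 : p.asIdeal.ResidueField) ⊗ₜ[A] (u a) =
          u.toLinearEquiv.baseChange A p.asIdeal.ResidueField L L
            ((1 : p.asIdeal.ResidueField) ⊗ₜ[A] a) := rfl
      rw [h1, isRegular_equiv_iff _ (baseChange_equiv_lie _ _ he)]
      exact ha p
    have h1 := eq_engel_of_isCartanRel a ha H hH haH
    have h2 := eq_engel_of_isCartanRel (u a) hq H hH hua
    apply le_antisymm
    · rintro _ ⟨x, hx, rfl⟩
      rw [h2]
      rw [h1] at hx
      exact (equiv_mem_engel_iff u.toLinearEquiv he a x).mpr hx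
    · intro y hy
      rw [h2] at hy
      obtain ⟨x, rfl⟩ := u.surjective y
      refine (LieSubalgebra.mem_map _ _ _).mpr ⟨x, ?_, rfl⟩
      rw [h1]
      exact (equiv_mem_engel_iff u.toLinearEquiv he a x).mp hy

end Groth.Agent.S8373
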