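import Groth.Statements.S8377
import Mathlib
import Groth.Agent.Lib.Helper11.RC8

set_option autoImplicit false
universe u
open scoped TensorProduct
open SGA3t2b

namespace Groth.Agent.S8377

/-- Let L be a Lie algebra over the commutative ring A which is a finitely generated projective
A-module. Suppose that the nilpotent rank of the fibres κ(p) ⊗ L is locally constant on Spec A, that
for every A-algebra A' every quasi-regular element of A' ⊗ L is regular (condition (C₂)), and that
every fibre κ(p) ⊗ L has a regular element (automatic when every residue field of A is infinite).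
Then L acquires a relative Cartan subalgebra after a faithfully flat etale base change A → A'
(condition (C′₁)). (The published implication (C₂) ⇒ (C′₁) is over an arbitrary base and has no
hypothesis on regular elements of the fibres; this row is over an affine base and assumes every
fibre has a regular element, the case in which the published argument, through the existence of a
Cartan subalgebra Zariski-locally near each such point, is complete.) -/
theorem result {A : Type u} [CommRing A] {L : Type u} [LieRing L]
    [LieAlgebra A L] [Module.Finite A L] [Module.Projective A L]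
    (hC2 : ((∀ p : PrimeSpectrum A, ∃ f : A, f ∉ p.asIdeal ∧ ∀ q : PrimeSpectrum A, f ∉ q.asIdeal →
        LieAlgebra.rank q.asIdeal.ResidueField (q.asIdeal.ResidueField ⊗[A] L) =
          LieAlgebra.rank p.asIdeal.ResidueField (p.asIdeal.ResidueField ⊗[A] L)) ∧
      ∀ (A' : Type u) [CommRing A'] [Algebra A A'] (a' : A' ⊗[A] L),
        SGA3t2b.IsQuasiRegular A' (A' ⊗[A] L) a' → SGA3t2b.IsRegularRel A' (A' ⊗[A] L) a'))
    (hreg : ∀ p : PrimeSpectrum A, ∃ x : p.asIdeal.ResidueField ⊗[A] L, LieAlgebra.IsRegular p.asIdeal.ResidueField x) :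
    ∃ (A' : Type u) (_ : CommRing A') (_ : Algebra A A'), Algebra.Etale A A' ∧ Module.FaithfullyFlat A A' ∧
        ∃ H : LieSubalgebra A' (A' ⊗[A] L), SGA3t2b.IsCartanRel H := by
  open Groth.Agent.Lib.Helper11.RC in
  classical
  obtain ⟨hC0, hC2'⟩ := hC2
  have h1 : ∀ p : PrimeSpectrum A, ∃ f : A, f ∉ p.asIdeal ∧ ∃ a : L, ∀ q : PrimeSpectrum A,
      f ∉ q.asIdeal →
      LieAlgebra.IsRegular q.asIdeal.ResidueField ((1 : q.asIdeal.ResidueField) ⊗ₜ[A] a) :=
    fun p => exists_regular_on_basicOpen p (hC0 p) (hreg p)
  choose F hF G hG using h1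
  have hspan : Ideal.span (Set.range F) = ⊤ := by
    by_contra hne
    obtain ⟨m, hm, hle⟩ := Ideal.exists_le_maximal _ hne
    exact hF ⟨m, hm.isPrime⟩ (hle (Ideal.subset_span ⟨_, rfl⟩))
  obtain ⟨s, hs, hs1⟩ := (Ideal.span_eq_top_iff_finite _).mp hspan
  have hchoose : ∀ x : {x // x ∈ s}, ∃ p, F p = x.1 := fun x => hs x.2
  choose P hP using hchoose
  let f : {x // x ∈ s} → A := fun x => x.1
  let a : {x // x ∈ s} → L := fun x => G (P x)
  have hf : Ideal.span (Set.range f) = ⊤ := by
    have : Set.range f = (s : Set A) := by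
      ext y
      simp [f]
    rw [this]
    exact hs1
  have hreg' : ∀ i, ∀ q : PrimeSpectrum A, f i ∉ q.asIdeal →
      LieAlgebra.IsRegular q.asIdeal.ResidueField ((1 : q.asIdeal.ResidueField) ⊗ₜ[A] a i) :=
    fun i q hq => hG (P i) q (by rw [hP]; exact hq)
  refine ⟨∀ j, Localization.Away (f j), inferInstance, inferInstance, inferInstance,
    faithfullyFlat_cover f hf, ?_⟩
  obtain ⟨-, H, hH, -⟩ := hC2' _ _ (isQuasiRegular_cover f a hreg')
  exact ⟨H, hH⟩

end Groth.Agent.S8377
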