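import Groth.Statements.S8383
import Mathlib

set_option autoImplicit false
universe u
open scoped TensorProduct
open SGA3t2b

namespace Groth.Agent.S8383

/-- Matrix lemma: invertible matrix over an extension field `K/k`; there is a `k`-rational vector
none of whose images' coordinates vanish. -/
theorem exists_vec {k K : Type*} [Field k] [Field K] [Algebra k K] {n : Type*} [Fintype n]
    [DecidableEq n] (A : Matrix n n K) (hA : A.det ≠ 0) :
    ∃ c : n → k, ∀ i, ∑ j, A i j * algebraMap k K (c j) ≠ 0 := by
  classical
  -- the finite-dimensional span of the entries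
  let E : Submodule k K := Submodule.span k (Set.range fun p : n × n => A p.1 p.2)
  have : Module.Finite k E := FiniteDimensional.span_of_finite k (Set.finite_range _)
  let bE := Module.finBasis k E
  let a : n → n → E := fun i j => ⟨A i j, Submodule.subset_span ⟨(i, j), rfl⟩⟩
  let B : Fin (Module.finrank k E) → Matrix n n k := fun l i j => bE.repr (a i j) l
  have hAB : ∀ i j, A i j = ∑ l, (bE l : K) * algebraMap k K (B l i j) := by
    intro i j
    have := congrArg (Subtype.val) (bE.sum_repr (a i j))
    rw [AddSubmonoidClass.coe_finsetSum] at this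
    rw [show A i j = ((a i j : E) : K) from rfl, ← this]
    refine Finset.sum_congr rfl fun l _ => ?_
    rw [Submodule.coe_smul, Algebra.smul_def, mul_comm]
  -- expand the determinant
  have hdet : A.det = ∑ r : n → Fin (Module.finrank k E),
      (∏ i, (bE (r i) : K)) * algebraMap k K (Matrix.det (Matrix.of fun i j => B (r i) i j)) := by
    have h1 : A = fun i => ∑ l, (fun j => (bE l : K) * algebraMap k K (B l i j)) := by
      ext i j
      rw [hAB i j, Finset.sum_apply]
    have h2 := (Matrix.detRowAlternating (R := K) (n := n)).toMultilinearMap.map_sum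
      (fun i l => (fun j => (bE l : K) * algebraMap k K (B l i j)))
    change Matrix.det (fun i => ∑ l, (fun j => (bE l : K) * algebraMap k K (B l i j))) = _ at h2
    rw [← h1] at h2
    rw [h2]
    refine Finset.sum_congr rfl fun r _ => ?_
    change Matrix.det (Matrix.of fun i j => (bE (r i) : K) * algebraMap k K (B (r i) i j)) = _
    have h3 := Matrix.det_mul_column (fun i => (bE (r i) : K))
      (Matrix.of fun i j => algebraMap k K (B (r i) i j))
    simp only [Matrix.of_apply] at h3
    rw [h3, RingHom.map_det]
    rfl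
  obtain ⟨r, hr⟩ : ∃ r : n → Fin (Module.finrank k E),
      Matrix.det (Matrix.of fun i j => B (r i) i j) ≠ 0 := by
    by_contra hcon
    push Not at hcon
    apply hA
    rw [hdet]
    exact Finset.sum_eq_zero fun r _ => by rw [hcon r, map_zero, mul_zero]
  set M : Matrix n n k := Matrix.of fun i j => B (r i) i j with hM
  have hMu : IsUnit M.det := isUnit_iff_ne_zero.mpr hr
  refine ⟨M⁻¹.mulVec 1, fun i => ?_⟩
  set c := M⁻¹.mulVec 1 with hc
  have hMc : M.mulVec c = 1 := by
    rw [hc, Matrix.mulVec_mulVec, Matrix.mul_nonsing_inv _ hMu, Matrix.one_mulVec]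
  intro hzero
  -- the sum lies in E with coordinates
  have hsum : (∑ j, A i j * algebraMap k K (c j)) =
      ((∑ l, (∑ j, B l i j * c j) • bE l : E) : K) := by
    rw [AddSubmonoidClass.coe_finsetSum]
    simp_rw [Submodule.coe_smul, Algebra.smul_def, map_sum, Finset.sum_mul]
    rw [Finset.sum_comm]
    refine Finset.sum_congr rfl fun j _ => ?_
    rw [hAB i j, Finset.sum_mul]
    refine Finset.sum_congr rfl fun l _ => ?_
    rw [map_mul]; ring
  rw [hsum] at hzero
  have h0 : (∑ l, (∑ j, B l i j * c j) • bE l : E) = 0 := Subtype.ext hzero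
  have := Fintype.linearIndependent_iff.mp bE.linearIndependent _ h0 (r i)
  have h1 : (M.mulVec c) i = 1 := by rw [hMc]; rfl
  rw [Matrix.mulVec, dotProduct] at h1
  simp only [hM, Matrix.of_apply] at h1
  rw [this] at h1
  exact zero_ne_one h1


theorem main (k : Type u) [Field k] (K : Type u) [Field K] [Algebra k K]
    (V : Type u) [AddCommGroup V] [Module k V] [Module.Finite k V] {ι : Type} [Fintype ι]
    (θ : Module.Basis ι K (Module.Dual K (K ⊗[k] V))) :
    ∃ x : V, ∀ i : ι, θ i ((1 : K) ⊗ₜ[k] x) ≠ 0 := by
  classical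
  let bV := Module.finBasis k V
  let bK := Algebra.TensorProduct.basis K bV
  let D := bK.dualBasis
  let e : ι ≃ Fin (Module.finrank k V) := θ.indexEquiv D
  let θ' := θ.reindex e
  let A : Matrix (Fin (Module.finrank k V)) (Fin (Module.finrank k V)) K :=
    fun i j => θ' i (bK j)
  have hA : A.det ≠ 0 := by
    have h1 : A = Matrix.transpose (D.toMatrix θ') := by
      ext i j
      rw [Matrix.transpose_apply, Module.Basis.toMatrix_apply, Module.Basis.dualBasis_repr]
    rw [h1, Matrix.det_transpose, ← Module.Basis.det_apply]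
    exact (Module.Basis.isUnit_det D θ').ne_zero
  obtain ⟨c, hc⟩ := exists_vec (k := k) A hA
  refine ⟨∑ j, c j • bV j, fun i => ?_⟩
  have h2 : θ i = θ' (e i) := by
    rw [Module.Basis.reindex_apply, Equiv.symm_apply_apply]
  have h3 : θ' (e i) ((1 : K) ⊗ₜ[k] (∑ j, c j • bV j)) = ∑ j, A (e i) j * algebraMap k K (c j) := by
    rw [TensorProduct.tmul_sum, map_sum]
    refine Finset.sum_congr rfl fun j _ => ?_
    rw [TensorProduct.tmul_smul, ← algebraMap_smul K (c j), map_smul, smul_eq_mul, mul_comm]
    congr 2
    exact (Algebra.TensorProduct.basis_apply bV j).symm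
  rw [h2, h3]
  exact hc (e i)


/-- Let k be a finite field with algebraic closure K, V a finite-dimensional vector space over k, and
θ₁, …, θₙ a basis of the dual of the K-vector space K ⊗ V. Then there is x ∈ V with θᵢ(1 ⊗ x) ≠ 0
for every i. -/
theorem result (k : Type u) [Field k] [Finite k]
    (V : Type u) [AddCommGroup V] [Module k V] [Module.Finite k V] {ι : Type} [Fintype ι]
    (θ : Module.Basis ι (AlgebraicClosure k) (Module.Dual (AlgebraicClosure k) (AlgebraicClosure k ⊗[k] V))) :
    ∃ x : V, ∀ i : ι, θ i ((1 : AlgebraicClosure k) ⊗ₜ[k] x) ≠ 0 := main k (AlgebraicClosure k) V θ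

end Groth.Agent.S8383
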