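import Groth.Statements.S8441
import Mathlib

set_option autoImplicit false
universe u v w
open SGA3t2b

namespace Groth.Agent.S8441

section helpers
open Submodule

/-- unitriangular change of a linearly independent family -/
theorem unitriangular {R : Type*} [CommRing R] {M : Type*} [AddCommGroup M] [Module R M] {n : ℕ}
    (a θ : Fin n → M) (ha : LinearIndependent R a)
    (hθ : ∀ i, θ i - a i ∈ span R (a '' {j | i < j})) :
    LinearIndependent R θ ∧ span R (Set.range θ) = span R (Set.range a) := by
  classical
  let B : Module.Basis (Fin n) R (span R (Set.range a)) := Module.Basis.span ha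
  have hB : ∀ i, (B i : M) = a i := fun i => congrArg Subtype.val (Module.Basis.span_apply ha i)
  have hmem : ∀ i, θ i ∈ span R (Set.range a) := by
    intro i
    have h1 : θ i - a i ∈ span R (Set.range a) := span_mono (Set.image_subset_range _ _) (hθ i)
    have h2 : a i ∈ span R (Set.range a) := subset_span ⟨i, rfl⟩
    simpa using add_mem h1 h2
  let θ' : Fin n → span R (Set.range a) := fun i => ⟨θ i, hmem i⟩
  -- θ' i - B i ∈ span (B '' {j | i < j})
  have hθ' : ∀ i, θ' i - B i ∈ span R (B '' {j | i < j}) := by
    intro i
    have h1 : ((θ' i - B i : span R (Set.range a)) : M) ∈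
        map (span R (Set.range a)).subtype (span R (B '' {j | i < j})) := by
      rw [map_span, ← Set.image_comp]
      have : ((span R (Set.range a)).subtype ∘ B) = a := funext hB
      rw [this]
      simpa [hB] using hθ i
    obtain ⟨y, hy, hyx⟩ := h1
    have : y = θ' i - B i := Subtype.ext hyx
    rwa [← this]
  have hrepr : ∀ i j, B.repr (θ' i) j = (if j = i then 1 else 0) + B.repr (θ' i - B i) j := by
    intro i j
    have : θ' i = B i + (θ' i - B i) := by abel
    conv_lhs => rw [this, map_add, Finsupp.add_apply, Module.Basis.repr_self,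
      Finsupp.single_apply]
    congr 1
    simp [eq_comm]
  have hsupp : ∀ i j, ¬ (i < j) → B.repr (θ' i - B i) j = 0 := by
    intro i j hij
    by_contra hne
    have := B.repr_support_subset_of_mem_span _ (hθ' i) (Finsupp.mem_support_iff.mpr hne)
    exact hij this
  have hdet : IsUnit (B.det θ') := by
    rw [Module.Basis.det_apply, Matrix.det_of_isLowerTriangular]
    · have : ∀ i, B.toMatrix θ' i i = 1 := by
        intro i
        rw [Module.Basis.toMatrix_apply, hrepr, if_pos rfl, hsupp i i (lt_irrefl i), add_zero]
      simp [this]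
    · intro j i hji
      change j < i at hji
      rw [Module.Basis.toMatrix_apply, hrepr, if_neg hji.ne, hsupp i j (not_lt.mpr hji.le), add_zero]
  obtain ⟨hli, hspan⟩ := B.is_basis_iff_det.mpr hdet
  constructor
  · have := hli.map' (span R (Set.range a)).subtype (ker_subtype _)
    exact this
  · have h1 : Set.range θ = (span R (Set.range a)).subtype '' Set.range θ' := by
      rw [← Set.range_comp]; rfl
    rw [h1, ← map_span, hspan, map_subtype_top]


theorem foldl_sub_mem {ι : Type u} {M : Type v} {N : Type w} [AddCommGroup M] [Module ℤ M]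
    [AddCommGroup N] [Module ℤ N] (P : RootPairing ι ℤ M N) {n : ℕ} (c : Fin n → ι)
    (l : List (Fin n)) (x₀ : M) :
    l.foldl (fun x j => P.reflection (c j) x) x₀ - x₀ ∈
      span ℤ ((fun j => P.root (c j)) '' {j | j ∈ l}) := by
  induction l generalizing x₀ with
  | nil => simp
  | cons j l ih =>
    rw [List.foldl_cons]
    have h1 := ih (P.reflection (c j) x₀)
    have h2 : P.reflection (c j) x₀ - x₀ ∈
        span ℤ ((fun j => P.root (c j)) '' {j' | j' ∈ j :: l}) := by
      rw [RootPairing.reflection_apply, sub_sub_cancel_left]
      exact neg_mem (smul_mem _ _ (subset_span ⟨j, by simp, rfl⟩))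
    have h3 : span ℤ ((fun j => P.root (c j)) '' {j' | j' ∈ l}) ≤
        span ℤ ((fun j => P.root (c j)) '' {j' | j' ∈ j :: l}) :=
      span_mono (Set.image_mono fun x hx => List.mem_cons_of_mem _ hx)
    have := add_mem (h3 h1) h2
    simpa using this

theorem main {ι : Type u} {M : Type v} {N : Type w} [AddCommGroup M] [Module ℤ M]
    [AddCommGroup N] [Module ℤ N] (P : RootPairing ι ℤ M N) (b : P.Base) (n : ℕ) (e : Fin n ≃ ↥b.support) :
    LinearIndependent ℤ (fun i : Fin n =>
      ((List.finRange n).filter (fun j => i < j)).foldl (fun x j => P.reflection (e j : ι) x) (P.root (e i : ι))) ∧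
    Submodule.span ℤ (Set.range (fun i : Fin n =>
      ((List.finRange n).filter (fun j => i < j)).foldl (fun x j => P.reflection (e j : ι) x) (P.root (e i : ι)))) =
      Submodule.span ℤ (Set.range P.root) := by
  have ha : LinearIndependent ℤ (fun i : Fin n => P.root (e i : ι)) := by
    have h := b.linearIndepOn_root
    exact h.comp e e.injective
  have hrange : Set.range (fun i : Fin n => P.root (e i : ι)) = P.root '' b.support := by
    ext x
    constructor
    · rintro ⟨i, rfl⟩
      exact ⟨e i, (e i).2, rfl⟩
    · rintro ⟨j, hj, rfl⟩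
      exact ⟨e.symm ⟨j, hj⟩, by simp⟩
  have hθ : ∀ i : Fin n, ((List.finRange n).filter (fun j => i < j)).foldl
      (fun x j => P.reflection (e j : ι) x) (P.root (e i : ι)) - P.root (e i : ι) ∈
      span ℤ ((fun i : Fin n => P.root (e i : ι)) '' {j | i < j}) := by
    intro i
    refine span_mono (Set.image_mono ?_) (foldl_sub_mem P (fun j => (e j : ι)) _ _)
    intro j hj
    simpa using hj
  obtain ⟨h1, h2⟩ := unitriangular (R := ℤ) (fun i : Fin n => P.root (e i : ι))
    (fun i : Fin n => ((List.finRange n).filter (fun j => i < j)).foldl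
      (fun x j => P.reflection (e j : ι) x) (P.root (e i : ι))) ha hθ
  refine ⟨h1, ?_⟩
  rw [h2, hrange]
  refine le_antisymm (span_mono (Set.image_subset_range _ _)) (span_le.mpr ?_)
  rintro - ⟨i, rfl⟩
  have hcl : AddSubmonoid.closure (P.root '' (b.support : Set ι)) ≤
      (span ℤ (P.root '' (b.support : Set ι))).toAddSubmonoid :=
    AddSubmonoid.closure_le.mpr subset_span
  rcases b.root_mem_or_neg_mem i with hi | hi
  · exact hcl hi
  · have := hcl hi
    rw [mem_toAddSubmonoid, neg_mem_iff] at this
    exact this


end helpers

/-- Let R be a root system with a system of simple roots a₁, …, aₙ and simple reflections rᵢ, and put θᵢ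
= rₙ ⋯ rᵢ₊₁(aᵢ). Then the θᵢ form a basis of the group generated by the roots. Stated for a root
pairing over ℤ (Mathlib) with a base whose support is enumerated by Fin n: the θᵢ are ℤ-linearly
independent and their ℤ-span is the ℤ-span of all roots. -/
theorem result {ι : Type u} {M : Type v} {N : Type w} [AddCommGroup M] [Module ℤ M]
    [AddCommGroup N] [Module ℤ N] (P : RootPairing ι ℤ M N) (b : P.Base) (n : ℕ) (e : Fin n ≃ ↥b.support) :
    LinearIndependent ℤ (fun i : Fin n =>
      ((List.finRange n).filter (fun j => i < j)).foldl (fun x j => P.reflection (e j : ι) x) (P.root (e i : ι))) ∧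
    Submodule.span ℤ (Set.range (fun i : Fin n =>
      ((List.finRange n).filter (fun j => i < j)).foldl (fun x j => P.reflection (e j : ι) x) (P.root (e i : ι)))) =
      Submodule.span ℤ (Set.range P.root) := main P b n e

end Groth.Agent.S8441
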