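import Groth.Statements.S8513
import Mathlib

set_option autoImplicit false
open CategoryTheory MonoidalCategory CartesianMonoidalCategory MonObj GrpObj AlgebraicGeometry
universe u
open Par

namespace Groth.Agent.S8513



section Helpers
open CategoryTheory.Limits

theorem isPullback_of_lift' {C : Type*} [Category C] {P X Y Z : C} (p₁ : P ⟶ X) (p₂ : P ⟶ Y)
    (f : X ⟶ Z) (g : Y ⟶ Z)
    (w : p₁ ≫ f = p₂ ≫ g)
    (l : ∀ {W : C} (α : W ⟶ X) (β : W ⟶ Y), α ≫ f = β ≫ g → (W ⟶ P))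
    (h1 : ∀ {W : C} (α : W ⟶ X) (β : W ⟶ Y) (h : α ≫ f = β ≫ g), l α β h ≫ p₁ = α)
    (h2 : ∀ {W : C} (α : W ⟶ X) (β : W ⟶ Y) (h : α ≫ f = β ≫ g), l α β h ≫ p₂ = β)
    (hu : ∀ {W : C} (m m' : W ⟶ P), m ≫ p₁ = m' ≫ p₁ → m ≫ p₂ = m' ≫ p₂ → m = m') :
    IsPullback p₁ p₂ f g :=
  ⟨⟨w⟩, ⟨PullbackCone.IsLimit.mk _ (fun s => l s.fst s.snd s.condition)
    (fun s => h1 _ _ _) (fun s => h2 _ _ _)
    (fun s m e1 e2 => hu _ _ (e1.trans (h1 _ _ _).symm) (e2.trans (h2 _ _ _).symm))⟩⟩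

theorem main {S : Scheme.{u}} {G P Q I : Over S} [GrpObj G] [GrpObj P] [GrpObj Q]
    (p : P ⟶ G) (q : Q ⟶ G) [IsMonHom q]
    (htr : Smooth ((p ⊗ₘ q) ≫ μ[G]).left) (m : I ⟶ P) (m' : I ⟶ Q) (hI : IsPullback m m' p q) :
    Smooth I.hom := by
  have hf : ∀ {W : Over S} (α : W ⟶ P ⊗ Q), α ≫ ((p ⊗ₘ q) ≫ μ[G]) =
      ((α ≫ fst P Q) ≫ p) * ((α ≫ snd P Q) ≫ q) := by
    intro W α
    rw [Hom.mul_def, ← Category.assoc]
    congr 1
    apply CartesianMonoidalCategory.hom_ext <;> simp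
  have hinvq : ∀ {W : Over S} (a : W ⟶ Q), (a ≫ ι[Q]) ≫ q = (a ≫ q)⁻¹ := by
    intro W a
    rw [← Hom.inv_def, GrpObj.inv_comp]
  have hl : ∀ {W : Over S} (α : W ⟶ P ⊗ Q) (β : W ⟶ 𝟙_ (Over S)),
      α ≫ ((p ⊗ₘ q) ≫ μ[G]) = β ≫ η[G] →
      (α ≫ fst P Q) ≫ p = ((α ≫ snd P Q) ≫ ι[Q]) ≫ q := by
    intro W α β h
    rw [hf, toUnit_unique β (toUnit W), ← Hom.one_def] at h
    rw [hinvq]
    exact eq_inv_of_mul_eq_one_left h
  have sq : IsPullback (lift m (m' ≫ ι[Q])) (toUnit I) ((p ⊗ₘ q) ≫ μ[G]) η[G] := by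
    refine isPullback_of_lift' _ _ _ _ ?_
      (fun {W} α β h => hI.lift (α ≫ fst P Q) ((α ≫ snd P Q) ≫ ι[Q]) (hl α β h)) ?_ ?_ ?_
    · rw [hf, lift_fst, lift_snd, hinvq, hI.w, mul_inv_cancel, Hom.one_def]
    · intro W α β h
      apply CartesianMonoidalCategory.hom_ext
      · rw [Category.assoc, lift_fst, hI.lift_fst]
      · rw [Category.assoc, lift_snd, ← Category.assoc, hI.lift_snd, ← Hom.inv_def, ← Hom.inv_def,
          _root_.inv_inv]
    · intro W α β h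
      exact toUnit_unique _ _
    · intro W m1 m2 e1 _
      apply hI.hom_ext
      · have := congrArg (fun φ => φ ≫ fst P Q) e1
        simpa only [Category.assoc, lift_fst] using this
      · have := congrArg (fun φ => φ ≫ snd P Q) e1
        simp only [Category.assoc, lift_snd] at this
        rw [← Category.assoc, ← Category.assoc, ← Hom.inv_def, ← Hom.inv_def] at this
        exact inv_injective this
  have hsq' := sq.map (Over.forget S)
  have h3 : Smooth (toUnit I).left :=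
    MorphismProperty.of_isPullback (P := @Smooth) hsq' htr
  exact h3

end Helpers

/-- Let G be a reductive S-group and P, Q two parabolic subgroups of G in transversal position (the
multiplication morphism P ×_S Q ⟶ G is smooth). Then P ∩ Q (a fibre product of P and Q over G) is
smooth over S. -/
theorem result {S : Scheme.{u}} {G P Q I : Over S} [GrpObj G] [GrpObj P] [GrpObj Q]
    (hG : Red.IsReductive G) (p : P ⟶ G) (q : Q ⟶ G) (hP : Red.IsParabolic p) (hQ : Red.IsParabolic q)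
    (htr : Smooth ((p ⊗ₘ q) ≫ μ[G]).left) (m : I ⟶ P) (m' : I ⟶ Q) (hI : IsPullback m m' p q) :
    Smooth I.hom := by

  haveI : IsMonHom q := hQ.1
  exact main p q htr m m' hI

end Groth.Agent.S8513
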