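import Groth.Statements.S8517
import Mathlib

set_option autoImplicit false
open CategoryTheory MonoidalCategory CartesianMonoidalCategory MonObj GrpObj AlgebraicGeometry
universe u
open RedSub

namespace Groth.Agent.S8517



section Helpers
open RootPairing Module
variable {idx M N : Type} [AddCommGroup M] [AddCommGroup N] [Finite idx]
  (P : RootPairing idx ℤ M N) (b : P.Base)

theorem mem_closure_iff (x : M) :
    x ∈ AddSubmonoid.closure (P.root '' (b.support : Set idx)) ↔
      ∃ f : idx → ℕ, x = ∑ j ∈ b.support, f j • P.root j := by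
  classical
  constructor
  · intro hx
    refine AddSubmonoid.closure_induction ?_ ⟨0, by simp⟩ ?_ hx
    · rintro - ⟨j, hj, rfl⟩
      refine ⟨Pi.single j 1, ?_⟩
      rw [Finset.sum_eq_single j]
      · simp
      · intro k _ hk
        simp [Pi.single_eq_of_ne hk]
      · intro hj'
        exact absurd hj hj'
    · rintro _ _ _ _ ⟨f, rfl⟩ ⟨g, rfl⟩
      exact ⟨f + g, by simp [add_smul, Finset.sum_add_distrib]⟩
  · rintro ⟨f, rfl⟩
    refine AddSubmonoid.sum_mem _ fun j hj => AddSubmonoid.nsmul_mem _ ?_ _
    exact AddSubmonoid.subset_closure (Set.mem_image_of_mem _ hj)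

theorem posRoots_iff (a : idx) : a ∈ RedSub.posRoots P b ↔ b.IsPos a := by
  show P.root a ∈ AddSubmonoid.closure (P.root '' (b.support : Set idx)) ↔ _
  rw [mem_closure_iff]
  constructor
  · rintro ⟨f, hf⟩
    rw [Base.isPos_iff']
    have h : P.root a = ∑ j ∈ b.support, ((f j : ℤ)) • P.root j := by
      rw [hf]; simp
    rw [Base.height_eq_sum h]
    exact Finset.sum_nonneg fun j _ => Int.natCast_nonneg _
  · intro hpos
    obtain ⟨f, _, hf | hf⟩ := b.exists_root_eq_sum_nat_or_neg a
    · exact ⟨f, hf⟩
    · exfalso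
      have h : P.root a = ∑ j ∈ b.support, (-(f j : ℤ)) • P.root j := by
        rw [hf]; simp
      have := Base.height_eq_sum h
      rw [Base.isPos_iff, this] at hpos
      have : 0 ≤ ∑ j ∈ b.support, (f j : ℤ) := Finset.sum_nonneg fun j _ => Int.natCast_nonneg _
      simp only [Finset.sum_neg_distrib] at hpos
      omega

/-- index of the negative root -/
def ng (a : idx) : idx := P.reflectionPerm a a

theorem root_ng (a : idx) : P.root (ng P a) = -P.root a := by
  rw [ng, P.root_reflectionPerm, P.reflection_apply_self]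

theorem ng_ng (a : idx) : ng P (ng P a) = a := by
  apply P.root.injective
  rw [root_ng, root_ng, neg_neg]

theorem isPos_ng (a : idx) : b.IsPos (ng P a) ↔ ¬ b.IsPos a :=
  Base.IsPos.neg_iff_not b a

theorem closure_map (j : idx) (s : Set idx) (x : M)
    (hx : x ∈ AddSubmonoid.closure (P.root '' s)) :
    P.reflection j x ∈ AddSubmonoid.closure (P.root '' (P.reflectionPerm j '' s)) := by
  refine AddSubmonoid.closure_induction ?_ ?_ ?_ hx
  · rintro - ⟨k, hk, rfl⟩
    apply AddSubmonoid.subset_closure
    exact ⟨P.reflectionPerm j k, ⟨k, hk, rfl⟩, P.root_reflectionPerm j k⟩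
  · simp
  · intro x y _ _ hx hy
    rw [_root_.map_add]; exact add_mem hx hy

theorem closure_comap (j : idx) (s : Set idx) (x : N)
    (hx : x ∈ AddSubmonoid.closure (P.coroot '' s)) :
    P.coreflection j x ∈ AddSubmonoid.closure (P.coroot '' (P.reflectionPerm j '' s)) := by
  refine AddSubmonoid.closure_induction ?_ ?_ ?_ hx
  · rintro - ⟨k, hk, rfl⟩
    apply AddSubmonoid.subset_closure
    exact ⟨P.reflectionPerm j k, ⟨k, hk, rfl⟩, P.coroot_reflectionPerm j k⟩
  · simp
  · intro x y _ _ hx hy
    rw [_root_.map_add]; exact add_mem hx hy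

/-- the base reflected in the simple root `j` -/
noncomputable def reflBase (j : idx) : P.Base where
  support := b.support.map (P.reflectionPerm j).toEmbedding
  linearIndepOn_root := by
    simp only [Finset.coe_map, Equiv.coe_toEmbedding]
    apply LinearIndepOn.image_of_comp
    have h := b.linearIndepOn_root.map_injOn (P.reflection j).toLinearMap
      ((P.reflection j).injective.injOn)
    have e : P.root ∘ (P.reflectionPerm j) = (P.reflection j).toLinearMap ∘ P.root := by
      funext k; simp [P.root_reflectionPerm]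
    rw [e]; exact h
  linearIndepOn_coroot := by
    simp only [Finset.coe_map, Equiv.coe_toEmbedding]
    apply LinearIndepOn.image_of_comp
    have h := b.linearIndepOn_coroot.map_injOn (P.coreflection j).toLinearMap
      ((P.coreflection j).injective.injOn)
    have e : P.coroot ∘ (P.reflectionPerm j) = (P.coreflection j).toLinearMap ∘ P.coroot := by
      funext k; simp [P.coroot_reflectionPerm]
    rw [e]; exact h
  root_mem_or_neg_mem i := by
    simp only [Finset.coe_map, Equiv.coe_toEmbedding]
    have hi : P.root i = P.reflection j (P.root (P.reflectionPerm j i)) := by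
      rw [← P.root_reflectionPerm, P.reflectionPerm_self]
    rcases b.root_mem_or_neg_mem (P.reflectionPerm j i) with h | h
    · left; rw [hi]; exact closure_map P j _ _ h
    · right; rw [hi, ← _root_.map_neg]; exact closure_map P j _ _ h
  coroot_mem_or_neg_mem i := by
    simp only [Finset.coe_map, Equiv.coe_toEmbedding]
    have hi : P.coroot i = P.coreflection j (P.coroot (P.reflectionPerm j i)) := by
      rw [← P.coroot_reflectionPerm, P.reflectionPerm_self]
    rcases b.coroot_mem_or_neg_mem (P.reflectionPerm j i) with h | h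
    · left; rw [hi]; exact closure_comap P j _ _ h
    · right; rw [hi, ← _root_.map_neg]; exact closure_comap P j _ _ h

theorem reflBase_isPos (j a : idx) :
    (reflBase P b j).IsPos a ↔ b.IsPos (P.reflectionPerm j a) := by
  rw [← posRoots_iff, ← posRoots_iff]
  show P.root a ∈ AddSubmonoid.closure (P.root '' ((reflBase P b j).support : Set idx)) ↔
    P.root (P.reflectionPerm j a) ∈ AddSubmonoid.closure (P.root '' (b.support : Set idx))
  have hs : ((reflBase P b j).support : Set idx) = P.reflectionPerm j '' (b.support : Set idx) := by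
    simp [reflBase]
  rw [hs]
  constructor
  · intro h
    have := closure_map P j _ _ h
    rw [← P.root_reflectionPerm] at this
    have e : P.reflectionPerm j '' (P.reflectionPerm j '' (b.support : Set idx)) = b.support := by
      rw [← Set.image_comp]
      have : (P.reflectionPerm j) ∘ (P.reflectionPerm j) = id := by
        funext k; simp [P.reflectionPerm_self]
      rw [this, Set.image_id]
    rwa [e] at this
  · intro h
    have := closure_map P j _ _ h
    rwa [← P.root_reflectionPerm, P.reflectionPerm_self] at this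

theorem isPos_refl {a j : idx} (ha : b.IsPos a) (hj : j ∈ b.support) (haj : a ≠ j) :
    b.IsPos (P.reflectionPerm j a) := by
  classical
  obtain ⟨f, hf₀, hf₁, hf₂⟩ := b.exists_root_eq_sum_int a
  have hfpos : 0 < f := by
    refine hf₁.resolve_right ?_
    rw [Base.isPos_iff, Base.height_eq_sum hf₂] at ha
    intro hneg
    have : ∑ j ∈ b.support, f j ≤ 0 := Finset.sum_nonpos fun i _ => hneg.le i
    omega
  obtain ⟨p, hp⟩ : ∃ p : ℤ, p = P.pairingIn ℤ a j := ⟨_, rfl⟩
  have hroot : P.root (P.reflectionPerm j a) = P.root a - p • P.root j := by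
    rw [P.root_reflectionPerm, P.reflection_apply_root' ℤ, hp]
  let f' : idx → ℤ := fun k => f k - p * (if k = j then 1 else 0)
  have hf' : P.root (P.reflectionPerm j a) = ∑ k ∈ b.support, f' k • P.root k := by
    rw [hroot, hf₂]
    simp only [f', sub_smul, Finset.sum_sub_distrib]
    congr 1
    rw [Finset.sum_eq_single j]
    · simp
    · intro k _ hk; simp [hk]
    · intro h; exact absurd hj h
  rw [Base.isPos_iff', Base.height_eq_sum hf']
  have hsupp : Function.support f' ⊆ b.support := by
    intro k hk
    by_contra hkn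
    have h1 : f k = 0 := by
      by_contra h; exact hkn (hf₀ h)
    have h2 : k ≠ j := fun h => hkn (h ▸ hj)
    simp [f', h1, h2] at hk
  rcases b.pos_or_neg_of_sum_smul_root_mem f' ⟨P.reflectionPerm j a, hf'⟩ hsupp with h | h
  · exact Finset.sum_nonneg fun k _ => h.le k
  · exfalso
    have hk0 : ∀ k, k ≠ j → f k = 0 := by
      intro k hk
      have h1 : f' k ≤ 0 := h.le k
      have h2 : 0 ≤ f k := hfpos.le k
      simp only [f', if_neg hk, mul_zero, sub_zero] at h1
      omega
    have hroota : P.root a = f j • P.root j := by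
      rw [hf₂, Finset.sum_eq_single j]
      · intro k _ hk; rw [hk0 k hk, zero_smul]
      · intro h; exact absurd hj h
    have : IsReflexive ℤ M := .of_isPerfPair P.toLinearMap
    have : IsReflexive ℤ N := .of_isPerfPair P.flip.toLinearMap
    have : IsAddTorsionFree M := .of_isTorsionFree ℤ M
    have : IsAddTorsionFree N := .of_isTorsionFree ℤ N
    rcases b.eq_one_or_neg_one_of_mem_support_of_smul_mem j hj (f j) ⟨a, hroota⟩ with h1 | h1
    · apply haj; apply P.root.injective; rw [hroota, h1, one_smul]
    · have := hfpos.le j; rw [h1] at this; simp at this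

theorem main (R₁ R₂ : Set idx)
    (h₂ : ∀ a b c : idx, a ∈ R₂ → b ∈ R₂ → P.root a + P.root b = P.root c → c ∈ R₂)
    (hb₂ : ∃ b : P.Base, RedSub.posRoots P b ⊆ R₂)
    (hunion : R₁ ∪ R₂ = Set.univ) :
    ∀ (n : ℕ) (b : P.Base), (∀ a, b.IsPos a → a ∈ R₁) →
      Set.ncard {a | b.IsPos a ∧ ng P a ∉ R₂} = n →
      ∃ b' : P.Base, ∀ a, b'.IsPos a → a ∈ R₁ ∧ ng P a ∈ R₂ := by
  intro n
  induction n using Nat.strong_induction_on with
  | _ n ih =>
    intro b hb hn
    by_cases hall : ∀ j ∈ b.support, ng P j ∈ R₂
    · refine ⟨b, fun a ha => ⟨hb a ha, ?_⟩⟩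
      refine ha.induction_on_add (p := fun a => ng P a ∈ R₂) hall ?_
      intro i j k hk hi hj
      exact h₂ (ng P i) (ng P j) (ng P k) hi (hall j hj)
        (by rw [root_ng, root_ng, root_ng, hk, neg_add])
    · push Not at hall
      obtain ⟨j, hj, hjn⟩ := hall
      obtain ⟨b₂, hb₂⟩ := hb₂
      have hjR₂ : j ∈ R₂ := by
        apply hb₂
        rw [posRoots_iff]
        by_contra hneg
        have : b₂.IsPos (ng P j) := (isPos_ng P b₂ j).mpr hneg
        exact hjn (hb₂ ((posRoots_iff P b₂ _).mpr this))
      have hjR₁ : ng P j ∈ R₁ := by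
        have : ng P j ∈ R₁ ∪ R₂ := by rw [hunion]; trivial
        exact this.resolve_right hjn
      have hσj : P.reflectionPerm j j = ng P j := rfl
      refine ih _ ?_ (reflBase P b j) ?_ rfl
      · rw [← hn]
        apply Set.ncard_lt_ncard _ (Set.toFinite _)
        constructor
        · rintro a ⟨ha, ha'⟩
          rw [reflBase_isPos] at ha
          refine ⟨?_, ha'⟩
          have hne : P.reflectionPerm j a ≠ j := by
            intro h
            apply ha'
            have : a = ng P j := by
              have h3 := P.reflectionPerm_self (i := j) (j := a)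
              rw [h] at h3
              exact h3.symm
            rw [this, ng_ng]; exact hjR₂
          have := isPos_refl P b ha hj hne
          rwa [P.reflectionPerm_self] at this
        · intro hsub
          have hjmem : j ∈ {a | b.IsPos a ∧ ng P a ∉ R₂} := ⟨Base.isPos_of_mem_support hj, hjn⟩
          have := (hsub hjmem).1
          rw [reflBase_isPos, hσj, isPos_ng] at this
          exact this (Base.isPos_of_mem_support hj)
      · intro a ha
        rw [reflBase_isPos] at ha
        by_cases h : P.reflectionPerm j a = j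
        · have : a = ng P j := by
            have h3 := P.reflectionPerm_self (i := j) (j := a)
            rw [h] at h3
            exact h3.symm
          rw [this]; exact hjR₁
        · have := isPos_refl P b ha hj h
          rw [P.reflectionPerm_self] at this
          exact hb a this

theorem main' (R₁ R₂ : Set idx)
    (h₂ : ∀ a b c : idx, a ∈ R₂ → b ∈ R₂ → P.root a + P.root b = P.root c → c ∈ R₂)
    (hb₁ : ∃ b : P.Base, RedSub.posRoots P b ⊆ R₁) (hb₂ : ∃ b : P.Base, RedSub.posRoots P b ⊆ R₂)
    (hunion : R₁ ∪ R₂ = Set.univ) :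
    ∃ b : P.Base, RedSub.posRoots P b ⊆ {a | a ∈ R₁ ∧ ∃ c ∈ R₂, P.root a = -P.root c} := by
  obtain ⟨b₁, hb₁⟩ := hb₁
  obtain ⟨b', hb'⟩ := main P R₁ R₂ h₂ hb₂ hunion _ b₁
    (fun a ha => hb₁ ((posRoots_iff P b₁ a).mpr ha)) rfl
  refine ⟨b', fun a ha => ?_⟩
  rw [posRoots_iff] at ha
  obtain ⟨h1, h2⟩ := hb' a ha
  exact ⟨h1, ng P a, h2, by rw [root_ng, neg_neg]⟩

end Helpers

/-- Let R be the set of roots of a root pairing over ℤ with finitely many roots, and R₁, R₂ two closed
subsets of R (if a, b ∈ Rᵢ and root a + root b is a root c then c ∈ Rᵢ), each containing a system of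
positive roots (the positive roots of some base). If R₁ ∪ R₂ = R, then R₁ ∩ (−R₂) (the roots of R₁
whose negative is a root in R₂) contains a system of positive roots. -/
theorem result {idx M N : Type} [Finite idx] [AddCommGroup M] [AddCommGroup N] (P : RootPairing idx ℤ M N) (R₁ R₂ : Set idx)
    (h₁ : ∀ a b c : idx, a ∈ R₁ → b ∈ R₁ → P.root a + P.root b = P.root c → c ∈ R₁)
    (h₂ : ∀ a b c : idx, a ∈ R₂ → b ∈ R₂ → P.root a + P.root b = P.root c → c ∈ R₂)
    (hb₁ : ∃ b : P.Base, RedSub.posRoots P b ⊆ R₁) (hb₂ : ∃ b : P.Base, RedSub.posRoots P b ⊆ R₂)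
    (hunion : R₁ ∪ R₂ = Set.univ) :
    ∃ b : P.Base, RedSub.posRoots P b ⊆ {a | a ∈ R₁ ∧ ∃ c ∈ R₂, P.root a = -P.root c} := by

  exact main' P R₁ R₂ h₂ hb₁ hb₂ hunion

end Groth.Agent.S8517
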