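import Groth.Statements.S8524
import Groth.Agent.Lib.Helper22.EtStalk.Conservative

set_option autoImplicit false
universe u
open CategoryTheory CategoryTheory.Limits AlgebraicGeometry Opposite
open EtAcyc

namespace Groth.Agent.S8524

/-- For the small etale site of a scheme and abelian sheaves: let L be a set of primes, F an abelian
L-torsion sheaf on the small etale site of a scheme X, and U an etale X-scheme with quasi-compact
underlying space. Then every section of F over U is killed by some positive integer all of whose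
prime factors lie in L. -/
theorem result {X : Scheme.{u}} (L : Set ℕ) (F : EtCoh.Ab X)
    (hF : EtAcyc.IsLTorsion L F) (U : X.Etale) [CompactSpace U.left] (s : EtCoh.sect F U) :
    ∃ m : ℕ, EtAcyc.PrimesIn L m ∧ m • s = 0 := by
  classical
  choose V g m hv hm hs using fun y : U.left => hF U s y
  have hopen : ∀ y, IsOpen (Set.range (g y).left.base) := fun y =>
    (g y).left.isOpenMap.isOpen_range
  have hcover : (Set.univ : Set U.left) ⊆ ⋃ y, Set.range (g y).left.base := by
    intro y _
    exact Set.mem_iUnion.2 ⟨y, hv y⟩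
  obtain ⟨t, ht⟩ := isCompact_univ.elim_finite_subcover _ hopen hcover
  refine ⟨∏ y ∈ t, m y, ⟨?_, ?_⟩, ?_⟩
  · exact Finset.prod_pos (fun y _ => (hm y).1)
  · intro p hp hdiv
    obtain ⟨y, _, hpy⟩ := (Prime.dvd_finsetProd_iff hp.prime _).1 hdiv
    exact (hm y).2 p hp hpy
  · refine Groth.Agent.Lib.Helper22.EtStalk.eq_of_locally_eq _ 0 ?_
    intro y
    obtain ⟨y', hy't, hy'⟩ : ∃ y' ∈ t, y ∈ Set.range (g y').left.base := by
      simpa using ht (Set.mem_univ y)
    refine ⟨V y', g y', hy', ?_⟩
    rw [map_nsmul, map_zero]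
    obtain ⟨k, hk⟩ := Finset.dvd_prod_of_mem m hy't
    rw [hk, mul_nsmul, hs y', nsmul_zero]

end Groth.Agent.S8524
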