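import Groth.Statements.S8525
import Groth.Agent.Lib.Helper22.EtStalk.Conservative

set_option autoImplicit false
universe u
open CategoryTheory CategoryTheory.Limits AlgebraicGeometry Opposite
open EtAcyc

namespace Groth.Agent.S8525

/-- Let L be a set of primes and F an abelian sheaf on the small etale site of a scheme X. Then F is an
L-torsion sheaf if and only if for every geometric point ξ of X every element of the stalk F_ξ is
killed by a positive integer all of whose prime factors lie in L. -/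
theorem result {X : Scheme.{u}} (L : Set ℕ) (F : EtCoh.Ab X) :
    EtAcyc.IsLTorsion L F ↔
      ∀ (Ω : Type u) [Field Ω] [IsSepClosed Ω] (ξ : Spec (CommRingCat.of Ω) ⟶ X)
        (t : (EtCoh.stalk ξ).obj F), ∃ m : ℕ, EtAcyc.PrimesIn L m ∧ m • t = 0 := by
  classical
  constructor
  · intro h Ω _ _ ξ t
    let Φ := Scheme.pointSmallEtale ξ
    obtain ⟨U, x, s, rfl⟩ := Φ.toPresheafFiber_jointly_surjective (P := F.obj) t
    let R : Sieve U := ⟨fun V f => ∃ m : ℕ, EtAcyc.PrimesIn L m ∧ m • F.obj.map f.op s = 0, by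
      intro V W f hf g
      obtain ⟨m, hm, hs⟩ := hf
      refine ⟨m, hm, ?_⟩
      rw [op_comp, Functor.map_comp]
      change m • (F.obj.map g.op) ((F.obj.map f.op) s) = 0
      rw [← map_nsmul, hs, map_zero]⟩
    have hR : R ∈ X.smallEtaleTopology U := by
      rw [Groth.Agent.Lib.Helper22.CechU.Etale.mem_smallEtaleTopology_iff]
      intro y
      obtain ⟨V, g, m, ⟨v, hv⟩, hm, hs⟩ := h U s y
      exact ⟨V, g, v, ⟨m, hm, hs⟩, hv⟩
    obtain ⟨W, f, ⟨m, hm, hs⟩, x', hx'⟩ := Φ.jointly_surjective R hR x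
    refine ⟨m, hm, ?_⟩
    have e1 := Groth.Agent.Lib.Helper22.EtStalk.germ_map ξ F f x' s
    rw [hx'] at e1
    change m • (Groth.Agent.Lib.Helper22.EtStalk.germ ξ F U x s) = 0
    rw [← e1, ← map_nsmul, hs, map_zero]
  · intro h U s y
    obtain ⟨Ω, _, _, ξ, x, hx⟩ := Groth.Agent.Lib.Helper22.EtStalk.exists_geomPoint U y
    let Φ := Scheme.pointSmallEtale ξ
    obtain ⟨m, hm, ht⟩ := h Ω ξ (Groth.Agent.Lib.Helper22.EtStalk.germ ξ F U x s)
    have h1 : Groth.Agent.Lib.Helper22.EtStalk.germ ξ F U x (m • s) =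
        Groth.Agent.Lib.Helper22.EtStalk.germ ξ F U x 0 := by
      rw [map_nsmul, map_zero]
      exact ht
    obtain ⟨V, f, v, hv, hf⟩ := (Φ.toPresheafFiber_eq_iff' (P := F.obj) U x (m • s) 0).1 h1
    refine ⟨V, f, m, ⟨v.left (default : Spec (CommRingCat.of Ω)), ?_⟩, hm, ?_⟩
    · rw [← hx, ← hv]
      rfl
    · rw [map_nsmul, map_zero] at hf
      exact hf

end Groth.Agent.S8525
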