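import Groth.Statements.S8527
import Groth.Agent.Lib.Helper22.Strata.Noeth

set_option autoImplicit false
universe u
open CategoryTheory CategoryTheory.Limits AlgebraicGeometry Opposite
open EtPBC

namespace Groth.Agent.S8527

open Groth.Agent.Lib.Helper22.Strata Set Topology TopologicalSpace


/-- Let X be a locally Noetherian scheme and F an abelian sheaf on its small etale site. Then F is
constructible if and only if for every point x of X there is a nonempty open subset of the closure
of x along which F becomes finite locally constant; precisely: there are an open V containing x and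
an immersion g : T → X with image V ∩ closure(x) such that the inverse image of F along g is finite
locally constant. -/
theorem result {X : Scheme.{u}} [IsLocallyNoetherian X]
    (F : EtCoh.Ab X) :
    EtPBC.IsConstructible F ↔
      ∀ x : X, ∃ (V : X.Opens) (T : Scheme.{u}) (g : T ⟶ X), IsImmersion g ∧ x ∈ V ∧
        Set.range g.base = (V : Set X) ∩ closure {x} ∧
        EtCoh.IsFiniteLocallyConstant ((EtCoh.pull g).obj F) := by
  constructor
  · intro hF x
    obtain ⟨V₀, hV₀, hxV₀, -⟩ := Opens.isBasis_iff_nbhd.1 X.isBasis_affineOpens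
      (show x ∈ (⊤ : X.Opens) from trivial)
    obtain ⟨ι, fin, T, g, him, hc, hdis, hun, hP⟩ := (adaptedStrata_iff F _).1 (hF V₀ hV₀)
    have := him
    have hx : x ∈ ⋃ i, Set.range (g i) := by rw [hun]; exact hxV₀
    obtain ⟨i, hxi⟩ := mem_iUnion.1 hx
    obtain ⟨O, C, hO, hC, h⟩ : IsLocallyClosed (Set.range (g i)) := IsImmersion.isLocallyClosed_range
    obtain ⟨Tz, z, hz, hzr⟩ := exists_closedImmersion_range (closure {x}) isClosed_closure
    have hxOC : x ∈ O ∩ C := by rw [← h]; exact hxi
    have hclC : closure {x} ⊆ C := hC.closure_subset_iff.2 (singleton_subset_iff.2 hxOC.2)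
    refine ⟨⟨O, hO⟩, pullback (g i) z, pullback.fst (g i) z ≫ g i, inferInstance, hxOC.1, ?_,
      PF_stable F _ _ (hP i)⟩
    change Set.range (pullback.fst (g i) z ≫ g i) = O ∩ closure {x}
    rw [Scheme.Pullback.range_fst_comp, hzr, h, inter_assoc, inter_eq_right.2 hclC]
  · intro H V₀ hV₀
    rw [adaptedStrata_iff]
    exact stIn_of_generic_flc F H V₀ hV₀

end Groth.Agent.S8527
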