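import Groth.Statements.S8528
import Groth.Agent.Lib.Helper22.Unibranch.Gen3
import Groth.Agent.Lib.Helper22.FieldH1.Main

set_option autoImplicit false
universe u
open CategoryTheory CategoryTheory.Limits AlgebraicGeometry Opposite
open EtPBC

namespace Groth.Agent.S8528

open Groth.Agent.Lib.Helper22.EtLoc.ConstHom Groth.Agent.Lib.Helper22.NormalUnit
  Groth.Agent.Lib.Helper22.Unibranch


/-- Let X be an irreducible scheme all of whose strict localizations are irreducible (for every point x
and every strict henselization R of the local ring at x, Spec R is irreducible; that is, X is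
geometrically unibranch), and M a torsion-free abelian group. Then H^1(X, M_X) = 0 for the constant
sheaf M_X on the small etale site. -/
theorem result (X : Scheme.{u}) [IrreducibleSpace X]
    (hX : ∀ (x : X) (R : Type u) [CommRing R] [IsLocalRing R] [Algebra (X.presheaf.stalk x) R]
      [IsLocalHom (algebraMap (X.presheaf.stalk x) R)] [Hensel.IsStrictHenselization (X.presheaf.stalk x) R],
      IrreducibleSpace (PrimeSpectrum R))
    (M : Type) [AddCommGroup M] [IsAddTorsionFree M] :
    Subsingleton (EtCoh.H X (EtCoh.const X M) 1) := by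
  have hM : ∀ (n : ℕ), 0 < n → ∀ m : (AddCommGrpCat.of (ULift.{u + 1} M)), n • m = 0 → m = 0 := by
    intro n hn m hm
    apply ULift.ext
    have h1 : n • m.down = 0 := congrArg ULift.down hm
    exact (nsmul_eq_zero_iff_right (Nat.pos_iff_ne_zero.1 hn)).1 h1
  have hg : Set.range (X.fromSpecResidueField (genericPoint X)) = {genericPoint X} :=
    Scheme.range_fromSpecResidueField (genericPoint X)
  have hU : GeomUnibranch X := hX
  have hmono := Gen3.mono_ψc_generic (X := X) (AddCommGrpCat.of (ULift.{u + 1} M))
    (X.fromSpecResidueField (genericPoint X)) hg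
  have hepi : Epi (ψc (X.fromSpecResidueField (genericPoint X))
      (AddCommGrpCat.of (ULift.{u + 1} M))) :=
    (Sheaf.isLocallySurjective_iff_epi' _ _).1
      (Gen3.isLocallySurjective_ψc_generic (AddCommGrpCat.of (ULift.{u + 1} M))
        (X.fromSpecResidueField (genericPoint X)) hg hU)
  have hiso : IsIso (ψc (X.fromSpecResidueField (genericPoint X))
      (AddCommGrpCat.of (ULift.{u + 1} M))) := isIso_of_mono_of_epi _
  have h2 := Groth.Agent.Lib.Helper22.FieldH1.subsingleton_H1_push_field
    (X.residueField (genericPoint X))
    (X.fromSpecResidueField (genericPoint X)) (AddCommGrpCat.of (ULift.{u + 1} M)) hM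
  let e := (EtCoh.HF X 1).mapIso (asIso (ψc (X.fromSpecResidueField (genericPoint X))
      (AddCommGrpCat.of (ULift.{u + 1} M))))
  have : Subsingleton ↑((EtCoh.HF X 1).obj
      ((EtCoh.push (X.fromSpecResidueField (genericPoint ↥X))).obj
        (cst (AddCommGrpCat.of (ULift.{u + 1, 0} M))))) := h2
  exact e.addCommGroupIsoToAddEquiv.toEquiv.subsingleton

end Groth.Agent.S8528
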