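import Groth.Statements.S8532
import Groth.Agent.Lib.Helper22.EtLoc.SectionPoint
import Groth.Agent.Lib.Helper22.EtStalk.LTorsion
import Groth.Agent.Lib.Helper22.EtStalk.IsoStalks
import Groth.Agent.S19975

set_option autoImplicit false
universe u
open CategoryTheory CategoryTheory.Limits AlgebraicGeometry Opposite
open EtAcyc

namespace Groth.Agent.S8532

open Groth.Agent.Lib.Helper22.EtLoc Groth.Agent.Lib.Helper22.EtStalk Groth.Agent.S19975

lemma eq_zero_of_coprime_nsmul {A : Type*} [AddCommGroup A] (x : A) (a b : ℕ) (hab : Nat.Coprime a b)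
    (ha : a • x = 0) (hb : b • x = 0) : x = 0 := by
  have h1 := addOrderOf_dvd_of_nsmul_eq_zero ha
  have h2 := addOrderOf_dvd_of_nsmul_eq_zero hb
  have h3 : addOrderOf x ∣ 1 := by
    rw [← Nat.Coprime.gcd_eq_one hab]
    exact Nat.dvd_gcd h1 h2
  exact AddMonoid.addOrderOf_eq_one_iff.1 (Nat.dvd_one.1 h3)

lemma exists_nsmul_eq_of_coprime {A : Type*} [AddCommGroup A] (z : A) (d m : ℕ)
    (hdm : Nat.Coprime d m) (hm : m • z = 0) : ∃ y : A, d • y = z := by
  have h := Nat.Coprime.isCoprime hdm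
  obtain ⟨a, b, hab⟩ := h
  refine ⟨a • z, ?_⟩
  have h1 : (a * (d : ℤ) + b * (m : ℤ)) • z = z := by rw [hab, one_smul]
  have h2 : ((m : ℤ)) • z = 0 := by rw [natCast_zsmul, hm]
  rw [add_smul, mul_smul, mul_smul, h2, smul_zero, add_zero] at h1
  rw [← natCast_zsmul, smul_comm]
  exact h1

lemma isIso_nsmul_of_isLTorsion {X : Scheme.{u}} (d : ℕ) (L : Set ℕ)
    (hL : ∀ p : ℕ, p.Prime → p ∈ L → ¬ p ∣ d) (F : EtCoh.Ab X) (hF : EtAcyc.IsLTorsion L F) :
    IsIso (d • 𝟙 F) := by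
  rw [isLTorsion_iff_stalks] at hF
  have hcop : ∀ m, EtAcyc.PrimesIn L m → Nat.Coprime d m := by
    intro m hm
    apply Nat.Coprime.symm
    exact Nat.coprime_of_dvd (fun p hp hpm => hL p hp (hm.2 p hp hpm))
  apply isIso_of_stalks
  intro Ω _ _ ξ
  rw [ConcreteCategory.isIso_iff_bijective]
  have hmap : ∀ z : (EtCoh.stalk ξ).obj F, (EtCoh.stalk ξ).map (d • 𝟙 F) z = d • z := by
    intro z
    rw [Functor.map_nsmul, CategoryTheory.Functor.map_id]
    rfl
  constructor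
  · rw [injective_iff_map_eq_zero]
    intro z hz
    change (EtCoh.stalk ξ).map (d • 𝟙 F) z = 0 at hz
    rw [hmap] at hz
    obtain ⟨m, hm, hmz⟩ := hF Ω ξ z
    exact eq_zero_of_coprime_nsmul z d m (hcop m hm) hz hmz
  · intro z
    obtain ⟨m, hm, hmz⟩ := hF Ω ξ z
    obtain ⟨y, hy⟩ := exists_nsmul_eq_of_coprime z d m (hcop m hm) hmz
    refine ⟨y, ?_⟩
    change (EtCoh.stalk ξ).map (d • 𝟙 F) y = z
    rw [hmap, hy]


/-- Let f : X' → X be finite etale of constant degree d (every geometric fibre has exactly d points), L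
a set of primes such that no prime in L divides d, F an abelian L-torsion sheaf on the small etale
site of X, and q a natural number. If H^q(X', f⁻¹F) = 0, then H^q(X, F) = 0. -/
theorem result {X X' : Scheme.{u}} (f : X' ⟶ X) [IsFinite f] [Etale f]
    (d : ℕ) (hd : ∀ (Ω : Type u) [Field Ω] [IsSepClosed Ω] (ξ : Spec (CommRingCat.of Ω) ⟶ X),
      Nat.card ↥(pullback f ξ) = d)
    (L : Set ℕ) (hL : ∀ p : ℕ, p.Prime → p ∈ L → ¬ p ∣ d) (F : EtCoh.Ab X) (hF : EtAcyc.IsLTorsion L F)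
    [PreservesFiniteLimits (EtCoh.pull f)] (q : ℕ)
    (h : Subsingleton (EtCoh.H X' ((EtCoh.pull f).obj F) q)) :
    Subsingleton (EtCoh.H X F q) := by
  refine subsingleton_of_forall_eq 0 fun x => ?_
  have hx : EtCore.Hpull f F q x = 0 := Subsingleton.elim _ _
  have hdx : d • x = 0 := nsmul_eq_zero_of_Hpull_eq_zero f d
    (fun Ω _ _ ξ => (card_lifts_eq_card_fibre f ξ).trans (hd Ω ξ)) F q x hx
  have hI := isIso_nsmul_of_isLTorsion d L hL F hF
  have h1 : Sheaf.H.map (d • 𝟙 F) q x = 0 := by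
    have e : (d • 𝟙 F : F ⟶ F) = ((d : ℤ)) • 𝟙 F := (natCast_zsmul _ _).symm
    rw [e, H_map_zsmul_id, natCast_zsmul, hdx]
  have h2 : Sheaf.H.map (inv (d • 𝟙 F)) q (Sheaf.H.map (d • 𝟙 F) q x) = x := by
    rw [← H_map_comp, IsIso.hom_inv_id, H_map_id]
  rw [← h2, h1, map_zero]

end Groth.Agent.S8532
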