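import Groth.Statements.S8535
import Groth.Agent.Lib.Helper25.DeltaFIso

set_option autoImplicit false
universe v v' u u'
open CategoryTheory CategoryTheory.Limits
open DeltaF

namespace Groth.Agent.S8535

open Groth.Agent.Lib.Helper25.DeltaFEff Groth.Agent.Lib.Helper25.DeltaFIso

section
variable {A : Type u} [Category.{v} A] [Abelian A]
    {B : Type u'} [Category.{v'} B] [Abelian B] {T T' : DeltaF.CohDeltaFunctor A B ℕ}

theorem mono_succ_of_iso (hT : T.IsEffaceable) (φ : T ⟶ T') (k : ℕ)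
    (h : ∀ X : A, IsIso ((φ.app k).app X)) (X : A) : Mono ((φ.app (k + 1)).app X) := by
  obtain ⟨Y, u, hu, h0⟩ := hT k X
  have h1 := h Y
  have h2 := h (cokernel u)
  exact mono_app_succ φ k u h0 inferInstance inferInstance

theorem a_of_b (hT : T.IsEffaceable) (φ : T ⟶ T') (n : ℕ)
    (hm : ∀ X : A, Mono ((φ.app 0).app X)) (he : ∀ i : ℕ, i ≤ n → ∀ X : A, Epi ((φ.app i).app X)) :
    (∀ i : ℕ, i ≤ n → ∀ X : A, IsIso ((φ.app i).app X)) ∧ ∀ X : A, Mono ((φ.app (n + 1)).app X) := by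
  have P : ∀ i : ℕ, i ≤ n + 1 → ∀ X : A, Mono ((φ.app i).app X) := by
    intro i
    induction i with
    | zero => exact fun _ => hm
    | succ k ih =>
      intro hk X
      have hk' : k ≤ n := by omega
      refine mono_succ_of_iso hT φ k (fun Z => ?_) X
      have := ih (by omega) Z
      have := he k hk' Z
      exact isIso_of_mono_of_epi _
  refine ⟨fun i hi X => ?_, P (n + 1) le_rfl⟩
  have := P i (by omega) X
  have := he i hi X
  exact isIso_of_mono_of_epi _

theorem a_of_c (hT : T.IsEffaceable) (φ : T ⟶ T') (n : ℕ)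
    (h0 : ∀ X : A, IsIso ((φ.app 0).app X))
    (he : ∀ i : ℕ, 0 < i → i ≤ n → ∀ X : A, ∃ (Y : A) (u : X ⟶ Y), Mono u ∧ (T'.F i).map u = 0) :
    (∀ i : ℕ, i ≤ n → ∀ X : A, IsIso ((φ.app i).app X)) ∧ ∀ X : A, Mono ((φ.app (n + 1)).app X) := by
  have P : ∀ i : ℕ, i ≤ n → ∀ X : A, IsIso ((φ.app i).app X) := by
    intro i
    induction i with
    | zero => exact fun _ => h0
    | succ k ih =>
      intro hk X
      have ih' := ih (by omega)
      have := mono_succ_of_iso hT φ k ih' X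
      obtain ⟨Y, u, hu, hu0⟩ := he (k + 1) (by omega) hk X
      have := ih' (cokernel u)
      have := epi_app_succ φ k u hu0 inferInstance
      exact isIso_of_mono_of_epi _
  exact ⟨P, mono_succ_of_iso hT φ n (P n le_rfl)⟩

end

/-- Let A and B be abelian categories, T and T' cohomological delta-functors from A to B in degrees ≥ 0
whose degree-0 components are left exact (they vanish in negative degrees), such that T^i is
effaceable for every i > 0, and let φ : T → T' be a morphism of delta-functors and n a natural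
number. Then the following are equivalent: (a) φ^i is an isomorphism for i ≤ n and a monomorphism
for i = n + 1; (b) φ^0 is a monomorphism and φ^i is an epimorphism for every i ≤ n; (c) φ^0 is an
isomorphism and, for 0 < i ≤ n, T'^i is effaceable (every object X admits a monomorphism X → Y
killed by T'^i). -/
theorem result {A : Type u} [Category.{v} A] [Abelian A]
    {B : Type u'} [Category.{v'} B] [Abelian B] (T T' : DeltaF.CohDeltaFunctor A B ℕ)
    (h0 : T.ZeroMono) (h0' : T'.ZeroMono) (hT : T.IsEffaceable) (φ : T ⟶ T') (n : ℕ) :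
    ((∀ i : ℕ, i ≤ n → IsIso (φ.app i)) ∧ Mono (φ.app (n + 1)) ↔
      (Mono (φ.app 0) ∧ ∀ i : ℕ, i ≤ n → Epi (φ.app i))) ∧
    ((∀ i : ℕ, i ≤ n → IsIso (φ.app i)) ∧ Mono (φ.app (n + 1)) ↔
      (IsIso (φ.app 0) ∧ ∀ i : ℕ, 0 < i → i ≤ n → ∀ X : A, ∃ (Y : A) (u : X ⟶ Y), Mono u ∧ (T'.F i).map u = 0)) := by
  have hiso : ∀ i : ℕ, IsIso (φ.app i) ↔ ∀ X : A, IsIso ((φ.app i).app X) :=
    fun i => NatTrans.isIso_iff_isIso_app _
  have hmono : ∀ i : ℕ, Mono (φ.app i) ↔ ∀ X : A, Mono ((φ.app i).app X) :=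
    fun i => NatTrans.mono_iff_mono_app _
  have hepi : ∀ i : ℕ, Epi (φ.app i) ↔ ∀ X : A, Epi ((φ.app i).app X) :=
    fun i => NatTrans.epi_iff_epi_app _
  constructor
  · constructor
    · rintro ⟨h1, h2⟩
      refine ⟨?_, fun i hi => ?_⟩
      · have := h1 0 (Nat.zero_le _)
        infer_instance
      · have := h1 i hi
        infer_instance
    · rintro ⟨h1, h2⟩
      obtain ⟨r1, r2⟩ := a_of_b hT φ n ((hmono 0).1 h1) (fun i hi => (hepi i).1 (h2 i hi))
      exact ⟨fun i hi => (hiso i).2 (r1 i hi), (hmono _).2 r2⟩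
  · constructor
    · rintro ⟨h1, h2⟩
      refine ⟨h1 0 (Nat.zero_le _), fun i hi0 hi X => ?_⟩
      obtain ⟨k, rfl⟩ : ∃ k, i = k + 1 := ⟨i - 1, by omega⟩
      obtain ⟨Y, u, hu, hu0⟩ := hT k X
      refine ⟨Y, u, hu, ?_⟩
      have hI := (hiso (k + 1)).1 (h1 (k + 1) hi)
      have := hI X
      rw [← cancel_epi ((φ.app (k + 1)).app X), ← (φ.app (k + 1)).naturality, hu0, zero_comp,
        comp_zero]
    · rintro ⟨h1, h2⟩
      obtain ⟨r1, r2⟩ := a_of_c hT φ n ((hiso 0).1 h1) h2
      exact ⟨fun i hi => (hiso i).2 (r1 i hi), (hmono _).2 r2⟩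

end Groth.Agent.S8535
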