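import Groth.Statements.S8536
import Groth.Agent.Lib.Helper22.EtLoc.HpullDelta

set_option autoImplicit false
open CategoryTheory CategoryTheory.Limits AlgebraicGeometry Opposite Abelian
universe u

namespace Groth.Agent.S8536

open Groth.Agent.Lib.Helper22.EtLoc Groth.Agent.Lib.Helper22.CechU.Etale

/-- A quotient of an `L`-torsion sheaf is `L`-torsion. -/
lemma isLTorsion_of_epi {X : Scheme.{u}} (L : Set ℕ) {G Q : EtCoh.Ab X} (π : G ⟶ Q) [Epi π]
    (hG : EtAcyc.IsLTorsion L G) : EtAcyc.IsLTorsion L Q := by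
  intro U s x
  have hls : Sheaf.IsLocallySurjective π := (Sheaf.isLocallySurjective_iff_epi' (φ := π)).2 inferInstance
  have hcov := Presheaf.imageSieve_mem X.smallEtaleTopology π.hom (U := op U) s
  rw [mem_smallEtaleTopology_iff] at hcov
  obtain ⟨V, k, v, ⟨t, ht⟩, hv⟩ := hcov x
  obtain ⟨W, g, m, ⟨w, hw⟩, hm, hmt⟩ := hG V t v
  refine ⟨W, g ≫ k, m, ⟨w, ?_⟩, hm, ?_⟩
  · change k.left (g.left w) = x
    rw [hw, hv]
  · have n1 : π.hom.app (op W) (G.obj.map g.op t) = Q.obj.map g.op (π.hom.app (op V) t) :=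
      NatTrans.naturality_apply π.hom g.op t
    rw [op_comp, Functor.map_comp, ConcreteCategory.comp_apply, ← ht, ← n1, ← map_nsmul, hmt,
      map_zero]

/-- Let h : Y → X be a morphism of quasi-compact quasi-separated schemes, L a set of primes and n a
natural number, and suppose that for every abelian L-torsion sheaf on X the pullback map on etale
cohomology along h is bijective in degrees ≤ n and injective in degree n + 1. Let u : F → G be a
monomorphism of abelian L-torsion sheaves on X and ξ a class in H^{n+1}(Y, h⁻¹F) whose image in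
H^{n+1}(Y, h⁻¹G) comes from H^{n+1}(X, G). Then ξ comes from H^{n+1}(X, F). -/
theorem result {X Y : Scheme.{u}} [CompactSpace X] [QuasiSeparatedSpace X]
    [CompactSpace Y] [QuasiSeparatedSpace Y] (h : Y ⟶ X) (L : Set ℕ) (n : ℕ) (hc : EtAcyc.CompN h L n)
    [PreservesFiniteLimits (EtCoh.pull h)] {F G : EtCoh.Ab X} (u : F ⟶ G) [Mono u]
    (hF : EtAcyc.IsLTorsion L F) (hG : EtAcyc.IsLTorsion L G)
    (ξ : EtCoh.H Y ((EtCoh.pull h).obj F) (n + 1))
    (hξ : (EtCoh.HF Y (n + 1)).map ((EtCoh.pull h).map u) ξ ∈ Set.range (EtCore.Hpull h G (n + 1))) :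
    ξ ∈ Set.range (EtCore.Hpull h F (n + 1)) := by
  obtain ⟨t, ht⟩ := hξ
  let S : ShortComplex (EtCoh.Ab X) := ShortComplex.mk u (cokernel.π u) (cokernel.condition u)
  have hS : S.ShortExact :=
    { exact := ShortComplex.exact_cokernel u
      mono_f := inferInstanceAs (Mono u)
      epi_g := inferInstanceAs (Epi (cokernel.π u)) }
  have hQ : EtAcyc.IsLTorsion L S.X₃ := isLTorsion_of_epi L (cokernel.π u) hG
  have hS' := hS.map_of_exact (EtCoh.pull h)
  obtain ⟨-, hinjQ⟩ := hc S.X₃ hQ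
  obtain ⟨hbijQ, -⟩ := hc S.X₃ hQ
  -- step 1
  have ht' : EtCore.Hpull h G (n + 1) t = ξ.comp (Ext.mk₀ ((EtCoh.pull h).map u)) (add_zero _) := ht
  have h1 : EtCore.Hpull h S.X₃ (n + 1) (t.comp (Ext.mk₀ S.g) (add_zero _)) = 0 := by
    have e := Hpull_naturality h S.g (n + 1) t
    rw [e, ht', Ext.comp_assoc_of_third_deg_zero, Ext.mk₀_comp_mk₀, ← Functor.map_comp]
    have : u ≫ S.g = 0 := S.zero
    rw [this, Functor.map_zero, Ext.mk₀_zero, Ext.comp_zero]
  have h2 : t.comp (Ext.mk₀ S.g) (add_zero _) = 0 := hinjQ (h1.trans (map_zero _).symm)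
  obtain ⟨s, hs⟩ := Ext.covariant_sequence_exact₂ _ hS t h2
  -- step 3
  let d := ξ - EtCore.Hpull h F (n + 1) s
  have hd : d.comp (Ext.mk₀ (S.map (EtCoh.pull h)).f) (add_zero _) = 0 := by
    have e := Hpull_naturality h S.f (n + 1) s
    rw [hs] at e
    change ((Ext.mk₀ ((EtCoh.pull h).map u)).postcomp _ (add_zero (n + 1))) d = 0
    dsimp only [d]
    rw [map_sub, sub_eq_zero]
    exact ht'.symm.trans e
  obtain ⟨z, hz⟩ := Ext.covariant_sequence_exact₁ _ hS' d hd (rfl : n + 1 = n + 1)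
  obtain ⟨z₀, hz₀⟩ := (hbijQ n le_rfl).2 z
  have e6 : EtCore.Hpull h F (n + 1) (z₀.comp hS.extClass rfl) =
      (EtCore.Hpull h S.X₃ n z₀).comp hS'.extClass rfl := Hpull_δ h S hS n (n + 1) rfl z₀
  have e7 : EtCore.Hpull h F (n + 1) (z₀.comp hS.extClass rfl) = d := by
    rw [e6, hz₀]
    exact hz
  refine ⟨s + z₀.comp hS.extClass rfl, ?_⟩
  rw [map_add, e7]
  dsimp only [d]
  abel

end Groth.Agent.S8536
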