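import Groth.Statements.S8542
import Groth.Agent.Lib.Helper22.EtStalk.PullShExact

set_option autoImplicit false
open CategoryTheory CategoryTheory.Limits AlgebraicGeometry Opposite
universe u
open EtBC

namespace Groth.Agent.S8542

open Groth.Agent.Lib.Helper22.EtStalk.PullShExact

/-- Sections of an equalizer of sheaves of sets. -/
lemma exists_section_of_regularMono {X : Scheme.{u}} {F G : EtDesc.Sh X} (a : F ⟶ G)
    (rm : RegularMono a) (U : X.Etale) (t : G.obj.obj (op U))
    (ht : rm.left.hom.app (op U) t = rm.right.hom.app (op U) t) :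
    ∃ s : F.obj.obj (op U), a.hom.app (op U) s = t := by
  let Γ : EtDesc.Sh X ⥤ Type (u + 1) :=
    sheafToPresheaf _ _ ⋙ (evaluation _ _).obj (op U)
  have hl := isLimitForkMapOfIsLimit Γ rm.w rm.isLimit
  obtain ⟨s, hs, -⟩ := Types.unique_of_type_equalizer _ _ hl t ht
  exact ⟨s, hs⟩

/-- Let h : Y → X be a morphism of quasi-compact quasi-separated schemes such that for every sheaf of
sets F on the small etale site of X the pullback map Γ(X, F) → Γ(Y, h^*F) is injective. Let u : F →
G be a monomorphism of sheaves of sets on X and ξ ∈ Γ(Y, h^*F) a section whose image in Γ(Y, h^*G)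
lies in the image of Γ(X, G). Then ξ lies in the image of Γ(X, F). -/
theorem result {X Y : Scheme.{u}} [CompactSpace X] [QuasiSeparatedSpace X]
    [CompactSpace Y] [QuasiSeparatedSpace Y] (h : Y ⟶ X)
    (hinj : ∀ F : EtDesc.Sh X, Function.Injective (EtDesc.secPull h F))
    {F G : EtDesc.Sh X} (u : F ⟶ G) [Mono u] (ξ : EtDesc.sect ((EtDesc.pullSh h).obj F) (EtCoh.top Y))
    (hξ : ((EtDesc.pullSh h).map u).hom.app (op (EtCoh.top Y)) ξ ∈ Set.range (EtDesc.secPull h G)) :
    ξ ∈ Set.range (EtDesc.secPull h F) := by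
  obtain ⟨t, ht⟩ := hξ
  let rm := regularMonoOfMono u
  have e1 : EtDesc.secPull h rm.Z (rm.left.hom.app _ t) =
      EtDesc.secPull h rm.Z (rm.right.hom.app _ t) := by
    rw [← secPull_naturality, ← secPull_naturality, ht]
    have w' : (EtDesc.pullSh h).map u ≫ (EtDesc.pullSh h).map rm.left =
        (EtDesc.pullSh h).map u ≫ (EtDesc.pullSh h).map rm.right := by
      rw [← Functor.map_comp, ← Functor.map_comp, rm.w]
    have w'' := congrArg (fun φ => φ.hom.app (op (EtCoh.top Y))) w'
    exact congrArg (fun ψ => (ConcreteCategory.hom ψ) ξ) w''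
  have e2 := hinj rm.Z e1
  obtain ⟨s, hs⟩ := exists_section_of_regularMono u rm (EtCoh.top X) t e2
  refine ⟨s, ?_⟩
  have hm : Mono ((EtDesc.pullSh h).map u) := inferInstance
  apply injective_of_mono ((EtDesc.pullSh h).map u) (EtCoh.top Y)
  rw [secPull_naturality, hs, ht]

end Groth.Agent.S8542
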