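import Groth.Statements.S8560
import Groth.Agent.Lib.Helper22.ColimCohU.RpushTorsion

set_option autoImplicit false
universe u
open CategoryTheory CategoryTheory.Limits AlgebraicGeometry Opposite
open EtAcyc

namespace Groth.Agent.S8560

open Groth.Agent.Lib.Helper22.ColimCohU.Torsion

open Classical in
/-- The primes of `L` up to `k`. -/
noncomputable def SL (L : Set ℕ) (k : ℕ) : Finset ℕ :=
  (Finset.range (k + 1)).filter (fun p => p.Prime ∧ p ∈ L)

lemma mem_SL {L : Set ℕ} {k p : ℕ} : p ∈ SL L k ↔ p < k + 1 ∧ p.Prime ∧ p ∈ L := by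
  classical
  unfold SL
  rw [Finset.mem_filter, Finset.mem_range]

/-- The `L`-moduli. -/
noncomputable def mL (L : Set ℕ) (k : ℕ) : ℕ := ∏ p ∈ SL L k, p ^ k

lemma mL_pos (L : Set ℕ) (k : ℕ) : 0 < mL L k := by
  unfold mL
  refine Finset.prod_pos fun p hp => ?_
  exact pow_pos ((mem_SL.1 hp).2.1.pos) k

lemma mL_dvd (L : Set ℕ) {k l : ℕ} (h : k ≤ l) : mL L k ∣ mL L l := by
  unfold mL
  refine dvd_trans (Finset.prod_dvd_prod_of_dvd _ _ (fun p _ => pow_dvd_pow p h)) ?_
  refine Finset.prod_dvd_prod_of_subset _ _ _ ?_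
  intro p hp
  obtain ⟨h1, h2, h3⟩ := mem_SL.1 hp
  exact mem_SL.2 ⟨by omega, h2, h3⟩

lemma primesIn_mL (L : Set ℕ) (k : ℕ) : PrimesIn L (mL L k) := by
  refine ⟨mL_pos L k, fun p hp hd => ?_⟩
  unfold mL at hd
  obtain ⟨q, hq, hpq⟩ := (Nat.Prime.prime hp).dvd_finsetProd_iff _ |>.1 hd
  obtain ⟨_, hq2, hq3⟩ := mem_SL.1 hq
  have h1 : p ∣ q := Nat.Prime.dvd_of_dvd_pow hp hpq
  have h2 : p = q := (Nat.prime_dvd_prime_iff_eq hp hq2).1 h1
  rw [h2]
  exact hq3

lemma dvd_mL (L : Set ℕ) (m : ℕ) (hm : PrimesIn L m) : m ∣ mL L m := by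
  have hm0 : m ≠ 0 := hm.1.ne'
  have h1 : ∏ p ∈ m.primeFactors, p ^ m.factorization p = m := by
    rw [← Nat.prod_factorization_eq_prod_primeFactors]
    exact Nat.prod_factorization_pow_eq_self hm0
  conv_lhs => rw [← h1]
  unfold mL
  refine dvd_trans (Finset.prod_dvd_prod_of_dvd _ (fun p => p ^ m) (fun p _ =>
    pow_dvd_pow p (Nat.factorization_lt p hm0).le)) ?_
  refine Finset.prod_dvd_prod_of_subset _ _ _ ?_
  intro p hp
  have hp' := Nat.mem_primeFactors.1 hp
  exact mem_SL.2 ⟨Nat.lt_succ_of_le (Nat.le_of_dvd hm.1 hp'.2.1), hp'.1, hm.2 p hp'.1 hp'.2.1⟩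

/-- The `L`-moduli as a structure. -/
noncomputable def ML (L : Set ℕ) : Moduli where
  mm := mL L
  pos := mL_pos L
  dvd _ _ h := mL_dvd L h

variable {X : Scheme.{u}}

lemma locallyKilled_of_isLTorsion (L : Set ℕ) (F : EtCoh.Ab X) (hF : IsLTorsion L F) :
    LocallyKilled (ML L) F := by
  intro U s x
  obtain ⟨V, g, m, ⟨v, hv⟩, hm, h⟩ := hF U s x
  obtain ⟨c, hc⟩ := dvd_mL L m hm
  refine ⟨V, g, v, m, hv, ?_⟩
  change mL L m • _ = 0
  rw [hc, mul_nsmul, h, smul_zero]

lemma isLTorsion_of_locallyKilled (L : Set ℕ) (F : EtCoh.Ab X) (hF : LocallyKilled (ML L) F) :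
    IsLTorsion L F := by
  intro U s x
  obtain ⟨V, g, v, k, hv, h⟩ := hF U s x
  exact ⟨V, g, mL L k, ⟨v, hv⟩, primesIn_mL L k, h⟩


/-- For the etale sites of schemes and a set of primes L: if f : X ⟶ Y is a quasi-compact and
quasi-separated morphism of schemes and F is an abelian L-torsion sheaf on the small etale site of X
(every section is, etale-locally around each point, killed by a positive integer all of whose prime
factors lie in L), then each higher direct image R^q f_* F is an L-torsion sheaf on Y. (The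
published statement, for topoi, asks only that the morphism be quasi-compact; this row also assumes
f quasi-separated: for the spectrum of a polynomial ring in countably many variables over a
separably closed field glued to a copy of itself along the complement of the origin, and the direct
sum of the skyscraper sheaves ℤ/pⁿ at the points where exactly the n-th variable is 1, the structure
morphism to the field is quasi-compact but H¹ contains a class of infinite order.) -/
theorem result {X Y : Scheme.{u}} (f : X ⟶ Y) [QuasiCompact f] [QuasiSeparated f]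
    [EtCoh.BCCont f] (L : Set ℕ) (F : EtCoh.Ab X) (hF : EtAcyc.IsLTorsion L F) (q : ℕ) :
    EtAcyc.IsLTorsion L ((EtCoh.Rpush f q).obj F) :=
  isLTorsion_of_locallyKilled L _
    (locallyKilled_Rpush (ML L) F f (locallyKilled_of_isLTorsion L F hF) q)

end Groth.Agent.S8560
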