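import Groth.Statements.S8564
import Groth.Agent.Lib.Helper5.CechAcyclic

set_option autoImplicit false
open CategoryTheory CategoryTheory.Limits
universe u
open CohCx

namespace Groth.Agent.S8564

/-- Let (F_t) be a family of abelian sheaves on a small site, indexed by a small set, such that each F_t
is totally acyclic, i.e. H^p(K, F_t) = 0 for every sheaf of sets K and every p > 0. Then the product
sheaf of the family is totally acyclic. (The published statement is for modules over a ringed topos;
this row is the case of abelian sheaves.) -/
theorem result {C : Type u} [SmallCategory C] (J : GrothendieckTopology C)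
    {T : Type u} (F : T → Sheaf J AddCommGrpCat.{u}) (hF : ∀ t, CohCx.IsTotallyAcyclic (F t)) :
    CohCx.IsTotallyAcyclic (∏ᶜ F) := by
  apply Groth.Agent.Lib.Helper5.CechRes.isTotallyAcyclic_of_cech
  intro K' K f hf q
  rw [Groth.Agent.Lib.Helper5.CechRes.isZero_homology_iff_CB]
  intro x hx
  have hCB : ∀ t, Groth.Agent.Lib.Helper5.CechRes.CB (F t) f q := fun t =>
    (Groth.Agent.Lib.Helper5.CechRes.isZero_homology_iff_CB (F t) f q).1
      (Groth.Agent.Lib.Helper5.CechRes.isZero_cech_homology f (F t) (hF t) q)
  choose y hy using fun t => hCB t (x ≫ Pi.π F t) (by rw [← Category.assoc, hx, zero_comp])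
  refine ⟨Pi.lift y, Pi.hom_ext _ _ (fun t => ?_)⟩
  rw [Category.assoc, Pi.lift_π, hy]

end Groth.Agent.S8564
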