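import Groth.Statements.S8567
import Groth.Agent.Lib.Helper5.CptAcyclic

set_option autoImplicit false
open CategoryTheory TopologicalSpace Opposite
universe u
open CohTop

namespace Groth.Agent.S8567

open Groth.Agent.Lib.Helper5.PullStalk Groth.Agent.Lib.Helper5.SubspaceSect
  Groth.Agent.Lib.Helper5.CptSep Groth.Agent.Lib.Helper5.CptSect
  Groth.Agent.Lib.Helper5.SoftSheaf Groth.Agent.Lib.Helper5.CptAcyclic in
/-- the unit of a closed subset is surjective on global sections of a soft inverse image -/
theorem surj_aux {X : TopCat.{u}} {K : Set X} (hK : IsCompact K) (hsep : RelT2 K)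
    (F : CohTop.Ab X) [TopCat.Sheaf.IsFlasque F] {A : Set (TopCat.of K)} (hA : IsClosed A) :
    Function.Surjective (ρ (incl A) (Gs K F) ⊤) := by
  intro t
  have : CompactSpace (TopCat.of K) := isCompact_iff_compactSpace.1 hK
  have : T2Space (TopCat.of K) := t2Space_of_relT2 hsep
  have hAc : IsCompact A := hA.isCompact
  have htop' : (⊤ : TopologicalSpace.Opens (TopCat.of A)) ≤ pre A ⊤ := fun _ _ => trivial
  have htop : pre A (⊤ : TopologicalSpace.Opens (TopCat.of K)) ≤ ⊤ := le_top
  obtain ⟨W, hAW, s, hs⟩ := exists_cmp_eq_top A (Gs K F) hAc (relT2_of_t2 A)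
    (rs (Gs A (Gs K F)) htop' t)
  obtain ⟨g, W', h, hAW', e⟩ := soft_Gs K hK hsep F A hA W hAW s
  refine ⟨g, ?_⟩
  have hW' : (⊤ : TopologicalSpace.Opens (TopCat.of A)) ≤ pre A W' := fun x _ => hAW' x.2
  have key : rs (Gs A (Gs K F)) htop' (ρ (incl A) (Gs K F) ⊤ g) =
      rs (Gs A (Gs K F)) htop' t := by
    have e1 : rs (Gs A (Gs K F)) htop' (ρ (incl A) (Gs K F) ⊤ g) = cmp A (Gs K F) htop' g := rfl
    refine e1.trans ?_
    refine (cmp_rs' A (Gs K F) (le_top : W' ≤ ⊤) hW' g).symm.trans ?_
    refine (congrArg (fun z => cmp A (Gs K F) hW' z) e).trans ?_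
    refine (cmp_rs' A (Gs K F) h hW' s).trans ?_
    exact hs
  have h2 := congrArg (fun z => rs (Gs A (Gs K F)) htop z) key
  refine Eq.trans ?_ (h2.trans ?_)
  · exact ((rs_rs _ _ _ _).trans (rs_self _ _ _)).symm
  · exact (rs_rs _ _ _ _).trans (rs_self _ _ _)

/-- Let X be a topological space, K ⊆ X a compact subset such that any two distinct points of K have
disjoint neighbourhoods in X, and F a flasque abelian sheaf on X. Then the inverse image F|K of F on
the subspace K is a soft sheaf: for every closed subset A of K, every section of (F|K)|A over A is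
the restriction of a section of F|K over K (the restriction map is the unit of the inverse image /
direct image adjunction for the inclusion A → K, taken on global sections). -/
theorem result {X : TopCat.{u}} {K : Set X} (hK : IsCompact K)
    (hsep : ∀ x ∈ K, ∀ y ∈ K, x ≠ y → ∃ U V : Set X, IsOpen U ∧ IsOpen V ∧ x ∈ U ∧ y ∈ V ∧ Disjoint U V)
    (F : CohTop.Ab X) [TopCat.Sheaf.IsFlasque F] {A : Set K} (hA : IsClosed A) :
    Function.Surjective
      ((((TopCat.Sheaf.pullbackPushforwardAdjunction AddCommGrpCat.{u}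
        (TopCat.ofHom ⟨((↑) : A → K), continuous_subtype_val⟩ : TopCat.of A ⟶ TopCat.of K)).unit.app
        ((CohTop.pull (TopCat.ofHom ⟨((↑) : K → X), continuous_subtype_val⟩ : TopCat.of K ⟶ X)).obj F)).hom.app
        (op ⊤)).hom) := by
  exact surj_aux hK hsep F hA

end Groth.Agent.S8567
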