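import Groth.Statements.S8569
import Groth.Agent.Lib.Lead.LexRefl2

set_option autoImplicit false
open CategoryTheory
universe v u
open SGA4

namespace Groth.Agent.S8569

/-- Let E be a topos (a category equivalent to the category of sheaves of sets on a small site, for the
universe u) and D a u-small category. Then the category of functors D ⥤ E, which is the category of
sections of the constant D-topos with value E, is a topos. (The published statement is for an
arbitrary D-topos, i.e. a category bifibred in topoi over D; this row is the case of a constant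
one.) -/
theorem result {E : Type v} [Category.{u} E] (hE : SGA4.IsTopos E)
    (D : Type u) [SmallCategory D] : SGA4.IsTopos (D ⥤ E) := by
  obtain ⟨C, _, J, ⟨e⟩⟩ := hE
  let E₁ : (D ⥤ Cᵒᵖ ⥤ Type u) ≌ (((D × Cᵒᵖ)ᵒᵖ)ᵒᵖ ⥤ Type u) :=
    (Functor.currying).trans (opOpEquivalence (D × Cᵒᵖ)).symm.congrLeft
  have adj : E₁.inverse ⋙ (Functor.whiskeringRight D _ _).obj (presheafToSheaf J (Type u)) ⊣
      (Functor.whiskeringRight D _ _).obj (sheafToPresheaf J (Type u)) ⋙ E₁.functor :=
    E₁.symm.toAdjunction.comp (Adjunction.whiskerRight D (sheafificationAdjunction J (Type u)))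
  have : Limits.PreservesFiniteLimits
      ((Functor.whiskeringRight D _ _).obj (presheafToSheaf J (Type u))) :=
    ⟨fun K _ _ => inferInstance⟩
  have h1 : SGA4.IsTopos (D ⥤ Sheaf J (Type u)) :=
    Groth.Agent.Lib.Lead.LexRefl2.isTopos adj
  obtain ⟨C₂, _, J₂, ⟨e₂⟩⟩ := h1
  exact ⟨C₂, inferInstance, J₂, ⟨(e.congrRight (E := D)).trans e₂⟩⟩

end Groth.Agent.S8569
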