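import Groth.Statements.S8579
import Groth.Agent.Lib.Helper5.DescentCech
import Groth.Agent.Lib.Helper5.SSRows

set_option autoImplicit false
open CategoryTheory CategoryTheory.Limits TopologicalSpace
universe u
open CohTop

namespace Groth.Agent.S8579

/-- In the setting of topological spaces and abelian sheaves (where every continuous map is flat for the
inverse image of sheaves), let f : X → S be a continuous map with a continuous section s, f ∘ s =
id, and F an abelian sheaf on S. Then f is of universal cohomological descent, and the descent
spectral sequence reads, in existence form: there is a bounded spectral sequence of abelian groups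
starting at page one with E_1^{p,q} isomorphic, for p, q ≥ 0, to H^q(X_p, F|X_p), where X_p is the
(p+1)-fold fibre product of X over S and F|X_p the inverse image of F along its projection to S, and
zero otherwise, together with abutment data whose filtrations are finite on H^n(S, F) for n ≥ 0
(zero for n < 0). (The E_1 identifications and the abutment isomorphisms are asserted to exist only;
the differentials are not part of this statement.) -/
theorem result {X S : TopCat.{u}} (f : X ⟶ S) (s : S ⟶ X)
    (hs : s ≫ f = 𝟙 S) (F : CohTop.Ab S) :
    ∃ (E : CohomologicalSpectralSequence AddCommGrpCat.{u} 1)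
      (a : SpSeq.Abutment E (fun n : ℤ =>
        if 0 ≤ n then AddCommGrpCat.of (CohTop.H F n.toNat) else AddCommGrpCat.of PUnit.{u + 1})),
      (∀ n, a.IsFinite n) ∧ SpSeq.IsBounded E ∧
      ∀ p q : ℤ, Nonempty ((E.page 1 le_rfl).X (p, q) ≅
        (if 0 ≤ p ∧ 0 ≤ q then
          AddCommGrpCat.of (CohTop.H ((CohTop.pull
            (WidePullback.base (fun _ : Fin (p.toNat + 1) => f) :
              widePullback S (fun _ : Fin (p.toNat + 1) => X) (fun _ => f) ⟶ S)).obj F) q.toNat)
         else AddCommGrpCat.of PUnit.{u + 1})) := by
  obtain ⟨E, a, hfin, hb, hE⟩ := Groth.Agent.Lib.Helper5.SSRows.exists_spectralSequence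
    (C := AddCommGrpCat.{u})
    (fun q => Groth.Agent.Lib.Helper5.DescentCech.K f F q)
    (fun q => AddCommGrpCat.of (CohTop.H F q))
    (AddCommGrpCat.of PUnit.{u + 1}) (AddCommGrpCat.isZero_of_subsingleton _)
    (fun q => Groth.Agent.Lib.Helper5.DescentCech.nonempty_K_homology_zero_iso f s hs F q)
    (fun q k => Groth.Agent.Lib.Helper5.DescentCech.isZero_K_homology f s hs F q k)
  refine ⟨E, a, hfin, hb, fun p q => ?_⟩
  obtain ⟨e⟩ := hE p q
  by_cases h : 0 ≤ p ∧ 0 ≤ q
  · rw [if_pos h] at e
    rw [if_pos h]
    exact ⟨e ≪≫ eqToIso (Groth.Agent.Lib.Helper5.DescentCech.K_X f F q.toNat p.toNat)⟩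
  · rw [if_neg h] at e
    rw [if_neg h]
    exact ⟨e⟩

end Groth.Agent.S8579
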