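import Groth.Statements.S8591
import Mathlib

set_option autoImplicit false
universe u
open CAlg

namespace Groth.Agent.S8591

section helpers
open Polynomial

variable {R : Type u} [CommRing R]

/-- matrix of multiplication by `P` on `R[X]/(χ)` in the basis `1, X, …, X^(n-1)`. -/
noncomputable def mulMat (χ P : R[X]) (n : ℕ) : Matrix (Fin n) (Fin n) R :=
  Matrix.of fun i j => ((X ^ (j : ℕ) * P) %ₘ χ).coeff i

theorem mulMat_map {S : Type u} [CommRing S] (φ : R →+* S) (χ P : R[X]) (hχ : χ.Monic) (n : ℕ) :
    (mulMat χ P n).map φ = mulMat (χ.map φ) (P.map φ) n := by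
  ext i j
  simp only [mulMat, Matrix.map_apply, Matrix.of_apply]
  rw [← Polynomial.coeff_map, Polynomial.map_modByMonic _ hχ, Polynomial.map_mul,
    Polynomial.map_pow, Polynomial.map_X]

theorem powerBasisAux'_apply (χ : R[X]) (hχ : χ.Monic) (j : Fin χ.natDegree) :
    AdjoinRoot.powerBasisAux' hχ j = AdjoinRoot.root χ ^ (j : ℕ) :=
  (AdjoinRoot.powerBasis' hχ).basis_eq_pow j

theorem norm_mk_eq_det_mulMat (χ P : R[X]) (hχ : χ.Monic) (n : ℕ) (hn : χ.natDegree = n) :
    Algebra.norm R (AdjoinRoot.mk χ P) = (mulMat χ P n).det := by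
  subst hn
  rw [Algebra.norm_eq_matrix_det (AdjoinRoot.powerBasisAux' hχ)]
  congr 1
  ext i j
  rw [Algebra.leftMulMatrix_eq_repr_mul, powerBasisAux'_apply,
    AdjoinRoot.powerBasisAux'_repr_apply_to_fun, ← AdjoinRoot.mk_X, ← map_pow, ← map_mul,
    AdjoinRoot.modByMonicHom_mk, mul_comm]
  rfl

theorem det_sub_algebraMap {m : Type*} [Fintype m] [DecidableEq m] (M : Matrix m m R) (μ : R) :
    (M - algebraMap R (Matrix m m R) μ).det = (-1) ^ Fintype.card m * M.charpoly.eval μ := by
  rw [Matrix.eval_charpoly, ← Matrix.det_neg, neg_sub]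
  rfl

theorem map_aeval {S : Type u} [CommRing S] (φ : R →+* S) {n : ℕ} (A : Matrix (Fin n) (Fin n) R)
    (P : R[X]) : (aeval A P).map φ = aeval (A.map φ) (P.map φ) := by
  have h1 : (aeval A P).map φ = φ.mapMatrix (aeval A P) := rfl
  rw [h1, aeval_def, aeval_def, hom_eval₂, eval₂_map]
  congr 1
  ext r i j
  simp [Matrix.algebraMap_matrix_apply]
  split_ifs <;> simp

/-- field case, linear factor -/
theorem norm_linear {K : Type u} [Field K] (χ : K[X]) (hχ : χ.Monic) (μ : K) :
    Algebra.norm K (AdjoinRoot.mk χ (X - C μ)) = (-1) ^ χ.natDegree * χ.eval μ := by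
  have hmin : minpoly K (AdjoinRoot.root χ) = χ := by
    rw [AdjoinRoot.minpoly_root hχ.ne_zero, hχ.leadingCoeff, inv_one, C_1, mul_one]
  have hcp := charpoly_leftMulMatrix (AdjoinRoot.powerBasis' hχ)
  rw [AdjoinRoot.powerBasis'_gen, hmin] at hcp
  rw [Algebra.norm_eq_matrix_det (AdjoinRoot.powerBasis' hχ).basis, map_sub, AdjoinRoot.mk_X,
    AdjoinRoot.mk_C, map_sub]
  have : Algebra.leftMulMatrix (AdjoinRoot.powerBasis' hχ).basis (AdjoinRoot.of χ μ) =
      algebraMap K _ μ := by
    rw [← AdjoinRoot.algebraMap_eq, AlgHom.commutes]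
  rw [this, det_sub_algebraMap, hcp]
  simp

theorem key_field {K : Type u} [Field K] (P : K[X]) (hP : P.Splits) (n : ℕ)
    (A : Matrix (Fin n) (Fin n) K) :
    Algebra.norm K (AdjoinRoot.mk A.charpoly P) = (aeval A P).det := by
  have hχ := A.charpoly_monic
  have hn : A.charpoly.natDegree = n := by simpa using A.charpoly_natDegree_eq_dim
  have h1 : ∀ c : K, Algebra.norm K (AdjoinRoot.mk A.charpoly (C c)) = (aeval A (C c)).det := by
    intro c
    rw [AdjoinRoot.mk_C, ← AdjoinRoot.algebraMap_eq,
      Algebra.norm_algebraMap_of_basis (AdjoinRoot.powerBasisAux' hχ), aeval_C,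
      Matrix.algebraMap_eq_diagonal, Matrix.det_diagonal]
    simp [hn]
  have h2 : ∀ μ : K, Algebra.norm K (AdjoinRoot.mk A.charpoly (X - C μ)) =
      (aeval A (X - C μ)).det := by
    intro μ
    rw [norm_linear _ hχ, map_sub, aeval_X, aeval_C, det_sub_algebraMap, hn]
    simp
  let F : K[X] →* K := (Algebra.norm K).comp (AdjoinRoot.mk A.charpoly : K[X] →+* _).toMonoidHom
  let G : K[X] →* K := Matrix.detMonoidHom.comp (aeval A : K[X] →ₐ[K] Matrix (Fin n) (Fin n) K).toRingHom.toMonoidHom
  show F P = G P
  rw [hP.eq_prod_roots, map_mul, map_mul, map_multiset_prod, map_multiset_prod, Multiset.map_map,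
    Multiset.map_map]
  congr 1
  · exact h1 _
  · congr 1
    apply Multiset.map_congr rfl
    intro μ _
    exact h2 μ

theorem key (P : R[X]) : ∀ (n : ℕ) (A : Matrix (Fin n) (Fin n) R),
    (mulMat A.charpoly P n).det = (aeval A P).det := by
  induction P using induction_of_Splits_of_injective_of_surjective with
  | Splits K P hP =>
    intro n A
    rw [← norm_mk_eq_det_mulMat _ _ A.charpoly_monic n (by simpa using A.charpoly_natDegree_eq_dim)]
    exact key_field P hP n A
  | injective R S φ hφ P IH =>
    intro n A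
    apply hφ
    rw [RingHom.map_det, RingHom.map_det]
    show ((mulMat A.charpoly P n).map φ).det = ((aeval A P).map φ).det
    rw [mulMat_map _ _ _ A.charpoly_monic, ← Matrix.charpoly_map, IH n (A.map φ), map_aeval]
  | surjective R S φ hφ P IH =>
    intro n A
    obtain ⟨P', rfl⟩ := Polynomial.map_surjective φ hφ P
    obtain ⟨A', rfl⟩ : ∃ A' : Matrix (Fin n) (Fin n) R, A'.map φ = A := by
      choose g hg using hφ
      exact ⟨A.map g, by ext i j; simp [hg]⟩
    rw [Matrix.charpoly_map, ← mulMat_map _ _ _ A'.charpoly_monic, ← map_aeval]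
    show (φ.mapMatrix _).det = (φ.mapMatrix _).det
    rw [← RingHom.map_det, ← RingHom.map_det, IH P' n A']


end helpers

/-- Let k be a commutative ring, M a finite free k-module, u an endomorphism of M with characteristic
polynomial χ, and P a polynomial over k. Then the norm, from the k-algebra k[T]/(χ) (free of rank
the rank of M) down to k, of the class of P(T) equals det(P(u)). (The published statement writes the
quotient by det(u - T), which generates the same ideal as χ(T) = det(T - u).) -/
theorem result (k : Type u) [CommRing k] (M : Type u) [AddCommGroup M] [Module k M]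
    [Module.Free k M] [Module.Finite k M] (u : M →ₗ[k] M) (P : Polynomial k) :
    Algebra.norm k (AdjoinRoot.mk u.charpoly P) = LinearMap.det (Polynomial.aeval u P) := by
  cases subsingleton_or_nontrivial k
  · exact Subsingleton.elim _ _
  let b := Module.finBasis k M
  have hA : (LinearMap.toMatrix b b u).charpoly = u.charpoly := LinearMap.charpoly_toMatrix u b
  rw [← hA, norm_mk_eq_det_mulMat _ _ (Matrix.charpoly_monic _) (Module.finrank k M)
    (by rw [hA, LinearMap.charpoly_natDegree]), key P _ _, ← LinearMap.det_toMatrix b]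
  congr 1
  exact (Polynomial.aeval_algHom_apply (LinearMap.toMatrixAlgEquiv b).toAlgHom u P)

end Groth.Agent.S8591
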