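import Groth.Statements.S8597
import Mathlib
import Groth.Agent.Lib.Helper28.ConeResidue
import Groth.Agent.S16332

set_option autoImplicit false
universe u
open CategoryTheory CategoryTheory.Limits
open CAlg

namespace Groth.Agent.S8597

open Groth.Agent.Lib.Helper28.ConeResidue Groth.Agent.Lib.Helper28.TorFiltered2
  Groth.Agent.Lib.Helper4 Groth.Agent.Lib.Lead.ModHomology CategoryTheory.Limits
  MonoidalCategory in
theorem main (A : Type u) [CommRing A] [IsNoetherianRing A]
    {M N : ModuleCat.{u} A} (u : M ⟶ N)
    (h : ∀ (x : Ideal A) [x.IsPrime] (i : ℕ),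
      IsIso (((Tor (ModuleCat.{u} A) i).obj (ModuleCat.of A x.ResidueField)).map u)) :
    IsIso u := by
  set RM := projectiveResolution M with hRM
  set RN := projectiveResolution N with hRN
  set ũ := ProjectiveResolution.lift u RM RN with hũ
  have hcommu : ũ ≫ RN.π = RM.π ≫ (ChainComplex.single₀ _).map u :=
    ProjectiveResolution.lift_commutes u RM RN
  have hq : ∀ (x : Ideal A) [x.IsPrime] (i : ℕ), IsIso (HomologicalComplex.homologyMap
      (((tensorLeft (ModuleCat.of A x.ResidueField)).mapHomologicalComplex _).map ũ) i) := by
    intro x _ i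
    have hx := h x i
    have e : HomologicalComplex.homologyMap
        (((tensorLeft (ModuleCat.of A x.ResidueField)).mapHomologicalComplex _).map ũ) i =
        (torIsoHomology (ModuleCat.of A x.ResidueField) M i).inv ≫
          ((Tor (ModuleCat.{u} A) i).obj (ModuleCat.of A x.ResidueField)).map u ≫
          (torIsoHomology (ModuleCat.of A x.ResidueField) N i).hom := by
      rw [tor_obj_map_eq]
      simp
      rfl
    rw [e]
    infer_instance
  have hprev : ∀ m : ℕ, (ComplexShape.down ℕ).prev m = m + 1 := fun m => by simp
  have hnext : ∀ m : ℕ, (ComplexShape.down ℕ).next m = m - 1 := fun m => by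
    cases m <;> simp
  have hcone := cone_exact ũ (fun n => by
      have := RM.projective n
      exact ModuleCat.projective_of_module_projective _) (fun n => by
      have := RN.projective n
      exact ModuleCat.projective_of_module_projective _) (fun x _ => by
    constructor
    · intro m
      have hm : Mono (HomologicalComplex.homologyMap
        (((tensorLeft (ModuleCat.of A x.ResidueField)).mapHomologicalComplex _).map ũ) m) := by
        have := hq x m
        infer_instance
      rw [hc_mono_iff _ (m + 1) m (m - 1) (hprev m) (hnext m)] at hm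
      exact hm
    · intro m
      have hm : Epi (HomologicalComplex.homologyMap
        (((tensorLeft (ModuleCat.of A x.ResidueField)).mapHomologicalComplex _).map ũ) m) := by
        have := hq x m
        infer_instance
      rw [hc_epi_iff _ (m + 1) m (m - 1) (hprev m) (hnext m)] at hm
      exact hm)
  obtain ⟨hc0, hc1⟩ := hcone
  obtain ⟨hMsurj, -, -⟩ := Groth.Agent.S16332.facts A RM.complex M RM.π
  obtain ⟨hNsurj, hNker, -⟩ := Groth.Agent.S16332.facts A RN.complex N RN.π
  have hnat : ∀ x : RM.complex.X 0, (RN.π.f 0).hom ((ũ.f 0).hom x) = u.hom ((RM.π.f 0).hom x) := by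
    intro x
    have h1 := congrArg (fun f => (f.f 0).hom x) hcommu
    exact h1
  have hMd : ∀ z : RM.complex.X 1, (RM.π.f 0).hom ((RM.complex.d 1 0).hom z) = 0 := fun z =>
    congrArg (fun f => f.hom z) RM.complex_d_comp_π_f_zero
  have hNd : ∀ z : RN.complex.X 1, (RN.π.f 0).hom ((RN.complex.d 1 0).hom z) = 0 := fun z =>
    congrArg (fun f => f.hom z) RN.complex_d_comp_π_f_zero
  rw [ConcreteCategory.isIso_iff_bijective]
  constructor
  · rw [injective_iff_map_eq_zero]
    intro m hm
    obtain ⟨x, rfl⟩ := hMsurj m
    have h1 : (RN.π.f 0).hom ((ũ.f 0).hom x) = 0 := by rw [hnat]; exact hm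
    obtain ⟨y₁, hy₁⟩ := hNker _ h1
    obtain ⟨x', y', hx', -⟩ := hc1 x (-y₁) (by rw [map_neg, hy₁, add_neg_cancel])
    rw [← hx', map_neg, hMd, neg_zero]
    rfl
  · intro n
    obtain ⟨y₀, rfl⟩ := hNsurj n
    obtain ⟨x, y, hxy⟩ := hc0 y₀
    refine ⟨(RM.π.f 0).hom x, ?_⟩
    change u.hom ((RM.π.f 0).hom x) = _
    rw [← hnat, ← hxy, map_add, hNd, add_zero]

/-- Case of modules placed in degree 0: let A be a commutative Noetherian ring and u : M -> N a
homomorphism of A-modules such that for every prime ideal x of A, with residue field k(x), and every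
i ≥ 0, the induced map Tor_i^A(k(x), M) -> Tor_i^A(k(x), N) (left derived functors of k(x) ⊗ -) is
an isomorphism. Then u is an isomorphism. (The published statement is for a morphism of
bounded-above complexes and the derived tensor products with k(x); this is the case of two modules.) -/
theorem result (A : Type u) [CommRing A] [IsNoetherianRing A]
    {M N : ModuleCat.{u} A} (u : M ⟶ N)
    (h : ∀ (x : Ideal A) [x.IsPrime] (i : ℕ),
      IsIso (((Tor (ModuleCat.{u} A) i).obj (ModuleCat.of A x.ResidueField)).map u)) :
    IsIso u := by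
  exact main A u h

end Groth.Agent.S8597
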