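import Groth.Statements.S8598
import Groth.Agent.Lib.Helper22.EtLoc.MonoLoc

set_option autoImplicit false
universe u
open CategoryTheory CategoryTheory.Limits AlgebraicGeometry Opposite
open EtDl

namespace Groth.Agent.S8598

open Groth.Agent.Lib.Helper22.EtLoc Groth.Agent.Lib.Helper22.CechU.Etale

lemma pjAdj_counit_left {X Y : Scheme.{u}} (u : X ⟶ Y) [Etale u] (V : Y.Etale) :
    ((pjAdj u).counit.app V).left =
      (pullback.fst V.hom u : ((EtCoh.bc u).obj V).left ⟶ V.left) := by
  rfl

theorem result' {X Y : Scheme.{u}} (u : X ⟶ Y) [Etale u]
    [Surjective u] [EtShriek.JCont u] (F : EtCoh.Ab Y) :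
    Epi ((EtShriek.extZeroAdj u).counit.app F) := by
  have : Sheaf.IsLocallySurjective ((EtShriek.extZeroAdj u).counit.app F) := by
    constructor
    intro V t
    rw [mem_smallEtaleTopology_iff]
    intro y
    let W : X.Etale := (EtCoh.bc u).obj V
    let p : (EtShriek.compEtale u).obj W ⟶ V := (pjAdj u).counit.app V
    obtain ⟨x, hx⟩ := (inferInstance : Surjective u).surj ((V.hom : V.left ⟶ Y) y)
    obtain ⟨z, hz1, -⟩ := Scheme.Pullback.exists_preimage_pullback (f := (V.hom : V.left ⟶ Y))
      (g := u) y x hx.symm
    refine ⟨_, p, z, ?_, hz1⟩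
    let η := (EtShriek.extZeroAdj u).unit.app ((EtShriek.restrAlong u).obj F)
    let ε := (EtShriek.extZeroAdj u).counit.app F
    have tri : η ≫ (EtShriek.restrAlong u).map ε = 𝟙 _ :=
      (EtShriek.extZeroAdj u).right_triangle_components F
    let r : F.obj.obj (op ((EtShriek.compEtale u).obj W)) := F.obj.map p.op t
    have tri' : ε.hom.app (op ((EtShriek.compEtale u).obj W)) (η.hom.app (op W) r) = r := by
      have h1 := congrArg (fun φ => φ.hom.app (op W)) tri
      have h2 := congrArg (fun ψ => (ConcreteCategory.hom ψ) r) h1
      exact h2
    exact ⟨η.hom.app (op W) r, tri'⟩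
  exact Sheaf.epi_of_isLocallySurjective _


/-- Let u : X -> Y be an etale, separated morphism of finite type that is surjective, and F an abelian
sheaf on Y_et. The sheaves F_n = (u_n)_! u_n^* F built from the iterated fibre powers of X over Y
form a left resolution of F; in particular (the part stated here) the augmentation u_! u^* F -> F,
which is the counit of the adjunction between extension by zero u_! and restriction u^*, is an
epimorphism. (The continuity of V ↦ (V -> X -> Y) between the small etale sites is carried as an
instance hypothesis, the prelude's convention for extension by zero along an etale morphism.) -/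
theorem result {X Y : Scheme.{u}} (u : X ⟶ Y) [Etale u] [IsSeparated u]
    [LocallyOfFiniteType u] [QuasiCompact u] [Surjective u] [EtShriek.JCont u] (F : EtCoh.Ab Y) :
    Epi ((EtShriek.extZeroAdj u).counit.app F) :=
  result' u F

end Groth.Agent.S8598
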