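import Groth.Statements.S8607
import Mathlib.AlgebraicGeometry.Morphisms.Immersion
import Mathlib.AlgebraicGeometry.Morphisms.Proper

set_option autoImplicit false
universe u
open CategoryTheory CategoryTheory.Limits AlgebraicGeometry Opposite
open DEt

namespace Groth.Agent.S8607

/-- The equalizing half of 'the category of compactifications of f is cofiltering': let f : X -> Y be a
morphism of quasi-compact quasi-separated schemes, (Xbar_1, j_1, fbar_1) and (Xbar_2, j_2, fbar_2)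
two compactifications of f, and r, s : Xbar_1 -> Xbar_2 two morphisms of compactifications (r ∘ j_1
= j_2 = s ∘ j_1 and fbar_2 ∘ r = fbar_1 = fbar_2 ∘ s). Then there are a compactification (Xbar, j,
fbar) of f and a proper morphism t : Xbar -> Xbar_1 of compactifications (t ∘ j = j_1, fbar_1 ∘ t =
fbar) with r ∘ t = s ∘ t. -/
theorem result {X Y : Scheme.{u}} [CompactSpace ↥X] [QuasiSeparatedSpace ↥X]
    [CompactSpace ↥Y] [QuasiSeparatedSpace ↥Y] {f : X ⟶ Y} (c₁ c₂ : DEt.Compactification f)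
    (r s : c₁.Xbar ⟶ c₂.Xbar) (hr : c₁.j ≫ r = c₂.j) (hs : c₁.j ≫ s = c₂.j)
    (hr' : r ≫ c₂.fbar = c₁.fbar) (hs' : s ≫ c₂.fbar = c₁.fbar) :
    ∃ (c : DEt.Compactification f) (t : c.Xbar ⟶ c₁.Xbar), IsProper t ∧ c.j ≫ t = c₁.j ∧ t ≫ c₁.fbar = c.fbar ∧
      t ≫ r = t ≫ s := by
  let X₁ : Over Y := Over.mk c₁.fbar
  let X₂ : Over Y := Over.mk c₂.fbar
  let r' : X₁ ⟶ X₂ := Over.homMk r hr'
  let s' : X₁ ⟶ X₂ := Over.homMk s hs'
  have hsep : IsSeparated X₂.hom := (inferInstance : IsSeparated c₂.fbar)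
  let ι : (equalizer r' s').left ⟶ c₁.Xbar := (equalizer.ι r' s').left
  have hι : IsClosedImmersion ι := isClosedImmersion_equalizer_ι_left r' s'
  let j₀ : Over.mk f ⟶ X₁ := Over.homMk c₁.j c₁.fac
  have hj₀ : j₀ ≫ r' = j₀ ≫ s' := by
    ext
    show c₁.j ≫ r = c₁.j ≫ s
    rw [hr, hs]
  let j' : X ⟶ (equalizer r' s').left := (equalizer.lift j₀ hj₀).left
  have hj' : j' ≫ ι = c₁.j := by
    show (equalizer.lift j₀ hj₀).left ≫ (equalizer.ι r' s').left = c₁.j
    rw [← Over.comp_left, equalizer.lift_ι]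
    rfl
  have hcond : ι ≫ r = ι ≫ s := by
    have := congrArg CommaMorphism.left (equalizer.condition r' s')
    exact this
  have hqs1 : QuasiSeparatedSpace ↥c₁.Xbar := quasiSeparatedSpace_of_quasiSeparated c₁.fbar
  have hqsE : QuasiSeparatedSpace ↥(equalizer r' s').left := quasiSeparatedSpace_of_quasiSeparated ι
  have himm : IsImmersion j' := by
    have : IsImmersion (j' ≫ ι) := by rw [hj']; infer_instance
    exact IsImmersion.of_comp j' ι
  have hqc : QuasiCompact j' := inferInstance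
  obtain ⟨Z, g₁, g₂, hg₁, hg₂, hg⟩ := IsImmersion.isImmersion_iff_exists_of_quasiCompact.mp himm
  have hg₂p : IsProper g₂ := inferInstance
  have hιp : IsProper ι := inferInstance
  refine ⟨⟨Z, g₁, g₂ ≫ ι ≫ c₁.fbar, hg₁, inferInstance, ?_⟩, g₂ ≫ ι, inferInstance, ?_, ?_, ?_⟩
  · rw [← Category.assoc, hg, ← Category.assoc, hj', c₁.fac]
  · show g₁ ≫ g₂ ≫ ι = c₁.j
    rw [← Category.assoc, hg, hj']
  · show (g₂ ≫ ι) ≫ c₁.fbar = g₂ ≫ ι ≫ c₁.fbar
    rw [Category.assoc]
  · show (g₂ ≫ ι) ≫ r = (g₂ ≫ ι) ≫ s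
    rw [Category.assoc, Category.assoc, hcond]

end Groth.Agent.S8607
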