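import Groth.Statements.S8611
import Groth.Agent.Lib.Helper25.DeltaFAb

set_option autoImplicit false
universe w v u
open CategoryTheory CategoryTheory.Limits
open SGA4h

namespace Groth.Agent.S8611

open Groth.Agent.Lib.Helper25.DeltaFEff Groth.Agent.Lib.Helper25.DeltaFAb

section
variable {C : Type u} [Category.{v} C] [Abelian C]
    {T T' : DeltaF.CohDeltaFunctor C AddCommGrpCat.{w} ℕ}

theorem injective_succ
    (hT : ∀ (q : ℕ) (A : C) (α : (T.F (q + 1)).obj A),
      ∃ (M : C) (u : A ⟶ M), Mono u ∧ (T.F (q + 1)).map u α = 0)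
    (φ : T ⟶ T') (q : ℕ) (IH : ∀ A : C, Function.Bijective ((φ.app q).app A)) (A : C) :
    Function.Injective ((φ.app (q + 1)).app A) := by
  refine (injective_iff_map_eq_zero ((φ.app (q + 1)).app A).hom).2 (fun α hα => ?_)
  obtain ⟨M, u, hu, h0⟩ := hT q A α
  exact eq_zero_step φ q u α h0 hα (IH M).2 (IH (cokernel u)).1

theorem bijective_of_ii (hT0 : T.ZeroMono) (hT'0 : T'.ZeroMono)
    (hT : ∀ (q : ℕ) (A : C) (α : (T.F (q + 1)).obj A),
      ∃ (M : C) (u : A ⟶ M), Mono u ∧ (T.F (q + 1)).map u α = 0)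
    (φ : T ⟶ T') (E : ObjectProperty C)
    (hE : ∀ A : C, ∃ (M : C) (i : A ⟶ M), Mono i ∧ E M)
    (h0 : ∀ M : C, E M → Function.Bijective ((φ.app 0).app M))
    (hq : ∀ (q : ℕ) (M : C), E M → Function.Surjective ((φ.app (q + 1)).app M)) :
    ∀ (q : ℕ) (A : C), Function.Bijective ((φ.app q).app A) := by
  intro q
  induction q with
  | zero =>
    have inj0 : ∀ A : C, Function.Injective ((φ.app 0).app A) := by
      intro A
      obtain ⟨M, i, hi, hM⟩ := hE A
      exact injective_zero_of_mono φ hT0 i (h0 M hM).1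
    intro A
    obtain ⟨M, i, hi, hM⟩ := hE A
    exact ⟨inj0 A, surjective_zero φ hT'0 i (h0 M hM).2 (inj0 _)⟩
  | succ q IH =>
    have inj := injective_succ hT φ q IH
    intro A
    refine ⟨inj A, fun α => ?_⟩
    obtain ⟨M, i, hi, hM⟩ := hE A
    exact exists_preimage_four φ q i α (IH _).2 (hq q M hM) (inj _)

theorem bijective_of_iii
    (hT : ∀ (q : ℕ) (A : C) (α : (T.F (q + 1)).obj A),
      ∃ (M : C) (u : A ⟶ M), Mono u ∧ (T.F (q + 1)).map u α = 0)
    (φ : T ⟶ T')
    (h0 : ∀ A : C, Function.Bijective ((φ.app 0).app A))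
    (hT' : ∀ (q : ℕ) (A : C) (α : (T'.F (q + 1)).obj A),
          ∃ (M : C) (u : A ⟶ M), Mono u ∧ (T'.F (q + 1)).map u α = 0) :
    ∀ (q : ℕ) (A : C), Function.Bijective ((φ.app q).app A) := by
  intro q
  induction q with
  | zero => exact h0
  | succ q IH =>
    intro A
    refine ⟨injective_succ hT φ q IH A, fun α => ?_⟩
    obtain ⟨M, u, hu, h1⟩ := hT' q A α
    exact exists_preimage_step φ q u α h1 (IH _).2

end

/-- Let C be an abelian category, T and T' cohomological delta-functors on C in degrees ≥ 0 with values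
in abelian groups, both left exact in degree 0, with T effaceable in every degree q > 0 (every
element of T^q(A) is killed by T^q(u) for some monomorphism u : A → M, depending on the element),
and φ : T → T' a morphism of delta-functors. Let E be a class of objects such that every object
admits a monomorphism into a member of E. Then the following are equivalent: (i) φ^q(A) is bijective
for all q and all A; (ii) φ^0(M) is bijective and φ^q(M) is surjective for q > 0, for all M in E;
(iii) φ^0(A) is bijective for all A and T' is effaceable in every degree > 0 (in the same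
element-wise sense). Stated as (i) ⇔ (ii) together with (i) ⇔ (iii). -/
theorem result {C : Type u} [Category.{v} C] [Abelian C]
    (T T' : DeltaF.CohDeltaFunctor C AddCommGrpCat.{w} ℕ) (hT0 : T.ZeroMono) (hT'0 : T'.ZeroMono)
    (hT : ∀ (q : ℕ) (A : C) (α : (T.F (q + 1)).obj A),
      ∃ (M : C) (u : A ⟶ M), Mono u ∧ (T.F (q + 1)).map u α = 0)
    (φ : T ⟶ T') (E : ObjectProperty C)
    (hE : ∀ A : C, ∃ (M : C) (i : A ⟶ M), Mono i ∧ E M) :
    ((∀ (q : ℕ) (A : C), IsIso ((φ.app q).app A)) ↔
      ((∀ M : C, E M → IsIso ((φ.app 0).app M)) ∧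
        ∀ (q : ℕ) (M : C), E M → Epi ((φ.app (q + 1)).app M))) ∧
    ((∀ (q : ℕ) (A : C), IsIso ((φ.app q).app A)) ↔
      ((∀ A : C, IsIso ((φ.app 0).app A)) ∧
        ∀ (q : ℕ) (A : C) (α : (T'.F (q + 1)).obj A),
          ∃ (M : C) (u : A ⟶ M), Mono u ∧ (T'.F (q + 1)).map u α = 0)) := by
  have hiso : ∀ (q : ℕ) (A : C), IsIso ((φ.app q).app A) ↔ Function.Bijective ((φ.app q).app A) :=
    fun q A => ConcreteCategory.isIso_iff_bijective _
  have hepi : ∀ (q : ℕ) (A : C), Epi ((φ.app q).app A) ↔ Function.Surjective ((φ.app q).app A) :=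
    fun q A => AddCommGrpCat.epi_iff_surjective _
  simp only [hiso, hepi]
  constructor
  · constructor
    · intro h
      exact ⟨fun M _ => h 0 M, fun q M _ => (h (q + 1) M).2⟩
    · rintro ⟨h0, hq⟩
      exact bijective_of_ii hT0 hT'0 hT φ E hE h0 hq
  · constructor
    · intro h
      refine ⟨h 0, fun q A α => ?_⟩
      obtain ⟨β, rfl⟩ := (h (q + 1) A).2 α
      obtain ⟨M, u, hu, h1⟩ := hT q A β
      refine ⟨M, u, hu, ?_⟩
      rw [← nat_apply φ (q + 1) u β, h1, map_zero]
    · rintro ⟨h0, hq⟩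
      exact bijective_of_iii hT φ h0 hq

end Groth.Agent.S8611
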