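import Groth.Statements.S8612
import Groth.Agent.Lib.Helper25.DeltaFAb
import Groth.Agent.Lib.Helper25.AbFiltered

set_option autoImplicit false
universe w v u
open CategoryTheory CategoryTheory.Limits
open SGA4h

namespace Groth.Agent.S8612

open Groth.Agent.Lib.Helper25.DeltaFEff Groth.Agent.Lib.Helper25.DeltaFAb
open Groth.Agent.Lib.Helper25.AbFiltered

section
variable {C : Type u} [Category.{v} C] [Abelian C]
    {T T' : DeltaF.CohDeltaFunctor C AddCommGrpCat.{w} ℕ}

theorem map_inv_map_hom (T : DeltaF.CohDeltaFunctor C AddCommGrpCat.{w} ℕ) (q : ℕ) {X A : C}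
    (e : X ≅ A) (a : (T.F q).obj A) : (T.F q).map e.hom ((T.F q).map e.inv a) = a := by
  rw [← ConcreteCategory.comp_apply, ← Functor.map_comp, e.inv_hom_id,
    CategoryTheory.Functor.map_id]
  rfl

theorem injective_of_iso (φ : T ⟶ T') (q : ℕ) {X A : C} (e : X ≅ A)
    (h : Function.Injective ((φ.app q).app X)) : Function.Injective ((φ.app q).app A) := by
  refine (injective_iff_map_eq_zero ((φ.app q).app A).hom).2 (fun a ha => ?_)
  have h1 : (φ.app q).app X ((T.F q).map e.inv a) = 0 := by
    rw [nat_apply φ q e.inv a]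
    exact (congrArg _ ha).trans (map_zero _)
  have h2 : (T.F q).map e.inv a = 0 := by
    apply h
    rw [h1, map_zero]
  rw [← map_inv_map_hom T q e a, h2, map_zero]

theorem surjective_of_iso (φ : T ⟶ T') (q : ℕ) {X A : C} (e : X ≅ A)
    (h : Function.Surjective ((φ.app q).app X)) : Function.Surjective ((φ.app q).app A) := by
  intro a'
  obtain ⟨x, hx⟩ := h ((T'.F q).map e.inv a')
  refine ⟨(T.F q).map e.hom x, ?_⟩
  rw [nat_apply φ q e.hom x, hx, map_inv_map_hom T' q e a']

variable [HasFilteredColimitsOfSize.{v, v} C]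
    [∀ n, PreservesFilteredColimitsOfSize.{v, v} (T.F n)]
    [∀ n, PreservesFilteredColimitsOfSize.{v, v} (T'.F n)]

theorem injective_colimit (φ : T ⟶ T') (q : ℕ) {J : Type v} [SmallCategory J] [IsFiltered J]
    (K : J ⥤ C) (c : Cocone K) (hc : IsColimit c)
    (h : ∀ j, Function.Injective ((φ.app q).app (K.obj j))) :
    Function.Injective ((φ.app q).app c.pt) := by
  refine (injective_iff_map_eq_zero ((φ.app q).app c.pt).hom).2 (fun x hx => ?_)
  have hc1 : IsColimit ((T.F q).mapCocone c) := isColimitOfPreserves (T.F q) hc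
  have hc2 : IsColimit ((T'.F q).mapCocone c) := isColimitOfPreserves (T'.F q) hc
  obtain ⟨j, y, hy⟩ := exists_rep (K ⋙ T.F q) hc1 x
  change (T.F q).map (c.ι.app j) y = x at hy
  subst hy
  have h1 : (T'.F q).map (c.ι.app j) ((φ.app q).app (K.obj j) y) = 0 := by
    rw [← nat_apply φ q (c.ι.app j) y]
    exact hx
  obtain ⟨k, f, hf⟩ := exists_map_eq_zero (K ⋙ T'.F q) hc2 (j := j) _ h1
  change (T'.F q).map (K.map f) ((φ.app q).app (K.obj j) y) = 0 at hf
  rw [← nat_apply φ q (K.map f) y] at hf
  have h2 : (T.F q).map (K.map f) y = 0 := by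
    apply h k
    rw [hf, map_zero]
  have h3 : (T.F q).map (c.ι.app j) y = (T.F q).map (c.ι.app k) ((T.F q).map (K.map f) y) := by
    rw [← ConcreteCategory.comp_apply, ← Functor.map_comp, c.w f]
  rw [h3, h2, map_zero]

theorem surjective_colimit (φ : T ⟶ T') (q : ℕ) {J : Type v} [SmallCategory J] [IsFiltered J]
    (K : J ⥤ C) (c : Cocone K) (hc : IsColimit c)
    (h : ∀ j, Function.Surjective ((φ.app q).app (K.obj j))) :
    Function.Surjective ((φ.app q).app c.pt) := by
  intro x'
  have hc2 : IsColimit ((T'.F q).mapCocone c) := isColimitOfPreserves (T'.F q) hc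
  obtain ⟨j, y', hy'⟩ := exists_rep (K ⋙ T'.F q) hc2 x'
  change (T'.F q).map (c.ι.app j) y' = x' at hy'
  obtain ⟨y, rfl⟩ := h j y'
  exact ⟨(T.F q).map (c.ι.app j) y, (nat_apply φ q (c.ι.app j) y).trans hy'⟩

theorem injective_all (φ : T ⟶ T') (q : ℕ) (D : ObjectProperty C)
    (hD : ∀ A : C, ∃ (J : Type v) (_ : SmallCategory J) (_ : IsFiltered J) (K : J ⥤ C) (c : Cocone K)
      (_ : IsColimit c), (∀ j, D (K.obj j)) ∧ Nonempty (c.pt ≅ A))
    (h : ∀ A : C, D A → Function.Injective ((φ.app q).app A)) (A : C) :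
    Function.Injective ((φ.app q).app A) := by
  obtain ⟨J, _, _, K, c, hc, hK, ⟨e⟩⟩ := hD A
  exact injective_of_iso φ q e (injective_colimit φ q K c hc (fun j => h _ (hK j)))

theorem surjective_all (φ : T ⟶ T') (q : ℕ) (D : ObjectProperty C)
    (hD : ∀ A : C, ∃ (J : Type v) (_ : SmallCategory J) (_ : IsFiltered J) (K : J ⥤ C) (c : Cocone K)
      (_ : IsColimit c), (∀ j, D (K.obj j)) ∧ Nonempty (c.pt ≅ A))
    (h : ∀ A : C, D A → Function.Surjective ((φ.app q).app A)) (A : C) :
    Function.Surjective ((φ.app q).app A) := by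
  obtain ⟨J, _, _, K, c, hc, hK, ⟨e⟩⟩ := hD A
  exact surjective_of_iso φ q e (surjective_colimit φ q K c hc (fun j => h _ (hK j)))

theorem bijective_all (hT0 : T.ZeroMono) (hT'0 : T'.ZeroMono) (φ : T ⟶ T') (D E : ObjectProperty C)
    (hD : ∀ A : C, ∃ (J : Type v) (_ : SmallCategory J) (_ : IsFiltered J) (K : J ⥤ C) (c : Cocone K)
      (_ : IsColimit c), (∀ j, D (K.obj j)) ∧ Nonempty (c.pt ≅ A))
    (hE : ∀ A : C, D A → ∃ (M : C) (i : A ⟶ M), Mono i ∧ E M)
    (h : ∀ (q : ℕ) (M : C), E M → Function.Bijective ((φ.app q).app M)) :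
    ∀ (q : ℕ) (A : C), Function.Bijective ((φ.app q).app A) := by
  intro q
  induction q with
  | zero =>
    have inj : ∀ A : C, Function.Injective ((φ.app 0).app A) := by
      refine injective_all φ 0 D hD (fun A hA => ?_)
      obtain ⟨M, i, hi, hM⟩ := hE A hA
      exact injective_zero_of_mono φ hT0 i (h 0 M hM).1
    have surj : ∀ A : C, Function.Surjective ((φ.app 0).app A) := by
      refine surjective_all φ 0 D hD (fun A hA => ?_)
      obtain ⟨M, i, hi, hM⟩ := hE A hA
      exact surjective_zero φ hT'0 i (h 0 M hM).2 (inj _)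
    exact fun A => ⟨inj A, surj A⟩
  | succ q IH =>
    have inj : ∀ A : C, Function.Injective ((φ.app (q + 1)).app A) := by
      refine injective_all φ (q + 1) D hD (fun A hA => ?_)
      obtain ⟨M, i, hi, hM⟩ := hE A hA
      refine (injective_iff_map_eq_zero ((φ.app (q + 1)).app A).hom).2 (fun α hα => ?_)
      have h1 : (T.F (q + 1)).map i α = 0 := by
        apply (h (q + 1) M hM).1
        rw [nat_apply φ (q + 1) i α, map_zero]
        exact (congrArg _ hα).trans (map_zero _)
      exact eq_zero_step φ q i α h1 hα (IH M).2 (IH _).1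
    have surj : ∀ A : C, Function.Surjective ((φ.app (q + 1)).app A) := by
      refine surjective_all φ (q + 1) D hD (fun A hA => ?_)
      obtain ⟨M, i, hi, hM⟩ := hE A hA
      exact fun α => exists_preimage_four φ q i α (IH _).2 (h (q + 1) M hM).2 (inj _)
    exact fun A => ⟨inj A, surj A⟩

end

/-- Let C be an abelian category with filtered colimits, T and T' cohomological delta-functors on C in
degrees ≥ 0 with values in abelian groups, both left exact in degree 0 and commuting with filtered
colimits in every degree, and φ : T → T' a morphism of delta-functors. Let D and E be classes of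
objects such that (a) every object of C is a filtered colimit of objects of D and (b) every object
of D admits a monomorphism into a member of E. Then φ^q(A) is bijective for all q and all A if and
only if φ^q(M) is bijective for all q and all M in E. -/
theorem result {C : Type u} [Category.{v} C] [Abelian C]
    [HasFilteredColimitsOfSize.{v, v} C]
    (T T' : DeltaF.CohDeltaFunctor C AddCommGrpCat.{w} ℕ) (hT0 : T.ZeroMono) (hT'0 : T'.ZeroMono)
    [∀ n, PreservesFilteredColimitsOfSize.{v, v} (T.F n)] [∀ n, PreservesFilteredColimitsOfSize.{v, v} (T'.F n)]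
    (φ : T ⟶ T') (D E : ObjectProperty C)
    (hD : ∀ A : C, ∃ (J : Type v) (_ : SmallCategory J) (_ : IsFiltered J) (K : J ⥤ C) (c : Cocone K)
      (_ : IsColimit c), (∀ j, D (K.obj j)) ∧ Nonempty (c.pt ≅ A))
    (hE : ∀ A : C, D A → ∃ (M : C) (i : A ⟶ M), Mono i ∧ E M) :
    (∀ (q : ℕ) (A : C), IsIso ((φ.app q).app A)) ↔
      ∀ (q : ℕ) (M : C), E M → IsIso ((φ.app q).app M) := by
  have hiso : ∀ (q : ℕ) (A : C), IsIso ((φ.app q).app A) ↔ Function.Bijective ((φ.app q).app A) :=
    fun q A => ConcreteCategory.isIso_iff_bijective _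
  simp only [hiso]
  constructor
  · intro h q M _
    exact h q M
  · intro h
    exact bijective_all hT0 hT'0 φ D E hD hE h

end Groth.Agent.S8612
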