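import Groth.Statements.S8618
import Groth.Agent.Lib.Helper16.PLinTr2

set_option autoImplicit false
universe u
open SGA4h

namespace Groth.Agent.S8618

open TensorProduct in
/-- Let k be a finite field with q = p^f elements, F₀ ⊂ k its prime field, K an algebraically closed
extension of k, V a finite-dimensional k-vector space and φ a p-linear endomorphism of V (φ(λx) =
λ^p φ(x)); let F = φ^f, a k-linear endomorphism, F_K its K-linear extension to K ⊗_k V and φ_K the
p-linear extension of φ (φ_K(μ ⊗ v) = μ^p ⊗ φ(v)). Then F_K preserves the F₀-subspace W = Ker(φ_K -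
1) of K ⊗_k V, W is finite-dimensional over F₀, and the trace of F_K on W (an element of F₀) equals
the trace of F on V. -/
theorem result {p : ℕ} [Fact p.Prime] (k : Type u) [Field k] [Fintype k]
    [CharP k p] (f : ℕ) (hq : Fintype.card k = p ^ f) (K : Type u) [Field K] [Algebra k K] [IsAlgClosed K]
    (V : Type u) [AddCommGroup V] [Module k V] [FiniteDimensional k V]
    (φ : V →ₛₗ[frobenius k p] V) (F : V →ₗ[k] V) (hF : ∀ x, F x = (⇑φ)^[f] x)
    (φK : K ⊗[k] V →+ K ⊗[k] V) (hφK : ∀ (μ : K) (v : V), φK (μ ⊗ₜ[k] v) = (μ ^ p) ⊗ₜ[k] φ v)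
    (W : Submodule (↥(⊥ : Subfield k)) (K ⊗[k] V)) (hW : ∀ y, y ∈ W ↔ φK y = y) :
    (∀ y, φK y = y → φK (F.baseChange K y) = F.baseChange K y) ∧
    Module.Finite (↥(⊥ : Subfield k)) ↥W ∧
    ∀ (G : ↥W →ₗ[↥(⊥ : Subfield k)] ↥W), (∀ y : ↥W, (↑(G y) : K ⊗[k] V) = F.baseChange K ↑y) →
      algebraMap k K (algebraMap (↥(⊥ : Subfield k)) k (LinearMap.trace (↥(⊥ : Subfield k)) ↥W G)) =
        algebraMap k K (LinearMap.trace k V F) := by
  haveI hK : CharP K p := charP_of_injective_algebraMap (algebraMap k K).injective p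
  have hΦ := Groth.Agent.Lib.Helper16.PLinTr.phiK_smul φ φK hφK
  have hcomm := Groth.Agent.Lib.Helper16.PLinTr.phiK_comm φ φK hφK F f hF
  have hF₀ : ∀ x : K, x ^ p = x →
      ∃ a : ↥(⊥ : Subfield k), algebraMap ↥(⊥ : Subfield k) K a = x := by
    intro x hx
    obtain ⟨n, hn⟩ := (mem_bot_iff_intCast p K).1 ((Subfield.mem_bot_iff_pow_eq_self K p).2 hx)
    exact ⟨(n : ↥(⊥ : Subfield k)), by rw [map_intCast]; exact hn⟩
  haveI : FiniteDimensional K (K ⊗[k] V) := inferInstance
  haveI hfin : Module.Finite ↥(⊥ : Subfield k) ↥W :=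
    Groth.Agent.Lib.Helper16.PLinTr.finite_fixed φK hΦ hF₀ W hW
  refine ⟨fun y hy => ?_, hfin, fun G hG => ?_⟩
  · rw [hcomm, hy]
  · have := Groth.Agent.Lib.Helper16.PLinTr.trace_fixed φK hΦ hF₀ (F.baseChange K) hcomm
      (Groth.Agent.Lib.Helper16.PLinTr.FK_nil φ φK hφK F f hF hK hq) W hW G hG
    rw [LinearMap.trace_baseChange] at this
    exact this

end Groth.Agent.S8618
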