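import Groth.Statements.S8625
import Mathlib.Tactic

set_option autoImplicit false
universe u
open SGA4h

namespace Groth.Agent.S8625

section helpers

variable {G : Type u} [Group G] (F : G →* G)

theorem lang_fix (g : G) (h : F (F g * g⁻¹) = F g * g⁻¹) : F (g⁻¹ * F g) = g⁻¹ * F g := by
  rw [map_mul, map_inv] at h ⊢
  have h2 : F (F g) = F g * g⁻¹ * F g := by
    calc F (F g) = F (F g) * (F g)⁻¹ * F g := by group
      _ = F g * g⁻¹ * F g := by rw [h]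
  rw [h2]; group

/-- Same image under the Lang map gives conjugate images under the other Lang map. -/
theorem lang_conj (g h : G) (e : F g * g⁻¹ = F h * h⁻¹)
    (hg : F (g⁻¹ * F g) = g⁻¹ * F g) (hh : F (h⁻¹ * F h) = h⁻¹ * F h) :
    ConjClasses.mk (⟨g⁻¹ * F g, hg⟩ : ↥(F.eqLocus (MonoidHom.id G))) =
      ConjClasses.mk (⟨h⁻¹ * F h, hh⟩ : ↥(F.eqLocus (MonoidHom.id G))) := by
  have hc : F (h⁻¹ * g) = h⁻¹ * g := by
    rw [map_mul, map_inv]
    have : F g = F h * h⁻¹ * g := by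
      calc F g = F g * g⁻¹ * g := by group
        _ = F h * h⁻¹ * g := by rw [e]
    rw [this]; group
  rw [ConjClasses.mk_eq_mk_iff_isConj, isConj_iff]
  refine ⟨⟨h⁻¹ * g, hc⟩, ?_⟩
  apply Subtype.ext
  simp only [Subgroup.coe_mul, Subgroup.coe_inv]
  have : F g = F h * h⁻¹ * g := by
    calc F g = F g * g⁻¹ * g := by group
      _ = F h * h⁻¹ * g := by rw [e]
  rw [this]; group

theorem lang_conj' (x x' : ↥(F.eqLocus (MonoidHom.id G))) (g g' : G)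
    (e : F g * g⁻¹ = x) (e' : F g' * g'⁻¹ = x') (hxx' : IsConj x x')
    (hg : F (g⁻¹ * F g) = g⁻¹ * F g) (hg' : F (g'⁻¹ * F g') = g'⁻¹ * F g') :
    ConjClasses.mk (⟨g⁻¹ * F g, hg⟩ : ↥(F.eqLocus (MonoidHom.id G))) =
      ConjClasses.mk (⟨g'⁻¹ * F g', hg'⟩ : ↥(F.eqLocus (MonoidHom.id G))) := by
  obtain ⟨c, hc⟩ := isConj_iff.1 hxx'
  have hcF : F (c : G) = c := c.2
  have hc' : (c : G) * x * (c : G)⁻¹ = x' := by
    have := congrArg Subtype.val hc
    simpa using this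
  have e1 : F (c * g) * (c * g)⁻¹ = F g' * g'⁻¹ := by
    rw [map_mul, hcF, e', ← hc', ← e]; group
  have e2 : (c * g)⁻¹ * F (c * g) = g⁻¹ * F g := by
    rw [map_mul, hcF]; group
  have hcg : F ((c * g)⁻¹ * F (c * g)) = (c * g)⁻¹ * F (c * g) := by
    rw [e2]; exact hg
  have := lang_conj F (c * g) g' e1 hcg hg'
  rw [← this]
  congr 1
  exact Subtype.ext e2.symm

theorem lang_fix' (k y : G) (hy : F y = y) (h : k⁻¹ * F k = y) :
    F (F k * k⁻¹) = F k * k⁻¹ := by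
  have h3 : F k = k * y := by rw [← h]; group
  rw [h3, map_mul, map_mul, map_inv, hy, h3]; group

end helpers

/-- Let G be a group with an endomorphism F, and assume the Lang map g ↦ F(g)g⁻¹ is surjective (for
instance the geometric points of a connected algebraic group over F_q with its Frobenius, where the
surjectivity is the classical result of Lang; the other Lang map g ↦ g⁻¹F(g) is then surjective too,
by g ↦ g⁻¹). Let G^F be the subgroup of fixed points of F. (i) If F(g)g⁻¹ is fixed by F then so is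
g⁻¹F(g). (ii), (iii) There is a bijection of the set of conjugacy classes of G^F with itself
sending, for every g with F(g)g⁻¹ ∈ G^F, the class of F(g)g⁻¹ to the class of g⁻¹F(g) (in particular
the latter class depends only on the former). -/
theorem result {G : Type u} [Group G] (F : G →* G)
    (hL : Function.Surjective fun g : G => F g * g⁻¹) :
    (∀ g : G, F (F g * g⁻¹) = F g * g⁻¹ → F (g⁻¹ * F g) = g⁻¹ * F g) ∧
    ∃ φ : ConjClasses ↥(F.eqLocus (MonoidHom.id G)) → ConjClasses ↥(F.eqLocus (MonoidHom.id G)),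
      Function.Bijective φ ∧
      ∀ (g : G) (h : F (F g * g⁻¹) = F g * g⁻¹) (h' : F (g⁻¹ * F g) = g⁻¹ * F g),
        φ (ConjClasses.mk (⟨F g * g⁻¹, h⟩ : ↥(F.eqLocus (MonoidHom.id G)))) =
          ConjClasses.mk (⟨g⁻¹ * F g, h'⟩ : ↥(F.eqLocus (MonoidHom.id G))) := by
  classical
  have hfix : ∀ g : G, F (F g * g⁻¹) = F g * g⁻¹ → F (g⁻¹ * F g) = g⁻¹ * F g := lang_fix F
  refine ⟨hfix, ?_⟩
  have hch : ∀ x : ↥(F.eqLocus (MonoidHom.id G)), ∃ g : G, F g * g⁻¹ = x := fun x => hL x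
  choose γ hγ using hch
  have hγfix : ∀ x : ↥(F.eqLocus (MonoidHom.id G)),
      F ((γ x)⁻¹ * F (γ x)) = (γ x)⁻¹ * F (γ x) := by
    intro x
    apply hfix
    rw [hγ x]
    exact x.2
  let ψ : ↥(F.eqLocus (MonoidHom.id G)) → ConjClasses ↥(F.eqLocus (MonoidHom.id G)) :=
    fun x => ConjClasses.mk ⟨(γ x)⁻¹ * F (γ x), hγfix x⟩
  have hψ : ∀ x x' : ↥(F.eqLocus (MonoidHom.id G)), IsConj x x' → ψ x = ψ x' := by
    intro x x' hxx'
    exact lang_conj' F x x' (γ x) (γ x') (hγ x) (hγ x') hxx' _ _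
  let φ : ConjClasses ↥(F.eqLocus (MonoidHom.id G)) → ConjClasses ↥(F.eqLocus (MonoidHom.id G)) :=
    Quotient.lift ψ hψ
  have hspec : ∀ (g : G) (h : F (F g * g⁻¹) = F g * g⁻¹) (h' : F (g⁻¹ * F g) = g⁻¹ * F g),
      φ (ConjClasses.mk (⟨F g * g⁻¹, h⟩ : ↥(F.eqLocus (MonoidHom.id G)))) =
        ConjClasses.mk (⟨g⁻¹ * F g, h'⟩ : ↥(F.eqLocus (MonoidHom.id G))) := by
    intro g h h'
    show ψ ⟨F g * g⁻¹, h⟩ = _
    exact lang_conj' F ⟨F g * g⁻¹, h⟩ ⟨F g * g⁻¹, h⟩ (γ ⟨F g * g⁻¹, h⟩) g (hγ _) rfl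
      (IsConj.refl _) _ _
  refine ⟨φ, ⟨?_, ?_⟩, hspec⟩
  · intro a b
    obtain ⟨x, rfl⟩ := ConjClasses.exists_rep a
    obtain ⟨x', rfl⟩ := ConjClasses.exists_rep b
    intro hab
    have hab' : ψ x = ψ x' := hab
    obtain ⟨c, hc⟩ := isConj_iff.1 (ConjClasses.mk_eq_mk_iff_isConj.1 hab')
    have hcF : F (c : G) = c := c.2
    have hc' : (c : G) * ((γ x)⁻¹ * F (γ x)) * (c : G)⁻¹ = (γ x')⁻¹ * F (γ x') := by
      have := congrArg Subtype.val hc
      simpa using this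
    set g := γ x with hg
    set g' := γ x' with hg'
    -- d = g c⁻¹ g'⁻¹ is fixed by F and conjugates x' to x
    have hd : F (g * (c : G)⁻¹ * g'⁻¹) = g * (c : G)⁻¹ * g'⁻¹ := by
      have h1 : F g' = g' * ((c : G) * (g⁻¹ * F g) * (c : G)⁻¹) := by
        rw [hc']; group
      rw [map_mul, map_mul, map_inv, map_inv, hcF, h1]; group
    rw [ConjClasses.mk_eq_mk_iff_isConj]
    apply IsConj.symm
    rw [isConj_iff]
    refine ⟨⟨g * (c : G)⁻¹ * g'⁻¹, hd⟩, ?_⟩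
    apply Subtype.ext
    simp only [Subgroup.coe_mul, Subgroup.coe_inv]
    rw [← hγ x, ← hγ x', ← hg, ← hg']
    have h1 : F g' = g' * ((c : G) * (g⁻¹ * F g) * (c : G)⁻¹) := by
      rw [hc']; group
    rw [h1]; group
  · intro b
    obtain ⟨y, rfl⟩ := ConjClasses.exists_rep b
    obtain ⟨g₁, hg₁⟩ := hL ((y : G)⁻¹)
    simp only at hg₁
    have hyF : F (y : G) = y := y.2
    have e1 : g₁ * (F g₁)⁻¹ = y := by
      have : (F g₁ * g₁⁻¹)⁻¹ = ((y : G)⁻¹)⁻¹ := by rw [hg₁]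
      simpa using this
    have e2 : (g₁⁻¹)⁻¹ * F g₁⁻¹ = y := by
      rw [map_inv, inv_inv]; exact e1
    have hfix2 : F ((g₁⁻¹)⁻¹ * F g₁⁻¹) = (g₁⁻¹)⁻¹ * F g₁⁻¹ := by
      rw [e2]; exact hyF
    have hfix1 : F (F g₁⁻¹ * (g₁⁻¹)⁻¹) = F g₁⁻¹ * (g₁⁻¹)⁻¹ :=
      lang_fix' F g₁⁻¹ y hyF e2
    refine ⟨ConjClasses.mk ⟨F g₁⁻¹ * (g₁⁻¹)⁻¹, hfix1⟩, ?_⟩
    rw [hspec g₁⁻¹ hfix1 hfix2]
    congr 1
    exact Subtype.ext e2

end Groth.Agent.S8625
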