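import Groth.Statements.S8630
import Mathlib

set_option autoImplicit false
open Zeta

namespace Groth.Agent.S8630

open Polynomial PowerSeries

theorem key (n : ℕ) : n ≠ 0 → ∀ (c : ℕ) (Q' : ℤ[X]) (W : ℤ⟦X⟧), c ≠ 0 → Q'.coeff 0 = c →
    (Q' : ℤ⟦X⟧) * W = PowerSeries.C (n : ℤ) → ∃ Q₀ : ℤ[X], Polynomial.C (c : ℤ) * Q₀ = Q' := by
  induction n using Nat.strong_induction_on with
  | _ n ih =>
    intro hn c Q' W hc hQ' hW
    by_cases hc1 : c = 1
    · exact ⟨Q', by simp [hc1]⟩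
    obtain ⟨ℓ, hℓ, hℓc⟩ := Nat.exists_prime_and_dvd hc1
    have hn_eq : (n : ℤ) = c * PowerSeries.constantCoeff W := by
      have := congrArg PowerSeries.constantCoeff hW
      simpa [hQ'] using this.symm
    have hℓn : ℓ ∣ n := by
      have h1 : (ℓ : ℤ) ∣ (n : ℤ) := by
        rw [hn_eq]
        exact Dvd.dvd.mul_right (Int.natCast_dvd_natCast.mpr hℓc) _
      exact Int.natCast_dvd_natCast.mp h1
    obtain ⟨n', rfl⟩ := hℓn
    have := Fact.mk hℓ
    have hℓ0 : (ℓ : ℤ) ≠ 0 := by exact_mod_cast hℓ.ne_zero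
    have hn' : n' ≠ 0 := by rintro rfl; simp at hn
    have hlt : n' < ℓ * n' := by
      have := hℓ.two_le
      nlinarith [Nat.pos_of_ne_zero hn']
    have hmod : PowerSeries.map (Int.castRingHom (ZMod ℓ)) (Q' : ℤ⟦X⟧) *
        PowerSeries.map (Int.castRingHom (ZMod ℓ)) W = 0 := by
      have h0 : (Int.castRingHom (ZMod ℓ)) ((ℓ * n' : ℕ) : ℤ) = 0 := by
        rw [eq_intCast, Int.cast_natCast, Nat.cast_mul, ZMod.natCast_self, zero_mul]
      rw [← map_mul, hW, PowerSeries.map_C, h0, map_zero]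
    rcases mul_eq_zero.mp hmod with h | h
    · have hdvd : ∀ i, (ℓ : ℤ) ∣ Q'.coeff i := by
        intro i
        have := congrArg (PowerSeries.coeff i) h
        simpa [ZMod.intCast_zmod_eq_zero_iff_dvd] using this
      obtain ⟨Q'', rfl⟩ := (Polynomial.C_dvd_iff_dvd_coeff _ _).mpr hdvd
      obtain ⟨c', rfl⟩ := hℓc
      have hc' : c' ≠ 0 := by rintro rfl; simp at hc
      have hQ'' : Q''.coeff 0 = c' := by
        have : (ℓ : ℤ) * Q''.coeff 0 = ℓ * c' := by simpa using hQ'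
        exact mul_left_cancel₀ hℓ0 this
      have hW'' : (Q'' : ℤ⟦X⟧) * W = PowerSeries.C (n' : ℤ) := by
        have hC : (PowerSeries.C (ℓ : ℤ) : ℤ⟦X⟧) ≠ 0 := by
          intro h0
          have := congrArg PowerSeries.constantCoeff h0
          simp at this
          exact hℓ.ne_zero this
        apply mul_left_cancel₀ hC
        rw [← mul_assoc, ← Polynomial.coe_C, ← Polynomial.coe_mul, hW, Nat.cast_mul, map_mul,
          Polynomial.coe_C]
      obtain ⟨Q₀, h₀⟩ := ih n' hlt hn' c' Q'' W hc' hQ'' hW''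
      exact ⟨Q₀, by rw [← h₀]; simp [mul_assoc]⟩
    · have hdvd : ∀ i, (ℓ : ℤ) ∣ PowerSeries.coeff i W := by
        intro i
        have := congrArg (PowerSeries.coeff i) h
        simpa [ZMod.intCast_zmod_eq_zero_iff_dvd] using this
      choose w hw using hdvd
      have hW'' : W = PowerSeries.C (ℓ : ℤ) * PowerSeries.mk w := by
        ext i
        rw [PowerSeries.coeff_C_mul, PowerSeries.coeff_mk, hw]
      have hC : (PowerSeries.C (ℓ : ℤ) : ℤ⟦X⟧) ≠ 0 := by
        intro h0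
        have := congrArg PowerSeries.constantCoeff h0
        simp at this
        exact hℓ.ne_zero this
      refine ih n' hlt hn' c Q' (PowerSeries.mk w) hc hQ' ?_
      apply mul_left_cancel₀ hC
      rw [mul_left_comm, ← hW'', hW, Nat.cast_mul, map_mul]

theorem exists_clear (p : ℚ[X]) : ∃ (d : ℕ) (p' : ℤ[X]), d ≠ 0 ∧
    p'.map (Int.castRingHom ℚ) = Polynomial.C (d : ℚ) * p := by
  induction p using Polynomial.induction_on' with
  | add p q hp hq =>
    obtain ⟨d1, p1, hd1, h1⟩ := hp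
    obtain ⟨d2, p2, hd2, h2⟩ := hq
    refine ⟨d1 * d2, Polynomial.C (d2 : ℤ) * p1 + Polynomial.C (d1 : ℤ) * p2,
      mul_ne_zero hd1 hd2, ?_⟩
    simp only [Polynomial.map_add, Polynomial.map_mul, h1, h2,
      Nat.cast_mul, map_mul, map_natCast, Polynomial.map_natCast]
    ring
  | monomial n a =>
    refine ⟨a.den, Polynomial.monomial n a.num, a.den_nz, ?_⟩
    rw [Polynomial.map_monomial, Polynomial.C_mul_monomial, eq_intCast, Rat.den_mul_eq_num]

/-- Fatou's lemma: let P, Q ∈ ℚ[T] be coprime with constant coefficient 1, and suppose the power series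
P/Q has integer coefficients, i.e. P = Q·Z in ℚ⟦T⟧ for a power series Z with coefficients in ℤ. Then
P and Q have integer coefficients. -/
theorem result (P Q : Polynomial ℚ)
    (hPQ : IsCoprime P Q) (hP : P.coeff 0 = 1) (hQ : Q.coeff 0 = 1) (Z : PowerSeries ℤ)
    (hZ : (P : PowerSeries ℚ) = (Q : PowerSeries ℚ) * PowerSeries.map (Int.castRingHom ℚ) Z) :
    (∃ P₀ : Polynomial ℤ, P₀.map (Int.castRingHom ℚ) = P) ∧
      ∃ Q₀ : Polynomial ℤ, Q₀.map (Int.castRingHom ℚ) = Q := by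
  obtain ⟨U, V, hUV⟩ := hPQ
  obtain ⟨c, Q', hc, hQ'⟩ := exists_clear Q
  obtain ⟨n₁, U', hn₁, hU'⟩ := exists_clear U
  obtain ⟨n₂, V', hn₂, hV'⟩ := exists_clear V
  have hinj : Function.Injective (PowerSeries.map (Int.castRingHom ℚ)) :=
    PowerSeries.map_injective _ (RingHom.injective_int _)
  have hQ'0 : Q'.coeff 0 = c := by
    have := congrArg (fun p => Polynomial.coeff p 0) hQ'
    simp only [Polynomial.coeff_map, Polynomial.coeff_C_mul, hQ, mul_one, eq_intCast] at this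
    exact_mod_cast this
  have hW : (Q' : ℤ⟦X⟧) * (PowerSeries.C (n₂ : ℤ) * (U' : ℤ⟦X⟧) * Z + PowerSeries.C (n₁ : ℤ) * (V' : ℤ⟦X⟧)) =
      PowerSeries.C ((c * n₁ * n₂ : ℕ) : ℤ) := by
    apply hinj
    have hUV' := congrArg (fun p : ℚ[X] => (p : ℚ⟦X⟧)) hUV
    simp only [Polynomial.coe_add, Polynomial.coe_mul, Polynomial.coe_one, hZ] at hUV'
    have hcast : ∀ n : ℕ, (((n : ℚ[X]) : ℚ[X]) : ℚ⟦X⟧) = (n : ℚ⟦X⟧) := fun n => by
      rw [← Polynomial.C_eq_natCast, Polynomial.coe_C, map_natCast]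
    simp only [map_mul, map_add, ← Polynomial.polynomial_map_coe, hQ', hU', hV',
      Polynomial.coe_mul, Nat.cast_mul, map_natCast, hcast]
    linear_combination ((c : ℚ⟦X⟧) * (n₁ : ℚ⟦X⟧) * (n₂ : ℚ⟦X⟧)) * hUV'
  obtain ⟨Q₀, hQ₀⟩ := key (c * n₁ * n₂) (mul_ne_zero (mul_ne_zero hc hn₁) hn₂) c Q' _ hc hQ'0 hW
  have hQ₀' : Q₀.map (Int.castRingHom ℚ) = Q := by
    have hC : (Polynomial.C (c : ℚ) : ℚ[X]) ≠ 0 := by
      simpa using hc
    apply mul_left_cancel₀ hC
    rw [← hQ', ← hQ₀]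
    simp
  refine ⟨⟨PowerSeries.trunc (P.natDegree + 1) ((Q₀ : ℤ⟦X⟧) * Z), ?_⟩, Q₀, hQ₀'⟩
  ext i
  have hPi : P.coeff i = ((PowerSeries.coeff i ((Q₀ : ℤ⟦X⟧) * Z) : ℤ) : ℚ) := by
    have := congrArg (PowerSeries.coeff i) hZ
    rw [Polynomial.coeff_coe] at this
    rw [this, ← hQ₀', Polynomial.polynomial_map_coe, ← map_mul, PowerSeries.coeff_map, eq_intCast]
  rw [Polynomial.coeff_map, PowerSeries.coeff_trunc]
  split_ifs with hi
  · rw [hPi, eq_intCast]
  · rw [Polynomial.coeff_eq_zero_of_natDegree_lt (by omega)]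
    simp

end Groth.Agent.S8630
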