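import Groth.Statements.S8637
-- import your own Groth.Agent.* helpers here

set_option autoImplicit false
open Zeta

namespace Groth.Agent.S8637

/-- First assertion, for a finite family: let (f_i) be finitely many formal power series with real
coefficients, each with constant term 1 and all coefficients ≥ 0, and let f be their product. Then
for every i and every n the n-th coefficient of f_i is at most the n-th coefficient of f (so the
radius of absolute convergence of f_i is at least that of f). (Stated for a finite family; for an
infinite product whose factors f_i - 1 have orders tending to infinity each coefficient is that of a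
finite sub-product, so the same inequality holds.) -/
theorem result {ι : Type} (s : Finset ι) (f : ι → PowerSeries ℝ)
    (h0 : ∀ i ∈ s, PowerSeries.constantCoeff (f i) = 1)
    (hpos : ∀ i ∈ s, ∀ n : ℕ, 0 ≤ PowerSeries.coeff n (f i)) (i : ι) (hi : i ∈ s) (n : ℕ) :
    PowerSeries.coeff n (f i) ≤ PowerSeries.coeff n (∏ j ∈ s, f j) := by
  classical
  have hmulnn : ∀ g h : PowerSeries ℝ, (∀ n, 0 ≤ PowerSeries.coeff n g) →
      (∀ n, 0 ≤ PowerSeries.coeff n h) → ∀ n, 0 ≤ PowerSeries.coeff n (g * h) := by
    intro g h hg hh n
    rw [PowerSeries.coeff_mul]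
    exact Finset.sum_nonneg fun x _ => mul_nonneg (hg _) (hh _)
  have hprodnn : ∀ t : Finset ι, t ⊆ s → ∀ n, 0 ≤ PowerSeries.coeff n (∏ j ∈ t, f j) := by
    intro t
    induction t using Finset.induction_on with
    | empty =>
      intro _ n
      simp only [Finset.prod_empty, PowerSeries.coeff_one]
      split_ifs <;> norm_num
    | insert a t ha ih =>
      intro hsub n
      rw [Finset.prod_insert ha]
      exact hmulnn _ _ (hpos a (hsub (Finset.mem_insert_self a t)))
        (ih ((Finset.subset_insert a t).trans hsub)) n
  have hconst : PowerSeries.constantCoeff (∏ j ∈ s.erase i, f j) = 1 := by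
    rw [map_prod]
    exact Finset.prod_eq_one fun j hj => h0 j (Finset.mem_of_mem_erase hj)
  rw [← Finset.mul_prod_erase s f hi, PowerSeries.coeff_mul]
  have hterm : PowerSeries.coeff n (f i) =
      PowerSeries.coeff (n, 0).1 (f i) * PowerSeries.coeff (n, 0).2 (∏ j ∈ s.erase i, f j) := by
    simp only [PowerSeries.coeff_zero_eq_constantCoeff_apply, hconst, mul_one]
  rw [hterm]
  apply Finset.single_le_sum (f := fun x : ℕ × ℕ =>
    PowerSeries.coeff x.1 (f i) * PowerSeries.coeff x.2 (∏ j ∈ s.erase i, f j))
  · intro x _
    exact mul_nonneg (hpos i hi _) (hprodnn _ (Finset.erase_subset i s) _)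
  · simp [Finset.mem_antidiagonal]

end Groth.Agent.S8637
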