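import Groth.Statements.S8653
import Mathlib
import Groth.Agent.Helper19.LciMor
-- import your own Groth.Agent.* helpers here

set_option autoImplicit false
universe u
open CategoryTheory CategoryTheory.Limits AlgebraicGeometry
open RegImm

namespace Groth.Agent.S8653

/-- Being a Koszul-regular immersion is local for the faithfully flat quasi-compact topology. Let i : Y
⟶ X be an immersion, g : X' ⟶ X flat, surjective and quasi-compact, and i' : Y' ⟶ X' the base change
of i along g (a cartesian square). If i' is a Koszul-regular immersion, then so is i. -/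
theorem result {X Y X' Y' : Scheme.{u}} (i : Y ⟶ X) [IsImmersion i]
    (g : X' ⟶ X) [Flat g] [Surjective g] [QuasiCompact g]
    (i' : Y' ⟶ X') (g' : Y' ⟶ Y) (hsq : IsPullback g' i' i g)
    (hi' : RegImm.IsRegularImmersion .koszul i') : RegImm.IsRegularImmersion .koszul i := by
  rw [Groth.Agent.Helper19.LciMor.isRegularImmersion_koszul_iff] at hi' ⊢
  refine ⟨inferInstance, ?_⟩
  haveI := Groth.Agent.Lib.Helper16.KzComp.lciMor_descendsAlong.{u}
  exact MorphismProperty.of_isPullback_of_descendsAlong
    (P := Groth.Agent.Lib.Helper16.KzComp.LCIMor.{u})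
    (Q := (@Surjective ⊓ @Flat ⊓ @QuasiCompact : MorphismProperty Scheme.{u})) hsq.flip
    ⟨⟨inferInstance, inferInstance⟩, inferInstance⟩ hi'.2

end Groth.Agent.S8653
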