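import Groth.Statements.S8655
import Mathlib
import Groth.Agent.Helper19.RegImmComp
-- import your own Groth.Agent.* helpers here

set_option autoImplicit false
universe u
open CategoryTheory CategoryTheory.Limits AlgebraicGeometry
open RegImm

namespace Groth.Agent.S8655

/-- Let i : Y ⟶ X be a Koszul-regular immersion of constant codimension n and j : Z ⟶ Y a Koszul-regular
immersion of constant codimension m (around every point the ideal is generated by a Koszul-regular
sequence of that length). Then j ≫ i is a Koszul-regular immersion of constant codimension m + n. -/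
theorem result {X Y Z : Scheme.{u}} (n m : ℕ) (i : Y ⟶ X) (j : Z ⟶ Y)
    (hi : RegImm.IsRegularImmersionOfCodim .koszul n i) (hj : RegImm.IsRegularImmersionOfCodim .koszul m j) :
    RegImm.IsRegularImmersionOfCodim .koszul (m + n) (j ≫ i) := by
  haveI := hi.1
  haveI := hj.1
  refine ⟨inferInstance, fun z => ?_⟩
  obtain ⟨U, hzU, hcl, rs, hlen, hrs, hker⟩ := hi.2 (j z)
  obtain ⟨V, hzV, hcl', ss, hlen', hss, hker'⟩ := hj.2 z
  haveI := hcl
  haveI := hcl'
  obtain ⟨W, hzW, hclW, ts, hl, hts, hkerW⟩ :=
    Groth.Agent.Helper19.RegImmBC.comp_chart i j z U hzU rs hrs hker V hzV ss hss hker'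
  exact ⟨W, hzW, hclW, ts, by rw [hl, hlen, hlen'], hts, hkerW⟩

end Groth.Agent.S8655
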