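import Groth.Statements.S8666

set_option autoImplicit false
universe u
open CAlg

namespace Groth.Agent.S8666

theorem finite_maxSpec_of_localization (A : Type u) [CommRing A] (ι : Type) [Finite ι] [Nonempty ι]
    (p : ι → PrimeSpectrum A) :
    Finite (MaximalSpectrum (Localization (⨅ i, (p i).asIdeal.primeCompl))) := by
  classical
  cases nonempty_fintype ι
  set T : Submonoid A := ⨅ i, (p i).asIdeal.primeCompl with hT
  have hTmem : ∀ x : A, x ∈ T ↔ ∀ i, x ∉ (p i).asIdeal := by
    intro x
    simp [hT, Submonoid.mem_iInf, Ideal.primeCompl]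
  have key : ∀ m : MaximalSpectrum (Localization T),
      ∃ i, m.asIdeal.comap (algebraMap A (Localization T)) ≤ (p i).asIdeal := by
    intro m
    have hprime : (m.asIdeal.comap (algebraMap A (Localization T))).IsPrime :=
      Ideal.comap_isPrime _ _
    have hdisj : Disjoint (T : Set A) (m.asIdeal.comap (algebraMap A (Localization T)) : Set A) :=
      ((IsLocalization.isPrime_iff_isPrime_disjoint T (Localization T) m.asIdeal).mp
        m.isMaximal.isPrime).2
    by_contra hcon
    push Not at hcon
    have hsub : ((m.asIdeal.comap (algebraMap A (Localization T)) : Ideal A) : Set A) ⊆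
        ⋃ i ∈ (Finset.univ : Finset ι), ((p i).asIdeal : Set A) := by
      intro x hx
      by_contra hx'
      have hxT : x ∈ T := by
        rw [hTmem]
        intro i hi
        apply hx'
        simp only [Finset.mem_univ, Set.iUnion_true, Set.mem_iUnion]
        exact ⟨i, hi⟩
      exact Set.disjoint_left.mp hdisj hxT hx
    obtain ⟨i0⟩ := ‹Nonempty ι›
    have := (Ideal.subset_union_prime (s := Finset.univ) (f := fun i => (p i).asIdeal) i0 i0
      (fun i _ _ _ => (p i).isPrime)).mp hsub
    obtain ⟨i, _, hi⟩ := this
    exact hcon i hi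
  choose φ hφ using key
  refine Finite.of_injective φ ?_
  intro m m' hmm'
  have hval : ∀ m : MaximalSpectrum (Localization T),
      m.asIdeal = Ideal.map (algebraMap A (Localization T)) (p (φ m)).asIdeal := by
    intro m
    have hle : m.asIdeal ≤ Ideal.map (algebraMap A (Localization T)) (p (φ m)).asIdeal := by
      rw [← IsLocalization.map_under T (Localization T) m.asIdeal]
      exact Ideal.map_mono (hφ m)
    have hdisj : Disjoint (T : Set A) ((p (φ m)).asIdeal : Set A) := by
      rw [Set.disjoint_left]
      intro x hx hx'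
      exact (hTmem x).mp hx _ hx'
    have hpr : (Ideal.map (algebraMap A (Localization T)) (p (φ m)).asIdeal).IsPrime :=
      IsLocalization.isPrime_of_isPrime_disjoint T (Localization T) _ (p (φ m)).isPrime hdisj
    exact m.isMaximal.eq_of_le hpr.ne_top hle
  ext1
  rw [hval m, hval m', hmm']

theorem result (A : Type u) [CommRing A] [IsNoetherianRing A]
    (M : Type u) [AddCommGroup M] [Module A M] [Module.Invertible A M] (ι : Type) [Finite ι] (p : ι → PrimeSpectrum A) :
    ∃ s : M, ∀ i : ι, Submodule.span (Localization.AtPrime (p i).asIdeal)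
      {LocalizedModule.mkLinearMap (p i).asIdeal.primeCompl M s} = ⊤ := by
  classical
  rcases isEmpty_or_nonempty ι with hι | hι
  · exact ⟨0, fun i => (hι.false i).elim⟩
  set T : Submonoid A := ⨅ i, (p i).asIdeal.primeCompl with hT
  have hTmem : ∀ x : A, x ∈ T ↔ ∀ i, x ∉ (p i).asIdeal := by
    intro x
    simp [hT, Submonoid.mem_iInf, Ideal.primeCompl]
  have : Finite (MaximalSpectrum (Localization T)) := finite_maxSpec_of_localization A ι p
  have : Module.Free (Localization T) (LocalizedModule T M) := inferInstance
  obtain ⟨e⟩ := Module.Invertible.free_iff_linearEquiv.mp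
    (inferInstance : Module.Free (Localization T) (LocalizedModule T M))
  have hsurj : ∀ x : LocalizedModule T M, ∃ (m : M) (t : T), LocalizedModule.mk m t = x :=
    fun x => LocalizedModule.induction_on (fun m t => ⟨m, t, rfl⟩) x
  have hsurj' : ∀ x : Localization T, ∃ (a : A) (t : T), x = Localization.mk a t :=
    fun x => Localization.induction_on x (fun y => ⟨y.1, y.2, rfl⟩)
  obtain ⟨m, t, hg⟩ := hsurj (e.symm 1)
  refine ⟨m, fun i => ?_⟩
  rw [eq_top_iff]
  rintro x -
  induction x using LocalizedModule.induction_on with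
  | h m' u => ?_
  rw [Submodule.mem_span_singleton]
  have h1 : LocalizedModule.mk m' (1 : T) = e (LocalizedModule.mk m' 1) • e.symm 1 := by
    rw [← map_smul, smul_eq_mul, mul_one, e.symm_apply_apply]
  obtain ⟨a, t₁, hat⟩ := hsurj' (e (LocalizedModule.mk m' 1))
  rw [hat, ← hg, LocalizedModule.mk_smul_mk, LocalizedModule.mk_eq] at h1
  obtain ⟨u', hu'⟩ := h1
  have hTi : ∀ x : T, (x : A) ∈ (p i).asIdeal.primeCompl := fun x => (hTmem x).mp x.2 i
  refine ⟨Localization.mk ((u' : A) * a)
    ⟨(u' : A) * (t₁ : A) * (t : A) * (u : A), ?_⟩, ?_⟩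
  · exact mul_mem (mul_mem (mul_mem (hTi u') (hTi t₁)) (hTi t)) u.2
  · rw [LocalizedModule.mkLinearMap_apply, LocalizedModule.mk_smul_mk, LocalizedModule.mk_eq]
    refine ⟨1, ?_⟩
    simp only [one_smul, mul_one]
    have hu'' : ((u' : A) * ((t₁ : A) * (t : A))) • m' = ((u' : A) * a) • m := by
      have := hu'
      simp only [Submonoid.smul_def, one_smul, Submonoid.coe_mul, smul_smul] at this
      simpa [mul_assoc] using this
    simp only [Submonoid.smul_def, smul_smul]
    rw [show (u : A) * ((u' : A) * a) = (u : A) * ((u' : A) * a) from rfl, ← smul_smul, ← hu'',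
      smul_smul]
    congr 1
    ring

end Groth.Agent.S8666
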