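import Groth.Statements.S8668
import Mathlib
import Groth.Agent.Helper19.CotClass2
import Groth.Agent.S8656
import Groth.Agent.S1488
import Groth.Agent.S5018
import Groth.Agent.Lib.Helper29.QCohLocFree
import Groth.Agent.Lib.Helper2.K0Dev.Basic
-- import your own Groth.Agent.* helpers here

set_option autoImplicit false
universe u
open CategoryTheory CategoryTheory.Limits AlgebraicGeometry
attribute [local instance] HasDerivedCategory.standard
open Synt

namespace Groth.Agent.S8668

/-- Let f : X ⟶ Y be a local complete intersection morphism in the factorisation sense (around each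
point, locally of finite type and factoring as a Koszul-regular immersion followed by a smooth
morphism), and let f = i ≫ g = i' ≫ g' be two factorisations with g : V ⟶ Y and g' : V' ⟶ Y smooth
and i, i' closed immersions. Let d : O_V → Ω and d' : O_{V'} → Ω' be universal Y-derivations
(sheaves of relative differentials of V and V' over Y). Then i^*Ω, i'^*Ω' and the conormal sheaves
N_i, N_{i'} are finite locally free, and in K₀ of finite locally free O_X-modules one has [i^*Ω] −
[N_i] = [i'^*Ω'] − [N_{i'}]: the virtual cotangent class of f does not depend on the factorisation. -/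
theorem result {X Y V V' : Scheme.{u}} (f : X ⟶ Y) (hf : ∀ x : X, Synt.IsKoszulAt f x)
    (g : V ⟶ Y) [Smooth g] (i : X ⟶ V) [IsClosedImmersion i] (hi : i ≫ g = f)
    (g' : V' ⟶ Y) [Smooth g'] (i' : X ⟶ V') [IsClosedImmersion i'] (hi' : i' ≫ g' = f)
    (Ω : V.Modules) (d : OmegaSh.Der g Ω) (hd : OmegaSh.IsUniversal d)
    (Ω' : V'.Modules) (d' : OmegaSh.Der g' Ω') (hd' : OmegaSh.IsUniversal d') :
    FlatMod.IsFinLocFree ((Scheme.Modules.pullback i).obj Ω) ∧ FlatMod.IsFinLocFree (Omega.conormal i) ∧
    FlatMod.IsFinLocFree ((Scheme.Modules.pullback i').obj Ω') ∧ FlatMod.IsFinLocFree (Omega.conormal i') ∧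
    KRR.cl X ((Scheme.Modules.pullback i).obj Ω) - KRR.cl X (Omega.conormal i) =
      KRR.cl X ((Scheme.Modules.pullback i').obj Ω') - KRR.cl X (Omega.conormal i') := by
  have hΩ : FlatMod.IsFinLocFree Ω :=
    Groth.Agent.S5018.result g ((Groth.Agent.S1488.result g).mp inferInstance).2 Ω d hd
  have hΩ' : FlatMod.IsFinLocFree Ω' :=
    Groth.Agent.S5018.result g' ((Groth.Agent.S1488.result g').mp inferInstance).2 Ω' d' hd'
  have h1 := Groth.Agent.Lib.Helper29.QCoh.isFinLocFree_pullback i hΩ
  have h3 := Groth.Agent.Lib.Helper29.QCoh.isFinLocFree_pullback i' hΩ'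
  have hki : RegImm.IsRegularImmersion .koszul i := Groth.Agent.S8656.result f hf g i hi
  have hki' : RegImm.IsRegularImmersion .koszul i' := Groth.Agent.S8656.result f hf g' i' hi'
  have h2 := Groth.Agent.Helper19.CotClass.isFinLocFree_conormal_of_koszul i hki
  have h4 := Groth.Agent.Helper19.CotClass.isFinLocFree_conormal_of_koszul i' hki'
  let i₀ : X ⟶ pullback g g' := pullback.lift i i' (hi.trans hi'.symm)
  have hfst : i₀ ≫ pullback.fst g g' = i := pullback.lift_fst _ _ _
  have hsnd : i₀ ≫ pullback.snd g g' = i' := pullback.lift_snd _ _ _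
  haveI : IsImmersion i₀ := by
    haveI : IsImmersion (i₀ ≫ pullback.fst g g') := by rw [hfst]; infer_instance
    exact IsImmersion.of_comp i₀ (pullback.fst g g')
  have hk'' : RegImm.IsRegularImmersion .koszul i₀.liftCoborder := by
    refine Groth.Agent.S8656.result f hf (i₀.coborderRange.ι ≫ pullback.fst g g' ≫ g)
      i₀.liftCoborder ?_
    rw [← Category.assoc, i₀.liftCoborder_ι, ← Category.assoc, hfst, hi]
  have h5 := Groth.Agent.Helper19.CotClass.isFinLocFree_conormal_of_koszul i₀.liftCoborder hk''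
  obtain ⟨a, b, w, hS⟩ := Groth.Agent.Helper19.CotClass.side g g' (pullback.fst g g')
    (pullback.snd g g') (IsPullback.of_hasPullback g g').flip i₀ i i' hfst hsnd Ω' d' hd'
  obtain ⟨a', b', w', hS'⟩ := Groth.Agent.Helper19.CotClass.side g' g (pullback.snd g g')
    (pullback.fst g g') (IsPullback.of_hasPullback g g') i₀ i' i hsnd hfst Ω d hd
  have e1 := Groth.Agent.Lib.Helper2.K0Dev.clSub_add (KRR.vbP X) _ hS h2 h5 h3
  have e2 := Groth.Agent.Lib.Helper2.K0Dev.clSub_add (KRR.vbP X) _ hS' h4 h5 h1
  refine ⟨h1, h2, h3, h4, ?_⟩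
  change KZero.clSub (KRR.vbP X) _ - KZero.clSub (KRR.vbP X) _ =
    KZero.clSub (KRR.vbP X) _ - KZero.clSub (KRR.vbP X) _
  simp only at e1 e2
  rw [sub_eq_sub_iff_add_eq_add]
  rw [add_comm, ← e2, add_comm, ← e1]

end Groth.Agent.S8668
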