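import Groth.Statements.S8678
import Groth.Agent.Lib27.Lam
-- import your own Groth.Agent.* helpers here

set_option autoImplicit false
universe u
open Finset
open LambdaRing

namespace Groth.Agent.S8678

/-- As the identity it proves in the pre-λ-ring K(Y') of the exceptional divisor: let K be a pre-λ-ring
(λ^0 = 1, λ^1 = id, additive formula) with λ^k(1) = 0 for all k ≥ 2, let d ≥ 2, and let F, L, N' ∈ K
satisfy λ^j(L) = 0 for j ≥ 2 (L is the class of an invertible module), λ^i(N') = 0 for i ≥ d − 1 (N'
is the class of a bundle of rank d − 2) and F + L = N' + 2 (for the blowing up of a regular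
immersion of codimension d: on the exceptional divisor the pulled-back conormal class is F + L, and
N = N' + 2). Then 1 − L divides λ_{−1}(F) = Σ_{i<d} (−1)^i λ^i(F). (The published proof uses only
additivity of λ_t and λ_t(1) = 1 + t, the hypotheses taken here.) -/
theorem result (K : Type u) [CommRing K] [LambdaRing.LambdaOps K]
    (h1 : ∀ k : ℕ, 2 ≤ k → LambdaRing.LambdaOps.lam k (1 : K) = 0) (d : ℕ) (hd : 2 ≤ d) (F L N' : K)
    (hL : ∀ j : ℕ, 2 ≤ j → LambdaRing.LambdaOps.lam j L = 0) (hN' : ∀ i : ℕ, d - 1 ≤ i → LambdaRing.LambdaOps.lam i N' = 0)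
    (hrel : F + L = N' + 2) :
    (1 - L) ∣ ∑ i ∈ range d, (-1 : K) ^ i * LambdaRing.LambdaOps.lam i F := by
  open LambdaRing.LambdaOps Groth.Agent.Lib27.Lam in
  let π := Ideal.Quotient.mk (Ideal.span {1 - L})
  have hπL : π L = 1 := by
    have : π (1 - L) = 0 := Ideal.Quotient.eq_zero_iff_mem.2 (Ideal.subset_span rfl)
    rw [map_sub, map_one, sub_eq_zero] at this
    exact this.symm
  have hA : ∀ m : ℕ, π (lam (m + 1) F) = π (lam (m + 1) N') + π (lam m N') := by
    intro m
    induction m with
    | zero =>
      rw [lam_one, lam_one, lam_zero]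
      have hF : F = N' + 2 - L := by rw [← hrel]; ring
      rw [hF, map_sub, map_add, hπL, map_one, map_ofNat]
      ring
    | succ m ih =>
      have e1 : lam (m + 2) (F + L) = lam (m + 2) F + lam (m + 1) F * L :=
        lam_add_line L hL (m + 1) F
      have e2 : lam (m + 2) (N' + 2) =
          lam (m + 2) N' + lam (m + 1) N' + (lam (m + 1) N' + lam m N') := by
        have h2 : N' + 2 = (N' + 1) + 1 := by ring
        rw [h2, lam_add_one h1 (m + 1) (N' + 1), lam_add_one h1 (m + 1) N',
          lam_add_one h1 m N']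
      rw [hrel, e2] at e1
      have e3 := congrArg π e1
      simp only [map_add, map_mul, hπL, mul_one] at e3
      rw [ih] at e3
      have : π (lam (m + 1 + 1) F) = π (lam (m + 2) N') + π (lam (m + 1) N') +
          (π (lam (m + 1) N') + π (lam m N')) - (π (lam (m + 1) N') + π (lam m N')) := by
        rw [e3]; ring
      rw [this]; ring
  have hB : ∀ m : ℕ, π (∑ i ∈ range (m + 1), (-1 : K) ^ i * lam i F) =
      (-1) ^ m * π (lam m N') := by
    intro m
    induction m with
    | zero => simp [lam_zero]
    | succ m ih =>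
      rw [Finset.sum_range_succ, map_add, ih, map_mul, map_pow, map_neg, map_one, hA m]
      ring
  obtain ⟨m, rfl⟩ : ∃ m, d = m + 1 := ⟨d - 1, by lia⟩
  have h0 := hB m
  rw [hN' m (by lia), map_zero, mul_zero] at h0
  exact Ideal.mem_span_singleton.1 (Ideal.Quotient.eq_zero_iff_mem.1 h0)

end Groth.Agent.S8678
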