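import Groth.Statements.S8681
import Mathlib
import Groth.Agent.Helper19.VDimRing
import Groth.Agent.Helper19.VDimChart
import Groth.Agent.Helper19.VDimFree
import Groth.Agent.Helper19.OmegaD9
import Groth.Agent.Helper19.GrDict1
import Groth.Agent.Helper19.LciCharts
-- import your own Groth.Agent.* helpers here

set_option autoImplicit false
universe u
open CategoryTheory CategoryTheory.Limits AlgebraicGeometry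
open Synt

namespace Groth.Agent.S8681

theorem appLE_congr_hom {X Y : Scheme.{u}} {f₁ f₂ : X ⟶ Y} (h : f₁ = f₂) {U : Y.Opens} {W : X.Opens}
    (e₁ : W ≤ f₁ ⁻¹ᵁ U) (e₂ : W ≤ f₂ ⁻¹ᵁ U) : f₁.appLE U W e₁ = f₂.appLE U W e₂ := by
  subst h
  rfl

open scoped TensorProduct in
open Groth.Agent.Helper19.OmegaLocal Groth.Agent.Helper19.OmegaD in
theorem core {X Y V V' : Scheme.{u}}
    (g : V ⟶ Y) [Smooth g] (i : X ⟶ V) [IsClosedImmersion i]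
    (g' : V' ⟶ Y) [Smooth g'] (i' : X ⟶ V') [IsClosedImmersion i'] (hi' : i' ≫ g' = i ≫ g)
    (Ω : V.Modules) (d : OmegaSh.Der g Ω) (hd : OmegaSh.IsUniversal d)
    (Ω' : V'.Modules) (d' : OmegaSh.Der g' Ω') (hd' : OmegaSh.IsUniversal d')
    (x : X) (a b a' b' : ℕ)
    {Y₀ : Y.Opens} (hY₀ : IsAffineOpen Y₀) {V₁ : V.Opens} (hV₁ : IsAffineOpen V₁)
    {V₁' : V'.Opens} (hV₁' : IsAffineOpen V₁') (hV₁Y : V₁ ≤ g ⁻¹ᵁ Y₀) (hV₁'Y : V₁' ≤ g' ⁻¹ᵁ Y₀)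
    (hx : x ∈ i ⁻¹ᵁ V₁) (hWeq : i' ⁻¹ᵁ V₁' = i ⁻¹ᵁ V₁)
    (fa : Γ((Scheme.Modules.pullback i).obj Ω, i ⁻¹ᵁ V₁) ≃ₗ[Γ(X, i ⁻¹ᵁ V₁)]
      (Fin a →₀ Γ(X, i ⁻¹ᵁ V₁)))
    (fb : Γ(Omega.conormal i, i ⁻¹ᵁ V₁) ≃ₗ[Γ(X, i ⁻¹ᵁ V₁)] (Fin b →₀ Γ(X, i ⁻¹ᵁ V₁)))
    (fa' : Γ((Scheme.Modules.pullback i').obj Ω', i ⁻¹ᵁ V₁) ≃ₗ[Γ(X, i ⁻¹ᵁ V₁)]
      (Fin a' →₀ Γ(X, i ⁻¹ᵁ V₁)))
    (fb' : Γ(Omega.conormal i', i ⁻¹ᵁ V₁) ≃ₗ[Γ(X, i ⁻¹ᵁ V₁)] (Fin b' →₀ Γ(X, i ⁻¹ᵁ V₁))) :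
    b + a' = b' + a := by
  have hW : IsAffineOpen (i ⁻¹ᵁ V₁) := hV₁.preimage i
  have hWle' : i ⁻¹ᵁ V₁ ≤ i' ⁻¹ᵁ V₁' := hWeq.ge
  have hWY : i ⁻¹ᵁ V₁ ≤ (i ≫ g) ⁻¹ᵁ Y₀ := fun y hy => hV₁Y hy
  letI iAB : Algebra Γ(Y, Y₀) Γ(V, V₁) := algΓ g hV₁Y
  letI iAB' : Algebra Γ(Y, Y₀) Γ(V', V₁') := algΓ g' hV₁'Y
  letI iBC : Algebra Γ(V, V₁) Γ(X, i ⁻¹ᵁ V₁) := algΓ i (le_refl _)
  letI iB'C : Algebra Γ(V', V₁') Γ(X, i ⁻¹ᵁ V₁) := algΓ i' hWle'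
  letI iAC : Algebra Γ(Y, Y₀) Γ(X, i ⁻¹ᵁ V₁) := algΓ (i ≫ g) hWY
  haveI tB : IsScalarTower Γ(Y, Y₀) Γ(V, V₁) Γ(X, i ⁻¹ᵁ V₁) :=
    IsScalarTower.of_algebraMap_eq' (by
      change ((i ≫ g).appLE Y₀ (i ⁻¹ᵁ V₁) hWY).hom =
        (i.appLE V₁ (i ⁻¹ᵁ V₁) (le_refl _)).hom.comp (g.appLE Y₀ V₁ hV₁Y).hom
      rw [← CommRingCat.hom_comp, Scheme.Hom.appLE_comp_appLE])
  haveI tB' : IsScalarTower Γ(Y, Y₀) Γ(V', V₁') Γ(X, i ⁻¹ᵁ V₁) :=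
    IsScalarTower.of_algebraMap_eq' (by
      change ((i ≫ g).appLE Y₀ (i ⁻¹ᵁ V₁) hWY).hom =
        (i'.appLE V₁' (i ⁻¹ᵁ V₁) hWle').hom.comp (g'.appLE Y₀ V₁' hV₁'Y).hom
      rw [← CommRingCat.hom_comp, Scheme.Hom.appLE_comp_appLE]
      congr 1
      exact appLE_congr_hom hi'.symm _ _)
  -- smoothness
  have hsm : (g.appLE Y₀ V₁ hV₁Y).hom.Smooth :=
    HasRingHomProperty.appLE (P := @Smooth) g inferInstance ⟨Y₀, hY₀⟩ ⟨V₁, hV₁⟩ hV₁Y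
  have hsm' : (g'.appLE Y₀ V₁' hV₁'Y).hom.Smooth :=
    HasRingHomProperty.appLE (P := @Smooth) g' inferInstance ⟨Y₀, hY₀⟩ ⟨V₁', hV₁'⟩ hV₁'Y
  haveI : Algebra.Smooth Γ(Y, Y₀) Γ(V, V₁) := hsm
  haveI : Algebra.Smooth Γ(Y, Y₀) Γ(V', V₁') := hsm'
  haveI : Algebra.FormallySmooth Γ(Y, Y₀) Γ(V, V₁) := Algebra.Smooth.formallySmooth
  haveI : Algebra.FormallySmooth Γ(Y, Y₀) Γ(V', V₁') := Algebra.Smooth.formallySmooth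
  -- surjectivity and kernels
  have hBsurj : Function.Surjective (algebraMap Γ(V, V₁) Γ(X, i ⁻¹ᵁ V₁)) := by
    change Function.Surjective (i.appLE V₁ (i ⁻¹ᵁ V₁) (le_refl _)).hom
    rw [Scheme.Hom.appLE_eq_app]
    exact i.app_surjective V₁ hV₁
  have hBker : i.ker.ideal ⟨V₁, hV₁⟩ = RingHom.ker (algebraMap Γ(V, V₁) Γ(X, i ⁻¹ᵁ V₁)) := by
    change _ = RingHom.ker (i.appLE V₁ (i ⁻¹ᵁ V₁) (le_refl _)).hom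
    rw [Scheme.Hom.appLE_eq_app, Scheme.Hom.ker_apply]
  obtain ⟨hk', hs'⟩ := Groth.Agent.Helper19.LciCharts.appLE_of_eq i' V₁' (i ⁻¹ᵁ V₁) hWeq.symm
  have hB'surj : Function.Surjective (algebraMap Γ(V', V₁') Γ(X, i ⁻¹ᵁ V₁)) :=
    hs' (i'.app_surjective V₁' hV₁')
  have hB'ker : i'.ker.ideal ⟨V₁', hV₁'⟩ =
      RingHom.ker (algebraMap Γ(V', V₁') Γ(X, i ⁻¹ᵁ V₁)) := by
    change _ = RingHom.ker (i'.appLE V₁' (i ⁻¹ᵁ V₁) hWle').hom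
    rw [hk', Scheme.Hom.ker_apply]
  haveI : Nontrivial Γ(X, i ⁻¹ᵁ V₁) := Groth.Agent.Lib.Helper29.QCoh.nontrivial_sections_of_mem hx
  obtain ⟨Pa, -⟩ := exists_pullback_sections_equiv g i d hd hV₁ hY₀ hV₁Y hW (le_refl _)
  obtain ⟨Pa', -⟩ := exists_pullback_sections_equiv g' i' d' hd' hV₁' hY₀ hV₁'Y hW hWle'
  let Pb := Groth.Agent.Helper19.GrDict.sectionsEquiv i i.ker hV₁ (le_refl _) hW
  let Pb' := Groth.Agent.Helper19.GrDict.sectionsEquiv i' i'.ker hV₁' hWle' hW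
  let ea : (Γ(X, i ⁻¹ᵁ V₁) ⊗[Γ(V, V₁)] Ω[Γ(V, V₁)⁄Γ(Y, Y₀)]) ≃ₗ[Γ(X, i ⁻¹ᵁ V₁)]
      (Fin a →₀ Γ(X, i ⁻¹ᵁ V₁)) := Pa.symm ≪≫ₗ fa
  let ea' : (Γ(X, i ⁻¹ᵁ V₁) ⊗[Γ(V', V₁')] Ω[Γ(V', V₁')⁄Γ(Y, Y₀)]) ≃ₗ[Γ(X, i ⁻¹ᵁ V₁)]
      (Fin a' →₀ Γ(X, i ⁻¹ᵁ V₁)) := Pa'.symm ≪≫ₗ fa'
  let eb : (Γ(X, i ⁻¹ᵁ V₁) ⊗[Γ(V, V₁)] RingHom.ker (algebraMap Γ(V, V₁) Γ(X, i ⁻¹ᵁ V₁)))
      ≃ₗ[Γ(X, i ⁻¹ᵁ V₁)] (Fin b →₀ Γ(X, i ⁻¹ᵁ V₁)) :=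
    (TensorProduct.AlgebraTensorModule.congr (LinearEquiv.refl Γ(X, i ⁻¹ᵁ V₁) Γ(X, i ⁻¹ᵁ V₁))
      (LinearEquiv.ofEq _ _ hBker)).symm ≪≫ₗ Pb.symm ≪≫ₗ fb
  let eb' : (Γ(X, i ⁻¹ᵁ V₁) ⊗[Γ(V', V₁')] RingHom.ker (algebraMap Γ(V', V₁') Γ(X, i ⁻¹ᵁ V₁)))
      ≃ₗ[Γ(X, i ⁻¹ᵁ V₁)] (Fin b' →₀ Γ(X, i ⁻¹ᵁ V₁)) :=
    (TensorProduct.AlgebraTensorModule.congr (LinearEquiv.refl Γ(X, i ⁻¹ᵁ V₁) Γ(X, i ⁻¹ᵁ V₁))
      (LinearEquiv.ofEq _ _ hB'ker)).symm ≪≫ₗ Pb'.symm ≪≫ₗ fb'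
  exact Groth.Agent.Helper19.VDimRing.rank_eq hBsurj hB'surj ea eb ea' eb'

/-- Let f : X ⟶ Y be a local complete intersection morphism in the factorisation sense (around each
point, locally of finite type and factoring as a Koszul-regular immersion followed by a smooth
morphism), with two factorisations f = i ≫ g = i' ≫ g' where g : V ⟶ Y, g' : V' ⟶ Y are smooth and
i, i' are closed immersions, and let d : O_V → Ω, d' : O_{V'} → Ω' be universal Y-derivations. Let x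
∈ X and suppose that on open neighbourhoods of x the modules i^*Ω, N_i (conormal sheaf of i), i'^*Ω'
and N_{i'} are free of ranks a, b, a', b'. Then a − b = a' − b': the integer rank(Ω_{V/Y} at i(x)) −
rank(N_i at x), the virtual relative dimension of f at x, is independent of the factorisation. (The
published statement allows factorisations defined only near x and arbitrary immersions; this row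
takes global factorisations through closed immersions.) -/
theorem result {X Y V V' : Scheme.{u}} (f : X ⟶ Y) (hf : ∀ x : X, Synt.IsKoszulAt f x)
    (g : V ⟶ Y) [Smooth g] (i : X ⟶ V) [IsClosedImmersion i] (hi : i ≫ g = f)
    (g' : V' ⟶ Y) [Smooth g'] (i' : X ⟶ V') [IsClosedImmersion i'] (hi' : i' ≫ g' = f)
    (Ω : V.Modules) (d : OmegaSh.Der g Ω) (hd : OmegaSh.IsUniversal d)
    (Ω' : V'.Modules) (d' : OmegaSh.Der g' Ω') (hd' : OmegaSh.IsUniversal d')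
    (x : X) (a b a' b' : ℕ) (U₁ U₂ U₃ U₄ : X.Opens) (h₁ : x ∈ U₁) (h₂ : x ∈ U₂) (h₃ : x ∈ U₃) (h₄ : x ∈ U₄)
    (ha : FlatMod.IsFinLocFreeOfRank a ((Scheme.Modules.restrictFunctor U₁.ι).obj ((Scheme.Modules.pullback i).obj Ω)))
    (hb : FlatMod.IsFinLocFreeOfRank b ((Scheme.Modules.restrictFunctor U₂.ι).obj (Omega.conormal i)))
    (ha' : FlatMod.IsFinLocFreeOfRank a' ((Scheme.Modules.restrictFunctor U₃.ι).obj ((Scheme.Modules.pullback i').obj Ω')))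
    (hb' : FlatMod.IsFinLocFreeOfRank b' ((Scheme.Modules.restrictFunctor U₄.ι).obj (Omega.conormal i'))) :
    (a : ℤ) - b = (a' : ℤ) - b' := by
  subst hi
  obtain ⟨N₁, hxN₁, hN₁⟩ := Groth.Agent.Helper19.VDimFree.exists_open_free_sections _ U₁ a ha x h₁
  obtain ⟨N₂, hxN₂, hN₂⟩ := Groth.Agent.Helper19.VDimFree.exists_open_free_sections _ U₂ b hb x h₂
  obtain ⟨N₃, hxN₃, hN₃⟩ := Groth.Agent.Helper19.VDimFree.exists_open_free_sections _ U₃ a' ha' x h₃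
  obtain ⟨N₄, hxN₄, hN₄⟩ := Groth.Agent.Helper19.VDimFree.exists_open_free_sections _ U₄ b' hb' x h₄
  obtain ⟨Y₀, hY₀, hyY₀, -⟩ := exists_isAffineOpen_mem_and_subset (x := (i ≫ g) x)
    (U := (⊤ : Y.Opens)) trivial
  have hM : i x ∈ g ⁻¹ᵁ Y₀ := by
    have : (i ≫ g) x ∈ Y₀ := hyY₀
    rwa [Scheme.Hom.comp_apply] at this
  have hM' : i' x ∈ g' ⁻¹ᵁ Y₀ := by
    have : (i' ≫ g') x ∈ Y₀ := by rw [hi']; exact hyY₀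
    rwa [Scheme.Hom.comp_apply] at this
  obtain ⟨V₁, V₁', hV₁, hV₁', hV₁Y, hV₁'Y, hxV₁, hWN, hWeq⟩ :=
    Groth.Agent.Helper19.VDimChart.exists_common_chart i i' x (N₁ ⊓ N₂ ⊓ N₃ ⊓ N₄)
      ⟨⟨⟨hxN₁, hxN₂⟩, hxN₃⟩, hxN₄⟩ (g ⁻¹ᵁ Y₀) hM (g' ⁻¹ᵁ Y₀) hM'
  have hW : IsAffineOpen (i ⁻¹ᵁ V₁) := hV₁.preimage i
  obtain ⟨fa⟩ := hN₁ _ hW (hWN.trans (inf_le_left.trans (inf_le_left.trans inf_le_left)))
  obtain ⟨fb⟩ := hN₂ _ hW (hWN.trans (inf_le_left.trans (inf_le_left.trans inf_le_right)))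
  obtain ⟨fa'⟩ := hN₃ _ hW (hWN.trans (inf_le_left.trans inf_le_right))
  obtain ⟨fb'⟩ := hN₄ _ hW (hWN.trans inf_le_right)
  have key := core g i g' i' hi' Ω d hd Ω' d' hd' x a b a' b' hY₀ hV₁ hV₁' hV₁Y hV₁'Y hxV₁ hWeq
    fa fb fa' fb'
  omega

end Groth.Agent.S8681
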