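import Groth.Statements.S8683
import Mathlib
import Groth.Agent.Helper19.VDimAdd
import Groth.Agent.Helper19.VDimChart
import Groth.Agent.Helper19.VDimFree
import Groth.Agent.Helper19.OmegaD9
import Groth.Agent.Helper19.GrDict1
import Groth.Agent.Helper19.LciCharts
import Groth.Agent.Helper19.LciMor
-- import your own Groth.Agent.* helpers here

set_option autoImplicit false
universe u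
open CategoryTheory CategoryTheory.Limits AlgebraicGeometry
open Synt

namespace Groth.Agent.S8683

open scoped TensorProduct

theorem appLE_congr_hom {X Y : Scheme.{u}} {f₁ f₂ : X ⟶ Y} (h : f₁ = f₂) {U : Y.Opens} {W : X.Opens}
    (e₁ : W ≤ f₁ ⁻¹ᵁ U) (e₂ : W ≤ f₂ ⁻¹ᵁ U) : f₁.appLE U W e₁ = f₂.appLE U W e₂ := by
  subst h
  rfl

/-- the sections of the conormal sheaf on a chart, in ring terms -/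
noncomputable def conormalEquiv {X V : Scheme.{u}} (i : X ⟶ V) [IsClosedImmersion i]
    {V₁ : V.Opens} (hV₁ : IsAffineOpen V₁) {X₁ : X.Opens} (hX₁ : IsAffineOpen X₁)
    (hX₁eq : X₁ = i ⁻¹ᵁ V₁) :
    letI := (i.appLE V₁ X₁ (le_of_eq hX₁eq)).hom.toAlgebra
    Γ(Omega.conormal i, X₁) ≃ₗ[Γ(X, X₁)]
      Γ(X, X₁) ⊗[Γ(V, V₁)] RingHom.ker (algebraMap Γ(V, V₁) Γ(X, X₁)) :=
  letI := (i.appLE V₁ X₁ (le_of_eq hX₁eq)).hom.toAlgebra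
  have hker : i.ker.ideal ⟨V₁, hV₁⟩ = RingHom.ker (algebraMap Γ(V, V₁) Γ(X, X₁)) := by
    change _ = RingHom.ker (i.appLE V₁ X₁ (le_of_eq hX₁eq)).hom
    rw [(Groth.Agent.Helper19.LciCharts.appLE_of_eq i V₁ X₁ hX₁eq).1, Scheme.Hom.ker_apply]
  (Groth.Agent.Helper19.GrDict.sectionsEquiv i i.ker hV₁ (le_of_eq hX₁eq) hX₁) ≪≫ₗ
    TensorProduct.AlgebraTensorModule.congr (LinearEquiv.refl Γ(X, X₁) Γ(X, X₁))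
      (LinearEquiv.ofEq _ _ hker)

theorem appLE_surjective {X V : Scheme.{u}} (i : X ⟶ V) [IsClosedImmersion i]
    {V₁ : V.Opens} (hV₁ : IsAffineOpen V₁) {X₁ : X.Opens} (hX₁eq : X₁ = i ⁻¹ᵁ V₁) :
    Function.Surjective (i.appLE V₁ X₁ (le_of_eq hX₁eq)).hom :=
  (Groth.Agent.Helper19.LciCharts.appLE_of_eq i V₁ X₁ hX₁eq).2 (i.app_surjective V₁ hV₁)

open Groth.Agent.Helper19.OmegaLocal Groth.Agent.Helper19.OmegaD Groth.Agent.Lib.Helper16.KzComp in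
set_option maxHeartbeats 1600000 in
theorem core {X Y Z V W T : Scheme.{u}}
    (gf : V ⟶ Y) [Smooth gf] (jf : X ⟶ V) [IsClosedImmersion jf]
    (gg : W ⟶ Z) [Smooth gg] (jg : Y ⟶ W) [IsClosedImmersion jg]
    (gh : T ⟶ Z) [Smooth gh] (jh : X ⟶ T) [IsClosedImmersion jh]
    (hjh : jh ≫ gh = (jf ≫ gf) ≫ (jg ≫ gg))
    (hlci : LCIMor (jf ≫ gf))
    (Ωf : V.Modules) (df : OmegaSh.Der gf Ωf) (hdf : OmegaSh.IsUniversal df)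
    (Ωg : W.Modules) (dg : OmegaSh.Der gg Ωg) (hdg : OmegaSh.IsUniversal dg)
    (Ωh : T.Modules) (dh : OmegaSh.Der gh Ωh) (hdh : OmegaSh.IsUniversal dh)
    (x : X) (af bf ag bg ah bh : ℕ)
    {Z₀ : Z.Opens} (hZ₀ : IsAffineOpen Z₀) {W₁ : W.Opens} (hW₁ : IsAffineOpen W₁)
    (hW₁Z : W₁ ≤ gg ⁻¹ᵁ Z₀)
    {V₁ : V.Opens} (hV₁ : IsAffineOpen V₁) (hV₁Y : V₁ ≤ gf ⁻¹ᵁ (jg ⁻¹ᵁ W₁))
    {T₁ : T.Opens} (hT₁ : IsAffineOpen T₁) (hT₁Z : T₁ ≤ gh ⁻¹ᵁ Z₀)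
    (hx : x ∈ jf ⁻¹ᵁ V₁) (hWeq : jh ⁻¹ᵁ T₁ = jf ⁻¹ᵁ V₁)
    (faf : Γ((Scheme.Modules.pullback jf).obj Ωf, jf ⁻¹ᵁ V₁) ≃ₗ[Γ(X, jf ⁻¹ᵁ V₁)]
      (Fin af →₀ Γ(X, jf ⁻¹ᵁ V₁)))
    (fbf : Γ(Omega.conormal jf, jf ⁻¹ᵁ V₁) ≃ₗ[Γ(X, jf ⁻¹ᵁ V₁)] (Fin bf →₀ Γ(X, jf ⁻¹ᵁ V₁)))
    (fah : Γ((Scheme.Modules.pullback jh).obj Ωh, jf ⁻¹ᵁ V₁) ≃ₗ[Γ(X, jf ⁻¹ᵁ V₁)]
      (Fin ah →₀ Γ(X, jf ⁻¹ᵁ V₁)))
    (fbh : Γ(Omega.conormal jh, jf ⁻¹ᵁ V₁) ≃ₗ[Γ(X, jf ⁻¹ᵁ V₁)] (Fin bh →₀ Γ(X, jf ⁻¹ᵁ V₁)))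
    (fag : Γ((Scheme.Modules.pullback jg).obj Ωg, jg ⁻¹ᵁ W₁) ≃ₗ[Γ(Y, jg ⁻¹ᵁ W₁)]
      (Fin ag →₀ Γ(Y, jg ⁻¹ᵁ W₁)))
    (fbg : Γ(Omega.conormal jg, jg ⁻¹ᵁ W₁) ≃ₗ[Γ(Y, jg ⁻¹ᵁ W₁)] (Fin bg →₀ Γ(Y, jg ⁻¹ᵁ W₁))) :
    bh + ag + af = bg + bf + ah := by
  have hX₁ : IsAffineOpen (jf ⁻¹ᵁ V₁) := hV₁.preimage jf
  have hY₁ : IsAffineOpen (jg ⁻¹ᵁ W₁) := hW₁.preimage jg
  have hX₁T : jf ⁻¹ᵁ V₁ ≤ jh ⁻¹ᵁ T₁ := hWeq.ge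
  have hY₁Z : jg ⁻¹ᵁ W₁ ≤ (jg ≫ gg) ⁻¹ᵁ Z₀ := fun y hy => hW₁Z hy
  have hX₁Y : jf ⁻¹ᵁ V₁ ≤ (jf ≫ gf) ⁻¹ᵁ (jg ⁻¹ᵁ W₁) := fun y hy => hV₁Y hy
  have hX₁W : jf ⁻¹ᵁ V₁ ≤ ((jf ≫ gf) ≫ jg) ⁻¹ᵁ W₁ := fun y hy => hV₁Y hy
  have hX₁Z : jf ⁻¹ᵁ V₁ ≤ ((jf ≫ gf) ≫ (jg ≫ gg)) ⁻¹ᵁ Z₀ := fun y hy => hW₁Z (hV₁Y hy)
  letI iAP : Algebra Γ(Z, Z₀) Γ(W, W₁) := algΓ gg hW₁Z
  letI iPB : Algebra Γ(W, W₁) Γ(Y, jg ⁻¹ᵁ W₁) := algΓ jg (le_refl _)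
  letI iAB : Algebra Γ(Z, Z₀) Γ(Y, jg ⁻¹ᵁ W₁) := algΓ (jg ≫ gg) hY₁Z
  letI iBR : Algebra Γ(Y, jg ⁻¹ᵁ W₁) Γ(V, V₁) := algΓ gf hV₁Y
  letI iRC : Algebra Γ(V, V₁) Γ(X, jf ⁻¹ᵁ V₁) := algΓ jf (le_refl _)
  letI iBC : Algebra Γ(Y, jg ⁻¹ᵁ W₁) Γ(X, jf ⁻¹ᵁ V₁) := algΓ (jf ≫ gf) hX₁Y
  letI iAS : Algebra Γ(Z, Z₀) Γ(T, T₁) := algΓ gh hT₁Z
  letI iSC : Algebra Γ(T, T₁) Γ(X, jf ⁻¹ᵁ V₁) := algΓ jh hX₁T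
  letI iAC : Algebra Γ(Z, Z₀) Γ(X, jf ⁻¹ᵁ V₁) := algΓ ((jf ≫ gf) ≫ (jg ≫ gg)) hX₁Z
  letI iPC : Algebra Γ(W, W₁) Γ(X, jf ⁻¹ᵁ V₁) := algΓ ((jf ≫ gf) ≫ jg) hX₁W
  haveI tAPB : IsScalarTower Γ(Z, Z₀) Γ(W, W₁) Γ(Y, jg ⁻¹ᵁ W₁) :=
    IsScalarTower.of_algebraMap_eq' (by
      change ((jg ≫ gg).appLE Z₀ (jg ⁻¹ᵁ W₁) hY₁Z).hom =
        (jg.appLE W₁ (jg ⁻¹ᵁ W₁) (le_refl _)).hom.comp (gg.appLE Z₀ W₁ hW₁Z).hom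
      rw [← CommRingCat.hom_comp, Scheme.Hom.appLE_comp_appLE])
  haveI tBRC : IsScalarTower Γ(Y, jg ⁻¹ᵁ W₁) Γ(V, V₁) Γ(X, jf ⁻¹ᵁ V₁) :=
    IsScalarTower.of_algebraMap_eq' (by
      change ((jf ≫ gf).appLE (jg ⁻¹ᵁ W₁) (jf ⁻¹ᵁ V₁) hX₁Y).hom =
        (jf.appLE V₁ (jf ⁻¹ᵁ V₁) (le_refl _)).hom.comp (gf.appLE (jg ⁻¹ᵁ W₁) V₁ hV₁Y).hom
      rw [← CommRingCat.hom_comp, Scheme.Hom.appLE_comp_appLE])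
  haveI tASC : IsScalarTower Γ(Z, Z₀) Γ(T, T₁) Γ(X, jf ⁻¹ᵁ V₁) :=
    IsScalarTower.of_algebraMap_eq' (by
      change (((jf ≫ gf) ≫ (jg ≫ gg)).appLE Z₀ (jf ⁻¹ᵁ V₁) hX₁Z).hom =
        (jh.appLE T₁ (jf ⁻¹ᵁ V₁) hX₁T).hom.comp (gh.appLE Z₀ T₁ hT₁Z).hom
      rw [← CommRingCat.hom_comp, Scheme.Hom.appLE_comp_appLE]
      congr 1
      exact appLE_congr_hom hjh.symm _ _)
  haveI tABC : IsScalarTower Γ(Z, Z₀) Γ(Y, jg ⁻¹ᵁ W₁) Γ(X, jf ⁻¹ᵁ V₁) :=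
    IsScalarTower.of_algebraMap_eq' (by
      change (((jf ≫ gf) ≫ (jg ≫ gg)).appLE Z₀ (jf ⁻¹ᵁ V₁) hX₁Z).hom =
        ((jf ≫ gf).appLE (jg ⁻¹ᵁ W₁) (jf ⁻¹ᵁ V₁) hX₁Y).hom.comp
          ((jg ≫ gg).appLE Z₀ (jg ⁻¹ᵁ W₁) hY₁Z).hom
      rw [← CommRingCat.hom_comp, Scheme.Hom.appLE_comp_appLE])
  haveI tPBC : IsScalarTower Γ(W, W₁) Γ(Y, jg ⁻¹ᵁ W₁) Γ(X, jf ⁻¹ᵁ V₁) :=
    IsScalarTower.of_algebraMap_eq' (by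
      change (((jf ≫ gf) ≫ jg).appLE W₁ (jf ⁻¹ᵁ V₁) hX₁W).hom =
        ((jf ≫ gf).appLE (jg ⁻¹ᵁ W₁) (jf ⁻¹ᵁ V₁) hX₁Y).hom.comp
          (jg.appLE W₁ (jg ⁻¹ᵁ W₁) (le_refl _)).hom
      rw [← CommRingCat.hom_comp, Scheme.Hom.appLE_comp_appLE])
  haveI tAPC : IsScalarTower Γ(Z, Z₀) Γ(W, W₁) Γ(X, jf ⁻¹ᵁ V₁) :=
    IsScalarTower.of_algebraMap_eq' (by
      change (((jf ≫ gf) ≫ (jg ≫ gg)).appLE Z₀ (jf ⁻¹ᵁ V₁) hX₁Z).hom =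
        (((jf ≫ gf) ≫ jg).appLE W₁ (jf ⁻¹ᵁ V₁) hX₁W).hom.comp (gg.appLE Z₀ W₁ hW₁Z).hom
      rw [← CommRingCat.hom_comp, Scheme.Hom.appLE_comp_appLE]
      congr 1)
  -- smoothness
  have hsmP : (gg.appLE Z₀ W₁ hW₁Z).hom.Smooth :=
    HasRingHomProperty.appLE (P := @Smooth) gg inferInstance ⟨Z₀, hZ₀⟩ ⟨W₁, hW₁⟩ hW₁Z
  have hsmR : (gf.appLE (jg ⁻¹ᵁ W₁) V₁ hV₁Y).hom.Smooth :=
    HasRingHomProperty.appLE (P := @Smooth) gf inferInstance ⟨jg ⁻¹ᵁ W₁, hY₁⟩ ⟨V₁, hV₁⟩ hV₁Y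
  have hsmS : (gh.appLE Z₀ T₁ hT₁Z).hom.Smooth :=
    HasRingHomProperty.appLE (P := @Smooth) gh inferInstance ⟨Z₀, hZ₀⟩ ⟨T₁, hT₁⟩ hT₁Z
  haveI : Algebra.Smooth Γ(Z, Z₀) Γ(W, W₁) := hsmP
  haveI : Algebra.Smooth Γ(Y, jg ⁻¹ᵁ W₁) Γ(V, V₁) := hsmR
  haveI : Algebra.Smooth Γ(Z, Z₀) Γ(T, T₁) := hsmS
  haveI : Algebra.FormallySmooth Γ(Z, Z₀) Γ(W, W₁) := Algebra.Smooth.formallySmooth
  haveI : Algebra.FormallySmooth Γ(Y, jg ⁻¹ᵁ W₁) Γ(V, V₁) := Algebra.Smooth.formallySmooth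
  -- surjectivity
  have hPB : Function.Surjective (algebraMap Γ(W, W₁) Γ(Y, jg ⁻¹ᵁ W₁)) :=
    appLE_surjective jg hW₁ rfl
  have hRC : Function.Surjective (algebraMap Γ(V, V₁) Γ(X, jf ⁻¹ᵁ V₁)) :=
    appLE_surjective jf hV₁ rfl
  have hSC : Function.Surjective (algebraMap Γ(T, T₁) Γ(X, jf ⁻¹ᵁ V₁)) :=
    appLE_surjective jh hT₁ hWeq.symm
  -- lci
  have hl : IsLCIHom (algebraMap Γ(Y, jg ⁻¹ᵁ W₁) Γ(X, jf ⁻¹ᵁ V₁)) :=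
    HasRingHomProperty.appLE (P := LCIMor.{u}) (jf ≫ gf) hlci ⟨jg ⁻¹ᵁ W₁, hY₁⟩ ⟨jf ⁻¹ᵁ V₁, hX₁⟩ hX₁Y
  haveI : Nontrivial Γ(X, jf ⁻¹ᵁ V₁) := Groth.Agent.Lib.Helper29.QCoh.nontrivial_sections_of_mem hx
  -- the dictionary
  obtain ⟨Paf, -⟩ := exists_pullback_sections_equiv gf jf df hdf hV₁ hY₁ hV₁Y hX₁ (le_refl _)
  obtain ⟨Pag, -⟩ := exists_pullback_sections_equiv gg jg dg hdg hW₁ hZ₀ hW₁Z hY₁ (le_refl _)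
  obtain ⟨Pah, -⟩ := exists_pullback_sections_equiv gh jh dh hdh hT₁ hZ₀ hT₁Z hX₁ hX₁T
  let Pbf := conormalEquiv jf hV₁ hX₁ rfl
  let Pbg := conormalEquiv jg hW₁ hY₁ rfl
  let Pbh := conormalEquiv jh hT₁ hX₁ hWeq.symm
  exact Groth.Agent.Helper19.VDimAdd.rank_add' hPB hRC hSC hl
    (Paf.symm ≪≫ₗ faf) (Pbf.symm ≪≫ₗ fbf) (Pag.symm ≪≫ₗ fag) (Pbg.symm ≪≫ₗ fbg)
    (Pah.symm ≪≫ₗ fah) (Pbh.symm ≪≫ₗ fbh)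

/-- Let f : X ⟶ Y and g : Y ⟶ Z be local complete intersection morphisms in the factorisation sense,
with factorisations f = i_f ≫ g_f, g = i_g ≫ g_g and f ≫ g = i_h ≫ g_h through smooth morphisms g_f
: V ⟶ Y, g_g : W ⟶ Z, g_h : T ⟶ Z by closed immersions, universal derivations d_f, d_g, d_h (sheaves
of differentials Ω_f, Ω_g, Ω_h of V/Y, W/Z, T/Z), and x ∈ X. Suppose that on open neighbourhoods of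
x the modules i_f^*Ω_f, N_{i_f}, i_h^*Ω_h, N_{i_h} are free of ranks a_f, b_f, a_h, b_h and that on
open neighbourhoods of f(x) the modules i_g^*Ω_g, N_{i_g} are free of ranks a_g, b_g. Then a_h − b_h
= (a_f − b_f) + (a_g − b_g): virtual relative dimensions add under composition. (The published
statement allows local factorisations through arbitrary immersions; this row takes global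
closed-immersion factorisations.) -/
theorem result {X Y Z V W T : Scheme.{u}} (f : X ⟶ Y) (g : Y ⟶ Z)
    (hf : ∀ x : X, Synt.IsKoszulAt f x) (hg : ∀ y : Y, Synt.IsKoszulAt g y)
    (gf : V ⟶ Y) [Smooth gf] (jf : X ⟶ V) [IsClosedImmersion jf] (hjf : jf ≫ gf = f)
    (gg : W ⟶ Z) [Smooth gg] (jg : Y ⟶ W) [IsClosedImmersion jg] (hjg : jg ≫ gg = g)
    (gh : T ⟶ Z) [Smooth gh] (jh : X ⟶ T) [IsClosedImmersion jh] (hjh : jh ≫ gh = f ≫ g)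
    (Ωf : V.Modules) (df : OmegaSh.Der gf Ωf) (hdf : OmegaSh.IsUniversal df)
    (Ωg : W.Modules) (dg : OmegaSh.Der gg Ωg) (hdg : OmegaSh.IsUniversal dg)
    (Ωh : T.Modules) (dh : OmegaSh.Der gh Ωh) (hdh : OmegaSh.IsUniversal dh)
    (x : X) (af bf ag bg ah bh : ℕ) (U₁ U₂ U₃ U₄ : X.Opens) (U₅ U₆ : Y.Opens)
    (h₁ : x ∈ U₁) (h₂ : x ∈ U₂) (h₃ : x ∈ U₃) (h₄ : x ∈ U₄) (h₅ : f x ∈ U₅) (h₆ : f x ∈ U₆)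
    (haf : FlatMod.IsFinLocFreeOfRank af ((Scheme.Modules.restrictFunctor U₁.ι).obj ((Scheme.Modules.pullback jf).obj Ωf)))
    (hbf : FlatMod.IsFinLocFreeOfRank bf ((Scheme.Modules.restrictFunctor U₂.ι).obj (Omega.conormal jf)))
    (hah : FlatMod.IsFinLocFreeOfRank ah ((Scheme.Modules.restrictFunctor U₃.ι).obj ((Scheme.Modules.pullback jh).obj Ωh)))
    (hbh : FlatMod.IsFinLocFreeOfRank bh ((Scheme.Modules.restrictFunctor U₄.ι).obj (Omega.conormal jh)))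
    (hag : FlatMod.IsFinLocFreeOfRank ag ((Scheme.Modules.restrictFunctor U₅.ι).obj ((Scheme.Modules.pullback jg).obj Ωg)))
    (hbg : FlatMod.IsFinLocFreeOfRank bg ((Scheme.Modules.restrictFunctor U₆.ι).obj (Omega.conormal jg))) :
    (ah : ℤ) - bh = ((af : ℤ) - bf) + ((ag : ℤ) - bg) := by
  subst hjf
  subst hjg
  have hlci : Groth.Agent.Lib.Helper16.KzComp.LCIMor (jf ≫ gf) :=
    Groth.Agent.Helper19.LciMor.lciMor_of_forall_isKoszulAt _ hf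
  obtain ⟨N₁, hxN₁, hN₁⟩ := Groth.Agent.Helper19.VDimFree.exists_open_free_sections _ U₁ af haf x h₁
  obtain ⟨N₂, hxN₂, hN₂⟩ := Groth.Agent.Helper19.VDimFree.exists_open_free_sections _ U₂ bf hbf x h₂
  obtain ⟨N₃, hxN₃, hN₃⟩ := Groth.Agent.Helper19.VDimFree.exists_open_free_sections _ U₃ ah hah x h₃
  obtain ⟨N₄, hxN₄, hN₄⟩ := Groth.Agent.Helper19.VDimFree.exists_open_free_sections _ U₄ bh hbh x h₄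
  obtain ⟨N₅, hxN₅, hN₅⟩ :=
    Groth.Agent.Helper19.VDimFree.exists_open_free_sections _ U₅ ag hag ((jf ≫ gf) x) h₅
  obtain ⟨N₆, hxN₆, hN₆⟩ :=
    Groth.Agent.Helper19.VDimFree.exists_open_free_sections _ U₆ bg hbg ((jf ≫ gf) x) h₆
  obtain ⟨Z₀, hZ₀, hzZ₀, -⟩ := exists_isAffineOpen_mem_and_subset
    (x := ((jf ≫ gf) ≫ (jg ≫ gg)) x) (U := (⊤ : Z.Opens)) trivial
  -- chart on `W`
  have hMW : jg ((jf ≫ gf) x) ∈ gg ⁻¹ᵁ Z₀ := by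
    have : ((jf ≫ gf) ≫ (jg ≫ gg)) x ∈ Z₀ := hzZ₀
    rw [Scheme.Hom.comp_apply, Scheme.Hom.comp_apply] at this
    exact this
  obtain ⟨W₁, hW₁, hW₁Z, hyW₁, hY₁N⟩ := Groth.Agent.Helper19.VDimChart.exists_chart jg
    ((jf ≫ gf) x) (N₅ ⊓ N₆) ⟨hxN₅, hxN₆⟩ (gg ⁻¹ᵁ Z₀) hMW
  -- common chart on `V` and `T`
  have hMV : jf x ∈ gf ⁻¹ᵁ (jg ⁻¹ᵁ W₁) := by
    have : jg ((jf ≫ gf) x) ∈ W₁ := hyW₁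
    rw [Scheme.Hom.comp_apply] at this
    exact this
  have hMT : jh x ∈ gh ⁻¹ᵁ Z₀ := by
    have : (jh ≫ gh) x ∈ Z₀ := by rw [hjh]; exact hzZ₀
    rwa [Scheme.Hom.comp_apply] at this
  obtain ⟨V₁, T₁, hV₁, hT₁, hV₁Y, hT₁Z, hxV₁, hX₁N, hWeq⟩ :=
    Groth.Agent.Helper19.VDimChart.exists_common_chart jf jh x (N₁ ⊓ N₂ ⊓ N₃ ⊓ N₄)
      ⟨⟨⟨hxN₁, hxN₂⟩, hxN₃⟩, hxN₄⟩ (gf ⁻¹ᵁ (jg ⁻¹ᵁ W₁)) hMV (gh ⁻¹ᵁ Z₀) hMT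
  have hX₁ : IsAffineOpen (jf ⁻¹ᵁ V₁) := hV₁.preimage jf
  have hY₁ : IsAffineOpen (jg ⁻¹ᵁ W₁) := hW₁.preimage jg
  obtain ⟨faf⟩ := hN₁ _ hX₁ (hX₁N.trans (inf_le_left.trans (inf_le_left.trans inf_le_left)))
  obtain ⟨fbf⟩ := hN₂ _ hX₁ (hX₁N.trans (inf_le_left.trans (inf_le_left.trans inf_le_right)))
  obtain ⟨fah⟩ := hN₃ _ hX₁ (hX₁N.trans (inf_le_left.trans inf_le_right))
  obtain ⟨fbh⟩ := hN₄ _ hX₁ (hX₁N.trans inf_le_right)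
  obtain ⟨fag⟩ := hN₅ _ hY₁ (hY₁N.trans inf_le_left)
  obtain ⟨fbg⟩ := hN₆ _ hY₁ (hY₁N.trans inf_le_right)
  have key := core gf jf gg jg gh jh hjh hlci Ωf df hdf Ωg dg hdg Ωh dh hdh x af bf ag bg ah bh
    hZ₀ hW₁ hW₁Z hV₁ hV₁Y hT₁ hT₁Z hxV₁ hWeq faf fbf fah fbh fag fbg
  omega

end Groth.Agent.S8683
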