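import Groth.Statements.S8686
-- import your own Groth.Agent.* helpers here

set_option autoImplicit false
universe u
open LambdaRing

namespace Groth.Agent.S8686

theorem lamSeries_one (K : Type u) [CommRing K] [LambdaRing.LambdaOps K]
    (h1 : ∀ n : ℕ, 2 ≤ n → LambdaRing.LambdaOps.lam n (1 : K) = 0) :
    LambdaRing.lamSeries (1 : K) = 1 + PowerSeries.X := by
  ext n
  rw [LambdaRing.lamSeries, PowerSeries.coeff_mk, map_add, PowerSeries.coeff_one, PowerSeries.coeff_X]
  match n with
  | 0 => simp [LambdaRing.LambdaOps.lam_zero]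
  | 1 => simp [LambdaRing.LambdaOps.lam_one]
  | n + 2 => rw [h1 _ (by lia)]; simp

theorem inv_one_add_X (K : Type u) [CommRing K] :
    (1 + PowerSeries.X : PowerSeries K).invOfUnit 1 = PowerSeries.mk (fun k => (-1 : K) ^ k) := by
  have h : (1 + PowerSeries.X : PowerSeries K) * PowerSeries.mk (fun k => (-1 : K) ^ k) = 1 := by
    ext n
    rw [add_mul, one_mul, map_add, PowerSeries.coeff_mk, PowerSeries.coeff_one]
    match n with
    | 0 => simp
    | n + 1 =>
      rw [PowerSeries.coeff_succ_X_mul, PowerSeries.coeff_mk]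
      simp [pow_succ]
  have h2 : (1 + PowerSeries.X : PowerSeries K).invOfUnit 1 * (1 + PowerSeries.X) = 1 := by
    rw [mul_comm]
    exact PowerSeries.mul_invOfUnit _ _ (by simp)
  calc (1 + PowerSeries.X : PowerSeries K).invOfUnit 1
      = (1 + PowerSeries.X : PowerSeries K).invOfUnit 1 *
          ((1 + PowerSeries.X) * PowerSeries.mk (fun k => (-1 : K) ^ k)) := by rw [h, mul_one]
    _ = PowerSeries.mk (fun k => (-1 : K) ^ k) := by rw [← mul_assoc, h2, one_mul]

/-- Let K be a pre-λ-ring with λ^n(1) = 0 for all n ≥ 2, i.e. λ_t(1) = 1 + t. Then the Adams operations,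
defined for k ≥ 1 through (d/dt λ_t(x)) · λ_t(x)⁻¹ = Σ_{k ≥ 1} (−1)^{k−1} ψ^k(x) t^{k−1}, satisfy
ψ^k(1) = 1 for every k ≥ 1. (The published statement is for a λ-ring in the strict sense; this
identity uses only λ_t(1) = 1 + t, the hypothesis taken here.) -/
theorem result (K : Type u) [CommRing K] [LambdaRing.LambdaOps K]
    (h1 : ∀ n : ℕ, 2 ≤ n → LambdaRing.LambdaOps.lam n (1 : K) = 0) (k : ℕ) (hk : 1 ≤ k) :
    LambdaRing.adamsOp k (1 : K) = 1 := by
  obtain ⟨k, rfl⟩ : ∃ j, k = j + 1 := ⟨k - 1, by lia⟩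
  rw [LambdaRing.adamsOp, LambdaRing.logDerivSeries, lamSeries_one K h1, inv_one_add_X]
  have : PowerSeries.derivative K (1 + PowerSeries.X : PowerSeries K) = 1 := by
    rw [map_add, PowerSeries.derivative_X]
    simp
  rw [this, one_mul, PowerSeries.coeff_mk, ← mul_pow]
  simp

end Groth.Agent.S8686
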