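import Groth.Statements.S8691
import Groth.Agent.Lib27.LDiv
-- import your own Groth.Agent.* helpers here

set_option autoImplicit false
universe u
open Finset
open LambdaRing

namespace Groth.Agent.S8691

/-- Let K be a λ-ring in the strict sense, d a natural number and N ∈ K with λ^i(N) = 0 for every i > d;
put λ_{−1}(N) = Σ_{i=0}^{d} (−1)^i λ^i(N). Then for every p ≥ 1 and every x ∈ K the element λ^p(x ·
λ_{−1}(N)) is divisible by λ_{−1}(N). (The published statement is for the λ-ring generated over the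
integers by N and x subject to λ^i(N) = 0 for i > d, a polynomial ring; the divisibility passes to
any λ-ring along the λ-homomorphism sending the generators to N and x, which is the substituted form
stated here.) The hypotheses hP and hQ, existence of the universal polynomials, are true statements
carried so that the identities of K can be used at every index. -/
theorem result (K : Type u) [CommRing K] [LambdaRing.LambdaOps K]
    (hK : LambdaRing.IsSpecial K)
    (hP : ∀ n : ℕ, ∃ P : MvPolynomial (Fin n ⊕ Fin n) ℤ, LambdaRing.IsMulPoly n P)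
    (hQ : ∀ i j : ℕ, ∃ Q : MvPolynomial (Fin (i * j)) ℤ, LambdaRing.IsCompPoly i j Q)
    (d : ℕ) (N : K) (hN : ∀ i : ℕ, d < i → LambdaRing.LambdaOps.lam i N = 0)
    (p : ℕ) (hp : 1 ≤ p) (x : K) :
    (∑ i ∈ range (d + 1), (-1 : K) ^ i * LambdaRing.LambdaOps.lam i N) ∣
      LambdaRing.LambdaOps.lam p (x * ∑ i ∈ range (d + 1), (-1 : K) ^ i * LambdaRing.LambdaOps.lam i N) := by
  rcases d with _ | d'
  · simp [LambdaRing.LambdaOps.lam_zero]
  set L : K := ∑ i ∈ range (d' + 1 + 1), (-1 : K) ^ i * LambdaRing.LambdaOps.lam i N with hL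
  set N' : K := N - ((d' + 1 : ℕ) : K) with hN'
  set G : K := LambdaRing.gamma (d' + 1) N' with hG
  have hGL : G = (-1 : K) ^ (d' + 1) * L := Groth.Agent.Lib27.LDiv.gamma_sub_rank hK d' N
  have hy : ∀ k, d' + 1 < k → LambdaRing.gamma k N' = 0 := fun k hk =>
    Groth.Agent.Lib27.LDiv.gamma_sub_rank_eq_zero hK (d' + 1) N hN k hk
  have hsq : (-1 : K) ^ (d' + 1) * (-1 : K) ^ (d' + 1) = 1 := by
    rw [← pow_add, ← two_mul, pow_mul]; simp
  have hLG : L = (-1 : K) ^ (d' + 1) * G := by
    rw [hGL, ← mul_assoc, hsq, one_mul]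
  have hxL : x * L = (x * (-1 : K) ^ (d' + 1)) * G := by rw [hLG]; ring
  have hmem : ∀ j, 1 ≤ j → LambdaRing.gamma j ((x * (-1 : K) ^ (d' + 1)) * G) ∈ Ideal.span {G} := by
    intro j hj
    obtain ⟨j, rfl⟩ : ∃ i, j = i + 1 := ⟨j - 1, by omega⟩
    rw [Groth.Agent.Lib27.LDiv.gamma_mul_gamma_eq hK d' j _ N' hy]
    exact Ideal.mul_mem_right _ _ (Ideal.subset_span rfl)
  have h1 := Groth.Agent.Lib27.LOps.lam_mem_of_gamma_mem (Ideal.span {G}) _ hmem p hp
  rw [Ideal.mem_span_singleton] at h1
  rw [hxL]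
  exact (Dvd.intro_left _ hGL.symm).trans h1

end Groth.Agent.S8691
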