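import Groth.Statements.S8695
import Groth.Agent.Lib27.LRank
-- import your own Groth.Agent.* helpers here

set_option autoImplicit false
universe u v
open Finset nonZeroDivisors
open LambdaRing

namespace Groth.Agent.S8695

/-- In the case where λ_{−1}(N) is a non-zero-divisor: let K be a binomial ring with its binomial
λ-structure, A a λ-ring in the strict sense which is an augmented K-λ-algebra with augmentation ε,
and Fil^n A the γ-filtration (the ideal generated by products of γ^{i}(z) with ε(z) = 0 of total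
weight ≥ n; all of A for n = 0). Let d ≥ 1 and N ∈ A be of rank d, that is λ^k(N) = 0 for all k > d
and ε(N) = d; put λ_{−1}(N) = Σ_{i ≤ d} (−1)^i λ^i(N), and suppose λ_{−1}(N) is a non-zero-divisor.
Then for p ≥ 1 and x ∈ A, the unique y with y · λ_{−1}(N) = γ^p(x · λ_{−1}(N)) — when it exists —
lies in Fil^{p−d} A. (The published statement is γ^p(N, x) ∈ Fil^{p−d} A for the element γ^p(N, x)
defined by substitution from the universal λ-ring, where it is characterised by γ^p(N, x) ·
λ_{−1}(N) = γ^p(x · λ_{−1}(N)); this row covers the case in which that identity determines the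
element, λ_{−1}(N) being a non-zero-divisor. The published statement also omits the condition ε(N) =
d, which its proof uses when it maps the universal generator to N − d compatibly with the
augmentations; without it N = 0, d = 1, x = 1, p = 2 in the integers gives γ^2(1) = 1 outside Fil^1
= 0, so ε(N) = d is assumed here, as is the standing assumption d ≥ 1.) The hypotheses hP and hQ,
existence of the universal polynomials, are true statements carried so that the identities of A can
be used at every index. -/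
theorem result
    (K : Type u) [CommRing K] [LambdaRing.LambdaOps K] [BinomialRing K] (hKb : LambdaRing.IsBinomial K)
    (hK : LambdaRing.IsSpecial K)
    (A : Type v) [CommRing A] [LambdaRing.LambdaOps A] [Algebra K A] (hA : LambdaRing.IsSpecial A)
    (hP : ∀ n : ℕ, ∃ P : MvPolynomial (Fin n ⊕ Fin n) ℤ, LambdaRing.IsMulPoly n P)
    (hQ : ∀ i j : ℕ, ∃ Q : MvPolynomial (Fin (i * j)) ℤ, LambdaRing.IsCompPoly i j Q)
    (ε : A →ₐ[K] K) (hε : LambdaRing.IsAugLambdaAlg K A ε)
    (d : ℕ) (hd : 1 ≤ d) (N : A) (hN : ∀ k : ℕ, d < k → LambdaRing.LambdaOps.lam k N = 0) (hNε : ε N = (d : K))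
    (hnzd : (∑ j ∈ range (d + 1), (-1 : A) ^ j * LambdaRing.LambdaOps.lam j N) ∈ A⁰)
    (p : ℕ) (hp : 1 ≤ p) (x y : A)
    (hy : y * (∑ j ∈ range (d + 1), (-1 : A) ^ j * LambdaRing.LambdaOps.lam j N) = LambdaRing.gamma p (x * (∑ j ∈ range (d + 1), (-1 : A) ^ j * LambdaRing.LambdaOps.lam j N))) :
    y ∈ LambdaRing.gammaFil (ε : A →+* K) (p - d) := by
  obtain ⟨d', rfl⟩ : ∃ d', d = d' + 1 := ⟨d - 1, by omega⟩
  have hKA : ∀ (n : ℕ) (c : K), LambdaRing.LambdaOps.lam n (algebraMap K A c) =
      algebraMap K A (Ring.choose c n) := by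
    intro n c
    rw [← hε.isLambdaAlg n c, hKb n c]
  have hanti := Groth.Agent.Lib27.LGam.gammaFil_anti (ε : A →+* K)
  have hmul := Groth.Agent.Lib27.LGam.gammaFil_mul (ε : A →+* K)
  have h0 := Groth.Agent.Lib27.LGam.gammaFil_zero (ε : A →+* K)
  set L : A := ∑ j ∈ range (d' + 1 + 1), (-1 : A) ^ j * LambdaRing.LambdaOps.lam j N with hL
  set N' : A := N - ((d' + 1 : ℕ) : A) with hN'
  have hGL : LambdaRing.gamma (d' + 1) N' = (-1 : A) ^ (d' + 1) * L :=
    Groth.Agent.Lib27.LDiv.gamma_sub_rank hA d' N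
  have hy0 : ∀ k, d' + 1 < k → LambdaRing.gamma k N' = 0 := fun k hk =>
    Groth.Agent.Lib27.LDiv.gamma_sub_rank_eq_zero hA (d' + 1) N hN k hk
  have hεN' : ε N' = 0 := by
    rw [hN', map_sub, hNε, map_natCast]; simp
  have hyF : ∀ k, 1 ≤ k → LambdaRing.gamma k N' ∈ LambdaRing.gammaFil (ε : A →+* K) k :=
    fun k _ => Groth.Agent.Lib27.LGam.gamma_mem_gammaFil _ N' hεN' k
  set xt : A := x * (-1 : A) ^ (d' + 1) with hxt
  set c : K := ε xt with hc
  set x' : A := xt - algebraMap K A c with hx'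
  have hεx' : ε x' = 0 := by
    rw [hx', map_sub, AlgHom.commutes]; simp [hc]
  have hx'F : ∀ k, 1 ≤ k → LambdaRing.gamma k x' ∈ LambdaRing.gammaFil (ε : A →+* K) k :=
    fun k _ => Groth.Agent.Lib27.LGam.gamma_mem_gammaFil _ x' hεx' k
  have hsq : (-1 : A) ^ (d' + 1) * (-1 : A) ^ (d' + 1) = 1 := by
    rw [← pow_add, ← two_mul, pow_mul]; simp
  have hxL : x * L = c • LambdaRing.gamma (d' + 1) N' + x' * LambdaRing.gamma (d' + 1) N' := by
    rw [hGL, Algebra.smul_def, hx']
    have e : algebraMap K A c * ((-1 : A) ^ (d' + 1) * L) +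
        (xt - algebraMap K A c) * ((-1 : A) ^ (d' + 1) * L) =
        x * ((-1 : A) ^ (d' + 1) * (-1 : A) ^ (d' + 1)) * L := by rw [hxt]; ring
    rw [e, hsq, mul_one]
  have hmem := Groth.Agent.Lib27.LRank.gamma_mulG_mem
    (fun n => LambdaRing.gammaFil (ε : A →+* K) n) hanti hmul h0 hA hKA d' N' hy0 hyF x' hx'F c p hp
  rw [← hxL, ← hy] at hmem
  obtain ⟨q, hq, hqe⟩ := Ideal.mem_span_singleton_mul.1 hmem
  rw [hGL] at hqe
  have hcancel : ((-1 : A) ^ (d' + 1) * q - y) * L = 0 := by
    rw [sub_mul, ← hqe]; ring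
  have h1 := (mul_right_mem_nonZeroDivisors_eq_zero_iff hnzd).1 hcancel
  have hyq : y = (-1 : A) ^ (d' + 1) * q := (sub_eq_zero.1 h1).symm
  rw [hyq]
  exact Ideal.mul_mem_left _ _ hq

end Groth.Agent.S8695
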