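import Groth.Statements.S8696
import Groth.Agent.Lib27.LRank2
-- import your own Groth.Agent.* helpers here

set_option autoImplicit false
universe u v
open Finset nonZeroDivisors
open LambdaRing

namespace Groth.Agent.S8696

/-- In the case where λ_{−1}(N) is a non-zero-divisor: let K be a binomial ring with its binomial
λ-structure, R a λ-ring in the strict sense which is an augmented K-λ-algebra with augmentation ε
and γ-filtration Fil^n R, d ≥ 1, N ∈ R of rank d (λ^k(N) = 0 for all k > d and ε(N) = d), λ_{−1}(N)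
= Σ_{i ≤ d} (−1)^i λ^i(N) a non-zero-divisor, i a natural number and x ∈ Fil^i R. If y ∈ R satisfies
y · λ_{−1}(N) = γ^{d+i}(x · λ_{−1}(N)), then y − (−1)^{d+i−1} (d+i−1)! · x ∈ Fil^{i+1} R. (The
published statement is about the element γ^{d+i}(N, x) defined by substitution from the universal
λ-ring, characterised there by γ^{q}(N, x) · λ_{−1}(N) = γ^{q}(x · λ_{−1}(N)); this row covers the
case in which that identity determines the element. The published statement also omits ε(N) = d,
which its proof uses when it maps the universal generator to N − d compatibly with the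
augmentations; it is assumed here, together with the standing assumption d ≥ 1.) The hypotheses hP
and hQ, existence of the universal polynomials, are true statements carried so that the identities
of R can be used at every index. -/
theorem result
    (K : Type u) [CommRing K] [LambdaRing.LambdaOps K] [BinomialRing K] (hKb : LambdaRing.IsBinomial K)
    (hK : LambdaRing.IsSpecial K)
    (A : Type v) [CommRing A] [LambdaRing.LambdaOps A] [Algebra K A] (hA : LambdaRing.IsSpecial A)
    (hP : ∀ n : ℕ, ∃ P : MvPolynomial (Fin n ⊕ Fin n) ℤ, LambdaRing.IsMulPoly n P)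
    (hQ : ∀ i j : ℕ, ∃ Q : MvPolynomial (Fin (i * j)) ℤ, LambdaRing.IsCompPoly i j Q)
    (ε : A →ₐ[K] K) (hε : LambdaRing.IsAugLambdaAlg K A ε)
    (d : ℕ) (hd : 1 ≤ d) (N : A) (hN : ∀ k : ℕ, d < k → LambdaRing.LambdaOps.lam k N = 0) (hNε : ε N = (d : K))
    (hnzd : (∑ j ∈ range (d + 1), (-1 : A) ^ j * LambdaRing.LambdaOps.lam j N) ∈ A⁰)
    (i : ℕ) (x : A) (hx : x ∈ LambdaRing.gammaFil (ε : A →+* K) i) (y : A)
    (hy : y * (∑ j ∈ range (d + 1), (-1 : A) ^ j * LambdaRing.LambdaOps.lam j N) = LambdaRing.gamma (d + i) (x * (∑ j ∈ range (d + 1), (-1 : A) ^ j * LambdaRing.LambdaOps.lam j N))) :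
    y - (-1 : A) ^ (d + i - 1) * ((d + i - 1).factorial : A) * x ∈ LambdaRing.gammaFil (ε : A →+* K) (i + 1) := by
  obtain ⟨d', rfl⟩ : ∃ d', d = d' + 1 := ⟨d - 1, by omega⟩
  have hKA : ∀ (n : ℕ) (c : K), LambdaRing.LambdaOps.lam n (algebraMap K A c) =
      algebraMap K A (Ring.choose c n) := by
    intro n c
    rw [← hε.isLambdaAlg n c, hKb n c]
  have hanti := Groth.Agent.Lib27.LGam.gammaFil_anti (ε : A →+* K)
  have hmul := Groth.Agent.Lib27.LGam.gammaFil_mul (ε : A →+* K)
  have h0 := Groth.Agent.Lib27.LGam.gammaFil_zero (ε : A →+* K)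
  set L : A := ∑ j ∈ range (d' + 1 + 1), (-1 : A) ^ j * LambdaRing.LambdaOps.lam j N with hL
  set N' : A := N - ((d' + 1 : ℕ) : A) with hN'
  have hGL : LambdaRing.gamma (d' + 1) N' = (-1 : A) ^ (d' + 1) * L :=
    Groth.Agent.Lib27.LDiv.gamma_sub_rank hA d' N
  have hy0 : ∀ k, d' + 1 < k → LambdaRing.gamma k N' = 0 := fun k hk =>
    Groth.Agent.Lib27.LDiv.gamma_sub_rank_eq_zero hA (d' + 1) N hN k hk
  have hεN' : ε N' = 0 := by
    rw [hN', map_sub, hNε, map_natCast]; simp
  have hyF : ∀ k, 1 ≤ k → LambdaRing.gamma k N' ∈ LambdaRing.gammaFil (ε : A →+* K) k :=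
    fun k _ => Groth.Agent.Lib27.LGam.gamma_mem_gammaFil _ N' hεN' k
  set s : A := (-1 : A) ^ (d' + 1) with hs
  have hsq : s * s = 1 := by
    rw [hs, ← pow_add, ← two_mul, pow_mul]; simp
  set xt : A := x * s with hxt
  -- cancellation
  have hcancel : ∀ Q : A, y * L = LambdaRing.gamma (d' + 1) N' * Q → y = s * Q := by
    intro Q hQ
    rw [hGL] at hQ
    have h1 : (s * Q - y) * L = 0 := by rw [sub_mul, hQ]; ring
    have h2 := (mul_right_mem_nonZeroDivisors_eq_zero_iff hnzd).1 h1
    exact (sub_eq_zero.1 h2).symm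
  rcases i with _ | i'
  · -- the case `i = 0`
    set c : K := ε xt with hc
    set x' : A := xt - algebraMap K A c with hx'
    have hεx' : ε x' = 0 := by
      rw [hx', map_sub, AlgHom.commutes]; simp [hc]
    have hx'F : ∀ k, 1 ≤ k → LambdaRing.gamma k x' ∈ LambdaRing.gammaFil (ε : A →+* K) k :=
      fun k _ => Groth.Agent.Lib27.LGam.gamma_mem_gammaFil _ x' hεx' k
    have hxL : x * L = c • LambdaRing.gamma (d' + 1) N' + x' * LambdaRing.gamma (d' + 1) N' := by
      rw [hGL, Algebra.smul_def, hx']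
      have e : algebraMap K A c * (s * L) + (xt - algebraMap K A c) * (s * L) =
          x * (s * s) * L := by rw [hxt]; ring
      rw [e, hsq, mul_one]
    have hmem := Groth.Agent.Lib27.LRank.gamma_mulG_sub_mem
      (fun n => LambdaRing.gammaFil (ε : A →+* K) n) hanti hmul h0 hA hKA d' N' hy0 hyF x' hx'F c
    rw [← hxL] at hmem
    obtain ⟨r, hr, hre⟩ := Ideal.mem_span_singleton_mul.1 hmem
    set ev : A := Groth.Agent.Lib27.LUniv.evG N' N' (Groth.Agent.Lib27.LDiv.De d' d') with hev
    have hyQ : y * L = LambdaRing.gamma (d' + 1) N' * (c • ev + r) := by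
      rw [add_zero] at hy
      rw [hy, mul_add, hre, mul_smul_comm]
      ring
    have hyq := hcancel _ hyQ
    -- the constant term
    have hκ : ev - (((-1) ^ d' * (d'.factorial : ℤ) : ℤ) : A) ∈
        LambdaRing.gammaFil (ε : A →+* K) 1 := by
      classical
      have h := Groth.Agent.Lib27.LUniv.evG_mem_of_weight
        (fun n => LambdaRing.gammaFil (ε : A →+* K) n) hanti hmul h0 N' N' hyF hyF
        (Groth.Agent.Lib27.LDiv.De d' d' - MvPolynomial.C ((-1) ^ d' * (d'.factorial : ℤ))) 1
        (fun m hm => by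
          rw [MvPolynomial.mem_support_iff, MvPolynomial.coeff_sub, MvPolynomial.coeff_C] at hm
          have hm0 : m ≠ 0 := by
            intro h
            apply hm
            rw [if_pos h.symm, h, Groth.Agent.Lib27.LRank.coeff_De_const, sub_self]
          obtain ⟨v, hv⟩ : ∃ v, m v ≠ 0 := by
            by_contra hc'; push Not at hc'; exact hm0 (Finsupp.ext hc')
          have h2 := Finsupp.le_weight_of_ne_zero' Groth.Agent.Lib27.LUniv.wt2 hv
          have h3 : 1 ≤ Groth.Agent.Lib27.LUniv.wt2 v := by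
            rcases v with j | j <;> simp [Groth.Agent.Lib27.LUniv.wt2]
          omega)
      rw [map_sub] at h
      have e1 : Groth.Agent.Lib27.LUniv.evG N' N'
          (MvPolynomial.C ((-1) ^ d' * (d'.factorial : ℤ))) =
          (((-1) ^ d' * (d'.factorial : ℤ) : ℤ) : A) := by
        rw [eq_intCast (MvPolynomial.C : ℤ →+* Groth.Agent.Lib27.LUniv.Lam2), map_intCast]
      rwa [e1] at h
    have hx'1 : x' ∈ LambdaRing.gammaFil (ε : A →+* K) 1 := by
      have := hx'F 1 le_rfl
      rwa [Groth.Agent.Lib27.Gamma.gamma_one] at this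
    have hidx : d' + 1 + 0 - 1 = d' := by omega
    rw [hidx, zero_add]
    have hx_eq : x = s * (algebraMap K A c + x') := by
      rw [hx', add_sub_cancel, hxt]
      calc x = x * (s * s) := by rw [hsq, mul_one]
        _ = s * (x * s) := by ring
    have e : y - (-1 : A) ^ d' * (d'.factorial : A) * x =
        s * (c • (ev - (((-1) ^ d' * (d'.factorial : ℤ) : ℤ) : A)) + r -
          (-1 : A) ^ d' * (d'.factorial : A) * x') := by
      rw [hyq]
      conv_lhs => rw [hx_eq]
      rw [Algebra.smul_def, Algebra.smul_def]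
      push_cast
      ring
    rw [e]
    refine Ideal.mul_mem_left _ _ (Ideal.sub_mem _ (Ideal.add_mem _ ?_ hr) (Ideal.mul_mem_left _ _ hx'1))
    rw [Algebra.smul_def]
    exact Ideal.mul_mem_left _ _ hκ
  · -- the case `i = i' + 1`
    have hxtF : xt ∈ LambdaRing.gammaFil (ε : A →+* K) (i' + 1) := Ideal.mul_mem_right _ _ hx
    have hZ := Groth.Agent.Lib27.LGam.Zp_of_mem hA hKA ε i' xt hxtF
    have hxL : x * L = xt * LambdaRing.gamma (d' + 1) N' := by
      rw [hGL, hxt]
      calc x * L = x * (s * s) * L := by rw [hsq, mul_one]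
        _ = x * s * (s * L) := by ring
    have h2 := Groth.Agent.Lib27.LDiv.gamma_mul_gamma_eq hA d' (d' + i' + 1) xt N' hy0
    have hw : ∀ m ∈ (Groth.Agent.Lib27.LDiv.Dp d' (d' + i' + 1)).support,
        i' + 1 ≤ Finsupp.weight Groth.Agent.Lib27.LUniv.wt2 m := by
      intro m hm
      have := Groth.Agent.Lib27.LDiv.Dp_weight d' (d' + i' + 1) m hm
      omega
    have h1 := Groth.Agent.Lib27.LRank.evG_lead (fun n => LambdaRing.gammaFil (ε : A →+* K) n)
      hanti hmul h0 i' xt N' hZ.2.1 hZ.2.2 hyF (Groth.Agent.Lib27.LDiv.Dp d' (d' + i' + 1)) hw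
      (Groth.Agent.Lib27.LRank.coeff_Dp_pure d' (d' + i' + 1))
    set q : A := Groth.Agent.Lib27.LUniv.evG xt N' (Groth.Agent.Lib27.LDiv.Dp d' (d' + i' + 1)) with hq
    set c₀ : ℤ := MvPolynomial.coeff (Finsupp.single (Sum.inl i') 1)
      (Groth.Agent.Lib27.LDiv.Dp d' (d' + i' + 1)) with hc₀
    have hidx1 : d' + 1 + (i' + 1) = d' + i' + 1 + 1 := by omega
    have hyQ : y * L = LambdaRing.gamma (d' + 1) N' * q := by
      rw [hy, hidx1, hxL, h2]
    have hyq := hcancel _ hyQ
    have hidx : d' + 1 + (i' + 1) - 1 = d' + i' + 1 := by omega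
    rw [hidx]
    have hc := congrArg (fun t : ℤ => (t : A)) (Groth.Agent.Lib27.LRank.coeff_Dp_lead d' i')
    simp only [Int.cast_mul, Int.cast_pow, Int.cast_neg, Int.cast_one, Int.cast_natCast] at hc
    have hx_eq : x = s * xt := by
      rw [hxt]
      calc x = x * (s * s) := by rw [hsq, mul_one]
        _ = s * (x * s) := by ring
    have e : y - (-1 : A) ^ (d' + i' + 1) * ((d' + i' + 1).factorial : A) * x =
        s * (q - (c₀ : A) * ((-1 : A) ^ i' * (i'.factorial : A)) * xt) := by
      rw [hyq]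
      conv_lhs => rw [hx_eq]
      rw [← hc]
      ring
    rw [e]
    exact Ideal.mul_mem_left _ _ h1

end Groth.Agent.S8696
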