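import Groth.Statements.S8697
import Groth.Agent.Lib27.LGam
-- import your own Groth.Agent.* helpers here

set_option autoImplicit false
universe u v
open Finset
open LambdaRing

namespace Groth.Agent.S8697

/-- Let K be a binomial ring with its binomial λ-structure and B a λ-ring in the strict sense which is
an augmented K-λ-algebra with augmentation ε. Let x ∈ B satisfy ε(x) = 0 and γ^k(x) = 0 for every k
> n, and assume that γ^1(x), …, γ^n(x) are algebraically independent over K and generate B as a
K-algebra — so B is the K-λ-algebra generated by one element subject to the relations γ^k = 0 for k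
> n, a polynomial ring K[γ^1 x, …, γ^n x]. Then for every k, the k-th ideal Fil^k B of the
γ-filtration (generated by the products of γ^{i}(z), ε(z) = 0, of total weight ≥ k) is the ideal
generated by the monomials ∏_j (γ^j x)^{e_j} with Σ_j j·e_j ≥ k: the λ-ring filtration is the
filtration by the weight in the γ^j x. (With λ in place of γ — relations λ^k x = 0 for k > n and
weights in the λ^j x — the assertion fails already for n = 1, where γ^i(x) = x for all i ≥ 1 puts x
in every Fil^k while x is not in the ideal (x²); the form with γ stated here is the one the proof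
establishes.) The hypotheses hP and hQ, existence of the universal polynomials, are true statements
carried so that the identities of B can be used at every index. -/
theorem result
    (K : Type u) [CommRing K] [LambdaRing.LambdaOps K] [BinomialRing K] (hKb : LambdaRing.IsBinomial K)
    (hK : LambdaRing.IsSpecial K)
    (B : Type v) [CommRing B] [LambdaRing.LambdaOps B] [Algebra K B] (hB : LambdaRing.IsSpecial B)
    (hP : ∀ n : ℕ, ∃ P : MvPolynomial (Fin n ⊕ Fin n) ℤ, LambdaRing.IsMulPoly n P)
    (hQ : ∀ i j : ℕ, ∃ Q : MvPolynomial (Fin (i * j)) ℤ, LambdaRing.IsCompPoly i j Q)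
    (ε : B →ₐ[K] K) (hε : LambdaRing.IsAugLambdaAlg K B ε)
    (n : ℕ) (x : B) (hx : ε x = 0) (hγ : ∀ k : ℕ, n < k → LambdaRing.gamma k x = 0)
    (hind : AlgebraicIndependent K (fun j : Fin n => LambdaRing.gamma ((j : ℕ) + 1) x))
    (hgen : Algebra.adjoin K (Set.range fun j : Fin n => LambdaRing.gamma ((j : ℕ) + 1) x) = ⊤)
    (k : ℕ) :
    LambdaRing.gammaFil (ε : B →+* K) k =
      Ideal.span {m : B | ∃ e : Fin n → ℕ, k ≤ ∑ j : Fin n, ((j : ℕ) + 1) * e j ∧
        m = ∏ j : Fin n, LambdaRing.gamma ((j : ℕ) + 1) x ^ e j} := by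
  classical
  have hKB : ∀ (i : ℕ) (c : K), LambdaRing.LambdaOps.lam i (algebraMap K B c) =
      algebraMap K B (Ring.choose c i) := by
    intro i c
    rw [← hε.isLambdaAlg i c, hKb i c]
  set W : ℕ → Ideal B := fun k => Ideal.span {m : B | ∃ e : Fin n → ℕ,
    k ≤ ∑ j : Fin n, ((j : ℕ) + 1) * e j ∧ m = ∏ j : Fin n, LambdaRing.gamma ((j : ℕ) + 1) x ^ e j} with hW
  show LambdaRing.gammaFil (ε : B →+* K) k = W k
  have hWanti : Antitone W := by
    intro a b hab
    refine Ideal.span_mono ?_
    rintro m ⟨e, he, rfl⟩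
    exact ⟨e, hab.trans he, rfl⟩
  have hWmul : ∀ a b, W a * W b ≤ W (a + b) := by
    intro a b
    simp only [hW]
    rw [Ideal.span_mul_span']
    refine Ideal.span_mono ?_
    rintro _ ⟨_, ⟨e, he, rfl⟩, _, ⟨e', he', rfl⟩, rfl⟩
    refine ⟨e + e', ?_, ?_⟩
    · have : ∑ j : Fin n, ((j : ℕ) + 1) * (e + e') j =
          ∑ j : Fin n, ((j : ℕ) + 1) * e j + ∑ j : Fin n, ((j : ℕ) + 1) * e' j := by
        rw [← Finset.sum_add_distrib]
        refine Finset.sum_congr rfl fun j _ => ?_
        rw [Pi.add_apply, mul_add]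
      omega
    · show (∏ j : Fin n, LambdaRing.gamma ((j : ℕ) + 1) x ^ e j) *
          (∏ j : Fin n, LambdaRing.gamma ((j : ℕ) + 1) x ^ e' j) = _
      rw [← Finset.prod_mul_distrib]
      refine Finset.prod_congr rfl fun j _ => ?_
      rw [Pi.add_apply, pow_add]
  have hW0 : W 0 = ⊤ := by
    rw [Ideal.eq_top_iff_one]
    exact Ideal.subset_span ⟨0, by simp, by simp⟩
  have hx_gam : ∀ i, 1 ≤ i → LambdaRing.gamma i x ∈ W i := by
    intro i hi
    by_cases hin : i ≤ n
    · apply Ideal.subset_span
      refine ⟨Pi.single ⟨i - 1, by omega⟩ 1, ?_, ?_⟩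
      · rw [Finset.sum_eq_single (⟨i - 1, by omega⟩ : Fin n)]
        · simp only [Pi.single_eq_same, mul_one]; omega
        · intro j _ hj; rw [Pi.single_eq_of_ne hj, mul_zero]
        · intro h; exact absurd (Finset.mem_univ _) h
      · rw [Finset.prod_eq_single (⟨i - 1, by omega⟩ : Fin n)]
        · simp only [Pi.single_eq_same, pow_one]
          congr 1; omega
        · intro j _ hj; rw [Pi.single_eq_of_ne hj, pow_zero]
        · intro h; exact absurd (Finset.mem_univ _) h
    · rw [hγ i (by omega)]; exact zero_mem _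
  have hεgam : ∀ (i : ℕ) (u : B), ε (LambdaRing.gamma i u) = LambdaRing.gamma i (ε u) :=
    fun i u => Groth.Agent.Lib27.LGam.map_gamma (ε : B →+* K) hε.map_lam i u
  have hP : ∀ z : B, Groth.Agent.Lib27.LFil.T W 1 (z - algebraMap K B (ε z)) := by
    intro z
    have hz : z ∈ Algebra.adjoin K (Set.range fun j : Fin n => LambdaRing.gamma ((j : ℕ) + 1) x) := by
      rw [hgen]; trivial
    induction hz using Algebra.adjoin_induction with
    | mem y hy =>
      obtain ⟨j, rfl⟩ := hy
      rw [hεgam, hx, Groth.Agent.Lib27.GammaFil.gamma_zero_arg _ (by omega), map_zero, sub_zero]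
      exact Groth.Agent.Lib27.LFil.T_anti W hWanti (by omega)
        (Groth.Agent.Lib27.LFil.T_gamma W hWanti hWmul hW0 hB hx_gam j)
    | algebraMap c =>
      rw [AlgHom.commutes]
      simp only [Algebra.algebraMap_self, RingHom.id_apply, sub_self]
      exact Groth.Agent.Lib27.LFil.T_zero W 1
    | add y z _ _ hy hz => exact Groth.Agent.Lib27.LGam.subAug_add W hWanti hWmul hW0 ε hy hz
    | mul y z _ _ hy hz => exact Groth.Agent.Lib27.LGam.subAug_mul W hWanti hWmul hW0 hB hKB ε hy hz
  apply le_antisymm
  · apply Groth.Agent.Lib27.LGam.gammaFil_le_of W hWanti hWmul hW0 ε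
    intro z hz i hi
    have := hP z
    rw [hz, map_zero, sub_zero] at this
    exact Groth.Agent.Lib27.LFil.T_gam W hWanti this i hi
  · apply Ideal.span_le.2
    rintro m ⟨e, he, rfl⟩
    refine Groth.Agent.Lib27.LGam.gammaFil_anti (ε : B →+* K) he ?_
    exact Groth.Agent.Lib27.LGam.prod_pow_mem_F (fun i => LambdaRing.gammaFil (ε : B →+* K) i)
      (Groth.Agent.Lib27.LGam.gammaFil_anti _) (Groth.Agent.Lib27.LGam.gammaFil_mul _)
      (Groth.Agent.Lib27.LGam.gammaFil_zero _) Finset.univ
      (fun j : Fin n => LambdaRing.gamma ((j : ℕ) + 1) x) (fun j => (j : ℕ) + 1) e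
      (fun j _ => Groth.Agent.Lib27.LGam.gamma_mem_gammaFil (ε : B →+* K) x hx _)

end Groth.Agent.S8697
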