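import Groth.Statements.S8698
import Groth.Agent.Lib27.LGam
-- import your own Groth.Agent.* helpers here

set_option autoImplicit false
universe u v w
open Finset
open LambdaRing

namespace Groth.Agent.S8698

/-- Let K be a binomial ring with its binomial λ-structure, A a λ-ring in the strict sense which is an
augmented K-λ-algebra with augmentation ε_A, and B a λ-ring in the strict sense which is at once an
augmented K-λ-algebra with augmentation ε_B and an A-algebra compatibly with the K-structures, the
structure map A → B commuting with the λ^n and ε_B restricting to ε_A on A. Let x ∈ B with ε_B(x) =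
0, and assume that the family (γ^{j+1} x)_{j ∈ ℕ} is algebraically independent over A and generates
B as an A-algebra: B is the free λ-ring A[X, γ^2 X, γ^3 X, …] on one generator over A, augmented by
X ↦ 0. Then for every k the k-th ideal Fil^k B of the γ-filtration of B is the ideal generated by
the products a · m where m = ∏_j (γ^{j+1} x)^{e_j} is a monomial of weight i = Σ_j (j+1) e_j and a
lies in (the image of) Fil^{k−i} A, with Fil^s A = A for s ≤ 0; that is, Fil^k B = Fil^k A +
Fil^{k−1} A·M_1 + ⋯ + Fil^0 A·M_k + (monomials of weight > k), M_i denoting the monomials of weight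
i. The hypotheses hP and hQ, existence of the universal polynomials, are true statements carried so
that the identities of A and B can be used at every index. -/
theorem result
    (K : Type u) [CommRing K] [LambdaRing.LambdaOps K] [BinomialRing K] (hKb : LambdaRing.IsBinomial K)
    (hK : LambdaRing.IsSpecial K)
    (A : Type v) [CommRing A] [LambdaRing.LambdaOps A] [Algebra K A] (hA : LambdaRing.IsSpecial A)
    (εA : A →ₐ[K] K) (hεA : LambdaRing.IsAugLambdaAlg K A εA)
    (B : Type w) [CommRing B] [LambdaRing.LambdaOps B] [Algebra K B] [Algebra A B] [IsScalarTower K A B]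
    (hB : LambdaRing.IsSpecial B) (hAB : LambdaRing.IsLambdaAlg A B)
    (εB : B →ₐ[K] K) (hεB : LambdaRing.IsAugLambdaAlg K B εB) (hεAB : ∀ a : A, εB (algebraMap A B a) = εA a)
    (hP : ∀ n : ℕ, ∃ P : MvPolynomial (Fin n ⊕ Fin n) ℤ, LambdaRing.IsMulPoly n P)
    (hQ : ∀ i j : ℕ, ∃ Q : MvPolynomial (Fin (i * j)) ℤ, LambdaRing.IsCompPoly i j Q)
    (x : B) (hx : εB x = 0)
    (hind : AlgebraicIndependent A (fun j : ℕ => LambdaRing.gamma (j + 1) x))
    (hgen : Algebra.adjoin A (Set.range fun j : ℕ => LambdaRing.gamma (j + 1) x) = ⊤)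
    (k : ℕ) :
    LambdaRing.gammaFil (εB : B →+* K) k =
      Ideal.span {b : B | ∃ (e : ℕ →₀ ℕ) (a : A),
        a ∈ LambdaRing.gammaFil (εA : A →+* K) (k - e.sum fun j n => (j + 1) * n) ∧
        b = algebraMap A B a * e.prod fun j n => LambdaRing.gamma (j + 1) x ^ n} := by
  classical
  have hKB : ∀ (i : ℕ) (c : K), LambdaRing.LambdaOps.lam i (algebraMap K B c) =
      algebraMap K B (Ring.choose c i) := by
    intro i c
    rw [← hεB.isLambdaAlg i c, hKb i c]
  set wt : (ℕ →₀ ℕ) → ℕ := fun e => e.sum fun j n => (j + 1) * n with hwt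
  set mono : (ℕ →₀ ℕ) → B := fun e => e.prod fun j n => LambdaRing.gamma (j + 1) x ^ n with hmono
  set F : ℕ → Ideal B := fun k => Ideal.span {b : B | ∃ (e : ℕ →₀ ℕ) (a : A),
    a ∈ LambdaRing.gammaFil (εA : A →+* K) (k - wt e) ∧ b = algebraMap A B a * mono e} with hF
  show LambdaRing.gammaFil (εB : B →+* K) k = F k
  have hwt_add : ∀ e e' : ℕ →₀ ℕ, wt (e + e') = wt e + wt e' := by
    intro e e'
    simp only [hwt]
    rw [Finsupp.sum_add_index' (fun _ => by simp) (fun _ _ _ => by ring)]
  have hmono_add : ∀ e e' : ℕ →₀ ℕ, mono (e + e') = mono e * mono e' := by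
    intro e e'
    simp only [hmono]
    rw [Finsupp.prod_add_index' (fun _ => pow_zero _) (fun _ _ _ => pow_add _ _ _)]
  have hAanti := Groth.Agent.Lib27.LGam.gammaFil_anti (εA : A →+* K)
  have hFanti : Antitone F := by
    intro a b hab
    refine Ideal.span_mono ?_
    rintro _ ⟨e, u, hu, rfl⟩
    exact ⟨e, u, hAanti (Nat.sub_le_sub_right hab _) hu, rfl⟩
  have hFmul : ∀ a b, F a * F b ≤ F (a + b) := by
    intro a b
    simp only [hF]
    rw [Ideal.span_mul_span']
    refine Ideal.span_mono ?_
    rintro _ ⟨_, ⟨e, u, hu, rfl⟩, _, ⟨e', u', hu', rfl⟩, rfl⟩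
    refine ⟨e + e', u * u', ?_, ?_⟩
    · have h1 := Groth.Agent.Lib27.LGam.gammaFil_mul (εA : A →+* K) _ _ (Ideal.mul_mem_mul hu hu')
      refine hAanti ?_ h1
      rw [hwt_add]; omega
    · show algebraMap A B u * mono e * (algebraMap A B u' * mono e') = _
      rw [hmono_add, map_mul]; ring
  have hF0 : F 0 = ⊤ := by
    rw [Ideal.eq_top_iff_one]
    refine Ideal.subset_span ⟨0, 1, ?_, ?_⟩
    · rw [Nat.zero_sub, Groth.Agent.Lib27.LGam.gammaFil_zero]
      trivial
    · simp [hmono]
  have hx_gam : ∀ i, 1 ≤ i → LambdaRing.gamma i x ∈ F i := by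
    intro i hi
    apply Ideal.subset_span
    refine ⟨Finsupp.single (i - 1) 1, 1, ?_, ?_⟩
    · have : wt (Finsupp.single (i - 1) 1) = i := by
        simp only [hwt]
        rw [Finsupp.sum_single_index (by simp)]
        omega
      rw [this, Nat.sub_self, Groth.Agent.Lib27.LGam.gammaFil_zero]
      trivial
    · simp only [hmono]
      rw [Finsupp.prod_single_index (h := fun j n => LambdaRing.gamma (j + 1) x ^ n) (pow_zero _),
        pow_one, map_one, one_mul]
      congr 1; omega
  have hεgam : ∀ (i : ℕ) (u : B), εB (LambdaRing.gamma i u) = LambdaRing.gamma i (εB u) :=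
    fun i u => Groth.Agent.Lib27.LGam.map_gamma (εB : B →+* K) hεB.map_lam i u
  have hABgam : ∀ (i : ℕ) (u : A), algebraMap A B (LambdaRing.gamma i u) =
      LambdaRing.gamma i (algebraMap A B u) :=
    fun i u => Groth.Agent.Lib27.LGam.map_gamma (algebraMap A B) hAB i u
  have hPz : ∀ z : B, Groth.Agent.Lib27.LFil.T F 1 (z - algebraMap K B (εB z)) := by
    intro z
    have hz : z ∈ Algebra.adjoin A (Set.range fun j : ℕ => LambdaRing.gamma (j + 1) x) := by
      rw [hgen]; trivial
    induction hz using Algebra.adjoin_induction with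
    | mem y hy =>
      obtain ⟨j, rfl⟩ := hy
      rw [hεgam, hx, Groth.Agent.Lib27.GammaFil.gamma_zero_arg _ (by omega), map_zero, sub_zero]
      exact Groth.Agent.Lib27.LFil.T_anti F hFanti (by omega)
        (Groth.Agent.Lib27.LFil.T_gamma F hFanti hFmul hF0 hB hx_gam j)
    | algebraMap a =>
      have e1 : algebraMap A B a - algebraMap K B (εB (algebraMap A B a)) =
          algebraMap A B (a - algebraMap K A (εA a)) := by
        rw [hεAB, map_sub, ← IsScalarTower.algebraMap_apply]
      rw [e1]
      have hu : εA (a - algebraMap K A (εA a)) = 0 := by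
        rw [map_sub, AlgHom.commutes]
        simp
      have hmem : ∀ i, 1 ≤ i → LambdaRing.gamma i (algebraMap A B (a - algebraMap K A (εA a))) ∈ F i := by
        intro i _
        rw [← hABgam]
        apply Ideal.subset_span
        refine ⟨0, LambdaRing.gamma i (a - algebraMap K A (εA a)), ?_, ?_⟩
        · have : wt 0 = 0 := by simp [hwt]
          rw [this, Nat.sub_zero]
          exact Groth.Agent.Lib27.LGam.gamma_mem_gammaFil (εA : A →+* K) _ hu i
        · simp [hmono]
      exact Groth.Agent.Lib27.LFil.T_of_mem F hFanti hmem (fun i hi => hFanti hi (hmem i hi))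
    | add y z _ _ hy hz => exact Groth.Agent.Lib27.LGam.subAug_add F hFanti hFmul hF0 εB hy hz
    | mul y z _ _ hy hz => exact Groth.Agent.Lib27.LGam.subAug_mul F hFanti hFmul hF0 hB hKB εB hy hz
  have hmap : ∀ (i : ℕ) (a : A), a ∈ LambdaRing.gammaFil (εA : A →+* K) i →
      algebraMap A B a ∈ LambdaRing.gammaFil (εB : B →+* K) i := by
    intro i a ha
    unfold LambdaRing.gammaFil at ha
    induction ha using Submodule.span_induction with
    | mem y hy =>
      obtain ⟨l, hl, hn, rfl⟩ := hy
      apply Ideal.subset_span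
      refine ⟨l.map fun p => (p.1, algebraMap A B p.2), ?_, ?_, ?_⟩
      · intro p hp
        obtain ⟨q, hq, rfl⟩ := List.mem_map.1 hp
        show εB (algebraMap A B q.2) = 0
        rw [hεAB]; exact hl q hq
      · simpa [List.map_map, Function.comp_def] using hn
      · rw [map_list_prod, List.map_map, List.map_map]
        congr 1
        refine List.map_congr_left fun p _ => ?_
        simp only [Function.comp_apply]
        exact hABgam p.1 p.2
    | zero => rw [map_zero]; exact zero_mem _
    | add y z _ _ hy hz => rw [map_add]; exact Ideal.add_mem _ hy hz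
    | smul r y _ hy => rw [smul_eq_mul, map_mul]; exact Ideal.mul_mem_left _ _ hy
  apply le_antisymm
  · apply Groth.Agent.Lib27.LGam.gammaFil_le_of F hFanti hFmul hF0 εB
    intro z hz i hi
    have := hPz z
    rw [hz, map_zero, sub_zero] at this
    exact Groth.Agent.Lib27.LFil.T_gam F hFanti this i hi
  · apply Ideal.span_le.2
    rintro _ ⟨e, a, ha, rfl⟩
    have h1 := hmap _ a ha
    have h2 : mono e ∈ LambdaRing.gammaFil (εB : B →+* K) (wt e) := by
      simp only [hmono, hwt, Finsupp.prod, Finsupp.sum]
      exact Groth.Agent.Lib27.LGam.prod_pow_mem_F (fun i => LambdaRing.gammaFil (εB : B →+* K) i)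
        (Groth.Agent.Lib27.LGam.gammaFil_anti _) (Groth.Agent.Lib27.LGam.gammaFil_mul _)
        (Groth.Agent.Lib27.LGam.gammaFil_zero _) e.support
        (fun j : ℕ => LambdaRing.gamma (j + 1) x) (fun j => j + 1) (fun j => e j)
        (fun j _ => Groth.Agent.Lib27.LGam.gamma_mem_gammaFil (εB : B →+* K) x hx _)
    have h3 := Groth.Agent.Lib27.LGam.gammaFil_mul (εB : B →+* K) _ _ (Ideal.mul_mem_mul h1 h2)
    exact Groth.Agent.Lib27.LGam.gammaFil_anti (εB : B →+* K) (by omega) h3

end Groth.Agent.S8698
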