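import Groth.Statements.S8702
import Groth.Agent.Lib27.Adams
-- import your own Groth.Agent.* helpers here

set_option autoImplicit false
universe u
open LambdaRing

namespace Groth.Agent.S8702

open Finset PowerSeries Groth.Agent.Lib27.Adams

section Helpers

variable {K : Type u} [CommRing K] [Algebra ℚ K]

lemma isUnit_succ (n : ℕ) : IsUnit ((n : K) + 1) := by
  have : ((n : K) + 1) = algebraMap ℚ K ((n : ℚ) + 1) := by
    rw [map_add, map_natCast, map_one]
  rw [this]
  apply IsUnit.map
  exact (isUnit_iff_ne_zero.2 (by positivity))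

/-- uniqueness for the ODE `f' = C f` -/
lemma ode_unique (C f g : PowerSeries K) (hf : derivative K f = C * f)
    (hg : derivative K g = C * g) (h0 : constantCoeff f = constantCoeff g) : f = g := by
  ext n
  induction n using Nat.strong_induction_on with
  | _ n ih =>
    rcases n with _ | n
    · simpa using h0
    · have h1 := congrArg (coeff n) hf
      have h2 := congrArg (coeff n) hg
      rw [coeff_derivative, coeff_mul] at h1 h2
      have h3 : ∑ p ∈ antidiagonal n, coeff p.1 C * coeff p.2 f =
          ∑ p ∈ antidiagonal n, coeff p.1 C * coeff p.2 g := by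
        apply Finset.sum_congr rfl
        intro p hp
        have := Finset.mem_antidiagonal.1 hp
        rw [ih p.2 (by lia)]
      rw [h3, ← h2] at h1
      exact (isUnit_succ n).mul_left_injective h1

variable (ψ : ℕ → K →+ K)

/-- the recursively defined λ-operations -/
noncomputable def lamRec (x : K) : ℕ → K
  | 0 => 1
  | (n + 1) => algebraMap ℚ K ((n + 1 : ℚ)⁻¹) *
      ∑ i : Fin (n + 1), (-1) ^ (i : ℕ) * ψ ((i : ℕ) + 1) x * lamRec x (n - i)
decreasing_by omega

/-- the series `C_x` -/
noncomputable def Cser (x : K) : PowerSeries K := PowerSeries.mk fun i => (-1) ^ i * ψ (i + 1) x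

/-- the series `Λ_x` -/
noncomputable def Lser (x : K) : PowerSeries K := PowerSeries.mk (lamRec ψ x)

lemma lamRec_succ (x : K) (n : ℕ) :
    lamRec ψ x (n + 1) * ((n : K) + 1) =
      ∑ i ∈ range (n + 1), (-1) ^ i * ψ (i + 1) x * lamRec ψ x (n - i) := by
  rw [lamRec, Fin.sum_univ_eq_sum_range (fun i => (-1) ^ i * ψ (i + 1) x * lamRec ψ x (n - i))]
  have : algebraMap ℚ K ((n + 1 : ℚ)⁻¹) * ((n : K) + 1) = 1 := by
    have : ((n : K) + 1) = algebraMap ℚ K ((n : ℚ) + 1) := by
      rw [map_add, map_natCast, map_one]
    rw [this, ← map_mul, inv_mul_cancel₀ (by positivity), map_one]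
  rw [mul_right_comm, this, one_mul]

lemma Lser_ode (x : K) : derivative K (Lser ψ x) = Cser ψ x * Lser ψ x := by
  ext n
  rw [coeff_derivative, coeff_mul, Finset.Nat.sum_antidiagonal_eq_sum_range_succ_mk, Lser, coeff_mk,
    lamRec_succ]
  apply Finset.sum_congr rfl
  intro i _
  rw [Cser, coeff_mk, coeff_mk]

lemma constantCoeff_Lser (x : K) : constantCoeff (Lser ψ x) = 1 := by
  rw [← coeff_zero_eq_constantCoeff_apply, Lser, coeff_mk, lamRec]

lemma Cser_add (x y : K) : Cser ψ (x + y) = Cser ψ x + Cser ψ y := by
  ext n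
  simp [Cser, mul_add]

lemma Lser_add (x y : K) : Lser ψ (x + y) = Lser ψ x * Lser ψ y := by
  apply ode_unique (Cser ψ (x + y))
  · exact Lser_ode ψ (x + y)
  · rw [Derivation.leibniz, Lser_ode, Lser_ode, Cser_add]
    simp only [smul_eq_mul]
    ring
  · rw [map_mul, constantCoeff_Lser, constantCoeff_Lser, constantCoeff_Lser, mul_one]

/-- the λ-structure -/
noncomputable def lamOps (hψ : ψ 1 = AddMonoidHom.id K) : LambdaOps K where
  lam n x := lamRec ψ x n
  lam_zero x := by rw [lamRec]
  lam_one x := by
    have := lamRec_succ ψ x 0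
    simpa [hψ, lamRec] using this
  lam_add k x y := by
    have h := congrArg (coeff k) (Lser_add ψ x y)
    rw [coeff_mul, Finset.Nat.sum_antidiagonal_eq_sum_range_succ_mk] at h
    simpa [Lser] using h

end Helpers

/-- Let K be a commutative ring which is an algebra over the rationals, and let ψ^k : K → K, k ≥ 1, be
additive maps with ψ^1 the identity. Then there is one and only one pre-λ-structure on K whose Adams
operations (defined through the logarithmic derivative of λ_t) are the ψ^k for every k ≥ 1, namely
λ_t(x) = exp(Σ_{k ≥ 1} (−1)^{k−1} ψ^k(x) t^k / k): in characteristic zero, pre-λ-structures and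
families of additive operations ψ^k with ψ^1 = id determine each other. (The value of the family at
k = 0 is ignored.) -/
theorem result (K : Type u) [CommRing K] [Algebra ℚ K]
    (ψ : ℕ → K →+ K) (hψ : ψ 1 = AddMonoidHom.id K) :
    ∃! L : LambdaRing.LambdaOps K, ∀ k : ℕ, 1 ≤ k → ∀ x : K, @LambdaRing.adamsOp K _ L k x = ψ k x := by
  refine ⟨lamOps ψ hψ, ?_, ?_⟩
  · intro k hk x
    obtain ⟨k, rfl⟩ : ∃ j, k = j + 1 := ⟨k - 1, by lia⟩
    letI := lamOps ψ hψ
    have hL : lamSeries x = Lser ψ x := rfl
    have hlog : logDerivSeries x = Cser ψ x := by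
      rw [logDerivSeries, hL, Lser_ode, mul_assoc,
        mul_invOfUnit _ _ (by rw [constantCoeff_Lser, Units.val_one]), mul_one]
    rw [adamsOp_succ, c, hlog, Cser, coeff_mk, ← mul_assoc, ← mul_pow]
    simp
  · intro L' hL'
    have key : ∀ x : K, @lamSeries K _ L' x = Lser ψ x := by
      intro x
      letI := L'
      apply ode_unique (Cser ψ x)
      · rw [← logDeriv_mul_lamSeries]
        congr 1
        ext n
        rw [Cser, coeff_mk]
        have := c_eq n x
        rw [c] at this
        rw [this, hL' (n + 1) (by lia)]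
      · exact Lser_ode ψ x
      · rw [constantCoeff_lamSeries, constantCoeff_Lser, Units.val_one]
    have hlam : ∀ n x, L'.lam n x = (lamOps ψ hψ).lam n x := by
      intro n x
      have := congrArg (coeff n) (key x)
      rw [lamSeries, coeff_mk, Lser, coeff_mk] at this
      exact this
    cases L' with
    | mk lam' h0 h1 h2 =>
      have : lam' = (lamOps ψ hψ).lam := funext fun n => funext fun x => hlam n x
      subst this
      rfl

end Groth.Agent.S8702
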