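import Groth.Statements.S8703
import Groth.Agent.Lib27.Adams
-- import your own Groth.Agent.* helpers here

set_option autoImplicit false
universe u
open LambdaRing

namespace Groth.Agent.S8703

/-- The Adams operations commute with λ-homomorphisms, and conversely, if K and K' are pre-λ-rings which
are algebras over the rationals, a ring homomorphism f : K → K' commuting with the ψ^k for all k ≥ 1
is a λ-homomorphism (commutes with all λ^i), the λ^i being expressible through the ψ^k in
characteristic zero. -/
theorem result (K K' : Type u) [CommRing K] [CommRing K']
    [LambdaRing.LambdaOps K] [LambdaRing.LambdaOps K'] [Algebra ℚ K] [Algebra ℚ K'] (f : K →+* K') :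
    LambdaRing.IsLambdaHom f ↔
      ∀ k : ℕ, 1 ≤ k → ∀ x : K, f (LambdaRing.adamsOp k x) = LambdaRing.adamsOp k (f x) := by
  open Groth.Agent.Lib27.Adams LambdaRing.LambdaOps Finset in
  constructor
  · intro hf
    have hc : ∀ (n : ℕ) (x : K), f (c n x) = c n (f x) := by
      intro n
      induction n using Nat.strong_induction_on with
      | _ n ih =>
        intro x
        rw [c_rec, c_rec, map_sub, map_mul, map_add, map_natCast, map_one, hf, map_sum]
        congr 1
        apply Finset.sum_congr rfl
        intro i hi
        rw [map_mul, ih i (Finset.mem_range.1 hi), hf]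
    intro k hk x
    obtain ⟨k, rfl⟩ : ∃ j, k = j + 1 := ⟨k - 1, by lia⟩
    rw [adamsOp_succ, adamsOp_succ, map_mul, map_pow, map_neg, map_one, hc]
  · intro hψ
    have hc : ∀ (n : ℕ) (x : K), f (c n x) = c n (f x) := by
      intro n x
      rw [c_eq, c_eq, map_mul, map_pow, map_neg, map_one, hψ (n + 1) (by lia)]
    intro n
    induction n using Nat.strong_induction_on with
    | _ n ih =>
      intro x
      rcases n with _ | n
      · rw [lam_zero, lam_zero, map_one]
      · have h1 := congrArg f (newton n x)
        rw [map_mul, map_add, map_natCast, map_one, map_sum] at h1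
        have h2 : ∑ p ∈ antidiagonal n, f (c p.1 x * lam p.2 x) =
            ∑ p ∈ antidiagonal n, c p.1 (f x) * lam p.2 (f x) := by
          apply Finset.sum_congr rfl
          intro p hp
          have hp2 : p.2 < n + 1 := by
            have := Finset.mem_antidiagonal.1 hp
            lia
          rw [map_mul, hc, ih p.2 hp2]
        rw [h2, ← newton n (f x)] at h1
        have hu : IsUnit ((n : K') + 1) := by
          have : ((n : K') + 1) = algebraMap ℚ K' ((n : ℚ) + 1) := by
            rw [map_add, map_natCast, map_one]
          rw [this]
          apply IsUnit.map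
          exact (isUnit_iff_ne_zero.2 (by positivity))
        exact hu.mul_left_injective h1

end Groth.Agent.S8703
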