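import Groth.Statements.S8705
import Mathlib

set_option autoImplicit false
universe u
open SGA7

namespace Groth.Agent.S8705


structure SymCocycle (P S : Type u) [AddCommGroup P] [AddCommGroup S] where
  c : P → P → S
  symm : ∀ p q, c p q = c q p
  coc : ∀ p q r, c (p + q) r - c p (q + r) + c p q - c q r = 0

namespace SymCocycle

variable {P S : Type u} [AddCommGroup P] [AddCommGroup S] (C : SymCocycle P S)

@[ext] structure Ext (C : SymCocycle P S) where
  s : S
  p : P

theorem c_zero_left (q : P) : C.c 0 q = C.c 0 0 := by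
  have := C.coc 0 0 q
  simp only [add_zero, zero_add] at this
  have h : C.c 0 0 - C.c 0 q = 0 := by
    rw [← this]; abel
  exact (sub_eq_zero.mp h).symm

theorem c_zero_right (q : P) : C.c q 0 = C.c 0 0 := by
  rw [C.symm, c_zero_left]

instance : Add C.Ext := ⟨fun x y => ⟨x.s + y.s + C.c x.p y.p, x.p + y.p⟩⟩
instance : Zero C.Ext := ⟨⟨- C.c 0 0, 0⟩⟩
instance : Neg C.Ext := ⟨fun x => ⟨-x.s - C.c x.p (-x.p) - C.c 0 0, -x.p⟩⟩

theorem add_s (x y : C.Ext) : (x + y).s = x.s + y.s + C.c x.p y.p := rfl
theorem add_p (x y : C.Ext) : (x + y).p = x.p + y.p := rfl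
theorem zero_s : (0 : C.Ext).s = - C.c 0 0 := rfl
theorem zero_p : (0 : C.Ext).p = 0 := rfl
theorem neg_s (x : C.Ext) : (-x).s = -x.s - C.c x.p (-x.p) - C.c 0 0 := rfl
theorem neg_p (x : C.Ext) : (-x).p = -x.p := rfl

instance : AddCommGroup C.Ext where
  add_assoc x y z := by
    ext
    · simp only [add_s, add_p]
      have := C.coc x.p y.p z.p
      have h : C.c x.p y.p + C.c (x.p + y.p) z.p = C.c y.p z.p + C.c x.p (y.p + z.p) := by
        rw [← sub_eq_zero, ← this]; abel
      calc x.s + y.s + C.c x.p y.p + z.s + C.c (x.p + y.p) z.p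
          = x.s + y.s + z.s + (C.c x.p y.p + C.c (x.p + y.p) z.p) := by abel
        _ = x.s + y.s + z.s + (C.c y.p z.p + C.c x.p (y.p + z.p)) := by rw [h]
        _ = _ := by abel
    · simp only [add_p, add_assoc]
  zero_add x := by
    ext
    · simp only [add_s, zero_s, zero_p, c_zero_left]; abel
    · simp only [add_p, zero_p, zero_add]
  add_zero x := by
    ext
    · simp only [add_s, zero_s, zero_p, c_zero_right]; abel
    · simp only [add_p, zero_p, add_zero]
  nsmul := nsmulRec
  zsmul := zsmulRec
  neg_add_cancel x := by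
    ext
    · simp only [add_s, neg_s, neg_p, zero_s]
      rw [C.symm (-x.p) x.p]; abel
    · simp only [add_p, neg_p, zero_p, neg_add_cancel]
  add_comm x y := by
    ext
    · simp only [add_s]; rw [C.symm x.p y.p]; abel
    · simp only [add_p, add_comm]

def ι : S →+ C.Ext where
  toFun s := ⟨s - C.c 0 0, 0⟩
  map_zero' := by
    ext
    · simp only [zero_s, zero_sub]
    · simp only [zero_p]
  map_add' s t := by
    ext
    · simp only [add_s]; abel
    · simp only [add_p, add_zero]

theorem ι_injective : Function.Injective C.ι := by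
  intro s t h
  have := congrArg Ext.s h
  simpa [ι] using this

def pt (p : P) : C.Ext := ⟨0, p⟩

theorem pt_add_pt (p q : P) : C.pt p + C.pt q = C.ι (C.c p q) + C.pt (p + q) := by
  ext
  · simp only [add_s, pt, ι, AddMonoidHom.coe_mk, ZeroHom.coe_mk, c_zero_left]; abel
  · simp only [add_p, pt, ι, AddMonoidHom.coe_mk, ZeroHom.coe_mk, zero_add]

end SymCocycle

open Finsupp

variable (P : Type u) [AddCommGroup P]

noncomputable def eps : (P →₀ ℤ) →ₗ[ℤ] P := Finsupp.linearCombination ℤ (fun p : P => p)
noncomputable def d0 : (P × P →₀ ℤ) →ₗ[ℤ] (P →₀ ℤ) := Finsupp.linearCombination ℤ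
      (fun pq : P × P => Finsupp.single (pq.1 + pq.2) 1 - Finsupp.single pq.1 1 - Finsupp.single pq.2 1)
noncomputable def d1 : (P × P × P →₀ ℤ) →ₗ[ℤ] (P × P →₀ ℤ) := Finsupp.linearCombination ℤ
      (fun t : P × P × P => Finsupp.single (t.1 + t.2.1, t.2.2) 1 - Finsupp.single (t.1, t.2.1 + t.2.2) 1
        + Finsupp.single (t.1, t.2.1) 1 - Finsupp.single (t.2.1, t.2.2) 1)
noncomputable def d1' : (P × P →₀ ℤ) →ₗ[ℤ] (P × P →₀ ℤ) := Finsupp.linearCombination ℤ
      (fun pq : P × P => Finsupp.single pq 1 - Finsupp.single (pq.2, pq.1) 1)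

variable {P}

theorem eps_single (p : P) : eps P (single p 1) = p := by
  simp [eps, Finsupp.linearCombination_single]

theorem d0_single (p q : P) : d0 P (single (p, q) 1) = single (p + q) 1 - single p 1 - single q 1 := by
  simp [d0, Finsupp.linearCombination_single]

theorem d1_single (p q r : P) : d1 P (single (p, q, r) 1) =
    single (p + q, r) 1 - single (p, q + r) 1 + single (p, q) 1 - single (q, r) 1 := by
  simp [d1, Finsupp.linearCombination_single]

theorem d1'_single (p q : P) : d1' P (single (p, q) 1) = single (p, q) 1 - single (q, p) 1 := by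
  simp [d1', Finsupp.linearCombination_single]

theorem eps_surjective : Function.Surjective (eps P) := fun p => ⟨single p 1, eps_single p⟩

theorem eps_comp_d0 : eps P ∘ₗ d0 P = 0 := by
  apply Finsupp.lhom_ext'
  rintro ⟨p, q⟩
  apply LinearMap.ext_ring
  simp [d0_single, eps_single]

theorem d0_comp_d1 : d0 P ∘ₗ d1 P = 0 := by
  apply Finsupp.lhom_ext'
  rintro ⟨p, q, r⟩
  apply LinearMap.ext_ring
  simp only [LinearMap.coe_comp, Function.comp_apply, lsingle_apply, d1_single, map_sub, map_add,
    d0_single, LinearMap.zero_apply, add_assoc]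
  abel

theorem d0_comp_d1' : d0 P ∘ₗ d1' P = 0 := by
  apply Finsupp.lhom_ext'
  rintro ⟨p, q⟩
  apply LinearMap.ext_ring
  simp only [LinearMap.coe_comp, Function.comp_apply, lsingle_apply, d1'_single, map_sub,
    d0_single, LinearMap.zero_apply, add_comm q p]
  abel

theorem ker_eps : LinearMap.ker (eps P) = LinearMap.range (d0 P) := by
  apply le_antisymm
  · intro x hx
    let Q := (P →₀ ℤ) ⧸ LinearMap.range (d0 P)
    let π : (P →₀ ℤ) →ₗ[ℤ] Q := (LinearMap.range (d0 P)).mkQ
    have hπ0 : ∀ y, π y = 0 ↔ y ∈ LinearMap.range (d0 P) := fun y =>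
      Submodule.Quotient.mk_eq_zero _
    have hadd : ∀ a b : P, π (single (a + b) 1) = π (single a 1) + π (single b 1) := by
      intro a b
      have h1 : single (a + b) 1 - single a 1 - single b 1 ∈ LinearMap.range (d0 P) :=
        ⟨single (a, b) 1, d0_single a b⟩
      have h2 : π (single (a + b) 1 - single a 1 - single b 1) = 0 := (hπ0 _).mpr h1
      rw [map_sub, map_sub, sub_sub, sub_eq_zero] at h2
      exact h2
    let φ : P →+ Q := AddMonoidHom.mk' (fun p => π (single p 1)) hadd
    have hπ : π = φ.toIntLinearMap ∘ₗ eps P := by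
      apply Finsupp.lhom_ext'
      intro a
      apply LinearMap.ext_ring
      simp [eps_single, φ]
    have hx' : π x = 0 := by
      rw [hπ, LinearMap.comp_apply, LinearMap.mem_ker.mp hx, map_zero]
    exact (hπ0 _).mp hx'
  · rw [LinearMap.range_le_ker_iff]
    exact eps_comp_d0

theorem ker_d0 : LinearMap.ker (d0 P) = LinearMap.range (d1 P) ⊔ LinearMap.range (d1' P) := by
  apply le_antisymm
  · intro x hx
    let N : Submodule ℤ (P × P →₀ ℤ) := LinearMap.range (d1 P) ⊔ LinearMap.range (d1' P)
    let S := (P × P →₀ ℤ) ⧸ N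
    let π : (P × P →₀ ℤ) →ₗ[ℤ] S := N.mkQ
    have hπ0 : ∀ y, π y = 0 ↔ y ∈ N := fun y => Submodule.Quotient.mk_eq_zero _
    let C : SymCocycle P S :=
      { c := fun p q => π (single (p, q) 1)
        symm := by
          intro p q
          have h1 : single (p, q) 1 - single (q, p) 1 ∈ N :=
            (le_sup_right : LinearMap.range (d1' P) ≤ N) ⟨single (p, q) 1, d1'_single p q⟩
          have h2 : π (single (p, q) 1 - single (q, p) 1) = 0 := (hπ0 _).mpr h1
          rw [map_sub, sub_eq_zero] at h2
          exact h2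
        coc := by
          intro p q r
          have h1 : single (p + q, r) 1 - single (p, q + r) 1 + single (p, q) 1 - single (q, r) 1 ∈ N :=
            (le_sup_left : LinearMap.range (d1 P) ≤ N) ⟨single (p, q, r) 1, d1_single p q r⟩
          have h2 : π (single (p + q, r) 1 - single (p, q + r) 1 + single (p, q) 1
              - single (q, r) 1) = 0 := (hπ0 _).mpr h1
          simpa only [map_sub, map_add] using h2 }
    let ψ : (P →₀ ℤ) →+ C.Ext := Finsupp.liftAddHom (fun p => zmultiplesHom C.Ext (C.pt p))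
    have hψ : ∀ p : P, ψ (single p 1) = C.pt p := by
      intro p
      simp [ψ]
    have key : ψ.comp (d0 P).toAddMonoidHom = (-C.ι).comp π.toAddMonoidHom := by
      apply Finsupp.addHom_ext'
      rintro ⟨p, q⟩
      apply AddMonoidHom.ext_int
      simp only [AddMonoidHom.coe_comp, Function.comp_apply, singleAddHom_apply,
        LinearMap.toAddMonoidHom_coe, d0_single, map_sub, hψ, AddMonoidHom.neg_apply]
      have := C.pt_add_pt p q
      have h3 : C.ι (π (single (p, q) 1)) = C.pt p + C.pt q - C.pt (p + q) := by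
        rw [this]; abel
      rw [h3]; abel
    have h4 := DFunLike.congr_fun key x
    simp only [AddMonoidHom.coe_comp, Function.comp_apply, LinearMap.toAddMonoidHom_coe,
      LinearMap.mem_ker.mp hx, map_zero, AddMonoidHom.neg_apply] at h4
    have h5 : C.ι (π x) = 0 := by
      rw [← neg_eq_zero]; exact h4.symm
    have h6 : π x = 0 := C.ι_injective (by rw [h5, map_zero])
    exact (hπ0 _).mp h6
  · rw [sup_le_iff, LinearMap.range_le_ker_iff, LinearMap.range_le_ker_iff]
    exact ⟨d0_comp_d1, d0_comp_d1'⟩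

/-- In the case of the punctual topos (ordinary abelian groups): let P be an abelian group and consider
the complex of free abelian groups Z[P × P × P] ⊕ Z[P × P] → Z[P × P] → Z[P], augmented to P by [p]
↦ p, with d₀[p, q] = [p + q] − [p] − [q], with d₁ on the first summand given by [p, q, r] ↦ [p + q,
r] − [p, q + r] + [p, q] − [q, r] and on the second summand by [p, q] ↦ [p, q] − [q, p]. Then the
augmentation is surjective with kernel the image of d₀ (so H₀ is P), and the kernel of d₀ is the sum
of the images of the two components of d₁ (so H₁ vanishes). (The published statement is for abelian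
sheaves on an arbitrary topos; this row is its case of a one-point space.) -/
theorem result (P : Type u) [AddCommGroup P] :
    letI ε : (P →₀ ℤ) →ₗ[ℤ] P := Finsupp.linearCombination ℤ (fun p : P => p)
    letI d₀ : (P × P →₀ ℤ) →ₗ[ℤ] (P →₀ ℤ) := Finsupp.linearCombination ℤ
      (fun pq : P × P => Finsupp.single (pq.1 + pq.2) 1 - Finsupp.single pq.1 1 - Finsupp.single pq.2 1)
    letI d₁ : (P × P × P →₀ ℤ) →ₗ[ℤ] (P × P →₀ ℤ) := Finsupp.linearCombination ℤ
      (fun t : P × P × P => Finsupp.single (t.1 + t.2.1, t.2.2) 1 - Finsupp.single (t.1, t.2.1 + t.2.2) 1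
        + Finsupp.single (t.1, t.2.1) 1 - Finsupp.single (t.2.1, t.2.2) 1)
    letI d₁' : (P × P →₀ ℤ) →ₗ[ℤ] (P × P →₀ ℤ) := Finsupp.linearCombination ℤ
      (fun pq : P × P => Finsupp.single pq 1 - Finsupp.single (pq.2, pq.1) 1)
    Function.Surjective ε ∧ LinearMap.ker ε = LinearMap.range d₀ ∧
      LinearMap.ker d₀ = LinearMap.range d₁ ⊔ LinearMap.range d₁' := by
  exact ⟨eps_surjective, ker_eps, ker_d0⟩

end Groth.Agent.S8705
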