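import Groth.Statements.S8709
import Mathlib
import Groth.Agent.Lib.Helper26.UnitProdD
import Groth.Agent.Lib.Helper7.GmLaw

set_option autoImplicit false
universe u
open CategoryTheory CategoryTheory.Limits MonoidalCategory CartesianMonoidalCategory MonObj AlgebraicGeometry
open SGA7

namespace Groth.Agent.S8709

/-- Let k be a field and X, Y two k-schemes of finite type which are geometrically reduced and
geometrically connected, with rational points e_X and e_Y. Then every k-morphism u from X ×_k Y to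
the multiplicative group whose restrictions to X × e_Y and to e_X × Y are trivial is trivial.
(Morphisms to the multiplicative group over k form a group; trivial means equal to its unit
element.) -/
theorem result (k : Type u) [Field k]
    (X Y : Over (Spec (CommRingCat.of k)))
    [LocallyOfFiniteType X.hom] [QuasiCompact X.hom] [GeometricallyReduced X.hom] [GeometricallyConnected X.hom]
    [LocallyOfFiniteType Y.hom] [QuasiCompact Y.hom] [GeometricallyReduced Y.hom] [GeometricallyConnected Y.hom]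
    (eX : 𝟙_ (Over (Spec (CommRingCat.of k))) ⟶ X) (eY : 𝟙_ (Over (Spec (CommRingCat.of k))) ⟶ Y)
    (u : X ⊗ Y ⟶ Red.Gm (Spec (CommRingCat.of k)))
    (huX : lift (𝟙 X) (toUnit X ≫ eY) ≫ u = 1) (huY : lift (toUnit Y ≫ eX) (𝟙 Y) ≫ u = 1) :
    u = 1 := by
  apply Groth.Agent.Lib.Helper7.GmLaw.gm_ext
  rw [Groth.Agent.Lib.Helper21.GaPts.dsFn_one]
  have hP : IsPullback (fst X Y).left (snd X Y).left X.hom Y.hom :=
    IsPullback.of_hasPullback X.hom Y.hom
  have hX : (lift (𝟙 X) (toUnit X ≫ eY)).left.appTop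
      (Groth.Agent.Lib.Helper21.GaPts.dsFn (1 : ℤ) u) = 1 := by
    rw [← Groth.Agent.Lib.Helper21.GaPts.dsFn_comp, huX, Groth.Agent.Lib.Helper21.GaPts.dsFn_one]
  have hY : (lift (toUnit Y ≫ eX) (𝟙 Y)).left.appTop
      (Groth.Agent.Lib.Helper21.GaPts.dsFn (1 : ℤ) u) = 1 := by
    rw [← Groth.Agent.Lib.Helper21.GaPts.dsFn_comp, huY, Groth.Agent.Lib.Helper21.GaPts.dsFn_one]
  have h1 : (lift (𝟙 X) (toUnit X ≫ eY)).left ≫ (fst X Y).left = 𝟙 X.left := by
    rw [← Over.comp_left, lift_fst]; rfl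
  have h2 : (lift (𝟙 X) (toUnit X ≫ eY)).left ≫ (snd X Y).left = X.hom ≫ eY.left := by
    rw [← Over.comp_left, lift_snd]; rfl
  have h3 : (lift (toUnit Y ≫ eX) (𝟙 Y)).left ≫ (fst X Y).left = Y.hom ≫ eX.left := by
    rw [← Over.comp_left, lift_fst]; rfl
  have h4 : (lift (toUnit Y ≫ eX) (𝟙 Y)).left ≫ (snd X Y).left = 𝟙 Y.left := by
    rw [← Over.comp_left, lift_snd]; rfl
  have hmul : Groth.Agent.Lib.Helper21.GaPts.dsFn (1 : ℤ) u *
      Groth.Agent.Lib.Helper21.GaPts.dsFn (-1 : ℤ) u = 1 := by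
    rw [mul_comm]; exact Groth.Agent.Lib.Helper21.GaPts.dsFn_neg_mul (1 : ℤ) u
  exact Groth.Agent.Lib.Helper26.UnitProdD.main (AlgebraicClosure k) X.hom Y.hom
    (fst X Y).left (snd X Y).left hP eX.left (Over.w eX) eY.left (Over.w eY)
    (lift (𝟙 X) (toUnit X ≫ eY)).left h1 h2 (lift (toUnit Y ≫ eX) (𝟙 Y)).left h3 h4
    (Groth.Agent.Lib.Helper21.GaPts.dsFn (1 : ℤ) u) (Groth.Agent.Lib.Helper21.GaPts.dsFn (-1 : ℤ) u)
    hmul hX hY

end Groth.Agent.S8709
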