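import Groth.Statements.S8710
import Groth.Agent.Lib.Helper4.TorLES

set_option autoImplicit false
universe u
open CategoryTheory CategoryTheory.Limits
open SGA7

namespace Groth.Agent.S8710

open Groth.Agent.Lib.Helper4

theorem result (R B' B C S : Type u) [CommRing R] [CommRing B'] [CommRing B]
    [CommRing C] [CommRing S] [Algebra R B'] [Algebra R B] [Algebra R C] [Algebra R S]
    (f : B' →ₐ[R] B) (hf : Function.Surjective f) (g : C →ₐ[R] B) [Module.Flat R B'] (n : ℕ)
    (hC : ∀ i : ℕ, 0 < i → i < n →
      IsZero (((Tor (ModuleCat.{u} R) i).obj (ModuleCat.of R C)).obj (ModuleCat.of R S)))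
    (hB : ∀ i : ℕ, 0 < i → i ≤ n →
      IsZero (((Tor (ModuleCat.{u} R) i).obj (ModuleCat.of R B)).obj (ModuleCat.of R S))) :
    letI P := AlgHom.equalizer (f.comp (AlgHom.fst R B' C)) (g.comp (AlgHom.snd R B' C))
    ∀ i : ℕ, 0 < i → i < n →
      IsZero (((Tor (ModuleCat.{u} R) i).obj (ModuleCat.of R ↥P)).obj (ModuleCat.of R S)) := by
  intro i hi hin
  let P := AlgHom.equalizer (f.comp (AlgHom.fst R B' C)) (g.comp (AlgHom.snd R B' C))
  let K : Submodule R B' := LinearMap.ker f.toLinearMap
  -- first sequence
  let T₁ : ShortComplex (ModuleCat.{u} R) :=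
    ModuleCat.shortComplexOfCompEqZero K.subtype f.toLinearMap (by
      ext x
      exact x.2)
  have hT₁ : T₁.ShortExact := by
    refine ModuleCat.shortComplex_shortExact T₁ ?_ (Submodule.injective_subtype K) hf
    intro x
    constructor
    · intro hx
      exact ⟨⟨x, hx⟩, rfl⟩
    · rintro ⟨y, rfl⟩
      exact y.2
  have hK : IsZero (((Tor (ModuleCat.{u} R) i).obj (ModuleCat.of R K)).obj (ModuleCat.of R S)) := by
    refine isZero_tor_X₁ T₁ hT₁ (ModuleCat.of R S) i (hB (i + 1) (by omega) (by omega)) ?_
    exact isZero_tor_of_flat (ModuleCat.of R B') (ModuleCat.of R S) i hi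
  -- second sequence
  let ι : K →ₗ[R] P :=
    { toFun := fun k => ⟨((k : B'), (0 : C)), by
        change f k.1 = g 0
        rw [map_zero]
        exact k.2⟩
      map_add' := fun x y => by
        apply Subtype.ext
        simp
      map_smul' := fun r x => by
        apply Subtype.ext
        simp }
  let π : P →ₗ[R] C := (LinearMap.snd R B' C).comp P.val.toLinearMap
  let T₂ : ShortComplex (ModuleCat.{u} R) :=
    ModuleCat.shortComplexOfCompEqZero ι π (by
      ext x
      rfl)
  have hT₂ : T₂.ShortExact := by
    refine ModuleCat.shortComplex_shortExact T₂ ?_ ?_ ?_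
    · intro x
      constructor
      · intro hx
        have hx2 : (x : B' × C).2 = 0 := hx
        have hx1 : f (x : B' × C).1 = 0 := by
          have := x.2
          change f (x : B' × C).1 = g (x : B' × C).2 at this
          rw [this, hx2, map_zero]
        refine ⟨⟨(x : B' × C).1, hx1⟩, ?_⟩
        apply Subtype.ext
        apply Prod.ext
        · rfl
        · exact hx2.symm
      · rintro ⟨y, rfl⟩
        rfl
    · intro x y hxy
      apply Subtype.ext
      have := congrArg (fun z : P => (z : B' × C).1) hxy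
      exact this
    · intro c
      obtain ⟨b', hb'⟩ := hf (g c)
      exact ⟨⟨(b', c), hb'⟩, rfl⟩
  exact isZero_tor_X₂ T₂ hT₂ (ModuleCat.of R S) i hK (hC i hi hin)

end Groth.Agent.S8710
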