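import Groth.Statements.S8719
import Mathlib

set_option autoImplicit false
universe u
open VanCyc

namespace Groth.Agent.S8719


section Div
open MvPowerSeries
variable {k : Type u} [CommRing k] {N : ℕ}

/-- the `i`-th quotient in the division by the variables: keeps monomials `d` such that
`d + e_i` has least support index `i`. -/
noncomputable def divPart (i : Fin N) (h : MvPowerSeries (Fin N) k) : MvPowerSeries (Fin N) k :=
  fun d => if ∀ j < i, d j = 0 then coeff (d + Finsupp.single i 1) h else 0

theorem coeff_divPart (i : Fin N) (h : MvPowerSeries (Fin N) k) (d : Fin N →₀ ℕ) :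
    coeff d (divPart i h) = if ∀ j < i, d j = 0 then coeff (d + Finsupp.single i 1) h else 0 := rfl

theorem coeff_X_mul_divPart (i : Fin N) (h : MvPowerSeries (Fin N) k) (e : Fin N →₀ ℕ) :
    coeff e (X i * divPart i h) = if (1 ≤ e i ∧ ∀ j < i, e j = 0) then coeff e h else 0 := by
  rw [X_def, coeff_monomial_mul, coeff_divPart]
  by_cases h1 : Finsupp.single i 1 ≤ e
  · have h1' : 1 ≤ e i := by simpa using h1 i
    have h2 : e - Finsupp.single i 1 + Finsupp.single i 1 = e := tsub_add_cancel_of_le h1
    have h3 : (∀ j < i, (e - Finsupp.single i 1 : Fin N →₀ ℕ) j = 0) ↔ ∀ j < i, e j = 0 := by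
      refine forall₂_congr (fun j hj => ?_)
      rw [Finsupp.tsub_apply, Finsupp.single_eq_of_ne (ne_of_gt hj).symm, Nat.sub_zero]
    rw [if_pos h1, h2, one_mul]
    simp only [h3, h1', true_and]
  · have h1' : ¬ 1 ≤ e i := by
      intro hh
      apply h1
      intro j
      by_cases hj : j = i
      · subst hj; simpa using hh
      · rw [Finsupp.single_eq_of_ne hj]; exact Nat.zero_le _
    rw [if_neg h1, if_neg (fun hh => h1' hh.1)]

theorem sum_X_mul_divPart (h : MvPowerSeries (Fin N) k) (h0 : constantCoeff h = 0) :
    h = ∑ i : Fin N, X i * divPart i h := by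
  ext e
  rw [map_sum]
  simp only [coeff_X_mul_divPart]
  by_cases he : e = 0
  · subst he
    rw [coeff_zero_eq_constantCoeff_apply, h0]
    symm
    apply Finset.sum_eq_zero
    intro i _
    rw [if_neg]
    simp
  · have hne : e.support.Nonempty := Finsupp.support_nonempty_iff.mpr he
    set i₀ := e.support.min' hne with hi₀
    have hi₀mem : i₀ ∈ e.support := Finset.min'_mem _ _
    rw [Finset.sum_eq_single i₀]
    · rw [if_pos]
      refine ⟨Nat.one_le_iff_ne_zero.mpr (Finsupp.mem_support_iff.mp hi₀mem), fun j hj => ?_⟩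
      by_contra hne'
      have : j ∈ e.support := Finsupp.mem_support_iff.mpr hne'
      exact absurd (Finset.min'_le _ _ this) (not_le.mpr hj)
    · intro i _ hi
      rw [if_neg]
      rintro ⟨h1, h2⟩
      have himem : i ∈ e.support := Finsupp.mem_support_iff.mpr (by omega)
      have hle : i₀ ≤ i := Finset.min'_le _ _ himem
      have hlt : i₀ < i := lt_of_le_of_ne hle (Ne.symm hi)
      exact (Finsupp.mem_support_iff.mp hi₀mem) (h2 i₀ hlt)
    · intro hh; exact absurd (Finset.mem_univ _) hh

theorem constantCoeff_divPart (i : Fin N) (h : MvPowerSeries (Fin N) k) :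
    constantCoeff (divPart i h) = coeff (Finsupp.single i 1) h := by
  rw [← coeff_zero_eq_constantCoeff_apply, coeff_divPart, if_pos (by simp), zero_add]


end Div

section Main
open MvPowerSeries
open VanCyc

theorem mem_maximalIdeal_iff {k : Type u} [Field k] {N : ℕ} (g : MvPowerSeries (Fin N) k) :
    g ∈ IsLocalRing.maximalIdeal (MvPowerSeries (Fin N) k) ↔ constantCoeff g = 0 := by
  rw [IsLocalRing.mem_maximalIdeal, mem_nonunits_iff, MvPowerSeries.isUnit_iff_constantCoeff,
    isUnit_iff_ne_zero, not_not]

theorem mem_sq_of_noLow {k : Type u} [Field k] {N : ℕ} (h : MvPowerSeries (Fin N) k)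
    (h0 : constantCoeff h = 0) (h1 : ∀ i, coeff (Finsupp.single i 1) h = 0) :
    h ∈ IsLocalRing.maximalIdeal (MvPowerSeries (Fin N) k) *
      IsLocalRing.maximalIdeal (MvPowerSeries (Fin N) k) := by
  rw [sum_X_mul_divPart h h0]
  refine Ideal.sum_mem _ (fun i _ => Ideal.mul_mem_mul ?_ ?_)
  · rw [mem_maximalIdeal_iff]; exact constantCoeff_X i
  · rw [mem_maximalIdeal_iff, constantCoeff_divPart]; exact h1 i

theorem coeff_single_pderiv {k : Type u} [Field k] {N : ℕ} (f : MvPowerSeries (Fin N) k) (i j : Fin N) :
    coeff (Finsupp.single j 1) (MvPowerSeries.pderiv k i f) = polarMatrix (quadPart f) i j := by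
  rw [coeff_pderiv]
  unfold polarMatrix quadPart
  by_cases hij : i = j
  · subst hij
    simp only [if_true, Finsupp.single_eq_same]
    rw [← Finsupp.single_add]
    norm_num
    ring
  · have hji : ¬ j = i := fun h => hij h.symm
    rw [if_neg hij, Finsupp.single_eq_of_ne hij]
    by_cases hlt : i < j
    · rw [if_pos hlt, if_neg hij, if_pos hlt, add_comm]
      simp
    · have hlt' : j < i := lt_of_le_of_ne (not_lt.mp hlt) hji
      rw [if_neg hlt, if_neg hji, if_pos hlt']
      simp

theorem result' (k : Type u) [Field k] (n : ℕ)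
    (f : MvPowerSeries (Fin (n + 1)) k) (hf : VanCyc.NondegQuadSeries f) :
    Ideal.span (Set.range fun i : Fin (n + 1) => MvPowerSeries.pderiv k i f) =
      IsLocalRing.maximalIdeal (MvPowerSeries (Fin (n + 1)) k) := by
  obtain ⟨⟨hf0, hf1⟩, hdet⟩ := hf
  set 𝔪 := IsLocalRing.maximalIdeal (MvPowerSeries (Fin (n + 1)) k) with h𝔪
  set J := Ideal.span (Set.range fun i : Fin (n + 1) => MvPowerSeries.pderiv k i f) with hJ
  set B := polarMatrix (quadPart f) with hB
  apply le_antisymm
  · rw [hJ, Ideal.span_le]
    rintro _ ⟨i, rfl⟩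
    show _ ∈ 𝔪
    rw [mem_maximalIdeal_iff, ← coeff_zero_eq_constantCoeff_apply, coeff_pderiv, zero_add, hf1 i,
      zero_mul]
  · refine Submodule.le_of_le_smul_of_le_jacobson_bot (I := 𝔪) (IsNoetherian.noetherian 𝔪)
      (IsLocalRing.jacobson_eq_maximalIdeal ⊥ bot_ne_top).ge ?_
    intro g hg
    rw [mem_maximalIdeal_iff] at hg
    set c : Fin (n + 1) → k := fun j => coeff (Finsupp.single j 1) g with hc
    set lam : Fin (n + 1) → k := Matrix.vecMul c B⁻¹ with hlam
    have hlamB : Matrix.vecMul lam B = c := by
      rw [hlam, Matrix.vecMul_vecMul, Matrix.nonsing_inv_mul _ hdet, Matrix.vecMul_one]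
    set s : MvPowerSeries (Fin (n + 1)) k := ∑ i, C (lam i) * MvPowerSeries.pderiv k i f with hs
    have hsJ : s ∈ J := by
      refine Ideal.sum_mem _ (fun i _ => Ideal.mul_mem_left _ _ (Ideal.subset_span ⟨i, rfl⟩))
    have hh : g - s ∈ 𝔪 * 𝔪 := by
      apply mem_sq_of_noLow
      · rw [map_sub, hg, hs, map_sum, zero_sub, neg_eq_zero]
        apply Finset.sum_eq_zero
        intro i _
        rw [map_mul, ← coeff_zero_eq_constantCoeff_apply (MvPowerSeries.pderiv k i f), coeff_pderiv,
          zero_add, hf1 i, zero_mul, mul_zero]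
      · intro j
        rw [map_sub, hs, map_sum]
        simp only [coeff_C_mul, coeff_single_pderiv]
        have := congrFun hlamB j
        simp only [Matrix.vecMul, dotProduct] at this
        rw [this]
        simp [hc]
    have : g = s + (g - s) := by ring
    rw [this]
    exact Submodule.add_mem_sup hsJ (by rwa [smul_eq_mul])


end Main

/-- The formal computation carried out in its proof: let k be a field and f a power series in k[[x_0,
..., x_n]] with vanishing constant and linear terms whose degree-two part is a non-degenerate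
quadratic form (the Gram determinant of its polar bilinear form is a unit). Then the partial
derivatives of f generate the maximal ideal of k[[x_0, ..., x_n]] (so f together with its partial
derivatives cut out the origin with multiplicity one). -/
theorem result (k : Type u) [Field k] (n : ℕ)
    (f : MvPowerSeries (Fin (n + 1)) k) (hf : VanCyc.NondegQuadSeries f) :
    Ideal.span (Set.range fun i : Fin (n + 1) => MvPowerSeries.pderiv k i f) =
      IsLocalRing.maximalIdeal (MvPowerSeries (Fin (n + 1)) k) := by
  exact result' k n f hf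

end Groth.Agent.S8719
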