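import Groth.Statements.S8721
import Groth.Agent.S19233
import Groth.Agent.Lib.Helper9.FrobSepClosedQ

set_option autoImplicit false
universe u v
open SGA7II

namespace Groth.Agent.S8721

open Groth.Agent.Lib.Helper9


/-- Let k be a separably closed field of characteristic p > 0, q = p^r with r >= 1, V a
finite-dimensional k-vector space and phi : V -> V additive with phi(c v) = c^q phi(v). Let V_ss be
the intersection, over n >= 1, of the k-subspaces spanned by the images of the iterates phi^n (the
semisimple part of V). Then V_ss has a k-basis consisting of phi-fixed vectors, and every phi-fixed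
vector of V is a linear combination of this basis with coefficients c satisfying c^q = c; that is,
V_ss is obtained from the F_q-space of fixed vectors by extension of scalars. -/
theorem result (k : Type u) [Field k] [IsSepClosed k] (p : ℕ)
    [Fact p.Prime] [CharP k p] (r : ℕ) (hr : 0 < r) (V : Type v) [AddCommGroup V] [Module k V]
    [FiniteDimensional k V] (φ : V →+ V) (hφ : ∀ (c : k) (v : V), φ (c • v) = c ^ (p ^ r) • φ v) :
    let Vss : Submodule k V := ⨅ n : ℕ, Submodule.span k (Set.range (φ^[n + 1]))
    ∃ b : Module.Basis (Fin (Module.finrank k ↥Vss)) k ↥Vss, (∀ i, φ (b i : V) = (b i : V)) ∧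
      ∀ v : V, φ v = v → ∃ c : Fin (Module.finrank k ↥Vss) → k,
        (∀ i, c i ^ (p ^ r) = c i) ∧ v = ∑ i, c i • (b i : V) := by
  classical
  intro Vss
  let σ : k →+* k := iterateFrobenius k p r
  have hσ : ∀ c : k, σ c = c ^ (p ^ r) := fun c => iterateFrobenius_def p r c
  let W : ℕ → Submodule k V := fun n => Submodule.span k (Set.range (φ^[n]))
  have hVss : Vss = ⨅ n, W (n + 1) := rfl
  -- φ maps W m into W (m+1)
  have hφW : ∀ m (v : V), v ∈ W m → φ v ∈ W (m + 1) := by
    intro m v hv
    induction hv using Submodule.span_induction with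
    | mem x hx =>
      obtain ⟨y, rfl⟩ := hx
      apply Submodule.subset_span
      exact ⟨y, by rw [Function.iterate_succ_apply']⟩
    | zero => rw [map_zero]; exact Submodule.zero_mem _
    | add x y _ _ hx hy => rw [map_add]; exact Submodule.add_mem _ hx hy
    | smul c x _ hx => rw [hφ]; exact Submodule.smul_mem _ _ hx
  -- W is antitone
  have hWanti : ∀ m, W (m + 1) ≤ W m := by
    intro m
    apply Submodule.span_le.2
    rintro _ ⟨y, rfl⟩
    apply Submodule.subset_span
    exact ⟨φ y, by rw [Function.iterate_succ_apply]⟩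
  have hWanti' : Antitone W := antitone_nat_of_succ_le hWanti
  -- stabilisation
  obtain ⟨N, hN⟩ : ∃ N, ∀ m, N ≤ m → W N = W m := by
    have := IsArtinian.monotone_stabilizes (R := k) (M := V)
      ⟨fun n => OrderDual.toDual (W n), fun a b hab => hWanti' hab⟩
    obtain ⟨N, hN⟩ := this
    exact ⟨N, fun m hm => hN m hm⟩
  have hVssN : Vss = W (N + 1) := by
    rw [hVss]
    apply le_antisymm
    · exact iInf_le _ N
    · apply le_iInf
      intro n
      rw [← hN (N + 1) (Nat.le_succ N)]
      by_cases h : N ≤ n + 1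
      · rw [hN (n + 1) h]
      · exact hWanti' (by omega)
  have hW12 : W (N + 1) = W (N + 2) := by
    rw [← hN (N + 1) (Nat.le_succ N), ← hN (N + 2) (by omega)]
  -- φ preserves Vss
  have hφVss : ∀ v ∈ Vss, φ v ∈ Vss := by
    intro v hv
    rw [hVssN] at hv ⊢
    rw [hW12]
    exact hφW _ v hv
  let T : ↥Vss →ₛₗ[σ] ↥Vss :=
    { toFun := fun v => ⟨φ v.1, hφVss v.1 v.2⟩
      map_add' := fun x y => Subtype.ext (by simp)
      map_smul' := fun c x => Subtype.ext (by simp [hφ, hσ]) }
  have hT : ∀ v : ↥Vss, (T v : V) = φ v.1 := fun v => rfl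
  have h1 : Submodule.span k (Set.range ⇑T) = ⊤ := by
    rw [eq_top_iff]
    rintro ⟨v, hv⟩ _
    have hv' : v ∈ W (N + 2) := by rw [← hW12, ← hVssN]; exact hv
    -- general claim: elements of W (N+2) are combinations of T-images
    have key : ∀ w ∈ W (N + 2), ∀ hw : w ∈ Vss,
        (⟨w, hw⟩ : ↥Vss) ∈ Submodule.span k (Set.range ⇑T) := by
      intro w hw
      induction hw using Submodule.span_induction with
      | mem x hx =>
        intro hxV
        obtain ⟨y, rfl⟩ := hx
        apply Submodule.subset_span
        have hy : φ^[N + 1] y ∈ Vss := by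
          rw [hVssN]; exact Submodule.subset_span ⟨y, rfl⟩
        refine ⟨⟨φ^[N + 1] y, hy⟩, Subtype.ext ?_⟩
        rw [hT]
        exact (Function.iterate_succ_apply' φ (N + 1) y).symm
      | zero => intro _; exact Submodule.zero_mem _
      | add x y hx hy ihx ihy =>
        intro hxy
        have hxV : x ∈ Vss := by rw [hVssN, hW12]; exact hx
        have hyV : y ∈ Vss := by rw [hVssN, hW12]; exact hy
        have : (⟨x + y, hxy⟩ : ↥Vss) = ⟨x, hxV⟩ + ⟨y, hyV⟩ := rfl
        rw [this]
        exact Submodule.add_mem _ (ihx hxV) (ihy hyV)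
      | smul c x hx ihx =>
        intro hcx
        have hxV : x ∈ Vss := by rw [hVssN, hW12]; exact hx
        have : (⟨c • x, hcx⟩ : ↥Vss) = c • ⟨x, hxV⟩ := rfl
        rw [this]
        exact Submodule.smul_mem _ _ (ihx hxV)
    exact key v hv' hv
  obtain ⟨⟨b, hb⟩, _⟩ := Groth.Agent.S19233.result k σ ↥Vss T h1
    (FrobSepClosedQ.h2_iterateFrobenius p k r hr) (FrobSepClosedQ.h3_iterateFrobenius p k r hr)
  refine ⟨b, fun i => ?_, fun v hv => ?_⟩
  · have := congrArg Subtype.val (hb i)
    rwa [hT] at this
  · -- v lies in Vss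
    have hiter : ∀ n, φ^[n] v = v := fun n => Function.iterate_fixed hv n
    have hvV : v ∈ Vss := by
      rw [hVss]
      apply (Submodule.mem_iInf _).2
      intro n
      exact Submodule.subset_span ⟨v, hiter (n + 1)⟩
    let c := b.repr ⟨v, hvV⟩
    have hsum : (⟨v, hvV⟩ : ↥Vss) = ∑ i, c i • b i := (b.sum_repr ⟨v, hvV⟩).symm
    have hTv : T ⟨v, hvV⟩ = ⟨v, hvV⟩ := Subtype.ext hv
    have h2 : ∑ i, σ (c i) • b i = ∑ i, c i • b i := by
      rw [← hsum]
      conv_rhs => rw [← hTv, hsum, map_sum]
      exact Finset.sum_congr rfl (fun i _ => by rw [LinearMap.map_smulₛₗ, hb])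
    have h3 : ∀ i, σ (c i) = c i := by
      have hli := b.linearIndependent
      have h4 : ∑ i, (σ (c i) - c i) • b i = 0 := by
        simp only [sub_smul, Finset.sum_sub_distrib, h2, sub_self]
      intro i
      have := Fintype.linearIndependent_iff.1 hli _ h4 i
      exact sub_eq_zero.mp this
    refine ⟨fun i => c i, fun i => by rw [← hσ]; exact h3 i, ?_⟩
    have := congrArg Subtype.val hsum
    simpa using this

end Groth.Agent.S8721
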