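import Groth.Statements.S8724
-- import your own Groth.Agent.* helpers here
import Mathlib.Algebra.Ring.GeomSum
import Mathlib.Data.Nat.Choose.Sum
import Mathlib.Tactic.Ring
import Mathlib.Tactic.LinearCombination

set_option autoImplicit false
open LefPen

namespace Groth.Agent.S8724

open Finset in
theorem reindex1 {M : Type*} [AddCommMonoid M] (b : ℕ) (H : ℕ → ℕ → M) :
    ∑ m ∈ range (b + 1), ∑ i ∈ range m, H i (m - 1 - i) =
      ∑ i ∈ range (b + 1), ∑ j ∈ range (b + 1), if i + j + 1 ≤ b then H i j else 0 := by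
  rw [Finset.sum_sigma', ← Finset.sum_product', ← Finset.sum_filter]
  refine Finset.sum_bij' (fun x _ => (x.2, x.1 - 1 - x.2)) (fun p _ => ⟨p.1 + p.2 + 1, p.1⟩)
    ?_ ?_ ?_ ?_ ?_
  · rintro ⟨m, i⟩ h
    simp only [mem_sigma, mem_range, mem_filter, mem_product] at h ⊢
    omega
  · rintro ⟨i, j⟩ h
    simp only [mem_sigma, mem_range, mem_filter, mem_product] at h ⊢
    omega
  · rintro ⟨m, i⟩ h
    simp only [mem_sigma, mem_range] at h
    simp only [Sigma.mk.injEq, heq_eq_eq, and_true]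
    omega
  · rintro ⟨i, j⟩ h
    simp only [Prod.mk.injEq, true_and]
    omega
  · rintro ⟨m, i⟩ h
    rfl

open Finset in
theorem ident1 {R : Type*} [CommRing R] (y z : R) (b : ℕ) :
    (1 + y) ^ b - (1 + z) ^ b =
      (y - z) * ∑ i ∈ range (b + 1), ∑ j ∈ range (b + 1),
        if i + j + 1 ≤ b then (b.choose (i + j + 1) : R) * y ^ i * z ^ j else 0 := by
  rw [← reindex1 b (fun i j => (b.choose (i + j + 1) : R) * y ^ i * z ^ j)]
  rw [add_comm 1 y, add_comm 1 z, add_pow, add_pow, ← Finset.sum_sub_distrib, Finset.mul_sum]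
  refine Finset.sum_congr rfl fun m hm => ?_
  simp only [one_pow, mul_one]
  rw [← sub_mul, ← geom_sum₂_mul y z m, Finset.mul_sum, Finset.sum_mul, Finset.sum_mul]
  refine Finset.sum_congr rfl fun i hi => ?_
  have : i + (m - 1 - i) + 1 = m := by
    have := Finset.mem_range.mp hi
    omega
  rw [this]
  ring

open Finset in
theorem ident2 {R : Type*} [CommRing R] (y z : R) (b : ℕ) :
    (1 + y) ^ (b + 1) * z - (1 + z) ^ (b + 1) * y =
      (y - z) * (-1 + ∑ i ∈ range (b + 1 + 1), ∑ j ∈ range (b + 1 + 1),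
        if 1 ≤ i ∧ 1 ≤ j ∧ i + j ≤ b + 1 then ((b + 1).choose (i + j) : R) * y ^ i * z ^ j
        else 0) := by
  have hshift : ∑ i ∈ range (b + 1 + 1), ∑ j ∈ range (b + 1 + 1),
        (if 1 ≤ i ∧ 1 ≤ j ∧ i + j ≤ b + 1 then ((b + 1).choose (i + j) : R) * y ^ i * z ^ j
        else 0) =
      ∑ i ∈ range (b + 1), ∑ j ∈ range (b + 1),
        if i + j + 1 ≤ b then ((b + 1).choose (i + j + 2) : R) * y ^ (i + 1) * z ^ (j + 1)
        else 0 := by
    rw [Finset.sum_range_succ']
    have h0 : ∑ j ∈ range (b + 1 + 1),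
        (if 1 ≤ 0 ∧ 1 ≤ j ∧ 0 + j ≤ b + 1 then ((b + 1).choose (0 + j) : R) * y ^ 0 * z ^ j
        else 0) = 0 := by
      apply Finset.sum_eq_zero
      intro j _
      simp
    rw [h0, add_zero]
    refine Finset.sum_congr rfl fun i _ => ?_
    rw [Finset.sum_range_succ']
    have h1 : (if 1 ≤ i + 1 ∧ 1 ≤ 0 ∧ i + 1 + 0 ≤ b + 1 then
        ((b + 1).choose (i + 1 + 0) : R) * y ^ (i + 1) * z ^ 0 else 0) = 0 := by simp
    rw [h1, add_zero]
    refine Finset.sum_congr rfl fun j _ => ?_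
    have e1 : i + 1 + (j + 1) = i + j + 2 := by ring
    rw [e1]
    by_cases h : i + j + 1 ≤ b
    · rw [if_pos h, if_pos (by omega)]
    · rw [if_neg h, if_neg (by omega)]
  rw [hshift, ← reindex1 b (fun i j => ((b + 1).choose (i + j + 2) : R) * y ^ (i + 1) * z ^ (j + 1))]
  rw [add_comm 1 y, add_comm 1 z, add_pow, add_pow, Finset.sum_mul, Finset.sum_mul,
    ← Finset.sum_sub_distrib, Finset.sum_range_succ', mul_add, Finset.mul_sum,
    add_comm ((y - z) * -1)]
  congr 1
  · refine Finset.sum_congr rfl fun m hm => ?_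
    simp only [one_pow, mul_one]
    have hg := geom_sum₂_mul y z m
    have : y ^ (m + 1) * ((b + 1).choose (m + 1) : R) * z - z ^ (m + 1) * ((b + 1).choose (m + 1) : R) * y
        = ((b + 1).choose (m + 1) : R) * y * z * (y ^ m - z ^ m) := by ring
    rw [this, ← hg, Finset.sum_mul, Finset.mul_sum, Finset.mul_sum]
    refine Finset.sum_congr rfl fun i hi => ?_
    have e2 : i + (m - 1 - i) + 2 = m + 1 := by
      have := Finset.mem_range.mp hi
      omega
    rw [e2]
    ring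
  · simp

/-- The algebraic identity established in its proof: let a >= 1 and work in Z[y, z]. Then (1+y)^(a-1) -
(1+z)^(a-1) = (y - z) * (sum over i, j >= 0 with i + j + 1 <= a - 1 of C(a-1, i+j+1) y^i z^j), and
(1+y)^a z - (1+z)^a y = (y - z) * (-1 + sum over i, j >= 1 with i + j <= a of C(a, i+j) y^i z^j).
Consequently the rational function -((1+y)^(a-1) - (1+z)^(a-1)) / ((1+y)^a z - (1+z)^a y), the
generating series of the primitive middle Hodge numbers of smooth hypersurfaces of degree a, equals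
(sum_{i,j >= 0} C(a-1, i+j+1) y^i z^j) / (1 - sum_{i,j >= 1} C(a, i+j) y^i z^j). -/
theorem result (a : ℕ) (ha : 1 ≤ a) :
    let y : MvPolynomial (Fin 2) ℤ := MvPolynomial.X 0
    let z : MvPolynomial (Fin 2) ℤ := MvPolynomial.X 1
    ((1 + y) ^ (a - 1) - (1 + z) ^ (a - 1) =
      (y - z) * ∑ i ∈ Finset.range a, ∑ j ∈ Finset.range a,
        if i + j + 1 ≤ a - 1 then ((a - 1).choose (i + j + 1) : MvPolynomial (Fin 2) ℤ) * y ^ i * z ^ j else 0) ∧
    ((1 + y) ^ a * z - (1 + z) ^ a * y =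
      (y - z) * (-1 + ∑ i ∈ Finset.range (a + 1), ∑ j ∈ Finset.range (a + 1),
        if 1 ≤ i ∧ 1 ≤ j ∧ i + j ≤ a then (a.choose (i + j) : MvPolynomial (Fin 2) ℤ) * y ^ i * z ^ j else 0)) := by
  obtain ⟨b, rfl⟩ : ∃ b, a = b + 1 := ⟨a - 1, by omega⟩
  intro y z
  refine ⟨?_, ?_⟩
  · have := ident1 y z b
    simpa only [Nat.add_sub_cancel] using this
  · exact ident2 y z b

end Groth.Agent.S8724
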