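import Groth.Statements.S8754
import Groth.Agent.Lib.Lead.PshModInj
import Mathlib.Algebra.Category.ModuleCat.EnoughInjectives

set_option autoImplicit false
universe u
open CategoryTheory Limits
open Adeq

namespace Groth.Agent.S8754

/-- The category of module-valued functors on `A`-algebras has enough injectives (it is a category of
presheaves of modules). -/
theorem result (A : Type u) [CommRing A] : EnoughInjectives (Adeq.MVF A) := by
  have : ∀ X : (Adeq.Alg A)ᵒᵖᵒᵖ, EnoughInjectives (ModuleCat.{u + 1} ((Adeq.ringOf A).obj X)) :=
    fun X => inferInstance
  exact Groth.Agent.Lib.Lead.PshModInj.enoughInjectives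

end Groth.Agent.S8754
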