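import Groth.Statements.S8753
import Groth.Agent.Lib.Lead.AdeqCorefl
import Groth.Agent.S8754
import Mathlib.CategoryTheory.Preadditive.Injective.Basic

set_option autoImplicit false
universe u
open CategoryTheory Limits
open Adeq

namespace Groth.Agent.S8753

/-- The category of adequate functors on `A`-algebras has enough injectives. -/
theorem result (A : Type u) [CommRing A] : EnoughInjectives (Adeq.Adequate A) := by
  haveI : (Adeq.adequate A).ι.IsLeftAdjoint := Groth.Agent.Lib.Lead.AdeqCorefl.isLeftAdjoint_ι
  haveI : EnoughInjectives (Adeq.MVF A) := Groth.Agent.S8754.result A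
  haveI : (Adeq.adequate A).ι.PreservesMonomorphisms := by
    refine ⟨fun {X Y} f hf => ?_⟩
    rw [ObjectProperty.ι_map]
    apply Preadditive.mono_of_kernel_zero
    have hK : Adeq.adequate A (kernel f.hom) :=
      Groth.Agent.Lib.Lead.AdeqKer.adequate_kernel f.hom X.2 Y.2
    let k : (⟨kernel f.hom, hK⟩ : Adeq.Adequate A) ⟶ X := ObjectProperty.homMk (kernel.ι f.hom)
    have hk : k ≫ f = 0 ≫ f := by
      apply ObjectProperty.hom_ext
      rw [ObjectProperty.FullSubcategory.comp_hom, ObjectProperty.FullSubcategory.comp_hom]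
      show kernel.ι f.hom ≫ f.hom = (0 : (⟨kernel f.hom, hK⟩ : Adeq.Adequate A) ⟶ X).hom ≫ f.hom
      rw [kernel.condition]
      exact (zero_comp).symm
    have hk0 : k = 0 := (cancel_mono f).mp hk
    have := congrArg (fun m => m.hom) hk0
    exact this
  exact EnoughInjectives.of_adjunction (Adjunction.ofIsLeftAdjoint (Adeq.adequate A).ι)

end Groth.Agent.S8753
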