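import Groth.Statements.S8756
import Groth.Agent.Lib.Lead.AdeqModInst

set_option autoImplicit false
universe u
open CategoryTheory Limits AlgebraicGeometry
open Adeq

namespace Groth.Agent.S8756

/-- If `M` is an adequate `O`-module on the big Zariski site of a scheme `S`, then for every affine
scheme `Spec R` over `S` the module-valued functor `B ↦ M(Spec B)` on `R`-algebras is adequate. -/
theorem result (S : Scheme.{u}) (M : BigSite.Mod Scheme.zariskiPrecoverage S)
    (hM : Adeq.adequateMod Scheme.zariskiPrecoverage S M) (R : CommRingCat.{u}) (a : Spec R ⟶ S) :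
    Adeq.adequate R ((Adeq.toMVF Scheme.zariskiPrecoverage a).obj M) := by
  exact Groth.Agent.Lib.Lead.AdeqModMain.adequate_toMVF Scheme.zariskiPrecoverage
    Groth.Agent.Lib.Lead.AdeqModInst.hasAffineRefinements_zariski M hM R a

end Groth.Agent.S8756
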