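import Groth.Statements.S8800
import Groth.Agent.Lib.Helper21.AdicNoetherian

set_option autoImplicit false
universe u v
open AdicRing

namespace Groth.Agent.S8800

theorem result (A : Type u) [CommRing A] [IsNoetherianRing A] (I : Ideal A) (B : Type v) [CommRing B] [Algebra A B] [IsAdicComplete (I.map (algebraMap A B)) B] (hB : Algebra.FiniteType A (B ⧸ I.map (algebraMap A B))) : IsNoetherianRing B := by
  have hfg : (I.map (algebraMap A B)).FG := Ideal.FG.map (IsNoetherian.noetherian I) _
  have : IsNoetherianRing (B ⧸ I.map (algebraMap A B)) := Algebra.FiniteType.isNoetherianRing A _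
  exact Groth.Agent.Lib.Helper21.isNoetherianRing_of_isAdicComplete (I.map (algebraMap A B)) hfg

end Groth.Agent.S8800
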