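import Groth.Statements.S8803
import Mathlib
import Groth.Agent.Lib.Helper16.LocCohArtinian

set_option autoImplicit false
universe u
open CategoryTheory
open LocCoh

namespace Groth.Agent.S8803

/-- Let (A, m) be a Noetherian local ring and (M_n) an inverse system of finite A-modules. Then for
every i the inverse system H^i_m(M_n) of local cohomology modules satisfies the Mittag-Leffler
condition. -/
theorem result (A : Type u) [CommRing A] [IsNoetherianRing A] [IsLocalRing A] (Msys : ℕᵒᵖ ⥤ ModuleCat.{u} A) (hfin : ∀ n : ℕᵒᵖ, Module.Finite A (Msys.obj n)) (i : ℕ) : ARSys.IsML (Msys ⋙ localCohomology (IsLocalRing.maximalIdeal A) i) := by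
  intro n
  set X := Msys ⋙ localCohomology (IsLocalRing.maximalIdeal A) i with hX
  haveI := hfin (Opposite.op n)
  haveI hart : IsArtinian A (X.obj (Opposite.op n)) :=
    Groth.Agent.Lib.Helper16.LC.isArtinian_H_maximal (IsLocalRing.maximalIdeal A) i (Msys.obj (Opposite.op n))
  haveI wf : WellFoundedLT (Subobject (X.obj (Opposite.op n))) :=
    (ModuleCat.subobjectModule (X.obj (Opposite.op n))).toOrderEmbedding.wellFoundedLT
  have hanti : Antitone (fun s : ℕ => Limits.imageSubobject (ARSys.shiftMap X s n)) := by
    apply antitone_nat_of_succ_le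
    intro s
    have : ARSys.shiftMap X (s + 1) n =
        X.map (homOfLE (Nat.le_succ (n + s))).op ≫ ARSys.shiftMap X s n := by
      show X.map _ = X.map _ ≫ X.map _
      rw [← X.map_comp]
      rfl
    show Limits.imageSubobject (ARSys.shiftMap X (s + 1) n) ≤ Limits.imageSubobject (ARSys.shiftMap X s n)
    rw [this]
    exact Limits.imageSubobject_comp_le _ _
  obtain ⟨r, hr⟩ := WellFoundedLT.antitone_chain_condition hanti
  exact ⟨r, fun s hs => (hr s hs).symm⟩

end Groth.Agent.S8803
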