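import Groth.Statements.S8804
import Mathlib
import Groth.Agent.Lib.Helper11.HenselianQuot
import Groth.Agent.S3866

set_option autoImplicit false
universe u
open AdicRing

namespace Groth.Agent.S8804


theorem exists_prime_not_le_of_lt_lt {B : Type u} [CommRing B] [IsDomain B] [IsNoetherianRing B]
    (J : Ideal B) (hJ : J ≠ ⊥) (P M : Ideal B) [P.IsPrime] [M.IsPrime] (hP : P ≠ ⊥) (hPM : P < M) :
    ∃ Q : Ideal B, Q.IsPrime ∧ Q ≠ ⊥ ∧ Q ≤ M ∧ ¬ J ≤ Q := by
  classical
  have hfin : J.minimalPrimes.Finite := Ideal.finite_minimalPrimes_of_isNoetherianRing B J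
  have hbotprime : (⊥ : Ideal B).IsPrime := Ideal.isPrime_bot
  have hMht : 2 ≤ M.height := by
    have h1 : (⊥ : Ideal B).height < P.height :=
      Ideal.height_strict_mono_of_isPrime_of_isPrime (bot_lt_iff_ne_bot.mpr hP)
    have h2 : P.height < M.height := Ideal.height_strict_mono_of_isPrime_of_isPrime hPM
    have h3 : 1 ≤ P.height := Order.one_le_iff_pos.mpr (lt_of_le_of_lt zero_le h1)
    calc (2 : ℕ∞) = 1 + 1 := by norm_num
      _ ≤ P.height + 1 := by gcongr
      _ ≤ M.height := Order.add_one_le_of_lt h2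
  -- the finite set of primes to avoid
  let s : Finset (Ideal B) := insert ⊥ (hfin.toFinset.filter (fun p => ¬ M ≤ p))
  have hs_prime : ∀ p ∈ s, p.IsPrime := by
    intro p hp
    rcases Finset.mem_insert.mp hp with rfl | hp
    · exact hbotprime
    · exact ((hfin.mem_toFinset).mp (Finset.mem_filter.mp hp).1).1.1
  have hnot : ¬ ((M : Set B) ⊆ ⋃ p ∈ (s : Set (Ideal B)), (p : Set B)) := by
    intro hsub
    obtain ⟨p, hp, hMp⟩ := (Ideal.subset_union_prime (s := s) (f := fun p => p) ⊥ ⊥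
      (fun p hp _ _ => hs_prime p hp)).mp hsub
    rcases Finset.mem_insert.mp hp with rfl | hp
    · exact (ne_bot_of_gt hPM) (le_bot_iff.mp hMp)
    · exact (Finset.mem_filter.mp hp).2 hMp
  obtain ⟨x, hxM, hxs⟩ := Set.not_subset.mp hnot
  have hx0 : x ≠ 0 := by
    intro h
    apply hxs
    simp only [Set.mem_iUnion]
    exact ⟨⊥, Finset.mem_insert_self _ _, by simp [h]⟩
  obtain ⟨Q, hQmin, hQM⟩ := Ideal.exists_minimalPrimes_le (I := Ideal.span {x}) (J := M)
    ((Ideal.span_singleton_le_iff_mem _).mpr hxM)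
  have hQprime : Q.IsPrime := hQmin.1.1
  have hxQ : x ∈ Q := hQmin.1.2 (Ideal.mem_span_singleton_self x)
  have hQ0 : Q ≠ ⊥ := fun h => hx0 (by simpa [h] using hxQ)
  have hQht : Q.height ≤ 1 :=
    Ideal.height_le_one_of_isPrincipal_of_mem_minimalPrimes (Ideal.span {x}) Q hQmin
  refine ⟨Q, hQprime, hQ0, hQM, fun hJQ => ?_⟩
  obtain ⟨p, hpmin, hpQ⟩ := Ideal.exists_minimalPrimes_le hJQ
  have hpprime : p.IsPrime := hpmin.1.1
  have hp0 : p ≠ ⊥ := fun h => hJ (le_bot_iff.mp (h ▸ hpmin.1.2))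
  have hpQeq : p = Q := by
    by_contra hne
    have hlt : p < Q := lt_of_le_of_ne hpQ hne
    have h1 : (⊥ : Ideal B).height < p.height :=
      Ideal.height_strict_mono_of_isPrime_of_isPrime (bot_lt_iff_ne_bot.mpr hp0)
    have h2 : p.height < Q.height := Ideal.height_strict_mono_of_isPrime_of_isPrime hlt
    have h3 : 1 ≤ p.height := Order.one_le_iff_pos.mpr (lt_of_le_of_lt zero_le h1)
    exact absurd (lt_of_le_of_lt h3 h2) (not_lt.mpr hQht)
  have hMQ : ¬ M ≤ Q := by
    intro hMQ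
    have : M.height ≤ 1 := (Ideal.height_mono hMQ).trans hQht
    exact absurd (hMht.trans this) (by norm_num)
  apply hxs
  simp only [Set.mem_iUnion]
  refine ⟨Q, Finset.mem_insert_of_mem (Finset.mem_filter.mpr ⟨(hfin.mem_toFinset).mpr ?_, hMQ⟩), hxQ⟩
  rw [← hpQeq]
  exact hpmin


theorem ringKrullDim_eq_one_iff_of_isDomain {B : Type u} [CommRing B] [IsDomain B] :
    ringKrullDim B = 1 ↔ (∀ P : Ideal B, P ≠ ⊥ → P.IsPrime → P.IsMaximal) ∧ ¬ IsField B := by
  constructor
  · intro h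
    have h1 : Ring.KrullDimLE 1 B := Ring.krullDimLE_iff.mpr (by rw [h]; rfl)
    refine ⟨Ring.krullDimLE_one_iff_of_noZeroDivisors.mp h1, fun hf => ?_⟩
    have := ringKrullDim_eq_zero_of_isField hf
    rw [h] at this
    exact one_ne_zero this
  · rintro ⟨h1, h2⟩
    refine eq_of_le_of_not_lt (Ring.krullDimLE_iff (n := 1).mp
      (Ring.krullDimLE_one_iff_of_noZeroDivisors.mpr h1)) fun h => ?_
    have : Ring.KrullDimLE 0 B := Ring.krullDimLE_iff.mpr (ENat.WithBot.lt_add_one_iff.mp h)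
    exact h2 Ring.KrullDimLE.isField_of_isDomain

theorem isLocalRing_of_complete_domain {B : Type u} [CommRing B] [IsDomain B] [IsNoetherianRing B]
    (J : Ideal B) [IsAdicComplete J B] (hJ : J ≠ ⊥)
    (hdim : ∀ P : Ideal B, P ≠ ⊥ → P.IsPrime → P.IsMaximal) : IsLocalRing B := by
  have hJjac : J ≤ Ideal.jacobson ⊥ := IsAdicComplete.le_jacobson_bot J
  have hJmax : ∀ m : Ideal B, m.IsMaximal → J ≤ m := fun m hm =>
    hJjac.trans (sInf_le ⟨bot_le, hm⟩)
  let π := Ideal.Quotient.mk J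
  have hπ : Function.Surjective π := Ideal.Quotient.mk_surjective
  have hdim0 : Ring.KrullDimLE 0 (B ⧸ J) := by
    refine Ring.krullDimLE_zero_iff.mpr fun P' hP' => ?_
    have hc : (P'.comap π).IsPrime := Ideal.comap_isPrime π P'
    have hJc : J ≤ P'.comap π := by
      intro x hx
      rw [Ideal.mem_comap, Ideal.Quotient.eq_zero_iff_mem.mpr hx]
      exact P'.zero_mem
    have hne : P'.comap π ≠ ⊥ := fun h => hJ (le_bot_iff.mp (h ▸ hJc))
    have hm := hdim _ hne hc
    rcases Ideal.map_eq_top_or_isMaximal_of_surjective π hπ hm with h | h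
    · rw [Ideal.map_comap_of_surjective π hπ] at h
      exact absurd h hP'.ne_top
    · rwa [Ideal.map_comap_of_surjective π hπ] at h
  have hart : IsArtinianRing (B ⧸ J) := isArtinianRing_iff_krullDimLE_zero.mpr hdim0
  refine IsLocalRing.of_unique_max_ideal ?_
  obtain ⟨m₁, hm₁⟩ := Ideal.exists_maximal B
  refine ⟨m₁, hm₁, fun m₂ hm₂ => ?_⟩
  by_contra hne
  have hker : ∀ m : Ideal B, m.IsMaximal → (m.map π).comap π = m := by
    intro m hm
    rw [Ideal.comap_map_of_surjective π hπ, ← RingHom.ker_eq_comap_bot, Ideal.mk_ker,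
      sup_eq_left.mpr (hJmax m hm)]
  have hprime : ∀ m : Ideal B, m.IsMaximal → (m.map π).IsPrime := by
    intro m hm
    exact Ideal.map_isPrime_of_surjective hπ (by rw [Ideal.mk_ker]; exact hJmax m hm)
  have hp₁ := hprime m₁ hm₁
  have hp₂ := hprime m₂ hm₂
  obtain ⟨r, hr₁, hridem, hr⟩ := IsArtinianRing.exists_not_mem_forall_mem_of_ne (m₁.map π)
  have hr₂ : r ∈ m₂.map π := by
    apply hr _ hp₂
    intro h
    apply hne
    rw [← hker m₂ hm₂, h, hker m₁ hm₁]
  obtain ⟨e₀, rfl⟩ := hπ r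
  have he₀ : e₀ ^ 2 - e₀ ∈ J := by
    rw [← Ideal.Quotient.eq_zero_iff_mem, map_sub, map_pow, sub_eq_zero, pow_two]
    exact hridem
  obtain ⟨e, he, hee₀⟩ := Groth.Agent.Lib.Helper11.exists_idempotent_lift J inferInstance e₀ he₀
  have hπe : π e = π e₀ := by
    rw [← sub_eq_zero, ← map_sub]
    exact Ideal.Quotient.eq_zero_iff_mem.mpr hee₀
  rcases (IsIdempotentElem.iff_eq_zero_or_one).1 he with rfl | rfl
  · apply hr₁
    rw [← hπe, map_zero]
    exact Ideal.zero_mem _
  · apply hp₂.ne_top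
    rw [Ideal.eq_top_iff_one, ← map_one π, hπe]
    exact hr₂

theorem isAdicComplete_of_pow_le {B : Type u} [CommRing B] (M : Type*) [AddCommGroup M] [Module B M]
    (I J : Ideal B) (k : ℕ) (hIJ : I ≤ J) (hk : J ^ k ≤ I) [IsAdicComplete I M] :
    IsAdicComplete J M := by
  have hpow : ∀ n : ℕ, (J ^ ((k + 1) * n) • ⊤ : Submodule B M) ≤ I ^ n • ⊤ := by
    intro n
    apply Submodule.smul_mono_left
    rw [pow_mul]
    exact Ideal.pow_right_mono ((Ideal.pow_le_pow_right (Nat.le_succ k)).trans hk) n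
  have hle : ∀ n : ℕ, n ≤ (k + 1) * n := fun n => Nat.le_mul_of_pos_left n (Nat.succ_pos k)
  have hmono : ∀ n : ℕ, (I ^ n • ⊤ : Submodule B M) ≤ J ^ n • ⊤ := fun n =>
    Submodule.smul_mono_left (Ideal.pow_right_mono hIJ n)
  refine { toIsHausdorff := ⟨fun x hx => ?_⟩, toIsPrecomplete := ⟨fun f hf => ?_⟩ }
  · apply IsHausdorff.haus' (I := I) x
    intro n
    exact (hx ((k + 1) * n)).mono (hpow n)
  · have hg : ∀ {m n}, m ≤ n → f ((k + 1) * m) ≡ f ((k + 1) * n) [SMOD (I ^ m • ⊤ : Submodule B M)] := by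
      intro m n hmn
      exact (hf (Nat.mul_le_mul_left (k + 1) hmn)).mono (hpow m)
    obtain ⟨L, hL⟩ := IsPrecomplete.prec' (I := I) (fun n => f ((k + 1) * n)) hg
    refine ⟨L, fun n => ?_⟩
    exact (hf (hle n)).trans ((hL n).mono (hmono n))

/-- Let A be a Noetherian ring which is complete for the adic topology of an ideal I, and let q be a
prime ideal of A. The following are equivalent: (1) I ⊄ q and q is maximal among the primes not
containing I; (5) dim(A/q) = 1 and I ⊄ q; (8) A/q is a one-dimensional complete local ring whose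
maximal ideal is the radical of the image of I (stated as: the Krull dimension of A/q is 1, every
maximal ideal of A/q equals the radical of I(A/q), and A/q is adically complete for that radical).
(The other equivalent forms, for other ideals of definition or for the induced topology, are not
stated.) -/
theorem result (A : Type u) [CommRing A] [IsNoetherianRing A] (I : Ideal A) [IsAdicComplete I A] (q : PrimeSpectrum A) : List.TFAE [¬ I ≤ q.asIdeal ∧ ∀ q' : PrimeSpectrum A, q ≤ q' → ¬ I ≤ q'.asIdeal → q' = q, ringKrullDim (A ⧸ q.asIdeal) = 1 ∧ ¬ I ≤ q.asIdeal, ringKrullDim (A ⧸ q.asIdeal) = 1 ∧ (∀ m : Ideal (A ⧸ q.asIdeal), m.IsMaximal → m = (I.map (Ideal.Quotient.mk q.asIdeal)).radical) ∧ IsAdicComplete (I.map (Ideal.Quotient.mk q.asIdeal)).radical (A ⧸ q.asIdeal)] := by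
  classical
  have hqprime : q.asIdeal.IsPrime := q.isPrime
  let π := Ideal.Quotient.mk q.asIdeal
  have hπ : Function.Surjective π := Ideal.Quotient.mk_surjective
  have hkerπ : RingHom.ker π = q.asIdeal := Ideal.mk_ker
  have hIjac : I ≤ Ideal.jacobson ⊥ := IsAdicComplete.le_jacobson_bot I
  have hmax : ∀ m : Ideal A, m.IsMaximal → I ≤ m := fun m hm =>
    hIjac.trans (sInf_le ⟨bot_le, hm⟩)
  have hmapbot : I.map π = ⊥ ↔ I ≤ q.asIdeal := by
    rw [Ideal.map_eq_bot_iff_le_ker, hkerπ]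
  have hcomap_bot : (⊥ : Ideal (A ⧸ q.asIdeal)).comap π = q.asIdeal := by
    rw [← RingHom.ker_eq_comap_bot, hkerπ]
  tfae_have 1 → 2 := by
    rintro ⟨h1, h2⟩
    refine ⟨?_, h1⟩
    rw [ringKrullDim_eq_one_iff_of_isDomain]
    constructor
    · intro P hP0 hPprime
      by_contra hPmax
      obtain ⟨M, hM, hPM⟩ := Ideal.exists_le_maximal P hPprime.ne_top
      have hlt : P < M := lt_of_le_of_ne hPM (fun h => hPmax (h ▸ hM))
      have hMprime : M.IsPrime := hM.isPrime
      obtain ⟨Q, hQprime, hQ0, -, hQJ⟩ := exists_prime_not_le_of_lt_lt (I.map π)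
        (fun h => h1 (hmapbot.mp h)) P M hP0 hlt
      have hq' := h2 ⟨Q.comap π, Ideal.comap_isPrime π Q⟩
        (by
          change q.asIdeal ≤ Q.comap π
          exact hcomap_bot.symm.le.trans (Ideal.comap_mono bot_le))
        (fun h => hQJ (Ideal.map_le_iff_le_comap.mpr h))
      apply hQ0
      have : Q.comap π = q.asIdeal := congrArg PrimeSpectrum.asIdeal hq'
      rw [← Ideal.map_comap_of_surjective π hπ Q, this, Ideal.map_quotient_self]
    · intro hf
      have : q.asIdeal.IsMaximal := Ideal.Quotient.maximal_of_isField _ hf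
      exact h1 (hmax _ this)
  tfae_have 2 → 1 := by
    rintro ⟨h1, h2⟩
    refine ⟨h2, fun q' hqq' hIq' => ?_⟩
    by_contra hne
    rw [ringKrullDim_eq_one_iff_of_isDomain] at h1
    have hle : q.asIdeal ≤ q'.asIdeal := hqq'
    have hq'prime : q'.asIdeal.IsPrime := q'.isPrime
    have hPprime : (q'.asIdeal.map π).IsPrime :=
      Ideal.map_isPrime_of_surjective hπ (by rw [hkerπ]; exact hle)
    have hcm : (q'.asIdeal.map π).comap π = q'.asIdeal := by
      rw [Ideal.comap_map_of_surjective π hπ, hcomap_bot, sup_eq_left.mpr hle]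
    have hP0 : q'.asIdeal.map π ≠ ⊥ := by
      intro h
      apply hne
      apply PrimeSpectrum.ext
      apply le_antisymm _ hle
      rw [← hcm, h, hcomap_bot]
    have hPmax := h1.1 _ hP0 hPprime
    have : q'.asIdeal.IsMaximal := by
      rw [← hcm]
      exact Ideal.comap_isMaximal_of_surjective π hπ
    exact hIq' (hmax _ this)
  tfae_have 2 → 3 := by
    rintro ⟨h1, h2⟩
    have hJ0 : I.map π ≠ ⊥ := fun h => h2 (hmapbot.mp h)
    have hdim := (ringKrullDim_eq_one_iff_of_isDomain.mp h1).1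
    have hcompl : IsAdicComplete (I.map π) (A ⧸ q.asIdeal) := by
      have h3 : IsAdicComplete I (A ⧸ q.asIdeal) := Groth.Agent.S3866.result A I (A ⧸ q.asIdeal)
      exact (IsAdicComplete.map_algebraMap_iff (R := A) (S := A ⧸ q.asIdeal)
        (M := A ⧸ q.asIdeal) (I := I)).mpr h3
    have hloc : IsLocalRing (A ⧸ q.asIdeal) := isLocalRing_of_complete_domain (I.map π) hJ0 hdim
    have hJmax : I.map π ≤ IsLocalRing.maximalIdeal (A ⧸ q.asIdeal) :=
      (IsAdicComplete.le_jacobson_bot (I.map π)).trans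
        (sInf_le ⟨bot_le, IsLocalRing.maximalIdeal.isMaximal _⟩)
    have hrad : (I.map π).radical = IsLocalRing.maximalIdeal (A ⧸ q.asIdeal) := by
      apply le_antisymm
      · exact (Ideal.IsPrime.radical_le_iff (IsLocalRing.maximalIdeal.isMaximal _).isPrime).mpr hJmax
      · rw [Ideal.radical_eq_sInf]
        refine le_sInf fun P hP => ?_
        have hP0 : P ≠ ⊥ := fun h => hJ0 (le_bot_iff.mp (h ▸ hP.1))
        have := hdim P hP0 hP.2
        rw [IsLocalRing.eq_maximalIdeal this]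
    refine ⟨h1, fun m hm => ?_, ?_⟩
    · rw [hrad, IsLocalRing.eq_maximalIdeal hm]
    · obtain ⟨k, hk⟩ := Ideal.exists_radical_pow_le_of_fg (I.map π)
        (IsNoetherian.noetherian (I.map π).radical)
      exact isAdicComplete_of_pow_le (A ⧸ q.asIdeal) (I.map π) (I.map π).radical k
        Ideal.le_radical hk
  tfae_have 3 → 2 := by
    rintro ⟨h1, h2, -⟩
    refine ⟨h1, fun hIq => ?_⟩
    have hbot : I.map π = ⊥ := hmapbot.mpr hIq
    obtain ⟨m, hm⟩ := Ideal.exists_maximal (A ⧸ q.asIdeal)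
    have hm0 : m = ⊥ := by
      rw [h2 m hm, hbot]
      exact (Ideal.isPrime_bot (α := A ⧸ q.asIdeal)).isRadical.radical
    have hf : IsField (A ⧸ q.asIdeal) := Ring.isField_iff_maximal_bot.mpr (hm0 ▸ hm)
    have := (ringKrullDim_eq_one_iff_of_isDomain.mp h1).2
    exact this hf
  tfae_finish

end Groth.Agent.S8804
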