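import Groth.Statements.S8813
import Groth.Agent.Lib.Helper25.AlgzDelta
import Mathlib.AlgebraicGeometry.Stalk
import Mathlib.RingTheory.KrullDimension.Basic

set_option autoImplicit false
universe u
open CategoryTheory AlgebraicGeometry
open Algz

namespace Groth.Agent.S8813

open Specialization in
theorem codimPt_le (Y : Scheme.{u}) (y z : Y) (h : y ⤳ z)
    (P : PrimeSpectrum (Y.presheaf.stalk z)) (hP : (Y.fromSpecStalk z).base P = y) :
    ((Algz.codimPt y z h : ℕ∞) : WithBot ℕ∞) ≤
      ringKrullDim (↥(Y.presheaf.stalk z) ⧸ P.asIdeal) := by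
  unfold Algz.codimPt
  rw [Order.height_eq_krullDim_Iic, ringKrullDim, ← Order.krullDim_orderDual
    (α := PrimeSpectrum (↥(Y.presheaf.stalk z) ⧸ P.asIdeal))]
  have hφ : Topology.IsEmbedding (Y.fromSpecStalk z).base :=
    Scheme.Hom.isEmbedding (Y.fromSpecStalk z)
  have hrange : ∀ x : Y, x ⤳ z → ∃ q : PrimeSpectrum (Y.presheaf.stalk z),
      (Y.fromSpecStalk z).base q = x := by
    intro x hx
    have : x ∈ Set.range (Y.fromSpecStalk z).base := by
      rw [Scheme.range_fromSpecStalk]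
      exact hx
    exact this
  -- the prime attached to a point of the interval
  have hq : ∀ x : Set.Iic (⟨toEquiv y, toEquiv_le_toEquiv.mpr h⟩ : Set.Ici (toEquiv z)),
      ∃ q : PrimeSpectrum (Y.presheaf.stalk z),
        (Y.fromSpecStalk z).base q = ofEquiv x.1.1 := fun x =>
    hrange _ (toEquiv_le_toEquiv.mp x.1.2)
  choose q hq using hq
  have hPq : ∀ x, q x ∈ PrimeSpectrum.zeroLocus (P.asIdeal : Set (Y.presheaf.stalk z)) := by
    intro x
    have h1 : y ⤳ ofEquiv x.1.1 := toEquiv_le_toEquiv.mp x.2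
    have h2 : (Y.fromSpecStalk z).base P ⤳ (Y.fromSpecStalk z).base (q x) := by
      rw [hP, hq x]
      exact h1
    rw [hφ.isInducing.specializes_iff] at h2
    exact (PrimeSpectrum.le_iff_specializes P (q x)).2 h2
  let g : Set.Iic (⟨toEquiv y, toEquiv_le_toEquiv.mpr h⟩ : Set.Ici (toEquiv z)) →
      (PrimeSpectrum (↥(Y.presheaf.stalk z) ⧸ P.asIdeal))ᵒᵈ := fun x =>
    OrderDual.toDual ((Ideal.primeSpectrumQuotientOrderIsoZeroLocus P.asIdeal).symm
      ⟨q x, hPq x⟩)
  refine Order.krullDim_le_of_strictMono g ?_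
  intro a b hab
  change (Ideal.primeSpectrumQuotientOrderIsoZeroLocus P.asIdeal).symm ⟨q b, hPq b⟩ <
    (Ideal.primeSpectrumQuotientOrderIsoZeroLocus P.asIdeal).symm ⟨q a, hPq a⟩
  rw [OrderIso.lt_iff_lt]
  change q b < q a
  have hab' : (a.1.1 : Specialization Y) < b.1.1 := hab
  rw [lt_iff_le_not_ge] at hab' ⊢
  constructor
  · have h1 : ofEquiv b.1.1 ⤳ ofEquiv a.1.1 := toEquiv_le_toEquiv.mp hab'.1
    rw [← hq a, ← hq b, hφ.isInducing.specializes_iff] at h1
    exact (PrimeSpectrum.le_iff_specializes (q b) (q a)).2 h1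
  · intro h2
    apply hab'.2
    have h3 : (Y.fromSpecStalk z).base (q a) ⤳ (Y.fromSpecStalk z).base (q b) :=
      (hφ.isInducing.specializes_iff).2 ((PrimeSpectrum.le_iff_specializes (q a) (q b)).1 h2)
    rw [hq a, hq b] at h3
    exact Specialization.ofEquiv_specializes_ofEquiv.1 h3

/-- Let Y be a Noetherian scheme, Z ⊆ Y a closed subset, y a point of Y and z a point of Z lying in the
closure of y. Then δ_Z(y) is at most the dimension of the local ring at z of the closure of y with
its reduced structure, that is, the Krull dimension of O_{Y,z}/𝔭 where 𝔭 is the prime ideal of the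
local ring O_{Y,z} given by the point of Spec O_{Y,z} that maps to y. -/
theorem result (Y : Scheme.{u}) [IsNoetherian Y] (Z : Set Y) (hZ : IsClosed Z) (y z : Y) (h : y ⤳ z) (hz : z ∈ Z) (P : PrimeSpectrum (Y.presheaf.stalk z)) (hP : (Y.fromSpecStalk z).base P = y) : ((Algz.deltaZ Z y : ℕ∞) : WithBot ℕ∞) ≤ ringKrullDim (↥(Y.presheaf.stalk z) ⧸ P.asIdeal) := by
  refine le_trans ?_ (codimPt_le Y y z h P hP)
  exact_mod_cast Groth.Agent.Lib.Helper25.AlgzDelta.deltaZ_le_codimPt Z y z h hz

end Groth.Agent.S8813
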