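import Groth.Statements.S8814
import Mathlib

set_option autoImplicit false
universe u
open CategoryTheory AlgebraicGeometry
open Algz

namespace Groth.Agent.S8814

open AlgebraicGeometry in
lemma delta_le_of_specializes {Y : Scheme.{u}} {δ : Y → ℤ} (hδ : Cyc.IsDimFun Y δ) {w v : Y}
    (h : w ⤳ v) : δ v ≤ δ w := by
  by_cases hwv : w = v
  · rw [hwv]
  · exact (hδ w v h hwv).1.le

lemma strictMono_fin_le {n : ℕ} (f : Fin (n + 1) → ℤ) (hf : StrictMono f) :
    ∀ (i : ℕ) (hi : i < n + 1), f 0 + i ≤ f ⟨i, hi⟩ := by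
  intro i
  induction i with
  | zero => intro hi; simp
  | succ i ih =>
    intro hi
    have h1 := ih (by omega)
    have h2 : f ⟨i, by omega⟩ < f ⟨i + 1, hi⟩ := hf (by simp [Fin.lt_def])
    push_cast
    omega

open AlgebraicGeometry in
lemma codimPt_le {Y : Scheme.{u}} {δ : Y → ℤ} (hδ : Cyc.IsDimFun Y δ) (w v : Y) (h : w ⤳ v) :
    Algz.codimPt w v h ≤ ((δ w - δ v).toNat : ℕ∞) := by
  unfold Algz.codimPt
  apply Order.height_le
  intro p hp
  -- the values of δ along p
  let g : Fin (p.length + 1) → ℤ := fun i => δ (Specialization.ofEquiv (p i).1)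
  have hg : StrictMono g := by
    intro i j hij
    have hlt : p i < p j := p.strictMono hij
    have hle : (p i).1 ≤ (p j).1 := hlt.le
    have hne : Specialization.ofEquiv (p j).1 ≠ Specialization.ofEquiv (p i).1 := by
      intro he
      have : (p j).1 = (p i).1 := he
      exact hlt.ne (Subtype.ext this.symm)
    exact (hδ _ _ (Specialization.ofEquiv_specializes_ofEquiv.mpr hle) hne).1
  have h1 := strictMono_fin_le g hg p.length (by omega)
  have h0 : δ v ≤ g 0 := by
    have : Specialization.toEquiv v ≤ (p 0).1 := (p 0).2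
    exact delta_le_of_specializes hδ (Specialization.ofEquiv_specializes_ofEquiv.mpr this)
  have hl : g ⟨p.length, by omega⟩ = δ w := by
    have : p ⟨p.length, by omega⟩ = p.last := rfl
    show δ (Specialization.ofEquiv (p ⟨p.length, by omega⟩).1) = δ w
    rw [this, hp]
    rfl
  rw [hl] at h1
  have : (p.length : ℤ) ≤ δ w - δ v := by omega
  have h3 : p.length ≤ (δ w - δ v).toNat := by omega
  exact_mod_cast h3

open AlgebraicGeometry in
lemma le_codimPt {Y : Scheme.{u}} {δ : Y → ℤ} (hδ : Cyc.IsDimFun Y δ) :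
    ∀ (d : ℕ) (w v : Y) (h : w ⤳ v), δ w - δ v = d → (d : ℕ∞) ≤ Algz.codimPt w v h := by
  intro d
  induction d with
  | zero => intro w v h _; simp
  | succ d ih =>
    intro w v h hd
    have hwv : w ≠ v := by
      rintro rfl
      simp at hd
      omega
    classical
    obtain ⟨m, ⟨z, hwz, hzv, hzw, rfl⟩, hmax⟩ := Int.exists_greatest_of_bdd
      (P := fun m => ∃ z : Y, w ⤳ z ∧ z ⤳ v ∧ z ≠ w ∧ δ z = m)
      ⟨δ w, by
        rintro m ⟨z, hwz, -, -, rfl⟩
        exact delta_le_of_specializes hδ hwz⟩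
      ⟨δ v, v, h, specializes_rfl, hwv.symm, rfl⟩
    have himm : ∀ t : Y, w ⤳ t → t ⤳ z → t = w ∨ t = z := by
      intro t hwt htz
      by_contra hcon
      push_neg at hcon
      have h1 := (hδ t z htz hcon.2).1
      have h2 := hmax (δ t) ⟨t, hwt, htz.trans hzv, hcon.1, rfl⟩
      omega
    have hstep := (hδ w z hwz hzw.symm).2 himm
    have hz := ih z v hzv (by push_cast at hd; omega)
    unfold Algz.codimPt at hz ⊢
    have hlt : (⟨Specialization.toEquiv z, Specialization.toEquiv_le_toEquiv.mpr hzv⟩ :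
        Set.Ici (Specialization.toEquiv v)) <
        ⟨Specialization.toEquiv w, Specialization.toEquiv_le_toEquiv.mpr h⟩ := by
      rw [lt_iff_le_and_ne]
      refine ⟨Specialization.toEquiv_le_toEquiv.mpr hwz, ?_⟩
      intro he
      have : Specialization.toEquiv z = Specialization.toEquiv w := congrArg Subtype.val he
      exact hzw this
    have := Order.height_add_one_le hlt
    calc ((d + 1 : ℕ) : ℕ∞) = (d : ℕ∞) + 1 := by push_cast; rfl
      _ ≤ _ := (add_le_add_left hz 1).trans this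

open AlgebraicGeometry in
lemma codimPt_eq {Y : Scheme.{u}} {δ : Y → ℤ} (hδ : Cyc.IsDimFun Y δ) (w v : Y) (h : w ⤳ v) :
    Algz.codimPt w v h = ((δ w - δ v).toNat : ℕ∞) := by
  apply le_antisymm (codimPt_le hδ w v h)
  apply le_codimPt hδ _ w v h
  have := delta_le_of_specializes hδ h
  omega


/-- Let Y be a Noetherian scheme, Z ⊆ Y a closed subset and δ a dimension function on Y. If δ_Z(y) is a
natural number n, then δ(y) ≤ n + δ(z) for some z ∈ Z; in other words δ(y) ≤ δ_Z(y) + δ_max with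
δ_max the maximum of δ on Z. -/
theorem result (Y : Scheme.{u}) [IsNoetherian Y] (Z : Set Y) (hZ : IsClosed Z) (δ : Y → ℤ) (hδ : Cyc.IsDimFun Y δ) (y : Y) (n : ℕ) (hn : Algz.deltaZ Z y = n) : ∃ z ∈ Z, δ y ≤ n + δ z := by
  -- get a system with value ≤ n
  have hex : ∃ (k : ℕ) (S : Algz.DSystem Z y k), S.delta ≤ n := by
    by_contra hcon
    push_neg at hcon
    have : ((n : ℕ∞) + 1) ≤ Algz.deltaZ Z y := by
      unfold Algz.deltaZ
      refine le_iInf fun k => le_iInf fun S => ?_
      exact Order.add_one_le_of_lt (hcon k S)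
    rw [hn] at this
    have h2 : ((n : ℕ∞) + 1) = ((n + 1 : ℕ) : ℕ∞) := by push_cast; rfl
    rw [h2] at this
    have := ENat.coe_le_coe.mp this
    omega
  obtain ⟨k, S, hS⟩ := hex
  refine ⟨S.v 0, S.start_mem, ?_⟩
  -- integer versions
  let c : Fin (k + 1) → ℕ := fun j => (δ (S.w j) - δ (S.v j)).toNat
  let b : Fin k → ℕ := fun j => (δ (S.w j.castSucc) - δ (S.v j.succ)).toNat
  have hc : ∀ j, S.c j = (c j : ℕ∞) := fun j => codimPt_eq hδ _ _ _
  have hb : ∀ j, S.b j = (b j : ℕ∞) := fun j => codimPt_eq hδ _ _ _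
  have hcz : ∀ j, (c j : ℤ) = δ (S.w j) - δ (S.v j) := by
    intro j
    have := delta_le_of_specializes hδ (S.spec j)
    simp only [c]; omega
  have hbz : ∀ j, (b j : ℤ) = δ (S.w j.castSucc) - δ (S.v j.succ) := by
    intro j
    have := delta_le_of_specializes hδ (S.spec_succ j)
    simp only [b]; omega
  -- telescoping
  have htel : δ y - δ (S.v 0) = (∑ j, (c j : ℤ)) - ∑ j, (b j : ℤ) := by
    simp only [hcz, hbz, Finset.sum_sub_distrib]
    have e1 : ∑ j : Fin (k + 1), δ (S.w j) = (∑ j : Fin k, δ (S.w j.castSucc)) + δ (S.w (Fin.last k)) :=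
      Fin.sum_univ_castSucc _
    have e2 : ∑ j : Fin (k + 1), δ (S.v j) = δ (S.v 0) + ∑ j : Fin k, δ (S.v j.succ) :=
      Fin.sum_univ_succ _
    rw [e1, e2, S.last_eq]
    ring
  -- the i = 0 term
  have hterm : ((((∑ j, c j) - ∑ j, b j : ℕ) : ℕ) : ℕ∞) ≤ S.delta := by
    unfold Algz.DSystem.delta
    refine le_trans ?_ (le_add_self)
    refine le_trans ?_ (Finset.le_sup (f := fun i : Fin (k + 1) =>
      (∑ j ∈ Finset.univ.filter (fun j : Fin (k + 1) => i ≤ j), S.c j) -
        ∑ j ∈ Finset.univ.filter (fun j : Fin k => i.val ≤ j.val), S.b j) (Finset.mem_univ 0))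
    have f1 : Finset.univ.filter (fun j : Fin (k + 1) => (0 : Fin (k + 1)) ≤ j) = Finset.univ := by
      ext j; simp
    have f2 : Finset.univ.filter (fun j : Fin k => (0 : Fin (k + 1)).val ≤ j.val) = Finset.univ := by
      ext j; simp
    simp only [f1, f2, hc, hb]
    push_cast
    exact le_rfl
  have h3 := hterm.trans hS
  have h4 : (∑ j, c j) - ∑ j, b j ≤ n := by exact_mod_cast h3
  have h5 : ((∑ j, (c j : ℤ)) - ∑ j, (b j : ℤ)) ≤ (((∑ j, c j) - ∑ j, b j : ℕ) : ℤ) := by
    have e1 : (∑ j, (c j : ℤ)) = ((∑ j, c j : ℕ) : ℤ) := by push_cast; rfl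
    have e2 : (∑ j, (b j : ℤ)) = ((∑ j, b j : ℕ) : ℤ) := by push_cast; rfl
    rw [e1, e2]
    omega
  have h6 : ((((∑ j, c j) - ∑ j, b j : ℕ) : ℕ) : ℤ) ≤ (n : ℤ) := by exact_mod_cast h4
  linarith

end Groth.Agent.S8814
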