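import Groth.Statements.S8815
import Mathlib
import Groth.Agent.S8814
import Groth.Agent.Lib.Helper12.CatLocalDim

set_option autoImplicit false
universe u
open CategoryTheory AlgebraicGeometry
open Algz

namespace Groth.Agent.S8815

/-- Let A be a catenary Noetherian local ring, Y = Spec A and Z the closed point. Then δ_Z(y) equals the
dimension of the closure of y, i.e. dim(A/p_y), for every point y. -/
theorem result (A : Type u) [CommRing A] [IsNoetherianRing A] [IsLocalRing A] (hA : CAlg.IsCatenary A) (y : Spec (CommRingCat.of A)) : ((Algz.deltaZ ({IsLocalRing.closedPoint A} : Set (Spec (CommRingCat.of A))) y : ℕ∞) : WithBot ℕ∞) = ringKrullDim (A ⧸ y.asIdeal) := by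
  classical
  letI := Groth.Agent.Lib.Helper12.Codim.orderTopPrimeSpectrum A
  have hdf := (Groth.Agent.Lib.Helper12.Codim.isCatenary_iff_dimFun A).1 hA
  -- points of Spec A as primes
  let P : Spec (CommRingCat.of A) → PrimeSpectrum A := fun x => x
  have hPspec : ∀ x y : Spec (CommRingCat.of A), x ⤳ y ↔ P x ≤ P y := fun x y =>
    (PrimeSpectrum.le_iff_specializes (P x) (P y)).symm
  -- the dimension function
  let c : PrimeSpectrum A → ℕ := fun p => (Order.coheight p).toNat
  have hc : ∀ p : PrimeSpectrum A, Order.coheight p = (c p : ℕ∞) := fun p =>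
    (ENat.natCast_toNat (Groth.Agent.Lib.Helper12.Codim.coheight_ne_top A p)).symm
  have hdim : ∀ p : PrimeSpectrum A, ringKrullDim (A ⧸ p.asIdeal) = ((c p : ℕ∞) : WithBot ℕ∞) := by
    intro p
    rw [Groth.Agent.Lib.Helper12.Codim.ringKrullDim_quotient_eq_coheight, hc p]
  let δ : Spec (CommRingCat.of A) → ℤ := fun p => (c (P p) : ℤ)
  have hδ : Cyc.IsDimFun (Spec (CommRingCat.of A)) δ := by
    intro x y hxy hne
    have hle : P x ≤ P y := (hPspec x y).1 hxy
    have hlt : P x < P y := lt_of_le_of_ne hle hne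
    obtain ⟨h1, h2⟩ := hdf (P x) (P y) hlt
    rw [hdim (P x), hdim (P y)] at h1 h2
    constructor
    · have : c (P y) < c (P x) := by exact_mod_cast h1
      change (c (P y) : ℤ) < (c (P x) : ℤ)
      exact_mod_cast this
    · intro himm
      have hcov : P x ⋖ P y := by
        refine ⟨hlt, fun z hxz hzy => ?_⟩
        rcases himm z ((hPspec x z).2 hxz.le) ((hPspec z y).2 hzy.le) with h | h
        · exact hxz.ne (congrArg P h).symm
        · exact hzy.ne (congrArg P h)
      have := h2 hcov
      have h3 : c (P x) = c (P y) + 1 := by exact_mod_cast this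
      change (c (P x) : ℤ) = (c (P y) : ℤ) + 1
      exact_mod_cast h3
  have hm0 : c (IsLocalRing.closedPoint A) = 0 := by
    have : Order.coheight (IsLocalRing.closedPoint A) = 0 := by
      change Order.coheight (⊤ : PrimeSpectrum A) = 0
      exact Order.coheight_top _
    simp only [c, this]
    rfl
  rw [hdim (P y)]
  -- the trivial system
  let m : Spec (CommRingCat.of A) := IsLocalRing.closedPoint A
  have hspec : y ⤳ m := (hPspec y m).2 (le_top (a := P y))
  let S : Algz.DSystem ({IsLocalRing.closedPoint A} : Set (Spec (CommRingCat.of A))) y 0 :=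
    { v := fun _ => m
      w := fun _ => y
      spec := fun _ => hspec
      spec_succ := fun i => i.elim0
      start_mem := rfl
      last_eq := rfl }
  have hS : S.delta = (c (P y) : ℕ∞) := by
    unfold Algz.DSystem.delta
    have h1 : S.c 0 = (c (P y) : ℕ∞) := by
      unfold Algz.DSystem.c
      rw [Groth.Agent.S8814.codimPt_eq hδ]
      change (((c (P y) : ℤ) - (c (IsLocalRing.closedPoint A) : ℤ)).toNat : ℕ∞) = _
      rw [hm0]
      simp
    simp only [Nat.cast_zero, zero_add]
    rw [show (Finset.univ : Finset (Fin (0 + 1))) = {0} from rfl, Finset.sup_singleton]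
    simp only [Finset.univ_eq_empty, Finset.filter_empty, Finset.sum_empty, tsub_zero]
    rw [show (Finset.filter (fun j : Fin (0 + 1) => (0 : Fin (0 + 1)) ≤ j) {0}) = {0} from by
      ext j; simp]
    rw [Finset.sum_singleton, h1]
  have hle : Algz.deltaZ ({IsLocalRing.closedPoint A} : Set (Spec (CommRingCat.of A))) y ≤ (c (P y) : ℕ∞) := by
    rw [← hS]
    exact iInf_le_of_le 0 (iInf_le_of_le S le_rfl)
  -- deltaZ is a natural number
  obtain ⟨n, hn⟩ : ∃ n : ℕ, Algz.deltaZ ({IsLocalRing.closedPoint A} : Set (Spec (CommRingCat.of A))) y = n := by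
    have : Algz.deltaZ ({IsLocalRing.closedPoint A} : Set (Spec (CommRingCat.of A))) y ≠ ⊤ :=
      ne_top_of_le_ne_top (ENat.natCast_ne_top _) hle
    exact ⟨_, (ENat.natCast_toNat this).symm⟩
  have hclosed : IsClosed ({IsLocalRing.closedPoint A} : Set (Spec (CommRingCat.of A))) :=
    IsLocalRing.isClosed_singleton_closedPoint A
  obtain ⟨z, hz, hzle⟩ := Groth.Agent.S8814.result (Spec (CommRingCat.of A)) _ hclosed δ hδ y n hn
  have hz' : z = m := hz
  subst hz'
  have h5 : (c (P y) : ℤ) ≤ n + (c (IsLocalRing.closedPoint A) : ℤ) := hzle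
  rw [hm0] at h5
  have h6 : c (P y) ≤ n := by exact_mod_cast (by simpa using h5 : (c (P y) : ℤ) ≤ n)
  rw [hn] at hle ⊢
  have h7 : n ≤ c (P y) := by exact_mod_cast hle
  have : n = c (P y) := le_antisymm h7 h6
  rw [this]

end Groth.Agent.S8815
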