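import Groth.Statements.S8823
import Mathlib
import Groth.Agent.Lib.Helper20.FunApx2
import Groth.Agent.Lib.Helper18.AdicHom
import Groth.Agent.Lib.Helper23.GRingPoly3

set_option autoImplicit false
universe u
open AdicRing

namespace Groth.Agent.S8823



theorem aux (A : Type u) [CommRing A] (hA : CAlg.IsGRing A) (I : Ideal A) (B C : Type u) [CommRing B]
    [Algebra A B] [Algebra.FiniteType A B] [CommRing C] [Algebra A C] [Algebra.FiniteType A C]
    (J : Ideal C) (hJ : J = I.map (algebraMap A C)) (Jb : Ideal B)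
    (φ : (AdicCompletion Jb B) →ₐ[A] (AdicCompletion J C)) (N : ℕ) (hN : 1 ≤ N) :
    ∃ (C' : Type u) (_ : CommRing C') (_ : Algebra C C') (_ : Algebra A C')
      (_ : IsScalarTower A C C') (_ : Algebra.Etale C C') (ψ : B →ₐ[A] C'),
      ((∀ c' : C', ∃ c : C, algebraMap C C' c - c' ∈ I.map (algebraMap A C')) ∧
        ∀ c : C, algebraMap C C' c ∈ I.map (algebraMap A C') → c ∈ J) ∧
      ∀ b : B, ∃ c : C, ψ b - algebraMap C C' c ∈ (I.map (algebraMap A C')) ^ N ∧
        AdicCompletion.eval J C N (φ (AdicCompletion.of Jb B b)) = Submodule.Quotient.mk c := by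
  classical
  have hNA : IsNoetherianRing A := hA.1
  have hGC : CAlg.IsGRing C := Groth.Agent.Lib.Helper23.GRingPoly.isGRing_of_finiteType A hA C
  have hNC : IsNoetherianRing C := hGC.1
  have hreg : CAlg.IsRegularHom C (AdicCompletion J C) :=
    Groth.Agent.Lib.Helper18.AdicHom.isRegularHom_adicCompletion C J (fun p _ => hGC.2 p)
  have hfp : Algebra.FinitePresentation A B :=
    Algebra.FinitePresentation.of_finiteType.mp inferInstance
  obtain ⟨n, q, hq, S, hS⟩ := Algebra.FinitePresentation.out (R := A) (A := B)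
  have : IsScalarTower A C (AdicCompletion J C) := IsScalarTower.of_algebraMap_eq (fun r => rfl)
  -- `B → B^` as an `A`-algebra map
  let ofA : B →ₐ[A] AdicCompletion Jb B :=
    { toRingHom := algebraMap B (AdicCompletion Jb B)
      commutes' := fun r => rfl }
  have hofA : ∀ b : B, ofA b = AdicCompletion.of Jb B b := fun b => rfl
  let Φ : MvPolynomial (Fin n) A →ₐ[A] AdicCompletion J C := φ.comp (ofA.comp q)
  let F : Fin S.card → MvPolynomial (Fin n) C := fun j =>
    MvPolynomial.map (algebraMap A C) (S.equivFin.symm j).1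
  let a : Fin n → AdicCompletion J C := fun i => Φ (MvPolynomial.X i)
  have hΦ : (MvPolynomial.aeval a : MvPolynomial (Fin n) A →ₐ[A] AdicCompletion J C) = Φ := by
    apply MvPolynomial.algHom_ext
    intro i
    rw [MvPolynomial.aeval_X]
  have hSq : ∀ s ∈ S, q s = 0 := by
    intro s hs
    have : s ∈ RingHom.ker q.toRingHom := by
      rw [← hS]
      exact Ideal.subset_span hs
    exact this
  have ha : ∀ j, MvPolynomial.aeval a (F j) = 0 := by
    intro j
    change MvPolynomial.aeval a (MvPolynomial.map (algebraMap A C) (S.equivFin.symm j).1) = 0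
    rw [MvPolynomial.aeval_map_algebraMap, hΦ]
    change φ (ofA (q (S.equivFin.symm j).1)) = 0
    rw [hSq _ (S.equivFin.symm j).2, map_zero, map_zero]
  obtain ⟨C', _, _, het, φ', hφ's, hφ'k, c, hc, hcb⟩ :=
    Groth.Agent.Lib.Helper20.FunApx2.etale_approx C J hreg n S.card F a ha N
  letI : Algebra A C' := ((algebraMap C C').comp (algebraMap A C)).toAlgebra
  have : IsScalarTower A C C' := IsScalarTower.of_algebraMap_eq (fun _ => rfl)
  -- the map `ψ`
  have hker : ∀ p ∈ RingHom.ker q.toRingHom,
      (MvPolynomial.aeval c : MvPolynomial (Fin n) A →ₐ[A] C') p = 0 := by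
    intro p hp
    rw [← hS] at hp
    refine Submodule.span_induction ?_ ?_ ?_ ?_ hp
    · intro s hs
      have := hc (S.equivFin ⟨s, hs⟩)
      change MvPolynomial.aeval c (MvPolynomial.map (algebraMap A C)
        (S.equivFin.symm (S.equivFin ⟨s, hs⟩)).1) = 0 at this
      rw [Equiv.symm_apply_apply, MvPolynomial.aeval_map_algebraMap] at this
      exact this
    · exact map_zero _
    · intro x y _ _ hx hy
      rw [map_add, hx, hy, add_zero]
    · intro r x _ hx
      rw [smul_eq_mul, map_mul, hx, mul_zero]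
  let ψ : B →ₐ[A] C' :=
    (Ideal.Quotient.liftₐ (RingHom.ker q.toRingHom) (MvPolynomial.aeval c) hker).comp
      (Ideal.quotientKerAlgEquivOfSurjective hq).symm.toAlgHom
  have hψq : ∀ p, ψ (q p) = MvPolynomial.aeval c p := by
    intro p
    have : (Ideal.quotientKerAlgEquivOfSurjective hq).symm (q p) =
        Ideal.Quotient.mk _ p := by
      rw [AlgEquiv.symm_apply_eq]
      rfl
    change (Ideal.Quotient.liftₐ (RingHom.ker q.toRingHom) (MvPolynomial.aeval c) hker)
      ((Ideal.quotientKerAlgEquivOfSurjective hq).symm (q p)) = _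
    rw [this]
    rfl
  -- key identity
  have hkey : ∀ b : B, φ' (ψ b) = AdicCompletion.evalₐ J N (φ (AdicCompletion.of Jb B b)) := by
    let L : B →ₐ[A] C ⧸ J ^ N := (φ'.restrictScalars A).comp ψ
    let R : B →ₐ[A] C ⧸ J ^ N :=
      ((AdicCompletion.evalₐ J N).restrictScalars A).comp (φ.comp ofA)
    have hLR : L.comp q = R.comp q := by
      apply MvPolynomial.algHom_ext
      intro i
      change φ' (ψ (q (MvPolynomial.X i))) = AdicCompletion.evalₐ J N (φ (ofA (q (MvPolynomial.X i))))
      rw [hψq, MvPolynomial.aeval_X, hcb i]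
      rfl
    intro b
    obtain ⟨p, rfl⟩ := hq b
    exact congrArg (fun t => t p) hLR
  have hmapJ : J.map (algebraMap C C') = I.map (algebraMap A C') := by
    rw [hJ, Ideal.map_map]
    rfl
  have hkerφ' : ∀ x : C', φ' x = 0 ↔ x ∈ (I.map (algebraMap A C')) ^ N := by
    intro x
    rw [← hmapJ, ← Ideal.map_pow, ← hφ'k]
    rfl
  have hφ'alg : ∀ x : C, φ' (algebraMap C C' x) = Ideal.Quotient.mk (J ^ N) x :=
    fun x => φ'.commutes x
  refine ⟨C', inferInstance, inferInstance, inferInstance, inferInstance, het, ψ, ⟨?_, ?_⟩, ?_⟩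
  · intro c'
    obtain ⟨x, hx⟩ := Ideal.Quotient.mk_surjective (φ' c')
    refine ⟨x, ?_⟩
    have : algebraMap C C' x - c' ∈ (I.map (algebraMap A C')) ^ N := by
      rw [← hkerφ', map_sub, hφ'alg, hx, sub_self]
    exact Ideal.pow_le_self (by omega) this
  · intro x hx
    rw [← hmapJ] at hx
    have h1 : φ' (algebraMap C C' x) ∈ (J.map (algebraMap C C')).map φ'.toRingHom :=
      Ideal.mem_map_of_mem _ hx
    rw [Ideal.map_map] at h1
    have h2 : φ'.toRingHom.comp (algebraMap C C') = Ideal.Quotient.mk (J ^ N) := by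
      ext y
      exact hφ'alg y
    rw [h2, hφ'alg] at h1
    obtain ⟨j, hj, hjx⟩ := (Ideal.mem_map_iff_of_surjective _ Ideal.Quotient.mk_surjective).mp h1
    have h3 : j - x ∈ J ^ N := Ideal.Quotient.eq.mp hjx
    have h4 : j - x ∈ J := Ideal.pow_le_self (by omega) h3
    have h5 : x = j - (j - x) := by ring
    rw [h5]
    exact J.sub_mem hj h4
  · intro b
    obtain ⟨x, hx⟩ := Ideal.Quotient.mk_surjective (φ' (ψ b))
    refine ⟨x, ?_, ?_⟩
    · rw [← hkerφ', map_sub, hφ'alg, hx, sub_self]
    · have hle : J ^ N ≤ J ^ N • (⊤ : Ideal C) := by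
        rw [smul_eq_mul, Ideal.mul_top]
      rw [← AdicCompletion.factor_evalₐ_eq_eval J _ hle, ← hkey b, ← hx]
      rfl

/-- Let A be a Noetherian G-ring and I an ideal of A. Let B and C be A-algebras of finite type, φ an
A-algebra map from the IB-adic completion of B to the IC-adic completion of C, and N ≥ 1. Then one
can find an etale C-algebra C' for which the induced map C/IC → C'/IC' is a bijection, together with
a homomorphism of A-algebras ψ : B → C' that approximates φ to order N: given any b ∈ B, some c ∈ C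
satisfies ψ(b) − c ∈ I^N C', while the image of φ(b) in C/I^N C (the N-th truncation of the
completion) coincides with the class of c. -/
theorem result (A : Type u) [CommRing A] (hA : CAlg.IsGRing A) (I : Ideal A) (B C : Type u) [CommRing B] [Algebra A B] [Algebra.FiniteType A B] [CommRing C] [Algebra A C] [Algebra.FiniteType A C] (φ : (AdicCompletion (I.map (algebraMap A B)) B) →ₐ[A] (AdicCompletion (I.map (algebraMap A C)) C)) (N : ℕ) (hN : 1 ≤ N) : ∃ (C' : Type u) (_ : CommRing C') (_ : Algebra C C') (_ : Algebra A C') (_ : IsScalarTower A C C') (_ : Algebra.Etale C C') (ψ : B →ₐ[A] C'), ((∀ c' : C', ∃ c : C, algebraMap C C' c - c' ∈ I.map (algebraMap A C')) ∧ ∀ c : C, algebraMap C C' c ∈ I.map (algebraMap A C') → c ∈ I.map (algebraMap A C)) ∧ ∀ b : B, ∃ c : C, ψ b - algebraMap C C' c ∈ (I.map (algebraMap A C')) ^ N ∧ AdicCompletion.eval (I.map (algebraMap A C)) C N (φ (AdicCompletion.of (I.map (algebraMap A B)) B b)) = Submodule.Quotient.mk c := by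

  exact aux A hA I B C _ rfl _ φ N hN

end Groth.Agent.S8823
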