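import Groth.Statements.S8825
import Mathlib
import Groth.Agent.Lib.Helper23.RigClosed
-- import your own Groth.Agent.* helpers here

set_option autoImplicit false
universe u
open AdicRing

namespace Groth.Agent.S8825

open IsLocalRing Groth.Agent.Lib.Helper23.RigClosed


/-- Let A be a Noetherian ring which is complete for the adic topology of an ideal I, let p be a
rig-closed prime of A (I ⊄ p and p is maximal among the primes not containing I), and let n ≥ 1.
Then the ring map from A/p to the restricted power series ring (A/p){x_1, …, x_n}, i.e. the I-adic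
completion of the polynomial ring (A/p)[x_1, …, x_n], is a regular ring map (flat, with Noetherian
and geometrically regular fibres). (The consequence for the fibre over the fraction field is not
stated.) -/
theorem result (A : Type u) [CommRing A] [IsNoetherianRing A] (I : Ideal A) [IsAdicComplete I A] (p : PrimeSpectrum A) (hp : ¬ I ≤ p.asIdeal ∧ ∀ q : PrimeSpectrum A, p ≤ q → ¬ I ≤ q.asIdeal → q = p) (n : ℕ) (hn : 1 ≤ n) : CAlg.IsRegularHom (A ⧸ p.asIdeal) (AdicCompletion (I.map (algebraMap A (MvPolynomial (Fin n) (A ⧸ p.asIdeal)))) (MvPolynomial (Fin n) (A ⧸ p.asIdeal))) := by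
  haveI : IsAdicComplete (I.map (Ideal.Quotient.mk p.asIdeal)) (A ⧸ p.asIdeal) :=
    isAdicComplete_quotient I p.asIdeal
  haveI : IsDomain (A ⧸ p.asIdeal) := Ideal.Quotient.isDomain _
  obtain ⟨a, haI, hap⟩ := Set.not_subset.mp hp.1
  have hf0 : Ideal.Quotient.mk p.asIdeal a ≠ 0 := by
    intro h
    exact hap (Ideal.Quotient.eq_zero_iff_mem.mp h)
  have hfJ : Ideal.Quotient.mk p.asIdeal a ∈ I.map (Ideal.Quotient.mk p.asIdeal) :=
    Ideal.mem_map_of_mem _ haI
  have hall : ∀ P : Ideal (A ⧸ p.asIdeal), P.IsPrime → P ≠ ⊥ →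
      I.map (Ideal.Quotient.mk p.asIdeal) ≤ P := by
    intro P hP hP0
    rw [Ideal.map_le_iff_le_comap]
    by_contra hI
    let q : PrimeSpectrum A := ⟨P.comap (Ideal.Quotient.mk p.asIdeal), Ideal.comap_isPrime _ P⟩
    have hpq : p ≤ q := by
      show p.asIdeal ≤ P.comap (Ideal.Quotient.mk p.asIdeal)
      intro x hx
      rw [Ideal.mem_comap, Ideal.Quotient.eq_zero_iff_mem.mpr hx]
      exact P.zero_mem
    have hqp := hp.2 q hpq hI
    apply hP0
    rw [eq_bot_iff]
    intro y hy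
    obtain ⟨x, rfl⟩ := Ideal.Quotient.mk_surjective y
    have hx : x ∈ q.asIdeal := hy
    rw [hqp] at hx
    rw [Ideal.mem_bot]
    exact Ideal.Quotient.eq_zero_iff_mem.mpr hx
  obtain ⟨hloc, hcompl⟩ := isLocalRing_of_complete_domain (A ⧸ p.asIdeal)
    (I.map (Ideal.Quotient.mk p.asIdeal)) _ hfJ hf0 hall
  have hG : CAlg.IsGRing (A ⧸ p.asIdeal) :=
    Groth.Agent.Lib.Helper23.CompleteGRing.t0598main (A ⧸ p.asIdeal)
  have hP := Groth.Agent.Lib.Helper23.GRingPoly.isGRing_mvPolynomial (A ⧸ p.asIdeal) hG n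
  haveI : IsNoetherianRing (MvPolynomial (Fin n) (A ⧸ p.asIdeal)) := hP.1
  have h1 : CAlg.IsRegularHom (MvPolynomial (Fin n) (A ⧸ p.asIdeal))
      (AdicCompletion (I.map (algebraMap A (MvPolynomial (Fin n) (A ⧸ p.asIdeal))))
        (MvPolynomial (Fin n) (A ⧸ p.asIdeal))) :=
    Groth.Agent.Lib.Helper18.AdicHom.isRegularHom_adicCompletion _ _ (fun q _ => hP.2 q)
  haveI : Algebra.Smooth (A ⧸ p.asIdeal) (MvPolynomial (Fin n) (A ⧸ p.asIdeal)) := {}
  have h3 : CAlg.IsRegularHom (A ⧸ p.asIdeal) (MvPolynomial (Fin n) (A ⧸ p.asIdeal)) :=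
    Groth.Agent.Lib.Helper23.RegularHom.isRegularHom_of_smooth _ _
  haveI : IsNoetherianRing (AdicCompletion (I.map (algebraMap A (MvPolynomial (Fin n) (A ⧸ p.asIdeal))))
      (MvPolynomial (Fin n) (A ⧸ p.asIdeal))) := inferInstance
  exact Groth.Agent.Lib.Helper23.RegularHom2.isRegularHom_comp (A ⧸ p.asIdeal)
    (MvPolynomial (Fin n) (A ⧸ p.asIdeal)) _ h3 h1 (fun q _ => inferInstance)

end Groth.Agent.S8825
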