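import Groth.Statements.S8830
-- import your own Groth.Agent.* helpers here
import Mathlib
import Groth.Agent.Lib.Helper17.LM4
import Groth.Agent.Lib.Helper12.LT4

set_option autoImplicit false
universe u
open CategoryTheory AlgebraicGeometry Opposite
open Formal2

namespace Groth.Agent.S8830

/-- Implication (1) ⇒ (4) for quasi-coherent systems on a scheme, with f taken in a base ring A over
which X lives. Let (F_n)_{n ≥ 1} be an inverse system of quasi-coherent O_X-modules, indexed here so
that position n holds F_{n+1}. Assume (1): for every n ≥ 1, multiplication by f on F_{n+1} factors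
as the transition map F_{n+1} → F_n followed by a monomorphism i : F_n → F_{n+1}, and F_n → F_{n+1}
→ F_1 (second map the transition map to the first term) is short exact. Then (4): there is an
O_X-module F on which multiplication by f is a monomorphism and whose system of quotients
(F/f^nF)_{n ≥ 1} is isomorphic to (F_n) as an inverse system (existence of an isomorphism). -/
theorem result (A : Type u) [CommRing A] (X : Scheme.{u}) [X.Over (Spec (CommRingCat.of A))] (f : A) (G : ℕᵒᵖ ⥤ X.Modules) (hqc : ∀ n : ℕᵒᵖ, Coh.IsQCoh (G.obj n)) (h1 : ∀ n : ℕ, ∃ i : G.obj (op n) ⟶ G.obj (op (n + 1)), Mono i ∧ G.map (homOfLE (Nat.le_succ n)).op ≫ i = Formal.smulMod A (G.obj (op (n + 1))) f ∧ ∃ w : i ≫ G.map (homOfLE (Nat.zero_le (n + 1))).op = 0, (ShortComplex.mk i (G.map (homOfLE (Nat.zero_le (n + 1))).op) w).ShortExact) : ∃ F : X.Modules, Mono (Formal.smulMod A F f) ∧ Nonempty (Formal.completion (Ideal.span ({f} : Set A)) F ≅ G) := by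
  obtain ⟨Fn, tn, rfl⟩ : ∃ (Fn : ℕ → X.Modules) (tn : ∀ n, Fn (n + 1) ⟶ Fn n),
      G = Functor.ofOpSequence tn := ⟨_, _, Groth.Agent.Lib.Helper17.LM4.eq_ofOpSequence G⟩
  have hmap : ∀ n, (Functor.ofOpSequence tn).map (homOfLE (Nat.le_succ n)).op = tn n :=
    fun n => Functor.ofOpSequence_map_homOfLE_succ tn n
  have hp : ∀ n, (Functor.ofOpSequence tn).map (homOfLE (Nat.zero_le n)).op =
      Groth.Agent.Lib.Helper12.H12LT.pn tn n := by
    intro n
    induction n with
    | zero =>
      have e : (homOfLE (Nat.zero_le 0)) = 𝟙 (0 : ℕ) := Subsingleton.elim _ _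
      rw [e, op_id, CategoryTheory.Functor.map_id]
      rfl
    | succ n ih =>
      have e : (homOfLE (Nat.zero_le (n + 1))) =
          homOfLE (Nat.zero_le n) ≫ homOfLE (Nat.le_succ n) := Subsingleton.elim _ _
      rw [e, op_comp, CategoryTheory.Functor.map_comp, hmap, ih]
      rfl
  choose i hi h1' h2' using h1
  have conv : ∀ (n : ℕ) (g : Fn (n + 1) ⟶ Fn 0), g = Groth.Agent.Lib.Helper12.H12LT.pn tn (n + 1) →
      (∃ w : i n ≫ g = 0, (ShortComplex.mk (i n) g w).ShortExact) →
      ∃ w : i n ≫ Groth.Agent.Lib.Helper12.H12LT.pn tn (n + 1) = 0,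
        (ShortComplex.mk (i n) (Groth.Agent.Lib.Helper12.H12LT.pn tn (n + 1)) w).ShortExact := by
    rintro n g rfl h
    exact h
  have h1'' : ∀ n, tn n ≫ i n = Formal.smulMod A (Fn (n + 1)) f := by
    intro n
    rw [← hmap]
    exact h1' n
  have h2'' : ∀ n, ∃ w : i n ≫ Groth.Agent.Lib.Helper12.H12LT.pn tn (n + 1) = 0,
      (ShortComplex.mk (i n) (Groth.Agent.Lib.Helper12.H12LT.pn tn (n + 1)) w).ShortExact :=
    fun n => conv n _ (hp (n + 1)) (h2' n)
  have hI : (Ideal.span ({f} : Set A)).FG := Submodule.fg_span_singleton f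
  exact ⟨Limits.limit (Functor.ofOpSequence tn),
    Groth.Agent.Lib.Helper12.H12LT.mono_smulMod_limit tn i f hi h1'',
    Groth.Agent.Lib.Helper12.H12LT.nonempty_completion_iso tn i f hi h1'' h2'' hI
      (fun n => hqc (op n))⟩

end Groth.Agent.S8830
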