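import Groth.Statements.S8834
import Mathlib.RingTheory.Finiteness.Ideal

set_option autoImplicit false
universe u
open AdicRing

namespace Groth.Agent.S8834

/-- Let A be a Noetherian ring complete for the adic topology of an ideal I and B a Noetherian ring
complete for the adic topology of an ideal J, with an algebra map A → B sending I into the radical
of J (a continuous homomorphism of adic Noetherian topological rings; the radicals of I and J are
the ideals of topologically nilpotent elements). Assume B/√J is of finite type over A, equivalently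
over A/√I. Then B is topologically of finite type over A: there are b_1, …, b_s ∈ B such that the
A-algebra map A[x_1, …, x_s] → B with x_i ↦ b_i has dense image for the J-adic topology, that is,
for every y ∈ B and every n there is a polynomial whose value at b differs from y by an element of
J^n. -/
theorem result (A : Type u) [CommRing A] [IsNoetherianRing A] (I : Ideal A) [IsAdicComplete I A] (B : Type u) [CommRing B] [Algebra A B] [IsNoetherianRing B] (J : Ideal B) [IsAdicComplete J B] (hIJ : I.map (algebraMap A B) ≤ J.radical) (hft : Algebra.FiniteType A (B ⧸ J.radical)) : ∃ s : ℕ, ∃ b : Fin s → B, ∀ (y : B) (n : ℕ), ∃ p : MvPolynomial (Fin s) A, y - MvPolynomial.aeval b p ∈ J ^ n := by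
  classical
  set R : Ideal B := J.radical with hR
  obtain ⟨m, hm⟩ := Ideal.exists_radical_pow_le_of_fg J (IsNoetherian.noetherian _)
  obtain ⟨T1, hT1⟩ := hft.out
  obtain ⟨T2, hT2⟩ := (IsNoetherian.noetherian R : R.FG)
  let lift : B ⧸ R → B := Function.surjInv Ideal.Quotient.mk_surjective
  have hlift : ∀ x, Ideal.Quotient.mk R (lift x) = x := Function.surjInv_eq Ideal.Quotient.mk_surjective
  let T : Finset B := T1.image lift ∪ T2
  let S : Subalgebra A B := Algebra.adjoin A (T : Set B)
  have hTS : ∀ a ∈ T, a ∈ S := fun a ha => Algebra.subset_adjoin ha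
  have hT2R : ∀ a ∈ T2, a ∈ R := fun a ha => by
    rw [← hT2]; exact Submodule.subset_span ha
  -- base fact
  have F : ∀ y : B, ∃ s ∈ S, y - s ∈ R := by
    intro y
    have h1 : S.map (Ideal.Quotient.mkₐ A R) = ⊤ := by
      rw [eq_top_iff, ← hT1]
      simp only [S]
      rw [AlgHom.map_adjoin]
      apply Algebra.adjoin_mono
      intro x hx
      refine ⟨lift x, ?_, hlift x⟩
      simp only [T, Finset.coe_union, Finset.coe_image, Set.mem_union, Set.mem_image]
      exact Or.inl ⟨x, hx, rfl⟩
    have h2 : (Ideal.Quotient.mkₐ A R) y ∈ S.map (Ideal.Quotient.mkₐ A R) := by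
      rw [h1]; trivial
    obtain ⟨s, hs, hsy⟩ := h2
    refine ⟨s, hs, ?_⟩
    have : Ideal.Quotient.mk R y = Ideal.Quotient.mk R s := hsy.symm
    exact Ideal.Quotient.eq.mp this
  -- induction
  have C : ∀ N : ℕ, ∀ y : B, ∃ s ∈ S, y - s ∈ R ^ N := by
    intro N
    induction N with
    | zero => intro y; exact ⟨0, S.zero_mem, by simp⟩
    | succ N ih =>
      intro y
      obtain ⟨s0, hs0, hr⟩ := F y
      rw [← hT2] at hr
      obtain ⟨f, -, hf⟩ := Submodule.mem_span_finset.mp hr
      choose g hgS hg using fun a : B => ih (f a)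
      refine ⟨s0 + ∑ a ∈ T2, g a * a, ?_, ?_⟩
      · refine S.add_mem hs0 (S.sum_mem fun a ha => S.mul_mem (hgS a) (hTS a ?_))
        simp only [T, Finset.mem_union]
        exact Or.inr ha
      · have e : y - (s0 + ∑ a ∈ T2, g a * a) = ∑ a ∈ T2, (f a - g a) * a := by
          have : y - s0 = ∑ a ∈ T2, f a * a := by
            rw [← hf]; simp [smul_eq_mul]
          simp only [sub_mul, Finset.sum_sub_distrib]
          rw [← this]; ring
        rw [e, pow_succ]
        exact Submodule.sum_mem _ fun a ha => Ideal.mul_mem_mul (hg a) (hT2R a ha)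
  -- conclude
  refine ⟨T.card, fun i => (T.equivFin.symm i : B), ?_⟩
  intro y n
  obtain ⟨s, hs, hys⟩ := C (m * n) y
  have hrange : Set.range (fun i => (T.equivFin.symm i : B)) = (T : Set B) := by
    ext x
    constructor
    · rintro ⟨i, rfl⟩; exact (T.equivFin.symm i).2
    · intro hx; exact ⟨T.equivFin ⟨x, hx⟩, by simp⟩
  have hs' : s ∈ (MvPolynomial.aeval (R := A) (fun i => (T.equivFin.symm i : B))).range := by
    rw [← Algebra.adjoin_range_eq_range_aeval, hrange]; exact hs
  obtain ⟨p, hp⟩ := hs'
  refine ⟨p, ?_⟩
  have hp' : MvPolynomial.aeval (fun i => (T.equivFin.symm i : B)) p = s := hp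
  rw [hp']
  have : R ^ (m * n) ≤ J ^ n := by
    rw [pow_mul]; exact Ideal.pow_right_mono hm n
  exact this hys

end Groth.Agent.S8834
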