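import Groth.Statements.S8836
import Groth.Agent.Lib.Helper15.RigClosed

set_option autoImplicit false
universe u
open AdicRing

namespace Groth.Agent.S8836

/-- Let A be a Noetherian ring complete for the adic topology of an ideal I, and B a Noetherian
A-algebra complete for the IB-adic topology, flat over A, with B/IB of finite type over A (a flat
adic morphism, topologically of finite type, of adic Noetherian topological rings). Let p be a prime
of A which is rig-closed (I ⊄ p and p maximal among the primes not containing I). The following are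
equivalent: (1) the maximal ideal of the local ring A/p lies in the image of Spec(B/√(IB)) →
Spec(A/√I), stated as: some prime Q of B containing IB lies over a maximal ideal of A containing p;
(2) there is a rig-closed prime q of B (IB ⊄ q, q maximal among the primes not containing IB) whose
inverse image in A is p. (The published statement adds that, when these hold, A/p ⊆ B/q is a finite
extension of rings and the residue field of the local ring B/q is finite over A/√I; this is not
restated here.) -/
theorem result (A : Type u) [CommRing A] [IsNoetherianRing A] (I : Ideal A) [IsAdicComplete I A] (B : Type u) [CommRing B] [Algebra A B] [IsNoetherianRing B] [IsAdicComplete (I.map (algebraMap A B)) B] (hft : Algebra.FiniteType A (B ⧸ (I.map (algebraMap A B)))) [Module.Flat A B] (p : PrimeSpectrum A) (hp : (¬ I ≤ p.asIdeal ∧ ∀ y : PrimeSpectrum A, p ≤ y → ¬ I ≤ y.asIdeal → y = p)) : (∃ Q : PrimeSpectrum B, (I.map (algebraMap A B)) ≤ Q.asIdeal ∧ p.asIdeal ≤ (PrimeSpectrum.comap (algebraMap A B) Q).asIdeal ∧ (PrimeSpectrum.comap (algebraMap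 A B) Q).asIdeal.IsMaximal) ↔ (∃ q : PrimeSpectrum B, (¬ (I.map (algebraMap A B)) ≤ q.asIdeal ∧ ∀ y : PrimeSpectrum B, q ≤ y → ¬ (I.map (algebraMap A B)) ≤ y.asIdeal → y = q) ∧ PrimeSpectrum.comap (algebraMap A B) q = p) := by
  set K : Ideal B := I.map (algebraMap A B) with hK
  constructor
  · rintro ⟨Q, hKQ, hpQ, hQmax⟩
    -- going down
    have hQlies : Q.asIdeal.LiesOver (Q.asIdeal.comap (algebraMap A B)) := ⟨rfl⟩
    have hnprime : (Q.asIdeal.comap (algebraMap A B)).IsPrime := Ideal.comap_isPrime _ _
    obtain ⟨q0, hq0Q, hq0prime, hq0p⟩ :=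
      Ideal.exists_ideal_le_liesOver_of_le (p := p.asIdeal)
        (q := Q.asIdeal.comap (algebraMap A B)) Q.asIdeal hpQ
    have hq0p' : q0.comap (algebraMap A B) = p.asIdeal := (hq0p.over).symm
    have hKq0 : ¬ K ≤ q0 := by
      intro hle
      apply hp.1
      rw [← hq0p', ← Ideal.map_le_iff_le_comap]
      exact hle
    -- maximal element
    let S : Set (Ideal B) := {y | y.IsPrime ∧ q0 ≤ y ∧ ¬ K ≤ y}
    have hSne : S.Nonempty := ⟨q0, hq0prime, le_rfl, hKq0⟩
    obtain ⟨q, ⟨hqprime, hq0q, hKq⟩, hqmax⟩ :=
      (set_has_maximal_iff_noetherian (R := B) (M := B)).mpr inferInstance S hSne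
    refine ⟨⟨q, hqprime⟩, ⟨hKq, fun y hqy hKy => ?_⟩, ?_⟩
    · have hqy' : q ≤ y.asIdeal := (PrimeSpectrum.asIdeal_le_asIdeal _ _).mpr hqy
      have hyS : y.asIdeal ∈ S := ⟨y.2, hq0q.trans hqy', hKy⟩
      have hnlt := hqmax y.asIdeal hyS
      apply PrimeSpectrum.ext
      exact (eq_of_le_of_not_lt hqy' hnlt).symm
    · apply hp.2
      · rw [← PrimeSpectrum.asIdeal_le_asIdeal]
        change p.asIdeal ≤ Ideal.comap (algebraMap A B) q
        rw [← hq0p']
        exact Ideal.comap_mono hq0q
      · intro hle
        apply hKq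
        rw [hK, Ideal.map_le_iff_le_comap]
        exact hle
  · rintro ⟨q, hq, hqp⟩
    obtain ⟨m, hm, hqm⟩ := Ideal.exists_le_maximal q.asIdeal q.2.ne_top
    have hKm : K ≤ m := by
      have h1 : K ≤ (⊥ : Ideal B).jacobson := IsAdicComplete.le_jacobson_bot K
      exact h1.trans (sInf_le ⟨bot_le, hm⟩)
    have hmprime : m.IsPrime := hm.isPrime
    have hpn : p.asIdeal ≤ m.comap (algebraMap A B) := by
      rw [← hqp]
      exact Ideal.comap_mono hqm
    have hIn : I ≤ m.comap (algebraMap A B) := by
      rw [← Ideal.map_le_iff_le_comap]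
      exact hKm
    have hnne : m.comap (algebraMap A B) ≠ p.asIdeal := fun h => hp.1 (h ▸ hIn)
    have hnprime : (m.comap (algebraMap A B)).IsPrime := Ideal.comap_isPrime _ _
    have hnmax : (m.comap (algebraMap A B)).IsMaximal :=
      Groth.Agent.Lib.Helper15.isMaximal_of_rigClosed I p hp _ hpn hnne
    exact ⟨⟨m, hmprime⟩, hKm, hpn, hnmax⟩

end Groth.Agent.S8836
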