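import Groth.Statements.S8848
import Groth.Agent.Lib27.Sch.RelCartier

set_option autoImplicit false
universe u
open CategoryTheory CategoryTheory.Limits AlgebraicGeometry TopologicalSpace
open SDiv

namespace Groth.Agent.S8848

/-- Let φ : X ⟶ S be flat and locally of finite presentation and let 𝓘 be a quasi-coherent ideal sheaf
on X which is locally principal (generated by one section on some affine open neighbourhood of each
point of its support). If for every point s of S the inverse image ideal of 𝓘 on the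
scheme-theoretic fibre X_s is the ideal sheaf of an effective Cartier divisor of X_s, then 𝓘 is the
ideal sheaf of an effective Cartier divisor of X and its closed subscheme is flat over S (a relative
effective Cartier divisor). -/
theorem result {X S : Scheme.{u}} (φ : X ⟶ S) [Flat φ] [LocallyOfFinitePresentation φ]
    (𝓘 : X.IdealSheafData) (hZ : Curv2.IsLocPrincipal 𝓘)
    (hfib : ∀ s : ↥S, BlowUp.IsEffCartierIdeal (𝓘.comap (φ.fiberι s))) :
    BlowUp.IsEffCartierIdeal 𝓘 ∧ Flat (𝓘.subschemeι ≫ φ) := by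
  have hloc : ∀ x ∈ 𝓘.support, ∃ U' : X.affineOpens, x ∈ U'.1 ∧
      (∃ b' : Γ(X, U'.1), b' ∈ nonZeroDivisors Γ(X, U'.1) ∧ 𝓘.ideal U' = Ideal.span {b'}) ∧
      Flat (Spec.map (CommRingCat.ofHom (Ideal.Quotient.mk (𝓘.ideal U'))) ≫ U'.2.fromSpec ≫ φ) := by
    intro x hx
    obtain ⟨U₀, hxU₀, h, hI⟩ := hZ x hx
    obtain ⟨U', hxU', -, hb, hfl⟩ := Groth.Agent.Lib27.RelCartier.exists_slice_affine φ 𝓘 x
      (Flat.stalkMap φ x) U₀ hxU₀ h hI
      (fun z hz => Groth.Agent.Lib27.RelCartier.fibre_regular' φ 𝓘 x (hfib (φ x)) U₀ hxU₀ h hI z hz)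
    exact ⟨U', hxU', hb, hfl⟩
  constructor
  · intro x
    by_cases hx : x ∈ 𝓘.support
    · obtain ⟨U', hxU', ⟨b', hb', hI'⟩, -⟩ := hloc x hx
      exact ⟨U', hxU', b', hb', hI'⟩
    · exact Groth.Agent.Lib.Helper14.AS.exists_principal_of_notMem_support 𝓘 x hx
  · refine Groth.Agent.Lib27.RelCartier.of_forall_support (P := @Flat) φ 𝓘 (fun x hx => ?_)
    obtain ⟨U', hxU', -, hfl⟩ := hloc x hx
    exact ⟨U', hxU', hfl⟩

end Groth.Agent.S8848
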