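import Groth.Statements.S8849
import Groth.Agent.Lib.Helper25.FlatCartier
import Groth.Agent.Lib.Helper25.BlowUpReg

set_option autoImplicit false
universe u
open CategoryTheory CategoryTheory.Limits AlgebraicGeometry TopologicalSpace
open SDiv

namespace Groth.Agent.S8849

/-- Let f : X ⟶ S be a morphism of schemes and 𝓘 the ideal sheaf of an effective Cartier divisor D ⊆ X
with D flat over S (a relative effective Cartier divisor). If f is flat at every point of X not in
D, then f is flat. -/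
theorem result {X S : Scheme.{u}} (f : X ⟶ S) (𝓘 : X.IdealSheafData)
    (hD : BlowUp.IsEffCartierIdeal 𝓘 ∧ Flat (𝓘.subschemeι ≫ f))
    (hflat : ∀ x : ↥X, x ∉ 𝓘.support → (f.stalkMap x).hom.Flat) : Flat f := by
  obtain ⟨hC, hZ⟩ := hD
  apply Flat.of_stalkMap
  intro x
  by_cases hx : x ∈ 𝓘.support
  swap
  · exact hflat x hx
  obtain ⟨_, ⟨V, hV, rfl⟩, hfxV, -⟩ := S.isBasis_affineOpens.exists_subset_of_mem_open
    (Set.mem_univ (f x)) isOpen_univ
  obtain ⟨U, g, hxU, hUV, hg, hIU⟩ :=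
    Groth.Agent.Lib.Helper25.BlowUpUP.exists_affine_principal_le 𝓘 hC x (f ⁻¹ᵁ V) hfxV
  -- the three ring maps
  have e : U.1 ≤ f ⁻¹ᵁ V := hUV
  have key : (f.appLE V U.1 e).hom.Flat := by
    let ι := 𝓘.subschemeι
    have hιU : IsAffineOpen (ι ⁻¹ᵁ U.1) := U.2.preimage ι
    have e1 : ι ⁻¹ᵁ U.1 ≤ (ι ≫ f) ⁻¹ᵁ V := by
      intro z hz
      exact e hz
    have h1 : ((ι ≫ f).appLE V (ι ⁻¹ᵁ U.1) e1).hom.Flat :=
      HasRingHomProperty.appLE @Flat (ι ≫ f) hZ ⟨V, hV⟩ ⟨_, hιU⟩ e1
    have e2 : X.basicOpen g ≤ f ⁻¹ᵁ V := (X.basicOpen_le g).trans e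
    have h2 : (f.appLE V (X.basicOpen g) e2).hom.Flat := by
      have hW : IsAffineOpen (X.basicOpen g) := U.2.basicOpen g
      have : Flat (f.resLE V (X.basicOpen g) e2) := by
        apply Flat.of_stalkMap
        intro y
        rw [RingHom.Flat.respectsIso.arrow_mk_iso_iff (Scheme.Hom.resLEStalkMap f e2 y)]
        exact hflat y.1 (Groth.Agent.Lib.Helper25.BlowUpUP.notMem_support_of_mem_basicOpen
          𝓘 U g hIU y.1 y.2)
      have hA1 : IsAffine (V : Scheme.{u}) := hV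
      have hA2 : IsAffine (X.basicOpen g : Scheme.{u}) := hW
      rw [HasRingHomProperty.iff_of_isAffine (P := @Flat)] at this
      exact (RingHom.Flat.respectsIso.arrow_mk_iso_iff
        (arrowResLEAppIso f V (X.basicOpen g) e2)).mp this
    have hloc := U.2.isLocalization_basicOpen g
    refine Groth.Agent.Lib.Helper25.FlatCartier.flat_of_comp_flat (f.appLE V U.1 e).hom
      (ι.app U.1).hom (X.presheaf.map (homOfLE (X.basicOpen_le g)).op).hom g hg
      (𝓘.subschemeι_app_surjective U) ((𝓘.ker_subschemeι_app U).trans hIU) hloc ?_ ?_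
    · have : (ι ≫ f).appLE V (ι ⁻¹ᵁ U.1) e1 = f.appLE V U.1 e ≫ ι.app U.1 := by
        rw [← Scheme.Hom.appLE_eq_app, Scheme.Hom.appLE_comp_appLE]
      rw [← CommRingCat.hom_comp, ← this]
      exact h1
    · have : f.appLE V (X.basicOpen g) e2 =
          f.appLE V U.1 e ≫ X.presheaf.map (homOfLE (X.basicOpen_le g)).op := by
        rw [Scheme.Hom.appLE_map]
      rw [← CommRingCat.hom_comp, ← this]
      exact h2
  -- stalk
  have hres : Flat (f.resLE V U.1 e) := by
    have hA1 : IsAffine (V : Scheme.{u}) := hV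
    have hA2 : IsAffine (U.1 : Scheme.{u}) := U.2
    rw [HasRingHomProperty.iff_of_isAffine (P := @Flat)]
    exact (RingHom.Flat.respectsIso.arrow_mk_iso_iff (arrowResLEAppIso f V U.1 e)).mpr key
  have := Flat.stalkMap (f.resLE V U.1 e) ⟨x, hxU⟩
  rwa [RingHom.Flat.respectsIso.arrow_mk_iso_iff (Scheme.Hom.resLEStalkMap f e ⟨x, hxU⟩)] at this


end Groth.Agent.S8849
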