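import Groth.Statements.S8850
import Groth.Agent.Lib.Helper26.SchemeImage

set_option autoImplicit false
universe u
open CategoryTheory CategoryTheory.Limits AlgebraicGeometry TopologicalSpace
open SDiv

namespace Groth.Agent.S8850

/-- Let S be a scheme, X a Noetherian S-scheme, Y a proper S-scheme, U ⊆ X an open subscheme and f : U ⟶
Y a morphism compatible with the structure morphisms to S. Then there are a proper morphism p : X' ⟶
X restricting to an isomorphism over U and an S-morphism f' : X' ⟶ Y whose restriction to p⁻¹(U) is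
f composed with p. The published statement takes U dense, so that f is an S-rational map; this row
allows any open U, which its proof does not need. -/
theorem result {X Y S : Scheme.{u}} [IsNoetherian X] (a : X ⟶ S) (b : Y ⟶ S)
    [IsProper b] (U : X.Opens) (f : (U : Scheme.{u}) ⟶ Y) (hf : f ≫ b = U.ι ≫ a) :
    ∃ (X' : Scheme.{u}) (p : X' ⟶ X) (f' : X' ⟶ Y), IsProper p ∧ IsIso (p ∣_ U) ∧ f' ≫ b = p ≫ a ∧
      (p ⁻¹ᵁ U).ι ≫ f' = (p ∣_ U) ≫ f := by
  have hNU : NoetherianSpace (U : Scheme.{u}) := by
    change NoetherianSpace (U : Set X)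
    exact NoetherianSpace.set _
  let g : (U : Scheme.{u}) ⟶ pullback a b := pullback.lift U.ι f hf.symm
  have hgqc : QuasiCompact g := inferInstance
  let ι : g.image ⟶ pullback a b := g.imageι
  let t : (U : Scheme.{u}) ⟶ g.image := g.toImage
  have htι : t ≫ ι = g := g.toImage_imageι
  have htdom : IsSchemeTheoreticallyDominant t :=
    Groth.Agent.Lib.Helper26.isSchemeTheoreticallyDominant_toImage g
  have htqc : QuasiCompact t := inferInstance
  let p : g.image ⟶ X := ι ≫ pullback.fst a b
  let f' : g.image ⟶ Y := ι ≫ pullback.snd a b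
  have hpr1 : IsProper (pullback.fst a b) := MorphismProperty.pullback_fst (P := @IsProper) a b inferInstance
  have hp : IsProper p := inferInstance
  have htp : t ≫ p = U.ι := by
    simp only [p, ← Category.assoc, htι]
    exact pullback.lift_fst _ _ _
  have htf' : t ≫ f' = f := by
    simp only [f', ← Category.assoc, htι]
    exact pullback.lift_snd _ _ _
  have hrange : Set.range t ⊆ Set.range (p ⁻¹ᵁ U).ι := by
    rintro _ ⟨u, rfl⟩
    rw [Scheme.Opens.range_ι]
    change p (t u) ∈ U
    have h1 : p (t u) = U.ι u := by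
      rw [← htp]; rfl
    rw [h1]; exact u.2
  let t' : (U : Scheme.{u}) ⟶ (p ⁻¹ᵁ U : Scheme.{u}) := IsOpenImmersion.lift (p ⁻¹ᵁ U).ι t hrange
  have ht' : t' ≫ (p ⁻¹ᵁ U).ι = t := IsOpenImmersion.lift_fac _ _ _
  have hsec : t' ≫ (p ∣_ U) = 𝟙 _ := by
    rw [← cancel_mono U.ι, Category.assoc, morphismRestrict_ι, ← Category.assoc, ht', htp,
      Category.id_comp]
  have hsep : IsSeparated (p ∣_ U) := inferInstance
  have hci : IsClosedImmersion t' := by
    have : IsClosedImmersion (t' ≫ (p ∣_ U)) := by rw [hsec]; infer_instance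
    exact IsClosedImmersion.of_comp t' (p ∣_ U)
  have hpb : IsPullback (𝟙 _) t' t (p ⁻¹ᵁ U).ι :=
    IsPullback.of_horiz_isIso_mono ⟨by rw [Category.id_comp, ht']⟩
  have hdom' : IsSchemeTheoreticallyDominant t' := IsSchemeTheoreticallyDominant.of_isPullback hpb
  have hiso : IsIso t' := IsClosedImmersion.isIso_iff_ker_eq_bot.mpr t'.ker_eq_bot
  have hq : p ∣_ U = inv t' := by
    rw [← cancel_epi t', hsec, IsIso.hom_inv_id]
  refine ⟨g.image, p, f', hp, ?_, ?_, ?_⟩
  · rw [hq]; infer_instance
  · simp only [p, f', Category.assoc, pullback.condition]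
  · calc (p ⁻¹ᵁ U).ι ≫ f' = (p ∣_ U) ≫ t' ≫ (p ⁻¹ᵁ U).ι ≫ f' := by
          rw [← Category.assoc (p ∣_ U), hq, IsIso.inv_hom_id, Category.id_comp]
      _ = (p ∣_ U) ≫ f := by rw [← Category.assoc t', ht', htf']

end Groth.Agent.S8850
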