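import Groth.Statements.S8854
import Mathlib.RingTheory.Ideal.UFD

set_option autoImplicit false
universe u
open SDiv

namespace Groth.Agent.S8854

/-- Let R be a Noetherian unique factorisation domain and I ⊆ R an ideal such that every associated
prime of R/I is minimal over I (R/I has no embedded primes) and every prime minimal over I has
height 1. Then I is principal: it is generated by one element. -/
theorem result (R : Type u) [CommRing R] [IsDomain R] [IsNoetherianRing R]
    [UniqueFactorizationMonoid R] (I : Ideal R)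
    (h1 : ∀ p : Ideal R, p ∈ associatedPrimes R (R ⧸ I) → p ∈ I.minimalPrimes)
    (h2 : ∀ p : Ideal R, p ∈ I.minimalPrimes → p.height = 1) :
    ∃ f : R, I = Ideal.span {f} := by
  classical
  by_cases hI0 : I = ⊥
  · exact ⟨0, by simp [hI0]⟩
  obtain ⟨a, haI, ha0⟩ := (Submodule.ne_bot_iff I).mp hI0
  let E : Set R := {e | ∃ d, d * e = a ∧ I ≤ Ideal.span {d}}
  have hE : E.Nonempty := ⟨a, 1, by simp, by simp⟩
  obtain ⟨e, ⟨d, hde, hId⟩, hmin⟩ := (wellFounded_dvdNotUnit (α := R)).has_min E hE
  have hd0 : d ≠ 0 := by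
    rintro rfl
    rw [zero_mul] at hde
    exact ha0 hde.symm
  have he0 : e ≠ 0 := by
    rintro rfl
    rw [mul_zero] at hde
    exact ha0 hde.symm
  refine ⟨d, le_antisymm hId ?_⟩
  rw [Ideal.span_singleton_le_iff_mem]
  by_contra hdI
  let I' : Ideal R := I.colon {d}
  have hI'mem : ∀ x, x ∈ I' ↔ x * d ∈ I := fun x => by
    simp only [I', Submodule.mem_colon_singleton, smul_eq_mul]
  have hI'top : I' ≠ ⊤ := by
    intro h
    apply hdI
    have := (hI'mem 1).mp (h ▸ Submodule.mem_top)
    simpa using this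
  have hnt : Nontrivial (R ⧸ I') := Ideal.Quotient.nontrivial_iff.mpr hI'top
  obtain ⟨p, hp⟩ := associatedPrimes.nonempty R (R ⧸ I')
  rw [AssociatedPrimes.mem_iff, isAssociatedPrime_iff] at hp
  obtain ⟨hpprime, xbar, hpx⟩ := hp
  obtain ⟨x, rfl⟩ := Ideal.Quotient.mk_surjective xbar
  have hpmem : ∀ r, r ∈ p ↔ r * x ∈ I' := by
    intro r
    rw [hpx, Submodule.mem_colon_singleton, Submodule.mem_bot, ← Ideal.Quotient.eq_zero_iff_mem]
    rfl
  have hpI : p ∈ associatedPrimes R (R ⧸ I) := by
    rw [AssociatedPrimes.mem_iff, isAssociatedPrime_iff]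
    refine ⟨hpprime, Ideal.Quotient.mk I (x * d), ?_⟩
    ext r
    rw [hpmem, hI'mem, Submodule.mem_colon_singleton, Submodule.mem_bot,
      ← Ideal.Quotient.eq_zero_iff_mem, mul_assoc]
    rfl
  have hpmin := h1 p hpI
  have hph := h2 p hpmin
  have hprinc : p.IsPrincipal := UniqueFactorizationMonoid.isPrincipal_of_height_eq_one hph
  have hpbot : p ≠ ⊥ := p.ne_bot_of_height_eq_one hph
  have hπprime : Prime (hprinc.generator p) := hprinc.prime_generator_of_isPrime p hpbot
  set π := hprinc.generator p with hπdef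
  have hπ : p = Ideal.span {π} := (Ideal.span_singleton_generator p).symm
  have hI'p : I' ≤ p := fun y hy => (hpmem y).mpr (I'.mul_mem_right x hy)
  have hIdπ : I ≤ Ideal.span {d * π} := by
    intro y hy
    obtain ⟨z, rfl⟩ := Ideal.mem_span_singleton'.mp (hId hy)
    have hz : z ∈ I' := (hI'mem z).mpr hy
    have h3 := hI'p hz
    rw [hπ] at h3
    obtain ⟨w, rfl⟩ := Ideal.mem_span_singleton'.mp h3
    exact Ideal.mem_span_singleton'.mpr ⟨w, by ring⟩
  obtain ⟨e', he'⟩ : π ∣ e := by
    have h4 := hIdπ haI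
    rw [Ideal.mem_span_singleton] at h4
    obtain ⟨c, hc⟩ := h4
    refine ⟨c, ?_⟩
    apply mul_left_cancel₀ hd0
    rw [hde, hc]; ring
  have he'E : e' ∈ E := ⟨d * π, by rw [← hde, he']; ring, hIdπ⟩
  apply hmin e' he'E
  refine ⟨?_, π, hπprime.not_isUnit, by rw [he']; ring⟩
  rintro rfl
  apply he0
  rw [he']; ring

end Groth.Agent.S8854
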