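import Groth.Statements.S8856
import Mathlib
import Groth.Agent.Helper19.SmCov6
-- import your own Groth.Agent.* helpers here

set_option autoImplicit false
universe u
open CategoryTheory CategoryTheory.Limits AlgebraicGeometry TopologicalSpace
open SDiv

namespace Groth.Agent.S8856

/-- For a Koszul-regular closed immersion i : Z ⟶ X, some surjective smooth morphism g : X' ⟶ X makes
the base change Z ×_X X' ⟶ X' of i along g a regular immersion. -/
theorem result {Z X : Scheme.{u}} (i : Z ⟶ X) [IsClosedImmersion i]
    (hi : RegImm.IsRegularImmersion RegImm.Kind.koszul i) :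
    ∃ (X' : Scheme.{u}) (g : X' ⟶ X), Smooth g ∧ Surjective g ∧
      RegImm.IsRegularImmersion RegImm.Kind.regular (pullback.snd i g) := by
  exact ⟨Groth.Agent.Helper19.SmCov.cover i hi, Groth.Agent.Helper19.SmCov.coverMap i hi,
    inferInstance, inferInstance, Groth.Agent.Helper19.SmCov.isRegularImmersion_cover i hi⟩

end Groth.Agent.S8856
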