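import Groth.Statements.S8858
import Groth.Agent.Lib.Helper25.BlowUpFinType

set_option autoImplicit false
universe u
open CategoryTheory CategoryTheory.Limits AlgebraicGeometry TopologicalSpace
open SDiv

namespace Groth.Agent.S8858

open Groth.Agent.Lib.Helper25.BlowUpUP in
/-- Let X be a quasi-compact and quasi-separated scheme, U ⊆ X a quasi-compact open subscheme, and b_i :
X_i ⟶ X, i < n, blowing ups of X in quasi-coherent ideal sheaves 𝓘_i of finite type with support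
disjoint from U (U-admissible blow-ups). Then there is a U-admissible blow-up c : X' ⟶ X such that
(a) c factors as X' ⟶ X_i ⟶ X for every i, and (b) each factor X' ⟶ X_i is a blowing up of X_i in a
quasi-coherent ideal sheaf of finite type whose support is disjoint from the inverse image of U. -/
theorem result (X : Scheme.{u}) [CompactSpace ↥X] [QuasiSeparatedSpace ↥X]
    (U : X.Opens) (hU : IsCompact (U : Set ↥X)) {n : ℕ} (Xi : Fin n → Scheme.{u}) (b : ∀ i, Xi i ⟶ X)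
    (𝓘 : Fin n → X.IdealSheafData) (hb : ∀ i, BlowUp.IsBlowUp (b i) (𝓘 i)) (ha : ∀ i, BlowUp.IsAdmissibleFor U (𝓘 i)) :
    ∃ (𝓙 : X.IdealSheafData) (X' : Scheme.{u}) (c : X' ⟶ X), BlowUp.IsBlowUp c 𝓙 ∧ BlowUp.IsAdmissibleFor U 𝓙 ∧
      ∀ i, ∃ (g : X' ⟶ Xi i) (𝓚 : (Xi i).IdealSheafData), g ≫ b i = c ∧ BlowUp.IsBlowUp g 𝓚 ∧
        BlowUp.IsAdmissibleFor ((b i) ⁻¹ᵁ U) 𝓚 := by
  classical
  obtain ⟨X', c, hc⟩ := exists_isBlowUp X (∏ i, 𝓘 i)
  refine ⟨∏ i, 𝓘 i, X', c, hc, ⟨?_, ?_⟩, fun i => ?_⟩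
  · exact isFiniteTypeIdeal_prod _ _ fun i _ => (ha i).1
  · exact support_prod_disjoint _ _ _ fun i _ => (ha i).2
  · have hprod : ∏ j, 𝓘 j = 𝓘 i * ∏ j ∈ Finset.univ.erase i, 𝓘 j :=
      (Finset.mul_prod_erase Finset.univ 𝓘 (Finset.mem_univ i)).symm
    rw [hprod] at hc
    obtain ⟨g, hg, hgb⟩ := exists_factor_of_mul (𝓘 i) _ (b i) (hb i) c hc
    refine ⟨g, _, hg, hgb, ⟨?_, ?_⟩⟩
    · exact isFiniteTypeIdeal_comap _ _ (isFiniteTypeIdeal_prod _ _ fun j _ => (ha j).1)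
    · rw [Scheme.IdealSheafData.support_comap]
      have h1 := support_prod_disjoint (Finset.univ.erase i) 𝓘 (U : Set X)
        fun j _ => (ha j).2
      rw [Set.disjoint_left] at h1 ⊢
      intro y hy hyU
      exact h1 hy hyU

end Groth.Agent.S8858
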