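import Groth.Statements.S8861
import Groth.Agent.Lib.Helper29.QCohAss
import Groth.Agent.Lib.Helper29.QCohIdealMod
import Groth.Agent.Lib.Helper1.IdealSheafComap

set_option autoImplicit false
universe u
open CategoryTheory CategoryTheory.Limits AlgebraicGeometry TopologicalSpace
open SDiv

namespace Groth.Agent.S8861

open Groth.Agent.Lib.Helper29.QCoh
/-- Let f : X ⟶ Y be a morphism of schemes and 𝓘 the ideal sheaf of an effective Cartier divisor D ⊆ Y.
If f x ∉ D for every weakly associated point x of X (weakly associated point of the structure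
sheaf), then the inverse image ideal sheaf of 𝓘 on X is the ideal of an effective Cartier divisor,
i.e. the pullback of D by f is defined. -/
theorem result {X Y : Scheme.{u}} (f : X ⟶ Y) (𝓘 : Y.IdealSheafData)
    (hD : BlowUp.IsEffCartierIdeal 𝓘)
    (h : ∀ x : ↥X, Curv2.IsWeakAssPoint (Coh.structureModule X) x → f x ∉ 𝓘.support) :
    BlowUp.IsEffCartierIdeal (𝓘.comap f) := by
  intro x
  obtain ⟨V, hfxV, t, ht, hIt⟩ := hD (f x)
  obtain ⟨_, ⟨U, hU, rfl⟩, hxU, hUV⟩ :=
    X.isBasis_affineOpens.exists_subset_of_mem_open (show x ∈ (f ⁻¹ᵁ V.1 : Set X) from hfxV)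
      (f ⁻¹ᵁ V.1).2
  have hUV' : U ≤ f ⁻¹ᵁ V.1 := hUV
  refine ⟨⟨U, hU⟩, hxU, (f.appLE V.1 U hUV').hom t, ?_, ?_⟩
  · -- nonzerodivisor
    rw [mem_nonZeroDivisors_iff_right]
    intro b hb
    by_contra hb0
    -- the annihilator of `b` is a proper ideal
    have hne : annSection (unitM X) (toUnit b) ≠ ⊤ := by
      intro htop
      have h1 : (1 : Γ(X, U)) ∈ annSection (unitM X) (toUnit b) := by rw [htop]; trivial
      rw [mem_annSection] at h1
      exact hb0 ((one_mul b).symm.trans h1)
    obtain ⟨M, hM, hMle⟩ := Ideal.exists_le_maximal _ hne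
    have : M.IsPrime := hM.isPrime
    obtain ⟨q, hq, -⟩ := Ideal.exists_minimalPrimes_le hMle
    have hqp : q.IsPrime := hq.1.1
    obtain ⟨z, hz, hzq⟩ := exists_point_of_prime' hU ⟨q, hqp⟩
    have hzass : Curv2.IsWeakAssPoint (Coh.structureModule X) z :=
      isWeakAssPoint_of_mem_minimalPrimes (unitM X) hU (toUnit b) z hz (by rw [hzq]; exact hq)
    apply h z hzass
    -- `f z` lies in the support of `𝓘`
    have hfzV : f z ∈ V.1 := hUV' hz
    rw [Scheme.IdealSheafData.mem_support_iff_of_mem (U := V) hfzV, hIt, Scheme.mem_zeroLocus_iff]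
    intro r hr hfz
    obtain ⟨c, rfl⟩ := Ideal.mem_span_singleton'.mp hr
    have hfzt : f z ∈ Y.basicOpen t := by
      have := Y.basicOpen_mul c t
      rw [this] at hfz
      exact hfz.2
    -- so `z` lies in the basic open of `φ t`, contradicting `φ t ∈ q`
    have hz' : z ∈ X.basicOpen ((f.appLE V.1 U hUV').hom t) := by
      rw [Scheme.Hom.appLE, CommRingCat.hom_comp, RingHom.comp_apply]
      rw [Scheme.basicOpen_res]
      refine ⟨hz, ?_⟩
      rw [← Scheme.Hom.preimage_basicOpen]
      exact hfzt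
    rw [mem_basicOpen_iff_notMem_primeIdealOf hU z hz, hzq] at hz'
    apply hz'
    apply hq.1.2
    rw [mem_annSection]
    exact (mul_comm _ _).trans hb
  · rw [Groth.Agent.Lib.Helper1.ideal_comap 𝓘 f ⟨U, hU⟩ V hUV', hIt, Ideal.map_span,
      Set.image_singleton]


end Groth.Agent.S8861
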