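import Groth.Statements.S8862
import Groth.Agent.Lib.Helper25.BlowUpReg

set_option autoImplicit false
universe u
open CategoryTheory CategoryTheory.Limits AlgebraicGeometry TopologicalSpace
open SDiv

namespace Groth.Agent.S8862

open Groth.Agent.Lib.Helper25.BlowUpUP

theorem mem_nonZeroDivisors_of_notMem_minimalPrimes {R : Type*} [CommRing R] [_root_.IsReduced R]
    (a : R) (h : ∀ p ∈ minimalPrimes R, a ∉ p) : a ∈ nonZeroDivisors R := by
  rw [mem_nonZeroDivisors_iff_right]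
  intro b hb
  have h1 : b ∈ sInf (minimalPrimes R) := by
    rw [Ideal.mem_sInf]
    intro p hp
    have hp' : p.IsPrime := hp.1.1
    have h2 : b * a ∈ p := by rw [hb]; exact p.zero_mem
    exact (hp'.mem_or_mem h2).resolve_right (h p hp)
  rw [minimalPrimes, Ideal.sInf_minimalPrimes] at h1
  have h3 : b ∈ nilradical R := h1
  rw [nilradical_eq_zero] at h3
  exact h3

theorem isMaximalPoint_fromSpec {X : Scheme.{u}} (U : X.affineOpens) (p : Ideal Γ(X, U.1))
    (hp : p ∈ minimalPrimes Γ(X, U.1)) (hp' : p.IsPrime) (y : ↥X)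
    (hy : y ⤳ U.2.fromSpec ⟨p, hp'⟩) : y = U.2.fromSpec ⟨p, hp'⟩ := by
  have hξU : U.2.fromSpec ⟨p, hp'⟩ ∈ U.1 := by
    have h0 : U.2.fromSpec ⟨p, hp'⟩ ∈ U.2.fromSpec.opensRange := ⟨_, rfl⟩
    rwa [U.2.opensRange_fromSpec] at h0
  have hyU : y ∈ U.1 := hy.mem_open U.1.2 hξU
  have hyU' : y ∈ U.2.fromSpec.opensRange := by
    rw [U.2.opensRange_fromSpec]; exact hyU
  obtain ⟨q, rfl⟩ := hyU'
  have h1 : q ⤳ ⟨p, hp'⟩ := U.2.fromSpec.isOpenEmbedding.isInducing.specializes_iff.1 hy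
  have h1' : (show PrimeSpectrum Γ(X, U.1) from q).asIdeal ≤ p :=
    (PrimeSpectrum.le_iff_specializes (show PrimeSpectrum Γ(X, U.1) from q) ⟨p, hp'⟩).2 h1
  rw [minimalPrimes_eq_minimals] at hp
  have h2 : p ≤ (show PrimeSpectrum Γ(X, U.1) from q).asIdeal :=
    hp.2 (show PrimeSpectrum Γ(X, U.1) from q).isPrime h1'
  have h3 : q = ⟨p, hp'⟩ := PrimeSpectrum.ext (le_antisymm h1' h2)
  rw [h3]

/-- Let f : X ⟶ Y be a morphism of schemes with X reduced and 𝓘 the ideal sheaf of an effective Cartier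
divisor D ⊆ Y. If f ξ ∉ D for every generic point ξ of an irreducible component of X (every point of
X with no proper generization), then the inverse image ideal sheaf of 𝓘 on X is the ideal of an
effective Cartier divisor. -/
theorem result {X Y : Scheme.{u}} [IsReduced X] (f : X ⟶ Y) (𝓘 : Y.IdealSheafData)
    (hD : BlowUp.IsEffCartierIdeal 𝓘)
    (h : ∀ ξ : ↥X, (∀ y : ↥X, y ⤳ ξ → y = ξ) → f ξ ∉ 𝓘.support) :
    BlowUp.IsEffCartierIdeal (𝓘.comap f) := by
  intro x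
  obtain ⟨V, hxV, t, ht, hI⟩ := hD (f x)
  obtain ⟨U, hxU, hUV, -⟩ := exists_affineOpens_le_preimage f x V.1 hxV ⊤ trivial
  refine ⟨U, hxU, (f.appLE V.1 U.1 hUV).hom t, ?_, ?_⟩
  · refine mem_nonZeroDivisors_of_notMem_minimalPrimes _ (fun p hp => ?_)
    have hp' : p.IsPrime := hp.1.1
    set ξ := U.2.fromSpec ⟨p, hp'⟩ with hξ
    have hmax : ∀ y : ↥X, y ⤳ ξ → y = ξ := fun y hy => isMaximalPoint_fromSpec U p hp hp' y hy
    have hξU : ξ ∈ U.1 := by
      have h0 : ξ ∈ U.2.fromSpec.opensRange := ⟨_, rfl⟩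
      rwa [U.2.opensRange_fromSpec] at h0
    have hfξ := h ξ hmax
    have hfξV : f ξ ∈ V.1 := hUV hξU
    rw [Scheme.IdealSheafData.mem_support_iff_of_mem hfξV, Scheme.mem_zeroLocus_iff] at hfξ
    push Not at hfξ
    obtain ⟨g, hg, hgξ⟩ := hfξ
    rw [SetLike.mem_coe, hI, Ideal.mem_span_singleton] at hg
    obtain ⟨c, rfl⟩ := hg
    rw [Scheme.basicOpen_mul] at hgξ
    have h1 : ξ ∈ X.basicOpen ((f.appLE V.1 U.1 hUV).hom t) := by
      rw [Scheme.Hom.appLE, CommRingCat.comp_apply, Scheme.basicOpen_res,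
        ← Scheme.Hom.preimage_basicOpen]
      exact ⟨hξU, hgξ.1⟩
    have h2 : (⟨p, hp'⟩ : PrimeSpectrum Γ(X, U.1)) ∈
        PrimeSpectrum.basicOpen ((f.appLE V.1 U.1 hUV).hom t) := by
      rw [← U.2.fromSpec_preimage_basicOpen]
      exact h1
    exact h2
  · rw [Groth.Agent.Lib.Helper1.ideal_comap 𝓘 f U V hUV, hI, Ideal.map_span, Set.image_singleton]

end Groth.Agent.S8862
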