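import Groth.Statements.S8863
-- import your own Groth.Agent.* helpers here
import Groth.Agent.Lib.Helper29.QCohAss

set_option autoImplicit false
universe u
open CategoryTheory CategoryTheory.Limits AlgebraicGeometry TopologicalSpace
open SDiv

namespace Groth.Agent.S8863

open AlgebraicGeometry CategoryTheory Opposite TopologicalSpace in
theorem ring_aux (A : Type u) [CommRing A] [IsNoetherianRing A] (p : Ideal A) [p.IsPrime]
    (S : Type u) [CommRing S] [Algebra A S] [IsLocalization.AtPrime S p] (f : A)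
    (hf : algebraMap A S f ∈ nonZeroDivisors S) :
    ∃ h : A, h ∉ p ∧ ∀ a : A, a * f = 0 → h * a = 0 := by
  let K : Ideal A := LinearMap.ker (LinearMap.mulRight A f)
  have hK : ∀ a : A, a ∈ K ↔ a * f = 0 := fun a => by
    simp [K, LinearMap.mem_ker]
  have hfg : K.FG := IsNoetherian.noetherian K
  -- every element of `K` is killed by an element outside `p`
  have h1 : ∀ a ∈ K, ∃ h : A, h ∉ p ∧ h * a = 0 := fun a ha => by
    have h2 : algebraMap A S a * algebraMap A S f = 0 := by
      rw [← map_mul, (hK a).mp ha, map_zero]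
    have h3 : algebraMap A S a = 0 := (mem_nonZeroDivisors_iff_right.mp hf) _ h2
    obtain ⟨c, hc⟩ := (IsLocalization.map_eq_zero_iff p.primeCompl S a).mp h3
    exact ⟨c.1, c.2, hc⟩
  -- induction on the generators
  have h4 : ∀ (I : Ideal A), I.FG → (∀ a ∈ I, ∃ h : A, h ∉ p ∧ h * a = 0) →
      ∃ h : A, h ∉ p ∧ ∀ a ∈ I, h * a = 0 := by
    intro I hI hIa
    classical
    obtain ⟨s, rfl⟩ := hI
    have h5 : ∃ h : A, h ∉ p ∧ ∀ a ∈ s, h * a = 0 := by
      induction s using Finset.induction_on with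
      | empty => exact ⟨1, fun h => Ideal.IsPrime.ne_top ‹_› ((Ideal.eq_top_iff_one _).mpr h), by simp⟩
      | insert b t hb ih =>
        have ht : ∀ a ∈ Ideal.span (t : Set A), ∃ h : A, h ∉ p ∧ h * a = 0 := fun a ha =>
          hIa a (Ideal.span_mono (by simp) ha)
        obtain ⟨h, hh, hht⟩ := ih ht
        obtain ⟨h', hh', hb'⟩ := hIa b (Ideal.subset_span (by simp))
        refine ⟨h * h', fun hc => ?_, fun a ha => ?_⟩
        · rcases Ideal.IsPrime.mem_or_mem ‹_› hc with hc | hc
          · exact hh hc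
          · exact hh' hc
        · rcases Finset.mem_insert.mp ha with rfl | ha
          · rw [mul_assoc, hb', mul_zero]
          · rw [mul_comm h h', mul_assoc, hht a ha, mul_zero]
    obtain ⟨h, hh, hs⟩ := h5
    refine ⟨h, hh, fun a ha => ?_⟩
    refine Submodule.span_induction (p := fun a _ => h * a = 0) (fun a ha => hs a ha) (by simp)
      (fun a b _ _ ha hb => by rw [mul_add, ha, hb, add_zero])
      (fun c a _ ha => by rw [smul_eq_mul, mul_left_comm, ha, mul_zero]) ha
  obtain ⟨h, hh, hK'⟩ := h4 K hfg h1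
  exact ⟨h, hh, fun a ha => hK' a ((hK a).mpr ha)⟩

/-- Let X be a locally Noetherian scheme and x a point of X. Then the monoid S_x of germs at x of
regular sections of O_X (sections whose germ at every point of their open of definition is a
nonzerodivisor) is the whole monoid of nonzerodivisors of O_{X,x}; consequently K_{X,x} is the total
ring of fractions of O_{X,x}. -/
theorem result (X : Scheme.{u}) [IsLocallyNoetherian X] (x : ↥X) :
    Mero.regStalk X x = nonZeroDivisors ↑(X.presheaf.stalk x) := by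
  open Groth.Agent.Lib.Helper29.QCoh in
  apply le_antisymm (Mero.regStalk_le_nonZeroDivisors x)
  intro g hg
  obtain ⟨U, hU, hxU, -⟩ := exists_isAffineOpen_mem_and_subset (x := x) (U := ⊤) trivial
  have hN : IsNoetherianRing Γ(X, U) :=
    IsLocallyNoetherian.component_noetherian (X := X) ⟨U, hU⟩
  -- represent `g` as a fraction
  let _ : Algebra Γ(X, U) (X.presheaf.stalk x) :=
    TopCat.Presheaf.algebra_section_stalk X.presheaf ⟨x, hxU⟩
  have hloc := hU.isLocalization_stalk ⟨x, hxU⟩
  obtain ⟨⟨f, s⟩, hfs⟩ := IsLocalization.surj (hU.primeIdealOf ⟨x, hxU⟩).asIdeal.primeCompl g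
  have hfs' : g * X.presheaf.germ U x hxU s.1 = X.presheaf.germ U x hxU f := hfs
  have hsunit : IsUnit (X.presheaf.germ U x hxU s.1) :=
    IsLocalization.map_units (M := (hU.primeIdealOf ⟨x, hxU⟩).asIdeal.primeCompl)
      (X.presheaf.stalk x) s
  have hfnzd : algebraMap Γ(X, U) (X.presheaf.stalk x) f ∈ nonZeroDivisors (X.presheaf.stalk x) := by
    change X.presheaf.germ U x hxU f ∈ _
    rw [← hfs']
    exact Submonoid.mul_mem _ hg hsunit.mem_nonZeroDivisors
  obtain ⟨h, hhp, hh⟩ := ring_aux Γ(X, U) (hU.primeIdealOf ⟨x, hxU⟩).asIdeal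
    (X.presheaf.stalk x) f hfnzd
  -- on `D(h * s)` the function `f` is regular and `s` is invertible
  have hxh : x ∈ X.basicOpen (h * s.1) := by
    rw [mem_basicOpen_iff_notMem_primeIdealOf hU x hxU]
    intro hc
    rcases Ideal.IsPrime.mem_or_mem inferInstance hc with hc | hc
    · exact hhp hc
    · exact s.2 hc
  set W := X.basicOpen (h * s.1) with hW
  have hWU : W ≤ U := X.basicOpen_le _
  have hreg : ∀ y : W, X.presheaf.germ U y.1 (hWU y.2) f ∈ nonZeroDivisors (X.presheaf.stalk y.1) := by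
    rintro ⟨y, hy⟩
    have hyU : y ∈ U := hWU hy
    let _ : Algebra Γ(X, U) (X.presheaf.stalk y) :=
      TopCat.Presheaf.algebra_section_stalk X.presheaf ⟨y, hyU⟩
    have hlocy := hU.isLocalization_stalk ⟨y, hyU⟩
    rw [mem_nonZeroDivisors_iff_right]
    intro z hz
    obtain ⟨⟨a, t⟩, hat⟩ := IsLocalization.surj (hU.primeIdealOf ⟨y, hyU⟩).asIdeal.primeCompl z
    have hat' : z * X.presheaf.germ U y hyU t.1 = X.presheaf.germ U y hyU a := hat
    have h1 : X.presheaf.germ U y hyU (a * f) = 0 := by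
      rw [map_mul, ← hat', mul_right_comm, hz, zero_mul]
    have h1' : algebraMap Γ(X, U) (X.presheaf.stalk y) (a * f) = 0 := h1
    obtain ⟨c, hc⟩ := (IsLocalization.map_eq_zero_iff
      (hU.primeIdealOf ⟨y, hyU⟩).asIdeal.primeCompl (X.presheaf.stalk y) (a * f)).mp h1'
    have h2 : h * (c.1 * a) = 0 := hh _ (by rw [mul_assoc]; exact hc)
    have hyh : h ∉ (hU.primeIdealOf ⟨y, hyU⟩).asIdeal := by
      have := (mem_basicOpen_iff_notMem_primeIdealOf hU y hyU (h * s.1)).mp hy
      exact fun hc => this (Ideal.mul_mem_right _ _ hc)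
    have h3 : X.presheaf.germ U y hyU (h * c.1) * X.presheaf.germ U y hyU a = 0 := by
      rw [← map_mul, mul_assoc, h2, map_zero]
    have hunit : IsUnit (X.presheaf.germ U y hyU (h * c.1)) :=
      IsLocalization.map_units (M := (hU.primeIdealOf ⟨y, hyU⟩).asIdeal.primeCompl)
        (X.presheaf.stalk y) ⟨h * c.1, fun hc' => by
          rcases Ideal.IsPrime.mem_or_mem inferInstance hc' with hc' | hc'
          · exact hyh hc'
          · exact c.2 hc'⟩
    have h4 : X.presheaf.germ U y hyU a = 0 := (hunit.mul_right_eq_zero).mp h3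
    have htunit : IsUnit (X.presheaf.germ U y hyU t.1) :=
      IsLocalization.map_units (M := (hU.primeIdealOf ⟨y, hyU⟩).asIdeal.primeCompl)
        (X.presheaf.stalk y) t
    rw [h4] at hat'
    exact (htunit.mul_left_eq_zero).mp hat'
  -- the unit `s` on `W`
  have hsW : IsUnit (X.presheaf.map (homOfLE hWU).op s.1) := by
    have h5 : IsUnit (X.presheaf.map (homOfLE hWU).op (h * s.1)) :=
      RingedSpace.isUnit_res_basicOpen _ (h * s.1)
    rw [map_mul] at h5
    exact isUnit_of_mul_isUnit_right h5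
  obtain ⟨u, hu⟩ := hsW
  refine ⟨W, hxh, X.presheaf.map (homOfLE hWU).op f * (↑u⁻¹ : Γ(X, W)), ?_, ?_⟩
  · refine Submonoid.mul_mem _ (fun y => ?_) (fun y => ?_)
    · change X.presheaf.germ W y.1 y.2 (X.presheaf.map (homOfLE hWU).op f) ∈ _
      rw [TopCat.Presheaf.germ_res_apply]
      exact hreg y
    · change X.presheaf.germ W y.1 y.2 (↑u⁻¹ : Γ(X, W)) ∈ _
      exact (IsUnit.map _ (Units.isUnit u⁻¹)).mem_nonZeroDivisors
  · rw [map_mul, TopCat.Presheaf.germ_res_apply, ← hfs']
    have h6 : X.presheaf.germ U x hxU s.1 = X.presheaf.germ W x hxh (u : Γ(X, W)) := by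
      rw [hu, TopCat.Presheaf.germ_res_apply]
    rw [h6, mul_assoc, ← map_mul, Units.mul_inv, map_one, mul_one]

end Groth.Agent.S8863
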