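import Groth.Statements.S8870
-- import your own Groth.Agent.* helpers here
import Groth.Agent.Lib.Helper29.QCohAss

set_option autoImplicit false
universe u
open CategoryTheory CategoryTheory.Limits AlgebraicGeometry TopologicalSpace
open SDiv

namespace Groth.Agent.S8870

open Groth.Agent.Lib.Helper29.QCoh in
theorem aux_inj {X : Scheme.{u}} {M N : X.Modules} (φ : M ⟶ N) (x : X)
    (hinj : Function.Injective (stalkMap φ x)) (t : M.presheaf.stalk x) :
    annStalk N (stalkMap φ x t) = annStalk M t := by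
  ext r
  rw [mem_annStalk, mem_annStalk, ← stalkMap_smul]
  constructor
  · intro h
    apply hinj
    rw [h, map_zero]
  · intro h
    rw [h, map_zero]

/-- Let X be a scheme and 0 → F₁ → F₂ → F₃ → 0 a short exact sequence of quasi-coherent O_X-modules.
Then WeakAss(F₂) ⊆ WeakAss(F₁) ∪ WeakAss(F₃) and WeakAss(F₁) ⊆ WeakAss(F₂). -/
theorem result (X : Scheme.{u}) (S : ShortComplex X.Modules) (hS : S.ShortExact)
    (h₁ : Coh.IsQCoh S.X₁) (h₂ : Coh.IsQCoh S.X₂) (h₃ : Coh.IsQCoh S.X₃) :
    (∀ x : ↥X, Curv2.IsWeakAssPoint S.X₂ x → Curv2.IsWeakAssPoint S.X₁ x ∨ Curv2.IsWeakAssPoint S.X₃ x) ∧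
      (∀ x : ↥X, Curv2.IsWeakAssPoint S.X₁ x → Curv2.IsWeakAssPoint S.X₂ x) := by
  open Groth.Agent.Lib.Helper29.QCoh in
  have hmono : Mono S.f := hS.mono_f
  have hinj := (mono_iff_stalkMap_injective S.f).mp hmono
  have hex := (exact_iff_stalk_function_exact S).mp hS.exact
  constructor
  · rintro x ⟨b, hb⟩
    by_cases hcase : ∃ r : X.presheaf.stalk x, r • b ≠ 0 ∧ stalkMap S.g x (r • b) = 0
    · left
      obtain ⟨r, hrb, hg⟩ := hcase
      obtain ⟨a, ha⟩ := (hex x _).mp hg
      refine ⟨a, le_antisymm ?_ ?_⟩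
      · have hne : annStalk S.X₁ a ≠ ⊤ := by
          intro htop
          have h1 : (1 : X.presheaf.stalk x) ∈ annStalk S.X₁ a := by rw [htop]; trivial
          rw [mem_annStalk, one_smul] at h1
          apply hrb
          rw [← ha, h1, map_zero]
        exact (Ideal.IsPrime.radical_le_iff inferInstance).mpr (IsLocalRing.le_maximalIdeal hne)
      · rw [← hb]
        apply Ideal.radical_mono
        change annStalk S.X₂ b ≤ annStalk S.X₁ a
        rw [← aux_inj S.f x (hinj x) a, ha]
        intro c hc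
        rw [mem_annStalk] at hc ⊢
        rw [smul_comm, hc, smul_zero]
    · right
      push Not at hcase
      refine ⟨stalkMap S.g x b, ?_⟩
      rw [← hb]
      congr 1
      ext c
      change c ∈ annStalk S.X₃ _ ↔ c ∈ annStalk S.X₂ b
      rw [mem_annStalk, mem_annStalk, ← stalkMap_smul]
      constructor
      · intro h
        by_contra hne
        exact hcase c hne h
      · intro h
        rw [h, map_zero]
  · rintro x ⟨t, ht⟩
    refine ⟨stalkMap S.f x t, ?_⟩
    rw [← ht]
    congr 1
    exact aux_inj S.f x (hinj x) t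

end Groth.Agent.S8870
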