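import Groth.Statements.S8871
import Groth.Agent.S4637
import Groth.Agent.Lib.Helper16.Depth
import Mathlib.RingTheory.KrullDimension.Module
import Mathlib.RingTheory.Ideal.AssociatedPrime.Finiteness

set_option autoImplicit false
universe u
open CategoryTheory CategoryTheory.Limits AlgebraicGeometry TopologicalSpace
open SDiv

namespace Groth.Agent.S8871

section aux
open Groth.Agent.Lib.Helper29.QCoh

/-- Every point of the support of a quasi-coherent module on a locally Noetherian scheme has a
generization which is an associated point. -/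
theorem exists_isAssPoint_specializes {X : Scheme.{u}} [IsLocallyNoetherian X] (F : X.Modules)
    [F.IsQuasicoherent] (y : X) (hy : Nontrivial (F.presheaf.stalk y)) :
    ∃ z : X, Curv2.IsAssPoint F z ∧ z ⤳ y := by
  obtain ⟨V, hV, hyV, -⟩ := exists_isAffineOpen_mem_and_subset (x := y) (U := (⊤ : X.Opens)) trivial
  have hns : ¬ Subsingleton (F.presheaf.stalk y) := not_subsingleton_iff_nontrivial.mpr hy
  rw [stalk_subsingleton_iff_germ F hV y hyV] at hns
  push Not at hns
  obtain ⟨m, hm⟩ := hns
  have hle := annSection_le_primeIdealOf F hV m y hyV hm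
  obtain ⟨q, hq, hqp⟩ := Ideal.exists_minimalPrimes_le hle
  have hqq : q.IsPrime := hq.1.1
  obtain ⟨z, hz, hzq⟩ := exists_point_of_prime' hV ⟨q, hqq⟩
  have hzass : Curv2.IsWeakAssPoint F z :=
    isWeakAssPoint_of_mem_minimalPrimes F hV m z hz (by rw [hzq]; exact hq)
  refine ⟨z, (isAssPoint_iff_isWeakAssPoint F z).mpr hzass, ?_⟩
  exact Groth.Agent.S2510.specializes_of_primeIdealOf_le hV z y hz hyV (by rw [hzq]; exact hqp)

/-- Over a Noetherian local ring, a finite module has positive depth iff the maximal ideal is not
an associated prime. -/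
theorem one_le_depth_iff {R : Type u} [CommRing R] [IsLocalRing R] [IsNoetherianRing R]
    (M : Type u) [AddCommGroup M] [Module R M] [Module.Finite R M] :
    (1 : ℕ∞) ≤ LocCoh.depth R M ↔ ¬ IsAssociatedPrime (IsLocalRing.maximalIdeal R) M := by
  unfold LocCoh.depth
  have h1 := Groth.Agent.Lib.Helper16.Depth.le_idealDepth_iff (IsLocalRing.maximalIdeal R) M 1
  rw [Nat.cast_one] at h1
  rw [h1]
  constructor
  · rintro (htop | ⟨rs, hlen, hreg, hmem⟩)
    · have hbot : (⊤ : Submodule R M) = ⊥ :=
        Submodule.eq_bot_of_le_smul_of_le_jacobson_bot (IsLocalRing.maximalIdeal R) ⊤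
          Module.Finite.fg_top (le_of_eq htop.symm) (IsLocalRing.maximalIdeal_le_jacobson _)
      have : Subsingleton M := by
        refine ⟨fun a b => ?_⟩
        have ha : a ∈ (⊤ : Submodule R M) := trivial
        have hb : b ∈ (⊤ : Submodule R M) := trivial
        rw [hbot, Submodule.mem_bot] at ha hb
        rw [ha, hb]
      exact not_isAssociatedPrime_of_subsingleton
    · intro hass
      rw [isAssociatedPrime_iff] at hass
      obtain ⟨hp, x, hx⟩ := hass
      match rs, hlen with
      | [r], _ =>
        have hr : r ∈ IsLocalRing.maximalIdeal R := hmem r (List.mem_singleton.mpr rfl)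
        have hreg' : IsSMulRegular M r :=
          ((RingTheory.Sequence.isWeaklyRegular_cons_iff M r []).mp hreg).1
        rw [hx, Submodule.mem_colon_singleton, Submodule.mem_bot] at hr
        have hx0 : x = 0 := hreg' (show r • x = r • 0 by rw [hr, smul_zero])
        apply hp.ne_top
        rw [hx, hx0, eq_top_iff]
        intro a _
        rw [Submodule.mem_colon_singleton, smul_zero]
        exact Submodule.zero_mem _
  · intro hass
    right
    by_contra hno
    have hsub : ((IsLocalRing.maximalIdeal R : Ideal R) : Set R) ⊆
        ⋃ p ∈ associatedPrimes R M, (id p : Ideal R) := by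
      simp_rw [id, biUnion_associatedPrimes_eq_zero_divisors]
      intro r hr
      by_contra hr'
      apply hno
      refine ⟨[r], rfl, ?_, fun s hs => by rw [List.mem_singleton.mp hs]; exact hr⟩
      rw [RingTheory.Sequence.isWeaklyRegular_cons_iff]
      refine ⟨?_, RingTheory.Sequence.IsWeaklyRegular.nil R _⟩
      rw [isSMulRegular_iff_right_eq_zero_of_smul]
      intro x hx
      by_contra hx0
      exact hr' ⟨x, hx0, hx⟩
    obtain ⟨P, hP, hle⟩ := ((IsLocalRing.maximalIdeal R).subset_union_prime_finite
      (associatedPrimes.finite R M) (f := id) 0 0 fun _ h _ _ ↦ h.isPrime).1 hsub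
    have hPp : P.IsPrime := hP.isPrime
    have : IsLocalRing.maximalIdeal R = P :=
      (IsLocalRing.maximalIdeal.isMaximal R).eq_of_le hPp.ne_top hle
    exact hass (this ▸ hP)

/-- Over a Noetherian local ring, a nonzero finite module has support of dimension `≤ 0` iff it has
finite length. -/
theorem supportDim_le_zero_iff_isFiniteLength {R : Type u} [CommRing R] [IsLocalRing R]
    [IsNoetherianRing R] (M : Type u) [AddCommGroup M] [Module R M] [Module.Finite R M]
    [Nontrivial M] :
    Module.supportDim R M ≤ 0 ↔ IsFiniteLength R M := by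
  constructor
  · intro hle
    have h0 : Module.supportDim R M = 0 := by
      apply le_antisymm hle
      have hne := Module.supportDim_ne_bot_of_nontrivial R M
      unfold Module.supportDim at hne ⊢
      have : Nonempty (Module.support R M) := Module.nonempty_support_of_nontrivial.to_subtype
      exact Order.krullDim_nonneg
    have hs := support_of_supportDim_eq_zero (R := R) (N := M) h0
    rw [Module.support_eq_zeroLocus, PrimeSpectrum.zeroLocus_eq_iff] at hs
    have hrad : (IsLocalRing.maximalIdeal R).radical = IsLocalRing.maximalIdeal R :=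
      (IsLocalRing.maximalIdeal.isMaximal R).isPrime.radical
    obtain ⟨n, hn⟩ := Ideal.exists_radical_pow_le_of_fg (Module.annihilator R M)
      (IsNoetherian.noetherian _)
    rw [hs, hrad] at hn
    exact Groth.Agent.S4637.isFiniteLength_of_pow_maximalIdeal_le_annihilator n hn
  · intro hfl
    unfold Module.supportDim
    have : Subsingleton (Module.support R M) := by
      refine ⟨fun p q => ?_⟩
      suffices h : ∀ p : Module.support R M, p.1 = IsLocalRing.closedPoint R by
        apply Subtype.ext; rw [h p, h q]
      intro p
      have hp := p.2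
      rw [Module.mem_support_iff_of_finite] at hp
      apply PrimeSpectrum.ext
      symm
      apply (IsLocalRing.maximalIdeal.isMaximal R).eq_of_le p.1.isPrime.ne_top
      intro a ha
      obtain ⟨n, hn⟩ := Groth.Agent.S4637.exists_pow_smul_eq_zero_of_isFiniteLength hfl a ha
      have : a ^ n ∈ p.1.asIdeal := hp (Module.mem_annihilator.mpr hn)
      exact p.1.isPrime.mem_of_pow_mem n this
    exact Order.krullDim_nonpos_of_subsingleton

end aux

/-- Let X be a locally Noetherian scheme and F a coherent O_X-module. Then F has no embedded associated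
points (every associated point of F is maximal among the associated points of F under
specialization) if and only if F has property (S_1): for every point x, depth F_x ≥ min(1, dim Supp
F_x), where dim Supp F_x is the Krull dimension of the support of the O_{X,x}-module F_x (for F_x =
0 the depth is infinite and the support empty, so the condition holds). -/
theorem result (X : Scheme.{u}) [IsLocallyNoetherian X] (F : X.Modules) (hF : Coh.IsCoh F) :
    (∀ x : ↥X, Curv2.IsAssPoint F x → ∀ y : ↥X, Curv2.IsAssPoint F y → y ⤳ x → y = x) ↔
      ∀ x : ↥X, min (1 : WithBot ℕ∞) (Module.supportDim ↑(X.presheaf.stalk x) ↑(F.presheaf.stalk x)) ≤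
        ((LocCoh.depth (X.presheaf.stalk x) (F.presheaf.stalk x) : ℕ∞) : WithBot ℕ∞) := by
  open Groth.Agent.Lib.Helper29.QCoh in
  obtain ⟨hQ, hFT⟩ := hF
  have : F.IsQuasicoherent := hQ
  have : F.IsFiniteType := hFT
  have hfin : ∀ x : X, Module.Finite (X.presheaf.stalk x) (F.presheaf.stalk x) := fun x =>
    Groth.Agent.Lib.Helper17.ZClosDepth.module_finite_stalk F x
  have hNoeth : ∀ x : X, IsNoetherianRing (X.presheaf.stalk x) := fun x => inferInstance
  -- the maximal-point formulation
  have key : ∀ x : X, Curv2.IsAssPoint F x →
      ((∀ y : X, Nontrivial ↑(F.presheaf.stalk y) → y ⤳ x → y = x) ↔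
        Module.supportDim ↑(X.presheaf.stalk x) ↑(F.presheaf.stalk x) ≤ 0) := by
    intro x hx
    have hnt : Nontrivial ↑(F.presheaf.stalk x) := by
      by_contra hns
      rw [not_nontrivial_iff_subsingleton] at hns
      exact not_isAssociatedPrime_of_subsingleton hx
    have := hfin x
    rw [supportDim_le_zero_iff_isFiniteLength]
    have h := Groth.Agent.S4637.result F ⟨hQ, hFT⟩ x
    constructor
    · intro hmax; exact (h.mp ⟨hnt, hmax⟩).2
    · intro hfl; exact (h.mpr ⟨hnt, hfl⟩).2
  constructor
  · intro H x
    have := hfin x
    by_cases hd : (1 : ℕ∞) ≤ LocCoh.depth (X.presheaf.stalk x) (F.presheaf.stalk x)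
    · exact (min_le_left _ _).trans (by exact_mod_cast hd)
    · rw [one_le_depth_iff, not_not] at hd
      have hmax : ∀ y : X, Nontrivial ↑(F.presheaf.stalk y) → y ⤳ x → y = x := by
        intro y hy hyx
        obtain ⟨z, hz, hzy⟩ := exists_isAssPoint_specializes F y hy
        have hzx : z = x := H x hd z hz (hzy.trans hyx)
        subst hzx
        exact (hzy.antisymm hyx).symm.eq
      exact (min_le_right _ _).trans (((key x hd).mp hmax).trans (by exact_mod_cast bot_le))
  · intro H x hx y hy hyx
    have := hfin x
    have hd : ¬ (1 : ℕ∞) ≤ LocCoh.depth (X.presheaf.stalk x) (F.presheaf.stalk x) := by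
      rw [one_le_depth_iff, not_not]; exact hx
    have hsd : Module.supportDim ↑(X.presheaf.stalk x) ↑(F.presheaf.stalk x) ≤ 0 := by
      have h1 := H x
      by_contra hcon
      apply hd
      have h2 : (1 : WithBot ℕ∞) ≤ Module.supportDim ↑(X.presheaf.stalk x) ↑(F.presheaf.stalk x) := by
        by_cases hb : Module.supportDim ↑(X.presheaf.stalk x) ↑(F.presheaf.stalk x) = ⊥
        · exact absurd (hb ▸ bot_le) hcon
        · obtain ⟨n, hn⟩ := WithBot.ne_bot_iff_exists.mp hb
          rw [← hn] at hcon ⊢
          have h3 : ¬ n ≤ 0 := fun h => hcon (by exact_mod_cast h)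
          have h4 : 1 ≤ n := by
            rw [Order.one_le_iff_ne_zero]
            intro h0; exact h3 (le_of_eq h0)
          exact_mod_cast h4
      rw [min_eq_left h2] at h1
      exact_mod_cast h1
    have hnty : Nontrivial ↑(F.presheaf.stalk y) := by
      by_contra hns
      rw [not_nontrivial_iff_subsingleton] at hns
      exact not_isAssociatedPrime_of_subsingleton hy
    exact (key x hx).mpr hsd y hnty hyx

end Groth.Agent.S8871
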