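import Groth.Statements.S8876
import Mathlib
import Groth.Agent.Helper19.FittSheaf
-- import your own Groth.Agent.* helpers here

set_option autoImplicit false
universe u
open CategoryTheory CategoryTheory.Limits AlgebraicGeometry TopologicalSpace
open SDiv

namespace Groth.Agent.S8876

open Groth.Agent.Lib.Helper29.QCoh in

/-- Let S be a scheme and F a quasi-coherent O_S-module of finite type. Then the closed subset of S cut
out by Fit_0(F) equals the support of F (the scheme-theoretic support and the Fit_0 subscheme have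
the same underlying set). -/
theorem result (S : Scheme.{u}) (F : S.Modules) (hF : Coh.IsQCoh F) (hft : CohB1.IsFT F) :
    ((Fitt.sheafIdeal F 0).support : Set ↥S) = CohB1.support F := by
  haveI : F.IsQuasicoherent := hF
  haveI : F.IsFiniteType := hft
  ext s
  obtain ⟨V, hV, hsV, -⟩ := exists_isAffineOpen_mem_and_subset (x := s) (U := ⊤) trivial
  haveI := Groth.Agent.Helper19.FittSheaf.finite_sections F hV
  rw [SetLike.mem_coe,
    Groth.Agent.Helper19.FittSheaf.mem_support_sheafIdeal_iff F 0 ⟨V, hV⟩ hsV]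
  change _ ↔ ¬ Subsingleton (F.presheaf.stalk s)
  rw [stalk_subsingleton_iff F hV s hsV]
  have h1 : (Fitt.ideal Γ(S, V) Γ(F, V) 0 ≤ (hV.primeIdealOf ⟨s, hsV⟩).asIdeal) ↔
      hV.primeIdealOf ⟨s, hsV⟩ ∈ Module.support Γ(S, V) Γ(F, V) := by
    rw [← Groth.Agent.Helper19.FittLib.zeroLocus_ideal_zero, PrimeSpectrum.mem_zeroLocus]
    rfl
  rw [h1, ← not_iff_not, not_not, Module.notMem_support_iff']
  refine forall_congr' fun m => ?_
  constructor
  · rintro ⟨r, hr, hrm⟩
    exact ⟨r, (mem_basicOpen_iff_notMem_primeIdealOf hV s hsV r).mpr hr, hrm⟩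
  · rintro ⟨r, hr, hrm⟩
    exact ⟨r, (mem_basicOpen_iff_notMem_primeIdealOf hV s hsV r).mp hr, hrm⟩

end Groth.Agent.S8876
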