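import Groth.Statements.S8886
import Mathlib.AlgebraicGeometry.Morphisms.SchemeTheoreticallyDominant

set_option autoImplicit false
universe u
open CategoryTheory CategoryTheory.Limits AlgebraicGeometry TopologicalSpace
open SDiv

namespace Groth.Agent.S8886

/-- Let f : X ⟶ Y be a flat morphism of schemes with Y integral. If the scheme-theoretic fibre of f over
the generic point of Y is integral, then X is integral. -/
theorem result {X Y : Scheme.{u}} (f : X ⟶ Y) [Flat f] [IsIntegral Y]
    (h : IsIntegral (f.fiber (genericPoint ↥Y))) : IsIntegral X := by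
  have hqc : QuasiCompact (Y.fromSpecResidueField (genericPoint ↥Y)) := by
    constructor
    intro U _ _
    exact (Set.subsingleton_of_subsingleton (s := (Y.fromSpecResidueField (genericPoint ↥Y)) ⁻¹' U)).isCompact
  have hdom : IsDominant (Y.fromSpecResidueField (genericPoint ↥Y)) := by
    constructor
    rw [DenseRange, dense_iff_closure_eq, Scheme.range_fromSpecResidueField]
    exact (genericPoint_spec ↥Y).def
  have hstd : IsSchemeTheoreticallyDominant (Y.fromSpecResidueField (genericPoint ↥Y)) := .of_isDominant _
  have hι : IsSchemeTheoreticallyDominant (f.fiberι (genericPoint ↥Y)) := by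
    unfold Scheme.Hom.fiberι
    exact IsSchemeTheoreticallyDominant.pullbackFst f _
  have hιqc : QuasiCompact (f.fiberι (genericPoint ↥Y)) := by
    unfold Scheme.Hom.fiberι
    exact MorphismProperty.pullback_fst (P := @QuasiCompact) f _ hqc
  have hne : Nonempty X := ⟨f.fiberι (genericPoint ↥Y) (Nonempty.some h.nonempty)⟩
  refine ⟨hne, fun U hU => ?_⟩
  have hinj := (f.fiberι (genericPoint ↥Y)).app_injective U
  have hnt : Nontrivial Γ(X, U) := inferInstance
  have hnt' : Nontrivial Γ(f.fiber (genericPoint ↥Y), f.fiberι (genericPoint ↥Y) ⁻¹ᵁ U) := hinj.nontrivial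
  have hne' : Nonempty ↥(f.fiberι (genericPoint ↥Y) ⁻¹ᵁ U) := by
    by_contra hcon
    rw [not_nonempty_iff] at hcon
    have hbot : f.fiberι (genericPoint ↥Y) ⁻¹ᵁ U = ⊥ := by
      ext x
      simp only [Opens.coe_bot, Set.mem_empty_iff_false, iff_false]
      intro hx
      exact hcon.false ⟨x, hx⟩
    rw [hbot] at hnt'
    exact not_subsingleton _ (inferInstance : Subsingleton Γ(f.fiber (genericPoint ↥Y), ⊥))
  have hdomain : IsDomain Γ(f.fiber (genericPoint ↥Y), f.fiberι (genericPoint ↥Y) ⁻¹ᵁ U) := @IsIntegral.component_integral _ h _ hne'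
  exact hinj.isDomain ((f.fiberι (genericPoint ↥Y)).app U).hom

end Groth.Agent.S8886
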