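import Groth.Statements.S8887
import Mathlib
import Groth.Agent.Lib.Helper29.QCohLocFree
import Groth.Agent.Lib.Lead.GenFree

set_option autoImplicit false
universe u
open CategoryTheory CategoryTheory.Limits AlgebraicGeometry TopologicalSpace
open SDiv

namespace Groth.Agent.S8887

/-- Let X be an integral scheme and F a quasi-coherent O_X-module of finite type, of rank r (r being the
finite dimension of the generic stalk of F as a vector space over the function field of X). Then one
can find an open subset U of X, not empty, on which the restriction of F is isomorphic to the free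
module of rank r. -/
theorem result (X : Scheme.{u}) [IsIntegral X] (F : X.Modules) (hF : Coh.IsQCoh F)
    (hft : CohB1.IsFT F) :
    ∃ U : X.Opens, (U : Set ↥X).Nonempty ∧
      Nonempty (F.restrict U.ι ≅ FlatMod.freeMod (↑U)
        (Module.finrank ↑(X.presheaf.stalk (genericPoint ↥X)) ↑(F.presheaf.stalk (genericPoint ↥X)))) := by
  classical
  haveI : F.IsQuasicoherent := hF
  haveI : F.IsFiniteType := hft
  set ξ := genericPoint X with hξdef
  obtain ⟨V, hV, hξV, -⟩ := exists_isAffineOpen_mem_and_subset (x := ξ) (U := ⊤) trivial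
  haveI : Nonempty V := ⟨⟨ξ, hξV⟩⟩
  haveI : IsDomain Γ(X, V) := inferInstance
  haveI : Module.Finite Γ(X, V) Γ(F, V) :=
    Groth.Agent.Lib.Helper29.QCoh.module_finite_of_isFiniteType F hV
  obtain ⟨n, e, c, hli, hc, hspan⟩ :=
    Groth.Agent.Lib.Lead.GenFree.exists_fin_linearIndependent Γ(X, V) Γ(F, V)
  -- ξ ∈ D(c)
  have hne : X.basicOpen c ≠ ⊥ := by
    intro h
    exact hc ((basicOpen_eq_bot_iff c).1 h)
  have hξc : ξ ∈ X.basicOpen c := by
    rw [← SetLike.mem_coe, (genericPoint_spec X).mem_open_set_iff (X.basicOpen c).isOpen]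
    rw [Set.univ_inter]
    by_contra hempty
    apply hne
    ext x
    simp only [TopologicalSpace.Opens.coe_bot, Set.mem_empty_iff_false, iff_false]
    intro hx
    exact hempty ⟨x, hx⟩
  -- the rank
  have hrank : Module.finrank ↑(X.presheaf.stalk ξ) ↑(F.presheaf.stalk ξ) = n := by
    letI := Groth.Agent.Lib.Helper29.QCoh.stalkModule F V ξ hξV
    letI : Algebra Γ(X, V) (X.presheaf.stalk ξ) :=
      TopCat.Presheaf.algebra_section_stalk X.presheaf ⟨ξ, hξV⟩
    haveI := hV.isLocalization_stalk ⟨ξ, hξV⟩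
    haveI : IsScalarTower Γ(X, V) (X.presheaf.stalk ξ) (F.presheaf.stalk ξ) :=
      IsScalarTower.of_algebraMap_smul fun a m => rfl
    haveI := Groth.Agent.Lib.Helper29.QCoh.isLocalizedModule_germ F hV ξ hξV
    have hunit : IsUnit (algebraMap Γ(X, V) (X.presheaf.stalk ξ) c) :=
      (Scheme.mem_basicOpen _ _ _ hξV).1 hξc
    obtain ⟨b⟩ := Groth.Agent.Lib.Lead.GenFree.nonempty_basis_of_isLocalizedModule
      (hV.primeIdealOf ⟨ξ, hξV⟩).asIdeal.primeCompl (X.presheaf.stalk ξ)
      (Groth.Agent.Lib.Helper29.QCoh.germₗ F V ξ hξV) e hli c hunit hspan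
    rw [Module.finrank_eq_card_basis b, Fintype.card_fin]
  refine ⟨X.basicOpen c, ⟨ξ, hξc⟩, ?_⟩
  rw [hrank]
  -- freeness over D(c)
  letI := Groth.Agent.Lib.Helper29.QCoh.sectionsModule F (X.basicOpen_le c)
  letI : Algebra Γ(X, V) Γ(X, X.basicOpen c) :=
    (X.presheaf.map (homOfLE (X.basicOpen_le c)).op).hom.toAlgebra
  haveI : IsLocalization.Away c Γ(X, X.basicOpen c) := hV.isLocalization_basicOpen c
  haveI : IsScalarTower Γ(X, V) Γ(X, X.basicOpen c) Γ(F, X.basicOpen c) :=
    IsScalarTower.of_algebraMap_smul fun a m => rfl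
  haveI := Groth.Agent.Lib.Helper29.QCoh.isLocalizedModule_res_basicOpen F hV c
  have hunit : IsUnit (algebraMap Γ(X, V) Γ(X, X.basicOpen c) c) :=
    IsLocalization.Away.algebraMap_isUnit c
  obtain ⟨b⟩ := Groth.Agent.Lib.Lead.GenFree.nonempty_basis_of_isLocalizedModule
    (Submonoid.powers c) Γ(X, X.basicOpen c)
    (Groth.Agent.Lib.Helper29.QCoh.resₗ F (X.basicOpen_le c)) e hli c hunit hspan
  exact (Groth.Agent.Lib.Helper29.QCoh.isFreeAlong_iff_restrict F (X.basicOpen c).ι n).1
    (Groth.Agent.Lib.Helper29.QCoh.isFreeAlong_ι_of_linearEquiv F (hV.basicOpen c) b.repr)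

end Groth.Agent.S8887
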