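import Groth.Statements.S8888
import Mathlib
import Groth.Agent.Lib.Helper29.QCohPullback
import Groth.Agent.Lib.Lead.RankBC

set_option autoImplicit false
universe u
open CategoryTheory CategoryTheory.Limits AlgebraicGeometry TopologicalSpace
open SDiv

namespace Groth.Agent.S8888

/-- Let f : X ⟶ Y be a dominant morphism of integral schemes and G a quasi-coherent O_Y-module. Then the
rank of f^*G on X, the dimension of its stalk at the generic point of X over the function field of
X, equals the rank of G on Y. -/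
theorem result {X Y : Scheme.{u}} [IsIntegral X] [IsIntegral Y] (f : X ⟶ Y) [IsDominant f]
    (G : Y.Modules) (hG : Coh.IsQCoh G) :
    Module.rank ↑(X.presheaf.stalk (genericPoint ↥X)) ↑(((Scheme.Modules.pullback f).obj G).presheaf.stalk (genericPoint ↥X)) =
      Module.rank ↑(Y.presheaf.stalk (genericPoint ↥Y)) ↑(G.presheaf.stalk (genericPoint ↥Y)) := by
  classical
  haveI : G.IsQuasicoherent := hG
  have hη : f.base (genericPoint X) = genericPoint Y := by
    apply ((genericPoint_spec Y).eq _).symm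
    have h1 := (genericPoint_spec X).image f.continuous
    have h2 : closure (f.base '' (Set.univ : Set X)) = Set.univ := by
      rw [Set.image_univ]
      exact f.denseRange.closure_range
    rw [h2] at h1
    exact h1
  suffices h : Module.rank ↑(X.presheaf.stalk (genericPoint ↥X))
      ↑(((Scheme.Modules.pullback f).obj G).presheaf.stalk (genericPoint ↥X)) =
      Module.rank ↑(Y.presheaf.stalk (f.base (genericPoint ↥X)))
        ↑(G.presheaf.stalk (f.base (genericPoint ↥X))) by
    rw [hη] at h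
    exact h
  set ξ := genericPoint X with hξ
  obtain ⟨U, V, hU, hV, hξU, hUV⟩ := Groth.Agent.Lib.Helper29.QCoh.exists_affine_pair f ξ
  have hηV : f.base ξ ∈ V := hUV hξU
  have hKX : IsField (X.presheaf.stalk ξ) := (inferInstance : Field X.functionField).toIsField
  have hKY : IsField (Y.presheaf.stalk (f.base ξ)) := by
    rw [hη]
    exact (inferInstance : Field Y.functionField).toIsField
  -- algebra structures
  letI algAB : Algebra Γ(Y, V) Γ(X, U) := (f.appLE V U hUV).hom.toAlgebra
  letI algAKY : Algebra Γ(Y, V) (Y.presheaf.stalk (f.base ξ)) :=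
    (Y.presheaf.germ V (f.base ξ) hηV).hom.toAlgebra
  letI algBKX : Algebra Γ(X, U) (X.presheaf.stalk ξ) := (X.presheaf.germ U ξ hξU).hom.toAlgebra
  letI algKYKX : Algebra (Y.presheaf.stalk (f.base ξ)) (X.presheaf.stalk ξ) :=
    (f.stalkMap ξ).hom.toAlgebra
  letI algAKX : Algebra Γ(Y, V) (X.presheaf.stalk ξ) :=
    (f.appLE V U hUV ≫ X.presheaf.germ U ξ hξU).hom.toAlgebra
  haveI t1 : IsScalarTower Γ(Y, V) Γ(X, U) (X.presheaf.stalk ξ) :=
    IsScalarTower.of_algebraMap_eq' rfl
  haveI t2 : IsScalarTower Γ(Y, V) (Y.presheaf.stalk (f.base ξ)) (X.presheaf.stalk ξ) := by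
    apply IsScalarTower.of_algebraMap_eq'
    change (f.appLE V U hUV ≫ X.presheaf.germ U ξ hξU).hom =
      (Y.presheaf.germ V (f.base ξ) hηV ≫ f.stalkMap ξ).hom
    rw [Scheme.Hom.germ_stalkMap, Scheme.Hom.appLE, Category.assoc, X.presheaf.germ_res]
  -- modules
  let P := Γ((Scheme.Modules.pullback f).obj G, U)
  letI mAP : Module Γ(Y, V) P := Module.compHom P (algebraMap Γ(Y, V) Γ(X, U))
  haveI t3 : IsScalarTower Γ(Y, V) Γ(X, U) P := IsScalarTower.of_algebraMap_smul fun a m => rfl
  letI mANY : Module Γ(Y, V) (G.presheaf.stalk (f.base ξ)) :=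
    Groth.Agent.Lib.Helper29.QCoh.stalkModule G V (f.base ξ) hηV
  haveI t4 : IsScalarTower Γ(Y, V) (Y.presheaf.stalk (f.base ξ)) (G.presheaf.stalk (f.base ξ)) :=
    IsScalarTower.of_algebraMap_smul fun a m => rfl
  let NX := ((Scheme.Modules.pullback f).obj G).presheaf.stalk ξ
  letI mBNX : Module Γ(X, U) NX :=
    Groth.Agent.Lib.Helper29.QCoh.stalkModule ((Scheme.Modules.pullback f).obj G) U ξ hξU
  letI mANX : Module Γ(Y, V) NX := Module.compHom NX (algebraMap Γ(Y, V) Γ(X, U))
  haveI t5 : IsScalarTower Γ(Y, V) Γ(X, U) NX := IsScalarTower.of_algebraMap_smul fun a m => rfl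
  haveI t6 : IsScalarTower Γ(X, U) (X.presheaf.stalk ξ) NX :=
    IsScalarTower.of_algebraMap_smul fun a m => rfl
  haveI t7 : IsScalarTower Γ(Y, V) (X.presheaf.stalk ξ) NX :=
    IsScalarTower.of_algebraMap_smul fun a m => rfl
  -- base change maps
  let e := Groth.Agent.Lib.Helper29.QCoh.pullbackSectionsEquiv f G hU hV hUV
  let g : Γ(G, V) →ₗ[Γ(Y, V)] P :=
    (e.symm.toLinearMap.restrictScalars Γ(Y, V)).comp (TensorProduct.mk Γ(Y, V) Γ(X, U) Γ(G, V) 1)
  have hg : IsBaseChange Γ(X, U) g := by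
    refine IsBaseChange.of_equiv e.symm (fun x => ?_)
    simp only [g, LinearMap.comp_apply, LinearMap.restrictScalars_apply, TensorProduct.mk_apply,
      LinearEquiv.coe_coe]
  have hl : IsBaseChange (X.presheaf.stalk ξ)
      (Groth.Agent.Lib.Helper29.QCoh.germₗ ((Scheme.Modules.pullback f).obj G) U ξ hξU) := by
    haveI := hU.isLocalization_stalk ⟨ξ, hξU⟩
    haveI := Groth.Agent.Lib.Helper29.QCoh.isLocalizedModule_germ
      ((Scheme.Modules.pullback f).obj G) hU ξ hξU
    exact IsLocalizedModule.isBaseChange (hU.primeIdealOf ⟨ξ, hξU⟩).asIdeal.primeCompl _ _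
  have hj : IsBaseChange (Y.presheaf.stalk (f.base ξ))
      (Groth.Agent.Lib.Helper29.QCoh.germₗ G V (f.base ξ) hηV) := by
    haveI := hV.isLocalization_stalk ⟨f.base ξ, hηV⟩
    haveI := Groth.Agent.Lib.Helper29.QCoh.isLocalizedModule_germ G hV (f.base ξ) hηV
    exact IsLocalizedModule.isBaseChange (hV.primeIdealOf ⟨f.base ξ, hηV⟩).asIdeal.primeCompl _ _
  exact Groth.Agent.Lib.Lead.RankBC.rank_eq_of_isBaseChange' hKY hKX g hg _ hl _ hj

end Groth.Agent.S8888
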