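import Groth.Statements.S8889
-- import your own Groth.Agent.* helpers here
import Groth.Agent.Lib.Helper29.QCohAss2

set_option autoImplicit false
universe u
open CategoryTheory CategoryTheory.Limits AlgebraicGeometry TopologicalSpace
open SDiv

namespace Groth.Agent.S8889

/-- Let X be a scheme and φ : F ⟶ G a morphism of quasi-coherent O_X-modules. Assume that for every
point x of X either the stalk map F_x → G_x is injective or x is not a weakly associated point of F.
Then φ is injective. -/
theorem result (X : Scheme.{u}) {F G : X.Modules} (φ : F ⟶ G) (hF : Coh.IsQCoh F)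
    (hG : Coh.IsQCoh G)
    (h : ∀ x : ↥X, Function.Injective ((TopCat.Presheaf.stalkFunctor AddCommGrpCat.{u} x).map (Scheme.Modules.Hom.mapPresheaf φ)) ∨ ¬ Curv2.IsWeakAssPoint F x) :
    Mono φ := by
  open Groth.Agent.Lib.Helper29.QCoh in
  have : F.IsQuasicoherent := hF
  have : G.IsQuasicoherent := hG
  have hK : (Limits.kernel φ).IsQuasicoherent :=
    Groth.Agent.Lib.Helper29.QCoh.isQuasicoherent_kernel φ
  apply Preadditive.mono_of_kernel_iso_zero
  suffices hz : Limits.IsZero (Limits.kernel φ) from hz.isoZero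
  rw [Groth.Agent.Lib.Helper29.QCoh.isZero_iff_forall_not_isWeakAssPoint]
  intro x hx
  have hxF : Curv2.IsWeakAssPoint F x := by
    rw [← Groth.Agent.Lib.Helper29.QCoh.isAssPoint_iff_isWeakAssPoint] at hx ⊢
    exact Groth.Agent.Lib.Helper29.QCoh.isAssPoint_of_mono (Limits.kernel.ι φ) x hx
  rcases h x with hinj | hn
  · have hinj' : Function.Injective (Groth.Agent.Lib.Helper29.QCoh.stalkMap φ x) := hinj
    have hιinj : Function.Injective
        (Groth.Agent.Lib.Helper29.QCoh.stalkMap (Limits.kernel.ι φ) x) :=
      (Groth.Agent.Lib.Helper29.QCoh.mono_iff_stalkMap_injective _).mp inferInstance x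
    have hsub : Subsingleton ((Limits.kernel φ).presheaf.stalk x) := by
      refine ⟨fun a b => ?_⟩
      apply hιinj
      apply hinj'
      rw [← Groth.Agent.Lib.Helper29.QCoh.stalkMap_comp_apply,
        ← Groth.Agent.Lib.Helper29.QCoh.stalkMap_comp_apply, Limits.kernel.condition]
      have h0 : Groth.Agent.Lib.Helper29.QCoh.stalkMap (0 : Limits.kernel φ ⟶ G) x = 0 :=
        (Groth.Agent.Lib.Helper29.QCoh.stalkFunctor X x).map_zero _ _
      rw [h0]
      rfl
    exact Groth.Agent.Lib.Helper29.QCoh.not_isWeakAssPoint_of_subsingleton _ x hx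
  · exact hn hxF

end Groth.Agent.S8889
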