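import Groth.Statements.S8890
import Groth.Agent.Lib.Helper10.Hartogs
import Groth.Agent.Lib.Helper10.IsoCrit
import Groth.Agent.Lib.Lead.QCohIso

set_option autoImplicit false
universe u
open CategoryTheory CategoryTheory.Limits AlgebraicGeometry TopologicalSpace
open SDiv

namespace Groth.Agent.S8890

section aux
open Groth.Agent.Lib.Helper29.QCoh Groth.Agent.Lib.Helper10.IsoCrit Groth.Agent.Lib.Helper10.Hartogs

variable {X : Scheme.{u}}

/-- Bijectivity on the stalk at `x` gives local bijectivity of the map on sections at the prime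
of `x`. -/
theorem locBij_of_bijective_stalkMap {F G : X.Modules} [F.IsQuasicoherent] [G.IsQuasicoherent]
    (φ : F ⟶ G) {W : X.Opens} (hW : IsAffineOpen W) (x : X) (hxW : x ∈ W)
    (hb : Function.Bijective (stalkMap φ x)) :
    LocBij (appₗ φ W) (hW.primeIdealOf ⟨x, hxW⟩).asIdeal := by
  constructor
  · intro y hy
    have hy' : φ.app W y = 0 := hy
    have h1 : F.presheaf.germ W x hxW y = 0 := by
      apply hb.1
      rw [stalkMap_germ, hy', map_zero, map_zero]
    obtain ⟨r, hxr, hr⟩ := exists_smul_eq_zero_of_germ_eq_zero F hW x hxW y h1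
    exact ⟨r, (mem_basicOpen_iff_notMem_primeIdealOf hW x hxW r).mp hxr, hr⟩
  · intro n
    obtain ⟨t, ht⟩ := hb.2 (G.presheaf.germ W x hxW n)
    obtain ⟨r, m, hxr, hrm⟩ := exists_smul_germ_eq F hW x hxW t
    have h1 : G.presheaf.germ W x hxW (φ.app W m - r • n) = 0 := by
      rw [map_sub, ← stalkMap_germ, ← hrm, stalkMap_smul, ht, germ_smul, sub_self]
    obtain ⟨r', hxr', hr'⟩ := exists_smul_eq_zero_of_germ_eq_zero G hW x hxW _ h1
    have hp : (hW.primeIdealOf ⟨x, hxW⟩).asIdeal.IsPrime := inferInstance
    refine ⟨r' * r, ?_, r' • m, ?_⟩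
    · intro hmem
      rcases hp.mem_or_mem hmem with h | h
      · exact (mem_basicOpen_iff_notMem_primeIdealOf hW x hxW r').mp hxr' h
      · exact (mem_basicOpen_iff_notMem_primeIdealOf hW x hxW r).mp hxr h
    · rw [smul_sub, sub_eq_zero] at hr'
      rw [map_smul, mul_smul]
      exact hr'

end aux

/-- Let X be a locally Noetherian scheme and φ : F ⟶ G a morphism of quasi-coherent O_X-modules with F
coherent. Assume that for every point x of X either the stalk map F_x → G_x is an isomorphism, or
depth(F_x) ≥ 2 and x is not an associated point of G. Then φ is an isomorphism. -/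
theorem result (X : Scheme.{u}) [IsLocallyNoetherian X] {F G : X.Modules} (φ : F ⟶ G)
    (hF : Coh.IsCoh F) (hG : Coh.IsQCoh G)
    (h : ∀ x : ↥X, Function.Bijective ((TopCat.Presheaf.stalkFunctor AddCommGrpCat.{u} x).map (Scheme.Modules.Hom.mapPresheaf φ)) ∨
      ((2 : ℕ∞) ≤ LocCoh.depth (X.presheaf.stalk x) (F.presheaf.stalk x) ∧ ¬ Curv2.IsAssPoint G x)) :
    IsIso φ := by
  have hFq : F.IsQuasicoherent := hF.1
  have hFt : F.IsFiniteType := hF.2
  have hGq : G.IsQuasicoherent := hG
  refine Groth.Agent.Lib.Lead.QCohIso.isIso_of_bijective_on_affine_cover φ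
    (fun W : X.affineOpens => W.1) (fun W => W.2) (fun x => ?_) (fun W => ?_)
  · obtain ⟨W, hW⟩ := (Groth.Agent.Lib.Helper29.QCoh.isOpenCover_affineOpens X).exists_mem x
    exact ⟨W, hW⟩
  · obtain ⟨W, hW⟩ := W
    have hN : IsNoetherianRing Γ(X, W) := IsLocallyNoetherian.component_noetherian ⟨W, hW⟩
    have hfin : Module.Finite Γ(X, W) Γ(F, W) :=
      Groth.Agent.Lib.Helper29.QCoh.module_finite_of_isFiniteType F hW
    have hb : Function.Bijective (Groth.Agent.Lib.Helper29.QCoh.appₗ φ W) := by
      apply Groth.Agent.Lib.Helper10.IsoCrit.bijective_of_forall_prime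
      intro p hp
      obtain ⟨x, hxW, hxp⟩ := Groth.Agent.Lib.Helper10.Hartogs.exists_point_primeIdealOf_eq hW p
      subst hxp
      rcases h x with hb | ⟨hd, hass⟩
      · left
        exact locBij_of_bijective_stalkMap φ hW x hxW hb
      · right
        refine ⟨?_, fun hmem => hass ?_⟩
        · rw [← Groth.Agent.Lib.Helper10.Hartogs.depth_stalk_eq_depth_localized F hW x hxW]
          exact hd
        · let _ : Algebra Γ(X, W) (X.presheaf.stalk x) :=
            TopCat.Presheaf.algebra_section_stalk X.presheaf ⟨x, hxW⟩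
          have hloc : IsLocalization.AtPrime (X.presheaf.stalk x)
              (hW.primeIdealOf ⟨x, hxW⟩).asIdeal := hW.isLocalization_stalk ⟨x, hxW⟩
          let _ := Groth.Agent.Lib.Helper29.QCoh.stalkModule G W x hxW
          have : IsScalarTower Γ(X, W) (X.presheaf.stalk x) (G.presheaf.stalk x) :=
            IsScalarTower.of_algebraMap_smul fun a t => rfl
          have hlm := Groth.Agent.Lib.Helper29.QCoh.isLocalizedModule_germ G hW x hxW
          have hum : (IsLocalRing.maximalIdeal (X.presheaf.stalk x)).comap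
              (algebraMap Γ(X, W) (X.presheaf.stalk x)) = (hW.primeIdealOf ⟨x, hxW⟩).asIdeal :=
            IsLocalization.AtPrime.under_maximalIdeal (X.presheaf.stalk x)
              (hW.primeIdealOf ⟨x, hxW⟩).asIdeal
          have := Module.associatedPrimes.mem_associatedPrimes_of_comap_mem_associatedPrimes_of_isLocalizedModule
            (hW.primeIdealOf ⟨x, hxW⟩).asIdeal.primeCompl
            (Groth.Agent.Lib.Helper29.QCoh.germₗ G W x hxW)
            (IsLocalRing.maximalIdeal (X.presheaf.stalk x)) (by rw [hum]; exact hmem)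
          exact this
    exact hb

end Groth.Agent.S8890
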