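import Groth.Statements.S8891
import Groth.Agent.S8890
import Mathlib.AlgebraicGeometry.FunctionField

set_option autoImplicit false
universe u
open CategoryTheory CategoryTheory.Limits AlgebraicGeometry TopologicalSpace
open SDiv

namespace Groth.Agent.S8891

section aux

/-- On an integral scheme, a point whose local ring has zero maximal ideal is the generic point. -/
theorem eq_genericPoint_of_maximalIdeal_eq_bot (X : Scheme.{u}) [IsIntegral X] (x : X)
    (h : IsLocalRing.maximalIdeal (X.presheaf.stalk x) = ⊥) : x = genericPoint X := by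
  obtain ⟨W, hW, hxW, -⟩ := exists_isAffineOpen_mem_and_subset (x := x) (U := (⊤ : X.Opens)) trivial
  have hne : Nonempty W := ⟨⟨x, hxW⟩⟩
  have hdom : IsDomain Γ(X, W) := inferInstance
  let _ : Algebra Γ(X, W) (X.presheaf.stalk x) :=
    TopCat.Presheaf.algebra_section_stalk X.presheaf ⟨x, hxW⟩
  have hloc : IsLocalization.AtPrime (X.presheaf.stalk x) (hW.primeIdealOf ⟨x, hxW⟩).asIdeal :=
    hW.isLocalization_stalk ⟨x, hxW⟩
  have hum : (IsLocalRing.maximalIdeal (X.presheaf.stalk x)).comap
      (algebraMap Γ(X, W) (X.presheaf.stalk x)) = (hW.primeIdealOf ⟨x, hxW⟩).asIdeal :=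
    IsLocalization.AtPrime.under_maximalIdeal (X.presheaf.stalk x)
      (hW.primeIdealOf ⟨x, hxW⟩).asIdeal
  have hinj : Function.Injective (algebraMap Γ(X, W) (X.presheaf.stalk x)) :=
    IsLocalization.injective (X.presheaf.stalk x)
      (M := (hW.primeIdealOf ⟨x, hxW⟩).asIdeal.primeCompl)
      (Ideal.primeCompl_le_nonZeroDivisors _)
  have hbot : (hW.primeIdealOf ⟨x, hxW⟩).asIdeal = ⊥ := by
    rw [← hum, h, Ideal.comap_bot_of_injective _ hinj]
  have hgW : genericPoint X ∈ W := ((genericPoint_spec X).mem_open_set_iff W.isOpen).mpr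
    ⟨x, trivial, hxW⟩
  have hgen : hW.primeIdealOf ⟨genericPoint X, hgW⟩ = hW.primeIdealOf ⟨x, hxW⟩ := by
    rw [hW.primeIdealOf_genericPoint, genericPoint_eq_bot_of_affine]
    apply PrimeSpectrum.ext
    exact hbot.symm
  have := hW.fromSpec_primeIdealOf ⟨x, hxW⟩
  rw [← hgen, hW.fromSpec_primeIdealOf] at this
  exact this.symm

end aux

/-- Let X be an integral locally Noetherian scheme and φ : F ⟶ G a morphism of quasi-coherent
O_X-modules with F coherent and G torsion free. Assume that for every point x either the stalk map
F_x → G_x is an isomorphism, or depth(F_x) ≥ 2 and x is not the generic point of X. Then φ is an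
isomorphism. (The published statement allows the second alternative at the generic point as well;
since the zero module has infinite depth, F = 0 and G = O_X then satisfy every hypothesis while 0 →
O_X is not an isomorphism. The general criterion this is a special case of requires x not to be
associated to G, which for torsion-free G ≠ 0 fails exactly at the generic point; so the generic
point is excluded from the second alternative here.) -/
theorem result (X : Scheme.{u}) [IsIntegral X] [IsLocallyNoetherian X] {F G : X.Modules}
    (φ : F ⟶ G) (hF : Coh.IsCoh F) (hG : Coh.IsQCoh G)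
    (htf : ∀ x : ↥X, NoZeroSMulDivisors ↑(X.presheaf.stalk x) ↑(G.presheaf.stalk x))
    (h : ∀ x : ↥X, Function.Bijective ((TopCat.Presheaf.stalkFunctor AddCommGrpCat.{u} x).map (Scheme.Modules.Hom.mapPresheaf φ)) ∨
      ((2 : ℕ∞) ≤ LocCoh.depth (X.presheaf.stalk x) (F.presheaf.stalk x) ∧ x ≠ genericPoint ↥X)) :
    IsIso φ := by
  apply Groth.Agent.S8890.result X φ hF hG
  intro x
  rcases h x with hb | ⟨hd, hx⟩
  · exact Or.inl hb
  · refine Or.inr ⟨hd, fun hass => hx ?_⟩
    apply eq_genericPoint_of_maximalIdeal_eq_bot
    obtain ⟨hprime, g, hg⟩ := (isAssociatedPrime_iff).mp hass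
    have hg0 : g ≠ 0 := by
      intro h0
      apply hprime.ne_top
      rw [hg, h0]
      ext a
      simp
    have := htf x
    rw [hg]
    ext a
    rw [Submodule.mem_colon_singleton, Submodule.mem_bot, Ideal.mem_bot]
    constructor
    · intro ha
      exact (smul_eq_zero.mp ha).resolve_right hg0
    · intro ha
      rw [ha, zero_smul]

end Groth.Agent.S8891
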