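import Groth.Statements.S8897
import Mathlib
import Groth.Agent.Helper19.SmDesc6
-- import your own Groth.Agent.* helpers here

set_option autoImplicit false
universe u
open CategoryTheory CategoryTheory.Limits AlgebraicGeometry TopologicalSpace
open SDiv

namespace Groth.Agent.S8897

/-- Let p : X ⟶ S be smooth and let i : Y ⟶ X and j : Y ⟶ S be immersions with i ≫ p = j. If i is a
Koszul-regular (resp. H_1-regular, resp. quasi-regular) immersion, then so is j. -/
theorem result {Y X S : Scheme.{u}} (p : X ⟶ S) [Smooth p] (i : Y ⟶ X) (j : Y ⟶ S)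
    [IsImmersion i] [IsImmersion j] (h : i ≫ p = j) (k : RegImm.Kind) (hk : k ≠ RegImm.Kind.regular)
    (hi : RegImm.IsRegularImmersion k i) : RegImm.IsRegularImmersion k j := by
  cases k with
  | regular => exact absurd rfl hk
  | koszul =>
    exact (Groth.Agent.Helper19.LciCharts.isRegularImmersion_iff_of_smooth j i p h).mpr hi
  | h1 =>
    exact Groth.Agent.Helper19.SmDesc.isRegularImmersion_of_smooth _
      Groth.Agent.Helper19.ConSplit.kindOK_h1 (by simp) (by simp) j i p h hi
  | quasi =>
    exact Groth.Agent.Helper19.SmDesc.isRegularImmersion_of_smooth _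
      Groth.Agent.Helper19.ConSplit.kindOK_quasi (by simp) (by simp) j i p h hi

end Groth.Agent.S8897
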