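import Groth.Statements.S8899
import Groth.Agent.Lib.Helper10.PullbackStalk
import Mathlib.AlgebraicGeometry.Stalk

set_option autoImplicit false
universe u
open CategoryTheory CategoryTheory.Limits AlgebraicGeometry TopologicalSpace
open SDiv

namespace Groth.Agent.S8899

/-- Let f : X ⟶ S be a morphism of schemes, G a quasi-coherent O_S-module and x a point of X over s = f
x such that f is flat at x, no point of f⁻¹(s) other than x specialises to x (x is the generic point
of some irreducible component of the fibre X_s), and s is weakly associated to G. Then x is weakly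
associated to f^*G. -/
theorem result {X S : Scheme.{u}} (f : X ⟶ S) (G : S.Modules) (hG : Coh.IsQCoh G)
    (x : ↥X) (hfl : (f.stalkMap x).hom.Flat) (hgen : ∀ y : ↥X, f y = f x → y ⤳ x → y = x)
    (hs : Curv2.IsWeakAssPoint G (f x)) : Curv2.IsWeakAssPoint ((Scheme.Modules.pullback f).obj G) x := by
  open scoped TensorProduct in
  have : G.IsQuasicoherent := hG
  let _ : Algebra (S.presheaf.stalk (f.base x)) (X.presheaf.stalk x) := (f.stalkMap x).hom.toAlgebra
  have hflat : Module.Flat (S.presheaf.stalk (f.base x)) (X.presheaf.stalk x) := hfl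
  have hloc : IsLocalHom (algebraMap (S.presheaf.stalk (f.base x)) (X.presheaf.stalk x)) :=
    inferInstanceAs (IsLocalHom (f.stalkMap x).hom)
  have hff : Module.FaithfullyFlat (S.presheaf.stalk (f.base x)) (X.presheaf.stalk x) :=
    Module.FaithfullyFlat.of_flat_of_isLocalHom
  obtain ⟨e⟩ := Groth.Agent.Lib.Helper10.PullbackStalk.nonempty_stalk_pullback_equiv f G x
  obtain ⟨t, ht⟩ := hs
  refine ⟨e.symm ((1 : X.presheaf.stalk x) ⊗ₜ[S.presheaf.stalk (f.base x)] t), ?_⟩
  -- the annihilator
  have hker : ∀ b : X.presheaf.stalk x,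
      b ∈ LinearMap.ker (LinearMap.toSpanSingleton (X.presheaf.stalk x) _
        (e.symm ((1 : X.presheaf.stalk x) ⊗ₜ[S.presheaf.stalk (f.base x)] t))) ↔
      b ⊗ₜ[S.presheaf.stalk (f.base x)] t = 0 := by
    intro b
    rw [LinearMap.mem_ker, LinearMap.toSpanSingleton_apply, ← map_smul,
      LinearEquiv.map_eq_zero_iff, TensorProduct.smul_tmul', smul_eq_mul, mul_one]
  -- `t ≠ 0`
  have ht0 : t ≠ 0 := by
    rintro rfl
    have h1 : (1 : S.presheaf.stalk (f.base x)) ∈ IsLocalRing.maximalIdeal _ := by
      rw [← ht]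
      apply Ideal.le_radical
      rw [LinearMap.mem_ker, LinearMap.toSpanSingleton_apply, smul_zero]
    exact (IsLocalRing.maximalIdeal.isMaximal _).ne_top ((Ideal.eq_top_iff_one _).mpr h1)
  apply le_antisymm
  · -- the annihilator is proper
    have hne : LinearMap.ker (LinearMap.toSpanSingleton (X.presheaf.stalk x) _
        (e.symm ((1 : X.presheaf.stalk x) ⊗ₜ[S.presheaf.stalk (f.base x)] t))) ≠ ⊤ := by
      intro htop
      have h1 : (1 : X.presheaf.stalk x) ∈ LinearMap.ker (LinearMap.toSpanSingleton
          (X.presheaf.stalk x) _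
          (e.symm ((1 : X.presheaf.stalk x) ⊗ₜ[S.presheaf.stalk (f.base x)] t))) := by
        rw [htop]; trivial
      rw [hker, Module.FaithfullyFlat.one_tmul_eq_zero_iff] at h1
      exact ht0 h1
    exact (Ideal.IsPrime.radical_le_iff inferInstance).mpr (IsLocalRing.le_maximalIdeal hne)
  · rw [Ideal.radical_eq_sInf]
    refine le_sInf ?_
    rintro Q ⟨hJQ, hQ⟩
    -- `Q` contains the image of the maximal ideal of the base
    have hmQ : IsLocalRing.maximalIdeal (S.presheaf.stalk (f.base x)) ≤
        Q.comap (algebraMap (S.presheaf.stalk (f.base x)) (X.presheaf.stalk x)) := by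
      intro a ha
      rw [← ht] at ha
      obtain ⟨n, hn⟩ := ha
      rw [LinearMap.mem_ker, LinearMap.toSpanSingleton_apply] at hn
      rw [Ideal.mem_comap]
      apply hQ.mem_of_pow_mem n
      apply hJQ
      rw [hker, ← map_pow, ← mul_one (algebraMap _ _ (a ^ n)), ← Algebra.smul_def,
        TensorProduct.smul_tmul, hn, TensorProduct.tmul_zero]
    have hcomap : Q.comap (algebraMap (S.presheaf.stalk (f.base x)) (X.presheaf.stalk x)) =
        IsLocalRing.maximalIdeal (S.presheaf.stalk (f.base x)) :=
      ((IsLocalRing.maximalIdeal.isMaximal _).eq_of_le (Ideal.IsPrime.comap _).ne_top hmQ).symm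
    let Qpt : Spec (X.presheaf.stalk x) := ⟨Q, hQ⟩
    have h1 : X.fromSpecStalk x Qpt ⤳ x := by
      have : X.fromSpecStalk x Qpt ∈ Set.range (X.fromSpecStalk x) := ⟨Qpt, rfl⟩
      rw [Scheme.range_fromSpecStalk] at this
      exact this
    have h2 : f (X.fromSpecStalk x Qpt) = f x := by
      have h3 := Scheme.SpecMap_stalkMap_fromSpecStalk f (x := x)
      have h4 : (X.fromSpecStalk x ≫ f) Qpt =
          (Spec.map (f.stalkMap x) ≫ S.fromSpecStalk (f.base x)) Qpt := by rw [h3]
      change f.base (X.fromSpecStalk x Qpt) = _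
      have h5 : (Spec.map (f.stalkMap x)) Qpt = IsLocalRing.closedPoint _ := by
        apply PrimeSpectrum.ext
        exact hcomap
      have h6 : (Spec.map (f.stalkMap x) ≫ S.fromSpecStalk (f.base x)) Qpt =
          S.fromSpecStalk (f.base x) ((Spec.map (f.stalkMap x)) Qpt) := rfl
      rw [h6, h5, Scheme.fromSpecStalk_closedPoint] at h4
      exact h4
    have h7 := hgen _ h2 h1
    have h8 : X.fromSpecStalk x Qpt = X.fromSpecStalk x (IsLocalRing.closedPoint _) := by
      rw [h7, Scheme.fromSpecStalk_closedPoint]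
    have h9 := (X.fromSpecStalk x).isEmbedding.injective h8
    have h10 : Q = (IsLocalRing.closedPoint (X.presheaf.stalk x)).asIdeal :=
      congrArg PrimeSpectrum.asIdeal h9
    rw [h10]
    exact le_rfl

end Groth.Agent.S8899
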