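import Groth.Statements.S8915
import Mathlib
import Groth.Agent.Helper19.OmegaLocal2
import Groth.Agent.S8876
-- import your own Groth.Agent.* helpers here

set_option autoImplicit false
universe u
open CategoryTheory CategoryTheory.Limits AlgebraicGeometry TopologicalSpace
open SDiv

namespace Groth.Agent.S8915

open Groth.Agent.Helper19.OmegaLocal Groth.Agent.Lib.Helper29.QCoh in

/-- Let f : X ⟶ S be locally of finite type and quasi-separated. Then the closed subset of X defined by
the Fitting ideal Fit_0(Ω_{X/S}) is exactly the set of points at which f is not unramified, i.e.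
which have no open neighbourhood on which f is formally unramified. The published statement does not
assume f quasi-separated; this row does, because the module Ω_{X/S} used here is defined for
quasi-separated f. -/
theorem result {X S : Scheme.{u}} (f : X ⟶ S) [LocallyOfFiniteType f] [QuasiSeparated f]
    (x : ↥X) :
    x ∈ (Fitt.sheafIdeal (Omega.sheaf f) 0).support ↔ ¬ ∃ U : X.Opens, x ∈ U ∧ FormallyUnramified (U.ι ≫ f) := by
  have h1 := Groth.Agent.S8876.result X (Omega.sheaf f) (isQuasicoherent_omega f)
    (isFiniteType_omega f)
  have h2 : x ∈ (Fitt.sheafIdeal (Omega.sheaf f) 0).support ↔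
      ¬ Subsingleton ((Omega.sheaf f).presheaf.stalk x) := by
    rw [← SetLike.mem_coe, h1]
    rfl
  rw [h2, not_iff_not]
  constructor
  · intro hx
    have hopen := isOpen_setOf_subsingleton_stalk (Omega.sheaf f)
    let U : X.Opens := ⟨_, hopen⟩
    exact ⟨U, hx, (formallyUnramified_ι_comp_iff_stalk f U).mpr (fun y hy => hy)⟩
  · rintro ⟨U, hxU, hU⟩
    exact (formallyUnramified_ι_comp_iff_stalk f U).mp hU x hxU

end Groth.Agent.S8915
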