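import Groth.Statements.S8917
import Mathlib
import Groth.Agent.Helper19.OmegaBC
import Groth.Agent.Helper19.FittSheaf2
import Groth.Agent.S8872
-- import your own Groth.Agent.* helpers here

set_option autoImplicit false
universe u
open CategoryTheory CategoryTheory.Limits AlgebraicGeometry TopologicalSpace
open SDiv

namespace Groth.Agent.S8917

open Groth.Agent.Helper19.OmegaLocal Groth.Agent.Lib.Helper29.QCoh Groth.Agent.Helper19.FittSheaf
  Groth.Agent.Helper19.FittLib in

/-- Let f : X ⟶ S be locally of finite type and quasi-separated and let g : S' ⟶ S be a morphism, X' = X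
×_S S' with projections g' : X' ⟶ X and f' : X' ⟶ S'. Then for every i the inverse image ideal sheaf
under g' of the i-th Fitting ideal of Ω_{X/S} is the i-th Fitting ideal of Ω_{X'/S'}: the Fitting
subschemes of Ω are compatible with base change. The published statement does not assume f
quasi-separated; this row does, because the module Ω_{X/S} used here is defined for quasi-separated
f. -/
theorem result {X S S' : Scheme.{u}} (f : X ⟶ S) [LocallyOfFiniteType f] [QuasiSeparated f] (g : S' ⟶ S)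
    (i : ℕ) :
    (Fitt.sheafIdeal (Omega.sheaf f) i).comap (pullback.fst f g) = Fitt.sheafIdeal (Omega.sheaf (pullback.snd f g)) i := by
  rw [Groth.Agent.S8872.result (pullback.fst f g) (Omega.sheaf f) (isQuasicoherent_omega f)
    (isFiniteType_omega f) i]
  let ι := {t : X.affineOpens × S.affineOpens × S'.affineOpens //
    t.1.1 ≤ f ⁻¹ᵁ t.2.1.1 ∧ t.2.2.1 ≤ g ⁻¹ᵁ t.2.1.1}
  refine Scheme.IdealSheafData.ext_of_iSup_eq_top
    (fun t : ι => ⟨bcOpen f g t.1.1.1 t.1.2.2.1,
      isAffineOpen_bcOpen f g t.1.1.2 t.1.2.1.2 t.1.2.2.2 t.2.1 t.2.2⟩) ?_ (fun t => ?_)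
  · rw [eq_top_iff]
    intro x _
    obtain ⟨V, hV, hxV, -⟩ := exists_isAffineOpen_mem_and_subset
      (x := f ((pullback.fst f g) x)) (U := ⊤) trivial
    obtain ⟨U, hU, hxU, hUV⟩ := exists_isAffineOpen_mem_and_subset
      (x := (pullback.fst f g) x) (U := f ⁻¹ᵁ V) hxV
    have hxV' : (pullback.snd f g) x ∈ g ⁻¹ᵁ V := by
      change g ((pullback.snd f g) x) ∈ V
      have : g ((pullback.snd f g) x) = f ((pullback.fst f g) x) := by
        rw [← Scheme.Hom.comp_apply, ← Scheme.Hom.comp_apply, pullback.condition]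
      rw [this]
      exact hxV
    obtain ⟨V', hV', hxV'', hV'V⟩ := exists_isAffineOpen_mem_and_subset
      (x := (pullback.snd f g) x) (U := g ⁻¹ᵁ V) hxV'
    exact Opens.mem_iSup.mpr ⟨⟨(⟨U, hU⟩, ⟨V, hV⟩, ⟨V', hV'⟩), hUV, hV'V⟩, ⟨hxU, hxV''⟩⟩
  · rw [sheafIdeal_ideal, sheafIdeal_ideal]
    obtain ⟨E⟩ := nonempty_linearEquiv_pullback_omega f g t.1.1.2 t.1.2.1.2 t.1.2.2.2 t.2.1 t.2.2
    exact ideal_congr E i

end Groth.Agent.S8917
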