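import Groth.Statements.S8921
import Mathlib
import Groth.Agent.Helper19.ConSplit6
import Groth.Agent.Helper19.ConSplit7
import Groth.Agent.Helper19.ConSplit8
import Groth.Agent.Helper19.ConSplit12
import Groth.Agent.Helper19.RegTwoThree
import Groth.Agent.Helper19.RegKindAt
-- import your own Groth.Agent.* helpers here

set_option autoImplicit false
universe u
open CategoryTheory CategoryTheory.Limits AlgebraicGeometry TopologicalSpace
open SDiv

namespace Groth.Agent.S8921

/-- Let i : Z ⟶ Y and j : Y ⟶ X be immersions of schemes with X locally Noetherian, z a point of Z with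
images y = i z and x, and a : i^*C_{Y/X} ⟶ C_{Z/X}, b : C_{Z/X} ⟶ C_{Z/Y} the canonical maps of
conormal sheaves. The following are equivalent: (1) i is regular near z and j is regular near y; (2)
i and j ∘ i are regular near z; (3) j ∘ i is regular near z and the sequence 0 → i^*C_{Y/X} →
C_{Z/X} → C_{Z/Y} → 0 is split short exact over some open neighbourhood of z. Both immersions are
quasi-compact automatically, X being locally Noetherian; the quasi-compactness binders only make the
conormal sheaves available. -/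
theorem result {Z Y X : Scheme.{u}} (i : Z ⟶ Y) (j : Y ⟶ X) [IsImmersion i] [IsImmersion j]
    [QuasiCompact i] [QuasiCompact j]
    (a : (Scheme.Modules.pullback i).obj (Omega.conormal j) ⟶ Omega.conormal (i ≫ j))
    (ha : OmegaSh.IsConormalMap (i ≫ j) j (𝟙 X) i a)
    (b : (Scheme.Modules.pullback (𝟙 Z)).obj (Omega.conormal (i ≫ j)) ⟶ Omega.conormal i)
    (hb : OmegaSh.IsConormalMap i (i ≫ j) j (𝟙 Z) b)
    [IsLocallyNoetherian X] (z : ↥Z) :
    ((RegImm.IsRegularImmersionAt RegImm.Kind.regular i z ∧ RegImm.IsRegularImmersionAt RegImm.Kind.regular j (i z)) ↔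
      (RegImm.IsRegularImmersionAt RegImm.Kind.regular i z ∧ RegImm.IsRegularImmersionAt RegImm.Kind.regular (i ≫ j) z)) ∧
    ((RegImm.IsRegularImmersionAt RegImm.Kind.regular i z ∧ RegImm.IsRegularImmersionAt RegImm.Kind.regular (i ≫ j) z) ↔
      (RegImm.IsRegularImmersionAt RegImm.Kind.regular (i ≫ j) z ∧
        ∃ U : Z.Opens, z ∈ U ∧
          ∀ w : (Scheme.Modules.restrictFunctor U.ι).map a ≫ (Scheme.Modules.restrictFunctor U.ι).map ((Scheme.Modules.pullbackId Z).inv.app (Omega.conormal (i ≫ j)) ≫ b) = 0,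
            Nonempty (ShortComplex.mk ((Scheme.Modules.restrictFunctor U.ι).map a) ((Scheme.Modules.restrictFunctor U.ι).map ((Scheme.Modules.pullbackId Z).inv.app (Omega.conormal (i ≫ j)) ≫ b)) w).Splitting)) := by
  open Groth.Agent.Helper19.RegNearImm Groth.Agent.Helper19.ConSplit in
  haveI hY : IsLocallyNoetherian Y := isLocallyNoetherian_of_isImmersion j
  refine ⟨⟨fun h => ⟨h.1, regular_comp_at i j z h.1 h.2⟩,
    fun h => ⟨h.1, regular_of_comp_at i j z h.1 h.2⟩⟩, ⟨fun h => ⟨h.2, ?_⟩, fun h => ⟨?_, h.1⟩⟩⟩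
  · exact exists_splitting_at i j a ha b hb z (h1At_of_regularAt i z h.1)
  · obtain ⟨hij, U, hzU, hsp⟩ := h
    have w₀ := conormal_seq_zero i j a ha b hb
    have w : (Scheme.Modules.restrictFunctor U.ι).map a ≫ (Scheme.Modules.restrictFunctor U.ι).map
        ((Scheme.Modules.pullbackId Z).inv.app (Omega.conormal (i ≫ j)) ≫ b) = 0 := by
      rw [← Functor.map_comp, w₀, Functor.map_zero]
    obtain ⟨sp⟩ := hsp w
    apply regularAt_of_quasiAt i z
    refine isRegularImmersionAt_of_retraction i j a ha RegImm.Kind.quasi kindOK_quasi z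
      (quasiAt_of_regularAt (i ≫ j) z hij) (fun h => by cases h) ⊤ trivial ?_ U hzU ?_
    · intro U' hU' _
      haveI : IsNoetherianRing Γ(X, U') := IsLocallyNoetherian.component_noetherian ⟨U', hU'⟩
      exact IsNoetherian.noetherian _
    · intro W hW
      exact exists_sections_retraction a U sp.r sp.f_r W hW

end Groth.Agent.S8921
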