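import Groth.Statements.S8923
import Mathlib
import Groth.Agent.Lib.Helper18.C1Add3
import Groth.Agent.Lib.Helper18.CodimOne

set_option autoImplicit false
universe u
open CategoryTheory CategoryTheory.Limits AlgebraicGeometry TopologicalSpace
open SDiv

namespace Groth.Agent.S8923

/-- Let X be an integral scheme that is locally Noetherian, L an invertible O_X-module and s a nonzero
rational (regular meromorphic) section of L, viewed as a nonzero element of the stalk of L at the
generic point. Then the collection of prime divisors Z ⊆ X with ord_{Z,L}(s) ≠ 0, i.e. the closures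
of the codimension-1 points x (dim O_{X,x} = 1) along which s has nonzero order, is locally finite
in X. -/
theorem result (X : Scheme.{u}) [IsIntegral X] [IsLocallyNoetherian X] (L : X.Modules)
    (hL : PicF.IsInvertible L) (s : Cyc.secFibre L (genericPoint ↥X)) (hs : s ≠ 0) :
    LocallyFinite (fun x : {x : ↥X // ringKrullDim ↑(X.presheaf.stalk x) = 1 ∧
        Cyc.secOrdAt L (genericPoint ↥X) x ((genericPoint_spec ↥X).specializes (Set.mem_univ x)) s ≠ 0} => closure ({x.1} : Set ↥X)) := by
  classical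
  intro x₀
  obtain ⟨V, a, hVaff, hx₀V, -, hTa⟩ :=
    Groth.Agent.Lib.Helper29.QCoh.exists_affine_isTriv hL (W := ⊤) x₀ trivial
  refine ⟨V, V.2.mem_nhds hx₀V, ?_⟩
  have hηV : genericPoint ↥X ∈ V := (genericPoint_specializes x₀).mem_open V.2 hx₀V
  haveI : Nonempty V := ⟨⟨x₀, hx₀V⟩⟩
  haveI := functionField_isFractionRing_of_isAffineOpen X V hVaff
  obtain ⟨ψ, eψ⟩ := Groth.Agent.Lib.Helper18.InvStalk.exists_smul_mk_eq
    (IsLocalRing.maximalIdeal (X.presheaf.stalk (genericPoint ↥X)))
    (L.presheaf.germ V (genericPoint ↥X) hηV a)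
    (Groth.Agent.Lib.Helper18.InvStalk.span_germ_eq_top L hTa _ hηV) s
  obtain ⟨p, q, hq, hpq⟩ := IsFractionRing.div_surjective (A := Γ(X, V))
    (show X.functionField from ψ)
  have hq0 : q ≠ 0 := nonZeroDivisors.ne_zero hq
  have hqK : algebraMap Γ(X, V) X.functionField q ≠ 0 := by
    rw [Ne, FaithfulSMul.algebraMap_eq_zero_iff]; exact hq0
  have hψ0 : ψ ≠ 0 := by
    rintro rfl
    rw [zero_smul] at eψ
    exact hs eψ
  have hp0 : p ≠ 0 := by
    rintro rfl
    rw [map_zero, zero_div] at hpq
    exact hψ0 hpq.symm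
  have hmul : ψ * X.presheaf.germ V (genericPoint ↥X) hηV q =
      X.presheaf.germ V (genericPoint ↥X) hηV p := by
    have := (div_eq_iff hqK).mp hpq
    exact this.symm
  have fin_p := Groth.Agent.Lib.Helper18.CodimOne.finite_codimOne_notUnit hVaff p hp0
  have fin_q := Groth.Agent.Lib.Helper18.CodimOne.finite_codimOne_notUnit hVaff q hq0
  refine ((fin_p.union fin_q).preimage Subtype.val_injective.injOn).subset ?_
  rintro ⟨x, hdim, hord⟩ ⟨y, hy1, hy2⟩
  have hxy : x ⤳ y := specializes_iff_mem_closure.mpr hy1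
  have hxV : x ∈ V := hxy.mem_open V.2 hy2
  by_contra hcon
  simp only [Set.mem_preimage, Set.mem_union, Set.mem_setOf_eq, not_or, not_exists, not_and,
    not_not] at hcon
  have hup : IsUnit (X.presheaf.germ V x hxV p) := hcon.1 hxV hdim
  have huq : IsUnit (X.presheaf.germ V x hxV q) := hcon.2 hxV hdim
  apply hord
  have h : genericPoint ↥X ⤳ x := genericPoint_specializes x
  have hK : Ring.KrullDimLE 1 (Cyc.LocQuot x (genericPoint ↥X) h) := by
    rw [Ring.krullDimLE_iff]
    refine (ringKrullDim_quotient_le _).trans ?_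
    rw [hdim]
    rfl
  have gη : L.presheaf.germ V (genericPoint ↥X) hηV a =
      (1 : X.presheaf.stalk (genericPoint ↥X)) •
        L.presheaf.stalkSpecializes h (L.presheaf.germ V x hxV a) := by
    rw [one_smul]
    exact (TopCat.Presheaf.germ_stalkSpecializes_apply _ _ _ _).symm
  obtain ⟨k1, k2, k3⟩ := Groth.Agent.Lib.Helper18.C1Add.secOrdAt_eq_of_generators' hL x
    (genericPoint ↥X) h hK _
    (Groth.Agent.Lib.Helper18.InvStalk.span_germ_eq_top L hTa x hxV) _ 1 gη s hs ψ eψ
  change Cyc.secOrdAt L (genericPoint ↥X) x h s = 0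
  rw [k1]
  haveI : (RingHom.ker (Cyc.specMap x (genericPoint ↥X) h)).IsPrime := RingHom.ker_isPrime _
  haveI : IsDomain (Cyc.LocQuot x (genericPoint ↥X) h) := Ideal.Quotient.isDomain _
  haveI := hK
  haveI : IsFractionRing (Cyc.LocQuot x (genericPoint ↥X) h) (X.residueField (genericPoint ↥X)) :=
    Groth.Agent.Lib.Helper18.LocStalk.isFractionRing_locQuot x (genericPoint ↥X) h
  have hspec : ∀ c : Γ(X, V), (X.residue (genericPoint ↥X)).hom
      (X.presheaf.germ V (genericPoint ↥X) hηV c) =
      algebraMap (Cyc.LocQuot x (genericPoint ↥X) h) (X.residueField (genericPoint ↥X))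
        (Ideal.Quotient.mk (RingHom.ker (Cyc.specMap x (genericPoint ↥X) h))
          (X.presheaf.germ V x hxV c)) := by
    intro c
    rw [Groth.Agent.Lib.Helper18.DivPull.algebraMap_locQuot_mk]
    unfold Cyc.specMap
    rw [← TopCat.Presheaf.germ_stalkSpecializes_apply X.presheaf hxV h c]
    rfl
  have hzero : ∀ c : Γ(X, V), IsUnit (X.presheaf.germ V x hxV c) →
      Cyc.ordAt x (genericPoint ↥X) h ((X.residue (genericPoint ↥X)).hom
        (X.presheaf.germ V (genericPoint ↥X) hηV c)) = 0 := by
    intro c hc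
    rw [hspec c]
    unfold Cyc.ordAt
    exact Groth.Agent.Lib.Helper18.DivPull.ordFrac_algebraMap_of_isUnit _ (hc.map _)
  have hne : ∀ c : Γ(X, V), IsUnit (X.presheaf.germ V x hxV c) →
      (X.residue (genericPoint ↥X)).hom (X.presheaf.germ V (genericPoint ↥X) hηV c) ≠ 0 := by
    intro c hc
    rw [hspec c, Ne, FaithfulSMul.algebraMap_eq_zero_iff]
    exact (hc.map _).ne_zero
  have hres := congrArg (X.residue (genericPoint ↥X)).hom hmul
  rw [map_mul] at hres
  have h1 := Groth.Agent.Lib.Helper26.OrdZ.ordFrac_mul (A := Cyc.LocQuot x (genericPoint ↥X) h)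
    k2 (hne q huq)
  rw [hres] at h1
  have h2 := hzero p hup
  have h3 := hzero q huq
  unfold Cyc.ordAt at h2 h3 ⊢
  rw [map_one, Groth.Agent.Lib.Helper26.OrdZ.ordFrac_one]
  linarith

end Groth.Agent.S8923
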