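import Groth.Statements.S8926
-- import your own Groth.Agent.* helpers here

set_option autoImplicit false
universe u
open InjHull

namespace Groth.Agent.S8926

open TensorProduct in
theorem linear_of_epi (R S : Type*) [CommRing R] [CommRing S] [Algebra R S] [Algebra.IsEpi R S]
    {M N : Type*} [AddCommGroup M] [AddCommGroup N] [Module S M] [Module R M] [IsScalarTower R S M]
    [Module S N] [Module R N] [IsScalarTower R S N] (h : M →ₗ[R] N) (s : S) (m : M) :
    h (s • m) = s • h m := by
  let β : S →ₗ[R] S →ₗ[R] N := LinearMap.mk₂ R (fun a b => a • h (b • m))
    (fun a a' b => by simp only [add_smul])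
    (fun r a b => by simp only [smul_assoc])
    (fun a b b' => by simp only [add_smul, map_add, smul_add])
    (fun r a b => by
      simp only [smul_assoc, map_smul]
      rw [smul_comm])
  have h1 : TensorProduct.lift β ((1 : S) ⊗ₜ[R] s) = h (s • m) := by
    simp [β]
  have h2 : TensorProduct.lift β (s ⊗ₜ[R] (1 : S)) = s • h m := by
    simp [β]
  rw [← h1, ← h2, (Algebra.isEpi_iff_forall_one_tmul_eq R S).mp inferInstance s]

/-- Suppose R → S is an epimorphism of rings and E is an S-module whose underlying R-module (via
restriction of scalars) is injective; then E is injective as an S-module as well. -/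
theorem result (R S : Type u) [CommRing R] [CommRing S] [Algebra R S] [Algebra.IsEpi R S] (E : Type u) [AddCommGroup E] [Module S E] [Module R E] [IsScalarTower R S E] [Module.Injective R E] : Module.Injective S E := by
  refine ⟨fun X Y _ _ _ _ f hf g => ?_⟩
  letI : Module R X := Module.compHom X (algebraMap R S)
  letI : Module R Y := Module.compHom Y (algebraMap R S)
  haveI : IsScalarTower R S X := IsScalarTower.of_algebraMap_smul fun r x => rfl
  haveI : IsScalarTower R S Y := IsScalarTower.of_algebraMap_smul fun r x => rfl
  obtain ⟨h, hh⟩ := Module.Injective.out (R := R) (Q := E) (f.restrictScalars R) hf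
    (g.restrictScalars R)
  refine ⟨{ toFun := h, map_add' := h.map_add, map_smul' := fun s y => ?_ }, fun x => hh x⟩
  exact linear_of_epi R S h s y

end Groth.Agent.S8926
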