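import Groth.Statements.S8927
import Mathlib.RingTheory.Flat.TorsionFree

set_option autoImplicit false
universe u
open Disc

namespace Groth.Agent.S8927

/-- For a map A → B of Noetherian rings such that the localization B_q is flat over A for every
associated prime q of B, every nonzerodivisor of A maps to a nonzerodivisor of B. -/
theorem result (A B : Type u) [CommRing A] [CommRing B] [IsNoetherianRing A] [IsNoetherianRing B] [Algebra A B] (h3 : ∀ (q : Ideal B) [q.IsPrime], IsAssociatedPrime q B → Module.Flat A (Localization.AtPrime q)) : nonZeroDivisors A ≤ (nonZeroDivisors B).comap (algebraMap A B) := by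
  intro a ha
  rw [Submonoid.mem_comap, mem_nonZeroDivisors_iff_left]
  intro b hb
  by_contra hb0
  obtain ⟨q, hq, hle⟩ := exists_le_isAssociatedPrime_of_isNoetherianRing B b hb0
  obtain ⟨hqp, y, hy⟩ := isAssociatedPrime_iff.mp hq
  have haq : algebraMap A B a ∈ q := hle (Submodule.mem_colon_singleton.mpr (by simpa using hb))
  have hay : algebraMap A B a * y = 0 := by
    rw [hy, Submodule.mem_colon_singleton] at haq
    simpa using haq
  have hflat := h3 q hq
  have hreg : IsSMulRegular (Localization.AtPrime q) a :=
    Module.Flat.isSMulRegular_of_nonZeroDivisors ha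
  have h0 : a • algebraMap B (Localization.AtPrime q) y = 0 := by
    rw [Algebra.smul_def, IsScalarTower.algebraMap_apply A B (Localization.AtPrime q), ← map_mul,
      hay, map_zero]
  have h1 : algebraMap B (Localization.AtPrime q) y = 0 := hreg (by simpa using h0)
  obtain ⟨⟨s, hs⟩, hsy⟩ := (IsLocalization.map_eq_zero_iff q.primeCompl _ y).mp h1
  apply hs
  have : s ∈ (⊥ : Submodule B B).colon {y} := by
    rw [Submodule.mem_colon_singleton]
    simpa using hsy
  rw [hy]
  exact this

end Groth.Agent.S8927
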