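import Groth.Statements.S8928
import Mathlib

set_option autoImplicit false
universe u
open scoped TensorProduct
open Disc

namespace Groth.Agent.S8928

attribute [local instance] Algebra.TensorProduct.rightAlgebra in
/-- key: primes disjoint from the image of `nonZeroDivisors A`. -/
lemma flat_atPrime (A B : Type u) [CommRing A] [CommRing B] [Algebra A B]
    (h2 : Module.Flat (FractionRing A) (FractionRing A ⊗[A] B)) (q : Ideal B) [q.IsPrime]
    (hq : ∀ s ∈ nonZeroDivisors A, algebraMap A B s ∉ q) :
    Module.Flat A (Localization.AtPrime q) := by
  let K := FractionRing A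
  let T := K ⊗[A] B
  let M' : Submonoid B := Algebra.algebraMapSubmonoid B (nonZeroDivisors A)
  haveI : IsLocalization M' T := IsLocalization.tensorRight (R := A) (S := B) K (nonZeroDivisors A)
  have hle : M' ≤ q.primeCompl := by
    rintro _ ⟨s, hs, rfl⟩
    exact hq s hs
  letI : Algebra T (Localization.AtPrime q) :=
    IsLocalization.localizationAlgebraOfSubmonoidLe T (Localization.AtPrime q) M' q.primeCompl hle
  haveI : IsScalarTower B T (Localization.AtPrime q) :=
    IsLocalization.localization_isScalarTower_of_submonoid_le T (Localization.AtPrime q) M'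
      q.primeCompl hle
  haveI : IsLocalization (q.primeCompl.map (algebraMap B T)) (Localization.AtPrime q) :=
    IsLocalization.isLocalization_of_submonoid_le T (Localization.AtPrime q) M' q.primeCompl hle
  haveI : Module.Flat T (Localization.AtPrime q) :=
    IsLocalization.flat (Localization.AtPrime q) (q.primeCompl.map (algebraMap B T))
  haveI : Module.Flat A K := inferInstance
  haveI : Module.Flat A T := Module.Flat.trans A K T
  haveI : IsScalarTower A T (Localization.AtPrime q) := by
    refine ⟨fun a t x => ?_⟩
    have h1 : a • t = algebraMap B T (algebraMap A B a) * t := by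
      rw [← IsScalarTower.algebraMap_apply A B T]
      exact Algebra.smul_def a t
    have h2 : ∀ y : Localization.AtPrime q, a • y = algebraMap A B a • y := by
      intro y
      rw [algebraMap_smul]
    rw [h1, h2, Algebra.smul_def (algebraMap B T (algebraMap A B a) * t) x, map_mul,
      ← IsScalarTower.algebraMap_apply B T (Localization.AtPrime q), Algebra.smul_def t x,
      Algebra.smul_def (algebraMap A B a)]
    ring
  exact Module.Flat.trans A T (Localization.AtPrime q)

/-- Let A → B be a map of Noetherian rings such that nonzerodivisors of A map to nonzerodivisors of B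
and Q(A) ⊗_A B is flat over the total ring of fractions Q(A). Then B_q is flat over A for every
associated prime q of B and for every prime q of B lying over an associated prime of A. -/
theorem result (A B : Type u) [CommRing A] [CommRing B] [IsNoetherianRing A] [IsNoetherianRing B] [Algebra A B] (h1 : nonZeroDivisors A ≤ (nonZeroDivisors B).comap (algebraMap A B)) (h2 : Module.Flat (FractionRing A) (FractionRing A ⊗[A] B)) : (∀ (q : Ideal B) [q.IsPrime], IsAssociatedPrime q B → Module.Flat A (Localization.AtPrime q)) ∧ (∀ (q : Ideal B) [q.IsPrime], IsAssociatedPrime (q.comap (algebraMap A B)) A → Module.Flat A (Localization.AtPrime q)) := by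
  constructor
  · intro q _ hass
    apply flat_atPrime A B h2 q
    intro s hs hsq
    obtain ⟨hqp, x, hx⟩ := (isAssociatedPrime_iff).mp hass
    have h3 : algebraMap A B s ∈ nonZeroDivisors B := h1 hs
    rw [hx, Submodule.mem_colon_singleton, Submodule.mem_bot, smul_eq_mul] at hsq
    have hx0 : x = 0 := (mul_left_mem_nonZeroDivisors_eq_zero_iff h3).mp hsq
    apply hqp.ne_top
    rw [hx, hx0, Ideal.eq_top_iff_one, Submodule.mem_colon_singleton]
    simp
  · intro q _ hass
    apply flat_atPrime A B h2 q
    intro s hs hsq
    obtain ⟨hqp, y, hy⟩ := (isAssociatedPrime_iff).mp hass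
    have hsp : s ∈ q.comap (algebraMap A B) := hsq
    rw [hy, Submodule.mem_colon_singleton, Submodule.mem_bot, smul_eq_mul] at hsp
    have hy0 : y = 0 := (mul_left_mem_nonZeroDivisors_eq_zero_iff hs).mp hsp
    apply hqp.ne_top
    rw [hy, hy0, Ideal.eq_top_iff_one, Submodule.mem_colon_singleton]
    simp

end Groth.Agent.S8928
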