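import Groth.Statements.S8929
import Mathlib

set_option autoImplicit false
universe u
open scoped TensorProduct
open Disc

namespace Groth.Agent.S8929

/-- flatness passes to further localizations -/
lemma flat_of_le {A B : Type*} [CommRing A] [CommRing B] [Algebra A B] (M N : Submonoid B)
    (h : M ≤ N) (S₁ S₂ : Type*) [CommRing S₁] [CommRing S₂] [Algebra B S₁] [Algebra B S₂]
    [IsLocalization M S₁] [IsLocalization N S₂] [Module A S₁] [Module A S₂]
    [IsScalarTower A B S₁] [IsScalarTower A B S₂] (hflat : Module.Flat A S₁) :
    Module.Flat A S₂ := by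
  letI : Algebra S₁ S₂ := IsLocalization.localizationAlgebraOfSubmonoidLe S₁ S₂ M N h
  haveI : IsScalarTower B S₁ S₂ :=
    IsLocalization.localization_isScalarTower_of_submonoid_le S₁ S₂ M N h
  haveI : IsLocalization (N.map (algebraMap B S₁)) S₂ :=
    IsLocalization.isLocalization_of_submonoid_le S₁ S₂ M N h
  haveI : Module.Flat S₁ S₂ := IsLocalization.flat S₂ (N.map (algebraMap B S₁))
  haveI : IsScalarTower A S₁ S₂ := by
    refine ⟨fun a t x => ?_⟩
    have h1 : a • t = algebraMap B S₁ (algebraMap A B a) * t := by
      rw [← Algebra.smul_def, algebraMap_smul]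
    have h2 : ∀ y : S₂, a • y = algebraMap A B a • y := by
      intro y
      rw [algebraMap_smul]
    rw [h1, h2, Algebra.smul_def (algebraMap B S₁ (algebraMap A B a) * t) x, map_mul,
      ← IsScalarTower.algebraMap_apply B S₁ S₂, Algebra.smul_def t x,
      Algebra.smul_def (algebraMap A B a)]
    ring
  letI : Algebra A S₁ := Algebra.ofModule
    (fun a x y => by
      rw [← algebraMap_smul B a x, ← algebraMap_smul B a (x * y), smul_mul_assoc])
    (fun a x y => by
      rw [← algebraMap_smul B a y, ← algebraMap_smul B a (x * y), mul_smul_comm])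
  exact Module.Flat.trans A S₁ S₂

attribute [local instance] Algebra.TensorProduct.rightAlgebra in
theorem main (A B : Type u) [CommRing A] [CommRing B] [IsNoetherianRing A]
    [Algebra A B] [Algebra.HasGoingUp A B]
    (h4 : ∀ (q : Ideal B) [q.IsPrime], IsAssociatedPrime (q.comap (algebraMap A B)) A →
      Module.Flat A (Localization.AtPrime q)) :
    Module.Flat (FractionRing A) (FractionRing A ⊗[A] B) := by
  let K := FractionRing A
  let T := K ⊗[A] B
  rw [Module.flat_iff_of_isLocalization K (nonZeroDivisors A) T]
  apply Module.flat_of_isLocalized_maximal T T (fun P _ => Localization.AtPrime P)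
    (fun P _ => Algebra.linearMap T (Localization.AtPrime P))
  intro P hP
  let M' : Submonoid B := Algebra.algebraMapSubmonoid B (nonZeroDivisors A)
  haveI : IsLocalization M' T := IsLocalization.tensorRight (R := A) (S := B) K (nonZeroDivisors A)
  let q := P.comap (algebraMap B T)
  haveI hqprime : q.IsPrime := Ideal.IsPrime.comap _
  haveI : IsLocalization.AtPrime (Localization.AtPrime P) q :=
    IsLocalization.isLocalization_isLocalization_atPrime_isLocalization M'
      (Localization.AtPrime P) P
  have hdisj : ∀ s ∈ nonZeroDivisors A, s ∉ q.comap (algebraMap A B) := by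
    intro s hs hsq
    have hu : IsUnit (algebraMap B T (algebraMap A B s)) :=
      IsLocalization.map_units T (⟨_, ⟨s, hs, rfl⟩⟩ : M')
    exact hP.ne_top (Ideal.eq_top_of_isUnit_mem _ hsq hu)
  obtain ⟨p', hp'ass, hle⟩ : ∃ p' ∈ associatedPrimes A A, q.comap (algebraMap A B) ≤ p' := by
    have hsub : ((q.comap (algebraMap A B) : Ideal A) : Set A) ⊆
        ⋃ p ∈ ((associatedPrimes.finite A A).toFinset : Set (Ideal A)), (p : Set A) := by
      intro s hs
      have : s ∈ ((nonZeroDivisors A : Set A))ᶜ := fun h => hdisj s h hs
      rw [← biUnion_associatedPrimes_eq_compl_nonZeroDivisors A] at this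
      simpa using this
    obtain ⟨p', hp', hle⟩ := (Ideal.subset_union_prime (f := fun p : Ideal A => p) ⊤ ⊤
      (fun p hp _ _ => by
        have : p ∈ associatedPrimes A A := by simpa using hp
        exact this.isPrime)).mp hsub
    exact ⟨p', by simpa using hp', hle⟩
  haveI : p'.IsPrime := hp'ass.isPrime
  haveI : q.LiesOver (q.comap (algebraMap A B)) := ⟨rfl⟩
  obtain ⟨q', hqq', hq'prime, hq'over⟩ :=
    Ideal.exists_ideal_ge_liesOver_of_le (p := q.comap (algebraMap A B)) (q := p') q hle
  have hflat : Module.Flat A (Localization.AtPrime q') := by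
    apply h4 q'
    have : q'.comap (algebraMap A B) = p' := (hq'over.over).symm
    rw [this]
    exact hp'ass
  have hcompl : q'.primeCompl ≤ q.primeCompl := fun x hx hxq => hx (hqq' hxq)
  exact flat_of_le q'.primeCompl q.primeCompl hcompl (Localization.AtPrime q')
    (Localization.AtPrime P) hflat

/-- Let A → B be a map of Noetherian rings with the going-up property. If B_q is flat over A for every
associated prime q of B and for every prime q of B lying over an associated prime of A, then Q(A)
⊗_A B is flat over the total ring of fractions Q(A). -/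
theorem result (A B : Type u) [CommRing A] [CommRing B] [IsNoetherianRing A] [IsNoetherianRing B] [Algebra A B] [Algebra.HasGoingUp A B] (h3 : ∀ (q : Ideal B) [q.IsPrime], IsAssociatedPrime q B → Module.Flat A (Localization.AtPrime q)) (h4 : ∀ (q : Ideal B) [q.IsPrime], IsAssociatedPrime (q.comap (algebraMap A B)) A → Module.Flat A (Localization.AtPrime q)) : Module.Flat (FractionRing A) (FractionRing A ⊗[A] B) := by
  exact main A B h4

end Groth.Agent.S8929
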