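import Groth.Statements.S8931
import Groth.Agent.Helper19.FittLib6
-- import your own Groth.Agent.* helpers here

set_option autoImplicit false
universe u
open Disc

namespace Groth.Agent.S8931

open Groth.Agent.Helper19.FittLib TensorProduct KaehlerDifferential

section helpers

variable (A : Type u) [CommRing A] (n : ℕ) (f : Fin n → MvPolynomial (Fin n) A)

local notation "P" => MvPolynomial (Fin n) A
local notation "I" => Ideal.span (Set.range f)
local notation "B" => MvPolynomial (Fin n) A ⧸ Ideal.span (Set.range f)

/-- the generators `d x_j` of `Ω_{B/A}` -/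
noncomputable def xgen : Fin n → KaehlerDifferential A B :=
  fun j => D A B (Ideal.Quotient.mk I (MvPolynomial.X j))

/-- the basis `1 ⊗ d x_j` of `B ⊗_P Ω_{P/A}` -/
noncomputable def bB : Module.Basis (Fin n) B (B ⊗[P] KaehlerDifferential A P) :=
  (KaehlerDifferential.mvPolynomialBasis A (Fin n)).baseChange B

lemma bB_apply (j : Fin n) : bB A n f j = (1 : B) ⊗ₜ[P] D A P (MvPolynomial.X j) := by
  rw [bB, Module.Basis.baseChange_apply, KaehlerDifferential.mvPolynomialBasis_apply]

lemma algebraMap_surj : Function.Surjective (algebraMap P B) := Ideal.Quotient.mk_surjective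

lemma mapBaseChange_one_tmul_D (g : P) :
    KaehlerDifferential.mapBaseChange A P B ((1 : B) ⊗ₜ[P] D A P g) =
      D A B (algebraMap P B g) := by
  rw [KaehlerDifferential.mapBaseChange_tmul, KaehlerDifferential.map_D]
  exact one_smul B (D A B (algebraMap P B g))

lemma linearCombination_xgen :
    Fintype.linearCombination B (xgen A n f) =
      (KaehlerDifferential.mapBaseChange A P B) ∘ₗ (Fintype.linearCombination B (bB A n f)) := by
  refine LinearMap.pi_ext fun j r => ?_
  rw [Fintype.linearCombination_apply_single, LinearMap.comp_apply,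
    Fintype.linearCombination_apply_single, map_smul, bB_apply, mapBaseChange_one_tmul_D]
  rfl

lemma tmul_D_eq (g : P) :
    (1 : B) ⊗ₜ[P] D A P g =
      Fintype.linearCombination B (bB A n f)
        (fun j => Ideal.Quotient.mk I (MvPolynomial.pderiv j g)) := by
  have h1 : D A P g = ∑ j, MvPolynomial.pderiv j g • D A P (MvPolynomial.X j) := by
    conv_lhs => rw [← (KaehlerDifferential.mvPolynomialBasis A (Fin n)).sum_repr (D A P g)]
    refine Finset.sum_congr rfl fun j _ => ?_
    rw [KaehlerDifferential.mvPolynomialBasis_repr_apply,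
      KaehlerDifferential.mvPolynomialBasis_apply]
  rw [Fintype.linearCombination_apply, h1, TensorProduct.tmul_sum]
  refine Finset.sum_congr rfl fun j _ => ?_
  rw [bB_apply, TensorProduct.tmul_smul, ← algebraMap_smul B (MvPolynomial.pderiv j g)]
  rfl

lemma ker_mapBaseChange_eq :
    LinearMap.ker (KaehlerDifferential.mapBaseChange A P B) =
      Submodule.span B (Set.range fun i => (1 : B) ⊗ₜ[P] D A P (f i)) := by
  apply le_antisymm
  · intro t ht
    have hex := KaehlerDifferential.exact_kerCotangentToTensor_mapBaseChange A P B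
      (algebraMap_surj A n f)
    obtain ⟨c, rfl⟩ := (hex t).mp ht
    obtain ⟨⟨g, hg⟩, rfl⟩ := Ideal.toCotangent_surjective _ c
    rw [KaehlerDifferential.kerCotangentToTensor_toCotangent]
    have hg' : g ∈ I := by
      rw [RingHom.mem_ker] at hg
      exact Ideal.Quotient.eq_zero_iff_mem.mp hg
    change (1 : B) ⊗ₜ[P] D A P g ∈ _
    clear ht hg
    induction hg' using Submodule.span_induction with
    | mem g hg =>
      obtain ⟨i, rfl⟩ := hg
      exact Submodule.subset_span ⟨i, rfl⟩
    | zero => simp
    | add g g' _ _ h h' =>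
      rw [map_add, TensorProduct.tmul_add]
      exact add_mem h h'
    | smul p g hg h =>
      rw [smul_eq_mul, Derivation.leibniz, TensorProduct.tmul_add, TensorProduct.tmul_smul,
        TensorProduct.tmul_smul]
      refine add_mem ?_ ?_
      · rw [← algebraMap_smul B p]
        exact Submodule.smul_mem _ _ h
      · have : (g • (1 : B)) = 0 :=
          (Algebra.algebraMap_eq_smul_one g).symm.trans (Ideal.Quotient.eq_zero_iff_mem.mpr hg)
        rw [TensorProduct.smul_tmul', this, TensorProduct.zero_tmul]
        exact zero_mem _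
  · rw [Submodule.span_le]
    rintro _ ⟨i, rfl⟩
    rw [SetLike.mem_coe, LinearMap.mem_ker, mapBaseChange_one_tmul_D]
    have : algebraMap P B (f i) = 0 :=
      Ideal.Quotient.eq_zero_iff_mem.mpr (Ideal.subset_span ⟨i, rfl⟩)
    rw [this, map_zero]

lemma ker_linearCombination_xgen :
    LinearMap.ker (Fintype.linearCombination B (xgen A n f)) =
      Submodule.span B (Set.range fun i : Fin n =>
        (fun j => Ideal.Quotient.mk I (MvPolynomial.pderiv j (f i)))) := by
  have hΨ : Fintype.linearCombination B (bB A n f) = (bB A n f).equivFun.symm.toLinearMap := by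
    refine LinearMap.ext fun z => ?_
    rw [LinearEquiv.coe_coe, Module.Basis.equivFun_symm_apply, Fintype.linearCombination_apply]
  rw [linearCombination_xgen, LinearMap.ker_comp, ker_mapBaseChange_eq, hΨ,
    ← Submodule.map_equiv_eq_comap_symm, Submodule.map_span]
  congr 1
  ext z
  constructor
  · rintro ⟨_, ⟨i, rfl⟩, rfl⟩
    refine ⟨i, ?_⟩
    change _ = (bB A n f).equivFun ((1 : B) ⊗ₜ[P] D A P (f i))
    rw [tmul_D_eq, hΨ, LinearEquiv.coe_coe, LinearEquiv.apply_symm_apply]
  · rintro ⟨i, rfl⟩
    refine ⟨_, ⟨i, rfl⟩, ?_⟩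
    change (bB A n f).equivFun ((1 : B) ⊗ₜ[P] D A P (f i)) = _
    rw [tmul_D_eq, hΨ, LinearEquiv.coe_coe, LinearEquiv.apply_symm_apply]

lemma span_xgen : Submodule.span B (Set.range (xgen A n f)) = ⊤ := by
  rw [← Fintype.range_linearCombination, linearCombination_xgen, LinearMap.range_eq_top,
    LinearMap.coe_comp]
  refine Function.Surjective.comp
    (KaehlerDifferential.mapBaseChange_surjective A P B (algebraMap_surj A n f)) ?_
  have hΨ : Fintype.linearCombination B (bB A n f) = (bB A n f).equivFun.symm.toLinearMap := by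
    refine LinearMap.ext fun z => ?_
    rw [LinearEquiv.coe_coe, Module.Basis.equivFun_symm_apply, Fintype.linearCombination_apply]
  rw [hΨ]
  exact LinearEquiv.surjective _

end helpers

/-- For a ring A, n ≥ 1 and f_1, …, f_n in A[x_1, …, x_n], with B = A[x_1, …, x_n]/(f_1, …, f_n), the
zeroth Fitting ideal of Ω_{B/A} (the Kähler different of B over A) is generated by the image in B of
the Jacobian determinant det(∂f_i/∂x_j). -/
theorem result (A : Type u) [CommRing A] (n : ℕ) (hn : 1 ≤ n) (f : Fin n → MvPolynomial (Fin n) A) : Fitt.ideal (MvPolynomial (Fin n) A ⧸ Ideal.span (Set.range f)) (KaehlerDifferential A (MvPolynomial (Fin n) A ⧸ Ideal.span (Set.range f))) 0 = Ideal.span {Ideal.Quotient.mk (Ideal.span (Set.range f)) (Matrix.det (Matrix.of fun i j : Fin n => MvPolynomial.pderiv j (f i)))} := by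
  rw [ideal_eq_Mn (xgen A n f) (span_xgen A n f) 0, Nat.sub_zero,
    Mn_eq_detIdeal (xgen A n f)
      (Matrix.of fun j i => Ideal.Quotient.mk (Ideal.span (Set.range f))
        (MvPolynomial.pderiv j (f i)))
      (by rw [ker_linearCombination_xgen]; rfl) n,
    detIdeal_square, RingHom.map_det, ← Matrix.det_transpose]
  rfl

end Groth.Agent.S8931
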