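import Groth.Statements.S8936
import Groth.Agent.Lib.Helper25.InjHull

set_option autoImplicit false
universe u v
open InjHull

namespace Groth.Agent.S8936

/-- For a directed system (E_i) of R-modules over a nonempty directed preorder and a compatible family
of essential injections M → E_i, the induced map from M to the direct limit of the E_i is an
essential injection. -/
theorem result (R : Type u) [CommRing R] (ι : Type v) [Preorder ι] [IsDirectedOrder ι] [DecidableEq ι] (i₀ : ι) (E : ι → Type v) [∀ i, AddCommGroup (E i)] [∀ i, Module R (E i)] (f : ∀ i j, i ≤ j → E i →ₗ[R] E j) [DirectedSystem E fun i j h => f i j h] (M : Type v) [AddCommGroup M] [Module R M] (g : ∀ i, M →ₗ[R] E i) (hg : ∀ i j (h : i ≤ j), f i j h ∘ₗ g i = g j) (he : ∀ i, InjHull.IsEssentialInj (g i)) : InjHull.IsEssentialInj (Module.DirectLimit.of R ι E f i₀ ∘ₗ g i₀) := by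
  open Groth.Agent.Lib.Helper25 in
  have : Nonempty ι := ⟨i₀⟩
  -- all the maps `M → lim E` agree
  have hsame : ∀ i (m : M), Module.DirectLimit.of R ι E f i (g i m) =
      Module.DirectLimit.of R ι E f i₀ (g i₀ m) := by
    intro i m
    obtain ⟨j, hij, hi₀j⟩ := exists_ge_ge i i₀
    rw [← Module.DirectLimit.of_f (hij := hij), ← Module.DirectLimit.of_f (hij := hi₀j)]
    have h1 : f i j hij (g i m) = g j m := LinearMap.congr_fun (hg i j hij) m
    have h2 : f i₀ j hi₀j (g i₀ m) = g j m := LinearMap.congr_fun (hg i₀ j hi₀j) m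
    rw [h1, h2]
  have hinj : ∀ m : M, Module.DirectLimit.of R ι E f i₀ (g i₀ m) = 0 → m = 0 := by
    intro m hm
    obtain ⟨j, hij, hj⟩ := Module.DirectLimit.of.zero_exact hm
    have h2 : f i₀ j hij (g i₀ m) = g j m := LinearMap.congr_fun (hg i₀ j hij) m
    rw [h2] at hj
    exact (he j).injective (by rw [hj, map_zero])
  rw [isEssentialInj_iff]
  refine ⟨?_, fun x hx => ?_⟩
  · rw [← LinearMap.ker_eq_bot, LinearMap.ker_eq_bot']
    intro m hm
    exact hinj m hm
  · obtain ⟨i, y, rfl⟩ := Module.DirectLimit.exists_of x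
    have hy : y ≠ 0 := by
      rintro rfl
      exact hx (map_zero _)
    obtain ⟨r, m, hrm, hm0⟩ := essInj_exists_smul (he i) hy
    have hrx : r • Module.DirectLimit.of R ι E f i y =
        Module.DirectLimit.of R ι E f i₀ (g i₀ m) := by
      rw [← map_smul, hrm, hsame]
    refine ⟨r, ?_, m, hrx.symm⟩
    rw [hrx]
    exact fun h => hm0 (hinj m h)

end Groth.Agent.S8936
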