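import Groth.Statements.S8943
import Groth.Agent.Lib.Helper13.GlobalMix3
import Groth.Agent.Lib.Helper13.RelDual1
import Groth.Agent.Lib.Helper13.OpenImm1

set_option autoImplicit false
universe u
open CategoryTheory AlgebraicGeometry
attribute [local instance] HasDerivedCategory.standard
open Dual2

namespace Groth.Agent.S8943

/-- Let R → R′ be a homomorphism of Noetherian rings such that Spec(R′) → Spec(R) is an open immersion
(e.g. R′ = R_f). With φ^!(K) = RHom_P(R′, K ⊗^L_R P)[n] formed from a presentation ψ : P = R[x_1, …,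
x_n] → R′ (derived base change functors assumed to exist, RHom_P(R′, −) a right adjoint of
restriction of scalars), φ^!(K) is isomorphic to K ⊗^L_R R′ for every K in D(R) (existence of an
isomorphism). -/
theorem result (R R' : Type u) [CommRing R] [CommRing R'] [IsNoetherianRing R] [IsNoetherianRing R'] [Algebra R R'] (hopen : IsOpenImmersion (Spec.map (CommRingCat.ofHom (algebraMap R R')))) (n : ℕ) (ψ : MvPolynomial (Fin n) R →ₐ[R] R') (hψ : Function.Surjective ψ) [DRing.HasLBaseChange (algebraMap R (MvPolynomial (Fin n) R))] (Rψ : Dual.D (MvPolynomial (Fin n) R) ⥤ Dual.D R') (adj : DRing.restrictD ψ.toRingHom ⊣ Rψ) [DRing.HasLBaseChange (algebraMap R R')] (K : Dual.D R) : Nonempty (Dual2.shriekVia n Rψ K ≅ (DRing.LBaseChange (algebraMap R R')).obj K) := by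
  classical
  -- flat and epi
  have hflat : Module.Flat R R' := by
    have h1 : Flat (Spec.map (CommRingCat.ofHom (algebraMap R R'))) := inferInstance
    have h2 := (AlgebraicGeometry.Flat.SpecMap_iff).1 h1
    exact (RingHom.flat_algebraMap_iff).1 h2
  have hepi : Algebra.IsEpi R R' := by
    apply CommRingCat.epi_iff_epi.1
    have h3 : Mono (Scheme.Spec.map (CommRingCat.ofHom (algebraMap R R')).op) :=
      (inferInstance : Mono (Spec.map (CommRingCat.ofHom (algebraMap R R'))))
    have h4 : Mono (CommRingCat.ofHom (algebraMap R R')).op := Scheme.Spec.mono_of_mono_map h3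
    exact (op_mono_iff _).1 h4
  let P := MvPolynomial (Fin n) R
  let _ : Algebra P R' := ψ.toRingHom.toAlgebra
  have : IsScalarTower R P R' := IsScalarTower.of_algebraMap_eq fun r => (ψ.commutes r).symm
  have hfinA : Module.Finite P R' := Module.Finite.of_surjective (Algebra.linearMap P R') hψ
  have hperfA : DRing.IsPerfectModule P R' :=
    Groth.Agent.Lib.Helper13.PS.isPerfectModule_of_hasFiniteTorDim R R' n
      ((Groth.Agent.Lib.Helper13.DR.isPseudoCoherentModule'_iff_of_isNoetherianRing (A := P) R').2 hfinA)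
      ⟨0, (Groth.Agent.Lib.Helper13.TB.hasTorDimLE_zero_iff_flat R R').2 inferInstance⟩
  let X₀ := (Groth.Agent.Lib.Helper13.Coind.Rco (algebraMap P R')).obj (Dual.inD P P)
  let W₀ : DRing.Cx R' := DerivedCategory.Q.objPreimage X₀
  let e₀ : DerivedCategory.Q.obj W₀ ≅ X₀ := DerivedCategory.Q.objObjPreimageIso X₀
  let W : DRing.Cx R' := MonoidalCategoryStruct.tensorUnit (DRing.Cx R')
  let sh : ∀ K : Dual.D R, Dual2.shriekVia n Rψ K ≅
      ((Groth.Agent.Lib.Helper13.Coind.Rco (algebraMap P R')).obj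
        ((DRing.LBaseChange (algebraMap R P)).obj K))⟦(n : ℤ)⟧ := fun K =>
    (shiftFunctor (Dual.D R') (n : ℤ)).mapIso
      ((Groth.Agent.Lib.Helper13.Coind.uniq ψ.toRingHom Rψ adj).app _)
  obtain ⟨i1⟩ := Groth.Agent.Lib.Helper13.GM.nonempty_Rco_iso_LTensorCx P R' hperfA W₀ e₀
    ((DRing.LBaseChange (algebraMap R P)).obj K)
  -- the value at the unit
  have hGE : (Dual.inD R R).IsGE 0 := inferInstance
  obtain ⟨j1⟩ := Groth.Agent.Lib.Helper13.OpenImm.nonempty_Sh_iso_LBaseChange R R' n ψ hψ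
    (Dual.inD R R) 0
  let u : DerivedCategory.Q.obj W ≅ Dual.inD R' R' :=
    ((DerivedCategory.singleFunctorIsoCompQ (ModuleCat.{u} R') 0).app (ModuleCat.of R' R')).symm
  let eW' : DerivedCategory.Q.obj W ≅ (DerivedCategory.Q.obj W₀)⟦(n : ℤ)⟧ :=
    u ≪≫ (Groth.Agent.Lib.Helper13.RelDual.LBaseChangeSelfIso R R').symm ≪≫ j1.symm ≪≫
      (shiftFunctor (Dual.D R') (n : ℤ)).mapIso
      ((Groth.Agent.Lib.Helper13.Coind.Rco (algebraMap P R')).mapIso
        (Groth.Agent.Lib.Helper13.RelDual.LBaseChangeSelfIso R P) ≪≫ e₀.symm)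
  obtain ⟨i2⟩ := Groth.Agent.Lib.Helper13.GM.nonempty_LTensorCx_shift_iso W₀ W (n : ℤ) eW'
    ((DRing.LBaseChange (algebraMap P R')).obj ((DRing.LBaseChange (algebraMap R P)).obj K))
  let i3 : (DRing.LBaseChange (algebraMap P R')).obj ((DRing.LBaseChange (algebraMap R P)).obj K) ≅
      (DRing.LBaseChange (algebraMap R R')).obj K :=
    (Groth.Agent.Lib.Helper13.Shriek.LComp (algebraMap R P) (algebraMap P R') (algebraMap R R')
      (IsScalarTower.algebraMap_eq R P R')).app K
  -- tensoring with the unit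
  have i4 : ∀ X : Dual.D R', Nonempty ((DRing.LTensorCx R' W).obj X ≅ X) := fun X => by
    obtain ⟨F, hF, -, ⟨eF⟩⟩ := Groth.Agent.Lib.Helper13.SF.exists_kprojective_rep X
    exact ⟨(DRing.LTensorCx R' W).mapIso eF.symm ≪≫
      Groth.Agent.Lib.Helper13.DV.LTensorCxIso W F ≪≫
      DerivedCategory.Q.mapIso (MonoidalCategoryStruct.rightUnitor F) ≪≫ eF⟩
  obtain ⟨i5⟩ := i4 ((DRing.LBaseChange (algebraMap R R')).obj K)
  exact ⟨sh K ≪≫ (shiftFunctor (Dual.D R') (n : ℤ)).mapIso i1 ≪≫ i2 ≪≫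
    (DRing.LTensorCx R' W).mapIso i3 ≪≫ i5⟩

end Groth.Agent.S8943
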