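import Groth.Statements.S8947
import Groth.Agent.Lib.Helper13.CMS2g
import Groth.Agent.Lib.Helper13.RelDual7
import Groth.Agent.Lib.Helper13.ShriekCoh
import Groth.Agent.Lib.Helper16.SkEmb1
import Groth.Agent.Lib.Helper18.QGor9

set_option autoImplicit false
universe u
open CategoryTheory AlgebraicGeometry
attribute [local instance] HasDerivedCategory.standard
open Dual2

namespace Groth.Agent.S8947

/-- Let R → A be a finite type map of Noetherian rings with relative dualizing complex ω_{A/R} =
φ^!(R[0]) (computed through a presentation ψ : R[x_1, …, x_n] → A as RHom_P(A, R ⊗^L_R P)[n], the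
derived base change being assumed to exist and RHom_P(A, −) being a right adjoint of restriction of
scalars). Let p be a prime of R such that R_p is Cohen–Macaulay, and r a natural number bounding the
transcendence degree of κ(q) over κ(R ∩ q) for every minimal prime q of A. Then, S denoting the
image of R ∖ p in A, the localization S⁻¹H^i(ω_{A/R}) is nonzero only if −r ≤ i, and
S⁻¹H^{−r}(ω_{A/R}) satisfies Serre's condition (S_2) as an S⁻¹A-module. -/
theorem result (R A : Type u) [CommRing R] [CommRing A] [IsNoetherianRing R] [IsNoetherianRing A] [Algebra R A] (n : ℕ) (ψ : MvPolynomial (Fin n) R →ₐ[R] A) (hψ : Function.Surjective ψ) [DRing.HasLBaseChange (algebraMap R (MvPolynomial (Fin n) R))] (Rψ : Dual.D (MvPolynomial (Fin n) R) ⥤ Dual.D A) (adj : DRing.restrictD ψ.toRingHom ⊣ Rψ) (p : Ideal R) [p.IsPrime] [LocCoh.IsCohenMacaulayLocalRing (Localization.AtPrime p)] (r : ℕ) (hr : ∀ q : PrimeSpectrum A, q.asIdeal ∈ minimalPrimes A → Dual3.resTrdeg (Spec.map (CommRingCat.ofHom (algebraMap R A))) q ≤ (r : Cardinal.{u})) : (∀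 i : ℤ, Nontrivial (LocalizedModule (Algebra.algebraMapSubmonoid A p.primeCompl) (Dual.HD A (Dual2.shriekVia n Rψ (Dual.inD R R)) i)) → -(r : ℤ) ≤ i) ∧ LocCoh.HasSk 2 (Localization (Algebra.algebraMapSubmonoid A p.primeCompl)) (LocalizedModule (Algebra.algebraMapSubmonoid A p.primeCompl) (Dual.HD A (Dual2.shriekVia n Rψ (Dual.inD R R)) (-(r : ℤ)))) := by
  classical
  let P := MvPolynomial (Fin n) R
  let T := Algebra.algebraMapSubmonoid A p.primeCompl
  let ωP := (Groth.Agent.Lib.Helper13.Coind.Rco ψ.toRingHom).obj (Dual.inD P P)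
  -- replace `Rψ` by the standard coinduction functor
  let e0 : Dual2.shriekVia n Rψ (Dual.inD R R) ≅ ωP⟦(n : ℤ)⟧ :=
    (shiftFunctor (Dual.D A) (n : ℤ)).mapIso
      ((Groth.Agent.Lib.Helper13.Coind.uniq ψ.toRingHom Rψ adj).app _ ≪≫
        (Groth.Agent.Lib.Helper13.Coind.Rco ψ.toRingHom).mapIso
          (Groth.Agent.Lib.Helper13.RelDual.LBaseChangeSelfIso R P))
  have E : ∀ i : ℤ, Nonempty (Dual.HD A (Dual2.shriekVia n Rψ (Dual.inD R R)) i ≃ₗ[A]
      Dual.HD A ωP ((n : ℤ) + i)) := fun i =>
    ⟨((DerivedCategory.homologyFunctor (ModuleCat.{u} A) i).mapIso e0).toLinearEquiv ≪≫ₗ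
      Groth.Agent.Lib.Helper13.DualBC.HDShiftLinearEquiv _ (n : ℤ) i⟩
  -- primes of `A` disjoint from `T` lie over primes inside `p`
  have hunder : ∀ q : Ideal A, q.IsPrime → Disjoint (T : Set A) (q : Set A) → q.under R ≤ p := by
    intro q _ hdisj x hx
    by_contra hxp
    exact Set.disjoint_left.mp hdisj ⟨x, hxp, rfl⟩ hx
  refine ⟨?_, ?_⟩
  · intro i hi
    obtain ⟨Ei⟩ := E i
    have h' : Nontrivial (LocalizedModule T (Dual.HD A ωP ((n : ℤ) + i))) :=
      Groth.Agent.Lib.Helper13.FibReg.nontrivial_localized_of_semilinear (RingHom.id A) Ei.toEquiv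
        (by intro c m; exact Ei.map_smul c m) T T (fun s hs => hs) hi
    rw [Groth.Agent.Lib.Helper13.FibReg.nontrivial_localizedModule_iff] at h'
    obtain ⟨m, hm⟩ := h'
    have hdisj : Disjoint ((Submodule.span A {m}).annihilator : Set A) (T : Set A) := by
      rw [Set.disjoint_left]
      intro s hsI hsT
      rw [SetLike.mem_coe, Submodule.mem_annihilator_span_singleton] at hsI
      exact hm s hsT hsI
    obtain ⟨q, hqprime, hIq, hqT⟩ := Ideal.exists_le_prime_disjoint _ T hdisj
    have hloc : Nontrivial (LocalizedModule q.primeCompl (Dual.HD A ωP ((n : ℤ) + i))) := by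
      rw [Groth.Agent.Lib.Helper13.FibReg.nontrivial_localizedModule_iff]
      refine ⟨m, fun s hs hsm => hs (hIq ?_)⟩
      rw [Submodule.mem_annihilator_span_singleton]
      exact hsm
    have hmain := Groth.Agent.Lib.Helper13.CMS2.local_vanishing R A n ψ hψ p r hr ⟨q, hqprime⟩
      (hunder q hqprime hqT.symm) ((n : ℤ) + i) hloc
    lia
  · obtain ⟨Er⟩ := E (-(r : ℤ))
    have key : ∀ j : ℤ, j = (n : ℤ) + -(r : ℤ) →
        LocCoh.HasSk 2 (Localization T) (LocalizedModule T (Dual.HD A ωP j)) := by
      intro j hj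
      by_cases hneg : j < 0
      · -- the module vanishes
        haveI : (Dual.inD P P).IsGE 0 := by unfold Dual.inD; infer_instance
        letI : Algebra P A := ψ.toRingHom.toAlgebra
        haveI : ωP.IsGE 0 := Groth.Agent.Lib.Helper13.Shriek.isGE_Rco (A := P) (B := A) (Dual.inD P P) 0
        have hz : Limits.IsZero ((DerivedCategory.homologyFunctor (ModuleCat.{u} A) j).obj ωP) :=
          DerivedCategory.isZero_of_isGE ωP 0 j hneg
        haveI : Subsingleton (Dual.HD A ωP j) := ModuleCat.subsingleton_of_isZero hz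
        intro Q _
        haveI : Subsingleton (LocalizedModule Q.primeCompl (LocalizedModule T (Dual.HD A ωP j))) :=
          inferInstance
        rw [Module.supportDim_eq_bot_of_subsingleton]
        simp
      · push Not at hneg
        have hrn : r ≤ n := by lia
        have hj' : j = ((n - r : ℕ) : ℤ) := by lia
        subst hj'
        intro Q _
        rw [Groth.Agent.Lib.Helper16.SkEmb.supportDim_localization_localization]
        haveI hfin : Module.Finite A (Dual.HD A ωP ((n - r : ℕ) : ℤ)) := by
          letI : Algebra P A := ψ.toRingHom.toAlgebra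
          haveI : Module.Finite P A := Module.Finite.of_surjective (Algebra.linearMap P A) hψ
          exact Groth.Agent.Lib.Helper13.CMS2.finite_HD_Rco P A _
        rw [Groth.Agent.Lib.Helper16.SkEmb.depth_localization_localization]
        have hdisj : Disjoint (T : Set A)
            ((Q.comap (algebraMap A (Localization T)) : Ideal A) : Set A) :=
          Groth.Agent.Lib.Helper16.SkEmb.disjoint_of_le_comap T Q _ le_rfl
        exact Groth.Agent.Lib.Helper13.CMS2.local_S2 R A n ψ hψ p r hr
          ⟨Q.comap (algebraMap A (Localization T)), inferInstance⟩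
          (hunder _ inferInstance hdisj) (n - r) rfl
    have h2 := key ((n : ℤ) + -(r : ℤ)) rfl
    refine Groth.Agent.Lib.Helper18.QGor.hasSk_of_linearEquiv 2 ?_ h2
    exact (IsLocalizedModule.mapEquiv T (LocalizedModule.mkLinearMap T _)
      (LocalizedModule.mkLinearMap T _) (Localization T) Er).symm

end Groth.Agent.S8947
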