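import Groth.Statements.S8949
import Groth.Agent.Lib.Helper16.GorBC1

set_option autoImplicit false
universe u
open scoped TensorProduct
open Goren

namespace Groth.Agent.S8949

section helpers
open scoped TensorProduct
open Goren

theorem result_aux (A B C : Type u) [CommRing A] [CommRing B] [CommRing C] [IsNoetherianRing A] [IsNoetherianRing B] [IsNoetherianRing C] [Algebra A B] [Algebra B C] [Algebra A C] [IsScalarTower A B C] [Module.Flat A B] [Module.Flat B C] (hAB : ∀ (q : Ideal A) [q.IsPrime], LocCoh.IsGorensteinRing (q.Fiber B)) (hBC : CAlg.IsRegularHom B C) : ∀ (q : Ideal A) [q.IsPrime], LocCoh.IsGorensteinRing (q.Fiber C) := by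
  intro p _
  rw [Groth.Agent.Lib.Helper16.GorBC.isGorensteinRing_fiber_iff A C p]
  intro r _ hr
  rw [Groth.Agent.Lib.Helper16.GorBC.gor_fibLocRing_comp A B C r]
  constructor
  · refine (Groth.Agent.Lib.Helper16.GorBC.isGorensteinRing_fiber_iff A B p).mp (hAB p) _ ?_
    rw [Ideal.comap_comap, ← IsScalarTower.algebraMap_eq]
    exact hr
  · obtain ⟨_, hreg⟩ := hBC
    obtain ⟨hN, hgeo⟩ := hreg (r.comap (algebraMap B C))
    have h1 := hgeo (r.comap (algebraMap B C)).ResidueField (Module.Finite.self _)
    have h2 : IsRegularRing ((r.comap (algebraMap B C)).Fiber C) :=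
      @IsRegularRing.of_ringEquiv _ _ _ _
        (Algebra.TensorProduct.lid (r.comap (algebraMap B C)).ResidueField
          ((r.comap (algebraMap B C)).Fiber C)).toRingEquiv h1
    have h3 := Groth.Agent.Lib.Helper16.GorBC.gorRing_of_isRegularRing
      ((r.comap (algebraMap B C)).Fiber C)
    exact (Groth.Agent.Lib.Helper16.GorBC.isGorensteinRing_fiber_iff B C _).mp h3 r rfl

end helpers

/-- Gorenstein fibres are preserved by composing with a regular map. For flat maps A → B → C of
Noetherian rings, if the fibres of A → B are Gorenstein rings and B → C is regular, then the fibres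
of A → C are Gorenstein rings. -/
theorem result (A B C : Type u) [CommRing A] [CommRing B] [CommRing C] [IsNoetherianRing A] [IsNoetherianRing B] [IsNoetherianRing C] [Algebra A B] [Algebra B C] [Algebra A C] [IsScalarTower A B C] [Module.Flat A B] [Module.Flat B C] (hAB : ∀ (q : Ideal A) [q.IsPrime], LocCoh.IsGorensteinRing (q.Fiber B)) (hBC : CAlg.IsRegularHom B C) : ∀ (q : Ideal A) [q.IsPrime], LocCoh.IsGorensteinRing (q.Fiber C) := by
  exact result_aux A B C hAB hBC

end Groth.Agent.S8949
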