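import Groth.Statements.S8953
import Groth.Agent.Lib.Helper13.OpenImm2
import Groth.Agent.Lib.Helper13.ShriekComp

set_option autoImplicit false
universe u
open CategoryTheory AlgebraicGeometry
open scoped TensorProduct
attribute [local instance] HasDerivedCategory.standard
open Disc

namespace Groth.Agent.S8953

/-- Let A → B be a quasi-finite map of Noetherian rings, written as a composite A → B′ → B in which the
first map A → B′ is finite and the induced morphism Spec(B) → Spec(B′) is an open immersion, so that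
ω_{B/A} = Hom_A(B′, A) ⊗_{B′} B; and let ω^•_{B/A} = φ^!(A[0]) be the algebraic relative dualizing
complex computed through a presentation ψ : A[x_1, …, x_n] → B (derived base change assumed to
exist, RHom_P(B, −) given as a right adjoint of restriction of scalars). Then there is a
(non-unique) B-linear isomorphism H^0(ω^•_{B/A}) ≅ ω_{B/A}. -/
theorem result (A B B' : Type u) [CommRing A] [CommRing B] [CommRing B'] [IsNoetherianRing A] [IsNoetherianRing B] [Algebra A B] [Algebra A B'] [Algebra B' B] [IsScalarTower A B' B] [Module.Finite A B'] (hopen : IsOpenImmersion (Spec.map (CommRingCat.ofHom (algebraMap B' B)))) (n : ℕ) (ψ : MvPolynomial (Fin n) A →ₐ[A] B) (hψ : Function.Surjective ψ) [DRing.HasLBaseChange (algebraMap A (MvPolynomial (Fin n) A))] (Rψ : Dual.D (MvPolynomial (Fin n) A) ⥤ Dual.D B) (adj : DRing.restrictD ψ.toRingHom ⊣ Rψ) : Nonempty (Dual.HD B (Dual2.shriekVia n Rψ (Dual.inD A A)) 0 ≃ₗ[B] (B ⊗[B'] Disc.Omega A B')) := by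
  classical
  have hNB' : IsNoetherianRing B' := IsNoetherianRing.of_finite A B'
  -- presentations
  obtain ⟨m, α, hα⟩ := (Algebra.FiniteType.iff_quotient_mvPolynomial'' (R := A) (S := B')).1 inferInstance
  have hftB : Algebra.FiniteType A B := Algebra.FiniteType.of_surjective ψ hψ
  have hftB' : Algebra.FiniteType B' B := Algebra.FiniteType.of_restrictScalars_finiteType A B' B
  obtain ⟨k, β, hβ⟩ := (Algebra.FiniteType.iff_quotient_mvPolynomial'' (R := B') (S := B)).1 inferInstance
  -- flat and epi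
  have hflat : Module.Flat B' B := by
    have h1 : Flat (Spec.map (CommRingCat.ofHom (algebraMap B' B))) := inferInstance
    have h2 := (AlgebraicGeometry.Flat.SpecMap_iff).1 h1
    exact (RingHom.flat_algebraMap_iff).1 h2
  have hepi : Algebra.IsEpi B' B := by
    apply CommRingCat.epi_iff_epi.1
    have h3 : Mono (Scheme.Spec.map (CommRingCat.ofHom (algebraMap B' B)).op) :=
      (inferInstance : Mono (Spec.map (CommRingCat.ofHom (algebraMap B' B))))
    have h4 : Mono (CommRingCat.ofHom (algebraMap B' B)).op := Scheme.Spec.mono_of_mono_map h3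
    exact (op_mono_iff _).1 h4
  let P := MvPolynomial (Fin n) A
  have hGE : (Dual.inD A A).IsGE 0 := inferInstance
  -- composition
  obtain ⟨i1⟩ := Groth.Agent.Lib.Helper13.Shriek.Sh_comp m k n α hα β hβ ψ hψ (Dual.inD A A) 0
  obtain ⟨i2⟩ := Groth.Agent.Lib.Helper13.Frob.Sh_finite (algebraMap A B')
    (RingHom.finite_algebraMap.2 inferInstance) m (α : MvPolynomial (Fin m) A →+* B')
    (RingHom.ext fun t => by
      change α (MvPolynomial.C t) = _
      rw [← MvPolynomial.algebraMap_eq, AlgHom.commutes]) (Dual.inD A A)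
  let M := (Groth.Agent.Lib.Helper13.Coind.Rco (algebraMap A B')).obj (Dual.inD A A)
  have hM : M.IsGE 0 := Groth.Agent.Lib.Helper13.Shriek.isGE_Rco (Dual.inD A A) 0
  obtain ⟨i3⟩ := Groth.Agent.Lib.Helper13.OpenImm.nonempty_Sh_iso_LBaseChange B' B k β hβ M 0
  let e0 : Dual2.shriekVia n Rψ (Dual.inD A A) ≅
      Groth.Agent.Lib.Helper13.Shriek.Sh (algebraMap A P) (ψ : P →+* B) n (Dual.inD A A) :=
    (shiftFunctor (Dual.D B) (n : ℤ)).mapIso
      ((Groth.Agent.Lib.Helper13.Coind.uniq ψ.toRingHom Rψ adj).app _)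
  let t : Groth.Agent.Lib.Helper13.Shriek.Sh (algebraMap B' (MvPolynomial (Fin k) B'))
        (β : MvPolynomial (Fin k) B' →+* B) k
        (Groth.Agent.Lib.Helper13.Shriek.Sh (algebraMap A (MvPolynomial (Fin m) A))
          (α : MvPolynomial (Fin m) A →+* B') m (Dual.inD A A)) ≅
      Groth.Agent.Lib.Helper13.Shriek.Sh (algebraMap B' (MvPolynomial (Fin k) B'))
        (β : MvPolynomial (Fin k) B' →+* B) k M :=
    (shiftFunctor (Dual.D B) (k : ℤ)).mapIso
      ((Groth.Agent.Lib.Helper13.Coind.Rco (β : MvPolynomial (Fin k) B' →+* B)).mapIso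
        ((DRing.LBaseChange (algebraMap B' (MvPolynomial (Fin k) B'))).mapIso i2))
  let ι : Dual2.shriekVia n Rψ (Dual.inD A A) ≅
      (Groth.Agent.Lib.Helper13.DR.flatBC B' B).obj M :=
    e0 ≪≫ i1 ≪≫ t ≪≫ i3 ≪≫ (Groth.Agent.Lib.Helper13.Shriek.LBaseChangeFlatIso B' B).app M
  let E1 : Dual.HD B (Dual2.shriekVia n Rψ (Dual.inD A A)) 0 ≃ₗ[B]
      Dual.HD B ((Groth.Agent.Lib.Helper13.DR.flatBC B' B).obj M) 0 :=
    ((DerivedCategory.homologyFunctor (ModuleCat.{u} B) 0).mapIso ι).toLinearEquiv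
  let E2 := (Groth.Agent.Lib.Helper13.Shriek.flatBCHomologyIso B' B M 0).toLinearEquiv
  let E3 := Groth.Agent.Lib.Helper13.DR.extendScalarsEquiv B
    ((DerivedCategory.homologyFunctor (ModuleCat.{u} B') 0).obj M)
  let E4 : B ⊗[B'] (Dual.HD B' M 0) ≃ₗ[B] B ⊗[B'] Disc.Omega A B' :=
    TensorProduct.AlgebraTensorModule.congr (LinearEquiv.refl B B)
      (Groth.Agent.Lib.Helper13.OpenImm.H0RcoEquiv A B')
  exact ⟨E1 ≪≫ₗ E2 ≪≫ₗ E3 ≪≫ₗ E4⟩

end Groth.Agent.S8953
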