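import Groth.Statements.S8954
import Mathlib
import Groth.Agent.Helper19.RelGCI18
import Groth.Agent.Lib.Helper16.SyntLCI2
-- import your own Groth.Agent.* helpers here

set_option autoImplicit false
universe u
open Synt

namespace Groth.Agent.S8954

/-- The equivalence of being finite syntomic with having a square presentation, stated over a local
base. For a local ring A and a finite A-algebra B, the map A → B is syntomic if and only if B ≅
A[x_1, …, x_n]/(f_1, …, f_n) as A-algebras for some n and f_1, …, f_n ∈ A[x_1, …, x_n]. (The
published statement is for a finite morphism of schemes and asserts such a presentation over some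
affine open neighbourhood of each point of the base; over a local base that neighbourhood is the
whole spectrum.) -/
theorem result (A B : Type u) [CommRing A] [IsLocalRing A] [CommRing B] [Algebra A B] [Module.Finite A B] : Synt.IsSyntomic A B ↔ ∃ (n : ℕ) (F : Fin n → MvPolynomial (Fin n) A), Nonempty (B ≃ₐ[A] Synt.RelGCIRing A n n F) := by
  constructor
  · intro hS
    exact Groth.Agent.Helper19.RelGCI.exists_square_presentation_of_finite hS
  · rintro ⟨n, F, ⟨e⟩⟩
    have hG : Synt.IsRelGCI A n n F := by
      intro p hnt
      refine ⟨le_rfl, ?_⟩
      haveI : p.asIdeal.IsPrime := p.2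
      have hle : ringKrullDim (p.asIdeal.Fiber (Synt.RelGCIRing A n n F)) ≤ 0 := by
        rw [← Groth.Agent.Helper19.RelGCI.ringKrullDim_fiber_congr A e p.asIdeal]
        exact Groth.Agent.Helper19.RelGCI.ringKrullDim_fiber_le_zero_of_quasiFinite B p.asIdeal
      rw [Nat.sub_self]
      refine le_antisymm hle ?_
      exact ringKrullDim_nonneg_of_nontrivial
    exact Groth.Agent.Lib.Helper16.SyntLCI.isSyntomic_of_algEquiv e.symm
      (Groth.Agent.Helper19.RelGCI.isSyntomic_of_isRelGCI hG)

end Groth.Agent.S8954
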