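import Groth.Statements.S8972
import Mathlib

set_option autoImplicit false
open Synt

namespace Groth.Agent.S8972

open MvPolynomial

section iso

variable (n d : ℕ)

/-- the zero exponent index -/
def E0 : UnivIdx n d := ⟨fun _ => 0, by simp⟩

theorem E0_exponent : (E0 n d).exponent = 0 := by
  ext i
  simp [E0, UnivIdx.exponent]

/-- the remaining variables `a_{i,E}`, `E ≠ 0` -/
abbrev Var := {p : Fin n × UnivIdx n d // p.2 ≠ E0 n d}

instance : Finite (Var n d) := by unfold Var; infer_instance

/-- the polynomial ring `ℤ[a_{i,E} (E ≠ 0)][x_1, …, x_n]` -/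
abbrev R' := MvPolynomial (Fin n) (MvPolynomial (Var n d) ℤ)

/-- image of `a_{i,E}` for `E ≠ 0`, zero for `E = 0` -/
noncomputable def hh (i : Fin n) (E : UnivIdx n d) : R' n d :=
  if hE : E = E0 n d then 0 else C (X ⟨(i, E), hE⟩)

theorem hh_E0 (i : Fin n) : hh n d i (E0 n d) = 0 := by simp [hh]

noncomputable def gval (p : Fin n × UnivIdx n d) : R' n d :=
  if p.2 = E0 n d then - ∑ E : UnivIdx n d, hh n d p.1 E * monomial E.exponent 1 else hh n d p.1 p.2

noncomputable def g : UnivBase n d →+* R' n d := eval₂Hom (Int.castRingHom _) (gval n d)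

noncomputable def φ : MvPolynomial (Fin n) (UnivBase n d) →+* R' n d := eval₂Hom (g n d) X

theorem φ_univPoly (i : Fin n) : φ n d (univPoly n d i) = 0 := by
  unfold univPoly φ
  rw [map_sum]
  have h1 : ∀ E : UnivIdx n d, eval₂Hom (g n d) X (monomial E.exponent (X (i, E) : UnivBase n d)) =
      gval n d (i, E) * monomial E.exponent 1 := by
    intro E
    rw [eval₂Hom_monomial, monomial_eq, map_one, one_mul]
    congr 1
    simp [g]
  simp_rw [h1]
  rw [← Finset.add_sum_erase _ _ (Finset.mem_univ (E0 n d))]
  have h2 : gval n d (i, E0 n d) = - ∑ E : UnivIdx n d, hh n d i E * monomial E.exponent 1 := by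
    simp [gval]
  have h3 : ∀ E ∈ Finset.univ.erase (E0 n d), gval n d (i, E) * monomial E.exponent 1 =
      hh n d i E * monomial E.exponent 1 := by
    intro E hE
    have : E ≠ E0 n d := (Finset.mem_erase.mp hE).1
    simp [gval, this]
  rw [Finset.sum_congr rfl h3, h2, E0_exponent]
  rw [← Finset.add_sum_erase _ _ (Finset.mem_univ (E0 n d)), hh_E0]
  simp

/-- the quotient, as a plain quotient ring -/
abbrev Q := MvPolynomial (Fin n) (UnivBase n d) ⧸ univIdeal n d

/-- the quotient map -/
noncomputable abbrev mkQ : MvPolynomial (Fin n) (UnivBase n d) →+* Q n d := Ideal.Quotient.mk (univIdeal n d)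

/-- the inverse map -/
noncomputable def ψ : R' n d →+* Q n d :=
  eval₂Hom (eval₂Hom (Int.castRingHom _) (fun p : Var n d => mkQ n d (C (X p.1))))
    (fun j => mkQ n d (X j))

theorem mk_univPoly (i : Fin n) : mkQ n d (univPoly n d i) = 0 :=
  Ideal.Quotient.eq_zero_iff_mem.mpr (Ideal.subset_span ⟨i, rfl⟩)

theorem ψ_hh (i : Fin n) (E : UnivIdx n d) (hE : E ≠ E0 n d) :
    ψ n d (hh n d i E) = mkQ n d (C (X (i, E))) := by
  simp [hh, hE, ψ]

theorem ψ_monomial (E : UnivIdx n d) :
    ψ n d (monomial E.exponent 1) = mkQ n d (monomial E.exponent 1) := by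
  unfold ψ
  rw [eval₂Hom_monomial, map_one, one_mul, monomial_eq, map_one, one_mul, Finsupp.prod, Finsupp.prod,
    map_prod]
  simp

theorem ψ_gval (p : Fin n × UnivIdx n d) : ψ n d (gval n d p) = mkQ n d (C (X p)) := by
  obtain ⟨i, E⟩ := p
  by_cases hE : E = E0 n d
  · subst hE
    have h0 := mk_univPoly n d i
    unfold univPoly at h0
    rw [map_sum, ← Finset.add_sum_erase _ _ (Finset.mem_univ (E0 n d)), E0_exponent] at h0
    have h2 : gval n d (i, E0 n d) = - ∑ E : UnivIdx n d, hh n d i E * monomial E.exponent 1 := by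
      simp [gval]
    rw [h2, map_neg, map_sum, ← Finset.add_sum_erase _ _ (Finset.mem_univ (E0 n d)), hh_E0, zero_mul,
      map_zero, zero_add]
    have h3 : ∀ E ∈ Finset.univ.erase (E0 n d), ψ n d (hh n d i E * monomial E.exponent 1) =
        mkQ n d (monomial E.exponent (X (i, E))) := by
      intro E hE
      have : E ≠ E0 n d := (Finset.mem_erase.mp hE).1
      rw [map_mul, ψ_hh n d i E this, ψ_monomial, ← map_mul, C_mul_monomial, mul_one]
    rw [Finset.sum_congr rfl h3]
    rw [eq_comm, ← sub_eq_zero, sub_neg_eq_add]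
    exact h0
  · simp only [gval, hE, if_false]
    exact ψ_hh n d i E hE

theorem ψ_comp_g : (ψ n d).comp (g n d) = (mkQ n d).comp C := by
  apply MvPolynomial.ringHom_ext
  · intro z
    simp
  · intro p
    simp only [RingHom.comp_apply, g, eval₂Hom_X']
    exact ψ_gval n d p

theorem ψ_g (a : UnivBase n d) : ψ n d (g n d a) = mkQ n d (C a) :=
  congrArg (fun f => f a) (ψ_comp_g n d)

theorem ψ_comp_φ : (ψ n d).comp (φ n d) = mkQ n d := by
  apply MvPolynomial.ringHom_ext
  · intro a
    simp only [RingHom.comp_apply, φ, eval₂Hom_C]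
    exact ψ_g n d a
  · intro j
    simp [φ, ψ]

theorem univIdeal_le_ker : ∀ a ∈ univIdeal n d, φ n d a = 0 := by
  intro a ha
  have : univIdeal n d ≤ RingHom.ker (φ n d) := by
    rw [univIdeal, Ideal.span_le]
    rintro _ ⟨i, rfl⟩
    exact φ_univPoly n d i
  exact this ha

/-- the map from the quotient -/
noncomputable def φbar : Q n d →+* R' n d :=
  Ideal.Quotient.lift (univIdeal n d) (φ n d) (univIdeal_le_ker n d)

theorem φbar_mk (a) : φbar n d (mkQ n d a) = φ n d a := by
  unfold φbar
  rw [Ideal.Quotient.lift_mk]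

theorem φbar_ψ : (φbar n d).comp (ψ n d) = RingHom.id _ := by
  apply MvPolynomial.ringHom_ext
  · intro a
    induction a using MvPolynomial.induction_on with
    | C z => simp
    | add p q hp hq => simp only [map_add, hp, hq]
    | mul_X p i hp =>
      rw [map_mul, map_mul, hp, map_mul]
      congr 1
      simp only [RingHom.comp_apply, ψ, eval₂Hom_C, eval₂Hom_X', RingHom.id_apply]
      rw [φbar_mk]
      simp [φ, g, gval, i.2, hh]
  · intro j
    simp only [RingHom.comp_apply, ψ, eval₂Hom_X', RingHom.id_apply]
    rw [φbar_mk]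
    simp [φ]

theorem ψ_φbar : (ψ n d).comp (φbar n d) = RingHom.id _ := by
  apply Ideal.Quotient.ringHom_ext
  rw [RingHom.comp_assoc]
  have : (φbar n d).comp (Ideal.Quotient.mk (univIdeal n d)) = φ n d := by
    refine RingHom.ext fun a => ?_
    exact φbar_mk n d a
  rw [this, ψ_comp_φ]
  rfl

/-- the universal algebra is a polynomial ring over `ℤ` -/
noncomputable def equiv : Q n d ≃+* R' n d :=
  RingEquiv.ofRingHom (φbar n d) (ψ n d) (φbar_ψ n d) (ψ_φbar n d)

theorem main {B : Type} [CommRing B] (e : B ≃+* R' n d) : IsDomain B ∧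
    ∀ q : PrimeSpectrum B, IsRegularLocalRing (Localization.AtPrime q.asIdeal) := by
  have hdom : IsDomain B := e.toMulEquiv.isDomain _
  have hreg : IsRegularRing B := IsRegularRing.of_ringEquiv e.symm
  exact ⟨hdom, fun q => IsRegularRing.isRegularLocalRing_localization q.asIdeal⟩

end iso


/-- Let n, d ≥ 1 and let B = A[x_1, …, x_n]/(f_1, …, f_n) be the universal algebra over A = ℤ[a_{i,E}],
f_i = Σ_E a_{i,E} x^E summed over exponent vectors E with |E| ≤ d. Then B is an integral domain and
every localization of B at a prime ideal is a regular local ring. (The published statement says that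
X_{n,d} = Spec A and the quasi-finite locus Y_{n,d} ⊆ Spec B are regular and irreducible; for A, a
polynomial ring over ℤ, this is standard, and for the open Y_{n,d} it follows from the assertion
about all of Spec B made here, which is what the printed argument shows. The published statement
also asserts that Y_{n,d} → X_{n,d} is locally quasi-finite and syntomic, an instance of the general
characterisation of quasi-finite syntomic maps; that clause is not part of this row.) -/
theorem result (n d : ℕ) (hn : 1 ≤ n) (hd : 1 ≤ d) : IsDomain (Synt.UnivAlg n d) ∧ ∀ q : PrimeSpectrum (Synt.UnivAlg n d), IsRegularLocalRing (Localization.AtPrime q.asIdeal) := by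
  exact main n d (B := UnivAlg n d) (equiv n d)

end Groth.Agent.S8972
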