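import Groth.Statements.S8973
import Mathlib
import Groth.Agent.Lib.Helper9.EtalePt

set_option autoImplicit false
open Synt

namespace Groth.Agent.S8973

open MvPolynomial Groth.Agent.Lib.Helper9

section pt

variable (n d : ℕ) (hd : 1 ≤ d)

/-- the exponent index `e_i` -/
def ee (i : Fin n) : UnivIdx n d :=
  ⟨fun k => if k = i then ⟨1, by omega⟩ else 0, by
    classical
    simp only [apply_ite Fin.val, Fin.val_zero]
    rw [Finset.sum_ite_eq' Finset.univ i]
    simpa using hd⟩

theorem ee_exponent (i : Fin n) : (ee n d hd i).exponent = Finsupp.single i 1 := by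
  classical
  ext k
  simp only [UnivIdx.exponent, ee, Finsupp.equivFunOnFinite_symm_apply_apply, Finsupp.single_apply]
  by_cases h : k = i
  · simp [h]
  · simp [h, Ne.symm h]

/-- evaluation of the coefficients: `a_{i,E} ↦ [E = e_i]` -/
noncomputable def χ₀ : UnivBase n d →+* ℚ :=
  eval₂Hom (Int.castRingHom ℚ) (fun p => if p.2 = ee n d hd p.1 then 1 else 0)

/-- evaluation at the point `a_{i,E} = [E = e_i]`, `x = 0`. -/
noncomputable def χ : MvPolynomial (Fin n) (UnivBase n d) →+* ℚ :=
  eval₂Hom (χ₀ n d hd) (fun _ => 0)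

theorem χ_monomial (s : Fin n →₀ ℕ) (c : UnivBase n d) :
    χ n d hd (monomial s c) = if s = 0 then χ₀ n d hd c else 0 := by
  unfold χ
  rw [eval₂Hom_monomial]
  split_ifs with h
  · subst h
    simp
  · obtain ⟨k, hk⟩ : ∃ k, s k ≠ 0 := by
      by_contra hcon
      push Not at hcon
      exact h (Finsupp.ext hcon)
    rw [Finsupp.prod, Finset.prod_eq_zero (Finsupp.mem_support_iff.mpr hk) (zero_pow hk), mul_zero]

theorem χ_univPoly (i : Fin n) : χ n d hd (univPoly n d i) = 0 := by
  unfold univPoly
  rw [map_sum]
  refine Finset.sum_eq_zero fun E _ => ?_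
  rw [χ_monomial]
  split_ifs with h
  · have : E ≠ ee n d hd i := by
      intro hE
      rw [hE, ee_exponent] at h
      simpa using Finsupp.ext_iff.mp h i
    simp [χ₀, this]
  · rfl

theorem χ_pderiv (i j : Fin n) : χ n d hd (pderiv j (univPoly n d i)) = if i = j then 1 else 0 := by
  classical
  unfold univPoly
  rw [map_sum, map_sum]
  rw [Finset.sum_eq_single (ee n d hd i)]
  · rw [pderiv_monomial, χ_monomial, ee_exponent]
    by_cases hij : i = j
    · subst hij
      simp [χ₀]
    · have : (Finsupp.single i 1 - Finsupp.single j 1 : Fin n →₀ ℕ) ≠ 0 := by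
        intro h
        have := Finsupp.ext_iff.mp h i
        simp [Finsupp.single_apply, hij, Ne.symm hij] at this
      simp [this, hij, Finsupp.single_apply, Ne.symm hij]
  · intro E _ hE
    rw [pderiv_monomial, χ_monomial]
    split_ifs
    · simp [χ₀, hE]
    · rfl
  · intro h
    exact absurd (Finset.mem_univ _) h

include hd in
theorem main : ∃ q : PrimeSpectrum (MvPolynomial (Fin n) (UnivBase n d) ⧸ univIdeal n d),
    Algebra.QuasiFiniteAt (S := MvPolynomial (Fin n) (UnivBase n d) ⧸ univIdeal n d) (UnivBase n d) q.asIdeal ∧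
    Algebra.IsEtaleAt (A := MvPolynomial (Fin n) (UnivBase n d) ⧸ univIdeal n d) (UnivBase n d) q.asIdeal := by
  have hker : ∀ a ∈ univIdeal n d, χ n d hd a = 0 := by
    intro a ha
    have : univIdeal n d ≤ RingHom.ker (χ n d hd) := by
      rw [univIdeal, Ideal.span_le]
      rintro _ ⟨i, rfl⟩
      exact χ_univPoly n d hd i
    exact this ha
  let χbar : (MvPolynomial (Fin n) (UnivBase n d) ⧸ univIdeal n d) →+* ℚ :=
    Ideal.Quotient.lift _ (χ n d hd) hker
  let P := RingHom.ker χbar
  have hP : P.IsPrime := RingHom.ker_isPrime χbar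
  have hdet : Ideal.Quotient.mk (EtalePt.II n (univPoly n d)) (EtalePt.jac n (univPoly n d)).det ∉ P := by
    rw [RingHom.mem_ker, Ideal.Quotient.lift_mk, RingHom.map_det]
    have : (χ n d hd).mapMatrix (EtalePt.jac n (univPoly n d)) = 1 := by
      ext i j
      simp [EtalePt.jac, χ_pderiv, Matrix.one_apply]
    rw [this, Matrix.det_one]
    exact one_ne_zero
  exact ⟨⟨P, hP⟩, EtalePt.quasiFiniteAt n _ P hdet, EtalePt.isEtaleAt n _ P hdet⟩

end pt


/-- Let n, d ≥ 1 and let B = A[x_1, …, x_n]/(f_1, …, f_n) be the universal algebra over A = ℤ[a_{i,E}],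
f_i = Σ_E a_{i,E} x^E summed over exponent vectors E with |E| ≤ d. Then there is a prime q of B at
which B is quasi-finite over A and étale over A (that is, B_q is quasi-finite and formally étale
over A). (The published statement asserts a dense open V of the quasi-finite locus Y_{n,d} ⊆ Spec B
that is étale over Spec A; as Spec B is irreducible and the étale locus is open, that amounts to the
existence of one such point, which is what is stated here and what the printed argument exhibits.) -/
theorem result (n d : ℕ) (hn : 1 ≤ n) (hd : 1 ≤ d) : ∃ q : PrimeSpectrum (Synt.UnivAlg n d), Algebra.QuasiFiniteAt (Synt.UnivBase n d) q.asIdeal ∧ Algebra.IsEtaleAt (Synt.UnivBase n d) q.asIdeal := by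
  exact main n d hd

end Groth.Agent.S8973
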