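import Groth.Statements.S8974
import Mathlib
-- import your own Groth.Agent.* helpers here

set_option autoImplicit false
universe u
open Synt

namespace Groth.Agent.S8974

/-- Let R be a ring, n, d ≥ 1 and g_1, …, g_n ∈ R[y_1, …, y_n] of total degree at most d. Then there is
a ring map φ : A = ℤ[a_{i,E}] → R (E running over exponent vectors with |E| ≤ d) such that applying
φ to the coefficients of the universal polynomial f_i = Σ_E a_{i,E} x^E gives g_i for each i. (The
published statement is for a locally quasi-finite syntomic morphism of schemes and asserts, locally,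
a cartesian square with the universal family; this row is its affine core: the coefficient map.) -/
theorem result (R : Type u) [CommRing R] (n d : ℕ) (hn : 1 ≤ n) (hd : 1 ≤ d) (g : Fin n → MvPolynomial (Fin n) R) (hg : ∀ i, (g i).totalDegree ≤ d) : ∃ φ : Synt.UnivBase n d →+* R, ∀ i, MvPolynomial.map φ (Synt.univPoly n d i) = g i := by
  classical
  let φ : Synt.UnivBase n d →+* R :=
    (MvPolynomial.eval₂Hom (Int.castRingHom R)
      (fun q : Fin n × Synt.UnivIdx n d => MvPolynomial.coeff q.2.exponent (g q.1)))
  refine ⟨φ, fun i => ?_⟩
  have hφX : ∀ E : Synt.UnivIdx n d, φ (MvPolynomial.X (i, E)) = MvPolynomial.coeff E.exponent (g i) := by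
    intro E
    simp [φ]
  have hinj : Function.Injective (fun E : Synt.UnivIdx n d => E.exponent) := by
    intro E E' h
    apply Subtype.ext
    funext k
    have := DFunLike.congr_fun h k
    simp only [Synt.UnivIdx.exponent, Finsupp.equivFunOnFinite_symm_apply_apply] at this
    exact Fin.ext this
  unfold Synt.univPoly
  rw [map_sum]
  simp only [MvPolynomial.map_monomial, hφX]
  ext m
  rw [MvPolynomial.coeff_sum]
  simp only [MvPolynomial.coeff_monomial]
  by_cases hm : ∃ E : Synt.UnivIdx n d, E.exponent = m
  · obtain ⟨E, rfl⟩ := hm
    rw [Finset.sum_eq_single E]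
    · simp
    · intro E' _ hne
      rw [if_neg]
      intro h
      exact hne (hinj h)
    · intro h
      exact absurd (Finset.mem_univ E) h
  · rw [Finset.sum_eq_zero]
    · symm
      by_contra hne
      apply hm
      have hmem : m ∈ (g i).support := MvPolynomial.mem_support_iff.mpr hne
      have hdeg : (m.sum fun _ e => e) ≤ d := le_trans (MvPolynomial.le_totalDegree hmem) (hg i)
      have hsum : ∑ k, m k ≤ d := by
        rw [Finsupp.sum_fintype] at hdeg
        · exact hdeg
        · intro _; rfl
      have hk : ∀ k, m k < d + 1 := by
        intro k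
        have : m k ≤ ∑ k, m k := Finset.single_le_sum (f := fun k => m k) (fun _ _ => Nat.zero_le _) (Finset.mem_univ k)
        omega
      refine ⟨⟨fun k => ⟨m k, hk k⟩, by simpa using hsum⟩, ?_⟩
      ext k
      simp [Synt.UnivIdx.exponent]
    · intro E _
      rw [if_neg]
      intro h
      exact hm ⟨E, h⟩

end Groth.Agent.S8974
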