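import Groth.Statements.S8977
import Groth.Agent.Lib.Helper10.SubtrH1
import Groth.Agent.S7477

set_option autoImplicit false
universe u
open HTop

namespace Groth.Agent.S8977

open CategoryTheory CategoryTheory.Limits AlgebraicGeometry in
/-- For a Noetherian scheme X and a finite family of finite type morphisms X_i → X, the induced morphism
from the coproduct of the X_i to X is universally submersive if and only if the family is an h
covering. -/
theorem result {X : Scheme.{u}} [IsNoetherian X] (E : PreZeroHypercover.{u} X) [Finite E.I₀] [∀ i, LocallyOfFiniteType (E.f i)] [∀ i, QuasiCompact (E.f i)] : SGA1.UnivSubmersive (Sigma.desc E.f) ↔ HTop.IsHCover E := by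
  constructor
  · intro h
    haveI : QuasiCompact (Sigma.desc E.f) :=
      Groth.Agent.Lib.Helper24.FinSigma.quasiCompact_sigmaDesc E.f (fun i => inferInstance)
    have hS : Subtr.UnivSSubtrusive (Sigma.desc E.f) := (Groth.Agent.S14770.result _).mp h
    exact ⟨fun i => Groth.Agent.Lib.Helper10.SubtrH.lfp_of_lft_of_isLocallyNoetherian (E.f i),
      Groth.Agent.Lib.Helper10.SubtrH.isVCover_of_univSSubtrusive E hS⟩
  · intro h
    exact Groth.Agent.S7477.result E h.2

end Groth.Agent.S8977
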