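import Groth.Statements.S8979
import Mathlib
import Groth.Agent.S7476
-- import your own Groth.Agent.* helpers here

set_option autoImplicit false
universe u
open HTop

namespace Groth.Agent.S8979

open CategoryTheory CategoryTheory.Limits AlgebraicGeometry in
/-- A surjective proper morphism of finite presentation, as a one-member family, is an h covering of its
target. -/
theorem result {X Y : Scheme.{u}} (f : Y ⟶ X) [IsProper f] [Surjective f] [LocallyOfFinitePresentation f] : HTop.IsHCover (PreZeroHypercover.singleton.{0} f) := by
  refine ⟨fun _ => (inferInstance : LocallyOfFinitePresentation f), ?_⟩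
  apply Groth.Agent.S7476.isVCover_of_lift1 f
  apply Groth.Agent.S7476.lift1_of_spec f
  intro Z g z' z hz
  have hsurj : Function.Surjective (pullback.fst g f) :=
    (inferInstance : Surjective (pullback.fst g f)).surj
  have hclosed : IsClosedMap (pullback.fst g f) := (pullback.fst g f).isClosedMap
  obtain ⟨w', hw'⟩ := hsurj z'
  have hmem : z ∈ (pullback.fst g f) '' closure {w'} := by
    have hcl := hclosed _ (isClosed_closure (s := {w'}))
    have hsub : closure {z'} ⊆ (pullback.fst g f) '' closure {w'} :=
      hcl.closure_subset_iff.mpr (by
        rintro _ rfl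
        exact ⟨w', subset_closure rfl, hw'⟩)
    exact hsub (specializes_iff_mem_closure.mp hz)
  obtain ⟨w, hw, hwz⟩ := hmem
  exact ⟨w', w, specializes_iff_mem_closure.mpr hw, hw', hwz⟩

end Groth.Agent.S8979
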