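import Groth.Statements.S8980
import Mathlib
import Groth.Agent.Lib.Lead.VCover2
-- import your own Groth.Agent.* helpers here

set_option autoImplicit false
universe u
open HTop

namespace Groth.Agent.S8980

open CategoryTheory CategoryTheory.Limits AlgebraicGeometry in
/-- A family of morphisms T_i → T, indexed by a type in the universe of T and all locally of finite
presentation, is an h covering if and only if the one-member family given by the induced morphism
from the coproduct of the T_i to T is an h covering. (The published statement also lists, as a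
further equivalent condition, that some h covering refines the family; that equivalence is immediate
from the definitions and is not restated here.) -/
theorem result {T : Scheme.{u}} (E : PreZeroHypercover.{u} T) (hE : ∀ i, LocallyOfFinitePresentation (E.f i)) : HTop.IsHCover E ↔ HTop.IsHCover (PreZeroHypercover.singleton.{0} (Sigma.desc E.f)) := by
  constructor
  · rintro ⟨_, hV⟩
    refine ⟨fun _ => IsZariskiLocalAtSource.sigmaDesc hE, ?_⟩
    intro U
    obtain ⟨F, hF, href⟩ := hV U
    refine ⟨F, hF, ?_⟩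
    intro j
    obtain ⟨i, h, hh⟩ := href j
    refine ⟨PUnit.unit, h ≫ Sigma.ι E.X i, ?_⟩
    change (h ≫ Sigma.ι E.X i) ≫ Sigma.desc E.f = _
    rw [Category.assoc, Sigma.ι_desc, hh]
  · rintro ⟨_, hV⟩
    refine ⟨hE, ?_⟩
    intro U
    obtain ⟨F, hF, href⟩ := hV U
    have hFaff := hF.isAffine_obj
    choose i0 h hh using href
    let h' : ∀ j, F.X j ⟶ ∐ E.X := h
    have hh' : ∀ j, h' j ≫ Sigma.desc E.f = F.f j ≫ (U : T.Opens).ι := hh
    have hloc : ∀ j, ∃ (m : ℕ) (W : Fin m → (F.X j).Opens) (idx : Fin m → E.I₀),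
        (∀ k, IsAffineOpen (W k)) ∧
        (∀ k, W k ≤ (h' j) ⁻¹ᵁ (Sigma.ι E.X (idx k)).opensRange) ∧ ∀ y, ∃ k, y ∈ W k := by
      intro j
      have : IsAffine (F.X j) := hFaff j
      apply Groth.Agent.Lib.Lead.exists_fin_affine_refinement
        (fun i => (h' j) ⁻¹ᵁ (Sigma.ι E.X i).opensRange)
      intro y
      obtain ⟨i, z, hz⟩ := (sigmaOpenCover E.X).exists_eq (h' j y)
      exact ⟨i, z, hz⟩
    choose m W idx hWaff hWle hWcov using hloc
    let G : ∀ j, PreZeroHypercover.{0} (F.X j) := fun j => Groth.Agent.Lib.Lead.openFamily (W j)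
    refine ⟨F.bind G, Groth.Agent.S7470.result F hF G (fun j => by
      have := hFaff j
      exact Groth.Agent.Lib.Lead.isStandardV_openFamily (W j) (hWaff j) (hWcov j)), ?_⟩
    rintro ⟨j, k⟩
    have hrange : Set.range ((W j k).ι ≫ h' j) ⊆ Set.range (Sigma.ι E.X (idx j k)) := by
      rintro _ ⟨w, rfl⟩
      have hw : ((W j k).ι w) ∈ W j k := by
        have := (W j k).range_ι
        rw [← SetLike.mem_coe, ← this]
        exact ⟨w, rfl⟩
      exact hWle j k hw
    let l : (W j k).toScheme ⟶ E.X (idx j k) :=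
      IsOpenImmersion.lift (Sigma.ι E.X (idx j k)) ((W j k).ι ≫ h' j) hrange
    have hl : l ≫ Sigma.ι E.X (idx j k) = (W j k).ι ≫ h' j := IsOpenImmersion.lift_fac _ _ _
    refine ⟨idx j k, l, ?_⟩
    change l ≫ E.f (idx j k) = ((W j k).ι ≫ F.f j) ≫ (U : T.Opens).ι
    calc l ≫ E.f (idx j k) = l ≫ Sigma.ι E.X (idx j k) ≫ Sigma.desc E.f := by rw [Sigma.ι_desc]
      _ = ((W j k).ι ≫ h' j) ≫ Sigma.desc E.f := by rw [← Category.assoc, hl]
      _ = ((W j k).ι ≫ F.f j) ≫ (U : T.Opens).ι := by rw [Category.assoc, hh' j, Category.assoc]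

end Groth.Agent.S8980
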