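import Groth.Statements.S8990
import Groth.Agent.Lib.Helper14.PhBlow5

set_option autoImplicit false
universe u
open HTop

namespace Groth.Agent.S8990

open CategoryTheory CategoryTheory.Limits AlgebraicGeometry Opposite in
/-- A ph sheaf on schemes over S turns every blow up square (centre a closed subscheme of finite
presentation, X' → X the blowing up, E the inverse image of the centre) into a cartesian square of
sets of sections. -/
theorem result (S : Scheme.{u}) (F : HTop.ShPh S) {E Z X' X : Over S} (e : E ⟶ X') (π : E ⟶ Z) (b : X' ⟶ X) (i : Z ⟶ X) [IsClosedImmersion i.left] [LocallyOfFinitePresentation i.left] (hb : BlowUp.IsBlowUp b.left i.left.ker) (hE : IsPullback e.left π.left b.left i.left) (t : F.obj.obj (op Z)) (s' : F.obj.obj (op X')) (hts : F.obj.map π.op t = F.obj.map e.op s') : ∃! s : F.obj.obj (op X), F.obj.map i.op s = t ∧ F.obj.map b.op s = s' := by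
  have hprop : IsProper b.left := Groth.Agent.Lib.Helper14.PhBlow.isProper_of_isBlowUp_ker i.left b.left hb
  have hiso : IsIso (b.left ∣_ i.left.ker.support.compl) :=
    Groth.Agent.Lib.Helper25.BlowUpUP.isIso_restrict_compl_support i.left.ker b.left hb
  exact Groth.Agent.Lib.Helper14.HBlow.main_ph S F e π b i hE i.left.ker.support.compl
    (Groth.Agent.Lib.Helper14.HBlow.coe_compl_support_ker i.left) hiso t s' hts

end Groth.Agent.S8990
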