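import Groth.Statements.S8992
import Mathlib
-- import your own Groth.Agent.* helpers here

set_option autoImplicit false
universe u
open HTop

namespace Groth.Agent.S8992


theorem natCast_self_eq_zero (p : ℕ) [Fact p.Prime] (A : Type u) [CommRing A] [Algebra (ZMod p) A] :
    (p : A) = 0 := by
  rw [← map_natCast (algebraMap (ZMod p) A) p, ZMod.natCast_self, map_zero]

theorem eq_zero_of_pow_eq_zero {p : ℕ} (hp : p.Prime) {A : Type u} [CommRing A]
    (hinj : Function.Injective (fun x : A => x ^ p)) (z : A) (n : ℕ) (h : z ^ n = 0) : z = 0 := by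
  have h1 : z ^ (p ^ n) = 0 := by
    obtain ⟨k, hk⟩ : ∃ k, p ^ n = n + k :=
      ⟨p ^ n - n, by have := Nat.lt_pow_self (n := n) (a := p) hp.one_lt; omega⟩
    rw [hk, pow_add, h, zero_mul]
  have hinj' := hinj.iterate n
  rw [pow_iterate] at hinj'
  apply hinj'
  change z ^ p ^ n = 0 ^ p ^ n
  rw [h1, zero_pow]
  exact pow_ne_zero _ hp.ne_zero

theorem exists_two_three (p : ℕ) (hp : 2 ≤ p) : ∃ i j : ℕ, 2 * i + 3 * j = p := by
  rcases Nat.even_or_odd' p with ⟨k, hk | hk⟩
  · exact ⟨k, 0, by omega⟩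
  · exact ⟨k - 1, 1, by omega⟩

/-- An algebra over the prime field with p elements is absolutely weakly normal if and only if its p-th
power map is bijective (the algebra is perfect). -/
theorem result (p : ℕ) [Fact p.Prime] (A : Type u) [CommRing A] [Algebra (ZMod p) A] : HTop.IsAWNRing A ↔ PerfectRing A p := by
  have hp : p.Prime := Fact.out
  have hp0 : (p : A) = 0 := natCast_self_eq_zero p A
  constructor
  · rintro ⟨_, h2⟩
    refine ⟨⟨?_, ?_⟩⟩
    · intro a b hab
      have hab' : a ^ p = b ^ p := hab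
      obtain ⟨c, _, hc⟩ := h2 p hp (a ^ p) 0 (by rw [hp0, zero_pow hp.ne_zero, zero_mul])
      rw [hc a ⟨rfl, by rw [hp0, zero_mul]⟩, hc b ⟨hab', by rw [hp0, zero_mul]⟩]
    · intro x
      obtain ⟨c, ⟨hc, _⟩, _⟩ := h2 p hp x 0 (by rw [hp0, zero_pow hp.ne_zero, zero_mul])
      exact ⟨c, hc.symm⟩
  · rintro ⟨hinj, hsurj⟩
    have hred : ∀ (z : A) (n : ℕ), z ^ n = 0 → z = 0 := eq_zero_of_pow_eq_zero hp hinj
    refine ⟨?_, ?_⟩
    · intro x y hxy
      obtain ⟨x', hx'⟩ := hsurj x
      obtain ⟨y', hy'⟩ := hsurj y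
      simp only at hx' hy'
      have hxy' : x' ^ 3 = y' ^ 2 := by
        apply hinj
        change (x' ^ 3) ^ p = (y' ^ 2) ^ p
        rw [← pow_mul, ← pow_mul, mul_comm 3 p, mul_comm 2 p, pow_mul, pow_mul, hx', hy', hxy]
      obtain ⟨i, j, hij⟩ := exists_two_three p hp.two_le
      refine ⟨x' ^ i * y' ^ j, ⟨?_, ?_⟩, ?_⟩
      · calc x = x' ^ p := hx'.symm
          _ = x' ^ (2 * i) * (x' ^ 3) ^ j := by rw [← pow_mul, ← pow_add, hij]
          _ = x' ^ (2 * i) * (y' ^ 2) ^ j := by rw [hxy']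
          _ = (x' ^ i * y' ^ j) ^ 2 := by ring
      · calc y = y' ^ p := hy'.symm
          _ = (y' ^ 2) ^ i * y' ^ (3 * j) := by rw [← pow_mul, ← pow_add, hij]
          _ = (x' ^ 3) ^ i * y' ^ (3 * j) := by rw [hxy']
          _ = (x' ^ i * y' ^ j) ^ 3 := by ring
      · rintro b ⟨hb2, hb3⟩
        set a := x' ^ i * y' ^ j with ha
        have ha2 : x = a ^ 2 := by
          calc x = x' ^ p := hx'.symm
            _ = x' ^ (2 * i) * (x' ^ 3) ^ j := by rw [← pow_mul, ← pow_add, hij]
            _ = x' ^ (2 * i) * (y' ^ 2) ^ j := by rw [hxy']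
            _ = a ^ 2 := by rw [ha]; ring
        have ha3 : y = a ^ 3 := by
          calc y = y' ^ p := hy'.symm
            _ = (y' ^ 2) ^ i * y' ^ (3 * j) := by rw [← pow_mul, ← pow_add, hij]
            _ = (x' ^ 3) ^ i * y' ^ (3 * j) := by rw [hxy']
            _ = a ^ 3 := by rw [ha]; ring
        have hP : b ^ 2 - a ^ 2 = 0 := by rw [← hb2, ← ha2, sub_self]
        have hQ : b ^ 3 - a ^ 3 = 0 := by rw [← hb3, ← ha3, sub_self]
        have h3 : (b - a) ^ 3 = 0 := by linear_combination 4 * hQ - 3 * (b + a) * hP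
        exact sub_eq_zero.mp (hred _ 3 h3)
    · intro q hq x y hxy
      by_cases hqp : q = p
      · subst hqp
        rw [hp0, zero_pow hp.ne_zero, zero_mul] at hxy
        have hy : y = 0 := hred y q hxy.symm
        obtain ⟨a, ha⟩ := hsurj x
        simp only at ha
        refine ⟨a, ⟨ha.symm, by rw [hy, hp0, zero_mul]⟩, ?_⟩
        rintro b ⟨hb, _⟩
        apply hinj
        change b ^ q = a ^ q
        rw [← hb, ha]
      · have hqne : (q : ZMod p) ≠ 0 := by
          intro h0
          rw [ZMod.natCast_eq_zero_iff] at h0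
          exact hqp ((Nat.prime_dvd_prime_iff_eq hp hq).mp h0).symm
        set u : A := algebraMap (ZMod p) A ((q : ZMod p)⁻¹) with hu
        have hqu : (q : A) * u = 1 := by
          rw [hu, ← map_natCast (algebraMap (ZMod p) A) q, ← map_mul, mul_inv_cancel₀ hqne, map_one]
        refine ⟨u * y, ⟨?_, ?_⟩, ?_⟩
        · calc x = ((q : A) * u) ^ q * x := by rw [hqu, one_pow, one_mul]
            _ = u ^ q * ((q : A) ^ q * x) := by ring
            _ = (u * y) ^ q := by rw [hxy]; ring
        · calc y = ((q : A) * u) * y := by rw [hqu, one_mul]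
            _ = (q : A) * (u * y) := by ring
        · rintro b ⟨_, hb⟩
          calc b = ((q : A) * u) * b := by rw [hqu, one_mul]
            _ = u * ((q : A) * b) := by ring
            _ = u * y := by rw [hb]

end Groth.Agent.S8992
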