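import Groth.Statements.S9001
import Groth.Agent.Lib27.ML.AssHens
import Groth.Agent.S0589

set_option autoImplicit false
universe u
open FlatMor

namespace Groth.Agent.S9001

open IsLocalRing TensorProduct in
/-- Over a henselian local ring R with maximal ideal m, for an R-algebra S and an S-module N which is
countably generated and Mittag-Leffler as an R-module, every associated prime q of the S-module N
⊗_R M (M any R-module) satisfies q + mS ≠ S. (Associated primes are taken here in the sense of
primes equal to the radical of the annihilator of some element, a larger set than the annihilators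
of elements used in the published statement; the published argument goes through once the chosen
element of q is replaced by a suitable power of it, so the row states this slightly stronger form.) -/
theorem result {R S : Type u} [CommRing R] [HenselianLocalRing R] [CommRing S] [Algebra R S] (N : Type u) [AddCommGroup N] [Module S N] [Module R N] [IsScalarTower R S N] (hcg : CAlg.IsCountablyGenerated R N) (hML : CAlg.IsMittagLeffler R N) (M : Type u) [AddCommGroup M] [Module R M] (q : Ideal S) [q.IsPrime] (hq : q ∈ associatedPrimes S (N ⊗[R] M)) : q ⊔ (maximalIdeal R).map (algebraMap R S) ≠ ⊤ := by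
  classical
  intro htop
  obtain ⟨hprime, z, hqz⟩ := hq
  set J := (maximalIdeal R).map (algebraMap R S) with hJdef
  have h1 : (1 : S) ∈ q ⊔ J := by rw [htop]; trivial
  obtain ⟨f, hf, h, hh, hfh⟩ := Submodule.mem_sup.1 h1
  have hfrad : f ∈ (Submodule.colon (⊥ : Submodule S (N ⊗[R] M)) {z}).radical := by
    rw [← hqz]; exact hf
  obtain ⟨n, hn⟩ := Ideal.mem_radical_iff.1 hfrad
  have hfz : f ^ n • z = 0 := by
    rwa [Submodule.mem_colon_singleton, Submodule.mem_bot] at hn
  have h1f : 1 - f ^ n ∈ J := by
    have h2 : Ideal.Quotient.mk J f = 1 := by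
      rw [← map_one (Ideal.Quotient.mk J), Ideal.Quotient.eq, ← hfh]
      simpa using neg_mem hh
    rw [← Ideal.Quotient.eq, map_one, map_pow, h2, one_pow]
  -- decomposition of `N`
  obtain ⟨ι, Q, hQint, hQfp⟩ := Groth.Agent.S0589.result R N hcg hML
  have hind := hQint.submodule_iSupIndep
  have hsup := hQint.submodule_iSup_eq_top
  obtain ⟨F, hF⟩ := Groth.Agent.Lib27.ML.AssHens.exists_finset_mem_range Q hsup z
  obtain ⟨NF, hNF⟩ : ∃ NF : Submodule R N, NF = ⨆ i ∈ F, Q i := ⟨_, rfl⟩
  rw [← hNF] at hF
  obtain ⟨z₀, hz₀⟩ := hF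
  have hcompl : IsCompl NF (⨆ i ∈ ((F : Set ι))ᶜ, Q i) := by
    have := Groth.Agent.Lib27.ML.AssHens.isCompl_biSup Q hind hsup (F : Set ι)
    simp only [Finset.mem_coe] at this
    rw [hNF]
    exact this
  haveI : Module.Finite R NF := by
    rw [Module.Finite.iff_fg, hNF]
    refine Submodule.fg_biSup F Q (fun i _ => ?_)
    haveI := hQfp i
    exact Module.Finite.iff_fg.1 inferInstance
  let π : N →ₗ[R] NF := Submodule.projectionOnto NF _ hcompl
  have hπ : ∀ y : NF, π (y : N) = y := fun y => Submodule.projectionOnto_apply_left hcompl y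
  let μ : S → (N →ₗ[R] N) := fun a => (LinearMap.lsmul S N a).restrictScalars R
  have hμ : ∀ (a : S) (w : N ⊗[R] M), a • w = (μ a).rTensor M w := by
    intro a w
    induction w using TensorProduct.induction_on with
    | zero => simp
    | tmul x y => rw [TensorProduct.smul_tmul', LinearMap.rTensor_tmul]; rfl
    | add x y hx hy => rw [smul_add, hx, hy, map_add]
  let φ' : NF →ₗ[R] NF := π ∘ₗ μ (f ^ n) ∘ₗ NF.subtype
  have hJ : ∀ a ∈ J, ∀ x : N, π (a • x) ∈ (maximalIdeal R • ⊤ : Submodule R NF) := by
    intro a ha
    refine Submodule.span_induction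
      (p := fun a _ => ∀ x : N, π (a • x) ∈ (maximalIdeal R • ⊤ : Submodule R NF))
      ?_ ?_ ?_ ?_ ha
    · rintro _ ⟨r, hr, rfl⟩ x
      rw [algebraMap_smul, map_smul]
      exact Submodule.smul_mem_smul hr trivial
    · intro x
      rw [zero_smul, map_zero]
      exact zero_mem _
    · intro a b _ _ iha ihb x
      rw [add_smul, map_add]
      exact add_mem (iha x) (ihb x)
    · intro s a _ iha x
      rw [smul_eq_mul, mul_comm, mul_smul]
      exact iha (s • x)
  have hcong : ∀ y : NF, y - φ' y ∈ (maximalIdeal R • ⊤ : Submodule R NF) := by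
    intro y
    have h2 : y - φ' y = π ((1 - f ^ n) • (y : N)) := by
      rw [sub_smul, one_smul, map_sub, hπ]
      rfl
    rw [h2]
    exact hJ _ h1f _
  have hbij := Groth.Agent.Lib27.ML.AssHens.bijective_of_sub_mem φ' hcong
  have h0 : (φ'.rTensor M) z₀ = 0 := by
    have h2 : φ'.rTensor M =
        (π.rTensor M) ∘ₗ ((μ (f ^ n)).rTensor M) ∘ₗ (NF.subtype.rTensor M) := by
      rw [← LinearMap.rTensor_comp, ← LinearMap.rTensor_comp]
    rw [h2, LinearMap.comp_apply, LinearMap.comp_apply, hz₀, ← hμ, hfz, map_zero]
  let e := LinearEquiv.ofBijective φ' hbij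
  have hinj : Function.Injective (φ'.rTensor M) := by
    apply Function.LeftInverse.injective (g := e.symm.toLinearMap.rTensor M)
    intro y
    rw [← LinearMap.comp_apply, ← LinearMap.rTensor_comp]
    have h2 : e.symm.toLinearMap ∘ₗ φ' = LinearMap.id := by
      ext x
      exact congrArg Subtype.val (e.symm_apply_apply x)
    rw [h2, LinearMap.rTensor_id, LinearMap.id_apply]
  have hz₀0 : z₀ = 0 := hinj (by rw [h0, map_zero])
  have hz0 : z = 0 := by rw [← hz₀, hz₀0, map_zero]
  apply hprime.ne_top
  rw [hqz, hz0, Ideal.radical_eq_top, eq_top_iff]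
  intro a _
  rw [Submodule.mem_colon_singleton, smul_zero]
  exact zero_mem _

end Groth.Agent.S9001
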