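import Groth.Statements.S9007
import Mathlib

set_option autoImplicit false
universe u
open FlatMor

namespace Groth.Agent.S9007


open CategoryTheory CategoryTheory.Limits AlgebraicGeometry

open CategoryTheory CategoryTheory.Limits AlgebraicGeometry in
/-- For a morphism f of compactifications of X over a quasi-compact quasi-separated S whose source
contains X as a dense open, the preimage under f of the image of X in the target is the image of X
in the source. -/
theorem result {X S : Scheme.{u}} [CompactSpace S] [QuasiSeparatedSpace S] (p : X ⟶ S) [IsSeparated p] [QuasiCompact p] [LocallyOfFiniteType p] {Y Y' : Scheme.{u}} (j : X ⟶ Y) (q : Y ⟶ S) [IsOpenImmersion j] [IsProper q] (h : j ≫ q = p) (j' : X ⟶ Y') (q' : Y' ⟶ S) [IsOpenImmersion j'] [IsProper q'] (h' : j' ≫ q' = p) (f : Y' ⟶ Y) (hf : f ≫ q = q') (hfj : j' ≫ f = j) (hd : Dense (Set.range j'.base)) : f ⁻¹ᵁ j.opensRange = j'.opensRange := by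

  have hsepf : IsSeparated f := by
    have : IsSeparated (f ≫ q) := by rw [hf]; infer_instance
    exact IsSeparated.of_comp f q
  apply le_antisymm
  · have hrange : Set.range j' ⊆ ((f ⁻¹ᵁ j.opensRange : Y'.Opens) : Set Y') := by
      rintro _ ⟨x, rfl⟩
      show f (j' x) ∈ j.opensRange
      rw [← Scheme.Hom.comp_apply, hfj]; exact ⟨x, rfl⟩
    let s : X ⟶ (f ⁻¹ᵁ j.opensRange).toScheme :=
      IsOpenImmersion.lift (f ⁻¹ᵁ j.opensRange).ι j' (by simpa using hrange)
    have hs : s ≫ (f ⁻¹ᵁ j.opensRange).ι = j' := IsOpenImmersion.lift_fac _ _ _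
    let g : (f ⁻¹ᵁ j.opensRange).toScheme ⟶ X := (f ∣_ j.opensRange) ≫ j.isoOpensRange.inv
    have hsg : s ≫ g = 𝟙 X := by
      have : s ≫ (f ∣_ j.opensRange) = j.isoOpensRange.hom := by
        rw [← cancel_mono j.opensRange.ι, Category.assoc, morphismRestrict_ι, ← Category.assoc,
          hs, hfj, j.isoOpensRange_hom_ι]
      show s ≫ (f ∣_ j.opensRange) ≫ j.isoOpensRange.inv = 𝟙 X
      rw [← Category.assoc, this, Iso.hom_inv_id]
    have hsepg : IsSeparated g := inferInstance
    have hci : IsClosedImmersion s := by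
      have : IsClosedImmersion (s ≫ g) := by rw [hsg]; infer_instance
      exact IsClosedImmersion.of_comp s g
    have hcl : IsClosed (Set.range s) := s.isClosedEmbedding.isClosed_range
    have hdense : Dense (Set.range s) := by
      have h1 : Dense ((f ⁻¹ᵁ j.opensRange).ι ⁻¹' (Set.range j')) :=
        hd.preimage (f ⁻¹ᵁ j.opensRange).ι.isOpenEmbedding.isOpenMap
      refine h1.mono ?_
      rintro y ⟨x, hx⟩
      refine ⟨x, (f ⁻¹ᵁ j.opensRange).ι.isOpenEmbedding.injective ?_⟩
      rw [← Scheme.Hom.comp_apply, hs, hx]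
    have huniv : Set.range s = Set.univ := by rw [← hcl.closure_eq]; exact hdense.closure_eq
    intro y hy
    obtain ⟨x, hx⟩ : (⟨y, hy⟩ : (f ⁻¹ᵁ j.opensRange : Y'.Opens)) ∈ Set.range s := by
      rw [huniv]; trivial
    refine ⟨x, ?_⟩
    have : j' x = (s ≫ (f ⁻¹ᵁ j.opensRange).ι) x := by rw [hs]
    rw [this, Scheme.Hom.comp_apply, hx]
    rfl
  · rintro _ ⟨x, rfl⟩
    show f (j' x) ∈ j.opensRange
    rw [← Scheme.Hom.comp_apply, hfj]; exact ⟨x, rfl⟩

end Groth.Agent.S9007
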