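import Groth.Statements.S9008
import Mathlib

set_option autoImplicit false
universe u
open FlatMor

namespace Groth.Agent.S9008

/-- For Spec B → Spec A affine of finite type: a finite B-module is universally pure along the fibre
over a prime p of A exactly when every base change of it along a ring map A → A' is pure along the
fibre over every prime of A' above p. -/
theorem result {A B : Type u} [CommRing A] [CommRing B] [Algebra A B] [Algebra.FiniteType A B] (N : Type u) [AddCommGroup N] [Module B N] [Module.Finite B N] (p : Ideal A) [p.IsPrime] : FlatCA.IsUnivPureAlong A B N p ↔ ∀ (A' B' N' : Type u) [CommRing A'] [CommRing B'] [Algebra A A'] [Algebra B B'] [Algebra A' B'] [Algebra A B'] [IsScalarTower A B B'] [IsScalarTower A A' B'] [Algebra.IsPushout A B A' B'] [AddCommGroup N'] [Module B' N'] [Module B N'] [IsScalarTower B B' N'] (g : N →ₗ[B] N'), IsBaseChange B' g → ∀ (p' : Ideal A') [p'.IsPrime], p'.LiesOver p → FlatCA.IsPureAlong A' B' N' p' := by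
  constructor
  · intro h A' B' N' _ _ _ _ _ _ _ _ _ _ _ _ _ g hg p' _ hp'
    intro A'' B'' N'' _ _ _ _ _ _ _ _ _ _ _ _ _ _ f t' t _ _ P _ hEt himp
    obtain ⟨hpo, hbc, hle, hlo, hPlo, hass, hcl⟩ := himp
    let : Algebra A A'' := ((algebraMap A' A'').comp (algebraMap A A')).toAlgebra
    let : Algebra B B'' := ((algebraMap B' B'').comp (algebraMap B B')).toAlgebra
    let : Algebra A B'' := ((algebraMap A'' B'').comp (algebraMap A A'')).toAlgebra
    have : IsScalarTower A A' A'' := .of_algebraMap_eq (fun _ => rfl)
    have : IsScalarTower B B' B'' := .of_algebraMap_eq (fun _ => rfl)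
    have : IsScalarTower A A'' B'' := .of_algebraMap_eq (fun _ => rfl)
    have : IsScalarTower A A' B'' := .of_algebraMap_eq (fun x => by
      change algebraMap A'' B'' (algebraMap A' A'' (algebraMap A A' x)) = _
      rw [← IsScalarTower.algebraMap_apply A' A'' B''])
    have : IsScalarTower A B' B'' := .of_algebraMap_eq (fun x => by
      rw [IsScalarTower.algebraMap_apply A A' B'', IsScalarTower.algebraMap_apply A' B' B'',
        ← IsScalarTower.algebraMap_apply A A' B'])
    have : IsScalarTower A B B'' := .of_algebraMap_eq (fun x => by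
      rw [IsScalarTower.algebraMap_apply A B' B'', IsScalarTower.algebraMap_apply A B B',
        ← IsScalarTower.algebraMap_apply B B' B''])
    let : Module B N'' := Module.compHom N'' (algebraMap B B')
    have : IsScalarTower B B' N'' := ⟨fun b b' n => by
      change (b • b') • n = algebraMap B B' b • (b' • n)
      rw [Algebra.smul_def, mul_smul]⟩
    have : IsScalarTower B B'' N'' := ⟨fun b b'' n => by
      change (b • b'') • n = algebraMap B B' b • (b'' • n)
      rw [Algebra.smul_def, IsScalarTower.algebraMap_apply B B' B'', ← Algebra.smul_def,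
        smul_assoc]⟩
    have hpo' : Algebra.IsPushout A B A'' B'' := by
      haveI : Algebra.IsPushout A A' B B' := Algebra.IsPushout.symm inferInstance
      have h1 : Algebra.IsPushout A' A'' B' B'' := Algebra.IsPushout.symm hpo
      exact Algebra.IsPushout.symm ((Algebra.IsPushout.comp_iff A A' B B' (T := A'') (T' := B'')).mpr h1)
    have hbc' : IsBaseChange B'' ((f.restrictScalars B).comp g) := IsBaseChange.comp hg hbc
    have := hlo
    have hlo' : t.LiesOver p := Ideal.LiesOver.trans t p' p
    exact h A'' B'' N'' ((f.restrictScalars B).comp g) t' t P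
      ⟨hpo', hbc', hle, hlo', hPlo, hass, hcl⟩
  · intro h A' B' N' _ _ _ _ _ _ _ _ _ _ _ _ _ _ f t' t _ _ P _ himp
    obtain ⟨hpo, hbc, hle, hlo, hPlo, hass, hcl⟩ := himp
    have := hpo
    have h1 := h A' B' N' f hbc t hlo
    have hself : t.LiesOver t := ⟨by simp [Ideal.under]⟩
    refine h1 A' B' N' LinearMap.id t' t P ⟨inferInstance, hself, ?_⟩
      ⟨inferInstance, ?_, hle, hself, hPlo, hass, hcl⟩
    · exact RingHom.SurjectiveOnStalks.residueFieldMap_bijective
        (RingHom.surjectiveOnStalks_of_surjective (f := (Algebra.ofId A' A').toRingHom)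
          (fun x => ⟨x, rfl⟩)) t t _
    · exact IsBaseChange.of_equiv (TensorProduct.lid B' N') (fun x => by simp)

end Groth.Agent.S9008
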