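import Groth.Statements.S9019
-- import your own Groth.Agent.* helpers here
import Groth.Agent.Lib.Helper12.FlatFunLim

set_option autoImplicit false
universe u
open FlatMor

namespace Groth.Agent.S9019

open CategoryTheory CategoryTheory.Limits AlgebraicGeometry Opposite in
/-- For f : X → S quasi-compact and a homomorphism u : F → G of quasi-coherent O_X-modules with F of
finite type, the functor F_zero (one point on T when the base change u_T on X ×_S T is zero, empty
otherwise; the subfunctor of the final functor generated by that condition) is limit preserving. -/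
theorem result {X S : Scheme.{u}} (f : X ⟶ S) [QuasiCompact f] {F G : X.Modules} [Coh.IsQCoh F] [Coh.IsQCoh G]
    (hF : CohB1.IsFT F) (u : F ⟶ G) :
    AlgSp.IsLimitPreserving (FlatFun.genPSp S (fun T => ((Scheme.Modules.pullback (pullback.fst f T.hom)).map u) = 0)) := by
  haveI : F.IsQuasicoherent := ‹_›
  haveI : G.IsQuasicoherent := ‹_›
  haveI : F.IsFiniteType := hF
  exact Groth.Agent.Lib.Helper12.H12FlatFunLim.isLimitPreserving_genPSp _
    (fun T T₀ g h => Groth.Agent.Lib.Helper12.H12FlatFunLim.zero_stable f u g h)
    (fun I _ _ D c hc hD _ h =>
      Groth.Agent.Lib.Helper12.H12FlatFunLim.zero_stage f u D c hc hD h)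

end Groth.Agent.S9019
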