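import Groth.Statements.S9035
import Groth.Agent.Lib.Helper2.CptD.Claim
import Groth.Agent.Lib.Helper2.CptD.QPres
import Groth.Agent.Lib.Helper2.CptD.Compact

set_option autoImplicit false
universe v u
open CategoryTheory CategoryTheory.Limits Opposite
open CohDer

namespace Groth.Agent.S9035
open Groth.Agent.Lib.Helper2.CptD
section Aux

open Groth.Agent.Lib.Helper2.CptD

lemma mem_iSup_range_of_isColimit {ι : Type v} {Y : ι → AddCommGrpCat.{v}} (κ : Cofan Y)
    (hκ : IsColimit κ) (x : κ.pt) : x ∈ ⨆ i, (κ.inj i).hom.range := by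
  let H : AddSubgroup κ.pt := ⨆ i, (κ.inj i).hom.range
  let π : κ.pt ⟶ AddCommGrpCat.of (κ.pt ⧸ H) := AddCommGrpCat.ofHom (QuotientAddGroup.mk' H)
  have h0 : π = 0 := by
    refine Cofan.IsColimit.hom_ext hκ _ _ (fun i => ?_)
    rw [comp_zero]
    ext y
    change (QuotientAddGroup.mk' H) ((κ.inj i).hom y) = 0
    rw [QuotientAddGroup.mk'_apply, QuotientAddGroup.eq_zero_iff]
    exact AddSubgroup.mem_iSup_of_mem i ⟨y, rfl⟩
  have h1 : (QuotientAddGroup.mk' H) x = 0 := by
    have := congrArg (fun f => f.hom x) h0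
    exact this
  exact (QuotientAddGroup.eq_zero_iff x).1 h1

lemma smallS_of_preserves {A : Type u} [Category.{v} A] [Abelian A] (S : Set A)
    (h2 : ∀ E ∈ S, ∀ ι : Type v,
      PreservesColimitsOfShape (Discrete ι) (preadditiveCoyoneda.obj (op E))) :
    SmallS.{v} S := by
  classical
  intro E hE ι F c hc g
  let G := preadditiveCoyoneda.obj (op E)
  haveI := h2 E hE ι
  have hG : IsColimit (Cofan.mk (G.obj c.pt) (fun i => G.map (c.inj i))) :=
    isColimitMapCofanOfPreserves G c hc
  have hx := mem_iSup_range_of_isColimit _ hG (show G.obj c.pt from g)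
  refine AddSubgroup.iSup_induction
    (C := fun x : G.obj c.pt => ∃ t : Finset ι,
      (show E ⟶ c.pt from x) ≫ proj c hc t = (show E ⟶ c.pt from x)) _ hx ?_ ?_ ?_
  · rintro i x ⟨y, rfl⟩
    refine ⟨{i}, ?_⟩
    change ((show E ⟶ F i from y) ≫ c.inj i) ≫ proj c hc {i} = (show E ⟶ F i from y) ≫ c.inj i
    rw [Category.assoc, inj_proj_of_mem c hc (by simp)]
  · exact ⟨∅, zero_comp⟩
  · rintro x y ⟨t, ht⟩ ⟨t', ht'⟩
    refine ⟨t ∪ t', ?_⟩
    change ((show E ⟶ c.pt from x) + (show E ⟶ c.pt from y)) ≫ proj c hc (t ∪ t') =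
      (show E ⟶ c.pt from x) + (show E ⟶ c.pt from y)
    rw [Preadditive.add_comp, fix_mono c hc Finset.subset_union_left _ ht,
      fix_mono c hc Finset.subset_union_right _ ht']

end Aux

/-- Let A be a Grothendieck abelian category and S a set of objects such that (1) every object of A is a
quotient of a direct sum of members of S and (2) for every E in S the functor Hom(E, -)
(abelian-group valued) preserves direct sums. Then every compact object K of the derived category
D(A) is a retract in D(A) of the image of a bounded cochain complex whose terms are finite direct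
sums of members of S. The derived category, the existence of direct sums in it, and the (automatic)
finite biproduct and direct sum structure of A are taken as instance hypotheses. -/
theorem result
    {A : Type u} [Category.{v} A] [Abelian A] [IsGrothendieckAbelian.{v} A] [HasCoproducts.{v} A] [HasFiniteBiproducts A]
    [HasDerivedCategory.{v} A] [HasCoproducts.{v} (DerivedCategory A)]
    (S : Set A)
    (h1 : ∀ X : A, ∃ (ι : Type v) (E : ι → A) (π : ∐ E ⟶ X), (∀ i, E i ∈ S) ∧ Epi π)
    (h2 : ∀ E ∈ S, ∀ ι : Type v, PreservesColimitsOfShape (Discrete ι) (preadditiveCoyoneda.obj (op E)))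
    (K : DerivedCategory A) (hK : CohDer.IsCompactObject K) :
    ∃ (L : CochainComplex A ℤ) (a b : ℤ),
      (∀ i : ℤ, i < a ∨ b < i → IsZero (L.X i)) ∧
      (∀ i : ℤ, ∃ (n : ℕ) (E : Fin n → A), (∀ j, E j ∈ S) ∧ Nonempty (L.X i ≅ ⨁ E)) ∧
      Nonempty (Retract K (DerivedCategory.Q.obj L)) := by
  classical
  have hQ : QPreservesCofans.{v} (A := A) := qPreservesCofans
  have h1' : ∀ X : A, PCoh.IsOfFiniteType (BS.{v} S) X := by
    intro X
    obtain ⟨ι, E, π, hE, hπ⟩ := h1 X
    exact ⟨∐ E, π, ⟨ι, E, Sigma.ι E, ⟨coproductIsCoproduct E⟩, hE⟩, hπ⟩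
  have h2' : SmallS.{v} S := smallS_of_preserves S h2
  have hK' : CptU.{v} K := by
    intro ι Y c hc f
    let e := IsColimit.coconePointUniqueUpToIso hc (coproductIsCoproduct Y)
    obtain ⟨x, hx⟩ := (hK ι Y).2 (f ≫ e.hom)
    obtain ⟨t, ht⟩ := exists_fix_homSumToHomCoprod K Y x
    refine ⟨t, fix_transport c _ hc (coproductIsCoproduct Y) f t ?_⟩
    rw [hx] at ht
    exact ht
  exact exists_bounded_FS_retract hQ h1' h2' hK'

end Groth.Agent.S9035
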