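import Groth.Statements.S9047
import Groth.Agent.Lib.Helper5.CptBdd6

set_option autoImplicit false
universe u
open CategoryTheory CategoryTheory.Limits Opposite
open ModSite

namespace Groth.Agent.S9047

/-- Let (C, O) be a ringed site with fibre products, B a class of objects and Cov a class of finite
covering families such that (1) for a family in Cov over U, U and all iterated fibre products of its
members lie in B, and (2) every covering sieve of a member of B contains a family from Cov. Then for
U in B the module j_{U!} O_U behaves as a compact object of D^+(O), meaning: for every family (M_i)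
of objects of D(O) which is uniformly bounded below and whose direct sum exists, ⊕_i Hom(j_{U!} O_U,
M_i) → Hom(j_{U!} O_U, ⊕_i M_i) is bijective. The derived category of O-modules is an instance
hypothesis. -/
theorem result
    {C : Type u} [SmallCategory C] [HasPullbacks C] {J : GrothendieckTopology C} (O : Sheaf J CommRingCat.{u})
    (B : Set C) (Cov : ∀ (U : C) (ι : Type u), (ι → Over U) → Prop)
    (h1 : ∀ (U : C) (ι : Type u) (Y : ι → Over U), Cov U ι Y → Finite ι ∧ U ∈ B ∧
      Sieve.ofArrows (fun i => (Y i).left) (fun i => (Y i).hom) ∈ J U ∧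
      ∀ (p : ℕ) (a : Fin (p + 1) → ι), (∏ᶜ fun k => Y (a k)).left ∈ B)
    (h2 : ∀ U ∈ B, ∀ T ∈ J U, ∃ (ι : Type u) (Y : ι → Over U), Cov U ι Y ∧ ∀ i, T.arrows (Y i).hom)
    [HasDerivedCategory.{u} (ModSite.Mod O)]
    (U : C) (hU : U ∈ B) {I : Type u} (M : I → DerivedCategory (ModSite.Mod O)) [HasCoproduct M]
    (a : ℤ) (hM : ∀ i, (M i).IsGE a) :
    Function.Bijective (CohDer.homSumToHomCoprod
      ((DerivedCategory.singleFunctor (ModSite.Mod O) 0).obj (ModSite.freeOn O U)) M) := by
  classical
  haveI : IsGrothendieckAbelian.{u} (ModSite.Mod O) :=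
    Groth.Agent.S0484.result J (ModSite.ringSh O)
  have hfc : Groth.Agent.Lib.Helper2.QcSite.FinCover J U :=
    Groth.Agent.Lib.Helper5.CptBdd.finCover_of_collection h1 h2 U hU
  exact Groth.Agent.Lib.Helper5.CptBdd.bijective_homSumToHomCoprod
    ((DerivedCategory.singleFunctor (ModSite.Mod O) 0).obj (ModSite.freeOn O U))
    (fun b hb {I} Y c hc f => Groth.Agent.Lib.Helper5.CptBdd.single_case_of_extFix
      (ModSite.freeOn O U)
      (Groth.Agent.Lib.Helper5.CptBdd.extFix_all (ModSite.freeOn O U)
        (fun Y c hc g =>
          Groth.Agent.Lib.Helper5.CptBdd.exists_fix_freeOn_of_finCover O hfc Y c hc g)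
        (fun Y hY p x =>
          Groth.Agent.Lib.Helper5.CptBdd.ext_freeOn_sigma_injective_eq_zero h1 h2 O U hU Y hY p x))
      b hb Y c hc f)
    Groth.Agent.Lib.Helper2.CptD.qPreservesCofans M a hM

end Groth.Agent.S9047
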