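import Groth.Statements.S9089
import Mathlib

set_option autoImplicit false
universe u
open CategoryTheory Opposite
open ModSite

namespace Groth.Agent.S9089

section
variable {C : Type u} [SmallCategory C] {J : GrothendieckTopology C} (O : Sheaf J CommRingCat.{u})

lemma res_comp {U V W : C} (g : V ⟶ U) (k : W ⟶ V) (x : O.obj.obj (op U)) :
    (O.obj.map (k ≫ g).op).hom x = (O.obj.map k.op).hom ((O.obj.map g.op).hom x) := by
  rw [op_comp, O.obj.map_comp]
  rfl

def unitSieve {U : C} {n : ℕ} (f : Fin n → O.obj.obj (op U)) : Sieve U where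
  arrows V g := ∃ i, IsUnit ((O.obj.map g.op).hom (f i))
  downward_closed := by
    rintro V W g ⟨i, hi⟩ k
    refine ⟨i, ?_⟩
    rw [res_comp]
    exact hi.map _

theorem key (h1 : ∀ (U : C) (f : O.obj.obj (op U)), ∃ S ∈ J U, ∀ ⦃V : C⦄ (g : V ⟶ U), S g →
        IsUnit ((O.obj.map g.op).hom f) ∨ IsUnit ((O.obj.map g.op).hom (1 - f))) :
    ∀ (n : ℕ) (U : C) (f : Fin (n + 1) → O.obj.obj (op U)), Ideal.span (Set.range f) = ⊤ →
      unitSieve O f ∈ J U := by
  intro n
  induction n with
  | zero =>
    intro U f hf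
    have hu : IsUnit (f 0) := by
      have : Set.range f = {f 0} := by
        ext x; constructor
        · rintro ⟨i, rfl⟩; rw [Fin.fin_one_eq_zero i]; rfl
        · rintro rfl; exact ⟨0, rfl⟩
      rw [this, Ideal.span_singleton_eq_top] at hf
      exact hf
    apply J.covering_of_eq_top
    ext V g
    simp only [Sieve.top_apply, iff_true]
    exact ⟨0, hu.map _⟩
  | succ n ih =>
    intro U f hf
    have h1' : (1 : O.obj.obj (op U)) ∈ Ideal.span (Set.range f) := by rw [hf]; trivial
    obtain ⟨c, hc⟩ := (Ideal.mem_span_range_iff_exists_fun).1 h1'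
    rw [Fin.sum_univ_succ] at hc
    obtain ⟨S₁, hS₁, h⟩ := h1 U (c 0 * f 0)
    apply J.transitive hS₁
    intro V g hg
    rcases h g hg with hu | hu
    · apply J.covering_of_eq_top
      ext W k
      simp only [Sieve.top_apply, iff_true]
      refine ⟨0, ?_⟩
      rw [res_comp]
      refine IsUnit.map _ ?_
      rw [map_mul] at hu
      exact isUnit_of_mul_isUnit_right hu
    · have e : (1 : O.obj.obj (op U)) - c 0 * f 0 = ∑ i : Fin (n + 1), c i.succ * f i.succ := by
        rw [← hc]; ring
      rw [e, map_sum] at hu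
      let f' : Fin (n + 1) → O.obj.obj (op V) := fun i => (O.obj.map g.op).hom (f i.succ)
      have hf' : Ideal.span (Set.range f') = ⊤ := by
        apply Ideal.eq_top_of_isUnit_mem _ _ hu
        apply Ideal.sum_mem
        intro i _
        rw [map_mul]
        exact Ideal.mul_mem_left _ _ (Ideal.subset_span ⟨i, rfl⟩)
      refine J.superset_covering ?_ (ih V f' hf')
      rintro W k ⟨i, hi⟩
      refine ⟨i.succ, ?_⟩
      rw [res_comp]
      exact hi
end



/-- Part (1): ⇔ (2), for a ringed site (C, O) with C small and O a sheaf of commutative rings: the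
following are equivalent. (1) For every object U and every section f of O over U there is a covering
sieve on U on each of whose arrows either f or 1 - f restricts to a unit. (2) For every object U,
every n ≥ 1 and all sections f₁, …, fₙ of O over U generating the unit ideal of O(U), there is a
covering sieve on U on each of whose arrows some fᵢ restricts to a unit. -/
theorem result {C : Type u} [SmallCategory C] (J : GrothendieckTopology C)
    (O : Sheaf J CommRingCat.{u}) :
    (∀ (U : C) (f : O.obj.obj (op U)), ∃ S ∈ J U, ∀ ⦃V : C⦄ (g : V ⟶ U), S g →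
        IsUnit ((O.obj.map g.op).hom f) ∨ IsUnit ((O.obj.map g.op).hom (1 - f))) ↔
    (∀ (U : C) (n : ℕ) (f : Fin n → O.obj.obj (op U)), 1 ≤ n → Ideal.span (Set.range f) = ⊤ →
        ∃ S ∈ J U, ∀ ⦃V : C⦄ (g : V ⟶ U), S g → ∃ i, IsUnit ((O.obj.map g.op).hom (f i))) := by
  constructor
  · intro h1 U n f hn hf
    obtain ⟨m, rfl⟩ : ∃ m, n = m + 1 := ⟨n - 1, by omega⟩
    exact ⟨unitSieve O f, key O h1 m U f hf, fun V g hg => hg⟩
  · intro h2 U f
    obtain ⟨S, hS, h⟩ := h2 U 2 ![f, 1 - f] (by norm_num) (by
      rw [Ideal.eq_top_iff_one]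
      have h0 : f ∈ Ideal.span (Set.range ![f, 1 - f]) := Ideal.subset_span ⟨0, rfl⟩
      have h1 : 1 - f ∈ Ideal.span (Set.range ![f, 1 - f]) := Ideal.subset_span ⟨1, rfl⟩
      have h2 := Ideal.add_mem _ h0 h1
      have e : f + (1 - f) = (1 : O.obj.obj (op U)) := by ring
      rw [e] at h2
      exact h2)
    refine ⟨S, hS, fun V g hg => ?_⟩
    obtain ⟨i, hi⟩ := h g hg
    fin_cases i
    · left; exact hi
    · right; exact hi

end Groth.Agent.S9089
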