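import Groth.Statements.S9091
import Mathlib

set_option autoImplicit false
universe u
open CategoryTheory Opposite
open ModSite

namespace Groth.Agent.S9091


/-- If the germ of `a` at `(U, x)` is a unit then `a` becomes a unit on a neighbourhood. -/
theorem exists_isUnit_of_germ {C : Type u} [SmallCategory C] {J : GrothendieckTopology C}
    (O : Sheaf J CommRingCat.{u}) (p : GrothendieckTopology.Point.{u} J)
    (U : C) (x : p.fiber.obj U) (a : O.obj.obj (op U))
    (ha : IsUnit ((p.toPresheafFiber U x O.obj).hom a)) :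
    ∃ (Y : C) (g : Y ⟶ U) (y : p.fiber.obj Y), p.fiber.map g y = x ∧
      IsUnit ((O.obj.map g.op).hom a) := by
  obtain ⟨b, hb⟩ := ha.exists_right_inv
  obtain ⟨X', x', b0, rfl⟩ := p.toPresheafFiber_jointly_surjective (P := O.obj) b
  let W := IsCofiltered.min (Functor.elementsMk p.fiber U x) (Functor.elementsMk p.fiber X' x')
  let gU := IsCofiltered.minToLeft (Functor.elementsMk p.fiber U x) (Functor.elementsMk p.fiber X' x')
  let gX := IsCofiltered.minToRight (Functor.elementsMk p.fiber U x) (Functor.elementsMk p.fiber X' x')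
  have hU : (p.toPresheafFiber U x O.obj).hom a =
      (p.toPresheafFiber W.1 W.2 O.obj).hom ((O.obj.map gU.1.op).hom a) :=
    ((congrArg (fun t => (p.toPresheafFiber U t O.obj).hom a) gU.2).symm).trans
      (p.toPresheafFiber_w_apply gU.1 W.2 O.obj a).symm
  have hX : (p.toPresheafFiber X' x' O.obj).hom b0 =
      (p.toPresheafFiber W.1 W.2 O.obj).hom ((O.obj.map gX.1.op).hom b0) :=
    ((congrArg (fun t => (p.toPresheafFiber X' t O.obj).hom b0) gX.2).symm).trans
      (p.toPresheafFiber_w_apply gX.1 W.2 O.obj b0).symm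
  rw [hU, hX, ← map_mul] at hb
  have h1 : (p.toPresheafFiber W.1 W.2 O.obj).hom
      ((O.obj.map gU.1.op).hom a * (O.obj.map gX.1.op).hom b0) =
      (p.toPresheafFiber W.1 W.2 O.obj).hom 1 := by rw [hb, map_one]
  obtain ⟨Y, k, y, hy, hk⟩ := (p.toPresheafFiber_eq_iff' (P := O.obj) W.1 W.2 _ _).mp h1
  refine ⟨Y, k ≫ gU.1, y, ?_, ?_⟩
  · rw [CategoryTheory.Functor.map_comp_apply, hy]; exact gU.2
  · have hk' : (O.obj.map k.op).hom ((O.obj.map gU.1.op).hom a) *
        (O.obj.map k.op).hom ((O.obj.map gX.1.op).hom b0) = 1 := by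
      have := hk
      rw [← map_mul]
      refine this.trans ?_
      exact map_one _
    have e : (O.obj.map (k ≫ gU.1).op).hom a =
        (O.obj.map k.op).hom ((O.obj.map gU.1.op).hom a) := by
      rw [op_comp, Functor.map_comp]; rfl
    rw [e]
    exact IsUnit.of_mul_eq_one _ hk'

/-- Part (2): ⇒ (1) when the site has enough points, for a ringed site (C, O) with C small and O a sheaf
of commutative rings: if at every point p of the site the stalk O_p is the zero ring or is local,
then for every object U and every section f of O over U there is a covering sieve on U on each of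
whose arrows either f or 1 - f restricts to a unit. -/
theorem result {C : Type u} [SmallCategory C] {J : GrothendieckTopology C}
    (O : Sheaf J CommRingCat.{u}) [GrothendieckTopology.HasEnoughPoints.{u} J]
    (h : ∀ p : GrothendieckTopology.Point.{u} J, Subsingleton (ModSite.stalkRing p O) ∨ IsLocalRing (ModSite.stalkRing p O))
    (U : C) (f : O.obj.obj (op U)) :
    ∃ S ∈ J U, ∀ ⦃V : C⦄ (g : V ⟶ U), S g →
        IsUnit ((O.obj.map g.op).hom f) ∨ IsUnit ((O.obj.map g.op).hom (1 - f)) := by
  obtain ⟨P, hPs, hP⟩ := GrothendieckTopology.HasEnoughPoints.exists_objectProperty.{u} J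
  let S : Sieve U :=
    { arrows := fun V g => IsUnit ((O.obj.map g.op).hom f) ∨ IsUnit ((O.obj.map g.op).hom (1 - f))
      downward_closed := by
        intro Y Z g hg k
        have e : ∀ w, (O.obj.map (k ≫ g).op).hom w =
            (O.obj.map k.op).hom ((O.obj.map g.op).hom w) := by
          intro w
          rw [op_comp, Functor.map_comp]; rfl
        rcases hg with hg | hg
        · left; rw [e]; exact hg.map _
        · right; rw [e]; exact hg.map _ }
  refine ⟨S, ?_, fun V g hg => hg⟩
  let ι : Type u := Σ V : C, {g : V ⟶ U // S g}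
  refine J.superset_covering (S := Sieve.ofArrows (fun i : ι => i.1) (fun i => i.2.1)) ?_ ?_
  · rw [Sieve.generate_le_iff, Presieve.ofArrows_le_iff]
    exact fun i => i.2.2
  · rw [hP.jointly_reflect_ofArrows_mem_of_small]
    intro Φ x
    have key : IsUnit ((Φ.obj.toPresheafFiber U x O.obj).hom f) ∨
        IsUnit ((Φ.obj.toPresheafFiber U x O.obj).hom (1 - f)) := by
      rcases h Φ.obj with hs | hl
      · left
        exact @isUnit_of_subsingleton (ModSite.stalkRing Φ.obj O) _ hs _
      · rw [map_sub, map_one]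
        exact @IsLocalRing.isUnit_or_isUnit_one_sub_self (ModSite.stalkRing Φ.obj O) _ hl _
    rcases key with hu | hu
    · obtain ⟨Y, g, y, hy, hg⟩ := exists_isUnit_of_germ O Φ.obj U x f hu
      exact ⟨⟨Y, g, Or.inl hg⟩, y, hy⟩
    · obtain ⟨Y, g, y, hy, hg⟩ := exists_isUnit_of_germ O Φ.obj U x (1 - f) hu
      exact ⟨⟨Y, g, Or.inr hg⟩, y, hy⟩

end Groth.Agent.S9091
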