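import Groth.Statements.S9097
import Mathlib

set_option autoImplicit false
universe u
open CategoryTheory Opposite
open CohSite

namespace Groth.Agent.S9097


open Limits in
theorem surj_aux {C : Type u} [SmallCategory C] (J : GrothendieckTopology C)
    {B Cc : AddCommGrpCat.{u}} (g : B ⟶ Cc) (hg : Function.Surjective g) (U : C) :
    Function.Surjective
      (((constantSheaf J AddCommGrpCat.{u}).map g).hom.app (op U)) := by
  let e := constantCommuteCompose J (forget AddCommGrpCat.{u})
  have hnat := e.hom.naturality g
  -- a set-theoretic section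
  let σ : (forget AddCommGrpCat.{u}).obj Cc ⟶ (forget AddCommGrpCat.{u}).obj B :=
    TypeCat.ofHom (Function.surjInv hg)
  have hσ : σ ≫ (forget AddCommGrpCat.{u}).map g = 𝟙 _ := by
    ext x
    exact Function.surjInv_eq hg x
  -- the section on the sheaf level
  let τ : (constantSheaf J AddCommGrpCat.{u} ⋙ sheafCompose J (forget AddCommGrpCat.{u})).obj Cc ⟶
      (constantSheaf J AddCommGrpCat.{u} ⋙ sheafCompose J (forget AddCommGrpCat.{u})).obj B :=
    e.hom.app Cc ≫ (constantSheaf J (Type u)).map σ ≫ e.inv.app B
  have hτ : τ ≫ (constantSheaf J AddCommGrpCat.{u} ⋙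
      sheafCompose J (forget AddCommGrpCat.{u})).map g = 𝟙 _ := by
    have h1 : e.inv.app B ≫ (constantSheaf J AddCommGrpCat.{u} ⋙
      sheafCompose J (forget AddCommGrpCat.{u})).map g =
        (forget AddCommGrpCat.{u} ⋙ constantSheaf J (Type u)).map g ≫ e.inv.app Cc :=
      (e.inv.naturality g).symm
    simp only [τ, Category.assoc]
    rw [h1]
    rw [Functor.comp_map, ← Functor.map_comp_assoc, hσ, CategoryTheory.Functor.map_id,
      Category.id_comp, Iso.hom_inv_id_app]
  intro y
  have h2 := congrArg (fun φ => (φ.hom.app (op U)) y) hτ
  exact ⟨(τ.hom.app (op U)) y, h2⟩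

/-- If 0 → A → B → C → 0 is short exact in the category of abelian groups then, for every object U, the
sequence 0 → A̲(U) → B̲(U) → C̲(U) → 0 of sections of the constant abelian sheaves is short exact;
in other words the sequence of constant sheaves is exact even as a sequence of abelian presheaves.
The instance binder on the sections-of-constant-sheaf functor (it preserves zero morphisms) always
holds and is only needed to form the complex. -/
theorem result {C : Type u} [SmallCategory C] (J : GrothendieckTopology C)
    (S : ShortComplex AddCommGrpCat.{u}) (hS : S.ShortExact) (U : C)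
    [(constantSheaf J AddCommGrpCat.{u} ⋙ (sheafSections J AddCommGrpCat.{u}).obj (op U)).PreservesZeroMorphisms] :
    (S.map (constantSheaf J AddCommGrpCat.{u} ⋙ (sheafSections J AddCommGrpCat.{u}).obj (op U))).ShortExact := by
  have hc : Limits.PreservesFiniteLimits (constantSheaf J AddCommGrpCat.{u}) := by
    unfold constantSheaf
    infer_instance
  have hs : Limits.PreservesFiniteLimits ((sheafSections J AddCommGrpCat.{u}).obj (op U)) := by
    have : (sheafSections J AddCommGrpCat.{u}).obj (op U) =
        sheafToPresheaf J AddCommGrpCat.{u} ⋙ (evaluation _ _).obj (op U) := rfl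
    rw [this]
    infer_instance
  have hlim : Limits.PreservesFiniteLimits
      (constantSheaf J AddCommGrpCat.{u} ⋙ (sheafSections J AddCommGrpCat.{u}).obj (op U)) :=
    Limits.comp_preservesFiniteLimits _ _
  have hadd : (constantSheaf J AddCommGrpCat.{u} ⋙
      (sheafSections J AddCommGrpCat.{u}).obj (op U)).Additive :=
    Functor.additive_of_preserves_binary_products _
  have h1 := (Functor.preservesFiniteLimits_iff_forall_exact_map_and_mono _).1 hlim S hS
  have : Mono (S.map (constantSheaf J AddCommGrpCat.{u} ⋙
      (sheafSections J AddCommGrpCat.{u}).obj (op U))).f := h1.2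
  have : Epi (S.map (constantSheaf J AddCommGrpCat.{u} ⋙
      (sheafSections J AddCommGrpCat.{u}).obj (op U))).g := by
    have hg : Function.Surjective S.g := (AddCommGrpCat.epi_iff_surjective _).1 hS.epi_g
    exact (AddCommGrpCat.epi_iff_surjective _).2 (surj_aux J S.g hg U)
  exact ⟨h1.1⟩

end Groth.Agent.S9097
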