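import Groth.Statements.S9106
import Mathlib
import Groth.Agent.Lib.Helper20.ComponentwiseFiltered

set_option autoImplicit false
universe u
open CategoryTheory CategoryTheory.Limits
open CohSite

namespace Groth.Agent.S9106


open Groth.Agent.Lib.Helper20.ComponentwiseFiltered Opposite

section
variable {C D : Type u} [SmallCategory C] [SmallCategory D] (G : C ⥤ D)
    [HasPullbacks C] [HasEqualizers C]
    [PreservesLimitsOfShape WalkingCospan G] [PreservesLimitsOfShape WalkingParallelPair G]

instance (V : D) : HasPushouts (CostructuredArrow G.op (op V)) := by
  have : HasPullbacks (StructuredArrow V G) := inferInstance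
  have : HasPushouts (StructuredArrow V G)ᵒᵖ := inferInstance
  exact Adjunction.hasColimitsOfShape_of_equivalence (structuredArrowOpEquivalence G V).inverse

instance (V : D) : HasCoequalizers (CostructuredArrow G.op (op V)) := by
  have : HasEqualizers (StructuredArrow V G) := inferInstance
  have : HasCoequalizers (StructuredArrow V G)ᵒᵖ := inferInstance
  exact Adjunction.hasColimitsOfShape_of_equivalence (structuredArrowOpEquivalence G V).inverse

/-- Left Kan extension of abelian presheaves along `G.op` preserves monos. -/
theorem lan_preservesMonomorphisms :
    (G.op.lan : (Cᵒᵖ ⥤ AddCommGrpCat.{u}) ⥤ (Dᵒᵖ ⥤ AddCommGrpCat.{u})).PreservesMonomorphisms := by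
  constructor
  intro F F' α hα
  rw [NatTrans.mono_iff_mono_app]
  intro X
  obtain ⟨V⟩ := X
  let iso := lanEvaluationIsoColim AddCommGrpCat.{u} G.op (op V)
  have hnat := iso.hom.naturality α
  have hmono : Mono (((Functor.whiskeringLeft _ _ AddCommGrpCat.{u}).obj
      (CostructuredArrow.proj G.op (op V)) ⋙ colim).map α) := by
    have : ∀ j, Mono ((Functor.whiskerLeft
        (CostructuredArrow.proj G.op (op V)) α).app j) := by
      intro j
      have := (NatTrans.mono_iff_mono_app α).1 hα
      dsimp
      infer_instance
    exact mono_colimMap _
  have h2 : (G.op.lan.map α).app (op V) =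
      (iso.hom.app F) ≫ ((Functor.whiskeringLeft _ _ AddCommGrpCat.{u}).obj
      (CostructuredArrow.proj G.op (op V)) ⋙ colim).map α ≫ (iso.inv.app F') := by
    rw [← Category.assoc, ← hnat, Category.assoc]
    simp
  rw [h2]
  infer_instance

end

section
variable {C D : Type u} [SmallCategory C] [SmallCategory D]
    (J : GrothendieckTopology C) (K : GrothendieckTopology D) (G : C ⥤ D)
    [G.IsContinuous J K] [HasPullbacks C] [HasEqualizers C]
    [PreservesLimitsOfShape WalkingCospan G] [PreservesLimitsOfShape WalkingParallelPair G]

theorem constructed_preservesFiniteLimits :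
    PreservesFiniteLimits
      (Functor.sheafPullbackConstruction.sheafPullback G AddCommGrpCat.{u} J K) := by
  let L := Functor.sheafPullbackConstruction.sheafPullback G AddCommGrpCat.{u} J K
  let adj : L ⊣ G.sheafPushforwardContinuous AddCommGrpCat.{u} J K :=
    Functor.sheafPullbackConstruction.sheafAdjunctionContinuous G AddCommGrpCat.{u} J K
  have hR : (G.sheafPushforwardContinuous AddCommGrpCat.{u} J K).Additive := { }
  have hL : L.Additive := adj.left_adjoint_additive
  have hmono : L.PreservesMonomorphisms := by
    have h1 : (sheafToPresheaf J AddCommGrpCat.{u}).PreservesMonomorphisms := inferInstance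
    have h2 : (presheafToSheaf K AddCommGrpCat.{u}).PreservesMonomorphisms := inferInstance
    have h3 := lan_preservesMonomorphisms G
    change (sheafToPresheaf J AddCommGrpCat.{u} ⋙ G.op.lan ⋙
      presheafToSheaf K AddCommGrpCat.{u}).PreservesMonomorphisms
    infer_instance
  have hcolim : PreservesFiniteColimits L := by
    have := adj.leftAdjoint_preservesColimits
    infer_instance
  have : L.PreservesHomology := Functor.preservesHomology_of_preservesMonos_and_cokernels _
  exact Functor.preservesFiniteLimits_of_preservesHomology _

end

/-- Let u : C ⥤ D be a functor between small sites which is cocontinuous and continuous, and assume that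
C has fibre products and equalizers and that u commutes with them. Let g be the morphism of topoi
attached to u. Then g_! on abelian sheaves, i.e. the left adjoint of restriction along u (left Kan
extension along u followed by sheafification), is exact: being a left adjoint it is right exact, and
it moreover preserves finite limits. -/
theorem result {C D : Type u} [SmallCategory C] [SmallCategory D]
    (J : GrothendieckTopology C) (K : GrothendieckTopology D) (u : C ⥤ D)
    [u.IsCocontinuous J K] [u.IsContinuous J K] [HasPullbacks C] [HasEqualizers C]
    [PreservesLimitsOfShape WalkingCospan u] [PreservesLimitsOfShape WalkingParallelPair u] :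
    PreservesFiniteLimits (u.sheafPullback AddCommGrpCat.{u} J K) := by
  have := constructed_preservesFiniteLimits J K u
  exact preservesFiniteLimits_of_natIso
    (Functor.sheafPullbackConstruction.sheafPullbackIso u AddCommGrpCat.{u} J K).symm

end Groth.Agent.S9106
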