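import Groth.Statements.S9108
import Mathlib

set_option autoImplicit false
universe u
open CategoryTheory
open CohSite

namespace Groth.Agent.S9108


section
open CategoryTheory Functor Limits

variable {C D : Type u} [SmallCategory C] [SmallCategory D]
    (J : GrothendieckTopology C) (K : GrothendieckTopology D) (G : C ⥤ D)
    [G.IsCocontinuous J K] [G.IsContinuous J K]


theorem whisker_toSheafify_iso (P : Dᵒᵖ ⥤ AddCommGrpCat.{u})
    (hP : Presheaf.IsSheaf J (G.op ⋙ P)) :
    IsIso (whiskerLeft G.op (toSheafify K P)) := by
  rw [← G.toSheafify_pullbackSheafificationCompatibility AddCommGrpCat.{u} J K P]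
  have h1 : IsIso (toSheafify J (G.op ⋙ P)) := isIso_toSheafify J hP
  have h2 : IsIso ((G.pushforwardContinuousSheafificationCompatibility AddCommGrpCat.{u} J K).hom.app P).hom := by
    have h3 : IsIso ((sheafToPresheaf J AddCommGrpCat.{u}).map
      ((G.pushforwardContinuousSheafificationCompatibility AddCommGrpCat.{u} J K).hom.app P)) := inferInstance
    exact h3
  exact IsIso.comp_isIso' h1 h2

variable [G.Full] [G.Faithful]

theorem unit_iso' (F : Sheaf J AddCommGrpCat.{u}) :
    IsIso ((Functor.sheafPullbackConstruction.sheafAdjunctionContinuous G AddCommGrpCat.{u} J K).unit.app F) := by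
  have h := ((G.op.lanAdjunction AddCommGrpCat.{u}).comp
    (sheafificationAdjunction K AddCommGrpCat.{u})).map_restrictFullyFaithful_unit_app
    (fullyFaithfulSheafToPresheaf J AddCommGrpCat.{u}) (Functor.FullyFaithful.id _)
    (L := sheafToPresheaf J AddCommGrpCat.{u} ⋙ G.op.lan ⋙ presheafToSheaf K AddCommGrpCat.{u})
    (R := G.sheafPushforwardContinuous AddCommGrpCat.{u} J K) (Iso.refl _) (Iso.refl _) F
  have key : IsIso (((G.op.lanAdjunction AddCommGrpCat.{u}).comp
      (sheafificationAdjunction K AddCommGrpCat.{u})).unit.app F.obj) := by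
    rw [Adjunction.comp_unit_app]
    have a1 : IsIso ((G.op.lanAdjunction AddCommGrpCat.{u}).unit.app F.obj) := inferInstance
    have hP : Presheaf.IsSheaf J (G.op ⋙ G.op.lan.obj F.obj) :=
      (Presheaf.isSheaf_of_iso_iff (asIso ((G.op.lanAdjunction AddCommGrpCat.{u}).unit.app F.obj))).mp F.property
    have a2 : IsIso (((whiskeringLeft _ _ AddCommGrpCat.{u}).obj G.op).map
        ((sheafificationAdjunction K AddCommGrpCat.{u}).unit.app (G.op.lan.obj F.obj))) :=
      whisker_toSheafify_iso J K G (G.op.lan.obj F.obj) hP
    exact IsIso.comp_isIso' a1 a2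
  have : IsIso ((sheafToPresheaf J AddCommGrpCat.{u}).map
      ((Functor.sheafPullbackConstruction.sheafAdjunctionContinuous G AddCommGrpCat.{u} J K).unit.app F)) := by
    have h' : (sheafToPresheaf J AddCommGrpCat.{u}).map
      ((Functor.sheafPullbackConstruction.sheafAdjunctionContinuous G AddCommGrpCat.{u} J K).unit.app F) = _ := h
    rw [h']
    have b1 := key
    refine IsIso.comp_isIso' key (IsIso.comp_isIso' ?_ ?_)
    · infer_instance
    · rw [Iso.refl_hom, NatTrans.id_app]
      exact IsIso.id _
  exact isIso_of_reflects_iso _ (sheafToPresheaf J AddCommGrpCat.{u})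

theorem counit_iso (F : Sheaf J AddCommGrpCat.{u}) :
    IsIso ((G.sheafAdjunctionCocontinuous AddCommGrpCat.{u} J K).counit.app F) := by
  have h := G.sheafAdjunctionCocontinuous_counit_app_hom AddCommGrpCat.{u} J K F
  have : IsIso ((sheafToPresheaf J AddCommGrpCat.{u}).map
      ((G.sheafAdjunctionCocontinuous AddCommGrpCat.{u} J K).counit.app F)) := by
    change IsIso ((G.sheafAdjunctionCocontinuous AddCommGrpCat.{u} J K).counit.app F).hom
    rw [h]
    have h2 : IsIso ((G.op.ranAdjunction AddCommGrpCat.{u}).counit.app F.obj) := inferInstance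
    exact h2
  exact isIso_of_reflects_iso _ (sheafToPresheaf J AddCommGrpCat.{u})

theorem unit_iso (F : Sheaf J AddCommGrpCat.{u}) :
    IsIso ((G.sheafAdjunctionContinuous AddCommGrpCat.{u} J K).unit.app F) := by
  have h := (G.sheafAdjunctionContinuous AddCommGrpCat.{u} J K).unit_leftAdjointUniq_hom_app
    (Functor.sheafPullbackConstruction.sheafAdjunctionContinuous G AddCommGrpCat.{u} J K) F
  have h1 := unit_iso' J K G F
  rw [← h] at h1
  exact IsIso.of_isIso_comp_right _ ((G.sheafPushforwardContinuous AddCommGrpCat.{u} J K).map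
    (((G.sheafAdjunctionContinuous AddCommGrpCat.{u} J K).leftAdjointUniq
      (Functor.sheafPullbackConstruction.sheafAdjunctionContinuous G AddCommGrpCat.{u} J K)).hom.app F))

end

/-- Let u : C ⥤ D be a functor between small sites which is cocontinuous, continuous (restriction along
u preserves sheaves, and u sends covering families to covering families) and fully faithful; let g
be the morphism of topoi attached to u, so that g⁻¹ is restriction along u, g_* its right adjoint
and g_! its left adjoint on abelian sheaves. Then for every abelian sheaf F on C the canonical maps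
F → g⁻¹g_!F (unit) and g⁻¹g_*F → F (counit) are isomorphisms. -/
theorem result {C D : Type u} [SmallCategory C] [SmallCategory D]
    (J : GrothendieckTopology C) (K : GrothendieckTopology D) (u : C ⥤ D)
    [u.IsCocontinuous J K] [u.IsContinuous J K] (hu : CoverPreserving J K u) [u.Full] [u.Faithful]
    (F : Sheaf J AddCommGrpCat.{u}) :
    IsIso ((u.sheafAdjunctionContinuous AddCommGrpCat.{u} J K).unit.app F) ∧
      IsIso ((u.sheafAdjunctionCocontinuous AddCommGrpCat.{u} J K).counit.app F) := by
  exact ⟨unit_iso J K u F, counit_iso J K u F⟩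

end Groth.Agent.S9108
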