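import Groth.Statements.S9109
import Mathlib

set_option autoImplicit false
universe u
open CategoryTheory CategoryTheory.Limits
open CohSite

namespace Groth.Agent.S9109


theorem epi_piMap {ι : Type u} {A B : AddCommGrpCat.{u}} (g : A ⟶ B) [Epi g] :
    Epi (Limits.Pi.map (fun _ : ι => g)) := by
  have h1 : Epi (Discrete.natTrans (F := Discrete.functor fun _ : ι => A)
      (G := Discrete.functor fun _ : ι => B) (fun _ => g)) := by
    have : ∀ X : Discrete ι, Epi ((Discrete.natTrans (F := Discrete.functor fun _ : ι => A)
      (G := Discrete.functor fun _ : ι => B) (fun _ => g)).app X) := by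
      intro X
      dsimp
      infer_instance
    exact NatTrans.epi_of_epi_app _
  have h2 : Epi ((lim : (Discrete ι ⥤ AddCommGrpCat.{u}) ⥤ _).map (Discrete.natTrans (F := Discrete.functor fun _ : ι => A)
      (G := Discrete.functor fun _ : ι => B) (fun _ => g))) := inferInstance
  exact h2

/-- Part (1): on a small site (C, J) with a point p: the skyscraper functor p_* from abelian groups to
abelian sheaves on C (right adjoint to the stalk functor at p; its value on A is the sheaf U ↦ ∏_{x
∈ p⁻¹U} A) is exact. As a right adjoint it preserves limits; the statement here is that it also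
preserves finite colimits. -/
theorem result {C : Type u} [SmallCategory C] {J : GrothendieckTopology C}
    (p : GrothendieckTopology.Point.{u} J) :
    PreservesFiniteColimits (p.skyscraperSheafFunctor (A := AddCommGrpCat.{u})) := by
  have hadd : (p.skyscraperSheafFunctor (A := AddCommGrpCat.{u})).Additive :=
    Functor.additive_of_preserves_binary_products _
  rw [Functor.preservesFiniteColimits_iff_forall_exact_map_and_epi]
  intro S hS
  have hlim : PreservesFiniteLimits (p.skyscraperSheafFunctor (A := AddCommGrpCat.{u})) :=
    inferInstance
  refine ⟨((Functor.preservesFiniteLimits_iff_forall_exact_map_and_mono _).1 hlim S hS).1, ?_⟩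
  have : Epi S.g := hS.epi_g
  apply (sheafToPresheaf J _).epi_of_epi_map
  have : ∀ X : Cᵒᵖ, Epi (((sheafToPresheaf J AddCommGrpCat).map
      ((p.skyscraperSheafFunctor (A := AddCommGrpCat.{u})).map S.g)).app X) := by
    intro X
    exact epi_piMap S.g
  exact NatTrans.epi_of_epi_app _

end Groth.Agent.S9109
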