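import Groth.Statements.S9122
import Groth.Agent.Lib.Helper2.Chaotic.Basic

set_option autoImplicit false
universe u
open CategoryTheory Opposite
open ModSite

namespace Groth.Agent.S9122

/-- Let C be a small category endowed with the chaotic topology (only maximal sieves are covering), O a
sheaf of commutative rings on it and F an O-module. Then F is quasi-coherent exactly when, for each
morphism g : U → V of C, the base-change map F(V) ⊗_{O(V)} O(U) → F(U), i.e. the map out of the
extension of scalars of F(V) along O(V) → O(U) that is adjoint to the restriction map F(V) → F(U),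
is an isomorphism. -/
theorem result {C : Type u} [SmallCategory C]
    (O : Sheaf (⊥ : GrothendieckTopology C) CommRingCat.{u}) (F : ModSite.Mod O) :
    SheafOfModules.IsQuasicoherent (R := ModSite.ringSh O) F ↔
      ∀ (U V : C) (g : U ⟶ V), IsIso
        (((ModuleCat.extendRestrictScalarsAdj (O.obj.map g.op).hom).homEquiv
          (F.val.obj (op V) : ModuleCat.{u} (O.obj.obj (op V))) (F.val.obj (op U) : ModuleCat.{u} (O.obj.obj (op U)))).symm
          (F.val.map g.op)) := by
  constructor
  · rintro ⟨⟨q⟩⟩ U V g
    have hcov := q.coversTop V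
    rw [GrothendieckTopology.bot_covering] at hcov
    obtain ⟨i, ⟨t⟩⟩ : ∃ i, Nonempty (V ⟶ q.X i) := by
      have h1 : (Sieve.ofObjects q.X V) (𝟙 V) := by rw [hcov]; trivial
      exact h1
    have hJ' := Groth.Agent.Lib.Helper2.Chaotic.over_bot (C := C) (q.X i)
    have key := Groth.Agent.Lib.Helper2.Chaotic.isIso_β_of_presentation
      (Sheaf.over O (q.X i)) hJ'
      (Over.homMk g : Over.mk (g ≫ t) ⟶ Over.mk t) (F.over (q.X i)) (q.presentation i)
    exact key
  · intro h
    have pres : ∀ U : C, Nonempty (F.over U).Presentation := by
      intro U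
      have hJ' := Groth.Agent.Lib.Helper2.Chaotic.over_bot (C := C) U
      refine ⟨Groth.Agent.Lib.Helper2.Chaotic.presentationOfIsIso (Sheaf.over O U)
        (T := Over.mk (𝟙 U)) Over.mkIdTerminal hJ' (F.over U) (fun Y => ?_)⟩
      exact h _ _ ((Over.mkIdTerminal (X := U)).from Y).left
    have hcov : (⊥ : GrothendieckTopology C).CoversTop (id : C → C) := by
      intro x
      rw [GrothendieckTopology.bot_covering]
      ext Y f
      simp only [Sieve.top_apply, iff_true]
      exact ⟨Y, ⟨𝟙 Y⟩⟩
    exact (SheafOfModules.QuasicoherentData.mk (M := F) C id hcov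
      (fun U => (pres U).some)).isQuasicoherent

end Groth.Agent.S9122
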