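import Groth.Statements.S9129
import Mathlib
import Groth.Agent.Lib.Helper18.TensorDim
import Groth.Agent.Lib.Helper18.FlatDepth

set_option autoImplicit false
universe u
open CAlg

namespace Groth.Agent.S9129

/-- Suppose R → S is a flat local homomorphism between Noetherian local rings, with R Cohen–Macaulay.
Assume either that S is finite over R or that the Krull dimension of S is at most that of R. Then
the two rings have equal dimension and S is itself Cohen–Macaulay. -/
theorem result (R S : Type u) [CommRing R] [CommRing S]
    [LocCoh.IsCohenMacaulayLocalRing R] [IsNoetherianRing S] [IsLocalRing S] [Algebra R S]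
    [IsLocalHom (algebraMap R S)] [Module.Flat R S]
    (h : Module.Finite R S ∨ ringKrullDim S ≤ ringKrullDim R) :
    LocCoh.IsCohenMacaulayLocalRing S ∧ ringKrullDim R = ringKrullDim S := by
  open Groth.Agent.Lib.Helper18.CM TensorProduct IsLocalRing in
  · haveI : IsNoetherianRing R := inferInstance
    haveI : IsLocalRing R := inferInstance
    have hCM : Module.supportDim R R = ((LocCoh.depth R R : ℕ∞) : WithBot ℕ∞) :=
      LocCoh.IsCohenMacaulayLocalRing.supportDim_eq_depth
    -- the two formulas
    have hdim := supportDim_tensor_of_flat (A := R) (B := S) R S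
    have hdep := depth_tensor_of_flat (A := R) (B := S) R S
    have e : S ⊗[R] R ≃ₗ[S] S := TensorProduct.AlgebraTensorModule.rid R S S
    rw [Module.supportDim_eq_of_equiv e] at hdim
    rw [depth_congr e] at hdep
    haveI hFnt := nontrivial_fibre R (B := S) S
    -- the fibre has dimension zero
    have hF0 : Module.supportDim S (S ⧸ ((maximalIdeal R).map (algebraMap R S) • ⊤ :
        Submodule S S)) ≤ 0 := by
      rcases h with hfin | hle
      · -- finite case: the support of the fibre is the closed point
        haveI := hfin
        have hsub : Subsingleton (Module.support S (S ⧸ ((maximalIdeal R).map (algebraMap R S) • ⊤ :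
            Submodule S S))) := by
          have hall : ∀ Q ∈ Module.support S (S ⧸ ((maximalIdeal R).map (algebraMap R S) • ⊤ :
              Submodule S S)), Q = IsLocalRing.closedPoint S := by
            intro Q hQ
            rw [Module.support_quotient] at hQ
            have hQ2 : (maximalIdeal R).map (algebraMap R S) ≤ Q.asIdeal :=
              (PrimeSpectrum.mem_zeroLocus _ _).mp hQ.2
            have hc : maximalIdeal R ≤ Q.asIdeal.comap (algebraMap R S) :=
              Ideal.map_le_iff_le_comap.mp hQ2
            have hcp : (Q.asIdeal.comap (algebraMap R S)).IsPrime := Ideal.comap_isPrime _ _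
            have hceq : Q.asIdeal.comap (algebraMap R S) = maximalIdeal R :=
              ((maximalIdeal.isMaximal R).eq_of_le hcp.ne_top hc).symm
            have hmax : (Q.asIdeal.comap (algebraMap R S)).IsMaximal := by
              rw [hceq]
              exact maximalIdeal.isMaximal R
            haveI : Algebra.IsIntegral R S := Algebra.IsIntegral.of_finite R S
            have hQmax : Q.asIdeal.IsMaximal :=
              Ideal.isMaximal_of_isIntegral_of_isMaximal_comap Q.asIdeal hmax
            apply PrimeSpectrum.ext
            exact IsLocalRing.eq_maximalIdeal hQmax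
          refine ⟨fun x y => Subtype.ext ?_⟩
          rw [hall x.1 x.2, hall y.1 y.2]
        exact Order.krullDim_nonpos_of_subsingleton
      · rw [← Module.supportDim_self_eq_ringKrullDim, ← Module.supportDim_self_eq_ringKrullDim,
          hdim] at hle
        obtain ⟨k, hk⟩ := exists_nat_eq_supportDim (R := R) R
        obtain ⟨d, hd⟩ := exists_nat_eq_supportDim (R := S)
          (S ⧸ ((maximalIdeal R).map (algebraMap R S) • ⊤ : Submodule S S))
        rw [hk, hd] at hle
        rw [hd]
        have : k + d ≤ k := by exact_mod_cast hle
        have : d = 0 := by omega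
        rw [this]
        rfl
    have hFd := depth_le_supportDim (R := S)
      (S ⧸ ((maximalIdeal R).map (algebraMap R S) • ⊤ : Submodule S S))
    have hFd0 : LocCoh.depth S (S ⧸ ((maximalIdeal R).map (algebraMap R S) • ⊤ :
        Submodule S S)) = 0 := by
      have := hFd.trans hF0
      have h2 : LocCoh.depth S (S ⧸ ((maximalIdeal R).map (algebraMap R S) • ⊤ :
        Submodule S S)) ≤ 0 := by exact_mod_cast this
      exact le_antisymm h2 zero_le
    have hFdim0 : Module.supportDim S (S ⧸ ((maximalIdeal R).map (algebraMap R S) • ⊤ :
        Submodule S S)) = 0 := by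
      refine le_antisymm hF0 ?_
      rw [hFd0] at hFd
      exact_mod_cast hFd
    rw [hFdim0, add_zero] at hdim
    rw [hFd0, add_zero] at hdep
    refine ⟨{ supportDim_eq_depth := ?_ }, ?_⟩
    · rw [hdim, hdep, hCM]
    · rw [← Module.supportDim_self_eq_ringKrullDim, ← Module.supportDim_self_eq_ringKrullDim, hdim]

end Groth.Agent.S9129
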