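import Groth.Statements.S9599
import Groth.Agent.Lib.Helper26.AdicExact
import Mathlib.RingTheory.Smooth.Quotient

set_option autoImplicit false
universe u
open CAlg

namespace Groth.Agent.S9599

open Groth.Agent.Lib.Helper26

/-- For a ring R, an ideal I of R and a short exact sequence 0 → K → M → N → 0 of R-modules with N flat
over R, the induced sequence of I-adic completions 0 → K^ → M^ → N^ → 0 is again short exact. -/
theorem result {R : Type u} [CommRing R] (I : Ideal R) {K M N : Type u} [AddCommGroup K] [Module R K] [AddCommGroup M] [Module R M] [AddCommGroup N] [Module R N] [Module.Flat R N] (i : K →ₗ[R] M) (g : M →ₗ[R] N) (hi : Function.Injective i) (hg : Function.Surjective g) (hig : Function.Exact i g) :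
    Function.Injective (AdicCompletion.map I i) ∧ Function.Exact (AdicCompletion.map I i) (AdicCompletion.map I g) ∧ Function.Surjective (AdicCompletion.map I g) := by
  have hk : ∀ n, (I ^ (n + 0) • ⊤ : Submodule R M).comap i ≤ I ^ n • ⊤ := by
    intro n a ha
    have h1 : i a ∈ LinearMap.ker g ⊓ (I ^ n • ⊤ : Submodule R M) :=
      ⟨(hig (i a)).mpr ⟨a, rfl⟩, ha⟩
    rw [LinearMap.ker_inf_smul_top_eq_smul_of_flat (I ^ n) g hg] at h1
    have : LinearMap.ker g = Submodule.map i ⊤ := by
      rw [Submodule.map_top]; exact hig.linearMap_ker_eq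
    rw [this, ← Submodule.map_smul''] at h1
    obtain ⟨a', ha', e⟩ := h1
    exact hi e ▸ ha'
  exact ⟨adicCompletion_map_injective_of_comap_le I 0 hk,
    adicCompletion_map_exact_of_comap_le I hig hg 0 hk, AdicCompletion.map_surjective I hg⟩

end Groth.Agent.S9599
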