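import Groth.Statements.S9134
import Groth.Agent.Lib.Helper21.KA3

set_option autoImplicit false
universe u
open CAlg

namespace Groth.Agent.S9134

open Groth.Agent.Lib.Helper21.KA


/-- Let R be a Noetherian domain of dimension one with fraction field K, M an R-submodule of K^r, and x
a nonzero element of R. Then M/xM has finite length over R. -/
theorem result (R : Type u) [CommRing R] [IsDomain R]
    [IsNoetherianRing R] (hdim : ringKrullDim R = 1) (K : Type u) [Field K] [Algebra R K]
    [IsFractionRing R K] (r : ℕ) (M : Submodule R (Fin r → K)) (x : R) (hx : x ≠ 0) :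
    Module.length R (M ⧸ (Ideal.span ({x} : Set R) • (⊤ : Submodule R M))) ≠ ⊤ := by
  have hd1 : Ring.KrullDimLE 1 R := by
    rw [Ring.krullDimLE_iff, hdim]
    rfl
  have hfl : ∀ y : R, y ≠ 0 → Module.length R (R ⧸ Ideal.span {y}) ≠ ⊤ := fun y hy =>
    length_quotient_span_singleton_ne_top y hy
  have h1 := length_quotient_smul_le (K := K) (V := Fin r → K) hfl M.subtype
    M.injective_subtype x hx
  have heq : LinearMap.range (LinearMap.lsmul R M x) =
      Ideal.span ({x} : Set R) • (⊤ : Submodule R M) := by
    rw [Submodule.ideal_span_singleton_smul]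
    ext m
    simp only [LinearMap.mem_range, LinearMap.lsmul_apply, Submodule.mem_smul_pointwise_iff_exists,
      Submodule.mem_top, true_and]
  rw [heq] at h1
  intro htop
  rw [htop, top_le_iff] at h1
  exact WithTop.mul_ne_top (ENat.natCast_ne_top _) (hfl x hx) h1

end Groth.Agent.S9134
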