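import Groth.Statements.S9137
import Mathlib

set_option autoImplicit false
universe u
open CAlg

namespace Groth.Agent.S9137

open IsLocalRing

/-- a local Noetherian ring of dimension zero with `R`-finite residue field is `R`-finite -/
theorem finite_of_residueField_finite (R T : Type u) [CommRing R] [CommRing T] [Algebra R T]
    [IsLocalRing T] [IsNoetherianRing T] [Ring.KrullDimLE 0 T]
    (h : Module.Finite R (T ⧸ maximalIdeal T)) : Module.Finite R T := by
  have hker : RingHom.ker (Ideal.Quotient.mkₐ R (maximalIdeal T)) = maximalIdeal T := by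
    ext x
    rw [RingHom.mem_ker]
    exact Ideal.Quotient.eq_zero_iff_mem
  refine Module.finite_of_surjective_of_ker_le_nilradical
    (Ideal.Quotient.mkₐ R (maximalIdeal T)) (Ideal.Quotient.mkₐ_surjective R _) ?_ ?_
  · rw [hker, ← Ring.jacobson_eq_nilradical_of_krullDimLE_zero,
      ringJacobson_eq_maximalIdeal]
  · rw [hker]
    exact IsNoetherian.noetherian _


/-- Let R → S be a local ring homomorphism between local rings, essentially of finite type, such that
the residue field of S is finite over that of R and S/m_R S has dimension zero. Then S is, as an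
R-algebra, the localization of a finite R-algebra at a prime. -/
theorem result (R S : Type u) [CommRing R] [CommRing S]
    [IsLocalRing R] [IsLocalRing S] [Algebra R S] [IsLocalHom (algebraMap R S)]
    [Algebra.EssFiniteType R S]
    (hres : Module.Finite (IsLocalRing.ResidueField R) (IsLocalRing.ResidueField S))
    (hdim : ringKrullDim (S ⧸ (IsLocalRing.maximalIdeal R).map (algebraMap R S)) = 0) :
    ∃ (S' : Type u) (_ : CommRing S') (_ : Algebra R S') (_ : Algebra S' S) (_ : IsScalarTower R S' S)
      (q : Ideal S') (_ : q.IsPrime), Module.Finite R S' ∧ IsLocalization.AtPrime S q := by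
  classical
  have hcomap : (maximalIdeal S).comap (algebraMap R S) = maximalIdeal R :=
    ((local_hom_TFAE (algebraMap R S)).out 0 4 rfl rfl).mp inferInstance
  have hI_le : (maximalIdeal R).map (algebraMap R S) ≤ maximalIdeal S := by
    rw [Ideal.map_le_iff_le_comap, hcomap]
  have hne : (maximalIdeal R).map (algebraMap R S) ≠ ⊤ := fun h =>
    (maximalIdeal.isMaximal S).ne_top (top_le_iff.mp (h ▸ hI_le))
  have hnt : Nontrivial (S ⧸ (maximalIdeal R).map (algebraMap R S)) :=
    Ideal.Quotient.nontrivial_iff.2 hne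
  have hloc : IsLocalRing (S ⧸ (maximalIdeal R).map (algebraMap R S)) :=
    IsLocalRing.of_surjective' (Ideal.Quotient.mk _) Ideal.Quotient.mk_surjective
  let _ : Field (R ⧸ maximalIdeal R) := Ideal.Quotient.field (maximalIdeal R)
  have hnoeth : IsNoetherianRing (S ⧸ (maximalIdeal R).map (algebraMap R S)) :=
    Algebra.EssFiniteType.isNoetherianRing (R ⧸ maximalIdeal R) _
  have hkd : Ring.KrullDimLE 0 (S ⧸ (maximalIdeal R).map (algebraMap R S)) :=
    (Ring.krullDimLE_iff).2 hdim.le
  -- the residue field of the fibre ring is `R`-finite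
  have hresR : Module.Finite R (ResidueField S) := Module.Finite.trans (ResidueField R) _
  have hT : Module.Finite R (S ⧸ (maximalIdeal R).map (algebraMap R S)) := by
    apply finite_of_residueField_finite
    -- surjection from the residue field of `S`
    have hmem : ∀ a ∈ maximalIdeal S,
        Ideal.Quotient.mk ((maximalIdeal R).map (algebraMap R S)) a ∈
          maximalIdeal (S ⧸ (maximalIdeal R).map (algebraMap R S)) := by
      intro a ha
      rw [mem_maximalIdeal, mem_nonunits_iff]
      intro hu
      obtain ⟨b, hb⟩ := hu.exists_right_inv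
      obtain ⟨b, rfl⟩ := Ideal.Quotient.mk_surjective b
      rw [← map_mul, ← map_one (Ideal.Quotient.mk _), Ideal.Quotient.eq] at hb
      have h1 : a * b - 1 ∈ maximalIdeal S := hI_le hb
      have h2 : a * b ∈ maximalIdeal S := Ideal.mul_mem_right _ _ ha
      have h3 : (1 : S) ∈ maximalIdeal S := by
        have := Ideal.sub_mem _ h2 h1
        simp at this
      exact (Ideal.ne_top_iff_one _).1 (maximalIdeal.isMaximal S).ne_top h3
    let φ : S →ₐ[R] (S ⧸ (maximalIdeal R).map (algebraMap R S)) ⧸
        maximalIdeal (S ⧸ (maximalIdeal R).map (algebraMap R S)) :=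
      (Ideal.Quotient.mkₐ R _).comp (Ideal.Quotient.mkₐ R _)
    let ψ : ResidueField S →ₐ[R] (S ⧸ (maximalIdeal R).map (algebraMap R S)) ⧸
        maximalIdeal (S ⧸ (maximalIdeal R).map (algebraMap R S)) :=
      Ideal.Quotient.liftₐ (maximalIdeal S) φ (fun a ha => by
        change Ideal.Quotient.mk _ (Ideal.Quotient.mk _ a) = 0
        rw [Ideal.Quotient.eq_zero_iff_mem]
        exact hmem a ha)
    have hψ : Function.Surjective ψ := by
      intro y
      obtain ⟨y, rfl⟩ := Ideal.Quotient.mk_surjective y
      obtain ⟨y, rfl⟩ := Ideal.Quotient.mk_surjective y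
      exact ⟨Ideal.Quotient.mk _ y, rfl⟩
    exact Module.Finite.of_surjective ψ.toLinearMap hψ
  -- the finite type model
  let S₀ := Algebra.EssFiniteType.subalgebra R S
  let q₀ : Ideal S₀ := (maximalIdeal S).comap (algebraMap S₀ S)
  have hq₀ : q₀.IsPrime := Ideal.comap_isPrime _ _
  have hM : Algebra.EssFiniteType.submonoid R S = q₀.primeCompl := by
    ext x
    change IsUnit (algebraMap S₀ S x) ↔ x ∉ q₀
    rw [Ideal.mem_comap, mem_maximalIdeal, mem_nonunits_iff, not_not]
  have hlocS : IsLocalization.AtPrime S q₀ := by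
    change IsLocalization q₀.primeCompl S
    rw [← hM]
    infer_instance
  have hunder : q₀.under R = maximalIdeal R := by
    rw [Ideal.under_def, Ideal.comap_comap, ← IsScalarTower.algebraMap_eq, hcomap]
  -- weak quasi-finiteness
  have hwqf : Algebra.WeaklyQuasiFiniteAt R q₀ := by
    rw [Algebra.weaklyQuasiFiniteAt_iff]
    let e : Localization.AtPrime q₀ ≃ₐ[S₀] S := IsLocalization.algEquiv q₀.primeCompl _ _
    let e' : Localization.AtPrime q₀ ≃ₐ[R] S := e.restrictScalars R
    let E := Ideal.quotientEquivAlg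
      ((q₀.under R).map (algebraMap R (Localization.AtPrime q₀)))
      ((maximalIdeal R).map (algebraMap R S)) e' (by
        rw [hunder, Ideal.map_map]
        congr 1
        ext x
        exact (e'.commutes x).symm)
    exact (Algebra.QuasiFinite.iff_of_algEquiv E).2 inferInstance
  obtain ⟨S', hS'fg, r, hr, hbij⟩ :=
    Algebra.QuasiFiniteAt.exists_fg_and_exists_notMem_and_awayMap_bijective (R := R) q₀
  have hfin : Module.Finite R S' := ⟨(Submodule.fg_top _).mpr hS'fg⟩
  -- every element of `S₀` is in `S'` after multiplication by a power of `r`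
  have hpow : ∀ x : S₀, ∃ (y : S') (m : ℕ), (y : S₀) = (r : S₀) ^ m * x := by
    intro x
    obtain ⟨y, m, hy⟩ := Localization.awayMap_surjective_iff.1 hbij.2 x
    exact ⟨y, m, hy⟩
  let ι : S' →ₐ[R] S := (IsScalarTower.toAlgHom R S₀ S).comp S'.val
  have hι : ∀ y : S', ι y = algebraMap S₀ S (y : S₀) := fun _ => rfl
  let _ : Algebra S' S := ι.toRingHom.toAlgebra
  have hst : IsScalarTower R S' S := IsScalarTower.of_algebraMap_eq (fun x => (ι.commutes x).symm)
  have halg : ∀ y : S', algebraMap S' S y = algebraMap S₀ S (y : S₀) := fun _ => rfl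
  let q : Ideal S' := q₀.comap S'.val
  have hq : q.IsPrime := Ideal.comap_isPrime _ _
  have hqmem : ∀ y : S', y ∈ q ↔ (y : S₀) ∈ q₀ := fun _ => Iff.rfl
  have hrq : r ∉ q := hr
  refine ⟨S', inferInstance, inferInstance, inferInstance, hst, q, hq, hfin, ?_⟩
  change IsLocalization q.primeCompl S
  refine ⟨⟨?_, ?_, ?_⟩⟩
  · rintro ⟨y, hy⟩
    rw [halg]
    exact IsLocalization.map_units S (⟨(y : S₀), hy⟩ : q₀.primeCompl)
  · intro s
    obtain ⟨⟨a₀, ⟨b₀, hb₀⟩⟩, hab⟩ := IsLocalization.surj q₀.primeCompl s
    simp only at hab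
    obtain ⟨a', n, ha'⟩ := hpow a₀
    obtain ⟨b', m, hb'⟩ := hpow b₀
    have hb'q : r ^ n * b' ∉ q := by
      intro hmem
      rw [hqmem] at hmem
      have h1 : ((r ^ n * b' : S') : S₀) = (r : S₀) ^ n * ((r : S₀) ^ m * b₀) := by
        rw [← hb']; rfl
      rw [h1] at hmem
      rcases hq₀.mem_or_mem hmem with h2 | h2
      · exact hr (hq₀.mem_of_pow_mem _ h2)
      · rcases hq₀.mem_or_mem h2 with h3 | h3
        · exact hr (hq₀.mem_of_pow_mem _ h3)
        · exact hb₀ h3
    refine ⟨(r ^ m * a', ⟨r ^ n * b', hb'q⟩), ?_⟩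
    simp only [halg]
    have h1 : ((r ^ n * b' : S') : S₀) = (r : S₀) ^ n * ((r : S₀) ^ m * b₀) := by
      rw [← hb']; rfl
    have h2 : ((r ^ m * a' : S') : S₀) = (r : S₀) ^ m * ((r : S₀) ^ n * a₀) := by
      rw [← ha']; rfl
    rw [h1, h2]
    simp only [map_mul, map_pow]
    rw [← hab]
    ring
  · intro a b hab
    rw [halg, halg] at hab
    obtain ⟨⟨c₀, hc₀⟩, hc⟩ := IsLocalization.exists_of_eq (M := q₀.primeCompl) hab
    simp only at hc
    obtain ⟨c', n, hc'⟩ := hpow c₀
    have hc'q : c' ∉ q := by
      intro hmem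
      rw [hqmem, hc'] at hmem
      rcases hq₀.mem_or_mem hmem with h2 | h2
      · exact hr (hq₀.mem_of_pow_mem _ h2)
      · exact hc₀ h2
    refine ⟨⟨c', hc'q⟩, ?_⟩
    apply Subtype.ext
    change (c' : S₀) * (a : S₀) = (c' : S₀) * (b : S₀)
    rw [hc', mul_assoc, mul_assoc, hc]

end Groth.Agent.S9137
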