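import Groth.Statements.S9146
import Mathlib
import Groth.Agent.Lib.Helper23.SyntLci
-- import your own Groth.Agent.* helpers here

set_option autoImplicit false
universe u
open Synt

namespace Groth.Agent.S9146
open Groth.Agent.Lib.Helper23.FibProp Groth.Agent.Lib.Helper23.FibProp0


/-- Being syntomic is local on the target ring: if finitely many elements of S generating the unit ideal
have syntomic localizations R → S_g, then R → S is syntomic. -/
theorem result (R S : Type u) [CommRing R] [CommRing S] [Algebra R S]
    (s : Finset S) (hs : Ideal.span (s : Set S) = ⊤)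
    (h : ∀ g ∈ s, Synt.IsSyntomic R (Localization.Away g)) : Synt.IsSyntomic R S := by
  rw [isSyntomic_iff]
  refine ⟨homP_of_span_target fibreProp0_lci s hs
    (fun g hg => ((isSyntomic_iff _ _).mp (h g hg)).1), ?_⟩
  exact Algebra.FinitePresentation.of_span_eq_top_target (s : Set S) hs
    (fun g hg => ((isSyntomic_iff _ _).mp (h g hg)).2)

end Groth.Agent.S9146
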