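import Groth.Statements.S9149
import Mathlib
import Groth.Agent.Helper19.RelGCI18
import Groth.Agent.S18934
import Groth.Agent.S9287
import Groth.Agent.Lib.Helper16.KzComp7
-- import your own Groth.Agent.* helpers here

set_option autoImplicit false
universe u
open Synt

namespace Groth.Agent.S9149

section helpers
open Polynomial

theorem isSyntomic_trans (A B C : Type u) [CommRing A] [CommRing B] [CommRing C] [Algebra A B]
    [Algebra B C] [Algebra A C] [IsScalarTower A B C] (h1 : Synt.IsSyntomic A B)
    (h2 : Synt.IsSyntomic B C) : Synt.IsSyntomic A C := by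
  rw [Groth.Agent.S9287.result] at h1 h2 ⊢
  haveI := h1.1
  haveI := h2.1
  exact ⟨Module.Flat.trans A B C, Groth.Agent.Lib.Helper16.KzComp.isLCI_trans A B C h1.2 h2.2⟩

theorem isSyntomic_self (A : Type u) [CommRing A] : Synt.IsSyntomic A A := by
  let F : Fin 0 → MvPolynomial (Fin 0) A := Fin.elim0
  have hbot : Ideal.span (Set.range F) = ⊥ := by
    rw [Ideal.span_eq_bot]
    rintro _ ⟨i, rfl⟩
    exact i.elim0
  let e : Synt.RelGCIRing A 0 0 F ≃ₐ[A] A :=
    ((Ideal.quotientEquivAlgOfEq A hbot).trans (AlgEquiv.quotientBot A _)).trans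
      (MvPolynomial.isEmptyAlgEquiv A (Fin 0))
  haveI : Module.Finite A (Synt.RelGCIRing A 0 0 F) :=
    Module.Finite.of_surjective e.symm.toLinearMap e.symm.surjective
  have hG : Synt.IsRelGCI A 0 0 F := by
    intro p hnt
    refine ⟨le_rfl, ?_⟩
    haveI : p.asIdeal.IsPrime := p.2
    refine le_antisymm ?_ ringKrullDim_nonneg_of_nontrivial
    exact Groth.Agent.Helper19.RelGCI.ringKrullDim_fiber_le_zero_of_quasiFinite _ p.asIdeal
  exact Groth.Agent.Lib.Helper16.SyntLCI.isSyntomic_of_algEquiv e
    (Groth.Agent.Helper19.RelGCI.isSyntomic_of_isRelGCI hG)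

theorem base (A : Type u) [CommRing A] (P : A[X]) (h1 : P = 1) :
    ∃ (A' : Type u) (_ : CommRing A') (_ : Algebra A A'),
      Synt.IsSyntomic A A' ∧ Module.Finite A A' ∧ Module.Free A A' ∧ Module.FaithfullyFlat A A' ∧
        ∃ s : Multiset A', P.map (algebraMap A A') = (s.map fun b => X - C b).prod := by
  refine ⟨A, inferInstance, inferInstance, isSyntomic_self A, inferInstance, inferInstance,
    inferInstance, 0, ?_⟩
  rw [h1]
  simp

theorem aux (n : ℕ) : ∀ (A : Type u) [CommRing A] (P : A[X]), P.Monic → P.natDegree ≤ n →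
    ∃ (A' : Type u) (_ : CommRing A') (_ : Algebra A A'),
      Synt.IsSyntomic A A' ∧ Module.Finite A A' ∧ Module.Free A A' ∧ Module.FaithfullyFlat A A' ∧
        ∃ s : Multiset A', P.map (algebraMap A A') = (s.map fun b => X - C b).prod := by
  induction n with
  | zero =>
    intro A _ P hP hdeg
    exact base A P (Polynomial.eq_one_of_monic_natDegree_zero hP (Nat.le_zero.mp hdeg))
  | succ n ih =>
    intro A _ P hP hdeg
    by_cases h0 : P.natDegree = 0
    · exact base A P (Polynomial.eq_one_of_monic_natDegree_zero hP h0)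
    obtain ⟨hs1, hff1⟩ := Groth.Agent.S18934.isSyntomic_adjoinRoot A P hP
      (fun _ => Nat.pos_of_ne_zero h0)
    have hfree1 : Module.Free A (AdjoinRoot P) :=
      Module.Free.of_basis (AdjoinRoot.powerBasis' hP).basis
    have hfin1 : Module.Finite A (AdjoinRoot P) := (AdjoinRoot.powerBasis' hP).finite
    have hP₁ : (P.map (algebraMap A (AdjoinRoot P))).Monic := hP.map _
    have hroot : (P.map (algebraMap A (AdjoinRoot P))).IsRoot (AdjoinRoot.root P) := by
      change Polynomial.eval _ (P.map _) = 0
      rw [Polynomial.eval_map, AdjoinRoot.algebraMap_eq, AdjoinRoot.eval₂_root]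
    set Q : (AdjoinRoot P)[X] :=
      (P.map (algebraMap A (AdjoinRoot P))) /ₘ (X - C (AdjoinRoot.root P)) with hQdef
    have hPQ : (X - C (AdjoinRoot.root P)) * Q = P.map (algebraMap A (AdjoinRoot P)) :=
      Polynomial.mul_divByMonic_eq_iff_isRoot.mpr hroot
    have hQ : Q.Monic := by
      refine (Polynomial.monic_X_sub_C (AdjoinRoot.root P)).of_mul_monic_left ?_
      rw [hPQ]; exact hP₁
    have hQdeg : Q.natDegree ≤ n := by
      by_cases hnt : Nontrivial (AdjoinRoot P)
      · rw [hQdef, Polynomial.natDegree_divByMonic _ (Polynomial.monic_X_sub_C _),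
          Polynomial.natDegree_X_sub_C]
        have := Polynomial.natDegree_map_le (p := P) (f := algebraMap A (AdjoinRoot P))
        omega
      · haveI : Subsingleton (AdjoinRoot P) := not_nontrivial_iff_subsingleton.mp hnt
        rw [Subsingleton.elim Q 0]
        simp
    obtain ⟨A₂, _, _, hs2, hfin2, hfree2, hff2, s, hs⟩ := ih (AdjoinRoot P) Q hQ hQdeg
    letI : Algebra A A₂ := ((algebraMap (AdjoinRoot P) A₂).comp (algebraMap A (AdjoinRoot P))).toAlgebra
    haveI : IsScalarTower A (AdjoinRoot P) A₂ := IsScalarTower.of_algebraMap_eq (fun _ => rfl)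
    refine ⟨A₂, inferInstance, inferInstance, isSyntomic_trans A (AdjoinRoot P) A₂ hs1 hs2,
      Module.Finite.trans (AdjoinRoot P) A₂, Module.Free.trans (R := A) (S := AdjoinRoot P) (M := A₂),
      Module.FaithfullyFlat.trans A (AdjoinRoot P) A₂,
      algebraMap (AdjoinRoot P) A₂ (AdjoinRoot.root P) ::ₘ s, ?_⟩
    have h1 : P.map (algebraMap A A₂) =
        (P.map (algebraMap A (AdjoinRoot P))).map (algebraMap (AdjoinRoot P) A₂) := by
      rw [Polynomial.map_map]
      rfl
    rw [h1, ← hPQ, Polynomial.map_mul, hs, Multiset.map_cons, Multiset.prod_cons]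
    simp

end helpers

open Polynomial in

open Polynomial in
/-- A monic polynomial over a ring A splits into linear factors over some A-algebra A' that is syntomic,
finite free and faithfully flat over A. -/
theorem result (A : Type u) [CommRing A] (P : A[X]) (hP : P.Monic) :
    ∃ (A' : Type u) (_ : CommRing A') (_ : Algebra A A'),
      Synt.IsSyntomic A A' ∧ Module.Finite A A' ∧ Module.Free A A' ∧ Module.FaithfullyFlat A A' ∧
        ∃ s : Multiset A', P.map (algebraMap A A') = (s.map fun b => X - C b).prod := by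
  exact aux P.natDegree A P hP le_rfl

end Groth.Agent.S9149
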