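import Groth.Statements.S9152
import Mathlib
import Groth.Agent.Lib.Helper18.GenAdd6
import Groth.Agent.Lib.Helper18.J2f
import Groth.Agent.Lib.Helper16.RegularDim

set_option autoImplicit false
universe u
open CAlg

namespace Groth.Agent.S9152

/-- The Cohen–Macaulay locus of a finite type algebra over a field is open. -/
theorem result (k S : Type u) [Field k] [CommRing S] [Algebra k S]
    [Algebra.FiniteType k S] :
    IsOpen {q : PrimeSpectrum S | LocCoh.IsCohenMacaulayLocalRing (Localization.AtPrime q.asIdeal)} := by
  open Groth.Agent.Lib.Helper18.GenAdd Groth.Agent.Lib.Helper18.CM in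
  · haveI : IsNoetherianRing S := Algebra.FiniteType.isNoetherianRing k S
    have hCM : ∀ (w : Ideal S) [w.IsPrime], Gen w (fun q _ => CMq w q) := by
      intro w _
      apply gen_cmq_of_open
      have hJ2 := Groth.Agent.Lib.Helper18.J2.isJ2_field k
      have hopen : IsOpen (EGA4.regLocus (S ⧸ w)) := hJ2 (S ⧸ w) inferInstance
      refine ⟨EGA4.regLocus (S ⧸ w), hopen,
        ⟨_, Groth.Agent.Lib.Helper18.J2.bot_mem_regLocus (S ⧸ w)⟩, fun q hq => ?_⟩
      haveI : IsRegularLocalRing (Localization.AtPrime q.asIdeal) := hq
      exact { supportDim_eq_depth :=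
        Groth.Agent.Lib.Helper16.PDR.isCohenMacaulayModule_self_of_isRegularLocalRing _ }
    have h := isOpen_codepth_le S 0 hCM
    convert h using 1
    ext q
    haveI : IsNoetherianRing (Localization.AtPrime q.asIdeal) :=
      IsLocalization.isNoetherianRing q.asIdeal.primeCompl _ inferInstance
    have h1 : dm S q.asIdeal = ((q.asIdeal.height : ℕ∞) : WithBot ℕ∞) :=
      Groth.Agent.Lib.Helper18.Serre.supportDim_localizedModule_self q.asIdeal
    have h2 : dp S q.asIdeal =
        LocCoh.depth (Localization.AtPrime q.asIdeal) (Localization.AtPrime q.asIdeal) :=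
      Groth.Agent.Lib.Helper18.Serre.depth_localizedModule_self q.asIdeal
    have h3 : Module.supportDim (Localization.AtPrime q.asIdeal) (Localization.AtPrime q.asIdeal) =
        ((q.asIdeal.height : ℕ∞) : WithBot ℕ∞) := by
      rw [Module.supportDim_self_eq_ringKrullDim,
        IsLocalization.AtPrime.ringKrullDim_eq_height q.asIdeal (Localization.AtPrime q.asIdeal)]
    rw [Set.mem_ofPred_eq, Set.mem_ofPred_eq, h1, h2, Nat.cast_zero, add_zero, ← h3]
    constructor
    · intro hc
      exact hc.supportDim_eq_depth.le
    · intro hle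
      have hge := depth_le_supportDim (R := Localization.AtPrime q.asIdeal)
        (Localization.AtPrime q.asIdeal)
      exact { supportDim_eq_depth := le_antisymm hle hge }

end Groth.Agent.S9152
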