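import Groth.Statements.S9153
import Mathlib
import Groth.Agent.Lib.Helper18.CMCat
import Groth.Agent.Lib.Helper18.PMor4

set_option autoImplicit false
universe u
open CAlg

namespace Groth.Agent.S9153

/-- In a polynomial ring in finitely many variables over a field, every saturated chain of primes
between two primes p ⊆ q has length equal to the difference of their heights (stated additively:
length + height p = height q). -/
theorem result (k : Type u) [Field k] (n : ℕ)
    (s : LTSeries (PrimeSpectrum (MvPolynomial (Fin n) k)))
    (hsat : ∀ i : Fin s.length, s (Fin.castSucc i) ⋖ s (Fin.succ i)) :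
    (s.length : ℕ∞) + s.head.asIdeal.height = s.last.asIdeal.height := by
  open Groth.Agent.Lib.Helper18.CMCat in
  · haveI hreg : IsRegularRing (MvPolynomial (Fin n) k) := inferInstance
    have hCMR : LocCoh.IsCohenMacaulayRing (MvPolynomial (Fin n) k) :=
      Groth.Agent.Lib.Helper18.PMor.isCohenMacaulayRing_of_isRegularRing hreg
    have hCMq : ∀ (q : Ideal (MvPolynomial (Fin n) k)) [q.IsPrime],
        LocCoh.IsCohenMacaulayModule (Localization.AtPrime q) (Localization.AtPrime q) :=
      fun q _ => (hCMR.isCohenMacaulayLocalRing_localization q).supportDim_eq_depth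
    have key : ∀ (i : ℕ) (hi : i < s.length + 1),
        (i : ℕ∞) + (s 0).asIdeal.height = (s ⟨i, hi⟩).asIdeal.height := by
      intro i
      induction i with
      | zero =>
        intro hi
        rw [Nat.cast_zero, zero_add]
        rfl
      | succ i ih =>
        intro hi
        have hi' : i < s.length := by omega
        have hcov := hsat ⟨i, hi'⟩
        have h1 := height_eq_succ_of_covBy (MvPolynomial (Fin n) k) hCMq (s (Fin.castSucc ⟨i, hi'⟩)).asIdeal
          (s (Fin.succ ⟨i, hi'⟩)).asIdeal hcov
        have h2 := ih (by omega)
        have e1 : (Fin.castSucc ⟨i, hi'⟩ : Fin (s.length + 1)) = ⟨i, by omega⟩ := rfl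
        have e2 : (Fin.succ ⟨i, hi'⟩ : Fin (s.length + 1)) = ⟨i + 1, hi⟩ := rfl
        rw [e1, e2] at h1
        rw [h1, ← h2]
        push_cast
        rw [add_right_comm]
    have := key s.length (Nat.lt_succ_self _)
    exact this

end Groth.Agent.S9153
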