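import Groth.Statements.S9154
import Mathlib
import Groth.Agent.Lib.Helper23.CMEquidim
-- import your own Groth.Agent.* helpers here

set_option autoImplicit false
universe u
open CAlg

namespace Groth.Agent.S9154

open IsLocalRing RingTheory.Sequence

open Groth.Agent.Lib.Helper18.CM Groth.Agent.Lib.Helper21.ChartPt
open Groth.Agent.Lib.Helper16.CMHt Groth.Agent.Lib.Helper23.CMEquidim


/-- Let S be a Cohen–Macaulay finite type algebra over a field k, equidimensional of dimension d, and
f_1, …, f_i elements (i ≤ d) generating a proper ideal whose zero locus has dimension at most d − i.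
Then that dimension equals d − i and the f_j form a regular sequence in S_q for every prime q
containing them. (The published statement also allows the f_j to generate the unit ideal, where the
zero locus is empty and the equality fails, e.g. f_1 = 1 in k[x]; this row assumes the ideal is
proper.) -/
theorem result (k S : Type u) [Field k] [CommRing S] [Algebra k S]
    [Algebra.FiniteType k S] [LocCoh.IsCohenMacaulayRing S] (d : ℕ)
    (heq : ∀ p ∈ minimalPrimes S, ringKrullDim (S ⧸ p) = d) (f : List S) (hi : f.length ≤ d)
    (hne : Ideal.ofList f ≠ ⊤)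
    (hle : ringKrullDim (S ⧸ Ideal.ofList f) ≤ ((d - f.length : ℕ) : WithBot ℕ∞)) :
    ringKrullDim (S ⧸ Ideal.ofList f) = ((d - f.length : ℕ) : WithBot ℕ∞) ∧
      ∀ (q : Ideal S) [q.IsPrime], Ideal.ofList f ≤ q →
        RingTheory.Sequence.IsRegular (Localization.AtPrime q)
          (f.map (algebraMap S (Localization.AtPrime q))) := by
  classical
  haveI : IsNoetherianRing S := Algebra.FiniteType.isNoetherianRing k S
  constructor
  · apply le_antisymm hle
    obtain ⟨m, hm, hIm⟩ := Ideal.exists_le_maximal _ hne
    haveI := hm.isPrime
    obtain ⟨P, hPmin, -⟩ := Ideal.exists_minimalPrimes_le hIm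
    haveI hPp : P.IsPrime := hPmin.1.1
    have hIP : Ideal.ofList f ≤ P := hPmin.1.2
    have hht : P.height ≤ (f.length : ℕ∞) := by
      have hPmin' : P ∈ (Ideal.span (f.toFinset : Set S)).minimalPrimes := by
        rw [← ofList_eq_span_toFinset]; exact hPmin
      refine (Ideal.height_le_card_of_mem_minimalPrimes_span_finset hPmin').trans ?_
      exact_mod_cast List.toFinset_card_le f
    obtain ⟨a, b, ha, hb, hab⟩ := equidim_formula k S d heq P
    rw [hb] at hht
    have hb' : b ≤ f.length := by exact_mod_cast hht
    have h1 : ringKrullDim (S ⧸ P) ≤ ringKrullDim (S ⧸ Ideal.ofList f) :=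
      ringKrullDim_le_of_surjective (Ideal.Quotient.factor hIP)
        (Ideal.Quotient.factor_surjective hIP)
    rw [ha] at h1
    refine le_trans ?_ h1
    have : d - f.length ≤ a := by omega
    exact_mod_cast this
  · intro q hq hfq
    set A := Localization.AtPrime q with hA
    haveI : IsNoetherianRing A := IsLocalization.isNoetherianRing q.primeCompl _ inferInstance
    have hCM : LocCoh.IsCohenMacaulayModule A A :=
      (LocCoh.IsCohenMacaulayRing.isCohenMacaulayLocalRing_localization q).supportDim_eq_depth
    set xs := f.map (algebraMap S A) with hxs_def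
    have hlen : xs.length = f.length := List.length_map _
    have hxs : ∀ x ∈ xs, x ∈ maximalIdeal A := by
      intro x hx
      rw [hxs_def, List.mem_map] at hx
      obtain ⟨y, hy, rfl⟩ := hx
      exact (IsLocalization.AtPrime.to_map_mem_maximal_iff A q y).mpr
        (hfq (Ideal.subset_span hy))
    rw [isRegular_iff_ringKrullDim hCM xs hxs]
    apply le_antisymm _ (ringKrullDim_le_quot_ofList_add_length xs hxs)
    have hofList : Ideal.ofList xs = (Ideal.ofList f).map (algebraMap S A) := ofList_map _ f
    have hne' : Ideal.ofList xs ≠ ⊤ := by
      intro h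
      have : Ideal.ofList xs ≤ maximalIdeal A := by
        rw [Ideal.ofList, Ideal.span_le]; exact fun x hx => hxs x hx
      rw [h] at this
      exact (maximalIdeal.isMaximal A).ne_top (top_le_iff.mp this)
    have hht : (f.length : ℕ∞) ≤ (Ideal.ofList xs).height := by
      rw [hofList, ← IsLocalization.height_under q.primeCompl
        ((Ideal.ofList f).map (algebraMap S A))]
      exact (le_height k S d heq (Ideal.ofList f) f.length hle hi).trans
        (Ideal.height_mono Ideal.le_comap_map)
    have hform := height_add_ringKrullDim_quotient A hCM (Ideal.ofList xs) hne'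
    rw [← hform, hlen, add_comm]
    have h4 : ((f.length : ℕ∞) : WithBot ℕ∞) ≤ (((Ideal.ofList xs).height : ℕ∞) : WithBot ℕ∞) := by
      exact_mod_cast hht
    exact add_le_add h4 le_rfl

end Groth.Agent.S9154
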