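import Groth.Statements.S9374
import Mathlib
import Groth.Agent.Lib.Helper6.CMChart4
-- import your own Groth.Agent.* helpers here

set_option autoImplicit false
universe u
open FibDim

namespace Groth.Agent.S9374

open AlgebraicGeometry CategoryTheory in
/-- Let f : X → S be flat, locally of finite presentation, with Cohen–Macaulay fibres. Then x ↦
dim_x(X_{f x}) is locally constant on X. (The published statement also decomposes X into the open
and closed pieces X_d = {dim_x(X_{f x}) = d} and says f has relative dimension d on X_d; this row
asserts only the local constancy.) -/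
theorem result {X S : Scheme.{u}} (f : X ⟶ S) [Flat f]
    [LocallyOfFinitePresentation f] (hcm : ∀ x : X, MoreMor.IsCMAt f x) :
    IsLocallyConstant (fun x : ↑X => FlatMor.fibreDimAt f x) := by
  rw [IsLocallyConstant.iff_exists_open]
  intro x
  obtain ⟨W, hxW, hW⟩ :=
    Groth.Agent.Lib.Helper6.CMChart.exists_open_fibreDimAt_eq_of_isCMAt f x (hcm x)
  exact ⟨W, W.2, hxW, fun z hz => hW z hz⟩

end Groth.Agent.S9374
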