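import Groth.Statements.S9165
import Mathlib
import Groth.Agent.S9374
import Groth.Agent.Lib.Helper21.FibDim1
import Groth.Agent.Lib.Helper23.CMDecomp
-- import your own Groth.Agent.* helpers here

set_option autoImplicit false
universe u
open CAlg

namespace Groth.Agent.S9165

open PrimeSpectrum TensorProduct AlgebraicGeometry CategoryTheory
open Groth.Agent.Lib.Helper12.H12FibDimAlg Groth.Agent.Lib.Helper18.FibBridge Groth.Agent.Lib.Helper23.CMDecomp


/-- A flat, finitely presented ring map R → S whose fibre rings κ(p) ⊗ S are Cohen–Macaulay decomposes S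
as a finite product of R-algebras S_d (d = 0, …, N), each again flat, finitely presented with
Cohen–Macaulay fibres, and with every irreducible component of every fibre of S_d of dimension d. -/
theorem result (R S : Type u) [CommRing R]
    [CommRing S] [Algebra R S] [Module.Flat R S] [Algebra.FinitePresentation R S]
    (hCM : ∀ p : PrimeSpectrum R, LocCoh.IsCohenMacaulayRing (p.asIdeal.Fiber S)) :
    ∃ (N : ℕ) (T : Fin (N + 1) → Type u) (_ : ∀ d, CommRing (T d)) (_ : ∀ d, Algebra R (T d)),
      Nonempty (S ≃ₐ[R] ((d : Fin (N + 1)) → T d)) ∧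
        ∀ d : Fin (N + 1), Module.Flat R (T d) ∧ Algebra.FinitePresentation R (T d) ∧
          (∀ p : PrimeSpectrum R, LocCoh.IsCohenMacaulayRing (p.asIdeal.Fiber (T d))) ∧
          ∀ (p : PrimeSpectrum R), ∀ P ∈ minimalPrimes (p.asIdeal.Fiber (T d)),
            ringKrullDim (p.asIdeal.Fiber (T d) ⧸ P) = ((d : ℕ) : WithBot ℕ∞) := by
  let f := specMap R S
  haveI : Flat f := by
    change Flat (Spec.map (CommRingCat.ofHom (algebraMap R S)))
    rw [HasRingHomProperty.Spec_iff (P := @Flat)]
    change (algebraMap R S).Flat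
    rw [RingHom.flat_algebraMap_iff]
    infer_instance
  haveI : LocallyOfFinitePresentation f := by
    change LocallyOfFinitePresentation (Spec.map (CommRingCat.ofHom (algebraMap R S)))
    rw [HasRingHomProperty.Spec_iff (P := @LocallyOfFinitePresentation)]
    exact (RingHom.finitePresentation_algebraMap).mpr inferInstance
  have hLC := Groth.Agent.S9374.result f (isCMAt_specMap R S hCM)
  have hnat : ∀ x : PrimeSpectrum S, ∃ n : ℕ, FlatMor.fibreDimAt f x = n := by
    intro x
    obtain ⟨n, hn, -⟩ := Groth.Agent.Lib.Helper21.FibDim.exists_fibreDimAt_eq_trdeg f x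
    exact ⟨n, hn⟩
  choose δ hδ using hnat
  have hδLC : IsLocallyConstant δ := by
    refine IsLocallyConstant.desc δ (fun n : ℕ => (n : WithBot ℕ∞)) ?_ ?_
    · have : ((fun n : ℕ => (n : WithBot ℕ∞)) ∘ δ) = fun x => FlatMor.fibreDimAt f x := by
        funext x; exact (hδ x).symm
      rw [this]; exact hLC
    · intro a b hab
      have hab' : (a : WithBot ℕ∞) = (b : WithBot ℕ∞) := hab
      exact_mod_cast hab'
  obtain ⟨N, hN⟩ := hδLC.range_finite.bddAbove
  have hN' : ∀ x, δ x ≤ N := fun x => hN ⟨x, rfl⟩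
  let W : Fin (N + 1) → Set (PrimeSpectrum S) := fun d => δ ⁻¹' {(d : ℕ)}
  have hW : ∀ d, IsClopen (W d) := fun d => hδLC.isClopen_fiber _
  have hdisj : ∀ d d', d ≠ d' → Disjoint (W d) (W d') := by
    intro d d' hdd'
    rw [Set.disjoint_left]
    intro x hx hx'
    have h1 : δ x = d := hx
    have h2 : δ x = d' := hx'
    exact hdd' (Fin.ext (h1.symm.trans h2))
  have hcov : ∀ x, ∃ d, x ∈ W d := fun x => ⟨⟨δ x, Nat.lt_succ_of_le (hN' x)⟩, rfl⟩
  obtain ⟨e, he, heW⟩ := exists_completeOrthogonalIdempotents S N W hW hdisj hcov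
  refine ⟨N, fun d => Fac (e d), fun d => inferInstance, fun d => inferInstance,
    nonempty_algEquiv_pi R e he, fun d => ?_⟩
  haveI hfp : Algebra.FinitePresentation R (Fac (e d)) :=
    finitePresentation_fac R (e d) (he.idem d)
  refine ⟨flat_fac R (e d) (he.idem d), hfp, fun p => ?_, fun p P hP => ?_⟩
  · haveI := hCM p
    exact isCohenMacaulayRing_fiber_fac R (e d) (he.idem d) p.asIdeal
  · haveI : P.IsPrime := hP.1.1
    have h1 := ringKrullDim_fiber_quotient_of_mem_minimalPrimes R (Fac (e d)) (ctr p.asIdeal P)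
      p.asIdeal (ctr_comap p.asIdeal P) P rfl hP
    rw [h1, fibreDimAt_specMap_fac R (e d) (he.idem d)]
    have h2 := comap_mk_mem_basicOpen_iff (e d) ⟨ctr p.asIdeal P, inferInstance⟩
    rw [heW d] at h2
    have h3 : δ (PrimeSpectrum.comap (Ideal.Quotient.mk (Ideal.span {1 - e d}))
        ⟨ctr p.asIdeal P, inferInstance⟩) = d := h2
    rw [hδ, h3]

end Groth.Agent.S9165
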