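import Groth.Statements.S9156
import Mathlib
import Groth.Agent.S9165
import Groth.Agent.Lib.Helper23.CMEquidim
import Groth.Agent.Lib.Helper18.FibQuot
-- import your own Groth.Agent.* helpers here

set_option autoImplicit false
universe u
open CAlg

namespace Groth.Agent.S9156

open TensorProduct Groth.Agent.Lib.Helper23.CMEquidim

/-- over a field, the fibre ring is the ring itself -/
theorem nonempty_fiber_equiv (k T : Type u) [Field k] [CommRing T] [Algebra k T]
    (p : Ideal k) [hp : p.IsPrime] : Nonempty (p.Fiber T ≃+* T) := by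
  have hbot : p = ⊥ := Ideal.eq_bot_of_prime p
  haveI : p.IsMaximal := by rw [hbot]; exact Ideal.bot_isMaximal
  have hbij : Function.Bijective (algebraMap k p.ResidueField) :=
    ⟨(algebraMap k p.ResidueField).injective, Ideal.algebraMap_residueField_surjective p⟩
  let e₀ : k ≃ₐ[k] p.ResidueField := AlgEquiv.ofBijective (Algebra.ofId k p.ResidueField) hbij
  let e₁ : p.ResidueField ⊗[k] T ≃ₐ[k] k ⊗[k] T :=
    Algebra.TensorProduct.congr e₀.symm AlgEquiv.refl
  exact ⟨e₁.toRingEquiv.trans (Algebra.TensorProduct.lid k T).toRingEquiv⟩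

theorem comap_mem_minimalPrimes {A B : Type u} [CommRing A] [CommRing B] (ε : A ≃+* B)
    (P₀ : Ideal B) (hP₀ : P₀ ∈ minimalPrimes B) :
    P₀.comap (ε : A →+* B) ∈ minimalPrimes A := by
  have h0 : IsMinimalPrime P₀ := hP₀
  rw [IsMinimalPrime.iff_minimal] at h0
  show IsMinimalPrime (P₀.comap (ε : A →+* B))
  rw [IsMinimalPrime.iff_minimal]
  haveI := h0.1
  refine ⟨Ideal.comap_isPrime _ _, fun Q hQ hle => ?_⟩
  haveI := hQ
  have hQ' : (Q.comap (ε.symm : B →+* A)).IsPrime := Ideal.comap_isPrime _ _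
  have hle' : Q.comap (ε.symm : B →+* A) ≤ P₀ := by
    intro x hx
    have h1 : ε.symm x ∈ P₀.comap (ε : A →+* B) := hle hx
    have h2 : ε (ε.symm x) ∈ P₀ := h1
    rwa [ε.apply_symm_apply] at h2
  have hge := h0.2 hQ' hle'
  intro x hx
  have h1 : ε x ∈ P₀ := hx
  have h2 : ε.symm (ε x) ∈ Q := hge h1
  rwa [ε.symm_apply_apply] at h2


/-- A Cohen–Macaulay finite type algebra S over a field k decomposes as a finite product of k-algebras
S_0 × ⋯ × S_N in which every maximal ideal of the factor S_d has height d (so Spec S is a finite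
disjoint union of equidimensional open and closed pieces). -/
theorem result (k S : Type u) [Field k] [CommRing S]
    [Algebra k S] [Algebra.FiniteType k S] [LocCoh.IsCohenMacaulayRing S] :
    ∃ (N : ℕ) (T : Fin (N + 1) → Type u) (_ : ∀ d, CommRing (T d)) (_ : ∀ d, Algebra k (T d)),
      Nonempty (S ≃ₐ[k] ((d : Fin (N + 1)) → T d)) ∧
        ∀ (d : Fin (N + 1)) (m : Ideal (T d)), m.IsMaximal → m.height = (d : ℕ) := by
  haveI : Algebra.FinitePresentation k S :=
    Algebra.FinitePresentation.of_finiteType.mp inferInstance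
  have hCM : ∀ p : PrimeSpectrum k, LocCoh.IsCohenMacaulayRing (p.asIdeal.Fiber S) := by
    intro p
    obtain ⟨e⟩ := nonempty_fiber_equiv k S p.asIdeal
    exact Groth.Agent.Lib.Helper18.FibQuot.isCohenMacaulayRing_of_ringEquiv e.symm
  obtain ⟨N, T, iR, iA, hequiv, hT⟩ := Groth.Agent.S9165.result k S hCM
  refine ⟨N, T, iR, iA, hequiv, fun d m hm => ?_⟩
  obtain ⟨-, hfp, -, hdim⟩ := hT d
  haveI : Algebra.FiniteType k (T d) := inferInstance
  let p : PrimeSpectrum k := ⟨⊥, Ideal.bot_prime⟩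
  obtain ⟨ε⟩ := nonempty_fiber_equiv k (T d) p.asIdeal
  -- `T d` is equidimensional of dimension `d`
  have heq : ∀ P₀ ∈ minimalPrimes (T d), ringKrullDim (T d ⧸ P₀) = ((d : ℕ) : WithBot ℕ∞) := by
    intro P₀ hP₀
    haveI : P₀.IsPrime := hP₀.1.1
    have hP : P₀.comap (ε : p.asIdeal.Fiber (T d) →+* T d) ∈
        minimalPrimes (p.asIdeal.Fiber (T d)) := comap_mem_minimalPrimes ε P₀ hP₀
    rw [← hdim p _ hP]
    symm
    refine ringKrullDim_eq_of_ringEquiv (Ideal.quotientEquiv _ _ ε ?_)
    exact (Ideal.map_comap_of_surjective _ ε.surjective P₀).symm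
  haveI := hm.isPrime
  obtain ⟨a, b, ha, hb, hab⟩ := equidim_formula k (T d) d heq m
  haveI : IsField (T d ⧸ m) := (Ideal.Quotient.maximal_ideal_iff_isField_quotient m).mp hm
  have h0 : ringKrullDim (T d ⧸ m) = 0 := ringKrullDim_eq_zero_of_isField ‹_›
  rw [h0] at ha
  have ha0 : a = 0 := by exact_mod_cast ha.symm
  rw [hb]
  have : b = d := by omega
  exact_mod_cast this

end Groth.Agent.S9156
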