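import Groth.Statements.S9157
import Mathlib

set_option autoImplicit false
universe u
open CAlg

namespace Groth.Agent.S9157

section aux
variable {R : Type u} [CommRing R] (S : Submonoid R) {M : Type u} [AddCommGroup M] [Module R M]

lemma mk_one_mem_of_mk_mem (N : Submodule (Localization S) (LocalizedModule S M)) (m : M) (s : S)
    (h : LocalizedModule.mk m s ∈ N) : LocalizedModule.mk m 1 ∈ N := by
  have : (LocalizedModule.mk m 1 : LocalizedModule S M) =
      (Localization.mk (s : R) (1 : S)) • LocalizedModule.mk m s := by
    rw [LocalizedModule.mk_smul_mk, one_mul, ← Submonoid.smul_def, LocalizedModule.mk_cancel]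
  rw [this]
  exact N.smul_mem _ h

lemma mk_mem_of_mk_one_mem (N : Submodule (Localization S) (LocalizedModule S M)) (m : M) (s : S)
    (h : LocalizedModule.mk m 1 ∈ N) : LocalizedModule.mk m s ∈ N := by
  have : (LocalizedModule.mk m s : LocalizedModule S M) =
      (Localization.mk (1 : R) s) • LocalizedModule.mk m 1 := by
    rw [LocalizedModule.mk_smul_mk, one_smul, mul_one]
  rw [this]
  exact N.smul_mem _ h

end aux

/-- If the localization S⁻¹M of an R-module M is finitely presented over S⁻¹R, then some finitely
presented R-module M' maps to M inducing an isomorphism S⁻¹M' → S⁻¹M. -/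
theorem result (R : Type u) [CommRing R] (S : Submonoid R)
    (M : Type u) [AddCommGroup M] [Module R M]
    [Module.FinitePresentation (Localization S) (LocalizedModule S M)] :
    ∃ (M' : Type u) (_ : AddCommGroup M') (_ : Module R M') (φ : M' →ₗ[R] M),
      Module.FinitePresentation R M' ∧ Function.Bijective (LocalizedModule.map S φ) := by
  classical
  obtain ⟨σ, hσ⟩ := (inferInstance : Module.Finite (Localization S) (LocalizedModule S M))
  have hrep : ∀ x : LocalizedModule S M, ∃ (m : M) (s : S), x = LocalizedModule.mk m s := by
    intro x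
    induction x using LocalizedModule.induction_on with
    | h m s => exact ⟨m, s, rfl⟩
  choose num den hnd using hrep
  let π : (σ →₀ R) →ₗ[R] M := Finsupp.linearCombination R (fun i : σ => num i.1)
  have hπS : Function.Surjective (LocalizedModule.map S π) := by
    rw [← LinearMap.range_eq_top, eq_top_iff, ← hσ, Submodule.span_le]
    intro x hx
    rw [hnd x]
    apply mk_mem_of_mk_one_mem
    refine ⟨LocalizedModule.mk (Finsupp.single ⟨x, hx⟩ 1) 1, ?_⟩
    rw [LocalizedModule.map_mk]
    simp [π]
  have hker := @Module.FinitePresentation.fg_ker (Localization S) (LocalizedModule S (σ →₀ R))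
    (LocalizedModule S M) _ _ _ _ _ _ _ (LocalizedModule.map S π) hπS
  obtain ⟨τ, hτ⟩ := hker
  have hrep2 : ∀ k : LocalizedModule S (σ →₀ R), ∃ (r : σ →₀ R) (s : S),
      k = LocalizedModule.mk r s := by
    intro x
    induction x using LocalizedModule.induction_on with
    | h m s => exact ⟨m, s, rfl⟩
  choose num2 den2 hnd2 using hrep2
  have hkill : ∀ k : τ, ∃ t : S, π ((t : R) • num2 k.1) = 0 := by
    intro k
    have hk : k.1 ∈ LinearMap.ker (LocalizedModule.map S π) := by
      rw [← hτ]; exact Submodule.subset_span k.2
    rw [hnd2 k.1] at hk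
    have hk1 := mk_one_mem_of_mk_mem S _ _ _ hk
    rw [LinearMap.mem_ker, LocalizedModule.map_mk, ← LocalizedModule.zero_mk 1,
      LocalizedModule.mk_eq] at hk1
    obtain ⟨t, ht⟩ := hk1
    refine ⟨t, ?_⟩
    rw [map_smul]
    simpa [Submonoid.smul_def] using ht
  choose t ht using hkill
  let N : Submodule R (σ →₀ R) := Submodule.span R (Set.range fun k : τ => (t k : R) • num2 k.1)
  have hNle : N ≤ LinearMap.ker π := by
    rw [Submodule.span_le]
    rintro _ ⟨k, rfl⟩
    exact ht k
  refine ⟨(σ →₀ R) ⧸ N, inferInstance, inferInstance, N.liftQ π hNle, ?_, ?_⟩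
  · refine Module.finitePresentation_of_surjective N.mkQ N.mkQ_surjective ?_
    rw [Submodule.ker_mkQ]
    exact Submodule.fg_span (Set.finite_range _)
  · have hcomp : LocalizedModule.map S π =
        (LocalizedModule.map S (N.liftQ π hNle)) ∘ₗ (LocalizedModule.map S N.mkQ) := by
      ext x
      induction x using LocalizedModule.induction_on with
      | h m s => simp
    constructor
    · rw [injective_iff_map_eq_zero]
      intro y hy
      obtain ⟨z, rfl⟩ := LocalizedModule.map_surjective S N.mkQ N.mkQ_surjective y
      have hz : z ∈ LinearMap.ker (LocalizedModule.map S π) := by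
        rw [LinearMap.mem_ker, hcomp]; exact hy
      rw [← hτ] at hz
      have hle : Submodule.span (Localization S) (τ : Set (LocalizedModule S (σ →₀ R))) ≤
          LinearMap.ker (LocalizedModule.map S N.mkQ) := by
        rw [Submodule.span_le]
        intro k hk
        rw [hnd2 k]
        apply mk_mem_of_mk_one_mem
        have h1 : (LocalizedModule.mk (num2 k) 1 : LocalizedModule S (σ →₀ R)) =
            (Localization.mk (1 : R) (t ⟨k, hk⟩)) •
              LocalizedModule.mk ((t ⟨k, hk⟩ : R) • num2 k) 1 := by
          rw [LocalizedModule.mk_smul_mk, one_smul, mul_one, ← Submonoid.smul_def,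
            LocalizedModule.mk_cancel]
        rw [h1]
        apply Submodule.smul_mem
        rw [LinearMap.mem_ker, LocalizedModule.map_mk]
        have : N.mkQ ((t ⟨k, hk⟩ : R) • num2 k) = 0 := by
          rw [Submodule.mkQ_apply, Submodule.Quotient.mk_eq_zero]
          exact Submodule.subset_span ⟨⟨k, hk⟩, rfl⟩
        rw [this, LocalizedModule.zero_mk]
      exact hle hz
    · intro y
      obtain ⟨z, hz⟩ := hπS y
      exact ⟨LocalizedModule.map S N.mkQ z, by rw [← hz, hcomp]; rfl⟩
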