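import Groth.Statements.S9158
import Groth.Agent.Lib.Helper25.GFMod
import Groth.Agent.Lib.Helper25.GFAway

set_option autoImplicit false
universe u
open CAlg

namespace Groth.Agent.S9158

/-- Generic freeness over a reduced ring: let R → S be of finite type with R reduced and M a finite
S-module. There is a dense open subset U of Spec R such that each point of U lies in a basic open
D(f) ⊆ U with M_f and S_f free over R_f, S_f of finite presentation over R_f, and M_f of finite
presentation over S_f. -/
theorem result (R S : Type u) [CommRing R] [IsReduced R] [CommRing S]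
    [Algebra R S] [Algebra.FiniteType R S] (M : Type u) [AddCommGroup M] [Module S M] [Module R M]
    [IsScalarTower R S M] [Module.Finite S M] :
    ∃ U : Set (PrimeSpectrum R), IsOpen U ∧ Dense U ∧ ∀ u ∈ U, ∃ f : R, f ∉ u.asIdeal ∧
      (PrimeSpectrum.basicOpen f : Set (PrimeSpectrum R)) ⊆ U ∧
      Module.Free (Localization.Away f) (LocalizedModule (Submonoid.powers f) M) ∧
      Module.Free (Localization.Away f) (LocalizedModule (Submonoid.powers f) S) ∧
      (Localization.awayMap (algebraMap R S) f).FinitePresentation ∧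
      Module.FinitePresentation (Localization.Away (algebraMap R S f))
        (LocalizedModule (Submonoid.powers (algebraMap R S f)) M) := by
  let Pf : R → Prop := fun f =>
      Module.Free (Localization.Away f) (LocalizedModule (Submonoid.powers f) M) ∧
      Module.Free (Localization.Away f) (LocalizedModule (Submonoid.powers f) S) ∧
      (Localization.awayMap (algebraMap R S) f).FinitePresentation ∧
      Module.FinitePresentation (Localization.Away (algebraMap R S f))
        (LocalizedModule (Submonoid.powers (algebraMap R S f)) M)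
  have key : ∀ h : R, h ≠ 0 → ∃ g : R, h ∣ g ∧ g ≠ 0 ∧ Pf g := by
    intro h hh
    obtain ⟨g1, hd1, hg1, hGF1⟩ :=
      Groth.Agent.Lib.Helper25.GFMod.exists_GF R S M h hh
    obtain ⟨g2, hd2, hg2, hGF2⟩ :=
      Groth.Agent.Lib.Helper25.GFMod.exists_GF R S S g1 hg1
    obtain ⟨g3, hd3, hg3, hFP⟩ :=
      Groth.Agent.Lib.Helper25.GFMod.exists_algFP R S g2 hg2
    obtain ⟨hM1, hM2⟩ := hGF1 g3 (hd2.trans hd3)
    obtain ⟨hS1, -⟩ := hGF2 g3 hd3
    exact ⟨g3, hd1.trans (hd2.trans hd3), hg3, hM1, hS1,
      Groth.Agent.Lib.Helper25.GFAway.awayMap_finitePresentation g3 (hFP g3 dvd_rfl), hM2⟩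
  refine ⟨⋃ f ∈ {f : R | Pf f}, (PrimeSpectrum.basicOpen f : Set (PrimeSpectrum R)), ?_, ?_, ?_⟩
  · exact isOpen_biUnion (fun f _ => (PrimeSpectrum.basicOpen f).isOpen)
  · rw [dense_iff_inter_open]
    intro W hW ⟨x, hx⟩
    obtain ⟨_, ⟨h, rfl⟩, hxh, hhW⟩ :=
      PrimeSpectrum.isTopologicalBasis_basic_opens.exists_subset_of_mem_open hx hW
    have hh : h ≠ 0 := by
      rintro rfl
      exact hxh x.asIdeal.zero_mem
    obtain ⟨g, hd, hg, hPg⟩ := key h hh
    have hnil : ¬ IsNilpotent g := fun hn => hg (isNilpotent_iff_eq_zero.mp hn)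
    rw [nilpotent_iff_mem_prime] at hnil
    push Not at hnil
    obtain ⟨J, hJ, hgJ⟩ := hnil
    refine ⟨⟨J, hJ⟩, hhW ?_, ?_⟩
    · change h ∉ J
      intro hhJ
      obtain ⟨e, rfl⟩ := hd
      exact hgJ (Ideal.mul_mem_right _ _ hhJ)
    · exact Set.mem_biUnion (show g ∈ {f : R | Pf f} from hPg) hgJ
  · intro u hu
    obtain ⟨f, hf, huf⟩ := Set.mem_iUnion₂.mp hu
    exact ⟨f, huf, Set.subset_biUnion_of_mem (u := fun f => (PrimeSpectrum.basicOpen f :
      Set (PrimeSpectrum R))) hf, hf⟩


end Groth.Agent.S9158
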