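import Groth.Statements.S9159
import Mathlib
import Groth.Agent.Lib.Helper23.MiracleQF
-- import your own Groth.Agent.* helpers here

set_option autoImplicit false
universe u
open CAlg

namespace Groth.Agent.S9159

open IsLocalRing

open Groth.Agent.Lib.Helper23.MiracleQF

open Groth.Agent.Lib.Helper21.ChartPt

set_option maxHeartbeats 1000000 in

/-- Fix a field k, a k-algebra S of finite type, and a quasi-finite map of k-algebras k[y_1, …, y_d] →
S. A prime q of S has S_q flat over k[y_1, …, y_d] exactly when S_q is Cohen–Macaulay and Spec S has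
local dimension d at q. -/
theorem result (k S : Type u) [Field k] [CommRing S]
    [Algebra k S] [Algebra.FiniteType k S] (d : ℕ) [Algebra (MvPolynomial (Fin d) k) S]
    [IsScalarTower k (MvPolynomial (Fin d) k) S] [Algebra.QuasiFinite (MvPolynomial (Fin d) k) S]
    (q : Ideal S) [q.IsPrime] :
    Module.Flat (MvPolynomial (Fin d) k) (Localization.AtPrime q) ↔
      (LocCoh.IsCohenMacaulayLocalRing (Localization.AtPrime q) ∧
        FlatMor.localDim (PrimeSpectrum S) ⟨q, inferInstance⟩ = (d : WithBot ℕ∞)) := by
  haveI : IsNoetherianRing S := Algebra.FiniteType.isNoetherianRing k S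
  set p : Ideal (MvPolynomial (Fin d) k) := q.under (MvPolynomial (Fin d) k) with hp
  letI := Localization.AtPrime.algebraOfLiesOver p q
  haveI : IsNoetherianRing (Localization.AtPrime q) :=
    IsLocalization.isNoetherianRing q.primeCompl _ inferInstance
  haveI : IsNoetherianRing (Localization.AtPrime p) :=
    IsLocalization.isNoetherianRing p.primeCompl _ inferInstance
  haveI hlochom : IsLocalHom (algebraMap (Localization.AtPrime p) (Localization.AtPrime q)) :=
    Groth.Agent.Lib.Helper16.SyntStr.isLocalHom_algebraMap p q
  have hfib := fibre_dim_zero p q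
  obtain ⟨a, ha⟩ := exists_nat_ringKrullDim_quotient_eq k S q
  obtain ⟨b, hb⟩ := ENat.ne_top_iff_exists.mp (Ideal.height_ne_top (I := q) Ideal.IsPrime.ne_top')
  obtain ⟨c, hc⟩ := ENat.ne_top_iff_exists.mp (Ideal.height_ne_top (I := p) Ideal.IsPrime.ne_top')
  have hF2 := Groth.Agent.Lib.Helper23.SyntF.height_add_dim_quotient p
  rw [← dim_quotient_eq k (MvPolynomial (Fin d) k) S q, ha, ← hc] at hF2
  have hcad : c + a = d := by exact_mod_cast hF2
  have hld := localDim_primeSpectrum k S q a b ha hb.symm
  have hdimS : ringKrullDim (Localization.AtPrime q) = b := by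
    rw [IsLocalization.AtPrime.ringKrullDim_eq_height q (Localization.AtPrime q), ← hb]; rfl
  have hdimP : ringKrullDim (Localization.AtPrime p) = c := by
    rw [IsLocalization.AtPrime.ringKrullDim_eq_height p (Localization.AtPrime p), ← hc]; rfl
  have hflat_iff : Module.Flat (Localization.AtPrime p) (Localization.AtPrime q) ↔
      Module.Flat (MvPolynomial (Fin d) k) (Localization.AtPrime q) :=
    Module.flat_iff_of_isLocalization (Localization.AtPrime p) p.primeCompl _
  constructor
  · intro hfl
    haveI hfl' : Module.Flat (Localization.AtPrime p) (Localization.AtPrime q) := hflat_iff.mpr hfl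
    have h1 := Groth.Agent.Lib.Helper18.FlatLocal.ringKrullDim_eq_add_fibre_of_flat
      (Localization.AtPrime p) (Localization.AtPrime q)
    rw [hfib, add_zero, hdimS, hdimP] at h1
    have hbc : b = c := by exact_mod_cast h1
    refine ⟨?_, ?_⟩
    · haveI : LocCoh.IsCohenMacaulayRing (MvPolynomial (Fin d) k) :=
        Groth.Agent.Lib.Helper18.PMor.isCohenMacaulayRing_of_isRegularRing inferInstance
      haveI : LocCoh.IsCohenMacaulayRing (Localization.AtPrime q) := by
        apply Groth.Agent.Lib.Helper18.UCat.isCohenMacaulayRing_of_flat_of_fibres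
          (MvPolynomial (Fin d) k) (Localization.AtPrime q)
        intro p' _
        exact Groth.Agent.Lib.Helper18.FTCM.isCohenMacaulayRing_of_krullDimLE_zero _
      exact isCohenMacaulayLocalRing_of_ring _
    · rw [hld, ← hcad, hbc, add_comm]
  · rintro ⟨hCM, hd⟩
    rw [hld] at hd
    have hbc : b = c := by
      have : a + b = d := by exact_mod_cast hd
      omega
    apply hflat_iff.mp
    haveI : IsRegularLocalRing (Localization.AtPrime p) :=
      IsRegularRing.isRegularLocalRing_localization p
    apply Groth.Agent.Lib.Helper18.CM.miracle_flatness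
    rw [hfib, add_zero, hdimS, hdimP, hbc]

end Groth.Agent.S9159
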