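import Groth.Statements.S9160
import Mathlib

set_option autoImplicit false
universe u
open CAlg

namespace Groth.Agent.S9160

lemma length_quot_ne_top {R : Type u} [CommRing R] [IsNoetherianRing R]
    (hdim : ringKrullDim R = 1) (a : R) (ha : IsRegular a) :
    Module.length R (R ⧸ Ideal.span ({a} : Set R)) ≠ ⊤ := by
  have h1 := ringKrullDim_quotient_succ_le_of_nonZeroDivisor ha.mem_nonZeroDivisors
  rw [hdim] at h1
  have h0 : ringKrullDim (R ⧸ Ideal.span ({a} : Set R)) ≤ 0 := by
    generalize ringKrullDim (R ⧸ Ideal.span ({a} : Set R)) = x at h1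
    induction x with
    | bot => exact bot_le
    | coe n =>
      induction n with
      | top => exact absurd h1 (by decide)
      | coe k =>
        have : k + 1 ≤ 1 := by exact_mod_cast h1
        have hk : k = 0 := by omega
        subst hk
        exact le_rfl
  have hK : Ring.KrullDimLE 0 (R ⧸ Ideal.span ({a} : Set R)) := by
    rw [Ring.krullDimLE_iff]; exact_mod_cast h0
  have hA : IsArtinianRing (R ⧸ Ideal.span ({a} : Set R)) :=
    isArtinianRing_iff_krullDimLE_zero.mpr hK
  rw [Module.length_eq_of_surjective (S := R) (R := R ⧸ Ideal.span ({a} : Set R))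
    Ideal.Quotient.mk_surjective]
  exact Module.length_ne_top

/-- In a semi-local Noetherian ring of dimension one, for nonzerodivisors a and b the length of R/(ab)
is the sum of the lengths of R/(a) and R/(b), and these lengths are finite. -/
theorem result (R : Type u) [CommRing R] [IsNoetherianRing R]
    (hsemi : Finite (MaximalSpectrum R)) (hdim : ringKrullDim R = 1) (a b : R) (ha : IsRegular a)
    (hb : IsRegular b) :
    Module.length R (R ⧸ Ideal.span ({a * b} : Set R)) =
        Module.length R (R ⧸ Ideal.span ({a} : Set R)) + Module.length R (R ⧸ Ideal.span ({b} : Set R)) ∧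
      Module.length R (R ⧸ Ideal.span ({a} : Set R)) ≠ ⊤ ∧
      Module.length R (R ⧸ Ideal.span ({b} : Set R)) ≠ ⊤ := by
  refine ⟨?_, length_quot_ne_top hdim a ha, length_quot_ne_top hdim b hb⟩
  have hle1 : Ideal.span ({a} : Set R) ≤
      Submodule.comap (LinearMap.mulLeft R b) (Ideal.span ({a * b} : Set R)) := by
    rw [Ideal.span_le]
    intro x hx
    rw [Set.mem_singleton_iff] at hx
    subst hx
    simp only [Submodule.comap_coe, Set.mem_preimage, LinearMap.mulLeft_apply, SetLike.mem_coe]
    rw [mul_comm]
    exact Ideal.subset_span rfl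
  have hle2 : Ideal.span ({a * b} : Set R) ≤ Ideal.span ({b} : Set R) := by
    rw [Ideal.span_singleton_le_span_singleton]
    exact Dvd.intro_left a rfl
  let f : (R ⧸ Ideal.span ({a} : Set R)) →ₗ[R] (R ⧸ Ideal.span ({a * b} : Set R)) :=
    Submodule.mapQ _ _ (LinearMap.mulLeft R b) hle1
  let g : (R ⧸ Ideal.span ({a * b} : Set R)) →ₗ[R] (R ⧸ Ideal.span ({b} : Set R)) :=
    Submodule.factor hle2
  have hf : Function.Injective f := by
    rw [injective_iff_map_eq_zero]
    intro x hx
    obtain ⟨c, rfl⟩ := Submodule.mkQ_surjective _ x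
    simp only [f, Submodule.mkQ_apply, Submodule.mapQ_apply, LinearMap.mulLeft_apply] at hx
    rw [Submodule.Quotient.mk_eq_zero, Ideal.mem_span_singleton'] at hx
    obtain ⟨d, hd⟩ := hx
    rw [Submodule.mkQ_apply, Submodule.Quotient.mk_eq_zero, Ideal.mem_span_singleton']
    refine ⟨d, hb.left ?_⟩
    simp only
    rw [← hd]; ring
  have hg : Function.Surjective g := Submodule.factor_surjective hle2
  have hex : Function.Exact f g := by
    intro x
    obtain ⟨c, rfl⟩ := Submodule.mkQ_surjective _ x
    constructor
    · intro h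
      have h' : g (Submodule.mkQ _ c) = Submodule.mkQ _ c := Submodule.factor_mk hle2 c
      rw [h', Submodule.mkQ_apply, Submodule.Quotient.mk_eq_zero,
        Ideal.mem_span_singleton'] at h
      obtain ⟨d, hd⟩ := h
      refine ⟨Submodule.mkQ _ d, ?_⟩
      simp only [f, Submodule.mkQ_apply, Submodule.mapQ_apply, LinearMap.mulLeft_apply]
      rw [← hd, mul_comm d b]
    · rintro ⟨y, hy⟩
      obtain ⟨d, rfl⟩ := Submodule.mkQ_surjective _ y
      rw [← hy]
      have h1 : f (Submodule.mkQ _ d) = Submodule.mkQ _ (b * d) := rfl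
      have h' : g (Submodule.mkQ _ (b * d)) = Submodule.mkQ _ (b * d) :=
        Submodule.factor_mk hle2 (b * d)
      rw [h1, h', Submodule.mkQ_apply, Submodule.Quotient.mk_eq_zero]
      exact Ideal.mul_mem_right _ _ (Ideal.subset_span rfl)
  exact Module.length_eq_add_of_exact f g hf hg hex
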