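import Groth.Statements.S9161
import Mathlib.Tactic.Abel

set_option autoImplicit false
universe u
open CAlg

namespace Groth.Agent.S9161

/-- If two two-term complexes of R-modules A₁ → A₀ and B₁ → B₀ are homotopy equivalent (maps of
complexes both ways whose composites are homotopic to the identity maps), then A₁ ⊕ B₀ and B₁ ⊕ A₀
are isomorphic R-modules. -/
theorem result (R : Type u) [CommRing R]
    (A₁ A₀ B₁ B₀ : Type u) [AddCommGroup A₁] [Module R A₁] [AddCommGroup A₀] [Module R A₀]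
    [AddCommGroup B₁] [Module R B₁] [AddCommGroup B₀] [Module R B₀]
    (dA : A₁ →ₗ[R] A₀) (dB : B₁ →ₗ[R] B₀) (φ₁ : A₁ →ₗ[R] B₁) (φ₀ : A₀ →ₗ[R] B₀)
    (ψ₁ : B₁ →ₗ[R] A₁) (ψ₀ : B₀ →ₗ[R] A₀) (hφ : dB ∘ₗ φ₁ = φ₀ ∘ₗ dA) (hψ : dA ∘ₗ ψ₁ = ψ₀ ∘ₗ dB)
    (h : A₀ →ₗ[R] A₁) (hh₁ : LinearMap.id - ψ₁ ∘ₗ φ₁ = h ∘ₗ dA) (hh₀ : LinearMap.id - ψ₀ ∘ₗ φ₀ = dA ∘ₗ h)
    (h' : B₀ →ₗ[R] B₁) (hh'₁ : LinearMap.id - φ₁ ∘ₗ ψ₁ = h' ∘ₗ dB)
    (hh'₀ : LinearMap.id - φ₀ ∘ₗ ψ₀ = dB ∘ₗ h') :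
    Nonempty ((A₁ × B₀) ≃ₗ[R] (B₁ × A₀)) := by
  have e1 : ∀ a, a - ψ₁ (φ₁ a) = h (dA a) := fun a => LinearMap.congr_fun hh₁ a
  have e0 : ∀ a, a - ψ₀ (φ₀ a) = dA (h a) := fun a => LinearMap.congr_fun hh₀ a
  have e1' : ∀ b, b - φ₁ (ψ₁ b) = h' (dB b) := fun b => LinearMap.congr_fun hh'₁ b
  have e0' : ∀ b, b - φ₀ (ψ₀ b) = dB (h' b) := fun b => LinearMap.congr_fun hh'₀ b
  have cφ : ∀ a, dB (φ₁ a) = φ₀ (dA a) := fun a => LinearMap.congr_fun hφ a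
  have cψ : ∀ b, dA (ψ₁ b) = ψ₀ (dB b) := fun b => LinearMap.congr_fun hψ b
  let F : (A₁ × B₀) →ₗ[R] (B₁ × A₀) := LinearMap.prod (φ₁.coprod h') (dA.coprod (-ψ₀))
  have hF : ∀ a b, F (a, b) = (φ₁ a + h' b, dA a - ψ₀ b) := by
    intro a b
    simp [F, sub_eq_add_neg]
  refine ⟨LinearEquiv.ofBijective F ⟨?_, ?_⟩⟩
  · rw [injective_iff_map_eq_zero]
    rintro ⟨a, b⟩ hx
    rw [hF, Prod.mk_eq_zero] at hx
    obtain ⟨h1, h2⟩ := hx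
    have hb : b = 0 := by
      have h3 : dB (φ₁ a) + dB (h' b) = 0 := by rw [← map_add, h1, map_zero]
      rw [cφ, ← e0', sub_eq_zero.mp h2] at h3
      simpa using h3
    subst hb
    simp only [map_zero, add_zero, sub_zero] at h1 h2
    have := e1 a
    rw [h1, h2, map_zero, map_zero, sub_zero] at this
    rw [this]
    rfl
  · rintro ⟨b₁, a₀⟩
    set c : B₁ := b₁ - φ₁ (h a₀) + h' (φ₀ a₀) with hc
    refine ⟨(ψ₁ c + h a₀, dB c - φ₀ a₀), ?_⟩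
    rw [hF]
    refine Prod.ext ?_ ?_
    · simp only [map_add, map_sub]
      have h1 := e1' c
      have : φ₁ (ψ₁ c) + φ₁ (h a₀) + (h' (dB c) - h' (φ₀ a₀)) = c + φ₁ (h a₀) - h' (φ₀ a₀) := by
        rw [← h1]; abel
      rw [this, hc]; abel
    · simp only [map_add, map_sub]
      have h0 := e0 a₀
      rw [cψ, ← h0]; abel

end Groth.Agent.S9161
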