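import Groth.Statements.S9162
import Groth.Agent.S9161
import Mathlib.RingTheory.Extension.Cotangent.Basic
import Mathlib.RingTheory.Kaehler.Polynomial
import Mathlib.LinearAlgebra.TensorProduct.Basis

set_option autoImplicit false
universe u
open CAlg

namespace Groth.Agent.S9162

/-- Let S be an R-algebra and α : R[x_1, …, x_n] → S, β : R[y_1, …, y_m] → S surjective R-algebra maps
(presentations by polynomial rings in finitely many variables; the kernels I and J need not be
finitely generated). Then I/I² ⊕ S^m and J/J² ⊕ S^n are isomorphic S-modules. -/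
theorem result (R S : Type u) [CommRing R] [CommRing S]
    [Algebra R S] (n m : ℕ) (α : MvPolynomial (Fin n) R →ₐ[R] S) (hα : Function.Surjective α)
    (β : MvPolynomial (Fin m) R →ₐ[R] S) (hβ : Function.Surjective β) :
    Nonempty (((Algebra.Extension.ofSurjective α hα).Cotangent × (Fin m → S)) ≃ₗ[S]
      ((Algebra.Extension.ofSurjective β hβ).Cotangent × (Fin n → S))) := by
  classical
  let P := Algebra.Extension.ofSurjective α hα
  let Q := Algebra.Extension.ofSurjective β hβ
  choose a ha using fun i : Fin n => hβ (α (MvPolynomial.X i))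
  choose b hb using fun j : Fin m => hα (β (MvPolynomial.X j))
  let f₀ : MvPolynomial (Fin n) R →ₐ[R] MvPolynomial (Fin m) R := MvPolynomial.aeval a
  let g₀ : MvPolynomial (Fin m) R →ₐ[R] MvPolynomial (Fin n) R := MvPolynomial.aeval b
  have hf₀ : β.comp f₀ = α := MvPolynomial.algHom_ext (fun i => by simp [f₀, ha])
  have hg₀ : α.comp g₀ = β := MvPolynomial.algHom_ext (fun j => by simp [g₀, hb])
  let f : P.Hom Q := Algebra.Extension.Hom.ofAlgHom f₀
    (AlgHom.ext fun x => AlgHom.congr_fun hf₀ x)
  let g : Q.Hom P := Algebra.Extension.Hom.ofAlgHom g₀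
    (AlgHom.ext fun x => AlgHom.congr_fun hg₀ x)
  have key := Groth.Agent.S9161.result S P.Cotangent P.CotangentSpace Q.Cotangent Q.CotangentSpace
    P.cotangentComplex Q.cotangentComplex
    (Algebra.Extension.Cotangent.map f) (Algebra.Extension.CotangentSpace.map f)
    (Algebra.Extension.Cotangent.map g) (Algebra.Extension.CotangentSpace.map g)
    (Algebra.Extension.CotangentSpace.map_comp_cotangentComplex f).symm
    (Algebra.Extension.CotangentSpace.map_comp_cotangentComplex g).symm
    ((Algebra.Extension.Hom.id P).sub (g.comp f))
    (by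
      rw [← Algebra.Extension.Cotangent.map_sub_map, Algebra.Extension.Cotangent.map_id,
        Algebra.Extension.Cotangent.map_comp]
      rfl)
    (by
      have := Algebra.Extension.CotangentSpace.map_sub_map (Algebra.Extension.Hom.id P) (g.comp f)
      rw [Algebra.Extension.CotangentSpace.map_id, Algebra.Extension.CotangentSpace.map_comp] at this
      exact this)
    ((Algebra.Extension.Hom.id Q).sub (f.comp g))
    (by
      rw [← Algebra.Extension.Cotangent.map_sub_map, Algebra.Extension.Cotangent.map_id,
        Algebra.Extension.Cotangent.map_comp]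
      rfl)
    (by
      have := Algebra.Extension.CotangentSpace.map_sub_map (Algebra.Extension.Hom.id Q) (f.comp g)
      rw [Algebra.Extension.CotangentSpace.map_id, Algebra.Extension.CotangentSpace.map_comp] at this
      exact this)
  obtain ⟨e⟩ := key
  let bP : Module.Basis (Fin n) S P.CotangentSpace :=
    letI : Algebra (MvPolynomial (Fin n) R) S := α.toAlgebra
    (KaehlerDifferential.mvPolynomialBasis R (Fin n)).baseChange S
  let bQ : Module.Basis (Fin m) S Q.CotangentSpace :=
    letI : Algebra (MvPolynomial (Fin m) R) S := β.toAlgebra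
    (KaehlerDifferential.mvPolynomialBasis R (Fin m)).baseChange S
  exact ⟨(LinearEquiv.prodCongr (LinearEquiv.refl S _) bQ.equivFun.symm).trans
    (e.trans (LinearEquiv.prodCongr (LinearEquiv.refl S _) bP.equivFun))⟩

end Groth.Agent.S9162
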