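import Groth.Statements.S9163
import Mathlib

set_option autoImplicit false
universe u
open CAlg

namespace Groth.Agent.S9163

open Polynomial in
lemma isIntegral_of_coeffs_mem {R S : Type u} [CommRing R] [CommRing S] [Algebra R S]
    (T : Subalgebra ℤ R) (s : S) (p : R[X]) (hp : p.Monic)
    (h0 : Polynomial.eval₂ (algebraMap R S) s p = 0)
    (hc : ∀ n, p.coeff n ∈ T) : IsIntegral T s := by
  have hmem : p ∈ Polynomial.lifts (algebraMap T R) := by
    rw [Polynomial.lifts_iff_coeff_lifts]
    intro n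
    exact ⟨⟨p.coeff n, hc n⟩, rfl⟩
  obtain ⟨q, hq⟩ := hmem
  rw [Polynomial.coe_mapRingHom] at hq
  refine ⟨q, ?_, ?_⟩
  · apply Polynomial.monic_of_injective (f := algebraMap T R) Subtype.val_injective
    rw [hq]; exact hp
  · rw [IsScalarTower.algebraMap_eq T R S, ← Polynomial.eval₂_map, hq]
    exact h0

/-- If S is integral over R, then any finitely many elements of R and of S lie in a pair R₀ ⊆ R, S₀ ⊆ S
with R₀ a finite type ℤ-subalgebra, S₀ an R₀-subalgebra of S, and S₀ finite as an R₀-module; so R →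
S is the directed colimit of finite maps between finite type ℤ-algebras. -/
theorem result (R S : Type u) [CommRing R] [CommRing S] [Algebra R S]
    [Algebra.IsIntegral R S] (E : Finset R) (F : Finset S) :
    ∃ (R₀ : Subalgebra ℤ R) (S₀ : Subalgebra R₀ S), Algebra.FiniteType ℤ R₀ ∧ (E : Set R) ⊆ R₀ ∧
      (F : Set S) ⊆ S₀ ∧ Module.Finite R₀ S₀ := by
  classical
  have hint : ∀ s : S, ∃ p : Polynomial R, p.Monic ∧ Polynomial.eval₂ (algebraMap R S) s p = 0 :=
    fun s => Algebra.IsIntegral.isIntegral (R := R) s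
  choose P hPm hP0 using hint
  let G : Finset R := E ∪ F.biUnion (fun s => (P s).coeffs)
  let R₀ : Subalgebra ℤ R := Algebra.adjoin ℤ (G : Set R)
  have hG : (G : Set R) ⊆ R₀ := Algebra.subset_adjoin
  have hcoeff : ∀ s ∈ F, ∀ n, (P s).coeff n ∈ R₀ := by
    intro s hs n
    by_cases h : (P s).coeff n = 0
    · rw [h]; exact zero_mem _
    · apply hG
      simp only [G, Finset.coe_union, Set.mem_union, Finset.mem_coe, Finset.mem_biUnion]
      right
      exact ⟨s, hs, Polynomial.coeff_mem_coeffs h⟩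
  have hInt : ∀ s ∈ F, IsIntegral R₀ s := fun s hs =>
    isIntegral_of_coeffs_mem R₀ s (P s) (hPm s) (hP0 s) (hcoeff s hs)
  refine ⟨R₀, Algebra.adjoin R₀ (F : Set S), ?_, ?_, Algebra.subset_adjoin, ?_⟩
  · exact ⟨(Subalgebra.fg_top _).2 (Subalgebra.fg_adjoin_finset G)⟩
  · intro x hx
    apply hG
    simp only [G, Finset.coe_union, Set.mem_union, Finset.mem_coe]
    exact Or.inl hx
  · have := Algebra.finite_adjoin_of_finite_of_isIntegral (R := R₀) (s := (F : Set S))
      F.finite_toSet (fun s hs => hInt s hs)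
    exact this
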