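import Groth.Statements.S9164
import Mathlib

set_option autoImplicit false
universe u
open CAlg

namespace Groth.Agent.S9164

section general

variable {R : Type u} [CommRing R] [IsDomain R] [IsNoetherianRing R]

lemma isArtinianRing_quot (hdim : ringKrullDim R = 1) (a : R) (ha : a ≠ 0) :
    IsArtinianRing (R ⧸ Ideal.span ({a} : Set R)) := by
  have h1 := ringKrullDim_quotient_succ_le_of_nonZeroDivisor (mem_nonZeroDivisors_of_ne_zero ha)
  rw [hdim] at h1
  have h0 : ringKrullDim (R ⧸ Ideal.span ({a} : Set R)) ≤ 0 := by
    generalize ringKrullDim (R ⧸ Ideal.span ({a} : Set R)) = x at h1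
    induction x with
    | bot => exact bot_le
    | coe n =>
      induction n with
      | top => exact absurd h1 (by decide)
      | coe k =>
        have : k + 1 ≤ 1 := by exact_mod_cast h1
        have hk : k = 0 := by omega
        subst hk
        exact le_rfl
  have hK : Ring.KrullDimLE 0 (R ⧸ Ideal.span ({a} : Set R)) := by
    rw [Ring.krullDimLE_iff]; exact_mod_cast h0
  exact isArtinianRing_iff_krullDimLE_zero.mpr hK

/-- a finitely generated torsion module has finite length. -/
lemma length_ne_top_of_fg_torsion (hdim : ringKrullDim R = 1) (N : Type u) [AddCommGroup N]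
    [Module R N] [Module.Finite R N] (htors : ∀ x : N, ∃ r : R, r ≠ 0 ∧ r • x = 0) :
    Module.length R N ≠ ⊤ := by
  classical
  obtain ⟨r, hr0, hr⟩ : ∃ r : R, r ≠ 0 ∧ ∀ x : N, r • x = 0 := by
    obtain ⟨T, hT⟩ := (Module.Finite.fg_top : (⊤ : Submodule R N).FG)
    choose a ha0 ha using htors
    refine ⟨∏ t ∈ T, a t, Finset.prod_ne_zero_iff.mpr (fun t _ => ha0 t), ?_⟩
    intro x
    have hx : x ∈ Submodule.span R (T : Set N) := hT ▸ Submodule.mem_top
    refine Submodule.span_induction ?_ ?_ ?_ ?_ hx
    · intro t ht
      obtain ⟨c, hc⟩ := Finset.dvd_prod_of_mem a ht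
      rw [hc, mul_comm, mul_smul, ha, smul_zero]
    · exact smul_zero _
    · intro x y _ _ hx hy
      rw [smul_add, hx, hy, add_zero]
    · intro c x _ hx
      rw [smul_comm, hx, smul_zero]
  have htor : Module.IsTorsionBySet R N (Ideal.span {r} : Ideal R) := by
    rw [← Ideal.submodule_span_eq, Module.isTorsionBySet_span_singleton_iff]
    intro x
    exact hr x
  let _ := htor.module
  have : IsArtinianRing (R ⧸ Ideal.span ({r} : Set R)) := isArtinianRing_quot hdim r hr0
  have : Module.Finite (R ⧸ Ideal.span ({r} : Set R)) N :=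
    Module.Finite.of_restrictScalars_finite R _ N
  rw [Module.length_eq_of_surjective (S := R) (R := R ⧸ Ideal.span ({r} : Set R))
    Ideal.Quotient.mk_surjective]
  exact Module.length_ne_top

lemma exists_pow_smul_eq_zero [IsLocalRing R] (N : Type u) [AddCommGroup N] [Module R N]
    (hN : Module.length R N ≠ ⊤) (r : R) (hr : r ∈ IsLocalRing.maximalIdeal R) (x : N) :
    ∃ n : ℕ, r ^ n • x = 0 := by
  have hfl : IsFiniteLength R N := Module.length_ne_top_iff.mp hN
  have hA : IsArtinian R N := (isFiniteLength_iff_isNoetherian_isArtinian.mp hfl).2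
  obtain ⟨n, y, hy⟩ := IsArtinian.exists_pow_succ_smul_dvd r
    (⟨x, Submodule.mem_span_singleton_self x⟩ : Submodule.span R {x})
  obtain ⟨a, ha⟩ := Submodule.mem_span_singleton.mp y.2
  refine ⟨n, ?_⟩
  have h1 : r ^ (n + 1) • (a • x) = r ^ n • x := by
    have := congrArg Subtype.val hy
    simpa [← ha] using this
  have hu : IsUnit (1 - r * a) :=
    IsLocalRing.isUnit_one_sub_self_of_mem_nonunits _ (Ideal.mul_mem_right _ _ hr)
  have h2 : (1 - r * a) • (r ^ n • x) = 0 := by
    have h3 : (r * a) • (r ^ n • x) = r ^ (n + 1) • (a • x) := by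
      rw [smul_smul, smul_smul]
      congr 1
      ring
    rw [sub_smul, one_smul, sub_eq_zero, h3, h1]
  exact (hu.smul_eq_zero).mp h2

variable {K V : Type u} [Field K] [Algebra R K] [IsFractionRing R K] [AddCommGroup V]
  [Module K V] [Module R V] [IsScalarTower R K V]

lemma exists_ne_zero_smul_mem (L : Submodule R V)
    (hL : Submodule.span K (L : Set V) = ⊤) (v : V) : ∃ r : R, r ≠ 0 ∧ r • v ∈ L := by
  have hv : v ∈ Submodule.span K (L : Set V) := hL ▸ Submodule.mem_top
  refine Submodule.span_induction ?_ ?_ ?_ ?_ hv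
  · intro x hx
    exact ⟨1, one_ne_zero, by simpa using hx⟩
  · exact ⟨1, one_ne_zero, by simp⟩
  · rintro x y _ _ ⟨r, hr, hx⟩ ⟨s, hs, hy⟩
    refine ⟨r * s, mul_ne_zero hr hs, ?_⟩
    rw [smul_add]
    refine L.add_mem ?_ ?_
    · rw [mul_comm, mul_smul]
      exact L.smul_mem _ hx
    · rw [mul_smul]
      exact L.smul_mem _ hy
  · rintro c x _ ⟨r, hr, hx⟩
    obtain ⟨a, s, hs, rfl⟩ := IsFractionRing.div_surjective (A := R) c
    have hs0 : s ≠ 0 := nonZeroDivisors.ne_zero hs
    refine ⟨s * r, mul_ne_zero hs0 hr, ?_⟩
    have : (s * r) • ((algebraMap R K a / algebraMap R K s) • x) = a • (r • x) := by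
      rw [← algebraMap_smul K (s * r), ← algebraMap_smul K a, ← algebraMap_smul K r,
        smul_smul, smul_smul, map_mul]
      congr 1
      have : algebraMap R K s ≠ 0 :=
        (map_ne_zero_iff _ (IsFractionRing.injective R K)).mpr hs0
      field_simp
    rw [this]
    exact L.smul_mem _ hx

lemma span_eq_top_of_forall_exists (M L : Submodule R V)
    (hM : Submodule.span K (M : Set V) = ⊤)
    (h : ∀ v ∈ M, ∃ r : R, r ≠ 0 ∧ r • v ∈ L) : Submodule.span K (L : Set V) = ⊤ := by
  rw [eq_top_iff, ← hM, Submodule.span_le]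
  intro v hv
  obtain ⟨r, hr, hrv⟩ := h v hv
  have hr' : algebraMap R K r ≠ 0 := (map_ne_zero_iff _ (IsFractionRing.injective R K)).mpr hr
  have : v = (algebraMap R K r)⁻¹ • (r • v) := by
    rw [← algebraMap_smul K r v, smul_smul, inv_mul_cancel₀ hr', one_smul]
  rw [this]
  exact Submodule.smul_mem _ _ (Submodule.subset_span hrv)

end general

/-- Let R be a one-dimensional Noetherian local domain with fraction field K and V a finite-dimensional
K-vector space; a lattice is a finitely generated R-submodule of V spanning V over K. (1) For a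
lattice M and an R-submodule M' ⊇ M: M' is a lattice iff M'/M has finite length over R iff M' is
finitely generated. (2) For a lattice M and M' ⊆ M: M' is a lattice iff M/M' has finite length. (3)
The intersection of two lattices is a lattice. (The published statement also asserts that the sum M
+ M' of two lattices is a lattice and two identities between lengths of quotients of nested
lattices; this row states (1), (2) and the intersection half of (3).) -/
theorem result (R K V : Type u) [CommRing R] [IsDomain R]
    [IsNoetherianRing R] [IsLocalRing R] (hdim : ringKrullDim R = 1) [Field K] [Algebra R K]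
    [IsFractionRing R K] [AddCommGroup V] [Module K V] [Module R V] [IsScalarTower R K V]
    [FiniteDimensional K V] (M : Submodule R V) [Submodule.IsLattice K M] :
    (∀ M' : Submodule R V, M ≤ M' →
        (Submodule.IsLattice K M' ↔ Module.length R (M' ⧸ Submodule.comap M'.subtype M) ≠ ⊤) ∧
          (Submodule.IsLattice K M' ↔ M'.FG)) ∧
      (∀ M' : Submodule R V, M' ≤ M →
        (Submodule.IsLattice K M' ↔ Module.length R (M ⧸ Submodule.comap M.subtype M') ≠ ⊤)) ∧
      ∀ M' : Submodule R V, Submodule.IsLattice K M' → Submodule.IsLattice K (M ⊓ M') := by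
  classical
  have hMfg : M.FG := Submodule.IsLattice.fg (A := K)
  have hMspan : Submodule.span K (M : Set V) = ⊤ := Submodule.IsLattice.span_eq_top
  have hMfin : Module.Finite R M := Module.Finite.iff_fg.mpr hMfg
  have hMnoeth : IsNoetherian R M := isNoetherian_of_isNoetherianRing_of_finite R M
  obtain ⟨ϖ, hϖm, hϖ0⟩ : ∃ ϖ ∈ IsLocalRing.maximalIdeal R, ϖ ≠ 0 := by
    by_contra hcon
    push Not at hcon
    have hbot : IsLocalRing.maximalIdeal R = ⊥ := by
      rw [eq_bot_iff]
      intro x hx
      exact hcon x hx
    have hfield : IsField R := IsLocalRing.isField_iff_maximalIdeal_eq.mpr hbot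
    have h0 := ringKrullDim_eq_zero_of_isField hfield
    rw [hdim] at h0
    exact absurd h0 (by decide)
  refine ⟨?_, ?_, ?_⟩
  · intro M' hle
    have h2 : Submodule.IsLattice K M' ↔ M'.FG :=
      ⟨fun h => h.fg, fun h => Submodule.IsLattice.of_le_of_isLattice_of_fg K hle h⟩
    refine ⟨?_, h2⟩
    constructor
    · intro hlat
      have : Module.Finite R M' := Module.Finite.iff_fg.mpr hlat.fg
      apply length_ne_top_of_fg_torsion hdim
      intro x
      obtain ⟨x, rfl⟩ := Submodule.mkQ_surjective _ x
      obtain ⟨r, hr0, hr⟩ := exists_ne_zero_smul_mem (K := K) M hMspan (x : V)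
      refine ⟨r, hr0, ?_⟩
      rw [← map_smul, Submodule.mkQ_apply, Submodule.Quotient.mk_eq_zero]
      exact hr
    · intro hlen
      rw [h2]
      have hfl : IsFiniteLength R (M' ⧸ Submodule.comap M'.subtype M) :=
        Module.length_ne_top_iff.mp hlen
      have hNoeth : IsNoetherian R (M' ⧸ Submodule.comap M'.subtype M) :=
        (isFiniteLength_iff_isNoetherian_isArtinian.mp hfl).1
      have hq : Module.Finite R (M' ⧸ Submodule.comap M'.subtype M) := inferInstance
      have hs : Module.Finite R (Submodule.comap M'.subtype M) :=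
        Module.Finite.equiv (Submodule.comapSubtypeEquivOfLe hle).symm
      have : Module.Finite R M' :=
        Module.Finite.of_submodule_quotient (Submodule.comap M'.subtype M)
      exact Module.Finite.iff_fg.mp this
  · intro M' hle
    constructor
    · intro hlat
      apply length_ne_top_of_fg_torsion hdim
      intro x
      obtain ⟨x, rfl⟩ := Submodule.mkQ_surjective _ x
      obtain ⟨r, hr0, hr⟩ := exists_ne_zero_smul_mem (K := K) M' hlat.span_eq_top (x : V)
      refine ⟨r, hr0, ?_⟩
      rw [← map_smul, Submodule.mkQ_apply, Submodule.Quotient.mk_eq_zero]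
      exact hr
    · intro hlen
      refine ⟨?_, ?_⟩
      · have : IsNoetherian R M' := isNoetherian_of_le hle
        exact Module.Finite.iff_fg.mp inferInstance
      · apply span_eq_top_of_forall_exists M M' hMspan
        intro v hv
        obtain ⟨n, hn⟩ := exists_pow_smul_eq_zero _ hlen ϖ hϖm
          (Submodule.mkQ (Submodule.comap M.subtype M') ⟨v, hv⟩)
        refine ⟨ϖ ^ n, pow_ne_zero n hϖ0, ?_⟩
        rw [← map_smul, Submodule.mkQ_apply, Submodule.Quotient.mk_eq_zero] at hn
        exact hn
  · intro M' hlat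
    refine ⟨?_, ?_⟩
    · have : IsNoetherian R (M ⊓ M' : Submodule R V) := isNoetherian_of_le inf_le_left
      exact Module.Finite.iff_fg.mp inferInstance
    · apply span_eq_top_of_forall_exists M (M ⊓ M') hMspan
      intro v hv
      obtain ⟨r, hr0, hr⟩ := exists_ne_zero_smul_mem (K := K) M' hlat.span_eq_top v
      exact ⟨r, hr0, M.smul_mem r hv, hr⟩

end Groth.Agent.S9164
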