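import Groth.Statements.S9166
import Mathlib

set_option autoImplicit false
universe u
open CAlg

namespace Groth.Agent.S9166

open TensorProduct

/-- The kernel of a surjection from a finite type algebra onto a finitely presented algebra is
finitely generated. -/
theorem ker_fg_of_surj {R A B : Type*} [CommRing R] [CommRing A] [CommRing B]
    [Algebra R A] [Algebra R B] [Algebra.FiniteType R A] [Algebra.FinitePresentation R B]
    (f : A →ₐ[R] B) (hf : Function.Surjective f) : (RingHom.ker f.toRingHom).FG := by
  obtain ⟨n, g, hg⟩ := Algebra.FiniteType.iff_quotient_mvPolynomial''.mp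
    (inferInstance : Algebra.FiniteType R A)
  convert (Algebra.FinitePresentation.ker_fg_of_mvPolynomial (f.comp g) (hf.comp hg)).map
    g.toRingHom
  simp_rw [RingHom.ker_eq_comap_bot, AlgHom.toRingHom_eq_coe, AlgHom.comp_toRingHom]
  rw [← Ideal.comap_comap, Ideal.map_comap_of_surjective (g : MvPolynomial (Fin n) R →+* A) hg]

lemma one_tmul_eq_zero_iff {R : Type*} [CommRing R] (I : Ideal R) {N : Type*} [AddCommGroup N]
    [Module R N] (x : N) :
    ((1 : R ⧸ I) ⊗ₜ[R] x = 0) ↔ x ∈ (I • ⊤ : Submodule R N) := by
  rw [← (TensorProduct.quotTensorEquivQuotSMul N I).map_eq_zero_iff,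
    TensorProduct.quotTensorEquivQuotSMul_mk_one_tmul, Submodule.Quotient.mk_eq_zero]

/-- Let I be an ideal of a ring R, S → S' a surjective homomorphism of R-algebras with S of finite type
and S' of finite presentation over R, and q a prime of S containing IS. Assume S'_q is flat over R
and that S_q/IS_q → S'_q/IS'_q is an isomorphism, which for a surjection says: every element of the
kernel of S → S' maps into I·S_q. Then for some g ∉ q the localized map S_g → S'_g is bijective. -/
theorem result (R S S' : Type u) [CommRing R] [CommRing S]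
    [CommRing S'] [Algebra R S] [Algebra R S'] [Algebra.FiniteType R S] [Algebra.FinitePresentation R S']
    (I : Ideal R) (f : S →ₐ[R] S') (hf : Function.Surjective f) (q : Ideal S) [q.IsPrime]
    (hq : I.map (algebraMap R S) ≤ q)
    (hker : ∀ j : S, f j = 0 →
      algebraMap S (Localization.AtPrime q) j ∈ I.map (algebraMap R (Localization.AtPrime q)))
    (hflat : letI : Module S S' := f.toRingHom.toModule
      Module.Flat R (LocalizedModule q.primeCompl S')) :
    ∃ g : S, g ∉ q ∧ Function.Bijective (Localization.awayMap f.toRingHom g) := by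
  classical
  let modS : Module S S' := f.toRingHom.toModule
  have hflat' : Module.Flat R (LocalizedModule q.primeCompl S') := hflat
  let J : Ideal S := RingHom.ker f.toRingHom
  have hJfg : J.FG := ker_fg_of_surj f hf
  let fL : S →ₗ[S] S' :=
    { toFun := f
      map_add' := map_add f
      map_smul' := fun s x => map_mul f s x }
  have hfL_surj : Function.Surjective fL := hf
  have hex : Function.Exact J.subtype fL := by
    intro x
    constructor
    · intro hx
      exact ⟨⟨x, hx⟩, rfl⟩
    · rintro ⟨y, rfl⟩
      exact y.2
  let A := Localization.AtPrime q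
  let g' : LocalizedModule q.primeCompl J →ₗ[S] A :=
    IsLocalizedModule.map q.primeCompl (LocalizedModule.mkLinearMap q.primeCompl J)
      (Algebra.linearMap S A) J.subtype
  let f' : A →ₗ[S] LocalizedModule q.primeCompl S' :=
    IsLocalizedModule.map q.primeCompl (Algebra.linearMap S A)
      (LocalizedModule.mkLinearMap q.primeCompl S') fL
  have hex' : Function.Exact g' f' := IsLocalizedModule.map_exact q.primeCompl _ _ _ _ _ hex
  have hg' : Function.Injective g' :=
    IsLocalizedModule.map_injective q.primeCompl _ _ J.subtype J.injective_subtype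
  have hf' : Function.Surjective f' :=
    IsLocalizedModule.map_surjective q.primeCompl _ _ fL hfL_surj
  have hinj := LinearMap.lTensor_injective_of_exact_of_flat (f'.restrictScalars R) hf'
    (g'.restrictScalars R) hg' hex' (R ⧸ I)
  have hg'mk : ∀ j : J, g' (LocalizedModule.mk j 1) = algebraMap S A j := by
    intro j
    have := IsLocalizedModule.map_apply q.primeCompl (LocalizedModule.mkLinearMap q.primeCompl J)
      (Algebra.linearMap S A) J.subtype j
    rw [LocalizedModule.mkLinearMap_apply] at this
    exact this
  -- key claim: mk j 1 ∈ I • ⊤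
  have key : ∀ j : J, (LocalizedModule.mk j 1 : LocalizedModule q.primeCompl J) ∈
      (I • ⊤ : Submodule R (LocalizedModule q.primeCompl J)) := by
    intro j
    rw [← one_tmul_eq_zero_iff]
    apply hinj
    rw [map_zero, LinearMap.lTensor_tmul, LinearMap.restrictScalars_apply, hg'mk,
      one_tmul_eq_zero_iff, Ideal.smul_top_eq_map]
    exact hker j j.2
  have hIm : ∀ r ∈ I, algebraMap R A r ∈ IsLocalRing.maximalIdeal A := by
    intro r hr
    rw [IsScalarTower.algebraMap_apply R S A, IsLocalization.AtPrime.to_map_mem_maximal_iff A q]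
    exact hq (Ideal.mem_map_of_mem _ hr)
  have hmk1 : ∀ j : J, (LocalizedModule.mk j 1 : LocalizedModule q.primeCompl J) ∈
      (IsLocalRing.maximalIdeal A • ⊤ : Submodule A (LocalizedModule q.primeCompl J)) := by
    intro j
    have hle : (I • ⊤ : Submodule R (LocalizedModule q.primeCompl J)) ≤
        (IsLocalRing.maximalIdeal A • ⊤ :
          Submodule A (LocalizedModule q.primeCompl J)).restrictScalars R := by
      rw [Submodule.smul_le]
      intro r hr y _
      rw [Submodule.restrictScalars_mem, ← algebraMap_smul A r y]
      exact Submodule.smul_mem_smul (hIm r hr) Submodule.mem_top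
    exact hle (key j)
  have : Module.Finite S J := Module.Finite.iff_fg.mpr hJfg
  have htop : (⊤ : Submodule A (LocalizedModule q.primeCompl J)) ≤
      IsLocalRing.maximalIdeal A • ⊤ := by
    intro x _
    induction x using LocalizedModule.induction_on with
    | h j s =>
      have : (LocalizedModule.mk j s : LocalizedModule q.primeCompl J) =
          (Localization.mk (1 : S) s) • LocalizedModule.mk j 1 := by
        rw [LocalizedModule.mk_smul_mk, one_smul, mul_one]
      rw [this]
      exact Submodule.smul_mem _ _ (hmk1 j)
  have hbot : (⊤ : Submodule A (LocalizedModule q.primeCompl J)) = ⊥ :=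
    Submodule.eq_bot_of_le_smul_of_le_jacobson_bot (IsLocalRing.maximalIdeal A) ⊤
      Module.Finite.fg_top htop (IsLocalRing.maximalIdeal_le_jacobson ⊥)
  have hzero : ∀ j : J, ∃ g : S, g ∉ q ∧ g * (j : S) = 0 := by
    intro j
    have h0 : (LocalizedModule.mk j 1 : LocalizedModule q.primeCompl J) = 0 := by
      have : (LocalizedModule.mk j 1 : LocalizedModule q.primeCompl J) ∈
          (⊤ : Submodule A (LocalizedModule q.primeCompl J)) := Submodule.mem_top
      rw [hbot] at this
      exact this
    rw [← LocalizedModule.zero_mk 1, LocalizedModule.mk_eq] at h0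
    obtain ⟨u, hu⟩ := h0
    refine ⟨u.1, u.2, ?_⟩
    have := congrArg Subtype.val hu
    simpa [Submonoid.smul_def] using this
  obtain ⟨T, hT⟩ := hJfg
  choose! gg hgg1 hgg2 using fun t (ht : t ∈ J) => hzero ⟨t, ht⟩
  have hTJ : ∀ t ∈ T, t ∈ J := fun t ht => hT ▸ Ideal.subset_span ht
  let g : S := ∏ t ∈ T, gg t
  have hgq : g ∉ q := by
    intro hmem
    obtain ⟨t, ht, htq⟩ := (Ideal.IsPrime.prod_mem_iff).mp hmem
    exact hgg1 t (hTJ t ht) htq
  have hgJ : ∀ j ∈ J, g * j = 0 := by
    intro j hj
    rw [← hT] at hj
    refine Submodule.span_induction ?_ ?_ ?_ ?_ hj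
    · intro t ht
      obtain ⟨c, hc⟩ := Finset.dvd_prod_of_mem gg ht
      rw [show g = gg t * c from hc, mul_comm (gg t) c, mul_assoc, hgg2 t (hTJ t ht), mul_zero]
    · exact mul_zero g
    · intro x y _ _ hx hy
      rw [mul_add, hx, hy, add_zero]
    · intro a x _ hx
      rw [smul_eq_mul, mul_left_comm, hx, mul_zero]
  refine ⟨g, hgq, ?_, ?_⟩
  · rw [Localization.awayMap_injective_iff]
    intro a ha
    exact ⟨1, by rw [pow_one]; exact hgJ a ha⟩
  · rw [Localization.awayMap_surjective_iff]
    intro a
    obtain ⟨b, hb⟩ := hf a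
    exact ⟨b, 0, by rw [pow_zero, one_mul]; exact hb⟩
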