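import Groth.Statements.S9167
import Mathlib

set_option autoImplicit false
universe u
open CAlg

namespace Groth.Agent.S9167

section aux

variable {R : Type u} [CommRing R] (I : Ideal R) (S : Submonoid R)

local notation "T" => S.map (Ideal.Quotient.mk I)
local notation "R'" => Localization (S.map (Ideal.Quotient.mk I))

/-- clearing denominators of a finite family of elements of `R' = T⁻¹(R/I)`, with numerators and
denominator taken in `R`. -/
lemma exists_common_denom {ι : Type*} [Finite ι] (f : ι → R') :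
    ∃ (s : R) (_ : s ∈ S) (r : ι → R), ∀ i, algebraMap R R' (r i) = algebraMap R R' s * f i := by
  obtain ⟨b, hb⟩ := IsLocalization.exist_integer_multiples_of_finite T f
  obtain ⟨s, hsS, hs⟩ : ∃ s ∈ S, Ideal.Quotient.mk I s = (b : R ⧸ I) := b.2
  choose a ha using hb
  choose r hr using fun i => Ideal.Quotient.mk_surjective (a i)
  refine ⟨s, hsS, r, fun i => ?_⟩
  rw [IsScalarTower.algebraMap_apply R (R ⧸ I) R', IsScalarTower.algebraMap_apply R (R ⧸ I) R',
    Ideal.Quotient.algebraMap_eq, hr, ha, hs, Algebra.smul_def]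

lemma isUnit_algebraMap_of_mem {s : R} (hs : s ∈ S) : IsUnit (algebraMap R R' s) := by
  rw [IsScalarTower.algebraMap_apply R (R ⧸ I) R']
  exact IsLocalization.map_units R' (⟨Ideal.Quotient.mk I s, Submonoid.mem_map_of_mem _ hs⟩ : T)

lemma exists_mul_mem_of_algebraMap_eq_zero {ι : Type*} [Finite ι] (z : ι → R)
    (hz : ∀ i, algebraMap R R' (z i) = 0) : ∃ s ∈ S, ∀ i, s * z i ∈ I := by
  classical
  cases nonempty_fintype ι
  have h1 : ∀ i, ∃ s ∈ S, s * z i ∈ I := by
    intro i
    have := hz i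
    rw [IsScalarTower.algebraMap_apply R (R ⧸ I) R', IsLocalization.map_eq_zero_iff T] at this
    obtain ⟨t, ht⟩ := this
    obtain ⟨s, hsS, hs⟩ : ∃ s ∈ S, Ideal.Quotient.mk I s = (t : R ⧸ I) := t.2
    refine ⟨s, hsS, ?_⟩
    rw [← Ideal.Quotient.eq_zero_iff_mem, map_mul, hs]
    exact ht
  choose s hsS hs using h1
  refine ⟨∏ i, s i, Submonoid.prod_mem _ (fun i _ => hsS i), fun i => ?_⟩
  obtain ⟨c, hc⟩ := Finset.dvd_prod_of_mem s (Finset.mem_univ i)
  rw [hc, mul_comm (s i) c, mul_assoc]
  exact I.mul_mem_left _ (hs i)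

end aux

/-- With R' = S⁻¹(R/I), every finitely presented R'-module is of the form S⁻¹(M/IM) for some finitely
presented R-module M. -/
theorem result (R : Type u) [CommRing R] (I : Ideal R)
    (S : Submonoid R) (M' : Type u) [AddCommGroup M']
    [Module (Localization (S.map (Ideal.Quotient.mk I))) M']
    [Module.FinitePresentation (Localization (S.map (Ideal.Quotient.mk I))) M'] :
    ∃ (M : Type u) (_ : AddCommGroup M) (_ : Module R M), Module.FinitePresentation R M ∧
      Nonempty (LocalizedModule (S.map (Ideal.Quotient.mk I)) (M ⧸ (I • ⊤ : Submodule R M))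
        ≃ₗ[Localization (S.map (Ideal.Quotient.mk I))] M') := by
  classical
  obtain ⟨n, K, e, hK⟩ := Module.FinitePresentation.exists_fin
    (Localization (S.map (Ideal.Quotient.mk I))) M'
  obtain ⟨m, k, hk⟩ := Submodule.fg_iff_exists_fin_generating_family.mp hK
  obtain ⟨s₀, hs₀S, r, hr⟩ := exists_common_denom I S (fun p : Fin m × Fin n => k p.1 p.2)
  let ψ : (Fin n → R) →ₗ[R] (Fin n → Localization (S.map (Ideal.Quotient.mk I))) :=
    (Algebra.linearMap R (Localization (S.map (Ideal.Quotient.mk I)))).compLeft (Fin n)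
  let v : Fin m → (Fin n → R) := fun j i => r (j, i)
  have hψv : ∀ j, ψ (v j) = algebraMap R (Localization (S.map (Ideal.Quotient.mk I))) s₀ • k j := by
    intro j
    funext i
    simp only [ψ, v, LinearMap.compLeft_apply, Function.comp_apply, Algebra.linearMap_apply,
      Pi.smul_apply, smul_eq_mul]
    exact hr (j, i)
  have hu := isUnit_algebraMap_of_mem I S hs₀S
  have hK' : K = Submodule.span (Localization (S.map (Ideal.Quotient.mk I)))
      (Set.range fun j => ψ (v j)) := by
    rw [← hk]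
    apply le_antisymm
    · rw [Submodule.span_le]
      rintro _ ⟨j, rfl⟩
      have : k j = (hu.unit⁻¹ : (Localization (S.map (Ideal.Quotient.mk I)))ˣ).1 • ψ (v j) := by
        rw [hψv, smul_smul, IsUnit.val_inv_mul, one_smul]
      rw [this]
      exact Submodule.smul_mem _ _ (Submodule.subset_span ⟨j, rfl⟩)
    · rw [Submodule.span_le]
      rintro _ ⟨j, rfl⟩
      simp only [hψv]
      exact Submodule.smul_mem _ _ (Submodule.subset_span ⟨j, rfl⟩)
  -- the module `M`
  let N : Submodule R (Fin n → R) := Submodule.span R (Set.range v)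
  have hfp : Module.FinitePresentation R ((Fin n → R) ⧸ N) := by
    refine Module.finitePresentation_of_surjective N.mkQ N.mkQ_surjective ?_
    rw [Submodule.ker_mkQ]
    exact Submodule.fg_span (Set.finite_range _)
  refine ⟨(Fin n → R) ⧸ N, inferInstance, inferInstance, hfp, ?_⟩
  -- the comparison map
  let θ₀ : (Fin n → R) →ₗ[R] ((Fin n → Localization (S.map (Ideal.Quotient.mk I))) ⧸ K) :=
    (K.mkQ.restrictScalars R) ∘ₗ ψ
  have hθ₀ : N ≤ LinearMap.ker θ₀ := by
    rw [Submodule.span_le]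
    rintro _ ⟨j, rfl⟩
    simp only [θ₀, SetLike.mem_coe, LinearMap.mem_ker, LinearMap.comp_apply,
      LinearMap.restrictScalars_apply, Submodule.mkQ_apply, Submodule.Quotient.mk_eq_zero]
    rw [hK']
    exact Submodule.subset_span ⟨j, rfl⟩
  let θ₁ : ((Fin n → R) ⧸ N) →ₗ[R] ((Fin n → Localization (S.map (Ideal.Quotient.mk I))) ⧸ K) :=
    N.liftQ θ₀ hθ₀
  have hI0 : ∀ a ∈ I, algebraMap R (Localization (S.map (Ideal.Quotient.mk I))) a = 0 := by
    intro a ha
    rw [IsScalarTower.algebraMap_apply R (R ⧸ I), Ideal.Quotient.algebraMap_eq,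
      Ideal.Quotient.eq_zero_iff_mem.mpr ha, map_zero]
  have hθ₁ : (I • ⊤ : Submodule R ((Fin n → R) ⧸ N)) ≤ LinearMap.ker θ₁ := by
    rw [Submodule.smul_le]
    intro a ha x _
    rw [LinearMap.mem_ker, map_smul, ← algebraMap_smul (Localization (S.map (Ideal.Quotient.mk I))),
      hI0 a ha, zero_smul]
  let θ₂ : (((Fin n → R) ⧸ N) ⧸ (I • ⊤ : Submodule R ((Fin n → R) ⧸ N))) →ₗ[R]
      ((Fin n → Localization (S.map (Ideal.Quotient.mk I))) ⧸ K) :=
    (I • ⊤ : Submodule R ((Fin n → R) ⧸ N)).liftQ θ₁ hθ₁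
  let θ : (((Fin n → R) ⧸ N) ⧸ (I • ⊤ : Submodule R ((Fin n → R) ⧸ N))) →ₗ[R ⧸ I]
      ((Fin n → Localization (S.map (Ideal.Quotient.mk I))) ⧸ K) :=
    { toFun := θ₂
      map_add' := θ₂.map_add
      map_smul' := by
        intro c x
        obtain ⟨c, rfl⟩ := Ideal.Quotient.mk_surjective c
        obtain ⟨x, rfl⟩ := Submodule.mkQ_surjective _ x
        rw [Submodule.mkQ_apply, Module.Quotient.mk_smul_mk, RingHom.id_apply]
        have h1 : θ₂ (c • Submodule.Quotient.mk x) = c • θ₂ (Submodule.Quotient.mk x) :=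
          map_smul θ₂ c _
        rw [Submodule.Quotient.mk_smul]
        exact h1.trans (algebraMap_smul (R ⧸ I) c (θ₂ (Submodule.Quotient.mk x))).symm }
  have hθmk : ∀ w : Fin n → R, θ (Submodule.Quotient.mk (Submodule.Quotient.mk w)) =
      Submodule.Quotient.mk (ψ w) := fun w => rfl
  have hzero : ∀ x, θ x = 0 → ∃ c : S.map (Ideal.Quotient.mk I), c • x = 0 := by
    intro x hx
    obtain ⟨x, rfl⟩ := Submodule.mkQ_surjective _ x
    obtain ⟨w, rfl⟩ := Submodule.mkQ_surjective _ x
    rw [Submodule.mkQ_apply, Submodule.mkQ_apply, hθmk, Submodule.Quotient.mk_eq_zero, hK',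
      Submodule.mem_span_range_iff_exists_fun] at hx
    obtain ⟨c, hc⟩ := hx
    obtain ⟨s₁, hs₁S, d, hd⟩ := exists_common_denom I S c
    -- z = s₁ • w - ∑ d j • v j maps to zero under ψ
    let z : Fin n → R := s₁ • w - ∑ j, d j • v j
    have hz : ψ z = 0 := by
      simp only [z, map_sub, map_smul, map_sum]
      rw [← hc, Finset.smul_sum, sub_eq_zero]
      refine Finset.sum_congr rfl fun j _ => ?_
      rw [← algebraMap_smul (Localization (S.map (Ideal.Quotient.mk I))) s₁,
        ← algebraMap_smul (Localization (S.map (Ideal.Quotient.mk I))) (d j), hd, smul_smul]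
    have hz' : ∀ i, algebraMap R (Localization (S.map (Ideal.Quotient.mk I))) (z i) = 0 :=
      fun i => congrFun hz i
    obtain ⟨s₂, hs₂S, hs₂⟩ := exists_mul_mem_of_algebraMap_eq_zero I S z hz'
    refine ⟨⟨Ideal.Quotient.mk I (s₂ * s₁), Submonoid.mem_map_of_mem _ (S.mul_mem hs₂S hs₁S)⟩, ?_⟩
    rw [Submonoid.mk_smul, Submodule.mkQ_apply, Submodule.mkQ_apply, Module.Quotient.mk_smul_mk,
      Submodule.Quotient.mk_eq_zero, ← Submodule.Quotient.mk_smul]
    have hw : (s₂ * s₁) • w = s₂ • z + s₂ • ∑ j, d j • v j := by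
      simp only [z, smul_sub, mul_smul]
      abel
    rw [hw, Submodule.Quotient.mk_add]
    have h2 : (Submodule.Quotient.mk (s₂ • ∑ j, d j • v j) : (Fin n → R) ⧸ N) = 0 := by
      rw [Submodule.Quotient.mk_eq_zero]
      exact N.smul_mem _ (Submodule.sum_mem _ fun j _ =>
        N.smul_mem _ (Submodule.subset_span ⟨j, rfl⟩))
    rw [h2, add_zero]
    have h3 : s₂ • z = ∑ i, (s₂ * z i) • (Pi.single i (1 : R) : Fin n → R) := by
      funext i
      simp [Finset.sum_apply, Pi.single_apply]
    rw [h3, ← Submodule.mkQ_apply, map_sum]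
    refine Submodule.sum_mem _ fun i _ => ?_
    rw [map_smul]
    exact Submodule.smul_mem_smul (hs₂ i) Submodule.mem_top
  have hloc : IsLocalizedModule (S.map (Ideal.Quotient.mk I)) θ := by
    refine ⟨?_, ?_, ?_⟩
    · exact (isLocalizedModule_id (S.map (Ideal.Quotient.mk I)) _
        (Localization (S.map (Ideal.Quotient.mk I)))).map_units
    · intro y
      obtain ⟨w, rfl⟩ := K.mkQ_surjective y
      obtain ⟨s, hsS, w', hw'⟩ := exists_common_denom I S w
      refine ⟨(Submodule.Quotient.mk (Submodule.Quotient.mk w'),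
        ⟨Ideal.Quotient.mk I s, Submonoid.mem_map_of_mem _ hsS⟩), ?_⟩
      rw [hθmk]
      simp only [Submonoid.mk_smul, Submodule.mkQ_apply]
      have h1 : (Ideal.Quotient.mk I s) • (Submodule.Quotient.mk w :
          (Fin n → Localization (S.map (Ideal.Quotient.mk I))) ⧸ K) =
          s • Submodule.Quotient.mk w := algebraMap_smul (R ⧸ I) s _
      rw [h1, ← algebraMap_smul (Localization (S.map (Ideal.Quotient.mk I))) s,
        ← Submodule.Quotient.mk_smul]
      congr 1
      funext i
      simp only [Pi.smul_apply, smul_eq_mul, ψ, LinearMap.compLeft_apply, Function.comp_apply,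
        Algebra.linearMap_apply]
      exact (hw' i).symm
    · intro x₁ x₂ h
      obtain ⟨c, hc⟩ := hzero (x₁ - x₂) (by rw [map_sub, h, sub_self])
      exact ⟨c, by rwa [smul_sub, sub_eq_zero] at hc⟩
  let E := (IsLocalizedModule.iso (S.map (Ideal.Quotient.mk I)) θ).extendScalarsOfIsLocalization
    (S.map (Ideal.Quotient.mk I)) (Localization (S.map (Ideal.Quotient.mk I)))
  exact ⟨E.trans e.symm⟩
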