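import Groth.Statements.S9168
import Mathlib

set_option autoImplicit false
universe u
open CAlg

namespace Groth.Agent.S9168

section locSub

variable {P R : Type*} [CommRing P] [CommRing R] (φ : P →+* R)

/-- the subring of fractions `φ a / φ b` with `φ b` a unit of `R`. -/
def locSub : Subring R where
  carrier := {x | ∃ a b : P, IsUnit (φ b) ∧ x * φ b = φ a}
  mul_mem' := by
    rintro x y ⟨a, b, ub, h1⟩ ⟨a', b', ub', h2⟩
    exact ⟨a * a', b * b', by rw [map_mul]; exact ub.mul ub', by
      rw [map_mul, map_mul, ← h1, ← h2]; ring⟩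
  one_mem' := ⟨1, 1, by simp, by simp⟩
  add_mem' := by
    rintro x y ⟨a, b, ub, h1⟩ ⟨a', b', ub', h2⟩
    exact ⟨a * b' + a' * b, b * b', by rw [map_mul]; exact ub.mul ub', by
      simp only [map_mul, map_add]; rw [← h1, ← h2]; ring⟩
  zero_mem' := ⟨0, 1, by simp, by simp⟩
  neg_mem' := by
    rintro x ⟨a, b, ub, h1⟩
    exact ⟨-a, b, ub, by rw [map_neg, ← h1]; ring⟩

lemma map_mem_locSub (a : P) : φ a ∈ locSub φ := ⟨a, 1, by simp, by simp⟩

lemma isLocalHom_locSub_subtype : IsLocalHom (locSub φ).subtype := by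
  constructor
  rintro ⟨x, a, b, ub, h1⟩ hx
  have hx' : IsUnit x := hx
  have ua : IsUnit (φ a) := by rw [← h1]; exact hx'.mul ub
  refine isUnit_iff_exists_inv.mpr ⟨⟨φ b * ua.unit⁻¹, b, a, ua, by simp [mul_assoc]⟩, ?_⟩
  apply Subtype.ext
  simp only [Subring.coe_mul, Subring.coe_one]
  rw [← mul_assoc, h1]
  simp

/-- the map `P → locSub φ`. -/
def toLocSub : P →+* locSub φ := RingHom.codRestrict φ (locSub φ) (map_mem_locSub φ)

@[simp] lemma coe_toLocSub (a : P) : (toLocSub φ a : R) = φ a := rfl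

/-- elements of `P` mapping to units of `R`. -/
def unitSub : Submonoid P := (IsUnit.submonoid R).comap φ

lemma mem_unitSub {b : P} : b ∈ unitSub φ ↔ IsUnit (φ b) := Iff.rfl

lemma isLocalization_locSub (hφ : Function.Injective φ) :
    letI := (toLocSub φ).toAlgebra
    IsLocalization (unitSub φ) (locSub φ) := by
  let _ := (toLocSub φ).toAlgebra
  have hloc := isLocalHom_locSub_subtype φ
  refine ⟨?_, ?_, ?_⟩
  · rintro ⟨b, hb⟩
    have : IsUnit ((locSub φ).subtype (toLocSub φ b)) := hb
    exact hloc.map_nonunit _ this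
  · rintro ⟨x, a, b, ub, h1⟩
    refine ⟨(a, ⟨b, ub⟩), ?_⟩
    apply Subtype.ext
    exact h1
  · intro a a' h
    refine ⟨1, ?_⟩
    have : φ a = φ a' := congrArg Subtype.val h
    rw [hφ this]

end locSub

lemma essFiniteType_of_adjoin {B₀ R : Type*} [CommRing B₀] [CommRing R] [Algebra B₀ R]
    (E : Finset R) (ψ : B₀ →+* locSub (Algebra.adjoin B₀ (E : Set R)).val.toRingHom)
    (hψ : ∀ x, (ψ x : R) = algebraMap B₀ R x) : ψ.EssFiniteType := by
  let A := Algebra.adjoin B₀ (E : Set R)
  let φ : A →+* R := A.val.toRingHom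
  have hφ : Function.Injective φ := Subtype.val_injective
  let i1 : Algebra A (locSub φ) := (toLocSub φ).toAlgebra
  let i2 : Algebra B₀ (locSub φ) := ψ.toAlgebra
  have : IsLocalization (unitSub φ) (locSub φ) := isLocalization_locSub φ hφ
  have : IsScalarTower B₀ A (locSub φ) := IsScalarTower.of_algebraMap_eq (fun x => by
    apply Subtype.ext
    exact hψ x)
  have : Algebra.FiniteType B₀ A :=
    (Subalgebra.fg_iff_finiteType A).mp (Subalgebra.fg_adjoin_finset E)
  have : Algebra.EssFiniteType A (locSub φ) :=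
    Algebra.EssFiniteType.of_isLocalization _ (unitSub φ)
  exact Algebra.EssFiniteType.comp B₀ A (locSub φ)

/-- For a local homomorphism of local rings R → S and finite subsets E ⊆ R, F ⊆ S there are local
subrings R₀ ⊆ R and S₀ ⊆ S containing E and F, with R → S mapping R₀ into S₀, such that the
inclusions and the induced map R₀ → S₀ are local homomorphisms, R₀ is essentially of finite type
over ℤ and S₀ is essentially of finite type over R₀. (So R → S is the directed colimit of such R₀ →
S₀.) -/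
theorem result (R S : Type u) [CommRing R] [CommRing S] [IsLocalRing R]
    [IsLocalRing S] [Algebra R S] [IsLocalHom (algebraMap R S)] (E : Finset R) (F : Finset S) :
    ∃ (R₀ : Subring R) (S₀ : Subring S) (h : ∀ x ∈ R₀, algebraMap R S x ∈ S₀),
      (E : Set R) ⊆ R₀ ∧ (F : Set S) ⊆ S₀ ∧ ∃ (_ : IsLocalRing R₀) (_ : IsLocalRing S₀),
        IsLocalHom R₀.subtype ∧ IsLocalHom S₀.subtype ∧
          IsLocalHom ((algebraMap R S).restrict R₀ S₀ h) ∧
          (algebraMap ℤ R₀).EssFiniteType ∧ ((algebraMap R S).restrict R₀ S₀ h).EssFiniteType := by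
  classical
  let A := Algebra.adjoin ℤ (E : Set R)
  let R₀ : Subring R := locSub A.val.toRingHom
  let algR₀S : Algebra R₀ S := ((algebraMap R S).comp R₀.subtype).toAlgebra
  let B := Algebra.adjoin R₀ (F : Set S)
  let S₀ : Subring S := locSub B.val.toRingHom
  have h : ∀ x ∈ R₀, algebraMap R S x ∈ S₀ := fun x hx => by
    have : algebraMap R S x = B.val.toRingHom (algebraMap R₀ B ⟨x, hx⟩) := rfl
    rw [this]
    exact map_mem_locSub _ _
  have hR₀ : IsLocalHom R₀.subtype := isLocalHom_locSub_subtype _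
  have hS₀ : IsLocalHom S₀.subtype := isLocalHom_locSub_subtype _
  have lR₀ : IsLocalRing R₀ := RingHom.domain_isLocalRing R₀.subtype
  have lS₀ : IsLocalRing S₀ := RingHom.domain_isLocalRing S₀.subtype
  refine ⟨R₀, S₀, h, ?_, ?_, lR₀, lS₀, hR₀, hS₀, ?_, ?_, ?_⟩
  · intro x hx
    exact map_mem_locSub A.val.toRingHom ⟨x, Algebra.subset_adjoin hx⟩
  · intro x hx
    exact map_mem_locSub B.val.toRingHom ⟨x, Algebra.subset_adjoin hx⟩
  · constructor
    intro x hx
    have h1 : IsUnit (S₀.subtype ((algebraMap R S).restrict R₀ S₀ h x)) := hx.map S₀.subtype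
    have h2 : IsUnit (R₀.subtype x) := isUnit_of_map_unit (algebraMap R S) _ h1
    exact hR₀.map_nonunit _ h2
  · exact essFiniteType_of_adjoin E (algebraMap ℤ R₀) (fun x => by
      rw [eq_intCast, eq_intCast]; rfl)
  · exact essFiniteType_of_adjoin F ((algebraMap R S).restrict R₀ S₀ h) (fun x => rfl)

end Groth.Agent.S9168
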