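import Groth.Statements.S9170
import Mathlib
import Groth.Agent.Helper19.RelGCI7
-- import your own Groth.Agent.* helpers here

set_option autoImplicit false
universe u
open Synt

namespace Groth.Agent.S9170

section helpers

open Groth.Agent.Helper19.RelGCI RingTheory.Sequence

theorem cot_basis {R : Type u} [CommRing R] (n c : ℕ)
    (F : Fin c → MvPolynomial (Fin n) R) (h : Synt.IsRelGCI R n c F) :
    ∃ b : Module.Basis (Fin c) (Synt.RelGCIRing R n c F) (Ideal.span (Set.range F)).Cotangent,
      ∀ i, b i = (Ideal.span (Set.range F)).toCotangent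
        ⟨F i, Ideal.subset_span (Set.mem_range_self i)⟩ := by
  have hk := kreg_of_isRelGCI h
  have hex : CategoryTheory.Limits.IsZero ((CohIII.koszulCx
      (ModuleCat.of (MvPolynomial (Fin n) R) (MvPolynomial (Fin n) R)) (List.ofFn F)).homology (-1)) := by
    have h1 := hk (-1) (by norm_num)
    have heq := Groth.Agent.Lib.Helper11.Kz.koszul_eq (List.ofFn F)
    exact h1.of_iso ((HomologicalComplex.homologyFunctor _ _ (-1)).mapIso
      (CategoryTheory.eqToIso heq.symm))
  exact Groth.Agent.Lib.Helper11.Kz.exists_cotangent_basis (Ideal.span (Set.range F)) F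
    (fun i => Ideal.subset_span (Set.mem_range_self i)) rfl hex

end helpers

/-- For a relative global complete intersection S = R[x_1, …, x_n]/(f_1, …, f_c) over a ring R and a
prime q' of the polynomial ring containing the ideal (f_1, …, f_c): (1) f_1, …, f_c is a regular
sequence in the localization R[x]_{q'} (a local ring); (2) every quotient R[x]_{q'}/(f_1, …, f_i) is
flat over R; (3) the conormal module (f)/(f)² is free over S with basis the classes of the f_i
(stated as: these classes are linearly independent over S and span). -/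
theorem result (R : Type u) [CommRing R] (n c : ℕ)
    (F : Fin c → MvPolynomial (Fin n) R) (h : Synt.IsRelGCI R n c F)
    (q' : Ideal (MvPolynomial (Fin n) R)) [q'.IsPrime] (hq' : Ideal.span (Set.range F) ≤ q') :
    RingTheory.Sequence.IsRegular (Localization.AtPrime q')
        ((List.ofFn F).map (algebraMap (MvPolynomial (Fin n) R) (Localization.AtPrime q'))) ∧
      (∀ i ≤ c, Module.Flat R (Localization.AtPrime q' ⧸ Ideal.ofList
        (((List.ofFn F).take i).map (algebraMap (MvPolynomial (Fin n) R) (Localization.AtPrime q'))))) ∧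
      LinearIndependent (Synt.RelGCIRing R n c F)
        (fun i : Fin c => (Ideal.span (Set.range F)).toCotangent ⟨F i, Ideal.subset_span (Set.mem_range_self i)⟩) ∧
      Submodule.span (Synt.RelGCIRing R n c F) (Set.range
        (fun i : Fin c => (Ideal.span (Set.range F)).toCotangent ⟨F i, Ideal.subset_span (Set.mem_range_self i)⟩)) = ⊤ := by
  obtain ⟨-, hrtr⟩ := Groth.Agent.Helper19.RelGCI.rtr_of_isRelGCI h q' hq'
  obtain ⟨b, hb⟩ := cot_basis n c F h
  have hbf : (fun i : Fin c => (Ideal.span (Set.range F)).toCotangent
      ⟨F i, Ideal.subset_span (Set.mem_range_self i)⟩) = b := funext fun i => (hb i).symm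
  refine ⟨?_, ?_, ?_, ?_⟩
  · refine RingTheory.Sequence.IsRegular.of_isWeaklyRegular_of_mem_maximalIdeal _ ?_ hrtr.isWeaklyRegular
    intro r hr
    rw [List.mem_map] at hr
    obtain ⟨f, hf, rfl⟩ := hr
    rw [List.mem_ofFn] at hf
    obtain ⟨i, rfl⟩ := hf
    rw [IsLocalization.AtPrime.to_map_mem_maximal_iff (Localization.AtPrime q') q']
    exact hq' (Ideal.subset_span ⟨i, rfl⟩)
  · intro i hi
    have := hrtr.1 i (by rw [List.length_map, List.length_ofFn]; exact hi)
    rwa [← List.map_take] at this
  · rw [hbf]; exact b.linearIndependent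
  · rw [hbf]; exact b.span_eq

end Groth.Agent.S9170
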