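import Groth.Statements.S9174
import Mathlib
import Groth.Agent.Lib.Helper23.CMFibReg
-- import your own Groth.Agent.* helpers here

set_option autoImplicit false
universe u
open CAlg

namespace Groth.Agent.S9174

open IsLocalRing TensorProduct RingTheory.Sequence
open Groth.Agent.Lib.Helper18.FibBridge Groth.Agent.Lib.Helper23.CMFibReg
open AlgebraicGeometry

theorem key (R S : Type u) [CommRing R] [CommRing S]
    [Algebra R S] [Algebra.FiniteType R S] (d : ℕ)
    (hCM : ∀ p : PrimeSpectrum R, LocCoh.IsCohenMacaulayRing (p.asIdeal.Fiber S))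
    (heq : ∀ p : PrimeSpectrum R, ∀ P ∈ minimalPrimes (p.asIdeal.Fiber S),
      ringKrullDim (p.asIdeal.Fiber S ⧸ P) = (d : WithBot ℕ∞))
    (f : List S) (q' : PrimeSpectrum (S ⧸ Ideal.ofList f)) :
    (∀ Q' : PrimeSpectrum ((q'.asIdeal.under R).Fiber (S ⧸ Ideal.ofList f)),
        Q'.asIdeal.comap (Algebra.TensorProduct.includeRight.toRingHom) = q'.asIdeal →
          FlatMor.localDim (PrimeSpectrum ((q'.asIdeal.under R).Fiber (S ⧸ Ideal.ofList f))) Q' +
            (f.length : WithBot ℕ∞) ≤ (d : WithBot ℕ∞)) ↔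
      IsRegular (EGA4.FibLocRing R S (q'.asIdeal.comap (Ideal.Quotient.mk (Ideal.ofList f))))
        (f.map (algebraMap S
          (EGA4.FibLocRing R S (q'.asIdeal.comap (Ideal.Quotient.mk (Ideal.ofList f)))))) := by
  set p : Ideal R := q'.asIdeal.under R with hp
  have hcrit : ∀ Q' : PrimeSpectrum (p.Fiber (S ⧸ Ideal.ofList f)),
      Q'.asIdeal.comap (Algebra.TensorProduct.includeRight.toRingHom) = q'.asIdeal →
      (IsRegular (EGA4.FibLocRing R S (q'.asIdeal.comap (Ideal.Quotient.mk (Ideal.ofList f))))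
        (f.map (algebraMap S
          (EGA4.FibLocRing R S (q'.asIdeal.comap (Ideal.Quotient.mk (Ideal.ofList f)))))) ↔
        FlatMor.localDim (PrimeSpectrum (p.Fiber (S ⧸ Ideal.ofList f))) Q' +
            (f.length : WithBot ℕ∞) ≤ (d : WithBot ℕ∞)) := by
    intro Q' hQ'
    haveI := Q'.2
    have hq : q'.asIdeal.comap (Ideal.Quotient.mk (Ideal.ofList f)) =
        (ctr p Q'.asIdeal).comap (Ideal.Quotient.mk (Ideal.ofList f)) := by
      exact congrArg (Ideal.comap (Ideal.Quotient.mk (Ideal.ofList f))) hQ'.symm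
    exact isRegular_fibLocRing_iff' R S d p (hCM ⟨p, inferInstance⟩) (heq ⟨p, inferInstance⟩)
      f Q'.asIdeal _ hq
  constructor
  · intro H
    obtain ⟨Q', hQ'p, hQ'⟩ := exists_prime_of_comap_eq p q'.asIdeal rfl
    exact (hcrit ⟨Q', hQ'p⟩ hQ').mpr (H ⟨Q', hQ'p⟩ hQ')
  · intro H Q' hQ'
    exact (hcrit Q' hQ').mp H


theorem isRegular_congr (R S : Type u) [CommRing R] [CommRing S] [Algebra R S] (f : List S)
    (q₁ q₂ : Ideal S) [q₁.IsPrime] [q₂.IsPrime] (h : q₁ = q₂) :
    IsRegular (EGA4.FibLocRing R S q₁) (f.map (algebraMap S (EGA4.FibLocRing R S q₁))) ↔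
      IsRegular (EGA4.FibLocRing R S q₂) (f.map (algebraMap S (EGA4.FibLocRing R S q₂))) := by
  subst h
  rfl


/-- Let R → S be of finite type with every fibre ring κ(p) ⊗ S Cohen–Macaulay and equidimensional of
dimension d, and let f_1, …, f_i ∈ S. The primes q ⊇ (f_1, …, f_i) at which the f_j form a regular
sequence in the fibre local ring S_q/pS_q (p = q ∩ R) form an open subset of V(f_1, …, f_i): there
is an open U of Spec S whose trace on V(f_1, …, f_i) is exactly this set. -/
theorem result (R S : Type u) [CommRing R] [CommRing S]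
    [Algebra R S] [Algebra.FiniteType R S] (d : ℕ)
    (hCM : ∀ p : PrimeSpectrum R, LocCoh.IsCohenMacaulayRing (p.asIdeal.Fiber S))
    (heq : ∀ p : PrimeSpectrum R, ∀ P ∈ minimalPrimes (p.asIdeal.Fiber S),
      ringKrullDim (p.asIdeal.Fiber S ⧸ P) = (d : WithBot ℕ∞))
    (f : List S) :
    ∃ U : Set (PrimeSpectrum S), IsOpen U ∧ ∀ q : PrimeSpectrum S, Ideal.ofList f ≤ q.asIdeal →
      (q ∈ U ↔ RingTheory.Sequence.IsRegular (EGA4.FibLocRing R S q.asIdeal)
        (f.map (algebraMap S (EGA4.FibLocRing R S q.asIdeal)))) := by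
  set I := Ideal.ofList f with hI
  haveI hft : Algebra.FiniteType R (S ⧸ I) :=
    Algebra.FiniteType.of_surjective (Ideal.Quotient.mkₐ R _) (Ideal.Quotient.mkₐ_surjective R _)
  -- the point of `Spec (S ⧸ I)` over a prime containing `I`
  have hpt : ∀ q : PrimeSpectrum S, I ≤ q.asIdeal →
      ∃ q' : PrimeSpectrum (S ⧸ I), q'.asIdeal.comap (Ideal.Quotient.mk I) = q.asIdeal := by
    intro q hIq
    haveI : (q.asIdeal.map (Ideal.Quotient.mk I)).IsPrime :=
      Ideal.map_isPrime_of_surjective Ideal.Quotient.mk_surjective (by rwa [Ideal.mk_ker])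
    refine ⟨⟨q.asIdeal.map (Ideal.Quotient.mk I), inferInstance⟩, ?_⟩
    change (q.asIdeal.map (Ideal.Quotient.mk I)).comap (Ideal.Quotient.mk I) = q.asIdeal
    rw [Ideal.comap_map_of_surjective' _ Ideal.Quotient.mk_surjective, Ideal.mk_ker]
    exact sup_eq_left.mpr hIq
  by_cases hi : f.length ≤ d
  · let g := Groth.Agent.Lib.Helper12.H12FibDimAlg.specMap R (S ⧸ I)
    haveI : LocallyOfFiniteType g := by
      change LocallyOfFiniteType (Spec.map (CommRingCat.ofHom (algebraMap R (S ⧸ I))))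
      rw [HasRingHomProperty.Spec_iff (P := @LocallyOfFiniteType)]
      exact (RingHom.finiteType_algebraMap).mpr hft
    let T' : Set (PrimeSpectrum (S ⧸ I)) :=
      {q' | FlatMor.fibreDimAt g q' ≤ ((d - f.length : ℕ) : WithBot ℕ∞)}
    have hT' : IsOpen T' :=
      Groth.Agent.Lib.Helper21.FibDim.isOpen_setOf_fibreDimAt_le g (d - f.length)
    have hce := PrimeSpectrum.isClosedEmbedding_comap_of_surjective (S ⧸ I)
      (Ideal.Quotient.mk I) Ideal.Quotient.mk_surjective
    refine ⟨(PrimeSpectrum.comap (Ideal.Quotient.mk I) '' T'ᶜ)ᶜ, ?_, ?_⟩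
    · exact (hce.isClosedMap _ hT'.isClosed_compl).isOpen_compl
    · intro q hIq
      obtain ⟨q', hq'⟩ := hpt q hIq
      rw [← isRegular_congr R S f _ _ hq', ← key R S d hCM heq f q']
      have hmem : q ∈ (PrimeSpectrum.comap (Ideal.Quotient.mk I) '' T'ᶜ)ᶜ ↔ q' ∈ T' := by
        rw [Set.mem_compl_iff, Set.mem_image]
        constructor
        · intro h
          by_contra hcon
          exact h ⟨q', hcon, PrimeSpectrum.ext hq'⟩
        · rintro h ⟨q'', hq'', hqq⟩
          have : q'' = q' := hce.injective (hqq.trans (PrimeSpectrum.ext hq').symm)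
          exact hq'' (this ▸ h)
      rw [hmem]
      change FlatMor.fibreDimAt g q' ≤ _ ↔ _
      rw [← Groth.Agent.Lib.Helper12.H12FibDimAlg.localDim_fiber_le_iff R (S ⧸ I) _ q']
      refine forall₂_congr fun Q' hQ' => ?_
      haveI := Q'.2
      obtain ⟨n', hn'⟩ := exists_nat_localDim_fiber R (S ⧸ I) (q'.asIdeal.under R) Q'.asIdeal
      change FlatMor.localDim _ Q' = _ at hn'
      rw [hn']
      constructor
      · intro h
        have h1 : n' ≤ d - f.length := by exact_mod_cast h
        have h2 : n' + f.length ≤ d := by omega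
        exact_mod_cast h2
      · intro h
        have h1 : n' + f.length ≤ d := by exact_mod_cast h
        have h2 : n' ≤ d - f.length := by omega
        exact_mod_cast h2
  · refine ⟨∅, isOpen_empty, ?_⟩
    intro q hIq
    simp only [Set.mem_empty_iff_false, false_iff]
    obtain ⟨q', hq'⟩ := hpt q hIq
    rw [← isRegular_congr R S f _ _ hq', ← key R S d hCM heq f q']
    intro H
    obtain ⟨Q', hQ'p, hQ'⟩ := exists_prime_of_comap_eq (q'.asIdeal.under R) q'.asIdeal rfl
    have h1 := H ⟨Q', hQ'p⟩ hQ'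
    obtain ⟨n', hn'⟩ := exists_nat_localDim_fiber R (S ⧸ I) (q'.asIdeal.under R) Q'
    rw [hn'] at h1
    have h2 : n' + f.length ≤ d := by exact_mod_cast h1
    omega

end Groth.Agent.S9174
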