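import Groth.Statements.S9175
import Mathlib
import Groth.Agent.Lib.Helper23.QFPoly
-- import your own Groth.Agent.* helpers here

set_option autoImplicit false
universe u
open CAlg

namespace Groth.Agent.S9175
open TensorProduct TopologicalSpace Groth.Agent.Lib.Helper21.FibDim

/-- A principal localization of a principal localization is a principal localization of the
original ring, at an element outside a given prime. -/
theorem exists_away_equiv {S : Type u} [CommRing S] (g₀ : S) (q : Ideal S) [q.IsPrime]
    (hg₀ : g₀ ∉ q) (b : Localization.Away g₀)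
    (hb : b ∉ q.map (algebraMap S (Localization.Away g₀))) :
    ∃ g : S, g ∉ q ∧ Nonempty (Localization.Away b ≃ₐ[S] Localization.Away g) := by
  obtain ⟨k, b', hb'⟩ := IsLocalization.Away.surj g₀ b
  have hunit : IsUnit (algebraMap S (Localization.Away g₀) g₀ ^ k) :=
    (IsLocalization.Away.algebraMap_isUnit g₀).pow k
  have hassoc : Associated b (algebraMap S (Localization.Away g₀) b') := by
    obtain ⟨u, hu⟩ := hunit
    refine ⟨u, ?_⟩
    rw [hu, hb']
  have hb'q : b' ∉ q := by
    intro hmem
    apply hb
    have h1 : algebraMap S (Localization.Away g₀) b' ∈ q.map (algebraMap S (Localization.Away g₀)) :=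
      Ideal.mem_map_of_mem _ hmem
    rw [← hb'] at h1
    exact (Ideal.mul_unit_mem_iff_mem _ hunit).mp h1
  haveI : IsLocalization.Away (algebraMap S (Localization.Away g₀) b') (Localization.Away b) :=
    IsLocalization.Away.of_associated hassoc
  haveI : IsLocalization.Away (g₀ * b') (Localization.Away b) :=
    IsLocalization.Away.mul' (Localization.Away g₀) (Localization.Away b) g₀ b'
  refine ⟨g₀ * b', fun h => ?_, ⟨IsLocalization.algEquiv (Submonoid.powers (g₀ * b')) _ _⟩⟩
  rcases Ideal.IsPrime.mem_or_mem inferInstance h with h | h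
  · exact hg₀ h
  · exact hb'q h


/-- Let R → S be of finite type, q a prime of S over p, and Q the prime of the fibre ring κ(p) ⊗ S
pulling back to q. If Spec(κ(p) ⊗ S) has local dimension n at Q (the relative dimension of S over R
at q is n), then some S_g with g ∉ q admits an R-algebra map from the polynomial ring R[t_1, …, t_n]
which is of finite type and quasi-finite. -/
theorem result (R S : Type u) [CommRing R] [CommRing S]
    [Algebra R S] [Algebra.FiniteType R S] (p : Ideal R) [p.IsPrime] (q : Ideal S) [q.IsPrime] [q.LiesOver p]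
    (Q : PrimeSpectrum (p.Fiber S))
    (hQ : Q.asIdeal.comap (Algebra.TensorProduct.includeRight.toRingHom) = q) (n : ℕ)
    (hdim : FlatMor.localDim (PrimeSpectrum (p.Fiber S)) Q = (n : WithBot ℕ∞)) :
    ∃ g : S, g ∉ q ∧ ∃ φ : MvPolynomial (Fin n) R →ₐ[R] Localization.Away g,
      φ.toRingHom.FiniteType ∧ φ.toRingHom.QuasiFinite := by
  obtain ⟨g₀, hg₀, hdim'⟩ := Groth.Agent.Lib.Helper23.QFPoly.exists_away_fiber_dim R S p q Q hQ
  rw [hdim] at hdim'
  obtain ⟨π, hπ⟩ := exists_algHom_finite_fiber_of_ringKrullDim R (Localization.Away g₀) p n hdim'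
  letI : Algebra (MvPolynomial (Fin n) R) (Localization.Away g₀) := π.toRingHom.toAlgebra
  haveI : IsScalarTower R (MvPolynomial (Fin n) R) (Localization.Away g₀) :=
    IsScalarTower.of_algebraMap_eq' π.comp_algebraMap.symm
  -- the prime of the localization
  have hdisj : Disjoint (Submonoid.powers g₀ : Set S) (q : Set S) := by
    rw [Set.disjoint_left]
    rintro x ⟨k, rfl⟩ hx
    exact hg₀ (Ideal.IsPrime.mem_of_pow_mem inferInstance k hx)
  haveI hqBp : (q.map (algebraMap S (Localization.Away g₀))).IsPrime :=
    IsLocalization.isPrime_of_isPrime_disjoint (Submonoid.powers g₀) _ q inferInstance hdisj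
  have hqB : (q.map (algebraMap S (Localization.Away g₀))).comap (algebraMap S _) = q :=
    IsLocalization.comap_map_of_isPrime_disjoint (Submonoid.powers g₀) _ inferInstance hdisj
  set qB := q.map (algebraMap S (Localization.Away g₀)) with hqBdef
  have hunder : (qB.under (MvPolynomial (Fin n) R)).comap (algebraMap R (MvPolynomial (Fin n) R)) = p := by
    rw [Ideal.under, Ideal.comap_comap, ← IsScalarTower.algebraMap_eq,
      IsScalarTower.algebraMap_eq R S (Localization.Away g₀), ← Ideal.comap_comap, hqB]
    exact (Ideal.over_def q p).symm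
  have hπ' : (Algebra.TensorProduct.map (AlgHom.id p.ResidueField p.ResidueField)
      (IsScalarTower.toAlgHom R (MvPolynomial (Fin n) R) (Localization.Away g₀))).toRingHom.Finite := by
    have : IsScalarTower.toAlgHom R (MvPolynomial (Fin n) R) (Localization.Away g₀) = π := by
      ext x; rfl
    rw [this]; exact hπ
  have hfinite := finite_comap_preimage_singleton_of_finite_fiber R (MvPolynomial (Fin n) R)
    (Localization.Away g₀) p hπ' ⟨qB.under _, inferInstance⟩ hunder
  haveI : Algebra.FiniteType (MvPolynomial (Fin n) R) (Localization.Away g₀) :=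
    Algebra.FiniteType.of_restrictScalars_finiteType R _ _
  haveI : Algebra.QuasiFiniteAt (MvPolynomial (Fin n) R) qB :=
    quasiFiniteAt_of_finite_comap_preimage_singleton _ _ qB hfinite
  obtain ⟨b, hb, hqf⟩ := exists_quasiFinite_away (MvPolynomial (Fin n) R) (Localization.Away g₀) qB
  obtain ⟨g, hg, ⟨e⟩⟩ := exists_away_equiv g₀ q hg₀ b hb
  -- the map
  let ψ : MvPolynomial (Fin n) R →ₐ[R] Localization.Away b :=
    (IsScalarTower.toAlgHom R (Localization.Away g₀) (Localization.Away b)).comp π
  let φ : MvPolynomial (Fin n) R →ₐ[R] Localization.Away g := (e.restrictScalars R).toAlgHom.comp ψ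
  refine ⟨g, hg, φ, ?_, ?_⟩
  · apply RingHom.FiniteType.of_comp_finiteType (f := algebraMap R (MvPolynomial (Fin n) R))
    have : φ.toRingHom.comp (algebraMap R (MvPolynomial (Fin n) R)) =
        algebraMap R (Localization.Away g) := φ.comp_algebraMap
    rw [this]
    exact RingHom.finiteType_algebraMap.mpr inferInstance
  · letI : Algebra (MvPolynomial (Fin n) R) (Localization.Away g) := φ.toRingHom.toAlgebra
    let e' : Localization.Away b →ₐ[MvPolynomial (Fin n) R] Localization.Away g :=
      { e.toAlgHom.toRingHom with
        commutes' := fun x => by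
          show e (algebraMap _ (Localization.Away b) x) = φ x
          rw [IsScalarTower.algebraMap_apply (MvPolynomial (Fin n) R) (Localization.Away g₀)
            (Localization.Away b)]
          rfl }
    have : Algebra.QuasiFinite (MvPolynomial (Fin n) R) (Localization.Away g) :=
      .of_surjective_algHom e' e.surjective
    exact this

end Groth.Agent.S9175
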