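import Groth.Statements.S9177
import Mathlib

set_option autoImplicit false
universe u
open CAlg

namespace Groth.Agent.S9177

open TensorProduct

set_option linter.unusedSectionVars false
set_option linter.unusedVariables false

noncomputable section

section setup

variable {ι : Type u} [Preorder ι] [Nonempty ι] [IsDirectedOrder ι] (G : ι → Type u)
    [∀ i, CommRing (G i)]
    (f : ∀ i j, i ≤ j → G i →+* G j) [DirectedSystem G (fun i j h => f i j h)]
    (A : Type u) [CommRing A] [∀ i, Algebra A (G i)]
    (hf : ∀ i j (h : i ≤ j), (f i j h).comp (algebraMap A (G i)) = algebraMap A (G j)) (l : ι)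

/-- the `A`-algebra structure on the direct limit through stage `l`. -/
abbrev dlAlg : Algebra A (Ring.DirectLimit G (fun i j h => f i j h)) :=
  ((Ring.DirectLimit.of G (fun i j h => f i j h) l).comp (algebraMap A (G l))).toAlgebra

/-- `A`-linear transition maps. -/
def fL (i j : ι) (h : i ≤ j) : G i →ₗ[A] G j :=
  { toFun := f i j h
    map_add' := map_add _
    map_smul' := fun a x => by
      simp only [Algebra.smul_def, map_mul, RingHom.id_apply]
      rw [← hf i j h]
      rfl }

@[simp] lemma fL_apply (i j : ι) (h : i ≤ j) (x : G i) : fL G f A hf i j h x = f i j h x := rfl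

instance directedSystem_fL : DirectedSystem G (fun i j h => fL G f A hf i j h) :=
  ⟨fun i x => DirectedSystem.map_self (f := fun i j h => f i j h) x,
   fun k j i hij hjk x => DirectedSystem.map_map (f := fun i j h => f i j h) hij hjk x⟩

include hf in
lemma of_algebraMap (i : ι) (a : A) :
    Ring.DirectLimit.of G (fun i j h => f i j h) i (algebraMap A (G i) a) =
      Ring.DirectLimit.of G (fun i j h => f i j h) l (algebraMap A (G l) a) := by
  obtain ⟨k, hik, hlk⟩ := exists_ge_ge i l
  rw [← Ring.DirectLimit.of_f hik, ← Ring.DirectLimit.of_f hlk]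
  congr 1
  have h1 := RingHom.congr_fun (hf i k hik) a
  have h2 := RingHom.congr_fun (hf l k hlk) a
  exact h1.trans h2.symm

/-- the canonical maps to the direct limit, as `A`-linear maps. -/
def ofL (i : ι) : letI := dlAlg G f A l
    G i →ₗ[A] Ring.DirectLimit G (fun i j h => f i j h) :=
  letI := dlAlg G f A l
  { toFun := Ring.DirectLimit.of G (fun i j h => f i j h) i
    map_add' := map_add _
    map_smul' := fun a x => by
      rw [Algebra.smul_def, map_mul, of_algebraMap G f A hf l i a, RingHom.id_apply,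
        Algebra.smul_def]
      rfl }

lemma exists_rTensor_eq_zero (C : Type u) [AddCommGroup C] [Module A C] (i : ι)
    (t : G i ⊗[A] C)
    (ht : letI := dlAlg G f A l; LinearMap.rTensor C (ofL G f A hf l i) t = 0) :
    ∃ (j : ι) (hij : i ≤ j), LinearMap.rTensor C (fL G f A hf i j hij) t = 0 := by
  classical
  let _ := dlAlg G f A l
  let Φ : Module.DirectLimit G (fun i j h => fL G f A hf i j h) →ₗ[A]
      Ring.DirectLimit G (fun i j h => f i j h) :=
    Module.DirectLimit.lift A ι G _ (fun i => ofL G f A hf l i)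
      (fun i j hij x => Ring.DirectLimit.of_f hij x)
  have hΦof : ∀ i x, Φ (Module.DirectLimit.of A ι G _ i x) = ofL G f A hf l i x := fun i x => by
    simp [Φ]
  have hΦinj : Function.Injective Φ := by
    rw [injective_iff_map_eq_zero]
    intro z hz
    obtain ⟨i, x, rfl⟩ := Module.DirectLimit.exists_of z
    rw [hΦof] at hz
    obtain ⟨j, hij, hx⟩ := Ring.DirectLimit.of.zero_exact (f' := fun i j h => f i j h) hz
    rw [← Module.DirectLimit.of_f (hij := hij), fL_apply, hx, map_zero]
  have hΦsurj : Function.Surjective Φ := by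
    intro z
    obtain ⟨i, x, rfl⟩ := Ring.DirectLimit.exists_of z
    exact ⟨Module.DirectLimit.of A ι G _ i x, hΦof i x⟩
  let e := LinearEquiv.ofBijective Φ ⟨hΦinj, hΦsurj⟩
  have h1 : LinearMap.rTensor C (Module.DirectLimit.of A ι G
      (fun i j h => fL G f A hf i j h) i) t = 0 := by
    apply (LinearEquiv.rTensor C e).injective
    rw [map_zero, ← ht, ← LinearEquiv.coe_coe, LinearEquiv.coe_rTensor,
      ← LinearMap.rTensor_comp_apply]
    congr 2
    ext x
    exact hΦof i x
  have h2 := TensorProduct.directLimitLeft_rTensor_of (fun i j h => fL G f A hf i j h) C t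
  rw [h1, map_zero] at h2
  have := DirectedSystem.rTensor A C (directedSystem_fL G f A hf)
  exact Module.DirectLimit.of.zero_exact h2.symm


lemma ofL_comp_fL (i j : ι) (h : i ≤ j) (x : G i) :
    ofL G f A hf l j (fL G f A hf i j h x) = ofL G f A hf l i x :=
  Ring.DirectLimit.of_f h x

lemma fL_fL (i j k : ι) (h : i ≤ j) (h' : j ≤ k) (x : G i) :
    fL G f A hf j k h' (fL G f A hf i j h x) = fL G f A hf i k (h.trans h') x :=
  DirectedSystem.map_map (f := fun i j h => f i j h) h h' x

/-- every element of `DL ⊗ B` comes from a finite stage. -/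
lemma exists_rTensor_of (B : Type u) [AddCommGroup B] [Module A B]
    (z : letI := dlAlg G f A l; Ring.DirectLimit G (fun i j h => f i j h) ⊗[A] B) :
    ∃ (i : ι) (z' : G i ⊗[A] B), letI := dlAlg G f A l;
      LinearMap.rTensor B (ofL G f A hf l i) z' = z := by
  let _ := dlAlg G f A l
  induction z using TensorProduct.induction_on with
  | zero => exact ⟨Classical.arbitrary ι, 0, map_zero _⟩
  | tmul x b =>
    obtain ⟨i, y, rfl⟩ := Ring.DirectLimit.exists_of x
    exact ⟨i, y ⊗ₜ b, by rw [LinearMap.rTensor_tmul]; rfl⟩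
  | add z₁ z₂ h₁ h₂ =>
    obtain ⟨i₁, z₁', rfl⟩ := h₁
    obtain ⟨i₂, z₂', rfl⟩ := h₂
    obtain ⟨k, h1k, h2k⟩ := exists_ge_ge i₁ i₂
    refine ⟨k, LinearMap.rTensor B (fL G f A hf i₁ k h1k) z₁' +
      LinearMap.rTensor B (fL G f A hf i₂ k h2k) z₂', ?_⟩
    rw [map_add, ← LinearMap.rTensor_comp_apply, ← LinearMap.rTensor_comp_apply]
    congr 3
    · ext x; exact ofL_comp_fL G f A hf l i₁ k h1k x
    · ext x; exact ofL_comp_fL G f A hf l i₂ k h2k x

end setup

/-- naturality of `id ⊗ u` with respect to a linear change of the left factor. -/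
lemma rTensor_map_comm {A X Y B C : Type u} [CommRing A] [CommRing X] [CommRing Y] [CommRing B]
    [CommRing C] [Algebra A X] [Algebra A Y] [Algebra A B] [Algebra A C] (φ : X →ₗ[A] Y)
    (u : B →ₐ[A] C) (z : X ⊗[A] B) :
    LinearMap.rTensor C φ (Algebra.TensorProduct.map (AlgHom.id A X) u z) =
      Algebra.TensorProduct.map (AlgHom.id A Y) u (LinearMap.rTensor B φ z) := by
  induction z using TensorProduct.induction_on with
  | zero => simp
  | tmul x b => simp
  | add z₁ z₂ h₁ h₂ => simp only [map_add, h₁, h₂]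


end

open TensorProduct in
/-- Let R = colim R_i be a directed colimit of A-algebras (compatible transition maps), B and C
A-algebras. (1) If B is of finite type over A, two A-algebra maps B → C whose base changes to R
coincide already have equal base changes to some R_i. (2) If C is of finite type over A and u : B →
C has surjective base change to R, then its base change to some R_i is surjective. (The A-algebra
structure on R is through any stage R_l; it does not depend on l.) -/
theorem result {ι : Type u} [Preorder ι]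
    [Nonempty ι] [IsDirectedOrder ι] (G : ι → Type u) [∀ i, CommRing (G i)]
    (f : ∀ i j, i ≤ j → G i →+* G j) [DirectedSystem G (fun i j h => f i j h)]
    (A : Type u) [CommRing A] [∀ i, Algebra A (G i)]
    (hf : ∀ i j (h : i ≤ j), (f i j h).comp (algebraMap A (G i)) = algebraMap A (G j)) (l : ι)
    (B C : Type u) [CommRing B] [CommRing C] [Algebra A B] [Algebra A C] :
    letI : Algebra A (Ring.DirectLimit G (fun i j h => f i j h)) :=
      ((Ring.DirectLimit.of G (fun i j h => f i j h) l).comp (algebraMap A (G l))).toAlgebra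
    (Algebra.FiniteType A B → ∀ u u' : B →ₐ[A] C,
        Algebra.TensorProduct.map (AlgHom.id A (Ring.DirectLimit G (fun i j h => f i j h))) u =
            Algebra.TensorProduct.map (AlgHom.id A (Ring.DirectLimit G (fun i j h => f i j h))) u' →
          ∃ i : ι, Algebra.TensorProduct.map (AlgHom.id A (G i)) u =
            Algebra.TensorProduct.map (AlgHom.id A (G i)) u') ∧
      (Algebra.FiniteType A C → ∀ u : B →ₐ[A] C,
        Function.Surjective
            (Algebra.TensorProduct.map (AlgHom.id A (Ring.DirectLimit G (fun i j h => f i j h))) u) →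
          ∃ i : ι, Function.Surjective (Algebra.TensorProduct.map (AlgHom.id A (G i)) u)) := by
  classical
  let _ := dlAlg G f A l
  refine ⟨?_, ?_⟩
  · intro hB u u' huu'
    obtain ⟨T, hT⟩ := hB.out
    have h1 : ∀ b : B, ∃ (j : ι) (_ : l ≤ j),
        ((1 : G j) ⊗ₜ[A] u b : G j ⊗[A] C) = 1 ⊗ₜ u' b := by
      intro b
      have ht : LinearMap.rTensor C (ofL G f A hf l l)
          ((1 : G l) ⊗ₜ[A] u b - 1 ⊗ₜ u' b) = 0 := by
        rw [map_sub, LinearMap.rTensor_tmul, LinearMap.rTensor_tmul, sub_eq_zero]
        have := AlgHom.congr_fun huu' (1 ⊗ₜ b)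
        simpa [ofL] using this
      obtain ⟨j, hlj, hj⟩ := exists_rTensor_eq_zero G f A hf l C l _ ht
      refine ⟨j, hlj, ?_⟩
      rw [map_sub, LinearMap.rTensor_tmul, LinearMap.rTensor_tmul, sub_eq_zero, fL_apply,
        map_one] at hj
      exact hj
    choose j hlj hj using h1
    obtain ⟨k, hk⟩ := Finset.exists_le (T.image j)
    refine ⟨k, ?_⟩
    have hagree : (Algebra.TensorProduct.includeRight : C →ₐ[A] G k ⊗[A] C).comp u =
        (Algebra.TensorProduct.includeRight : C →ₐ[A] G k ⊗[A] C).comp u' := by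
      apply AlgHom.ext_of_adjoin_eq_top hT
      intro b hb
      simp only [AlgHom.comp_apply, Algebra.TensorProduct.includeRight_apply]
      have hjk : j b ≤ k := hk _ (Finset.mem_image_of_mem j hb)
      have := congrArg (LinearMap.rTensor C (fL G f A hf (j b) k hjk)) (hj b)
      simpa using this
    apply Algebra.TensorProduct.ext'
    intro x b
    have hb := AlgHom.congr_fun hagree b
    simp only [AlgHom.comp_apply, Algebra.TensorProduct.includeRight_apply] at hb
    simp only [Algebra.TensorProduct.map_tmul, AlgHom.id_apply]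
    calc x ⊗ₜ[A] u b = (x ⊗ₜ[A] (1 : C)) * ((1 : G k) ⊗ₜ[A] u b) := by
            rw [Algebra.TensorProduct.tmul_mul_tmul, mul_one, one_mul]
      _ = (x ⊗ₜ[A] (1 : C)) * ((1 : G k) ⊗ₜ[A] u' b) := by rw [hb]
      _ = x ⊗ₜ[A] u' b := by rw [Algebra.TensorProduct.tmul_mul_tmul, mul_one, one_mul]
  · intro hC u hsurj
    obtain ⟨T, hT⟩ := hC.out
    have h1 : ∀ c : C, ∃ j : ι, ((1 : G j) ⊗ₜ[A] c : G j ⊗[A] C) ∈
        (Algebra.TensorProduct.map (AlgHom.id A (G j)) u).range := by
      intro c
      obtain ⟨z, hz⟩ := hsurj (1 ⊗ₜ c)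
      obtain ⟨i, z', rfl⟩ := exists_rTensor_of G f A hf l B z
      rw [← rTensor_map_comm] at hz
      have ht : LinearMap.rTensor C (ofL G f A hf l i)
          (Algebra.TensorProduct.map (AlgHom.id A (G i)) u z' - (1 : G i) ⊗ₜ[A] c) = 0 := by
        rw [map_sub, hz, LinearMap.rTensor_tmul, sub_eq_zero]
        simp [ofL]
      obtain ⟨j, hij, hj⟩ := exists_rTensor_eq_zero G f A hf l C i _ ht
      refine ⟨j, LinearMap.rTensor B (fL G f A hf i j hij) z', ?_⟩
      rw [map_sub, LinearMap.rTensor_tmul, sub_eq_zero, fL_apply, map_one, rTensor_map_comm] at hj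
      exact hj
    choose j hj using h1
    obtain ⟨k, hk⟩ := Finset.exists_le (T.image j)
    refine ⟨k, ?_⟩
    have hT' : ∀ c ∈ T, ((1 : G k) ⊗ₜ[A] c : G k ⊗[A] C) ∈
        (Algebra.TensorProduct.map (AlgHom.id A (G k)) u).range := by
      intro c hc
      have hjk : j c ≤ k := hk _ (Finset.mem_image_of_mem j hc)
      obtain ⟨w, hw⟩ := hj c
      have hw' : Algebra.TensorProduct.map (AlgHom.id A (G (j c))) u w = 1 ⊗ₜ c := hw
      refine ⟨LinearMap.rTensor B (fL G f A hf (j c) k hjk) w, ?_⟩
      show Algebra.TensorProduct.map (AlgHom.id A (G k)) u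
        (LinearMap.rTensor B (fL G f A hf (j c) k hjk) w) = 1 ⊗ₜ c
      have := congrArg (LinearMap.rTensor C (fL G f A hf (j c) k hjk)) hw'
      rw [rTensor_map_comm] at this
      simpa using this
    have hall : ∀ c : C, ((1 : G k) ⊗ₜ[A] c : G k ⊗[A] C) ∈
        (Algebra.TensorProduct.map (AlgHom.id A (G k)) u).range := by
      intro c
      have hle : Algebra.adjoin A (T : Set C) ≤
          ((Algebra.TensorProduct.map (AlgHom.id A (G k)) u).range).comap
            (Algebra.TensorProduct.includeRight : C →ₐ[A] G k ⊗[A] C) := by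
        rw [Algebra.adjoin_le_iff]
        intro c hc
        exact hT' c hc
      rw [hT] at hle
      exact hle (Algebra.mem_top : c ∈ (⊤ : Subalgebra A C))
    rw [← AlgHom.range_eq_top, eq_top_iff, ← Algebra.TensorProduct.adjoin_tmul_eq_top,
      Algebra.adjoin_le_iff]
    rintro _ ⟨x, c, rfl⟩
    have : x ⊗ₜ[A] c = (x ⊗ₜ[A] (1 : C)) * ((1 : G k) ⊗ₜ[A] c) := by
      rw [Algebra.TensorProduct.tmul_mul_tmul, mul_one, one_mul]
    rw [this]
    refine Subalgebra.mul_mem _ ⟨x ⊗ₜ 1, by simp⟩ (hall c)

end Groth.Agent.S9177
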