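import Groth.Statements.S9178
import Mathlib

set_option autoImplicit false
universe u
open CAlg

namespace Groth.Agent.S9178

open TensorProduct KaehlerDifferential

section aux

variable {A B C : Type u} [CommRing A] [CommRing B]
    [CommRing C] [Algebra A B] [Algebra B C] [Algebra A C] [IsScalarTower A B C]
    (h : RingHom.ker (algebraMap A C) ≤ (RingHom.ker (algebraMap B C)).comap (Algebra.ofId A B))

local notation "I" => RingHom.ker (algebraMap A C)
local notation "J" => RingHom.ker (algebraMap B C)

lemma sub_mem_J (b : B) (a : A) (hab : algebraMap B C b = algebraMap A C a) :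
    b - algebraMap A B a ∈ J := by
  rw [RingHom.mem_ker, map_sub, ← IsScalarTower.algebraMap_apply, hab, sub_self]

/-- the image of `I/I²` as a `B`-submodule of `J/J²`. -/
def Q (hAC : Function.Surjective (algebraMap A C)) : Submodule B (J).Cotangent where
  carrier := Set.range (Ideal.mapCotangent I J (Algebra.ofId A B) h)
  add_mem' := by
    rintro _ _ ⟨x, rfl⟩ ⟨y, rfl⟩
    exact ⟨x + y, map_add _ _ _⟩
  zero_mem' := ⟨0, map_zero _⟩
  smul_mem' := by
    rintro b _ ⟨x, rfl⟩
    obtain ⟨a, ha⟩ := hAC (algebraMap B C b)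
    refine ⟨a • x, ?_⟩
    rw [map_smul]
    have hj : b - algebraMap A B a ∈ J := sub_mem_J b a ha.symm
    have h0 := Ideal.Cotangent.smul_eq_zero_of_mem hj
      (Ideal.mapCotangent I J (Algebra.ofId A B) h x)
    rw [sub_smul, sub_eq_zero] at h0
    rw [h0, algebraMap_smul]

end aux

/-- For ring maps A → B → C with A → C surjective, writing I = ker(A → C) and J = ker(B → C), the
sequence I/I² → J/J² → C ⊗_B Ω_{B/A} → 0 is exact. Stated: the image of I/I² in J/J² is exactly the
kernel of J/J² → C ⊗_B Ω_{B/A} (surjectivity of the latter map is the standard conormal sequence for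
the surjection B → C). -/
theorem result (A B C : Type u) [CommRing A] [CommRing B]
    [CommRing C] [Algebra A B] [Algebra B C] [Algebra A C] [IsScalarTower A B C]
    (hAC : Function.Surjective (algebraMap A C))
    (h : RingHom.ker (algebraMap A C) ≤ (RingHom.ker (algebraMap B C)).comap (Algebra.ofId A B)) :
    Function.Exact
      (Ideal.mapCotangent (RingHom.ker (algebraMap A C)) (RingHom.ker (algebraMap B C)) (Algebra.ofId A B) h)
      (KaehlerDifferential.kerCotangentToTensor A B C) := by
  classical
  set J := RingHom.ker (algebraMap B C) with hJ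
  set I := RingHom.ker (algebraMap A C) with hI
  intro y
  constructor
  · intro hy
    -- the hard direction
    let N := J.Cotangent ⧸ Q h hAC
    have hJN : ∀ (j : B) (hj : j ∈ J) (n : N), j • n = 0 := by
      intro j hj n
      obtain ⟨m, rfl⟩ := (Q h hAC).mkQ_surjective n
      rw [← map_smul, Ideal.Cotangent.smul_eq_zero_of_mem hj, map_zero]
    obtain ⟨D0, L2⟩ : ∃ D0 : B → N, ∀ (b : B) (a : A)
        (hab : algebraMap B C b = algebraMap A C a),
        D0 b = (Q h hAC).mkQ (J.toCotangent ⟨b - algebraMap A B a, sub_mem_J b a hab⟩) := by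
      let s : C → A := Function.surjInv hAC
      have hs : ∀ c, algebraMap A C (s c) = c := Function.surjInv_eq hAC
      refine ⟨fun b => (Q h hAC).mkQ (J.toCotangent
        ⟨b - algebraMap A B (s (algebraMap B C b)), sub_mem_J b _ (hs _).symm⟩), ?_⟩
      intro b a hab
      simp only
      rw [← sub_eq_zero, ← map_sub, ← map_sub, Submodule.mkQ_apply, Submodule.Quotient.mk_eq_zero]
      have hmem : a - s (algebraMap B C b) ∈ I := by
        rw [RingHom.mem_ker, map_sub, hs, hab, sub_self]
      refine ⟨I.toCotangent ⟨a - s (algebraMap B C b), hmem⟩, ?_⟩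
      rw [Ideal.mapCotangent_toCotangent]
      congr 1
      apply Subtype.ext
      simp only [Algebra.ofId_apply, map_sub, AddSubgroupClass.coe_sub]
      ring
    have hlift : ∀ b : B, ∃ a : A, algebraMap B C b = algebraMap A C a := fun b =>
      (hAC (algebraMap B C b)).imp fun a ha => ha.symm
    have D0_add : ∀ b b', D0 (b + b') = D0 b + D0 b' := by
      intro b b'
      obtain ⟨a, ha⟩ := hlift b
      obtain ⟨a', ha'⟩ := hlift b'
      have hab : algebraMap B C (b + b') = algebraMap A C (a + a') := by
        rw [map_add, map_add, ha, ha']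
      rw [L2 (b + b') (a + a') hab, L2 b a ha, L2 b' a' ha', ← map_add, ← map_add]
      congr 2
      apply Subtype.ext
      simp only [map_add, AddMemClass.mk_add_mk]
      ring
    have D0_mul : ∀ b b', D0 (b * b') = b • D0 b' + b' • D0 b := by
      intro b b'
      obtain ⟨a, ha⟩ := hlift b
      obtain ⟨a', ha'⟩ := hlift b'
      have hab : algebraMap B C (b * b') = algebraMap A C (a * a') := by
        rw [map_mul, map_mul, ha, ha']
      have e1 : b' • D0 b = algebraMap A B a' • D0 b := by
        rw [← sub_eq_zero, ← sub_smul]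
        exact hJN _ (sub_mem_J b' _ ha') _
      rw [e1, L2 (b * b') (a * a') hab, L2 b a ha, L2 b' a' ha',
            ← map_smul, ← map_smul, ← map_smul, ← map_smul, ← map_add, ← map_add]
      congr 2
      apply Subtype.ext
      simp only [map_mul, SetLike.mk_smul_mk, AddMemClass.mk_add_mk, smul_eq_mul]
      ring
    have D0_alg : ∀ a : A, D0 (algebraMap A B a) = 0 := by
      intro a
      rw [L2 (algebraMap A B a) a (IsScalarTower.algebraMap_apply A B C a).symm]
      have : (⟨algebraMap A B a - algebraMap A B a, sub_mem_J _ a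
          (IsScalarTower.algebraMap_apply A B C a).symm⟩ : J) = 0 := by
        apply Subtype.ext
        simp
      rw [this, map_zero, map_zero]
    let Dlin : B →ₗ[A] N :=
      { toFun := D0
        map_add' := D0_add
        map_smul' := by
          intro r b
          rw [Algebra.smul_def, D0_mul, D0_alg, smul_zero, add_zero, RingHom.id_apply,
            algebraMap_smul] }
    let Dd : Derivation A B N := Derivation.mk' Dlin D0_mul
    let ℓ : Ω[B⁄A] →ₗ[B] N := Dd.liftKaehlerDifferential
    have hℓ : ∀ b, ℓ (KaehlerDifferential.D A B b) = D0 b := fun b =>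
      Dd.liftKaehlerDifferential_comp_D b
    -- extend to the tensor product
    let π : B →ₗ[B] C := Algebra.linearMap B C
    have hπ : Function.Surjective π := by
      intro c
      obtain ⟨a, rfl⟩ := hAC c
      exact ⟨algebraMap A B a, (IsScalarTower.algebraMap_apply A B C a).symm⟩
    let e : (B ⧸ LinearMap.ker π) ≃ₗ[B] C := LinearMap.quotKerEquivOfSurjective π hπ
    let φ0 : B →ₗ[B] (Ω[B⁄A] →ₗ[B] N) := LinearMap.toSpanSingleton B _ ℓ
    have hφ0 : LinearMap.ker π ≤ LinearMap.ker φ0 := by
      intro j hj
      have hj' : j ∈ J := hj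
      rw [LinearMap.mem_ker]
      refine LinearMap.ext fun ω => ?_
      simp only [φ0, LinearMap.toSpanSingleton_apply, LinearMap.smul_apply, LinearMap.zero_apply]
      exact hJN j hj' _
    let φ : C →ₗ[B] (Ω[B⁄A] →ₗ[B] N) := (Submodule.liftQ _ φ0 hφ0) ∘ₗ e.symm.toLinearMap
    let Ψ : C ⊗[B] Ω[B⁄A] →ₗ[B] N := TensorProduct.lift φ
    have hΨ : ∀ ω, Ψ (1 ⊗ₜ ω) = ℓ ω := by
      intro ω
      have he : e.symm 1 = (LinearMap.ker π).mkQ 1 := by
        rw [LinearEquiv.symm_apply_eq]
        exact (map_one (algebraMap B C)).symm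
      simp only [Ψ, TensorProduct.lift.tmul, φ, LinearMap.comp_apply, LinearEquiv.coe_coe, he]
      rw [Submodule.mkQ_apply, Submodule.liftQ_apply]
      simp [φ0]
    obtain ⟨j, rfl⟩ := J.toCotangent_surjective y
    rw [KaehlerDifferential.kerCotangentToTensor_toCotangent] at hy
    have h1 := congrArg Ψ hy
    rw [hΨ, hℓ, map_zero, L2 j.1 0 (by rw [map_zero]; exact j.2)] at h1
    rw [Submodule.mkQ_apply, Submodule.Quotient.mk_eq_zero] at h1
    have h2 : (⟨j.1 - algebraMap A B 0, sub_mem_J j.1 0 (by rw [map_zero]; exact j.2)⟩ : J) = j := by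
      apply Subtype.ext
      simp
    rw [h2] at h1
    exact h1
  · rintro ⟨x, rfl⟩
    obtain ⟨a, rfl⟩ := I.toCotangent_surjective x
    rw [Ideal.mapCotangent_toCotangent, KaehlerDifferential.kerCotangentToTensor_toCotangent]
    simp only [Algebra.ofId_apply]
    rw [Derivation.map_algebraMap, TensorProduct.tmul_zero]
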