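import Groth.Statements.S9179
import Groth.Agent.Lib.Helper1.UnderColimit

set_option autoImplicit false
universe u
open CategoryTheory CategoryTheory.Limits
open CAlg

namespace Groth.Agent.S9179

/-- An R-algebra of finite type is the colimit of a filtered system of finitely presented R-algebras
whose transition maps are all surjective. -/
theorem result (R A : Type u) [CommRing R] [CommRing A]
    [Algebra R A] [Algebra.FiniteType R A] :
    ∃ (I : Type u) (_ : SmallCategory I) (_ : IsFiltered I) (D : I ⥤ Under (CommRingCat.of R))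
      (c : Cocone D) (_ : IsColimit c),
      (∀ i, (D.obj i).hom.hom.FinitePresentation) ∧
      (∀ (i j : I) (φ : i ⟶ j), Function.Surjective (D.map φ).right.hom) ∧
      Nonempty (c.pt ≅ Under.mk (CommRingCat.ofHom (algebraMap R A))) := by
  classical
  obtain ⟨n, π, hπ⟩ := Algebra.FiniteType.iff_quotient_mvPolynomial''.mp ‹Algebra.FiniteType R A›
  let P := MvPolynomial (Fin n) R
  let K : Ideal P := RingHom.ker π.toRingHom
  let J := {I : Ideal P // I.FG ∧ I ≤ K}
  have : Nonempty J := ⟨⟨⊥, Submodule.fg_bot, bot_le⟩⟩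
  have : IsDirected J (· ≤ ·) := ⟨fun I₁ I₂ ↦ ⟨⟨I₁.1 ⊔ I₂.1, Submodule.FG.sup I₁.2.1 I₂.2.1,
    sup_le I₁.2.2 I₂.2.2⟩, le_sup_left (a := I₁.1), le_sup_right (b := I₂.1)⟩⟩
  let D : J ⥤ Under (CommRingCat.of R) :=
    { obj I := Under.mk (CommRingCat.ofHom (algebraMap R (P ⧸ I.1)))
      map {I₁ I₂} f := Under.homMk (CommRingCat.ofHom (Ideal.Quotient.factor (leOfHom f))) (by
        ext x
        rfl)
      map_id I := by
        ext x
        obtain ⟨x, rfl⟩ := Ideal.Quotient.mk_surjective x
        rfl
      map_comp f g := by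
        ext x
        obtain ⟨x, rfl⟩ := Ideal.Quotient.mk_surjective x
        rfl }
  let c : Cocone D :=
    { pt := Under.mk (CommRingCat.ofHom (algebraMap R A))
      ι :=
        { app I := Under.homMk (CommRingCat.ofHom
            (Ideal.Quotient.lift I.1 π.toRingHom (fun x hx ↦ I.2.2 hx))) (by
              ext x
              show π (algebraMap R P x) = algebraMap R A x
              exact π.commutes x)
          naturality I₁ I₂ f := by
            ext x
            obtain ⟨x, rfl⟩ := Ideal.Quotient.mk_surjective x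
            rfl } }
  obtain ⟨hc⟩ : Nonempty (IsColimit c) := by
    refine Groth.Agent.Lib.Helper1.isColimit_under_of_surj_inj D c ?_ ?_
    · intro b
      obtain ⟨p, rfl⟩ := hπ b
      exact ⟨⟨⊥, Submodule.fg_bot, bot_le⟩, Ideal.Quotient.mk _ p, rfl⟩
    · intro I₁ I₂ x y hxy
      obtain ⟨p, rfl⟩ := Ideal.Quotient.mk_surjective x
      obtain ⟨q, rfl⟩ := Ideal.Quotient.mk_surjective y
      have hpq : p - q ∈ K := by
        have : π p = π q := hxy
        simp [K, RingHom.mem_ker, this]
      let I₃ : J := ⟨I₁.1 ⊔ I₂.1 ⊔ Ideal.span {p - q},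
        Submodule.FG.sup (Submodule.FG.sup I₁.2.1 I₂.2.1) (Submodule.fg_span_singleton _),
        sup_le (sup_le I₁.2.2 I₂.2.2) (by rwa [Ideal.span_singleton_le_iff_mem])⟩
      refine ⟨I₃, homOfLE (show I₁.1 ≤ I₃.1 from le_sup_of_le_left le_sup_left),
        homOfLE (show I₂.1 ≤ I₃.1 from le_sup_of_le_left le_sup_right), ?_⟩
      show Ideal.Quotient.mk I₃.1 p = Ideal.Quotient.mk I₃.1 q
      rw [Ideal.Quotient.eq]
      exact Ideal.mem_sup_right (Ideal.subset_span rfl)
  refine ⟨J, inferInstance, inferInstance, D, c, hc, ?_, ?_, ⟨Iso.refl _⟩⟩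
  · intro I
    have : Algebra.FinitePresentation R (P ⧸ I.1) := Algebra.FinitePresentation.quotient I.2.1
    exact RingHom.finitePresentation_algebraMap.mpr this
  · intro I₁ I₂ φ
    exact Ideal.Quotient.factor_surjective (leOfHom φ)

end Groth.Agent.S9179
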