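import Groth.Statements.S9180
import Mathlib
import Groth.Agent.Lib.Helper18.FibBridge
import Groth.Agent.Lib.Helper18.RkFlat2
import Groth.Agent.Lib.Helper21.BaseChg2
import Groth.Agent.Lib.Helper25.LocalDimRing
-- import your own Groth.Agent.* helpers here

set_option autoImplicit false
universe u
open CAlg

namespace Groth.Agent.S9180

open TensorProduct AlgebraicGeometry CategoryTheory Limits

section

variable (k S K : Type u) [Field k] [CommRing S] [Algebra k S] [Field K] [Algebra k K]

attribute [local instance] Algebra.TensorProduct.rightAlgebra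

instance finiteType_right [Algebra.FiniteType k S] : Algebra.FiniteType K (S ⊗[k] K) := by
  let φ : K ⊗[k] S →ₐ[K] S ⊗[k] K :=
    { (Algebra.TensorProduct.comm k K S).toAlgHom.toRingHom with
      commutes' := fun c => by
        show (Algebra.TensorProduct.comm k K S) (c ⊗ₜ 1) = _
        rw [Algebra.TensorProduct.comm_tmul]
        rfl }
  exact Algebra.FiniteType.of_surjective φ (Algebra.TensorProduct.comm k K S).surjective

/-- local dimension is invariant under extension of the base field, ring form -/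
theorem localDim_tensor_eq [Algebra.FiniteType k S] (qK : Ideal (S ⊗[k] K)) [hqK : qK.IsPrime] :
    FlatMor.localDim (PrimeSpectrum (S ⊗[k] K)) ⟨qK, hqK⟩ =
      FlatMor.localDim (PrimeSpectrum S)
        ⟨qK.comap (algebraMap S (S ⊗[k] K)), inferInstance⟩ := by
  let q : Spec (.of S) ⟶ Spec (.of k) := Spec.map (CommRingCat.ofHom (algebraMap k S))
  let ρ : Spec (.of K) ⟶ Spec (.of k) := Spec.map (CommRingCat.ofHom (algebraMap k K))
  let p : Spec (.of (S ⊗[k] K)) ⟶ Spec (.of S) :=
    Spec.map (CommRingCat.ofHom (Algebra.TensorProduct.includeLeftRingHom))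
  let q' : Spec (.of (S ⊗[k] K)) ⟶ Spec (.of K) :=
    Spec.map (CommRingCat.ofHom (Algebra.TensorProduct.includeRight.toRingHom))
  have hpb : IsPullback p q' q ρ :=
    isPullback_SpecMap_of_isPushout _ _ _ _ (CommRingCat.isPushout_tensorProduct k S K)
  haveI : LocallyOfFiniteType q := by
    rw [HasRingHomProperty.Spec_iff (P := @LocallyOfFiniteType)]
    exact (RingHom.finiteType_algebraMap).mpr inferInstance
  exact Groth.Agent.Lib.Helper21.BaseChg.localDim_eq_of_isPullback_field k K q ρ p q' hpb
    ⟨qK, hqK⟩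

end

open TensorProduct in

open TensorProduct in
/-- Let S be of finite type over a field k, K an extension field of k, S_K = S ⊗_k K, q a prime of S
whose residue field has transcendence degree r over k, and q_K a prime of S_K lying over q whose
residue field has transcendence degree r_K over K. Then the local ring at q_K of the fibre of S →
S_K over q has dimension dim (S_K)_{q_K} − dim S_q = r − r_K (stated additively), and there is a
prime of S_K over q for which this dimension is zero. -/
theorem result (k S K : Type u) [Field k] [CommRing S] [Algebra k S]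
    [Algebra.FiniteType k S] [Field K] [Algebra k K] (q : Ideal S) [q.IsPrime] (r : ℕ)
    (hr : Algebra.trdeg k q.ResidueField = r) (qK : Ideal (S ⊗[k] K)) [qK.IsPrime] [qK.LiesOver q]
    (rK : ℕ)
    (hrK : letI : Algebra K (S ⊗[k] K) := Algebra.TensorProduct.rightAlgebra
      Algebra.trdeg K qK.ResidueField = rK) :
    ringKrullDim (EGA4.FibLocRing S (S ⊗[k] K) qK) + ringKrullDim (Localization.AtPrime q) =
        ringKrullDim (Localization.AtPrime qK) ∧
      ringKrullDim (EGA4.FibLocRing S (S ⊗[k] K) qK) + (rK : WithBot ℕ∞) = (r : WithBot ℕ∞) ∧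
      ∃ (q' : Ideal (S ⊗[k] K)) (_ : q'.IsPrime), q'.LiesOver q ∧
        ringKrullDim (EGA4.FibLocRing S (S ⊗[k] K) q') = 0 := by
  letI : Algebra K (S ⊗[k] K) := Algebra.TensorProduct.rightAlgebra
  haveI : IsNoetherianRing S := Algebra.FiniteType.isNoetherianRing k S
  haveI : Algebra.FiniteType K (S ⊗[k] K) := finiteType_right k S K
  haveI : IsNoetherianRing (S ⊗[k] K) := Algebra.FiniteType.isNoetherianRing K _
  haveI : Module.FaithfullyFlat S (S ⊗[k] K) := inferInstance
  have hcomap : qK.comap (algebraMap S (S ⊗[k] K)) = q := (Ideal.over_def qK q).symm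
  -- heights
  have hq_fin : q.height ≠ ⊤ := Ideal.height_ne_top (Ideal.IsPrime.ne_top')
  obtain ⟨b, hb⟩ := ENat.ne_top_iff_exists.mp hq_fin
  have hqK_fin : qK.height ≠ ⊤ := Ideal.height_ne_top (Ideal.IsPrime.ne_top')
  obtain ⟨bK, hbK⟩ := ENat.ne_top_iff_exists.mp hqK_fin
  have h1 := Groth.Agent.Lib.Helper18.RkFlat.height_eq_add_fibLocRing S (S ⊗[k] K) qK
  rw [congrArg Ideal.height hcomap, ← hb, ← hbK] at h1
  have l1 := Groth.Agent.Lib.Helper18.RkFlat.isLocalRing_fibLocRing S (S ⊗[k] K) qK
  obtain ⟨n, hn⟩ := Groth.Agent.Lib.Helper18.SerreReg.exists_ringKrullDim_eq_nat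
    (EGA4.FibLocRing S (S ⊗[k] K) qK)
  rw [hn] at h1
  have h1' : bK = b + n := by exact_mod_cast h1
  have hdq : ringKrullDim (Localization.AtPrime q) = (b : WithBot ℕ∞) := by
    rw [IsLocalization.AtPrime.ringKrullDim_eq_height q (Localization.AtPrime q), ← hb]; rfl
  have hdqK : ringKrullDim (Localization.AtPrime qK) = (bK : WithBot ℕ∞) := by
    rw [IsLocalization.AtPrime.ringKrullDim_eq_height qK (Localization.AtPrime qK), ← hbK]; rfl
  -- local dimensions
  have e1 := Groth.Agent.Lib.Helper25.LocalDimRing.localDim_eq_add k S q r b hr hdq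
  have e2 := Groth.Agent.Lib.Helper25.LocalDimRing.localDim_eq_add K (S ⊗[k] K) qK rK bK hrK hdqK
  have e3 := localDim_tensor_eq k S K qK
  have e4 : (⟨qK.comap (algebraMap S (S ⊗[k] K)), inferInstance⟩ : PrimeSpectrum S) =
      ⟨q, inferInstance⟩ := PrimeSpectrum.ext hcomap
  rw [e4, e1, e2] at e3
  have e5 : rK + bK = r + b := by exact_mod_cast e3
  refine ⟨?_, ?_, ?_⟩
  · rw [hn, hdq, hdqK, h1']
    push_cast
    rw [add_comm]
  · rw [hn]
    have : n + rK = r := by omega
    exact_mod_cast this
  · obtain ⟨q', hq', hq'q, hdim⟩ :=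
      Groth.Agent.Lib.Helper18.FibBridge.exists_prime_fib_dim_zero S (S ⊗[k] K) q
    exact ⟨q', hq', ⟨hq'q.symm⟩, hdim⟩

end Groth.Agent.S9180
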