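import Groth.Statements.S9181
import Mathlib
import Groth.Agent.Lib.Helper23.QFChart
import Groth.Agent.Lib.Helper21.FibDimR2
-- import your own Groth.Agent.* helpers here

set_option autoImplicit false
universe u
open CAlg

namespace Groth.Agent.S9181

open TensorProduct Groth.Agent.Lib.Helper21.FibDim MvPolynomial Groth.Agent.Lib.Helper23.QFChart


/-- Let R → S be of finite type, q a prime of S over p, Q the prime of κ(p) ⊗ S over q, with the fibre
of local dimension n at Q and κ(q) of transcendence degree r over κ(p). Then for some f ∉ p and g ∉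
q there is an R-algebra map φ : R_f[x_1, …, x_n] → S_g, of finite type and quasi-finite, such that
the inverse image of q S_g under φ is the ideal generated by p and the variables x_{r+1}, …, x_n. -/
theorem result (R S : Type u) [CommRing R] [CommRing S]
    [Algebra R S] [Algebra.FiniteType R S] (p : Ideal R) [p.IsPrime] (q : Ideal S) [q.IsPrime] [q.LiesOver p]
    [Algebra (Localization.AtPrime p) (Localization.AtPrime q)]
    [Localization.AtPrime.IsLiesOverAlgebra p q] (Q : PrimeSpectrum (p.Fiber S))
    (hQ : Q.asIdeal.comap (Algebra.TensorProduct.includeRight.toRingHom) = q) (n r : ℕ)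
    (hdim : FlatMor.localDim (PrimeSpectrum (p.Fiber S)) Q = (n : WithBot ℕ∞))
    (hr : Algebra.trdeg p.ResidueField q.ResidueField = r) :
    ∃ (f : R) (g : S), f ∉ p ∧ g ∉ q ∧
      ∃ φ : MvPolynomial (Fin n) (Localization.Away f) →ₐ[R] Localization.Away g,
        φ.toRingHom.FiniteType ∧ φ.toRingHom.QuasiFinite ∧
        (q.map (algebraMap S (Localization.Away g))).comap φ =
          p.map (algebraMap R (MvPolynomial (Fin n) (Localization.Away f))) ⊔
            Ideal.span (Set.range fun i : {i : Fin n // r ≤ (i : ℕ)} =>
              (MvPolynomial.X (i : Fin n) : MvPolynomial (Fin n) (Localization.Away f))) := by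
  have hr' : Algebra.trdeg (R ⧸ p) (S ⧸ q) = r := by rw [trdeg_quotient_eq R S p q, hr]
  obtain ⟨φ₀, hcomap, hqf⟩ := core R S p q Q hQ n r hdim hr'
  letI : Algebra (MvPolynomial (Fin n) R) S := φ₀.toRingHom.toAlgebra
  haveI : IsScalarTower R (MvPolynomial (Fin n) R) S :=
    IsScalarTower.of_algebraMap_eq' φ₀.comp_algebraMap.symm
  haveI : Algebra.FiniteType (MvPolynomial (Fin n) R) S :=
    Algebra.FiniteType.of_restrictScalars_finiteType R _ _
  haveI : Algebra.QuasiFiniteAt (MvPolynomial (Fin n) R) q := hqf
  obtain ⟨g, hg, hqf'⟩ := exists_quasiFinite_away (MvPolynomial (Fin n) R) S q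
  let ε : Localization.Away (1 : R) ≃ₐ[R] R := (IsLocalization.atOne R (Localization.Away (1 : R))).symm
  let μ : MvPolynomial (Fin n) (Localization.Away (1 : R)) ≃ₐ[R] MvPolynomial (Fin n) R :=
    MvPolynomial.mapAlgEquiv (Fin n) ε
  let ψ : MvPolynomial (Fin n) R →ₐ[R] Localization.Away g :=
    (IsScalarTower.toAlgHom R S (Localization.Away g)).comp φ₀
  let φ : MvPolynomial (Fin n) (Localization.Away (1 : R)) →ₐ[R] Localization.Away g :=
    ψ.comp μ.toAlgHom
  have hdisj : Disjoint (Submonoid.powers g : Set S) (q : Set S) := by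
    rw [Set.disjoint_left]
    rintro x ⟨k, rfl⟩ hx
    exact hg (Ideal.IsPrime.mem_of_pow_mem inferInstance k hx)
  have hqB : (q.map (algebraMap S (Localization.Away g))).comap (algebraMap S _) = q :=
    IsLocalization.comap_map_of_isPrime_disjoint (Submonoid.powers g) _ inferInstance hdisj
  refine ⟨1, g, fun h => (Ideal.IsPrime.ne_top inferInstance) ((Ideal.eq_top_iff_one p).mpr h), hg,
    φ, ?_, ?_, ?_⟩
  · apply RingHom.FiniteType.of_comp_finiteType
      (f := algebraMap R (MvPolynomial (Fin n) (Localization.Away (1 : R))))
    have : φ.toRingHom.comp (algebraMap R (MvPolynomial (Fin n) (Localization.Away (1 : R)))) =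
        algebraMap R (Localization.Away g) := φ.comp_algebraMap
    rw [this]
    exact RingHom.finiteType_algebraMap.mpr inferInstance
  · have h1 : φ.toRingHom = ψ.toRingHom.comp μ.toAlgHom.toRingHom := rfl
    rw [h1]
    refine RingHom.QuasiFinite.comp ?_ ?_
    · have : ψ.toRingHom = algebraMap (MvPolynomial (Fin n) R) (Localization.Away g) := by
        ext x <;> rfl
      rw [this]
      exact RingHom.quasiFinite_algebraMap.mpr hqf'
    · exact RingHom.QuasiFinite.of_finite (RingHom.Finite.of_surjective _ μ.surjective)
  · have h1 : (q.map (algebraMap S (Localization.Away g))).comap φ =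
        ((q.map (algebraMap S (Localization.Away g))).comap ψ).comap μ := rfl
    have h2 : (q.map (algebraMap S (Localization.Away g))).comap ψ = q.comap φ₀.toRingHom := by
      have : (q.map (algebraMap S (Localization.Away g))).comap ψ =
          ((q.map (algebraMap S (Localization.Away g))).comap (algebraMap S _)).comap φ₀.toRingHom := rfl
      rw [this, hqB]
    rw [h1, h2, hcomap]
    have h3 : ∀ J : Ideal (MvPolynomial (Fin n) R),
        J.comap μ = J.map (μ.symm.toAlgHom.toRingHom) := by
      intro J
      apply le_antisymm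
      · intro a ha
        have : a = μ.symm.toAlgHom.toRingHom (μ a) := (μ.symm_apply_apply a).symm
        rw [this]
        exact Ideal.mem_map_of_mem _ ha
      · rw [Ideal.map_le_iff_le_comap]
        intro b hb
        show μ (μ.symm b) ∈ J
        rwa [μ.apply_symm_apply]
    rw [h3, Ideal.map_sup, Ideal.map_map, Ideal.map_span, ← Set.range_comp]
    congr 1
    · congr 1
      apply RingHom.ext
      intro a
      simp only [RingHom.comp_apply]
      have : (C a : MvPolynomial (Fin n) R) = algebraMap R _ a := rfl
      rw [this]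
      exact μ.symm.commutes a
    · congr 2
      ext i : 1
      simp only [Function.comp_apply]
      show (MvPolynomial.mapAlgEquiv (Fin n) ε).symm (X (i : Fin n)) = X (i : Fin n)
      rw [MvPolynomial.mapAlgEquiv_symm, MvPolynomial.mapAlgEquiv_apply, MvPolynomial.map_X]

end Groth.Agent.S9181
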