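import Groth.Statements.S9182
import Mathlib

set_option autoImplicit false
universe u
open CAlg

namespace Groth.Agent.S9182



open Algebra TensorProduct MvPolynomial

section JZ
variable {R S T : Type u} [CommRing R] [CommRing S] [Algebra R S] [CommRing T] [Algebra R T]
  [Algebra S T] [IsScalarTower R S T]
variable {ι κ κ' : Type*}

/-- comparison hom between composite generators -/
noncomputable def cmpHom (P : Generators R S ι) (Q : Generators S T κ) (Q₀ : Generators S T κ') :
    Generators.Hom (Q.comp P) (Q₀.comp P) where
  val := Sum.elim (fun j => (Q₀.comp P).σ (Q.val j)) (fun i => X (Sum.inr i))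
  aeval_val := by
    rintro (j | i)
    · simp
    · simp

lemma cmpHom_comp (P : Generators R S ι) (Q : Generators S T κ) (Q₀ : Generators S T κ') :
    (cmpHom P Q Q₀).comp (Q.toComp P) = Q₀.toComp P := by
  ext i
  simp [cmpHom]

lemma inj_of_inj (P : Generators R S ι) (Q : Generators S T κ) (Q₀ : Generators S T κ')
    (h : Function.Injective (LinearMap.liftBaseChange T
      (Extension.Cotangent.map (Q₀.toComp P).toExtensionHom))) :
    Function.Injective (LinearMap.liftBaseChange T
      (Extension.Cotangent.map (Q.toComp P).toExtensionHom)) := by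
  have e1 : (Q₀.toComp P).toExtensionHom
      = (cmpHom P Q Q₀).toExtensionHom.comp (Q.toComp P).toExtensionHom := by
    rw [← Generators.Hom.toExtensionHom_comp, cmpHom_comp]
  rw [e1, Extension.Cotangent.map_comp, ← LinearMap.liftBaseChange_comp] at h
  exact Function.Injective.of_comp (f := (Extension.Cotangent.map (cmpHom P Q Q₀).toExtensionHom)) (by
    simpa using h)

lemma cotangentComplex_bijective [Algebra.FormallyEtale S T] (Q : Generators S T κ) :
    Function.Bijective Q.toExtension.cotangentComplex := by
  constructor
  · have : Algebra.FormallySmooth S Q.toExtension.Ring :=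
      inferInstanceAs (Algebra.FormallySmooth S (MvPolynomial κ S))
    rw [Extension.cotangentComplex_injective_iff]
    infer_instance
  · intro y
    have h := Q.toExtension.exact_cotangentComplex_toKaehler y
    exact h.mp (Subsingleton.elim _ _)

noncomputable def cotEquivFun [Algebra.FormallyEtale S T] [Fintype κ] (Q : Generators S T κ) :
    Q.toExtension.Cotangent ≃ₗ[T] (κ → T) :=
  (LinearEquiv.ofBijective _ (cotangentComplex_bijective Q)).trans
    (Q.cotangentSpaceBasis.equivFun)

theorem compEquiv [Algebra.FormallyEtale S T] [Fintype κ] (P : Generators R S ι)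
    (Q : Generators S T κ)
    (h : Function.Injective (LinearMap.liftBaseChange T
      (Extension.Cotangent.map (Q.toComp P).toExtensionHom))) :
    Nonempty ((Q.comp P).toExtension.Cotangent ≃ₗ[T]
      (T ⊗[S] P.toExtension.Cotangent) × (κ → T)) := by
  have : Module.Projective T Q.toExtension.Cotangent :=
    Module.Projective.of_equiv (cotEquivFun Q).symm
  obtain ⟨l, hl⟩ := Module.projective_lifting_property
    (Extension.Cotangent.map (Q.ofComp P).toExtensionHom) LinearMap.id
    (Generators.Cotangent.surjective_map_ofComp Q P)
  have e := ((Generators.Cotangent.exact Q P).splitSurjectiveEquiv h ⟨l, hl⟩).1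
  exact ⟨e.trans (LinearEquiv.prodCongr (LinearEquiv.refl _ _) (cotEquivFun Q))⟩

theorem compEquivAway (g : S) [IsLocalization.Away g T] [Fintype κ] (P : Generators R S ι)
    (Q : Generators S T κ) :
    Nonempty ((Q.comp P).toExtension.Cotangent ≃ₗ[T]
      (T ⊗[S] P.toExtension.Cotangent) × (κ → T)) := by
  have : Algebra.FormallyEtale S T := Algebra.FormallyEtale.of_isLocalization (Submonoid.powers g)
  exact compEquiv P Q (inj_of_inj P Q (Generators.localizationAway T g)
    (Generators.liftBaseChange_injective_of_isLocalizationAway g P))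

end JZ

section Homs
variable {R S : Type u} [CommRing R] [CommRing S] [Algebra R S]

noncomputable def cotEquivOfHoms {P P' : Extension R S} (f : P.Hom P') (g : P'.Hom P)
    (h1 : g.comp f = Extension.Hom.id P) (h2 : f.comp g = Extension.Hom.id P') :
    P.Cotangent ≃ₗ[S] P'.Cotangent :=
  LinearEquiv.ofLinear (Extension.Cotangent.map f) (Extension.Cotangent.map g)
    (by
      have := Extension.Cotangent.map_comp (f := g) (g := f)
      rw [h2, Extension.Cotangent.map_id] at this
      ext x
      exact (LinearMap.congr_fun this x).symm)
    (by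
      have := Extension.Cotangent.map_comp (f := f) (g := g)
      rw [h1, Extension.Cotangent.map_id] at this
      ext x
      exact (LinearMap.congr_fun this x).symm)

end Homs

section Main
variable {R : Type u} [CommRing R] {A : Type u} [CommRing A] [Algebra R A] {ι : Type*}

lemma aeval_eq (α : MvPolynomial ι R →ₐ[R] A) : aeval (R := R) (fun i => α (X i)) = α :=
  (aeval_unique α).symm

lemma surj_aeval (α : MvPolynomial ι R →ₐ[R] A) (hα : Function.Surjective α) :
    Function.Surjective (aeval (R := R) (fun i => α (X i))) := by
  rw [aeval_eq]; exact hα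

noncomputable def gensOf (α : MvPolynomial ι R →ₐ[R] A) (hα : Function.Surjective α) :
    Generators R A ι :=
  Generators.ofSurjective (fun i => α (X i)) (surj_aeval α hα)

noncomputable def homTo (α : MvPolynomial ι R →ₐ[R] A) (hα : Function.Surjective α) :
    (gensOf α hα).toExtension.Hom (Extension.ofSurjective α hα) where
  toRingHom := RingHom.id _
  toRingHom_algebraMap x := rfl
  algebraMap_toRingHom x := by
    change α x = aeval (R := R) (fun i => α (X i)) x
    rw [aeval_eq]

noncomputable def homFrom (α : MvPolynomial ι R →ₐ[R] A) (hα : Function.Surjective α) :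
    (Extension.ofSurjective α hα).Hom (gensOf α hα).toExtension where
  toRingHom := RingHom.id _
  toRingHom_algebraMap x := rfl
  algebraMap_toRingHom x := by
    change aeval (R := R) (fun i => α (X i)) x = α x
    rw [aeval_eq]

noncomputable def cotEquivOfSurj (α : MvPolynomial ι R →ₐ[R] A) (hα : Function.Surjective α) :
    (gensOf α hα).toExtension.Cotangent ≃ₗ[A] (Extension.ofSurjective α hα).Cotangent :=
  cotEquivOfHoms (homTo α hα) (homFrom α hα) (by ext x; rfl) (by ext x; rfl)

end Main

section Swap
variable {R T : Type u} [CommRing R] [CommRing T] [Algebra R T] {ι κ : Type*}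

noncomputable def swapHom (W : Generators R T (κ ⊕ ι)) (W' : Generators R T (ι ⊕ κ))
    (h : ∀ k, W'.val (Sum.swap k) = W.val k) : Generators.Hom W W' where
  val k := X (Sum.swap k)
  aeval_val k := by simp [h]

lemma swapHom_comp (W : Generators R T (κ ⊕ ι)) (W' : Generators R T (ι ⊕ κ))
    (h : ∀ k, W'.val (Sum.swap k) = W.val k) (h' : ∀ k, W.val (Sum.swap k) = W'.val k) :
    (swapHom W' W h').comp (swapHom W W' h) = Generators.Hom.id W := by
  ext k
  simp [swapHom]

noncomputable def swapEquiv (W : Generators R T (κ ⊕ ι)) (W' : Generators R T (ι ⊕ κ))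
    (h : ∀ k, W'.val (Sum.swap k) = W.val k) :
    W.toExtension.Cotangent ≃ₗ[T] W'.toExtension.Cotangent :=
  have h' : ∀ k, W.val (Sum.swap k) = W'.val k := fun k => by
    rw [← h]; simp
  cotEquivOfHoms (swapHom W W' h).toExtensionHom (swapHom W' W h').toExtensionHom
    (by rw [← Generators.Hom.toExtensionHom_comp, swapHom_comp, Generators.Hom.toExtensionHom_id])
    (by rw [← Generators.Hom.toExtensionHom_comp, swapHom_comp, Generators.Hom.toExtensionHom_id])

end Swap

/-- For presentations α : R[x_1, …, x_n] → S and β : R[y_1, …, y_m] → S_g (g ∈ S) with kernels I and J,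
the S_g-modules (I/I²)_g ⊕ S_g^m and J/J² ⊕ S_g^n are isomorphic. -/
theorem result (R S : Type u) [CommRing R] [CommRing S] [Algebra R S]
    (g : S) (n m : ℕ) (α : MvPolynomial (Fin n) R →ₐ[R] S) (hα : Function.Surjective α)
    (β : MvPolynomial (Fin m) R →ₐ[R] Localization.Away g) (hβ : Function.Surjective β) :
    Nonempty ((LocalizedModule (Submonoid.powers g) (Algebra.Extension.ofSurjective α hα).Cotangent ×
        (Fin m → Localization.Away g)) ≃ₗ[Localization.Away g]
      ((Algebra.Extension.ofSurjective β hβ).Cotangent × (Fin n → Localization.Away g))) := by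

  classical
  have hQ : Function.Surjective (aeval (R := S) (fun j => β (X j))) := by
    intro t
    obtain ⟨p, rfl⟩ := hβ t
    refine ⟨MvPolynomial.map (algebraMap R S) p, ?_⟩
    rw [aeval_map_algebraMap, aeval_eq]
  have hQ' : Function.Surjective (aeval (R := Localization.Away g)
      (fun i => algebraMap S (Localization.Away g) (α (X i)))) := fun t => ⟨C t, by simp⟩
  have hloc : IsLocalization.Away (1 : Localization.Away g) (Localization.Away g) :=
    IsLocalization.away_of_isUnit_of_bijective _ isUnit_one Function.bijective_id
  obtain ⟨e1⟩ := compEquivAway g (gensOf α hα)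
    (Generators.ofSurjective (fun j => β (X j)) hQ)
  obtain ⟨e2⟩ := compEquivAway (1 : Localization.Away g) (gensOf β hβ)
    (Generators.ofSurjective (fun i => algebraMap S (Localization.Away g) (α (X i))) hQ')
  have e3 := swapEquiv ((Generators.ofSurjective (fun j => β (X j)) hQ).comp (gensOf α hα))
    ((Generators.ofSurjective (fun i => algebraMap S (Localization.Away g) (α (X i))) hQ').comp
      (gensOf β hβ)) (by
      rintro (j | i)
      · simp [gensOf]
      · simp [gensOf])
  have e4 := LocalizedModule.equivTensorProduct (Submonoid.powers g)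
    (Algebra.Extension.ofSurjective α hα).Cotangent
  have e5 := LinearEquiv.baseChange S (Localization.Away g) _ _ (cotEquivOfSurj α hα).symm
  have e6 := TensorProduct.lid (Localization.Away g) (gensOf β hβ).toExtension.Cotangent
  have e7 := cotEquivOfSurj β hβ
  exact ⟨(LinearEquiv.prodCongr (e4.trans e5) (LinearEquiv.refl _ _)).trans
    (e1.symm.trans (e3.trans (e2.trans
      (LinearEquiv.prodCongr (e6.trans e7) (LinearEquiv.refl _ _)))))⟩

end Groth.Agent.S9182
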