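import Groth.Statements.S9183
import Groth.Agent.Lib.Helper1.UnderColimit

set_option autoImplicit false
universe u
open CategoryTheory CategoryTheory.Limits
open CAlg

namespace Groth.Agent.S9183

section generic

variable {R P A : Type u} [CommRing R] [CommRing P] [CommRing A] [Algebra R P] [Algebra R A]

/-- the ideal of a subalgebra `S` generated by the elements of `t` lying in `S`. -/
abbrev relIn (S : Subalgebra R P) (t : Set P) : Ideal S := Ideal.span (Subtype.val ⁻¹' t)

/-- the stage algebra. -/
abbrev Stage (S : Subalgebra R P) (t : Set P) : Type u := S ⧸ relIn S t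

lemma relIn_le_comap {S T : Subalgebra R P} (hST : S ≤ T) {t t' : Set P} (htt' : t ⊆ t') :
    relIn S t ≤ (relIn T t').comap (Subalgebra.inclusion hST).toRingHom := by
  rw [relIn, Ideal.span_le]
  intro p hp
  apply Ideal.subset_span
  exact htt' hp

/-- the transition maps. -/
noncomputable def trans {S T : Subalgebra R P} (hST : S ≤ T) {t t' : Set P} (htt' : t ⊆ t') :
    Stage S t →+* Stage T t' :=
  Ideal.quotientMap _ (Subalgebra.inclusion hST).toRingHom (relIn_le_comap hST htt')

lemma trans_mk {S T : Subalgebra R P} (hST : S ≤ T) {t t' : Set P} (htt' : t ⊆ t') (x : S) :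
    trans hST htt' (Ideal.Quotient.mk _ x) = Ideal.Quotient.mk _ (Subalgebra.inclusion hST x) :=
  rfl

lemma trans_algebraMap {S T : Subalgebra R P} (hST : S ≤ T) {t t' : Set P} (htt' : t ⊆ t')
    (r : R) : trans hST htt' (algebraMap R (Stage S t) r) = algebraMap R (Stage T t') r :=
  rfl

lemma trans_id {S : Subalgebra R P} (h : S ≤ S) {t : Set P} (h' : t ⊆ t) :
    trans h h' = RingHom.id (Stage S t) := by
  apply Ideal.Quotient.ringHom_ext
  ext x
  rfl

lemma trans_comp {S T U : Subalgebra R P} (h₁ : S ≤ T) (h₂ : T ≤ U) {t t' t'' : Set P}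
    (h₁' : t ⊆ t') (h₂' : t' ⊆ t'') :
    (trans h₂ h₂').comp (trans h₁ h₁') = trans (h₁.trans h₂) (h₁'.trans h₂') := by
  apply Ideal.Quotient.ringHom_ext
  ext x
  rfl

lemma leg_aux (π : P →ₐ[R] A) (S : Subalgebra R P) (t : Set P) (ht : ∀ p ∈ t, π p = 0) :
    ∀ p ∈ relIn S t, ((π.comp S.val).toRingHom) p = 0 := by
  intro p hp
  have hle : relIn S t ≤ RingHom.ker (π.comp S.val).toRingHom := by
    rw [relIn, Ideal.span_le]
    intro q hq
    exact ht q.1 hq
  exact hle hp

/-- the legs of the cocone. -/
noncomputable def leg (π : P →ₐ[R] A) (S : Subalgebra R P) (t : Set P)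
    (ht : ∀ p ∈ t, π p = 0) : Stage S t →+* A :=
  Ideal.Quotient.lift _ ((π.comp S.val).toRingHom) (leg_aux π S t ht)

lemma leg_mk (π : P →ₐ[R] A) (S : Subalgebra R P) (t : Set P) (ht : ∀ p ∈ t, π p = 0) (x : S) :
    leg π S t ht (Ideal.Quotient.mk _ x) = π x.1 := rfl

lemma leg_algebraMap (π : P →ₐ[R] A) (S : Subalgebra R P) (t : Set P) (ht : ∀ p ∈ t, π p = 0)
    (r : R) : leg π S t ht (algebraMap R (Stage S t) r) = algebraMap R A r :=
  π.commutes r

lemma leg_comp_trans (π : P →ₐ[R] A) {S T : Subalgebra R P} (hST : S ≤ T) {t t' : Set P}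
    (htt' : t ⊆ t') (ht' : ∀ p ∈ t', π p = 0) :
    (leg π T t' ht').comp (trans hST htt') = leg π S t (fun p hp => ht' p (htt' hp)) := by
  apply Ideal.Quotient.ringHom_ext
  ext x
  rfl

lemma mk_eq_mk_of_sub_mem {S T U : Subalgebra R P} (hSU : S ≤ U) (hTU : T ≤ U) {t : Set P}
    (p : S) (q : T) (h : p.1 - q.1 ∈ t) :
    Ideal.Quotient.mk (relIn U t) (Subalgebra.inclusion hSU p) =
      Ideal.Quotient.mk (relIn U t) (Subalgebra.inclusion hTU q) := by
  rw [Ideal.Quotient.eq]
  apply Ideal.subset_span
  exact h

lemma finitePresentation_stage (S : Subalgebra R P) [Algebra.FinitePresentation R S] (t : Set P)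
    (ht : t.Finite) : Algebra.FinitePresentation R (Stage S t) :=
  Algebra.FinitePresentation.quotient
    (Submodule.fg_span (Set.Finite.preimage (Subtype.val_injective.injOn) ht))

end generic

section construction

variable (R A : Type u) [CommRing R] [CommRing A] [Algebra R A]

/-- polynomials in the variables from the finite set `s`. -/
noncomputable abbrev Ps (s : Finset A) : Subalgebra R (MvPolynomial A R) :=
  MvPolynomial.supported R (s : Set A)

/-- the evaluation map. -/
noncomputable abbrev ev : MvPolynomial A R →ₐ[R] A := MvPolynomial.aeval id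

/-- the index set: finite sets of variables and finite sets of relations in those variables. -/
def Idx : Type u :=
  {st : Finset A × Finset (MvPolynomial A R) //
    (↑st.2 : Set (MvPolynomial A R)) ⊆ Ps R A st.1 ∧ ∀ p ∈ (↑st.2 : Set (MvPolynomial A R)),
      ev R A p = 0}

instance : Preorder (Idx R A) := inferInstanceAs (Preorder (Subtype _))

variable {R A}

lemma Ps_mono {i j : Idx R A} (h : i ≤ j) : Ps R A i.1.1 ≤ Ps R A j.1.1 :=
  MvPolynomial.supported_mono (by exact_mod_cast h.1)

lemma rel_mono {i j : Idx R A} (h : i ≤ j) :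
    (↑i.1.2 : Set (MvPolynomial A R)) ⊆ (↑j.1.2 : Set (MvPolynomial A R)) := by
  exact_mod_cast h.2

/-- the objects of the diagram. -/
noncomputable abbrev objD (i : Idx R A) : Under (CommRingCat.of R) :=
  Under.mk (Y := CommRingCat.of (Stage (Ps R A i.1.1) (↑i.1.2 : Set (MvPolynomial A R))))
    (CommRingCat.ofHom (algebraMap R (Stage (Ps R A i.1.1)
    (↑i.1.2 : Set (MvPolynomial A R)))))

lemma mapD_w {i j : Idx R A} (h : i ≤ j) :
    (objD i).hom ≫ CommRingCat.ofHom (trans (Ps_mono h) (rel_mono h)) = (objD j).hom := by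
  ext r
  exact trans_algebraMap (Ps_mono h) (rel_mono h) r

/-- the maps of the diagram. -/
noncomputable abbrev mapD {i j : Idx R A} (h : i ≤ j) : objD i ⟶ objD j :=
  Under.homMk (CommRingCat.ofHom (trans (Ps_mono h) (rel_mono h))) (mapD_w h)

/-- the diagram. -/
noncomputable abbrev diagram : Idx R A ⥤ Under (CommRingCat.of R) where
  obj i := objD i
  map {i j} f := mapD (leOfHom f)
  map_id i := by
    apply Under.UnderMorphism.ext
    simp only [Under.homMk_right, Under.id_right]
    rw [trans_id]
    rfl
  map_comp f g := by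
    apply Under.UnderMorphism.ext
    simp only [Under.homMk_right, Under.comp_right]
    rw [← CommRingCat.ofHom_comp, trans_comp]

/-- the cocone point. -/
noncomputable abbrev ptC : Under (CommRingCat.of R) :=
  Under.mk (Y := CommRingCat.of A) (CommRingCat.ofHom (algebraMap R A))

lemma legC_w (i : Idx R A) :
    (objD i).hom ≫ CommRingCat.ofHom (leg (ev R A) (Ps R A i.1.1)
        (↑i.1.2 : Set (MvPolynomial A R)) i.2.2) = (ptC (R := R) (A := A)).hom := by
  ext r
  exact leg_algebraMap (ev R A) (Ps R A i.1.1) (↑i.1.2 : Set (MvPolynomial A R)) i.2.2 r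

/-- the legs. -/
noncomputable abbrev legC (i : Idx R A) : objD i ⟶ ptC (R := R) (A := A) :=
  Under.homMk (CommRingCat.ofHom (leg (ev R A) (Ps R A i.1.1)
        (↑i.1.2 : Set (MvPolynomial A R)) i.2.2)) (legC_w i)

/-- the cocone. -/
noncomputable abbrev cocone : Cocone (diagram (R := R) (A := A)) where
  pt := ptC
  ι :=
    { app i := legC i
      naturality i j f := by
        apply Under.UnderMorphism.ext
        simp only [Functor.const_obj_obj, Functor.const_obj_map, Under.comp_right,
          Under.homMk_right, Category.comp_id]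
        rw [← CommRingCat.ofHom_comp, leg_comp_trans] }

end construction

/-- Every R-algebra A, with no finiteness assumption, is the colimit of a filtered system of finitely
presented R-algebras. (The published statement asserts that the category of all finitely presented
R-algebras with a map to A is filtered with colimit A; this row states that some small filtered
system of finitely presented R-algebras has colimit A.) -/
theorem result (R A : Type u) [CommRing R] [CommRing A] [Algebra R A] :
    ∃ (I : Type u) (_ : SmallCategory I) (_ : IsFiltered I) (D : I ⥤ Under (CommRingCat.of R))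
      (c : Cocone D) (_ : IsColimit c),
      (∀ i, (D.obj i).hom.hom.FinitePresentation) ∧
      Nonempty (c.pt ≅ Under.mk (CommRingCat.ofHom (algebraMap R A))) := by
  classical
  have hne : Nonempty (Idx R A) := ⟨⟨(∅, ∅), by simp, by simp⟩⟩
  have hdir : IsDirected (Idx R A) (· ≤ ·) := ⟨fun i j ↦
    ⟨⟨(i.1.1 ∪ j.1.1, i.1.2 ∪ j.1.2), by
        intro p hp
        rw [Finset.coe_union] at hp
        rcases hp with hp | hp
        · exact MvPolynomial.supported_mono (by simp) (i.2.1 hp)
        · exact MvPolynomial.supported_mono (by simp) (j.2.1 hp), by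
        intro p hp
        rw [Finset.coe_union] at hp
        rcases hp with hp | hp
        · exact i.2.2 p hp
        · exact j.2.2 p hp⟩,
      ⟨Finset.subset_union_left, Finset.subset_union_left⟩,
      ⟨Finset.subset_union_right, Finset.subset_union_right⟩⟩⟩
  obtain ⟨hc⟩ : Nonempty (IsColimit (cocone (R := R) (A := A))) := by
    refine Groth.Agent.Lib.Helper1.isColimit_under_of_surj_inj _ _ ?_ ?_
    · intro a
      let i₀ : Idx R A := ⟨({a}, ∅), by simp, by simp⟩
      have hX : (MvPolynomial.X a : MvPolynomial A R) ∈ Ps R A i₀.1.1 := by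
        rw [Ps, MvPolynomial.supported_eq_adjoin_X]
        exact Algebra.subset_adjoin ⟨a, by simp [i₀], rfl⟩
      refine ⟨i₀, Ideal.Quotient.mk _ ⟨MvPolynomial.X a, hX⟩, ?_⟩
      have h1 : leg (ev R A) (Ps R A i₀.1.1) (↑i₀.1.2 : Set (MvPolynomial A R)) i₀.2.2
          (Ideal.Quotient.mk _ ⟨MvPolynomial.X a, hX⟩) = ev R A (MvPolynomial.X a) :=
        leg_mk _ _ _ _ _
      refine Eq.trans ?_ h1.symm
      simp [ev]
    · intro i j x y hxy
      obtain ⟨p, rfl⟩ := Ideal.Quotient.mk_surjective x
      obtain ⟨q, rfl⟩ := Ideal.Quotient.mk_surjective y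
      have hxy' : leg (ev R A) (Ps R A i.1.1) (↑i.1.2 : Set (MvPolynomial A R)) i.2.2
          (Ideal.Quotient.mk _ p) = leg (ev R A) (Ps R A j.1.1)
            (↑j.1.2 : Set (MvPolynomial A R)) j.2.2 (Ideal.Quotient.mk _ q) := hxy
      rw [leg_mk, leg_mk] at hxy'
      have hpq : ev R A (p.1 - q.1) = 0 := by
        rw [map_sub, hxy', sub_self]
      let k : Idx R A := ⟨(i.1.1 ∪ j.1.1, insert (p.1 - q.1) (i.1.2 ∪ j.1.2)), by
          intro r hr
          rw [Finset.coe_insert, Finset.coe_union] at hr
          rcases hr with rfl | hr | hr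
          · exact Subalgebra.sub_mem _ (MvPolynomial.supported_mono (by simp) p.2)
              (MvPolynomial.supported_mono (by simp) q.2)
          · exact MvPolynomial.supported_mono (by simp) (i.2.1 hr)
          · exact MvPolynomial.supported_mono (by simp) (j.2.1 hr), by
          intro r hr
          rw [Finset.coe_insert, Finset.coe_union] at hr
          rcases hr with rfl | hr | hr
          · exact hpq
          · exact i.2.2 r hr
          · exact j.2.2 r hr⟩
      have hik : i ≤ k := ⟨Finset.subset_union_left,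
        (Finset.subset_union_left).trans (Finset.subset_insert _ _)⟩
      have hjk : j ≤ k := ⟨Finset.subset_union_right,
        (Finset.subset_union_right).trans (Finset.subset_insert _ _)⟩
      refine ⟨k, homOfLE hik, homOfLE hjk, ?_⟩
      have e1 : trans (Ps_mono hik) (rel_mono hik) (Ideal.Quotient.mk _ p) =
          trans (Ps_mono hjk) (rel_mono hjk) (Ideal.Quotient.mk _ q) := by
        rw [trans_mk, trans_mk]
        apply mk_eq_mk_of_sub_mem
        show p.1 - q.1 ∈ (↑(insert (p.1 - q.1) (i.1.2 ∪ j.1.2)) : Set (MvPolynomial A R))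
        rw [Finset.coe_insert]
        exact Set.mem_insert _ _
      exact e1
  refine ⟨Idx R A, inferInstance, inferInstance, diagram, cocone, hc, ?_, ⟨Iso.refl _⟩⟩
  intro i
  have h1 : Algebra.FinitePresentation R (Ps R A i.1.1) :=
    Algebra.FinitePresentation.equiv
      (MvPolynomial.supportedEquivMvPolynomial (R := R) (i.1.1 : Set A)).symm
  have h2 : Algebra.FinitePresentation R (Stage (Ps R A i.1.1)
      (↑i.1.2 : Set (MvPolynomial A R))) :=
    finitePresentation_stage _ _ (Finset.finite_toSet _)
  exact (RingHom.finitePresentation_algebraMap (A := R) (B := Stage (Ps R A i.1.1)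
      (↑i.1.2 : Set (MvPolynomial A R)))).mpr h2


end Groth.Agent.S9183
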