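import Groth.Statements.S9185
import Mathlib
import Groth.Agent.Lib.Helper5.DiffOp

set_option autoImplicit false
universe u
open Diff16

namespace Groth.Agent.S9185

open scoped TensorProduct
open Groth.Agent.Lib.Helper5.DiffOp

section
variable (R S : Type u) [CommRing R] [CommRing S] [Algebra R S] (M : Type u)
  [AddCommGroup M] [Module S M] [Module R M] [IsScalarTower R S M] (k : ℕ)

/-- The alternating-sum generator. -/
noncomputable def gen (b : Fin (k + 1) → S) (t : M) : S ⊗[R] M :=
  ∑ H : Finset (Fin (k + 1)),
    ((-1 : ℤ) ^ H.card) • ((∏ i ∈ H, b i) ⊗ₜ[R] ((∏ i ∈ Hᶜ, b i) • t))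

/-- The submodule of relations. -/
noncomputable def K : Submodule S (S ⊗[R] M) :=
  Submodule.span S {x | ∃ b t, x = gen R S M k b t}

/-- The universal operator. -/
noncomputable def univD : M →ₗ[R] (S ⊗[R] M) ⧸ K R S M k :=
  ((K R S M k).mkQ.restrictScalars R) ∘ₗ (TensorProduct.mk R S M 1)

lemma univD_apply (m : M) : univD R S M k m = (K R S M k).mkQ ((1 : S) ⊗ₜ[R] m) := rfl

lemma isDiffOpLE_univD : Diff16.IsDiffOpLE R S M ((S ⊗[R] M) ⧸ K R S M k) k (univD R S M k) := by
  rw [isDiffOpLE_iff_alternating]
  intro b t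
  have h : ∑ H : Finset (Fin (k + 1)),
        ((-1 : ℤ) ^ H.card) • ((∏ i ∈ H, b i) • univD R S M k ((∏ i ∈ Hᶜ, b i) • t)) =
      (K R S M k).mkQ (gen R S M k b t) := by
    rw [gen, map_sum]
    refine Finset.sum_congr rfl fun H _ => ?_
    rw [map_zsmul, univD_apply, ← map_smul, TensorProduct.smul_tmul', smul_eq_mul, mul_one]
  rw [h]
  exact (Submodule.Quotient.mk_eq_zero _).mpr (Submodule.subset_span ⟨b, t, rfl⟩)

end

/-- For a ring map R → S, an S-module M and k ≥ 0 there is an S-module P together with a differential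
operator D : M → P of order at most k (relative to R → S) such that every differential operator of
order at most k from M to an S-module N is α ∘ D for a unique S-linear map α : P → N; that is,
differential operators of order ≤ k out of M are represented by P. (Target modules N are taken in
the same universe.) -/
theorem result (R S : Type u) [CommRing R] [CommRing S] [Algebra R S] (M : Type u)
    [AddCommGroup M] [Module S M] [Module R M] [IsScalarTower R S M] (k : ℕ) :
    ∃ (P : Type u) (_ : AddCommGroup P) (_ : Module S P) (_ : Module R P) (_ : IsScalarTower R S P)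
      (D : M →ₗ[R] P), Diff16.IsDiffOpLE R S M P k D ∧
        ∀ (N : Type u) [AddCommGroup N] [Module S N] [Module R N] [IsScalarTower R S N] (D' : M →ₗ[R] N),
          Diff16.IsDiffOpLE R S M N k D' → ∃! α : P →ₗ[S] N, α.restrictScalars R ∘ₗ D = D' := by
  refine ⟨(S ⊗[R] M) ⧸ K R S M k, inferInstance, inferInstance, inferInstance, inferInstance,
    univD R S M k, isDiffOpLE_univD R S M k, ?_⟩
  intro N _ _ _ _ D' hD'
  have hK : K R S M k ≤ LinearMap.ker (LinearMap.liftBaseChange S D') := by
    refine Submodule.span_le.mpr ?_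
    rintro _ ⟨b, t, rfl⟩
    rw [SetLike.mem_coe, LinearMap.mem_ker, gen, map_sum]
    rw [isDiffOpLE_iff_alternating] at hD'
    rw [← hD' b t]
    refine Finset.sum_congr rfl fun H _ => ?_
    rw [map_zsmul, LinearMap.liftBaseChange_tmul]
  refine ⟨(K R S M k).liftQ (LinearMap.liftBaseChange S D') hK, ?_, ?_⟩
  · ext m
    simp [univD_apply]
  · intro α' hα'
    apply Submodule.linearMap_qext
    apply TensorProduct.AlgebraTensorModule.ext
    intro s m
    have h1 : s ⊗ₜ[R] m = s • ((1 : S) ⊗ₜ[R] m) := by
      rw [TensorProduct.smul_tmul', smul_eq_mul, mul_one]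
    have h2 : α' (univD R S M k m) = D' m := by
      rw [← hα']; rfl
    simp only [LinearMap.comp_apply, Submodule.liftQ_mkQ]
    rw [h1, map_smul, map_smul, map_smul, ← univD_apply, h2, LinearMap.liftBaseChange_tmul,
      one_smul]

end Groth.Agent.S9185
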