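import Groth.Statements.S9200
import Groth.Agent.Lib.Helper24.LimOverBase

set_option autoImplicit false
universe u
open CategoryTheory AlgebraicGeometry
open Lim

namespace Groth.Agent.S9200

/-- Let S be a scheme and X = lim X_i a cofiltered limit of S-schemes X_i (a diagram with a compatible
family of structure maps to S) with affine transition morphisms, every X_i quasi-compact and
quasi-separated; the structure map X → S is the composite X → X_{i₀} → S for any index i₀. Assume S
is quasi-compact and quasi-separated. If X → S is affine, then X_i → S is affine for all i beyond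
some index i₁. -/
theorem result {I : Type u} [SmallCategory I] [IsCofiltered I] (S : Scheme.{u}) [CompactSpace S] [QuasiSeparatedSpace S]
    (D : I ⥤ Scheme.{u}) (t : D ⟶ (Functor.const I).obj S) (c : Limits.Cone D) (hc : Limits.IsLimit c)
    [∀ (i j : I) (a : i ⟶ j), IsAffineHom (D.map a)]
    [∀ i, CompactSpace (D.obj i)] [∀ i, QuasiSeparatedSpace (D.obj i)] (i₀ : I)
    [IsAffineHom (c.π.app i₀ ≫ t.app i₀)] :
    ∃ i₁ : I, ∀ (i : I) (_ : i ⟶ i₁), IsAffineHom (t.app i) := by
  classical
  -- for every point of `S` an affine open neighbourhood and a stage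
  have key : ∀ s : S, ∃ (U : S.Opens) (j : I), s ∈ U ∧ IsAffineOpen U ∧
      ∀ (i : I) (_ : i ⟶ j), IsAffineOpen (t.app i ⁻¹ᵁ U) := by
    intro s
    obtain ⟨_, ⟨U, hU, rfl⟩, hsU, -⟩ :=
      S.isBasis_affineOpens.exists_subset_of_mem_open (Set.mem_univ s) isOpen_univ
    obtain ⟨j, hj⟩ := Groth.Agent.Lib.Helper24.limOver_exists_isAffineOpen_preimage D t c hc i₀ U hU
      (hU.preimage _)
    exact ⟨U, j, hsU, hU, hj⟩
  choose U j hsU hU hj using key
  obtain ⟨σ, hσ⟩ := CompactSpace.elim_nhds_subcover (fun s => ((U s : S.Opens) : Set S))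
    (fun s => (U s).2.mem_nhds (hsU s))
  obtain ⟨i₁, fi⟩ := IsCofiltered.inf_objs_exists (σ.image j)
  refine ⟨i₁, fun i a => ?_⟩
  refine isAffineHom_of_forall_exists_isAffineOpen (f := t.app i) fun x => ?_
  obtain ⟨s, hsσ, hxs⟩ : ∃ s ∈ σ, x ∈ U s := by
    have : x ∈ ⋃ s ∈ σ, ((U s : S.Opens) : Set S) := hσ ▸ Set.mem_univ x
    simpa using this
  have hmem : j s ∈ σ.image j := Finset.mem_image_of_mem j hsσ
  exact ⟨U s, hxs, hU s, hj s i (a ≫ (fi hmem).some)⟩

end Groth.Agent.S9200
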