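import Groth.Statements.S9206
-- import your own Groth.Agent.* helpers here

set_option autoImplicit false
universe u
open CategoryTheory AlgebraicGeometry
open Lim

namespace Groth.Agent.S9206

open Scheme.Opens in
set_option backward.defeqAttrib.useBackward true in
set_option backward.isDefEq.respectTransparency false in
lemma exists_appLE_eq {I : Type u} [SmallCategory I] [IsCofiltered I]
    (D : I ⥤ Scheme.{u}) (c : Limits.Cone D) (hc : Limits.IsLimit c)
    [∀ (i j : I) (f : i ⟶ j), IsAffineHom (D.map f)] {i : I} {V : (D.obj i).Opens}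
    (hV : IsAffineOpen V) (r : Γ(c.pt, c.π.app i ⁻¹ᵁ V)) :
    ∃ (j : I) (g : j ⟶ i) (h : c.π.app j ⁻¹ᵁ D.map g ⁻¹ᵁ V = c.π.app i ⁻¹ᵁ V)
      (t : Γ(D.obj j, D.map g ⁻¹ᵁ V)),
      r = (c.π.app j).appLE (D.map g ⁻¹ᵁ V) (c.π.app i ⁻¹ᵁ V) h.ge t := by
  have (j : _) : IsAffine ((opensDiagram D i V).op.obj j).unop := hV.preimage _
  have (j : _) : IsAffine ((opensDiagram D i V).obj j) := hV.preimage _
  obtain ⟨⟨j⟩, s, hs⟩ := (Limits.Types.jointly_surjective_of_isColimit (Limits.isColimitOfPreserves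
    (Scheme.Γ ⋙ forget _) (isLimitOpensCone D c hc i V).op) ((c.π.app i ⁻¹ᵁ V).topIso.inv r))
  obtain ⟨s, rfl⟩ := (D.map j.hom ⁻¹ᵁ V).topIso.symm.commRingCatIsoToRingEquiv.surjective s
  have h : c.π.app j.left ⁻¹ᵁ D.map j.hom ⁻¹ᵁ V = c.π.app i ⁻¹ᵁ V := congr($(c.w j.hom) ⁻¹ᵁ V)
  have : r = (c.π.app j.left).appLE (D.map j.hom ⁻¹ᵁ V) (c.π.app i ⁻¹ᵁ V) h.ge s := by
    convert!
      show r = ((topIso _).inv ≫ ((opensCone D c i V).π.app j).appTop ≫ (topIso _).hom) s from
        (c.π.app i ⁻¹ᵁ V).topIso.commRingCatIsoToRingEquiv.symm_apply_eq.mp hs.symm using 3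
    simp [Scheme.Hom.app_eq_appLE, Scheme.Hom.resLE_appLE]
  exact ⟨j.left, j.hom, h, s, this⟩

lemma key {I : Type u} [SmallCategory I] [IsCofiltered I]
    (D : I ⥤ Scheme.{u}) (c : Limits.Cone D) (hc : Limits.IsLimit c)
    [∀ (i j : I) (f : i ⟶ j), IsAffineHom (D.map f)] (s : c.pt) {U : c.pt.Opens} (hsU : s ∈ U)
    (f : Γ(c.pt, U)) {i : I} {V : (D.obj i).Opens} (hV : IsAffineOpen V)
    (hsW : s ∈ c.π.app i ⁻¹ᵁ V) (hWU : c.π.app i ⁻¹ᵁ V ≤ U) :
    ∃ (i : I) (b : (D.obj i).residueField ((c.π.app i).base s)),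
      ((c.π.app i).residueFieldMap s).hom b = c.pt.residue s (c.pt.presheaf.germ U s hsU f) := by
  obtain ⟨j, g, h, t, ht⟩ := exists_appLE_eq D c hc hV (c.pt.presheaf.map (homOfLE hWU).op f)
  have hsj : (c.π.app j).base s ∈ D.map g ⁻¹ᵁ V := by
    have : s ∈ c.π.app j ⁻¹ᵁ D.map g ⁻¹ᵁ V := h ▸ hsW
    exact this
  refine ⟨j, (D.obj j).residue _ ((D.obj j).presheaf.germ (D.map g ⁻¹ᵁ V) _ hsj t), ?_⟩
  have h1 := congr($(Scheme.residue_residueFieldMap (c.π.app j) s)
    ((D.obj j).presheaf.germ (D.map g ⁻¹ᵁ V) _ hsj t))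
  rw [CommRingCat.comp_apply, CommRingCat.comp_apply] at h1
  refine h1.trans ?_
  congr 1
  rw [Scheme.Hom.germ_stalkMap_apply, ← TopCat.Presheaf.germ_res_apply _ (homOfLE hWU) s hsW f, ht,
    Scheme.Hom.appLE]
  rw [CommRingCat.comp_apply]
  exact (TopCat.Presheaf.germ_res_apply c.pt.presheaf (homOfLE h.ge) s hsW _).symm

/-- Let S = lim S_i be a cofiltered limit of schemes with affine transition morphisms and let s be a
point of S with images s_i in S_i. Then the residue field κ(s) is the colimit of the residue fields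
κ(s_i): every element of κ(s) is the image of an element of κ(s_i) for some i under the map of
residue fields induced by S → S_i (the maps κ(s_i) → κ(s) being injective, this says that the
canonical map from the colimit is an isomorphism). -/
theorem result {I : Type u} [SmallCategory I] [IsCofiltered I]
    (D : I ⥤ Scheme.{u}) (c : Limits.Cone D) (hc : Limits.IsLimit c)
    [∀ (i j : I) (f : i ⟶ j), IsAffineHom (D.map f)] (s : c.pt) (a : c.pt.residueField s) :
    ∃ (i : I) (b : (D.obj i).residueField ((c.π.app i).base s)), ((c.π.app i).residueFieldMap s).hom b = a := by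
  obtain ⟨g, rfl⟩ := c.pt.residue_surjective s a
  obtain ⟨U, hsU, f, rfl⟩ := c.pt.presheaf.exists_germ_eq g
  obtain ⟨_, ⟨i, V, hV, rfl⟩, hsW, hWU⟩ :=
    TopologicalSpace.Opens.isBasis_iff_nbhd.mp (isBasis_preimage_isAffineOpen D c hc) hsU
  exact key D c hc s hsU f hV hsW hWU

end Groth.Agent.S9206
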