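import Groth.Statements.S9212
import Groth.Agent.Lib.Helper21.Comp3
-- import your own Groth.Agent.* helpers here

set_option autoImplicit false
universe u
open CategoryTheory CategoryTheory.Limits AlgebraicGeometry
open Lim

namespace Groth.Agent.S9212

/-- Let S be a locally Noetherian scheme and f : X → S a morphism of finite type. Then f is proper if
and only if: for every generic point η of an irreducible component of X, every discrete valuation
ring A contained in the residue field κ(η) with fraction field κ(η) (a valuation subring of κ(η)
which is a discrete valuation ring), and every morphism Spec A → S whose restriction to Spec κ(η) is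
the canonical morphism Spec κ(η) → X followed by f, there is exactly one morphism Spec A → X over S
restricting to the canonical morphism on Spec κ(η). -/
theorem result {X S : Scheme.{u}} [IsLocallyNoetherian S] (f : X ⟶ S)
    [LocallyOfFiniteType f] [QuasiCompact f] :
    IsProper f ↔ ∀ (η : X), closure {η} ∈ irreducibleComponents (X : Type u) →
      ∀ (A : ValuationSubring (X.residueField η)), IsDiscreteValuationRing A →
        ∀ y : Spec (CommRingCat.of A) ⟶ S,
          Spec.map (CommRingCat.ofHom A.subtype) ≫ y = X.fromSpecResidueField η ≫ f →
          ∃! l : Spec (CommRingCat.of A) ⟶ X,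
            l ≫ f = y ∧ Spec.map (CommRingCat.ofHom A.subtype) ≫ l = X.fromSpecResidueField η := by
  constructor
  · intro hprop η _ A hA y hy
    obtain ⟨l, hl1, hl2⟩ :=
      Groth.Agent.Lib.Helper21.DVRExt.exists_lift_valuationSubring_of_universallyClosed f η A y hy
    refine ⟨l, ⟨hl1, hl2⟩, ?_⟩
    rintro l' ⟨hl1', hl2'⟩
    have : IsDominant (Spec.map (CommRingCat.ofHom A.subtype)) :=
      Groth.Agent.Lib.Helper21.DVRExt.isDominant_specMap_of_injective _ Subtype.val_injective
    exact ext_of_isDominant_of_isSeparated f (hl1'.trans hl1.symm)
      (Spec.map (CommRingCat.ofHom A.subtype)) (hl2'.trans hl2.symm)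
  · intro H
    have hsep : IsSeparated f := by
      apply Groth.Agent.Lib.Helper21.DVRExt.isSeparated_of_valuationSubring_uniqueness f
      intro η hη A hA l₁ l₂ h12 h1 h2
      obtain ⟨l, -, hluniq⟩ := H η hη A hA (l₁ ≫ f) (by rw [← Category.assoc, h1])
      exact (hluniq l₁ ⟨rfl, h1⟩).trans (hluniq l₂ ⟨h12.symm, h2⟩).symm
    have hUC : UniversallyClosed f := by
      apply Groth.Agent.Lib.Helper21.DVRExt.universallyClosed_of_generic_dvr_existence f
      intro η hη A hA y hy
      obtain ⟨l, hl, -⟩ := H η hη A hA y hy
      exact ⟨l, hl⟩
    exact { }

end Groth.Agent.S9212
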