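import Groth.Statements.S9214
import Groth.Agent.Lib.Helper1.NATri2
import Groth.Agent.Lib.Helper1.NAImm

set_option autoImplicit false
universe u
open CategoryTheory CategoryTheory.Limits AlgebraicGeometry
open Lim
open Groth.Agent.Lib.Helper1.NA Opposite Limits

namespace Groth.Agent.S9214

/-- Let S = lim S_i be a cofiltered limit of Noetherian schemes with affine transition morphisms, and
suppose X → S is of finite type and quasi-separated. One can then find an index i, a finite type
morphism W → S_i and a morphism X → W over S_i (compatible with X → S → S_i) for which the resulting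
map X → S ×_{S_i} W into the fibre product is a closed immersion. -/
theorem result {I : Type u} [SmallCategory I] [IsCofiltered I]
    (D : I ⥤ Scheme.{u}) (c : Limits.Cone D) (hc : Limits.IsLimit c)
    [∀ (i j : I) (f : i ⟶ j), IsAffineHom (D.map f)] [∀ i, IsNoetherian (D.obj i)]
    {X : Scheme.{u}} (a : X ⟶ c.pt) [QuasiSeparated a] [QuasiCompact a] [LocallyOfFiniteType a] :
    ∃ (i : I) (W : Scheme.{u}) (w : W ⟶ D.obj i) (b : X ⟶ W) (hb : a ≫ c.π.app i = b ≫ w),
      LocallyOfFiniteType w ∧ QuasiCompact w ∧ IsClosedImmersion (pullback.lift a b hb) := by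
  classical
  have haff : ∀ {i j : I} (f : i ⟶ j), IsAffineHom (D.map f) := fun f => inferInstance
  obtain ⟨i₁⟩ := IsCofiltered.nonempty (C := I)
  have hπ₁ : IsAffineHom (c.π.app i₁) := isAffineHom_π_app D c hc i₁
  let π₁ : c.pt ⟶ D.obj i₁ := c.π.app i₁
  have hπ₁' : IsAffineHom π₁ := hπ₁
  have hSc : CompactSpace c.pt := QuasiCompact.compactSpace_of_compactSpace π₁
  have hSq : QuasiSeparatedSpace c.pt := quasiSeparatedSpace_of_quasiSeparated π₁
  have hXc : CompactSpace X := QuasiCompact.compactSpace_of_compactSpace a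
  have hXq : QuasiSeparatedSpace X := quasiSeparatedSpace_of_quasiSeparated a
  obtain ⟨PX⟩ := nonempty_pres X
  obtain ⟨PS⟩ := nonempty_pres c.pt
  obtain ⟨t, ht⟩ := Tri.exists_isClosedImmersion_toXp a PX PS
  let S₀ : Scheme.{u} := PS.D.obj (op t.b)
  let σ : c.pt ⟶ S₀ := PS.π.app (op t.b)
  have hS₀ : FTZ S₀ := PS.hft (op t.b)
  have hS₀' : LocallyOfFiniteType (tZ S₀) := hS₀.2
  have hS₀'' : LocallyOfFinitePresentation (tZ S₀) := lfp_of_lft_of_isLocallyNoetherian _
  let tS : D ⟶ (Functor.const I).obj (Spec (CommRingCat.of (ULift.{u} ℤ))) :=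
    { app := fun j => tZ (D.obj j)
      naturality := fun _ _ _ => specULiftZIsTerminal.hom_ext _ _ }
  obtain ⟨i, σi, hσ, -⟩ := Scheme.exists_π_app_comp_eq_of_locallyOfFinitePresentation D tS
    (tZ S₀) c hc σ (by ext j; exact specULiftZIsTerminal.hom_ext _ _)
  have hcond : PX.π.app (op t.a) ≫ t.g = (a ≫ c.π.app i) ≫ σi := by
    rw [Category.assoc, hσ]; exact t.w
  let W : Scheme.{u} := pullback t.g σi
  let w : W ⟶ D.obj i := pullback.snd t.g σi
  let b : X ⟶ W := pullback.lift (PX.π.app (op t.a)) (a ≫ c.π.app i) hcond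
  have hb : a ≫ c.π.app i = b ≫ w := (pullback.lift_snd _ _ _).symm
  have hlft := Tri.lft_g t
  have hw1 : LocallyOfFiniteType w := inferInstance
  have hw2 : QuasiCompact w := inferInstance
  refine ⟨i, W, w, b, hb, hw1, hw2, ?_⟩
  -- comparison with `Xp t`
  let m : pullback (c.π.app i) w ⟶ Tri.Xp t :=
    pullback.lift (pullback.snd (c.π.app i) w ≫ pullback.fst t.g σi) (pullback.fst (c.π.app i) w)
      (by
        have e0 : pullback.fst (c.π.app i) w ≫ c.π.app i = pullback.snd (c.π.app i) w ≫ w :=
          pullback.condition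
        have e2 : pullback.fst t.g σi ≫ t.g = w ≫ σi := pullback.condition
        have e3 : PS.π.app (op t.b) = c.π.app i ≫ σi := hσ.symm
        rw [Category.assoc, e2, e3, ← Category.assoc, ← Category.assoc, e0])
  have hm : Mono m := by
    constructor
    intro T u v huv
    have h1 := congrArg (fun k => k ≫ pullback.fst t.g (PS.π.app (op t.b))) huv
    have h2 := congrArg (fun k => k ≫ pullback.snd t.g (PS.π.app (op t.b))) huv
    simp only [Category.assoc, m, pullback.lift_fst, pullback.lift_snd] at h1 h2
    apply pullback.hom_ext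
    · exact h2
    · apply pullback.hom_ext
      · simpa only [Category.assoc] using h1
      · have e1 : pullback.snd (c.π.app i) w ≫ pullback.snd t.g σi =
            pullback.fst (c.π.app i) w ≫ c.π.app i := pullback.condition.symm
        rw [Category.assoc, Category.assoc, e1, ← Category.assoc, ← Category.assoc, h2]
  have hcomp : pullback.lift a b hb ≫ m = Tri.toXp a PX PS t := by
    apply pullback.hom_ext
    · simp only [Category.assoc, m, pullback.lift_fst, Tri.toXp_fst]
      rw [← Category.assoc, pullback.lift_snd]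
      exact pullback.lift_fst _ _ _
    · simp only [Category.assoc, m, pullback.lift_snd, Tri.toXp_snd]
      exact pullback.lift_fst _ _ _
  have hci : IsClosedImmersion (pullback.lift a b hb ≫ m) := by rw [hcomp]; exact ht
  exact IsClosedImmersion.of_comp (pullback.lift a b hb) m

end Groth.Agent.S9214
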