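import Groth.Statements.S9224
import Groth.Agent.Lib.Helper1.PbSys2

set_option autoImplicit false
universe u
open CategoryTheory CategoryTheory.Limits AlgebraicGeometry
open Lim

namespace Groth.Agent.S9224

/-- Let f : X → S be a quasi-compact morphism, g : T → S a morphism, t a point of T and Z a closed
subset of X_T = X ×_S T which does not meet the fibre of X_T → T over t. Then there exist an affine
open neighbourhood V of t in T, an affine scheme T' with a morphism b : T' → S locally of finite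
presentation, a morphism a : V → T' whose composite with b is the restriction of g, and a closed
subset Z' of X_{T'} = X ×_S T' which does not meet the fibre over t' = a(t), such that the induced
morphism X_V → X_{T'} maps every point of X_V lying over Z (under X_V → X_T) into Z'. The morphisms
X_V → X_T and X_V → X_{T'} are the canonical ones, characterised by their projections. -/
theorem result {X S T : Scheme.{u}} (f : X ⟶ S) [QuasiCompact f] (g : T ⟶ S) (t : T)
    (Z : Set ↥(pullback f g)) (hZ : IsClosed Z) (hZt : ∀ z ∈ Z, (pullback.snd f g).base z ≠ t) :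
    ∃ (V : T.Opens) (ht : t ∈ V) (T' : Scheme.{u}) (b : T' ⟶ S) (a : (V : Scheme.{u}) ⟶ T')
      (n : pullback f (V.ι ≫ g) ⟶ pullback f g) (m : pullback f (V.ι ≫ g) ⟶ pullback f b)
      (Z' : Set ↥(pullback f b)),
      IsAffineOpen V ∧ IsAffine T' ∧ LocallyOfFinitePresentation b ∧ a ≫ b = V.ι ≫ g ∧
      n ≫ pullback.fst f g = pullback.fst f (V.ι ≫ g) ∧ n ≫ pullback.snd f g = pullback.snd f (V.ι ≫ g) ≫ V.ι ∧
      m ≫ pullback.fst f b = pullback.fst f (V.ι ≫ g) ∧ m ≫ pullback.snd f b = pullback.snd f (V.ι ≫ g) ≫ a ∧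
      IsClosed Z' ∧ (∀ z' ∈ Z', (pullback.snd f b).base z' ≠ a.base ⟨t, ht⟩) ∧
      ∀ z : ↥(pullback f (V.ι ≫ g)), n.base z ∈ Z → m.base z ∈ Z' := by
  classical
  obtain ⟨_, ⟨(S₀ : S.Opens), (hS₀ : IsAffineOpen S₀), rfl⟩, htS₀, -⟩ :=
    S.isBasis_affineOpens.exists_subset_of_mem_open (Set.mem_univ (g.base t)) isOpen_univ
  obtain ⟨_, ⟨(V : T.Opens), (hV : IsAffineOpen V), rfl⟩, htV, hVS₀⟩ :=
    T.isBasis_affineOpens.exists_subset_of_mem_open (show t ∈ ((g ⁻¹ᵁ S₀ : T.Opens) : Set T) from htS₀)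
      (g ⁻¹ᵁ S₀).isOpen
  haveI : IsAffine (V : Scheme.{u}) := hV
  haveI : IsAffine (S₀ : Scheme.{u}) := hS₀
  have hrange : Set.range (V.ι ≫ g).base ⊆ Set.range S₀.ι.base := by
    rw [Scheme.Opens.range_ι]
    rintro _ ⟨v, rfl⟩
    have : V.ι.base v ∈ (V : Set T) := by
      have := Scheme.Opens.range_ι V ▸ Set.mem_range_self (f := V.ι.base) v
      exact this
    exact hVS₀ this
  let gV : (V : Scheme.{u}) ⟶ (S₀ : Scheme.{u}) := IsOpenImmersion.lift S₀.ι (V.ι ≫ g) hrange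
  have hgV : gV ≫ S₀.ι = V.ι ≫ g := IsOpenImmersion.lift_fac _ _ _
  obtain ⟨I, _, _, _, D, s, c, hc, e, h1, h2, h3, h4, h5⟩ :=
    Groth.Agent.Lib.Helper1.NA.exists_fp_limit' gV
  haveI : ∀ {i j : Iᵒᵖ} (a : i ⟶ j), IsAffineHom (D.map a) := fun a => h3 _ _ a
  haveI : ∀ i : Iᵒᵖ, CompactSpace (D.obj i) := h5
  haveI : ∀ i : Iᵒᵖ, QuasiSeparatedSpace (D.obj i) := fun i => by
    haveI := (h2 i).2.2
    haveI : QuasiSeparatedSpace ↥(((Functor.const Iᵒᵖ).obj (S₀ : Scheme.{u})).obj i) :=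
      (inferInstance : QuasiSeparatedSpace ↥(S₀ : Scheme.{u}))
    exact quasiSeparatedSpace_of_quasiSeparated (s.app i)
  let s' : D ⟶ (Functor.const Iᵒᵖ).obj S := s ≫ (Functor.const Iᵒᵖ).map S₀.ι
  let c' : Cone D :=
    { pt := (V : Scheme.{u})
      π :=
        { app := fun i => e.inv ≫ c.π.app i
          naturality := fun i j a => by
            change 𝟙 _ ≫ e.inv ≫ c.π.app j = (e.inv ≫ c.π.app i) ≫ D.map a
            rw [Category.id_comp, Category.assoc, c.w] } }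
  have hc' : IsLimit c' := IsLimit.ofIsoLimit hc (Cone.ext e (fun i => by
    change c.π.app i = e.hom ≫ e.inv ≫ c.π.app i
    rw [Iso.hom_inv_id_assoc]))
  have hg : ∀ j, c'.π.app j ≫ s'.app j = V.ι ≫ g := by
    intro j
    change (e.inv ≫ c.π.app j) ≫ (s.app j ≫ S₀.ι) = V.ι ≫ g
    rw [Category.assoc, ← Category.assoc (c.π.app j), h1 j, Category.assoc, hgV,
      Iso.inv_hom_id_assoc]
  haveI : IsAffine c'.pt := hV
  obtain ⟨i₀, hi₀⟩ := Scheme.exists_isAffine_of_isLimit D c' hc'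
  let n : pullback f (V.ι ≫ g) ⟶ pullback f g :=
    pullback.lift (pullback.fst _ _) (pullback.snd _ _ ≫ V.ι)
      (by rw [pullback.condition, Category.assoc])
  have hn1 : n ≫ pullback.fst f g = pullback.fst f (V.ι ≫ g) := pullback.lift_fst _ _ _
  have hn2 : n ≫ pullback.snd f g = pullback.snd f (V.ι ≫ g) ≫ V.ι := pullback.lift_snd _ _ _
  let W : (pullback f (V.ι ≫ g)).Opens := n ⁻¹ᵁ ⟨Zᶜ, hZ.isOpen_compl⟩
  have hW : ∀ z, (pullback.snd f (V.ι ≫ g)).base z = ⟨t, htV⟩ → z ∈ W := by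
    intro z hz
    change n.base z ∈ Zᶜ
    intro hzZ
    apply hZt _ hzZ
    rw [← Scheme.Hom.comp_apply, hn2, Scheme.Hom.comp_apply, hz]
    rfl
  obtain ⟨i, hi, O, hO1, hO2⟩ :=
    Groth.Agent.Lib.Helper1.PbSys.exists_stage_of_fibre_le D s' f c' (V.ι ≫ g) hg hc' ⟨t, htV⟩ W hW
      i₀.unop
  haveI : IsAffine (D.obj (Opposite.op i₀.unop)) := hi₀
  haveI : IsAffine (D.obj (Opposite.op i)) := isAffine_of_isAffineHom (D.map (homOfLE hi).op)
  refine ⟨V, htV, D.obj (Opposite.op i), s'.app (Opposite.op i), c'.π.app (Opposite.op i), n,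
    Groth.Agent.Lib.Helper1.PbSys.pbLeg D s' f c' (V.ι ≫ g) hg (Opposite.op i), (O : Set _)ᶜ,
    hV, inferInstance, ?_, hg (Opposite.op i), hn1, hn2,
    Groth.Agent.Lib.Helper1.PbSys.pbLeg_fst D s' f c' (V.ι ≫ g) hg (Opposite.op i),
    Groth.Agent.Lib.Helper1.PbSys.pbLeg_snd D s' f c' (V.ι ≫ g) hg (Opposite.op i),
    O.isOpen.isClosed_compl, ?_, ?_⟩
  · haveI := (h2 (Opposite.op i)).1
    change LocallyOfFinitePresentation (s.app (Opposite.op i) ≫ S₀.ι)
    infer_instance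
  · intro z' hz' h
    exact hz' (hO2 z' h)
  · intro z hz hmz
    have : z ∈ W := hO1 hmz
    exact this hz

end Groth.Agent.S9224
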