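import Groth.Statements.S9230
import Mathlib
import Groth.Agent.Lib.Helper9.NormalDescent

set_option autoImplicit false
universe u
open EGA4

namespace Groth.Agent.S9230

theorem main (A S : Type u) [CommRing A]
    [IsLocalRing A] [IsNoetherianRing A] [CommRing S] [IsLocalRing S] [Algebra A S]
    [IsLocalHom (algebraMap A S)] [Hensel.IsHenselization A S]
    (hA : EGA4.HasGeomNormalFormalFibres A) : CAlg.IsUniversallyCatenary S :=
  Groth.Agent.Lib.Helper9.NormalDescent.isUniversallyCatenary_of_isHenselization A S hA


/-- For a Noetherian local ring A whose formal fibres are geometrically normal, every henselization S of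
A is universally catenary. -/
theorem result (A S : Type u) [CommRing A]
    [IsLocalRing A] [IsNoetherianRing A] [CommRing S] [IsLocalRing S] [Algebra A S]
    [IsLocalHom (algebraMap A S)] [Hensel.IsHenselization A S]
    (hA : EGA4.HasGeomNormalFormalFibres A) : CAlg.IsUniversallyCatenary S := by
  exact main A S hA

end Groth.Agent.S9230
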