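import Groth.Statements.S9232
import Mathlib
import Groth.Agent.S9231

set_option autoImplicit false
universe u
open CAlg

namespace Groth.Agent.S9232

/-- Suppose A → B is a flat local ring map between Noetherian local rings, the maximal ideal of A
generates that of B, and the residue field map is bijective. Then the induced map between the
completions of A and B (a ring map of the completions compatible with A → B; it is unique since A is
Noetherian) is an isomorphism. -/
theorem result (A B : Type u) [CommRing A]
    [CommRing B] [IsLocalRing A] [IsLocalRing B] [IsNoetherianRing A] [IsNoetherianRing B]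
    [Algebra A B] [IsLocalHom (algebraMap A B)] [Module.Flat A B]
    (hm : Ideal.map (algebraMap A B) (IsLocalRing.maximalIdeal A) = IsLocalRing.maximalIdeal B)
    (hk : Function.Bijective (IsLocalRing.ResidueField.map (algebraMap A B)))
    (ψ : AdicCompletion (IsLocalRing.maximalIdeal A) A →+* AdicCompletion (IsLocalRing.maximalIdeal B) B)
    (hψ : ψ.comp (algebraMap A (AdicCompletion (IsLocalRing.maximalIdeal A) A)) =
      (algebraMap B (AdicCompletion (IsLocalRing.maximalIdeal B) B)).comp (algebraMap A B)) :
    Function.Bijective ψ := by
  classical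
  have hmap : (IsLocalRing.maximalIdeal (AdicCompletion (IsLocalRing.maximalIdeal A) A)).map ψ =
      IsLocalRing.maximalIdeal (AdicCompletion (IsLocalRing.maximalIdeal B) B) := by
    rw [AdicCompletion.maximalIdeal_eq_map (R := A), Ideal.map_map, hψ, ← Ideal.map_map, hm,
      ← AdicCompletion.maximalIdeal_eq_map (R := B)]
  constructor
  · -- injective: flat + local ⟹ faithfully flat
    have hflat : ψ.Flat :=
      (Groth.Agent.S9231.result A B ψ hψ).mpr (RingHom.flat_algebraMap_iff.mpr inferInstance)
    let algψ : Algebra (AdicCompletion (IsLocalRing.maximalIdeal A) A)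
      (AdicCompletion (IsLocalRing.maximalIdeal B) B) := ψ.toAlgebra
    have hfl : Module.Flat (AdicCompletion (IsLocalRing.maximalIdeal A) A)
      (AdicCompletion (IsLocalRing.maximalIdeal B) B) := hflat
    have hloc : IsLocalHom (algebraMap (AdicCompletion (IsLocalRing.maximalIdeal A) A)
        (AdicCompletion (IsLocalRing.maximalIdeal B) B)) := by
      apply ((IsLocalRing.local_hom_TFAE _).out 0 2).mpr
      exact hmap.le
    have hff : Module.FaithfullyFlat (AdicCompletion (IsLocalRing.maximalIdeal A) A)
        (AdicCompletion (IsLocalRing.maximalIdeal B) B) :=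
      Module.FaithfullyFlat.of_flat_of_isLocalHom
    exact FaithfulSMul.algebraMap_injective (AdicCompletion (IsLocalRing.maximalIdeal A) A)
        (AdicCompletion (IsLocalRing.maximalIdeal B) B)
  · -- surjective: complete Nakayama
    have hH : IsHausdorff ((IsLocalRing.maximalIdeal (AdicCompletion (IsLocalRing.maximalIdeal A) A)).map ψ)
        (AdicCompletion (IsLocalRing.maximalIdeal B) B) := by
      rw [hmap]
      infer_instance
    refine surjective_of_mk_map_comp_surjective (I := IsLocalRing.maximalIdeal (AdicCompletion (IsLocalRing.maximalIdeal A) A)) ψ ?_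
    intro y
    obtain ⟨bh, rfl⟩ := Ideal.Quotient.mk_surjective y
    obtain ⟨rb, hrb⟩ := (AdicCompletion.residueField_map_bijective (R := B)).2 (IsLocalRing.residue _ bh)
    obtain ⟨b, rfl⟩ := IsLocalRing.residue_surjective rb
    obtain ⟨ra, hra⟩ := hk.2 (IsLocalRing.residue _ b)
    obtain ⟨a, rfl⟩ := IsLocalRing.residue_surjective ra
    refine ⟨algebraMap A _ a, ?_⟩
    rw [RingHom.comp_apply, Ideal.Quotient.eq, hmap]
    have h1 : ψ (algebraMap A _ a) = algebraMap B _ (algebraMap A B a) := RingHom.congr_fun hψ a
    rw [h1]
    rw [IsLocalRing.ResidueField.map_residue] at hrb hra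
    have hrb' : algebraMap B (AdicCompletion (IsLocalRing.maximalIdeal B) B) b - bh ∈
        IsLocalRing.maximalIdeal (AdicCompletion (IsLocalRing.maximalIdeal B) B) := by
      rw [← IsLocalRing.residue_eq_zero_iff, map_sub, hrb, sub_self]
    have hra' : algebraMap A B a - b ∈ IsLocalRing.maximalIdeal B := by
      rw [← IsLocalRing.residue_eq_zero_iff, map_sub, hra, sub_self]
    have h2 : algebraMap B (AdicCompletion (IsLocalRing.maximalIdeal B) B) (algebraMap A B a - b) ∈
        IsLocalRing.maximalIdeal (AdicCompletion (IsLocalRing.maximalIdeal B) B) := by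
      rw [AdicCompletion.maximalIdeal_eq_map (R := B)]
      exact Ideal.mem_map_of_mem _ hra'
    have h3 := Ideal.add_mem _ h2 hrb'
    convert h3 using 1
    rw [map_sub]
    ring

end Groth.Agent.S9232
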