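import Groth.Statements.S9239
import Mathlib
import Groth.Agent.Lib.Helper4.BrnchCompl
import Groth.Agent.Lib.Helper4.HzsHens
import Groth.Agent.Lib.Helper4.HznHens
import Groth.Agent.S9237
import Groth.Agent.S9238

set_option autoImplicit false
universe u
open Brnch

namespace Groth.Agent.S9239

open Groth.Agent.Lib.Helper4 in
/-- For a Noetherian local ring A with completion A^ at its maximal ideal, A^ has at least as many
branches as A, and at least as many geometric branches as A. -/
theorem result (A : Type u) [CommRing A] [IsLocalRing A] [IsNoetherianRing A] :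
    Brnch.numBranches A ≤ Brnch.numBranches (AdicCompletion (IsLocalRing.maximalIdeal A) A) ∧
      Brnch.numGeomBranches A ≤
        Brnch.numGeomBranches (AdicCompletion (IsLocalRing.maximalIdeal A) A) := by
  have hH := BrnchCompl.henselianLocalRing_adicCompletion A
  have hidloc : IsLocalHom (algebraMap (AdicCompletion (IsLocalRing.maximalIdeal A) A)
      (AdicCompletion (IsLocalRing.maximalIdeal A) A)) := ⟨fun a ha => ha⟩
  have hself : Hensel.IsHenselization (AdicCompletion (IsLocalRing.maximalIdeal A) A)
      (AdicCompletion (IsLocalRing.maximalIdeal A) A) := Hzn.isHenselization_self _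
  constructor
  · rw [← Groth.Agent.S9237.result A (Hzn.Hz A),
      ← Groth.Agent.S9237.result (AdicCompletion (IsLocalRing.maximalIdeal A) A)
        (AdicCompletion (IsLocalRing.maximalIdeal A) A)]
    obtain ⟨g, hg, -⟩ := (Hzn.Hz.isHenselization (R := A)).universal
      (AdicCompletion (IsLocalRing.maximalIdeal A) A)
      (algebraMap A (AdicCompletion (IsLocalRing.maximalIdeal A) A)) inferInstance
    let _ : Algebra (Hzn.Hz A) (AdicCompletion (IsLocalRing.maximalIdeal A) A) := g.toAlgebra
    have : IsScalarTower A (Hzn.Hz A) (AdicCompletion (IsLocalRing.maximalIdeal A) A) :=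
      IsScalarTower.of_algebraMap_eq (fun a => (congrArg (fun F => F a) hg).symm)
    have := Hzn.faithfullyFlat_completion_of_isHenselization A (Hzn.Hz A)
    exact BrnchCompl.card_minimalPrimes_le_of_faithfullyFlat (Hzn.Hz A)
      (AdicCompletion (IsLocalRing.maximalIdeal A) A)
  · rw [← Groth.Agent.S9238.result A (Hzs.Hs A),
      ← Groth.Agent.S9238.result (AdicCompletion (IsLocalRing.maximalIdeal A) A)
        (Hzs.Hs (AdicCompletion (IsLocalRing.maximalIdeal A) A))]
    obtain ⟨σ, hσ, hfl⟩ := BrnchCompl.exists_flat_local_hom_strict A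
      (AdicCompletion (IsLocalRing.maximalIdeal A) A) (Hzs.Hs A)
      (Hzs.Hs (AdicCompletion (IsLocalRing.maximalIdeal A) A))
    let _ : Algebra (Hzs.Hs A) (Hzs.Hs (AdicCompletion (IsLocalRing.maximalIdeal A) A)) :=
      σ.toAlgebra
    have h1 : IsLocalHom (algebraMap (Hzs.Hs A)
        (Hzs.Hs (AdicCompletion (IsLocalRing.maximalIdeal A) A))) := hσ
    have h2 : Module.Flat (Hzs.Hs A) (Hzs.Hs (AdicCompletion (IsLocalRing.maximalIdeal A) A)) := hfl
    have h3 : Module.FaithfullyFlat (Hzs.Hs A)
        (Hzs.Hs (AdicCompletion (IsLocalRing.maximalIdeal A) A)) :=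
      Module.FaithfullyFlat.of_flat_of_isLocalHom
    exact BrnchCompl.card_minimalPrimes_le_of_faithfullyFlat (Hzs.Hs A)
      (Hzs.Hs (AdicCompletion (IsLocalRing.maximalIdeal A) A))

end Groth.Agent.S9239
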