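import Groth.Statements.S9245
-- import your own Groth.Agent.* helpers here
import Mathlib

set_option autoImplicit false
universe u
open CAlg

namespace Groth.Agent.S9245


theorem noeth_of_faithfullyFlat (A B : Type*) [CommRing A] [CommRing B] [Algebra A B]
    [Module.FaithfullyFlat A B] [IsNoetherianRing B] : IsNoetherianRing A := by
  rw [isNoetherianRing_iff, isNoetherian_iff'] at *
  have hmono : StrictMono (Ideal.map (algebraMap A B)) :=
    Monotone.strictMono_of_injective (fun _ _ h => Ideal.map_mono h)
      Ideal.map_injective_of_faithfullyFlat
  exact hmono.wellFoundedGT

/-- For an étale ring map A → B and a prime q of B with contraction p in A, the localization A_p is a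
Noetherian ring exactly when the localization B_q is. -/
theorem result (A B : Type u) [CommRing A] [CommRing B]
    [Algebra A B] [Algebra.Etale A B] (q : Ideal B) [q.IsPrime] :
    IsNoetherianRing (Localization.AtPrime (Ideal.comap (algebraMap A B) q)) ↔
      IsNoetherianRing (Localization.AtPrime q) := by
  set p := Ideal.comap (algebraMap A B) q with hp
  have hlo : q.LiesOver p := ⟨rfl⟩
  let _ := Localization.AtPrime.algebraOfLiesOver p q
  constructor
  · intro hA
    have h1 : Algebra.EssFiniteType A (Localization.AtPrime q) := inferInstance
    have h2 : Algebra.EssFiniteType (Localization.AtPrime p) (Localization.AtPrime q) :=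
      Algebra.EssFiniteType.of_comp A (Localization.AtPrime p) (Localization.AtPrime q)
    obtain ⟨S₀, M, hft, hloc⟩ := (Algebra.essFiniteType_iff_exists_subalgebra _ _).mp h2
    have : IsNoetherianRing S₀ := Algebra.FiniteType.isNoetherianRing (Localization.AtPrime p) S₀
    exact IsLocalization.isNoetherianRing M _ inferInstance
  · intro hB
    have : Module.Flat A B := inferInstance
    have : Module.Flat (Localization.AtPrime p) (Localization.AtPrime q) := inferInstance
    have : IsLocalHom (algebraMap (Localization.AtPrime p) (Localization.AtPrime q)) := by
      rw [RingHom.algebraMap_toAlgebra]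
      exact Localization.isLocalHom_localRingHom p q (algebraMap A B) Ideal.LiesOver.over
    have : Module.FaithfullyFlat (Localization.AtPrime p) (Localization.AtPrime q) :=
      Module.FaithfullyFlat.of_flat_of_isLocalHom
    exact noeth_of_faithfullyFlat (Localization.AtPrime p) (Localization.AtPrime q)

end Groth.Agent.S9245
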