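import Groth.Statements.S9246
import Mathlib
import Groth.Agent.S9245
import Groth.Agent.Lib.Helper18.FlatLocal
import Groth.Agent.Lib.Helper18.SerreReg2
-- import your own Groth.Agent.* helpers here

set_option autoImplicit false
universe u
open CAlg

namespace Groth.Agent.S9246

/-- Let A → B be an étale ring map and q a prime of B lying over the prime p of A. Then A_p is a regular
local ring if and only if B_q is a regular local ring. -/
theorem result (A B : Type u) [CommRing A] [CommRing B]
    [Algebra A B] [Algebra.Etale A B] (q : Ideal B) [q.IsPrime] :
    IsRegularLocalRing (Localization.AtPrime (Ideal.comap (algebraMap A B) q)) ↔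
      IsRegularLocalRing (Localization.AtPrime q) := by
  classical
  set p := Ideal.comap (algebraMap A B) q with hp
  have hlo : q.LiesOver p := ⟨rfl⟩
  let _ := Localization.AtPrime.algebraOfLiesOver p q
  have hflat : Module.Flat (Localization.AtPrime p) (Localization.AtPrime q) := inferInstance
  have hloc : IsLocalHom (algebraMap (Localization.AtPrime p) (Localization.AtPrime q)) := by
    rw [RingHom.algebraMap_toAlgebra]
    exact Localization.isLocalHom_localRingHom p q (algebraMap A B) Ideal.LiesOver.over
  have hunr : Algebra.FormallyUnramified (Localization.AtPrime p) (Localization.AtPrime q) := by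
    haveI : Algebra.FormallyUnramified A (Localization.AtPrime q) :=
      Algebra.FormallyUnramified.comp A B _
    exact Algebra.FormallyUnramified.of_restrictScalars A _ _
  have hess : Algebra.EssFiniteType (Localization.AtPrime p) (Localization.AtPrime q) := by
    haveI : Algebra.EssFiniteType A (Localization.AtPrime q) := inferInstance
    exact Algebra.EssFiniteType.of_comp A (Localization.AtPrime p) (Localization.AtPrime q)
  constructor
  · intro hA
    haveI : IsNoetherianRing (Localization.AtPrime q) :=
      (Groth.Agent.S9245.result A B q).mp inferInstance
    have hmax : (IsLocalRing.maximalIdeal (Localization.AtPrime p)).map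
        (algebraMap (Localization.AtPrime p) (Localization.AtPrime q)) =
        IsLocalRing.maximalIdeal (Localization.AtPrime q) :=
      Algebra.FormallyUnramified.map_maximalIdeal
    have hfld : IsField (Localization.AtPrime q ⧸ (IsLocalRing.maximalIdeal (Localization.AtPrime p)).map
        (algebraMap (Localization.AtPrime p) (Localization.AtPrime q))) := by
      rw [hmax]
      exact (Ideal.Quotient.maximal_ideal_iff_isField_quotient _).mp inferInstance
    letI := hfld.toField
    haveI : IsRegularLocalRing (Localization.AtPrime q ⧸ (IsLocalRing.maximalIdeal (Localization.AtPrime p)).map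
        (algebraMap (Localization.AtPrime p) (Localization.AtPrime q))) := inferInstance
    exact Groth.Agent.Lib.Helper18.FlatLocal.isRegularLocalRing_of_flat_of_fibre
      (Localization.AtPrime p) (Localization.AtPrime q)
  · intro hB
    haveI : IsNoetherianRing (Localization.AtPrime p) :=
      (Groth.Agent.S9245.result A B q).mpr inferInstance
    exact Groth.Agent.Lib.Helper18.SerreReg.isRegularLocalRing_of_flat_of_isLocalHom
      (Localization.AtPrime p) (Localization.AtPrime q)

end Groth.Agent.S9246
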