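import Groth.Statements.S9249
import Mathlib
import Groth.Agent.Lib.Helper18.FormEq

set_option autoImplicit false
universe u
open CAlg

namespace Groth.Agent.S9249

/-- A Noetherian local ring is Cohen-Macaulay if and only if its completion is. -/
theorem result (A : Type u) [CommRing A] [IsLocalRing A]
    [IsNoetherianRing A] :
    LocCoh.IsCohenMacaulayLocalRing A ↔
      LocCoh.IsCohenMacaulayLocalRing (AdicCompletion (IsLocalRing.maximalIdeal A) A) := by
  open Groth.Agent.Lib.Helper18.FormEq in
  · haveI : IsNoetherianRing (AdicCompletion (IsLocalRing.maximalIdeal A) A) := inferInstance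
    haveI : IsLocalRing (AdicCompletion (IsLocalRing.maximalIdeal A) A) := inferInstance
    have h1 : LocCoh.depth (EGA4.Cpl A) (EGA4.Cpl A) = LocCoh.depth A A := depth_cpl A
    have h2 : ringKrullDim (EGA4.Cpl A) = ringKrullDim A := ringKrullDim_cpl A
    constructor
    · intro h
      refine { supportDim_eq_depth := ?_ }
      have h3 := h.supportDim_eq_depth
      rw [Module.supportDim_self_eq_ringKrullDim] at h3 ⊢
      change ringKrullDim (EGA4.Cpl A) = ((LocCoh.depth (EGA4.Cpl A) (EGA4.Cpl A) : ℕ∞) : WithBot ℕ∞)
      rw [h1, h2, h3]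
    · intro h
      refine { supportDim_eq_depth := ?_ }
      have h3 := h.supportDim_eq_depth
      rw [Module.supportDim_self_eq_ringKrullDim] at h3 ⊢
      change ringKrullDim (EGA4.Cpl A) = ((LocCoh.depth (EGA4.Cpl A) (EGA4.Cpl A) : ℕ∞) : WithBot ℕ∞) at h3
      rw [h1, h2] at h3
      exact h3

end Groth.Agent.S9249
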