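import Groth.Statements.S9256
import Mathlib
import Groth.Agent.Lib.Helper21.RegularLocal

set_option autoImplicit false
universe u
open CAlg

namespace Groth.Agent.S9256

open scoped TensorProduct

/-- A regular ring is reduced. -/
lemma isReduced_of_isRegularRing (A : Type u) [CommRing A] [IsRegularRing A] : IsReduced A := by
  apply isReduced_ofLocalizationMaximal
  intro P hP
  have : IsRegularLocalRing (Localization.AtPrime P) := inferInstance
  have := Groth.Agent.Lib.Helper21.isDomain_of_isRegularLocalRing (Localization.AtPrime P)
  infer_instance

/-- A reduced Artinian ring is regular. -/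
lemma isRegularRing_of_isArtinianRing_of_isReduced (A : Type u) [CommRing A] [IsArtinianRing A]
    [IsReduced A] : IsRegularRing A := by
  rw [isRegularRing_iff]
  intro P hP
  have : IsArtinianRing (Localization.AtPrime P) := inferInstance
  have hf : IsField (Localization.AtPrime P) :=
    IsArtinianRing.isField_of_isReduced_of_isLocalRing _
  let := hf.toField
  infer_instance

/-- The comparison isomorphism `k' ⊗[κ] (κ ⊗[k] K) ≃+* K ⊗[k] k'`. -/
noncomputable def cmp (k κ k' K : Type u) [Field k] [Field κ] [CommRing k'] [CommRing K]
    [Algebra k κ] [Algebra k K] [Algebra κ k'] [Algebra k k'] [IsScalarTower k κ k'] :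
    k' ⊗[κ] (κ ⊗[k] K) ≃+* K ⊗[k] k' :=
  (Algebra.TensorProduct.cancelBaseChange k κ κ k' K).toRingEquiv.trans
    (Algebra.TensorProduct.comm k k' K).toRingEquiv

/-- For a field extension K of k, the ring map k → K is regular exactly when K is separable over k, that
is, geometrically reduced over k. -/
theorem result (k K : Type u) [Field k] [Field K]
    [Algebra k K] : CAlg.IsRegularHom k K ↔ Algebra.IsGeometricallyReduced k K := by
  constructor
  · intro h
    obtain ⟨-, h⟩ := h
    obtain ⟨-, hgr⟩ := h (⊥ : Ideal k)
    rw [Algebra.isGeometricallyReduced_field_iff]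
    have hred : IsReduced (K ⊗[k] AlgebraicClosure k) := by
      apply IsReduced.tensorProduct_of_flat_of_forall_fg
      intro B hB
      set κ := (⊥ : Ideal k).ResidueField with hκ
      let e : k ≃ₐ[k] κ := (⊥ : Ideal k).algEquivResidueFieldOfField
      let : Field B := (Subalgebra.isField_of_algebraic B).toField
      let : Algebra κ B := ((algebraMap k B).comp e.symm.toRingHom).toAlgebra
      have : IsScalarTower k κ B := .of_algebraMap_eq (fun x => by
        change algebraMap k B x = algebraMap k B (e.symm (algebraMap k κ x))
        rw [← Ideal.algEquivResidueFieldOfField_apply, AlgEquiv.symm_apply_apply])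
      have : Algebra.FiniteType k B := ⟨(Subalgebra.fg_top B).mpr hB⟩
      have : Algebra.IsIntegral k B := Algebra.IsIntegral.of_injective B.val Subtype.val_injective
      have : Module.Finite k B := Algebra.IsIntegral.finite
      have : Module.Finite κ B := Module.Finite.of_restrictScalars_finite k κ B
      have hreg := hgr B inferInstance
      have := @isReduced_of_isRegularRing _ _ hreg
      exact isReduced_of_injective (cmp k κ B K).symm.toRingHom (cmp k κ B K).symm.injective
    exact isReduced_of_injective (Algebra.TensorProduct.comm k (AlgebraicClosure k) K).toRingHom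
      (Algebra.TensorProduct.comm k (AlgebraicClosure k) K).injective
  · intro h
    refine ⟨inferInstance, fun p hp => ?_⟩
    set κ := p.ResidueField with hκ
    let e : k ≃ₐ[k] κ := p.algEquivResidueFieldOfField
    constructor
    · let e1 : κ ⊗[k] K ≃ₐ[k] K :=
        (Algebra.TensorProduct.congr e.symm AlgEquiv.refl).trans (Algebra.TensorProduct.lid k K)
      exact isNoetherianRing_of_ringEquiv K e1.symm.toRingEquiv
    · intro k' _ _ hfin
      let : Algebra k k' := ((algebraMap κ k').comp (algebraMap k κ)).toAlgebra
      have : IsScalarTower k κ k' := .of_algebraMap_eq (fun _ => rfl)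
      have : Algebra.IsAlgebraic k κ := e.isAlgebraic
      have : Algebra.IsAlgebraic κ k' := Algebra.IsAlgebraic.of_finite κ k'
      have : Algebra.IsAlgebraic k k' := Algebra.IsAlgebraic.trans k κ k'
      have : IsReduced (k' ⊗[k] K) := inferInstance
      have : IsReduced (K ⊗[k] k') :=
        isReduced_of_injective (Algebra.TensorProduct.comm k K k').toRingHom
          (Algebra.TensorProduct.comm k K k').injective
      have : Module.Finite k k' := Module.Finite.trans κ k'
      have : IsArtinianRing (K ⊗[k] k') := IsArtinianRing.of_finite K (K ⊗[k] k')
      have := isRegularRing_of_isArtinianRing_of_isReduced (K ⊗[k] k')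
      exact IsRegularRing.of_ringEquiv (cmp k κ k' K).symm

end Groth.Agent.S9256
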