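import Groth.Statements.S9259
import Mathlib
import Groth.Agent.Lib.Helper23.FibProp2
import Groth.Agent.Lib.Helper18.LocHom
-- import your own Groth.Agent.* helpers here

set_option autoImplicit false
universe u
open CAlg

namespace Groth.Agent.S9259

open Groth.Agent.Lib.Helper23.FibProp

section gen

variable {PP : ∀ (k : Type u) [Field k] (F : Type u) [CommRing F] [Algebra k F], Prop}
  (hPP : FibreProp PP)
include hPP

theorem qp_localizationPreserves : RingHom.LocalizationPreserves (QP PP) := by
  intro R S _ _ f M R' S' _ _ _ _ _ _ h
  letI := f.toAlgebra
  letI : Algebra R' S' := (IsLocalization.map S' f (Submonoid.le_comap_map M) : R' →+* S').toAlgebra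
  letI : Algebra R S' := ((algebraMap S S').comp f).toAlgebra
  haveI : IsScalarTower R S S' := IsScalarTower.of_algebraMap_eq (fun _ => rfl)
  haveI : IsScalarTower R R' S' := IsScalarTower.of_algebraMap_eq (fun x => by
    show (algebraMap S S') (f x) =
      (IsLocalization.map S' f (Submonoid.le_comap_map M) : R' →+* S') (algebraMap R R' x)
    rw [IsLocalization.map_eq])
  haveI : IsLocalization (Algebra.algebraMapSubmonoid S M) S' := ‹IsLocalization (M.map f) S'›
  exact homP_localization hPP R S h M R' S'

theorem qp_localRingHom {R S : Type u} [CommRing R] [CommRing S] (f : R →+* S) (q : Ideal S)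
    [q.IsPrime] (hf : QP PP f) : QP PP (Localization.localRingHom (q.comap f) q f rfl) := by
  set M := (q.comap f).primeCompl with hM
  set T := q.primeCompl with hT
  have hle : Submonoid.map f M ≤ T := by
    rintro _ ⟨x, hx, rfl⟩
    exact hx
  letI : Algebra (Localization (M.map f)) (Localization.AtPrime q) :=
    IsLocalization.localizationAlgebraOfSubmonoidLe _ _ (M.map f) T hle
  haveI : IsScalarTower S (Localization (Submonoid.map f M)) (Localization.AtPrime q) :=
    IsLocalization.localization_isScalarTower_of_submonoid_le _ _ _ _ _
  haveI : IsLocalization (T.map (algebraMap S (Localization (M.map f)))) (Localization.AtPrime q) :=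
    IsLocalization.isLocalization_of_submonoid_le _ _ (M.map f) T hle
  have heq : Localization.localRingHom (q.comap f) q f rfl =
      (algebraMap (Localization (M.map f)) (Localization.AtPrime q)).comp
        (IsLocalization.map (M := M) (T := M.map f) (S := Localization.AtPrime (q.comap f))
          (Localization (M.map f)) f (M.le_comap_map)) := by
    apply IsLocalization.ringHom_ext M
    ext
    simp [Localization.localRingHom, ← IsScalarTower.algebraMap_apply]
  rw [heq]
  have h1 : QP PP (IsLocalization.map (M := M) (T := M.map f)
      (S := Localization.AtPrime (q.comap f)) (Localization (M.map f)) f (M.le_comap_map)) :=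
    qp_localizationPreserves hPP f M _ _ hf
  set φ := IsLocalization.map (M := M) (T := M.map f)
      (S := Localization.AtPrime (q.comap f)) (Localization (M.map f)) f (M.le_comap_map) with hφ
  letI := φ.toAlgebra
  letI : Algebra (Localization.AtPrime (q.comap f)) (Localization.AtPrime q) :=
    ((algebraMap (Localization (M.map f)) (Localization.AtPrime q)).comp φ).toAlgebra
  haveI : IsScalarTower (Localization.AtPrime (q.comap f)) (Localization (M.map f))
      (Localization.AtPrime q) := IsScalarTower.of_algebraMap_eq (fun _ => rfl)
  exact homP_localization_target hPP (T.map (algebraMap S (Localization (M.map f)))) h1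

end gen

theorem flat_of_forall_maximal (R Λ : Type u) [CommRing R] [CommRing Λ] [Algebra R Λ]
    (h : ∀ (n : Ideal Λ) [n.IsMaximal],
      (Localization.localRingHom (Ideal.comap (algebraMap R Λ) n) n (algebraMap R Λ) rfl).Flat) :
    Module.Flat R Λ := by
  apply Module.flat_of_isLocalized_maximal Λ Λ (fun P => Localization.AtPrime P)
    (fun P => Algebra.linearMap Λ _)
  intro P hP
  have h1 := h P
  letI := (Localization.localRingHom (Ideal.comap (algebraMap R Λ) P) P (algebraMap R Λ) rfl).toAlgebra
  haveI : Module.Flat (Localization.AtPrime (Ideal.comap (algebraMap R Λ) P))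
      (Localization.AtPrime P) := h1
  haveI : IsScalarTower R (Localization.AtPrime (Ideal.comap (algebraMap R Λ) P))
      (Localization.AtPrime P) := IsScalarTower.of_algebraMap_eq (fun x => by
    show algebraMap R (Localization.AtPrime P) x =
      Localization.localRingHom _ P (algebraMap R Λ) rfl (algebraMap R _ x)
    rw [Localization.localRingHom_to_map, IsScalarTower.algebraMap_apply R Λ])
  exact Module.Flat.trans R (Localization.AtPrime (Ideal.comap (algebraMap R Λ) P))
    (Localization.AtPrime P)


/-- Regularity of a ring map is a local property: for a ring map R → Λ with Noetherian target,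
regularity of R → Λ is equivalent to regularity of every induced local map R_p → Λ_q (q a prime of
Λ, p = q ∩ R), and also to regularity of those induced maps at the maximal ideals q of Λ. (The maps
of local rings are the canonical localized maps.) -/
theorem result (R Λ : Type u) [CommRing R] [CommRing Λ] [Algebra R Λ]
    [IsNoetherianRing Λ] :
    (CAlg.IsRegularHom R Λ ↔
      ∀ (q : Ideal Λ) [q.IsPrime],
        letI := (Localization.localRingHom (Ideal.comap (algebraMap R Λ) q) q (algebraMap R Λ) rfl).toAlgebra
        CAlg.IsRegularHom (Localization.AtPrime (Ideal.comap (algebraMap R Λ) q))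
          (Localization.AtPrime q)) ∧
    (CAlg.IsRegularHom R Λ ↔
      ∀ (n : Ideal Λ) [n.IsMaximal],
        letI := (Localization.localRingHom (Ideal.comap (algebraMap R Λ) n) n (algebraMap R Λ) rfl).toAlgebra
        CAlg.IsRegularHom (Localization.AtPrime (Ideal.comap (algebraMap R Λ) n))
          (Localization.AtPrime n)) := by
  have hfwd : CAlg.IsRegularHom R Λ → ∀ (q : Ideal Λ) [q.IsPrime],
      letI := (Localization.localRingHom (Ideal.comap (algebraMap R Λ) q) q (algebraMap R Λ) rfl).toAlgebra
      CAlg.IsRegularHom (Localization.AtPrime (Ideal.comap (algebraMap R Λ) q))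
        (Localization.AtPrime q) := by
    intro h q _
    have h0 : QP PReg (algebraMap R Λ) := by
      show @HomP PReg R Λ _ _ (algebraMap R Λ).toAlgebra
      rw [toAlgebra_algebraMap]
      exact h
    exact qp_localRingHom fibreProp_reg (algebraMap R Λ) q h0
  have hbwd : (∀ (n : Ideal Λ) [n.IsMaximal],
      letI := (Localization.localRingHom (Ideal.comap (algebraMap R Λ) n) n (algebraMap R Λ) rfl).toAlgebra
      CAlg.IsRegularHom (Localization.AtPrime (Ideal.comap (algebraMap R Λ) n))
        (Localization.AtPrime n)) → CAlg.IsRegularHom R Λ := by
    intro h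
    have hflat : Module.Flat R Λ := flat_of_forall_maximal R Λ (fun n _ => (h n).1)
    refine Groth.Agent.Lib.Helper18.LocHom.isRegularHom_of_forall_maximal R Λ hflat (fun n _ => ?_)
    have h1 := h n
    letI := (Localization.localRingHom (Ideal.comap (algebraMap R Λ) n) n (algebraMap R Λ) rfl).toAlgebra
    haveI : IsScalarTower R (Localization.AtPrime (Ideal.comap (algebraMap R Λ) n))
        (Localization.AtPrime n) := IsScalarTower.of_algebraMap_eq (fun x => by
      show algebraMap R (Localization.AtPrime n) x =
        Localization.localRingHom _ n (algebraMap R Λ) rfl (algebraMap R _ x)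
      rw [Localization.localRingHom_to_map, IsScalarTower.algebraMap_apply R Λ])
    exact homP_localization_source fibreProp_reg R
      (Localization.AtPrime (Ideal.comap (algebraMap R Λ) n)) (Localization.AtPrime n)
      (Ideal.comap (algebraMap R Λ) n).primeCompl h1
  refine ⟨⟨hfwd, fun h => hbwd (fun n _ => h n)⟩, ⟨fun h n _ => hfwd h n, hbwd⟩⟩

end Groth.Agent.S9259
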