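import Groth.Statements.S9260
-- import your own Groth.Agent.* helpers here
import Mathlib

set_option autoImplicit false
universe u
open CAlg

namespace Groth.Agent.S9260


open Polynomial in
theorem key1 (A R G : Type u) [CommRing A] [CommRing R] [Algebra A R] [Group G] [Fintype G]
    [MulSemiringAction G R] [SMulCommClass G A R] [Algebra.IsInvariant A R G] (J : Ideal A)
    (j : A) (hj : j ∈ J) (r z : R) (i : ℕ) :
    ∃ c ∈ J, algebraMap A R c =
      (MulSemiringAction.charpoly G (j • r + z)).coeff i -
        (MulSemiringAction.charpoly G z).coeff i := by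
  let w : R[X] := X * C r + C z
  let Q : R[X][X] := MulSemiringAction.charpoly G w
  have hlift : ∃ c : A[X], c.map (algebraMap A R) = Q.coeff i := by
    have hfix : ∀ σ : G, σ • Q.coeff i = Q.coeff i :=
      fun σ => MulSemiringAction.smul_coeff_charpoly w i σ
    have : Q.coeff i ∈ Polynomial.lifts (algebraMap A R) := by
      rw [Polynomial.lifts_iff_coeff_lifts]
      intro k
      have : ∀ σ : G, σ • (Q.coeff i).coeff k = (Q.coeff i).coeff k := by
        intro σ
        rw [← Polynomial.coeff_smul, hfix]
      exact Algebra.IsInvariant.isInvariant (A := A) (G := G) _ this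
    exact this
  obtain ⟨c, hc⟩ := hlift
  have hev : ∀ a : A, (MulSemiringAction.charpoly G (a • r + z)).coeff i =
      algebraMap A R (c.eval a) := by
    intro a
    have h1 : Q.map (evalRingHom (algebraMap A R a)) =
        MulSemiringAction.charpoly G (a • r + z) := by
      simp only [Q, MulSemiringAction.charpoly_eq, Polynomial.map_prod, Polynomial.map_sub,
        Polynomial.map_X, Polynomial.map_C]
      refine Finset.prod_congr rfl fun σ _ => ?_
      congr 2
      simp only [w, smul_add, smul_mul', Polynomial.smul_X, Polynomial.smul_C, coe_evalRingHom,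
        eval_add, eval_mul, eval_X, eval_C]
      rw [smul_comm, Algebra.smul_def]
    rw [← h1, Polynomial.coeff_map, ← hc, coe_evalRingHom, Polynomial.eval_map,
      Polynomial.eval₂_at_apply]
  refine ⟨c.eval j - c.eval 0, ?_, ?_⟩
  · obtain ⟨t, ht⟩ := Polynomial.sub_dvd_eval_sub j 0 c
    rw [ht, sub_zero]
    exact J.mul_mem_right _ hj
  · rw [map_sub, ← hev, ← hev, zero_smul, zero_add]

/-- Suppose a finite group G with n elements acts on a ring R by ring automorphisms, A → R is a ring map
compatible with the action whose image contains the invariants (so that A maps onto R^G), J is an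
ideal of A, and x lies in JR. Then ∏_σ (T - σ(x)) is the image of a monic polynomial over A of
degree at most n whose coefficients below degree n all lie in J. (The published statement takes A =
R^G and a polynomial of degree n; this row allows any such A mapping onto R^G and asks degree at
most n, which is the same when A is nonzero.) -/
theorem result (A R G : Type u) [CommRing A]
    [CommRing R] [Algebra A R] [Group G] [Fintype G] [MulSemiringAction G R] [SMulCommClass G A R]
    [Algebra.IsInvariant A R G] (J : Ideal A) (x : R) (hx : x ∈ Ideal.map (algebraMap A R) J) :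
    ∃ P : Polynomial A, P.Monic ∧ P.natDegree ≤ Fintype.card G ∧
      (∀ i : ℕ, i < Fintype.card G → P.coeff i ∈ J) ∧
      Polynomial.map (algebraMap A R) P = ∏ σ : G, (Polynomial.X - Polynomial.C (σ • x)) := by
  classical
  have hQ : ∀ x ∈ Ideal.map (algebraMap A R) J, ∀ (z : R) (i : ℕ), ∃ c ∈ J, algebraMap A R c =
      (MulSemiringAction.charpoly G (x + z)).coeff i -
        (MulSemiringAction.charpoly G z).coeff i := by
    intro x hx
    have hx' : x ∈ J • (⊤ : Submodule A R) := by
      rw [Ideal.smul_top_eq_map]
      exact hx
    refine Submodule.smul_induction_on hx' ?_ ?_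
    · intro j hj r _ z i
      exact key1 A R G J j hj r z i
    · intro x y hx hy z i
      obtain ⟨c1, hc1, h1⟩ := hx (y + z) i
      obtain ⟨c2, hc2, h2⟩ := hy z i
      refine ⟨c1 + c2, J.add_mem hc1 hc2, ?_⟩
      rw [map_add, h1, h2, add_assoc]
      ring
  choose c hcJ hc using fun i => hQ x hx 0 i
  simp only [add_zero] at hc
  have h0 : MulSemiringAction.charpoly G (0 : R) = Polynomial.X ^ Fintype.card G := by
    simp [MulSemiringAction.charpoly_eq]
  set n := Fintype.card G with hn
  set F := MulSemiringAction.charpoly G x with hF
  have hFm : F.Monic := MulSemiringAction.monic_charpoly G x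
  let p : Polynomial A := ∑ i ∈ Finset.range n, Polynomial.C (c i) * Polynomial.X ^ i
  have hpcoeff : ∀ i, p.coeff i = if i < n then c i else 0 := by
    intro i
    simp only [p, Polynomial.finsetSum_coeff, Polynomial.coeff_C_mul_X_pow]
    rw [Finset.sum_ite_eq (Finset.range n) i]
    simp [Finset.mem_range]
  have hpdeg : p.degree < n := by
    rw [Polynomial.degree_lt_iff_coeff_zero]
    intro m hm
    rw [hpcoeff, if_neg (not_lt.mpr hm)]
  refine ⟨Polynomial.X ^ n + p, Polynomial.monic_X_pow_add hpdeg, ?_, ?_, ?_⟩
  · rw [Polynomial.natDegree_le_iff_degree_le]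
    refine (Polynomial.degree_add_le _ _).trans (max_le (Polynomial.degree_X_pow_le n) hpdeg.le)
  · intro i hi
    rw [Polynomial.coeff_add, Polynomial.coeff_X_pow, if_neg hi.ne, zero_add, hpcoeff, if_pos hi]
    exact hcJ i
  · change _ = F
    rcases subsingleton_or_nontrivial R with hR | hR
    · exact Subsingleton.elim _ _
    have hnat : F.natDegree = n := by
      rw [hF, MulSemiringAction.charpoly_eq, Polynomial.natDegree_prod_of_monic _ _
        (fun σ _ => Polynomial.monic_X_sub_C _)]
      simp [hn]
    ext i
    rw [Polynomial.coeff_map, Polynomial.coeff_add, Polynomial.coeff_X_pow, hpcoeff, map_add]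
    rcases lt_trichotomy i n with hi | hi | hi
    · rw [if_neg hi.ne, if_pos hi, map_zero, zero_add, hc i, h0, Polynomial.coeff_X_pow,
        if_neg hi.ne, sub_zero]
    · subst hi
      rw [if_pos rfl, if_neg (lt_irrefl _), map_one, map_zero, add_zero, ← hnat]
      exact hFm.coeff_natDegree.symm
    · rw [if_neg hi.ne', if_neg (not_lt.mpr hi.le), map_zero, add_zero]
      exact (Polynomial.coeff_eq_zero_of_natDegree_lt (hnat ▸ hi)).symm

end Groth.Agent.S9260
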