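import Groth.Statements.S9261
-- import your own Groth.Agent.* helpers here
import Mathlib

set_option autoImplicit false
universe u
open CAlg

namespace Groth.Agent.S9261

/-- Let G be a finite group acting on a ring R, S = R^G its ring of invariants (here: S → R injective
with image the invariants) and A a flat S-algebra. Then the map A → A ⊗_S R is injective with image
the invariants of G acting on A ⊗_S R through the second factor; that is, A → (A ⊗_S R)^G is an
isomorphism. -/
theorem result (S R A G : Type u) [CommRing S] [CommRing R] [Algebra S R]
    [FaithfulSMul S R] [Group G] [Finite G] [MulSemiringAction G R] [SMulCommClass G S R]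
    [Algebra.IsInvariant S R G] [CommRing A] [Algebra S A] [Module.Flat S A] :
    Function.Injective (algebraMap A (TensorProduct S A R)) ∧
      ∀ x : TensorProduct S A R,
        (∀ σ : G, Algebra.TensorProduct.map (AlgHom.id S A) (MulSemiringAction.toAlgHom S R σ) x = x) →
          x ∈ Set.range (algebraMap A (TensorProduct S A R)) := by
  classical
  cases nonempty_fintype G
  let ι : S →ₗ[S] R := Algebra.linearMap S R
  let d : R →ₗ[S] (G → R) :=
    LinearMap.pi (fun σ => (MulSemiringAction.toAlgHom S R σ).toLinearMap - LinearMap.id)
  have hd : ∀ (r : R) (σ : G), d r σ = σ • r - r := fun r σ => rfl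
  have hex : Function.Exact ι d := by
    intro r
    constructor
    · intro h
      have h' : ∀ σ : G, σ • r = r := fun σ => by
        have := congr_fun h σ
        rw [hd] at this
        exact sub_eq_zero.mp this
      obtain ⟨s, hs⟩ := Algebra.IsInvariant.isInvariant (A := S) (G := G) r h'
      exact ⟨s, hs⟩
    · rintro ⟨s, rfl⟩
      ext σ
      rw [hd]
      change σ • algebraMap S R s - algebraMap S R s = 0
      rw [smul_algebraMap, sub_self]
  have hex' := Module.Flat.lTensor_exact A hex
  have halg : ∀ a : A, algebraMap A (TensorProduct S A R) a = ι.lTensor A (a ⊗ₜ[S] (1 : S)) := by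
    intro a
    rw [Algebra.TensorProduct.algebraMap_apply, LinearMap.lTensor_tmul]
    simp [ι]
  constructor
  · have hinj : Function.Injective (ι.lTensor A) :=
      Module.Flat.lTensor_preserves_injective_linearMap ι (FaithfulSMul.algebraMap_injective S R)
    intro a b hab
    rw [halg, halg] at hab
    have := hinj hab
    have h2 := congr_arg (TensorProduct.rid S A) this
    simpa using h2
  · intro x hx
    have hdx : d.lTensor A x = 0 := by
      apply (TensorProduct.piRight S S A (fun _ : G => R)).injective
      rw [map_zero]
      ext σ
      have key : ∀ z : TensorProduct S A R,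
          (TensorProduct.piRight S S A (fun _ : G => R)) (d.lTensor A z) σ =
            Algebra.TensorProduct.map (AlgHom.id S A) (MulSemiringAction.toAlgHom S R σ) z - z := by
        intro z
        induction z using TensorProduct.induction_on with
        | zero => simp
        | tmul a r =>
          simp only [LinearMap.lTensor_tmul, TensorProduct.piRight_apply,
            TensorProduct.piRightHom_tmul, Algebra.TensorProduct.map_tmul, AlgHom.coe_id, id_eq,
            MulSemiringAction.toAlgHom_apply]
          rw [hd, TensorProduct.tmul_sub]
        | add z w hz hw =>
          simp only [map_add, Pi.add_apply] at hz hw ⊢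
          rw [hz, hw]
          abel
      rw [key, hx σ, sub_self]
      rfl
    obtain ⟨y, hy⟩ := (hex' x).mp hdx
    refine ⟨TensorProduct.rid S A y, ?_⟩
    rw [halg, ← hy]
    congr 1
    have : (TensorProduct.rid S A).symm (TensorProduct.rid S A y) = y :=
      LinearEquiv.symm_apply_apply _ _
    rw [TensorProduct.rid_symm_apply] at this
    exact this

end Groth.Agent.S9261
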