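import Groth.Statements.S9262
import Mathlib
import Groth.Agent.Lib.Helper4.HznDVR

set_option autoImplicit false
universe u
open Hensel

namespace Groth.Agent.S9262

open Groth.Agent.Lib.Helper4 in
/-- Let R be a Noetherian local ring with henselization S and strict henselization T. Then R is a
discrete valuation ring exactly when S is one, and exactly when T is one. -/
theorem result (R S T : Type u)
    [CommRing R] [IsLocalRing R] [IsNoetherianRing R] [CommRing S] [IsLocalRing S] [Algebra R S]
    [IsLocalHom (algebraMap R S)] [Hensel.IsHenselization R S] [CommRing T] [IsLocalRing T]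
    [Algebra R T] [IsLocalHom (algebraMap R T)] [Hensel.IsStrictHenselization R T] :
    ((∃ _ : IsDomain R, IsDiscreteValuationRing R) ↔ (∃ _ : IsDomain S, IsDiscreteValuationRing S)) ∧
      ((∃ _ : IsDomain R, IsDiscreteValuationRing R) ↔
        (∃ _ : IsDomain T, IsDiscreteValuationRing T)) := by
  have := (Hzn.isNoetherianRing_iff_of_isHenselization R S).mp inferInstance
  have := Hzn.faithfullyFlat_of_isHenselization R S
  have := (Hzs.isNoetherianRing_iff_of_isStrictHenselization R T).mp inferInstance
  have := Hzs.faithfullyFlat_of_isStrictHenselization R T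
  exact ⟨Hzn.dvr_iff_of_faithfullyFlat_local R S (Hzn.map_maximalIdeal_of_isHenselization R S),
    Hzn.dvr_iff_of_faithfullyFlat_local R T (Hzs.map_maximalIdeal_of_isStrictHenselization R T)⟩

end Groth.Agent.S9262
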