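import Groth.Statements.S9267
import Mathlib
import Groth.Agent.Lib.Helper11.KzRegPow
import Groth.Agent.Lib.Helper5.CechShift
import Groth.Agent.Lib.Helper28.ExtCech

set_option autoImplicit false
universe u
attribute [local instance] HasDerivedCategory.standard
open CategoryTheory
open DerCA

namespace Groth.Agent.S9267

/-- For a Koszul-regular sequence f_1, ..., f_r in a ring R, the extended alternating Cech complex R → ⊕
R_{f_i} → ... → R_{f_1 ... f_r} has cohomology only in degree r. -/
theorem result (R : Type u) [CommRing R] (fs : List R)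
    (hfs : LCI.IsKoszulRegularSeq R fs) (q : ℤ) (hq : q ≠ (fs.length : ℤ)) :
    Limits.IsZero (DerCA.extCechH fs (ModuleCat.of R R) q) := by
  by_cases hq0 : q < 0 ∨ (fs.length : ℤ) < q
  · exact Groth.Agent.Lib.Helper28.ExtCech.isZero_extCechH_of_lt _ fs q hq0
  · push_neg at hq0
    obtain ⟨p, rfl⟩ := Int.eq_ofNat_of_zero_le hq0.1
    have e := Groth.Agent.Lib.Helper5.CechShift.koszulHLimEquivExtCech (ModuleCat.of R R) fs p
    rw [ModuleCat.isZero_iff_subsingleton]
    suffices h : Subsingleton (CohIII.koszulHLim fs (ModuleCat.of R R) p) from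
      e.symm.toEquiv.subsingleton
    have hstage : ∀ n : ℕ, Subsingleton (CohIII.koszulHPow fs (ModuleCat.of R R) p n) := by
      intro n
      have hreg := Groth.Agent.Lib.Helper11.KzRegPow.isKoszulRegularSeq_map_pow fs hfs n
      rw [Groth.Agent.Lib.Helper16.KzInv.isKoszulRegularSeq_iff] at hreg
      have h0 : (p : ℤ) - (fs.length : ℤ) ≠ 0 := sub_ne_zero.mpr hq
      have := hreg _ h0
      rw [← Groth.Agent.Lib.Helper16.KzInv.koszulCx_eq_kz] at this
      exact (ModuleCat.isZero_iff_subsingleton.mp this)
    refine ⟨fun a b => ?_⟩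
    obtain ⟨n, x, rfl⟩ := Module.DirectLimit.exists_of a
    obtain ⟨m, y, rfl⟩ := Module.DirectLimit.exists_of b
    rw [Subsingleton.elim x 0, Subsingleton.elim y 0, map_zero, map_zero]

end Groth.Agent.S9267
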