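import Groth.Statements.S9276
import Mathlib
import Groth.Agent.Lib.Helper23.GRingEtale
import Groth.Agent.Lib.Helper12.HensCRT
import Groth.Agent.Lib.Helper12.HzPairNoethB
import Groth.Agent.Lib.Helper12.HzPairUniv
-- import your own Groth.Agent.* helpers here

set_option autoImplicit false
universe u
open CAlg

namespace Groth.Agent.S9276

open IsLocalRing Function
open Groth.Agent.Lib.Helper12 Groth.Agent.Lib.Helper12.HzPair

set_option maxHeartbeats 1600000 in

/-- Let A be a G-ring, I an ideal of A and B the henselization of the pair (A, I). Then B is a G-ring. -/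
theorem result (A : Type u) [CommRing A] (hA : CAlg.IsGRing A) (I : Ideal A)
    (B : Type u) [CommRing B] [Algebra A B] (hB : Hens2.IsPairHenselization A I B) :
    CAlg.IsGRing B := by
  haveI := hA.1
  haveI : IsNoetherianRing B := HzPair.isNoetherianRing_of_isPairHenselization I B hB
  obtain ⟨e⟩ := HensCRT.nonempty_algEquiv_of_isPairHenselization I (Hz I) B
    (Hz.isPairHenselization I) hB
  have hfe : ∀ i : Idx I, Algebra.FormallyEtale A i.G := fun i => by
    haveI := i.isNbhd.etale
    haveI : Algebra.FormallyEtale i.C (Loc I i.C) :=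
      Algebra.FormallyEtale.of_isLocalization (Rₘ := Loc I i.C) (M I i.C)
    haveI : Algebra.FormallyEtale A (Loc I i.C) := Algebra.FormallyEtale.comp A i.C _
    exact Algebra.FormallyEtale.of_equiv i.toLoc.symm
  haveI : Algebra.FormallyUnramified A (Hz I) :=
    Groth.Agent.Lib.Helper23.UnramRegular.formallyUnramified_directLimit _ _
      (fun i => by haveI := hfe i; infer_instance)
  haveI : Algebra.FormallySmooth A (Hz I) :=
    Groth.Agent.Lib.Helper23.GRingEtale.formallySmooth_of_exists_lift (fun T _ _ J hJ ψ =>
      Groth.Agent.Lib.Helper23.UnramRegular.exists_lift_directLimit _ _ hfe J hJ ψ)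
  haveI : Algebra.FormallyEtale A (Hz I) :=
    Algebra.FormallyEtale.iff_formallyUnramified_and_formallySmooth.mpr ⟨inferInstance, inferInstance⟩
  haveI : Algebra.FormallyEtale A B := Algebra.FormallyEtale.of_equiv e
  exact Groth.Agent.Lib.Helper23.GRingEtale.isGRing_of_formallyEtale A B hA

end Groth.Agent.S9276
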