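import Groth.Statements.S9283
-- import your own Groth.Agent.* helpers here

set_option autoImplicit false
universe u
open CAlg

namespace Groth.Agent.S9283


theorem aux (R : Type u) [CommRing R] (x : R) (hx : x ≠ 0) (m : Ideal R)
    (hm : ∀ f ∈ m, ∃ n : ℕ, f ^ n * x = 0) (s : Finset R) (hs : ∀ f ∈ s, f ∈ m) :
    ∃ r : R, r * x ≠ 0 ∧ ∀ f ∈ s, f * (r * x) = 0 := by
  classical
  induction s using Finset.induction_on with
  | empty => exact ⟨1, by simpa using hx, by simp⟩
  | insert a s ha ih =>
    obtain ⟨r, hr, hrs⟩ := ih (fun f hf => hs f (Finset.mem_insert_of_mem hf))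
    obtain ⟨n, hn⟩ := hm a (hs a (Finset.mem_insert_self a s))
    have hex : ∃ n : ℕ, a ^ n * (r * x) = 0 := ⟨n, by rw [mul_left_comm, hn, mul_zero]⟩
    have hmin : ∀ {m : ℕ}, m < Nat.find hex → ¬ (a ^ m * (r * x) = 0) := fun h => Nat.find_min hex h
    have hspec := Nat.find_spec hex
    set k := Nat.find hex with hk
    cases hk' : k with
    | zero =>
      rw [hk'] at hspec
      simp at hspec
      exact absurd hspec hr
    | succ j =>
      have hj : a ^ j * (r * x) ≠ 0 := hmin (by omega)
      refine ⟨a ^ j * r, by rwa [mul_assoc], ?_⟩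
      intro f hf
      rcases Finset.mem_insert.mp hf with rfl | hf
      · rw [hk'] at hspec
        rw [mul_assoc, ← mul_assoc, ← pow_succ']
        exact hspec
      · rw [mul_assoc, mul_left_comm, hrs f hf, mul_zero]

/-- Let R be an auto-associated ring, that is, a local ring whose maximal ideal is weakly associated to
R: some nonzero x ∈ R is killed by a power of every element of the maximal ideal. Then every proper
finitely generated ideal of R has a nonzero annihilator. -/
theorem result (R : Type u) [CommRing R] [IsLocalRing R]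
    (h : ∃ x : R, x ≠ 0 ∧ ∀ f ∈ IsLocalRing.maximalIdeal R, ∃ n : ℕ, f ^ n * x = 0)
    (I : Ideal R) (hI : I.FG) (hI' : I ≠ ⊤) : I.annihilator ≠ ⊥ := by
  classical
  obtain ⟨x, hx, hpow⟩ := h
  obtain ⟨s, rfl⟩ := hI
  have hsm : ∀ f ∈ s, f ∈ IsLocalRing.maximalIdeal R := by
    intro f hf
    have hle : Ideal.span (s : Set R) ≤ IsLocalRing.maximalIdeal R :=
      IsLocalRing.le_maximalIdeal hI'
    exact hle (Ideal.subset_span hf)
  obtain ⟨r, hr, hrs⟩ := aux R x hx _ hpow s hsm
  intro hbot
  apply hr
  have : r * x ∈ (Ideal.span (s : Set R)).annihilator := by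
    rw [Submodule.mem_annihilator_span]
    intro ⟨f, hf⟩
    simpa [mul_comm] using hrs f hf
  rw [hbot] at this
  simpa using this

end Groth.Agent.S9283
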