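import Groth.Statements.S9284
import Mathlib
import Groth.Agent.Lib.Helper9.McCoy

set_option autoImplicit false
universe u
open CAlgX

namespace Groth.Agent.S9284

open TensorProduct Matrix

section LemmaA
variable {R : Type u} [CommRing R] {m n : ℕ} (A : Matrix (Fin n) (Fin m) R)

/-- if the maximal minors of `A` generate the unit ideal, then `A` acts injectively on `Q^m` for every
module `Q`. -/
theorem eq_zero_of_minorIdeal_eq_top (h : CAlgX.minorIdeal A m = ⊤)
    {Q : Type u} [AddCommGroup Q] [Module R Q] (q : Fin m → Q)
    (hq : ∀ b, ∑ a, A b a • q a = 0) : q = 0 := by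
  classical
  -- every generator of the minor ideal kills every `q k`
  have hgen : ∀ (s : Fin m → Fin n) (t : Fin m → Fin m) (k : Fin m),
      (A.submatrix s t).det • q k = 0 := by
    intro s t k
    by_cases ht : Function.Injective t
    · have htb : Function.Bijective t := (Finite.injective_iff_bijective).mp ht
      set N := A.submatrix s t with hN
      have h1 : ∀ i, ∑ j, N i j • q (t j) = 0 := by
        intro i
        have := hq (s i)
        rw [← htb.sum_comp (fun a => A (s i) a • q a)] at this
        exact this
      have h2 : ∀ j, N.det • q (t j) = 0 := by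
        intro j
        have h3 : ∑ i, N.adjugate j i • ∑ l, N i l • q (t l) = 0 := by
          simp only [h1, smul_zero, Finset.sum_const_zero]
        simp only [Finset.smul_sum, smul_smul] at h3
        rw [Finset.sum_comm] at h3
        simp only [← Finset.sum_smul] at h3
        have h4 : ∀ l, ∑ i, N.adjugate j i * N i l = (N.det • (1 : Matrix (Fin m) (Fin m) R)) j l := by
          intro l
          rw [← Matrix.adjugate_mul, Matrix.mul_apply]
        simp only [h4, Matrix.smul_apply, Matrix.one_apply, smul_eq_mul, mul_ite, mul_one,
          mul_zero, ite_smul, zero_smul, Finset.sum_ite_eq, Finset.mem_univ, if_true] at h3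
        exact h3
      obtain ⟨j, rfl⟩ := htb.2 k
      exact h2 j
    · rw [Groth.Agent.Lib.Helper9.McCoy.det_submatrix_eq_zero_of_not_injective A s t ht, zero_smul]
  funext k
  have hann : CAlgX.minorIdeal A m ≤ (Submodule.span R {q k}).annihilator := by
    rw [CAlgX.minorIdeal, Ideal.span_le]
    rintro _ ⟨⟨s, t⟩, rfl⟩
    rw [SetLike.mem_coe, Submodule.mem_annihilator_span_singleton]
    exact hgen s t k
  rw [h, top_le_iff, Submodule.annihilator_eq_top_iff, Submodule.span_singleton_eq_bot] at hann
  exact hann

end LemmaA

section LemmaB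
variable {R : Type u} [CommRing R]

/-- free case -/
theorem injective_rTensor_of_free
    (hP : (∀ I : Ideal R, I.FG → I ≠ ⊤ → I.annihilator ≠ ⊥))
    {α β : Type u} (v : (α →₀ R) →ₗ[R] (β →₀ R)) (hv : Function.Injective v)
    (Q : Type u) [AddCommGroup Q] [Module R Q] : Function.Injective (v.rTensor Q) := by
  classical
  rcases subsingleton_or_nontrivial R with hR | hR
  · have : Subsingleton ((α →₀ R) ⊗[R] Q) := Module.subsingleton R _
    exact Function.injective_of_subsingleton _
  rw [injective_iff_map_eq_zero]
  intro z hz
  -- coordinates of `z`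
  set f : α →₀ Q := finsuppScalarLeft R Q α z with hf
  have hzf : z = (finsuppScalarLeft R Q α).symm f := by rw [hf, LinearEquiv.symm_apply_apply]
  suffices hf0 : f = 0 by rw [hzf, hf0, map_zero]
  -- the coordinates of the image
  have himg : ∀ b : β, ∑ a ∈ f.support, v (Finsupp.single a 1) b • f a = 0 := by
    intro b
    have h1 : finsuppScalarLeft R Q β (v.rTensor Q z) b = 0 := by rw [hz, map_zero]; rfl
    rw [hzf] at h1
    have h2 : (finsuppScalarLeft R Q α).symm f =
        ∑ a ∈ f.support, (Finsupp.single a (1 : R)) ⊗ₜ[R] f a := by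
      conv_lhs => rw [← Finsupp.sum_single f]
      rw [Finsupp.sum, map_sum]
      refine Finset.sum_congr rfl fun a _ => ?_
      rw [finsuppScalarLeft_symm_apply_single]
    rw [h2, map_sum, map_sum, Finsupp.finsetSum_apply] at h1
    rw [← h1]
    refine Finset.sum_congr rfl fun a _ => ?_
    rw [LinearMap.rTensor_tmul, finsuppScalarLeft_apply_tmul_apply]
  -- finite index sets
  set s : Finset α := f.support with hs
  set t : Finset β := s.biUnion (fun a => (v (Finsupp.single a 1)).support) with ht
  let es := s.equivFin
  let et := t.equivFin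
  let A : Matrix (Fin t.card) (Fin s.card) R :=
    fun b a => v (Finsupp.single ((es.symm a : s) : α) 1) ((et.symm b : t) : β)
  -- `A` is injective
  have hA : Function.Injective (Matrix.mulVecLin A) := by
    rw [injective_iff_map_eq_zero]
    intro x hx
    set g : α →₀ R := ∑ a : Fin s.card, x a • Finsupp.single ((es.symm a : s) : α) (1 : R) with hg
    have hvg : v g = 0 := by
      ext b
      rw [hg, map_sum, Finsupp.finsetSum_apply, Finsupp.zero_apply]
      by_cases hb : b ∈ t
      · have := congrFun hx (et ⟨b, hb⟩)
        rw [Matrix.mulVecLin_apply, Matrix.mulVec, dotProduct, Pi.zero_apply] at this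
        rw [← this]
        refine Finset.sum_congr rfl fun a _ => ?_
        rw [map_smul, Finsupp.smul_apply, smul_eq_mul, mul_comm]
        simp only [A, Equiv.symm_apply_apply]
      · refine Finset.sum_eq_zero fun a _ => ?_
        rw [map_smul, Finsupp.smul_apply]
        have : v (Finsupp.single ((es.symm a : s) : α) 1) b = 0 := by
          by_contra hne
          apply hb
          rw [ht, Finset.mem_biUnion]
          exact ⟨_, (es.symm a).2, Finsupp.mem_support_iff.mpr hne⟩
        rw [this, smul_zero]
    have hg0 : g = 0 := hv (by rw [hvg, map_zero])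
    funext a
    have := DFunLike.congr_fun hg0 ((es.symm a : s) : α)
    rw [hg, Finsupp.finsetSum_apply, Finsupp.zero_apply] at this
    rw [Finset.sum_eq_single a] at this
    · simpa using this
    · intro a' _ hne
      rw [Finsupp.smul_apply, Finsupp.single_apply, if_neg, smul_zero]
      intro heq
      apply hne
      exact es.symm.injective (Subtype.ext heq)
    · intro h
      exact absurd (Finset.mem_univ a) h
  have hann := Groth.Agent.Lib.Helper9.McCoy.annihilator_eq_bot_of_injective A hA
  have htop : CAlgX.minorIdeal A s.card = ⊤ := by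
    by_contra hne
    refine hP _ ?_ hne hann
    rw [CAlgX.minorIdeal]
    exact ⟨(Finset.univ.image fun fg : (Fin s.card → Fin t.card) × (Fin s.card → Fin s.card) =>
      Matrix.det (A.submatrix fg.1 fg.2)), by rw [Finset.coe_image, Finset.coe_univ, Set.image_univ]⟩
  have hq : ∀ b, ∑ a, A b a • (fun a : Fin s.card => f ((es.symm a : s) : α)) a = 0 := by
    intro b
    have := himg ((et.symm b : t) : β)
    rw [← Finset.sum_coe_sort, ← es.symm.sum_comp] at this
    exact this
  have h0 := eq_zero_of_minorIdeal_eq_top A htop _ hq
  ext a
  by_cases ha : a ∈ s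
  · have := congrFun h0 (es ⟨a, ha⟩)
    simpa using this
  · rw [hs, Finsupp.notMem_support_iff] at ha
    rw [ha, Finsupp.zero_apply]

end LemmaB


/-- Let R be a ring such that every proper finitely generated ideal of R has a nonzero annihilator, and
let u : N → M be an R-linear map between projective R-modules. Then u stays injective after
tensoring with every R-module exactly when u is injective. -/
theorem result (R : Type u) [CommRing R]
    (hP : (∀ I : Ideal R, I.FG → I ≠ ⊤ → I.annihilator ≠ ⊥))
    (N M : Type u) [AddCommGroup N] [Module R N] [Module.Projective R N] [AddCommGroup M]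
    [Module R M] [Module.Projective R M] (u : N →ₗ[R] M) :
    CAlgX.UniversallyInjective R u ↔ Function.Injective u := by
  constructor
  · intro h x y hxy
    have h1 := h R
    have h2 : u.rTensor R (x ⊗ₜ[R] (1 : R)) = u.rTensor R (y ⊗ₜ[R] (1 : R)) := by
      rw [LinearMap.rTensor_tmul, LinearMap.rTensor_tmul, hxy]
    have h3 := congrArg (TensorProduct.rid R N) (h1 h2)
    simpa using h3
  · intro hu Q _ _
    obtain ⟨iN, hiN⟩ := (Module.projective_def'.mp (inferInstance : Module.Projective R N))
    obtain ⟨iM, hiM⟩ := (Module.projective_def'.mp (inferInstance : Module.Projective R M))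
    set rN : (N →₀ R) →ₗ[R] N := Finsupp.linearCombination R id with hrN
    set rM : (M →₀ R) →ₗ[R] M := Finsupp.linearCombination R id with hrM
    have hiN' : ∀ x, rN (iN x) = x := fun x => LinearMap.congr_fun hiN x
    have hiM' : ∀ x, rM (iM x) = x := fun x => LinearMap.congr_fun hiM x
    have hiMinj : Function.Injective iM := Function.LeftInverse.injective hiM'
    let e := Finsupp.sumFinsuppLEquivProdFinsupp (α := M) (β := N) (M := R) R
    let v : (N →₀ R) →ₗ[R] (M →₀ R) × (N →₀ R) :=
      LinearMap.prod (iM ∘ₗ u ∘ₗ rN) (LinearMap.id - iN ∘ₗ rN)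
    have hvinj : Function.Injective v := by
      rw [injective_iff_map_eq_zero]
      intro g hg
      have h1 : iM (u (rN g)) = 0 := congrArg Prod.fst hg
      have h2 : g - iN (rN g) = 0 := congrArg Prod.snd hg
      have h3 : rN g = 0 := hu (by rw [map_zero]; exact hiMinj (by rw [h1, map_zero]))
      rw [h3, map_zero, sub_zero] at h2
      exact h2
    let v' : (N →₀ R) →ₗ[R] ((M ⊕ N) →₀ R) := e.symm.toLinearMap ∘ₗ v
    have hv'inj : Function.Injective v' := e.symm.injective.comp hvinj
    have hB := injective_rTensor_of_free hP v' hv'inj Q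
    let w : M →ₗ[R] ((M ⊕ N) →₀ R) := e.symm.toLinearMap ∘ₗ LinearMap.inl R _ _ ∘ₗ iM
    have hcomp : v' ∘ₗ iN = w ∘ₗ u := by
      ext x : 1
      change e.symm (v (iN x)) = e.symm ((iM (u x), 0))
      congr 1
      apply Prod.ext
      · change iM (u (rN (iN x))) = iM (u x)
        rw [hiN']
      · change iN x - iN (rN (iN x)) = 0
        rw [hiN', sub_self]
    rw [injective_iff_map_eq_zero]
    intro z hz
    have h1 : v'.rTensor Q (iN.rTensor Q z) = 0 := by
      rw [← LinearMap.comp_apply, ← LinearMap.rTensor_comp, hcomp, LinearMap.rTensor_comp,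
        LinearMap.comp_apply, hz, map_zero]
    have h2 : iN.rTensor Q z = 0 := hB (by rw [h1, map_zero])
    have h3 : rN.rTensor Q (iN.rTensor Q z) = z := by
      rw [← LinearMap.comp_apply, ← LinearMap.rTensor_comp, hiN, LinearMap.rTensor_id,
        LinearMap.id_apply]
    rw [← h3, h2, map_zero]

end Groth.Agent.S9284
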