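import Groth.Statements.S9285
import Mathlib

set_option autoImplicit false
universe u
open CAlg

namespace Groth.Agent.S9285

/-- A ring R has the property that every proper finitely generated ideal has a nonzero annihilator if
and only if every injective linear map R → R^n admits a retraction. -/
theorem result (R : Type u) [CommRing R] :
    (∀ I : Ideal R, I.FG → I ≠ ⊤ → I.annihilator ≠ ⊥) ↔
      ∀ (n : ℕ) (u : R →ₗ[R] (Fin n → R)), Function.Injective u →
        ∃ v : (Fin n → R) →ₗ[R] R, v.comp u = LinearMap.id := by
  constructor
  · intro hP n u hu
    -- a_i = u 1 i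
    let a : Fin n → R := u 1
    have hu_apply : ∀ r : R, u r = r • a := by
      intro r
      have : u (r • (1 : R)) = r • u 1 := u.map_smul r 1
      simpa using this
    let I : Ideal R := Ideal.span (Set.range a)
    have hIfg : I.FG := Submodule.fg_span (Set.finite_range a)
    have hann : I.annihilator = ⊥ := by
      rw [eq_bot_iff]
      intro r hr
      rw [Submodule.mem_annihilator] at hr
      have : u r = 0 := by
        rw [hu_apply]
        funext i
        have := hr (a i) (Ideal.subset_span ⟨i, rfl⟩)
        simpa using this
      have : r = 0 := hu (by rw [this, map_zero])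
      simpa using this
    have hItop : I = ⊤ := by
      by_contra hne
      exact hP I hIfg hne hann
    have h1 : (1 : R) ∈ Ideal.span (Set.range a) := by
      change (1 : R) ∈ I
      rw [hItop]; trivial
    rw [Ideal.mem_span_range_iff_exists_fun] at h1
    obtain ⟨b, hb⟩ := h1
    refine ⟨∑ i, b i • LinearMap.proj i, ?_⟩
    ext
    simp only [LinearMap.comp_apply, LinearMap.id_apply, LinearMap.sum_apply, LinearMap.smul_apply,
      LinearMap.proj_apply]
    rw [hu_apply]
    simpa using hb
  · intro h I hIfg hItop hann
    obtain ⟨n, a, ha⟩ := Submodule.fg_iff_exists_fin_generating_family.mp hIfg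
    let u : R →ₗ[R] (Fin n → R) := LinearMap.toSpanSingleton R (Fin n → R) a
    have hu : Function.Injective u := by
      rw [← LinearMap.ker_eq_bot, eq_bot_iff]
      intro r hr
      have hr' : r • a = 0 := by simpa [u] using hr
      have : r ∈ I.annihilator := by
        rw [Submodule.mem_annihilator]
        intro x hx
        rw [← ha] at hx
        refine Submodule.span_induction ?_ ?_ ?_ ?_ hx
        · rintro _ ⟨i, rfl⟩
          have := congrFun hr' i
          simpa using this
        · simp
        · intro x y _ _ hx hy
          rw [smul_add, hx, hy, add_zero]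
        · intro c x _ hx
          rw [smul_comm, hx, smul_zero]
      rw [hann] at this
      exact this
    obtain ⟨v, hv⟩ := h n u hu
    apply hItop
    rw [Ideal.eq_top_iff_one]
    have h1 : v (u 1) = 1 := by
      have := LinearMap.congr_fun hv 1
      simpa using this
    have hu1 : u 1 = a := by simp [u]
    rw [hu1] at h1
    have hsum : a = ∑ i, a i • (Pi.single i (1 : R) : Fin n → R) := by
      funext j
      simp [Finset.sum_apply, Pi.single_apply]
    rw [hsum, map_sum] at h1
    rw [← h1]
    refine Submodule.sum_mem _ fun i _ => ?_
    rw [map_smul, smul_eq_mul]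
    refine Ideal.mul_mem_right _ _ ?_
    rw [← ha]
    exact Ideal.subset_span ⟨i, rfl⟩

end Groth.Agent.S9285
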