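import Groth.Statements.S9286
import Mathlib
import Groth.Agent.S9285

set_option autoImplicit false
universe u
open CAlg

namespace Groth.Agent.S9286

section Helpers

variable {R : Type u} [CommRing R]

/-- Step: product decomposition. -/
lemma retraction_prod {N₁ N₂ M : Type*} [AddCommGroup N₁] [Module R N₁] [AddCommGroup N₂]
    [Module R N₂] [AddCommGroup M] [Module R M]
    (u : N₁ × N₂ →ₗ[R] M) (hu : Function.Injective u)
    (h₁ : ∃ v₁ : M →ₗ[R] N₁, v₁ ∘ₗ (u ∘ₗ LinearMap.inl R N₁ N₂) = LinearMap.id)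
    (h₂ : ∀ u' : N₂ →ₗ[R] M, Function.Injective u' → ∃ w : M →ₗ[R] N₂, w ∘ₗ u' = LinearMap.id) :
    ∃ v : M →ₗ[R] N₁ × N₂, v ∘ₗ u = LinearMap.id := by
  obtain ⟨v₁, hv₁⟩ := h₁
  have hv₁' : ∀ r : N₁, v₁ (u (r, 0)) = r := fun r => by
    simpa using LinearMap.congr_fun hv₁ r
  have hsplit : ∀ (r : N₁) (x : N₂), u (r, x) = u (r, 0) + u (0, x) := fun r x => by
    rw [← map_add]; simp
  let u' : N₂ →ₗ[R] M :=
    { toFun := fun x => u (0, x) - u (v₁ (u (0, x)), 0)
      map_add' := fun x y => by
        have h1 : ((0 : N₁), x + y) = (0, x) + (0, y) := by simp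
        have h2 : ∀ a b : N₁, ((a + b, (0 : N₂))) = (a, 0) + (b, 0) := fun a b => by simp
        simp only [h1, map_add, h2]; abel
      map_smul' := fun c x => by
        have h1 : ((0 : N₁), c • x) = c • ((0 : N₁), x) := by simp
        have h2 : ∀ a : N₁, ((c • a, (0 : N₂))) = c • (a, (0 : N₂)) := fun a => by simp
        simp only [h1, map_smul, h2, RingHom.id_apply, smul_sub] }
  have hu'_apply : ∀ x, u' x = u (0, x) - u (v₁ (u (0, x)), 0) := fun x => rfl
  have hu' : Function.Injective u' := by
    rw [injective_iff_map_eq_zero]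
    intro x hx
    rw [hu'_apply, ← map_sub] at hx
    have := hu (hx.trans (map_zero u).symm)
    have h2 := (Prod.ext_iff.mp this).2
    simpa using h2
  obtain ⟨w, hw⟩ := h₂ u' hu'
  have hw' : ∀ x, w (u' x) = x := fun x => by simpa using LinearMap.congr_fun hw x
  -- p y = y - u (v₁ y, 0)
  let p : M →ₗ[R] M :=
    { toFun := fun y => y - u (v₁ y, 0)
      map_add' := fun x y => by
        have h2 : ∀ a b : N₁, ((a + b, (0 : N₂))) = (a, 0) + (b, 0) := fun a b => by simp
        simp only [map_add, h2]; abel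
      map_smul' := fun c x => by
        have h2 : ∀ a : N₁, ((c • a, (0 : N₂))) = c • (a, (0 : N₂)) := fun a => by simp
        simp only [map_smul, h2, RingHom.id_apply, smul_sub] }
  have hp_apply : ∀ y, p y = y - u (v₁ y, 0) := fun y => rfl
  have hp1 : ∀ r : N₁, p (u (r, 0)) = 0 := fun r => by rw [hp_apply, hv₁', sub_self]
  have hp2 : ∀ x : N₂, p (u (0, x)) = u' x := fun x => by rw [hp_apply, hu'_apply]
  refine ⟨(v₁ - v₁ ∘ₗ (u ∘ₗ LinearMap.inr R N₁ N₂) ∘ₗ w ∘ₗ p).prod (w ∘ₗ p), ?_⟩
  apply LinearMap.ext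
  rintro ⟨r, x⟩
  have hwp : w (p (u (r, x))) = x := by
    rw [hsplit, map_add, hp1, zero_add, hp2, hw']
  refine Prod.ext ?_ ?_
  · change v₁ (u (r, x)) - v₁ (u (0, w (p (u (r, x))))) = r
    rw [hwp, hsplit r x, map_add, hv₁', add_sub_cancel_right]
  · exact hwp

/-- Injective maps `R → M` with `M` finite projective split, under property (P). -/
lemma retraction_of_ring (hP : ∀ (n : ℕ) (u : R →ₗ[R] (Fin n → R)), Function.Injective u →
      ∃ v : (Fin n → R) →ₗ[R] R, v.comp u = LinearMap.id)
    {M : Type*} [AddCommGroup M] [Module R M] [Module.Finite R M] [Module.Projective R M]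
    (u : R →ₗ[R] M) (hu : Function.Injective u) :
    ∃ v : M →ₗ[R] R, v ∘ₗ u = LinearMap.id := by
  obtain ⟨n, f, g, -, hg, hfg⟩ := Module.Finite.exists_comp_eq_id_of_projective R M
  obtain ⟨w, hw⟩ := hP n (g ∘ₗ u) (hg.comp hu)
  exact ⟨w ∘ₗ g, by rw [LinearMap.comp_assoc]; exact hw⟩

/-- Injective maps `R^k → M` with `M` finite projective split, under property (P). -/
lemma retraction_of_free (hP : ∀ (n : ℕ) (u : R →ₗ[R] (Fin n → R)), Function.Injective u →
      ∃ v : (Fin n → R) →ₗ[R] R, v.comp u = LinearMap.id)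
    {M : Type*} [AddCommGroup M] [Module R M] [Module.Finite R M] [Module.Projective R M]
    (k : ℕ) (u : (Fin k → R) →ₗ[R] M) (hu : Function.Injective u) :
    ∃ v : M →ₗ[R] (Fin k → R), v ∘ₗ u = LinearMap.id := by
  induction k with
  | zero =>
    refine ⟨0, ?_⟩
    apply LinearMap.ext
    intro x
    exact Subsingleton.elim _ _
  | succ k ih =>
    let e := Fin.consLinearEquiv R (fun _ : Fin (k + 1) => R)
    obtain ⟨v, hv⟩ := retraction_prod (u ∘ₗ e.toLinearMap) (hu.comp e.injective)
      (retraction_of_ring hP _ ((hu.comp e.injective).comp LinearMap.inl_injective))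
      (fun u' hu' => ih u' hu')
    refine ⟨e.toLinearMap ∘ₗ v, ?_⟩
    apply LinearMap.ext
    intro x
    have := LinearMap.congr_fun hv (e.symm x)
    simp only [LinearMap.comp_apply, LinearEquiv.coe_coe, LinearEquiv.apply_symm_apply,
      LinearMap.id_apply] at this ⊢
    rw [this, LinearEquiv.apply_symm_apply]

end Helpers

/-- Let R be a ring in which every proper finitely generated ideal has a nonzero annihilator. Given an
injective R-linear map u : N → M, where both N and M are finite and projective over R, the quotient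
Coker(u) = M/u(N) is again projective as an R-module. -/
theorem result (R : Type u) [CommRing R]
    (hP : (∀ I : Ideal R, I.FG → I ≠ ⊤ → I.annihilator ≠ ⊥))
    (N M : Type u) [AddCommGroup N] [Module R N] [Module.Finite R N] [Module.Projective R N]
    [AddCommGroup M] [Module R M] [Module.Finite R M] [Module.Projective R M]
    (u : N →ₗ[R] M) (hu : Function.Injective u) :
    Module.Projective R (M ⧸ LinearMap.range u) := by
  have hP' := (Groth.Agent.S9285.result R).mp hP
  -- reduce to N free
  obtain ⟨k, f, g, hf, hg, hfg⟩ := Module.Finite.exists_comp_eq_id_of_projective R N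
  -- K = ker f, R^k ≅ N × K
  -- ut : R^k → M × (Fin k → R),  x ↦ (u (f x), x - g (f x))
  let ut : (Fin k → R) →ₗ[R] M × (Fin k → R) :=
    (u ∘ₗ f).prod (LinearMap.id - g ∘ₗ f)
  have hut : Function.Injective ut := by
    rw [injective_iff_map_eq_zero]
    intro x hx
    have h1 : u (f x) = 0 := (Prod.ext_iff.mp hx).1
    have h2 : x - g (f x) = 0 := (Prod.ext_iff.mp hx).2
    have h3 : f x = 0 := hu (h1.trans (map_zero u).symm)
    rw [h3, map_zero, sub_zero] at h2
    exact h2
  obtain ⟨vt, hvt⟩ := retraction_of_free hP' k ut hut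
  -- retraction of u
  let v : M →ₗ[R] N := f ∘ₗ vt ∘ₗ LinearMap.inl R M (Fin k → R)
  have hfg' : ∀ n, f (g n) = n := fun n => by simpa using LinearMap.congr_fun hfg n
  have hv : ∀ n, v (u n) = n := by
    intro n
    have h1 : ut (g n) = (u n, 0) := by
      refine Prod.ext ?_ ?_
      · change u (f (g n)) = u n
        rw [hfg']
      · change g n - g (f (g n)) = 0
        rw [hfg', sub_self]
    have h2 := LinearMap.congr_fun hvt (g n)
    simp only [LinearMap.comp_apply, LinearMap.id_apply, h1] at h2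
    simp only [v, LinearMap.comp_apply, LinearMap.inl_apply, h2, hfg']
  -- M/range u is a retract of M
  let i : (M ⧸ LinearMap.range u) →ₗ[R] M :=
    (LinearMap.range u).liftQ (LinearMap.id - u ∘ₗ v) (by
      rintro _ ⟨n, rfl⟩
      simp [hv])
  refine Module.Projective.of_split i (LinearMap.range u).mkQ ?_
  apply LinearMap.ext
  intro y
  obtain ⟨m, rfl⟩ := Submodule.Quotient.mk_surjective _ y
  simp only [LinearMap.comp_apply, LinearMap.id_apply, i]
  rw [Submodule.liftQ_apply]
  simp only [LinearMap.sub_apply, LinearMap.id_apply, LinearMap.comp_apply, map_sub,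
    Submodule.mkQ_apply]
  rw [sub_eq_self, Submodule.Quotient.mk_eq_zero]
  exact ⟨_, rfl⟩

end Groth.Agent.S9286
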