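import Groth.Statements.S9292
import Mathlib

set_option autoImplicit false
universe u
open EtAlg

namespace Groth.Agent.S9292

section Helpers

variable {A : Type u} [CommRing A] (I : Ideal A) {n : ℕ} (a : Fin n → A)

lemma mem_map_away (j : Fin n) (x : A) (hx : a j * x ∈ I) :
    algebraMap A (Localization.Away (a j)) x ∈
      Ideal.map (algebraMap A (Localization.Away (a j))) I := by
  have hu : IsUnit (algebraMap A (Localization.Away (a j)) (a j)) :=
    IsLocalization.Away.algebraMap_isUnit (a j)
  have h1 : algebraMap A (Localization.Away (a j)) (a j * x) ∈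
      Ideal.map (algebraMap A (Localization.Away (a j))) I :=
    Ideal.mem_map_of_mem _ hx
  rw [map_mul] at h1
  exact (Ideal.unit_mul_mem_iff_mem _ hu).mp h1

lemma mem_map_pi_of_forall (y : Π j, Localization.Away (a j))
    (hy : ∀ j, y j ∈ Ideal.map (algebraMap A (Localization.Away (a j))) I) :
    y ∈ Ideal.map (algebraMap A (Π j, Localization.Away (a j))) I := by
  classical
  have hsum : y = ∑ j, Pi.single j (y j) := by
    funext k
    simp [Finset.sum_apply]
  rw [hsum]
  refine Ideal.sum_mem _ fun j _ => ?_
  obtain ⟨⟨⟨i, hi⟩, s⟩, hs⟩ :=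
    (IsLocalization.mem_map_algebraMap_iff (Submonoid.powers (a j))
      (Localization.Away (a j))).mp (hy j)
  have hsu : IsUnit (algebraMap A (Localization.Away (a j)) (s : A)) :=
    IsLocalization.map_units _ s
  obtain ⟨t, ht⟩ := hsu.exists_right_inv
  have hyj : y j = algebraMap A (Localization.Away (a j)) i * t := by
    have : y j * algebraMap A (Localization.Away (a j)) (s : A) =
        algebraMap A (Localization.Away (a j)) i := hs
    calc y j = y j * (algebraMap A (Localization.Away (a j)) (s : A) * t) := by rw [ht, mul_one]
      _ = algebraMap A (Localization.Away (a j)) i * t := by rw [← mul_assoc, this]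
  have : (Pi.single j (y j) : Π j, Localization.Away (a j)) =
      algebraMap A (Π j, Localization.Away (a j)) i * Pi.single j t := by
    funext k
    by_cases hk : k = j
    · subst hk
      simp [hyj, Pi.algebraMap_apply]
    · simp [hk]
  rw [this]
  exact Ideal.mul_mem_right _ _ (Ideal.mem_map_of_mem _ hi)

lemma mem_map_away_of_mem_map_pi (y : Π j, Localization.Away (a j)) (j : Fin n)
    (hy : y ∈ Ideal.map (algebraMap A (Π j, Localization.Away (a j))) I) :
    y j ∈ Ideal.map (algebraMap A (Localization.Away (a j))) I := by
  have := Ideal.mem_map_of_mem (Pi.evalRingHom (fun j => Localization.Away (a j)) j) hy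
  rw [Ideal.map_map] at this
  exact this

end Helpers

/-- Let A be a ring, I an ideal, and e_1, ..., e_n a complete system of orthogonal idempotents of A/I
(equivalently a finite disjoint open covering of Spec(A/I)). Then one can find an A-algebra A' that
is étale over A, such that the induced map A/I → A'/IA' is bijective, together with a complete
system of orthogonal idempotents of A' lifting the e_j. -/
theorem result (A : Type u) [CommRing A] (I : Ideal A)
    (n : ℕ) (e : Fin n → A ⧸ I) (he : CompleteOrthogonalIdempotents e) :
    ∃ (A' : Type u) (_ : CommRing A') (_ : Algebra A A'), Algebra.Etale A A' ∧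
      Function.Bijective (Ideal.quotientMap (Ideal.map (algebraMap A A') I) (algebraMap A A')
        Ideal.le_comap_map) ∧
      ∃ e' : Fin n → A', CompleteOrthogonalIdempotents e' ∧
        ∀ j, Ideal.Quotient.mk (Ideal.map (algebraMap A A') I) (e' j) =
          Ideal.quotientMap (Ideal.map (algebraMap A A') I) (algebraMap A A') Ideal.le_comap_map
            (e j) := by
  classical
  choose a ha using fun j => Ideal.Quotient.mk_surjective (e j)
  have hEt : ∀ j, Algebra.Etale A (Localization.Away (a j)) :=
    fun j => Algebra.Etale.of_isLocalizationAway (a j)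
  -- idempotent powers
  have hpow : ∀ j (m : ℕ), e j ^ (m + 1) = e j := fun j m => (he.idem j).pow_succ_eq m
  refine ⟨(Π j, Localization.Away (a j)), inferInstance, inferInstance, inferInstance,
    ⟨?_, ?_⟩, ?_⟩
  · -- injective
    rw [injective_iff_map_eq_zero]
    intro x hx
    obtain ⟨x, rfl⟩ := Ideal.Quotient.mk_surjective x
    rw [Ideal.quotientMap_mk, Ideal.Quotient.eq_zero_iff_mem] at hx
    have hej : ∀ j, e j * Ideal.Quotient.mk I x = 0 := by
      intro j
      have h1 := mem_map_away_of_mem_map_pi I a _ j hx
      rw [Pi.algebraMap_apply] at h1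
      obtain ⟨⟨⟨i, hi⟩, ⟨_, ⟨m, rfl⟩⟩⟩, hs⟩ :=
        (IsLocalization.mem_map_algebraMap_iff (Submonoid.powers (a j))
          (Localization.Away (a j))).mp h1
      have hs' : algebraMap A (Localization.Away (a j)) (x * a j ^ m) =
          algebraMap A (Localization.Away (a j)) i := by
        rw [map_mul]; exact hs
      obtain ⟨⟨_, ⟨k, rfl⟩⟩, hk⟩ :=
        (IsLocalization.eq_iff_exists (Submonoid.powers (a j)) (Localization.Away (a j))).mp hs'
      have hk' : a j ^ k * (x * a j ^ m) ∈ I := by
        change a j ^ k * (x * a j ^ m) = a j ^ k * i at hk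
        rw [hk]; exact I.mul_mem_left _ hi
      have h2 : e j ^ (k + m) * Ideal.Quotient.mk I x = 0 := by
        have := Ideal.Quotient.eq_zero_iff_mem.mpr hk'
        simp only [map_mul, map_pow, ha] at this
        rw [pow_add]; rw [← this]; ring
      have h3 : e j * (e j ^ (k + m) * Ideal.Quotient.mk I x) = 0 := by rw [h2, mul_zero]
      rw [← mul_assoc, ← pow_succ', hpow] at h3
      exact h3
    calc Ideal.Quotient.mk I x = (∑ j, e j) * Ideal.Quotient.mk I x := by rw [he.complete, one_mul]
      _ = ∑ j, e j * Ideal.Quotient.mk I x := Finset.sum_mul _ _ _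
      _ = 0 := Finset.sum_eq_zero fun j _ => hej j
  · -- surjective
    intro y
    obtain ⟨y, rfl⟩ := Ideal.Quotient.mk_surjective y
    choose xs hxs using fun j => IsLocalization.surj (Submonoid.powers (a j)) (y j)
    have hs : ∀ j, ∃ m : ℕ, a j ^ m = ((xs j).2 : A) := fun j => (xs j).2.2
    choose m hm using hs
    refine ⟨Ideal.Quotient.mk I (∑ j, a j * (xs j).1), ?_⟩
    rw [Ideal.quotientMap_mk, Ideal.Quotient.eq]
    apply mem_map_pi_of_forall
    intro k
    -- multiply by the unit a_k^{m_k}
    have hu : IsUnit (algebraMap A (Localization.Away (a k)) ((xs k).2 : A)) :=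
      IsLocalization.map_units _ (xs k).2
    rw [← Ideal.mul_unit_mem_iff_mem _ hu]
    have h1 : (algebraMap A (Π j, Localization.Away (a j)) (∑ j, a j * (xs j).1) - y) k *
          algebraMap A (Localization.Away (a k)) ((xs k).2 : A) =
        algebraMap A (Localization.Away (a k)) ((∑ j, a j * (xs j).1) * ((xs k).2 : A) - (xs k).1) := by
      rw [map_sub, map_mul, ← hxs k, Pi.sub_apply, sub_mul, Pi.algebraMap_apply]
    rw [h1]
    apply mem_map_away
    rw [← Ideal.Quotient.eq_zero_iff_mem, ← hm k]
    simp only [map_mul, map_sub, map_sum, map_pow, ha]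
    have hsum : (∑ j, e j * Ideal.Quotient.mk I (xs j).1) * e k =
        e k * Ideal.Quotient.mk I (xs k).1 := by
      rw [Finset.sum_mul, Finset.sum_eq_single k]
      · have := he.idem k
        calc e k * Ideal.Quotient.mk I (xs k).1 * e k
            = (e k * e k) * Ideal.Quotient.mk I (xs k).1 := by ring
          _ = e k * Ideal.Quotient.mk I (xs k).1 := by rw [this.eq]
      · intro j _ hjk
        have := he.ortho hjk
        calc e j * Ideal.Quotient.mk I (xs j).1 * e k
            = (e j * e k) * Ideal.Quotient.mk I (xs j).1 := by ring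
          _ = 0 := by rw [this, zero_mul]
      · intro h; exact absurd (Finset.mem_univ k) h
    calc e k * ((∑ j, e j * Ideal.Quotient.mk I (xs j).1) * e k ^ m k - Ideal.Quotient.mk I (xs k).1)
        = ((∑ j, e j * Ideal.Quotient.mk I (xs j).1) * e k) * e k ^ m k
            - e k * Ideal.Quotient.mk I (xs k).1 := by ring
      _ = e k ^ (m k + 1) * Ideal.Quotient.mk I (xs k).1 - e k * Ideal.Quotient.mk I (xs k).1 := by
          rw [hsum]; ring
      _ = 0 := by rw [hpow, sub_self]
  · -- the idempotents
    refine ⟨fun j => Pi.single j 1, ?_, ?_⟩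
    · exact CompleteOrthogonalIdempotents.single (fun j => Localization.Away (a j))
    · intro j
      rw [← ha j, Ideal.quotientMap_mk, Ideal.Quotient.eq]
      apply mem_map_pi_of_forall
      intro k
      by_cases hk : k = j
      · subst hk
        have : ((Pi.single k 1 : Π j, Localization.Away (a j)) -
            algebraMap A (Π j, Localization.Away (a j)) (a k)) k =
            algebraMap A (Localization.Away (a k)) (1 - a k) := by
          rw [Pi.sub_apply, Pi.single_eq_same, map_sub, map_one, Pi.algebraMap_apply]
        rw [this]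
        apply mem_map_away
        rw [← Ideal.Quotient.eq_zero_iff_mem]
        simp only [map_mul, map_sub, map_one, ha]
        rw [mul_sub, mul_one, (he.idem k).eq, sub_self]
      · have : ((Pi.single j 1 : Π j, Localization.Away (a j)) -
            algebraMap A (Π j, Localization.Away (a j)) (a j)) k =
            algebraMap A (Localization.Away (a k)) (- a j) := by
          rw [Pi.sub_apply, Pi.single_eq_of_ne hk, map_neg, zero_sub, Pi.algebraMap_apply]
        rw [this]
        apply mem_map_away
        rw [← Ideal.Quotient.eq_zero_iff_mem]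
        simp only [map_mul, map_neg, ha]
        rw [mul_neg, he.ortho hk, neg_zero]

end Groth.Agent.S9292
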