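import Groth.Statements.S9300
-- import your own Groth.Agent.* helpers here

set_option autoImplicit false
universe u
open CAlg

namespace Groth.Agent.S9300

/-- Let A and B be domains and A → B a ring map for which the generic point of Spec(A) has a unique
preimage in Spec(B). Then every nonzero ideal of B has nonzero preimage in A. -/
theorem result (A B : Type u) [CommRing A] [IsDomain A]
    [CommRing B] [IsDomain B] (φ : A →+* B)
    (h : ∃! q : PrimeSpectrum B, Ideal.comap φ q.asIdeal = ⊥) (J : Ideal B) (hJ : J ≠ ⊥) :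
    Ideal.comap φ J ≠ ⊥ := by
  intro hc
  obtain ⟨q0, hq0, huniq⟩ := h
  -- φ is injective
  have hbot : Ideal.comap φ (⊥ : Ideal B) = ⊥ := by
    apply le_antisymm _ bot_le
    calc Ideal.comap φ (⊥ : Ideal B) ≤ Ideal.comap φ q0.asIdeal := Ideal.comap_mono bot_le
      _ = ⊥ := hq0
  have hdisj : Disjoint (J : Set B) ((Submonoid.map φ (nonZeroDivisors A) : Submonoid B) : Set B) := by
    rw [Set.disjoint_left]
    rintro x hxJ ⟨a, ha, rfl⟩
    have : a ∈ Ideal.comap φ J := hxJ
    rw [hc] at this
    exact (nonZeroDivisors.ne_zero ha) this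
  obtain ⟨q, hqprime, hJq, hqdisj⟩ := Ideal.exists_le_prime_disjoint J _ hdisj
  have hq : Ideal.comap φ q = ⊥ := by
    apply le_antisymm _ bot_le
    intro a ha
    by_contra hne
    have hne' : a ≠ 0 := hne
    rw [Set.disjoint_left] at hqdisj
    exact hqdisj ha ⟨a, mem_nonZeroDivisors_of_ne_zero hne', rfl⟩
  have h1 := huniq ⟨q, hqprime⟩ hq
  have h2 := huniq ⟨⊥, Ideal.isPrime_bot⟩ hbot
  have : q = ⊥ := by
    have := h1.trans h2.symm
    exact congrArg PrimeSpectrum.asIdeal this
  apply hJ
  rw [eq_bot_iff, ← this]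
  exact hJq

end Groth.Agent.S9300
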