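import Groth.Statements.S9301
import Mathlib
import Groth.Agent.S9300

set_option autoImplicit false
universe u
open CAlg

namespace Groth.Agent.S9301

/-- Let A and B be domains and A → B a flat ring map which is the localization of a quasi-finite ring
map A → B₀ (of finite type with finite fibres). Then every nonzero ideal of B has nonzero preimage
in A. -/
theorem result (A B₀ B : Type u) [CommRing A] [IsDomain A]
    [CommRing B₀] [CommRing B] [IsDomain B] [Algebra A B₀] [Algebra.FiniteType A B₀]
    [Algebra.QuasiFinite A B₀] (S : Submonoid B₀) [Algebra B₀ B] [IsLocalization S B] [Algebra A B]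
    [IsScalarTower A B₀ B] [Module.Flat A B] (J : Ideal B) (hJ : J ≠ ⊥) :
    Ideal.comap (algebraMap A B) J ≠ ⊥ := by
  haveI : Algebra.QuasiFinite A B := Algebra.QuasiFinite.of_isLocalization (R := A) (S := B₀) S
  have hinj : Function.Injective (algebraMap A B) := by
    rw [injective_iff_map_eq_zero]
    intro a ha
    by_contra hne
    have hreg : IsSMulRegular B a :=
      Module.Flat.isSMulRegular_of_nonZeroDivisors (mem_nonZeroDivisors_of_ne_zero hne)
    have h1 : a • (1 : B) = a • (0 : B) := by
      rw [Algebra.smul_def, mul_one, ha, smul_zero]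
    exact one_ne_zero (hreg h1)
  have hbot : Ideal.comap (algebraMap A B) (⊥ : Ideal B) = ⊥ := by
    rw [Ideal.comap_bot_of_injective _ hinj]
  refine Groth.Agent.S9300.result A B (algebraMap A B) ?_ J hJ
  refine ⟨⟨⊥, Ideal.isPrime_bot⟩, hbot, ?_⟩
  intro q hq
  have : (⊥ : Ideal B) = q.asIdeal := by
    haveI := q.isPrime
    refine Algebra.QuasiFinite.eq_of_le_of_under_eq (R := A) ⊥ q.asIdeal bot_le ?_
    change Ideal.comap (algebraMap A B) ⊥ = Ideal.comap (algebraMap A B) q.asIdeal
    rw [hbot, hq]
  exact PrimeSpectrum.ext this.symm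

end Groth.Agent.S9301
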