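import Groth.Statements.S9302
import Groth.Agent.Lib.Helper18.HenselLimit

set_option autoImplicit false
universe u
open CategoryTheory
open EtAlg

namespace Groth.Agent.S9302

/-- Henselian pairs are preserved under limits: for an inverse system (A_j, I_j) of henselian pairs over
a preordered set J, the limit A = lim A_j with the ideal I = lim I_j (elements all of whose
projections lie in the I_j) is a henselian pair. -/
theorem result (J : Type u) [Preorder J] (F : J ⥤ CommRingCat.{u})
    (I : ∀ j : J, Ideal (F.obj j))
    (hI : ∀ (i j : J) (φ : i ⟶ j), Ideal.map (F.map φ).hom (I i) ≤ I j)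
    (h : ∀ j : J, HenselianRing (F.obj j) (I j)) :
    HenselianRing ((Limits.limit F : CommRingCat.{u}) : Type u)
      (⨅ j : J, Ideal.comap (Limits.limit.π F j).hom (I j)) := by
  classical
  have hw : ∀ (i j : J) (φ : i ⟶ j) (x : (Limits.limit F : CommRingCat.{u})),
      (F.map φ).hom ((Limits.limit.π F i).hom x) = (Limits.limit.π F j).hom x := by
    intro i j φ x
    have := Limits.limit.w F φ
    exact congr($(this).hom x)
  have hmemI : ∀ (x : (Limits.limit F : CommRingCat.{u})),
      x ∈ (⨅ j : J, Ideal.comap (Limits.limit.π F j).hom (I j)) ↔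
        ∀ j, (Limits.limit.π F j).hom x ∈ I j := by
    intro x
    simp [Ideal.mem_comap]
  -- units in the limit
  have hunit : ∀ (x : (Limits.limit F : CommRingCat.{u})),
      (∀ j, IsUnit ((Limits.limit.π F j).hom x)) → IsUnit x := by
    intro x hx
    choose v hv using fun j => (hx j)
    obtain ⟨y, hy⟩ := Groth.Agent.Lib.Helper18.exists_limit_elt F
      (fun j => ((v j)⁻¹ : (F.obj j)ˣ)) (by
        intro i j φ
        have h1 : (F.map φ).hom ((v i : (F.obj i)ˣ) : F.obj i) = (v j : F.obj j) := by
          rw [hv i, hv j, hw]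
        have h2 : (F.map φ).hom (((v i)⁻¹ : (F.obj i)ˣ) : F.obj i) * (v j : F.obj j) = 1 := by
          rw [← h1, ← map_mul, Units.inv_mul, map_one]
        exact (Units.eq_inv_of_mul_eq_one_right h2))
    refine IsUnit.of_mul_eq_one y ?_
    apply Groth.Agent.Lib.Helper18.limit_elt_ext
    intro j
    rw [map_mul, hy, ← hv j, map_one, Units.mul_inv]
  refine ⟨?_, ?_⟩
  · -- Jacobson radical
    intro x hx
    rw [hmemI] at hx
    rw [Ideal.mem_jacobson_bot]
    intro y
    apply hunit
    intro j
    rw [map_add, map_mul, map_one]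
    have := (h j).jac (hx j)
    rw [Ideal.mem_jacobson_bot] at this
    exact this _
  · intro f hf a₀ hfa₀ hder
    -- the data at each level
    have hroot_j : ∀ j, (f.map (Limits.limit.π F j).hom).eval ((Limits.limit.π F j).hom a₀) ∈ I j := by
      intro j
      rw [Polynomial.eval_map_apply]
      exact (hmemI _).mp hfa₀ j
    have hder_j : ∀ j, IsUnit (Ideal.Quotient.mk (I j)
        ((f.map (Limits.limit.π F j).hom).derivative.eval ((Limits.limit.π F j).hom a₀))) := by
      intro j
      rw [Polynomial.derivative_map, Polynomial.eval_map_apply]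
      obtain ⟨b, hb⟩ := isUnit_iff_exists_inv.mp hder
      obtain ⟨b, rfl⟩ := Ideal.Quotient.mk_surjective b
      rw [← map_mul, ← map_one (Ideal.Quotient.mk _), Ideal.Quotient.eq, hmemI] at hb
      rw [isUnit_iff_exists_inv]
      refine ⟨Ideal.Quotient.mk (I j) ((Limits.limit.π F j).hom b), ?_⟩
      rw [← map_mul, ← map_one (Ideal.Quotient.mk _), Ideal.Quotient.eq]
      have := hb j
      rwa [map_sub, map_mul, map_one] at this
    choose a ha_root ha_mem using fun j =>
      (h j).is_henselian (f.map (Limits.limit.π F j).hom) (hf.map _)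
        ((Limits.limit.π F j).hom a₀) (hroot_j j) (hder_j j)
    have hcompat : ∀ (i j : J) (φ : i ⟶ j), (F.map φ).hom (a i) = a j := by
      intro i j φ
      have hmap : (f.map (Limits.limit.π F i).hom).map (F.map φ).hom =
          f.map (Limits.limit.π F j).hom := by
        rw [Polynomial.map_map]
        congr 1
        ext x
        exact hw i j φ x
      refine Groth.Agent.Lib.Helper18.hensel_root_unique (I j) (h j).jac
        (f.map (Limits.limit.π F j).hom) ((Limits.limit.π F j).hom a₀) _ _ (hder_j j) ?_
        (ha_root j) ?_ (ha_mem j)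
      · rw [Polynomial.IsRoot.def, ← hmap, Polynomial.eval_map_apply, (ha_root i).eq_zero, map_zero]
      · rw [← hw i j φ a₀, ← map_sub]
        exact hI i j φ (Ideal.mem_map_of_mem _ (ha_mem i))
    obtain ⟨x, hx⟩ := Groth.Agent.Lib.Helper18.exists_limit_elt F a hcompat
    refine ⟨x, ?_, ?_⟩
    · rw [Polynomial.IsRoot.def]
      apply Groth.Agent.Lib.Helper18.limit_elt_ext
      intro j
      rw [← Polynomial.eval_map_apply, hx, (ha_root j).eq_zero, map_zero]
    · rw [hmemI]
      intro j
      rw [map_sub, hx]
      exact ha_mem j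

end Groth.Agent.S9302
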