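import Groth.Statements.S9305
import Mathlib
import Groth.Agent.Lib.Helper4.BrnchCount
import Groth.Agent.Lib.Helper4.BrnchLocDom4
import Groth.Agent.Lib.Helper4.BrnchNormal

set_option autoImplicit false
universe u
open CAlg

namespace Groth.Agent.S9305

open TensorProduct in
open Groth.Agent.Lib.Helper4 in
/-- Let A be a local ring with finitely many minimal primes, A' the integral closure of A_red in its
total ring of fractions and A^sh a strict henselization of A. In the ring A' ⊗_A A^sh, each minimal
prime lies in exactly one maximal ideal and each maximal ideal contains exactly one minimal prime. -/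
theorem result {A Ash : Type u} [CommRing A]
    [IsLocalRing A] (hfin : (minimalPrimes A).Finite) [CommRing Ash] [IsLocalRing Ash] [Algebra A Ash]
    [IsLocalHom (algebraMap A Ash)] [Hensel.IsStrictHenselization A Ash] :
    (∀ q ∈ minimalPrimes ((CAlg2.normRed A) ⊗[A] Ash),
        ∃! m : Ideal ((CAlg2.normRed A) ⊗[A] Ash), m.IsMaximal ∧ q ≤ m) ∧
      (∀ m : Ideal ((CAlg2.normRed A) ⊗[A] Ash), m.IsMaximal →
        ∃! q : Ideal ((CAlg2.normRed A) ⊗[A] Ash), q ∈ minimalPrimes ((CAlg2.normRed A) ⊗[A] Ash) ∧ q ≤ m) := by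
  have hint : Algebra.IsIntegral A (CAlg2.normRed A) := BrnchCount.isIntegral_normRed A
  have hH : HenselianLocalRing Ash := Hensel.IsStrictHenselization.henselian A
  have hGU : BrnchLocDom.LocGU (CAlg2.normRed A) := fun p _ =>
    ⟨(BrnchNormal.normRed_localization A hfin p).1,
      BrnchNormal.normRed_localization_isGeomUnibranch A hfin p⟩
  have hLD := BrnchLocDom.locDom_tensor_strictHenselization A (CAlg2.normRed A) Ash hGU
  refine ⟨fun q hq => ?_, fun m hm => ?_⟩
  · have hqp : q.IsPrime := hq.1.1
    exact BrnchCount.existsUnique_isMaximal_ge A (CAlg2.normRed A) Ash q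
  · have hmp : m.IsPrime := hm.isPrime
    obtain ⟨q, hq, hqm⟩ := Ideal.exists_minimalPrimes_le (I := ⊥) (J := m) bot_le
    refine ⟨q, ⟨hq, hqm⟩, ?_⟩
    rintro q' ⟨hq', hq'm⟩
    exact hLD.minimalPrime_unique m hq' hq hq'm hqm

end Groth.Agent.S9305
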