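import Groth.Statements.S9309
import Mathlib
import Groth.Agent.S2045
import Groth.Agent.Lib.Helper23.HensColim
-- import your own Groth.Agent.* helpers here

set_option autoImplicit false
universe u
open CAlg

namespace Groth.Agent.S9309


open IsLocalRing Groth.Agent.Lib.Helper23.HensColim


/-- Every henselian local ring A is the colimit of a directed system of henselian local G-rings whose
transition maps are local homomorphisms; that is, there is such a system whose direct limit is
isomorphic to A. -/
theorem result (A : Type u) [CommRing A]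
    [HenselianLocalRing A] :
    ∃ (ι : Type u) (_ : Preorder ι) (_ : IsDirectedOrder ι) (_ : Nonempty ι) (G : ι → Type u)
      (_ : ∀ i, CommRing (G i)) (f : ∀ i j : ι, i ≤ j → (G i →+* G j))
      (_ : DirectedSystem G (fun i j h => f i j h)),
      (∀ i, HenselianLocalRing (G i) ∧ CAlg.IsGRing (G i)) ∧
      (∀ (i j : ι) (h : i ≤ j), IsLocalHom (f i j h)) ∧
      Nonempty (A ≃+* DirectLimit G f) := by
  refine ⟨Idx A, inferInstance, inferInstance, inferInstance, fun i => Gh i, inferInstance,
    fun i j h => trn i j h, inferInstance, ?_, trn_loc, ?_⟩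
  · intro i
    refine ⟨inferInstance, ?_⟩
    have hfg : Algebra.FiniteType ℤ ↥i.1 := (Subalgebra.fg_iff_finiteType _).mp i.2
    have hG : CAlg.IsGRing (Lc i) := isGRing_atPrime_of_fg_int ↥i.1 hfg (pr i)
    haveI : IsNoetherianRing (Lc i) := hG.1
    exact Groth.Agent.S2045.main (R := Lc i) (S := Gh i) hG
  · exact ⟨(RingEquiv.ofBijective (Phi A) Phi_bijective).symm⟩

end Groth.Agent.S9309
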