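import Groth.Statements.S9310
import Groth.Agent.Lib.Helper3.PowerSeriesAut

set_option autoImplicit false
universe u
open CAlg

namespace Groth.Agent.S9310

open MvPowerSeries in
theorem maximalIdeal_eq_span_X (K : Type u) [Field K] (n : ℕ) :
    IsLocalRing.maximalIdeal (MvPowerSeries (Fin n) K) =
      Ideal.span (Set.range (X : Fin n → MvPowerSeries (Fin n) K)) := by
  apply le_antisymm
  · intro g hg
    rw [IsLocalRing.mem_maximalIdeal, mem_nonunits_iff, isUnit_iff_constantCoeff] at hg
    apply Groth.Agent.Lib.Helper3.mem_span_range_X_of_constantCoeff_eq_zero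
    by_contra h
    exact hg (Ne.isUnit h)
  · rw [Ideal.span_le]
    rintro _ ⟨s, rfl⟩
    rw [SetLike.mem_coe, IsLocalRing.mem_maximalIdeal, mem_nonunits_iff, isUnit_iff_constantCoeff]
    simp

open MvPowerSeries in
theorem aux (K : Type u) [Field K] (n : ℕ)
    (y : Fin n → MvPowerSeries (Fin n) K)
    (hy : Ideal.span (Set.range y) = IsLocalRing.maximalIdeal (MvPowerSeries (Fin n) K)) :
    Function.Bijective (MvPowerSeries.subst y : MvPowerSeries (Fin n) K → MvPowerSeries (Fin n) K) := by
  have hy0 : ∀ s, constantCoeff (y s) = 0 := by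
    intro s
    have : y s ∈ IsLocalRing.maximalIdeal (MvPowerSeries (Fin n) K) := by
      rw [← hy]
      exact Ideal.subset_span ⟨s, rfl⟩
    rw [IsLocalRing.mem_maximalIdeal, mem_nonunits_iff, isUnit_iff_constantCoeff] at this
    by_contra h
    exact this (Ne.isUnit h)
  exact Groth.Agent.Lib.Helper3.subst_bijective_of_span_eq y hy0
    (hy.trans (maximalIdeal_eq_span_X K n))

/-- Let K be a field, A = K[[x_1, ..., x_n]], and y_1, ..., y_n ∈ A a regular system of parameters (n
elements generating the maximal ideal). Then the substitution map K[[y_1, ..., y_n]] → A is an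
isomorphism: f ↦ f(y_1, ..., y_n) is a bijection of K[[x_1, ..., x_n]] onto itself. -/
theorem result (K : Type u) [Field K] (n : ℕ)
    (y : Fin n → MvPowerSeries (Fin n) K)
    (hy : Ideal.span (Set.range y) = IsLocalRing.maximalIdeal (MvPowerSeries (Fin n) K)) :
    Function.Bijective (MvPowerSeries.subst y : MvPowerSeries (Fin n) K → MvPowerSeries (Fin n) K) := by
  exact aux K n y hy

end Groth.Agent.S9310
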