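import Groth.Statements.S9311
import Groth.Agent.Lib.Helper3.PowerSeriesAut
import Mathlib.RingTheory.Nakayama
import Mathlib.RingTheory.DiscreteValuationRing.Basic

set_option autoImplicit false
universe u
open CAlg

namespace Groth.Agent.S9311

open MvPowerSeries in
theorem aux (Λ : Type u) [CommRing Λ] [IsDomain Λ]
    [IsDiscreteValuationRing Λ] (p : ℕ)
    (hm : IsLocalRing.maximalIdeal Λ = Ideal.span {(p : Λ)}) (n : ℕ)
    (y : Fin n → MvPowerSeries (Fin n) Λ) (hy0 : ∀ i, MvPowerSeries.constantCoeff (y i) = 0)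
    (hy : Ideal.span (insert (p : MvPowerSeries (Fin n) Λ) (Set.range y)) =
      IsLocalRing.maximalIdeal (MvPowerSeries (Fin n) Λ)) :
    Function.Bijective (MvPowerSeries.subst y : MvPowerSeries (Fin n) Λ → MvPowerSeries (Fin n) Λ) := by
  have hp0 : (p : Λ) ≠ 0 := by
    intro h
    apply IsDiscreteValuationRing.not_a_field Λ
    rw [hm, h, Ideal.span_singleton_eq_bot]
  have hpm : (p : Λ) ∈ IsLocalRing.maximalIdeal Λ := by
    rw [hm]; exact Ideal.subset_span rfl
  have hpB : (p : MvPowerSeries (Fin n) Λ) ∈ IsLocalRing.maximalIdeal (MvPowerSeries (Fin n) Λ) := by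
    rw [← hy]; exact Ideal.subset_span (Set.mem_insert _ _)
  -- J ≤ I
  have hJI : Ideal.span (Set.range y) ≤ Ideal.span (Set.range (X : Fin n → MvPowerSeries (Fin n) Λ)) := by
    rw [Ideal.span_le]
    rintro _ ⟨s, rfl⟩
    exact Groth.Agent.Lib.Helper3.mem_span_range_X_of_constantCoeff_eq_zero _ (hy0 s)
  have hconst : ∀ g ∈ Ideal.span (Set.range (X : Fin n → MvPowerSeries (Fin n) Λ)),
      constantCoeff g = 0 := by
    intro g hg
    have : Ideal.span (Set.range (X : Fin n → MvPowerSeries (Fin n) Λ)) ≤
        RingHom.ker (constantCoeff (σ := Fin n) (R := Λ)) := by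
      rw [Ideal.span_le]
      rintro _ ⟨s, rfl⟩
      simp
    exact this hg
  -- I ≤ J ⊔ (p) • I
  have hIJ : Ideal.span (Set.range (X : Fin n → MvPowerSeries (Fin n) Λ)) ≤
      Ideal.span (Set.range y) ⊔ Ideal.span {(p : MvPowerSeries (Fin n) Λ)} •
        Ideal.span (Set.range (X : Fin n → MvPowerSeries (Fin n) Λ)) := by
    rw [Ideal.span_le]
    rintro _ ⟨s, rfl⟩
    have hX : (X s : MvPowerSeries (Fin n) Λ) ∈ IsLocalRing.maximalIdeal (MvPowerSeries (Fin n) Λ) := by
      rw [IsLocalRing.mem_maximalIdeal, mem_nonunits_iff, isUnit_iff_constantCoeff]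
      simp
    rw [← hy, Ideal.span_insert, Submodule.mem_sup] at hX
    obtain ⟨u, hu, j, hj, huj⟩ := hX
    obtain ⟨b, rfl⟩ := Ideal.mem_span_singleton'.1 hu
    have hb : constantCoeff b = 0 := by
      have := congrArg (constantCoeff (σ := Fin n) (R := Λ)) huj
      rw [map_add, map_mul, hconst j (hJI hj), add_zero, constantCoeff_X] at this
      have h2 : constantCoeff (p : MvPowerSeries (Fin n) Λ) = (p : Λ) := by
        simp
      rw [h2] at this
      exact (mul_eq_zero.1 this).resolve_right hp0
    rw [SetLike.mem_coe, ← huj, add_comm]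
    refine Submodule.add_mem_sup hj ?_
    rw [mul_comm]
    exact Submodule.smul_mem_smul (Ideal.subset_span rfl)
      (Groth.Agent.Lib.Helper3.mem_span_range_X_of_constantCoeff_eq_zero _ hb)
  have hjac : Ideal.span {(p : MvPowerSeries (Fin n) Λ)} ≤ Ideal.jacobson ⊥ := by
    rw [IsLocalRing.jacobson_eq_maximalIdeal ⊥ bot_ne_top, Ideal.span_le]
    simpa using hpB
  have hfg : (Ideal.span (Set.range (X : Fin n → MvPowerSeries (Fin n) Λ))).FG :=
    Submodule.fg_span (Set.finite_range _)
  have hle := Submodule.le_of_le_smul_of_le_jacobson_bot hfg hjac hIJ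
  exact Groth.Agent.Lib.Helper3.subst_bijective_of_span_eq y hy0 (le_antisymm hJI hle)

/-- Let Λ be a Cohen ring (a complete discrete valuation ring whose maximal ideal is generated by a
prime number p), B = Λ[[x_1, ..., x_n]], and y_1, ..., y_n ∈ B with zero constant terms such that p,
y_1, ..., y_n is a regular system of parameters of B (these n + 1 elements generate the maximal
ideal). Then the substitution map Λ[[y_1, ..., y_n]] → B is an isomorphism: f ↦ f(y_1, ..., y_n) is
a bijection of Λ[[x_1, ..., x_n]] onto itself. (The published statement allows the y_i to have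
constant terms in pΛ, the substitution being defined through the (p, x)-adic topology of B; this row
asks the constant terms to vanish, the case in which substitution is defined coefficientwise with no
topology on Λ.) -/
theorem result (Λ : Type u) [CommRing Λ] [IsDomain Λ]
    [IsDiscreteValuationRing Λ] [IsAdicComplete (IsLocalRing.maximalIdeal Λ) Λ] (p : ℕ) (hp : p.Prime)
    (hm : IsLocalRing.maximalIdeal Λ = Ideal.span {(p : Λ)}) (n : ℕ)
    (y : Fin n → MvPowerSeries (Fin n) Λ) (hy0 : ∀ i, MvPowerSeries.constantCoeff (y i) = 0)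
    (hy : Ideal.span (insert (p : MvPowerSeries (Fin n) Λ) (Set.range y)) =
      IsLocalRing.maximalIdeal (MvPowerSeries (Fin n) Λ)) :
    Function.Bijective (MvPowerSeries.subst y : MvPowerSeries (Fin n) Λ → MvPowerSeries (Fin n) Λ) := by
  exact aux Λ p hm n y hy0 hy

end Groth.Agent.S9311
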