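import Groth.Statements.S9316
import Groth.Agent.Lib.Helper9.SmallExt

set_option autoImplicit false
universe u
open CAlg

namespace Groth.Agent.S9316

open IsLocalRing in
/-- Let `R → S` be a local homomorphism of local rings with `S` Noetherian. Then `R → S` is formally
smooth for the adic topology of the maximal ideal of `S` if and only if lifts exist along small
extensions: for every Artinian local ring `A` with a local structure map `R → A`, every ideal `J` of
`A` of square zero which has length one as an `A`-module, and every local `R`-algebra homomorphism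
`ψ : S → A/J` inducing a bijection on residue fields, there is an `R`-algebra homomorphism `S → A`
lifting `ψ`. -/
theorem result {R S : Type u} [CommRing R] [CommRing S]
    [IsLocalRing R] [IsLocalRing S] [IsNoetherianRing S] [Algebra R S] [IsLocalHom (algebraMap R S)] :
    CAlgX.IsAdicFormallySmooth R S (maximalIdeal S) ↔
      ∀ (A : Type u) [CommRing A] [IsLocalRing A] [IsArtinianRing A] [Algebra R A]
        [IsLocalHom (algebraMap R A)] (J : Ideal A), J ^ 2 = ⊥ → Module.length A J = 1 →
        ∀ [IsLocalRing (A ⧸ J)] (ψ : S →ₐ[R] A ⧸ J) [IsLocalHom ψ.toRingHom],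
          Function.Bijective (ResidueField.map ψ.toRingHom) →
          ∃ χ : S →ₐ[R] A, (Ideal.Quotient.mkₐ R J).comp χ = ψ := by
  constructor
  · intro hfs A _ _ _ _ _ J hJ _ _ ψ _ hbij
    have hnil : ∃ n : ℕ, maximalIdeal A ^ n = ⊥ := by
      have h1 : IsNilpotent (Ideal.jacobson (⊥ : Ideal A)) :=
        IsArtinianRing.isNilpotent_jacobson_bot
      rw [IsLocalRing.jacobson_eq_maximalIdeal ⊥ bot_ne_top] at h1
      obtain ⟨n, hn⟩ := h1
      exact ⟨n, hn⟩
    exact (Groth.Agent.S9315.result.mp hfs) A J hJ hnil ψ hbij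
  · intro H
    rw [Groth.Agent.S9315.result]
    intro A _ _ _ _ J hJ hnil _ ψ _ hbij
    obtain ⟨n, hn⟩ := hnil
    have hJsq : ∀ y y' : A, Ideal.Quotient.mkₐ R J y = 0 → Ideal.Quotient.mkₐ R J y' = 0 →
        y * y' = 0 := by
      intro y y' hy hy'
      have hy1 : y ∈ J := Ideal.Quotient.eq_zero_iff_mem.mp hy
      have hy'1 : y' ∈ J := Ideal.Quotient.eq_zero_iff_mem.mp hy'
      have : y * y' ∈ J ^ 2 := by
        rw [pow_two]
        exact Ideal.mul_mem_mul hy1 hy'1
      rwa [hJ, Ideal.mem_bot] at this
    have hmap : (maximalIdeal S).map ψ.toRingHom ≤ maximalIdeal (A ⧸ J) :=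
      ((IsLocalRing.local_hom_TFAE ψ.toRingHom).out 0 2).mp (inferInstance : IsLocalHom ψ.toRingHom)
    have hmapA : maximalIdeal (A ⧸ J) = (maximalIdeal A).map (Ideal.Quotient.mk J) :=
      (IsLocalRing.map_maximalIdeal_of_surjective (Ideal.Quotient.mk J)
        Ideal.Quotient.mk_surjective).symm
    apply Groth.Agent.Lib.Helper9.SmallExt.exists_lift_of_pow_killed H n
      (Ideal.Quotient.mkₐ R J) (Ideal.Quotient.mkₐ_surjective R J) (maximalIdeal A) hJsq _ ψ _ _
    · intro a ha y _
      rw [hn, Ideal.mem_bot] at ha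
      rw [ha, zero_mul]
    · refine ⟨n, fun x hx => ?_⟩
      have h2 : ψ.toRingHom x ∈ ((maximalIdeal S) ^ (n + 1)).map ψ.toRingHom :=
        Ideal.mem_map_of_mem _ hx
      rw [Ideal.map_pow] at h2
      have h3 := Ideal.pow_right_mono hmap (n + 1) h2
      rw [hmapA, ← Ideal.map_pow, pow_succ, hn, Ideal.bot_mul, Ideal.map_bot, Ideal.mem_bot] at h3
      exact h3
    · intro a
      obtain ⟨t, ht⟩ := hbij.2 (IsLocalRing.residue (A ⧸ J) (Ideal.Quotient.mk J a))
      obtain ⟨s, rfl⟩ := IsLocalRing.residue_surjective t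
      rw [IsLocalRing.ResidueField.map_residue] at ht
      obtain ⟨a', ha'⟩ := Ideal.Quotient.mk_surjective (ψ s)
      refine ⟨s, a', ha', ?_⟩
      have h1 : IsLocalRing.residue (A ⧸ J) (Ideal.Quotient.mk J (a - a')) = 0 := by
        rw [map_sub, map_sub, ha', ← ht]
        exact sub_self _
      rw [IsLocalRing.residue_eq_zero_iff, hmapA] at h1
      obtain ⟨b, hb, hb'⟩ := (Ideal.mem_map_iff_of_surjective _ Ideal.Quotient.mk_surjective).mp h1
      have h2 : b - (a - a') ∈ J := by
        rw [← Ideal.Quotient.eq_zero_iff_mem, map_sub, hb', sub_self]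
      have hJm : J ≤ maximalIdeal A := by
        apply IsLocalRing.le_maximalIdeal
        intro h
        have : Subsingleton (A ⧸ J) := Ideal.Quotient.subsingleton_iff.mpr h
        exact not_subsingleton (A ⧸ J) this
      have h3 : a - a' = b - (b - (a - a')) := by ring
      rw [h3]
      exact (maximalIdeal A).sub_mem hb (hJm h2)

end Groth.Agent.S9316
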