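import Groth.Statements.S9323
import Mathlib
import Groth.Agent.Lib.Helper9.AdicSmoothPS2
import Groth.Agent.Lib.Helper23.FlatFibreSmooth
import Groth.Agent.Lib.Helper23.FieldSmooth
import Groth.Prelude.Def_Found

set_option autoImplicit false
open CAlg

namespace Groth.Agent.S9323
open IsLocalRing

theorem main (Λ : Type) [CommRing Λ] [IsLocalRing Λ]
    (hΛ : CAlg.IsCohenRing Λ) (n : ℕ) :
    CAlgX.IsAdicFormallySmooth ℤ (MvPowerSeries (Fin n) Λ)
      (IsLocalRing.maximalIdeal (MvPowerSeries (Fin n) Λ)) := by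
  obtain ⟨hdom, hdvr, hcomp, p, hp, hmax⟩ := hΛ
  apply Groth.Agent.Lib.Helper9.AdicSmoothPS2.isAdicFormallySmooth_mvPowerSeries ℤ Λ ?_ n
  haveI : Fact p.Prime := ⟨hp⟩
  have hp0 : (p : Λ) ≠ 0 := by
    intro h
    apply IsDiscreteValuationRing.not_a_field Λ
    rw [hmax, h, Ideal.span_singleton_eq_bot]
  have hpm : (p : Λ) ∈ maximalIdeal Λ := by
    rw [hmax]; exact Ideal.subset_span rfl
  -- characteristic zero
  have hchar : CharZero Λ := by
    obtain ⟨q, hq⟩ := CharP.exists Λ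
    rcases CharP.char_is_prime_or_zero Λ q with hq' | hq'
    · exfalso
      have hq0 : (q : Λ) = 0 := CharP.cast_eq_zero Λ q
      by_cases hpq : p = q
      · exact hp0 (hpq ▸ hq0)
      · have hcop : Nat.Coprime p q := (Nat.coprime_primes hp hq').mpr hpq
        have h1 : IsCoprime (p : ℤ) (q : ℤ) := Nat.isCoprime_iff_coprime.mpr hcop
        obtain ⟨a, b, hab⟩ := h1
        have h2 : (a : Λ) * (p : Λ) + (b : Λ) * (q : Λ) = 1 := by exact_mod_cast congrArg (Int.cast : ℤ → Λ) hab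
        rw [hq0, mul_zero, add_zero] at h2
        have h3 : (1 : Λ) ∈ maximalIdeal Λ := h2 ▸ Ideal.mul_mem_left _ _ hpm
        exact (Ideal.ne_top_iff_one _).mp (maximalIdeal.isMaximal Λ).ne_top h3
    · subst hq'
      exact CharP.charP_to_charZero Λ
  haveI : Module.Flat ℤ Λ := inferInstance
  set 𝔞 : Ideal ℤ := Ideal.span {(p : ℤ)} with h𝔞
  have hmap : 𝔞.map (algebraMap ℤ Λ) = maximalIdeal Λ := by
    rw [h𝔞, Ideal.map_span, Set.image_singleton, hmax]
    simp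
  have h𝔞max : 𝔞.IsMaximal :=
    PrincipalIdealRing.isMaximal_of_irreducible (Nat.prime_iff_prime_int.mp hp).irreducible
  have hmapmax : (𝔞.map (algebraMap ℤ Λ)).IsMaximal := hmap ▸ maximalIdeal.isMaximal Λ
  letI : Field (ℤ ⧸ 𝔞) := Ideal.Quotient.field 𝔞
  letI : Field (Λ ⧸ 𝔞.map (algebraMap ℤ Λ)) := Ideal.Quotient.field _
  haveI : Finite (ℤ ⧸ 𝔞) := Finite.of_equiv _ (Int.quotientSpanNatEquivZMod p).symm.toEquiv
  haveI : Algebra.FormallySmooth (ℤ ⧸ 𝔞) (Λ ⧸ 𝔞.map (algebraMap ℤ Λ)) :=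
    Groth.Agent.Lib.Helper23.FieldSmooth.formallySmooth_of_perfectField _ _
  have hfib : CAlgX.IsAdicFormallySmooth (ℤ ⧸ 𝔞) (Λ ⧸ 𝔞.map (algebraMap ℤ Λ))
      ((maximalIdeal Λ).map (Ideal.Quotient.mk (𝔞.map (algebraMap ℤ Λ)))) := by
    intro C _ _ J hJ ψ _
    exact ⟨Algebra.FormallySmooth.lift J ⟨2, hJ⟩ ψ, Algebra.FormallySmooth.comp_lift J ⟨2, hJ⟩ ψ⟩
  have h1 := Groth.Agent.Lib.Helper23.FlatFibreSmooth.formallySmoothAdic_of_flat_of_fibre 𝔞
    (maximalIdeal Λ) hfib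
  exact Groth.Agent.Lib.Helper9.AdicSmoothPS2.adic_of_adic 𝔞 (maximalIdeal Λ) (le_of_eq hmap) h1


/-- Let `Λ` be a Cohen ring (a complete discrete valuation ring whose maximal ideal is generated by a
prime number) and `n ≥ 0`. Then `ℤ → Λ[[x_1, …, x_n]]` is formally smooth for the adic topology of
the maximal ideal of the power series ring. (`Λ` is taken in the lowest universe, where `ℤ` lives.) -/
theorem result (Λ : Type) [CommRing Λ] [IsLocalRing Λ]
    (hΛ : CAlg.IsCohenRing Λ) (n : ℕ) :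
    CAlgX.IsAdicFormallySmooth ℤ (MvPowerSeries (Fin n) Λ)
      (IsLocalRing.maximalIdeal (MvPowerSeries (Fin n) Λ)) := by
  exact main Λ hΛ n

end Groth.Agent.S9323
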