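import Groth.Statements.S9325
import Mathlib
import Groth.Agent.Helper19.Conormal8

set_option autoImplicit false
universe u
open CAlg

namespace Groth.Agent.S9325
section Aux
open Groth.Agent.Helper19.OmegaAlg

/-- local step: if `J/I` becomes generated by an `H_1`-regular sequence after inverting `G`,
then some power of `G` multiplies `x ∈ I ∩ J²` into `I J`. -/
lemma local_step {A : Type u} [CommRing A] (I J : Ideal A) (hIJ : I ≤ J) (G : A)
    (c : ℕ) (f : Fin c → Localization.Away (Ideal.Quotient.mk I G))
    (hf : CAlgX.IsH1Regular f)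
    (hspan : Ideal.span (Set.range f) =
      (J.map (Ideal.Quotient.mk I)).map
        (algebraMap (A ⧸ I) (Localization.Away (Ideal.Quotient.mk I G))))
    (x : A) (hxI : x ∈ I) (hxJ : x ∈ J ^ 2) : ∃ n : ℕ, G ^ n * x ∈ I * J := by
  set π' : Localization.Away G →+* Localization.Away (Ideal.Quotient.mk I G) :=
    Localization.awayMap (Ideal.Quotient.mk I) G with hπ'
  have hsurj : Function.Surjective π' := by
    rw [hπ', Localization.awayMap_surjective_iff]
    intro a
    obtain ⟨b, rfl⟩ := Ideal.Quotient.mk_surjective a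
    exact ⟨b, 0, by simp⟩
  have hker : RingHom.ker π' = I.map (algebraMap A (Localization.Away G)) := by
    have := IsLocalization.ker_map (S := Localization.Away G) (Localization.Away (Ideal.Quotient.mk I G)) (Ideal.Quotient.mk I)
      (Submonoid.map_powers (Ideal.Quotient.mk I) G)
    rw [Ideal.mk_ker] at this
    exact this
  have hcomp : ∀ a : A, π' (algebraMap A (Localization.Away G) a) = algebraMap (A ⧸ I) (Localization.Away (Ideal.Quotient.mk I G)) (Ideal.Quotient.mk I a) := by
    intro a
    exact IsLocalization.map_eq _ a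
  set J' := J.map (algebraMap A (Localization.Away G)) with hJ'
  have hJ'map : J'.map π' = Ideal.span (Set.range f) := by
    rw [hspan, hJ', Ideal.map_map, Ideal.map_map]
    congr 1
    ext a
    exact hcomp a
  choose f' hf' using fun k => hsurj (f k)
  have hf'map : (Ideal.span (Set.range f')).map π' = Ideal.span (Set.range f) := by
    rw [Ideal.map_span]
    congr 1
    ext y
    constructor
    · rintro ⟨_, ⟨k, rfl⟩, rfl⟩
      exact ⟨k, (hf' k).symm⟩
    · rintro ⟨k, rfl⟩
      exact ⟨f' k, ⟨k, rfl⟩, hf' k⟩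
  have hkerJ' : RingHom.ker π' ≤ J' := by
    rw [hker]
    exact Ideal.map_mono hIJ
  have hJeq : J' = RingHom.ker π' ⊔ Ideal.span (Set.range f') := by
    apply le_antisymm
    · intro y hy
      have h1 : π' y ∈ (Ideal.span (Set.range f')).map π' := by
        rw [hf'map, ← hJ'map]
        exact Ideal.mem_map_of_mem _ hy
      have h2 : y ∈ Ideal.comap π' ((Ideal.span (Set.range f')).map π') := Ideal.mem_comap.mpr h1
      rw [Ideal.comap_map_of_surjective π' hsurj, ← RingHom.ker_eq_comap_bot] at h2
      rwa [sup_comm]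
    · refine sup_le hkerJ' (Ideal.span_le.mpr ?_)
      rintro _ ⟨k, rfl⟩
      have h1 : π' (f' k) ∈ J'.map π' := by
        rw [hJ'map, hf' k]
        exact Ideal.subset_span ⟨k, rfl⟩
      have h2 : f' k ∈ Ideal.comap π' (J'.map π') := Ideal.mem_comap.mpr h1
      rw [Ideal.comap_map_of_surjective π' hsurj, ← RingHom.ker_eq_comap_bot,
        sup_eq_left.mpr hkerJ'] at h2
      exact h2
  have hfreg : CAlgX.IsH1Regular (fun k => π' (f' k)) := by
    have : (fun k => π' (f' k)) = f := funext hf'
    rw [this]
    exact hf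
  have hx1 : algebraMap A (Localization.Away G) x ∈ RingHom.ker π' := by
    rw [hker]
    exact Ideal.mem_map_of_mem _ hxI
  have hx2 : algebraMap A (Localization.Away G) x ∈ J' ^ 2 := by
    rw [hJ', ← Ideal.map_pow]
    exact Ideal.mem_map_of_mem _ hxJ
  have hx3 := mem_mul_of_mem_inter_sq π' hsurj f' hfreg J' hJeq _ hx1 hx2
  rw [hker, hJ', ← Ideal.map_mul,
    IsLocalization.algebraMap_mem_map_algebraMap_iff (Submonoid.powers G)] at hx3
  obtain ⟨m, ⟨n, rfl⟩, hm⟩ := hx3
  exact ⟨n, hm⟩

end Aux


/-- Let `A` be a ring and `I ⊆ J` ideals of `A` such that the ideal `J/I` of `A/I` is `H_1`-regular: for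
every prime `𝔮` of `A/I` containing `J/I` there is `g ∉ 𝔮` such that the extension of `J/I` to
`(A/I)_g` is generated by an `H_1`-regular sequence (a finite sequence all of whose linear relations
are combinations of the trivial ones). Then `I ∩ J² = I J`. -/
theorem result {A : Type u} [CommRing A] (I J : Ideal A)
    (hIJ : I ≤ J)
    (h : ∀ (𝔮 : Ideal (A ⧸ I)) [𝔮.IsPrime], J.map (Ideal.Quotient.mk I) ≤ 𝔮 →
      ∃ g : A ⧸ I, g ∉ 𝔮 ∧ ∃ (c : ℕ) (f : Fin c → Localization.Away g),
        CAlgX.IsH1Regular f ∧
          Ideal.span (Set.range f) =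
            (J.map (Ideal.Quotient.mk I)).map (algebraMap (A ⧸ I) (Localization.Away g))) :
    I ⊓ J ^ 2 = I * J := by
  classical
  apply le_antisymm
  · rintro x ⟨hxI, hxJ⟩
    by_contra hx
    have hK : (I * J : Ideal A).colon ({x} : Set A) ≠ ⊤ := by
      intro hK
      have : (1 : A) ∈ (I * J : Ideal A).colon ({x} : Set A) := by rw [hK]; trivial
      rw [Submodule.mem_colon_singleton, one_smul] at this
      exact hx this
    obtain ⟨p, hp, hKp⟩ := Ideal.exists_le_maximal _ hK
    have : p.IsPrime := hp.isPrime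
    by_cases hJp : J ≤ p
    · have : (p.map (Ideal.Quotient.mk I)).IsPrime :=
        Ideal.map_isPrime_of_surjective Ideal.Quotient.mk_surjective
          (by rw [Ideal.mk_ker]; exact hIJ.trans hJp)
      obtain ⟨g, hg, c, f, hf, hspan⟩ := h (p.map (Ideal.Quotient.mk I)) (Ideal.map_mono hJp)
      obtain ⟨G, rfl⟩ := Ideal.Quotient.mk_surjective g
      have hGp : G ∉ p := fun hG => hg (Ideal.mem_map_of_mem _ hG)
      obtain ⟨n, hn⟩ := local_step I J hIJ G c f hf hspan x hxI hxJ
      have : G ^ n ∈ (I * J : Ideal A).colon ({x} : Set A) := by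
        rw [Submodule.mem_colon_singleton, smul_eq_mul]
        exact hn
      exact hGp (Ideal.IsPrime.mem_of_pow_mem inferInstance n (hKp this))
    · obtain ⟨j, hjJ, hjp⟩ := SetLike.not_le_iff_exists.mp hJp
      have : j ∈ (I * J : Ideal A).colon ({x} : Set A) := by
        rw [Submodule.mem_colon_singleton, smul_eq_mul, mul_comm j x]
        exact Ideal.mul_mem_mul hxI hjJ
      exact hjp (hKp this)
  · refine le_inf Ideal.mul_le_left ?_
    rw [pow_two]
    exact Ideal.mul_mono_left hIJ

end Groth.Agent.S9325
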