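import Groth.Statements.S9326
import Mathlib

set_option autoImplicit false
universe u
open CAlg

namespace Groth.Agent.S9326

section Helpers
open Filter Topology
set_option linter.unusedVariables false
variable {N M : Type u} [AddCommGroup N]
    [AddCommGroup M] [UniformSpace N] [IsUniformAddGroup N] [TopologicalSpace M]
    [IsTopologicalAddGroup M] [T2Space M] [T2Space N] [CompleteSpace N] [NonarchimedeanAddGroup N]

/-- Step B: successive approximation. -/
lemma closure_image_subset (u : N →+ M) (hu : Continuous u) (V : ℕ → OpenAddSubgroup N)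
    (hanti : Antitone V) (hbasis : ∀ U ∈ 𝓝 (0 : N), ∃ k, ((V k : OpenAddSubgroup N) : Set N) ⊆ U)
    (hW : ∀ k, IsOpen (closure (u '' (V k : Set N)))) :
    closure (u '' (V 0 : Set N)) ⊆ u '' (V 0 : Set N) := by
  intro y hy
  -- Step A
  have hA : ∀ k, ∀ z ∈ closure (u '' (V k : Set N)), ∃ x ∈ V k,
      z - u x ∈ closure (u '' (V (k + 1) : Set N)) := by
    intro k z hz
    have h0 : (0 : M) ∈ closure (u '' (V (k + 1) : Set N)) :=
      subset_closure ⟨0, (V (k + 1)).zero_mem, map_zero u⟩
    have hopen : IsOpen {w : M | z - w ∈ closure (u '' (V (k + 1) : Set N))} :=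
      (hW (k + 1)).preimage (continuous_const.sub continuous_id)
    have hzmem : z ∈ {w : M | z - w ∈ closure (u '' (V (k + 1) : Set N))} := by
      simpa using h0
    obtain ⟨w, hw1, ⟨x, hx, rfl⟩⟩ := mem_closure_iff.mp hz _ hopen hzmem
    exact ⟨x, hx, hw1⟩
  choose! X hX1 hX2 using hA
  -- sequence z_k
  let Z : ℕ → M := fun k => Nat.rec y (fun k z => z - u (X k z)) k
  have hZ0 : Z 0 = y := rfl
  have hZs : ∀ k, Z (k + 1) = Z k - u (X k (Z k)) := fun k => rfl
  have hZmem : ∀ k, Z k ∈ closure (u '' (V k : Set N)) := by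
    intro k
    induction k with
    | zero => exact hy
    | succ k ih => rw [hZs]; exact hX2 k _ ih
  let x : ℕ → N := fun k => X k (Z k)
  have hx : ∀ k, x k ∈ V k := fun k => hX1 k _ (hZmem k)
  let s : ℕ → N := fun k => ∑ j ∈ Finset.range k, x j
  have hsZ : ∀ k, Z k = y - u (s k) := by
    intro k
    induction k with
    | zero => simp [s, hZ0]
    | succ k ih =>
      have hZs' : Z (k + 1) = Z k - u (x k) := rfl
      have hs' : s (k + 1) = s k + x k := Finset.sum_range_succ _ _
      rw [hZs', ih, hs', map_add]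
      abel
  have hcauchy : CauchySeq s := by
    apply NonarchimedeanAddGroup.cauchySeq_of_tendsto_sub_nhds_zero
    have : ∀ k, s (k + 1) - s k = x k := by
      intro k; simp [s, Finset.sum_range_succ]
    simp only [this]
    rw [tendsto_def]
    intro U hU
    obtain ⟨k, hk⟩ := hbasis U hU
    rw [mem_atTop_sets]
    exact ⟨k, fun b hb => hk (hanti hb (hx b))⟩
  obtain ⟨xlim, hlim⟩ := cauchySeq_tendsto_of_complete hcauchy
  have hsmem : ∀ k, s k ∈ V 0 := fun k =>
    (V 0).toAddSubgroup.sum_mem fun j _ => hanti (Nat.zero_le j) (hx j)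
  have hxlim : xlim ∈ (V 0 : Set N) :=
    (V 0).isClosed.mem_of_tendsto hlim (Eventually.of_forall hsmem)
  refine ⟨xlim, hxlim, ?_⟩
  have h1 : Tendsto (fun k => u (s k)) atTop (𝓝 (u xlim)) := (hu.tendsto xlim).comp hlim
  have h2 : Tendsto (fun k => u (s k)) atTop (𝓝 y) := by
    have h3 : Tendsto Z atTop (𝓝 0) := by
      rw [tendsto_def]
      intro O hO
      obtain ⟨C, hC, hCcl, hCO⟩ := exists_mem_nhds_isClosed_subset hO
      have : u ⁻¹' C ∈ 𝓝 (0 : N) := hu.continuousAt (by simpa using hC)
      obtain ⟨k, hk⟩ := hbasis _ this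
      rw [mem_atTop_sets]
      refine ⟨k, fun b hb => hCO ?_⟩
      have hsub : closure (u '' (V b : Set N)) ⊆ C := by
        apply closure_minimal _ hCcl
        rintro _ ⟨v, hv, rfl⟩
        exact hk (hanti hb hv)
      exact hsub (hZmem b)
    have h4 : (fun k => u (s k)) = fun k => y - Z k := by
      funext k; rw [hsZ k]; abel
    rw [h4]
    simpa using tendsto_const_nhds.sub h3
  exact tendsto_nhds_unique h1 h2

lemma closure_image_open (u : N →+ M) (hu : Continuous u)
    (hnd : ¬ ∃ V : OpenAddSubgroup N, IsNowhereDense (u '' (V : Set N))) (V : OpenAddSubgroup N) :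
    IsOpen (closure (u '' (V : Set N))) := by
  have h1 : ¬ IsNowhereDense (u '' (V : Set N)) := fun h => hnd ⟨V, h⟩
  rw [IsNowhereDense, ← Ne, ← Set.nonempty_iff_ne_empty] at h1
  obtain ⟨w, hw⟩ := h1
  let H : AddSubgroup M := (AddSubgroup.map u V.toAddSubgroup).topologicalClosure
  have hH : (H : Set M) = closure (u '' (V : Set N)) := by
    rw [AddSubgroup.topologicalClosure_coe]; rfl
  rw [← hH]
  apply AddSubgroup.isOpen_of_mem_nhds H (g := w)
  rw [hH]
  exact mem_interior_iff_mem_nhds.mp hw

lemma image_mem_nhds_zero [FirstCountableTopology N] (u : N →+ M) (hu : Continuous u)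
    (hnd : ¬ ∃ V : OpenAddSubgroup N, IsNowhereDense (u '' (V : Set N))) (V : OpenAddSubgroup N) :
    u '' (V : Set N) ∈ 𝓝 (0 : M) := by
  obtain ⟨B, hB⟩ := (𝓝 (0 : N)).exists_antitone_basis
  have hBmem : ∀ k, B k ∈ 𝓝 (0 : N) := fun k => hB.mem k
  have hstep : ∀ (W : OpenAddSubgroup N) (k : ℕ), ∃ W' : OpenAddSubgroup N,
      (W' : Set N) ⊆ B k ∩ W :=
    fun W k => NonarchimedeanAddGroup.is_nonarchimedean _ (inter_mem (hBmem k) W.mem_nhds_zero)
  choose step hstep' using hstep
  let Vs : ℕ → OpenAddSubgroup N := fun k => Nat.rec (step V 0) (fun k W => step W (k + 1)) k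
  have hVs0 : Vs 0 = step V 0 := rfl
  have hVss : ∀ k, Vs (k + 1) = step (Vs k) (k + 1) := fun k => rfl
  have hanti : Antitone Vs := by
    apply antitone_nat_of_succ_le
    intro k
    rw [hVss]
    intro v hv
    exact (hstep' (Vs k) (k + 1) hv).2
  have hVsB : ∀ k, SetLike.coe (Vs k) ⊆ B k := by
    intro k
    cases k with
    | zero => rw [hVs0]; exact fun v hv => (hstep' V 0 hv).1
    | succ k => rw [hVss]; exact fun v hv => (hstep' (Vs k) (k + 1) hv).1
  have hbasis : ∀ U ∈ 𝓝 (0 : N), ∃ k, SetLike.coe (Vs k) ⊆ U := by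
    intro U hU
    obtain ⟨k, -, hk⟩ := hB.toHasBasis.mem_iff.mp hU
    exact ⟨k, (hVsB k).trans hk⟩
  have hsub := closure_image_subset u hu Vs hanti hbasis
    (fun k => closure_image_open u hu hnd (Vs k))
  have hopen := closure_image_open u hu hnd (Vs 0)
  have h0 : (0 : M) ∈ closure (u '' SetLike.coe (Vs 0)) :=
    subset_closure ⟨0, (Vs 0).zero_mem, map_zero u⟩
  have hV0 : SetLike.coe (Vs 0) ⊆ V := fun v hv => (hstep' V 0 hv).2
  exact Filter.mem_of_superset (hopen.mem_nhds h0) (hsub.trans (Set.image_mono hV0))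

theorem main [FirstCountableTopology N] (u : N →+ M) (hu : Continuous u) :
    Xor (IsOpenMap u) (∃ V : OpenAddSubgroup N, IsNowhereDense (u '' (V : Set N))) := by
  by_cases hnd : ∃ V : OpenAddSubgroup N, IsNowhereDense (u '' (V : Set N))
  · right
    refine ⟨hnd, ?_⟩
    intro hopen
    obtain ⟨V, hV⟩ := hnd
    have h1 : IsOpen (u '' (V : Set N)) := hopen _ V.isOpen
    have h2 : (0 : M) ∈ interior (closure (u '' (V : Set N))) :=
      interior_mono subset_closure (by rw [h1.interior_eq]; exact ⟨0, V.zero_mem, map_zero u⟩)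
    rw [IsNowhereDense] at hV
    rw [hV] at h2
    exact h2
  · left
    refine ⟨?_, hnd⟩
    intro U hU
    rw [isOpen_iff_mem_nhds]
    rintro _ ⟨x, hx, rfl⟩
    have h1 : {v : N | x + v ∈ U} ∈ 𝓝 (0 : N) := by
      have hc : Continuous fun v : N => x + v := continuous_const.add continuous_id
      exact hc.continuousAt (by simpa using hU.mem_nhds hx)
    obtain ⟨V, hV⟩ := NonarchimedeanAddGroup.is_nonarchimedean _ h1
    have h2 := image_mem_nhds_zero u hu hnd V
    have h3 : (fun m => u x + m) '' (u '' (V : Set N)) ∈ 𝓝 (u x) := by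
      rw [← map_add_left_nhds_zero]
      exact image_mem_map h2
    refine Filter.mem_of_superset h3 ?_
    rintro _ ⟨_, ⟨v, hv, rfl⟩, rfl⟩
    exact ⟨x + v, hV hv, map_add u x v⟩


end Helpers

/-- Let `u : N → M` be a continuous homomorphism of topological abelian groups. Assume `M` is Hausdorff
and `N` is Hausdorff and complete, linearly topologized (every neighbourhood of zero contains an
open subgroup) and first countable (zero has a countable basis of neighbourhoods). Then exactly one
of two things holds: `u` is an open map; or there is an open subgroup of `N` whose image is nowhere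
dense in `M`. -/
theorem result {N M : Type u} [AddCommGroup N]
    [AddCommGroup M] [UniformSpace N] [IsUniformAddGroup N] [TopologicalSpace M]
    [IsTopologicalAddGroup M] [T2Space M] [T2Space N] [CompleteSpace N] [NonarchimedeanAddGroup N]
    [FirstCountableTopology N] (u : N →+ M) (hu : Continuous u) :
    Xor (IsOpenMap u) (∃ V : OpenAddSubgroup N, IsNowhereDense (u '' (V : Set N))) := by
  exact main u hu

end Groth.Agent.S9326
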