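import Groth.Statements.S9332
import Groth.Agent.Lib.Helper18.FiberPts

set_option autoImplicit false
universe u
open QFin

namespace Groth.Agent.S9332

open AlgebraicGeometry CategoryTheory in
/-- Let f : X → S be locally of finite type and x ∈ X. Then x is closed in its fibre X_{f x} if and only
if κ(x) is a finite extension of κ(f x) (via the residue field map of f at x). -/
theorem result {X S : Scheme.{u}} (f : X ⟶ S) [LocallyOfFiniteType f] (x : X) :
    IsClosed ({f.asFiber x} : Set ↑(f.fiber (f.base x))) ↔ (f.residueFieldMap x).hom.Finite := by
  constructor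
  · intro hcl
    have hci : IsClosedImmersion (f.asFiberHom x) :=
      .of_isPreimmersion _ (by rw [f.range_asFiberHom]; exact hcl)
    have hft : LocallyOfFiniteType (f.fiberToSpecResidueField (f.base x)) :=
      MorphismProperty.pullback_snd _ _ inferInstance
    have hft' : LocallyOfFiniteType (f.asFiberHom x ≫ f.fiberToSpecResidueField (f.base x)) :=
      inferInstance
    rw [f.asFiberHom_fiberToSpecResidueField x] at hft'
    have hfin : IsFinite (Spec.map (f.residueFieldMap x)) :=
      isFinite_iff_locallyOfFiniteType_of_jacobsonSpace.mpr hft'
    exact (IsFinite.SpecMap_iff _).mp hfin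
  · intro hfin
    exact Groth.Agent.Lib.Helper18.isClosed_singleton_of_isIntegral (f.asFiberHom x)
      (f.fiberToSpecResidueField _) (f.residueFieldMap x) hfin.to_isIntegral
      (f.asFiberHom_fiberToSpecResidueField x) _ (f.range_asFiberHom x)

end Groth.Agent.S9332
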