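import Groth.Statements.S9333
import Mathlib

set_option autoImplicit false
universe u
open QFin

namespace Groth.Agent.S9333

open AlgebraicGeometry CategoryTheory in
/-- Let f : X → S be locally of finite type, g : S' → S any morphism and X' = X ×_S S' with projections
g' : X' → X and f' : X' → S'. If x' ∈ X' maps to x ∈ X and x is closed in the fibre X_{f x}, then x'
is closed in the fibre X'_{f' x'}. -/
theorem result {X S X' S' : Scheme.{u}} (f : X ⟶ S) [LocallyOfFiniteType f] (g : S' ⟶ S)
    (g' : X' ⟶ X) (f' : X' ⟶ S') (hsq : IsPullback g' f' f g) (x' : X')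
    (hx : IsClosed ({f.asFiber (g'.base x')} : Set ↑(f.fiber (f.base (g'.base x'))))) :
    IsClosed ({f'.asFiber x'} : Set ↑(f'.fiber (f'.base x'))) := by
  classical
  have hx0 : f.base (g'.base x') = g.base (f'.base x') := by
    have := congr($(hsq.w).base x')
    simpa using this
  -- the point of `f.fiber (g s')` over `g' x'` is closed
  have key : ∀ (s : S) (e : f.base (g'.base x') = s),
      IsClosed ({(f.fiberHomeo s).symm ⟨g'.base x', e⟩} : Set ↑(f.fiber s)) := by
    rintro _ rfl; exact hx
  obtain ⟨a₀, ha₀cl, hιa₀⟩ : ∃ a₀ : ↑(f.fiber (g.base (f'.base x'))),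
      IsClosed ({a₀} : Set ↑(f.fiber (g.base (f'.base x')))) ∧
      (f.fiberι (g.base (f'.base x'))).base a₀ = g'.base x' :=
    ⟨_, key _ hx0, f.fiberι_fiberHomeo_symm _ _⟩
  -- the base-change square of fibres
  obtain ⟨G, hpb, hGι⟩ : ∃ G : f'.fiber (f'.base x') ⟶ f.fiber (g.base (f'.base x')),
      IsPullback G (f'.fiberToSpecResidueField (f'.base x'))
        (f.fiberToSpecResidueField (g.base (f'.base x')))
        (Spec.map (g.residueFieldMap (f'.base x'))) ∧
      G ≫ f.fiberι (g.base (f'.base x')) = f'.fiberι (f'.base x') ≫ g' :=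
    ⟨_, isPullback_fiberToSpecResidueField_of_isPullback hsq (f'.base x'),
      Limits.pullback.lift_fst _ _ _⟩
  -- closed immersion of the closed point
  obtain ⟨K, i₀, hci, hrange⟩ : ∃ (K : CommRingCat.{u}) (i₀ : Spec K ⟶ f.fiber (g.base (f'.base x'))),
      IsClosedImmersion i₀ ∧ Set.range i₀.base = {a₀} ∧ Subsingleton ↑(Spec K) ∧ IsReduced (Spec K) :=
    ⟨_, (f.fiber (g.base (f'.base x'))).fromSpecResidueField a₀,
      isClosed_singleton_iff_isClosedImmersion.mp ha₀cl, Scheme.range_fromSpecResidueField _,
      inferInstance, inferInstance⟩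
  obtain ⟨hrange, hsub, hred⟩ := hrange
  have hπ : LocallyOfFiniteType (f.fiberToSpecResidueField (g.base (f'.base x'))) :=
    MorphismProperty.pullback_snd _ _ inferInstance
  have hfin : IsFinite (i₀ ≫ f.fiberToSpecResidueField (g.base (f'.base x'))) :=
    isFinite_iff_locallyOfFiniteType_of_jacobsonSpace.mpr inferInstance
  have hqf0 : LocallyQuasiFinite (i₀ ≫ f.fiberToSpecResidueField (g.base (f'.base x'))) :=
    inferInstance
  -- paste
  have htop := (IsPullback.of_hasPullback G i₀).flip
  have hpaste := htop.paste_vert hpb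
  have hqf : LocallyQuasiFinite (Limits.pullback.fst G i₀ ≫
      f'.fiberToSpecResidueField (f'.base x')) :=
    MorphismProperty.of_isPullback hpaste hqf0
  have hart : IsLocallyArtinian (Limits.pullback G i₀) :=
    IsLocallyArtinian.of_locallyQuasiFinite
      (Limits.pullback.fst G i₀ ≫ f'.fiberToSpecResidueField (f'.base x'))
  -- the point a'
  have hGa' : G.base (f'.asFiber x') = a₀ := by
    apply (f.fiberι (g.base (f'.base x'))).isEmbedding.injective
    rw [hιa₀, ← Scheme.Hom.comp_apply, hGι, Scheme.Hom.comp_apply, f'.fiberι_asFiber]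
  have hmem : f'.asFiber x' ∈ Set.range (Limits.pullback.fst G i₀).base := by
    rw [Scheme.Pullback.range_fst, Set.mem_preimage, hrange, hGa']
    rfl
  obtain ⟨z', hz'⟩ := hmem
  have hcl : IsClosed ({z'} : Set ↑(Limits.pullback G i₀)) := isClosed_discrete _
  have hci' : IsClosedImmersion (Limits.pullback.fst G i₀) :=
    MorphismProperty.pullback_fst _ _ hci
  have := (Limits.pullback.fst G i₀).isClosedEmbedding.isClosedMap _ hcl
  rwa [Set.image_singleton, hz'] at this

end Groth.Agent.S9333
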