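import Groth.Statements.S9345
import Mathlib

set_option autoImplicit false
universe u
open Dom

namespace Groth.Agent.S9345

theorem top_aux {X S : Type*} [TopologicalSpace X] [TopologicalSpace S] [QuasiSober X]
    [QuasiSober S] [T0Space S] (f : X → S) (hf : Continuous f)
    (hX : (irreducibleComponents X).Finite) :
    (DenseRange f ↔ ∀ s : S, closure {s} ∈ irreducibleComponents S → s ∈ Set.range f) ∧
      (DenseRange f → (irreducibleComponents S).Finite) := by
  classical
  -- generic points of the components of X
  have hgen : ∀ Z ∈ irreducibleComponents X, ∃ ξ : X, closure {ξ} = Z := fun Z hZ =>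
    QuasiSober.sober hZ.1 (isClosed_of_mem_irreducibleComponents Z hZ)
  choose ξ' hξ' using hgen
  let ξ : {Z // Z ∈ irreducibleComponents X} → X := fun Z => ξ' Z.1 Z.2
  have hξ : ∀ Z : {Z // Z ∈ irreducibleComponents X}, closure {ξ Z} = Z.1 := fun Z => hξ' Z.1 Z.2
  -- finite family of closed irreducible subsets of S
  have := hX.fintype
  let T : Finset (Set S) := Finset.univ.image fun Z : {Z // Z ∈ irreducibleComponents X} =>
    closure {f (ξ Z)}
  have hTclosed : ∀ z ∈ T, IsClosed z := by
    intro z hz
    obtain ⟨Z, -, rfl⟩ := Finset.mem_image.mp hz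
    exact isClosed_closure
  have hrange : Set.range f ⊆ ⋃₀ (T : Set (Set S)) := by
    rintro _ ⟨x, rfl⟩
    have hx : x ∈ ⋃₀ irreducibleComponents X := by rw [sUnion_irreducibleComponents]; trivial
    obtain ⟨Z, hZ, hxZ⟩ := hx
    refine ⟨closure {f (ξ ⟨Z, hZ⟩)}, ?_, ?_⟩
    · exact Finset.mem_coe.mpr (Finset.mem_image.mpr ⟨⟨Z, hZ⟩, Finset.mem_univ _, rfl⟩)
    · have hxZ' : x ∈ closure {ξ ⟨Z, hZ⟩} := by rw [hξ ⟨Z, hZ⟩]; exact hxZ
      have := image_closure_subset_closure_image hf (Set.mem_image_of_mem f hxZ')
      simpa using this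
  have hcomp : DenseRange f → ∀ C ∈ irreducibleComponents S,
      ∃ Z : {Z // Z ∈ irreducibleComponents X}, C = closure {f (ξ Z)} := by
    intro hd C hC
    have hcl : IsClosed (⋃₀ (T : Set (Set S))) := by
      rw [Set.sUnion_eq_biUnion]
      exact T.finite_toSet.isClosed_biUnion hTclosed
    have huniv : ⋃₀ (T : Set (Set S)) = Set.univ := by
      rw [Set.eq_univ_iff_forall]
      intro s
      have : s ∈ closure (Set.range f) := hd s
      exact closure_minimal hrange hcl this
    obtain ⟨z, hz, hCz⟩ := (isIrreducible_iff_sUnion_isClosed.mp hC.1) T hTclosed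
      (by rw [huniv]; exact Set.subset_univ _)
    obtain ⟨Z, -, rfl⟩ := Finset.mem_image.mp hz
    refine ⟨Z, ?_⟩
    exact le_antisymm hCz (hC.2 (isIrreducible_singleton.closure) hCz)
  refine ⟨⟨fun hd s hs => ?_, fun h t => ?_⟩, fun hd => ?_⟩
  · obtain ⟨Z, hC⟩ := hcomp hd _ hs
    have : s = f (ξ Z) := by
      have h1 : Inseparable s (f (ξ Z)) := by
        rw [inseparable_iff_closure_eq]; exact hC
      exact h1.eq
    exact ⟨ξ Z, this.symm⟩
  · -- every point lies in an irreducible component, whose generic point is in the range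
    have hC := irreducibleComponent_mem_irreducibleComponents t
    obtain ⟨s, hs⟩ := QuasiSober.sober hC.1 (isClosed_of_mem_irreducibleComponents _ hC)
    have hs' : closure {s} = irreducibleComponent t := hs
    have hsr : s ∈ Set.range f := h s (by rw [hs']; exact hC)
    have ht : t ∈ closure {s} := by rw [hs']; exact mem_irreducibleComponent
    exact closure_mono (Set.singleton_subset_iff.mpr hsr) ht
  · apply Set.Finite.subset (T.finite_toSet)
    intro C hC
    obtain ⟨Z, rfl⟩ := hcomp hd C hC
    exact Finset.mem_coe.mpr (Finset.mem_image.mpr ⟨Z, Finset.mem_univ _, rfl⟩)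


open AlgebraicGeometry CategoryTheory in
/-- For a morphism f : X → S whose source has only finitely many irreducible components, the image of f
is dense exactly when it contains the generic point of each irreducible component of S, and then S
too has finitely many. -/
theorem result {X S : Scheme.{u}} (f : X ⟶ S)
    (hX : (irreducibleComponents (↑X : Type u)).Finite) :
    (IsDominant f ↔ ∀ s : ↑S, closure {s} ∈ irreducibleComponents (↑S : Type u) → s ∈ Set.range f.base) ∧
      (IsDominant f → (irreducibleComponents (↑S : Type u)).Finite) := by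
  rw [isDominant_iff]
  exact top_aux f.base f.continuous hX

end Groth.Agent.S9345
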