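import Groth.Statements.S9346
import Mathlib

set_option autoImplicit false
universe u
open Dom

namespace Groth.Agent.S9346


open AlgebraicGeometry CategoryTheory
open AlgebraicGeometry CategoryTheory

/-- a morphism from the spectrum of a domain hitting the generic point sends `⊥` to it. -/
theorem map_bot_eq_genericPoint {X : Scheme.{u}} [AlgebraicGeometry.IsIntegral X] (R : CommRingCat.{u})
    [IsDomain R] (g : Spec R ⟶ X) (hg : genericPoint X ∈ Set.range g) :
    g (⟨⊥, Ideal.isPrime_bot⟩ : PrimeSpectrum R) = genericPoint X := by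
  obtain ⟨p, hp⟩ := hg
  have h1 : (⟨⊥, Ideal.isPrime_bot⟩ : PrimeSpectrum R) ⤳ p := by
    rw [← PrimeSpectrum.le_iff_specializes]
    exact bot_le
  have h2 : g (⟨⊥, Ideal.isPrime_bot⟩ : PrimeSpectrum R) ⤳ g p := h1.map g.continuous
  rw [hp] at h2
  exact (h2.antisymm (genericPoint_specializes _)).eq

theorem injective_of_isField {A B : Type u} [CommRing A] [CommRing B] [Nontrivial B]
    (hA : IsField A) (φ : A →+* B) : Function.Injective φ := by
  rw [injective_iff_map_eq_zero]
  intro a ha
  by_contra hne
  obtain ⟨b, hb⟩ := hA.mul_inv_cancel hne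
  have h1 : φ 1 = 0 := by rw [← hb, map_mul, ha, zero_mul]
  rw [map_one] at h1
  exact one_ne_zero h1

theorem isField_stalk_of_eq {Y : Scheme.{u}} [AlgebraicGeometry.IsIntegral Y] (y : Y)
    (hy : y = genericPoint Y) : IsField (Y.presheaf.stalk y) := by
  subst hy
  exact Field.toIsField Y.functionField

theorem stalkMap_genericPoint_injective {X Y : Scheme.{u}} [AlgebraicGeometry.IsIntegral X]
    [AlgebraicGeometry.IsIntegral Y] (f : X ⟶ Y) (h2 : f.base (genericPoint X) = genericPoint Y) :
    Function.Injective (f.stalkMap (genericPoint X)) :=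
  injective_of_isField (isField_stalk_of_eq _ h2) (f.stalkMap (genericPoint X)).hom

theorem inj_of_comp {A B C : CommRingCat.{u}} (a : A ⟶ B) (b : B ⟶ C)
    (h : Function.Injective (a ≫ b)) : Function.Injective a := by
  intro x y hxy
  apply h
  rw [CommRingCat.comp_apply, CommRingCat.comp_apply, hxy]

theorem inj_comp {A B C : CommRingCat.{u}} (a : A ⟶ B) (b : B ⟶ C)
    (ha : Function.Injective a) (hb : Function.Injective b) : Function.Injective (a ≫ b) := by
  intro x y hxy
  rw [CommRingCat.comp_apply, CommRingCat.comp_apply] at hxy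
  exact ha (hb hxy)

open AlgebraicGeometry CategoryTheory in
/-- For a morphism f : X → Y between integral schemes, these six conditions coincide: (1) f is dominant;
(2) f sends the generic point of X to that of Y; (3) there exist affine opens U ⊆ X, V ⊆ Y with U
nonempty and U ⊆ f⁻¹V such that the induced ring map on sections is injective; (4) the same for all
such pairs; (5) for some x ∈ X the map of local rings O_{Y,f x} → O_{X,x} is injective; (6) the same
for all x. -/
theorem result {X Y : Scheme.{u}} [AlgebraicGeometry.IsIntegral X] [AlgebraicGeometry.IsIntegral Y] (f : X ⟶ Y) :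
    [IsDominant f,
      f.base (genericPoint ↑X) = genericPoint ↑Y,
      ∃ (U : X.Opens) (V : Y.Opens) (hUV : U ≤ f ⁻¹ᵁ V), IsAffineOpen U ∧ IsAffineOpen V ∧ (U : Set ↑X).Nonempty ∧
        Function.Injective (f.appLE V U hUV),
      ∀ (U : X.Opens) (V : Y.Opens) (hUV : U ≤ f ⁻¹ᵁ V), IsAffineOpen U → IsAffineOpen V → (U : Set ↑X).Nonempty →
        Function.Injective (f.appLE V U hUV),
      ∃ x : ↑X, Function.Injective (f.stalkMap x),
      ∀ x : ↑X, Function.Injective (f.stalkMap x)].TFAE := by

  have hηX : ∀ (U : X.Opens), (U : Set X).Nonempty → genericPoint X ∈ U := by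
    intro U hU
    show genericPoint X ∈ (U : Set X)
    rw [(genericPoint_spec X).mem_open_set_iff U.isOpen]
    simpa using hU
  have hηY : ∀ (V : Y.Opens), (V : Set Y).Nonempty → genericPoint Y ∈ V := by
    intro V hV
    show genericPoint Y ∈ (V : Set Y)
    rw [(genericPoint_spec Y).mem_open_set_iff V.isOpen]
    simpa using hV
  tfae_have 1 → 2 := by
    intro hdom
    have h1 : IsGenericPoint (f.base (genericPoint X)) (closure (f.base '' Set.univ)) :=
      (genericPoint_spec X).image f.continuous
    have h3 : closure (f.base '' Set.univ) = Set.univ := by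
      rw [Set.image_univ]
      exact hdom.denseRange.closure_eq
    rw [h3] at h1
    exact h1.eq (genericPoint_spec Y)
  tfae_have 2 → 1 := by
    intro h2
    refine ⟨?_⟩
    intro y
    have h1 : closure {genericPoint Y} ⊆ closure (Set.range f.base) := by
      apply closure_mono
      rw [Set.singleton_subset_iff]
      exact ⟨genericPoint X, h2⟩
    apply h1
    have h3 : closure {genericPoint Y} = Set.univ := genericPoint_spec Y
    rw [h3]
    trivial
  tfae_have 2 → 6 := by
    intro h2 x
    have hsp : genericPoint X ⤳ x := genericPoint_specializes x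
    have h1 := Scheme.Hom.stalkSpecializes_stalkMap f (genericPoint X) x hsp
    have h3 : Function.Injective
        (Y.presheaf.stalkSpecializes (f.base.hom.map_specializes hsp) ≫
          f.stalkMap (genericPoint X)) := by
      refine inj_comp _ _ ?_ (stalkMap_genericPoint_injective f h2)
      have h4 : Function.Injective (Y.presheaf.stalkSpecializes
          (f.base.hom.map_specializes hsp) ≫ Y.presheaf.stalkSpecializes
            (genericPoint_specializes (f.base (genericPoint X)))) := by
        rw [TopCat.Presheaf.stalkSpecializes_comp]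
        exact IsFractionRing.injective (Y.presheaf.stalk (f.base x)) Y.functionField
      exact inj_of_comp _ _ h4
    rw [h1] at h3
    exact inj_of_comp _ _ h3
  tfae_have 6 → 5 := by
    intro h6
    exact ⟨genericPoint X, h6 _⟩
  tfae_have 5 → 2 := by
    rintro ⟨x, hx⟩
    have hX1 : X.fromSpecStalk x (⟨⊥, Ideal.isPrime_bot⟩ : PrimeSpectrum (X.presheaf.stalk x)) =
        genericPoint X := by
      apply map_bot_eq_genericPoint
      rw [Scheme.range_fromSpecStalk]
      exact genericPoint_specializes x
    have hY1 : Y.fromSpecStalk (f.base x)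
        (⟨⊥, Ideal.isPrime_bot⟩ : PrimeSpectrum (Y.presheaf.stalk (f.base x))) =
        genericPoint Y := by
      apply map_bot_eq_genericPoint
      rw [Scheme.range_fromSpecStalk]
      exact genericPoint_specializes _
    have h1 := Scheme.SpecMap_stalkMap_fromSpecStalk f (x := x)
    have h3 : (Spec.map (f.stalkMap x))
        (⟨⊥, Ideal.isPrime_bot⟩ : PrimeSpectrum (X.presheaf.stalk x)) =
        (⟨⊥, Ideal.isPrime_bot⟩ : PrimeSpectrum (Y.presheaf.stalk (f.base x))) := by
      change PrimeSpectrum.comap (f.stalkMap x).hom _ = _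
      ext1
      change Ideal.comap (f.stalkMap x).hom ⊥ = ⊥
      rw [← RingHom.ker_eq_comap_bot]
      exact (RingHom.injective_iff_ker_eq_bot _).mp hx
    rw [← hX1, ← Scheme.Hom.comp_apply, ← h1, Scheme.Hom.comp_apply, h3, hY1]
  tfae_have 2 → 4 := by
    intro h2 U V hUV hU hV hne
    have hη : genericPoint X ∈ U := hηX U hne
    have hfη : f.base (genericPoint X) ∈ V := hUV hη
    have h1 : f.appLE V U hUV ≫ X.presheaf.germ U (genericPoint X) hη =
        Y.presheaf.germ V (f.base (genericPoint X)) hfη ≫ f.stalkMap (genericPoint X) := by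
      rw [Scheme.Hom.germ_stalkMap, Scheme.Hom.appLE, Category.assoc, X.presheaf.germ_res]
    have h3 : Function.Injective (f.appLE V U hUV ≫ X.presheaf.germ U (genericPoint X) hη) := by
      rw [h1]
      exact inj_comp _ _ (germ_injective_of_isIntegral _ _ hfη) (stalkMap_genericPoint_injective f h2)
    exact inj_of_comp _ _ h3
  tfae_have 4 → 3 := by
    intro h4
    obtain ⟨_, ⟨V, hV, rfl⟩, hxV, -⟩ := Y.isBasis_affineOpens.exists_subset_of_mem_open
      (Set.mem_univ (f.base (genericPoint X))) isOpen_univ
    obtain ⟨_, ⟨U, hU, rfl⟩, hxU, hUV⟩ := X.isBasis_affineOpens.exists_subset_of_mem_open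
      (show genericPoint X ∈ ((f ⁻¹ᵁ V : X.Opens) : Set X) from hxV) (f ⁻¹ᵁ V).isOpen
    exact ⟨U, V, hUV, hU, hV, ⟨_, hxU⟩, h4 U V hUV hU hV ⟨_, hxU⟩⟩
  tfae_have 3 → 2 := by
    rintro ⟨U, V, hUV, hU, hV, hne, hinj⟩
    have hη : genericPoint X ∈ U := hηX U hne
    have hfη : f.base (genericPoint X) ∈ V := hUV hη
    haveI : Nonempty U := ⟨⟨_, hη⟩⟩
    haveI : Nonempty V := ⟨⟨_, hfη⟩⟩
    have hX1 : hU.fromSpec (⟨⊥, Ideal.isPrime_bot⟩ : PrimeSpectrum Γ(X, U)) = genericPoint X := by
      apply map_bot_eq_genericPoint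
      rw [hU.range_fromSpec]
      exact hη
    have hY1 : hV.fromSpec (⟨⊥, Ideal.isPrime_bot⟩ : PrimeSpectrum Γ(Y, V)) = genericPoint Y := by
      apply map_bot_eq_genericPoint
      rw [hV.range_fromSpec]
      exact hηY V ⟨_, hfη⟩
    have h1 := IsAffineOpen.SpecMap_appLE_fromSpec f hV hU hUV
    have h3 : (Spec.map (f.appLE V U hUV))
        (⟨⊥, Ideal.isPrime_bot⟩ : PrimeSpectrum Γ(X, U)) =
        (⟨⊥, Ideal.isPrime_bot⟩ : PrimeSpectrum Γ(Y, V)) := by
      change PrimeSpectrum.comap (f.appLE V U hUV).hom _ = _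
      ext1
      change Ideal.comap (f.appLE V U hUV).hom ⊥ = ⊥
      rw [← RingHom.ker_eq_comap_bot]
      exact (RingHom.injective_iff_ker_eq_bot _).mp hinj
    rw [← hX1, ← Scheme.Hom.comp_apply, ← h1, Scheme.Hom.comp_apply, h3, hY1]
  tfae_finish

end Groth.Agent.S9346
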