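import Groth.Statements.S9347
import Groth.Agent.Lib.Helper6.QCSpecializes
import Mathlib.AlgebraicGeometry.Properties
-- import your own Groth.Agent.* helpers here

set_option autoImplicit false
universe u
open Dom

namespace Groth.Agent.S9347

open AlgebraicGeometry CategoryTheory in
/-- Let f : X → S be quasi-compact and let η ∈ S be a point whose closure is an irreducible component of
S (a maximal point of S). If η is not in the image of f, then η has an open neighbourhood V with
f⁻¹(V) empty. -/
theorem result {X S : Scheme.{u}} (f : X ⟶ S) [QuasiCompact f]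
    (η : ↑S) (hη : closure {η} ∈ irreducibleComponents (↑S : Type u)) (hnot : η ∉ Set.range f.base) :
    ∃ V : S.Opens, η ∈ V ∧ f ⁻¹ᵁ V = ⊥ := by
  have h1 : η ∉ closure (Set.range f) := by
    intro h
    obtain ⟨x, hx⟩ := Groth.Agent.Lib.Helper6.exists_specializes f η h
    have hle : closure {η} ≤ closure {f x} := by
      rw [← specializes_iff_closure_subset]
      exact hx
    have hirr : IsIrreducible (closure {f x}) := isIrreducible_singleton.closure
    have heq : closure {f x} ≤ closure {η} := hη.2 hirr hle
    have hsp : η ⤳ f x := by
      rw [specializes_iff_closure_subset]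
      exact heq
    exact hnot ⟨x, (hx.antisymm hsp).eq⟩
  refine ⟨⟨(closure (Set.range f))ᶜ, isClosed_closure.isOpen_compl⟩, h1, ?_⟩
  ext x
  simp only [TopologicalSpace.Opens.coe_bot, Set.mem_empty_iff_false, iff_false]
  intro hx
  exact hx (subset_closure ⟨x, rfl⟩)

end Groth.Agent.S9347
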