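import Groth.Statements.S9348
import Groth.Agent.Lib.Helper6.QCSpecializes
import Mathlib.AlgebraicGeometry.Properties
-- import your own Groth.Agent.* helpers here

set_option autoImplicit false
universe u
open Dom

namespace Groth.Agent.S9348

open AlgebraicGeometry CategoryTheory in
/-- Let f : X → Y be a morphism and g : Y' → Y open and surjective. If the base change f' : X ×_Y Y' →
Y' of f is quasi-compact, then so is f. -/
theorem result {X Y X' Y' : Scheme.{u}} (f : X ⟶ Y) (g : Y' ⟶ Y) [Surjective g]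
    (hg : IsOpenMap g.base) (g' : X' ⟶ X) (f' : X' ⟶ Y') (hsq : IsPullback g' f' f g) [QuasiCompact f'] :
    QuasiCompact f := by
  constructor
  intro U hU hUc
  -- for each `y ∈ U` a compact open upstairs whose image is a neighbourhood of `y` inside `U`
  have key : ∀ y ∈ U, ∃ V' : Set Y', IsOpen V' ∧ IsCompact V' ∧ y ∈ g '' V' ∧ g '' V' ⊆ U := by
    intro y hy
    obtain ⟨y', rfl⟩ := g.surjective y
    obtain ⟨V', ⟨hV'o, hV'c⟩, hy'V', hV'U⟩ :=
      (PrespectralSpace.isTopologicalBasis (X := Y')).exists_subset_of_mem_open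
        (show y' ∈ g ⁻¹' U from hy) (hU.preimage g.continuous)
    exact ⟨V', hV'o, hV'c, ⟨y', hy'V', rfl⟩, Set.image_subset_iff.mpr hV'U⟩
  choose! V' hV'o hV'c hyV' hV'U using key
  obtain ⟨t, htU, htfin, ht⟩ := hUc.elim_finite_subcover_image (b := U)
    (c := fun y => g '' V' y) (fun y hy => hg _ (hV'o y hy)) (fun y hy => Set.mem_biUnion hy (hyV' y hy))
  have himg : ∀ W : Set Y', f ⁻¹' (g '' W) = g' '' (f' ⁻¹' W) := by
    intro W
    ext x
    constructor
    · rintro ⟨w, hw, hgw⟩
      obtain ⟨x', hx'1, hx'2⟩ := Groth.Agent.Lib.Helper6.exists_of_isPullback hsq x w hgw.symm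
      exact ⟨x', by rw [Set.mem_preimage, hx'2]; exact hw, hx'1⟩
    · rintro ⟨x', hx', rfl⟩
      refine ⟨f' x', hx', ?_⟩
      have := congrArg (fun h : X' ⟶ Y => h.base x') hsq.w
      exact this.symm
  have hUeq : f ⁻¹' U = ⋃ y ∈ t, g' '' (f' ⁻¹' V' y) := by
    apply Set.Subset.antisymm
    · intro x hx
      obtain ⟨y, hy, hxy⟩ := Set.mem_iUnion₂.mp (ht hx)
      refine Set.mem_iUnion₂.mpr ⟨y, hy, ?_⟩
      rw [← himg]
      exact hxy
    · refine Set.iUnion₂_subset fun y hy => ?_
      rw [← himg]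
      exact Set.preimage_mono (hV'U y (htU hy))
  rw [hUeq]
  exact htfin.isCompact_biUnion fun y hy =>
    (QuasiCompact.isCompact_preimage (f := f') _ (hV'o y (htU hy)) (hV'c y (htU hy))).image
      g'.continuous

end Groth.Agent.S9348
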