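import Groth.Statements.S9349
import Mathlib
import Groth.Agent.Lib.Helper8.FlatAffine
import Groth.Agent.Lib.Helper29.QCohPush

set_option autoImplicit false
universe u
open FlatMod

open CategoryTheory CategoryTheory.Limits AlgebraicGeometry Opposite TopologicalSpace

namespace S9349aux
open Groth.Agent.Lib.Helper8.FlatAffine Groth.Agent.Lib.Helper29.QCoh

lemma flat_of_smul_eq {R M : Type*} [CommRing R] [AddCommGroup M] (i1 i2 : Module R M)
    (h : ∀ (r : R) (m : M), (haveI := i1; r • m) = (haveI := i2; r • m))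
    (hf : @Module.Flat R M _ _ i1) : @Module.Flat R M _ _ i2 := by
  have : i1 = i2 := Module.ext' i1 i2 h
  rw [← this]; exact hf

lemma exists_affine_pair {X S : Scheme.{u}} (f : X ⟶ S) (x : X) :
    ∃ (U : X.Opens) (V : S.Opens) (_ : U ≤ f ⁻¹ᵁ V), IsAffineOpen U ∧ IsAffineOpen V ∧ x ∈ U := by
  obtain ⟨_, ⟨V, hV : IsAffineOpen V, rfl⟩, hfx, -⟩ :=
    S.isBasis_affineOpens.exists_subset_of_mem_open (Set.mem_univ (f x)) isOpen_univ
  obtain ⟨_, ⟨U, hU : IsAffineOpen U, rfl⟩, hxU, hUV⟩ :=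
    X.isBasis_affineOpens.exists_subset_of_mem_open (show x ∈ ((f ⁻¹ᵁ V : X.Opens) : Set X) from hfx)
      (f ⁻¹ᵁ V).isOpen
  exact ⟨U, V, hUV, hU, hV, hxU⟩

variable {X Y S : Scheme.{u}} (f : X ⟶ Y) (q : Y ⟶ S) (F : X.Modules)

/-- the two module structures on `F(f⁻¹W)` over `Γ(S,V)` agree -/
lemma smul_eq {W : Y.Opens} {V : S.Opens} (hWV : W ≤ q ⁻¹ᵁ V)
    (hUV : f ⁻¹ᵁ W ≤ (f ≫ q) ⁻¹ᵁ V) (r : Γ(S, V)) (m : Γ(F, f ⁻¹ᵁ W)) :
    ((f ≫ q).appLE V (f ⁻¹ᵁ W) hUV).hom r • m =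
      (show Γ(F, f ⁻¹ᵁ W) from
        ((q.appLE V W hWV).hom r • (show Γ((Scheme.Modules.pushforward f).obj F, W) from m))) := by
  rw [pushforward_smul]
  have : (f ≫ q).appLE V (f ⁻¹ᵁ W) hUV = q.appLE V W hWV ≫ f.app W := by
    rw [Scheme.Hom.app_eq_appLE, Scheme.Hom.appLE_comp_appLE]
  rw [this]
  rfl

theorem main [IsAffineHom f] (hF : Coh.IsQCoh F) :
    FlatMod.IsFlatOver (f ≫ q) F ↔ FlatMod.IsFlatOver q ((Coh.push f).obj F) := by
  have hFq : F.IsQuasicoherent := hF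
  have hpq : ((Scheme.Modules.pushforward f).obj F).IsQuasicoherent :=
    isQuasicoherent_pushforward_of_isAffineHom f F
  constructor
  · intro h y
    obtain ⟨W, V, hWV, hW, hV, hy⟩ := exists_affine_pair q y
    have hUV : f ⁻¹ᵁ W ≤ (f ≫ q) ⁻¹ᵁ V := fun z hz => hWV hz
    have h1 := flat_sections_of_isFlatOverAt (f ≫ q) F (hW.preimage f) hV hUV (fun x _ => h x)
    refine isFlatOverAt_of_flat_sections q ((Scheme.Modules.pushforward f).obj F) hW hV hWV y hy ?_
    exact flat_of_smul_eq _ _ (fun r m => smul_eq f q F hWV hUV r m) h1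
  · intro h x
    obtain ⟨W, V, hWV, hW, hV, hy⟩ := exists_affine_pair q (f x)
    have hUV : f ⁻¹ᵁ W ≤ (f ≫ q) ⁻¹ᵁ V := fun z hz => hWV hz
    have h1 := flat_sections_of_isFlatOverAt q ((Scheme.Modules.pushforward f).obj F) hW hV hWV
      (fun y _ => h y)
    refine isFlatOverAt_of_flat_sections (f ≫ q) F (hW.preimage f) hV hUV x hy ?_
    exact flat_of_smul_eq _ _ (fun r m => (smul_eq f q F hWV hUV r m).symm) h1

end S9349aux

namespace Groth.Agent.S9349

open AlgebraicGeometry CategoryTheory in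
/-- Let f : X → Y be an affine morphism of S-schemes, with q : Y → S, and F a quasi-coherent O_X-module.
Flatness of F over S (along f ≫ q) is equivalent to flatness of f_*F over S (along q). -/
theorem result {X Y S : Scheme.{u}} (f : X ⟶ Y) [IsAffineHom f] (q : Y ⟶ S)
    (F : X.Modules) (hF : Coh.IsQCoh F) :
    FlatMod.IsFlatOver (f ≫ q) F ↔ FlatMod.IsFlatOver q ((Coh.push f).obj F) := by
  exact S9349aux.main f q F hF

end Groth.Agent.S9349
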