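import Groth.Statements.S9353
import Mathlib
import Groth.Agent.Lib.Helper8.FlatAffine

set_option autoImplicit false
universe u
open FlatMod

open CategoryTheory CategoryTheory.Limits AlgebraicGeometry Opposite TopologicalSpace

namespace S9353aux
open Groth.Agent.Lib.Helper8.FlatAffine

lemma exists_affine_pair {X S : Scheme.{u}} (f : X ⟶ S) (x : X) :
    ∃ (U : X.Opens) (V : S.Opens) (_ : U ≤ f ⁻¹ᵁ V), IsAffineOpen U ∧ IsAffineOpen V ∧ x ∈ U := by
  obtain ⟨_, ⟨V, hV : IsAffineOpen V, rfl⟩, hfx, -⟩ :=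
    S.isBasis_affineOpens.exists_subset_of_mem_open (Set.mem_univ (f x)) isOpen_univ
  obtain ⟨_, ⟨U, hU : IsAffineOpen U, rfl⟩, hxU, hUV⟩ :=
    X.isBasis_affineOpens.exists_subset_of_mem_open (show x ∈ ((f ⁻¹ᵁ V : X.Opens) : Set X) from hfx)
      (f ⁻¹ᵁ V).isOpen
  exact ⟨U, V, hUV, hU, hV, hxU⟩

theorem main {X S : Scheme.{u}} (f : X ⟶ S) (F : X.Modules) (hF : Coh.IsQCoh F) :
    FlatMod.IsFlatOver f F ↔
      ∀ (U : X.Opens) (V : S.Opens) (hUV : U ≤ f ⁻¹ᵁ V), IsAffineOpen U → IsAffineOpen V →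
        @Module.Flat Γ(S, V) (F.val.obj (op U)) _ _ (Module.compHom (F.val.obj (op U)) (f.appLE V U hUV).hom) := by
  have : F.IsQuasicoherent := hF
  constructor
  · intro h U V hUV hU hV
    exact flat_sections_of_isFlatOverAt f F hU hV hUV (fun x _ => h x)
  · intro h x
    obtain ⟨U, V, hUV, hU, hV, hx⟩ := exists_affine_pair f x
    exact isFlatOverAt_of_flat_sections f F hU hV hUV x hx (h U V hUV hU hV)

end S9353aux

namespace Groth.Agent.S9353

open AlgebraicGeometry CategoryTheory Opposite in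
/-- Let f : X → S be a morphism of schemes and let F be an O_X-module that is quasi-coherent. Flatness
of F over S is equivalent to the following: for all affine opens U ⊆ X and V ⊆ S with U ⊆ f⁻¹V the
module F(U) is flat over O_S(V). -/
theorem result {X S : Scheme.{u}} (f : X ⟶ S) (F : X.Modules) (hF : Coh.IsQCoh F) :
    FlatMod.IsFlatOver f F ↔
      ∀ (U : X.Opens) (V : S.Opens) (hUV : U ≤ f ⁻¹ᵁ V), IsAffineOpen U → IsAffineOpen V →
        @Module.Flat Γ(S, V) (F.val.obj (op U)) _ _ (Module.compHom (F.val.obj (op U)) (f.appLE V U hUV).hom) := by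
  exact S9353aux.main f F hF

end Groth.Agent.S9353
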