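import Groth.Statements.S9356
import Groth.Agent.Lib.Helper21.DimLoc3
-- import your own Groth.Agent.* helpers here

set_option autoImplicit false
universe u
open FibDim

namespace Groth.Agent.S9356

open AlgebraicGeometry CategoryTheory in
/-- Let f : X → S be locally of finite type and x ⤳ x' a nontrivial specialization of points of the
fibre X_s. Then dim_x(X_s) ≤ dim_{x'}(X_s) and dim O_{X_s,x} < dim O_{X_s,x'}. (The assertion on
transcendence degrees of residue fields is a separate statement.) -/
theorem result {X S : Scheme.{u}} (f : X ⟶ S) [LocallyOfFiniteType f] (s : S)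
    (x x' : ↑(f.fiber s)) (hsp : x ⤳ x') (hne : x ≠ x') :
    FlatMor.localDim ↑(f.fiber s) x ≤ FlatMor.localDim ↑(f.fiber s) x' ∧
      ringKrullDim ((f.fiber s).presheaf.stalk x) < ringKrullDim ((f.fiber s).presheaf.stalk x') := by
  refine ⟨Groth.Agent.Lib.Helper21.DimLoc.localDim_le_of_specializes hsp, ?_⟩
  let _ := Groth.Agent.Lib.Helper21.FibDim.fiberOver f s
  have hlft : LocallyOfFiniteType
      (f.fiber s ↘ Spec (CommRingCat.of (S.residueField s))) :=
    MorphismProperty.pullback_snd (P := @LocallyOfFiniteType) _ _ inferInstance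
  have : IsLocallyNoetherian (f.fiber s) :=
    LocallyOfFiniteType.isLocallyNoetherian
      (f.fiber s ↘ Spec (CommRingCat.of (S.residueField s)))
  exact Groth.Agent.Lib.Helper21.DimLoc.ringKrullDim_stalk_lt_of_specializes hsp hne

end Groth.Agent.S9356
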