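import Groth.Statements.S9360
import Mathlib

set_option autoImplicit false
universe u
open SchDense

namespace Groth.Agent.S9360


open AlgebraicGeometry CategoryTheory
open AlgebraicGeometry CategoryTheory TopologicalSpace

theorem vanishingIdeal_le_ker (X : Scheme.{u}) (U : X.Opens) [IsReduced (↑U : Scheme.{u})]
    (Z : Closeds X) (hUZ : (U : Set X) ⊆ Z) :
    Scheme.IdealSheafData.vanishingIdeal Z ≤ U.ι.ker := by
  rw [Scheme.Hom.ker, Scheme.IdealSheafData.le_ofIdeals_iff]
  intro V s hs
  rw [Scheme.IdealSheafData.vanishingIdeal_ideal, PrimeSpectrum.mem_vanishingIdeal] at hs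
  rw [RingHom.mem_ker]
  have h1 : (↑U : Scheme.{u}).basicOpen ((U.ι.app V.1).hom s) = ⊥ := by
    rw [← Scheme.preimage_basicOpen]
    apply le_bot_iff.mp
    intro x hx
    exfalso
    have hx1 : U.ι x ∈ X.basicOpen s := hx
    have hxV : U.ι x ∈ V.1 := X.basicOpen_le s hx1
    obtain ⟨p, hp⟩ : U.ι x ∈ Set.range V.2.fromSpec := by
      rw [V.2.range_fromSpec]; exact hxV
    have hpZ : V.2.fromSpec p ∈ (Z : Set X) := by
      rw [hp]
      exact hUZ x.2
    have h2 : s ∈ p.asIdeal := hs p hpZ
    have h3 : p ∈ V.2.fromSpec ⁻¹ᵁ X.basicOpen s := by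
      show V.2.fromSpec p ∈ X.basicOpen s
      rw [hp]; exact hx1
    rw [V.2.fromSpec_preimage_basicOpen] at h3
    exact h3 h2
  exact (basicOpen_eq_bot_iff _).mp h1

theorem isReduced_of_nilradical_eq_bot (X : Scheme.{u}) (h : X.nilradical = ⊥) : IsReduced X := by
  have hred : ∀ V : X.affineOpens, _root_.IsReduced Γ(X, V.1) := by
    intro V
    rw [← nilradical_eq_bot_iff]
    have h1 : X.nilradical.ideal V = ⊥ := by rw [h]; rfl
    rw [← h1]
    rfl
  haveI : ∀ x : X, _root_.IsReduced (X.presheaf.stalk x) := by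
    intro x
    obtain ⟨_, ⟨V, hV, rfl⟩, hxV, -⟩ :=
      X.isBasis_affineOpens.exists_subset_of_mem_open (Set.mem_univ x) isOpen_univ
    haveI := hred ⟨V, hV⟩
    letI := X.presheaf.algebra_section_stalk (U := V) ⟨x, hxV⟩
    haveI := hV.isLocalization_stalk ⟨x, hxV⟩
    exact isReduced_localizationPreserves (hV.primeIdealOf ⟨x, hxV⟩).asIdeal.primeCompl
      (X.presheaf.stalk x) inferInstance
  exact isReduced_of_isReduced_stalk X

theorem consequences (X : Scheme.{u}) (U : X.Opens) [IsReduced (↑U : Scheme.{u})]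
    (hdom : IsSchemeTheoreticallyDominant U.ι) : IsReduced X ∧ Dense (U : Set X) := by
  let Z : Closeds X := ⟨closure (U : Set X), isClosed_closure⟩
  have h1 : Scheme.IdealSheafData.vanishingIdeal Z = ⊥ := by
    have h2 := vanishingIdeal_le_ker X U Z subset_closure
    rw [hdom.ker_eq_bot] at h2
    exact le_bot_iff.mp h2
  constructor
  · apply isReduced_of_nilradical_eq_bot
    rw [← Scheme.IdealSheafData.vanishingIdeal_top]
    apply le_bot_iff.mp
    rw [← h1]
    exact Scheme.IdealSheafData.vanishingIdeal_antimono le_top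
  · have h3 : ((Scheme.IdealSheafData.vanishingIdeal Z).support : Set X) = (Z : Set X) :=
      Scheme.IdealSheafData.coe_support_vanishingIdeal Z
    rw [h1, Scheme.IdealSheafData.support_bot] at h3
    rw [dense_iff_closure_eq]
    exact h3.symm

open AlgebraicGeometry CategoryTheory in
/-- Let U ⊆ X be a reduced open subscheme. Then the scheme-theoretic closure of U in X is X if and only
if U is scheme-theoretically dense in X (for every open W the scheme-theoretic closure of U ∩ W in W
is W); and in that case X is reduced. -/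
theorem result (X : Scheme.{u}) (U : X.Opens) [IsReduced (↑U : Scheme.{u})] :
    (IsSchemeTheoreticallyDominant U.ι ↔
        ∀ W : X.Opens, IsSchemeTheoreticallyDominant (X.homOfLE (inf_le_right : U ⊓ W ≤ W))) ∧
      (IsSchemeTheoreticallyDominant U.ι → IsReduced X) := by

  have key := fun h => consequences X U h
  refine ⟨⟨?_, ?_⟩, fun h => (key h).1⟩
  · intro hdom W
    obtain ⟨hred, hdense⟩ := key hdom
    haveI := hred
    haveI : IsDominant (X.homOfLE (inf_le_right : U ⊓ W ≤ W)) := by
      refine ⟨?_⟩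
      rw [DenseRange, W.ι.isOpenEmbedding.isInducing.dense_iff]
      intro x
      have h1 : W.ι '' Set.range (X.homOfLE (inf_le_right : U ⊓ W ≤ W)) =
          ((U ⊓ W : X.Opens) : Set X) := by
        rw [← Set.range_comp]
        have h3 : (W.ι ∘ (X.homOfLE (inf_le_right : U ⊓ W ≤ W))) = (U ⊓ W).ι := by
          funext y
          rw [← X.homOfLE_ι (inf_le_right : U ⊓ W ≤ W)]
          rfl
        rw [h3]
        exact Scheme.Opens.range_ι _
      rw [h1]
      have h2 := hdense.open_subset_closure_inter W.isOpen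
      have h4 : W.ι x ∈ closure ((W : Set X) ∩ U) := h2 x.2
      rw [Set.inter_comm] at h4
      exact h4
    exact IsSchemeTheoreticallyDominant.of_isDominant _
  · intro hall
    have h1 := hall ⊤
    have e1 : U ≤ U ⊓ ⊤ := le_inf le_rfl le_top
    have e2 : U ⊓ ⊤ ≤ U := inf_le_left
    haveI : IsIso (X.homOfLE e1) :=
      ⟨X.homOfLE e2, by rw [X.homOfLE_homOfLE, X.homOfLE_rfl],
        by rw [X.homOfLE_homOfLE, X.homOfLE_rfl]⟩
    have h2 : U.ι = X.homOfLE e1 ≫ X.homOfLE (inf_le_right : U ⊓ ⊤ ≤ ⊤) ≫ (⊤ : X.Opens).ι := by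
      rw [X.homOfLE_ι, X.homOfLE_ι]
    rw [h2]
    haveI := h1
    haveI : IsIso (⊤ : X.Opens).ι := by
      have h5 : (⊤ : X.Opens).ι = X.topIso.hom := rfl
      rw [h5]
      infer_instance
    infer_instance

end Groth.Agent.S9360
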