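import Groth.Statements.S9361
import Mathlib

set_option autoImplicit false
universe u
open SchImage

namespace Groth.Agent.S9361


open AlgebraicGeometry CategoryTheory
open AlgebraicGeometry CategoryTheory

theorem ker_toImage_eq_bot {X Y : Scheme.{u}} (f : X ⟶ Y) [QuasiCompact f] :
    f.toImage.ker = ⊥ := by
  refine Scheme.IdealSheafData.ext_of_iSup_eq_top
    (fun U : Y.affineOpens => (⟨f.imageι ⁻¹ᵁ (U : Y.Opens), U.2.preimage f.imageι⟩ :
      f.image.affineOpens)) ?_ ?_
  · show ⨆ U : Y.affineOpens, f.imageι ⁻¹ᵁ (U : Y.Opens) = ⊤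
    rw [← Scheme.Hom.preimage_iSup, iSup_affineOpens_eq_top, Scheme.Hom.preimage_top]
  · intro U
    rw [Scheme.Hom.ker_apply]
    simp only [Scheme.IdealSheafData.ideal_bot, Pi.bot_apply]
    rw [← RingHom.injective_iff_ker_eq_bot]
    exact f.toImage_app_injective U

theorem isIso_of_isClosedImmersion_of_ker_eq_bot {X Y : Scheme.{u}} (f : X ⟶ Y)
    [IsClosedImmersion f] (h : f.ker = ⊥) : IsIso f := by
  have h1 : IsIso f.imageι := by
    show IsIso f.ker.subschemeι
    rw [Scheme.isIso_subschemeι_iff_eq_bot]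
    exact h
  have h2 : IsIso f.toImage := inferInstance
  rw [← f.toImage_imageι]
  infer_instance

open AlgebraicGeometry CategoryTheory in
/-- Let f : X → Y be separated, V ⊆ Y a retrocompact open and s : V → X a section of f over V. If Y' ⊆ X
is the scheme-theoretic image of s, then Y' → Y is an isomorphism over V. -/
theorem result {X Y : Scheme.{u}} (f : X ⟶ Y) [IsSeparated f] (V : Y.Opens) [QuasiCompact V.ι]
    (s : (↑V : Scheme.{u}) ⟶ X) (hs : s ≫ f = V.ι) :
    IsIso ((s.imageι ≫ f) ∣_ V) := by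

  have hsqc : QuasiCompact s := by
    have : QuasiCompact (s ≫ f) := by rw [hs]; infer_instance
    exact QuasiCompact.of_comp s f
  have hker := ker_toImage_eq_bot s
  have hcompF : s.toImage ≫ s.imageι ≫ f = V.ι := by
    rw [← Category.assoc, s.toImage_imageι, hs]
  set F := s.imageι ≫ f with hF
  set W : s.image.Opens := F ⁻¹ᵁ V with hW
  set V' : V.toScheme.Opens := s.toImage ⁻¹ᵁ W with hV'
  have hV'top : V' = ⊤ := by
    rw [hV', hW, ← Scheme.Hom.comp_preimage, hcompF]
    simp
  have hcomp : (s.toImage ∣_ W) ≫ (F ∣_ V) = V'.ι := by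
    rw [← cancel_mono V.ι, Category.assoc, morphismRestrict_ι, ← Category.assoc,
      morphismRestrict_ι, Category.assoc, hcompF]
  have hV'iso : IsIso V'.ι := by
    have key : ∀ O : V.toScheme.Opens, O = ⊤ → IsIso O.ι := by
      rintro _ rfl
      show IsIso (Scheme.topIso _).hom
      infer_instance
    exact key _ hV'top
  have hsep : IsSeparated (F ∣_ V) := inferInstance
  have hci : IsClosedImmersion (s.toImage ∣_ W) := by
    have : IsClosedImmersion ((s.toImage ∣_ W) ≫ (F ∣_ V)) := by rw [hcomp]; infer_instance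
    exact IsClosedImmersion.of_comp (s.toImage ∣_ W) (F ∣_ V)
  have hk : (s.toImage ∣_ W).ker = ⊥ := by
    ext O : 2
    rw [Scheme.ker_morphismRestrict_ideal, hker]
    rfl
  have hiso := isIso_of_isClosedImmersion_of_ker_eq_bot (s.toImage ∣_ W) hk
  have e : F ∣_ V = inv (s.toImage ∣_ W) ≫ V'.ι := by rw [IsIso.eq_inv_comp, hcomp]
  rw [e]
  infer_instance

end Groth.Agent.S9361
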