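import Groth.Statements.S9364
import Mathlib
import Groth.Agent.Helper19.SyntLocal
-- import your own Groth.Agent.* helpers here

set_option autoImplicit false
universe u
open Synt

namespace Groth.Agent.S9364

open AlgebraicGeometry CategoryTheory in

open AlgebraicGeometry CategoryTheory in
/-- Let f : X → S, x ∈ X and V ⊆ S an affine open neighbourhood of f x. Then f is syntomic at x if and
only if some affine open U ∋ x with f(U) ⊆ V has f|_U : U → V standard syntomic. -/
theorem result {X S : Scheme.{u}} (f : X ⟶ S) (x : X) (V : S.affineOpens)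
    (hV : f.base x ∈ V.1) :
    Synt.IsSyntomicAt f x ↔
      ∃ (U : X.affineOpens) (e : U.1 ≤ f ⁻¹ᵁ V.1), x ∈ U.1 ∧ Synt.IsStandardSyntomic (f.resLE V.1 U.1 e) := by
  constructor
  · intro h
    exact Groth.Agent.Helper19.SyntLocal.exists_standard_of_isSyntomicAt f x V hV h
  · rintro ⟨U, e, hxU, hstd⟩
    exact ⟨U, V, e, hxU, (Groth.Agent.Helper19.SyntLocal.qs_appLE_iff f U.1 V.1 e).mp
      ((Groth.Agent.Helper19.SyntLocal.ws_resLE_iff f U V e).mp
        (Groth.Agent.Helper19.SyntLocal.ws_of_isStandardSyntomic _ hstd))⟩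

end Groth.Agent.S9364
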