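import Groth.Statements.S9365
import Mathlib
import Groth.Agent.Lib.Helper23.SyntLci
-- import your own Groth.Agent.* helpers here

set_option autoImplicit false
universe u
open Synt

namespace Groth.Agent.S9365
open Groth.Agent.Lib.Helper23.FibProp Groth.Agent.Lib.Helper23.FibProp0

open AlgebraicGeometry CategoryTheory in

open AlgebraicGeometry CategoryTheory in
/-- If f : X → S is flat, locally of finite presentation, and every fibre X_s → Spec κ(s) is syntomic
(X_s is a local complete intersection over κ(s)), then f is syntomic. -/
theorem result {X S : Scheme.{u}} (f : X ⟶ S) [Flat f] [LocallyOfFinitePresentation f]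
    (hfib : ∀ s : S, Synt.IsSyntomicMor (f.fiberToSpecResidueField s)) :
    Synt.IsSyntomicMor f := by
  exact isSyntomicMor_of_fibres f hfib

end Groth.Agent.S9365
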