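import Groth.Statements.S9367
import Mathlib
import Groth.Agent.Helper19.SyntLocal
import Groth.Agent.Lib.Helper6.EtaleSq
-- import your own Groth.Agent.* helpers here

set_option autoImplicit false
universe u
open Synt

namespace Groth.Agent.S9367

section helpers
open AlgebraicGeometry CategoryTheory

theorem fibreDimAt_const_of_standard {X S : Scheme.{u}} (f : X ⟶ S) (U : X.Opens) (V : S.Opens)
    (e : U ≤ f ⁻¹ᵁ V) (hstd : Synt.IsStandardSyntomic (f.resLE V U e)) :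
    ∃ d : WithBot ℕ∞, ∀ x' ∈ U, FlatMor.fibreDimAt f x' = d := by
  obtain ⟨R, _, n, c, F, hG, e₁, e₂, hcomm⟩ := hstd
  refine ⟨((n - c : ℕ) : WithBot ℕ∞), fun x' hx' => ?_⟩
  have comm : Spec.map (CommRingCat.ofHom (algebraMap R (Synt.RelGCIRing R n c F))) ≫
      (e₂.inv ≫ V.ι) = (e₁.inv ≫ U.ι) ≫ f := by
    have h1 : Spec.map (CommRingCat.ofHom (algebraMap R (Synt.RelGCIRing R n c F))) ≫ e₂.inv =
        e₁.inv ≫ f.resLE V U e := by
      rw [Iso.comp_inv_eq, Category.assoc, ← hcomm, Iso.inv_hom_id_assoc]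
    rw [Category.assoc, ← Scheme.Hom.resLE_comp_ι f e, ← Category.assoc, ← Category.assoc, h1]
  have key := Groth.Agent.Lib.Helper6.EtaleSq.fibreDimAt_etale_square f
    (Spec.map (CommRingCat.ofHom (algebraMap R (Synt.RelGCIRing R n c F))))
    (e₁.inv ≫ U.ι) (e₂.inv ≫ V.ι) comm (e₁.hom ⟨x', hx'⟩)
  have hpt : (e₁.inv ≫ U.ι) (e₁.hom ⟨x', hx'⟩) = x' := by
    rw [← Scheme.Hom.comp_apply, Iso.hom_inv_id_assoc]
    rfl
  rw [hpt] at key
  rw [key]
  exact Groth.Agent.Helper19.RelGCI.fibreDimAt_eq_of_isRelGCI R F hG _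

end helpers

open AlgebraicGeometry CategoryTheory in

open AlgebraicGeometry CategoryTheory in
/-- If f : X → S is syntomic, then x ↦ dim_x(X_{f x}) is locally constant on X. -/
theorem result {X S : Scheme.{u}} (f : X ⟶ S) (hf : Synt.IsSyntomicMor f) :
    IsLocallyConstant (fun x : ↑X => FlatMor.fibreDimAt f x) := by
  rw [IsLocallyConstant.iff_exists_open]
  intro x
  obtain ⟨V, hV, hxV, -⟩ := TopologicalSpace.Opens.isBasis_iff_nbhd.mp S.isBasis_affineOpens
    (TopologicalSpace.Opens.mem_top (f x))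
  obtain ⟨U, e, hxU, hstd⟩ := Groth.Agent.Helper19.SyntLocal.exists_standard_of_isSyntomicAt f x
    ⟨V, hV⟩ hxV (hf x)
  obtain ⟨d, hd⟩ := fibreDimAt_const_of_standard f U.1 V e hstd
  exact ⟨U.1, U.1.2, hxU, fun x' hx' => by rw [hd x' hx', hd x hxU]⟩

end Groth.Agent.S9367
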