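import Groth.Statements.S9369
import Groth.Agent.Lib.Helper2.PrinPart.LocalHom
import Groth.Agent.Lib.Helper2.TildeHomAffine

set_option autoImplicit false
universe u
open OmegaSh

namespace Groth.Agent.S9369

open AlgebraicGeometry CategoryTheory in
/-- For a morphism of affine schemes f : X → S and an O_X-module F, restricting an S-derivation O_X → F
to global sections is a bijection onto the derivations of Γ(X, O_X) into Γ(X, F) over Γ(S, O_S)
(additive, Leibniz, killing the image of Γ(S, O_S)). -/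
theorem result {X S : Scheme.{u}} [IsAffine X] [IsAffine S] (f : X ⟶ S) (F : X.Modules) :
    Function.Injective (fun D : OmegaSh.Der f F => D.app ⊤) ∧
      ∀ δ : Γ(X, ⊤) →+ Γ(F, ⊤),
        ((∀ a b : Γ(X, ⊤), δ (a * b) = a • δ b + b • δ a) ∧ ∀ c : Γ(S, ⊤), δ (f.appTop c) = 0) ↔
          ∃ D : OmegaSh.Der f F, D.app ⊤ = δ := by
  refine ⟨fun D D' h => ?_, fun δ => ⟨fun hδ => ?_, ?_⟩⟩
  · apply Groth.Agent.Lib.Helper2.PrinPartB.der_ext_of_top
    intro a
    exact congrArg (fun φ => φ a) h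
  · obtain ⟨hmul, hzero⟩ := hδ
    have hXV : (⊤ : X.Opens) ≤ f ⁻¹ᵁ (⊤ : S.Opens) := fun _ _ => trivial
    obtain ⟨l, hl⟩ := Groth.Agent.Lib.Helper2.PrinPartB.exists_linearMap_of_ringDer f
      (isAffineOpen_top X) (isAffineOpen_top S) hXV F δ hmul (fun a => by
        have h0 : f.appLE ⊤ ⊤ hXV = f.appTop := Scheme.Hom.appLE_eq_app f
        rw [h0]
        exact hzero a)
    haveI : (Coh.structureModule X).IsQuasicoherent :=
      Groth.Agent.Lib.Helper29.QCoh.isQuasicoherent_unitM X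
    haveI : (PrinPart.P f 1).IsQuasicoherent :=
      Groth.Agent.Lib.Helper2.PrinPartB.isQuasicoherent_PMod f 1 _
    obtain ⟨u, hu⟩ := Groth.Agent.Lib.Helper2.TildeHom.exists_hom_of_top_affine
      (PrinPart.P f 1) F l.toAddMonoidHom (fun c m => l.map_smul c m)
    have hδ1 : δ 1 = 0 := by
      have h := hmul 1 1
      rw [mul_one, one_smul] at h
      exact left_eq_add.mp h
    have h1 : u.app ⊤ (PrinPart.dn f 1 ⊤ 1) = 0 := by
      rw [hu]
      exact (hl 1).trans hδ1
    refine ⟨Groth.Agent.Lib.Helper2.PrinPartB.derOfHom f F u h1, ?_⟩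
    ext b
    rw [Groth.Agent.Lib.Helper2.PrinPartB.derOfHom_app, hu]
    exact hl b
  · rintro ⟨D, rfl⟩
    refine ⟨fun a b => Groth.Agent.Lib.Helper2.PrinPartB.der_mul f F D a b, fun c => ?_⟩
    exact D.d_app (X := Opposite.op ⊤) c

end Groth.Agent.S9369
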