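import Groth.Statements.S9373
-- import your own Groth.Agent.* helpers here
import Groth.Agent.Lib.Helper29.QCohBasic

set_option autoImplicit false
universe u
open QCohSub

namespace Groth.Agent.S9373

open AlgebraicGeometry CategoryTheory in
/-- The support of a quasi-coherent O_X-module is closed under specialization. -/
theorem result (X : Scheme.{u}) (F : X.Modules) (hF : Coh.IsQCoh F) :
    StableUnderSpecialization (CohB1.support F) := by
  open AlgebraicGeometry CategoryTheory Groth.Agent.Lib.Helper29.QCoh in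
  intro x y hxy hx
  have : F.IsQuasicoherent := hF
  simp only [CohB1.support, Set.mem_ofPred_eq] at hx ⊢
  intro hy
  apply hx
  obtain ⟨U, hU, hyU, -⟩ := exists_isAffineOpen_mem_and_subset (x := y) (U := ⊤) trivial
  have hxU : x ∈ U := hxy.mem_open U.2 hyU
  have key : ∀ m : Γ(F, U), F.presheaf.germ U x hxU m = 0 := by
    intro m
    have h0 : F.presheaf.germ U y hyU m = 0 := Subsingleton.elim _ _
    obtain ⟨r, hr, hrm⟩ := exists_smul_eq_zero_of_germ_eq_zero F hU y hyU m h0
    have hxr : x ∈ X.basicOpen r := hxy.mem_open (X.basicOpen r).2 hr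
    have hu : IsUnit (X.presheaf.germ U x hxU r) := (Scheme.mem_basicOpen _ _ _ hxU).mp hxr
    have := congrArg (F.presheaf.germ U x hxU) hrm
    rw [germ_smul, map_zero] at this
    obtain ⟨u, hu⟩ := hu
    rw [← hu] at this
    have h2 := congrArg (fun z => (↑u⁻¹ : X.presheaf.stalk x) • z) this
    simpa only [smul_smul, Units.inv_mul, one_smul, smul_zero] using h2
  refine ⟨fun a b => ?_⟩
  suffices h : ∀ t : F.presheaf.stalk x, t = 0 by rw [h a, h b]
  intro t
  obtain ⟨r, m, hr, h⟩ := exists_smul_germ_eq F hU x hxU t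
  rw [key m] at h
  have hu : IsUnit (X.presheaf.germ U x hxU r) := (Scheme.mem_basicOpen _ _ _ hxU).mp hr
  obtain ⟨u, hu⟩ := hu
  rw [← hu] at h
  have h2 := congrArg (fun z => (↑u⁻¹ : X.presheaf.stalk x) • z) h
  simpa only [smul_smul, Units.inv_mul, one_smul, smul_zero] using h2

end Groth.Agent.S9373
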