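import Groth.Statements.S9378
import Mathlib
import Groth.Agent.S2314
import Groth.Agent.Lib.Helper29.QCohPullback
import Groth.Agent.Lib.Helper1.IdealSheafComap
import Groth.Agent.Helper19.AnnBC1
-- import your own Groth.Agent.* helpers here

set_option autoImplicit false
universe u
open QCohSub

namespace Groth.Agent.S9378

open AlgebraicGeometry CategoryTheory Opposite in
/-- Let f : Y → X be flat and F a quasi-coherent O_X-module of finite type, where the ideal sheaf J
(given by annihilators on affine opens) defines the scheme-theoretic support of F. Then the inverse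
image ideal sheaf of J along f cuts out the scheme-theoretic support of f^*F. -/
theorem result {Y X : Scheme.{u}} (f : Y ⟶ X) [Flat f] (F : X.Modules)
    (hq : Coh.IsQCoh F) (hft : CohB1.IsFT F) (J : X.IdealSheafData)
    (hJ : ∀ U : X.affineOpens, J.ideal U = Module.annihilator Γ(X, U.1) Γ(F, U.1)) :
    ∀ V : Y.affineOpens, (J.comap f).ideal V =
      Module.annihilator Γ(Y, V.1) Γ((Scheme.Modules.pullback f).obj F, V.1) := by
  have : F.IsQuasicoherent := hq
  have : F.IsFiniteType := hft
  have : ((Scheme.Modules.pullback f).obj F).IsQuasicoherent :=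
    Groth.Agent.Lib.Helper29.QCoh.isQuasicoherent_pullback f F
  have : ((Scheme.Modules.pullback f).obj F).IsFiniteType :=
    Groth.Agent.Lib.Helper29.QCoh.isFiniteType_pullback f F
  have hJ' : J = Groth.Agent.S2314.annIdeal F := by
    refine Scheme.IdealSheafData.ext_of_iSup_eq_top (fun U : X.affineOpens => U) ?_ (fun U => ?_)
    · exact AlgebraicGeometry.iSup_affineOpens_eq_top X
    · rw [hJ U, Groth.Agent.S2314.annIdeal_ideal]
  have key : J.comap f = Groth.Agent.S2314.annIdeal ((Scheme.Modules.pullback f).obj F) := by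
    refine Scheme.IdealSheafData.ext_of_iSup_eq_top
      (fun i : {p : Y.affineOpens × X.affineOpens // p.1.1 ≤ f ⁻¹ᵁ p.2.1} => i.1.1)
      (Groth.Agent.Lib.Helper1.iSup_affineOpens_le_preimage f) (fun i => ?_)
    obtain ⟨⟨U, V⟩, e⟩ := i
    rw [Groth.Agent.Lib.Helper1.ideal_comap J f U V e, hJ V,
      Groth.Agent.S2314.annIdeal_ideal]
    letI := (f.appLE V.1 U.1 e).hom.toAlgebra
    have : Module.Flat Γ(X, V.1) Γ(Y, U.1) := Flat.flat_appLE f V.2 U.2 e
    rw [(Groth.Agent.Lib.Helper29.QCoh.pullbackSectionsEquiv f F U.2 V.2 e).annihilator_eq]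
    have : Module.Finite Γ(X, V.1) Γ(F, V.1) :=
      Groth.Agent.Lib.Helper29.QCoh.module_finite_of_isFiniteType F V.2
    rw [Groth.Agent.Helper19.AnnBC.annihilator_tensor_of_flat]
    rfl
  intro V
  rw [key, Groth.Agent.S2314.annIdeal_ideal]

end Groth.Agent.S9378
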