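import Groth.Statements.S9382
import Mathlib.AlgebraicGeometry.Morphisms.ClosedImmersion
import Mathlib.AlgebraicGeometry.Morphisms.Separated
-- import your own Groth.Agent.* helpers here

set_option autoImplicit false
universe u
open QCohSub

namespace Groth.Agent.S9382

open AlgebraicGeometry CategoryTheory in
/-- For closed subschemes Z, Y ⊆ X with ideal sheaves I, J, the scheme-theoretic intersection (ideal
sheaf I ⊔ J) together with its inclusions into Z and Y forms a cartesian square over X. -/
theorem result (X : Scheme.{u}) (I J : X.IdealSheafData) :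
    IsPullback (Scheme.IdealSheafData.inclusion (le_sup_left : I ≤ I ⊔ J))
      (Scheme.IdealSheafData.inclusion (le_sup_right : J ≤ I ⊔ J)) I.subschemeι J.subschemeι := by
  open Limits Scheme.IdealSheafData in
  have hH : ∀ s : PullbackCone I.subschemeι J.subschemeι,
      (I ⊔ J).subschemeι.ker ≤ (s.fst ≫ I.subschemeι).ker := by
    intro s
    rw [ker_subschemeι]
    refine sup_le ?_ ?_
    · calc I = I.subschemeι.ker := (ker_subschemeι I).symm
        _ ≤ (s.fst ≫ I.subschemeι).ker := Scheme.Hom.le_ker_comp _ _
    · rw [s.condition]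
      calc J = J.subschemeι.ker := (ker_subschemeι J).symm
        _ ≤ (s.snd ≫ J.subschemeι).ker := Scheme.Hom.le_ker_comp _ _
  refine ⟨⟨by rw [inclusion_subschemeι, inclusion_subschemeι]⟩, ⟨PullbackCone.IsLimit.mk _
    (fun s => IsClosedImmersion.lift (I ⊔ J).subschemeι (s.fst ≫ I.subschemeι) (hH s))
    (fun s => ?_) (fun s => ?_) (fun s m h1 h2 => ?_)⟩⟩
  · rw [← cancel_mono I.subschemeι, Category.assoc, inclusion_subschemeι,
      IsClosedImmersion.lift_fac]
  · rw [← cancel_mono J.subschemeι, Category.assoc, inclusion_subschemeι,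
      IsClosedImmersion.lift_fac, s.condition]
  · rw [← cancel_mono (I ⊔ J).subschemeι, IsClosedImmersion.lift_fac, ← h1, Category.assoc,
      inclusion_subschemeι]

end Groth.Agent.S9382
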