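import Groth.Statements.S9385
import Mathlib

set_option autoImplicit false
universe u
open SchDense

namespace Groth.Agent.S9385


open AlgebraicGeometry CategoryTheory
open AlgebraicGeometry CategoryTheory

theorem ker_toImage_eq_bot {X Y : Scheme.{u}} (f : X ⟶ Y) [QuasiCompact f] :
    f.toImage.ker = ⊥ := by
  refine Scheme.IdealSheafData.ext_of_iSup_eq_top
    (fun U : Y.affineOpens => (⟨f.imageι ⁻¹ᵁ (U : Y.Opens), U.2.preimage f.imageι⟩ :
      f.image.affineOpens)) ?_ ?_
  · show ⨆ U : Y.affineOpens, f.imageι ⁻¹ᵁ (U : Y.Opens) = ⊤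
    rw [← Scheme.Hom.preimage_iSup, iSup_affineOpens_eq_top, Scheme.Hom.preimage_top]
  · intro U
    rw [Scheme.Hom.ker_apply]
    simp only [Scheme.IdealSheafData.ideal_bot, Pi.bot_apply]
    rw [← RingHom.injective_iff_ker_eq_bot]
    exact f.toImage_app_injective U

theorem ker_eq_vanishingIdeal_of_isReduced {Z X : Scheme.{u}} (h : Z ⟶ X) [IsReduced Z] :
    h.ker = Scheme.IdealSheafData.vanishingIdeal (.closure (Set.range h)) := by
  apply le_antisymm
  · rw [← Scheme.IdealSheafData.le_support_iff_le_vanishingIdeal]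
    exact TopologicalSpace.Closeds.closure_le.mpr h.range_subset_ker_support
  · rw [Scheme.Hom.ker, Scheme.IdealSheafData.le_ofIdeals_iff]
    intro U b hb
    rw [RingHom.mem_ker]
    rw [← basicOpen_eq_bot_iff, ← Scheme.preimage_basicOpen]
    rw [eq_bot_iff]
    intro z hz
    exfalso
    have hz' : h z ∈ X.basicOpen b := hz
    have hzU : h z ∈ (U : X.Opens) := X.basicOpen_le b hz'
    obtain ⟨p, hp⟩ : h z ∈ Set.range U.2.fromSpec := by rw [U.2.range_fromSpec]; exact hzU
    have hpC : p ∈ U.2.fromSpec ⁻¹' (closure (Set.range h)) := by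
      show U.2.fromSpec p ∈ closure (Set.range h)
      rw [hp]; exact subset_closure ⟨z, rfl⟩
    have hbp : b ∈ p.asIdeal := by
      have hb' : b ∈ PrimeSpectrum.vanishingIdeal (U.2.fromSpec ⁻¹' (closure (Set.range h))) := hb
      exact (PrimeSpectrum.mem_vanishingIdeal _ _).mp hb' p hpC
    have : p ∈ U.2.fromSpec ⁻¹ᵁ X.basicOpen b := by
      show U.2.fromSpec p ∈ X.basicOpen b
      rw [hp]; exact hz'
    rw [U.2.fromSpec_preimage_basicOpen] at this
    exact this hbp

theorem isReduced_image_of_isReduced {Z X : Scheme.{u}} (h : Z ⟶ X) [IsReduced Z] :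
    IsReduced h.image := by
  show IsReduced h.ker.subscheme
  rw [IsReduced.iff_of_openCover (𝒰 := h.ker.subschemeCover.openCover)]
  change (∀ U : X.affineOpens, IsReduced (Spec (CommRingCat.of (Γ(X, U) ⧸ h.ker.ideal U))))
  intro U
  rw [affine_isReduced_iff]
  change _root_.IsReduced (Γ(X, U) ⧸ h.ker.ideal U)
  rw [← Ideal.isRadical_iff_quotient_reduced, ker_eq_vanishingIdeal_of_isReduced]
  exact PrimeSpectrum.isRadical_vanishingIdeal _

theorem range_imageι_of_isReduced {Z X : Scheme.{u}} (h : Z ⟶ X) [IsReduced Z] :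
    Set.range h.imageι = closure (Set.range h) := by
  show Set.range h.ker.subschemeι = _
  rw [Scheme.IdealSheafData.range_subschemeι, ker_eq_vanishingIdeal_of_isReduced]
  simp

theorem isOpenImmersion_toImage_of_isReduced {Z X : Scheme.{u}} (h : Z ⟶ X) [IsImmersion h]
    [IsReduced Z] : IsOpenImmersion h.toImage := by
  have hred := isReduced_image_of_isReduced h
  have hcU : h.liftCoborder ≫ h.coborderRange.ι = h := h.liftCoborder_ι
  set U := h.coborderRange with hU
  set c := h.liftCoborder with hc
  set O' : h.image.Opens := h.imageι ⁻¹ᵁ U with hO'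
  set V' : Z.Opens := h.toImage ⁻¹ᵁ O' with hV'
  have hV'top : V' = ⊤ := by
    rw [hV', hO', ← Scheme.Hom.comp_preimage, h.toImage_imageι, ← hcU, Scheme.Hom.comp_preimage]
    show c ⁻¹ᵁ (U.ι ⁻¹ᵁ U) = ⊤
    simp
  have hcomp : (h.toImage ∣_ O') ≫ (h.imageι ∣_ U) = V'.ι ≫ c := by
    rw [← cancel_mono U.ι, Category.assoc, morphismRestrict_ι, ← Category.assoc,
      morphismRestrict_ι, Category.assoc, h.toImage_imageι, Category.assoc, hcU]
  have hV'iso : IsIso V'.ι := by
    have key : ∀ O : Z.Opens, O = ⊤ → IsIso O.ι := by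
      rintro _ rfl
      show IsIso (Scheme.topIso _).hom
      infer_instance
    exact key _ hV'top
  have hci : IsClosedImmersion (h.toImage ∣_ O') := by
    have : IsClosedImmersion ((h.toImage ∣_ O') ≫ (h.imageι ∣_ U)) := by
      rw [hcomp]; infer_instance
    exact IsClosedImmersion.of_comp (h.toImage ∣_ O') (h.imageι ∣_ U)
  have hsurj : Surjective (h.toImage ∣_ O') := by
    refine ⟨fun y => ?_⟩
    have h1 : h.imageι (O'.ι y) ∈ closure (Set.range h) := by
      rw [← range_imageι_of_isReduced]; exact ⟨_, rfl⟩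
    have h2 : h.imageι (O'.ι y) ∈ (U : Set X) := y.2
    have h3 : h.imageι (O'.ι y) ∈ Set.range h := by
      have hcl : IsClosed (Set.range c) := c.isClosedEmbedding.isClosed_range
      have h4 : (⟨h.imageι (O'.ι y), h2⟩ : U) ∈ closure (Set.range c) := by
        rw [U.ι.isEmbedding.closure_eq_preimage_closure_image]
        show U.ι ⟨_, h2⟩ ∈ closure (U.ι '' Set.range c)
        rw [← Set.range_comp]
        have : (U.ι : U → X) ∘ (c : Z → U) = (h : Z → X) := by
          ext z
          show (c ≫ U.ι) z = h z
          rw [hcU]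
        rw [this]
        exact h1
      rw [hcl.closure_eq] at h4
      obtain ⟨z, hz⟩ := h4
      refine ⟨z, ?_⟩
      have : h z = (c ≫ U.ι) z := by rw [hcU]
      rw [this, Scheme.Hom.comp_apply, hz]
      rfl
    obtain ⟨z, hz⟩ := h3
    have hzV : z ∈ V' := by rw [hV'top]; trivial
    refine ⟨⟨z, hzV⟩, ?_⟩
    apply O'.ι.isOpenEmbedding.injective
    apply h.imageι.isClosedEmbedding.injective
    rw [← hz]
    have e1 : O'.ι ((h.toImage ∣_ O') ⟨z, hzV⟩) = h.toImage z := by
      rw [← Scheme.Hom.comp_apply, morphismRestrict_ι, Scheme.Hom.comp_apply]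
      rfl
    rw [e1, ← Scheme.Hom.comp_apply, h.toImage_imageι]
  have hredO : IsReduced O'.toScheme := inferInstance
  have hiso : IsIso (h.toImage ∣_ O') := isIso_of_isClosedImmersion_of_surjective _
  have e : h.toImage = inv V'.ι ≫ (h.toImage ∣_ O') ≫ O'.ι := by
    rw [IsIso.eq_inv_comp, morphismRestrict_ι]
  rw [e]
  infer_instance

open AlgebraicGeometry CategoryTheory in
/-- Let h : Z → X be an immersion, and suppose that either Z is reduced or h is quasi-compact. Write Z̄
⊆ X for the scheme-theoretic image of h. Then Z → Z̄ is an open immersion identifying Z with a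
scheme-theoretically dense (in the for-every-open sense) and topologically dense open subscheme of
Z̄. -/
theorem result {Z X : Scheme.{u}} (h : Z ⟶ X) [IsImmersion h]
    (hyp : QuasiCompact h ∨ IsReduced Z) :
    ∃ hI : IsOpenImmersion h.toImage,
      (∀ W : h.image.Opens, IsSchemeTheoreticallyDominant
          (h.image.homOfLE (inf_le_right : @Scheme.Hom.opensRange _ _ h.toImage hI ⊓ W ≤ W))) ∧
        DenseRange h.toImage.base := by

  rcases hyp with hqc | hred
  · have hI : IsOpenImmersion h.toImage := inferInstance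
    refine ⟨hI, ?_, ?_⟩
    · intro W
      have hk : h.toImage.ker = ⊥ := ker_toImage_eq_bot h
      have hOι : h.toImage.opensRange.ι = h.toImage.isoOpensRange.inv ≫ h.toImage :=
        (h.toImage.isoOpensRange_inv_comp).symm
      have hqcO : QuasiCompact h.toImage.opensRange.ι := by rw [hOι]; infer_instance
      have hsdO : IsSchemeTheoreticallyDominant h.toImage.opensRange.ι := by
        refine ⟨?_⟩
        rw [hOι, Scheme.Hom.ker_comp_of_isIso, hk]
      exact IsSchemeTheoreticallyDominant.of_isPullback
        (isPullback_opens_inf h.toImage.opensRange W)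
    · exact h.toImage.denseRange
  · have hI := isOpenImmersion_toImage_of_isReduced h
    have hredI := isReduced_image_of_isReduced h
    have hdense : DenseRange h.toImage.base := by
      rw [DenseRange, dense_iff_closure_eq,
        h.imageι.isEmbedding.closure_eq_preimage_closure_image, ← Set.range_comp]
      have : (h.imageι : _ → X) ∘ (h.toImage : Z → _) = (h : Z → X) := by
        ext z
        show (h.toImage ≫ h.imageι) z = _
        rw [h.toImage_imageι]
      rw [this, ← range_imageι_of_isReduced]
      ext y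
      simp only [Set.mem_preimage, Set.mem_range, Set.mem_univ, iff_true]
      exact ⟨y, rfl⟩
    refine ⟨hI, ?_, hdense⟩
    intro W
    have hdom : IsDominant (h.image.homOfLE (inf_le_right : h.toImage.opensRange ⊓ W ≤ W)) := by
      refine ⟨?_⟩
      rw [DenseRange]
      have e1 : Set.range (h.image.homOfLE (inf_le_right : h.toImage.opensRange ⊓ W ≤ W)) =
          W.ι ⁻¹' ((h.toImage.opensRange ⊓ W : h.image.Opens) : Set h.image) :=
        congrArg (fun O : W.toScheme.Opens => (O : Set W.toScheme))
          (Scheme.opensRange_homOfLE (inf_le_right : h.toImage.opensRange ⊓ W ≤ W))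
      rw [e1]
      have hd2 : Dense (W.ι ⁻¹' (Set.range h.toImage)) :=
        hdense.preimage W.ι.isOpenEmbedding.isOpenMap
      refine hd2.mono ?_
      intro y hy
      exact ⟨hy, y.2⟩
    exact IsSchemeTheoreticallyDominant.of_isDominant _

end Groth.Agent.S9385
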