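import Groth.Statements.S9389
import Mathlib.AlgebraicGeometry.ZariskisMainTheorem
import Mathlib.AlgebraicGeometry.Fiber
import Mathlib.AlgebraicGeometry.Morphisms.UniversallyOpen
-- import your own Groth.Agent.* helpers here

set_option autoImplicit false
universe u
open QFin

namespace Groth.Agent.S9389

open AlgebraicGeometry CategoryTheory Limits in
theorem qfAt_iff {X S : Scheme.{u}} (f : X ⟶ S) [LocallyOfFiniteType f] (y : S) (p : f.fiber y) :
    f.QuasiFiniteAt (f.fiberι y p) ↔ IsOpen {p} := by
  obtain ⟨⟨x, hx⟩, rfl⟩ := (f.fiberHomeo y).symm.surjective p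
  simp only [Set.mem_preimage, Set.mem_singleton_iff] at hx
  subst hx
  rw [Scheme.Hom.fiberι_fiberHomeo_symm]
  exact Scheme.Hom.quasiFiniteAt_iff_isOpen_singleton_asFiber

open AlgebraicGeometry CategoryTheory in
/-- For f : X → S locally of finite type and a cartesian square with base change f' : X' → S', g' : X' →
X, the quasi-finite locus of f' is the inverse image under g' of the quasi-finite locus of f. -/
theorem result {X S X' S' : Scheme.{u}} (f : X ⟶ S) [LocallyOfFiniteType f] (g : S' ⟶ S)
    (g' : X' ⟶ X) (f' : X' ⟶ S') (hsq : IsPullback g' f' f g) :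
    {x' : ↑X' | f'.QuasiFiniteAt x'} = g'.base ⁻¹' {x : ↑X | f.QuasiFiniteAt x} := by
  have hlft' : LocallyOfFiniteType f' :=
    MorphismProperty.of_isPullback (P := @LocallyOfFiniteType) hsq inferInstance
  ext x'
  simp only [Set.mem_ofPred_eq, Set.mem_preimage]
  constructor
  · intro hx'
    -- the morphism between fibres
    have hpb := isPullback_fiberToSpecResidueField_of_isPullback hsq (f' x')
    set φ := Limits.pullback.map f' (S'.fromSpecResidueField (f' x')) f
      (S.fromSpecResidueField (g (f' x'))) g' (Spec.map (g.residueFieldMap (f' x'))) g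
      hsq.w.symm (by simp) with hφ
    have hφopen : UniversallyOpen φ :=
      MorphismProperty.of_isPullback (P := @UniversallyOpen) hpb.flip inferInstance
    have hφfst : φ ≫ f.fiberι (g (f' x')) = f'.fiberι (f' x') ≫ g' :=
      Limits.pullback.lift_fst _ _ _
    have h1 : IsOpen {f'.asFiber x'} :=
      Scheme.Hom.quasiFiniteAt_iff_isOpen_singleton_asFiber.mp hx'
    have h2 : IsOpen {φ (f'.asFiber x')} := by
      have h := φ.isOpenMap _ h1
      have e : φ '' {f'.asFiber x'} = {φ (f'.asFiber x')} := Set.image_singleton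
      exact (congrArg IsOpen e).mp h
    have h3 := (qfAt_iff f (g (f' x')) (φ (f'.asFiber x'))).mpr h2
    have h4 : f.fiberι (g (f' x')) (φ (f'.asFiber x')) = g' x' := by
      change (φ ≫ f.fiberι (g (f' x'))) (f'.asFiber x') = g' x'
      rw [hφfst]
      change g' (f'.fiberι (f' x') (f'.asFiber x')) = g' x'
      rw [Scheme.Hom.fiberι_asFiber]
    rwa [h4] at h3
  · intro hx
    have hpb2 := (isPullback_morphismRestrict g' f.quasiFiniteLocus).paste_vert hsq
    have hlqf : LocallyQuasiFinite ((g' ⁻¹ᵁ f.quasiFiniteLocus).ι ≫ f') :=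
      MorphismProperty.of_isPullback (P := @LocallyQuasiFinite) hpb2 inferInstance
    have hmem : x' ∈ g' ⁻¹ᵁ f.quasiFiniteLocus := hx
    have := ((g' ⁻¹ᵁ f.quasiFiniteLocus).ι ≫ f').quasiFiniteAt ⟨x', hmem⟩
    rw [Scheme.Hom.quasiFiniteAt_comp_iff_of_isOpenImmersion] at this
    exact this

end Groth.Agent.S9389
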