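import Groth.Statements.S9390
-- import your own Groth.Agent.* helpers here
import Groth.Agent.Lib.Helper29.QCohBasic

set_option autoImplicit false
universe u
open QCohSub

namespace Groth.Agent.S9390

open AlgebraicGeometry CategoryTheory in
/-- For a quasi-coherent O_X-module F, an affine open U = Spec A of X, M = F(U) and x ∈ U with prime p ⊆
A, the prime p is in Supp(M) if and only if x is in Supp(F). -/
theorem result (X : Scheme.{u}) (F : X.Modules) (hF : Coh.IsQCoh F)
    (U : X.affineOpens) (x : X) (hx : x ∈ U.1) :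
    U.2.primeIdealOf ⟨x, hx⟩ ∈ Module.support Γ(X, U.1) Γ(F, U.1) ↔ x ∈ CohB1.support F := by
  open AlgebraicGeometry CategoryTheory Groth.Agent.Lib.Helper29.QCoh in
  have : F.IsQuasicoherent := hF
  rw [← not_iff_not, Module.notMem_support_iff']
  change _ ↔ ¬ ¬ Subsingleton (F.presheaf.stalk x)
  rw [not_not, stalk_subsingleton_iff F U.2 x hx]
  refine forall_congr' fun m => ?_
  constructor
  · rintro ⟨r, hr, h⟩
    exact ⟨r, (mem_basicOpen_iff_notMem_primeIdealOf U.2 x hx r).mpr hr, h⟩
  · rintro ⟨r, hr, h⟩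
    exact ⟨r, (mem_basicOpen_iff_notMem_primeIdealOf U.2 x hx r).mp hr, h⟩

end Groth.Agent.S9390
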