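import Groth.Statements.S9400
import Mathlib
import Groth.Agent.Lib.Helper20.Nagata

set_option autoImplicit false
universe u
open CAlg

namespace Groth.Agent.S9400


open Groth.Agent.Lib.Helper11.Japanese Groth.Agent.Lib.Helper20.Nagata

/-- Being a Nagata ring can be checked on a finite cover of Spec R by principal opens. -/
theorem result (R : Type u) [CommRing R]
    {ι : Type u} [Finite ι] (f : ι → R) (hf : Ideal.span (Set.range f) = ⊤)
    (h : ∀ i, CAlg.IsNagata (Localization.Away (f i))) : CAlg.IsNagata R := by
  classical
  constructor
  · have : Fintype ι := Fintype.ofFinite ι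
    refine AlgebraicGeometry.isNoetherianRing_of_away (Finset.univ.image f) ?_ ?_
    · rw [Finset.coe_image, Finset.coe_univ, Set.image_univ]
      exact hf
    · rintro ⟨s, hs⟩
      obtain ⟨i, -, rfl⟩ := Finset.mem_image.1 hs
      exact (h i).1
  · intro p hp
    exact isN2_quotient_of_span f hf (fun i => Localization.Away (f i)) (fun i q hq => (h i).2 q) p

end Groth.Agent.S9400
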