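import Groth.Statements.S9402
-- import your own Groth.Agent.* helpers here

set_option autoImplicit false
universe u
open CAlg

namespace Groth.Agent.S9402

/-- Let R → S be a ring map with S a nonzero algebra over the rationals and f ∈ S such that some
S-linear form on the module of differentials of S over R sends df to 1 (that is, df spans a free
direct summand of rank one). Then f is not nilpotent. (The published statement asks only that S·df
be a direct summand of the module of differentials, which also holds for the rationals with a
square-zero element adjoined and for the zero ring, where f is nilpotent; this row asks for an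
S-linear form on the differentials sending df to 1, as the published proof uses, and S nonzero.) -/
theorem result (R : Type u) [CommRing R] (S : Type u)
    [CommRing S] [Nontrivial S] [Algebra R S] [Algebra ℚ S] (f : S)
    (θ : Ω[S⁄R] →ₗ[S] S) (hθ : θ (KaehlerDifferential.D R S f) = 1) : ¬ IsNilpotent f := by
  let D : Derivation R S S := θ.compDer (KaehlerDifferential.D R S)
  have hD : D f = 1 := hθ
  have key : ∀ n : ℕ, f ^ n ≠ 0 := by
    intro n
    induction n with
    | zero => simp
    | succ n ih =>
      intro h
      apply ih
      have h1 := congrArg D h
      rw [Derivation.leibniz_pow, hD, map_zero, Nat.add_sub_cancel, smul_eq_mul, mul_one] at h1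
      have h2 : ((n + 1 : ℕ) : ℚ) • f ^ n = 0 := by rw [Nat.cast_smul_eq_nsmul]; exact h1
      have h3 : ((n + 1 : ℕ) : ℚ) ≠ 0 := by positivity
      rw [← inv_smul_smul₀ h3 (f ^ n), h2, smul_zero]
  rintro ⟨n, hn⟩
  exact key n hn

end Groth.Agent.S9402
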