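import Groth.Statements.S9403
import Mathlib.RingTheory.Filtration
import Mathlib.Tactic.LinearCombination
import Mathlib.Tactic.Positivity
-- import your own Groth.Agent.* helpers here

set_option autoImplicit false
universe u
open CAlg

namespace Groth.Agent.S9403

/-- Let R → S be a ring map with S a Noetherian local ring which is an algebra over the rationals, and f
∈ S such that some S-linear form on the module of differentials of S over R sends df to 1 (df spans
a free direct summand of rank one). Then f is a nonzerodivisor of S. (The published statement asks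
only that S·df be a direct summand of the module of differentials, which also holds for the
rationals with a square-zero element adjoined, where f is a zero divisor; this row asks for an
S-linear form on the differentials sending df to 1, as the published proof uses.) -/
theorem result (R : Type u) [CommRing R]
    (S : Type u) [CommRing S] [IsLocalRing S] [IsNoetherianRing S] [Algebra R S] [Algebra ℚ S]
    (f : S) (θ : Ω[S⁄R] →ₗ[S] S) (hθ : θ (KaehlerDifferential.D R S f) = 1) : f ∈ nonZeroDivisors S := by
  let D : Derivation R S S := θ.compDer (KaehlerDifferential.D R S)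
  have hD : D f = 1 := hθ
  rw [mem_nonZeroDivisors_iff_right]
  intro g hg
  by_cases hf : IsUnit f
  · exact (hf.mul_left_eq_zero).mp hg
  have hfm : f ∈ IsLocalRing.maximalIdeal S := (IsLocalRing.mem_maximalIdeal f).mpr hf
  have h4 : g + f * D g = 0 := by
    have := congrArg D hg
    rw [Derivation.leibniz, hD, map_zero, smul_eq_mul, smul_eq_mul, mul_one] at this
    linear_combination this
  have hsign : ∀ n : ℕ, D ((-1 : S) ^ n) = 0 := by
    intro n
    rw [Derivation.leibniz_pow, map_neg, Derivation.map_one_eq_zero, neg_zero, smul_zero, smul_zero]
  have key : ∀ n : ℕ, (n.factorial : S) * g = (-1) ^ n * f ^ n * (D^[n] g) := by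
    intro n
    induction n with
    | zero => simp
    | succ n ih =>
      have h1 := congrArg D ih
      rw [Derivation.leibniz, Derivation.map_natCast, smul_zero, add_zero,
        Derivation.leibniz, Derivation.leibniz, hsign, smul_zero, add_zero,
        Derivation.leibniz_pow, hD, ← Function.iterate_succ_apply' D n g] at h1
      simp only [smul_eq_mul, mul_one, nsmul_eq_mul] at h1
      have hpow : (n : S) * (f * f ^ (n - 1)) = n * f ^ n := by
        rcases n with _ | m
        · simp
        · rw [Nat.add_sub_cancel, ← pow_succ']
      rw [Nat.factorial_succ, Nat.cast_mul, Nat.cast_succ, pow_succ, pow_succ]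
      linear_combination (-f) * h1 + (n.factorial : S) * h4 + (n : S) * ih
        - (-1) ^ n * (D^[n] g) * hpow
  have hmem : ∀ n : ℕ, g ∈ (IsLocalRing.maximalIdeal S) ^ n := by
    intro n
    have h1 : (n.factorial : S) * g ∈ (IsLocalRing.maximalIdeal S) ^ n := by
      rw [key n]
      have : (-1 : S) ^ n * f ^ n * (D^[n] g) = ((-1 : S) ^ n * (D^[n] g)) * f ^ n := by ring
      rw [this]
      exact Ideal.mul_mem_left _ _ (Ideal.pow_mem_pow hfm n)
    have h3 : ((n.factorial : ℕ) : ℚ) ≠ 0 := by positivity
    have h2 : g = algebraMap ℚ S ((n.factorial : ℚ)⁻¹) * ((n.factorial : S) * g) := by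
      rw [← mul_assoc]
      have : algebraMap ℚ S ((n.factorial : ℚ)⁻¹) * (n.factorial : S) = 1 := by
        rw [← map_natCast (algebraMap ℚ S), ← map_mul, inv_mul_cancel₀ h3, map_one]
      rw [this, one_mul]
    rw [h2]
    exact Ideal.mul_mem_left _ _ h1
  have hbot := Ideal.iInf_pow_eq_bot_of_isLocalRing (IsLocalRing.maximalIdeal S)
    (IsLocalRing.maximalIdeal.isMaximal S).ne_top
  have : g ∈ ⨅ n : ℕ, (IsLocalRing.maximalIdeal S) ^ n := by
    rw [Ideal.mem_iInf]; exact hmem
  rw [hbot] at this
  exact this

end Groth.Agent.S9403
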