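import Groth.Statements.S9404
import Mathlib

set_option autoImplicit false
universe u
open CAlg

namespace Groth.Agent.S9404

open TensorProduct
open IsLocalRing

/-- `Spec (L ⊗[A] S)` is a point, when `L/K` is purely inseparable and `A → K` is surjective. -/
theorem spec_point (A : Type u) [CommRing A] (K L S : Type u) [Field K] [Field L] [Field S]
    [Algebra A K] [Algebra A L] [Algebra A S] [Algebra K L] [Algebra K S]
    [IsScalarTower A K L] [IsScalarTower A K S] [IsPurelyInseparable K L]
    (hK : Function.Surjective (algebraMap A K)) :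
    Subsingleton (PrimeSpectrum (L ⊗[A] S)) ∧ Nonempty (PrimeSpectrum (L ⊗[A] S)) := by
  have h := PrimeSpectrum.isHomeomorph_comap_tensorProductMap_of_isPurelyInseparable
    (K := K) (R := A) (S := S) L
  -- Spec (K ⊗[A] S) is a point
  have hsurj : Function.Surjective
      (Algebra.TensorProduct.includeRight : S →ₐ[A] K ⊗[A] S) := by
    intro z
    induction z using TensorProduct.induction_on with
    | zero => exact ⟨0, map_zero _⟩
    | tmul k s =>
      obtain ⟨a, rfl⟩ := hK k
      refine ⟨a • s, ?_⟩
      rw [Algebra.TensorProduct.includeRight_apply, Algebra.algebraMap_eq_smul_one, smul_tmul]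
    | add x y hx hy =>
      obtain ⟨x', rfl⟩ := hx
      obtain ⟨y', rfl⟩ := hy
      exact ⟨x' + y', map_add _ _ _⟩
  have hsub : Subsingleton (PrimeSpectrum (K ⊗[A] S)) := by
    have hinj := PrimeSpectrum.comap_injective_of_surjective
      (Algebra.TensorProduct.includeRight : S →ₐ[A] K ⊗[A] S).toRingHom hsurj
    exact hinj.subsingleton
  have hnon : Nonempty (PrimeSpectrum (K ⊗[A] S)) := by
    let φ : K ⊗[A] S →ₐ[A] S :=
      Algebra.TensorProduct.lift (IsScalarTower.toAlgHom A K S) (AlgHom.id A S)
        (fun _ _ => Commute.all _ _)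
    have : Nontrivial (K ⊗[A] S) := φ.toRingHom.domain_nontrivial
    infer_instance
  exact ⟨h.injective.subsingleton, ⟨(h.bijective.2 hnon.some).choose⟩⟩

theorem key (A : Type u) [CommRing A]
    [IsLocalRing A] (B : Type u) [CommRing B] [IsLocalRing B] [Algebra A B]
    [IsLocalHom (algebraMap A B)] (C : Type u) [CommRing C] [IsLocalRing C] [Algebra A C]
    [IsLocalHom (algebraMap A C)] [Algebra.IsIntegral A C]
    (hsub : Subsingleton (PrimeSpectrum (ResidueField B ⊗[A] ResidueField C)))
    (hnon : Nonempty (PrimeSpectrum (ResidueField B ⊗[A] ResidueField C))) :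
    IsLocalRing (B ⊗[A] C) ∧
      IsLocalHom (Algebra.TensorProduct.includeLeft : B →ₐ[A] B ⊗[A] C).toRingHom ∧
      IsLocalHom (Algebra.TensorProduct.includeRight : C →ₐ[A] B ⊗[A] C).toRingHom := by
  let resB : B →ₐ[A] ResidueField B := IsScalarTower.toAlgHom A B (ResidueField B)
  let resC : C →ₐ[A] ResidueField C := IsScalarTower.toAlgHom A C (ResidueField C)
  have hresB : Function.Surjective resB := IsLocalRing.residue_surjective
  have hresC : Function.Surjective resC := IsLocalRing.residue_surjective
  let π : B ⊗[A] C →ₐ[A] ResidueField B ⊗[A] ResidueField C := Algebra.TensorProduct.map resB resC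
  have hπ : Function.Surjective π := Algebra.TensorProduct.map_surjective resB resC hresB hresC
  have hker : RingHom.ker π = (maximalIdeal B).map
      (Algebra.TensorProduct.includeLeft : B →ₐ[A] B ⊗[A] C) ⊔
      (maximalIdeal C).map (Algebra.TensorProduct.includeRight : C →ₐ[A] B ⊗[A] C) := by
    have := Algebra.TensorProduct.map_ker resB resC hresB hresC
    rw [this]
    congr 1
    · congr 1
      exact IsLocalRing.ker_residue
    · congr 1
      exact IsLocalRing.ker_residue
  -- contraction of a maximal ideal
  have hA : ∀ n : Ideal (B ⊗[A] C), n.IsMaximal →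
      n.comap (Algebra.TensorProduct.includeLeft : B →ₐ[A] B ⊗[A] C).toRingHom = maximalIdeal B := by
    intro n hn
    have : (n.comap (algebraMap B (B ⊗[A] C))).IsMaximal :=
      Ideal.isMaximal_comap_of_isIntegral_of_isMaximal n
    exact IsLocalRing.eq_maximalIdeal this
  have hB : ∀ n : Ideal (B ⊗[A] C), n.IsMaximal →
      n.comap (Algebra.TensorProduct.includeRight : C →ₐ[A] B ⊗[A] C).toRingHom = maximalIdeal C := by
    intro n hn
    have hnp : n.IsPrime := hn.isPrime
    have hq : (n.comap (Algebra.TensorProduct.includeRight : C →ₐ[A] B ⊗[A] C).toRingHom).IsPrime :=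
      Ideal.comap_isPrime _ _
    have hcomp : (n.comap (Algebra.TensorProduct.includeRight : C →ₐ[A] B ⊗[A] C).toRingHom).comap
        (algebraMap A C) = maximalIdeal A := by
      rw [Ideal.comap_comap]
      have h1 : (Algebra.TensorProduct.includeRight : C →ₐ[A] B ⊗[A] C).toRingHom.comp (algebraMap A C) =
          (Algebra.TensorProduct.includeLeft : B →ₐ[A] B ⊗[A] C).toRingHom.comp (algebraMap A B) := by
        ext a
        simp [Algebra.TensorProduct.includeRight_apply, Algebra.TensorProduct.includeLeft_apply,
          Algebra.algebraMap_eq_smul_one, smul_tmul]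
      rw [h1, ← Ideal.comap_comap, hA n hn]
      exact ((IsLocalRing.local_hom_TFAE (algebraMap A B)).out 0 4).mp ‹_›
    have hmax : (n.comap (Algebra.TensorProduct.includeRight : C →ₐ[A] B ⊗[A] C).toRingHom).IsMaximal := by
      apply Ideal.isMaximal_of_isIntegral_of_isMaximal_comap (R := A)
      rw [hcomp]
      infer_instance
    exact IsLocalRing.eq_maximalIdeal hmax
  have hle : ∀ n : Ideal (B ⊗[A] C), n.IsMaximal → RingHom.ker π ≤ n := by
    intro n hn
    rw [hker, sup_le_iff]
    constructor
    · rw [Ideal.map_le_iff_le_comap]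
      exact (hA n hn).ge
    · rw [Ideal.map_le_iff_le_comap]
      exact (hB n hn).ge
  have huniq : ∀ n₁ n₂ : Ideal (B ⊗[A] C), n₁.IsMaximal → n₂.IsMaximal → n₁ = n₂ := by
    intro n₁ n₂ h₁ h₂
    have e₁ : (n₁.map π.toRingHom).comap π.toRingHom = n₁ := by
      rw [Ideal.comap_map_of_surjective π.toRingHom hπ, ← RingHom.ker_eq_comap_bot]
      exact sup_eq_left.mpr (hle n₁ h₁)
    have e₂ : (n₂.map π.toRingHom).comap π.toRingHom = n₂ := by
      rw [Ideal.comap_map_of_surjective π.toRingHom hπ, ← RingHom.ker_eq_comap_bot]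
      exact sup_eq_left.mpr (hle n₂ h₂)
    have p₁ : (n₁.map π.toRingHom).IsPrime :=
      Ideal.map_isPrime_of_surjective (f := π.toRingHom) hπ (hle n₁ h₁)
    have p₂ : (n₂.map π.toRingHom).IsPrime :=
      Ideal.map_isPrime_of_surjective (f := π.toRingHom) hπ (hle n₂ h₂)
    have : (⟨_, p₁⟩ : PrimeSpectrum (ResidueField B ⊗[A] ResidueField C)) = ⟨_, p₂⟩ :=
      Subsingleton.elim _ _
    have h12 : n₁.map π.toRingHom = n₂.map π.toRingHom := congrArg PrimeSpectrum.asIdeal this
    rw [← e₁, ← e₂, h12]
  have hnt : Nontrivial (B ⊗[A] C) := by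
    have : Nontrivial (ResidueField B ⊗[A] ResidueField C) := by
      obtain ⟨p⟩ := hnon
      refine ⟨⟨0, 1, fun h => p.2.ne_top ?_⟩⟩
      rw [Ideal.eq_top_iff_one, ← h]
      exact p.asIdeal.zero_mem
    exact π.toRingHom.domain_nontrivial
  have hloc : IsLocalRing (B ⊗[A] C) := by
    obtain ⟨n, hn⟩ := Ideal.exists_maximal (B ⊗[A] C)
    exact IsLocalRing.of_unique_max_ideal ⟨n, hn, fun n' hn' => huniq n' n hn' hn⟩
  refine ⟨hloc, ?_, ?_⟩
  · apply ((IsLocalRing.local_hom_TFAE _).out 0 4).mpr
    exact hA _ (IsLocalRing.maximalIdeal.isMaximal _)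
  · apply ((IsLocalRing.local_hom_TFAE _).out 0 4).mpr
    exact hB _ (IsLocalRing.maximalIdeal.isMaximal _)


open TensorProduct in
/-- For local homomorphisms of local rings A → B and A → C with A → C integral, if the residue field of
C or that of B is purely inseparable over the residue field of A, then B ⊗_A C is local and both
structure maps into it are local. -/
theorem result (A : Type u) [CommRing A]
    [IsLocalRing A] (B : Type u) [CommRing B] [IsLocalRing B] [Algebra A B]
    [IsLocalHom (algebraMap A B)] (C : Type u) [CommRing C] [IsLocalRing C] [Algebra A C]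
    [IsLocalHom (algebraMap A C)] [Algebra.IsIntegral A C]
    (h : IsPurelyInseparable (IsLocalRing.ResidueField A) (IsLocalRing.ResidueField C) ∨
      IsPurelyInseparable (IsLocalRing.ResidueField A) (IsLocalRing.ResidueField B)) :
    IsLocalRing (B ⊗[A] C) ∧
      IsLocalHom (Algebra.TensorProduct.includeLeft : B →ₐ[A] B ⊗[A] C).toRingHom ∧
      IsLocalHom (Algebra.TensorProduct.includeRight : C →ₐ[A] B ⊗[A] C).toRingHom := by
  have hK : Function.Surjective (algebraMap A (ResidueField A)) := IsLocalRing.residue_surjective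
  rcases h with h | h
  · obtain ⟨h1, h2⟩ := spec_point A (ResidueField A) (ResidueField C) (ResidueField B) hK
    let e : ResidueField C ⊗[A] ResidueField B ≃ₐ[A] ResidueField B ⊗[A] ResidueField C :=
      Algebra.TensorProduct.comm A _ _
    have hinj := PrimeSpectrum.comap_injective_of_surjective e.toAlgHom.toRingHom e.surjective
    have hinj' := PrimeSpectrum.comap_injective_of_surjective e.symm.toAlgHom.toRingHom
      e.symm.surjective
    refine key A B C hinj.subsingleton ?_
    obtain ⟨p⟩ := h2
    exact ⟨PrimeSpectrum.comap e.symm.toAlgHom.toRingHom p⟩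
  · obtain ⟨h1, h2⟩ := spec_point A (ResidueField A) (ResidueField B) (ResidueField C) hK
    exact key A B C h1 h2

end Groth.Agent.S9404
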