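import Groth.Statements.S9414
import Mathlib.RingTheory.Smooth.Kaehler
import Mathlib.RingTheory.Jacobson.Ring
import Mathlib.FieldTheory.IsAlgClosed.Basic
-- import your own Groth.Agent.* helpers here

set_option autoImplicit false
universe u
open CAlg

namespace Groth.Agent.S9414

open TensorProduct in
/-- For an algebraically closed field k, a finite type k-algebra S and a maximal ideal m of S with
residue field κ = S/m, the κ-vector spaces κ ⊗_S Ω_{S/k} and m/m² have the same dimension. -/
theorem result (k : Type u) [Field k]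
    [IsAlgClosed k] (S : Type u) [CommRing S] [Algebra k S] [Algebra.FiniteType k S]
    (m : Ideal S) [m.IsMaximal] :
    Module.finrank (S ⧸ m) ((S ⧸ m) ⊗[S] Ω[S⁄k]) = Module.finrank (S ⧸ m) m.Cotangent := by
  letI : Field (S ⧸ m) := Ideal.Quotient.field m
  have hsurjS : Function.Surjective (algebraMap S (S ⧸ m)) := Ideal.Quotient.mk_surjective
  have hft : Algebra.FiniteType k (S ⧸ m) :=
    Algebra.FiniteType.of_surjective (IsScalarTower.toAlgHom k S (S ⧸ m)) hsurjS
  have hfin : Module.Finite k (S ⧸ m) := finite_of_finite_type_of_isJacobsonRing k (S ⧸ m)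
  have hbij : Function.Bijective (algebraMap k (S ⧸ m)) :=
    IsAlgClosed.algebraMap_bijective_of_isIntegral
  -- the section
  let ek : k ≃ₐ[k] (S ⧸ m) := AlgEquiv.ofBijective (Algebra.ofId k (S ⧸ m)) hbij
  let g : (S ⧸ m) →ₐ[k] S ⧸ (RingHom.ker (algebraMap S (S ⧸ m))) ^ 2 :=
    (Algebra.ofId k _).comp ek.symm.toAlgHom
  have hgsec : (IsScalarTower.toAlgHom k S (S ⧸ m)).kerSquareLift.comp g = AlgHom.id k (S ⧸ m) := by
    ext x
    obtain ⟨c, rfl⟩ := hbij.2 x
    simp only [AlgHom.commutes, AlgHom.id_apply]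
  obtain ⟨l, hl⟩ := (retractionKerCotangentToTensorEquivSection (R := k) (P := S) (S := S ⧸ m)
    hsurjS).symm ⟨g, hgsec⟩
  have hinj : Function.Injective (KaehlerDifferential.kerCotangentToTensor k S (S ⧸ m)) :=
    Function.LeftInverse.injective (fun x => LinearMap.congr_fun hl x)
  have hsub : Subsingleton (Ω[(S ⧸ m)⁄k]) := KaehlerDifferential.subsingleton_of_surjective k _ hbij.2
  have hsurj : Function.Surjective (KaehlerDifferential.kerCotangentToTensor k S (S ⧸ m)) := by
    intro y
    exact (KaehlerDifferential.exact_kerCotangentToTensor_mapBaseChange k S (S ⧸ m) hsurjS y).mp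
      (Subsingleton.elim _ _)
  have hI' : RingHom.ker (algebraMap S (S ⧸ m)) = m := Ideal.mk_ker
  have e₁ : m.Cotangent ≃ₗ[S] (RingHom.ker (algebraMap S (S ⧸ m))).Cotangent := by
    rw [hI']
  let e₂ : m.Cotangent ≃ₗ[S] (S ⧸ m) ⊗[S] Ω[S⁄k] :=
    e₁.trans (LinearEquiv.ofBijective _ ⟨hinj, hsurj⟩)
  let e₃ : m.Cotangent ≃ₗ[S ⧸ m] (S ⧸ m) ⊗[S] Ω[S⁄k] :=
    { e₂ with
      map_smul' := by
        intro c x
        obtain ⟨s, rfl⟩ := Ideal.Quotient.mk_surjective c
        have h1 : (Ideal.Quotient.mk m s) • x = s • x := by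
          rw [← Ideal.Quotient.algebraMap_eq, algebraMap_smul]
        have h2 : (Ideal.Quotient.mk m s) • (e₂ x) = s • (e₂ x) := by
          rw [← Ideal.Quotient.algebraMap_eq, algebraMap_smul]
        simp only [AddHom.toFun_eq_coe, LinearMap.coe_toAddHom, LinearEquiv.coe_coe, RingHom.id_apply]
        rw [h1, h2, map_smul] }
  exact e₃.finrank_eq.symm

end Groth.Agent.S9414
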