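import Groth.Statements.S9415
import Groth.Agent.Lib27.SepGen
import Mathlib.RingTheory.Smooth.Kaehler
-- import your own Groth.Agent.* helpers here

set_option autoImplicit false
universe u
open CAlg

namespace Groth.Agent.S9415

/-- Let R be a Noetherian local algebra over a field k whose residue field κ is a finitely generated,
separable (that is, geometrically reduced) field extension of k. Then the map from m/m² (m the
maximal ideal, realised as the kernel of R → κ) to κ ⊗_R Ω_{R/k} sending the class of x to 1 ⊗ dx is
injective. -/
theorem result (k : Type u) [Field k] (R : Type u)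
    [CommRing R] [IsLocalRing R] [IsNoetherianRing R] [Algebra k R]
    [Algebra.EssFiniteType k (IsLocalRing.ResidueField R)]
    [Algebra.IsGeometricallyReduced k (IsLocalRing.ResidueField R)] :
    Function.Injective
      (KaehlerDifferential.kerCotangentToTensor k R (IsLocalRing.ResidueField R)) := by
  have hsm : Algebra.FormallySmooth k (IsLocalRing.ResidueField R) :=
    Groth.Agent.Lib27.formallySmooth_of_isGeometricallyReduced k (IsLocalRing.ResidueField R)
  have hsurj : Function.Surjective (algebraMap R (IsLocalRing.ResidueField R)) :=
    IsLocalRing.residue_surjective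
  let π : (R ⧸ (RingHom.ker (algebraMap R (IsLocalRing.ResidueField R))) ^ 2) →ₐ[k]
      IsLocalRing.ResidueField R :=
    (IsScalarTower.toAlgHom k R (IsLocalRing.ResidueField R)).kerSquareLift
  have hπ_surj : Function.Surjective π := by
    intro y
    obtain ⟨r, rfl⟩ := hsurj y
    exact ⟨Ideal.Quotient.mk _ r, rfl⟩
  have hπ_nil : IsNilpotent (RingHom.ker (π : (R ⧸ (RingHom.ker (algebraMap R (IsLocalRing.ResidueField R))) ^ 2) →+* IsLocalRing.ResidueField R)) := by
    refine ⟨2, ?_⟩
    have h1 := AlgHom.ker_kerSquareLift (IsScalarTower.toAlgHom k R (IsLocalRing.ResidueField R))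
    have h2 := Ideal.cotangentIdeal_square
      (RingHom.ker (IsScalarTower.toAlgHom k R (IsLocalRing.ResidueField R)).toRingHom)
    exact (congrArg (· ^ 2) h1).trans h2
  let g := Algebra.FormallySmooth.liftOfSurjective (AlgHom.id k (IsLocalRing.ResidueField R)) π
    hπ_surj hπ_nil
  have hg : π.comp g = AlgHom.id k (IsLocalRing.ResidueField R) :=
    Algebra.FormallySmooth.comp_liftOfSurjective _ _ _ _
  obtain ⟨l, hl⟩ := (retractionKerCotangentToTensorEquivSection (R := k) (P := R)
    (S := IsLocalRing.ResidueField R) hsurj).symm ⟨g, hg⟩
  exact Function.LeftInverse.injective (fun x => LinearMap.congr_fun hl x)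

end Groth.Agent.S9415
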