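import Groth.Statements.S9419
import Mathlib
import Groth.Agent.Lib.Helper20.HandColimProps

set_option autoImplicit false
universe u
open CAlg

namespace Groth.Agent.S9419


open TensorProduct

open TensorProduct in
/-- Let (A_i) be a directed system of A₀-algebras with colimit A (given by compatible maps A_i → A which
are jointly surjective and whose kernels die in the system), and B₀ → C₀ a homomorphism of
A₀-algebras with C₀ of finite type over B₀. If the base change of B₀ → C₀ along B₀ → B₀ ⊗_{A₀} A is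
unramified (formally unramified and of finite type), then already its base change along B₀ → B₀
⊗_{A₀} A_i is unramified for some index i. -/
theorem result {ι : Type u} [Preorder ι] [IsDirected ι (· ≤ ·)] [Nonempty ι]
    (A₀ : Type u) [CommRing A₀] (G : ι → Type u) [∀ i, CommRing (G i)] [∀ i, Algebra A₀ (G i)]
    (f : ∀ i j, i ≤ j → (G i →ₐ[A₀] G j)) (A : Type u) [CommRing A] [Algebra A₀ A]
    (g : ∀ i, G i →ₐ[A₀] A) (hg : ∀ i j (h : i ≤ j), (g j).comp (f i j h) = g i)
    (hsurj : ∀ a : A, ∃ i, ∃ x : G i, g i x = a)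
    (hker : ∀ i (x : G i), g i x = 0 → ∃ j, ∃ h : i ≤ j, f i j h x = 0)
    (B₀ : Type u) [CommRing B₀] [Algebra A₀ B₀] (C₀ : Type u) [CommRing C₀] [Algebra A₀ C₀]
    [Algebra B₀ C₀] [IsScalarTower A₀ B₀ C₀] [Algebra.FiniteType B₀ C₀]
    (h : Algebra.Unramified (B₀ ⊗[A₀] A) ((B₀ ⊗[A₀] A) ⊗[B₀] C₀)) :
    ∃ i, Algebra.Unramified (B₀ ⊗[A₀] G i) ((B₀ ⊗[A₀] G i) ⊗[B₀] C₀) := by
  have hc := (Groth.Agent.Lib.Helper20.HandColim.HC.of_directed A₀ G f A g hg hsurj hker).tensor B₀
  obtain ⟨n, σ, ⟨P⟩⟩ :=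
    Groth.Agent.Lib.Helper20.HandColimProps.exists_presentation_of_finiteType B₀ C₀
  obtain ⟨i, hi⟩ := Groth.Agent.Lib.Helper20.HandColimProps.descent_formallyUnramified P hc
    h.formallyUnramified
  obtain ⟨k, τ, hτ⟩ := hc.exists_self_tr i
  exact ⟨k, ⟨hi k τ hτ, inferInstance⟩⟩

end Groth.Agent.S9419
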