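import Groth.Statements.S9423
import Mathlib
import Groth.Agent.Helper19.SyntDescent7
-- import your own Groth.Agent.* helpers here

set_option autoImplicit false
universe u
open Synt

namespace Groth.Agent.S9423

open TensorProduct in

open TensorProduct in
/-- Let (A_i) be a directed system of A₀-algebras with colimit A (given by compatible maps A_i → A which
are jointly surjective and whose kernels die in the system), and B₀ → C₀ a homomorphism of
A₀-algebras with C₀ of finite presentation over B₀. If the base change of B₀ → C₀ along B₀ → B₀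
⊗_{A₀} A is syntomic (flat, of finite presentation, with local complete intersection fibres), then
already its base change along B₀ → B₀ ⊗_{A₀} A_i is syntomic for some index i. (The published
statement also treats relative global complete intersections; this row states the syntomic case.) -/
theorem result {ι : Type u} [Preorder ι] [IsDirected ι (· ≤ ·)] [Nonempty ι]
    (A₀ : Type u) [CommRing A₀] (G : ι → Type u) [∀ i, CommRing (G i)] [∀ i, Algebra A₀ (G i)]
    (f : ∀ i j, i ≤ j → (G i →ₐ[A₀] G j)) (A : Type u) [CommRing A] [Algebra A₀ A]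
    (g : ∀ i, G i →ₐ[A₀] A) (hg : ∀ i j (h : i ≤ j), (g j).comp (f i j h) = g i)
    (hsurj : ∀ a : A, ∃ i, ∃ x : G i, g i x = a)
    (hker : ∀ i (x : G i), g i x = 0 → ∃ j, ∃ h : i ≤ j, f i j h x = 0)
    (B₀ : Type u) [CommRing B₀] [Algebra A₀ B₀] (C₀ : Type u) [CommRing C₀] [Algebra A₀ C₀]
    [Algebra B₀ C₀] [IsScalarTower A₀ B₀ C₀] [Algebra.FinitePresentation B₀ C₀]
    (h : Synt.IsSyntomic (B₀ ⊗[A₀] A) ((B₀ ⊗[A₀] A) ⊗[B₀] C₀)) :
    ∃ i, Synt.IsSyntomic (B₀ ⊗[A₀] G i) ((B₀ ⊗[A₀] G i) ⊗[B₀] C₀) := by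
  classical
  open Groth.Agent.Helper19.SyntDescent Groth.Agent.Helper19.RelGCI in
  obtain ⟨n, r, hh, ⟨e₀⟩⟩ := exists_presentation B₀ C₀
  let S := sysT A₀ G f A g hg hsurj hker B₀
  have h1 := (isSyntomic_tensor_iff e₀ (B₀ ⊗[A₀] A)).mp h
  obtain ⟨j₀⟩ := (inferInstance : Nonempty ι)
  have hcomp : ∀ (i : ι), (S.a i).comp (algebraMap B₀ (B₀ ⊗[A₀] G i)) =
      algebraMap B₀ (B₀ ⊗[A₀] A) := by
    intro i
    refine RingHom.ext fun b => ?_
    change (Algebra.TensorProduct.map (AlgHom.id B₀ B₀) (g i)) (algebraMap B₀ _ b) = _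
    rw [AlgHom.commutes]
  have h2 : Synt.IsSyntomic (B₀ ⊗[A₀] A) (Synt.RelGCIRing (B₀ ⊗[A₀] A) n r
      (fun m => MvPolynomial.map (S.a j₀) (mapPoly B₀ (B₀ ⊗[A₀] G j₀) hh m))) := by
    have : (fun m => MvPolynomial.map (S.a j₀) (mapPoly B₀ (B₀ ⊗[A₀] G j₀) hh m)) =
        mapPoly B₀ (B₀ ⊗[A₀] A) hh := by
      funext m
      rw [mapPoly, MvPolynomial.map_map, hcomp]
      rfl
    rw [this]
    exact h1
  obtain ⟨l, τ, ⟨φ, hφ, rfl⟩, h3⟩ := S.exists_stage_isSyntomic j₀ (mapPoly B₀ (B₀ ⊗[A₀] G j₀) hh) h2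
  refine ⟨l, ?_⟩
  rw [isSyntomic_tensor_iff e₀ (B₀ ⊗[A₀] G l)]
  have : mapPoly B₀ (B₀ ⊗[A₀] G l) hh = fun m => MvPolynomial.map
      (Algebra.TensorProduct.map (AlgHom.id B₀ B₀) φ).toRingHom
      (mapPoly B₀ (B₀ ⊗[A₀] G j₀) hh m) := by
    have hc2 : (Algebra.TensorProduct.map (AlgHom.id B₀ B₀) φ).toRingHom.comp
        (algebraMap B₀ (B₀ ⊗[A₀] G j₀)) = algebraMap B₀ (B₀ ⊗[A₀] G l) := by
      refine RingHom.ext fun b => ?_
      change (Algebra.TensorProduct.map (AlgHom.id B₀ B₀) φ) (algebraMap B₀ _ b) = _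
      rw [AlgHom.commutes]
    funext m
    rw [mapPoly, mapPoly, MvPolynomial.map_map, hc2]
  rw [this]
  exact h3

end Groth.Agent.S9423
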