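import Groth.Statements.S9425
import Groth.Agent.S9424
-- import your own Groth.Agent.* helpers here

set_option autoImplicit false
universe u
open CAlg

namespace Groth.Agent.S9425

/-- A directed colimit of formally étale R-algebras is formally étale over R. The colimit is encoded by
compatible R-algebra maps S_i → S which are jointly surjective and whose kernels die further along
the system. -/
theorem result {ι : Type u} [Preorder ι] [IsDirected ι (· ≤ ·)] [Nonempty ι]
    (R : Type u) [CommRing R] (G : ι → Type u) [∀ i, CommRing (G i)] [∀ i, Algebra R (G i)]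
    (f : ∀ i j, i ≤ j → (G i →ₐ[R] G j)) (S : Type u) [CommRing S] [Algebra R S]
    (g : ∀ i, G i →ₐ[R] S) (hg : ∀ i j (h : i ≤ j), (g j).comp (f i j h) = g i)
    (hsurj : ∀ s : S, ∃ i, ∃ x : G i, g i x = s)
    (hker : ∀ i (x : G i), g i x = 0 → ∃ j, ∃ h : i ≤ j, f i j h x = 0)
    (h : ∀ i, Algebra.FormallyEtale R (G i)) : Algebra.FormallyEtale R S := by
  have hunr : Algebra.FormallyUnramified R S :=
    Groth.Agent.S9424.result R G f S g hg hsurj hker (fun i => inferInstance)
  rw [Algebra.FormallyEtale.iff_comp_bijective]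
  intro B _ _ I hI
  refine ⟨Algebra.FormallyUnramified.comp_injective I hI, ?_⟩
  intro ψ
  have hl : ∀ i, ∃ φi : G i →ₐ[R] B, (Ideal.Quotient.mkₐ R I).comp φi = ψ.comp (g i) := fun i =>
    Algebra.FormallySmooth.comp_surjective R (G i) I hI (ψ.comp (g i))
  choose φ hφ using hl
  have hcompat : ∀ i j (h : i ≤ j), (φ j).comp (f i j h) = φ i := by
    intro i j h
    apply Algebra.FormallyUnramified.comp_injective I hI
    rw [← AlgHom.comp_assoc, hφ, hφ, AlgHom.comp_assoc, hg]
  have hcompat' : ∀ i j (h : i ≤ j) (x : G i), φ j (f i j h x) = φ i x := fun i j h x =>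
    AlgHom.congr_fun (hcompat i j h) x
  have hg' : ∀ i j (h : i ≤ j) (x : G i), g j (f i j h x) = g i x := fun i j h x =>
    AlgHom.congr_fun (hg i j h) x
  have hwd : ∀ i j (x : G i) (y : G j), g i x = g j y → φ i x = φ j y := by
    intro i j x y hxy
    obtain ⟨k, hik, hjk⟩ := exists_ge_ge i j
    have h0 : g k (f i k hik x - f j k hjk y) = 0 := by
      rw [map_sub, hg', hg', hxy, sub_self]
    obtain ⟨l, hkl, hl⟩ := hker k _ h0
    rw [map_sub, sub_eq_zero] at hl
    rw [← hcompat' i k hik x, ← hcompat' k l hkl, hl, hcompat', hcompat']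
  let φS : S → B := fun s => φ (hsurj s).choose ((hsurj s).choose_spec.choose)
  have hφS : ∀ i (x : G i), φS (g i x) = φ i x := by
    intro i x
    exact hwd _ _ _ _ ((hsurj (g i x)).choose_spec.choose_spec)
  have hpair : ∀ s t : S, ∃ k, ∃ x y : G k, g k x = s ∧ g k y = t := by
    intro s t
    obtain ⟨i, x, rfl⟩ := hsurj s
    obtain ⟨j, y, rfl⟩ := hsurj t
    obtain ⟨k, hik, hjk⟩ := exists_ge_ge i j
    exact ⟨k, f i k hik x, f j k hjk y, hg' _ _ _ _, hg' _ _ _ _⟩
  obtain ⟨i₀⟩ := ‹Nonempty ι›
  let Φ : S →ₐ[R] B :=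
    { toFun := φS
      map_one' := by
        have := hφS i₀ 1
        rw [map_one, map_one] at this
        exact this
      map_mul' := by
        intro s t
        obtain ⟨k, x, y, rfl, rfl⟩ := hpair s t
        rw [← map_mul, hφS, hφS, hφS, map_mul]
      map_zero' := by
        have := hφS i₀ 0
        rw [map_zero, map_zero] at this
        exact this
      map_add' := by
        intro s t
        obtain ⟨k, x, y, rfl, rfl⟩ := hpair s t
        rw [← map_add, hφS, hφS, hφS, map_add]
      commutes' := by
        intro r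
        have := hφS i₀ (algebraMap R (G i₀) r)
        rw [AlgHom.commutes, AlgHom.commutes] at this
        exact this }
  refine ⟨Φ, ?_⟩
  ext s
  obtain ⟨i, x, rfl⟩ := hsurj s
  have := AlgHom.congr_fun (hφ i) x
  simp only [AlgHom.comp_apply] at this ⊢
  rw [← this]
  congr 1
  exact hφS i x

end Groth.Agent.S9425
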