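import Groth.Statements.S9426
-- import your own Groth.Agent.* helpers here

set_option autoImplicit false
universe u
open OmegaSh

namespace Groth.Agent.S9426

open MvPolynomial

lemma exists_g (R : Type u) [CommRing R] (S : Type u) [CommRing S] [Algebra R S]
    [Algebra.FormallyUnramified R S] [DecidableEq S] (i : S) :
    ∃ g : MvPolynomial S R, g ∈ RingHom.ker (aeval id : MvPolynomial S R →ₐ[R] S) ∧
      ∀ j, (aeval id : MvPolynomial S R →ₐ[R] S) (pderiv j g) = if i = j then 1 else 0 := by
  let G := Algebra.Generators.self R S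
  have hex := G.toExtension.exact_cotangentComplex_toKaehler
  obtain ⟨c, hc⟩ := (hex (G.cotangentSpaceBasis i)).mp (Subsingleton.elim _ _)
  obtain ⟨x, rfl⟩ := Algebra.Extension.Cotangent.mk_surjective c
  refine ⟨x.1, ?_, fun j => ?_⟩
  · have := x.2
    rw [RingHom.mem_ker]
    exact (RingHom.mem_ker.mp this)
  · have := congr(G.cotangentSpaceBasis.repr $hc j)
    rw [Algebra.Extension.cotangentComplex_mk,
      Algebra.Generators.cotangentSpaceBasis_repr_one_tmul] at this
    simp only [Module.Basis.repr_self, Finsupp.single_apply] at this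
    exact this

lemma der_eq_zero {R : Type u} [CommRing R] {σ : Type u} {M : Type*} [AddCommGroup M]
    [Module (MvPolynomial σ R) M] [Module R M] [IsScalarTower R (MvPolynomial σ R) M]
    (D : Derivation R (MvPolynomial σ R) M) (J : Ideal (MvPolynomial σ R))
    (hJ : ∀ x ∈ J, ∀ m : M, x • m = 0) (p : MvPolynomial σ R) (hp : ∀ j, pderiv j p ∈ J) :
    D p = 0 := by
  have h1 : KaehlerDifferential.D R (MvPolynomial σ R) p =
      ((KaehlerDifferential.mvPolynomialBasis R σ).repr
        (KaehlerDifferential.D R (MvPolynomial σ R) p)).sum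
        fun j r => r • KaehlerDifferential.D R (MvPolynomial σ R) (X j) := by
    conv_lhs => rw [← (KaehlerDifferential.mvPolynomialBasis R σ).linearCombination_repr
      (KaehlerDifferential.D R (MvPolynomial σ R) p)]
    simp [Finsupp.linearCombination_apply]
  rw [← D.liftKaehlerDifferential_comp_D, h1, map_finsuppSum]
  apply Finset.sum_eq_zero
  intro j _
  beta_reduce
  rw [map_smul, KaehlerDifferential.mvPolynomialBasis_repr_apply]
  exact hJ _ (hp j) _

/-- A formally unramified R-algebra S admits a universal first order thickening: an R-algebra surjection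
S' → S with square-zero kernel through which every R-algebra map from S into a square-zero quotient
A/I lifts uniquely to A. -/
theorem result (R : Type u) [CommRing R]
    (S : Type u) [CommRing S] [Algebra R S] [Algebra.FormallyUnramified R S] :
    ∃ (S' : Type u) (_ : CommRing S') (_ : Algebra R S') (π : S' →ₐ[R] S),
      OmegaSh.IsUnivThickeningRing R S S' π := by
  classical
  obtain ⟨φ, hφdef⟩ : ∃ φ : MvPolynomial S R →ₐ[R] S, φ = aeval id := ⟨_, rfl⟩
  have hφX : ∀ s, φ (X s) = s := fun s => by simp [hφdef]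
  have hφ : Function.Surjective φ := fun s => ⟨X s, hφX s⟩
  have hex := exists_g R S
  rw [← hφdef] at hex
  choose g hgJ hgd using hex
  obtain ⟨J, hJdef⟩ : ∃ J : Ideal (MvPolynomial S R), J = RingHom.ker φ := ⟨_, rfl⟩
  rw [← hJdef] at hgJ
  obtain ⟨J', hJ'def⟩ : ∃ J' : Ideal (MvPolynomial S R), J' = J ^ 2 ⊔ Ideal.span (Set.range g) :=
    ⟨_, rfl⟩
  have hJ'J : J' ≤ J := by
    rw [hJ'def]
    refine sup_le (Ideal.pow_le_self two_ne_zero) (Ideal.span_le.mpr ?_)
    rintro _ ⟨i, rfl⟩
    exact hgJ i
  have hJ2 : J ^ 2 ≤ J' := hJ'def ▸ le_sup_left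
  have hgJ' : ∀ i, g i ∈ J' := fun i => hJ'def ▸
    (le_sup_right : Ideal.span (Set.range g) ≤ _) (Ideal.subset_span ⟨i, rfl⟩)
  have hker : ∀ x ∈ J', φ x = 0 := fun x hx => by
    have := hJ'J hx
    rwa [hJdef, RingHom.mem_ker] at this
  let π : (MvPolynomial S R ⧸ J') →ₐ[R] S := Ideal.Quotient.liftₐ J' φ hker
  have hπmk : ∀ x, π (Ideal.Quotient.mk J' x) = φ x := fun x => rfl
  have hkerπ : RingHom.ker π.toRingHom = J.map (Ideal.Quotient.mk J') := by
    ext x
    obtain ⟨x, rfl⟩ := Ideal.Quotient.mk_surjective x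
    rw [RingHom.mem_ker]
    constructor
    · intro hx
      exact Ideal.mem_map_of_mem _ (by rw [hJdef, RingHom.mem_ker]; exact hx)
    · intro hx
      rw [Ideal.mem_map_iff_of_surjective _ Ideal.Quotient.mk_surjective] at hx
      obtain ⟨y, hy, hxy⟩ := hx
      show φ x = 0
      have h1 : φ y = 0 := by rwa [hJdef, RingHom.mem_ker] at hy
      have h2 : x - y ∈ J' := by
        rw [← Ideal.Quotient.eq]; exact hxy.symm
      have h3 := hker _ h2
      rw [map_sub, h1, sub_zero] at h3
      exact h3
  refine ⟨MvPolynomial S R ⧸ J', inferInstance, inferInstance, π, ?_, ?_, ?_⟩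
  · exact Ideal.Quotient.lift_surjective_of_surjective _ _ hφ
  · rw [hkerπ, ← Ideal.map_pow, Ideal.map_eq_bot_iff_le_ker, Ideal.mk_ker]
    exact hJ2
  · intro A _ _ I hI a
    choose b₀ hb₀ using fun s => Ideal.Quotient.mk_surjective (a s)
    obtain ⟨β₀, hβ₀def⟩ : ∃ β₀ : MvPolynomial S R →ₐ[R] A, β₀ = aeval b₀ := ⟨_, rfl⟩
    have hβ₀ : (Ideal.Quotient.mkₐ R I).comp β₀ = a.comp φ := by
      apply MvPolynomial.algHom_ext
      intro i
      simp [hβ₀def, hφX, hb₀]
    have hβ₀' : ∀ x, Ideal.Quotient.mk I (β₀ x) = a (φ x) := fun x => congr($hβ₀ x)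
    have hβJ : ∀ x ∈ J, β₀ x ∈ I := by
      intro x hx
      rw [← Ideal.Quotient.eq_zero_iff_mem, hβ₀']
      rw [hJdef, RingHom.mem_ker] at hx
      rw [hx, map_zero]
    letI : Algebra (MvPolynomial S R) A := β₀.toRingHom.toAlgebra
    haveI : IsScalarTower R (MvPolynomial S R) A :=
      IsScalarTower.of_algebraMap_eq' β₀.comp_algebraMap.symm
    have halg : ∀ x, algebraMap (MvPolynomial S R) A x = β₀ x := fun x => rfl
    have hJI : ∀ x ∈ J, ∀ m : I, x • m = 0 := by
      intro x hx m
      ext
      show β₀ x * m = 0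
      have : β₀ x * m ∈ I ^ 2 := by
        rw [pow_two]; exact Ideal.mul_mem_mul (hβJ x hx) m.2
      rwa [hI] at this
    -- derivations are determined on `g i` by their value on `X i`
    have hDg : ∀ (D : Derivation R (MvPolynomial S R) I) (i : S), D (g i) = D (X i) := by
      intro D i
      have := der_eq_zero D J hJI (g i - X i) (fun j => by
        rw [hJdef, RingHom.mem_ker, map_sub, map_sub, hgd, pderiv_X, Pi.single_apply]
        by_cases hij : i = j
        · simp [hij]
        · simp [hij])
      rwa [map_sub, sub_eq_zero] at this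
    -- the candidate derivation
    obtain ⟨D, hDdef⟩ : ∃ D : Derivation R (MvPolynomial S R) I,
        D = mkDerivation R (fun i => -(⟨β₀ (g i), hβJ _ (hgJ i)⟩ : I)) := ⟨_, rfl⟩
    have hDX : ∀ i, (D (X i) : A) = - β₀ (g i) := fun i => by
      rw [hDdef, mkDerivation_X]; rfl
    obtain ⟨β, hβdef⟩ : ∃ β : MvPolynomial S R →ₐ[R] A, β = liftOfDerivationToSquareZero I hI D :=
      ⟨_, rfl⟩
    have hβapp : ∀ x, β x = D x + β₀ x := fun x => by
      rw [hβdef, liftOfDerivationToSquareZero_apply, halg]
    -- any lift of `a ∘ φ` kills `J ^ 2`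
    have hsq : ∀ β' : MvPolynomial S R →ₐ[R] A, (∀ x, Ideal.Quotient.mk I (β' x) = a (φ x)) →
        J ^ 2 ≤ RingHom.ker β' := by
      intro β' h'
      have h1 : J ≤ I.comap β' := fun x hx => by
        rw [Ideal.mem_comap, ← Ideal.Quotient.eq_zero_iff_mem, h']
        rw [hJdef, RingHom.mem_ker] at hx
        rw [hx, map_zero]
      calc J ^ 2 ≤ (I.comap β') ^ 2 := Ideal.pow_right_mono h1 2
        _ ≤ (I ^ 2).comap β' := Ideal.le_comap_pow _ _
        _ = RingHom.ker β' := by rw [hI]; rfl
    have hβmk : ∀ x, Ideal.Quotient.mk I (β x) = a (φ x) := fun x => by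
      rw [hβapp, map_add, Ideal.Quotient.eq_zero_iff_mem.mpr (D x).2, zero_add, hβ₀']
    have hβker : ∀ x ∈ J', β x = 0 := by
      intro x hx
      have : J' ≤ RingHom.ker β := by
        rw [hJ'def]
        refine sup_le (hsq β hβmk) (Ideal.span_le.mpr ?_)
        rintro _ ⟨i, rfl⟩
        show β (g i) = 0
        rw [hβapp, hDg, hDX, neg_add_cancel]
      exact this hx
    refine ⟨Ideal.Quotient.liftₐ J' β hβker, ?_, ?_⟩
    · apply Ideal.Quotient.algHom_ext
      apply AlgHom.ext
      intro x
      exact hβmk x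
    · intro a'' ha''
      apply Ideal.Quotient.algHom_ext
      apply AlgHom.ext
      intro x
      show a'' (Ideal.Quotient.mk J' x) = β x
      obtain ⟨β'', hβ''def⟩ : ∃ β'' : MvPolynomial S R →ₐ[R] A,
        β'' = a''.comp (Ideal.Quotient.mkₐ R J') := ⟨_, rfl⟩
      have hβ''mk : ∀ x, Ideal.Quotient.mk I (β'' x) = a (φ x) := fun x => by
        rw [hβ''def]
        exact congr($ha'' (Ideal.Quotient.mk J' x))
      have e'' : (Ideal.Quotient.mkₐ R I).comp β'' =
          IsScalarTower.toAlgHom R (MvPolynomial S R) (A ⧸ I) := by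
        apply AlgHom.ext
        intro x
        show Ideal.Quotient.mk I (β'' x) = Ideal.Quotient.mk I (β₀ x)
        rw [hβ''mk, hβ₀']
      obtain ⟨D'', hD''def⟩ : ∃ D'' : Derivation R (MvPolynomial S R) I,
          D'' = derivationToSquareZeroOfLift I hI β'' e'' := ⟨_, rfl⟩
      have hD''app : ∀ x, (D'' x : A) = β'' x - β₀ x := fun x => by
        rw [hD''def, derivationToSquareZeroOfLift_apply, halg]
      have hβ''g : ∀ i, β'' (g i) = 0 := fun i => by
        rw [hβ''def]
        show a'' (Ideal.Quotient.mk J' (g i)) = 0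
        rw [Ideal.Quotient.eq_zero_iff_mem.mpr (hgJ' i), map_zero]
      have hDD : D'' = D := by
        apply MvPolynomial.derivation_ext
        intro i
        apply Subtype.ext
        rw [← hDg D'' i, hD''app, hβ''g, zero_sub, hDX]
      have : β'' x = β x := by
        have := hD''app x
        rw [hDD] at this
        rw [hβapp, this]; ring
      rw [← this, hβ''def]
      rfl

end Groth.Agent.S9426
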