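import Groth.Statements.S9427
-- import your own Groth.Agent.* helpers here

set_option autoImplicit false
universe u
open OmegaSh

namespace Groth.Agent.S9427

open TensorProduct

section
variable {A B B' : Type u} [CommRing A] [CommRing B] [CommRing B'] [Algebra A B] [Algebra A B']
  [Algebra B' B] [IsScalarTower A B' B]

/-- the universal property, reformulated with a surjection `ρ : C → B` with square-zero kernel. -/
theorem L0 (h : OmegaSh.IsUnivThickeningRing A B B' (IsScalarTower.toAlgHom A B' B))
    (C : Type u) [CommRing C] [Algebra A C] (ρ : C →ₐ[A] B) (hρ : Function.Surjective ρ)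
    (hsq : ∀ c c' : C, ρ c = 0 → ρ c' = 0 → c * c' = 0) :
    ∃! a' : B' →ₐ[A] C, ρ.comp a' = IsScalarTower.toAlgHom A B' B := by
  have hI : (RingHom.ker ρ) ^ 2 = ⊥ := by
    rw [pow_two, eq_bot_iff, Ideal.mul_le]
    intro c hc c' hc'
    rw [Ideal.mem_bot]
    exact hsq c c' hc hc'
  have key : ∀ a' : B' →ₐ[A] C,
      (Ideal.Quotient.mkₐ A (RingHom.ker ρ)).comp a' =
        ((Ideal.quotientKerAlgEquivOfSurjective hρ).symm : B →ₐ[A] _).comp
          (IsScalarTower.toAlgHom A B' B) ↔ ρ.comp a' = IsScalarTower.toAlgHom A B' B := by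
    intro a'
    constructor
    · intro e
      apply AlgHom.ext
      intro b
      have := congr((Ideal.quotientKerAlgEquivOfSurjective hρ) ($e b))
      simpa using this
    · intro e
      apply AlgHom.ext
      intro b
      apply (Ideal.quotientKerAlgEquivOfSurjective hρ).injective
      have := congr($e b)
      simpa using this
  obtain ⟨a', ha', hu⟩ := h.2.2 C (RingHom.ker ρ) hI
    ((Ideal.quotientKerAlgEquivOfSurjective hρ).symm : B →ₐ[A] _)
  exact ⟨a', (key a').mp ha', fun y hy => hu y ((key y).mpr hy)⟩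

open TrivSqZeroExt in
theorem key (h : OmegaSh.IsUnivThickeningRing A B B' (IsScalarTower.toAlgHom A B' B))
    (X : Type u) [AddCommGroup X] [Module B' X]
    (hNX : ∀ n : B', algebraMap B' B n = 0 → ∀ x : X, n • x = 0)
    (δ : A →+ X)
    (hδ : ∀ a a', δ (a * a') = algebraMap A B' a • δ a' + algebraMap A B' a' • δ a) :
    ∃! D : B' →+ X, (∀ b b', D (b * b') = b • D b' + b' • D b) ∧
      ∀ a, D (algebraMap A B' a) = δ a := by
  letI : Module B'ᵐᵒᵖ X :=
    Module.compHom X ((RingHom.id B').fromOpposite fun _ _ => mul_comm _ _)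
  haveI : IsCentralScalar B' X := ⟨fun r x => rfl⟩
  have hδ1 : δ 1 = 0 := by
    have := hδ 1 1
    simp only [mul_one, map_one, one_smul] at this
    exact left_eq_add.mp this
  let ψ : A →+* TrivSqZeroExt B' X :=
    { toFun := fun a => inl (algebraMap A B' a) + inr (δ a)
      map_one' := by ext <;> simp [hδ1]
      map_mul' := fun a a' => by
        ext
        · simp
        · simp [hδ, add_comm]
      map_zero' := by ext <;> simp
      map_add' := fun a a' => by
        ext
        · simp
        · simp }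
  have hψfst : ∀ a, fst (ψ a) = algebraMap A B' a := fun a => by simp [ψ]
  have hψsnd : ∀ a, snd (ψ a) = δ a := fun a => by simp [ψ]
  letI : Algebra A (TrivSqZeroExt B' X) := ψ.toAlgebra
  let fstR : TrivSqZeroExt B' X →+* B' :=
    { toFun := fst, map_one' := fst_one, map_mul' := fst_mul, map_zero' := fst_zero (M := X),
      map_add' := fst_add }
  let ρ : TrivSqZeroExt B' X →ₐ[A] B :=
    { toRingHom := (algebraMap B' B).comp fstR
      commutes' := fun a => by
        show algebraMap B' B (fst (ψ a)) = algebraMap A B a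
        rw [hψfst, ← IsScalarTower.algebraMap_apply] }
  have hρapp : ∀ c, ρ c = algebraMap B' B (fst c) := fun c => rfl
  have hπ : Function.Surjective (algebraMap B' B) := h.1
  have hρ : Function.Surjective ρ := fun b => by
    obtain ⟨b', rfl⟩ := hπ b
    exact ⟨inl b', by rw [hρapp, fst_inl]⟩
  have hN2 : ∀ n n' : B', algebraMap B' B n = 0 → algebraMap B' B n' = 0 → n * n' = 0 := by
    intro n n' hn hn'
    have h2 := h.2.1
    rw [pow_two, eq_bot_iff, Ideal.mul_le] at h2
    exact (Ideal.mem_bot).mp (h2 n hn n' hn')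
  have hsq : ∀ c c' : TrivSqZeroExt B' X, ρ c = 0 → ρ c' = 0 → c * c' = 0 := by
    intro c c' hc hc'
    rw [hρapp] at hc hc'
    ext
    · rw [fst_mul, fst_zero]; exact hN2 _ _ hc hc'
    · rw [snd_mul, snd_zero, hNX _ hc, op_smul_eq_smul, hNX _ hc', add_zero]
  obtain ⟨a', ha', hu⟩ := L0 h (TrivSqZeroExt B' X) ρ hρ hsq
  have ha'app : ∀ b, algebraMap B' B (fst (a' b)) = algebraMap B' B b := fun b => congr($ha' b)
  let fstA : TrivSqZeroExt B' X →ₐ[A] B' := { toRingHom := fstR, commutes' := hψfst }
  have hfst : ∀ b, fst (a' b) = b := by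
    obtain ⟨φ, -, hφu⟩ := L0 h B' (IsScalarTower.toAlgHom A B' B) hπ hN2
    have h1 : fstA.comp a' = φ := hφu _ (by
      apply AlgHom.ext; intro b; exact ha'app b)
    have h2 : AlgHom.id A B' = φ := hφu _ (by apply AlgHom.ext; intro b; rfl)
    intro b
    exact congr($(h1.trans h2.symm) b)
  have hcomm : ∀ a, a' (algebraMap A B' a) = ψ a := fun a => a'.commutes a
  refine ⟨{ toFun := fun b => snd (a' b), map_zero' := by simp, map_add' := by simp }, ⟨?_, ?_⟩, ?_⟩
  · intro b b'
    show snd (a' (b * b')) = b • snd (a' b') + b' • snd (a' b)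
    rw [map_mul, snd_mul, hfst, hfst, op_smul_eq_smul]
  · intro a
    show snd (a' (algebraMap A B' a)) = δ a
    rw [hcomm, hψsnd]
  · rintro D₁ ⟨hD₁, hD₁a⟩
    have hD₁1 : D₁ 1 = 0 := by
      have := hD₁ 1 1
      simp only [mul_one, one_smul] at this
      exact left_eq_add.mp this
    let f₁ : B' →ₐ[A] TrivSqZeroExt B' X :=
      { toFun := fun b => inl b + inr (D₁ b)
        map_one' := by ext <;> simp [hD₁1]
        map_mul' := fun b b' => by
          ext
          · simp
          · simp [hD₁, add_comm]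
        map_zero' := by ext <;> simp
        map_add' := fun b b' => by ext <;> simp
        commutes' := fun a => by
          show inl (algebraMap A B' a) + inr (D₁ (algebraMap A B' a)) = ψ a
          rw [hD₁a]; rfl }
    have hf₁ : f₁ = a' := hu f₁ (by
      apply AlgHom.ext; intro b
      show algebraMap B' B (fst (inl b + inr (D₁ b))) = algebraMap B' B b
      simp)
    ext b
    show D₁ b = snd (a' b)
    rw [← hf₁]
    show D₁ b = snd (inl b + inr (D₁ b))
    simp

theorem unram (h : OmegaSh.IsUnivThickeningRing A B B' (IsScalarTower.toAlgHom A B' B)) :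
    Subsingleton (Ω[B'⁄A]) := by
  obtain ⟨N, hNdef⟩ : ∃ N : Ideal B', N = RingHom.ker (algebraMap B' B) := ⟨_, rfl⟩
  have hN2 : N * N = ⊥ := by
    have h2 := h.2.1
    rw [pow_two] at h2
    rw [hNdef]; exact h2
  obtain ⟨W, hWdef⟩ : ∃ W : Submodule B' (Ω[B'⁄A]), W = N • ⊤ := ⟨_, rfl⟩
  have hNQ : ∀ n : B', algebraMap B' B n = 0 → ∀ x : (Ω[B'⁄A]) ⧸ W, n • x = 0 := by
    intro n hn x
    obtain ⟨y, rfl⟩ := Submodule.Quotient.mk_surjective W x
    rw [← Submodule.Quotient.mk_smul, Submodule.Quotient.mk_eq_zero, hWdef]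
    exact Submodule.smul_mem_smul (by rw [hNdef]; exact hn) trivial
  obtain ⟨D, -, hDu⟩ := key h ((Ω[B'⁄A]) ⧸ W) hNQ 0 (by simp)
  have h1 : (W.mkQ.toAddMonoidHom.comp (KaehlerDifferential.D A B').toAddMonoidHom) = D :=
    hDu _ ⟨fun b b' => by simp, fun a => by simp⟩
  have h2 : (0 : B' →+ (Ω[B'⁄A]) ⧸ W) = D := hDu _ ⟨fun b b' => by simp, fun a => by simp⟩
  have h3 : ∀ b, KaehlerDifferential.D A B' b ∈ W := fun b => by
    have := congr($(h1.trans h2.symm) b)
    exact (Submodule.Quotient.mk_eq_zero W).mp this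
  have h4 : (⊤ : Submodule B' (Ω[B'⁄A])) ≤ W := by
    rw [← KaehlerDifferential.span_range_derivation, Submodule.span_le]
    rintro _ ⟨b, rfl⟩
    exact h3 b
  have h5 : W = ⊥ := by
    have hW : W = ⊤ := top_le_iff.mp h4
    have : W = N • W := by rw [hW, ← hWdef, hW]
    rw [this, hWdef, ← Submodule.mul_smul, hN2, Submodule.bot_smul]
  have h6 : (⊤ : Submodule B' (Ω[B'⁄A])) = ⊥ := le_antisymm (h5 ▸ h4) bot_le
  exact ⟨fun x y => by
    have hx : x - y ∈ (⊤ : Submodule B' (Ω[B'⁄A])) := trivial
    rw [h6, Submodule.mem_bot, sub_eq_zero] at hx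
    exact hx⟩

end

/-- Let R → A → B be ring maps with A → B formally unramified, and let B' → B be a universal first order
thickening of B relative to A (B a B'-algebra through it). Then A → B' is formally unramified, and
base changing to B the natural B'-linear map B' ⊗_A Ω_{A/R} → Ω_{B'/R} gives a bijection B ⊗_{B'}
(B' ⊗_A Ω_{A/R}) → B ⊗_{B'} Ω_{B'/R}. -/
theorem result
    (R : Type u) [CommRing R] (A : Type u) [CommRing A] [Algebra R A] (B : Type u) [CommRing B]
    [Algebra A B] [Algebra.FormallyUnramified A B] (B' : Type u) [CommRing B'] [Algebra A B']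
    [Algebra R B'] [IsScalarTower R A B'] [Algebra B' B] [IsScalarTower A B' B]
    (h : OmegaSh.IsUnivThickeningRing A B B' (IsScalarTower.toAlgHom A B' B)) :
    Algebra.FormallyUnramified A B' ∧
      Function.Bijective ((KaehlerDifferential.mapBaseChange R A B').baseChange B) := by
  have hsub : Subsingleton (Ω[B'⁄A]) := unram h
  refine ⟨⟨hsub⟩, ?_, ?_⟩
  · -- injectivity: construct a retraction
    have hNX : ∀ n : B', algebraMap B' B n = 0 →
        ∀ x : B ⊗[B'] (B' ⊗[A] Ω[A⁄R]), n • x = 0 := by
      intro n hn x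
      induction x using TensorProduct.induction_on with
      | zero => simp
      | tmul b y => rw [TensorProduct.smul_tmul', Algebra.smul_def, hn, zero_mul, zero_tmul]
      | add x y hx hy => rw [smul_add, hx, hy, add_zero]
    let δ : A →+ B ⊗[B'] (B' ⊗[A] Ω[A⁄R]) :=
      { toFun := fun a => (1 : B) ⊗ₜ[B'] ((1 : B') ⊗ₜ[A] KaehlerDifferential.D R A a)
        map_zero' := by simp
        map_add' := fun a a' => by simp [tmul_add] }
    have hδapp : ∀ a, δ a = (1 : B) ⊗ₜ[B'] ((1 : B') ⊗ₜ[A] KaehlerDifferential.D R A a) :=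
      fun a => rfl
    have hsm : ∀ (a : A) (w : Ω[A⁄R]), algebraMap A B' a • ((1 : B) ⊗ₜ[B'] ((1 : B') ⊗ₜ[A] w)) =
        (1 : B) ⊗ₜ[B'] ((1 : B') ⊗ₜ[A] (a • w)) := by
      intro a w
      calc algebraMap A B' a • ((1 : B) ⊗ₜ[B'] ((1 : B') ⊗ₜ[A] w))
          = (1 : B) ⊗ₜ[B'] (algebraMap A B' a • ((1 : B') ⊗ₜ[A] w)) :=
            (TensorProduct.tmul_smul _ _ _).symm
        _ = (1 : B) ⊗ₜ[B'] ((algebraMap A B' a • (1 : B')) ⊗ₜ[A] w) := by
            rw [TensorProduct.smul_tmul']
        _ = (1 : B) ⊗ₜ[B'] ((a • (1 : B')) ⊗ₜ[A] w) := by rw [algebraMap_smul]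
        _ = (1 : B) ⊗ₜ[B'] ((1 : B') ⊗ₜ[A] (a • w)) := by rw [TensorProduct.smul_tmul]
    have hδ : ∀ a a', δ (a * a') = algebraMap A B' a • δ a' + algebraMap A B' a' • δ a := by
      intro a a'
      rw [hδapp, hδapp, hδapp, hsm, hsm, Derivation.leibniz, tmul_add, tmul_add]
    obtain ⟨D, ⟨hD, hDa⟩, -⟩ := key h _ hNX δ hδ
    letI : Module R (B ⊗[B'] (B' ⊗[A] Ω[A⁄R])) := Module.compHom _ (algebraMap R B')
    haveI : IsScalarTower R B' (B ⊗[B'] (B' ⊗[A] Ω[A⁄R])) := ⟨fun r b x => by
      show (r • b) • x = algebraMap R B' r • (b • x)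
      rw [Algebra.smul_def, mul_smul]⟩
    let Dd : Derivation R B' (B ⊗[B'] (B' ⊗[A] Ω[A⁄R])) :=
      { toFun := D
        map_add' := D.map_add
        map_smul' := fun r b => by
          show D (r • b) = algebraMap R B' r • D b
          rw [Algebra.smul_def, IsScalarTower.algebraMap_apply R A B', hD, hDa, hδapp,
            Derivation.map_algebraMap, tmul_zero, tmul_zero, smul_zero, add_zero]
        map_one_eq_zero' := by
          show D 1 = 0
          have := hD 1 1
          simp only [mul_one, one_smul] at this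
          exact left_eq_add.mp this
        leibniz' := fun b b' => hD b b' }
    have hDd : ∀ b, Dd b = D b := fun b => rfl
    let ρ : B ⊗[B'] Ω[B'⁄R] →ₗ[B] B ⊗[B'] (B' ⊗[A] Ω[A⁄R]) :=
      LinearMap.liftBaseChange B Dd.liftKaehlerDifferential
    have hρ : ∀ x, ρ ((KaehlerDifferential.mapBaseChange R A B').baseChange B x) = x := by
      intro x
      induction x using TensorProduct.induction_on with
      | zero => simp
      | add x y hx hy => rw [map_add, map_add, hx, hy]
      | tmul b y =>
        rw [LinearMap.baseChange_tmul, LinearMap.liftBaseChange_tmul]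
        induction y using TensorProduct.induction_on with
        | zero => simp
        | add x y hx hy => rw [map_add, map_add, smul_add, hx, hy, tmul_add]
        | tmul b' w =>
          rw [KaehlerDifferential.mapBaseChange_tmul, map_smul]
          have hw : w ∈ Submodule.span A (Set.range (KaehlerDifferential.D R A)) := by
            rw [KaehlerDifferential.span_range_derivation]; trivial
          induction hw using Submodule.span_induction generalizing b' with
          | mem w hw =>
            obtain ⟨a, rfl⟩ := hw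
            rw [KaehlerDifferential.map_D, Derivation.liftKaehlerDifferential_comp_D, hDd, hDa,
              hδapp]
            rw [← TensorProduct.tmul_smul, TensorProduct.smul_tmul' b', TensorProduct.smul_tmul' b,
              smul_eq_mul, mul_one, smul_eq_mul, mul_one]
          | zero => simp
          | add w w' _ _ hw hw' => rw [map_add, map_add, smul_add, smul_add, hw, hw', tmul_add, tmul_add]
          | smul c w _ hw =>
            rw [map_smul, ← algebraMap_smul B' c, map_smul, smul_smul, hw,
              ← TensorProduct.smul_tmul, Algebra.smul_def c b', mul_comm]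
    exact Function.LeftInverse.injective hρ
  · -- surjectivity
    have h1 : Function.Surjective (KaehlerDifferential.mapBaseChange R A B') := by
      rw [← LinearMap.range_eq_top, KaehlerDifferential.range_mapBaseChange, ← top_le_iff]
      exact fun x _ ↦ Subsingleton.elim _ _
    rw [LinearMap.baseChange_eq_ltensor]
    exact LinearMap.lTensor_surjective B h1

end Groth.Agent.S9427
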