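import Groth.Statements.S9428
-- import your own Groth.Agent.* helpers here

set_option autoImplicit false
universe u
open CAlg

namespace Groth.Agent.S9428

/-- If R → S is formally étale and J ⊆ S is an ideal with R → S/J surjective, I ⊆ R its kernel (the
preimage of J), then R/I^n → S/J^n is bijective for all n. (The published statement adds that the
associated graded rings are then isomorphic, which follows from these bijections.) -/
theorem result (R : Type u) [CommRing R] (S : Type u)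
    [CommRing S] [Algebra R S] [Algebra.FormallyEtale R S] (J : Ideal S)
    (hJ : Function.Surjective (algebraMap R (S ⧸ J))) (n : ℕ) :
    Function.Bijective (Ideal.quotientMap (J ^ n) (algebraMap R S)
      (le_of_le_of_eq (Ideal.le_comap_pow (algebraMap R S) n) rfl :
        (J.comap (algebraMap R S)) ^ n ≤ (J ^ n).comap (algebraMap R S))) := by
  rcases Nat.eq_zero_or_pos n with rfl | hn
  · have h1 : Subsingleton (S ⧸ J ^ 0) := by
      rw [Ideal.Quotient.subsingleton_iff, pow_zero, Ideal.one_eq_top]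
    have h2 : Subsingleton (R ⧸ (J.comap (algebraMap R S)) ^ 0) := by
      rw [Ideal.Quotient.subsingleton_iff, pow_zero, Ideal.one_eq_top]
    exact ⟨fun a b _ => Subsingleton.elim a b, fun b => ⟨0, Subsingleton.elim _ _⟩⟩
  set I := J.comap (algebraMap R S) with hI
  have hIJn : I ^ n ≤ (J ^ n).comap (Algebra.ofId R S) := Ideal.le_comap_pow (algebraMap R S) n
  let q : (R ⧸ I ^ n) →ₐ[R] (S ⧸ J ^ n) := Ideal.quotientMapₐ (J ^ n) (Algebra.ofId R S) hIJn
  suffices hq : Function.Bijective q from hq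
  let e₀ : (R ⧸ I) →ₐ[R] (S ⧸ J) := Ideal.quotientMapₐ J (Algebra.ofId R S) le_rfl
  have he₀ : Function.Bijective e₀ := by
    refine ⟨Ideal.quotientMap_injective, ?_⟩
    intro y
    obtain ⟨r, rfl⟩ := hJ y
    exact ⟨Ideal.Quotient.mk I r, rfl⟩
  let e := AlgEquiv.ofBijective e₀ he₀
  let ψ₀ : S →ₐ[R] R ⧸ I := e.symm.toAlgHom.comp (Ideal.Quotient.mkₐ R J)
  have hle : I ^ n ≤ I := Ideal.pow_le_self hn.ne'
  let gI : (R ⧸ I ^ n) →ₐ[R] (R ⧸ I) := Ideal.Quotient.factorₐ R hle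
  have hgI_surj : Function.Surjective gI := Ideal.Quotient.factor_surjective hle
  have hker_le : RingHom.ker (gI : (R ⧸ I ^ n) →+* (R ⧸ I)) ≤ I.map (Ideal.Quotient.mk (I ^ n)) := by
    intro x hx
    obtain ⟨r, rfl⟩ := Ideal.Quotient.mk_surjective x
    have : Ideal.Quotient.mk I r = 0 := hx
    rw [Ideal.Quotient.eq_zero_iff_mem] at this
    exact Ideal.mem_map_of_mem _ this
  have hgI_nil : IsNilpotent (RingHom.ker (gI : (R ⧸ I ^ n) →+* (R ⧸ I))) := by
    refine ⟨n, ?_⟩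
    rw [Ideal.zero_eq_bot, eq_bot_iff]
    refine (Ideal.pow_right_mono hker_le n).trans ?_
    rw [← Ideal.map_pow, Ideal.map_quotient_self]
  let ψ : S →ₐ[R] R ⧸ I ^ n := Algebra.FormallySmooth.liftOfSurjective ψ₀ gI hgI_surj hgI_nil
  have hψ : ∀ x, gI (ψ x) = ψ₀ x :=
    Algebra.FormallySmooth.liftOfSurjective_apply ψ₀ gI hgI_surj hgI_nil
  have hψJ : ∀ x ∈ J ^ n, ψ x = 0 := by
    have h1 : J ≤ (RingHom.ker (gI : (R ⧸ I ^ n) →+* (R ⧸ I))).comap ψ := by
      intro x hx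
      change gI (ψ x) = 0
      rw [hψ]
      change e.symm (Ideal.Quotient.mk J x) = 0
      rw [Ideal.Quotient.eq_zero_iff_mem.mpr hx, map_zero]
    have h2 : J ^ n ≤ ((RingHom.ker (gI : (R ⧸ I ^ n) →+* (R ⧸ I))) ^ n).comap ψ :=
      (Ideal.pow_right_mono h1 n).trans (Ideal.le_comap_pow _ n)
    obtain ⟨m, hm⟩ := hgI_nil
    intro x hx
    have h3 := h2 hx
    have h4 : (RingHom.ker (gI : (R ⧸ I ^ n) →+* (R ⧸ I))) ^ n = ⊥ := by
      rw [eq_bot_iff]
      refine (Ideal.pow_right_mono hker_le n).trans ?_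
      rw [← Ideal.map_pow, Ideal.map_quotient_self]
    rw [h4] at h3
    exact h3
  let ψbar : (S ⧸ J ^ n) →ₐ[R] (R ⧸ I ^ n) := Ideal.Quotient.liftₐ (J ^ n) ψ hψJ
  have hψbar : ∀ x : S, ψbar (Ideal.Quotient.mk (J ^ n) x) = ψ x := fun x => rfl
  -- ψbar ∘ q = id
  have h1 : ∀ y : R ⧸ I ^ n, ψbar (q y) = y := by
    intro y
    obtain ⟨r, rfl⟩ := Ideal.Quotient.mk_surjective y
    have e1 : Ideal.Quotient.mk (I ^ n) r = algebraMap R (R ⧸ I ^ n) r := rfl
    rw [e1, AlgHom.commutes, AlgHom.commutes]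
  -- q ∘ ψbar = id
  have hleJ : J ^ n ≤ J := Ideal.pow_le_self hn.ne'
  let pJ : (S ⧸ J ^ n) →ₐ[R] (S ⧸ J) := Ideal.Quotient.factorₐ R hleJ
  have hpJ_ker_le : RingHom.ker (pJ : (S ⧸ J ^ n) →+* (S ⧸ J)) ≤ J.map (Ideal.Quotient.mk (J ^ n)) := by
    intro x hx
    obtain ⟨r, rfl⟩ := Ideal.Quotient.mk_surjective x
    have : Ideal.Quotient.mk J r = 0 := hx
    rw [Ideal.Quotient.eq_zero_iff_mem] at this
    exact Ideal.mem_map_of_mem _ this
  have hpJ_nil : IsNilpotent (RingHom.ker (pJ : (S ⧸ J ^ n) →+* (S ⧸ J))) := by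
    refine ⟨n, ?_⟩
    rw [Ideal.zero_eq_bot, eq_bot_iff]
    refine (Ideal.pow_right_mono hpJ_ker_le n).trans ?_
    rw [← Ideal.map_pow, Ideal.map_quotient_self]
  have hpq : ∀ y : R ⧸ I ^ n, pJ (q y) = e₀ (gI y) := by
    intro y
    obtain ⟨r, rfl⟩ := Ideal.Quotient.mk_surjective y
    rfl
  have h2 : (q.comp ψbar).comp (Ideal.Quotient.mkₐ R (J ^ n)) = Ideal.Quotient.mkₐ R (J ^ n) := by
    apply Algebra.FormallyUnramified.lift_unique' pJ hpJ_nil
    ext x
    change pJ (q (ψbar (Ideal.Quotient.mk (J ^ n) x))) = pJ (Ideal.Quotient.mk (J ^ n) x)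
    rw [hψbar, hpq, hψ]
    change e₀ (e.symm (Ideal.Quotient.mk J x)) = Ideal.Quotient.mk J x
    exact e.apply_symm_apply _
  have h3 : ∀ z : S ⧸ J ^ n, q (ψbar z) = z := by
    intro z
    obtain ⟨x, rfl⟩ := Ideal.Quotient.mk_surjective z
    exact AlgHom.congr_fun h2 x
  exact ⟨Function.LeftInverse.injective h1, Function.RightInverse.surjective h3⟩

end Groth.Agent.S9428
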