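import Groth.Statements.S9430
import Mathlib
import Groth.Agent.Lib.Helper20.DimTrdeg
-- import your own Groth.Agent.* helpers here

set_option autoImplicit false
universe u
open Synt

namespace Groth.Agent.S9430

open Polynomial

section helpers

variable (k : Type u) [Field k]

/-- `B` has a presentation with `n` generators and `c` relations over `k`. -/
def Pres (B : Type u) [CommRing B] [Algebra k B] (n c : ℕ) : Prop :=
  ∃ (φ : MvPolynomial (Fin n) k →ₐ[k] B) (r : Fin c → MvPolynomial (Fin n) k),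
    Function.Surjective φ ∧ RingHom.ker φ.toRingHom = Ideal.span (Set.range r)

variable {k}

theorem pres_of_bij {B B' : Type u} [CommRing B] [Algebra k B] [CommRing B'] [Algebra k B']
    {n c : ℕ} (hB : Pres k B n c) (ψ : B →ₐ[k] B') (hψ : Function.Bijective ψ) :
    Pres k B' n c := by
  obtain ⟨φ, r, hs, hk⟩ := hB
  refine ⟨ψ.comp φ, r, hψ.2.comp hs, ?_⟩
  rw [← hk]
  ext x
  simp only [RingHom.mem_ker, AlgHom.toRingHom_eq_coe, RingHom.coe_coe, AlgHom.comp_apply]
  rw [← map_zero ψ]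
  exact hψ.1.eq_iff

theorem pres_of_surj {B B' : Type u} [CommRing B] [Algebra k B] [CommRing B'] [Algebra k B']
    {n c : ℕ} (hB : Pres k B n c) (ψ : B →ₐ[k] B') (hψ : Function.Surjective ψ) (p : B)
    (hp : RingHom.ker ψ.toRingHom = Ideal.span {p}) :
    Pres k B' n (c + 1) := by
  obtain ⟨φ, r, hs, hk⟩ := hB
  obtain ⟨p', rfl⟩ := hs p
  refine ⟨ψ.comp φ, Fin.cons p' r, hψ.comp hs, ?_⟩
  have h1 : RingHom.ker (ψ.comp φ).toRingHom = Ideal.comap φ.toRingHom (RingHom.ker ψ.toRingHom) := by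
    ext x
    simp [RingHom.mem_ker]
  have h2 : Ideal.span {φ p'} = Ideal.map φ.toRingHom (Ideal.span {p'}) := by
    rw [Ideal.map_span, Set.image_singleton]
    rfl
  rw [h1, hp, h2, Ideal.comap_map_of_surjective φ.toRingHom hs, Fin.range_cons,
    ← Set.singleton_union, Ideal.span_union]
  congr 1

theorem pres_poly {B : Type u} [CommRing B] [Algebra k B]
    {n c : ℕ} (hB : Pres k B n c) : Pres k (Polynomial B) (n + 1) c := by
  obtain ⟨φ, r, hs, hk⟩ := hB
  refine ⟨(Polynomial.mapAlgHom φ).comp (MvPolynomial.finSuccEquiv k n).toAlgHom,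
    fun i => (MvPolynomial.finSuccEquiv k n).symm (Polynomial.C (r i)), ?_, ?_⟩
  · intro y
    obtain ⟨z, hz⟩ := Polynomial.map_surjective φ.toRingHom hs y
    refine ⟨(MvPolynomial.finSuccEquiv k n).symm z, ?_⟩
    rw [AlgHom.comp_apply]
    change (Polynomial.mapAlgHom φ) ((MvPolynomial.finSuccEquiv k n)
      ((MvPolynomial.finSuccEquiv k n).symm z)) = y
    rw [AlgEquiv.apply_symm_apply]
    exact hz
  · have h1 : RingHom.ker ((Polynomial.mapAlgHom φ).comp
        (MvPolynomial.finSuccEquiv k n).toAlgHom).toRingHom =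
        Ideal.comap (MvPolynomial.finSuccEquiv k n).toRingEquiv
          (RingHom.ker (Polynomial.mapRingHom φ.toRingHom)) := by
      ext x
      simp [RingHom.mem_ker]
    rw [h1, Polynomial.ker_mapRingHom, hk, Ideal.map_span, ← Ideal.map_symm, Ideal.map_span]
    congr 1
    ext x
    simp only [Set.mem_image, Set.mem_range, exists_exists_eq_and]
    rfl

variable {K : Type u} [Field K] [Algebra k K]

/-- `A[t]` as a subalgebra of `K`. -/
noncomputable def ext (A : Subalgebra k K) (t : K) : Subalgebra k K :=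
  ((Polynomial.aeval t : Polynomial ↥A →ₐ[↥A] K).restrictScalars k).range

theorem mem_ext_iff {A : Subalgebra k K} {t x : K} :
    x ∈ ext A t ↔ ∃ q : Polynomial ↥A, Polynomial.aeval t q = x := by
  unfold ext
  rw [AlgHom.mem_range]
  rfl

theorem le_ext (A : Subalgebra k K) (t : K) : A ≤ ext A t := by
  intro a ha
  rw [mem_ext_iff]
  exact ⟨Polynomial.C ⟨a, ha⟩, by rw [Polynomial.aeval_C]; rfl⟩

theorem mem_ext (A : Subalgebra k K) (t : K) : t ∈ ext A t := by
  rw [mem_ext_iff]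
  exact ⟨Polynomial.X, Polynomial.aeval_X t⟩

theorem trdeg_alg {A A' : Subalgebra k K} (h : A ≤ A')
    (halg : ∀ x ∈ A', IsAlgebraic ↥A x) : Algebra.trdeg k ↥A' = Algebra.trdeg k ↥A := by
  letI : Algebra ↥A ↥A' := (Subalgebra.inclusion h).toAlgebra
  haveI : IsScalarTower k ↥A ↥A' :=
    IsScalarTower.of_algebraMap_eq fun x => ((Subalgebra.inclusion h).commutes x).symm
  haveI : IsScalarTower ↥A ↥A' K := IsScalarTower.of_algebraMap_eq fun x => rfl
  haveI : FaithfulSMul ↥A ↥A' :=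
    (faithfulSMul_iff_algebraMap_injective _ _).mpr (Subalgebra.inclusion_injective h)
  haveI : Algebra.IsAlgebraic ↥A ↥A' :=
    ⟨fun x => (isAlgebraic_algebraMap_iff (A := K) Subtype.val_injective).mp (halg x x.2)⟩
  have h1 := _root_.trdeg_add_eq k ↥A (A := ↥A')
  rw [_root_.trdeg_eq_zero (R := ↥A) (A := ↥A'), add_zero] at h1
  exact h1.symm

theorem ext_isAlgebraic {A : Subalgebra k K} {t : K} (ht : IsAlgebraic ↥A t) :
    ∀ x ∈ ext A t, IsAlgebraic ↥A x := by
  intro x hx
  rw [mem_ext_iff] at hx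
  obtain ⟨q, rfl⟩ := hx
  have h1 : (Algebra.adjoin ↥A {t}).IsAlgebraic := by
    rw [Algebra.isAlgebraic_adjoin_iff]
    intro y hy
    rw [Set.mem_singleton_iff] at hy
    rw [hy]; exact ht
  apply h1
  rw [Algebra.adjoin_singleton_eq_range_aeval]
  exact ⟨q, rfl⟩

theorem trans_step (A : Subalgebra k K) (t : K) (ht : Transcendental ↥A t) :
    Algebra.trdeg k ↥(ext A t) = Algebra.trdeg k ↥A + 1 ∧
      ∀ n c, Pres k ↥A n c → Pres k ↥(ext A t) (n + 1) c := by
  have hinj : Function.Injective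
      ((Polynomial.aeval t : Polynomial ↥A →ₐ[↥A] K).restrictScalars k) :=
    transcendental_iff_injective.mp ht
  constructor
  · have e := AlgEquiv.ofInjective _ hinj
    have h1 : Algebra.trdeg k ↥(ext A t) = Algebra.trdeg k (Polynomial ↥A) :=
      (AlgEquiv.trdeg_eq e).symm
    have h2 := _root_.trdeg_add_eq k ↥A (A := Polynomial ↥A)
    rw [Polynomial.trdeg_of_isDomain] at h2
    rw [h1, h2]
  · intro n c hA
    refine pres_of_bij (pres_poly hA)
      ((Polynomial.aeval t : Polynomial ↥A →ₐ[↥A] K).restrictScalars k).rangeRestrict ⟨?_, ?_⟩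
    · intro x y hxy
      apply hinj
      exact congrArg Subtype.val hxy
    · exact AlgHom.rangeRestrict_surjective _

theorem alg_step (A : Subalgebra k K) (t : K) (p : Polynomial ↥A) (hp0 : p ≠ 0)
    (hp : Polynomial.aeval t p = 0)
    (hmin : ∀ f : Polynomial ↥A, Polynomial.aeval t f = 0 → p ∣ f) :
    Algebra.trdeg k ↥(ext A t) = Algebra.trdeg k ↥A ∧
      ∀ n c, Pres k ↥A n c → Pres k ↥(ext A t) (n + 1) (c + 1) := by
  constructor
  · exact trdeg_alg (le_ext A t) (ext_isAlgebraic ⟨p, hp0, hp⟩)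
  · intro n c hA
    refine pres_of_surj (pres_poly hA)
      ((Polynomial.aeval t : Polynomial ↥A →ₐ[↥A] K).restrictScalars k).rangeRestrict
      (AlgHom.rangeRestrict_surjective _) p ?_
    ext f
    rw [RingHom.mem_ker, Ideal.mem_span_singleton]
    constructor
    · intro hf
      apply hmin
      exact congrArg Subtype.val hf
    · rintro ⟨s, rfl⟩
      apply Subtype.ext
      change Polynomial.aeval t (p * s) = 0
      rw [map_mul, hp, zero_mul]

theorem dvd_of_aeval_inv (A : Subalgebra k K) (g : ↥A) (hg : g ≠ 0) (f : Polynomial ↥A)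
    (hf : Polynomial.aeval ((g : K)⁻¹) f = 0) : (Polynomial.C g * Polynomial.X - 1) ∣ f := by
  have hgK : (g : K) ≠ 0 := fun h => hg (Subtype.ext h)
  have h0 : Polynomial.eval₂ (Algebra.ofId ↥A K : ↥A →+* K) ((g : K)⁻¹)
      (Polynomial.C g * Polynomial.X - 1) = 0 := by
    simp only [Polynomial.eval₂_sub, Polynomial.eval₂_mul, Polynomial.eval₂_C, Polynomial.eval₂_X,
      Polynomial.eval₂_one]
    change (g : K) * (g : K)⁻¹ - 1 = 0
    rw [mul_inv_cancel₀ hgK, sub_self]
  obtain ⟨χ, hχ⟩ : ∃ χ : AdjoinRoot (Polynomial.C g * Polynomial.X - 1) →ₐ[↥A] K,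
      χ = AdjoinRoot.liftAlgHom _ (Algebra.ofId ↥A K) ((g : K)⁻¹) h0 := ⟨_, rfl⟩
  have hinj : Function.Injective χ := by
    have h1 : Function.Injective (χ.comp (Localization.awayEquivAdjoin g).toAlgHom) := by
      rw [injective_iff_map_eq_zero]
      intro x hx
      obtain ⟨a, s, rfl⟩ := IsLocalization.exists_mk'_eq (Submonoid.powers g) x
      have h2 := IsLocalization.mk'_spec (Localization.Away g) a s
      apply_fun (χ.comp (Localization.awayEquivAdjoin g).toAlgHom) at h2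
      rw [map_mul, hx, zero_mul, AlgHom.commutes] at h2
      have ha : a = 0 := Subtype.ext h2.symm
      rw [ha, IsLocalization.mk'_zero]
    intro x y hxy
    obtain ⟨x', rfl⟩ := (Localization.awayEquivAdjoin g).surjective x
    obtain ⟨y', rfl⟩ := (Localization.awayEquivAdjoin g).surjective y
    rw [h1 hxy]
  rw [← AdjoinRoot.mk_eq_zero]
  apply hinj
  rw [map_zero, hχ, AdjoinRoot.liftAlgHom_mk]
  exact hf

theorem ext_inv_clear (A : Subalgebra k K) (g : ↥A) :
    ∀ x ∈ ext A ((g : K)⁻¹), ∃ N : ℕ, (g : K) ^ N * x ∈ A := by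
  intro x hx
  rw [mem_ext_iff] at hx
  obtain ⟨q, rfl⟩ := hx
  by_cases hg : (g : K) = 0
  · exact ⟨1, by rw [hg, pow_one, zero_mul]; exact A.zero_mem⟩
  induction q using Polynomial.induction_on' with
  | add p q hp hq =>
    obtain ⟨N, hN⟩ := hp
    obtain ⟨M, hM⟩ := hq
    refine ⟨N + M, ?_⟩
    have : (g : K) ^ (N + M) * (Polynomial.aeval (g : K)⁻¹) (p + q) =
        (g : K) ^ M * ((g : K) ^ N * (Polynomial.aeval (g : K)⁻¹) p) +
        (g : K) ^ N * ((g : K) ^ M * (Polynomial.aeval (g : K)⁻¹) q) := by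
      rw [map_add, pow_add]; ring
    rw [this]
    exact A.add_mem (A.mul_mem (A.pow_mem g.2 M) hN) (A.mul_mem (A.pow_mem g.2 N) hM)
  | monomial n a =>
    refine ⟨n, ?_⟩
    rw [Polynomial.aeval_monomial]
    have : (g : K) ^ n * ((algebraMap ↥A K) a * (g : K)⁻¹ ^ n) = (a : K) := by
      change (g : K) ^ n * ((a : K) * (g : K)⁻¹ ^ n) = (a : K)
      rw [inv_pow]
      field_simp
    rw [this]
    exact a.2

theorem exists_min_step (A : Subalgebra k K) (e : K) (he : IsAlgebraic ↥A e) :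
    ∃ g : ↥A, g ≠ 0 ∧ ∃ m : Polynomial ↥(ext A ((g : K)⁻¹)), m ≠ 0 ∧
      Polynomial.aeval e m = 0 ∧
      ∀ f : Polynomial ↥(ext A ((g : K)⁻¹)), Polynomial.aeval e f = 0 → m ∣ f := by
  classical
  -- minimal degree polynomial
  have hex : ∃ d : ℕ, ∃ q : Polynomial ↥A, q ≠ 0 ∧ Polynomial.aeval e q = 0 ∧ q.natDegree = d := by
    obtain ⟨q, hq0, hq⟩ := he
    exact ⟨_, q, hq0, hq, rfl⟩
  obtain ⟨q, hq0, hq, hqd⟩ := Nat.find_spec hex
  have hmin : ∀ q' : Polynomial ↥A, q' ≠ 0 → Polynomial.aeval e q' = 0 →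
      Nat.find hex ≤ q'.natDegree := fun q' h0 h1 => Nat.find_min' hex ⟨q', h0, h1, rfl⟩
  obtain ⟨d, hd⟩ : ∃ d, d = Nat.find hex := ⟨_, rfl⟩
  rw [← hd] at hqd hmin
  obtain ⟨g, hgdef⟩ : ∃ g, g = q.leadingCoeff := ⟨_, rfl⟩
  have hg : g ≠ 0 := by rw [hgdef]; exact Polynomial.leadingCoeff_ne_zero.mpr hq0
  have hgK : (g : K) ≠ 0 := fun h => hg (Subtype.ext h)
  refine ⟨g, hg, ?_⟩
  obtain ⟨A₁, hA₁⟩ : ∃ A₁, A₁ = ext A ((g : K)⁻¹) := ⟨_, rfl⟩
  rw [← hA₁]
  have hle : A ≤ A₁ := hA₁ ▸ le_ext A _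
  have hginv : (g : K)⁻¹ ∈ A₁ := hA₁ ▸ mem_ext A _
  have hclear : ∀ x ∈ A₁, ∃ N : ℕ, (g : K) ^ N * x ∈ A := hA₁ ▸ ext_inv_clear A g
  obtain ⟨ι, hι⟩ : ∃ ι : ↥A →+* ↥A₁, ι = (Subalgebra.inclusion hle : ↥A →+* ↥A₁) := ⟨_, rfl⟩
  have hιinj : Function.Injective ι := by
    rw [hι]; exact Subalgebra.inclusion_injective hle
  have hιval : ∀ a : ↥A, ((ι a : ↥A₁) : K) = (a : K) := by
    intro a; rw [hι]; rfl
  have hcomp : (algebraMap ↥A₁ K).comp ι = algebraMap ↥A K := by
    ext a; exact hιval a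
  have haeval_map : ∀ q' : Polynomial ↥A, Polynomial.aeval e (q'.map ι) = Polynomial.aeval e q' := by
    intro q'
    rw [Polynomial.aeval_def, Polynomial.eval₂_map, hcomp, ← Polynomial.aeval_def]
  obtain ⟨ginv, hginvdef⟩ : ∃ ginv : ↥A₁, (ginv : K) = (g : K)⁻¹ := ⟨⟨_, hginv⟩, rfl⟩
  have hginv0 : ginv ≠ 0 := by
    intro h
    have : (ginv : K) = 0 := by rw [h]; rfl
    rw [hginvdef] at this
    exact hgK (inv_eq_zero.mp this)
  have hginvmul : ginv * ι g = 1 := by
    apply Subtype.ext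
    change (ginv : K) * ((ι g : ↥A₁) : K) = 1
    rw [hιval, hginvdef, inv_mul_cancel₀ hgK]
  obtain ⟨m, hmdef⟩ : ∃ m, m = Polynomial.C ginv * q.map ι := ⟨_, rfl⟩
  have hmmonic : m.Monic := by
    rw [Polynomial.Monic, hmdef, Polynomial.leadingCoeff_mul, Polynomial.leadingCoeff_C,
      Polynomial.leadingCoeff_map_of_injective hιinj, ← hgdef, hginvmul]
  have hmdeg : m.natDegree = d := by
    rw [hmdef, Polynomial.natDegree_C_mul hginv0, Polynomial.natDegree_map_eq_of_injective hιinj,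
      hqd]
  have hm : Polynomial.aeval e m = 0 := by
    rw [hmdef, map_mul, haeval_map, hq, mul_zero]
  refine ⟨m, hmmonic.ne_zero, hm, ?_⟩
  intro f hf
  rw [← Polynomial.modByMonic_eq_zero_iff_dvd hmmonic]
  by_contra hr
  obtain ⟨r, hrdef⟩ : ∃ r, r = f %ₘ m := ⟨_, rfl⟩
  rw [← hrdef] at hr
  have hre : Polynomial.aeval e r = 0 := by
    have h1 := Polynomial.modByMonic_add_div f m
    have h2 := congrArg (Polynomial.aeval e) h1
    rw [map_add, map_mul, hm, zero_mul, add_zero, hf, ← hrdef] at h2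
    exact h2
  have hrdeg : r.natDegree < d := by
    have h1 := Polynomial.degree_modByMonic_lt f hmmonic
    rw [← hrdef] at h1
    rw [← hmdeg]
    exact Polynomial.natDegree_lt_natDegree hr h1
  -- clear denominators
  have h1 : ∀ i : ℕ, ∃ N : ℕ, (g : K) ^ N * ((r.coeff i : ↥A₁) : K) ∈ A :=
    fun i => hclear _ (r.coeff i).2
  choose Ni hNi using h1
  obtain ⟨N, hNdef⟩ : ∃ N, N = ∑ i ∈ Finset.range d, Ni i := ⟨_, rfl⟩
  have h2 : ∀ i : ℕ, ∃ b : ↥A, i < d → (b : K) = (g : K) ^ N * ((r.coeff i : ↥A₁) : K) := by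
    intro i
    by_cases hi : i < d
    · have hle' : Ni i ≤ N := by
        rw [hNdef]
        exact Finset.single_le_sum (f := Ni) (fun _ _ => Nat.zero_le _) (Finset.mem_range.mpr hi)
      refine ⟨⟨(g : K) ^ N * ((r.coeff i : ↥A₁) : K), ?_⟩, fun _ => rfl⟩
      have : (g : K) ^ N * ((r.coeff i : ↥A₁) : K) =
          (g : K) ^ (N - Ni i) * ((g : K) ^ (Ni i) * ((r.coeff i : ↥A₁) : K)) := by
        rw [← mul_assoc, ← pow_add, Nat.sub_add_cancel hle']
      rw [this]
      exact A.mul_mem (A.pow_mem g.2 _) (hNi i)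
    · exact ⟨0, fun h => absurd h hi⟩
  choose b hb using h2
  obtain ⟨r', hr'def⟩ : ∃ r' : Polynomial ↥A,
      r' = ∑ i : Fin d, Polynomial.C (b i) * Polynomial.X ^ (i : ℕ) := ⟨_, rfl⟩
  have hr'e : Polynomial.aeval e r' = 0 := by
    have h3 : Polynomial.aeval e r' = (g : K) ^ N * Polynomial.aeval e r := by
      rw [Polynomial.aeval_eq_sum_range' hrdeg, hr'def, map_sum, Finset.mul_sum,
        ← Fin.sum_univ_eq_sum_range (fun i => (g : K) ^ N * (r.coeff i • e ^ i)) d]
      refine Finset.sum_congr rfl fun i _ => ?_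
      rw [map_mul, Polynomial.aeval_C, map_pow, Polynomial.aeval_X, Algebra.smul_def, ← mul_assoc]
      congr 1
      exact hb i i.2
    rw [h3, hre, mul_zero]
  have hr'0 : r' = 0 := by
    by_contra h0
    have h3 := hmin r' h0 hr'e
    have h4 : r'.degree < d := by
      rw [hr'def]; exact Polynomial.degree_sum_fin_lt _
    have h5 := Polynomial.natDegree_lt_iff_degree_lt h0 |>.mpr h4
    omega
  apply hr
  apply Polynomial.ext
  intro i
  rw [Polynomial.coeff_zero]
  by_cases hi : i < d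
  · have h3 : r'.coeff i = b i := by
      rw [hr'def, Polynomial.finsetSum_coeff]
      rw [Finset.sum_eq_single (⟨i, hi⟩ : Fin d)]
      · rw [Polynomial.coeff_C_mul, Polynomial.coeff_X_pow, if_pos rfl, mul_one]
      · intro j _ hj
        rw [Polynomial.coeff_C_mul, Polynomial.coeff_X_pow, if_neg, mul_zero]
        intro h; apply hj; exact Fin.ext h.symm
      · intro h; exact absurd (Finset.mem_univ _) h
    rw [hr'0, Polynomial.coeff_zero] at h3
    have h4 := hb i hi
    rw [← h3] at h4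
    have h5 : ((r.coeff i : ↥A₁) : K) = 0 := by
      have : (g : K) ^ N * ((r.coeff i : ↥A₁) : K) = 0 := by rw [← h4]; rfl
      rcases mul_eq_zero.mp this with h | h
      · exact absurd h (pow_ne_zero _ hgK)
      · exact h
    exact Subtype.ext h5
  · exact Polynomial.coeff_eq_zero_of_natDegree_lt (by omega)

/-- The invariant carried through the induction. -/
def Good (A : Subalgebra k K) : Prop :=
  ∃ n c : ℕ, Pres k ↥A n c ∧ Algebra.trdeg k ↥A + (c : Cardinal.{u}) = (n : Cardinal.{u})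

theorem good_bot : Good (⊥ : Subalgebra k K) := by
  refine ⟨0, 0, ?_, ?_⟩
  · have h1 : Pres k k 0 0 := by
      refine ⟨(MvPolynomial.isEmptyAlgEquiv k (Fin 0)).toAlgHom, Fin.elim0,
        (MvPolynomial.isEmptyAlgEquiv k (Fin 0)).surjective, ?_⟩
      have : Set.range (Fin.elim0 : Fin 0 → MvPolynomial (Fin 0) k) = ∅ := Set.range_eq_empty _
      rw [this, Ideal.span_empty]
      ext x
      rw [RingHom.mem_ker, Ideal.mem_bot]
      exact (MvPolynomial.isEmptyAlgEquiv k (Fin 0)).map_eq_zero_iff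
    exact pres_of_bij h1 (Algebra.botEquiv k K).symm.toAlgHom (Algebra.botEquiv k K).symm.bijective
  · have h1 : Algebra.trdeg k ↥(⊥ : Subalgebra k K) = Algebra.trdeg k k :=
      AlgEquiv.trdeg_eq (Algebra.botEquiv k K)
    rw [h1, _root_.trdeg_eq_zero (R := k) (A := k)]
    simp

theorem good_step (A : Subalgebra k K) (hA : Good A) (e : K) :
    ∃ A' : Subalgebra k K, A ≤ A' ∧ e ∈ A' ∧ Good A' := by
  obtain ⟨n, c, hP, htr⟩ := hA
  by_cases he : IsAlgebraic ↥A e
  · obtain ⟨g, hg, m, hm0, hm, hmin⟩ := exists_min_step A e he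
    have hgK : (g : K) ≠ 0 := fun h => hg (Subtype.ext h)
    have hp0 : (Polynomial.C g * Polynomial.X - 1 : Polynomial ↥A) ≠ 0 := by
      intro h
      have h1 := congrArg (Polynomial.eval 0) h
      simp at h1
    have hp : Polynomial.aeval ((g : K)⁻¹) (Polynomial.C g * Polynomial.X - 1 : Polynomial ↥A)
        = 0 := by
      rw [map_sub, map_mul, Polynomial.aeval_C, Polynomial.aeval_X, map_one]
      change (g : K) * (g : K)⁻¹ - 1 = 0
      rw [mul_inv_cancel₀ hgK, sub_self]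
    have s1 := alg_step A ((g : K)⁻¹) _ hp0 hp (dvd_of_aeval_inv A g hg)
    have s2 := alg_step (ext A ((g : K)⁻¹)) e m hm0 hm hmin
    refine ⟨ext (ext A ((g : K)⁻¹)) e, le_trans (le_ext _ _) (le_ext _ _), mem_ext _ _,
      n + 1 + 1, c + 1 + 1, s2.2 _ _ (s1.2 _ _ hP), ?_⟩
    rw [s2.1, s1.1]
    push_cast
    rw [← htr]
    ring
  · have s := trans_step A e he
    refine ⟨ext A e, le_ext _ _, mem_ext _ _, n + 1, c, s.2 _ _ hP, ?_⟩
    rw [s.1]
    push_cast
    rw [← htr]
    ring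

theorem exists_good (E : Finset K) : ∃ A : Subalgebra k K, (↑E : Set K) ⊆ (A : Set K) ∧ Good A := by
  classical
  induction E using Finset.induction_on with
  | empty => exact ⟨⊥, by simp, good_bot⟩
  | insert e E _ ih =>
    obtain ⟨A, hEA, hA⟩ := ih
    obtain ⟨A', hle, he, hA'⟩ := good_step A hA e
    refine ⟨A', ?_, hA'⟩
    intro x hx
    rw [Finset.coe_insert, Set.mem_insert_iff] at hx
    rcases hx with rfl | hx
    · exact he
    · exact hle (hEA hx)

theorem globalCI_of_good (A : Subalgebra k K) (hA : Good A) : Synt.IsGlobalCI k ↥A := by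
  obtain ⟨n, c, ⟨φ, r, hs, hk⟩, htr⟩ := hA
  right
  have hcn : c ≤ n := by
    have : (c : Cardinal.{u}) ≤ (n : Cardinal.{u}) := by
      rw [← htr]; exact self_le_add_left _ _
    exact_mod_cast this
  refine ⟨n, c, hcn, φ, r, hs, hk, ?_⟩
  haveI : Algebra.FiniteType k ↥A := Algebra.FiniteType.of_surjective φ hs
  have h1 := Groth.Agent.Lib.Helper20.DimTrdeg.ringKrullDim_eq_trdeg k ↥A (FractionRing ↥A)
  haveI : Algebra.IsAlgebraic ↥A (FractionRing ↥A) :=
    IsLocalization.isAlgebraic (FractionRing ↥A) (nonZeroDivisors ↥A)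
  have h2 := _root_.trdeg_add_eq k ↥A (A := FractionRing ↥A)
  rw [_root_.trdeg_eq_zero (R := ↥A) (A := FractionRing ↥A), add_zero] at h2
  rw [h1, ← h2]
  have h3 : Algebra.trdeg k ↥A = ((n - c : ℕ) : Cardinal.{u}) := by
    have h4 : ((n - c : ℕ) : Cardinal.{u}) + (c : Cardinal.{u}) = (n : Cardinal.{u}) := by
      rw [← Nat.cast_add, Nat.sub_add_cancel hcn]
    rw [← h4] at htr
    exact (Cardinal.add_nat_inj c).mp htr
  rw [h3]
  simp

end helpers

/-- For a field extension K/k, every finite subset of K lies in a k-subalgebra of K which is a global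
complete intersection over k; so K is the directed union of its k-subalgebras that are global
complete intersections over k. -/
theorem result (k : Type u) [Field k] (K : Type u)
    [Field K] [Algebra k K] (E : Finset K) :
    ∃ A : Subalgebra k K, (↑E : Set K) ⊆ (A : Set K) ∧ Synt.IsGlobalCI k A := by
  obtain ⟨A, hE, hA⟩ := exists_good (k := k) E
  exact ⟨A, hE, globalCI_of_good A hA⟩

end Groth.Agent.S9430
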