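import Groth.Statements.S9431
import Groth.Agent.Lib27.SepGen
import Mathlib.RingTheory.Smooth.Locus
-- import your own Groth.Agent.* helpers here

set_option autoImplicit false
universe u
open CAlg

namespace Groth.Agent.S9431

/-- For a separable (geometrically reduced) field extension K/k, every finite subset of K lies in a
k-subalgebra of K which is smooth over k; in particular K is a filtered colimit of smooth
k-algebras. -/
theorem result (k : Type u) [Field k]
    (K : Type u) [Field K] [Algebra k K] [Algebra.IsGeometricallyReduced k K] (E : Finset K) :
    ∃ A : Subalgebra k K, (↑E : Set K) ⊆ (A : Set K) ∧ Algebra.Smooth k A := by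
  classical
  let B : Subalgebra k K := Algebra.adjoin k (E : Set K)
  have hEB : (E : Set K) ⊆ B := Algebra.subset_adjoin
  have hft : Algebra.FiniteType k B := Algebra.FiniteType.adjoin_of_finite E.finite_toSet
  have hfp : Algebra.FinitePresentation k B := Algebra.FinitePresentation.of_finiteType.mp hft
  -- the fraction field of B
  let ι : FractionRing B →ₐ[k] K :=
    IsFractionRing.liftAlgHom (g := B.val) Subtype.val_injective
  have hι : Function.Injective ι := ι.toRingHom.injective
  have hgr : Algebra.IsGeometricallyReduced k (FractionRing B) := .of_injective ι hι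
  have hess : Algebra.EssFiniteType k (FractionRing B) :=
    Algebra.EssFiniteType.comp k B (FractionRing B)
  have hF : Algebra.FormallySmooth k (FractionRing B) :=
    Groth.Agent.Lib27.formallySmooth_of_isGeometricallyReduced k (FractionRing B)
  have hloc : IsLocalization (⊥ : Ideal B).primeCompl (FractionRing B) := by
    rw [Ideal.primeCompl_bot]; infer_instance
  have hsm : Algebra.IsSmoothAt k (⊥ : Ideal B) :=
    Algebra.FormallySmooth.of_equiv
      ((IsLocalization.algEquiv (⊥ : Ideal B).primeCompl (FractionRing B)
        (Localization.AtPrime (⊥ : Ideal B))).restrictScalars k)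
  obtain ⟨f, hf, hsmooth⟩ := Algebra.IsSmoothAt.exists_notMem_smooth k (⊥ : Ideal B)
  have hf0 : f ≠ 0 := fun h => hf (by rw [h]; exact Ideal.zero_mem _)
  have hunit : IsUnit (B.val f) := by
    rw [isUnit_iff_ne_zero]
    intro h
    exact hf0 (Subtype.val_injective (by simpa using h))
  let j : Localization.Away f →ₐ[k] K := IsLocalization.Away.liftAlgHom f (f := B.val) hunit
  have hjeq : ∀ b : B, j (algebraMap B (Localization.Away f) b) = (b : K) := fun b =>
    IsLocalization.Away.lift_eq f hunit b
  have hj : Function.Injective j := by
    have := (IsLocalization.injective_iff_map_algebraMap_eq (Submonoid.powers f)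
      (S := Localization.Away f) (j : Localization.Away f →+* K)).mpr (by
        intro x y
        constructor
        · intro h; rw [h]
        · intro h
          have h' : (x : K) = y := by rw [← hjeq x, ← hjeq y]; exact h
          rw [Subtype.ext h'])
    exact this
  refine ⟨j.range, ?_, ?_⟩
  · intro x hx
    refine ⟨algebraMap B (Localization.Away f) ⟨x, hEB hx⟩, ?_⟩
    exact hjeq ⟨x, hEB hx⟩
  · exact Algebra.Smooth.of_equiv (AlgEquiv.ofInjective j hj)

end Groth.Agent.S9431
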