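import Groth.Statements.S9433
import Mathlib
-- import your own Groth.Agent.* helpers here

set_option autoImplicit false
universe u
open CAlg

namespace Groth.Agent.S9433

open TensorProduct

theorem root_congr {S : Type*} [CommRing S] [IsLocalRing S] (J : Ideal S) (f : Polynomial S)
    (x y : S) (hx : f.eval x ∈ J) (hy : f.eval y ∈ J)
    (hxy : x - y ∈ IsLocalRing.maximalIdeal S) (hu : IsUnit (f.derivative.eval y)) :
    x - y ∈ J := by
  obtain ⟨k, hk⟩ := Polynomial.binomExpansion f y (x - y)
  rw [add_sub_cancel] at hk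
  have h1 : (x - y) * (f.derivative.eval y + k * (x - y)) ∈ J := by
    have : (x - y) * (f.derivative.eval y + k * (x - y)) = f.eval x - f.eval y := by
      rw [hk]; ring
    rw [this]
    exact J.sub_mem hx hy
  have h2 : IsUnit (f.derivative.eval y + k * (x - y)) := by
    by_contra hnu
    have h3 : f.derivative.eval y + k * (x - y) ∈ IsLocalRing.maximalIdeal S := hnu
    have h4 : k * (x - y) ∈ IsLocalRing.maximalIdeal S := Ideal.mul_mem_left _ _ hxy
    have h5 := (IsLocalRing.maximalIdeal S).sub_mem h3 h4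
    rw [add_sub_cancel_right] at h5
    exact h5 hu
  obtain ⟨u, hu'⟩ := h2
  have : x - y = (x - y) * (f.derivative.eval y + k * (x - y)) * ↑u⁻¹ := by
    rw [← hu', mul_assoc, Units.mul_inv, mul_one]
  rw [this]
  exact Ideal.mul_mem_right _ _ h1


theorem newton {R : Type*} [CommRing R] [IsLocalRing R] (f : Polynomial R) (a t : R)
    (ht : t ∈ IsLocalRing.maximalIdeal R) (hfa : f.eval a ∈ Ideal.span {t})
    (hu : IsUnit (f.derivative.eval a)) (n : ℕ) (hn : 1 ≤ n) :
    ∃ b, b - a ∈ Ideal.span {t} ∧ f.eval b ∈ Ideal.span {t ^ n} := by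
  induction n, hn using Nat.le_induction with
  | base => exact ⟨a, by simp, by simpa using hfa⟩
  | succ n hn ih =>
    obtain ⟨b, hba, hfb⟩ := ih
    have hle : Ideal.span {t} ≤ IsLocalRing.maximalIdeal R := by
      rw [Ideal.span_le]; simpa using ht
    have hub : IsUnit (f.derivative.eval b) := by
      have hdvd := Polynomial.sub_dvd_eval_sub b a f.derivative
      have hm : b - a ∈ IsLocalRing.maximalIdeal R := hle hba
      have h1 : f.derivative.eval b - f.derivative.eval a ∈ IsLocalRing.maximalIdeal R :=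
        Ideal.mem_of_dvd _ hdvd hm
      by_contra hnu
      have h2 : f.derivative.eval b ∈ IsLocalRing.maximalIdeal R := hnu
      have := (IsLocalRing.maximalIdeal R).sub_mem h2 h1
      rw [sub_sub_cancel] at this
      exact this hu
    obtain ⟨u, hu'⟩ := hub
    obtain ⟨c, hc⟩ := Ideal.mem_span_singleton'.mp hfb
    obtain ⟨k, hk⟩ := Polynomial.binomExpansion f b (- (f.eval b) * ↑u⁻¹)
    refine ⟨b + (- (f.eval b) * ↑u⁻¹), ?_, ?_⟩
    · have h1 : f.eval b ∈ Ideal.span {t} := by
        rw [← hc]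
        obtain ⟨m, rfl⟩ : ∃ m, n = m + 1 := ⟨n - 1, by omega⟩
        rw [pow_succ, ← mul_assoc]
        exact Ideal.mul_mem_left _ _ (Ideal.mem_span_singleton_self t)
      have : b + (- (f.eval b) * ↑u⁻¹) - a = (b - a) + (- ↑u⁻¹) * f.eval b := by ring
      rw [this]
      exact Ideal.add_mem _ hba (Ideal.mul_mem_left _ _ h1)
    · rw [hk, ← hu']
      have : Polynomial.eval b f + ↑u * (-Polynomial.eval b f * ↑u⁻¹) +
          k * (-Polynomial.eval b f * ↑u⁻¹) ^ 2 =
          (k * ↑u⁻¹ ^ 2 * c ^ 2 * t ^ (n - 1)) * t ^ (n + 1) +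
            Polynomial.eval b f * (1 - ↑u * ↑u⁻¹) := by
        rw [← hc]
        obtain ⟨m, rfl⟩ : ∃ m, n = m + 1 := ⟨n - 1, by omega⟩
        simp only [Nat.add_sub_cancel]
        ring
      rw [this, Units.mul_inv, sub_self, mul_zero, add_zero]
      exact Ideal.mul_mem_left _ _ (Ideal.mem_span_singleton_self _)


theorem isUnit_of_sub_mem {A : Type*} [CommRing A] [IsLocalRing A] {x y : A}
    (h : x - y ∈ IsLocalRing.maximalIdeal A) (hy : IsUnit y) : IsUnit x := by
  by_contra hnu
  have h3 : x ∈ IsLocalRing.maximalIdeal A := hnu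
  have := (IsLocalRing.maximalIdeal A).sub_mem h3 h
  rw [sub_sub_cancel] at this
  exact this hy


/-- Let R → S be a local homomorphism of local rings with S the localization of an étale R-algebra at a
prime, inducing an isomorphism of residue fields. Then for some t in the maximal ideal of R the maps
R/t^nR → S/t^nS are bijective for all n ≥ 1. -/
theorem result (R : Type u) [CommRing R] [IsLocalRing R] (T : Type u) [CommRing T] [Algebra R T]
    [Algebra.Etale R T] (q : Ideal T) [q.IsPrime] (S : Type u) [CommRing S] [IsLocalRing S]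
    [Algebra T S] [IsLocalization.AtPrime S q] [Algebra R S] [IsScalarTower R T S]
    [IsLocalHom (algebraMap R S)]
    (hres : Function.Bijective (IsLocalRing.ResidueField.map (algebraMap R S))) :
    ∃ t ∈ IsLocalRing.maximalIdeal R, ∀ n : ℕ, 1 ≤ n →
      Function.Bijective (Ideal.quotientMap ((Ideal.span {t ^ n}).map (algebraMap R S))
        (algebraMap R S) Ideal.le_comap_map) := by
  have : Algebra.IsUnramifiedAt R q := inferInstance
  obtain ⟨f₀, hf₀q, P, φ₀, hφ₀⟩ :=
    Algebra.IsUnramifiedAt.exists_hasStandardEtaleSurjectionOn (R := R) q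
  let l₀ : Localization.Away f₀ →ₐ[R] S := IsLocalization.liftAlgHom (M := Submonoid.powers f₀)
    (f := IsScalarTower.toAlgHom R T S) (by
      rintro ⟨_, n, rfl⟩
      simp only [IsScalarTower.coe_toAlgHom', map_pow]
      exact (IsLocalization.map_units S (⟨f₀, hf₀q⟩ : q.primeCompl)).pow n)
  let α₀ : P.Ring →ₐ[R] S := l₀.comp φ₀
  have hfrac : ∀ s : S, ∃ u v : P.Ring, IsUnit (α₀ v) ∧ s * α₀ v = α₀ u := by
    intro s
    obtain ⟨⟨u₀, v₀⟩, rfl⟩ := IsLocalization.mk'_surjective q.primeCompl s
    obtain ⟨u, hu⟩ := hφ₀ (algebraMap T _ u₀)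
    obtain ⟨v, hv⟩ := hφ₀ (algebraMap T _ v₀.1)
    have hl : ∀ a : T, l₀ (algebraMap T _ a) = algebraMap T S a := fun a => by
      simp [l₀, IsLocalization.liftAlgHom]
    refine ⟨u, v, ?_, ?_⟩
    · show IsUnit (l₀ (φ₀ v))
      rw [hv, hl]
      exact IsLocalization.map_units S v₀
    · show _ * l₀ (φ₀ v) = l₀ (φ₀ u)
      rw [hv, hu, hl, hl]
      exact IsLocalization.mk'_spec S u₀ v₀
  let xS : S := α₀ P.X
  have hfx : Polynomial.aeval xS P.f = 0 := (StandardEtalePair.hasMap_X.map α₀).1
  have hgx : IsUnit (Polynomial.aeval xS P.g) := (StandardEtalePair.hasMap_X.map α₀).2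
  obtain ⟨xbar, hxbar⟩ := hres.2 (IsLocalRing.residue S xS)
  obtain ⟨a, rfl⟩ := IsLocalRing.residue_surjective xbar
  have hxbar' : IsLocalRing.residue S (algebraMap R S a) = IsLocalRing.residue S xS := hxbar
  have hcong : ∀ p : Polynomial R, algebraMap R S (p.eval a) - Polynomial.aeval xS p ∈
      IsLocalRing.maximalIdeal S := by
    intro p
    rw [← IsLocalRing.residue_eq_zero_iff, map_sub, sub_eq_zero]
    have h1 : algebraMap R S (p.eval a) = Polynomial.aeval (algebraMap R S a) p := by
      rw [Polynomial.aeval_algebraMap_apply, Polynomial.coe_aeval_eq_eval]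
    rw [h1, Polynomial.aeval_def, Polynomial.aeval_def, Polynomial.hom_eval₂,
      Polynomial.hom_eval₂, hxbar']
  let t : R := P.f.eval a
  have htm : t ∈ IsLocalRing.maximalIdeal R := by
    intro hu
    have := hcong P.f
    rw [hfx, sub_zero] at this
    exact this (hu.map (algebraMap R S))
  have hga : IsUnit (P.g.eval a) := by
    have h1 := hcong P.g
    have h2 : IsUnit (algebraMap R S (P.g.eval a)) := by
      by_contra hnu
      have h3 : algebraMap R S (P.g.eval a) ∈ IsLocalRing.maximalIdeal S := hnu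
      have := (IsLocalRing.maximalIdeal S).sub_mem h3 h1
      rw [sub_sub_cancel] at this
      exact this hgx
    exact (isUnit_map_iff (algebraMap R S) _).mp h2
  refine ⟨t, htm, fun n hn => ?_⟩
  have hda : IsUnit (P.f.derivative.eval a) := by
    have h1 := hcong P.f.derivative
    have hdx : IsUnit (Polynomial.aeval xS P.f.derivative) :=
      (StandardEtalePair.hasMap_X.map α₀).isUnit_derivative_f
    have h2 : IsUnit (algebraMap R S (P.f.derivative.eval a)) := isUnit_of_sub_mem h1 hdx
    exact (isUnit_map_iff (algebraMap R S) _).mp h2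
  obtain ⟨b₀, hb₀a, hfb₀⟩ := newton P.f a t htm (Ideal.mem_span_singleton_self t) hda n hn
  have hle : Ideal.span {t} ≤ IsLocalRing.maximalIdeal R := by
    rw [Ideal.span_le]; simpa using htm
  have hb₀m : b₀ - a ∈ IsLocalRing.maximalIdeal R := hle hb₀a
  have hev : ∀ p : Polynomial R, IsUnit (p.eval a) → IsUnit (p.eval b₀) := fun p hp =>
    isUnit_of_sub_mem (Ideal.mem_of_dvd _ (Polynomial.sub_dvd_eval_sub b₀ a p) hb₀m) hp
  have hIm : Ideal.span {t ^ n} ≤ IsLocalRing.maximalIdeal R := by
    rw [Ideal.span_le]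
    simp only [Set.singleton_subset_iff, SetLike.mem_coe]
    exact Ideal.pow_mem_of_mem _ htm n (by omega)
  have hJm : (Ideal.span {t ^ n}).map (algebraMap R S) ≤ IsLocalRing.maximalIdeal S := by
    rw [Ideal.map_le_iff_le_comap]
    exact fun r hr hu => hIm hr ((isUnit_map_iff (algebraMap R S) r).mp hu)
  have key : ∀ p : Polynomial R, Polynomial.aeval (Ideal.Quotient.mk (Ideal.span {t ^ n}) b₀) p =
      Ideal.Quotient.mk (Ideal.span {t ^ n}) (p.eval b₀) := fun p => by
    rw [← Ideal.Quotient.algebraMap_eq, Polynomial.aeval_algebraMap_apply,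
      Polynomial.coe_aeval_eq_eval]
  have hmap : P.HasMap (Ideal.Quotient.mk (Ideal.span {t ^ n}) b₀) := by
    refine ⟨?_, ?_⟩
    · rw [key]; exact Ideal.Quotient.eq_zero_iff_mem.mpr hfb₀
    · rw [key]; exact (hev P.g hga).map _
  let σn : P.Ring →ₐ[R] R ⧸ Ideal.span {t ^ n} := P.lift _ hmap
  let ιₐ : R ⧸ Ideal.span {t ^ n} →ₐ[R] S ⧸ (Ideal.span {t ^ n}).map (algebraMap R S) :=
    Ideal.quotientMapₐ _ (Algebra.ofId R S) Ideal.le_comap_map
  have hαβ : (Ideal.Quotient.mkₐ R ((Ideal.span {t ^ n}).map (algebraMap R S))).comp α₀ =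
      ιₐ.comp σn := by
    apply StandardEtalePair.hom_ext
    show Ideal.Quotient.mk _ xS = ιₐ (σn P.X)
    rw [StandardEtalePair.lift_X]
    show Ideal.Quotient.mk _ xS = Ideal.Quotient.mk _ (algebraMap R S b₀)
    rw [Ideal.Quotient.eq]
    apply root_congr _ (P.f.map (algebraMap R S))
    · rw [Polynomial.eval_map_algebraMap, hfx]; exact Ideal.zero_mem _
    · rw [Polynomial.eval_map_algebraMap, Polynomial.aeval_algebraMap_apply,
        Polynomial.coe_aeval_eq_eval]
      exact Ideal.mem_map_of_mem _ hfb₀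
    · have h1 : algebraMap R S a - xS ∈ IsLocalRing.maximalIdeal S := by
        rw [← IsLocalRing.residue_eq_zero_iff, map_sub, sub_eq_zero]; exact hxbar'
      have h2 : algebraMap R S (b₀ - a) ∈ IsLocalRing.maximalIdeal S :=
        fun hu => hb₀m ((isUnit_map_iff (algebraMap R S) _).mp hu)
      have : xS - algebraMap R S b₀ = -((algebraMap R S a - xS) + algebraMap R S (b₀ - a)) := by
        rw [map_sub]; ring
      rw [this]
      exact Ideal.neg_mem_iff _ |>.mpr (Ideal.add_mem _ h1 h2)
    · rw [Polynomial.derivative_map, Polynomial.eval_map_algebraMap,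
        Polynomial.aeval_algebraMap_apply, Polynomial.coe_aeval_eq_eval]
      exact (hev _ hda).map _
  have hcomp : ∀ w : P.Ring, Ideal.Quotient.mk ((Ideal.span {t ^ n}).map (algebraMap R S)) (α₀ w) =
      ιₐ (σn w) := fun w => congr($hαβ w)
  constructor
  · apply Ideal.quotientMap_injective'
    have : Module.Flat T S := IsLocalization.flat S q.primeCompl
    have : Module.Flat R S := Module.Flat.trans R T S
    have : Module.FaithfullyFlat R S := Module.FaithfullyFlat.of_flat_of_isLocalHom
    rw [Ideal.comap_map_eq_self_of_faithfullyFlat]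
  · intro y
    obtain ⟨s, rfl⟩ := Ideal.Quotient.mk_surjective y
    obtain ⟨u, v, hv, huv⟩ := hfrac s
    obtain ⟨rv, hrv⟩ := Ideal.Quotient.mk_surjective (σn v)
    have h1 : Ideal.Quotient.mk ((Ideal.span {t ^ n}).map (algebraMap R S)) (α₀ v) =
        Ideal.Quotient.mk _ (algebraMap R S rv) := by
      rw [hcomp, ← hrv]; rfl
    rw [Ideal.Quotient.eq] at h1
    have h2 : IsUnit (algebraMap R S rv) := by
      refine isUnit_of_sub_mem ?_ hv
      rw [← neg_sub]
      exact Ideal.neg_mem_iff _ |>.mpr (hJm h1)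
    have h3 : IsUnit rv := (isUnit_map_iff (algebraMap R S) _).mp h2
    have h4 : IsUnit (σn v) := by rw [← hrv]; exact h3.map _
    obtain ⟨w, hw⟩ := h4.exists_right_inv
    refine ⟨σn u * w, ?_⟩
    show ιₐ (σn u * w) = _
    rw [map_mul, ← hcomp, ← huv, map_mul, hcomp, mul_assoc, ← map_mul, hw, map_one, mul_one]

end Groth.Agent.S9433
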