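import Groth.Statements.S9435
import Mathlib
-- import your own Groth.Agent.* helpers here

set_option autoImplicit false
universe u
open CAlg

namespace Groth.Agent.S9435

open Polynomial IntermediateField

/-- A primitive element whose minimal polynomial lifts to a monic polynomial over `R`. -/
lemma exists_primitive_lifts (R : Type u) [CommRing R]
    (p : Ideal R) [p.IsPrime] (L : Type u) [Field L] [Algebra p.ResidueField L]
    [Module.Finite p.ResidueField L] [Algebra.IsSeparable p.ResidueField L] :
    ∃ (β : L) (F : R[X]), F.Monic ∧ F.map (algebraMap R p.ResidueField) = minpoly p.ResidueField β ∧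
      p.ResidueField⟮β⟯ = ⊤ := by
  set κ := p.ResidueField with hκ
  obtain ⟨α, hα⟩ := Field.exists_primitive_element κ L
  have hαint : IsIntegral κ α := Algebra.IsIntegral.isIntegral α
  set f := minpoly κ α with hf
  have hfmonic : f.Monic := minpoly.monic hαint
  let M := nonZeroDivisors (R ⧸ p)
  let d : R ⧸ p := IsLocalization.commonDenom M f.support f.coeff
  have hd : d ∈ M := (IsLocalization.commonDenom M f.support f.coeff).2
  let u : κ := algebraMap (R ⧸ p) κ d
  have hu : u ≠ 0 := by
    intro h
    have := (IsFractionRing.injective (R ⧸ p) κ) (h.trans (map_zero _).symm)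
    exact nonZeroDivisors.ne_zero hd this
  set Fbar := f.scaleRoots u with hFbar
  have hlift : Fbar ∈ Polynomial.lifts (algebraMap (R ⧸ p) κ) :=
    IsLocalization.scaleRoots_commonDenom_mem_lifts M f (by
      rw [hfmonic.leadingCoeff]; exact ⟨1, map_one _⟩)
  have hFbarmonic : Fbar.Monic := (monic_scaleRoots_iff u).mpr hfmonic
  have hlift' : Fbar ∈ Polynomial.lifts (algebraMap R κ) := by
    rw [Polynomial.lifts_iff_coeff_lifts] at hlift ⊢
    intro n
    obtain ⟨x, hx⟩ := hlift n
    obtain ⟨a, rfl⟩ := Ideal.Quotient.mk_surjective x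
    exact ⟨a, by rw [← hx, IsScalarTower.algebraMap_apply R (R ⧸ p) κ]; rfl⟩
  obtain ⟨F, hFmap, hFdeg, hFmonic⟩ := Polynomial.lifts_and_natDegree_eq_and_monic hlift' hFbarmonic
  let β : L := algebraMap κ L u * α
  have hβroot : aeval β Fbar = 0 := scaleRoots_aeval_eq_zero (minpoly.aeval κ α)
  have hβint : IsIntegral κ β := Algebra.IsIntegral.isIntegral β
  have hβprim : κ⟮β⟯ = ⊤ := by
    rw [eq_top_iff, ← hα, adjoin_simple_le_iff]
    have h1 : β ∈ κ⟮β⟯ := mem_adjoin_simple_self κ β
    have h2 : algebraMap κ L u ∈ κ⟮β⟯ := IntermediateField.algebraMap_mem _ u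
    have h3 : α = (algebraMap κ L u)⁻¹ * β := by
      have : algebraMap κ L u ≠ 0 := by simpa using hu
      rw [← mul_assoc, inv_mul_cancel₀ this, one_mul]
    rw [h3]
    exact mul_mem (inv_mem h2) h1
  have hdegα : f.natDegree = Module.finrank κ L := by
    rw [hf, ← IntermediateField.adjoin.finrank hαint, hα, IntermediateField.finrank_top']
  have hdegβ : (minpoly κ β).natDegree = Module.finrank κ L := by
    rw [← IntermediateField.adjoin.finrank hβint, hβprim, IntermediateField.finrank_top']
  have hmin : Fbar = minpoly κ β := by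
    apply Polynomial.eq_of_monic_of_dvd_of_natDegree_le (minpoly.monic hβint) hFbarmonic
      (minpoly.dvd κ β hβroot)
    rw [hdegβ, hFbar, natDegree_scaleRoots, hdegα]
  exact ⟨β, F, hFmonic, hFmap.trans hmin, hβprim⟩



/-- Given a prime p of a ring R and a finite separable extension L of κ(p), there is an étale R-algebra
R' with a prime p' over p whose residue field is κ(p)-isomorphic to L. Stated through an R-algebra
map ψ : R' → L whose image generates the field L: its kernel is such a prime p' and the induced
κ(p') → L is then an isomorphism over κ(p). -/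
theorem result (R : Type u) [CommRing R]
    (p : Ideal R) [p.IsPrime] (L : Type u) [Field L] [Algebra p.ResidueField L] [Algebra R L]
    [IsScalarTower R p.ResidueField L] [Module.Finite p.ResidueField L]
    [Algebra.IsSeparable p.ResidueField L] :
    ∃ (R' : Type u) (_ : CommRing R') (_ : Algebra R R') (_ : Algebra.Etale R R') (ψ : R' →ₐ[R] L),
      Subfield.closure (Set.range ψ) = ⊤ := by
  obtain ⟨β, F, hFmonic, hFmap, hβprim⟩ := exists_primitive_lifts R p L
  set κ := p.ResidueField with hκ
  have hβint : IsIntegral κ β := Algebra.IsIntegral.isIntegral β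
  have hsep : (minpoly κ β).Separable := Algebra.IsSeparable.isSeparable κ β
  let P : StandardEtalePair R :=
    { f := F, monic_f := hFmonic, g := derivative F, cond := ⟨1, 0, 1, by simp⟩ }
  have haeval : ∀ G : R[X], aeval β G = aeval β (G.map (algebraMap R κ)) := by
    intro G
    rw [aeval_map_algebraMap]
  have hmap : P.HasMap β := by
    constructor
    · change aeval β F = 0
      rw [haeval, hFmap, minpoly.aeval]
    · change IsUnit (aeval β (derivative F))
      rw [haeval, ← derivative_map, hFmap]
      exact (hsep.aeval_derivative_ne_zero (minpoly.aeval κ β)).isUnit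
  let ψ : P.Ring →ₐ[R] L := P.lift β hmap
  refine ⟨P.Ring, inferInstance, inferInstance, inferInstance, ψ, ?_⟩
  set K := Subfield.closure (Set.range ψ) with hK
  have hR : ∀ r : R, algebraMap R L r ∈ K := fun r =>
    Subfield.subset_closure ⟨algebraMap R P.Ring r, ψ.commutes r⟩
  have hκK : ∀ c : κ, algebraMap κ L c ∈ K := by
    intro c
    obtain ⟨x, y, hy, rfl⟩ := IsFractionRing.div_surjective (A := R ⧸ p) c
    obtain ⟨a, rfl⟩ := Ideal.Quotient.mk_surjective x
    obtain ⟨b, rfl⟩ := Ideal.Quotient.mk_surjective y
    rw [map_div₀]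
    have h1 : algebraMap κ L (algebraMap (R ⧸ p) κ (Ideal.Quotient.mk p a)) = algebraMap R L a := by
      rw [IsScalarTower.algebraMap_apply R κ L, IsScalarTower.algebraMap_apply R (R ⧸ p) κ]; rfl
    have h2 : algebraMap κ L (algebraMap (R ⧸ p) κ (Ideal.Quotient.mk p b)) = algebraMap R L b := by
      rw [IsScalarTower.algebraMap_apply R κ L, IsScalarTower.algebraMap_apply R (R ⧸ p) κ]; rfl
    rw [h1, h2]
    exact div_mem (hR a) (hR b)
  have hβK : β ∈ K := Subfield.subset_closure ⟨P.X, P.lift_X β hmap⟩
  let K' : IntermediateField κ L := K.toIntermediateField hκK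
  have hle : κ⟮β⟯ ≤ K' := adjoin_simple_le_iff.mpr hβK
  rw [hβprim] at hle
  rw [eq_top_iff]
  intro x _
  exact hle (IntermediateField.mem_top)

end Groth.Agent.S9435
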