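import Groth.Statements.S9438
import Groth.Agent.Lib.Helper18.RkFlat
import Groth.Agent.Lib.Helper14.NoethDescent

set_option autoImplicit false
universe u
open CAlg

namespace Groth.Agent.S9438

/-- The condition (R_k) descends along faithfully flat ring maps: if S is faithfully flat over R,
Noetherian and (R_k), then R is Noetherian and (R_k). -/
theorem result (k : ℕ) (R : Type u) [CommRing R] (S : Type u) [CommRing S]
    [Algebra R S] [Module.FaithfullyFlat R S] [IsNoetherianRing S] (hS : LocCoh.HasRk k S) :
    IsNoetherianRing R ∧ LocCoh.HasRk k R := by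
  have hN : IsNoetherianRing R :=
    Groth.Agent.Lib.Helper14.AS.isNoetherianRing_of_faithfullyFlat (algebraMap R S)
      (RingHom.faithfullyFlat_algebraMap_iff.mpr inferInstance)
  refine ⟨hN, ?_⟩
  intro P _ hk
  refine Groth.Agent.Lib.Helper18.RkFlat.isRegularLocalRing_localization_of_hasRk R S k hS P ?_ hk
  intro htop
  have h1 : (P.map (algebraMap R S)).comap (algebraMap R S) = P :=
    Ideal.comap_map_eq_self_of_faithfullyFlat P
  rw [htop, Ideal.comap_top] at h1
  exact Ideal.IsPrime.ne_top' h1.symm

end Groth.Agent.S9438
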