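import Groth.Statements.S9441
import Groth.Agent.Lib.Helper25.RelGCIJacobian2
import Groth.Agent.Lib.Helper25.JacobianCrit3

set_option autoImplicit false
universe u
open Synt

namespace Groth.Agent.S9441

/-- For a relative global complete intersection S = R[x_1, …, x_n]/(f_1, …, f_c) and a prime q of S, the
map R → S is smooth at q if and only if some c × c minor of the Jacobian matrix (∂f_j/∂x_i), taken
on c distinct variables, has image outside q. -/
theorem result (R : Type u) [CommRing R] (n c : ℕ)
    (F : Fin c → MvPolynomial (Fin n) R) (hF : Synt.IsRelGCI R n c F)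
    (q : Ideal (Synt.RelGCIRing R n c F)) [q.IsPrime] :
    Algebra.IsSmoothAt R q ↔ ∃ I : Fin c ↪ Fin n,
      Ideal.Quotient.mk (Ideal.span (Set.range F))
        (Matrix.det (Matrix.of fun j i => MvPolynomial.pderiv (I i) (F j))) ∉ q := by
  classical
  constructor
  · intro h
    have hlo : q.LiesOver (q.under R) := ⟨rfl⟩
    have hq' : q = Ideal.comap Algebra.TensorProduct.includeRight.toRingHom
        (PrimeSpectrum.primesOverOrderIsoFiber R (Synt.RelGCIRing R n c F) (q.under R)
          ⟨q, ‹_›, hlo⟩).asIdeal :=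
      congr($((PrimeSpectrum.primesOverOrderIsoFiber R (Synt.RelGCIRing R n c F)
        (q.under R)).symm_apply_apply ⟨q, ‹_›, ‹_›⟩).1).symm
    have hnt : Nontrivial ((q.under R).Fiber (Synt.RelGCIRing R n c F)) := by
      by_contra hcon
      rw [not_nontrivial_iff_subsingleton] at hcon
      exact (PrimeSpectrum.primesOverOrderIsoFiber R (Synt.RelGCIRing R n c F) (q.under R)
          ⟨q, ‹_›, hlo⟩).isPrime.ne_top (Subsingleton.elim _ _)
    obtain ⟨hcn, hdim⟩ := hF ⟨q.under R, inferInstance⟩ hnt
    exact Groth.Agent.Lib.Helper25.RelGCIJacobian.exists_cols_det_notMem_of_isSmoothAt F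
      Ideal.Quotient.mk_surjective Ideal.mk_ker q (q.under R) _ hq' hcn hdim h
  · rintro ⟨I, hI⟩
    let 𝔔 : Ideal (MvPolynomial (Fin n) R) := q.comap (Ideal.Quotient.mk (Ideal.span (Set.range F)))
    haveI : 𝔔.IsPrime := Ideal.comap_isPrime _ _
    haveI : Algebra.Smooth R (MvPolynomial (Fin n) R) := ⟨inferInstance, inferInstance⟩
    haveI : Algebra.IsSmoothAt R 𝔔 := by
      have h : (⟨𝔔, inferInstance⟩ : PrimeSpectrum (MvPolynomial (Fin n) R)) ∈
          Algebra.smoothLocus R (MvPolynomial (Fin n) R) := by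
        rw [Algebra.smoothLocus_eq_univ]; trivial
      exact h
    have hdet : Matrix.det (Matrix.of fun j i => MvPolynomial.pderiv (I i) (F j)) ∉ 𝔔 := hI
    have hli := Groth.Agent.Lib.Helper25.RelGCIJacobian.linearIndependent_one_tmul_D_of_det_ne_zero
      (L := 𝔔.ResidueField) F I (by
        rw [Ne, Ideal.algebraMap_residueField_eq_zero]
        exact hdet)
    exact Groth.Agent.Lib.Helper25.JacobianCrit.isSmoothAt_quotient_of_linearIndependent' R F q 𝔔 rfl hli


end Groth.Agent.S9441
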