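import Groth.Statements.S9442
import Mathlib
import Groth.Agent.Lib.Helper23.FieldSep3
import Groth.Agent.S3436
-- import your own Groth.Agent.* helpers here

set_option autoImplicit false
universe u
open CAlg

namespace Groth.Agent.S9442

open Groth.Agent.Lib.Helper23.FieldSep


/-- For a finite type algebra S over a field k and a prime q of S with κ(q) separable over k, S is
smooth over k at q if and only if S_q is a regular local ring. -/
theorem result (k : Type u) [Field k]
    (S : Type u) [CommRing S] [Algebra k S] [Algebra.FiniteType k S] (q : Ideal S) [q.IsPrime]
    [Algebra.IsGeometricallyReduced k q.ResidueField] :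
    Algebra.IsSmoothAt k q ↔ IsRegularLocalRing (Localization.AtPrime q) := by
  haveI : IsNoetherianRing S := Algebra.FiniteType.isNoetherianRing k S
  haveI : IsNoetherianRing (Localization.AtPrime q) :=
    IsLocalization.isNoetherianRing q.primeCompl _ inferInstance
  constructor
  · intro h
    haveI : Algebra.FormallySmooth k (Localization.AtPrime q) := h
    exact isRegularLocalRing_of_formallySmooth_field k (Localization.AtPrime q)
  · intro h
    show Algebra.FormallySmooth k (Localization.AtPrime q)
    haveI : Algebra.FormallySmooth k
        (Localization.AtPrime q ⧸ IsLocalRing.maximalIdeal (Localization.AtPrime q)) :=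
      (formallySmooth_iff_isGeometricallyReduced k q.ResidueField).mpr inferInstance
    letI : Field (Localization.AtPrime q ⧸ IsLocalRing.maximalIdeal (Localization.AtPrime q)) :=
      Ideal.Quotient.field _
    have h1 : PP16.SymGrBijective (Localization.AtPrime q)
        (IsLocalRing.maximalIdeal (Localization.AtPrime q)) :=
      (Groth.Agent.Lib.Helper23.SymGrRegular.isRegularLocalRing_iff_symGrBijective _).mp h
    have h2 : Module.Projective
        (Localization.AtPrime q ⧸ IsLocalRing.maximalIdeal (Localization.AtPrime q))
        (IsLocalRing.maximalIdeal (Localization.AtPrime q)).Cotangent := Module.Projective.of_free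
    have h3 := (Groth.Agent.Lib.Helper23.AdicSmoothSym.adicSmooth_iff
      (A := k) (B := Localization.AtPrime q)
      (IsLocalRing.maximalIdeal (Localization.AtPrime q))).mpr ⟨h2, h1⟩
    haveI : Algebra.EssFiniteType k (Localization.AtPrime q) :=
      Algebra.EssFiniteType.comp k S (Localization.AtPrime q)
    exact Groth.Agent.S3436.formallySmooth_of_adic k (Localization.AtPrime q) h3

end Groth.Agent.S9442
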