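import Groth.Statements.S9443
import Mathlib
import Groth.Agent.Lib.Helper20.CohenReg

set_option autoImplicit false
universe u
open CAlg

namespace Groth.Agent.S9443


/-- A complete regular local ring R with a coefficient field k (a subfield mapping isomorphically onto
the residue field) is k-isomorphic to a power series ring over k in finitely many variables
(existence of an isomorphism only; the number of variables is then the dimension of R). -/
theorem result (R : Type u)
    [CommRing R] [IsRegularLocalRing R] [IsAdicComplete (IsLocalRing.maximalIdeal R) R]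
    (k : Type u) [Field k] [Algebra k R]
    (hk : Function.Bijective (algebraMap k (IsLocalRing.ResidueField R))) :
    ∃ d : ℕ, Nonempty (R ≃ₐ[k] MvPowerSeries (Fin d) k) := by
  obtain ⟨n, x, hx, hreg⟩ := Groth.Agent.Lib.Helper20.BlowupDVR.exists_rsop R
  have hxm : ∀ i, x i ∈ IsLocalRing.maximalIdeal R := fun i => by
    rw [← hx]; exact Ideal.subset_span ⟨i, rfl⟩
  refine ⟨n, ⟨(AlgEquiv.ofBijective (Groth.Agent.Lib.Helper20.CohenReg.Phi k x hxm)
    ⟨Groth.Agent.Lib.Helper20.CohenReg.Phi_injective k x hxm hx hreg.toIsWeaklyRegular,
      Groth.Agent.Lib.Helper20.CohenReg.Phi_surjective k x hxm hx hk.2⟩).symm⟩⟩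

end Groth.Agent.S9443
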