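import Groth.Statements.S9444
import Mathlib
import Groth.Agent.Lib.Helper20.CoeffFieldP
import Groth.Agent.S9443

set_option autoImplicit false
universe u
open CAlg

namespace Groth.Agent.S9444


/-- A complete regular local ring containing a field (that is, containing the prime field F_p or ℚ) is
isomorphic to a power series ring in finitely many variables over its residue field (existence of an
isomorphism only). -/
theorem result (R : Type u)
    [CommRing R] [IsRegularLocalRing R] [IsAdicComplete (IsLocalRing.maximalIdeal R) R]
    (k₀ : Type u) [Field k₀] [Algebra k₀ R] :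
    ∃ d : ℕ, Nonempty (R ≃+* MvPowerSeries (Fin d) (IsLocalRing.ResidueField R)) := by
  obtain ⟨σ, hσ⟩ := Groth.Agent.Lib.Helper20.CoeffFieldP.exists_coeffField R k₀
  let _ : Algebra (IsLocalRing.ResidueField R) R := σ.toAlgebra
  have hk : Function.Bijective (@algebraMap (IsLocalRing.ResidueField R) (IsLocalRing.ResidueField R)
      _ _ (IsLocalRing.ResidueField.algebra R)) := by
    have : @algebraMap (IsLocalRing.ResidueField R) (IsLocalRing.ResidueField R)
      _ _ (IsLocalRing.ResidueField.algebra R) =
        (IsLocalRing.residue R).comp σ := rfl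
    rw [this, hσ]
    exact Function.bijective_id
  obtain ⟨d, ⟨e⟩⟩ := Groth.Agent.S9443.result R (IsLocalRing.ResidueField R) hk
  exact ⟨d, ⟨e.toRingEquiv⟩⟩

end Groth.Agent.S9444
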