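import Groth.Statements.S9445
import Mathlib
-- import your own Groth.Agent.* helpers here

set_option autoImplicit false
universe u
open CAlg

namespace Groth.Agent.S9445

open TensorProduct


open TensorProduct in
/-- For ring maps R → S → S' with S → S' formally étale and k ≥ 0, let J' ⊆ S' ⊗_R S' be the kernel of
multiplication and I ⊆ S' ⊗_R S its preimage under the map induced by S → S' (I is the kernel of S'
⊗_R S → S', and (S' ⊗_R S)/I^{k+1} is S' ⊗_S P^k_{S/R}); then (S' ⊗_R S)/I^{k+1} → (S' ⊗_R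
S')/J'^{k+1} is bijective. (The consequence S' ⊗_S Ω_{S/R} ≅ Ω_{S'/R} is Mathlib's
KaehlerDifferential.isBaseChange_of_formallyEtale.) -/
theorem result (R : Type u) [CommRing R]
    (S : Type u) [CommRing S] [Algebra R S] (S' : Type u) [CommRing S'] [Algebra R S']
    [Algebra S S'] [IsScalarTower R S S'] [Algebra.FormallyEtale S S'] (k : ℕ) :
    Function.Bijective (Ideal.quotientMap (KaehlerDifferential.ideal R S' ^ (k + 1))
      (Algebra.TensorProduct.map (AlgHom.id S' S') (IsScalarTower.toAlgHom R S S')).toRingHom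
      (Ideal.le_comap_pow
        (Algebra.TensorProduct.map (AlgHom.id S' S') (IsScalarTower.toAlgHom R S S')).toRingHom
        (K := KaehlerDifferential.ideal R S') (k + 1))) := by
  let T := S' ⊗[R] S
  let T' := S' ⊗[R] S'
  let θ : T →ₐ[S'] T' := Algebra.TensorProduct.map (AlgHom.id S' S') (IsScalarTower.toAlgHom R S S')
  let J' : Ideal T' := KaehlerDifferential.ideal R S'
  let μ : T' →ₐ[S'] S' := Algebra.TensorProduct.lmul'' R
  have hJ' : J' = RingHom.ker μ := rfl
  let I : Ideal T := J'.comap θ.toRingHom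
  let ν : T →ₐ[S'] S' := μ.comp θ
  have hI : I = RingHom.ker ν := rfl
  have hμ : ∀ a b : S', μ (a ⊗ₜ[R] b) = a * b := fun _ _ => rfl
  have hθ : ∀ (a : S') (s : S), θ (a ⊗ₜ[R] s) = a ⊗ₜ[R] algebraMap S S' s := fun _ _ => rfl
  have hν : ∀ (a : S') (s : S), ν (a ⊗ₜ[R] s) = a * algebraMap S S' s := fun _ _ => rfl
  let P := T ⧸ I ^ (k + 1)
  let P' := T' ⧸ J' ^ (k + 1)
  let Φ : P →+* P' := Ideal.quotientMap (J' ^ (k + 1)) θ.toRingHom
    (Ideal.le_comap_pow θ.toRingHom (K := J') (k + 1))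
  show Function.Bijective Φ
  -- π : P → S'
  let π : P →ₐ[S'] S' := Ideal.Quotient.liftₐ (I ^ (k + 1)) ν (fun a ha => by
    have : a ∈ I := Ideal.pow_le_self (by omega) ha
    rwa [hI, RingHom.mem_ker] at this)
  have hπmk : ∀ t : T, π (Ideal.Quotient.mk _ t) = ν t := fun t => rfl
  have hπsurj : Function.Surjective π := fun a => ⟨Ideal.Quotient.mk _ (a ⊗ₜ 1), by
    rw [hπmk, hν, map_one, mul_one]⟩
  have hkerπ : RingHom.ker (π : P →+* S') = I.map (Ideal.Quotient.mk (I ^ (k + 1))) := by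
    have := Ideal.ker_quotient_lift (I := I ^ (k + 1)) (ν : T →+* S') (fun a ha => by
      have : a ∈ I := Ideal.pow_le_self (by omega) ha
      rwa [hI] at this)
    exact this
  have hnil : IsNilpotent (RingHom.ker (π : P →+* S')) :=
    ⟨k + 1, by rw [hkerπ, ← Ideal.map_pow, Ideal.map_quotient_self]; rfl⟩
  -- S-algebra structure on P
  letI : Algebra S P := ((Ideal.Quotient.mk (I ^ (k + 1))).comp
    (Algebra.TensorProduct.includeRight : S →ₐ[R] T).toRingHom).toAlgebra
  have halgSP : ∀ s : S, algebraMap S P s = Ideal.Quotient.mk _ ((1 : S') ⊗ₜ[R] s) := fun s => rfl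
  let πS : P →ₐ[S] S' := { (π : P →+* S') with
    commutes' := fun s => by
      show π (algebraMap S P s) = _
      rw [halgSP, hπmk, hν, one_mul] }
  have hπS : ∀ x, πS x = π x := fun x => rfl
  have : Algebra.FormallySmooth S S' := inferInstance
  let ψ : S' →ₐ[S] P := Algebra.FormallySmooth.liftOfSurjective (AlgHom.id S S') πS hπsurj hnil
  have hψ : ∀ b : S', π (ψ b) = b := fun b =>
    Algebra.FormallySmooth.liftOfSurjective_apply (AlgHom.id S S') πS hπsurj hnil b
  let ψR : S' →ₐ[R] P := { (ψ : S' →+* P) with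
    commutes' := fun r => by
      show ψ (algebraMap R S' r) = algebraMap R P r
      rw [IsScalarTower.algebraMap_apply R S S', ψ.commutes (algebraMap R S r), halgSP,
        IsScalarTower.algebraMap_apply R T P, Algebra.TensorProduct.algebraMap_apply']
      rfl }
  let Ψ : T' →ₐ[S'] P := Algebra.TensorProduct.lift (Algebra.ofId S' P) ψR (fun _ _ => .all _ _)
  have hΨ : ∀ a b : S', Ψ (a ⊗ₜ[R] b) = algebraMap S' P a * ψ b := fun a b =>
    Algebra.TensorProduct.lift_tmul _ _ _ a b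
  have hπΨ : ∀ x : T', π (Ψ x) = μ x := by
    intro x
    induction x using TensorProduct.induction_on with
    | zero => simp
    | add x y hx hy => rw [map_add, map_add, map_add, hx, hy]
    | tmul a b => rw [hΨ, map_mul, hψ, hμ, AlgHom.commutes]; rfl
  have hΨJ : ∀ x ∈ J' ^ (k + 1), (Ψ : T' →+* P) x = 0 := by
    have h1 : J'.map (Ψ : T' →+* P) ≤ RingHom.ker (π : P →+* S') := by
      rw [Ideal.map_le_iff_le_comap]
      intro x hx
      rw [Ideal.mem_comap, RingHom.mem_ker]
      show π (Ψ x) = 0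
      rw [hπΨ]
      rwa [hJ', RingHom.mem_ker] at hx
    intro x hx
    have h2 : (Ψ : T' →+* P) x ∈ (J' ^ (k + 1)).map (Ψ : T' →+* P) := Ideal.mem_map_of_mem _ hx
    rw [Ideal.map_pow] at h2
    have h3 := Ideal.pow_right_mono h1 (k + 1) h2
    rw [hkerπ, ← Ideal.map_pow, Ideal.map_quotient_self] at h3
    exact h3
  let Ψbar : P' →+* P := Ideal.Quotient.lift (J' ^ (k + 1)) (Ψ : T' →+* P) hΨJ
  have halgS'P : ∀ a : S', algebraMap S' P a = Ideal.Quotient.mk _ (a ⊗ₜ[R] (1 : S)) :=
    fun a => rfl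
  have hleft : ∀ x : P, Ψbar (Φ x) = x := by
    intro x
    obtain ⟨t, rfl⟩ := Ideal.Quotient.mk_surjective x
    show (Ψ : T' →+* P) (θ t) = _
    induction t using TensorProduct.induction_on with
    | zero => simp
    | add x y hx hy => simp only [map_add, hx, hy]
    | tmul a s =>
      rw [hθ]
      show Ψ (a ⊗ₜ algebraMap S S' s) = _
      rw [hΨ, ψ.commutes, halgSP, halgS'P, ← map_mul, Algebra.TensorProduct.tmul_mul_tmul,
        mul_one, one_mul]
  -- π' : P' → S'
  let π' : P' →+* S' := Ideal.Quotient.lift (J' ^ (k + 1)) (μ : T' →+* S') (fun a ha => by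
    have : a ∈ J' := Ideal.pow_le_self (by omega) ha
    rwa [hJ', RingHom.mem_ker] at this)
  have hπ'mk : ∀ t : T', π' (Ideal.Quotient.mk _ t) = μ t := fun t => rfl
  have hkerπ' : RingHom.ker π' = J'.map (Ideal.Quotient.mk (J' ^ (k + 1))) := by
    have := Ideal.ker_quotient_lift (I := J' ^ (k + 1)) (μ : T' →+* S') (fun a ha => by
      have : a ∈ J' := Ideal.pow_le_self (by omega) ha
      rwa [hJ'] at this)
    exact this
  have hnil' : IsNilpotent (RingHom.ker π') :=
    ⟨k + 1, by rw [hkerπ', ← Ideal.map_pow, Ideal.map_quotient_self]; rfl⟩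
  have hΦmk : ∀ t : T, Φ (Ideal.Quotient.mk _ t) = Ideal.Quotient.mk _ (θ t) := fun t => rfl
  have hπ'Φ : ∀ x : P, π' (Φ x) = π x := by
    intro x
    obtain ⟨t, rfl⟩ := Ideal.Quotient.mk_surjective x
    rw [hΦmk, hπ'mk, hπmk]
    rfl
  letI : Algebra S P' := ((Ideal.Quotient.mk (J' ^ (k + 1))).comp
    ((Algebra.TensorProduct.includeRight : S' →ₐ[R] T').toRingHom.comp (algebraMap S S'))).toAlgebra
  have halgSP' : ∀ s : S, algebraMap S P' s =
      Ideal.Quotient.mk _ ((1 : S') ⊗ₜ[R] algebraMap S S' s) := fun s => rfl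
  let g₁ : S' →ₐ[S] P' := { Φ.comp (ψ : S' →+* P) with
    commutes' := fun s => by
      show Φ (ψ (algebraMap S S' s)) = _
      rw [ψ.commutes, halgSP, hΦmk, hθ, halgSP'] }
  let g₂ : S' →ₐ[S] P' := { (Ideal.Quotient.mk (J' ^ (k + 1))).comp
      (Algebra.TensorProduct.includeRight : S' →ₐ[R] T').toRingHom with
    commutes' := fun s => rfl }
  have : Algebra.FormallyUnramified S S' := inferInstance
  have hg : g₁ = g₂ := Algebra.FormallyUnramified.ext' π' hnil' g₁ g₂ (fun b => by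
    show π' (Φ (ψ b)) = π' (Ideal.Quotient.mk _ ((1 : S') ⊗ₜ[R] b))
    rw [hπ'Φ, hψ, hπ'mk, hμ, one_mul])
  have hΦψ : ∀ b : S', Φ (ψ b) = Ideal.Quotient.mk _ ((1 : S') ⊗ₜ[R] b) := fun b =>
    congr($hg b)
  refine ⟨Function.LeftInverse.injective hleft, ?_⟩
  intro y
  obtain ⟨t', rfl⟩ := Ideal.Quotient.mk_surjective y
  induction t' using TensorProduct.induction_on with
  | zero => exact ⟨0, by simp⟩
  | add x y hx hy =>
    obtain ⟨x', hx'⟩ := hx
    obtain ⟨y', hy'⟩ := hy
    exact ⟨x' + y', by rw [map_add, hx', hy', map_add]⟩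
  | tmul a b =>
    refine ⟨algebraMap S' P a * ψ b, ?_⟩
    rw [map_mul, hΦψ, halgS'P, hΦmk, hθ, map_one, ← map_mul, Algebra.TensorProduct.tmul_mul_tmul,
      mul_one, one_mul]

end Groth.Agent.S9445
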