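import Groth.Statements.S9446
import Mathlib
-- import your own Groth.Agent.* helpers here

set_option autoImplicit false
universe u
open CAlg

namespace Groth.Agent.S9446

open TensorProduct

theorem flat_of_indSmooth (R : Type u) [CommRing R] (S : Type u)
    [CommRing S] [Algebra R S] (hS : Smoothing.IndSmooth R S) : Module.Flat R S := by
  classical
  apply Module.Flat.of_forall_isTrivialRelation
  intro l f x hfx
  obtain ⟨rel, hrel_def⟩ : ∃ r : MvPolynomial (Fin l) R,
    r = ∑ i, MvPolynomial.C (f i) * MvPolynomial.X i := ⟨_, rfl⟩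
  let A := MvPolynomial (Fin l) R ⧸ Ideal.span {rel}
  have hfp : Algebra.FinitePresentation R A :=
    Algebra.FinitePresentation.quotient ⟨{rel}, by simp⟩
  have hrelx : MvPolynomial.aeval x rel = 0 := by
    rw [hrel_def]
    simp only [map_sum, map_mul, MvPolynomial.aeval_C, MvPolynomial.aeval_X]
    simpa [Algebra.smul_def] using hfx
  let φ : A →ₐ[R] S := Ideal.Quotient.liftₐ _ (MvPolynomial.aeval x) (by
    intro a ha
    obtain ⟨c, rfl⟩ := Ideal.mem_span_singleton.mp ha
    rw [map_mul, hrelx, zero_mul])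
  obtain ⟨B', _, _, hsm, g, h, hgh⟩ := hS A hfp φ
  have hflat : Module.Flat R B' := inferInstance
  let mk : MvPolynomial (Fin l) R →ₐ[R] A := Ideal.Quotient.mkₐ R _
  let X' : Fin l → B' := fun i => g (mk (MvPolynomial.X i))
  have hrel : ∑ i, f i • X' i = 0 := by
    have h0 : g (mk rel) = 0 := by
      have : mk rel = 0 := Ideal.Quotient.eq_zero_iff_mem.mpr (Ideal.mem_span_singleton_self rel)
      rw [this, map_zero]
    have h1 : mk rel = mk (∑ i, MvPolynomial.C (f i) * MvPolynomial.X i) :=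
      congrArg (⇑mk) hrel_def
    rw [h1] at h0
    simp only [map_sum, map_mul] at h0
    rw [← h0]
    refine Finset.sum_congr rfl fun i _ => ?_
    rw [Algebra.smul_def]
    congr 1
    rw [← MvPolynomial.algebraMap_eq, AlgHom.commutes, AlgHom.commutes]
  obtain ⟨k, a, y, hay, ha⟩ := Module.Flat.isTrivialRelation_of_sum_smul_eq_zero (R := R) (M := B') hrel
  refine ⟨k, a, fun j => h (y j), fun i => ?_, ha⟩
  have : x i = h (X' i) := by
    have := congr($hgh (mk (MvPolynomial.X i)))
    simp only [AlgHom.comp_apply] at this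
    rw [this]
    show x i = MvPolynomial.aeval x (MvPolynomial.X i)
    rw [MvPolynomial.aeval_X]
  rw [this, hay, map_sum]
  simp

theorem surj_of_indSmooth (R : Type u) [CommRing R] (S : Type u)
    [CommRing S] [Algebra R S] (hS : Smoothing.IndSmooth R S) (B : Type u) [CommRing B]
    [Algebra R B] : Function.Surjective (TensorProduct.toIntegralClosure R S B) := by
  classical
  have hflat := flat_of_indSmooth R S hS
  rintro ⟨z, hz⟩
  obtain ⟨p, hpmonic, hpz⟩ := hz
  obtain ⟨F, hF⟩ := TensorProduct.exists_finset z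
  let σ : Finset S := F.image Prod.fst ∪ p.coeffs
  let Λ := MvPolynomial σ R
  let φ : Λ →ₐ[R] S := MvPolynomial.aeval (fun i : σ => (i : S))
  have hφσ : ∀ s ∈ σ, s ∈ Set.range φ := fun s hs => ⟨MvPolynomial.X ⟨s, hs⟩,
    MvPolynomial.aeval_X (fun i : σ => (i : S)) ⟨s, hs⟩⟩
  have hp_lifts : p ∈ Polynomial.lifts (φ : Λ →+* S) := by
    rw [Polynomial.lifts_iff_coeff_lifts]
    intro n
    by_cases hn : p.coeff n = 0
    · exact ⟨0, by simp [hn]⟩
    · exact hφσ _ (Finset.mem_union_right _ (Polynomial.coeff_mem_coeffs hn))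
  obtain ⟨p', hp'map, -, hp'monic⟩ :=
    Polynomial.lifts_and_natDegree_eq_and_monic hp_lifts hpmonic
  let pre : S → Λ := fun s => if h : s ∈ σ then MvPolynomial.X ⟨s, h⟩ else 0
  have hpre : ∀ s ∈ σ, φ (pre s) = s := fun s hs => by
    simp only [pre, hs, dif_pos]
    exact MvPolynomial.aeval_X (fun i : σ => (i : S)) ⟨s, hs⟩
  let z' : Λ ⊗[R] B := ∑ i ∈ F, pre i.1 ⊗ₜ i.2
  let Θ : Λ ⊗[R] B →ₐ[R] S ⊗[R] B := Algebra.TensorProduct.map φ (AlgHom.id R B)
  have hΘz : Θ z' = z := by
    rw [hF]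
    simp only [z', map_sum, Θ, Algebra.TensorProduct.map_tmul, AlgHom.id_apply]
    refine Finset.sum_congr rfl fun i hi => ?_
    rw [hpre _ (Finset.mem_union_left _ (Finset.mem_image_of_mem _ hi))]
  let w' : Λ ⊗[R] B := Polynomial.eval₂ (algebraMap Λ (Λ ⊗[R] B)) z' p'
  have hΘcomp : (Θ : Λ ⊗[R] B →+* S ⊗[R] B).comp (algebraMap Λ (Λ ⊗[R] B)) =
      (algebraMap S (S ⊗[R] B)).comp (φ : Λ →+* S) := by
    refine RingHom.ext fun r => ?_
    show Θ (algebraMap Λ (Λ ⊗[R] B) r) = algebraMap S (S ⊗[R] B) (φ r)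
    rw [Algebra.TensorProduct.algebraMap_apply, Algebra.TensorProduct.algebraMap_apply]
    simp [Θ]
  have hΘw : Θ w' = 0 := by
    have := Polynomial.hom_eval₂ p' (algebraMap Λ (Λ ⊗[R] B)) (Θ : Λ ⊗[R] B →+* S ⊗[R] B) z'
    simp only [RingHom.coe_coe] at this
    rw [this, hΘcomp, ← Polynomial.eval₂_map, hΘz, hp'map]
    exact hpz
  -- Step B: trivial vanishing
  obtain ⟨G, hG⟩ := TensorProduct.exists_finset w'
  let mB : G → B := fun k => k.1.2
  let nS : G → S := fun k => φ k.1.1
  have hsum : ∑ k : G, mB k ⊗ₜ[R] nS k = (0 : B ⊗[R] S) := by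
    have h1 : Θ w' = ∑ k ∈ G, φ k.1 ⊗ₜ[R] k.2 := by
      rw [hG]
      simp only [map_sum, Θ, Algebra.TensorProduct.map_tmul, AlgHom.id_apply]
    have h2 := congrArg (TensorProduct.comm R S B) h1
    rw [hΘw, map_zero, map_sum] at h2
    simp only [TensorProduct.comm_tmul] at h2
    rw [← Finset.sum_coe_sort] at h2
    exact h2.symm
  have hinj : Function.Injective
      (LinearMap.rTensor S (Submodule.span R (Set.range mB)).subtype) :=
    Module.Flat.rTensor_preserves_injective_linearMap _ (Submodule.injective_subtype _)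
  obtain ⟨κ, a, y, hay, ham⟩ :=
    TensorProduct.vanishesTrivially_of_sum_tmul_eq_zero_of_rTensor_injective R hinj hsum
  -- Step C
  let MP := MvPolynomial (Fin κ) Λ
  let rels : G → MP := fun k => MvPolynomial.C k.1.1 - ∑ j, a k j • MvPolynomial.X j
  let A₁ := MP ⧸ Ideal.span (Set.range rels)
  have hfpMP : Algebra.FinitePresentation R MP :=
    Algebra.FinitePresentation.trans R Λ MP
  have hfp₁ : Algebra.FinitePresentation R A₁ :=
    Algebra.FinitePresentation.quotient ⟨(Set.finite_range rels).toFinset, by simp⟩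
  letI : Algebra Λ S := φ.toRingHom.toAlgebra
  haveI : IsScalarTower R Λ S := .of_algebraMap_eq' φ.comp_algebraMap.symm
  let φ₁' : MP →ₐ[R] S := (MvPolynomial.aeval y : MP →ₐ[Λ] S).restrictScalars R
  have hker : Ideal.span (Set.range rels) ≤ RingHom.ker φ₁' := by
    rw [Ideal.span_le]
    rintro _ ⟨k, rfl⟩
    rw [SetLike.mem_coe, RingHom.mem_ker]
    have hC : ∀ l : Λ, φ₁' (MvPolynomial.C l) = φ l := fun l =>
      MvPolynomial.aeval_C (R := Λ) y l
    have hX : ∀ j, φ₁' (MvPolynomial.X j) = y j := fun j => MvPolynomial.aeval_X (R := Λ) y j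
    simp only [rels, map_sub, map_sum, map_smul, hC, hX]
    rw [sub_eq_zero]
    exact hay k
  let φ₁ : A₁ →ₐ[R] S := Ideal.Quotient.liftₐ _ φ₁' (fun x hx => hker hx)
  obtain ⟨B', _, _, hsm, g, h, hgh⟩ := hS A₁ hfp₁ φ₁
  -- Step D
  let mk₁ : MP →ₐ[R] A₁ := Ideal.Quotient.mkₐ R _
  let ι₁ : Λ →ₐ[R] A₁ := mk₁.comp (IsScalarTower.toAlgHom R Λ MP)
  let ψ : Λ →ₐ[R] B' := g.comp ι₁
  have hhψ : ∀ l : Λ, h (ψ l) = φ l := by
    intro l
    have := congr($hgh (ι₁ l))
    simp only [AlgHom.comp_apply] at this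
    show h (g (ι₁ l)) = _
    rw [this]
    exact MvPolynomial.aeval_C (R := Λ) y l
  let Ψ : Λ ⊗[R] B →ₐ[R] B' ⊗[R] B := Algebra.TensorProduct.map ψ (AlgHom.id R B)
  let H : B' ⊗[R] B →ₐ[R] S ⊗[R] B := Algebra.TensorProduct.map h (AlgHom.id R B)
  have hHΨ : ∀ t, H (Ψ t) = Θ t := by
    intro t
    induction t using TensorProduct.induction_on with
    | zero => simp
    | add x y hx hy => rw [map_add, map_add, map_add, hx, hy]
    | tmul l b =>
      simp only [H, Ψ, Θ, Algebra.TensorProduct.map_tmul, AlgHom.id_apply, hhψ]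
  let zB : B' ⊗[R] B := Ψ z'
  have hHz : H zB = z := by rw [hHΨ, hΘz]
  let Y : Fin κ → B' := fun j => g (mk₁ (MvPolynomial.X j))
  have hψk : ∀ k : G, ψ k.1.1 = ∑ j, a k j • Y j := by
    intro k
    have h1 : mk₁ (rels k) = 0 :=
      Ideal.Quotient.eq_zero_iff_mem.mpr (Ideal.subset_span ⟨k, rfl⟩)
    simp only [rels, map_sub, sub_eq_zero, map_sum, map_smul] at h1
    show g (mk₁ (MvPolynomial.C k.1.1)) = _
    rw [h1, map_sum]
    simp only [map_smul, Y]
  have hΨw : Ψ w' = 0 := by
    rw [hG]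
    simp only [map_sum, Ψ, Algebra.TensorProduct.map_tmul, AlgHom.id_apply]
    rw [← Finset.sum_coe_sort]
    have h2 : ∀ k : G, ψ k.1.1 ⊗ₜ[R] k.1.2 = ∑ j, Y j ⊗ₜ[R] (a k j • mB k) := by
      intro k
      rw [hψk, TensorProduct.sum_tmul]
      refine Finset.sum_congr rfl fun j _ => ?_
      rw [TensorProduct.smul_tmul]
    simp only [h2]
    rw [Finset.sum_comm]
    simp only [← TensorProduct.tmul_sum, ham, TensorProduct.tmul_zero, Finset.sum_const_zero]
  have hΨcomp : (Ψ : Λ ⊗[R] B →+* B' ⊗[R] B).comp (algebraMap Λ (Λ ⊗[R] B)) =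
      (algebraMap B' (B' ⊗[R] B)).comp (ψ : Λ →+* B') := by
    refine RingHom.ext fun r => ?_
    show Ψ (algebraMap Λ (Λ ⊗[R] B) r) = algebraMap B' (B' ⊗[R] B) (ψ r)
    rw [Algebra.TensorProduct.algebraMap_apply, Algebra.TensorProduct.algebraMap_apply]
    simp [Ψ]
  have hzB : IsIntegral B' zB := by
    refine ⟨p'.map (ψ : Λ →+* B'), hp'monic.map _, ?_⟩
    have := Polynomial.hom_eval₂ p' (algebraMap Λ (Λ ⊗[R] B)) (Ψ : Λ ⊗[R] B →+* B' ⊗[R] B) z'
    simp only [RingHom.coe_coe] at this
    rw [Polynomial.eval₂_map, ← hΨcomp, ← this]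
    exact hΨw
  -- Step E
  obtain ⟨u', hu'⟩ := (TensorProduct.toIntegralClosure_bijective_of_smooth (R := R) (S := B')
    (B := B)).2 ⟨zB, hzB⟩
  let H' : B' ⊗[R] integralClosure R B →ₐ[R] S ⊗[R] integralClosure R B :=
    Algebra.TensorProduct.map h (AlgHom.id R _)
  refine ⟨H' u', ?_⟩
  apply Subtype.ext
  have hvalS : ∀ x, ((TensorProduct.toIntegralClosure R S B x) : S ⊗[R] B) =
      Algebra.TensorProduct.map (AlgHom.id S S) (integralClosure R B).val x := fun x => rfl
  have hvalB' : ∀ x, ((TensorProduct.toIntegralClosure R B' B x) : B' ⊗[R] B) =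
      Algebra.TensorProduct.map (AlgHom.id B' B') (integralClosure R B).val x := fun x => rfl
  have key : ∀ t : B' ⊗[R] integralClosure R B,
      Algebra.TensorProduct.map (AlgHom.id S S) (integralClosure R B).val (H' t) =
        H (Algebra.TensorProduct.map (AlgHom.id B' B') (integralClosure R B).val t) := by
    intro t
    induction t using TensorProduct.induction_on with
    | zero => simp
    | add x y hx hy => simp only [map_add, hx, hy]
    | tmul b c => rfl
  rw [hvalS, key, ← hvalB', hu']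
  exact hHz


/-- If S is ind-smooth over R (every R-algebra map into S from a finitely presented R-algebra factors
through a smooth R-algebra) then for every R-algebra B the canonical map S ⊗_R A → A', from the base
change of the integral closure A of R in B to the integral closure A' of S in S ⊗_R B, is bijective. -/
theorem result (R : Type u) [CommRing R] (S : Type u)
    [CommRing S] [Algebra R S] (hS : Smoothing.IndSmooth R S) (B : Type u) [CommRing B]
    [Algebra R B] : Function.Bijective (TensorProduct.toIntegralClosure R S B) := by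
  have := flat_of_indSmooth R S hS
  exact ⟨TensorProduct.toIntegralClosure_injective_of_flat, surj_of_indSmooth R S hS B⟩

end Groth.Agent.S9446
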