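import Groth.Statements.S9448
import Mathlib
import Groth.Agent.Lib.Helper9.SmoothField

set_option autoImplicit false
universe u
open Unram

namespace Groth.Agent.S9448

open TensorProduct KaehlerDifferential IsLocalRing Groth.Agent.Lib.Helper9.JacobianPt
  Groth.Agent.Lib.Helper9.SmoothDim Groth.Agent.Lib.Helper9.SmoothField

section main

variable (k : Type u) [Field k] (n : ℕ)
    (A : Type u) [CommRing A] [Algebra k A] [Algebra (MvPolynomial (Fin n) k) A]
    [IsScalarTower k (MvPolynomial (Fin n) k) A] [Algebra.FiniteType (MvPolynomial (Fin n) k) A]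

local notation "P" => MvPolynomial (Fin n) k

omit [Algebra k A] [IsScalarTower k P A] [Algebra.FiniteType P A] in
theorem span_tensor_top :
    Submodule.span A (Set.range fun i : Fin n => (1 : A) ⊗ₜ[P] D k P (MvPolynomial.X i)) = ⊤ := by
  apply span_tmul_eq_top (L := A) (fun i : Fin n => D k P (MvPolynomial.X i))
  have h : (fun i : Fin n => D k P (MvPolynomial.X i)) = ⇑(mvPolynomialBasis k (Fin n)) := by
    funext i
    rw [mvPolynomialBasis_apply]
  rw [h]
  exact (mvPolynomialBasis k (Fin n)).span_eq

omit [Algebra k A] [IsScalarTower k P A] [Algebra.FiniteType P A] in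
theorem finrank_tensor (L : Type u) [Field L] [Algebra A L] :
    Module.finrank L (L ⊗[A] (A ⊗[P] Ω[P⁄k])) = n := by
  have : Nontrivial A := (algebraMap A L).domain_nontrivial
  rw [Module.finrank_baseChange, Module.finrank_baseChange,
    Module.finrank_eq_card_basis (mvPolynomialBasis k (Fin n)), Fintype.card_fin]

omit [Algebra.FiniteType P A] in
theorem range_mapBaseChange :
    LinearMap.range (mapBaseChange k P A) = Submodule.span A (Set.range fun i : Fin n =>
          D k A (algebraMap P A (MvPolynomial.X i))) := by
  rw [LinearMap.range_eq_map, ← span_tensor_top k n A, Submodule.map_span, ← Set.range_comp]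
  congr 2
  funext i
  simp [mapBaseChange_tmul]

theorem main :
    Algebra.Etale P A ↔
      (∀ (m : Ideal A) [m.IsMaximal], ringKrullDim (Localization.AtPrime m) = n) ∧
        Submodule.span A (Set.range fun i : Fin n =>
          D k A (algebraMap P A (MvPolynomial.X i))) = ⊤ := by
  have hft : Algebra.FiniteType k A :=
    Algebra.FiniteType.trans (R := k) (S := P) (A := A) inferInstance inferInstance
  constructor
  · intro het
    have hb : Submodule.span A (Set.range fun i : Fin n =>
          D k A (algebraMap P A (MvPolynomial.X i))) = ⊤ := by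
      rw [← range_mapBaseChange, LinearMap.range_eq_top]
      exact (tensorKaehlerEquivOfFormallyEtale k P A).surjective
    refine ⟨fun m hm => ?_, hb⟩
    have hsm : Algebra.Smooth k A := Algebra.Smooth.comp k P A
    have hsmm : Algebra.IsSmoothAt k m := by
      have : Algebra.FormallySmooth A (Localization.AtPrime m) :=
        Algebra.FormallySmooth.of_isLocalization m.primeCompl
      exact Algebra.FormallySmooth.comp k A (Localization.AtPrime m)
    rw [ringKrullDim_eq_finrank k A m hsmm]
    have e := (AlgebraTensorModule.congr (LinearEquiv.refl m.ResidueField m.ResidueField)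
        (tensorKaehlerEquivOfFormallyEtale k P A))
    rw [← e.finrank_eq, finrank_tensor]
  · rintro ⟨ha, hb⟩
    have hsmm : ∀ (m : Ideal A) [m.IsMaximal], Algebra.IsSmoothAt k m := by
      intro m hm
      rw [isSmoothAt_iff_finrank_le, ha m]
      have := finrank_fibre_le_of_span m.ResidueField _ hb
      exact_mod_cast this
    have hsm : Algebra.Smooth k A := smooth_of_forall_isSmoothAt k A hsmm
    have hrk : ∀ (m : Ideal A) [m.IsMaximal],
        Module.finrank m.ResidueField (m.ResidueField ⊗[A] Ω[A⁄k]) = n := by
      intro m hm
      have h1 := ringKrullDim_eq_finrank k A m (hsmm m)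
      rw [ha m] at h1
      exact_mod_cast h1.symm
    have hsurj : Function.Surjective (mapBaseChange k P A) := by
      rw [← LinearMap.range_eq_top, range_mapBaseChange, hb]
    have hinj : Function.Injective (mapBaseChange k P A) := by
      have : Module.Finite A (A ⊗[P] Ω[P⁄k]) := inferInstance
      apply injective_of_surjective_of_finrank_le _ hsurj
      intro m hm
      rw [hrk m, finrank_tensor]
    have hΩ : Subsingleton Ω[A⁄P] := by
      refine ⟨fun x y => ?_⟩
      have hx : ∀ z : Ω[A⁄P], z = 0 := by
        intro z
        obtain ⟨w, rfl⟩ := KaehlerDifferential.map_surjective k P A z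
        obtain ⟨v, rfl⟩ := hsurj w
        exact (KaehlerDifferential.exact_mapBaseChange_map k P A _).mpr ⟨v, rfl⟩
      rw [hx x, hx y]
    have hH : Subsingleton (Algebra.H1Cotangent P A) := by
      refine ⟨fun x y => ?_⟩
      have hx : ∀ z : Algebra.H1Cotangent P A, z = 0 := by
        intro z
        have h1 : Algebra.H1Cotangent.δ k P A z = 0 := by
          apply hinj
          rw [map_zero]
          exact (Algebra.H1Cotangent.exact_δ_mapBaseChange k P A _).mpr ⟨z, rfl⟩
        obtain ⟨w, rfl⟩ := (Algebra.H1Cotangent.exact_map_δ k P A z).mp h1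
        rw [Subsingleton.elim w 0, map_zero]
      rw [hx x, hx y]
    have hfp : Algebra.FinitePresentation P A :=
      Algebra.FinitePresentation.of_finiteType.mp inferInstance
    exact ⟨⟨hΩ, hH⟩, hfp⟩

end main

/-- For a field k and a finite type algebra A over the polynomial ring k[x_1, …, x_n] (the variables
mapping to a_1, …, a_n), the structure map is étale if and only if (a) the local rings of A at all
maximal ideals have dimension n and (b) da_1, …, da_n generate the module of differentials of A over
k. -/
theorem result (k : Type u) [Field k] (n : ℕ)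
    (A : Type u) [CommRing A] [Algebra k A] [Algebra (MvPolynomial (Fin n) k) A]
    [IsScalarTower k (MvPolynomial (Fin n) k) A] [Algebra.FiniteType (MvPolynomial (Fin n) k) A] :
    Algebra.Etale (MvPolynomial (Fin n) k) A ↔
      (∀ (m : Ideal A) [m.IsMaximal], ringKrullDim (Localization.AtPrime m) = n) ∧
        Submodule.span A (Set.range fun i : Fin n =>
          KaehlerDifferential.D k A (algebraMap (MvPolynomial (Fin n) k) A (MvPolynomial.X i))) = ⊤ := by
  exact main k n A

end Groth.Agent.S9448
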