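import Groth.Statements.S9452
import Mathlib
-- import your own Groth.Agent.* helpers here

set_option autoImplicit false
universe u
open Unram

namespace Groth.Agent.S9452

open TensorProduct

/-- base change of `IsUnramifiedAt` -/
theorem isUnramifiedAt_baseChange {R S : Type*} [CommRing R] [CommRing S] [Algebra R S]
    [Algebra.EssFiniteType R S] (q : Ideal S) [q.IsPrime] [Algebra.IsUnramifiedAt R q]
    (R' : Type*) [CommRing R'] [Algebra R R'] (P : Ideal (R' ⊗[R] S)) [P.IsPrime]
    (hP : P.comap Algebra.TensorProduct.includeRight.toRingHom = q) :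
    Algebra.IsUnramifiedAt R' P := by
  obtain ⟨g, hgq, hg⟩ := Algebra.exists_formallyUnramified_of_isUnramifiedAt (R := R) q
  have h1 : Algebra.FormallyUnramified R' (R' ⊗[R] Localization.Away g) := inferInstance
  have h2 : Algebra.FormallyUnramified R' (Localization.Away ((1 : R') ⊗ₜ[R] g)) :=
    .of_equiv (IsLocalization.Away.tensorProductEquivTMulRight R R' g (Localization.Away g))
  have h := (Algebra.basicOpen_subset_unramifiedLocus_iff (R := R') (A := R' ⊗[R] S)).mpr h2
  have hmem : (⟨P, ‹_›⟩ : PrimeSpectrum (R' ⊗[R] S)) ∈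
      (PrimeSpectrum.basicOpen ((1 : R') ⊗ₜ[R] g) : Set _) := by
    show (1 : R') ⊗ₜ[R] g ∉ P
    intro hmem
    apply hgq
    rw [← hP]
    exact hmem
  exact h hmem

theorem isUnramifiedAt_of_surjective {R T A : Type*} [CommRing R] [CommRing T] [CommRing A]
    [Algebra R T] [Algebra R A] (π : T →ₐ[R] A) (hπ : Function.Surjective π)
    (P : Ideal A) [P.IsPrime] (Q : Ideal T) [Q.IsPrime] (hQ : Q = P.comap π)
    [Algebra.IsUnramifiedAt R Q] : Algebra.IsUnramifiedAt R P := by
  let f₀ : Localization.AtPrime Q →ₐ[R] Localization.AtPrime P :=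
    Localization.localAlgHom Q P π hQ
  have hf₀ : Function.Surjective f₀ := by
    subst hQ
    exact (RingHom.surjectiveOnStalks_of_surjective (f := π.toRingHom) hπ) P ‹_›
  exact .of_surjective f₀ hf₀

theorem residueField_surjective {R A : Type*} [CommRing R] [CommRing A] [Algebra R A]
    (p : Ideal R) [p.IsPrime] (q : Ideal A) [q.IsPrime] [q.LiesOver p]
    [Algebra (Localization.AtPrime p) (Localization.AtPrime q)]
    [Localization.AtPrime.IsLiesOverAlgebra p q]
    (h : ∀ y : A, ∃ r : R, y - algebraMap R A r ∈ q) :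
    Function.Surjective (algebraMap p.ResidueField q.ResidueField) := by
  intro z
  obtain ⟨a, s, hs, rfl⟩ := IsFractionRing.div_surjective (A := A ⧸ q) z
  obtain ⟨a, rfl⟩ := Ideal.Quotient.mk_surjective a
  obtain ⟨s, rfl⟩ := Ideal.Quotient.mk_surjective s
  obtain ⟨ra, hra⟩ := h a
  obtain ⟨rs, hrs⟩ := h s
  refine ⟨algebraMap R _ ra / algebraMap R _ rs, ?_⟩
  have key : ∀ (y : A) (r : R), y - algebraMap R A r ∈ q →
      algebraMap p.ResidueField q.ResidueField (algebraMap R _ r) =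
        algebraMap (A ⧸ q) q.ResidueField (Ideal.Quotient.mk q y) := by
    intro y r hy
    rw [← IsScalarTower.algebraMap_apply, IsScalarTower.algebraMap_apply R (A ⧸ q) q.ResidueField]
    congr 1
    rw [IsScalarTower.algebraMap_apply R A (A ⧸ q), Ideal.Quotient.algebraMap_eq, eq_comm,
      Ideal.Quotient.eq]
    exact hy
  rw [map_div₀, key a ra hra, key s rs hrs]

theorem exists_shrink {R T : Type*} [CommRing R] [CommRing T] [Algebra R T]
    (e : T) (he : IsIdempotentElem e) (p : Ideal R) [p.IsPrime] (P : Ideal T) [P.IsPrime]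
    [P.LiesOver p] (heP : e ∉ P) [Module.Finite R (Localization.Away e)]
    (huniq : ∀ P'' : Ideal T, P''.IsPrime → P''.LiesOver p → e ∉ P'' → P'' = P)
    [Algebra.IsUnramifiedAt R P]
    (hsurj : ∀ x : T, ∃ r : R, x - algebraMap R T r ∈ P) :
    ∃ f ∉ p, ∀ x : T, ∃ r : R, f • x - algebraMap R T r ∈ Ideal.span {1 - e} := by
  classical
  let A := T ⧸ Ideal.span {1 - e}
  let π : T →ₐ[R] A := Ideal.Quotient.mkₐ R _
  have hπ : Function.Surjective π := Ideal.Quotient.mkₐ_surjective _ _
  have hker : RingHom.ker π = Ideal.span {1 - e} := Ideal.Quotient.mkₐ_ker R _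
  have h1e : 1 - e ∈ P := by
    have : e * (1 - e) ∈ P := by rw [mul_sub, mul_one, he.eq, sub_self]; exact P.zero_mem
    exact (‹P.IsPrime›.mem_or_mem this).resolve_left heP
  have hkerP : Ideal.span {1 - e} ≤ P := (Ideal.span_singleton_le_iff_mem _).mpr h1e
  have : IsLocalization.Away e A := IsLocalization.Away.quotient_of_isIdempotentElem he
  have hfin : Module.Finite R A :=
    Module.Finite.equiv ((IsLocalization.algEquiv (.powers e) (Localization.Away e)
      A).restrictScalars R).toLinearEquiv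
  let P'' : Ideal A := P.map π
  have hP''prime : P''.IsPrime :=
    Ideal.map_isPrime_of_surjective hπ (by rw [hker]; exact hkerP)
  have hcomap : P''.comap π = P := by
    rw [Ideal.comap_map_of_surjective π hπ, ← RingHom.ker_eq_comap_bot, hker,
      sup_eq_left.mpr hkerP]
  have hlies : P''.LiesOver p := ⟨by
    have h1 : (algebraMap R A) = (π : T →+* A).comp (algebraMap R T) := by
      ext r; simp
    rw [Ideal.under, h1, ← Ideal.comap_comap]
    erw [hcomap]
    exact P.over_def p⟩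
  have hq : p.primesOver A = {P''} := by
    ext Q
    constructor
    · rintro ⟨hQ1, hQ2⟩
      have h1 : (Q.comap π).IsPrime := Ideal.comap_isPrime _ _
      have h2 : (Q.comap π).LiesOver p := ⟨by
        have h1 : (algebraMap R A) = (π : T →+* A).comp (algebraMap R T) := by
          ext r; simp
        have := hQ2.over
        rw [Ideal.under, h1, ← Ideal.comap_comap] at this
        exact this⟩
      have h3 : e ∉ Q.comap π := by
        intro he'
        have h4 : (1 - e) ∈ Q.comap π := by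
          rw [Ideal.mem_comap]
          have : π (1 - e) = 0 := by
            rw [← RingHom.mem_ker, hker]; exact Ideal.mem_span_singleton_self _
          rw [this]; exact Q.zero_mem
        have h5 : (1 : T) ∈ Q.comap π := by
          have := add_mem he' h4
          rwa [add_sub_cancel] at this
        exact h1.ne_top ((Ideal.eq_top_iff_one _).mpr h5)
      have h6 := huniq _ h1 h2 h3
      rw [Set.mem_singleton_iff, ← Ideal.map_comap_of_surjective π hπ Q, h6]
    · rintro rfl; exact ⟨hP''prime, hlies⟩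
  have hunr : Algebra.IsUnramifiedAt R P'' :=
    isUnramifiedAt_of_surjective π hπ P'' P hcomap.symm
  let := Localization.AtPrime.algebraOfLiesOver p P''
  have H := residueField_surjective p P'' (fun y => by
    obtain ⟨x, rfl⟩ := hπ y
    obtain ⟨r, hr⟩ := hsurj x
    refine ⟨r, ?_⟩
    rw [← π.commutes, ← map_sub]
    exact Ideal.mem_map_of_mem _ hr)
  have hloc := Localization.localRingHom_surjective_of_primesOver_eq_singleton hq H
  have key : ∀ x : A, ∃ a : R, ∃ b ∉ p, algebraMap R A a = x * algebraMap R A b := by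
    intro x
    have := (IsLocalization.mk'_surjective p.primeCompl).exists.mp (hloc (algebraMap _ _ x))
    simp only [Localization.localRingHom_mk', Prod.exists, Subtype.exists,
      Ideal.mem_primeCompl_iff,
      IsLocalization.mk'_eq_iff_eq_mul, exists_prop, ← map_mul,
      IsLocalization.eq_iff_exists P''.primeCompl] at this
    obtain ⟨a, b, hbp, c, hcq, hc⟩ := this
    obtain ⟨d, hd, e, he⟩ := Ideal.exists_notMem_dvd_algebraMap_of_primesOver_eq_singleton hq _ hcq
    refine ⟨d * a, d * b, ‹p.IsPrime›.mul_notMem hd hbp, ?_⟩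
    rw [map_mul, map_mul, he]
    linear_combination e * hc
  choose a b hbp hab using key
  obtain ⟨s, hs⟩ := Module.Finite.fg_top (R := R) (M := A)
  have hfp : (∏ i ∈ s, b i) ∉ p := by
    intro h
    obtain ⟨i, -, hi⟩ := (‹p.IsPrime›.prod_mem_iff).mp h
    exact hbp i hi
  refine ⟨∏ i ∈ s, b i, hfp, ?_⟩
  have hN : ∀ y : A, ∃ r : R, (∏ i ∈ s, b i) • y = algebraMap R A r := by
    intro y
    have hy : y ∈ Submodule.span R (s : Set A) := hs ▸ Submodule.mem_top
    induction hy using Submodule.span_induction with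
    | mem x hx =>
        obtain ⟨c, hc⟩ := Finset.dvd_prod_of_mem b hx
        refine ⟨c * a x, ?_⟩
        rw [hc, map_mul, hab, Algebra.smul_def, map_mul]; ring
    | zero => exact ⟨0, by simp⟩
    | add x y _ _ hx hy =>
        obtain ⟨r1, h1⟩ := hx; obtain ⟨r2, h2⟩ := hy
        exact ⟨r1 + r2, by rw [smul_add, h1, h2, map_add]⟩
    | smul c x _ hx =>
        obtain ⟨r, h⟩ := hx
        exact ⟨c * r, by rw [smul_comm, h, map_mul, Algebra.smul_def]⟩
  intro x
  obtain ⟨r, hr⟩ := hN (π x)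
  refine ⟨r, ?_⟩
  rw [← hker, RingHom.mem_ker, map_sub, map_smul, hr, AlgHom.commutes, sub_self]

theorem final_of_data {R' T : Type*} [CommRing R'] [CommRing T] [Algebra R' T]
    (ε : T) (P : Ideal T) [P.IsPrime] (hεP : 1 - ε ∈ P)
    (hsurj : ∀ x : T, ∃ r : R', x - algebraMap R' T r ∈ Ideal.span {1 - ε}) :
    Function.Surjective (algebraMap R' (T ⧸ Ideal.span {1 - ε})) ∧
    ((P.under R').map (algebraMap R' (T ⧸ Ideal.span {1 - ε}))).IsPrime ∧
    ((P.under R').map (algebraMap R' (T ⧸ Ideal.span {1 - ε}))).comap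
      (algebraMap R' (T ⧸ Ideal.span {1 - ε})) = P.under R' ∧
    ((P.under R').map (algebraMap R' (T ⧸ Ideal.span {1 - ε}))).comap
      (Ideal.Quotient.mk (Ideal.span {1 - ε})) = P := by
  set I : Ideal T := Ideal.span {1 - ε} with hI
  have hIP : I ≤ P := (Ideal.span_singleton_le_iff_mem _).mpr hεP
  have hmk : Function.Surjective (Ideal.Quotient.mk I) := Ideal.Quotient.mk_surjective
  have hsurjA : Function.Surjective (algebraMap R' (T ⧸ I)) := by
    intro y
    obtain ⟨x, rfl⟩ := hmk y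
    obtain ⟨r, hr⟩ := hsurj x
    refine ⟨r, ?_⟩
    rw [IsScalarTower.algebraMap_apply R' T (T ⧸ I), Ideal.Quotient.algebraMap_eq, eq_comm,
      Ideal.Quotient.eq]
    exact hr
  have hcm : (P.map (Ideal.Quotient.mk I)).comap (Ideal.Quotient.mk I) = P := by
    rw [Ideal.comap_map_of_surjective _ hmk, ← RingHom.ker_eq_comap_bot, Ideal.mk_ker,
      sup_eq_left.mpr hIP]
  have hprime : (P.map (Ideal.Quotient.mk I)).IsPrime :=
    Ideal.map_isPrime_of_surjective hmk (by rw [Ideal.mk_ker]; exact hIP)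
  have key : (P.under R').map (algebraMap R' (T ⧸ I)) = P.map (Ideal.Quotient.mk I) := by
    apply le_antisymm
    · rw [Ideal.map_le_iff_le_comap]
      intro r hr
      rw [Ideal.mem_comap, IsScalarTower.algebraMap_apply R' T (T ⧸ I),
        Ideal.Quotient.algebraMap_eq]
      exact Ideal.mem_map_of_mem _ hr
    · rw [Ideal.map_le_iff_le_comap]
      intro x hx
      obtain ⟨r, hr⟩ := hsurj x
      have hr' : algebraMap R' T r ∈ P := by
        have := P.sub_mem hx (hIP hr)
        rwa [sub_sub_cancel] at this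
      rw [Ideal.mem_comap]
      have : Ideal.Quotient.mk I x = algebraMap R' (T ⧸ I) r := by
        rw [IsScalarTower.algebraMap_apply R' T (T ⧸ I), Ideal.Quotient.algebraMap_eq,
          Ideal.Quotient.eq]
        exact hr
      rw [this]
      exact Ideal.mem_map_of_mem _ hr'
  refine ⟨hsurjA, ?_, ?_, ?_⟩
  · rw [key]; exact hprime
  · rw [key]
    have : algebraMap R' (T ⧸ I) = (Ideal.Quotient.mk I).comp (algebraMap R' T) := by
      ext r
      rw [IsScalarTower.algebraMap_apply R' T (T ⧸ I), Ideal.Quotient.algebraMap_eq]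
      rfl
    rw [this, ← Ideal.comap_comap, hcm]
  · rw [key, hcm]

theorem stage12 (R : Type u) [CommRing R]
    (S : Type u) [CommRing S] [Algebra R S] [Algebra.FiniteType R S] (q : Ideal S) [q.IsPrime]
    [Algebra.IsUnramifiedAt R q] :
    ∃ (R₁ : Type u) (_ : CommRing R₁) (_ : Algebra R R₁) (_ : Algebra.Etale R R₁)
      (Q₁ : Ideal (R₁ ⊗[R] S)) (_ : Q₁.IsPrime),
      Q₁.comap Algebra.TensorProduct.includeRight.toRingHom = q ∧
      ∀ x : R₁ ⊗[R] S, ∃ r : R₁, x - algebraMap R₁ (R₁ ⊗[R] S) r ∈ Q₁ := by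
  obtain ⟨f, hfq, Pe, φ, hφ⟩ :=
    Algebra.IsUnramifiedAt.exists_hasStandardEtaleSurjectionOn (R := R) q
  let R₁ := Pe.Ring
  let Sf := Localization.Away f
  let : Algebra R₁ Sf := φ.toRingHom.toAlgebra
  have : IsScalarTower R R₁ Sf := .of_algebraMap_eq' φ.comp_algebraMap.symm
  let S₁ := R₁ ⊗[R] S
  let ψ : S₁ →ₐ[R₁] Sf := Algebra.TensorProduct.lift (Algebra.ofId R₁ Sf)
    (IsScalarTower.toAlgHom R S Sf) (fun _ _ => .all _ _)
  let qf : Ideal Sf := q.map (algebraMap S Sf)
  have hdisj : Disjoint (Submonoid.powers f : Set S) (q : Set S) := by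
    rwa [Ideal.disjoint_powers_iff_notMem_of_isPrime]
  have hqf : qf.IsPrime := IsLocalization.isPrime_of_isPrime_disjoint (.powers f) _ _ ‹_› hdisj
  have hqf' : qf.comap (algebraMap S Sf) = q :=
    IsLocalization.under_map_of_isPrime_disjoint (.powers f) _ ‹_› hdisj
  let Q₁ : Ideal S₁ := qf.comap ψ
  have hQ₁ : Q₁.IsPrime := Ideal.comap_isPrime _ _
  refine ⟨R₁, inferInstance, inferInstance, inferInstance, Q₁, hQ₁, ?_, ?_⟩
  · rw [← hqf']
    ext s
    have hψ : ψ ((1 : R₁) ⊗ₜ[R] s) = algebraMap S Sf s := by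
      rw [Algebra.TensorProduct.lift_tmul, map_one, one_mul]
      rfl
    simp only [Q₁, Ideal.mem_comap, AlgHom.toRingHom_eq_coe, RingHom.coe_coe,
      Algebra.TensorProduct.includeRight_apply]
    rw [hψ]
  · intro x
    obtain ⟨r, hr⟩ := hφ (ψ x)
    refine ⟨r, ?_⟩
    show ψ (x - algebraMap R₁ S₁ r) ∈ qf
    rw [map_sub, AlgHom.commutes, ← hr]
    have : algebraMap R₁ Sf r = φ r := rfl
    rw [this, sub_self]
    exact qf.zero_mem


open TensorProduct in
/-- Let R → S be of finite type and unramified at a prime q lying over p. Then there are an étale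
R-algebra R', a prime p' of R' over p and an R'-algebra isomorphism e : R' ⊗_R S ≅ A × B with R' → A
surjective and p'A a prime ideal of A lying over p' whose pull-back along S → R' ⊗_R S ≅ A × B → A
is q. -/
theorem result (R : Type u) [CommRing R]
    (S : Type u) [CommRing S] [Algebra R S] [Algebra.FiniteType R S] (q : Ideal S) [q.IsPrime]
    [Algebra.IsUnramifiedAt R q] :
    ∃ (R' : Type u) (_ : CommRing R') (_ : Algebra R R') (_ : Algebra.Etale R R') (p' : Ideal R')
      (_ : p'.IsPrime) (_ : p'.LiesOver (q.under R)) (A : Type u) (_ : CommRing A) (_ : Algebra R' A)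
      (B : Type u) (_ : CommRing B) (_ : Algebra R' B) (e : (R' ⊗[R] S) ≃ₐ[R'] (A × B)),
      Function.Surjective (algebraMap R' A) ∧ (p'.map (algebraMap R' A)).IsPrime ∧
        (p'.map (algebraMap R' A)).comap (algebraMap R' A) = p' ∧
        (p'.map (algebraMap R' A)).comap (((RingHom.fst A B).comp e.toRingHom).comp
          (Algebra.TensorProduct.includeRight : S →ₐ[R] R' ⊗[R] S).toRingHom) = q := by
  obtain ⟨R₁, _, _, _, Q₁, _, hQ₁q, hsurj₁⟩ := stage12 R S q
  let S₁ := R₁ ⊗[R] S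
  let P₁ := Q₁.under R₁
  have : Q₁.LiesOver P₁ := ⟨rfl⟩
  have : Algebra.QuasiFiniteAt R q := inferInstance
  have : Algebra.QuasiFiniteAt R₁ Q₁ := Algebra.QuasiFiniteAt.baseChange q Q₁ hQ₁q.symm
  obtain ⟨R₂, _, _, _, P₂, _, _, e, he, P', _, _, hP'Q₁, heP', -, hfin, huniq⟩ :=
    Algebra.exists_etale_isIdempotentElem_forall_liesOver_eq P₁ Q₁
  let T₂ := R₂ ⊗[R₁] S₁
  have : Algebra.IsUnramifiedAt R₁ Q₁ := isUnramifiedAt_baseChange q R₁ Q₁ hQ₁q
  have : Algebra.IsUnramifiedAt R₂ P' := isUnramifiedAt_baseChange Q₁ R₂ P' hP'Q₁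
  have hsurj₂ : ∀ x : T₂, ∃ r : R₂, x - algebraMap R₂ T₂ r ∈ P' := by
    intro x
    induction x using TensorProduct.induction_on with
    | zero => exact ⟨0, by simp⟩
    | tmul r s =>
        obtain ⟨a, ha⟩ := hsurj₁ s
        refine ⟨r * algebraMap R₁ R₂ a, ?_⟩
        have h1 : r ⊗ₜ[R₁] s - algebraMap R₂ T₂ (r * algebraMap R₁ R₂ a) =
            (r ⊗ₜ[R₁] (1 : S₁)) * (1 ⊗ₜ[R₁] (s - algebraMap R₁ S₁ a)) := by
          rw [Algebra.TensorProduct.tmul_mul_tmul, mul_one, one_mul, tmul_sub,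
            Algebra.TensorProduct.algebraMap_apply, Algebra.algebraMap_eq_smul_one a,
            Algebra.algebraMap_eq_smul_one (A := S₁) a, tmul_smul, smul_tmul',
            Algebra.algebraMap_self, RingHom.id_apply, mul_smul_comm, mul_one]
        rw [h1]
        refine Ideal.mul_mem_left _ _ ?_
        rw [← hP'Q₁] at ha
        exact ha
    | add x y hx hy =>
        obtain ⟨r1, h1⟩ := hx
        obtain ⟨r2, h2⟩ := hy
        refine ⟨r1 + r2, ?_⟩
        have := add_mem h1 h2
        rw [map_add]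
        convert this using 1
        ring
  obtain ⟨g, hgP₂, hg⟩ := exists_shrink e he P₂ P' heP' huniq hsurj₂
  -- Stage 3
  let : Algebra R R₂ := ((algebraMap R₁ R₂).comp (algebraMap R R₁)).toAlgebra
  have : IsScalarTower R R₁ R₂ := .of_algebraMap_eq' rfl
  have : Algebra.Etale R R₂ := Algebra.Etale.comp R R₁ R₂
  let R' := Localization.Away g
  have : Algebra.Etale R R' := inferInstance
  let T := R' ⊗[R] S
  let ρ₁ : S₁ →ₐ[R₁] T := Algebra.TensorProduct.lift (Algebra.ofId R₁ T)
    (Algebra.TensorProduct.includeRight) (fun _ _ => .all _ _)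
  let ρ : T₂ →ₐ[R₂] T := Algebra.TensorProduct.lift (Algebra.ofId R₂ T) ρ₁ (fun _ _ => .all _ _)
  have hρ1s : ∀ s : S, ρ ((1 : R₂) ⊗ₜ[R₁] ((1 : R₁) ⊗ₜ[R] s)) = (1 : R') ⊗ₜ[R] s := by
    intro s
    have hρ : ρ ((1 : R₂) ⊗ₜ[R₁] ((1 : R₁) ⊗ₜ[R] s)) = ρ₁ ((1 : R₁) ⊗ₜ[R] s) := by
      show Algebra.TensorProduct.lift _ _ _ _ = _
      rw [Algebra.TensorProduct.lift_tmul, map_one, one_mul]
    have hρ₁ : ρ₁ ((1 : R₁) ⊗ₜ[R] s) = (1 : R') ⊗ₜ[R] s := by
      show Algebra.TensorProduct.lift _ _ _ _ = _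
      rw [Algebra.TensorProduct.lift_tmul, map_one, one_mul]
      rfl
    rw [hρ, hρ₁]
  let K := P'.ResidueField
  let χ : T₂ →+* K := algebraMap T₂ K
  have hχ : RingHom.ker χ = P' := Ideal.ker_algebraMap_residueField P'
  have hgK : IsUnit (algebraMap R₂ K g) := by
    rw [isUnit_iff_ne_zero]
    intro h
    apply hgP₂
    rw [P'.over_def P₂, Ideal.under_def, Ideal.mem_comap, ← hχ, RingHom.mem_ker]
    rw [← h, IsScalarTower.algebraMap_apply R₂ T₂ K]
  let χ' : R' →ₐ[R] K := IsLocalization.liftAlgHom (M := Submonoid.powers g)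
    (f := IsScalarTower.toAlgHom R R₂ K) (by
      rintro ⟨_, n, rfl⟩
      simpa using hgK.pow n)
  let σ : S →ₐ[R] K := ((IsScalarTower.toAlgHom R T₂ K).comp
    ((Algebra.TensorProduct.includeRight : S₁ →ₐ[R₁] T₂).restrictScalars R)).comp
    (Algebra.TensorProduct.includeRight : S →ₐ[R] S₁)
  let χT : T →ₐ[R] K := Algebra.TensorProduct.lift χ' σ (fun _ _ => .all _ _)
  have hχρ : ∀ x : T₂, χT (ρ x) = χ x := by
    intro x
    induction x using TensorProduct.induction_on with
    | zero => simp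
    | add x y hx hy => rw [map_add, map_add, map_add, hx, hy]
    | tmul r₂ s₁ =>
      induction s₁ using TensorProduct.induction_on with
      | zero => simp
      | add x y hx hy => rw [tmul_add, map_add, map_add, map_add, hx, hy]
      | tmul r₁ s =>
        have h1 : r₂ ⊗ₜ[R₁] (r₁ ⊗ₜ[R] s) =
            (r₂ * algebraMap R₁ R₂ r₁) • ((1 : R₂) ⊗ₜ[R₁] ((1 : R₁) ⊗ₜ[R] s)) := by
          rw [smul_tmul', smul_eq_mul, mul_one, mul_comm, ← Algebra.smul_def,
            smul_tmul, smul_tmul', smul_eq_mul, mul_one]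
        have h2 : χT (algebraMap R₂ T (r₂ * algebraMap R₁ R₂ r₁)) =
            algebraMap R₂ K (r₂ * algebraMap R₁ R₂ r₁) := by
          rw [Algebra.TensorProduct.algebraMap_apply, Algebra.TensorProduct.lift_tmul, map_one,
            mul_one]
          exact IsLocalization.lift_eq _ _
        have h3 : χT (ρ ((1 : R₂) ⊗ₜ[R₁] ((1 : R₁) ⊗ₜ[R] s))) =
            χ ((1 : R₂) ⊗ₜ[R₁] ((1 : R₁) ⊗ₜ[R] s)) := by
          rw [hρ1s]
          show Algebra.TensorProduct.lift _ _ _ _ = _
          rw [Algebra.TensorProduct.lift_tmul, map_one, one_mul]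
          rfl
        rw [h1, map_smul]
        have e1 : (r₂ * algebraMap R₁ R₂ r₁) • ρ ((1 : R₂) ⊗ₜ[R₁] ((1 : R₁) ⊗ₜ[R] s)) =
            algebraMap R₂ T (r₂ * algebraMap R₁ R₂ r₁) * ρ ((1 : R₂) ⊗ₜ[R₁] ((1 : R₁) ⊗ₜ[R] s)) :=
          Algebra.smul_def (R := R₂) (A := T) _ _
        have e2 : (r₂ * algebraMap R₁ R₂ r₁) • ((1 : R₂) ⊗ₜ[R₁] ((1 : R₁) ⊗ₜ[R] s) : T₂) =
            algebraMap R₂ T₂ (r₂ * algebraMap R₁ R₂ r₁) * ((1 : R₂) ⊗ₜ[R₁] ((1 : R₁) ⊗ₜ[R] s)) :=
          Algebra.smul_def (R := R₂) (A := T₂) _ _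
        rw [e1, e2, map_mul χT, h2, h3, map_mul χ, IsScalarTower.algebraMap_apply R₂ T₂ K]
  let ε : T := ρ e
  have hε : IsIdempotentElem ε := he.map ρ
  let PT : Ideal T := RingHom.ker (χT : T →+* K)
  have hPT : PT.IsPrime := RingHom.ker_isPrime _
  have hχe : χ e = 1 := by
    have h1 : χ e * χ e = χ e := by rw [← map_mul, he.eq]
    have h2 : χ e ≠ 0 := by rw [ne_eq, ← RingHom.mem_ker, hχ]; exact heP'
    exact mul_left_cancel₀ h2 (by rw [h1, mul_one])
  have hεPT : 1 - ε ∈ PT := by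
    rw [RingHom.mem_ker]
    show χT (1 - ρ e) = 0
    rw [map_sub, hχρ, hχe, map_one, sub_self]
  have hsurjT : ∀ x : T, ∃ r : R', x - algebraMap R' T r ∈ Ideal.span {1 - ε} := by
    intro x
    induction x using TensorProduct.induction_on with
    | zero => exact ⟨0, by simp⟩
    | add x y hx hy =>
        obtain ⟨r1, h1⟩ := hx
        obtain ⟨r2, h2⟩ := hy
        refine ⟨r1 + r2, ?_⟩
        have := add_mem h1 h2
        rw [map_add]
        convert this using 1
        ring
    | tmul r' s =>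
      obtain ⟨r, hr⟩ := hg ((1 : R₂) ⊗ₜ[R₁] ((1 : R₁) ⊗ₜ[R] s))
      have h1 : ρ (g • ((1 : R₂) ⊗ₜ[R₁] ((1 : R₁) ⊗ₜ[R] s)) - algebraMap R₂ T₂ r) ∈
          Ideal.span {1 - ε} := by
        have := Ideal.mem_map_of_mem (ρ : T₂ →+* T) hr
        rwa [Ideal.map_span, Set.image_singleton, map_sub, map_one] at this
      have hu : IsUnit (algebraMap R₂ R' g) := IsLocalization.Away.algebraMap_isUnit g
      obtain ⟨v, hv⟩ := hu
      refine ⟨r' * ↑v⁻¹ * algebraMap R₂ R' r, ?_⟩
      have h2 : r' ⊗ₜ[R] s - algebraMap R' T (r' * ↑v⁻¹ * algebraMap R₂ R' r) =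
          algebraMap R' T (r' * ↑v⁻¹) *
            ρ (g • ((1 : R₂) ⊗ₜ[R₁] ((1 : R₁) ⊗ₜ[R] s)) - algebraMap R₂ T₂ r) := by
        rw [map_sub, map_smul, hρ1s, AlgHom.commutes]
        have e1 : g • ((1 : R') ⊗ₜ[R] s) = (algebraMap R₂ R' g) ⊗ₜ[R] s := by
          rw [smul_tmul', Algebra.smul_def, mul_one]
        have e2 : algebraMap R₂ T r = (algebraMap R₂ R' r) ⊗ₜ[R] (1 : S) := rfl
        rw [e1, e2, ← hv, Algebra.TensorProduct.algebraMap_apply,
          Algebra.TensorProduct.algebraMap_apply, Algebra.algebraMap_self, RingHom.id_apply,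
          RingHom.id_apply, mul_sub, Algebra.TensorProduct.tmul_mul_tmul,
          Algebra.TensorProduct.tmul_mul_tmul, one_mul, mul_one, Units.inv_mul_cancel_right,
          mul_assoc]
      rw [h2]
      exact Ideal.mul_mem_left _ _ h1
  have hcomapPT : PT.comap Algebra.TensorProduct.includeRight.toRingHom = q := by
    ext s
    have h1 : χT ((1 : R') ⊗ₜ[R] s) = χ ((1 : R₂) ⊗ₜ[R₁] ((1 : R₁) ⊗ₜ[R] s)) := by
      show Algebra.TensorProduct.lift _ _ _ _ = _
      rw [Algebra.TensorProduct.lift_tmul, map_one, one_mul]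
      rfl
    show χT ((1 : R') ⊗ₜ[R] s) = 0 ↔ _
    rw [h1, ← RingHom.mem_ker, hχ, ← hQ₁q, ← hP'Q₁]
    rfl
  let p' := PT.under R'
  have hp' : p'.IsPrime := inferInstance
  have hp'lies : p'.LiesOver (q.under R) := ⟨by
    rw [← hcomapPT]
    ext r
    simp only [Ideal.under_def, Ideal.mem_comap, p']
    have : algebraMap R' T (algebraMap R R' r) =
        Algebra.TensorProduct.includeRight.toRingHom (algebraMap R S r) := by
      rw [← IsScalarTower.algebraMap_apply R R' T]
      exact (Algebra.TensorProduct.includeRight (R := R) (A := R') (B := S)).commutes r |>.symm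
    rw [this]⟩
  obtain ⟨hs1, hs2, hs3, hs4⟩ := final_of_data (R' := R') ε PT hεPT hsurjT
  let A := T ⧸ Ideal.span {1 - ε}
  let B := T ⧸ Ideal.span {ε}
  let e₀ : T ≃ₐ[R'] A × B := AlgEquiv.prodQuotientOfIsIdempotentElem (R := R') hε.one_sub hε
    (by ring) (by rw [sub_mul, one_mul, hε.eq, sub_self])
  refine ⟨R', inferInstance, inferInstance, inferInstance, p', hp', hp'lies, A, inferInstance,
    inferInstance, B, inferInstance, inferInstance, e₀, hs1, hs2, hs3, ?_⟩
  have h5 : ((RingHom.fst A B).comp e₀.toRingHom) = Ideal.Quotient.mk (Ideal.span {1 - ε}) :=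
    RingHom.ext fun x => rfl
  rw [h5, ← Ideal.comap_comap, hs4, hcomapPT]

end Groth.Agent.S9452
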