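import Groth.Statements.S9449
import Mathlib
import Groth.Agent.S9452
-- import your own Groth.Agent.* helpers here

set_option autoImplicit false
universe u
open Unram

namespace Groth.Agent.S9449

open TensorProduct

theorem finrank_lt {R S R₁ B₁ : Type*} [CommRing R] [CommRing S] [Algebra R S]
    [CommRing R₁] [Algebra R R₁] [CommRing B₁] [Algebra R₁ B₁]
    (p : Ideal R) [p.IsPrime] (p₁ : Ideal R₁) [p₁.IsPrime] [p₁.LiesOver p]
    [Module.Finite p.ResidueField (p.ResidueField ⊗[R] S)]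
    (K₁ : Ideal R₁) (hK : K₁ ≤ p₁) (e : R₁ ⊗[R] S ≃ₐ[R₁] (R₁ ⧸ K₁) × B₁) :
    Module.finrank p₁.ResidueField (p₁.ResidueField ⊗[R₁] B₁) <
      Module.finrank p.ResidueField (p.ResidueField ⊗[R] S) := by
  let := Localization.AtPrime.algebraOfLiesOver p p₁
  let k := p.ResidueField
  let k₁ := p₁.ResidueField
  let E1 : k₁ ⊗[k] (k ⊗[R] S) ≃ₐ[k₁] k₁ ⊗[R] S :=
    Algebra.TensorProduct.cancelBaseChange R k k₁ k₁ S
  let E2 : k₁ ⊗[R₁] (R₁ ⊗[R] S) ≃ₐ[k₁] k₁ ⊗[R] S :=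
    Algebra.TensorProduct.cancelBaseChange R R₁ k₁ k₁ S
  let E3 : k₁ ⊗[R₁] (R₁ ⊗[R] S) ≃ₐ[k₁] k₁ ⊗[R₁] ((R₁ ⧸ K₁) × B₁) :=
    Algebra.TensorProduct.congr AlgEquiv.refl e
  let E4 : k₁ ⊗[R₁] ((R₁ ⧸ K₁) × B₁) ≃ₐ[k₁] (k₁ ⊗[R₁] (R₁ ⧸ K₁)) × (k₁ ⊗[R₁] B₁) :=
    Algebra.TensorProduct.prodRight R₁ k₁ k₁ _ _
  let E : k₁ ⊗[k] (k ⊗[R] S) ≃ₗ[k₁] (k₁ ⊗[R₁] (R₁ ⧸ K₁)) × (k₁ ⊗[R₁] B₁) :=
    ((E1.trans E2.symm).trans (E3.trans E4)).toLinearEquiv
  have hfin : Module.Finite k₁ (k₁ ⊗[k] (k ⊗[R] S)) := inferInstance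
  have hfin2 : Module.Finite k₁ ((k₁ ⊗[R₁] (R₁ ⧸ K₁)) × (k₁ ⊗[R₁] B₁)) := Module.Finite.equiv E
  have hfinA : Module.Finite k₁ (k₁ ⊗[R₁] (R₁ ⧸ K₁)) :=
    Module.Finite.of_surjective (LinearMap.fst k₁ (k₁ ⊗[R₁] (R₁ ⧸ K₁)) (k₁ ⊗[R₁] B₁))
      LinearMap.fst_surjective
  have hfinB : Module.Finite k₁ (k₁ ⊗[R₁] B₁) :=
    Module.Finite.of_surjective (LinearMap.snd k₁ (k₁ ⊗[R₁] (R₁ ⧸ K₁)) (k₁ ⊗[R₁] B₁))
      LinearMap.snd_surjective
  have h1 : Module.finrank k₁ (k₁ ⊗[k] (k ⊗[R] S)) = Module.finrank k (k ⊗[R] S) :=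
    Module.finrank_baseChange
  have h2 := E.finrank_eq
  rw [Module.finrank_prod, h1] at h2
  have hnt : Nontrivial (k₁ ⊗[R₁] (R₁ ⧸ K₁)) := by
    let φ : k₁ ⊗[R₁] (R₁ ⧸ K₁) →ₐ[k₁] k₁ :=
      Algebra.TensorProduct.lift (AlgHom.id k₁ k₁)
        (Ideal.Quotient.liftₐ K₁ (Algebra.ofId R₁ k₁) (fun a ha => by
          rw [Algebra.ofId_apply, Ideal.algebraMap_residueField_eq_zero]
          exact hK ha)) (fun _ _ => .all _ _)
    exact RingHom.domain_nontrivial φ.toRingHom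
  have h3 : 0 < Module.finrank k₁ (k₁ ⊗[R₁] (R₁ ⧸ K₁)) := Module.finrank_pos
  have h4 : Module.finrank k (k ⊗[R] S) =
      Module.finrank k₁ (k₁ ⊗[R₁] (R₁ ⧸ K₁)) + Module.finrank k₁ (k₁ ⊗[R₁] B₁) := h2
  show Module.finrank k₁ (k₁ ⊗[R₁] B₁) < Module.finrank k (k ⊗[R] S)
  omega

noncomputable def consEquiv {R' : Type*} [CommRing R'] {n : ℕ} (K0 : Ideal R')
    (K' : Fin n → Ideal R') (B : Type*) [CommRing B] [Algebra R' B] :
    ((R' ⧸ K0) × ((∀ i, R' ⧸ K' i) × B)) ≃ₐ[R']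
      ((∀ i : Fin (n+1), R' ⧸ (Fin.cons K0 K' : Fin (n+1) → Ideal R') i) × B) where
  toFun x :=
    (Fin.cons (α := fun i => R' ⧸ (Fin.cons K0 K' : Fin (n+1) → Ideal R') i) x.1 x.2.1, x.2.2)
  invFun y := (y.1 0, (fun i => y.1 i.succ, y.2))
  left_inv x := rfl
  right_inv y := by
    ext : 1
    · funext i
      refine Fin.cases ?_ (fun j => ?_) i <;> rfl
    · rfl
  map_mul' x y := by
    ext : 1
    · funext i
      refine Fin.cases ?_ (fun j => ?_) i <;> rfl
    · rfl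
  map_add' x y := by
    ext : 1
    · funext i
      refine Fin.cases ?_ (fun j => ?_) i <;> rfl
    · rfl
  commutes' r := by
    ext : 1
    · funext i
      refine Fin.cases ?_ (fun j => ?_) i <;> rfl
    · rfl

theorem step (R : Type u) [CommRing R] (S : Type u) [CommRing S] [Algebra R S]
    [Algebra.Unramified R S] (q : Ideal S) [q.IsPrime] :
    ∃ (R₁ : Type u) (_ : CommRing R₁) (_ : Algebra R R₁) (_ : Algebra.Etale R R₁) (p₁ : Ideal R₁)
      (_ : p₁.IsPrime) (_ : p₁.LiesOver (q.under R)) (K₁ : Ideal R₁) (B₁ : Type u)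
      (_ : CommRing B₁) (_ : Algebra R₁ B₁),
      K₁ ≤ p₁ ∧ Nonempty (R₁ ⊗[R] S ≃ₐ[R₁] (R₁ ⧸ K₁) × B₁) := by
  have : Algebra.IsUnramifiedAt R q := inferInstance
  obtain ⟨R₁, _, _, _, p₁, _, _, A, _, _, B, _, _, e, hsurj, hprime, hcomap, -⟩ :=
    Groth.Agent.S9452.result R S q
  let f : R₁ →ₐ[R₁] A := Algebra.ofId R₁ A
  refine ⟨R₁, inferInstance, inferInstance, inferInstance, p₁, inferInstance, inferInstance,
    RingHom.ker f, B, inferInstance, inferInstance, ?_,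
    ⟨e.trans (AlgEquiv.prodCongr (Ideal.quotientKerAlgEquivOfSurjective (f := f) hsurj).symm
      AlgEquiv.refl)⟩⟩
  intro r hr
  rw [← hcomap, Ideal.mem_comap]
  have : algebraMap R₁ A r = 0 := hr
  rw [this]
  exact Ideal.zero_mem _

/-- the intermediate form of the conclusion -/
def Good (R : Type u) [CommRing R] (S : Type u) [CommRing S] [Algebra R S] (p : Ideal R) : Prop :=
  ∃ (R' : Type u) (_ : CommRing R') (_ : Algebra R R') (_ : Algebra.Etale R R') (p' : Ideal R')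
    (_ : p'.IsPrime) (_ : p'.LiesOver p) (n : ℕ) (K : Fin n → Ideal R') (B : Type u)
    (_ : CommRing B) (_ : Algebra R' B),
    (∀ i, K i ≤ p') ∧ Nonempty ((R' ⊗[R] S) ≃ₐ[R'] ((∀ i, R' ⧸ K i) × B)) ∧
      ∀ (q : Ideal B) [q.IsPrime], q.comap (algebraMap R' B) ≠ p'

theorem good_of_finrank (d : ℕ) : ∀ (R : Type u) [CommRing R] (S : Type u) [CommRing S]
    [Algebra R S] [Algebra.Unramified R S] (p : Ideal R) [p.IsPrime],
    Module.finrank p.ResidueField (p.ResidueField ⊗[R] S) = d → Good R S p := by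
  induction d using Nat.strong_induction_on with
  | _ d ih =>
    intro R _ S _ _ _ p _ hd
    by_cases hq : ∃ q : Ideal S, q.IsPrime ∧ q.under R = p
    · obtain ⟨q, hqprime, hqp⟩ := hq
      subst hqp
      obtain ⟨R₁, _, _, _, p₁, _, _, K₁, B₁, _, _, hK₁, ⟨e₁⟩⟩ := step R S q
      have hB₁ : Algebra.Unramified R₁ B₁ := by
        let g : R₁ ⊗[R] S →ₐ[R₁] B₁ := (AlgHom.snd R₁ (R₁ ⧸ K₁) B₁).comp e₁.toAlgHom
        have hg : Function.Surjective g := Prod.snd_surjective.comp e₁.surjective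
        have : Algebra.FormallyUnramified R₁ B₁ := .of_surjective g hg
        have : Algebra.FiniteType R₁ B₁ := .of_surjective g hg
        exact {}
      have hfin : Module.Finite (q.under R).ResidueField ((q.under R).ResidueField ⊗[R] S) :=
        inferInstance
      have hlt := finrank_lt (q.under R) p₁ K₁ hK₁ e₁
      rw [hd] at hlt
      obtain ⟨R₂, _, _, _, p₂, _, _, n, K', B', _, _, hK', ⟨e₂⟩, hB'⟩ := ih _ hlt R₁ B₁ p₁ rfl
      let : Algebra R R₂ := ((algebraMap R₁ R₂).comp (algebraMap R R₁)).toAlgebra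
      have : IsScalarTower R R₁ R₂ := .of_algebraMap_eq' rfl
      have : Algebra.Etale R R₂ := Algebra.Etale.comp R R₁ R₂
      have : p₂.LiesOver (q.under R) := .trans p₂ p₁ _
      let K0 : Ideal R₂ := K₁.map (algebraMap R₁ R₂)
      have hK0 : K0 ≤ p₂ := by
        rw [Ideal.map_le_iff_le_comap]
        exact hK₁.trans (p₂.over_def p₁).le
      refine ⟨R₂, inferInstance, inferInstance, inferInstance, p₂, inferInstance, inferInstance,
        n + 1, Fin.cons K0 K', B', inferInstance, inferInstance, ?_, ⟨?_⟩, hB'⟩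
      · intro i
        refine Fin.cases hK0 (fun j => hK' j) i
      · exact (((Algebra.TensorProduct.cancelBaseChange R R₁ R₂ R₂ S).symm.trans
          (Algebra.TensorProduct.congr AlgEquiv.refl e₁)).trans
          (Algebra.TensorProduct.prodRight R₁ R₂ R₂ _ _)).trans
          ((AlgEquiv.prodCongr
            (Algebra.TensorProduct.quotIdealMapEquivTensorQuot R₂ K₁).symm e₂).trans
            (consEquiv K0 K' B'))
    · refine ⟨R, inferInstance, inferInstance, inferInstance, p, inferInstance,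
        ⟨by simp [Ideal.under_def]⟩, 0, Fin.elim0, S, inferInstance, inferInstance,
        fun i => i.elim0, ⟨?_⟩, ?_⟩
      · exact (Algebra.TensorProduct.lid R S).trans (AlgEquiv.uniqueProd (R := R) (A := S) (B := ∀ i : Fin 0, R ⧸ (Fin.elim0 i : Ideal R))).symm
      · intro q _ hq'
        exact hq ⟨q, ‹_›, hq'⟩


open TensorProduct in
/-- For an unramified ring map R → S and a prime p of R there exist an étale R-algebra R', a prime p' of
R' lying over p and a decomposition R' ⊗_R S ≅ A_1 × ⋯ × A_n × B of R'-algebras with every R' → A_i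
surjective, p'A_i a prime ideal of A_i whose preimage in R' is p', and no prime of B lying over p'. -/
theorem result (R : Type u) [CommRing R]
    (S : Type u) [CommRing S] [Algebra R S] [Algebra.Unramified R S] (p : Ideal R) [p.IsPrime] :
    ∃ (R' : Type u) (_ : CommRing R') (_ : Algebra R R') (_ : Algebra.Etale R R') (p' : Ideal R')
      (_ : p'.IsPrime) (_ : p'.LiesOver p) (n : ℕ) (A : Fin n → Type u) (_ : ∀ i, CommRing (A i))
      (_ : ∀ i, Algebra R' (A i)) (B : Type u) (_ : CommRing B) (_ : Algebra R' B),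
      Nonempty ((R' ⊗[R] S) ≃ₐ[R'] ((∀ i, A i) × B)) ∧
        (∀ i, Function.Surjective (algebraMap R' (A i)) ∧
          (p'.map (algebraMap R' (A i))).IsPrime ∧
          (p'.map (algebraMap R' (A i))).comap (algebraMap R' (A i)) = p') ∧
        ∀ (q : Ideal B) [q.IsPrime], q.comap (algebraMap R' B) ≠ p' := by
  obtain ⟨R', _, _, _, p', _, _, n, K, B, _, _, hK, ⟨e⟩, hB⟩ := good_of_finrank _ R S p rfl
  refine ⟨R', inferInstance, inferInstance, inferInstance, p', inferInstance, inferInstance, n,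
    fun i => R' ⧸ K i, fun i => inferInstance, fun i => inferInstance, B, inferInstance,
    inferInstance, ⟨e⟩, ?_, hB⟩
  intro i
  have hmk : algebraMap R' (R' ⧸ K i) = Ideal.Quotient.mk (K i) := rfl
  refine ⟨Ideal.Quotient.mk_surjective, ?_, ?_⟩
  · rw [hmk]
    exact Ideal.map_isPrime_of_surjective Ideal.Quotient.mk_surjective
      (by rw [Ideal.mk_ker]; exact hK i)
  · rw [hmk, Ideal.comap_map_of_surjective _ Ideal.Quotient.mk_surjective,
      ← RingHom.ker_eq_comap_bot, Ideal.mk_ker, sup_eq_left.mpr (hK i)]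

end Groth.Agent.S9449
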