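import Groth.Statements.S9450
import Mathlib
-- import your own Groth.Agent.* helpers here

set_option autoImplicit false
universe u
open CAlg

namespace Groth.Agent.S9450

open scoped TensorProduct

/-- If `B → C` is surjective with kernel `J` and `1 ⊗ m = 0` in `C ⊗[B] M` then `m ∈ J M`. -/
lemma mem_smul_top_of_one_tmul_eq_zero {B C M : Type*} [CommRing B] [CommRing C] [Algebra B C]
    [AddCommGroup M] [Module B M] (hC : Function.Surjective (algebraMap B C)) (m : M)
    (h : (1 : C) ⊗ₜ[B] m = 0) : m ∈ (RingHom.ker (algebraMap B C)) • (⊤ : Submodule B M) := by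
  let J := RingHom.ker (algebraMap B C)
  have hC' : Function.Surjective (Algebra.ofId B C) := hC
  let e : (B ⧸ RingHom.ker (Algebra.ofId B C)) ≃ₐ[B] C := Ideal.quotientKerAlgEquivOfSurjective hC'
  have h1 : (1 : B ⧸ J) ⊗ₜ[B] m = 0 := by
    have := congrArg (LinearMap.rTensor M e.symm.toLinearMap) h
    have h' : (1 : B ⧸ RingHom.ker (Algebra.ofId B C)) ⊗ₜ[B] m = 0 := by simpa using this
    exact h'
  have h2 := congrArg (TensorProduct.quotTensorEquivQuotSMul M J) h1
  rw [map_zero] at h2
  have h3 : TensorProduct.quotTensorEquivQuotSMul M J ((1 : B ⧸ J) ⊗ₜ[B] m) =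
      Submodule.Quotient.mk m := by
    exact TensorProduct.quotTensorEquivQuotSMul_mk_one_tmul (M := M) J m
  rw [h3, Submodule.Quotient.mk_eq_zero] at h2
  exact h2



/-- For ring maps A → B → C with A → C surjective and A → B formally smooth, writing I = ker(A → C) and
J = ker(B → C), the sequence 0 → I/I² → J/J² → C ⊗_B Ω_{B/A} → 0 is split exact: the first map is
injective and admits an A-linear retraction, its range is the kernel of the second map (class of x ↦
1 ⊗ dx), and the second map is surjective. -/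
theorem result (A : Type u) [CommRing A]
    (B : Type u) [CommRing B] [Algebra A B] [Algebra.FormallySmooth A B] (C : Type u) [CommRing C]
    [Algebra B C] [Algebra A C] [IsScalarTower A B C] (hC : Function.Surjective (algebraMap A C)) :
    Function.Injective (Ideal.mapCotangent (RingHom.ker (algebraMap A C))
        (RingHom.ker (algebraMap B C)) (Algebra.ofId A B)
        (le_of_eq (congrArg RingHom.ker (IsScalarTower.algebraMap_eq A B C)))) ∧
      (∃ r : (RingHom.ker (algebraMap B C)).Cotangent →ₗ[A] (RingHom.ker (algebraMap A C)).Cotangent,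
        r ∘ₗ (Ideal.mapCotangent (RingHom.ker (algebraMap A C)) (RingHom.ker (algebraMap B C))
          (Algebra.ofId A B)
          (le_of_eq (congrArg RingHom.ker (IsScalarTower.algebraMap_eq A B C)))) = LinearMap.id) ∧
      LinearMap.range (Ideal.mapCotangent (RingHom.ker (algebraMap A C))
          (RingHom.ker (algebraMap B C)) (Algebra.ofId A B)
          (le_of_eq (congrArg RingHom.ker (IsScalarTower.algebraMap_eq A B C)))) =
        LinearMap.ker ((KaehlerDifferential.kerCotangentToTensor A B C).restrictScalars A) ∧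
      Function.Surjective (KaehlerDifferential.kerCotangentToTensor A B C) := by
  set I := RingHom.ker (algebraMap A C) with hI
  set J := RingHom.ker (algebraMap B C) with hJ
  set hIJ : I ≤ J.comap (Algebra.ofId A B) :=
    (le_of_eq (congrArg RingHom.ker (IsScalarTower.algebraMap_eq A B C)))
  set φ := Ideal.mapCotangent I J (Algebra.ofId A B) hIJ with hφ
  have hBC : Function.Surjective (algebraMap B C) := by
    intro c
    obtain ⟨a, rfl⟩ := hC c
    exact ⟨algebraMap A B a, (IsScalarTower.algebraMap_apply A B C a).symm⟩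
  -- the lift σ
  let g : A ⧸ I ^ 2 →ₐ[A] C := Ideal.Quotient.liftₐ (I ^ 2) (Algebra.ofId A C) (fun a ha => by
    have : a ∈ I := Ideal.pow_le_self two_ne_zero ha
    simpa [hI] using this)
  have hg : Function.Surjective g := by
    intro c
    obtain ⟨a, rfl⟩ := hC c
    exact ⟨Ideal.Quotient.mk _ a, by simp [g]⟩
  have hker : RingHom.ker (g : A ⧸ I ^ 2 →+* C) ≤ I.cotangentIdeal := by
    intro x hx
    obtain ⟨a, rfl⟩ := Ideal.Quotient.mk_surjective x
    rw [Ideal.mk_mem_cotangentIdeal]
    have : algebraMap A C a = 0 := by simpa [g] using hx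
    exact this
  have hg' : IsNilpotent (RingHom.ker (g : A ⧸ I ^ 2 →+* C)) := by
    refine ⟨2, ?_⟩
    rw [Ideal.zero_eq_bot, ← le_bot_iff, ← I.cotangentIdeal_square]
    exact Ideal.pow_right_mono hker 2
  let σ : B →ₐ[A] A ⧸ I ^ 2 :=
    Algebra.FormallySmooth.liftOfSurjective (IsScalarTower.toAlgHom A B C) g hg hg'
  have hσ : ∀ b, g (σ b) = algebraMap B C b := fun b =>
    Algebra.FormallySmooth.liftOfSurjective_apply (IsScalarTower.toAlgHom A B C) g hg hg' b
  have hσJ : ∀ x ∈ J, σ x ∈ I.cotangentIdeal := by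
    intro x hx
    apply hker
    rw [RingHom.mem_ker]
    change g (σ x) = 0
    rw [hσ]; exact hx
  -- the retraction
  let ρ₀ : J →ₗ[A] I.cotangentIdeal :=
    { toFun := fun x => ⟨σ x, hσJ x x.2⟩
      map_add' := fun x y => by ext; simp
      map_smul' := fun a x => by ext; simp }
  have hρ₀ : ∀ x y : J, ρ₀ (x * y) = 0 := by
    intro x y
    ext
    have h1 : ((ρ₀ (x * y) : I.cotangentIdeal) : A ⧸ I ^ 2) = σ x * σ y := by
      simp [ρ₀]
    rw [h1]
    have h2 : σ x * σ y ∈ I.cotangentIdeal * I.cotangentIdeal :=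
      Ideal.mul_mem_mul (hσJ x x.2) (hσJ y y.2)
    rw [← pow_two I.cotangentIdeal, I.cotangentIdeal_square] at h2
    simpa using h2
  let ρ : J.Cotangent →ₗ[A] I.cotangentIdeal := Ideal.Cotangent.lift ρ₀ hρ₀
  let r : J.Cotangent →ₗ[A] I.Cotangent := I.cotangentEquivIdeal.symm.toLinearMap ∘ₗ ρ
  have hr : r ∘ₗ φ = LinearMap.id := by
    apply LinearMap.ext
    intro x
    obtain ⟨⟨a, ha⟩, rfl⟩ := I.toCotangent_surjective x
    simp only [LinearMap.coe_comp, Function.comp_apply, LinearMap.id_coe, id_eq, hφ,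
      Ideal.mapCotangent_toCotangent, r, ρ, Ideal.Cotangent.lift_toCotangent, LinearEquiv.coe_coe]
    have : ρ₀ ⟨(Algebra.ofId A B) a, hIJ ha⟩ = ⟨Ideal.Quotient.mk (I ^ 2) a,
        Ideal.mk_mem_cotangentIdeal.mpr ha⟩ := by
      ext
      simp [ρ₀, Algebra.ofId_apply]
    rw [this]
    exact I.cotangentEquivIdeal_symm_apply a ha
  have hinj : Function.Injective φ := by
    intro x y hxy
    have := congrArg r hxy
    rwa [← LinearMap.comp_apply, ← LinearMap.comp_apply, hr] at this
  have hsurj : Function.Surjective (KaehlerDifferential.kerCotangentToTensor A B C) := by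
    intro y
    have hex := KaehlerDifferential.exact_kerCotangentToTensor_mapBaseChange A B C hBC
    have : Subsingleton (Ω[C⁄A]) := KaehlerDifferential.subsingleton_of_surjective A C hC
    exact (hex y).mp (Subsingleton.elim _ _)
  refine ⟨hinj, ⟨r, hr⟩, ?_, hsurj⟩
  apply le_antisymm
  · rintro _ ⟨x, rfl⟩
    obtain ⟨⟨a, ha⟩, rfl⟩ := I.toCotangent_surjective x
    simp only [LinearMap.mem_ker, LinearMap.coe_restrictScalars, hφ,
      Ideal.mapCotangent_toCotangent]
    change (1 : C) ⊗ₜ[B] KaehlerDifferential.D A B ((Algebra.ofId A B) a) = 0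
    simp [Algebra.ofId_apply]
  · intro y hy
    obtain ⟨⟨x, hx⟩, rfl⟩ := J.toCotangent_surjective y
    simp only [LinearMap.mem_ker, LinearMap.coe_restrictScalars] at hy
    change (1 : C) ⊗ₜ[B] KaehlerDifferential.D A B x = 0 at hy
    have hD : KaehlerDifferential.D A B x ∈ J • (⊤ : Submodule B (Ω[B⁄A])) :=
      mem_smul_top_of_one_tmul_eq_zero hBC _ hy
    -- the two maps `B → B/J²`
    have hI2J2 : I ^ 2 ≤ (J ^ 2).comap (Algebra.ofId A B) := by
      rw [← Ideal.map_le_iff_le_comap, Ideal.map_pow]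
      exact Ideal.pow_right_mono (Ideal.map_le_iff_le_comap.mpr hIJ) 2
    let ι' : A ⧸ I ^ 2 →ₐ[A] B ⧸ J ^ 2 := Ideal.quotientMapₐ (J ^ 2) (Algebra.ofId A B) hI2J2
    let τ : B →ₐ[A] B ⧸ J ^ 2 := ι'.comp σ
    have hN : J.cotangentIdeal ^ 2 = ⊥ := J.cotangentIdeal_square
    have hτ : ∀ b : B, τ b - Ideal.Quotient.mk (J ^ 2) b ∈ J.cotangentIdeal := by
      intro b
      obtain ⟨a, ha⟩ := Ideal.Quotient.mk_surjective (σ b)
      have h1 : τ b = Ideal.Quotient.mk (J ^ 2) (algebraMap A B a) := by
        simp [τ, ι', ← ha, Algebra.ofId_apply]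
      rw [h1, ← map_sub, Ideal.mk_mem_cotangentIdeal, hJ, RingHom.mem_ker, map_sub,
        ← IsScalarTower.algebraMap_apply, ← hσ b, ← ha]
      simp [g]
    have e : (Ideal.Quotient.mkₐ A J.cotangentIdeal).comp τ =
        IsScalarTower.toAlgHom A B ((B ⧸ J ^ 2) ⧸ J.cotangentIdeal) := by
      ext b
      simp only [AlgHom.comp_apply, Ideal.Quotient.mkₐ_eq_mk, IsScalarTower.coe_toAlgHom']
      rw [IsScalarTower.algebraMap_apply B (B ⧸ J ^ 2) _, Ideal.Quotient.algebraMap_eq,
        Ideal.Quotient.algebraMap_eq]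
      exact Ideal.Quotient.eq.mpr (hτ b)
    let δ : Derivation A B J.cotangentIdeal := derivationToSquareZeroOfLift J.cotangentIdeal hN τ e
    have hδ : ∀ ω ∈ J • (⊤ : Submodule B (Ω[B⁄A])), δ.liftKaehlerDifferential ω = 0 := by
      intro ω hω
      refine Submodule.smul_induction_on hω ?_ ?_
      · intro j hj n _
        rw [map_smul]
        ext
        have h1 : ((j • δ.liftKaehlerDifferential n : J.cotangentIdeal) : B ⧸ J ^ 2) =
            Ideal.Quotient.mk (J ^ 2) j * (δ.liftKaehlerDifferential n : B ⧸ J ^ 2) := by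
          rw [Submodule.coe_smul_of_tower, Algebra.smul_def, Ideal.Quotient.algebraMap_eq]
        rw [h1]
        have h2 : Ideal.Quotient.mk (J ^ 2) j * (δ.liftKaehlerDifferential n : B ⧸ J ^ 2) ∈
            J.cotangentIdeal * J.cotangentIdeal :=
          Ideal.mul_mem_mul (Ideal.mk_mem_cotangentIdeal.mpr hj) (δ.liftKaehlerDifferential n).2
        rw [← pow_two J.cotangentIdeal, hN] at h2
        simpa using h2
      · intro ω₁ ω₂ h₁ h₂
        rw [map_add, h₁, h₂, add_zero]
    have hδx : δ x = 0 := by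
      rw [← Derivation.liftKaehlerDifferential_comp_D δ x]
      exact hδ _ hD
    have hτx : τ x = Ideal.Quotient.mk (J ^ 2) x := by
      have := congrArg (Subtype.val) hδx
      rw [derivationToSquareZeroOfLift_apply] at this
      simpa [sub_eq_zero] using this
    obtain ⟨a, ha⟩ := Ideal.Quotient.mk_surjective (σ x)
    have haI : a ∈ I := by
      rw [← Ideal.mk_mem_cotangentIdeal, ha]
      exact hσJ x hx
    have h1 : τ x = Ideal.Quotient.mk (J ^ 2) (algebraMap A B a) := by
      simp [τ, ι', ← ha, Algebra.ofId_apply]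
    refine ⟨I.toCotangent ⟨a, haI⟩, ?_⟩
    rw [hφ, Ideal.mapCotangent_toCotangent, Ideal.toCotangent_eq]
    change algebraMap A B a - x ∈ J ^ 2
    rw [← Ideal.Quotient.eq, ← h1, hτx]

end Groth.Agent.S9450
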