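import Groth.Statements.S9451
import Mathlib
-- import your own Groth.Agent.* helpers here

set_option autoImplicit false
universe u
open CategoryTheory CategoryTheory.Limits TensorProduct
open CAlg

namespace Groth.Agent.S9451

open TensorProduct CategoryTheory Limits


/-- Let (A_i) be a filtered system of rings with colimit A and B a smooth A-algebra. Then some stage A_i
carries a smooth A_i-algebra B_i with B isomorphic to A ⊗_{A_i} B_i as A-algebras (the base change
along the colimit map A_i → A; existence of an isomorphism). -/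
theorem result {I : Type u} [SmallCategory I] [IsFiltered I]
    (D : I ⥤ CommRingCat.{u}) (c : Cocone D) (hc : IsColimit c) (B : Type u) [CommRing B]
    [Algebra c.pt B] [Algebra.Smooth c.pt B] :
    ∃ (i : I) (Bi : Type u) (_ : CommRing Bi) (_ : Algebra (D.obj i) Bi),
      Algebra.Smooth (D.obj i) Bi ∧
      (letI : Algebra (D.obj i) c.pt := (c.ι.app i).hom.toAlgebra
       Nonempty (B ≃ₐ[c.pt] (c.pt ⊗[D.obj i] Bi))) := by
  obtain ⟨A₀, B₀, _, _, hfg, hsm, ⟨e⟩⟩ := Algebra.Smooth.exists_subalgebra_fg ℤ c.pt B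
  have : PreservesColimit D (forget CommRingCat) := inferInstance
  let Z : CommRingCat.{u} := CommRingCat.of (ULift.{u} ℤ)
  let ζ : ∀ (X : CommRingCat.{u}), Z ⟶ X := fun X =>
    CommRingCat.ofHom ((Int.castRingHom X).comp (ULift.ringEquiv : ULift.{u} ℤ ≃+* ℤ).toRingHom)
  have hζ : ∀ (X : CommRingCat.{u}) (f g : Z ⟶ X), f = g := by
    intro X f g
    ext x
    obtain ⟨x, rfl⟩ := (ULift.ringEquiv : ULift.{u} ℤ ≃+* ℤ).symm.surjective x
    have h1 := RingHom.ext_int (f.hom.comp (ULift.ringEquiv : ULift.{u} ℤ ≃+* ℤ).symm.toRingHom)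
      (g.hom.comp (ULift.ringEquiv : ULift.{u} ℤ ≃+* ℤ).symm.toRingHom)
    exact congr($h1 x)
  let α : (Functor.const I).obj Z ⟶ D := { app := fun i => ζ (D.obj i), naturality := fun _ _ _ => hζ _ _ _ }
  let S₀ : CommRingCat.{u} := CommRingCat.of A₀
  let f : Z ⟶ S₀ := ζ S₀
  have hf : f.hom.FinitePresentation := by
    have h1 : Algebra.FiniteType ℤ A₀ := (Subalgebra.fg_iff_finiteType A₀).mp hfg
    have h2 : Algebra.FinitePresentation ℤ A₀ := Algebra.FinitePresentation.of_finiteType.mp h1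
    have h3 : (algebraMap ℤ A₀).FinitePresentation := RingHom.finitePresentation_algebraMap.mpr h2
    have h4 : (ULift.ringEquiv : ULift.{u} ℤ ≃+* ℤ).toRingHom.FinitePresentation :=
      RingHom.FinitePresentation.of_bijective (ULift.ringEquiv : ULift.{u} ℤ ≃+* ℤ).bijective
    exact h3.comp h4
  let g : S₀ ⟶ c.pt := CommRingCat.ofHom A₀.val.toRingHom
  obtain ⟨i, g', -, hg'⟩ := RingHom.EssFiniteType.exists_eq_comp_ι_app_of_isColimit Z D α f c hc hf g
    (fun i => hζ _ _ _)
  letI : Algebra A₀ (D.obj i) := g'.hom.toAlgebra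
  letI : Algebra (D.obj i) c.pt := (c.ι.app i).hom.toAlgebra
  haveI : IsScalarTower A₀ (D.obj i) c.pt := .of_algebraMap_eq' (by
    have := congr($(hg').hom)
    exact this)
  refine ⟨i, (D.obj i) ⊗[A₀] B₀, inferInstance, inferInstance, inferInstance, ?_⟩
  exact ⟨e.trans (Algebra.TensorProduct.cancelBaseChange A₀ (D.obj i) c.pt c.pt B₀).symm⟩

end Groth.Agent.S9451
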