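import Groth.Statements.S9462
import Groth.Agent.Lib.Lead.SmoothSrcLocal

set_option autoImplicit false
universe u
open CAlg

namespace Groth.Agent.S9462

open TensorProduct

section iso

variable {A' Q B' : Type u} [CommRing A'] [CommRing Q] [CommRing B'] [Algebra A' Q] [Algebra A' B']

/-- the multiplication map `C ⊗ I → C` -/
noncomputable def mu (I : Ideal A') (C : Type u) [CommRing C] [Algebra A' C] : C ⊗[A'] I →ₗ[A'] C :=
  (TensorProduct.rid A' C).toLinearMap ∘ₗ (LinearMap.lTensor C I.subtype)

lemma mu_tmul (I : Ideal A') (C : Type u) [CommRing C] [Algebra A' C] (c : C) (i : I) :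
    mu I C (c ⊗ₜ i) = (i : A') • c := by
  simp [mu]

lemma mu_rTensor_mulLeft (I : Ideal A') (C : Type u) [CommRing C] [Algebra A' C] (c : C)
    (t : C ⊗[A'] I) :
    mu I C ((LinearMap.rTensor I (LinearMap.mulLeft A' c)) t) = c • mu I C t := by
  induction t using TensorProduct.induction_on with
  | zero => simp
  | tmul q i => simp [mu_tmul]
  | add a b ha hb => simp only [map_add, smul_add, ha, hb]

lemma mem_map_iff_exists_mu (I : Ideal A') (C : Type u) [CommRing C] [Algebra A' C] (x : C) :
    x ∈ I.map (algebraMap A' C) ↔ ∃ t, mu I C t = x := by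
  constructor
  · intro hx
    induction hx using Submodule.span_induction with
    | mem y hy =>
      obtain ⟨i, hi, rfl⟩ := hy
      exact ⟨(1 : C) ⊗ₜ ⟨i, hi⟩, by rw [mu_tmul, Algebra.smul_def, mul_one]⟩
    | zero => exact ⟨0, map_zero _⟩
    | add y z _ _ hy hz =>
      obtain ⟨t, rfl⟩ := hy
      obtain ⟨s, rfl⟩ := hz
      exact ⟨t + s, map_add _ _ _⟩
    | smul c y _ hy =>
      obtain ⟨t, rfl⟩ := hy
      exact ⟨(LinearMap.rTensor I (LinearMap.mulLeft A' c)) t, mu_rTensor_mulLeft I C c t⟩
  · rintro ⟨t, rfl⟩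
    induction t using TensorProduct.induction_on with
    | zero => simp
    | tmul c i =>
      rw [mu_tmul, Algebra.smul_def]
      exact Ideal.mul_mem_right _ _ (Ideal.mem_map_of_mem _ i.2)
    | add a b ha hb => rw [map_add]; exact Ideal.add_mem _ ha hb

theorem bijective_of_sqZero (I : Ideal A') (hI : I ^ 2 = ⊥) (g : Q →ₐ[A'] B')
    (hsurj : ∀ b : B', ∃ q : Q, b - g q ∈ I.map (algebraMap A' B'))
    (hker : ∀ x : Q, g x = 0 → x ∈ I.map (algebraMap A' Q))
    (hinj : Function.Injective (I.subtype.baseChange B')) :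
    Function.Bijective g := by
  have hJ2 : (I.map (algebraMap A' B')) ^ 2 = ⊥ := by
    rw [← Ideal.map_pow, hI, Ideal.map_bot]
  have hQ2 : (I.map (algebraMap A' Q)) ^ 2 = ⊥ := by
    rw [← Ideal.map_pow, hI, Ideal.map_bot]
  have hgs : Function.Surjective g := by
    -- every element of `IB'` is in the range
    have key : ∀ x ∈ I.map (algebraMap A' B'), ∀ b : B', ∃ q : Q, g q = b * x := by
      intro x hx
      induction hx using Submodule.span_induction with
      | mem y hy =>
        obtain ⟨i, hi, rfl⟩ := hy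
        intro b
        obtain ⟨q, hq⟩ := hsurj b
        refine ⟨i • q, ?_⟩
        have h1 : (b - g q) * algebraMap A' B' i = 0 := by
          have : (b - g q) * algebraMap A' B' i ∈ (I.map (algebraMap A' B')) ^ 2 := by
            rw [pow_two]
            exact Ideal.mul_mem_mul hq (Ideal.mem_map_of_mem _ hi)
          rwa [hJ2, Ideal.mem_bot] at this
        rw [map_smul, Algebra.smul_def, mul_comm]
        have : b * algebraMap A' B' i = (b - g q) * algebraMap A' B' i + g q * algebraMap A' B' i := by
          ring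
        rw [this, h1, zero_add]
      | zero => intro b; exact ⟨0, by simp⟩
      | add y z _ _ hy hz =>
        intro b
        obtain ⟨q1, h1⟩ := hy b
        obtain ⟨q2, h2⟩ := hz b
        exact ⟨q1 + q2, by rw [map_add, h1, h2, mul_add]⟩
      | smul c y _ hy =>
        intro b
        obtain ⟨q, hq⟩ := hy (b * c)
        exact ⟨q, by rw [hq, smul_eq_mul, mul_assoc]⟩
    intro b
    obtain ⟨q, hq⟩ := hsurj b
    obtain ⟨q', hq'⟩ := key _ hq 1
    exact ⟨q + q', by rw [map_add, hq', one_mul]; ring⟩
  refine ⟨?_, hgs⟩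
  -- injectivity
  have hμinj : Function.Injective (mu I B') := by
    intro a b hab
    apply hinj
    have h1 : ∀ t, (I.subtype.baseChange B') t = (LinearMap.lTensor B' I.subtype) t := fun t => rfl
    rw [h1, h1]
    exact (TensorProduct.rid A' B').injective hab
  have hcomm : ∀ t : Q ⊗[A'] I, g (mu I Q t) = mu I B' (LinearMap.rTensor I g.toLinearMap t) := by
    intro t
    induction t using TensorProduct.induction_on with
    | zero => simp
    | tmul q i => simp [mu_tmul]
    | add a b ha hb => simp only [map_add, ha, hb]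
  let K : Submodule A' Q := LinearMap.ker g.toLinearMap
  have hexact : Function.Exact (LinearMap.rTensor I K.subtype) (LinearMap.rTensor I g.toLinearMap) :=
    rTensor_exact I (LinearMap.exact_subtype_ker_map g.toLinearMap) hgs
  have hKs : ∀ s : ↥K ⊗[A'] I, mu I Q (LinearMap.rTensor I K.subtype s) ∈
      I.map (algebraMap A' Q) * RingHom.ker g.toRingHom := by
    intro s
    induction s using TensorProduct.induction_on with
    | zero => simp
    | tmul κ i =>
      rw [LinearMap.rTensor_tmul, mu_tmul, Algebra.smul_def]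
      exact Ideal.mul_mem_mul (Ideal.mem_map_of_mem _ i.2) κ.2
    | add a b ha hb => rw [map_add, map_add]; exact Ideal.add_mem _ ha hb
  have hK1 : ∀ x : Q, g x = 0 → x ∈ I.map (algebraMap A' Q) * RingHom.ker g.toRingHom := by
    intro x hx
    obtain ⟨t, rfl⟩ := (mem_map_iff_exists_mu I Q x).1 (hker x hx)
    have h1 : mu I B' (LinearMap.rTensor I g.toLinearMap t) = 0 := by rw [← hcomm, hx]
    have h2 : LinearMap.rTensor I g.toLinearMap t = 0 := by
      apply hμinj
      rw [h1, map_zero]
    obtain ⟨s, rfl⟩ := (hexact t).1 h2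
    exact hKs s
  rw [injective_iff_map_eq_zero]
  intro x hx
  have h1 := hK1 x hx
  -- bootstrap: the kernel is contained in `IQ * (IQ * K) = 0`
  have h2 : I.map (algebraMap A' Q) * RingHom.ker g.toRingHom ≤
      I.map (algebraMap A' Q) * (I.map (algebraMap A' Q) * RingHom.ker g.toRingHom) := by
    apply Ideal.mul_mono_right
    intro y hy
    exact hK1 y hy
  have h3 := h2 h1
  rw [← mul_assoc, ← pow_two, hQ2, Ideal.bot_mul, Ideal.mem_bot] at h3
  exact h3

end iso


open TensorProduct in
/-- Consider surjections A' → A and B' → B with square-zero kernels I and J and a commutative square A'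
→ B', A → B. If A → B is étale and J = I ⊗_A B — that is, J = IB' and the multiplication map B'
⊗_{A'} I → B' is injective — then A' → B' is étale. -/
theorem result (A' : Type u) [CommRing A'] (A : Type u) [CommRing A]
    [Algebra A' A] (hA : Function.Surjective (algebraMap A' A))
    (hI : RingHom.ker (algebraMap A' A) ^ 2 = ⊥)
    (B' : Type u) [CommRing B'] [Algebra A' B'] (B : Type u) [CommRing B] [Algebra B' B]
    [Algebra A B] [Algebra A' B] [IsScalarTower A' A B] [IsScalarTower A' B' B]
    (hB : Function.Surjective (algebraMap B' B)) (hJ : RingHom.ker (algebraMap B' B) ^ 2 = ⊥)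
    [Algebra.Etale A B]
    (hJI : RingHom.ker (algebraMap B' B) = (RingHom.ker (algebraMap A' A)).map (algebraMap A' B'))
    (hinj : Function.Injective ((RingHom.ker (algebraMap A' A)).subtype.baseChange B')) :
    Algebra.Etale A' B' := by
  obtain ⟨Q, _, _, _, π, hπs, hπk⟩ :=
    Groth.Agent.Lib.Lead.SmoothSrcLocal.exists_etale_lift (P := A') (A := A) (B := B) hA
  let ρ : B' →ₐ[A'] B := IsScalarTower.toAlgHom A' B' B
  have hρ : ∀ b, ρ b = algebraMap B' B b := fun b => rfl
  have hnil : IsNilpotent (RingHom.ker (ρ : B' →+* B)) := ⟨2, hJ⟩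
  let g : Q →ₐ[A'] B' := Algebra.FormallySmooth.liftOfSurjective π ρ hB hnil
  have hg : ∀ q, algebraMap B' B (g q) = π q :=
    fun q => Algebra.FormallySmooth.liftOfSurjective_apply π ρ hB hnil q
  have hbij : Function.Bijective g := by
    apply bijective_of_sqZero (RingHom.ker (algebraMap A' A)) hI g ?_ ?_ hinj
    · intro b
      obtain ⟨q, hq⟩ := hπs (algebraMap B' B b)
      refine ⟨q, ?_⟩
      rw [← hJI, RingHom.mem_ker, map_sub, hg, hq, sub_self]
    · intro x hx
      rw [← hπk, RingHom.mem_ker, ← hg, hx, map_zero]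
  exact Algebra.Etale.of_equiv (AlgEquiv.ofBijective g hbij)

end Groth.Agent.S9462
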