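import Groth.Statements.S9463
import Mathlib.Tactic
-- import your own Groth.Agent.* helpers here

set_option autoImplicit false
universe u
open OmegaSh

namespace Groth.Agent.S9463

/-- Let A → B be formally unramified, π : B' → B a universal first order thickening of B relative to A,
and S ⊆ A a multiplicative subset. Localizing everything at S (A_S, B_S and B'_S with compatible
algebra structures, π_S : B'_S → B_S the A_S-algebra map induced by π), the map π_S is a universal
first order thickening of B_S relative to A_S. (The published statement adds the consequence that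
the conormal module localizes accordingly.) -/
theorem result (A B B' : Type u) [CommRing A] [CommRing B]
    [CommRing B'] [Algebra A B] [Algebra.FormallyUnramified A B] [Algebra A B'] (π : B' →ₐ[A] B)
    (hπ : OmegaSh.IsUnivThickeningRing A B B' π) (S : Submonoid A)
    (AS BS B'S : Type u) [CommRing AS] [CommRing BS] [CommRing B'S]
    [Algebra A AS] [IsLocalization S AS]
    [Algebra B BS] [IsLocalization (Algebra.algebraMapSubmonoid B S) BS]
    [Algebra B' B'S] [IsLocalization (Algebra.algebraMapSubmonoid B' S) B'S]
    [Algebra AS BS] [Algebra A BS] [IsScalarTower A AS BS] [IsScalarTower A B BS]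
    [Algebra AS B'S] [Algebra A B'S] [IsScalarTower A AS B'S] [IsScalarTower A B' B'S]
    (πS : B'S →ₐ[AS] BS) (hπS : ∀ x : B', πS (algebraMap B' B'S x) = algebraMap B BS (π x)) :
    OmegaSh.IsUnivThickeningRing AS BS B'S πS := by
  obtain ⟨hsurj, hker, huniv⟩ := hπ
  -- basic facts
  have hπSA : ∀ t : A, πS (algebraMap A B'S t) = algebraMap A BS t := by
    intro t
    rw [IsScalarTower.algebraMap_apply A AS B'S, AlgHom.commutes, ← IsScalarTower.algebraMap_apply]
  have hunitB'S : ∀ t ∈ S, IsUnit (algebraMap A B'S t) := by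
    intro t ht
    rw [IsScalarTower.algebraMap_apply A B' B'S]
    exact IsLocalization.map_units B'S
      (⟨algebraMap A B' t, Algebra.mem_algebraMapSubmonoid_of_mem ⟨t, ht⟩⟩ :
        Algebra.algebraMapSubmonoid B' S)
  refine ⟨?_, ?_, ?_⟩
  · -- surjectivity
    intro y
    obtain ⟨⟨b, ⟨s, t, ht, rfl⟩⟩, hy⟩ := IsLocalization.surj (Algebra.algebraMapSubmonoid B S) y
    obtain ⟨b', rfl⟩ := hsurj b
    obtain ⟨u, hu⟩ := hunitB'S t ht
    refine ⟨algebraMap B' B'S b' * ↑u⁻¹, ?_⟩
    have h1 : πS (↑u⁻¹ : B'S) * algebraMap A BS t = 1 := by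
      rw [← hπSA, ← hu, ← map_mul, Units.inv_mul, map_one]
    simp only at hy
    rw [← IsScalarTower.algebraMap_apply A B BS] at hy
    rw [map_mul, hπS, ← hy, mul_assoc, mul_comm (algebraMap A BS t), h1, mul_one]
  · -- square zero
    rw [eq_bot_iff, pow_two, Ideal.mul_le]
    intro x hx x' hx'
    rw [RingHom.mem_ker] at hx hx'
    -- write x = b'/t
    have key : ∀ z : B'S, πS z = 0 → ∃ (c : B') (t : A), t ∈ S ∧ c ∈ RingHom.ker π.toRingHom ∧
        z * algebraMap A B'S t = algebraMap B' B'S c := by
      intro z hz
      obtain ⟨⟨b', ⟨s, t, ht, rfl⟩⟩, hzb⟩ := IsLocalization.surj (Algebra.algebraMapSubmonoid B' S) z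
      simp only at hzb
      rw [← IsScalarTower.algebraMap_apply A B' B'S] at hzb
      have h2 : algebraMap B BS (π b') = 0 := by
        rw [← hπS, ← hzb, map_mul, hz, zero_mul]
      rw [IsLocalization.map_eq_zero_iff (Algebra.algebraMapSubmonoid B S)] at h2
      obtain ⟨⟨s1, t1, ht1, rfl⟩, h3⟩ := h2
      simp only at h3
      refine ⟨algebraMap A B' t1 * b', t * t1, S.mul_mem ht ht1, ?_, ?_⟩
      · rw [RingHom.mem_ker]
        show π (algebraMap A B' t1 * b') = 0
        rw [map_mul, AlgHom.commutes, h3]
      · rw [map_mul, map_mul, ← mul_assoc, hzb, mul_comm, ← IsScalarTower.algebraMap_apply A B' B'S]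
    obtain ⟨c, t, ht, hc, hxc⟩ := key x hx
    obtain ⟨c', t', ht', hc', hxc'⟩ := key x' hx'
    have hcc' : c * c' = 0 := by
      have : c * c' ∈ RingHom.ker π.toRingHom ^ 2 := by
        rw [pow_two]; exact Ideal.mul_mem_mul hc hc'
      rw [hker] at this
      exact this
    have h4 : (x * x') * (algebraMap A B'S t * algebraMap A B'S t') = 0 := by
      calc (x * x') * (algebraMap A B'S t * algebraMap A B'S t')
          = (x * algebraMap A B'S t) * (x' * algebraMap A B'S t') := by ring
        _ = 0 := by rw [hxc, hxc', ← map_mul, hcc', map_zero]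
    have hu : IsUnit (algebraMap A B'S t * algebraMap A B'S t') :=
      (hunitB'S t ht).mul (hunitB'S t' ht')
    exact (hu.mul_left_eq_zero).mp h4
  · -- universal property
    intro C _ _ I hI a
    letI : Algebra A C := ((algebraMap AS C).comp (algebraMap A AS)).toAlgebra
    haveI : IsScalarTower A AS C := IsScalarTower.of_algebraMap_eq' rfl
    let a₀ : B →ₐ[A] C ⧸ I := (a.restrictScalars A).comp (IsScalarTower.toAlgHom A B BS)
    obtain ⟨a'₀, ha'₀, huniq⟩ := huniv C I hI a₀
    have hunitC : ∀ y : Algebra.algebraMapSubmonoid B' S, IsUnit (a'₀.toRingHom y) := by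
      rintro ⟨_, t, ht, rfl⟩
      show IsUnit (a'₀ (algebraMap A B' t))
      rw [AlgHom.commutes, IsScalarTower.algebraMap_apply A AS C]
      exact (IsLocalization.map_units AS ⟨t, ht⟩).map _
    let g : B'S →+* C := IsLocalization.lift hunitC
    have hg : ∀ b' : B', g (algebraMap B' B'S b') = a'₀ b' := fun b' => IsLocalization.lift_eq hunitC b'
    have hgcomm : ∀ r : AS, g (algebraMap AS B'S r) = algebraMap AS C r := by
      have : g.comp (algebraMap AS B'S) = algebraMap AS C := by
        apply IsLocalization.ringHom_ext S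
        ext t
        show g (algebraMap AS B'S (algebraMap A AS t)) = algebraMap AS C (algebraMap A AS t)
        rw [← IsScalarTower.algebraMap_apply A AS B'S, IsScalarTower.algebraMap_apply A B' B'S, hg,
          AlgHom.commutes, IsScalarTower.algebraMap_apply A AS C]
      exact fun r => RingHom.congr_fun this r
    let a'S : B'S →ₐ[AS] C := { g with commutes' := hgcomm }
    have ha'S : ∀ z, a'S z = g z := fun z => rfl
    refine ⟨a'S, ?_, ?_⟩
    · -- lifting property
      apply AlgHom.coe_ringHom_injective
      apply IsLocalization.ringHom_ext (Algebra.algebraMapSubmonoid B' S)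
      ext b'
      show Ideal.Quotient.mk I (a'S (algebraMap B' B'S b')) = a (πS (algebraMap B' B'S b'))
      rw [ha'S, hg, hπS]
      have := congrArg (fun φ : B' →ₐ[A] C ⧸ I => φ b') ha'₀
      exact this
    · intro a'' ha''
      have h5 : (a''.restrictScalars A).comp (IsScalarTower.toAlgHom A B' B'S) = a'₀ := by
        apply huniq
        ext b'
        show Ideal.Quotient.mk I (a'' (algebraMap B' B'S b')) = a (algebraMap B BS (π b'))
        rw [← hπS]
        exact congrArg (fun φ : B'S →ₐ[AS] C ⧸ I => φ (algebraMap B' B'S b')) ha''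
      apply AlgHom.coe_ringHom_injective
      apply IsLocalization.ringHom_ext (Algebra.algebraMapSubmonoid B' S)
      ext b'
      show a'' (algebraMap B' B'S b') = a'S (algebraMap B' B'S b')
      rw [ha'S, hg, ← h5]
      rfl

end Groth.Agent.S9463
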