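import Groth.Statements.S9464
import Mathlib.RingTheory.Ideal.Quotient.Nilpotent
import Mathlib.Tactic
-- import your own Groth.Agent.* helpers here

set_option autoImplicit false
universe u
open OmegaSh

namespace Groth.Agent.S9464

/-- Let A → B be formally unramified, π : B' → B a universal first order thickening of B relative to A,
S ⊆ B a multiplicative subset and S' = π⁻¹(S) ⊆ B'. With B_S the localization of B at S, B'_{S'} the
localization of B' at S' (both as A-algebras) and π' : B'_{S'} → B_S the A-algebra map induced by π,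
the map π' is a universal first order thickening of B_S relative to A. (The published statement adds
the consequence that the conormal module localizes accordingly.) -/
theorem result (A B B' : Type u) [CommRing A] [CommRing B]
    [CommRing B'] [Algebra A B] [Algebra.FormallyUnramified A B] [Algebra A B'] (π : B' →ₐ[A] B)
    (hπ : OmegaSh.IsUnivThickeningRing A B B' π) (S : Submonoid B)
    (BS B'S : Type u) [CommRing BS] [CommRing B'S]
    [Algebra B BS] [IsLocalization S BS]
    [Algebra B' B'S] [IsLocalization (S.comap π.toRingHom.toMonoidHom) B'S]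
    [Algebra A BS] [IsScalarTower A B BS] [Algebra A B'S] [IsScalarTower A B' B'S]
    (πS : B'S →ₐ[A] BS) (hπS : ∀ x : B', πS (algebraMap B' B'S x) = algebraMap B BS (π x)) :
    OmegaSh.IsUnivThickeningRing A BS B'S πS := by
  obtain ⟨hsurj, hker, huniv⟩ := hπ
  have hmem : ∀ s' : B', s' ∈ S.comap π.toRingHom.toMonoidHom ↔ π s' ∈ S := fun s' => Iff.rfl
  have hunitB'S : ∀ s' : B', π s' ∈ S → IsUnit (algebraMap B' B'S s') := by
    intro s' hs'
    exact IsLocalization.map_units B'S (⟨s', (hmem s').mpr hs'⟩ : S.comap π.toRingHom.toMonoidHom)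
  refine ⟨?_, ?_, ?_⟩
  · intro y
    obtain ⟨⟨b, ⟨s, hs⟩⟩, hy⟩ := IsLocalization.surj S y
    obtain ⟨b', rfl⟩ := hsurj b
    obtain ⟨s', rfl⟩ := hsurj s
    obtain ⟨u, hu⟩ := hunitB'S s' hs
    refine ⟨algebraMap B' B'S b' * ↑u⁻¹, ?_⟩
    have h1 : πS (↑u⁻¹ : B'S) * algebraMap B BS (π s') = 1 := by
      rw [← hπS, ← hu, ← map_mul, Units.inv_mul, map_one]
    simp only at hy
    rw [map_mul, hπS, ← hy, mul_assoc, mul_comm (algebraMap B BS (π s')), h1, mul_one]
  · rw [eq_bot_iff, pow_two, Ideal.mul_le]
    intro x hx x' hx'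
    rw [RingHom.mem_ker] at hx hx'
    have key : ∀ z : B'S, πS z = 0 → ∃ (c : B') (t : B'), π t ∈ S ∧ c ∈ RingHom.ker π.toRingHom ∧
        z * algebraMap B' B'S t = algebraMap B' B'S c := by
      intro z hz
      obtain ⟨⟨b', ⟨s', hs'⟩⟩, hzb⟩ := IsLocalization.surj (S.comap π.toRingHom.toMonoidHom) z
      simp only at hzb
      have h2 : algebraMap B BS (π b') = 0 := by
        rw [← hπS, ← hzb, map_mul, hz, zero_mul]
      rw [IsLocalization.map_eq_zero_iff S] at h2
      obtain ⟨⟨s1, hs1⟩, h3⟩ := h2
      simp only at h3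
      obtain ⟨s1', rfl⟩ := hsurj s1
      refine ⟨s1' * b', s' * s1', ?_, ?_, ?_⟩
      · rw [map_mul]; exact S.mul_mem ((hmem s').mp hs') hs1
      · rw [RingHom.mem_ker]
        show π (s1' * b') = 0
        rw [map_mul, h3]
      · rw [map_mul, map_mul, ← mul_assoc, hzb, mul_comm]
    obtain ⟨c, t, ht, hc, hxc⟩ := key x hx
    obtain ⟨c', t', ht', hc', hxc'⟩ := key x' hx'
    have hcc' : c * c' = 0 := by
      have : c * c' ∈ RingHom.ker π.toRingHom ^ 2 := by
        rw [pow_two]; exact Ideal.mul_mem_mul hc hc'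
      rw [hker] at this
      exact this
    have h4 : (x * x') * (algebraMap B' B'S t * algebraMap B' B'S t') = 0 := by
      calc (x * x') * (algebraMap B' B'S t * algebraMap B' B'S t')
          = (x * algebraMap B' B'S t) * (x' * algebraMap B' B'S t') := by ring
        _ = 0 := by rw [hxc, hxc', ← map_mul, hcc', map_zero]
    have hu : IsUnit (algebraMap B' B'S t * algebraMap B' B'S t') :=
      (hunitB'S t ht).mul (hunitB'S t' ht')
    exact (hu.mul_left_eq_zero).mp h4
  · intro C _ _ I hI a
    let a₀ : B →ₐ[A] C ⧸ I := a.comp (IsScalarTower.toAlgHom A B BS)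
    obtain ⟨a'₀, ha'₀, huniq⟩ := huniv C I hI a₀
    have ha'₀app : ∀ b' : B', Ideal.Quotient.mk I (a'₀ b') = a (algebraMap B BS (π b')) :=
      fun b' => congrArg (fun φ : B' →ₐ[A] C ⧸ I => φ b') ha'₀
    have hunitC : ∀ y : S.comap π.toRingHom.toMonoidHom, IsUnit (a'₀.toRingHom y) := by
      rintro ⟨s', hs'⟩
      show IsUnit (a'₀ s')
      rw [← IsNilpotent.isUnit_quotient_mk_iff (I := I) ⟨2, hI⟩, ha'₀app]
      exact ((IsLocalization.map_units BS (⟨π s', (hmem s').mp hs'⟩ : S))).map a
    let g : B'S →+* C := IsLocalization.lift hunitC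
    have hg : ∀ b' : B', g (algebraMap B' B'S b') = a'₀ b' := fun b' => IsLocalization.lift_eq hunitC b'
    have hgcomm : ∀ r : A, g (algebraMap A B'S r) = algebraMap A C r := by
      intro r
      rw [IsScalarTower.algebraMap_apply A B' B'S, hg, AlgHom.commutes]
    let a'S : B'S →ₐ[A] C := { g with commutes' := hgcomm }
    have ha'S : ∀ z, a'S z = g z := fun z => rfl
    refine ⟨a'S, ?_, ?_⟩
    · apply AlgHom.coe_ringHom_injective
      apply IsLocalization.ringHom_ext (S.comap π.toRingHom.toMonoidHom)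
      ext b'
      show Ideal.Quotient.mk I (a'S (algebraMap B' B'S b')) = a (πS (algebraMap B' B'S b'))
      rw [ha'S, hg, hπS, ha'₀app]
    · intro a'' ha''
      have h5 : a''.comp (IsScalarTower.toAlgHom A B' B'S) = a'₀ := by
        apply huniq
        ext b'
        show Ideal.Quotient.mk I (a'' (algebraMap B' B'S b')) = a (algebraMap B BS (π b'))
        rw [← hπS]
        exact congrArg (fun φ : B'S →ₐ[A] C ⧸ I => φ (algebraMap B' B'S b')) ha''
      apply AlgHom.coe_ringHom_injective
      apply IsLocalization.ringHom_ext (S.comap π.toRingHom.toMonoidHom)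
      ext b'
      show a'' (algebraMap B' B'S b') = a'S (algebraMap B' B'S b')
      rw [ha'S, hg, ← h5]
      rfl

end Groth.Agent.S9464
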