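import Groth.Statements.S9468
-- import your own Groth.Agent.* helpers here

set_option autoImplicit false
universe u
open Hensel

namespace Groth.Agent.S9468

section helpers

open TensorProduct

section
variable {R : Type u} [CommRing R] (p : Ideal R) [p.IsPrime]

/-- The retraction `S → κ(p)` attached to a pair `(S, q)` with trivial residue field extension. -/
noncomputable def retr (S : Type u) [CommRing S] [Algebra R S] (q : Ideal S) [q.IsPrime]
    (hq : p = q.comap (algebraMap R S))
    (hqκ : Function.Bijective (Ideal.ResidueField.map p q (algebraMap R S) hq)) :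
    S →ₐ[R] p.ResidueField where
  __ := ((RingEquiv.ofBijective _ hqκ).symm : q.ResidueField →+* p.ResidueField).comp
    (algebraMap S q.ResidueField)
  commutes' r := by
    simp only [RingHom.toMonoidHom_eq_coe, OneHom.toFun_eq_coe, MonoidHom.toOneHom_coe,
      MonoidHom.coe_coe, RingHom.coe_comp, RingHom.coe_coe, Function.comp_apply]
    rw [RingEquiv.symm_apply_eq]
    simp

theorem ker_retr (S : Type u) [CommRing S] [Algebra R S] (q : Ideal S) [q.IsPrime]
    (hq : p = q.comap (algebraMap R S))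
    (hqκ : Function.Bijective (Ideal.ResidueField.map p q (algebraMap R S) hq)) :
    RingHom.ker (retr p S q hq hqκ).toRingHom = q := by
  ext x
  simp only [retr, RingHom.mem_ker]
  change (RingEquiv.ofBijective _ hqκ).symm (algebraMap S q.ResidueField x) = 0 ↔ _
  rw [map_eq_zero_iff _ (RingEquiv.injective _), Ideal.algebraMap_residueField_eq_zero]

/-- A prime given as the kernel of an `R`-algebra map to `κ(p)` has trivial residue extension. -/
theorem bijective_of_algHom (S : Type u) [CommRing S] [Algebra R S] (θ : S →ₐ[R] p.ResidueField)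
    (hq : p = (RingHom.ker θ.toRingHom).comap (algebraMap R S))
    [(RingHom.ker θ.toRingHom).IsPrime] :
    Function.Bijective
      (Ideal.ResidueField.map p (RingHom.ker θ.toRingHom) (algebraMap R S) hq) := by
  set q := RingHom.ker θ.toRingHom
  let σ : q.ResidueField →+* p.ResidueField := Ideal.ResidueField.lift q θ.toRingHom le_rfl (by
    intro s hs
    simp only [Submonoid.mem_comap, IsUnit.mem_submonoid_iff]
    rw [isUnit_iff_ne_zero]
    exact hs)
  have hσ : σ.comp (Ideal.ResidueField.map p q (algebraMap R S) hq) = RingHom.id _ := by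
    apply Ideal.ResidueField.ringHom_ext
    ext r
    simp [σ]
  refine ⟨RingHom.injective _, fun x => ⟨σ x, ?_⟩⟩
  apply σ.injective
  exact RingHom.congr_fun hσ (σ x)

end

theorem result_aux (R : Type u) [CommRing R]
    (p : Ideal R) [p.IsPrime] (S₁ : Type u) [CommRing S₁] [Algebra R S₁] [Algebra.Etale R S₁] (q₁ : Ideal S₁) [q₁.IsPrime] (hq₁ : p = q₁.comap (algebraMap R S₁))
    (hq₁κ : Function.Bijective (Ideal.ResidueField.map p q₁ (algebraMap R S₁) hq₁))
    (S₂ : Type u) [CommRing S₂] [Algebra R S₂] [Algebra.Etale R S₂] (q₂ : Ideal S₂) [q₂.IsPrime] (hq₂ : p = q₂.comap (algebraMap R S₂))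
    (hq₂κ : Function.Bijective (Ideal.ResidueField.map p q₂ (algebraMap R S₂) hq₂)) :
    ∃ (S₃ : Type u) (_ : CommRing S₃) (_ : Algebra R S₃) (_ : Algebra.Etale R S₃) (q₃ : Ideal S₃)
      (_ : q₃.IsPrime) (hq₃ : p = q₃.comap (algebraMap R S₃)),
      Function.Bijective (Ideal.ResidueField.map p q₃ (algebraMap R S₃) hq₃) ∧
        ∃ (φ₁ : S₁ →ₐ[R] S₃) (φ₂ : S₂ →ₐ[R] S₃),
          q₃.comap φ₁.toRingHom = q₁ ∧ q₃.comap φ₂.toRingHom = q₂ := by
  let ρ₁ := retr p S₁ q₁ hq₁ hq₁κ
  let ρ₂ := retr p S₂ q₂ hq₂ hq₂κ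
  let θ : S₁ ⊗[R] S₂ →ₐ[R] p.ResidueField :=
    Algebra.TensorProduct.lift ρ₁ ρ₂ (fun _ _ => Commute.all _ _)
  have hθ₁ : θ.comp Algebra.TensorProduct.includeLeft = ρ₁ :=
    Algebra.TensorProduct.lift_comp_includeLeft _ _ _
  have hθ₂ : θ.comp Algebra.TensorProduct.includeRight = ρ₂ :=
    Algebra.TensorProduct.lift_comp_includeRight _ _ (fun _ _ => Commute.all _ _)
  have hprime : (RingHom.ker θ.toRingHom).IsPrime := RingHom.ker_isPrime _
  have hq₃ : p = (RingHom.ker θ.toRingHom).comap (algebraMap R (S₁ ⊗[R] S₂)) := by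
    ext r
    simp only [Ideal.mem_comap, RingHom.mem_ker, AlgHom.toRingHom_eq_coe, RingHom.coe_coe,
      AlgHom.commutes]
    exact Ideal.algebraMap_residueField_eq_zero.symm
  have hEt : Algebra.Etale R (S₁ ⊗[R] S₂) := Algebra.Etale.comp R S₁ (S₁ ⊗[R] S₂)
  refine ⟨S₁ ⊗[R] S₂, inferInstance, inferInstance, hEt, RingHom.ker θ.toRingHom, hprime, hq₃,
    bijective_of_algHom p _ θ hq₃, Algebra.TensorProduct.includeLeft,
    Algebra.TensorProduct.includeRight, ?_, ?_⟩
  · rw [← ker_retr p S₁ q₁ hq₁ hq₁κ]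
    change RingHom.ker ((θ.comp Algebra.TensorProduct.includeLeft).toRingHom) = _
    rw [hθ₁]
  · rw [← ker_retr p S₂ q₂ hq₂ hq₂κ]
    change RingHom.ker ((θ.comp Algebra.TensorProduct.includeRight).toRingHom) = _
    rw [hθ₂]

end helpers

/-- Let R be a ring and p a prime of R. Consider pairs (S, q) with S an étale R-algebra and q a prime of
S lying over p such that κ(p) → κ(q) is bijective; a morphism of pairs is an R-algebra map pulling
the second prime back to the first. Then any two pairs admit morphisms of pairs to a common third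
pair. -/
theorem result (R : Type u) [CommRing R]
    (p : Ideal R) [p.IsPrime] (S₁ : Type u) [CommRing S₁] [Algebra R S₁] [Algebra.Etale R S₁] (q₁ : Ideal S₁) [q₁.IsPrime] (hq₁ : p = q₁.comap (algebraMap R S₁))
    (hq₁κ : Function.Bijective (Ideal.ResidueField.map p q₁ (algebraMap R S₁) hq₁))
    (S₂ : Type u) [CommRing S₂] [Algebra R S₂] [Algebra.Etale R S₂] (q₂ : Ideal S₂) [q₂.IsPrime] (hq₂ : p = q₂.comap (algebraMap R S₂))
    (hq₂κ : Function.Bijective (Ideal.ResidueField.map p q₂ (algebraMap R S₂) hq₂)) :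
    ∃ (S₃ : Type u) (_ : CommRing S₃) (_ : Algebra R S₃) (_ : Algebra.Etale R S₃) (q₃ : Ideal S₃)
      (_ : q₃.IsPrime) (hq₃ : p = q₃.comap (algebraMap R S₃)),
      Function.Bijective (Ideal.ResidueField.map p q₃ (algebraMap R S₃) hq₃) ∧
        ∃ (φ₁ : S₁ →ₐ[R] S₃) (φ₂ : S₂ →ₐ[R] S₃),
          q₃.comap φ₁.toRingHom = q₁ ∧ q₃.comap φ₂.toRingHom = q₂ := by
  exact result_aux R p S₁ q₁ hq₁ hq₁κ S₂ q₂ hq₂ hq₂κ

end Groth.Agent.S9468
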