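import Groth.Statements.S9469
import Groth.Agent.S9468
import Mathlib.RingTheory.Unramified.Finite

set_option autoImplicit false
universe u
open Hensel

namespace Groth.Agent.S9469

section helpers

open TensorProduct Groth.Agent.S9468

section
variable {R : Type u} [CommRing R] (p : Ideal R) [p.IsPrime]

/-- Any `R`-algebra map `S → κ(p)` with kernel `q` equals the canonical retraction. -/
theorem eq_retr (S : Type u) [CommRing S] [Algebra R S] (q : Ideal S) [q.IsPrime]
    (hq : p = q.comap (algebraMap R S))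
    (hqκ : Function.Bijective (Ideal.ResidueField.map p q (algebraMap R S) hq))
    (α : S →ₐ[R] p.ResidueField) (hα : RingHom.ker α.toRingHom = q) :
    α = retr p S q hq hqκ := by
  let σ : q.ResidueField →+* p.ResidueField := Ideal.ResidueField.lift q α.toRingHom hα.ge (by
    intro s hs
    simp only [Submonoid.mem_comap, IsUnit.mem_submonoid_iff]
    rw [isUnit_iff_ne_zero]
    intro h
    exact hs (hα ▸ h))
  have hσ : σ.comp (Ideal.ResidueField.map p q (algebraMap R S) hq) = RingHom.id _ := by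
    apply Ideal.ResidueField.ringHom_ext
    ext r
    simp [σ]
  ext s
  change α s = (RingEquiv.ofBijective _ hqκ).symm (algebraMap S q.ResidueField s)
  rw [RingEquiv.eq_symm_apply]
  have h1 : σ (algebraMap S q.ResidueField s) = α s := by simp [σ]
  apply σ.injective
  rw [h1]
  exact RingHom.congr_fun hσ (α s)

end

theorem result_aux (R : Type u) [CommRing R]
    (p : Ideal R) [p.IsPrime] (S₁ : Type u) [CommRing S₁] [Algebra R S₁] [Algebra.Etale R S₁] (q₁ : Ideal S₁) [q₁.IsPrime] (hq₁ : p = q₁.comap (algebraMap R S₁))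
    (hq₁κ : Function.Bijective (Ideal.ResidueField.map p q₁ (algebraMap R S₁) hq₁))
    (S₂ : Type u) [CommRing S₂] [Algebra R S₂] [Algebra.Etale R S₂] (q₂ : Ideal S₂) [q₂.IsPrime] (hq₂ : p = q₂.comap (algebraMap R S₂))
    (hq₂κ : Function.Bijective (Ideal.ResidueField.map p q₂ (algebraMap R S₂) hq₂))
    (φ ψ : S₁ →ₐ[R] S₂) (hφ : q₂.comap φ.toRingHom = q₁) (hψ : q₂.comap ψ.toRingHom = q₁) :
    ∃ (S₃ : Type u) (_ : CommRing S₃) (_ : Algebra R S₃) (_ : Algebra.Etale R S₃) (q₃ : Ideal S₃)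
      (_ : q₃.IsPrime) (hq₃ : p = q₃.comap (algebraMap R S₃)),
      Function.Bijective (Ideal.ResidueField.map p q₃ (algebraMap R S₃) hq₃) ∧
        ∃ χ : S₂ →ₐ[R] S₃, q₃.comap χ.toRingHom = q₂ ∧ χ.comp φ = χ.comp ψ := by
  have : Algebra.FormallyUnramified R S₁ := inferInstance
  obtain ⟨t, ht₁, ht₂⟩ := Algebra.FormallyUnramified.iff_exists_tensorProduct.mp this
  let Φ : S₁ ⊗[R] S₁ →ₐ[R] S₂ := Algebra.TensorProduct.lift φ ψ (fun _ _ => Commute.all _ _)
  let τ : S₂ := Φ t
  have hτ : ∀ s : S₁, (ψ s - φ s) * τ = 0 := by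
    intro s
    have := congrArg Φ (ht₁ s)
    simpa [Φ, τ] using this
  let ρ₁ := retr p S₁ q₁ hq₁ hq₁κ
  let ρ₂ := retr p S₂ q₂ hq₂ hq₂κ
  have hρφ : ρ₂.comp φ = ρ₁ := by
    apply eq_retr
    rw [← hφ, ← ker_retr p S₂ q₂ hq₂ hq₂κ]
    rfl
  have hρψ : ρ₂.comp ψ = ρ₁ := by
    apply eq_retr
    rw [← hψ, ← ker_retr p S₂ q₂ hq₂ hq₂κ]
    rfl
  have hρΦ : ρ₂.comp Φ = ρ₁.comp (Algebra.TensorProduct.lmul' R) := by
    apply Algebra.TensorProduct.ext'
    intro a b
    have h1 : ρ₂ (φ a) = ρ₁ a := AlgHom.congr_fun hρφ a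
    have h2 : ρ₂ (ψ b) = ρ₁ b := AlgHom.congr_fun hρψ b
    simp [Φ, h1, h2]
  have hρτ : ρ₂ τ = 1 := by
    have := AlgHom.congr_fun hρΦ t
    simpa [ht₂, τ] using this
  have hunit : ∀ y : Submonoid.powers τ, IsUnit (ρ₂ (y : S₂)) := by
    rintro ⟨_, n, rfl⟩
    simp [hρτ]
  let θ : Localization.Away τ →ₐ[R] p.ResidueField := IsLocalization.liftAlgHom (M := Submonoid.powers τ) hunit
  have hθ : ∀ s : S₂, θ (algebraMap S₂ (Localization.Away τ) s) = ρ₂ s := by
    intro s
    simp [θ]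
  have hprime : (RingHom.ker θ.toRingHom).IsPrime := RingHom.ker_isPrime _
  have hq₃ : p = (RingHom.ker θ.toRingHom).comap (algebraMap R (Localization.Away τ)) := by
    ext r
    simp only [Ideal.mem_comap, RingHom.mem_ker, AlgHom.toRingHom_eq_coe, RingHom.coe_coe,
      AlgHom.commutes]
    exact Ideal.algebraMap_residueField_eq_zero.symm
  let χ : S₂ →ₐ[R] Localization.Away τ := IsScalarTower.toAlgHom R S₂ (Localization.Away τ)
  refine ⟨Localization.Away τ, inferInstance, inferInstance, inferInstance,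
    RingHom.ker θ.toRingHom, hprime, hq₃, bijective_of_algHom p _ θ hq₃, χ, ?_, ?_⟩
  · rw [← ker_retr p S₂ q₂ hq₂ hq₂κ]
    ext s
    simp only [Ideal.mem_comap, RingHom.mem_ker]
    change θ (algebraMap S₂ (Localization.Away τ) s) = 0 ↔ ρ₂ s = 0
    rw [hθ]
  · ext s
    change algebraMap S₂ (Localization.Away τ) (φ s) = algebraMap S₂ (Localization.Away τ) (ψ s)
    have hu : IsUnit (algebraMap S₂ (Localization.Away τ) τ) :=
      IsLocalization.Away.algebraMap_isUnit τ
    have := congrArg (algebraMap S₂ (Localization.Away τ)) (hτ s)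
    rw [map_mul, map_zero, hu.mul_left_eq_zero, map_sub, sub_eq_zero] at this
    exact this.symm

end helpers

/-- Let R be a ring and p a prime of R. Consider pairs (S, q) with S an étale R-algebra and q a prime of
S lying over p such that κ(p) → κ(q) is bijective; a morphism of pairs is an R-algebra map pulling
the second prime back to the first. Then any two parallel morphisms of pairs φ, ψ : (S₁, q₁) → (S₂,
q₂) are coequalized by a morphism of pairs (S₂, q₂) → (S₃, q₃). -/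
theorem result (R : Type u) [CommRing R]
    (p : Ideal R) [p.IsPrime] (S₁ : Type u) [CommRing S₁] [Algebra R S₁] [Algebra.Etale R S₁] (q₁ : Ideal S₁) [q₁.IsPrime] (hq₁ : p = q₁.comap (algebraMap R S₁))
    (hq₁κ : Function.Bijective (Ideal.ResidueField.map p q₁ (algebraMap R S₁) hq₁))
    (S₂ : Type u) [CommRing S₂] [Algebra R S₂] [Algebra.Etale R S₂] (q₂ : Ideal S₂) [q₂.IsPrime] (hq₂ : p = q₂.comap (algebraMap R S₂))
    (hq₂κ : Function.Bijective (Ideal.ResidueField.map p q₂ (algebraMap R S₂) hq₂))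
    (φ ψ : S₁ →ₐ[R] S₂) (hφ : q₂.comap φ.toRingHom = q₁) (hψ : q₂.comap ψ.toRingHom = q₁) :
    ∃ (S₃ : Type u) (_ : CommRing S₃) (_ : Algebra R S₃) (_ : Algebra.Etale R S₃) (q₃ : Ideal S₃)
      (_ : q₃.IsPrime) (hq₃ : p = q₃.comap (algebraMap R S₃)),
      Function.Bijective (Ideal.ResidueField.map p q₃ (algebraMap R S₃) hq₃) ∧
        ∃ χ : S₂ →ₐ[R] S₃, q₃.comap χ.toRingHom = q₂ ∧ χ.comp φ = χ.comp ψ := by
  exact result_aux R p S₁ q₁ hq₁ hq₁κ S₂ q₂ hq₂ hq₂κ φ ψ hφ hψ

end Groth.Agent.S9469
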