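import Groth.Statements.S9474
import Mathlib
import Groth.Agent.Lib.Helper20.HandColimModel
import Groth.Agent.S12085

set_option autoImplicit false
universe u
open CAlg

namespace Groth.Agent.S9474


open TensorProduct

open TensorProduct in
/-- If R → S is unramified (of finite type with vanishing module of differentials), then there are a
finite type ℤ-algebra R₀, an unramified R₀-algebra S₀, a ring map R₀ → R, and a surjective R-algebra
map from R ⊗_{R₀} S₀ onto S. -/
theorem result (R : Type u) [CommRing R] (S : Type u)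
    [CommRing S] [Algebra R S] [Algebra.Unramified R S] :
    ∃ (R₀ : Type u) (_ : CommRing R₀) (_ : Algebra.FiniteType ℤ R₀) (S₀ : Type u) (_ : CommRing S₀)
      (_ : Algebra R₀ S₀) (_ : Algebra.Unramified R₀ S₀) (_ : Algebra R₀ R)
      (ψ : R ⊗[R₀] S₀ →ₐ[R] S), Function.Surjective ψ := by
  classical
  obtain ⟨n, ⟨Gen⟩⟩ := Algebra.FiniteType.iff_exists_generators.mp
    (inferInstance : Algebra.FiniteType R S)
  obtain ⟨h, h1, h2⟩ :=
    (Groth.Agent.Lib.Helper20.HandColimProps.formallyUnramified_iff_witness Gen).mp inferInstance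
  let rels : Fin n ⊕ (Fin n × Fin n) → MvPolynomial (Fin n) R :=
    Sum.elim h (fun jl => MvPolynomial.pderiv jl.2 (h jl.1) - (if jl.1 = jl.2 then 1 else 0))
  let I' : Ideal (MvPolynomial (Fin n) R) := Ideal.span (Set.range rels)
  have hI' : I' ≤ Gen.ker := by
    rw [Ideal.span_le]
    rintro _ ⟨(j | ⟨j, l⟩), rfl⟩
    · exact h1 j
    · exact h2 j l
  have hfp : Algebra.FinitePresentation R (MvPolynomial (Fin n) R ⧸ I') :=
    Algebra.FinitePresentation.quotient (Submodule.fg_span (Set.finite_range rels))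
  have hsurj : Function.Surjective (MvPolynomial.aeval (R := R)
      (fun j => (Ideal.Quotient.mk I' (MvPolynomial.X j) : MvPolynomial (Fin n) R ⧸ I'))) := by
    intro x
    obtain ⟨p, rfl⟩ := Ideal.Quotient.mk_surjective x
    refine ⟨p, ?_⟩
    have e : MvPolynomial.aeval (R := R)
        (fun j => (Ideal.Quotient.mk I' (MvPolynomial.X j) : MvPolynomial (Fin n) R ⧸ I')) =
        Ideal.Quotient.mkₐ R I' := by
      apply MvPolynomial.algHom_ext
      intro j
      simp
    rw [e]; rfl
  let Gen' : Algebra.Generators R (MvPolynomial (Fin n) R ⧸ I') (Fin n) :=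
    Algebra.Generators.ofSurjective _ hsurj
  have hker' : ∀ p : MvPolynomial (Fin n) R, p ∈ I' → p ∈ Gen'.ker := by
    intro p hp
    rw [Algebra.Generators.ker_eq_ker_aeval_val, RingHom.mem_ker]
    have e : MvPolynomial.aeval (R := R) Gen'.val = Ideal.Quotient.mkₐ R I' := by
      apply MvPolynomial.algHom_ext
      intro j
      simp [Gen', Algebra.Generators.ofSurjective]
    rw [e]
    exact Ideal.Quotient.eq_zero_iff_mem.mpr hp
  have hun' : Algebra.FormallyUnramified R (MvPolynomial (Fin n) R ⧸ I') :=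
    (Groth.Agent.Lib.Helper20.HandColimProps.formallyUnramified_iff_witness Gen').mpr
      ⟨h, fun j => hker' _ (Ideal.subset_span ⟨Sum.inl j, rfl⟩),
        fun j l => hker' _ (Ideal.subset_span ⟨Sum.inr (j, l), rfl⟩)⟩
  obtain ⟨R₀, _, hft, S₀, _, _, hfp₀, hun₀, _, ⟨e⟩⟩ :=
    Groth.Agent.S12085.result R (MvPolynomial (Fin n) R ⧸ I')
  let φ : (MvPolynomial (Fin n) R ⧸ I') →ₐ[R] S :=
    Ideal.Quotient.liftₐ I' (MvPolynomial.aeval Gen.val) (fun x hx => by
      have := hI' hx
      rwa [Algebra.Generators.ker_eq_ker_aeval_val, RingHom.mem_ker] at this)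
  have hφ : Function.Surjective φ := by
    intro s
    obtain ⟨p, rfl⟩ := Gen.aeval_val_surjective s
    exact ⟨Ideal.Quotient.mk I' p, by simp [φ]⟩
  exact ⟨R₀, _, hft, S₀, _, _, ⟨hun₀, inferInstance⟩, _, φ.comp e.toAlgHom,
    hφ.comp e.surjective⟩

end Groth.Agent.S9474
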