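import Groth.Statements.S9494
import Mathlib
import Groth.Agent.Lib.Helper20.PG4

set_option autoImplicit false
universe u
open Pi1

namespace Groth.Agent.S9494



open scoped Pointwise
open Groth.Agent.Lib.Helper20.FQ

theorem continuousSMul_of_stabilizer_isOpen {G X : Type*} [Group G] [TopologicalSpace G]
    [IsTopologicalGroup G] [MulAction G X] [TopologicalSpace X] [DiscreteTopology X]
    (h : ∀ x : X, IsOpen (MulAction.stabilizer G x : Set G)) : ContinuousSMul G X := by
  constructor
  rw [continuous_discrete_rng]
  intro y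
  rw [isOpen_iff_mem_nhds]
  rintro ⟨σ₀, x₀⟩ hσx
  have hopen : IsOpen ((σ₀ • (MulAction.stabilizer G x₀ : Set G)) ×ˢ ({x₀} : Set X)) :=
    ((h x₀).leftCoset σ₀).prod (isOpen_discrete {x₀})
  refine Filter.mem_of_superset (hopen.mem_nhds ⟨⟨1, one_mem _, mul_one σ₀⟩, rfl⟩) ?_
  rintro ⟨σ, x⟩ ⟨⟨s, hs, hσ⟩, hx⟩
  have hx' : x = x₀ := hx
  have hσ' : σ₀ * s = σ := hσ
  have hs' : s • x₀ = x₀ := hs
  show σ • x = y
  rw [hx', ← hσ', mul_smul, hs']
  exact hσx

/-- the action of the Galois group on the integral closure. -/
@[reducible]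
noncomputable def galAct (A K L : Type u) [CommRing A] [Field K] [Field L] [Algebra A K]
    [Algebra K L] [Algebra A L] [IsScalarTower A K L] :
    MulSemiringAction (L ≃ₐ[K] L) (integralClosure A L) where
  smul σ x := ⟨σ x.1, x.2.map σ⟩
  one_smul x := Subtype.ext rfl
  mul_smul σ τ x := Subtype.ext rfl
  smul_zero σ := Subtype.ext (map_zero σ)
  smul_add σ x y := Subtype.ext (map_add σ _ _)
  smul_one σ := Subtype.ext (map_one σ)
  smul_mul σ x y := Subtype.ext (map_mul σ _ _)

/-- Let A be an integrally closed domain with fraction field K, L/K a (possibly infinite) Galois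
extension with group G = Gal(L/K), B the integral closure of A in L and q a prime of B. Let I ⊆ G be
the inertia group of q: the automorphisms σ with σ(b) - b ∈ q for every b ∈ B. Then the localization
of the ring of invariants B^I = B ∩ L^I at the prime q ∩ B^I is an ind-etale A-algebra, i.e. a
filtered colimit of etale A-algebras. -/
theorem result (A K L : Type u) [CommRing A] [IsDomain A] [IsIntegrallyClosed A]
    [Field K] [Field L] [Algebra A K] [IsFractionRing A K] [Algebra K L] [Algebra A L] [IsScalarTower A K L]
    [IsGalois K L] (q : Ideal (integralClosure A L)) [q.IsPrime]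
    (I : Subgroup (L ≃ₐ[K] L))
    (hI : ∀ σ : L ≃ₐ[K] L, σ ∈ I ↔ ∀ b : integralClosure A L, ∃ c ∈ q, (c : L) = σ b - b) :
    EtPBC.IsIndEtale A (Localization.AtPrime
      (q.comap (Subalgebra.inclusion
        (inf_le_left : integralClosure A L ⊓ (IntermediateField.fixedField I).toSubalgebra.restrictScalars A ≤
          integralClosure A L)))) := by

  letI : MulSemiringAction (L ≃ₐ[K] L) (integralClosure A L) := galAct A K L
  have hact : ∀ (σ : L ≃ₐ[K] L) (b : integralClosure A L), ((σ • b : integralClosure A L) : L) = σ b :=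
    fun _ _ => rfl
  haveI : SMulCommClass (L ≃ₐ[K] L) A (integralClosure A L) := ⟨fun σ a x => by
    apply Subtype.ext
    show σ (a • (x : L)) = a • σ (x : L)
    exact map_smul (σ.restrictScalars A) a (x : L)⟩
  letI : TopologicalSpace (integralClosure A L) := ⊥
  haveI : DiscreteTopology (integralClosure A L) := ⟨rfl⟩
  haveI : ContinuousSMul (L ≃ₐ[K] L) (integralClosure A L) := by
    apply continuousSMul_of_stabilizer_isOpen
    intro x
    have h1 := stabilizer_isOpen_of_isIntegral (K := K) (L := L) (x : L)
    have h2 : (MulAction.stabilizer (L ≃ₐ[K] L) x : Set (L ≃ₐ[K] L)) =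
        (MulAction.stabilizer (L ≃ₐ[K] L) (x : L) : Set (L ≃ₐ[K] L)) := by
      ext σ
      constructor
      · intro h
        exact congrArg Subtype.val (show σ • x = x from h)
      · intro h
        exact Subtype.ext (show σ (x : L) = x from h)
    rw [h2]
    exact h1
  haveI : Algebra.IsInvariant A (integralClosure A L) (L ≃ₐ[K] L) := ⟨fun b hb => by
    have h1 : (b : L) ∈ Set.range (algebraMap K L) :=
      (InfiniteGalois.mem_range_algebraMap_iff_fixed (b : L)).mpr (fun σ =>
        congrArg Subtype.val (hb σ))
    obtain ⟨k, hk⟩ := h1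
    have h2 : IsIntegral A k := by
      have h3 : IsIntegral A (b : L) := b.2
      rw [← hk] at h3
      exact (isIntegral_algebraMap_iff (FaithfulSMul.algebraMap_injective K L)).mp h3
    obtain ⟨a, rfl⟩ := IsIntegrallyClosed.algebraMap_eq_of_integral h2
    refine ⟨a, Subtype.ext ?_⟩
    show algebraMap A L a = b
    rw [IsScalarTower.algebraMap_apply A K L, hk]⟩
  have hinj : Function.Injective (algebraMap A (integralClosure A L)) := by
    intro a a' h
    have h1 : algebraMap A L a = algebraMap A L a' := congrArg Subtype.val h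
    rw [IsScalarTower.algebraMap_apply A K L, IsScalarTower.algebraMap_apply A K L] at h1
    exact IsFractionRing.injective A K ((algebraMap K L).injective h1)
  have hIeq : ∀ σ : L ≃ₐ[K] L, σ ∈ q.inertia (L ≃ₐ[K] L) ↔ σ ∈ I := by
    intro σ
    rw [hI, AddSubgroup.mem_inertia]
    constructor
    · intro h b
      exact ⟨σ • b - b, h b, rfl⟩
    · intro h b
      obtain ⟨c, hc, hcb⟩ := h b
      have : σ • b - b = c := Subtype.ext hcb.symm
      rw [this]
      exact hc
  refine isIndEtale_inertia_invariants (G := L ≃ₐ[K] L) hinj q _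
    (Subalgebra.inclusion (inf_le_left : integralClosure A L ⊓
      (IntermediateField.fixedField I).toSubalgebra.restrictScalars A ≤ integralClosure A L))
    (Subalgebra.inclusion_injective _) ?_
  intro b
  constructor
  · rintro ⟨c, rfl⟩ σ hσ
    have hc : (c : L) ∈ IntermediateField.fixedField I := c.2.2
    apply Subtype.ext
    show σ (c : L) = c
    exact hc ⟨σ, (hIeq σ).mp hσ⟩
  · intro h
    have hb : (b : L) ∈ integralClosure A L ⊓
        (IntermediateField.fixedField I).toSubalgebra.restrictScalars A := by
      refine ⟨b.2, ?_⟩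
      show (b : L) ∈ IntermediateField.fixedField I
      rintro ⟨σ, hσ⟩
      exact congrArg Subtype.val (h σ ((hIeq σ).mpr hσ))
    exact ⟨⟨(b : L), hb⟩, Subtype.ext rfl⟩

end Groth.Agent.S9494
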