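import Groth.Statements.S9495
-- import your own Groth.Agent.* helpers here

set_option autoImplicit false
universe u
open SchMor

namespace Groth.Agent.S9495

section helpers

open AlgebraicGeometry CategoryTheory

theorem spec_case {X : Scheme.{u}} {R : CommRingCat.{u}} (f : X ⟶ Spec R) [QuasiCompact f]
    (H : StableUnderSpecialization (Set.range f)) : IsClosed (Set.range f) := by
  obtain ⟨A, g, hg⟩ := compactSpace_iff_exists.mp (QuasiCompact.compactSpace_of_compactSpace f)
  have hr : Set.range (g ≫ f) = Set.range f := by
    simp [Set.range_comp, hg.range_eq]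
  obtain ⟨φ, hφ⟩ := Spec.homEquiv.symm.surjective (g ≫ f)
  rw [← hr, ← hφ] at H ⊢
  exact PrimeSpectrum.isClosed_range_of_stableUnderSpecialization φ.hom H

theorem affine_case {X Y : Scheme.{u}} [IsAffine Y] (f : X ⟶ Y) [QuasiCompact f]
    (H : StableUnderSpecialization (Set.range f)) : IsClosed (Set.range f) := by
  let e := Y.isoSpec.hom.homeomorph
  have hr : Set.range (f ≫ Y.isoSpec.hom) = e '' Set.range f := by
    rw [← Set.range_comp]; rfl
  have h1 : IsClosed (Set.range (f ≫ Y.isoSpec.hom)) := by
    apply spec_case
    rw [hr]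
    rintro x y hxy ⟨t, ht, rfl⟩
    refine ⟨e.symm y, H ?_ ht, by simp⟩
    have := hxy.map e.symm.continuous
    simpa using this
  rw [hr] at h1
  exact (e.isClosed_image).mp h1

end helpers

open AlgebraicGeometry in
open CategoryTheory in
/-- For a quasi-compact morphism of schemes f : X → S, the image f(X) is closed in S if and only if it
is stable under specialization. -/
theorem result
    {X S : Scheme.{u}} (f : X ⟶ S) [QuasiCompact f] :
    IsClosed (Set.range f) ↔ StableUnderSpecialization (Set.range f) := by
  refine ⟨fun h => h.stableUnderSpecialization, fun H => ?_⟩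
  have hU : TopologicalSpace.IsOpenCover (fun U : S.affineOpens => U.1) := iSup_affineOpens_eq_top S
  rw [hU.isClosed_iff_coe_preimage]
  intro U
  have : IsAffine U.1.toScheme := U.2
  have hr : Set.range (f ∣_ U.1) = (Subtype.val ⁻¹' Set.range f : Set U.1) := by
    ext x
    constructor
    · rintro ⟨a, rfl⟩
      exact ⟨a.1, (morphismRestrict_base_coe f U.1 a).symm⟩
    · rintro ⟨a, ha⟩
      have hax : a ∈ f ⁻¹ᵁ U.1 := by
        change f a ∈ U.1
        rw [ha]; exact x.2
      exact ⟨⟨a, hax⟩, Subtype.ext ((morphismRestrict_base_coe f U.1 ⟨a, hax⟩).trans ha)⟩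
  have h2 : IsClosed (Set.range (f ∣_ U.1)) := by
    apply affine_case
    rw [hr]
    intro x y hxy hx
    exact H (hxy.map continuous_subtype_val) hx
  rw [hr] at h2
  exact h2

end Groth.Agent.S9495
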