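import Groth.Statements.S9500
import Mathlib.Algebra.Category.Ring.Epi
import Mathlib.LinearAlgebra.Basis.VectorSpace
import Mathlib.AlgebraicGeometry.Morphisms.UniversallyInjective

set_option autoImplicit false
universe u
open SchMor

namespace Groth.Agent.S9500

section helpers

open AlgebraicGeometry CategoryTheory Limits TensorProduct

/-- An epimorphic nontrivial algebra over a field is trivial. -/
theorem surjective_algebraMap_of_isEpi (K A : Type*) [Field K] [CommRing A] [Algebra K A]
    [Nontrivial A] [Algebra.IsEpi K A] : Function.Surjective (algebraMap K A) := by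
  have hinj : LinearMap.ker (Algebra.linearMap K A) = ⊥ := by
    rw [LinearMap.ker_eq_bot]
    exact (algebraMap K A).injective
  obtain ⟨φ, hφ⟩ := (Algebra.linearMap K A).exists_leftInverse_of_injective hinj
  have hφ1 : φ 1 = 1 := by
    have := LinearMap.congr_fun hφ 1
    simpa using this
  let ψ : A ⊗[K] A →ₗ[K] A := TensorProduct.lift ((LinearMap.lsmul K A).comp φ)
  intro a
  have h := (Algebra.isEpi_iff_forall_one_tmul_eq K A).mp inferInstance a
  have h2 := congrArg ψ h
  simp only [ψ, TensorProduct.lift.tmul, LinearMap.comp_apply, LinearMap.lsmul_apply, hφ1,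
    one_smul] at h2
  exact ⟨φ a, by rw [Algebra.algebraMap_eq_smul_one, ← h2]⟩

theorem isIso_of_epi_of_field {K : Type u} [Field K] {B : CommRingCat.{u}} [Nontrivial B]
    (φ : CommRingCat.of K ⟶ B) [Epi φ] : IsIso φ := by
  algebraize [φ.hom]
  have hφ : φ = CommRingCat.ofHom (algebraMap K B) := rfl
  have : Algebra.IsEpi K B := CommRingCat.epi_iff_epi.mp (hφ ▸ inferInstance)
  rw [ConcreteCategory.isIso_iff_bijective]
  exact ⟨(algebraMap K B).injective, surjective_algebraMap_of_isEpi K B⟩

/-- A monomorphism from a nonempty scheme to the spectrum of a field is an isomorphism. -/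
theorem isIso_of_mono_of_field {K : Type u} [Field K] {Z : Scheme.{u}} [Nonempty Z]
    (f : Z ⟶ Spec (CommRingCat.of K)) [Mono f] : IsIso f := by
  have hinj : Function.Injective f := f.injective
  have : Subsingleton Z := hinj.subsingleton
  have : Finite Z := Finite.of_subsingleton
  have : DiscreteTopology Z := inferInstance
  have : IsAffine Z := inferInstance
  let g : Spec Γ(Z, ⊤) ⟶ Spec (CommRingCat.of K) := Z.isoSpec.inv ≫ f
  have hg : Mono g := mono_comp _ _
  obtain ⟨φ, hφ⟩ : ∃ φ : CommRingCat.of K ⟶ Γ(Z, ⊤), Spec.map φ = g := ⟨Spec.preimage g, Spec.map_preimage g⟩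
  have : Epi φ := by
    constructor
    intro C a b hab
    apply Spec.map_injective
    have : Mono (Spec.map φ) := hφ ▸ hg
    rw [← cancel_mono (Spec.map φ), ← Spec.map_comp, ← Spec.map_comp, hab]
  have : Nontrivial Γ(Z, ⊤) := by
    by_contra h
    rw [not_nontrivial_iff_subsingleton] at h
    have : IsEmpty (Spec Γ(Z, ⊤)) := inferInstanceAs (IsEmpty (PrimeSpectrum Γ(Z, ⊤)))
    exact this.false (Z.isoSpec.hom (Classical.arbitrary Z))
  have : IsIso φ := isIso_of_epi_of_field φ
  have : IsIso g := hφ ▸ inferInstance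
  have hf : f = Z.isoSpec.hom ≫ g := by simp [g]
  rw [hf]
  infer_instance

set_option backward.isDefEq.respectTransparency false in
theorem result_aux
    {ι : Type u} (k : ι → Type u) [∀ i, Field (k i)]
    {Y : Scheme.{u}} (f : Y ⟶ ∐ fun i => Spec (CommRingCat.of (k i))) [Mono f] :
    ∃ (J : Set ι) (e : Y ≅ ∐ fun j : J => Spec (CommRingCat.of (k j.1))),
      e.hom ≫ Sigma.desc (fun j : J => Sigma.ι (fun i => Spec (CommRingCat.of (k i))) j.1) = f := by
  classical
  let F : ι → Scheme.{u} := fun i => Spec (CommRingCat.of (k i))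
  let J : Set ι := {i | Nonempty ↑(pullback f (Sigma.ι F i))}
  have hne : ∀ j : J, Nonempty ↑(pullback f (Sigma.ι F j.1)) := fun j => j.2
  have hiso : ∀ j : J, IsIso (pullback.snd f (Sigma.ι F j.1)) := fun j => by
    have := hne j
    exact isIso_of_mono_of_field (K := k j.1) (pullback.snd f (Sigma.ι F j.1))
  let α : ∀ j : J, F j.1 ⟶ Y := fun j => inv (pullback.snd f (Sigma.ι F j.1)) ≫
    pullback.fst f (Sigma.ι F j.1)
  have hαf : ∀ j : J, α j ≫ f = Sigma.ι F j.1 := fun j => by
    simp only [α, Category.assoc, pullback.condition, IsIso.inv_hom_id_assoc]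
  have hαoi : ∀ j : J, IsOpenImmersion (α j) := fun j => by
    dsimp only [α]; infer_instance
  have hdisj : Pairwise (Function.onFun Disjoint (fun j : J => Set.range (α j))) := by
    intro j j' hjj'
    rw [Function.onFun, Set.disjoint_iff_forall_ne]
    rintro _ ⟨a, rfl⟩ _ ⟨b, rfl⟩ hab
    have h1 : Sigma.ι F j.1 a = Sigma.ι F j'.1 b := by
      rw [← hαf j, ← hαf j']
      exact congrArg f hab
    have hne' : j.1 ≠ j'.1 := fun h => hjj' (Subtype.ext h)
    have := disjoint_opensRange_sigmaι F j.1 j'.1 hne'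
    rw [← TopologicalSpace.Opens.coe_disjoint, Set.disjoint_iff_forall_ne] at this
    exact this ⟨a, rfl⟩ ⟨b, rfl⟩ h1
  have hoi : IsOpenImmersion (Sigma.desc α) := isOpenImmersion_sigmaDesc _ α hdisj
  have hsurj : (Sigma.desc α).opensRange = ⊤ := by
    rw [eq_top_iff]
    rintro y -
    obtain ⟨⟨i, a⟩, h⟩ := (sigmaMk F).surjective (f y)
    rw [sigmaMk_mk] at h
    obtain ⟨p, hp1, hp2⟩ := Scheme.Pullback.exists_preimage_pullback (f := f) (g := Sigma.ι F i) y a h.symm
    have hi : i ∈ J := ⟨p⟩
    refine ⟨Sigma.ι (fun j : J => F j.1) ⟨i, hi⟩ a, ?_⟩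
    rw [← Scheme.Hom.comp_apply, Sigma.ι_desc]
    have hiso' := hiso ⟨i, hi⟩
    have h3 : inv (pullback.snd f (Sigma.ι F i)) a = p := by
      rw [← hp2, ← Scheme.Hom.comp_apply, IsIso.hom_inv_id]
      rfl
    change pullback.fst f (Sigma.ι F i) (inv (pullback.snd f (Sigma.ι F i)) a) = y
    rw [h3, hp1]
  have hgiso : IsIso (Sigma.desc α) := isIso_of_isOpenImmersion_of_opensRange_eq_top _ hsurj
  refine ⟨J, (asIso (Sigma.desc α)).symm, ?_⟩
  change inv (Sigma.desc α) ≫ _ = f
  rw [IsIso.inv_comp_eq]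
  refine Sigma.hom_ext _ _ fun j => ?_
  rw [Sigma.ι_desc, Sigma.ι_desc_assoc, hαf j]

end helpers

open AlgebraicGeometry in
open CategoryTheory Limits in
/-- Let (k_i)_{i ∈ ι} be a family of fields, X = ∐_i Spec(k_i) the disjoint union, and f : Y → X a
monomorphism of schemes. Then there are a subset J of ι and an isomorphism Y ≅ ∐_{j ∈ J} Spec(k_j)
over X, where ∐_{j ∈ J} Spec(k_j) maps to X by the coproduct inclusions. -/
theorem result
    {ι : Type u} (k : ι → Type u) [∀ i, Field (k i)]
    {Y : Scheme.{u}} (f : Y ⟶ ∐ fun i => Spec (CommRingCat.of (k i))) [Mono f] :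
    ∃ (J : Set ι) (e : Y ≅ ∐ fun j : J => Spec (CommRingCat.of (k j.1))),
      e.hom ≫ Sigma.desc (fun j : J => Sigma.ι (fun i => Spec (CommRingCat.of (k i))) j.1) = f := by
  exact result_aux k f

end Groth.Agent.S9500
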