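import Groth.Statements.S9502
import Mathlib

set_option autoImplicit false
universe u
open SchMor

namespace Groth.Agent.S9502


open AlgebraicGeometry
open CategoryTheory

open AlgebraicGeometry in
open CategoryTheory in
/-- Let f : X → Y be a morphism of schemes such that (1) the underlying continuous map of f is a
homeomorphism onto a closed subset of Y and (2) the map of sheaves of rings O_Y → f_*O_X is
surjective (locally surjective on sections). Then f is a closed immersion in the sense of locally
ringed spaces: (1) and (2) hold and (3) the kernel of O_Y → f_*O_X is locally generated by sections,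
i.e. around every point of Y there are sections of O_Y killed in f_*O_X whose germs generate the
kernel of the stalk map O_{Y,y} → (f_*O_X)_y at every nearby point y. (For a morphism of schemes (1)
and (2) alone already give surjective stalk maps; the content of this row is condition (3).) -/
theorem result
    {X Y : Scheme.{u}} (f : X ⟶ Y) (h1 : Topology.IsClosedEmbedding f)
    (h2 : TopCat.Presheaf.IsLocallySurjective f.c) :
    LRSImm.IsClosedImmersion f.toLRSHom := by

  refine ⟨h1, h2, ?_⟩
  intro y
  obtain ⟨_, ⟨U, hU, rfl⟩, hyU, -⟩ :=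
    Y.isBasis_affineOpens.exists_subset_of_mem_open (Set.mem_univ y) isOpen_univ
  have hU' : IsAffineOpen U := hU
  let I : Ideal Γ(Y, U) := RingHom.ker (f.app U).hom
  have hcpt : IsCompact (f ⁻¹ᵁ U : Set X) := h1.isCompact_preimage hU'.isCompact
  refine ⟨U, hyU, I, fun j => (j : Γ(Y, U)), fun j => j.2, ?_⟩
  intro y' hy'
  let φ : Y.presheaf.stalk y' →+* (f.base _* X.presheaf).stalk y' :=
    ((TopCat.Presheaf.stalkFunctor CommRingCat y').map f.c).hom
  have hφ : ∀ (V : Y.Opens) (hV : y' ∈ V) (s : Γ(Y, V)),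
      φ (Y.presheaf.germ V y' hV s) = (f.base _* X.presheaf).germ V y' hV (f.c.app (Opposite.op V) s) :=
    fun V hV s => TopCat.Presheaf.stalkFunctor_map_germ_apply V y' hV f.c s
  show Ideal.span (Set.range fun j : I => Y.presheaf.germ U y' hy' (j : Γ(Y, U))) = RingHom.ker φ
  apply le_antisymm
  · rw [Ideal.span_le]
    rintro _ ⟨j, rfl⟩
    rw [SetLike.mem_coe, RingHom.mem_ker, hφ]
    have : f.c.app (Opposite.op U) (j : Γ(Y, U)) = 0 := j.2
    rw [this, map_zero]
  · intro a ha
    rw [RingHom.mem_ker] at ha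
    letI := Y.presheaf.algebra_section_stalk (U := U) ⟨y', hy'⟩
    have hloc := hU'.isLocalization_stalk ⟨y', hy'⟩
    obtain ⟨⟨t, g⟩, hag⟩ :=
      IsLocalization.surj (hU'.primeIdealOf ⟨y', hy'⟩).asIdeal.primeCompl a
    have hgu : IsUnit (Y.presheaf.germ U y' hy' g.1) :=
      IsLocalization.map_units (Y.presheaf.stalk y') g
    have hag' : a * Y.presheaf.germ U y' hy' g.1 = Y.presheaf.germ U y' hy' t := hag
    have ht : φ (Y.presheaf.germ U y' hy' t) = 0 := by
      rw [← hag', map_mul, ha, zero_mul]
    rw [hφ] at ht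
    obtain ⟨W, hyW, iU, iV, e⟩ := TopCat.Presheaf.germ_eq _ y' hy' hy' _ 0
      (ht.trans (map_zero _).symm)
    rw [map_zero] at e
    obtain ⟨g', hg'W, hyg'⟩ := hU'.exists_basicOpen_le ⟨y', hyW⟩ hy'
    have hle : X.basicOpen (f.app U g') ≤ f ⁻¹ᵁ W := by
      rw [← Scheme.preimage_basicOpen]
      exact f.preimage_mono hg'W
    have e' : X.presheaf.map (homOfLE (show f ⁻¹ᵁ W ≤ f ⁻¹ᵁ U from f.preimage_mono iU.le)).op
        (f.app U t) = 0 := e
    have hres : X.presheaf.map (homOfLE (X.basicOpen_le (f.app U g'))).op (f.app U t) = 0 := by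
      have : X.presheaf.map (homOfLE (X.basicOpen_le (f.app U g'))).op (f.app U t) =
          X.presheaf.map (homOfLE hle).op (X.presheaf.map
            (homOfLE (show f ⁻¹ᵁ W ≤ f ⁻¹ᵁ U from f.preimage_mono iU.le)).op (f.app U t)) := by
        have hcomp : (homOfLE (X.basicOpen_le (f.app U g'))).op =
            (homOfLE (show f ⁻¹ᵁ W ≤ f ⁻¹ᵁ U from f.preimage_mono iU.le)).op ≫
              (homOfLE hle).op := rfl
        rw [hcomp, Functor.map_comp, ConcreteCategory.comp_apply]
      rw [this, e', map_zero]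
    obtain ⟨n, hn⟩ := exists_pow_mul_eq_zero_of_res_basicOpen_eq_zero_of_isCompact X
      (U := f ⁻¹ᵁ U) hcpt (f.app U t) (f.app U g') hres
    have hmem : g' ^ n * t ∈ I := by
      rw [RingHom.mem_ker]
      show f.app U (g' ^ n * t) = 0
      rw [map_mul, map_pow]; exact hn
    have hg'u : IsUnit (Y.presheaf.germ U y' hy' g') :=
      (RingedSpace.mem_basicOpen _ g' y' hy').mp hyg'
    have h1 : Y.presheaf.germ U y' hy' (g' ^ n * t) ∈
        Ideal.span (Set.range fun j : I => Y.presheaf.germ U y' hy' (j : Γ(Y, U))) :=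
      Ideal.subset_span ⟨⟨g' ^ n * t, hmem⟩, rfl⟩
    rw [map_mul, map_pow, ← hag'] at h1
    have h2 : (Y.presheaf.germ U y' hy' g') ^ n * (a * Y.presheaf.germ U y' hy' g.1) =
        ((Y.presheaf.germ U y' hy' g') ^ n * Y.presheaf.germ U y' hy' g.1) * a := by ring
    rw [h2] at h1
    exact (Ideal.unit_mul_mem_iff_mem _ ((hg'u.pow n).mul hgu)).mp h1

end Groth.Agent.S9502
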