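import Groth.Statements.S9508
-- import your own Groth.Agent.* helpers here

set_option autoImplicit false
universe u
open SchMor

namespace Groth.Agent.S9508

section helpers

open AlgebraicGeometry CategoryTheory

end helpers

open AlgebraicGeometry in
open CategoryTheory in
/-- (1) ⇔ (2): A morphism of schemes f : X → S is quasi-separated if and only if, whenever two affine
opens U and V of X both lie in the preimage f⁻¹(W) of one affine open W of S, their intersection U ∩
V is quasi-compact (equivalently, is covered by finitely many affine opens). -/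
theorem result
    {X S : Scheme.{u}} (f : X ⟶ S) :
    QuasiSeparated f ↔
      ∀ (U V : X.affineOpens) (W : S.affineOpens),
        (U : X.Opens) ≤ f ⁻¹ᵁ (W : S.Opens) → (V : X.Opens) ≤ f ⁻¹ᵁ (W : S.Opens) →
          IsCompact ((U : Set X) ∩ (V : Set X)) := by
  constructor
  · intro hf U V W hU hV
    have := f.isQuasiSeparated_preimage W.2.isQuasiSeparated
    exact this U V hU U.1.2 U.2.isCompact hV V.1.2 V.2.isCompact
  · intro H
    refine HasAffineProperty.of_iSup_eq_top (P := @QuasiSeparated) (fun W : S.affineOpens => W)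
      (iSup_affineOpens_eq_top S) fun W => ?_
    change QuasiSeparatedSpace ↥(f ⁻¹ᵁ W.1).toScheme
    rw [quasiSeparatedSpace_iff_forall_affineOpens]
    intro U' V'
    let ι := (f ⁻¹ᵁ W.1).ι
    have hU : IsAffineOpen (ι ''ᵁ U'.1) := U'.2.image_of_isOpenImmersion ι
    have hV : IsAffineOpen (ι ''ᵁ V'.1) := V'.2.image_of_isOpenImmersion ι
    have hle : ∀ T : (f ⁻¹ᵁ W.1).toScheme.Opens, ι ''ᵁ T ≤ f ⁻¹ᵁ W.1 := by
      intro T
      rintro _ ⟨t, -, rfl⟩
      exact t.2
    have := H ⟨_, hU⟩ ⟨_, hV⟩ W (hle _) (hle _)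
    have h2 : (ι ''ᵁ U'.1 : Set X) ∩ (ι ''ᵁ V'.1 : Set X) = ι '' ((U'.1 : Set _) ∩ (V'.1 : Set _)) := by
      rw [Set.image_inter ι.isOpenEmbedding.injective]
      rfl
    change IsCompact ((ι ''ᵁ U'.1 : Set X) ∩ (ι ''ᵁ V'.1 : Set X)) at this
    rw [h2] at this
    exact ι.isOpenEmbedding.isEmbedding.isCompact_iff.mpr this

end Groth.Agent.S9508
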