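import Groth.Statements.S9509
-- import your own Groth.Agent.* helpers here

set_option autoImplicit false
universe u
open SchMor

namespace Groth.Agent.S9509

section helpers

open AlgebraicGeometry CategoryTheory

end helpers

open AlgebraicGeometry in
open CategoryTheory in
/-- (3) ⇒ (1): Let f : X → S be a morphism of schemes. Suppose S is covered by affine opens W_i, each
preimage f⁻¹(W_i) is covered by affine opens V_{i,j}, and any two V_{i,j}, V_{i,j'} with the same
index i meet in a quasi-compact open (one covered by finitely many affine opens). Then f is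
quasi-separated. -/
theorem result
    {X S : Scheme.{u}} (f : X ⟶ S) {ι : Type u} (W : ι → S.affineOpens)
    (hW : ⨆ i, (W i : S.Opens) = ⊤) {κ : ι → Type u} (V : ∀ i, κ i → X.affineOpens)
    (hV : ∀ i, ⨆ j, (V i j : X.Opens) = f ⁻¹ᵁ (W i : S.Opens))
    (hVV : ∀ i (j j' : κ i), IsCompact ((V i j : Set X) ∩ (V i j' : Set X))) :
    QuasiSeparated f := by
  refine HasAffineProperty.of_iSup_eq_top (P := @QuasiSeparated) W hW fun i => ?_
  change QuasiSeparatedSpace ↥(f ⁻¹ᵁ (W i).1).toScheme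
  let j₀ := (f ⁻¹ᵁ (W i).1).ι
  have hle : ∀ j, (V i j).1 ≤ f ⁻¹ᵁ (W i).1 := fun j => (hV i) ▸ le_iSup (fun j => (V i j).1) j
  refine Scheme.quasiSeparatedSpace_of_isOpenCover (fun j : κ i => j₀ ⁻¹ᵁ (V i j).1) ?_ ?_ ?_
  · change ⨆ j, j₀ ⁻¹ᵁ (V i j).1 = ⊤
    rw [← Scheme.Hom.preimage_iSup, hV i]
    simp [j₀]
  · intro j
    apply (V i j).2.preimage_of_isOpenImmersion
    simpa [j₀] using hle j
  · intro j j'
    have h := hVV i j j'
    have h2 : ((V i j).1 : Set X) ∩ ((V i j').1 : Set X) =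
        j₀ '' ((j₀ ⁻¹ᵁ (V i j).1 : Set _) ∩ (j₀ ⁻¹ᵁ (V i j').1 : Set _)) := by
      ext x
      constructor
      · rintro ⟨h1, h2⟩
        exact ⟨⟨x, hle j h1⟩, ⟨h1, h2⟩, rfl⟩
      · rintro ⟨t, ⟨h1, h2⟩, rfl⟩
        exact ⟨h1, h2⟩
    rw [h2] at h
    exact j₀.isOpenEmbedding.isEmbedding.isCompact_iff.mpr h

end Groth.Agent.S9509
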