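import Groth.Statements.S9511
import Mathlib.AlgebraicGeometry.Limits

set_option autoImplicit false
universe u
open LRSImm

namespace Groth.Agent.S9511

section helpers

open AlgebraicGeometry CategoryTheory TopologicalSpace Opposite Limits

theorem isAffine_of_isCompl (Y : Scheme.{u}) (U V : Y.Opens) (hUV : IsCompl U V)
    (hU : IsAffineOpen U) (hV : IsAffineOpen V) : IsAffine Y := by
  have hc : IsCompl U.ι.opensRange V.ι.opensRange := by
    simpa using hUV
  obtain ⟨hcolim⟩ := nonempty_isColimit_binaryCofanMk_of_isCompl U.ι V.ι hc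
  have : IsAffine U.toScheme := hU
  have : IsAffine V.toScheme := hV
  let e : Y ≅ U.toScheme ⨿ V.toScheme :=
    hcolim.coconePointUniqueUpToIso (colimit.isColimit (pair U.toScheme V.toScheme))
  exact IsAffine.of_isIso e.hom

end helpers

open AlgebraicGeometry in
open CategoryTheory TopologicalSpace in
/-- Let X be a locally ringed space and U, V ⊆ X open with X = U ⊔ V (they cover X and are disjoint),
such that the open subspaces X|_U and X|_V are affine schemes. Then X is an affine scheme: the
canonical morphism X → Spec Γ(X, O_X) is an isomorphism of locally ringed spaces. -/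
theorem result
    (X : LocallyRingedSpace.{u}) (U V : Opens X.toTopCat) (hUV : IsCompl U V)
    (A B : CommRingCat.{u})
    (eU : X.restrict U.isOpenEmbedding ≅ (Spec A).toLocallyRingedSpace)
    (eV : X.restrict V.isOpenEmbedding ≅ (Spec B).toLocallyRingedSpace) :
    IsIso X.toΓSpec := by
  have hla : ∀ x : X, ∃ (W : OpenNhds x) (R : CommRingCat),
        Nonempty (X.restrict W.isOpenEmbedding ≅ Spec.toLocallyRingedSpace.obj (Opposite.op R)) := by
    intro x
    have hx : x ∈ U ⊔ V := by rw [hUV.sup_eq_top]; trivial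
    rcases hx with hx | hx
    · exact ⟨⟨U, hx⟩, A, ⟨eU⟩⟩
    · exact ⟨⟨V, hx⟩, B, ⟨eV⟩⟩
  let Y : Scheme.{u} := ⟨X, hla⟩
  let U' : Y.Opens := U
  let V' : Y.Opens := V
  have hU : IsAffineOpen U' := by
    let f : U'.toScheme ⟶ Spec A := ⟨eU.hom⟩
    let g : Spec A ⟶ U'.toScheme := ⟨eU.inv⟩
    have : IsIso f := ⟨g, Scheme.Hom.ext' eU.hom_inv_id, Scheme.Hom.ext' eU.inv_hom_id⟩
    exact IsAffine.of_isIso f
  have hV : IsAffineOpen V' := by
    let f : V'.toScheme ⟶ Spec B := ⟨eV.hom⟩
    let g : Spec B ⟶ V'.toScheme := ⟨eV.inv⟩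
    have : IsIso f := ⟨g, Scheme.Hom.ext' eV.hom_inv_id, Scheme.Hom.ext' eV.inv_hom_id⟩
    exact IsAffine.of_isIso f
  have hY : IsAffine Y := isAffine_of_isCompl Y U' V' hUV hU hV
  have h1 : IsIso Y.toSpecΓ := hY.affine
  have h2 : IsIso (Scheme.forgetToLocallyRingedSpace.map Y.toSpecΓ) := inferInstance
  exact h2

end Groth.Agent.S9511
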