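import Groth.Statements.S9512
-- import your own Groth.Agent.* helpers here

set_option autoImplicit false
universe u
open LRSImm

namespace Groth.Agent.S9512

section helpers

open AlgebraicGeometry CategoryTheory Opposite

theorem spec_point (R : CommRingCat.{u}) (p : PrimeSpectrum R) :
    p = PrimeSpectrum.comap
      ((Scheme.ΓSpecIso R).inv ≫ (Spec R).presheaf.germ ⊤ p trivial).hom
      (IsLocalRing.closedPoint ((Spec R).presheaf.stalk p)) := by
  refine PrimeSpectrum.ext (Ideal.ext fun r => ?_)
  rw [← IsLocalization.AtPrime.to_map_mem_maximal_iff ((Spec.structureSheaf R).presheaf.stalk p)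
        p.asIdeal r]
  rfl

end helpers

open AlgebraicGeometry in
open CategoryTheory Opposite in
/-- Let X be a locally ringed space, Y = Spec R an affine scheme and f : X → Y a morphism of locally
ringed spaces. Given a point x of X, the image f(x) is the prime of R obtained as the inverse image
of the maximal ideal of O_{X,x} under the composite R = Γ(Y, O_Y) → Γ(X, O_X) → O_{X,x}. -/
theorem result
    (X : LocallyRingedSpace.{u}) (R : CommRingCat.{u})
    (f : X ⟶ (Spec R).toLocallyRingedSpace) (x : X.toTopCat) :
    f.base x = PrimeSpectrum.comap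
      ((Scheme.ΓSpecIso R).inv ≫ f.c.app (op ⊤) ≫ X.presheaf.germ ⊤ x trivial).hom
      (IsLocalRing.closedPoint (X.presheaf.stalk x)) := by
  have h1 : f.c.app (op ⊤) ≫ X.presheaf.germ ⊤ x trivial =
      (Spec R).presheaf.germ ⊤ (f.base x) trivial ≫ f.stalkMap x :=
    (PresheafedSpace.stalkMap_germ f.1 ⊤ x trivial).symm
  rw [h1, ← Category.assoc, CommRingCat.hom_comp, PrimeSpectrum.comap_comp_apply,
    IsLocalRing.comap_closedPoint]
  exact spec_point R (f.base x)

end Groth.Agent.S9512
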