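import Groth.Statements.S9524
import Mathlib
import Groth.Agent.Lib.Helper17.ExtCohGlobal
import Groth.Agent.Lib.Helper5.FinLocFreeExt
import Groth.Agent.S0485

set_option autoImplicit false
universe u
open CategoryTheory CategoryTheory.Limits AlgebraicGeometry
attribute [local instance] HasDerivedCategory.standard
open Coherent

namespace Groth.Agent.S9524

/-- Let X be a locally Noetherian scheme and F, G coherent O_X-modules. Then the sheaf Hom_{O_X}(F, G)
is coherent. (Hom_{O_X}(F, −) is the right adjoint of F ⊗ −, under its existence binder; the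
tensor-product half of the published statement is not restated here.) -/
theorem result (X : Scheme.{u}) [IsLocallyNoetherian X] (F G : X.Modules)
    (hF : Coh.IsCoh F) (hG : Coh.IsCoh G) [DCoh.HasSheafHom F] :
    Coh.IsCoh ((DCoh.sheafHom F).obj G) := by
  haveI : ModSite.HasSheafHom (O := X.sheaf) F := Groth.Agent.Lib.Helper17.IHom.hasSheafHom F
  haveI : EnoughInjectives (ModSite.Mod X.sheaf) :=
    Groth.Agent.S0485.result (Opens.grothendieckTopology X) X.ringCatSheaf
  haveI : HasInjectiveResolutions (ModSite.Mod X.sheaf) := inferInstance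
  have h := Groth.Agent.Lib.Helper17.ExtCohGlobal.isCoh_extSh F G hF hG 0
  haveI : (ModSite.sheafHom (O := X.sheaf) F).Additive :=
    (ModSite.sheafHomAdj (O := X.sheaf) F).right_adjoint_additive
  haveI : PreservesFiniteLimits (ModSite.sheafHom (O := X.sheaf) F) :=
    ⟨fun _ => (ModSite.sheafHomAdj (O := X.sheaf) F).rightAdjoint_preservesLimits.preservesLimitsOfShape⟩
  have e0 : (ModSite.extSh (O := X.sheaf) F 0).obj G ≅ (ModSite.sheafHom (O := X.sheaf) F).obj G :=
    (Functor.rightDerivedZeroIsoSelf (ModSite.sheafHom (O := X.sheaf) F)).app G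
  exact Groth.Agent.Lib.Helper12.H12Dev.isCoh_of_iso
    ((Groth.Agent.Lib.Helper5.FinLocFreeExt.sheafHomIsoDCoh X F).app G)
    (Groth.Agent.Lib.Helper12.H12Dev.isCoh_of_iso e0 h)

end Groth.Agent.S9524
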