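import Groth.Statements.S9530
-- import your own Groth.Agent.* helpers here

set_option autoImplicit false
universe u
open CategoryTheory CategoryTheory.Limits AlgebraicGeometry Opposite
open Algz

namespace Groth.Agent.S9530

section helpers
variable {A : Type u} [CommRing A] {X : Scheme.{u}} [X.Over (Spec (CommRingCat.of A))]

theorem smulModΓ_naturality {M N : X.Modules} (f : M ⟶ N) (r : Coh.Γtop X) :
    Formal.smulModΓ M r ≫ f = f ≫ Formal.smulModΓ N r := by
  ext U m
  rw [Scheme.Modules.Hom.comp_app, Scheme.Modules.Hom.comp_app]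
  exact (f.val.app (op U)).hom.map_smul (Coh.resTop X (op U) r) m

theorem smulMod_naturality {M N : X.Modules} (f : M ⟶ N) (a : A) :
    Formal.smulMod A M a ≫ f = f ≫ Formal.smulMod A N a :=
  smulModΓ_naturality f _

theorem killedBy_mono {J J' : Ideal A} (h : J' ≤ J) {M : X.Modules} (hM : Formal.KilledBy J M) :
    Formal.KilledBy J' M := fun a ha => hM a (h ha)

theorem smulFamily_comp_eq_zero {J : Ideal A} {M T : X.Modules} (hT : Formal.KilledBy J T)
    (φ : M ⟶ T) : Formal.smulFamily J M ≫ φ = 0 := by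
  apply Sigma.hom_ext
  intro a
  rw [comp_zero, ← Category.assoc]
  have : Sigma.ι (fun _ : J => M) a ≫ Formal.smulFamily J M = Formal.smulMod A M (a : A) := by
    simp [Formal.smulFamily]
  rw [this, smulMod_naturality, hT _ a.2, comp_zero]

variable {I : Ideal A} {F : ℕᵒᵖ ⥤ X.Modules}

theorem epi_succ (hF : Formal.IsCohFormal I F) (n : ℕ) :
    Epi (F.map (homOfLE (Nat.le_succ n)).op) := by
  obtain ⟨h, hiso⟩ := hF.2.2 n
  have : F.map (homOfLE (Nat.le_succ n)).op = cokernel.π _ ≫ cokernel.desc _ _ h := by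
    rw [cokernel.π_desc]
  rw [this]
  infer_instance

theorem factor_succ (hF : Formal.IsCohFormal I F) (n : ℕ) {T : X.Modules}
    (hT : Formal.KilledBy (I ^ (n + 1)) T) (φ : F.obj (op (n + 1)) ⟶ T) :
    ∃ φ' : F.obj (op n) ⟶ T, φ = F.map (homOfLE (Nat.le_succ n)).op ≫ φ' := by
  obtain ⟨h, hiso⟩ := hF.2.2 n
  refine ⟨inv (cokernel.desc _ _ h) ≫ cokernel.desc _ φ (smulFamily_comp_eq_zero hT φ), ?_⟩
  have e : F.map (homOfLE (Nat.le_succ n)).op ≫ inv (cokernel.desc _ _ h) = cokernel.π _ := by
    rw [IsIso.comp_inv_eq, cokernel.π_desc]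
  rw [← Category.assoc, e, cokernel.π_desc]

theorem epi_le (hF : Formal.IsCohFormal I F) (n j : ℕ) :
    Epi (F.map (homOfLE (Nat.le_add_right n j)).op) := by
  induction j with
  | zero =>
    have : F.map (homOfLE (Nat.le_add_right n 0)).op = 𝟙 _ := F.map_id (op n)
    rw [this]
    infer_instance
  | succ j ih =>
    have : (homOfLE (Nat.le_add_right n (j + 1))).op =
        (homOfLE (Nat.le_succ (n + j))).op ≫ (homOfLE (Nat.le_add_right n j)).op := rfl
    rw [this, CategoryTheory.Functor.map_comp]
    have := epi_succ hF (n + j)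
    exact epi_comp _ _

theorem factor_le (hF : Formal.IsCohFormal I F) (n j : ℕ) {T : X.Modules}
    (hT : Formal.KilledBy (I ^ (n + 1)) T) (φ : F.obj (op (n + j)) ⟶ T) :
    ∃ φ' : F.obj (op n) ⟶ T, φ = F.map (homOfLE (Nat.le_add_right n j)).op ≫ φ' := by
  induction j with
  | zero =>
    refine ⟨φ, ?_⟩
    have : F.map (homOfLE (Nat.le_add_right n 0)).op = 𝟙 _ := F.map_id (op n)
    rw [this, Category.id_comp]
  | succ j ih =>
    have hT' : Formal.KilledBy (I ^ (n + j + 1)) T :=
      killedBy_mono (Ideal.pow_le_pow_right (by omega)) hT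
    obtain ⟨φ₁, h₁⟩ := factor_succ hF (n + j) hT' φ
    obtain ⟨φ₂, h₂⟩ := ih φ₁
    refine ⟨φ₂, ?_⟩
    have : (homOfLE (Nat.le_add_right n (j + 1))).op =
        (homOfLE (Nat.le_succ (n + j))).op ≫ (homOfLE (Nat.le_add_right n j)).op := rfl
    rw [this, CategoryTheory.Functor.map_comp, Category.assoc, ← h₂, ← h₁]

theorem epi_of_le (hF : Formal.IsCohFormal I F) {n k : ℕ} (h : n ≤ k) :
    Epi (F.map (homOfLE h).op) := by
  obtain ⟨j, rfl⟩ := Nat.exists_eq_add_of_le h
  exact epi_le hF n j

theorem factor_of_le (hF : Formal.IsCohFormal I F) {n k : ℕ} (h : n ≤ k) {T : X.Modules}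
    (hT : Formal.KilledBy (I ^ (n + 1)) T) (φ : F.obj (op k) ⟶ T) :
    ∃ φ' : F.obj (op n) ⟶ T, φ = F.map (homOfLE h).op ≫ φ' := by
  obtain ⟨j, rfl⟩ := Nat.exists_eq_add_of_le h
  exact factor_le hF n j hT φ

end helpers

/-- The functor from Coh(X, I O_X) to pro-objects of quasi-coherent modules is fully faithful: for the
ideal sheaf I O_X of an ideal I of a base ring A and with positions shifted by one. Let X be a
Noetherian scheme over Spec A and F, G objects of Coh(X, I O_X). Let m be a monotone self-map of ℕ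
with n ≤ m n, let π be the levelwise map from the re-indexed system n ↦ F_(m n) to F whose
components are the transition maps of F, and let α be any levelwise map from the re-indexed system
to G. Then α factors as π followed by a unique morphism of systems β from F to G. (Existence is
fullness on this representative of a pro-morphism, uniqueness is faithfulness.) -/
theorem result (A : Type u) [CommRing A] (I : Ideal A) (X : Scheme.{u})
    [X.Over (Spec (CommRingCat.of A))] [IsNoetherian X] (F G : ℕᵒᵖ ⥤ X.Modules)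
    (hF : Formal.IsCohFormal I F) (hG : Formal.IsCohFormal I G) (m : ℕ → ℕ) (hm : Monotone m)
    (hle : ∀ n : ℕ, n ≤ m n) (π : DerCA.reindex F hm ⟶ F)
    (hπ : ∀ n : ℕ, π.app (op n) = F.map (homOfLE (hle n)).op) (α : DerCA.reindex F hm ⟶ G) :
    ∃! β : F ⟶ G, π ≫ β = α := by
  have hepi : ∀ n : ℕ, Epi (π.app (op n)) := fun n => by
    rw [hπ n]; exact epi_of_le hF (hle n)
  have hfac : ∀ n : ℕ, ∃ b : F.obj (op n) ⟶ G.obj (op n), α.app (op n) = π.app (op n) ≫ b := by
    intro n
    rw [hπ n]
    exact factor_of_le hF (hle n) (hG.2.1 n) (α.app (op n))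
  choose b hb using hfac
  have hnat : ∀ (n k : ℕ) (h : n ≤ k),
      F.map (homOfLE h).op ≫ b n = b k ≫ G.map (homOfLE h).op := by
    intro n k h
    have := hepi k
    rw [← cancel_epi (π.app (op k))]
    have h1 := π.naturality (homOfLE h).op
    have h2 := α.naturality (homOfLE h).op
    rw [← Category.assoc, ← h1, Category.assoc, ← hb n, h2, hb k, Category.assoc]
  refine ⟨{ app := fun n => b n.unop, naturality := ?_ }, ?_, ?_⟩
  · intro x y f
    have := hnat y.unop x.unop (leOfHom f.unop)
    exact this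
  · apply NatTrans.ext
    funext n
    exact (hb n.unop).symm
  · intro β' hβ'
    apply NatTrans.ext
    funext n
    change β'.app n = b n.unop
    have := hepi n.unop
    rw [← cancel_epi (π.app (op n.unop))]
    have := congrArg (fun t => t.app (op n.unop)) hβ'
    simp only [NatTrans.comp_app] at this
    rw [this, hb n.unop]

end Groth.Agent.S9530
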