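import Groth.Statements.S9531
-- import your own Groth.Agent.* helpers here
import Mathlib
import Groth.Agent.S9552
import Groth.Agent.Lib.Helper12.AZ2

set_option autoImplicit false
universe u
open CategoryTheory CategoryTheory.Limits AlgebraicGeometry Opposite
open Algz

namespace Groth.Agent.S9531

/-- Let A be a Noetherian ring, I ⊆ 𝔞 ideals, U = Spec A ∖ V(𝔞), and take (F_n) in Coh(U, I O_U).
Suppose (F_n) extends canonically to Spec A; then (F_n) extends to Spec A: there is an object of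
Coh(Spec A, I O) whose restriction to U is isomorphic to (F_n). (Spec A is regarded over itself
through the identity.) -/
theorem result (A : Type u) [CommRing A] [IsNoetherianRing A] (I 𝔞 : Ideal A) (hI𝔞 : I ≤ 𝔞)
    (G : ℕᵒᵖ ⥤ (↑(LocCoh.puncturedOpen A 𝔞) : Scheme.{u}).Modules) (hG : Formal.IsCohFormal I G)
    (h : Algz.CanonicallyExtends A I (LocCoh.puncturedOpen A 𝔞) G) :
    @Algz.Extends A _ (Spec (CommRingCat.of A)) ⟨𝟙 (Spec (CommRingCat.of A))⟩ I (LocCoh.puncturedOpen A 𝔞) G := by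
  obtain ⟨G', hG', hpro⟩ := h
  haveI : TopologicalSpace.NoetherianSpace (Spec (CommRingCat.of A) : Scheme.{u}) :=
    inferInstanceAs (TopologicalSpace.NoetherianSpace (PrimeSpectrum A))
  haveI : CompactSpace (↑(LocCoh.puncturedOpen A 𝔞) : Scheme.{u}) :=
    isCompact_iff_compactSpace.mp (TopologicalSpace.NoetherianSpace.isCompact
      ((LocCoh.puncturedOpen A 𝔞 : (Spec (CommRingCat.of A) : Scheme.{u}).Opens) :
        Set (Spec (CommRingCat.of A) : Scheme.{u})))
  haveI : IsNoetherian (↑(LocCoh.puncturedOpen A 𝔞) : Scheme.{u}) := { }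
  haveI : QuasiCompact (LocCoh.puncturedOpen A 𝔞).ι := inferInstance
  obtain ⟨θ⟩ := Groth.Agent.Lib.Helper12.H12AZ.nonempty_sectSys_restrict_iso A
    (LocCoh.puncturedOpen A 𝔞) G (fun j => (hG.1 j.unop).1)
  have hpro' := Groth.Agent.Lib.Helper12.H12AZ.isProIsomorphic_of_iso_of_functor
    (Scheme.Modules.restrictFunctor (LocCoh.puncturedOpen A 𝔞).ι) θ hpro
  have hcf : Formal.IsCohFormal I (G' ⋙ Scheme.Modules.restrictFunctor (LocCoh.puncturedOpen A 𝔞).ι) :=
    @Groth.Agent.Lib.Helper12.H12AZ.isCohFormal_restrict A _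
      (Spec (CommRingCat.of A)) (↑(LocCoh.puncturedOpen A 𝔞) : Scheme.{u})
      ⟨𝟙 (Spec (CommRingCat.of A))⟩ inferInstance (LocCoh.puncturedOpen A 𝔞).ι inferInstance
      (Category.comp_id _) I G' hG'
  obtain ⟨ε⟩ := Groth.Agent.S9552.result A I (↑(LocCoh.puncturedOpen A 𝔞) : Scheme.{u}) G
    (G' ⋙ Scheme.Modules.restrictFunctor (LocCoh.puncturedOpen A 𝔞).ι) hG hcf hpro'
  exact ⟨G', hG', ⟨ε.symm⟩⟩

end Groth.Agent.S9531
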