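import Groth.Statements.S9532
-- import your own Groth.Agent.* helpers here
import Mathlib
import Groth.Agent.Lib.Helper12.AZ5
import Groth.Agent.Lib.Helper29.QCohAffine

set_option autoImplicit false
universe u
open CategoryTheory CategoryTheory.Limits AlgebraicGeometry Opposite
open Algz

namespace Groth.Agent.S9532

/-- Let A be a Noetherian ring, I ⊆ 𝔞 ideals, U = Spec A ∖ V(𝔞), and let (F_n) belong to Coh(U, I O_U).
Suppose (F_n) admits a canonical extension to Spec A; then the inverse system of A-modules n ↦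
H^0(U, F_n) satisfies the Mittag-Leffler condition. -/
theorem result (A : Type u) [CommRing A] [IsNoetherianRing A] (I 𝔞 : Ideal A) (hI𝔞 : I ≤ 𝔞)
    (G : ℕᵒᵖ ⥤ (↑(LocCoh.puncturedOpen A 𝔞) : Scheme.{u}).Modules) (hG : Formal.IsCohFormal I G)
    (h : Algz.CanonicallyExtends A I (LocCoh.puncturedOpen A 𝔞) G) :
    ARSys.IsML (Algz.sectMod A (LocCoh.puncturedOpen A 𝔞) G) := by
  obtain ⟨G', hG', hpro⟩ := h
  have θ : Algz.sectSys A (LocCoh.puncturedOpen A 𝔞) G ⋙
      moduleSpecΓFunctor (R := CommRingCat.of A) ≅ Algz.sectMod A (LocCoh.puncturedOpen A 𝔞) G :=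
    CategoryTheory.Functor.associator _ _ _ ≪≫
      CategoryTheory.Functor.isoWhiskerLeft (Algz.sectMod A (LocCoh.puncturedOpen A 𝔞) G)
        (tilde.toTildeΓNatIso (R := CommRingCat.of A)).symm ≪≫
      CategoryTheory.Functor.rightUnitor _
  have hpro' := Groth.Agent.Lib.Helper12.H12AZ.isProIsomorphic_of_iso_of_functor
    (moduleSpecΓFunctor (R := CommRingCat.of A)) θ hpro
  refine Groth.Agent.Lib.Helper12.H12AZ.isML_of_proIso_strict _ _ hpro' ?_
  intro n k hnk
  have hq := @Groth.Agent.Lib.Lead.FormalSys.isModQuot_tr A _ (Spec (CommRingCat.of A))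
      ⟨𝟙 (Spec (CommRingCat.of A))⟩ I G' hG' k n hnk
  obtain ⟨hepi, -, -⟩ := hq
  haveI : (G'.obj (op k)).IsQuasicoherent := (hG'.1 k).1
  haveI : (G'.obj (op n)).IsQuasicoherent := (hG'.1 n).1
  intro y
  obtain ⟨x, hx⟩ := Groth.Agent.Lib.Helper29.QCoh.app_surjective_of_epi
    (G'.map (homOfLE hnk).op) (isAffineOpen_top (Spec (CommRingCat.of A))) y
  exact ⟨x, hx⟩

end Groth.Agent.S9532
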