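import Groth.Statements.S9533
-- import your own Groth.Agent.* helpers here
import Mathlib
import Groth.Agent.Lib.Helper12.AZ6
import Groth.Agent.Lib.Helper12.AZ7
import Groth.Agent.Lib.Helper29.QCohAffine

set_option autoImplicit false
universe u
open CategoryTheory CategoryTheory.Limits AlgebraicGeometry Opposite
open Algz

namespace Groth.Agent.S9533

/-- Let A be a Noetherian ring, I ⊆ 𝔞 ideals, U = Spec A ∖ V(𝔞), (F_n) an object of Coh(U, I O_U), and M
= lim_n H^0(U, F_n). If (F_n) canonically extends to Spec A, then the limit topology of M agrees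
with the I-adic one: for every k some kernel of M → H^0(U, F_n) lies inside I^k M. (Each such kernel
contains I^(n+1) M automatically. The other part of (4), that M is finitely generated over the
completion of A with respect to I, is not stated here.) -/
theorem result (A : Type u) [CommRing A] [IsNoetherianRing A] (I 𝔞 : Ideal A) (hI𝔞 : I ≤ 𝔞)
    (G : ℕᵒᵖ ⥤ (↑(LocCoh.puncturedOpen A 𝔞) : Scheme.{u}).Modules) (hG : Formal.IsCohFormal I G)
    (h : Algz.CanonicallyExtends A I (LocCoh.puncturedOpen A 𝔞) G) (k : ℕ) :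
    ∃ n : ℕ, LinearMap.ker (limit.π (Algz.sectMod A (LocCoh.puncturedOpen A 𝔞) G) (op n)).hom ≤
      I ^ k • (⊤ : Submodule A ↑(limit (Algz.sectMod A (LocCoh.puncturedOpen A 𝔞) G))) := by
  obtain ⟨G', hG', hpro⟩ := h
  have θ : Algz.sectSys A (LocCoh.puncturedOpen A 𝔞) G ⋙
      moduleSpecΓFunctor (R := CommRingCat.of A) ≅ Algz.sectMod A (LocCoh.puncturedOpen A 𝔞) G :=
    CategoryTheory.Functor.associator _ _ _ ≪≫
      CategoryTheory.Functor.isoWhiskerLeft (Algz.sectMod A (LocCoh.puncturedOpen A 𝔞) G)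
        (tilde.toTildeΓNatIso (R := CommRingCat.of A)).symm ≪≫
      CategoryTheory.Functor.rightUnitor _
  have hpro' := Groth.Agent.Lib.Helper12.H12AZ.isProIsomorphic_of_iso_of_functor
    (moduleSpecΓFunctor (R := CommRingCat.of A)) θ hpro
  refine Groth.Agent.Lib.Helper12.H12AZ.ker_le_of_proIso _ _ I (IsNoetherian.noetherian I) hpro'
    ?_ ?_ ?_ k
  · intro n k hnk
    have hq := @Groth.Agent.Lib.Lead.FormalSys.isModQuot_tr A _ (Spec (CommRingCat.of A))
      ⟨𝟙 (Spec (CommRingCat.of A))⟩ I G' hG' k n hnk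
    obtain ⟨hepi, -, -⟩ := hq
    haveI : (G'.obj (op k)).IsQuasicoherent := (hG'.1 k).1
    haveI : (G'.obj (op n)).IsQuasicoherent := (hG'.1 n).1
    intro y
    obtain ⟨x, hx⟩ := Groth.Agent.Lib.Helper29.QCoh.app_surjective_of_epi
      (G'.map (homOfLE hnk).op) (isAffineOpen_top (Spec (CommRingCat.of A))) y
    exact ⟨x, hx⟩
  · intro j a ha y
    exact Groth.Agent.Lib.Helper12.H12AZ.smul_eq_zero_of_killedBy A (I ^ (j + 1))
      (G'.obj (op j)) (hG'.2.1 j) a ha y
  · intro j
    have hq := @Groth.Agent.Lib.Lead.FormalSys.isModQuot_tr A _ (Spec (CommRingCat.of A))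
      ⟨𝟙 (Spec (CommRingCat.of A))⟩ I G' hG' (j + 1) j (Nat.le_succ j)
    haveI : (G'.obj (op (j + 1))).IsQuasicoherent := (hG'.1 (j + 1)).1
    exact Groth.Agent.Lib.Helper12.H12AZ.ker_le_of_isModQuot A (I ^ (j + 1))
      (G'.map (homOfLE (Nat.le_succ j)).op) hq

end Groth.Agent.S9533
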