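import Groth.Statements.S9535
-- import your own Groth.Agent.* helpers here
import Mathlib
import Groth.Agent.Lib.Helper12.AZ12

set_option autoImplicit false
universe u
open CategoryTheory CategoryTheory.Limits AlgebraicGeometry Opposite
open Algz

namespace Groth.Agent.S9535

/-- (6) ⇒ (2): Let A be a Noetherian ring complete for the I-adic topology, I ⊆ 𝔞 ideals, U = Spec A ∖
V(𝔞) and (F_n) an object of Coh(U, I O_U). If (F_n) extends to Spec A, then (F_n) is isomorphic to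
the completion of a coherent O_U-module. -/
theorem result (A : Type u) [CommRing A] [IsNoetherianRing A] (I 𝔞 : Ideal A) (hI𝔞 : I ≤ 𝔞)
    (G : ℕᵒᵖ ⥤ (↑(LocCoh.puncturedOpen A 𝔞) : Scheme.{u}).Modules) (hG : Formal.IsCohFormal I G) [IsAdicComplete I A]
    (h : @Algz.Extends A _ (Spec (CommRingCat.of A)) ⟨𝟙 (Spec (CommRingCat.of A))⟩ I (LocCoh.puncturedOpen A 𝔞) G) :
    ∃ F : (↑(LocCoh.puncturedOpen A 𝔞) : Scheme.{u}).Modules, Coh.IsCoh F ∧ Nonempty (Formal.completion I F ≅ G) := by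
  obtain ⟨G', hG', ⟨θ⟩⟩ := h
  obtain ⟨F', hF', ⟨e'⟩⟩ := Groth.Agent.Lib.Helper12.H12AZ.exists_coh_completion_iso A I G' hG'
  obtain ⟨e1⟩ := @Groth.Agent.Lib.Helper12.H12AZ.nonempty_completion_restrict_iso A _
    (Spec (CommRingCat.of A)) (↑(LocCoh.puncturedOpen A 𝔞) : Scheme.{u})
    ⟨𝟙 (Spec (CommRingCat.of A))⟩ inferInstance (LocCoh.puncturedOpen A 𝔞).ι inferInstance
    (Category.comp_id _) I F'
  exact ⟨(Scheme.Modules.restrictFunctor (LocCoh.puncturedOpen A 𝔞).ι).obj F',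
    Groth.Agent.Lib.Helper12.H12AZ.isCoh_restrictFunctor (LocCoh.puncturedOpen A 𝔞).ι F' hF',
    ⟨e1 ≪≫ CategoryTheory.Functor.isoWhiskerRight e'
      (Scheme.Modules.restrictFunctor (LocCoh.puncturedOpen A 𝔞).ι) ≪≫ θ⟩⟩

end Groth.Agent.S9535
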