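import Groth.Statements.S9536
-- import your own Groth.Agent.* helpers here
import Mathlib
import Groth.Agent.Lib.Helper3.ExtendLN2
import Groth.Agent.Lib.Helper12.AZ1

set_option autoImplicit false
universe u
open CategoryTheory CategoryTheory.Limits AlgebraicGeometry Opposite
open Algz

namespace Groth.Agent.S9536

/-- (2) ⇒ (6): Let A be a Noetherian ring, I ⊆ 𝔞 ideals, U = Spec A ∖ V(𝔞) and (F_n) an object of Coh(U,
I O_U). If (F_n) is isomorphic to the completion of a coherent O_U-module, then (F_n) extends to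
Spec A. -/
theorem result (A : Type u) [CommRing A] [IsNoetherianRing A] (I 𝔞 : Ideal A) (hI𝔞 : I ≤ 𝔞)
    (G : ℕᵒᵖ ⥤ (↑(LocCoh.puncturedOpen A 𝔞) : Scheme.{u}).Modules) (hG : Formal.IsCohFormal I G)
    (F : (↑(LocCoh.puncturedOpen A 𝔞) : Scheme.{u}).Modules) (hF : Coh.IsCoh F) (e : Formal.completion I F ≅ G) :
    @Algz.Extends A _ (Spec (CommRingCat.of A)) ⟨𝟙 (Spec (CommRingCat.of A))⟩ I (LocCoh.puncturedOpen A 𝔞) G := by
  have hX : ∀ x : (Spec (CommRingCat.of A) : Scheme.{u}),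
      ∃ U : (Spec (CommRingCat.of A) : Scheme.{u}).Opens, x ∈ U ∧
        TopologicalSpace.NoetherianSpace (U : Set (Spec (CommRingCat.of A) : Scheme.{u})) := by
    intro x
    haveI : TopologicalSpace.NoetherianSpace (Spec (CommRingCat.of A) : Scheme.{u}) :=
      inferInstanceAs (TopologicalSpace.NoetherianSpace (PrimeSpectrum A))
    exact ⟨⊤, trivial, inferInstance⟩
  haveI : F.IsQuasicoherent := hF.1
  haveI : F.IsFiniteType := hF.2
  obtain ⟨F', hq, hft, ⟨ε⟩⟩ :=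
    Groth.Agent.Lib.Helper3.exists_finiteType_extension_module_of_locallyNoetherian hX
      (LocCoh.puncturedOpen A 𝔞) F
  obtain ⟨e1⟩ := @Groth.Agent.Lib.Helper12.H12AZ.nonempty_completion_restrict_iso A _
    (Spec (CommRingCat.of A)) (↑(LocCoh.puncturedOpen A 𝔞) : Scheme.{u})
    ⟨𝟙 (Spec (CommRingCat.of A))⟩ inferInstance (LocCoh.puncturedOpen A 𝔞).ι inferInstance
    (Category.comp_id _) I F'
  obtain ⟨e2⟩ := Groth.Agent.Lib.Helper12.H12AZ.nonempty_completion_iso_of_iso I ε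
  exact ⟨@Formal.completion A _ (Spec (CommRingCat.of A)) ⟨𝟙 (Spec (CommRingCat.of A))⟩ I F',
    @Groth.Agent.Lib.Helper12.H12AZ.isCohFormal_completion A _ (Spec (CommRingCat.of A))
      ⟨𝟙 (Spec (CommRingCat.of A))⟩ I F' ⟨hq, hft⟩,
    ⟨e1.symm ≪≫ e2 ≪≫ e⟩⟩

end Groth.Agent.S9536
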