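import Groth.Statements.S9549
-- import your own Groth.Agent.* helpers here
import Groth.Agent.Lib.Helper29.PicUFD1
import Groth.Agent.Lib.Helper20.RegularUFD

set_option autoImplicit false
universe u
open CategoryTheory AlgebraicGeometry
open ParaF

namespace Groth.Agent.S9549

/-- For a regular local ring A the Picard group of the punctured spectrum is trivial: every invertible
module on Spec A ∖ {𝔪} is isomorphic to the structure sheaf. -/
theorem result (A : Type u) [CommRing A] [IsRegularLocalRing A] :
    ParaF.PicTrivial (↑(FEt.puncturedSpec A) : Scheme.{u}) := by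
  obtain ⟨hdom, hufd⟩ := Groth.Agent.Lib.Helper20.RegularUFD.ufd_of_isRegularLocalRing A
  have hN : IsNoetherianRing A := inferInstance
  exact Groth.Agent.Lib.Helper29.PicUFD.picTrivial_open_spec A (FEt.puncturedSpec A)

end Groth.Agent.S9549
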