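import Groth.Statements.S9551
-- import your own Groth.Agent.* helpers here
import Mathlib
import Groth.Agent.Lib.Helper12.AZ4

set_option autoImplicit false
universe u
open CategoryTheory CategoryTheory.Limits AlgebraicGeometry Opposite
open Algz

namespace Groth.Agent.S9551

/-- Let A be a Noetherian ring, I ⊆ 𝔞 ideals, U = Spec A ∖ V(𝔞) with inclusion j, (F_n) an object of
Coh(U, I O_U) and M = lim_n H^0(U, F_n). If the system H^0(U, F_n) is Mittag-Leffler, then for every
n the canonical map from M~|_U to F_n, adjoint (under the tilde and restriction adjunctions) to the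
projection M → H^0(U, F_n) = Γ(Spec A, j_*F_n), is an epimorphism. (The source states surjectivity
of (M/I^nM)~|_U → F_n; the map from M~|_U factors through it after the epimorphism M~ → (M/I^nM)~,
so the two surjectivity statements are equivalent.) -/
theorem result (A : Type u) [CommRing A] [IsNoetherianRing A] (I 𝔞 : Ideal A) (hI𝔞 : I ≤ 𝔞)
    (G : ℕᵒᵖ ⥤ (↑(LocCoh.puncturedOpen A 𝔞) : Scheme.{u}).Modules) (hG : Formal.IsCohFormal I G)
    (ha : ARSys.IsML (Algz.sectMod A (LocCoh.puncturedOpen A 𝔞) G)) (n : ℕ) :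
    Epi (((Scheme.Modules.restrictAdjunction (LocCoh.puncturedOpen A 𝔞).ι).homEquiv _ (G.obj (op n))).symm
      (((tilde.adjunction (R := CommRingCat.of A)).homEquiv (limit (Algz.sectMod A (LocCoh.puncturedOpen A 𝔞) G))
        ((Scheme.Modules.pushforward (LocCoh.puncturedOpen A 𝔞).ι).obj (G.obj (op n)))).symm
          (limit.π (Algz.sectMod A (LocCoh.puncturedOpen A 𝔞) G) (op n)))) := by
  haveI : TopologicalSpace.NoetherianSpace (Spec (CommRingCat.of A) : Scheme.{u}) :=
    inferInstanceAs (TopologicalSpace.NoetherianSpace (PrimeSpectrum A))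
  haveI : CompactSpace (↑(LocCoh.puncturedOpen A 𝔞) : Scheme.{u}) :=
    isCompact_iff_compactSpace.mp (TopologicalSpace.NoetherianSpace.isCompact
      ((LocCoh.puncturedOpen A 𝔞 : (Spec (CommRingCat.of A) : Scheme.{u}).Opens) :
        Set (Spec (CommRingCat.of A) : Scheme.{u})))
  haveI : IsNoetherian (↑(LocCoh.puncturedOpen A 𝔞) : Scheme.{u}) := { }
  haveI : QuasiCompact (LocCoh.puncturedOpen A 𝔞).ι := inferInstance
  exact Groth.Agent.Lib.Helper12.H12AZ.epi_of_isML A (LocCoh.puncturedOpen A 𝔞) G
    (fun j => (hG.1 j.unop).1)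
    (fun n m h => (Groth.Agent.Lib.Lead.FormalSys.isModQuot_tr hG m n h).epi) ha n

end Groth.Agent.S9551
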